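import Cfsg.Agent.Helper28.FicC0

/-!
# The Fi₂₃ presentation, cosets of the subgroup generated by a, …, i: the action of the generator f (helper28; generated)
-/

set_option autoImplicit false
set_option maxRecDepth 100000
set_option linter.unusedSimpArgs false
set_option linter.constructorNameAsVariable false

noncomputable section

namespace Cfsg.Agent.Helper28.FicA

open Cfsg.Spor Cfsg.Spor.Fi23 Cfsg.Agent.Helper28.CosetTable

theorem ce_f_0 : ∀ r, r < 64 → sm gf (Qf (0 + r)) = Qf (tab Gen.f (0 + r)) :=
  edges_tab (sm gf) Qf (tab Gen.f) 0 [(0, 0), (1, 1), (2, 3), (3, 2), (4, 4), (5, 5), (6, 6), (7, 7), (8, 8), (9, 9), (10, 10), (11, 11), (12, 12), (13, 13), (14, 14), (15, 15), (16, 16), (17, 17), (18, 25), (19, 19), (20, 20), (21, 21), (22, 22), (23, 33), (24, 24), (25, 18), (26, 37), (27, 27), (28, 28), (29, 42), (30, 30), (31, 46), (32, 32), (33, 23), (34, 50), (35, 35), (36, 36), (37, 26), (38, 54), (39, 39), (40, 59), (41, 41), (42, 29), (43, 63), (44, 44), (45, 65), (46, 31), (47, 69), (48, 48), (49, 49), (50, 34),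 (51, 74), (52, 52), (53, 53), (54, 38), (55, 78), (56, 81), (57, 57), (58, 84), (59, 40), (60, 88), (61, 61), (62, 62), (63, 43)]
    ⟨e3 q0 L5 q0, e3 q1 L16 q1, e3 q2 L29 q3, e3 q3 (flp_f L29) q2, e3 q4 L48 q4, e3 q5 L53 q5, e3 q6 L62 q6, e3 q7 L72 q7, e3 q8 L80 q8, e3 q9 L91 q9, e3 q10 L100 q10, e3 q11 L109 q11, e3 q12 L120 q12, e3 q13 L126 q13, e3 q14 L137 q14, e3 q15 L148 q15, e3 q16 L155 q16, e3 q17 L165 q17, e3 q18 L231 q25, e3 q19 L183 q19, e3 q20 L191 q20, e3 q21 L202 q21, e3 q22 L208 q22, e3 q23 L302 q33, e3 q24 L228 q24, e3 q25 (flp_f L231) q18, e3 q26 (flp_f L342) q37, e3 q27 L252 q27, e3 q28 L261 q28, e3 q29 L382 q42, e3 q30 L282 q30, e3 q31 L418 q46, e3 q32 L299 q32, e3 q33 (flp_f L302) q23, e3 q34 (flp_f L458) q50, e3 q35 L323 q35, e3 q36 L335 q36, e3 q37 L342 q26, e3 q38 (flp_f L493) q54, e3 q39 L357 q39, e3 q40 L532 q59, e3 q41 L379 q41, e3 q42 (flp_f L382) q29, e3 q43 (flp_f L577) q63, e3 q44 L406 q44, e3 q45 L590 q65, e3 q46 (flp_f L418) q31, e3 q47 (flp_f L628) q69, e3 q48 L440 q48, e3 q49 L451 q49, e3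 q50 L458 q34, e3 q51 (flp_f L673) q74, e3 q52 L476 q52, e3 q53 L485 q53, e3 q54 L493 q38, e3 q55 (flp_f L708) q78, e3 q56 L730 q81, e3 q57 L521 q57, e3 q58 L759 q84, e3 q59 (flp_f L532) q40, e3 q60 (flp_f L802) q88, e3 q61 L557 q61, e3 q62 L569 q62, e3 q63 L577 q43, trivial⟩ (by decide +kernel)

theorem ce_f_1 : ∀ r, r < 64 → sm gf (Qf (64 + r)) = Qf (tab Gen.f (64 + r)) :=
  edges_tab (sm gf) Qf (tab Gen.f) 64 [(64, 93), (65, 45), (66, 97), (67, 98), (68, 68), (69, 47), (70, 103), (71, 71), (72, 72), (73, 73), (74, 51), (75, 108), (76, 76), (77, 77), (78, 55), (79, 112), (80, 116), (81, 56), (82, 120), (83, 83), (84, 58), (85, 125), (86, 126), (87, 87), (88, 60), (89, 131), (90, 90), (91, 91), (92, 92), (93, 64), (94, 136), (95, 95), (96, 96), (97, 66), (98, 67), (99, 144), (100, 145), (101, 101), (102, 102), (103, 70), (104, 150), (105, 153), (106, 106), (107, 107), (108, 75), (109, 156), (110, 110), (111, 111), (112, 79), (113, 113), (114, 162), (115, 165), (116, 80), (117, 170), (118, 171), (119, 119), (120, 82), (121,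 176), (122, 122), (123, 123), (124, 124), (125, 85), (126, 86), (127, 186)]
    ⟨e3 q64 (flp_f L852) q93, e3 q65 (flp_f L590) q45, e3 q66 (flp_f L884) q97, e3 q67 (flp_f L894) q98, e3 q68 L621 q68, e3 q69 L628 q47, e3 q70 (flp_f L936) q103, e3 q71 L644 q71, e3 q72 L656 q72, e3 q73 L665 q73, e3 q74 L673 q51, e3 q75 (flp_f L977) q108, e3 q76 L692 q76, e3 q77 L701 q77, e3 q78 L708 q55, e3 q79 (flp_f L1010) q112, e3 q80 L1040 q116, e3 q81 (flp_f L730) q56, e3 q82 (flp_f L1083) q120, e3 q83 L755 q83, e3 q84 (flp_f L759) q58, e3 q85 (flp_f L1128) q125, e3 q86 (flp_f L1139) q126, e3 q87 L794 q87, e3 q88 L802 q60, e3 q89 (flp_f L1186) q131, e3 q90 L820 q90, e3 q91 L833 q91, e3 q92 L843 q92, e3 q93 L852 q64, e3 q94 (flp_f L1232) q136, e3 q95 L872 q95, e3 q96 L879 q96, e3 q97 L884 q66, e3 q98 L894 q67, e3 q99 (flp_f L1300) q144, e3 q100 (flp_f L1307) q145, e3 q101 L918 q101, e3 q102 L927 q102, e3 q103 L936 q70, e3 q104 (flp_f L1349) q150, e3 q105 L1368 q153, e3 q106 L960 q106, e3 q107 L969 q107, e3 q108 L977 q75, e3 q109 (flp_f L1397)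 q156, e3 q110 L994 q110, e3 q111 L1002 q111, e3 q112 L1010 q79, e3 q113 L1023 q113, e3 q114 (flp_f L1449) q162, e3 q115 L1472 q165, e3 q116 (flp_f L1040) q80, e3 q117 (flp_f L1520) q170, e3 q118 (flp_f L1531) q171, e3 q119 L1075 q119, e3 q120 L1083 q82, e3 q121 (flp_f L1578) q176, e3 q122 L1102 q122, e3 q123 L1114 q123, e3 q124 L1122 q124, e3 q125 L1128 q85, e3 q126 L1139 q86, e3 q127 (flp_f L1670) q186, trivial⟩ (by decide +kernel)

theorem ce_f_2 : ∀ r, r < 64 → sm gf (Qf (128 + r)) = Qf (tab Gen.f (128 + r)) :=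
  edges_tab (sm gf) Qf (tab Gen.f) 128 [(128, 187), (129, 129), (130, 130), (131, 89), (132, 192), (133, 195), (134, 134), (135, 135), (136, 94), (137, 198), (138, 201), (139, 139), (140, 140), (141, 141), (142, 142), (143, 143), (144, 99), (145, 100), (146, 212), (147, 213), (148, 148), (149, 149), (150, 104), (151, 219), (152, 223), (153, 105), (154, 154), (155, 155), (156, 109), (157, 157), (158, 228), (159, 159), (160, 160), (161, 235), (162, 114), (163, 163), (164, 236), (165, 115), (166, 241), (167, 242), (168, 168), (169, 169), (170, 117), (171, 118), (172, 252), (173, 253), (174, 174), (175, 175), (176, 121), (177, 258), (178, 178), (179, 262), (180, 263), (181, 181), (182, 182), (183, 183), (184, 184), (185, 185), (186, 127), (187, 128), (188, 274), (189, 275), (190, 190), (191, 191)]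
    ⟨e3 q128 (flp_f L1678) q187, e3 q129 L1166 q129, e3 q130 L1176 q130, e3 q131 L1186 q89, e3 q132 (flp_f L1725) q192, e3 q133 L1747 q195, e3 q134 L1213 q134, e3 q135 L1223 q135, e3 q136 L1232 q94, e3 q137 (flp_f L1781) q198, e3 q138 L1804 q201, e3 q139 L1259 q139, e3 q140 L1268 q140, e3 q141 L1276 q141, e3 q142 L1282 q142, e3 q143 L1292 q143, e3 q144 L1300 q99, e3 q145 L1307 q100, e3 q146 (flp_f L1897) q212, e3 q147 (flp_f L1905) q213, e3 q148 L1332 q148, e3 q149 L1342 q149, e3 q150 L1349 q104, e3 q151 (flp_f L1953) q219, e3 q152 L1981 q223, e3 q153 (flp_f L1368) q105, e3 q154 L1381 q154, e3 q155 L1390 q155, e3 q156 L1397 q109, e3 q157 L1410 q157, e3 q158 (flp_f L2024) q228, e3 q159 L1423 q159, e3 q160 L1432 q160, e3 q161 L2084 q235, e3 q162 L1449 q114, e3 q163 L1462 q163, e3 q164 (flp_f L2095) q236, e3 q165 (flp_f L1472) q115, e3 q166 (flp_f L2139) q241, e3 q167 (flp_f L2149) q242, e3 q168 L1506 q168, e3 q169 L1514 q169, e3 q170 L1520 q117, e3 q171 L1531 q118, e3 q172 (flp_f L2239) q252, e3 q173 (flp_f L2247) q253, e3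 q174 L1558 q174, e3 q175 L1568 q175, e3 q176 L1578 q121, e3 q177 (flp_f L2296) q258, e3 q178 L1593 q178, e3 q179 L2327 q262, e3 q180 L2336 q263, e3 q181 L1624 q181, e3 q182 L1634 q182, e3 q183 L1643 q183, e3 q184 L1650 q184, e3 q185 L1661 q185, e3 q186 L1670 q127, e3 q187 L1678 q128, e3 q188 (flp_f L2441) q274, e3 q189 (flp_f L2450) q275, e3 q190 L1706 q190, e3 q191 L1717 q191, trivial⟩ (by decide +kernel)

theorem ce_f_3 : ∀ r, r < 64 → sm gf (Qf (192 + r)) = Qf (tab Gen.f (192 + r)) :=
  edges_tab (sm gf) Qf (tab Gen.f) 192 [(192, 132), (193, 281), (194, 285), (195, 133), (196, 196), (197, 197), (198, 137), (199, 199), (200, 290), (201, 138), (202, 293), (203, 294), (204, 295), (205, 205), (206, 206), (207, 207), (208, 208), (209, 209), (210, 210), (211, 211), (212, 146), (213, 147), (214, 309), (215, 310), (216, 316), (217, 217), (218, 218), (219, 151), (220, 322), (221, 320), (222, 325), (223, 152), (224, 224), (225, 225), (226, 226), (227, 332), (228, 158), (229, 229), (230, 333), (231, 231), (232, 338), (233, 233),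 (234, 342), (235, 161), (236, 164), (237, 237), (238, 238), (239, 239), (240, 240), (241, 166), (242, 167), (243, 353), (244, 354), (245, 355), (246, 360), (247, 247), (248, 248), (249, 249), (250, 250), (251, 251), (252, 172), (253, 173), (254, 371), (255, 372)]
    ⟨e3 q192 L1725 q132, e3 q193 (flp_f L2506) q281, e3 q194 L2536 q285, e3 q195 (flp_f L1747) q133, e3 q196 L1762 q196, e3 q197 L1772 q197, e3 q198 L1781 q137, e3 q199 L1795 q199, e3 q200 (flp_f L2585) q290, e3 q201 (flp_f L1804) q138, e3 q202 (flp_f L2617) q293, e3 q203 (flp_f L2624) q294, e3 q204 (flp_f L2633) q295, e3 q205 L1839 q205, e3 q206 L1849 q206, e3 q207 L1857 q207, e3 q208 L1863 q208, e3 q209 L1874 q209, e3 q210 L1883 q210, e3 q211 L1890 q211, e3 q212 L1897 q146, e3 q213 L1905 q147, e3 q214 (flp_f L2746) q309, e3 q215 (flp_f L2754) q310, e3 q216 L2799 q316, e3 q217 L1939 q217, e3 q218 L1947 q218, e3 q219 L1953 q151, e3 q220 L2844 q322, e3 q221 (flp_f L2833) q320, e3 q222 L2869 q325, e3 q223 (flp_f L1981) q152, e3 q224 L1995 q224, e3 q225 L2000 q225,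 e3 q226 L2008 q226, e3 q227 L2927 q332, e3 q228 L2024 q158, e3 q229 L2038 q229, e3 q230 (flp_f L2940) q333, e3 q231 L2051 q231, e3 q232 L2980 q338, e3 q233 L2070 q233, e3 q234 L3014 q342, e3 q235 (flp_f L2084) q161, e3 q236 L2095 q164, e3 q237 L2108 q237, e3 q238 L2112 q238, e3 q239 L2124 q239, e3 q240 L2132 q240, e3 q241 L2139 q166, e3 q242 L2149 q167, e3 q243 (flp_f L3118) q353, e3 q244 (flp_f L3130) q354, e3 q245 (flp_f L3139) q355, e3 q246 L3179 q360, e3 q247 L2193 q247, e3 q248 L2203 q248, e3 q249 L2212 q249, e3 q250 L2219 q250, e3 q251 L2230 q251, e3 q252 L2239 q172, e3 q253 L2247 q173, e3 q254 (flp_f L3286) q371, e3 q255 (flp_f L3296) q372, trivial⟩ (by decide +kernel)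

theorem ce_f_4 : ∀ r, r < 64 → sm gf (Qf (256 + r)) = Qf (tab Gen.f (256 + r)) :=
  edges_tab (sm gf) Qf (tab Gen.f) 256 [(256, 256), (257, 257), (258, 177), (259, 378), (260, 382), (261, 384), (262, 179), (263, 180), (264, 386), (265, 387), (266, 388), (267, 267), (268, 268), (269, 269), (270, 270), (271, 271), (272, 272), (273, 273), (274, 188), (275, 189), (276, 402), (277, 403), (278, 409), (279, 279), (280, 280), (281, 193), (282, 415), (283, 413), (284, 418), (285, 194), (286, 286), (287, 287), (288, 288), (289, 425), (290, 200), (291, 291), (292, 426), (293, 202), (294, 203), (295, 204), (296, 430), (297, 431), (298, 432), (299, 433), (300, 434), (301, 301), (302, 302), (303, 303), (304, 304), (305, 305), (306, 306), (307, 307), (308, 308), (309, 214), (310, 215), (311, 457), (312, 453), (313, 460), (314, 455), (315, 464), (316, 216), (317, 317), (318, 318), (319, 470)]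
    ⟨e3 q256 L2276 q256, e3 q257 L2287 q257, e3 q258 L2296 q177, e3 q259 (flp_f L3352) q378, e3 q260 L3381 q382, e3 q261 L3398 q384, e3 q262 (flp_f L2327) q179, e3 q263 (flp_f L2336) q180, e3 q264 (flp_f L3424) q386, e3 q265 (flp_f L3432) q387, e3 q266 (flp_f L3442) q388, e3 q267 L2376 q267, e3 q268 L2387 q268, e3 q269 L2396 q269, e3 q270 L2403 q270, e3 q271 L2415 q271, e3 q272 L2425 q272, e3 q273 L2433 q273, e3 q274 L2441 q188, e3 q275 L2450 q189, e3 q276 (flp_f L3571) q402, e3 q277 (flp_f L3581) q403, e3 q278 L3631 q409, e3 q279 L2489 q279, e3 q280 L2498 q280, e3 q281 L2506 q193, e3 q282 L3682 q415, e3 q283 (flp_f L3670) q413, e3 q284 L3708 q418, e3 q285 (flp_f L2536) q194, e3 q286 L2552 q286, e3 q287 L2558 q287, e3 q288 L2568 q288, e3 q289 L3774 q425, e3 q290 L2585 q200, e3 q291 L2600 q291, e3 q292 (flp_f L3787) q426, e3 q293 L2617 q202, e3 q294 L2624 q203, e3 q295 L2633 q204, e3 q296 (flp_f L3824) q430, e3 q297 (flp_f L3834) q431, e3 q298 (flp_f L3841) q432, e3 q299 (flp_f L3850) q433, e3 q300 (flp_f L3858) q434, e3 q301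 L2681 q301, e3 q302 L2691 q302, e3 q303 L2699 q303, e3 q304 L2706 q304, e3 q305 L2714 q305, e3 q306 L2722 q306, e3 q307 L2730 q307, e3 q308 L2738 q308, e3 q309 L2746 q214, e3 q310 L2754 q215, e3 q311 L4037 q457, e3 q312 (flp_f L4007) q453, e3 q313 L4063 q460, e3 q314 (flp_f L4024) q455, e3 q315 L4095 q464, e3 q316 (flp_f L2799) q216, e3 q317 L2809 q317, e3 q318 L2816 q318, e3 q319 L4142 q470, trivial⟩ (by decide +kernel)

theorem ce_f_5 : ∀ r, r < 64 → sm gf (Qf (320 + r)) = Qf (tab Gen.f (320 + r)) :=
  edges_tab (sm gf) Qf (tab Gen.f) 320 [(320, 221), (321, 474), (322, 220), (323, 471), (324, 477), (325, 222), (326, 326), (327, 327), (328, 328), (329, 482), (330, 330), (331, 486), (332, 227), (333, 230), (334, 334), (335, 335), (336, 336), (337, 493), (338, 232), (339, 339), (340, 497), (341, 498), (342, 234), (343, 343), (344, 344), (345, 345), (346, 346), (347, 503), (348, 348), (349, 349), (350, 350), (351, 351), (352, 352), (353, 243), (354, 244), (355, 245), (356, 356), (357, 514), (358, 515), (359, 516), (360, 246),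 (361, 522), (362, 523), (363, 524), (364, 364), (365, 365), (366, 366), (367, 367), (368, 368), (369, 369), (370, 370), (371, 254), (372, 255), (373, 537), (374, 538), (375, 544), (376, 376), (377, 377), (378, 259), (379, 550), (380, 548), (381, 554), (382, 260), (383, 556)]
    ⟨e3 q320 L2833 q221, e3 q321 L4171 q474, e3 q322 (flp_f L2844) q220, e3 q323 (flp_f L4153) q471, e3 q324 L4195 q477, e3 q325 (flp_f L2869) q222, e3 q326 L2882 q326, e3 q327 L2888 q327, e3 q328 L2894 q328, e3 q329 L4237 q482, e3 q330 L2912 q330, e3 q331 L4272 q486, e3 q332 (flp_f L2927) q227, e3 q333 L2940 q230, e3 q334 L2954 q334, e3 q335 L2957 q335, e3 q336 L2964 q336, e3 q337 L4331 q493, e3 q338 (flp_f L2980) q232, e3 q339 L2992 q339, e3 q340 L4367 q497, e3 q341 L4375 q498, e3 q342 (flp_f L3014) q234, e3 q343 L3031 q343, e3 q344 L3036 q344, e3 q345 L3045 q345, e3 q346 L3052 q346, e3 q347 L4443 q503, e3 q348 L3073 q348, e3 q349 L3084 q349, e3 q350 L3093 q350, e3 q351 L3101 q351, e3 q352 L3111 q352, e3 q353 L3118 q243, e3 q354 L3130 q244, e3 q355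 L3139 q245, e3 q356 L3151 q356, e3 q357 (flp_f L4559) q514, e3 q358 (flp_f L4568) q515, e3 q359 (flp_f L4577) q516, e3 q360 (flp_f L3179) q246, e3 q361 (flp_f L4631) q522, e3 q362 (flp_f L4639) q523, e3 q363 (flp_f L4649) q524, e3 q364 L3220 q364, e3 q365 L3232 q365, e3 q366 L3241 q366, e3 q367 L3248 q367, e3 q368 L3260 q368, e3 q369 L3270 q369, e3 q370 L3278 q370, e3 q371 L3286 q254, e3 q372 L3296 q255, e3 q373 (flp_f L4775) q537, e3 q374 (flp_f L4784) q538, e3 q375 L4833 q544, e3 q376 L3335 q376, e3 q377 L3345 q377, e3 q378 L3352 q259, e3 q379 L4885 q550, e3 q380 (flp_f L4872) q548, e3 q381 L4922 q554, e3 q382 (flp_f L3381) q260, e3 q383 L4938 q556, trivial⟩ (by decide +kernel)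

theorem ce_f_6 : ∀ r, r < 64 → sm gf (Qf (384 + r)) = Qf (tab Gen.f (384 + r)) :=
  edges_tab (sm gf) Qf (tab Gen.f) 384 [(384, 261), (385, 385), (386, 264), (387, 265), (388, 266), (389, 561), (390, 562), (391, 563), (392, 564), (393, 565), (394, 394), (395, 395), (396, 396), (397, 397), (398, 398), (399, 399), (400, 400), (401, 401), (402, 276), (403, 277), (404, 587), (405, 583), (406, 590), (407, 585), (408, 594), (409, 278), (410, 410), (411, 411), (412, 600), (413, 283), (414, 604), (415, 282), (416, 601), (417, 607), (418, 284), (419, 419), (420, 420), (421, 421), (422, 612), (423, 423), (424, 616), (425, 289), (426, 292), (427, 427), (428, 428), (429, 429), (430, 296), (431, 297), (432, 298), (433, 299), (434, 300), (435, 622), (436, 623), (437, 624), (438, 625), (439, 627), (440, 628), (441, 629), (442, 442), (443, 443), (444, 444), (445, 445), (446, 446), (447, 645)]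
    ⟨e3 q384 (flp_f L3398) q261, e3 q385 L3416 q385, e3 q386 L3424 q264, e3 q387 L3432 q265, e3 q388 L3442 q266, e3 q389 (flp_f L4989) q561, e3 q390 (flp_f L5000) q562, e3 q391 (flp_f L5008) q563, e3 q392 (flp_f L5018) q564, e3 q393 (flp_f L5027) q565, e3 q394 L3497 q394, e3 q395 L3509 q395, e3 q396 L3518 q396, e3 q397 L3526 q397, e3 q398 L3535 q398, e3 q399 L3544 q399, e3 q400 L3553 q400, e3 q401 L3562 q401, e3 q402 L3571 q276, e3 q403 L3581 q277, e3 q404 L5224 q587, e3 q405 (flp_f L5192) q583, e3 q406 L5252 q590, e3 q407 (flp_f L5210) q585, e3 q408 L5287 q594, e3 q409 (flp_f L3631) q278, e3 q410 L3643 q410, e3 q411 L3652 q411, e3 q412 L5341 q600, e3 q413 L3670 q283, e3 q414 L5373 q604, e3 q415 (flp_f L3682) q282, e3 q416 (flp_f L5352) q601, e3 q417 L5401 q607, e3 q418 (flp_f L3708) q284, e3 q419 L3724 q419, e3 q420 L3731 q420, e3 q421 L3739 q421, e3 q422 L5446 q612, e3 q423 L3758 q423, e3 q424 L5484 q616, e3 q425 (flp_f L3774) q289, e3 q426 L3787 q292, e3 q427 L3802 q427, e3 q428 L3807 q428, e3 q429 L3817 q429, e3 q430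 L3824 q296, e3 q431 L3834 q297, e3 q432 L3841 q298, e3 q433 L3850 q299, e3 q434 L3858 q300, e3 q435 (flp_f L5542) q622, e3 q436 (flp_f L5552) q623, e3 q437 (flp_f L5561) q624, e3 q438 (flp_f L5567) q625, e3 q439 (flp_f L5584) q627, e3 q440 (flp_f L5592) q628, e3 q441 (flp_f L5600) q629, e3 q442 L3922 q442, e3 q443 L3933 q443, e3 q444 L3939 q444, e3 q445 L3945 q445, e3 q446 L3951 q446, e3 q447 L5738 q645, trivial⟩ (by decide +kernel)

theorem ce_f_7 : ∀ r, r < 64 → sm gf (Qf (448 + r)) = Qf (tab Gen.f (448 + r)) :=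
  edges_tab (sm gf) Qf (tab Gen.f) 448 [(448, 448), (449, 449), (450, 450), (451, 451), (452, 653), (453, 312), (454, 656), (455, 314), (456, 660), (457, 311), (458, 654), (459, 665), (460, 313), (461, 657), (462, 669), (463, 670), (464, 315), (465, 465), (466, 466), (467, 675), (468, 468), (469, 679), (470, 319), (471, 323), (472, 683), (473, 684), (474, 321), (475, 680), (476, 688), (477, 324), (478, 478), (479, 479), (480, 480), (481, 694), (482, 329), (483, 483), (484, 698), (485, 699), (486, 331), (487, 487), (488, 488), (489, 489), (490, 490), (491, 704), (492, 705), (493, 337), (494, 494), (495, 709), (496, 710), (497, 340), (498, 341), (499, 712), (500, 500), (501, 713), (502, 502), (503, 347), (504, 717), (505, 718), (506, 719), (507, 507), (508, 508), (509, 509), (510, 510), (511, 511)]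
    ⟨e3 q448 L3966 q448, e3 q449 L3975 q449, e3 q450 L3984 q450, e3 q451 L3992 q451, e3 q452 L5807 q653, e3 q453 L4007 q312, e3 q454 L5831 q656, e3 q455 L4024 q314, e3 q456 L5861 q660, e3 q457 (flp_f L4037) q311, e3 q458 (flp_f L5816) q654, e3 q459 L5904 q665, e3 q460 (flp_f L4063) q313, e3 q461 (flp_f L5844) q657, e3 q462 L5937 q669, e3 q463 L5945 q670, e3 q464 (flp_f L4095) q315, e3 q465 L4108 q465, e3 q466 L4111 q466, e3 q467 L5985 q675, e3 q468 L4130 q468, e3 q469 L6018 q679, e3 q470 (flp_f L4142) q319, e3 q471 L4153 q323, e3 q472 L6047 q683, e3 q473 L6056 q684, e3 q474 (flp_f L4171) q321, e3 q475 (flp_f L6030) q680, e3 q476 L6085 q688, e3 q477 (flp_f L4195) q324, e3 q478 L4209 q478, e3 q479 L4215 q479, e3 q480 L4220 q480, e3 q481 L6137 q694, e3 q482 (flp_f L4237) q329, e3 q483 L4251 q483, e3 q484 L6173 q698, e3 q485 L6183 q699, e3 q486 (flp_f L4272) q331, e3 q487 L4289 q487, e3 q488 L4294 q488, e3 q489 L4300 q489, e3 q490 L4306 q490, e3 q491 L6244 q704, e3 q492 L6253 q705, e3 q493 (flp_f L4331) q337, e3 q494 L4348 q494,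 e3 q495 L6290 q709, e3 q496 L6306 q710, e3 q497 (flp_f L4367) q340, e3 q498 (flp_f L4375) q341, e3 q499 (flp_f L6334) q712, e3 q500 L4396 q500, e3 q501 L6381 q713, e3 q502 L4441 q502, e3 q503 (flp_f L4443) q347, e3 q504 (flp_f L6426) q717, e3 q505 (flp_f L6435) q718, e3 q506 (flp_f L6446) q719, e3 q507 L4490 q507, e3 q508 L4500 q508, e3 q509 L4508 q509, e3 q510 L4519 q510, e3 q511 L4527 q511, trivial⟩ (by decide +kernel)

theorem ce_f_8 : ∀ r, r < 64 → sm gf (Qf (512 + r)) = Qf (tab Gen.f (512 + r)) :=
  edges_tab (sm gf) Qf (tab Gen.f) 512 [(512, 512), (513, 513), (514, 357), (515, 358), (516, 359), (517, 517), (518, 732), (519, 733), (520, 734), (521, 742), (522, 361), (523, 362), (524, 363), (525, 744), (526, 745), (527, 746), (528, 747), (529, 748), (530, 530), (531, 531), (532, 532), (533, 533), (534, 534), (535, 535), (536, 536), (537, 373), (538, 374), (539, 768), (540, 764), (541, 771), (542, 766), (543, 775), (544, 375), (545, 545), (546, 546), (547, 781), (548, 380), (549, 785), (550, 379), (551, 782), (552, 789),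 (553, 790), (554, 381), (555, 555), (556, 383), (557, 796), (558, 558), (559, 559), (560, 560), (561, 389), (562, 390), (563, 391), (564, 392), (565, 393), (566, 801), (567, 802), (568, 803), (569, 804), (570, 806), (571, 807), (572, 808), (573, 573), (574, 574), (575, 575)]
    ⟨e3 q512 L4539 q512, e3 q513 L4548 q513, e3 q514 L4559 q357, e3 q515 L4568 q358, e3 q516 L4577 q359, e3 q517 L4589 q517, e3 q518 (flp_f L6578) q732, e3 q519 (flp_f L6586) q733, e3 q520 (flp_f L6594) q734, e3 q521 L6660 q742, e3 q522 L4631 q361, e3 q523 L4639 q362, e3 q524 L4649 q363, e3 q525 (flp_f L6682) q744, e3 q526 (flp_f L6693) q745, e3 q527 (flp_f L6702) q746, e3 q528 (flp_f L6713) q747, e3 q529 (flp_f L6722) q748, e3 q530 L4710 q530, e3 q531 L4719 q531, e3 q532 L4728 q532, e3 q533 L4737 q533, e3 q534 L4746 q534, e3 q535 L4755 q535, e3 q536 L4765 q536, e3 q537 L4775 q373, e3 q538 L4784 q374, e3 q539 L6905 q768, e3 q540 (flp_f L6873) q764, e3 q541 L6934 q771, e3 q542 (flp_f L6890) q766, e3 q543 L6969 q775, e3 q544 (flp_f L4833) q375, e3 q545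 L4847 q545, e3 q546 L4855 q546, e3 q547 L7022 q781, e3 q548 L4872 q380, e3 q549 L7055 q785, e3 q550 (flp_f L4885) q379, e3 q551 (flp_f L7035) q782, e3 q552 L7092 q789, e3 q553 L7100 q790, e3 q554 (flp_f L4922) q381, e3 q555 L4937 q555, e3 q556 (flp_f L4938) q383, e3 q557 (flp_f L7154) q796, e3 q558 L4963 q558, e3 q559 L4970 q559, e3 q560 L4981 q560, e3 q561 L4989 q389, e3 q562 L5000 q390, e3 q563 L5008 q391, e3 q564 L5018 q392, e3 q565 L5027 q393, e3 q566 (flp_f L7203) q801, e3 q567 (flp_f L7214) q802, e3 q568 (flp_f L7224) q803, e3 q569 (flp_f L7232) q804, e3 q570 (flp_f L7252) q806, e3 q571 (flp_f L7261) q807, e3 q572 (flp_f L7270) q808, e3 q573 L5105 q573, e3 q574 L5112 q574, e3 q575 L5119 q575, trivial⟩ (by decide +kernel)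

theorem ce_f_9 : ∀ r, r < 64 → sm gf (Qf (576 + r)) = Qf (tab Gen.f (576 + r)) :=
  edges_tab (sm gf) Qf (tab Gen.f) 576 [(576, 576), (577, 823), (578, 578), (579, 579), (580, 580), (581, 581), (582, 831), (583, 405), (584, 834), (585, 407), (586, 838), (587, 404), (588, 832), (589, 843), (590, 406), (591, 835), (592, 847), (593, 848), (594, 408), (595, 595), (596, 596), (597, 853), (598, 598), (599, 857), (600, 412), (601, 416), (602, 861), (603, 862), (604, 414), (605, 858), (606, 866), (607, 417), (608, 608), (609, 609), (610, 610), (611, 872), (612, 422), (613, 613), (614, 876), (615, 877), (616, 424), (617, 617), (618, 618), (619, 619), (620, 620), (621, 621), (622, 435), (623, 436), (624, 437), (625, 438), (626, 626), (627, 439), (628, 440), (629, 441), (630, 886), (631, 888), (632, 889), (633, 890), (634, 891), (635, 893), (636, 895), (637, 896), (638, 897), (639, 910)]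
    ⟨e3 q576 L5127 q576, e3 q577 L7411 q823, e3 q578 L5144 q578, e3 q579 L5154 q579, e3 q580 L5164 q580, e3 q581 L5174 q581, e3 q582 L7489 q831, e3 q583 L5192 q405, e3 q584 L7515 q834, e3 q585 L5210 q407, e3 q586 L7548 q838, e3 q587 (flp_f L5224) q404, e3 q588 (flp_f L7499) q832, e3 q589 L7596 q843, e3 q590 (flp_f L5252) q406, e3 q591 (flp_f L7528) q835, e3 q592 L7633 q847, e3 q593 L7640 q848, e3 q594 (flp_f L5287) q408, e3 q595 L5303 q595, e3 q596 L5308 q596, e3 q597 L7686 q853, e3 q598 L5328 q598, e3 q599 L7722 q857, e3 q600 (flp_f L5341) q412, e3 q601 L5352 q416, e3 q602 L7755 q861, e3 q603 L7763 q862, e3 q604 (flp_f L5373) q414, e3 q605 (flp_f L7737) q858, e3 q606 L7799 q866, e3 q607 (flp_f L5401) q417, e3 q608 L5416 q608, e3 q609 L5423 q609, e3 q610 L5428 q610, e3 q611 L7855 q872, e3 q612 (flp_f L5446) q422, e3 q613 L5460 q613, e3 q614 L7895 q876, e3 q615 L7904 q877, e3 q616 (flp_f L5484) q424, e3 q617 L5504 q617, e3 q618 L5509 q618, e3 q619 L5517 q619, e3 q620 L5525 q620, e3 q621 L5535 q621, e3 q622 L5542 q435, e3 q623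 L5552 q436, e3 q624 L5561 q437, e3 q625 L5567 q438, e3 q626 L5578 q626, e3 q627 L5584 q439, e3 q628 L5592 q440, e3 q629 L5600 q441, e3 q630 (flp_f L7981) q886, e3 q631 (flp_f L8000) q888, e3 q632 (flp_f L8009) q889, e3 q633 (flp_f L8018) q890, e3 q634 (flp_f L8026) q891, e3 q635 (flp_f L8044) q893, e3 q636 (flp_f L8058) q895, e3 q637 (flp_f L8065) q896, e3 q638 (flp_f L8072) q897, e3 q639 L8190 q910, trivial⟩ (by decide +kernel)

theorem ce_f_10 : ∀ r, r < 64 → sm gf (Qf (640 + r)) = Qf (tab Gen.f (640 + r)) :=
  edges_tab (sm gf) Qf (tab Gen.f) 640 [(640, 640), (641, 641), (642, 913), (643, 643), (644, 916), (645, 447), (646, 646), (647, 647), (648, 922), (649, 649), (650, 925), (651, 651), (652, 929), (653, 452), (654, 458), (655, 934), (656, 454), (657, 461), (658, 938), (659, 939), (660, 456), (661, 930), (662, 931), (663, 945), (664, 946), (665, 459), (666, 666), (667, 951), (668, 953), (669, 462), (670, 463), (671, 671), (672, 672), (673, 673), (674, 961), (675, 467), (676, 676), (677, 965), (678, 966), (679, 469),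 (680, 475), (681, 971), (682, 972), (683, 472), (684, 473), (685, 975), (686, 968), (687, 969), (688, 476), (689, 689), (690, 690), (691, 691), (692, 981), (693, 982), (694, 481), (695, 695), (696, 986), (697, 987), (698, 484), (699, 485), (700, 989), (701, 701), (702, 991), (703, 992)]
    ⟨e3 q640 L5705 q640, e3 q641 L5712 q641, e3 q642 L8242 q913, e3 q643 L5728 q643, e3 q644 L8271 q916, e3 q645 (flp_f L5738) q447, e3 q646 L5749 q646, e3 q647 L5758 q647, e3 q648 L8323 q922, e3 q649 L5775 q649, e3 q650 L8350 q925, e3 q651 L5793 q651, e3 q652 L8380 q929, e3 q653 (flp_f L5807) q452, e3 q654 L5816 q458, e3 q655 L8420 q934, e3 q656 (flp_f L5831) q454, e3 q657 L5844 q461, e3 q658 L8452 q938, e3 q659 L8462 q939, e3 q660 (flp_f L5861) q456, e3 q661 (flp_f L8393) q930, e3 q662 (flp_f L8399) q931, e3 q663 L8508 q945, e3 q664 L8517 q946, e3 q665 (flp_f L5904) q459, e3 q666 L5919 q666, e3 q667 L8558 q951, e3 q668 L8574 q953, e3 q669 (flp_f L5937) q462, e3 q670 (flp_f L5945) q463, e3 q671 L5958 q671, e3 q672 L5963 q672, e3 q673 L5971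 q673, e3 q674 L8639 q961, e3 q675 (flp_f L5985) q467, e3 q676 L5998 q676, e3 q677 L8671 q965, e3 q678 L8678 q966, e3 q679 (flp_f L6018) q469, e3 q680 L6030 q475, e3 q681 L8715 q971, e3 q682 L8732 q972, e3 q683 (flp_f L6047) q472, e3 q684 (flp_f L6056) q473, e3 q685 (flp_f L8767) q975, e3 q686 (flp_f L8697) q968, e3 q687 (flp_f L8704) q969, e3 q688 (flp_f L6085) q476, e3 q689 L6100 q689, e3 q690 L6106 q690, e3 q691 L6113 q691, e3 q692 L8821 q981, e3 q693 L8832 q982, e3 q694 (flp_f L6137) q481, e3 q695 L6154 q695, e3 q696 L8863 q986, e3 q697 L8881 q987, e3 q698 (flp_f L6173) q484, e3 q699 (flp_f L6183) q485, e3 q700 (flp_f L8905) q989, e3 q701 L6200 q701, e3 q702 L8957 q991, e3 q703 L8975 q992, trivial⟩ (by decide +kernel)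

theorem ce_f_11 : ∀ r, r < 64 → sm gf (Qf (704 + r)) = Qf (tab Gen.f (704 + r)) :=
  edges_tab (sm gf) Qf (tab Gen.f) 704 [(704, 491), (705, 492), (706, 996), (707, 707), (708, 997), (709, 495), (710, 496), (711, 711), (712, 499), (713, 501), (714, 1001), (715, 1002), (716, 716), (717, 504), (718, 505), (719, 506), (720, 1007), (721, 1008), (722, 1009), (723, 1010), (724, 724), (725, 725), (726, 726), (727, 727), (728, 728), (729, 729), (730, 730), (731, 731), (732, 518), (733, 519), (734, 520), (735, 1030), (736, 736), (737, 1025), (738, 1026), (739, 1036), (740, 1028), (741, 1040), (742, 521), (743, 743), (744, 525), (745, 526), (746, 527), (747, 528), (748, 529), (749, 1044), (750, 1045), (751, 1046), (752, 1048), (753, 1049), (754, 1050), (755, 755), (756, 756), (757, 757), (758, 1063), (759, 759), (760, 760), (761, 761), (762, 762), (763, 1071), (764, 540), (765, 1074), (766, 542), (767, 1078)]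
    ⟨e3 q704 (flp_f L6244) q491, e3 q705 (flp_f L6253) q492, e3 q706 (flp_f L9024) q996, e3 q707 L6279 q707, e3 q708 L9047 q997, e3 q709 (flp_f L6290) q495, e3 q710 (flp_f L6306) q496, e3 q711 L6329 q711, e3 q712 L6334 q499, e3 q713 (flp_f L6381) q501, e3 q714 (flp_f L9180) q1001, e3 q715 (flp_f L9190) q1002, e3 q716 L6416 q716, e3 q717 L6426 q504, e3 q718 L6435 q505, e3 q719 L6446 q506, e3 q720 (flp_f L9238) q1007, e3 q721 (flp_f L9250) q1008, e3 q722 (flp_f L9262) q1009, e3 q723 (flp_f L9272) q1010, e3 q724 L6501 q724, e3 q725 L6509 q725, e3 q726 L6515 q726, e3 q727 L6528 q727, e3 q728 L6538 q728, e3 q729 L6550 q729, e3 q730 L6559 q730, e3 q731 L6568 q731, e3 q732 L6578 q518, e3 q733 L6586 q519, e3 q734 L6594 q520, e3 q735 L9450 q1030, e3 q736 L6613 q736, e3 q737 (flp_f L9411) q1025, e3 q738 (flp_f L9420) q1026, e3 q739 L9503 q1036, e3 q740 (flp_f L9438) q1028, e3 q741 L9536 q1040, e3 q742 (flp_f L6660) q521, e3 q743 L6674 q743, e3 q744 L6682 q525, e3 q745 L6693 q526, e3 q746 L6702 q527, e3 q747 L6713 q528, e3 q748 L6722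 q529, e3 q749 (flp_f L9576) q1044, e3 q750 (flp_f L9588) q1045, e3 q751 (flp_f L9598) q1046, e3 q752 (flp_f L9620) q1048, e3 q753 (flp_f L9629) q1049, e3 q754 (flp_f L9639) q1050, e3 q755 L6793 q755, e3 q756 L6801 q756, e3 q757 L6808 q757, e3 q758 L9752 q1063, e3 q759 L6825 q759, e3 q760 L6836 q760, e3 q761 L6847 q761, e3 q762 L6856 q762, e3 q763 L9830 q1071, e3 q764 L6873 q540, e3 q765 L9857 q1074, e3 q766 L6890 q542, e3 q767 L9891 q1078, trivial⟩ (by decide +kernel)

theorem ce_f_12 : ∀ r, r < 64 → sm gf (Qf (768 + r)) = Qf (tab Gen.f (768 + r)) :=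
  edges_tab (sm gf) Qf (tab Gen.f) 768 [(768, 539), (769, 1072), (770, 1083), (771, 541), (772, 1075), (773, 1087), (774, 1088), (775, 543), (776, 776), (777, 777), (778, 1094), (779, 779), (780, 1098), (781, 547), (782, 551), (783, 1102), (784, 1103), (785, 549), (786, 1099), (787, 1108), (788, 1109), (789, 552), (790, 553), (791, 1114), (792, 792), (793, 793), (794, 794), (795, 795), (796, 557), (797, 1121), (798, 798), (799, 799), (800, 800), (801, 566), (802, 567), (803, 568), (804, 569), (805, 805), (806, 570), (807, 571), (808, 572), (809, 1125), (810, 1127), (811, 1128), (812, 1129), (813, 1131), (814, 1133), (815, 1134), (816, 1135), (817, 1147), (818, 818), (819, 819), (820, 1151), (821, 821), (822, 1155), (823, 577), (824, 824), (825, 825), (826, 1161), (827, 827), (828, 1164), (829, 829), (830, 1168), (831, 582)]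
    ⟨e3 q768 (flp_f L6905) q539, e3 q769 (flp_f L9840) q1072, e3 q770 L9939 q1083, e3 q771 (flp_f L6934) q541, e3 q772 (flp_f L9872) q1075, e3 q773 L9975 q1087, e3 q774 L9984 q1088, e3 q775 (flp_f L6969) q543, e3 q776 L6985 q776, e3 q777 L6989 q777, e3 q778 L10036 q1094, e3 q779 L7008 q779, e3 q780 L10073 q1098, e3 q781 (flp_f L7022) q547, e3 q782 L7035 q551, e3 q783 L10106 q1102, e3 q784 L10116 q1103, e3 q785 (flp_f L7055) q549, e3 q786 (flp_f L10088) q1099, e3 q787 L10158 q1108, e3 q788 L10167 q1109, e3 q789 (flp_f L7092) q552, e3 q790 (flp_f L7100) q553, e3 q791 (flp_f L10214) q1114, e3 q792 L7123 q792, e3 q793 L7131 q793, e3 q794 L7141 q794, e3 q795 L7149 q795, e3 q796 L7154 q557, e3 q797 (flp_f L10272) q1121, e3 q798 L7174 q798, e3 q799 L7184 q799, e3 q800 L7195 q800, e3 q801 L7203 q566, e3 q802 L7214 q567, e3 q803 L7224 q568, e3 q804 L7232 q569, e3 q805 L7245 q805, e3 q806 L7252 q570, e3 q807 L7261 q571, e3 q808 L7270 q572, e3 q809 (flp_f L10309) q1125, e3 q810 (flp_f L10331) q1127, e3 q811 (flp_f L10341) q1128, e3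 q812 (flp_f L10351) q1129, e3 q813 (flp_f L10374) q1131, e3 q814 (flp_f L10390) q1133, e3 q815 (flp_f L10398) q1134, e3 q816 (flp_f L10407) q1135, e3 q817 L10522 q1147, e3 q818 L7374 q818, e3 q819 L7383 q819, e3 q820 L10572 q1151, e3 q821 L7400 q821, e3 q822 L10604 q1155, e3 q823 (flp_f L7411) q577, e3 q824 L7424 q824, e3 q825 L7435 q825, e3 q826 L10663 q1161, e3 q827 L7455 q827, e3 q828 L10692 q1164, e3 q829 L7474 q829, e3 q830 L10725 q1168, e3 q831 (flp_f L7489) q582, trivial⟩ (by decide +kernel)

theorem ce_f_13 : ∀ r, r < 64 → sm gf (Qf (832 + r)) = Qf (tab Gen.f (832 + r)) :=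
  edges_tab (sm gf) Qf (tab Gen.f) 832 [(832, 588), (833, 1173), (834, 584), (835, 591), (836, 1177), (837, 1178), (838, 586), (839, 1169), (840, 1170), (841, 1184), (842, 1185), (843, 589), (844, 844), (845, 1190), (846, 1192), (847, 592), (848, 593), (849, 849), (850, 850), (851, 851), (852, 1200), (853, 597), (854, 854), (855, 1204), (856, 1205), (857, 599), (858, 605), (859, 1210), (860, 1212), (861, 602), (862, 603), (863, 1216), (864, 1207), (865, 1208), (866, 606), (867, 867), (868, 868), (869, 869), (870, 1223), (871, 1224), (872, 611), (873, 873), (874, 1228), (875, 1230), (876, 614), (877, 615), (878, 1233), (879, 879), (880, 880), (881, 881), (882, 882), (883, 883), (884, 884), (885, 885), (886, 630), (887, 887), (888, 631), (889, 632), (890, 633), (891, 634), (892, 892), (893, 635), (894, 894), (895, 636)]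
    ⟨e3 q832 L7499 q588, e3 q833 L10770 q1173, e3 q834 (flp_f L7515) q584, e3 q835 L7528 q591, e3 q836 L10806 q1177, e3 q837 L10815 q1178, e3 q838 (flp_f L7548) q586, e3 q839 (flp_f L10741) q1169, e3 q840 (flp_f L10746) q1170, e3 q841 L10869 q1184, e3 q842 L10877 q1185, e3 q843 (flp_f L7596) q589, e3 q844 L7614 q844, e3 q845 L10927 q1190, e3 q846 L10943 q1192, e3 q847 (flp_f L7633) q592, e3 q848 (flp_f L7640) q593, e3 q849 L7657 q849, e3 q850 L7663 q850, e3 q851 L7671 q851, e3 q852 L11015 q1200, e3 q853 (flp_f L7686) q597, e3 q854 L7699 q854, e3 q855 L11051 q1204, e3 q856 L11057 q1205, e3 q857 (flp_f L7722) q599, e3 q858 L7737 q605, e3 q859 L11103 q1210, e3 q860 L11120 q1212, e3 q861 (flp_f L7755) q602, e3 q862 (flp_f L7763) q603, e3 q863 (flp_f L11158) q1216, e3 q864 (flp_f L11082) q1207, e3 q865 (flp_f L11090) q1208, e3 q866 (flp_f L7799) q606, e3 q867 L7814 q867, e3 q868 L7822 q868, e3 q869 L7828 q869, e3 q870 L11217 q1223, e3 q871 L11227 q1224, e3 q872 (flp_f L7855) q611, e3 q873 L7875 q873, e3 q874 L11266 q1228, e3 q875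 L11284 q1230, e3 q876 (flp_f L7895) q614, e3 q877 (flp_f L7904) q615, e3 q878 (flp_f L11312) q1233, e3 q879 L7927 q879, e3 q880 L7932 q880, e3 q881 L7941 q881, e3 q882 L7950 q882, e3 q883 L7956 q883, e3 q884 L7966 q884, e3 q885 L7975 q885, e3 q886 L7981 q630, e3 q887 L7994 q887, e3 q888 L8000 q631, e3 q889 L8009 q632, e3 q890 L8018 q633, e3 q891 L8026 q634, e3 q892 L8038 q892, e3 q893 L8044 q635, e3 q894 L8053 q894, e3 q895 L8058 q636, trivial⟩ (by decide +kernel)

theorem ce_f_14 : ∀ r, r < 64 → sm gf (Qf (896 + r)) = Qf (tab Gen.f (896 + r)) :=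
  edges_tab (sm gf) Qf (tab Gen.f) 896 [(896, 637), (897, 638), (898, 1259), (899, 1242), (900, 1244), (901, 1246), (902, 1247), (903, 1248), (904, 1265), (905, 1254), (906, 1255), (907, 1268), (908, 1257), (909, 1271), (910, 639), (911, 1273), (912, 1275), (913, 642), (914, 1278), (915, 1279), (916, 644), (917, 1272), (918, 918), (919, 1285), (920, 920), (921, 1289), (922, 648), (923, 923), (924, 1294), (925, 650), (926, 926), (927, 1298), (928, 1299), (929, 652), (930, 661), (931, 662), (932, 1305), (933, 1306), (934, 655), (935, 1295), (936, 1311), (937, 1312), (938, 658), (939, 659), (940, 1316), (941, 1301), (942, 1302), (943, 1319), (944, 1321), (945, 663), (946, 664), (947, 1326), (948, 948), (949, 949), (950, 1329), (951, 667), (952, 1331), (953, 668), (954, 954), (955, 955), (956, 956), (957, 957), (958, 958), (959, 1339)]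
    ⟨e3 q896 L8065 q637, e3 q897 L8072 q638, e3 q898 L11556 q1259, e3 q899 (flp_f L11404) q1242, e3 q900 (flp_f L11424) q1244, e3 q901 (flp_f L11440) q1246, e3 q902 (flp_f L11448) q1247, e3 q903 (flp_f L11456) q1248, e3 q904 L11626 q1265, e3 q905 (flp_f L11521) q1254, e3 q906 (flp_f L11529) q1255, e3 q907 L11682 q1268, e3 q908 (flp_f L11545) q1257, e3 q909 L11711 q1271, e3 q910 (flp_f L8190) q639, e3 q911 L11763 q1273, e3 q912 L11796 q1275, e3 q913 (flp_f L8242) q642, e3 q914 L11825 q1278, e3 q915 L11833 q1279, e3 q916 (flp_f L8271) q644, e3 q917 (flp_f L11722) q1272, e3 q918 L8287 q918, e3 q919 L11882 q1285, e3 q920 L8307 q920, e3 q921 L11917 q1289, e3 q922 (flp_f L8323) q648, e3 q923 L8334 q923, e3 q924 L11960 q1294, e3 q925 (flp_f L8350) q650, e3 q926 L8361 q926, e3 q927 L11993 q1298, e3 q928 L12001 q1299, e3 q929 (flp_f L8380) q652, e3 q930 L8393 q661, e3 q931 L8399 q662, e3 q932 L12046 q1305, e3 q933 L12057 q1306, e3 q934 (flp_f L8420) q655, e3 q935 (flp_f L11975) q1295, e3 q936 L12093 q1311, e3 q937 L12108 q1312, e3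 q938 (flp_f L8452) q658, e3 q939 (flp_f L8462) q659, e3 q940 (flp_f L12144) q1316, e3 q941 (flp_f L12019) q1301, e3 q942 (flp_f L12025) q1302, e3 q943 L12173 q1319, e3 q944 L12191 q1321, e3 q945 (flp_f L8508) q663, e3 q946 (flp_f L8517) q664, e3 q947 (flp_f L12236) q1326, e3 q948 L8540 q948, e3 q949 L8545 q949, e3 q950 L12259 q1329, e3 q951 (flp_f L8558) q667, e3 q952 L12275 q1331, e3 q953 (flp_f L8574) q668, e3 q954 L8589 q954, e3 q955 L8595 q955, e3 q956 L8602 q956, e3 q957 L8607 q957, e3 q958 L8616 q958, e3 q959 L12340 q1339, trivial⟩ (by decide +kernel)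

theorem ce_f_15 : ∀ r, r < 64 → sm gf (Qf (960 + r)) = Qf (tab Gen.f (960 + r)) :=
  edges_tab (sm gf) Qf (tab Gen.f) 960 [(960, 1340), (961, 674), (962, 962), (963, 1345), (964, 1346), (965, 677), (966, 678), (967, 1350), (968, 686), (969, 687), (970, 1352), (971, 681), (972, 682), (973, 1347), (974, 1349), (975, 685), (976, 1351), (977, 977), (978, 978), (979, 1360), (980, 1361), (981, 692), (982, 693), (983, 1365), (984, 984), (985, 1366), (986, 696), (987, 697), (988, 1348), (989, 700), (990, 1369), (991, 702), (992, 703), (993, 993), (994, 994), (995, 995), (996, 706), (997, 708), (998, 998), (999, 999), (1000, 1000), (1001, 714), (1002, 715), (1003, 1381), (1004, 1382), (1005, 1005), (1006, 1006), (1007, 720), (1008, 721), (1009, 722), (1010, 723), (1011, 1389), (1012, 1390), (1013, 1391), (1014, 1392), (1015, 1015), (1016, 1016), (1017, 1402), (1018, 1018), (1019, 1019), (1020, 1020), (1021, 1021), (1022, 1022), (1023, 1023)]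
    ⟨e3 q960 L12349 q1340, e3 q961 (flp_f L8639) q674, e3 q962 L8653 q962, e3 q963 L12390 q1345, e3 q964 L12406 q1346, e3 q965 (flp_f L8671) q677, e3 q966 (flp_f L8678) q678, e3 q967 (flp_f L12448) q1350, e3 q968 L8697 q686, e3 q969 L8704 q687, e3 q970 L12475 q1352, e3 q971 (flp_f L8715) q681, e3 q972 (flp_f L8732) q682, e3 q973 (flp_f L12428) q1347, e3 q974 (flp_f L12443) q1349, e3 q975 L8767 q685, e3 q976 (flp_f L12463) q1351, e3 q977 L8792 q977, e3 q978 L8799 q978, e3 q979 L12588 q1360, e3 q980 L12608 q1361, e3 q981 (flp_f L8821) q692, e3 q982 (flp_f L8832) q693, e3 q983 (flp_f L12654) q1365, e3 q984 L8854 q984, e3 q985 L12676 q1366, e3 q986 (flp_f L8863) q696, e3 q987 (flp_f L8881) q697, e3 q988 (flp_f L12435) q1348, e3 q989 L8905 q700, e3 q990 L12793 q1369, e3 q991 (flp_f L8957) q702, e3 q992 (flp_f L8975) q703, e3 q993 L9000 q993, e3 q994 L9010 q994, e3 q995 L9018 q995, e3 q996 L9024 q706, e3 q997 (flp_f L9047) q708, e3 q998 L9087 q998, e3 q999 L9111 q999, e3 q1000 L9172 q1000, e3 q1001 L9180 q714, e3 q1002 L9190 q715,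 e3 q1003 (flp_f L13108) q1381, e3 q1004 (flp_f L13117) q1382, e3 q1005 L9217 q1005, e3 q1006 L9229 q1006, e3 q1007 L9238 q720, e3 q1008 L9250 q721, e3 q1009 L9262 q722, e3 q1010 L9272 q723, e3 q1011 (flp_f L13189) q1389, e3 q1012 (flp_f L13200) q1390, e3 q1013 (flp_f L13211) q1391, e3 q1014 (flp_f L13220) q1392, e3 q1015 L9320 q1015, e3 q1016 L9328 q1016, e3 q1017 L13300 q1402, e3 q1018 L9347 q1018, e3 q1019 L9357 q1019, e3 q1020 L9367 q1020, e3 q1021 L9378 q1021, e3 q1022 L9386 q1022, e3 q1023 L9394 q1023, trivial⟩ (by decide +kernel)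

theorem ce_f_16 : ∀ r, r < 64 → sm gf (Qf (1024 + r)) = Qf (tab Gen.f (1024 + r)) :=
  edges_tab (sm gf) Qf (tab Gen.f) 1024 [(1024, 1412), (1025, 737), (1026, 738), (1027, 1417), (1028, 740), (1029, 1421), (1030, 735), (1031, 1031), (1032, 1413), (1033, 1427), (1034, 1415), (1035, 1431), (1036, 739), (1037, 1418), (1038, 1435), (1039, 1436), (1040, 741), (1041, 1041), (1042, 1042), (1043, 1043), (1044, 749), (1045, 750), (1046, 751), (1047, 1047), (1048, 752), (1049, 753), (1050, 754), (1051, 1444), (1052, 1445), (1053, 1446), (1054, 1448), (1055, 1449), (1056, 1450), (1057, 1461), (1058, 1058), (1059, 1059), (1060, 1466), (1061, 1061), (1062, 1470), (1063, 758), (1064, 1064), (1065, 1065), (1066, 1476), (1067, 1067), (1068, 1479), (1069, 1069), (1070, 1483), (1071, 763), (1072, 769), (1073, 1488), (1074, 765), (1075, 772), (1076, 1492), (1077, 1493), (1078, 767), (1079, 1484), (1080, 1485), (1081, 1499), (1082, 1500), (1083, 770), (1084, 1084), (1085, 1505), (1086, 1507), (1087, 773)]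
    ⟨e3 q1024 L13392 q1412, e3 q1025 L9411 q737, e3 q1026 L9420 q738, e3 q1027 L13435 q1417, e3 q1028 L9438 q740, e3 q1029 L13467 q1421, e3 q1030 (flp_f L9450) q735, e3 q1031 L9462 q1031, e3 q1032 (flp_f L13401) q1413, e3 q1033 L13521 q1427, e3 q1034 (flp_f L13421) q1415, e3 q1035 L13558 q1431, e3 q1036 (flp_f L9503) q739, e3 q1037 (flp_f L13449) q1418, e3 q1038 L13591 q1435, e3 q1039 L13598 q1436, e3 q1040 (flp_f L9536) q741, e3 q1041 L9549 q1041, e3 q1042 L9556 q1042, e3 q1043 L9567 q1043, e3 q1044 L9576 q749, e3 q1045 L9588 q750, e3 q1046 L9598 q751, e3 q1047 L9611 q1047, e3 q1048 L9620 q752, e3 q1049 L9629 q753, e3 q1050 L9639 q754, e3 q1051 (flp_f L13679) q1444, e3 q1052 (flp_f L13689) q1445, e3 q1053 (flp_f L13700) q1446, e3 q1054 (flp_f L13722) q1448, e3 q1055 (flp_f L13731) q1449, e3 q1056 (flp_f L13739) q1450, e3 q1057 L13833 q1461, e3 q1058 L9716 q1058, e3 q1059 L9724 q1059, e3 q1060 L13876 q1466, e3 q1061 L9740 q1061, e3 q1062 L13909 q1470, e3 q1063 (flp_f L9752) q758, e3 q1064 L9767 q1064, e3 q1065 L9777 q1065,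 e3 q1066 L13967 q1476, e3 q1067 L9796 q1067, e3 q1068 L13997 q1479, e3 q1069 L9814 q1069, e3 q1070 L14031 q1483, e3 q1071 (flp_f L9830) q763, e3 q1072 L9840 q769, e3 q1073 L14076 q1488, e3 q1074 (flp_f L9857) q765, e3 q1075 L9872 q772, e3 q1076 L14112 q1492, e3 q1077 L14123 q1493, e3 q1078 (flp_f L9891) q767, e3 q1079 (flp_f L14047) q1484, e3 q1080 (flp_f L14053) q1485, e3 q1081 L14174 q1499, e3 q1082 L14184 q1500, e3 q1083 (flp_f L9939) q770, e3 q1084 L9957 q1084, e3 q1085 L14227 q1505, e3 q1086 L14244 q1507, e3 q1087 (flp_f L9975) q773, trivial⟩ (by decide +kernel)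

theorem ce_f_17 : ∀ r, r < 64 → sm gf (Qf (1088 + r)) = Qf (tab Gen.f (1088 + r)) :=
  edges_tab (sm gf) Qf (tab Gen.f) 1088 [(1088, 774), (1089, 1512), (1090, 1090), (1091, 1091), (1092, 1092), (1093, 1518), (1094, 778), (1095, 1095), (1096, 1522), (1097, 1523), (1098, 780), (1099, 786), (1100, 1528), (1101, 1530), (1102, 783), (1103, 784), (1104, 1535), (1105, 1525), (1106, 1526), (1107, 1538), (1108, 787), (1109, 788), (1110, 1543), (1111, 1111), (1112, 1112), (1113, 1113), (1114, 791), (1115, 1550), (1116, 1116), (1117, 1551), (1118, 1118), (1119, 1119), (1120, 1120), (1121, 797), (1122, 1122), (1123, 1123), (1124, 1124), (1125, 809), (1126, 1126), (1127, 810), (1128, 811), (1129, 812), (1130, 1130), (1131, 813), (1132, 1132), (1133, 814), (1134, 815), (1135, 816), (1136, 1578), (1137, 1564), (1138, 1566), (1139, 1567), (1140, 1568), (1141, 1584), (1142, 1573), (1143, 1574), (1144, 1588), (1145, 1576), (1146, 1592), (1147, 817), (1148, 1594), (1149, 1149), (1150, 1597), (1151, 820)]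
    ⟨e3 q1088 (flp_f L9984) q774, e3 q1089 (flp_f L14284) q1512, e3 q1090 L10006 q1090, e3 q1091 L10013 q1091, e3 q1092 L10020 q1092, e3 q1093 L14336 q1518, e3 q1094 (flp_f L10036) q778, e3 q1095 L10051 q1095, e3 q1096 L14372 q1522, e3 q1097 L14380 q1523, e3 q1098 (flp_f L10073) q780, e3 q1099 L10088 q786, e3 q1100 L14421 q1528, e3 q1101 L14440 q1530, e3 q1102 (flp_f L10106) q783, e3 q1103 (flp_f L10116) q784, e3 q1104 (flp_f L14483) q1535, e3 q1105 (flp_f L14401) q1525, e3 q1106 (flp_f L14410) q1526, e3 q1107 L14502 q1538, e3 q1108 (flp_f L10158) q787, e3 q1109 (flp_f L10167) q788, e3 q1110 (flp_f L14552) q1543, e3 q1111 L10191 q1111, e3 q1112 L10199 q1112, e3 q1113 L10208 q1113, e3 q1114 L10214 q791, e3 q1115 (flp_f L14613) q1550, e3 q1116 L10231 q1116, e3 q1117 L14617 q1551, e3 q1118 L10248 q1118, e3 q1119 L10256 q1119, e3 q1120 L10263 q1120, e3 q1121 L10272 q797, e3 q1122 L10280 q1122, e3 q1123 L10291 q1123, e3 q1124 L10301 q1124, e3 q1125 L10309 q809, e3 q1126 L10324 q1126, e3 q1127 L10331 q810, e3 q1128 L10341 q811,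 e3 q1129 L10351 q812, e3 q1130 L10365 q1130, e3 q1131 L10374 q813, e3 q1132 L10384 q1132, e3 q1133 L10390 q814, e3 q1134 L10398 q815, e3 q1135 L10407 q816, e3 q1136 L14881 q1578, e3 q1137 (flp_f L14747) q1564, e3 q1138 (flp_f L14765) q1566, e3 q1139 (flp_f L14774) q1567, e3 q1140 (flp_f L14784) q1568, e3 q1141 L14949 q1584, e3 q1142 (flp_f L14842) q1573, e3 q1143 (flp_f L14852) q1574, e3 q1144 L15003 q1588, e3 q1145 (flp_f L14869) q1576, e3 q1146 L15035 q1592, e3 q1147 (flp_f L10522) q817, e3 q1148 L15087 q1594, e3 q1149 L10559 q1149, e3 q1150 L15123 q1597, e3 q1151 (flp_f L10572) q820, trivial⟩ (by decide +kernel)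

theorem ce_f_18 : ∀ r, r < 64 → sm gf (Qf (1152 + r)) = Qf (tab Gen.f (1152 + r)) :=
  edges_tab (sm gf) Qf (tab Gen.f) 1152 [(1152, 1152), (1153, 1601), (1154, 1602), (1155, 822), (1156, 1593), (1157, 1157), (1158, 1608), (1159, 1159), (1160, 1612), (1161, 826), (1162, 1162), (1163, 1617), (1164, 828), (1165, 1165), (1166, 1621), (1167, 1622), (1168, 830), (1169, 839), (1170, 840), (1171, 1628), (1172, 1629), (1173, 833), (1174, 1618), (1175, 1634), (1176, 1636), (1177, 836), (1178, 837), (1179, 1641), (1180, 1624), (1181, 1625), (1182, 1645), (1183, 1647), (1184, 841), (1185, 842), (1186, 1652), (1187, 1187), (1188, 1188), (1189, 1655), (1190, 845), (1191, 1657), (1192, 846), (1193, 1193), (1194, 1194), (1195, 1195), (1196, 1196), (1197, 1197), (1198, 1665), (1199, 1666), (1200, 852), (1201, 1201), (1202, 1671), (1203, 1673), (1204, 855), (1205, 856), (1206, 1678), (1207, 864), (1208, 865), (1209, 1682), (1210, 859), (1211, 1684), (1212, 860), (1213, 1687), (1214, 1675), (1215, 1677)]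
    ⟨e3 q1152 L10585 q1152, e3 q1153 L15156 q1601, e3 q1154 L15163 q1602, e3 q1155 (flp_f L10604) q822, e3 q1156 (flp_f L15049) q1593, e3 q1157 L10625 q1157, e3 q1158 L15220 q1608, e3 q1159 L10646 q1159, e3 q1160 L15258 q1612, e3 q1161 (flp_f L10663) q826, e3 q1162 L10675 q1162, e3 q1163 L15306 q1617, e3 q1164 (flp_f L10692) q828, e3 q1165 L10703 q1165, e3 q1166 L15343 q1621, e3 q1167 L15350 q1622, e3 q1168 (flp_f L10725) q830, e3 q1169 L10741 q839, e3 q1170 L10746 q840, e3 q1171 L15403 q1628, e3 q1172 L15413 q1629, e3 q1173 (flp_f L10770) q833, e3 q1174 (flp_f L15324) q1618, e3 q1175 L15458 q1634, e3 q1176 L15473 q1636, e3 q1177 (flp_f L10806) q836, e3 q1178 (flp_f L10815) q837, e3 q1179 (flp_f L15514) q1641, e3 q1180 (flp_f L15374) q1624, e3 q1181 (flp_f L15381) q1625, e3 q1182 L15549 q1645, e3 q1183 L15567 q1647, e3 q1184 (flp_f L10869) q841, e3 q1185 (flp_f L10877) q842, e3 q1186 (flp_f L15617) q1652, e3 q1187 L10906 q1187, e3 q1188 L10912 q1188, e3 q1189 L15641 q1655, e3 q1190 (flp_f L10927) q845, e3 q1191 L15660 q1657,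 e3 q1192 (flp_f L10943) q846, e3 q1193 L10957 q1193, e3 q1194 L10965 q1194, e3 q1195 L10974 q1195, e3 q1196 L10981 q1196, e3 q1197 L10989 q1197, e3 q1198 L15728 q1665, e3 q1199 L15736 q1666, e3 q1200 (flp_f L11015) q852, e3 q1201 L11032 q1201, e3 q1202 L15786 q1671, e3 q1203 L15802 q1673, e3 q1204 (flp_f L11051) q855, e3 q1205 (flp_f L11057) q856, e3 q1206 (flp_f L15849) q1678, e3 q1207 L11082 q864, e3 q1208 L11090 q865, e3 q1209 L15879 q1682, e3 q1210 (flp_f L11103) q859, e3 q1211 L15908 q1684, e3 q1212 (flp_f L11120) q860, e3 q1213 (flp_f L15937) q1687, e3 q1214 (flp_f L15823) q1675, e3 q1215 (flp_f L15842) q1677, trivial⟩ (by decide +kernel)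

theorem ce_f_19 : ∀ r, r < 64 → sm gf (Qf (1216 + r)) = Qf (tab Gen.f (1216 + r)) :=
  edges_tab (sm gf) Qf (tab Gen.f) 1216 [(1216, 863), (1217, 1691), (1218, 1680), (1219, 1219), (1220, 1220), (1221, 1694), (1222, 1696), (1223, 870), (1224, 871), (1225, 1701), (1226, 1226), (1227, 1704), (1228, 874), (1229, 1705), (1230, 875), (1231, 1708), (1232, 1676), (1233, 878), (1234, 1710), (1235, 1235), (1236, 1236), (1237, 1237), (1238, 1715), (1239, 1239), (1240, 1240), (1241, 1241), (1242, 899), (1243, 1243), (1244, 900), (1245, 1245), (1246, 901), (1247, 902), (1248, 903), (1249, 1730), (1250, 1250), (1251, 1251), (1252, 1252), (1253, 1253), (1254, 905), (1255, 906), (1256, 1737), (1257, 908), (1258, 1740), (1259, 898), (1260, 1725), (1261, 1726), (1262, 1744), (1263, 1728), (1264, 1747), (1265, 904), (1266, 1749), (1267, 1751), (1268, 907), (1269, 1754), (1270, 1755), (1271, 909), (1272, 917), (1273, 911), (1274, 1760), (1275, 912), (1276, 1752), (1277, 1764), (1278, 914), (1279, 915)]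
    ⟨e3 q1216 L11158 q863, e3 q1217 (flp_f L15980) q1691, e3 q1218 (flp_f L15868) q1680, e3 q1219 L11188 q1219, e3 q1220 L11194 q1220, e3 q1221 L16004 q1694, e3 q1222 L16024 q1696, e3 q1223 (flp_f L11217) q870, e3 q1224 (flp_f L11227) q871, e3 q1225 (flp_f L16075) q1701, e3 q1226 L11255 q1226, e3 q1227 L16098 q1704, e3 q1228 (flp_f L11266) q874, e3 q1229 L16117 q1705, e3 q1230 (flp_f L11284) q875, e3 q1231 (flp_f L16143) q1708, e3 q1232 (flp_f L15832) q1676, e3 q1233 L11312 q878, e3 q1234 (flp_f L16169) q1710, e3 q1235 L11329 q1235, e3 q1236 L11347 q1236, e3 q1237 L11359 q1237, e3 q1238 L16242 q1715, e3 q1239 L11378 q1239, e3 q1240 L11387 q1240, e3 q1241 L11396 q1241, e3 q1242 L11404 q899, e3 q1243 L11418 q1243, e3 q1244 L11424 q900, e3 q1245 L11434 q1245, e3 q1246 L11440 q901, e3 q1247 L11448 q902, e3 q1248 L11456 q903, e3 q1249 L16390 q1730, e3 q1250 L11477 q1250, e3 q1251 L11490 q1251, e3 q1252 L11500 q1252, e3 q1253 L11515 q1253, e3 q1254 L11521 q905, e3 q1255 L11529 q906, e3 q1256 L16496 q1737, e3 q1257 L11545 q908,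 e3 q1258 L16524 q1740, e3 q1259 (flp_f L11556) q898, e3 q1260 (flp_f L16350) q1725, e3 q1261 (flp_f L16359) q1726, e3 q1262 L16593 q1744, e3 q1263 (flp_f L16377) q1728, e3 q1264 L16627 q1747, e3 q1265 (flp_f L11626) q904, e3 q1266 L16682 q1749, e3 q1267 L16715 q1751, e3 q1268 (flp_f L11682) q907, e3 q1269 L16745 q1754, e3 q1270 L16751 q1755, e3 q1271 (flp_f L11711) q909, e3 q1272 L11722 q917, e3 q1273 (flp_f L11763) q911, e3 q1274 L16883 q1760, e3 q1275 (flp_f L11796) q912, e3 q1276 (flp_f L16728) q1752, e3 q1277 L16935 q1764, e3 q1278 (flp_f L11825) q914, e3 q1279 (flp_f L11833) q915, trivial⟩ (by decide +kernel)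

theorem ce_f_20 : ∀ r, r < 64 → sm gf (Qf (1280 + r)) = Qf (tab Gen.f (1280 + r)) :=
  edges_tab (sm gf) Qf (tab Gen.f) 1280 [(1280, 1769), (1281, 1757), (1282, 1758), (1283, 1283), (1284, 1774), (1285, 919), (1286, 1286), (1287, 1778), (1288, 1779), (1289, 921), (1290, 1290), (1291, 1291), (1292, 1785), (1293, 1786), (1294, 924), (1295, 935), (1296, 1791), (1297, 1792), (1298, 927), (1299, 928), (1300, 1796), (1301, 941), (1302, 942), (1303, 1799), (1304, 1800), (1305, 932), (1306, 933), (1307, 1804), (1308, 1788), (1309, 1789), (1310, 1806), (1311, 936), (1312, 937), (1313, 1793), (1314, 1314), (1315, 1795), (1316, 940), (1317, 1797), (1318, 1816), (1319, 943), (1320, 1819), (1321, 944), (1322, 1823), (1323, 1323), (1324, 1324), (1325, 1325), (1326, 947), (1327, 1327), (1328, 1830), (1329, 950), (1330, 1330), (1331, 952), (1332, 1332), (1333, 1333), (1334, 1334), (1335, 1838), (1336, 1336), (1337, 1841), (1338, 1842), (1339, 959), (1340, 960), (1341, 1846), (1342, 1342), (1343, 1343)]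
    ⟨e3 q1280 (flp_f L16973) q1769, e3 q1281 (flp_f L16770) q1757, e3 q1282 (flp_f L16777) q1758, e3 q1283 L11864 q1283, e3 q1284 L17021 q1774, e3 q1285 (flp_f L11882) q919, e3 q1286 L11895 q1286, e3 q1287 L17057 q1778, e3 q1288 L17067 q1779, e3 q1289 (flp_f L11917) q921, e3 q1290 L11932 q1290, e3 q1291 L11937 q1291, e3 q1292 L17117 q1785, e3 q1293 L17126 q1786, e3 q1294 (flp_f L11960) q924, e3 q1295 L11975 q935, e3 q1296 L17164 q1791, e3 q1297 L17178 q1792, e3 q1298 (flp_f L11993) q927, e3 q1299 (flp_f L12001) q928, e3 q1300 (flp_f L17215) q1796, e3 q1301 L12019 q941, e3 q1302 L12025 q942, e3 q1303 L17243 q1799, e3 q1304 L17261 q1800, e3 q1305 (flp_f L12046) q932, e3 q1306 (flp_f L12057) q933, e3 q1307 (flp_f L17303) q1804, e3 q1308 (flp_f L17146) q1788, e3 q1309 (flp_f L17152) q1789, e3 q1310 L17331 q1806, e3 q1311 (flp_f L12093) q936, e3 q1312 (flp_f L12108) q937, e3 q1313 (flp_f L17201) q1793, e3 q1314 L12137 q1314, e3 q1315 (flp_f L17211) q1795, e3 q1316 L12144 q940, e3 q1317 (flp_f L17231) q1797, e3 q1318 L17449 q1816,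 e3 q1319 (flp_f L12173) q943, e3 q1320 L17476 q1819, e3 q1321 (flp_f L12191) q944, e3 q1322 (flp_f L17515) q1823, e3 q1323 L12217 q1323, e3 q1324 L12224 q1324, e3 q1325 L12232 q1325, e3 q1326 L12236 q947, e3 q1327 L12245 q1327, e3 q1328 L17570 q1830, e3 q1329 (flp_f L12259) q950, e3 q1330 L12274 q1330, e3 q1331 (flp_f L12275) q952, e3 q1332 L12289 q1332, e3 q1333 L12297 q1333, e3 q1334 L12303 q1334, e3 q1335 L17635 q1838, e3 q1336 L12318 q1336, e3 q1337 L17658 q1841, e3 q1338 L17677 q1842, e3 q1339 (flp_f L12340) q959, e3 q1340 (flp_f L12349) q960, e3 q1341 (flp_f L17722) q1846, e3 q1342 L12371 q1342, e3 q1343 L12377 q1343, trivial⟩ (by decide +kernel)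

theorem ce_f_21 : ∀ r, r < 64 → sm gf (Qf (1344 + r)) = Qf (tab Gen.f (1344 + r)) :=
  edges_tab (sm gf) Qf (tab Gen.f) 1344 [(1344, 1848), (1345, 963), (1346, 964), (1347, 973), (1348, 988), (1349, 974), (1350, 967), (1351, 976), (1352, 970), (1353, 1849), (1354, 1851), (1355, 1852), (1356, 1855), (1357, 1856), (1358, 1358), (1359, 1861), (1360, 979), (1361, 980), (1362, 1362), (1363, 1844), (1364, 1364), (1365, 983), (1366, 985), (1367, 1850), (1368, 1854), (1369, 990), (1370, 1370), (1371, 1371), (1372, 1372), (1373, 1873), (1374, 1374), (1375, 1375), (1376, 1376), (1377, 1377), (1378, 1378), (1379, 1379), (1380, 1380), (1381, 1003), (1382, 1004), (1383, 1881), (1384, 1882), (1385, 1385), (1386, 1888), (1387, 1387), (1388, 1388), (1389, 1011), (1390, 1012), (1391, 1013), (1392, 1014), (1393, 1891), (1394, 1892), (1395, 1893), (1396, 1894), (1397, 1903), (1398, 1398), (1399, 1906), (1400, 1400), (1401, 1910), (1402, 1017), (1403, 1403), (1404, 1404), (1405, 1405), (1406, 1917), (1407, 1407)]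
    ⟨e3 q1344 L17754 q1848, e3 q1345 (flp_f L12390) q963, e3 q1346 (flp_f L12406) q964, e3 q1347 L12428 q973, e3 q1348 L12435 q988, e3 q1349 L12443 q974, e3 q1350 L12448 q967, e3 q1351 L12463 q976, e3 q1352 (flp_f L12475) q970, e3 q1353 (flp_f L17776) q1849, e3 q1354 (flp_f L17809) q1851, e3 q1355 (flp_f L17832) q1852, e3 q1356 (flp_f L17855) q1855, e3 q1357 (flp_f L17861) q1856, e3 q1358 L12577 q1358, e3 q1359 L18011 q1861, e3 q1360 (flp_f L12588) q979, e3 q1361 (flp_f L12608) q980, e3 q1362 L12634 q1362, e3 q1363 (flp_f L17710) q1844, e3 q1364 L12649 q1364, e3 q1365 L12654 q983, e3 q1366 (flp_f L12676) q985, e3 q1367 (flp_f L17800) q1850, e3 q1368 (flp_f L17848) q1854, e3 q1369 (flp_f L12793) q990, e3 q1370 L12821 q1370, e3 q1371 L12848 q1371, e3 q1372 L12856 q1372, e3 q1373 L18421 q1873, e3 q1374 L12892 q1374, e3 q1375 L12899 q1375, e3 q1376 L12947 q1376, e3 q1377 L13018 q1377, e3 q1378 L13079 q1378, e3 q1379 L13089 q1379, e3 q1380 L13099 q1380, e3 q1381 L13108 q1003, e3 q1382 L13117 q1004, e3 q1383 (flp_f L18720) q1881,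 e3 q1384 (flp_f L18729) q1882, e3 q1385 L13143 q1385, e3 q1386 L18782 q1888, e3 q1387 L13165 q1387, e3 q1388 L13177 q1388, e3 q1389 L13189 q1011, e3 q1390 L13200 q1012, e3 q1391 L13211 q1013, e3 q1392 L13220 q1014, e3 q1393 (flp_f L18822) q1891, e3 q1394 (flp_f L18832) q1892, e3 q1395 (flp_f L18840) q1893, e3 q1396 (flp_f L18849) q1894, e3 q1397 L18922 q1903, e3 q1398 L13270 q1398, e3 q1399 L18947 q1906, e3 q1400 L13291 q1400, e3 q1401 L18980 q1910, e3 q1402 (flp_f L13300) q1017, e3 q1403 L13314 q1403, e3 q1404 L13323 q1404, e3 q1405 L13332 q1405, e3 q1406 L19044 q1917, e3 q1407 L13351 q1407, trivial⟩ (by decide +kernel)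

theorem ce_f_22 : ∀ r, r < 64 → sm gf (Qf (1408 + r)) = Qf (tab Gen.f (1408 + r)) :=
  edges_tab (sm gf) Qf (tab Gen.f) 1408 [(1408, 1408), (1409, 1922), (1410, 1410), (1411, 1926), (1412, 1024), (1413, 1032), (1414, 1930), (1415, 1034), (1416, 1934), (1417, 1027), (1418, 1037), (1419, 1938), (1420, 1939), (1421, 1029), (1422, 1927), (1423, 1423), (1424, 1945), (1425, 1928), (1426, 1949), (1427, 1033), (1428, 1931), (1429, 1953), (1430, 1954), (1431, 1035), (1432, 1432), (1433, 1959), (1434, 1961), (1435, 1038), (1436, 1039), (1437, 1966), (1438, 1438), (1439, 1439), (1440, 1440), (1441, 1441), (1442, 1442), (1443, 1443), (1444, 1051), (1445, 1052), (1446, 1053), (1447, 1447), (1448, 1054), (1449, 1055), (1450, 1056), (1451, 1984), (1452, 1974), (1453, 1975), (1454, 1976), (1455, 1990), (1456, 1979), (1457, 1980), (1458, 1995), (1459, 1982), (1460, 1999), (1461, 1057), (1462, 1462), (1463, 2002), (1464, 1464), (1465, 2005), (1466, 1060), (1467, 1467), (1468, 2009), (1469, 2010), (1470, 1062), (1471, 2000)]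
    ⟨e3 q1408 L13360 q1408, e3 q1409 L19091 q1922, e3 q1410 L13379 q1410, e3 q1411 L19123 q1926, e3 q1412 (flp_f L13392) q1024, e3 q1413 L13401 q1032, e3 q1414 L19157 q1930, e3 q1415 L13421 q1034, e3 q1416 L19195 q1934, e3 q1417 (flp_f L13435) q1027, e3 q1418 L13449 q1037, e3 q1419 L19228 q1938, e3 q1420 L19237 q1939, e3 q1421 (flp_f L13467) q1029, e3 q1422 (flp_f L19136) q1927, e3 q1423 L13486 q1423, e3 q1424 L19284 q1945, e3 q1425 (flp_f L19141) q1928, e3 q1426 L19321 q1949, e3 q1427 (flp_f L13521) q1033, e3 q1428 (flp_f L19173) q1931, e3 q1429 L19358 q1953, e3 q1430 L19366 q1954, e3 q1431 (flp_f L13558) q1035, e3 q1432 L13573 q1432, e3 q1433 L19409 q1959, e3 q1434 L19425 q1961, e3 q1435 (flp_f L13591) q1038, e3 q1436 (flp_f L13598) q1039, e3 q1437 (flp_f L19466) q1966, e3 q1438 L13620 q1438, e3 q1439 L13626 q1439, e3 q1440 L13634 q1440, e3 q1441 L13646 q1441, e3 q1442 L13656 q1442, e3 q1443 L13670 q1443, e3 q1444 L13679 q1051, e3 q1445 L13689 q1052, e3 q1446 L13700 q1053, e3 q1447 L13714 q1447, e3 q1448 L13722 q1054, e3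 q1449 L13731 q1055, e3 q1450 L13739 q1056, e3 q1451 L19637 q1984, e3 q1452 (flp_f L19550) q1974, e3 q1453 (flp_f L19560) q1975, e3 q1454 (flp_f L19569) q1976, e3 q1455 L19694 q1990, e3 q1456 (flp_f L19599) q1979, e3 q1457 (flp_f L19608) q1980, e3 q1458 L19741 q1995, e3 q1459 (flp_f L19624) q1982, e3 q1460 L19774 q1999, e3 q1461 (flp_f L13833) q1057, e3 q1462 L13844 q1462, e3 q1463 L19809 q2002, e3 q1464 L13862 q1464, e3 q1465 L19846 q2005, e3 q1466 (flp_f L13876) q1060, e3 q1467 L13891 q1467, e3 q1468 L19879 q2009, e3 q1469 L19888 q2010, e3 q1470 (flp_f L13909) q1062, e3 q1471 (flp_f L19788) q2000, trivial⟩ (by decide +kernel)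

theorem ce_f_23 : ∀ r, r < 64 → sm gf (Qf (1472 + r)) = Qf (tab Gen.f (1472 + r)) :=
  edges_tab (sm gf) Qf (tab Gen.f) 1472 [(1472, 1472), (1473, 2016), (1474, 1474), (1475, 2020), (1476, 1066), (1477, 1477), (1478, 2025), (1479, 1068), (1480, 1480), (1481, 2029), (1482, 2030), (1483, 1070), (1484, 1079), (1485, 1080), (1486, 2036), (1487, 2037), (1488, 1073), (1489, 2026), (1490, 2042), (1491, 2044), (1492, 1076), (1493, 1077), (1494, 2049), (1495, 2032), (1496, 2033), (1497, 2053), (1498, 2055), (1499, 1081), (1500, 1082), (1501, 2060), (1502, 1502), (1503, 1503), (1504, 2064), (1505, 1085), (1506, 2067), (1507, 1086), (1508, 2071), (1509, 1509), (1510, 1964), (1511, 1511), (1512, 1089), (1513, 2078), (1514, 1514), (1515, 1515), (1516, 2081), (1517, 2082), (1518, 1093), (1519, 1519), (1520, 2087), (1521, 2089), (1522, 1096), (1523, 1097), (1524, 2094), (1525, 1105), (1526, 1106), (1527, 2098), (1528, 1100), (1529, 2101), (1530, 1101), (1531, 2105), (1532, 2091), (1533, 1533), (1534, 2093), (1535, 1104)]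
    ⟨e3 q1472 L13929 q1472, e3 q1473 L19942 q2016, e3 q1474 L13949 q1474, e3 q1475 L19981 q2020, e3 q1476 (flp_f L13967) q1066, e3 q1477 L13979 q1477, e3 q1478 L20029 q2025, e3 q1479 (flp_f L13997) q1068, e3 q1480 L14010 q1480, e3 q1481 L20066 q2029, e3 q1482 L20075 q2030, e3 q1483 (flp_f L14031) q1070, e3 q1484 L14047 q1079, e3 q1485 L14053 q1080, e3 q1486 L20125 q2036, e3 q1487 L20137 q2037, e3 q1488 (flp_f L14076) q1073, e3 q1489 (flp_f L20047) q2026, e3 q1490 L20177 q2042, e3 q1491 L20194 q2044, e3 q1492 (flp_f L14112) q1076, e3 q1493 (flp_f L14123) q1077, e3 q1494 (flp_f L20232) q2049, e3 q1495 (flp_f L20095) q2032, e3 q1496 (flp_f L20103) q2033, e3 q1497 L20262 q2053, e3 q1498 L20282 q2055, e3 q1499 (flp_f L14174) q1081, e3 q1500 (flp_f L14184) q1082, e3 q1501 (flp_f L20328) q2060, e3 q1502 L14208 q1502, e3 q1503 L14215 q1503, e3 q1504 L20359 q2064, e3 q1505 (flp_f L14227) q1085, e3 q1506 L20386 q2067, e3 q1507 (flp_f L14244) q1086, e3 q1508 (flp_f L20418) q2071, e3 q1509 L14267 q1509, e3 q1510 (flp_f L19453) q1964,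 e3 q1511 L14279 q1511, e3 q1512 L14284 q1089, e3 q1513 (flp_f L20477) q2078, e3 q1514 L14302 q1514, e3 q1515 L14311 q1515, e3 q1516 L20500 q2081, e3 q1517 L20510 q2082, e3 q1518 (flp_f L14336) q1093, e3 q1519 L14353 q1519, e3 q1520 L20555 q2087, e3 q1521 L20573 q2089, e3 q1522 (flp_f L14372) q1096, e3 q1523 (flp_f L14380) q1097, e3 q1524 (flp_f L20617) q2094, e3 q1525 L14401 q1105, e3 q1526 L14410 q1106, e3 q1527 L20645 q2098, e3 q1528 (flp_f L14421) q1100, e3 q1529 L20671 q2101, e3 q1530 (flp_f L14440) q1101, e3 q1531 (flp_f L20707) q2105, e3 q1532 (flp_f L20595) q2091, e3 q1533 L14471 q1533, e3 q1534 (flp_f L20611) q2093, e3 q1535 L14483 q1104, trivial⟩ (by decide +kernel)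

theorem ce_f_24 : ∀ r, r < 64 → sm gf (Qf (1536 + r)) = Qf (tab Gen.f (1536 + r)) :=
  edges_tab (sm gf) Qf (tab Gen.f) 1536 [(1536, 2112), (1537, 2096), (1538, 1107), (1539, 2115), (1540, 1540), (1541, 1541), (1542, 1542), (1543, 1110), (1544, 2122), (1545, 1545), (1546, 2123), (1547, 1547), (1548, 1548), (1549, 1549), (1550, 1115), (1551, 1117), (1552, 2130), (1553, 2131), (1554, 1554), (1555, 1555), (1556, 1556), (1557, 1557), (1558, 1558), (1559, 2140), (1560, 1560), (1561, 1561), (1562, 1562), (1563, 1563), (1564, 1137), (1565, 1565), (1566, 1138), (1567, 1139), (1568, 1140), (1569, 2154), (1570, 1570), (1571, 1571), (1572, 1572), (1573, 1142), (1574, 1143), (1575, 2161), (1576, 1145), (1577, 2165), (1578, 1136), (1579, 2149), (1580, 2150), (1581, 2170), (1582, 2152), (1583, 2174), (1584, 1141), (1585, 2176), (1586, 2159), (1587, 2179), (1588, 1144), (1589, 2162), (1590, 2183), (1591, 2184), (1592, 1146), (1593, 1156), (1594, 1148), (1595, 2190), (1596, 2191), (1597, 1150), (1598, 2180), (1599, 2195)]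
    ⟨e3 q1536 (flp_f L20762) q2112, e3 q1537 (flp_f L20633) q2096, e3 q1538 (flp_f L14502) q1107, e3 q1539 (flp_f L20791) q2115, e3 q1540 L14529 q1540, e3 q1541 L14537 q1541, e3 q1542 L14546 q1542, e3 q1543 L14552 q1110, e3 q1544 (flp_f L20854) q2122, e3 q1545 L14570 q1545, e3 q1546 L20858 q2123, e3 q1547 L14588 q1547, e3 q1548 L14597 q1548, e3 q1549 L14605 q1549, e3 q1550 L14613 q1115, e3 q1551 (flp_f L14617) q1117, e3 q1552 (flp_f L20923) q2130, e3 q1553 (flp_f L20931) q2131, e3 q1554 L14646 q1554, e3 q1555 L14656 q1555, e3 q1556 L14663 q1556, e3 q1557 L14673 q1557, e3 q1558 L14681 q1558, e3 q1559 L21009 q2140, e3 q1560 L14703 q1560, e3 q1561 L14713 q1561, e3 q1562 L14723 q1562, e3 q1563 L14738 q1563, e3 q1564 L14747 q1137, e3 q1565 L14758 q1565, e3 q1566 L14765 q1138, e3 q1567 L14774 q1139, e3 q1568 L14784 q1140, e3 q1569 L21158 q2154, e3 q1570 L14803 q1570, e3 q1571 L14816 q1571, e3 q1572 L14835 q1572, e3 q1573 L14842 q1142, e3 q1574 L14852 q1143, e3 q1575 L21254 q2161, e3 q1576 L14869 q1145, e3 q1577 L21285 q2165, e3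 q1578 (flp_f L14881) q1136, e3 q1579 (flp_f L21114) q2149, e3 q1580 (flp_f L21125) q2150, e3 q1581 L21353 q2170, e3 q1582 (flp_f L21144) q2152, e3 q1583 L21390 q2174, e3 q1584 (flp_f L14949) q1141, e3 q1585 L21445 q2176, e3 q1586 (flp_f L21240) q2159, e3 q1587 L21481 q2179, e3 q1588 (flp_f L15003) q1144, e3 q1589 (flp_f L21266) q2162, e3 q1590 L21515 q2183, e3 q1591 L21520 q2184, e3 q1592 (flp_f L15035) q1146, e3 q1593 L15049 q1156, e3 q1594 (flp_f L15087) q1148, e3 q1595 L21645 q2190, e3 q1596 L21653 q2191, e3 q1597 (flp_f L15123) q1150, e3 q1598 (flp_f L21497) q2180, e3 q1599 L21699 q2195, trivial⟩ (by decide +kernel)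

theorem ce_f_25 : ∀ r, r < 64 → sm gf (Qf (1600 + r)) = Qf (tab Gen.f (1600 + r)) :=
  edges_tab (sm gf) Qf (tab Gen.f) 1600 [(1600, 2197), (1601, 1153), (1602, 1154), (1603, 2202), (1604, 2186), (1605, 2187), (1606, 1606), (1607, 2208), (1608, 1158), (1609, 1609), (1610, 2212), (1611, 2213), (1612, 1160), (1613, 1613), (1614, 1614), (1615, 2219), (1616, 2220), (1617, 1163), (1618, 1174), (1619, 2225), (1620, 2227), (1621, 1166), (1622, 1167), (1623, 2232), (1624, 1180), (1625, 1181), (1626, 2236), (1627, 2238), (1628, 1171), (1629, 1172), (1630, 2243), (1631, 2222), (1632, 2223), (1633, 2247), (1634, 1175), (1635, 2249), (1636, 1176), (1637, 2253), (1638, 2229), (1639, 1639), (1640, 2231), (1641, 1179), (1642, 2259), (1643, 2234), (1644, 2261), (1645, 1182), (1646, 2264), (1647, 1183), (1648, 2268), (1649, 1649), (1650, 1650), (1651, 1651), (1652, 1186), (1653, 1653), (1654, 2275), (1655, 1189), (1656, 1656), (1657, 1191), (1658, 1658), (1659, 1659), (1660, 1660), (1661, 2283), (1662, 1662), (1663, 2286)]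
    ⟨e3 q1600 L21714 q2197, e3 q1601 (flp_f L15156) q1153, e3 q1602 (flp_f L15163) q1154, e3 q1603 (flp_f L21757) q2202, e3 q1604 (flp_f L21545) q2186, e3 q1605 (flp_f L21553) q2187, e3 q1606 L15201 q1606, e3 q1607 L21811 q2208, e3 q1608 (flp_f L15220) q1158, e3 q1609 L15233 q1609, e3 q1610 L21851 q2212, e3 q1611 L21860 q2213, e3 q1612 (flp_f L15258) q1160, e3 q1613 L15276 q1613, e3 q1614 L15280 q1614, e3 q1615 L21918 q2219, e3 q1616 L21926 q2220, e3 q1617 (flp_f L15306) q1163, e3 q1618 L15324 q1174, e3 q1619 L21973 q2225, e3 q1620 L21987 q2227, e3 q1621 (flp_f L15343) q1166, e3 q1622 (flp_f L15350) q1167, e3 q1623 (flp_f L22029) q2232, e3 q1624 L15374 q1180, e3 q1625 L15381 q1181, e3 q1626 L22063 q2236, e3 q1627 L22081 q2238, e3 q1628 (flp_f L15403) q1171, e3 q1629 (flp_f L15413) q1172, e3 q1630 (flp_f L22128) q2243, e3 q1631 (flp_f L21952) q2222, e3 q1632 (flp_f L21959) q2223, e3 q1633 L22159 q2247, e3 q1634 (flp_f L15458) q1175, e3 q1635 L22188 q2249, e3 q1636 (flp_f L15473) q1176, e3 q1637 (flp_f L22217) q2253, e3 q1638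 (flp_f L22009) q2229, e3 q1639 L15503 q1639, e3 q1640 (flp_f L22023) q2231, e3 q1641 L15514 q1179, e3 q1642 (flp_f L22277) q2259, e3 q1643 (flp_f L22049) q2234, e3 q1644 L22289 q2261, e3 q1645 (flp_f L15549) q1182, e3 q1646 L22321 q2264, e3 q1647 (flp_f L15567) q1183, e3 q1648 (flp_f L22359) q2268, e3 q1649 L15592 q1649, e3 q1650 L15601 q1650, e3 q1651 L15611 q1651, e3 q1652 L15617 q1186, e3 q1653 L15628 q1653, e3 q1654 L22422 q2275, e3 q1655 (flp_f L15641) q1189, e3 q1656 L15659 q1656, e3 q1657 (flp_f L15660) q1191, e3 q1658 L15673 q1658, e3 q1659 L15681 q1659, e3 q1660 L15686 q1660, e3 q1661 L22490 q2283, e3 q1662 L15705 q1662, e3 q1663 L22519 q2286, trivial⟩ (by decide +kernel)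

theorem ce_f_26 : ∀ r, r < 64 → sm gf (Qf (1664 + r)) = Qf (tab Gen.f (1664 + r)) :=
  edges_tab (sm gf) Qf (tab Gen.f) 1664 [(1664, 2288), (1665, 1198), (1666, 1199), (1667, 2293), (1668, 1668), (1669, 1669), (1670, 2297), (1671, 1202), (1672, 2299), (1673, 1203), (1674, 2303), (1675, 1214), (1676, 1232), (1677, 1215), (1678, 1206), (1679, 2309), (1680, 1218), (1681, 2310), (1682, 1209), (1683, 2298), (1684, 1211), (1685, 2314), (1686, 2302), (1687, 1213), (1688, 2304), (1689, 2307), (1690, 2308), (1691, 1217), (1692, 1692), (1693, 2321), (1694, 1221), (1695, 2323), (1696, 1222), (1697, 2327), (1698, 1698), (1699, 2291), (1700, 1700), (1701, 1225), (1702, 2331), (1703, 2332), (1704, 1227), (1705, 1229), (1706, 2335), (1707, 2301), (1708, 1231), (1709, 2306), (1710, 1234), (1711, 1711), (1712, 1712), (1713, 2343), (1714, 1714), (1715, 1238), (1716, 2345), (1717, 1717), (1718, 1718), (1719, 1719), (1720, 2352), (1721, 1721), (1722, 1722), (1723, 1723), (1724, 1724), (1725, 1260), (1726, 1261), (1727, 2359)]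
    ⟨e3 q1664 L22538 q2288, e3 q1665 (flp_f L15728) q1198, e3 q1666 (flp_f L15736) q1199, e3 q1667 (flp_f L22588) q2293, e3 q1668 L15764 q1668, e3 q1669 L15771 q1669, e3 q1670 L22623 q2297, e3 q1671 (flp_f L15786) q1202, e3 q1672 L22652 q2299, e3 q1673 (flp_f L15802) q1203, e3 q1674 (flp_f L22688) q2303, e3 q1675 L15823 q1214, e3 q1676 L15832 q1232, e3 q1677 L15842 q1215, e3 q1678 L15849 q1206, e3 q1679 (flp_f L22750) q2309, e3 q1680 L15868 q1218, e3 q1681 L22762 q2310, e3 q1682 (flp_f L15879) q1209, e3 q1683 (flp_f L22650) q2298, e3 q1684 (flp_f L15908) q1211, e3 q1685 (flp_f L22833) q2314, e3 q1686 (flp_f L22682) q2302, e3 q1687 L15937 q1213, e3 q1688 (flp_f L22704) q2304, e3 q1689 (flp_f L22733) q2307, e3 q1690 (flp_f L22741) q2308, e3 q1691 L15980 q1217, e3 q1692 L15991 q1692, e3 q1693 L22901 q2321, e3 q1694 (flp_f L16004) q1221, e3 q1695 L22934 q2323, e3 q1696 (flp_f L16024) q1222, e3 q1697 (flp_f L22972) q2327, e3 q1698 L16049 q1698, e3 q1699 (flp_f L22572) q2291, e3 q1700 L16068 q1700, e3 q1701 L16075 q1225, e3 q1702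 (flp_f L23021) q2331, e3 q1703 L23035 q2332, e3 q1704 (flp_f L16098) q1227, e3 q1705 (flp_f L16117) q1229, e3 q1706 (flp_f L23093) q2335, e3 q1707 (flp_f L22673) q2301, e3 q1708 L16143 q1231, e3 q1709 (flp_f L22724) q2306, e3 q1710 L16169 q1234, e3 q1711 L16203 q1711, e3 q1712 L16218 q1712, e3 q1713 L23211 q2343, e3 q1714 L16238 q1714, e3 q1715 (flp_f L16242) q1238, e3 q1716 (flp_f L23242) q2345, e3 q1717 L16262 q1717, e3 q1718 L16270 q1718, e3 q1719 L16278 q1719, e3 q1720 L23300 q2352, e3 q1721 L16301 q1721, e3 q1722 L16315 q1722, e3 q1723 L16326 q1723, e3 q1724 L16343 q1724, e3 q1725 L16350 q1260, e3 q1726 L16359 q1261, e3 q1727 L23416 q2359, trivial⟩ (by decide +kernel)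

theorem ce_f_27 : ∀ r, r < 64 → sm gf (Qf (1728 + r)) = Qf (tab Gen.f (1728 + r)) :=
  edges_tab (sm gf) Qf (tab Gen.f) 1728 [(1728, 1263), (1729, 2362), (1730, 1249), (1731, 1731), (1732, 1732), (1733, 1733), (1734, 1734), (1735, 2367), (1736, 2369), (1737, 1256), (1738, 2372), (1739, 2373), (1740, 1258), (1741, 1741), (1742, 2377), (1743, 2379), (1744, 1262), (1745, 2382), (1746, 2383), (1747, 1264), (1748, 1748), (1749, 1266), (1750, 2388), (1751, 1267), (1752, 1276), (1753, 2392), (1754, 1269), (1755, 1270), (1756, 2397), (1757, 1281), (1758, 1282), (1759, 2387), (1760, 1274), (1761, 2389), (1762, 2390), (1763, 2403), (1764, 1277), (1765, 2406), (1766, 2394), (1767, 1767), (1768, 2396), (1769, 1280), (1770, 2398), (1771, 1771), (1772, 2414), (1773, 2415), (1774, 1284), (1775, 1775), (1776, 2420), (1777, 2421), (1778, 1287), (1779, 1288), (1780, 2425), (1781, 1781), (1782, 1782), (1783, 2428), (1784, 2429), (1785, 1292), (1786, 1293), (1787, 2433), (1788, 1308), (1789, 1309), (1790, 2435), (1791, 1296)]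
    ⟨e3 q1728 L16377 q1263, e3 q1729 L23449 q2362, e3 q1730 (flp_f L16390) q1249, e3 q1731 L16404 q1731, e3 q1732 L16431 q1732, e3 q1733 L16440 q1733, e3 q1734 L16461 q1734, e3 q1735 L23576 q2367, e3 q1736 L23608 q2369, e3 q1737 (flp_f L16496) q1256, e3 q1738 L23638 q2372, e3 q1739 L23646 q2373, e3 q1740 (flp_f L16524) q1258, e3 q1741 L16538 q1741, e3 q1742 L23719 q2377, e3 q1743 L23757 q2379, e3 q1744 (flp_f L16593) q1262, e3 q1745 L23790 q2382, e3 q1746 L23798 q2383, e3 q1747 (flp_f L16627) q1264, e3 q1748 L16640 q1748, e3 q1749 (flp_f L16682) q1266, e3 q1750 L23934 q2388, e3 q1751 (flp_f L16715) q1267, e3 q1752 L16728 q1276, e3 q1753 L23987 q2392, e3 q1754 (flp_f L16745) q1269, e3 q1755 (flp_f L16751) q1270, e3 q1756 (flp_f L24026) q2397, e3 q1757 L16770 q1281, e3 q1758 L16777 q1282, e3 q1759 (flp_f L23907) q2387, e3 q1760 (flp_f L16883) q1274, e3 q1761 (flp_f L23955) q2389, e3 q1762 (flp_f L23962) q2390, e3 q1763 L24279 q2403, e3 q1764 (flp_f L16935) q1277, e3 q1765 (flp_f L24312) q2406, e3 q1766 (flp_f L24007) q2394,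 e3 q1767 L16962 q1767, e3 q1768 (flp_f L24020) q2396, e3 q1769 L16973 q1280, e3 q1770 (flp_f L24041) q2398, e3 q1771 L16995 q1771, e3 q1772 L24389 q2414, e3 q1773 L24400 q2415, e3 q1774 (flp_f L17021) q1284, e3 q1775 L17038 q1775, e3 q1776 L24442 q2420, e3 q1777 L24459 q2421, e3 q1778 (flp_f L17057) q1287, e3 q1779 (flp_f L17067) q1288, e3 q1780 (flp_f L24499) q2425, e3 q1781 L17088 q1781, e3 q1782 L17093 q1782, e3 q1783 L24532 q2428, e3 q1784 L24549 q2429, e3 q1785 (flp_f L17117) q1292, e3 q1786 (flp_f L17126) q1293, e3 q1787 (flp_f L24592) q2433, e3 q1788 L17146 q1308, e3 q1789 L17152 q1309, e3 q1790 L24621 q2435, e3 q1791 (flp_f L17164) q1296, trivial⟩ (by decide +kernel)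

theorem ce_f_28 : ∀ r, r < 64 → sm gf (Qf (1792 + r)) = Qf (tab Gen.f (1792 + r)) :=
  edges_tab (sm gf) Qf (tab Gen.f) 1792 [(1792, 1297), (1793, 1313), (1794, 1794), (1795, 1315), (1796, 1300), (1797, 1317), (1798, 2444), (1799, 1303), (1800, 1304), (1801, 2430), (1802, 1802), (1803, 2432), (1804, 1307), (1805, 2434), (1806, 1310), (1807, 2436), (1808, 1808), (1809, 2438), (1810, 2439), (1811, 2458), (1812, 1812), (1813, 2442), (1814, 2443), (1815, 2463), (1816, 1318), (1817, 2467), (1818, 1818), (1819, 1320), (1820, 2471), (1821, 1821), (1822, 1822), (1823, 1322), (1824, 1824), (1825, 2477), (1826, 1826), (1827, 1827), (1828, 1828), (1829, 2482), (1830, 1328), (1831, 1831), (1832, 1832), (1833, 1833), (1834, 1834), (1835, 1835), (1836, 2490), (1837, 1837), (1838, 1335), (1839, 2492), (1840, 2493), (1841, 1337), (1842, 1338), (1843, 1843), (1844, 1363), (1845, 1845), (1846, 1341), (1847, 1847), (1848, 1344), (1849, 1353), (1850, 1367), (1851, 1354), (1852, 1355), (1853, 1853), (1854, 1368), (1855, 1356)]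
    ⟨e3 q1792 (flp_f L17178) q1297, e3 q1793 L17201 q1313, e3 q1794 L17206 q1794, e3 q1795 L17211 q1315, e3 q1796 L17215 q1300, e3 q1797 L17231 q1317, e3 q1798 L24738 q2444, e3 q1799 (flp_f L17243) q1303, e3 q1800 (flp_f L17261) q1304, e3 q1801 (flp_f L24574) q2430, e3 q1802 L17294 q1802, e3 q1803 (flp_f L24588) q2432, e3 q1804 L17303 q1307, e3 q1805 (flp_f L24608) q2434, e3 q1806 (flp_f L17331) q1310, e3 q1807 (flp_f L24644) q2436, e3 q1808 L17374 q1808, e3 q1809 (flp_f L24670) q2438, e3 q1810 (flp_f L24695) q2439, e3 q1811 L24991 q2458, e3 q1812 L17418 q1812, e3 q1813 (flp_f L24713) q2442, e3 q1814 (flp_f L24717) q2443, e3 q1815 L25039 q2463, e3 q1816 (flp_f L17449) q1318, e3 q1817 (flp_f L25080) q2467, e3 q1818 L17475 q1818, e3 q1819 (flp_f L17476) q1320, e3 q1820 (flp_f L25118) q2471, e3 q1821 L17501 q1821, e3 q1822 L17510 q1822, e3 q1823 L17515 q1322, e3 q1824 L17525 q1824, e3 q1825 L25166 q2477, e3 q1826 L17542 q1826, e3 q1827 L17550 q1827, e3 q1828 L17557 q1828, e3 q1829 L25204 q2482, e3 q1830 (flp_f L17570) q1328,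 e3 q1831 L17585 q1831, e3 q1832 L17593 q1832, e3 q1833 L17599 q1833, e3 q1834 L17610 q1834, e3 q1835 L17618 q1835, e3 q1836 L25269 q2490, e3 q1837 L17632 q1837, e3 q1838 (flp_f L17635) q1335, e3 q1839 (flp_f L25288) q2492, e3 q1840 L25302 q2493, e3 q1841 (flp_f L17658) q1337, e3 q1842 (flp_f L17677) q1338, e3 q1843 L17702 q1843, e3 q1844 L17710 q1363, e3 q1845 L17718 q1845, e3 q1846 L17722 q1341, e3 q1847 L17740 q1847, e3 q1848 (flp_f L17754) q1344, e3 q1849 L17776 q1353, e3 q1850 L17800 q1367, e3 q1851 L17809 q1354, e3 q1852 L17832 q1355, e3 q1853 L17842 q1853, e3 q1854 L17848 q1368, e3 q1855 L17855 q1356, trivial⟩ (by decide +kernel)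

theorem ce_f_29 : ∀ r, r < 64 → sm gf (Qf (1856 + r)) = Qf (tab Gen.f (1856 + r)) :=
  edges_tab (sm gf) Qf (tab Gen.f) 1856 [(1856, 1357), (1857, 2503), (1858, 2504), (1859, 2506), (1860, 2510), (1861, 1359), (1862, 1862), (1863, 2495), (1864, 1864), (1865, 2515), (1866, 2499), (1867, 1867), (1868, 2502), (1869, 2509), (1870, 1870), (1871, 1871), (1872, 2520), (1873, 1373), (1874, 2521), (1875, 1875), (1876, 1876), (1877, 2524), (1878, 1878), (1879, 1879), (1880, 1880), (1881, 1383), (1882, 1384), (1883, 2529), (1884, 2530), (1885, 2536), (1886, 1886), (1887, 2540), (1888, 1386), (1889, 1889), (1890, 1890), (1891, 1393), (1892, 1394), (1893, 1395), (1894, 1396), (1895, 2551), (1896, 2544), (1897, 2545), (1898, 2556), (1899, 2547), (1900, 2559), (1901, 2549), (1902, 2563), (1903, 1397), (1904, 1904), (1905, 2567), (1906, 1399), (1907, 1907), (1908, 2571), (1909, 2572), (1910, 1401), (1911, 2564), (1912, 1912), (1913, 1913), (1914, 2580), (1915, 1915), (1916, 2584), (1917, 1406), (1918, 1918), (1919, 2588)]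
    ⟨e3 q1856 L17861 q1357, e3 q1857 (flp_f L25474) q2503, e3 q1858 (flp_f L25497) q2504, e3 q1859 (flp_f L25563) q2506, e3 q1860 (flp_f L25613) q2510, e3 q1861 (flp_f L18011) q1359, e3 q1862 L18037 q1862, e3 q1863 (flp_f L25355) q2495, e3 q1864 L18072 q1864, e3 q1865 L25918 q2515, e3 q1866 (flp_f L25405) q2499, e3 q1867 L18110 q1867, e3 q1868 (flp_f L25465) q2502, e3 q1869 (flp_f L25599) q2509, e3 q1870 L18309 q1870, e3 q1871 L18318 q1871, e3 q1872 L26337 q2520, e3 q1873 (flp_f L18421) q1373, e3 q1874 (flp_f L26389) q2521, e3 q1875 L18442 q1875, e3 q1876 L18606 q1876, e3 q1877 L26701 q2524, e3 q1878 L18691 q1878, e3 q1879 L18701 q1879, e3 q1880 L18711 q1880, e3 q1881 L18720 q1383, e3 q1882 L18729 q1384, e3 q1883 (flp_f L26755) q2529, e3 q1884 (flp_f L26765) q2530, e3 q1885 L26820 q2536, e3 q1886 L18767 q1886, e3 q1887 L26854 q2540, e3 q1888 (flp_f L18782) q1386, e3 q1889 L18800 q1889, e3 q1890 L18811 q1890, e3 q1891 L18822 q1393, e3 q1892 L18832 q1394, e3 q1893 L18840 q1395, e3 q1894 L18849 q1396, e3 q1895 L26955 q2551,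 e3 q1896 (flp_f L26898) q2544, e3 q1897 (flp_f L26908) q2545, e3 q1898 L27001 q2556, e3 q1899 (flp_f L26924) q2547, e3 q1900 L27029 q2559, e3 q1901 (flp_f L26945) q2549, e3 q1902 L27062 q2563, e3 q1903 (flp_f L18922) q1397, e3 q1904 L18932 q1904, e3 q1905 L27105 q2567, e3 q1906 (flp_f L18947) q1399, e3 q1907 L18963 q1907, e3 q1908 L27139 q2571, e3 q1909 L27146 q2572, e3 q1910 (flp_f L18980) q1401, e3 q1911 (flp_f L27073) q2564, e3 q1912 L18998 q1912, e3 q1913 L19008 q1913, e3 q1914 L27219 q2580, e3 q1915 L19029 q1915, e3 q1916 L27256 q2584, e3 q1917 (flp_f L19044) q1406, e3 q1918 L19055 q1918, e3 q1919 L27292 q2588, trivial⟩ (by decide +kernel)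

theorem ce_f_30 : ∀ r, r < 64 → sm gf (Qf (1920 + r)) = Qf (tab Gen.f (1920 + r)) :=
  edges_tab (sm gf) Qf (tab Gen.f) 1920 [(1920, 1920), (1921, 2592), (1922, 1409), (1923, 1923), (1924, 2596), (1925, 2597), (1926, 1411), (1927, 1422), (1928, 1425), (1929, 2604), (1930, 1414), (1931, 1428), (1932, 2608), (1933, 2609), (1934, 1416), (1935, 2593), (1936, 2614), (1937, 2616), (1938, 1419), (1939, 1420), (1940, 2621), (1941, 2599), (1942, 2600), (1943, 1943), (1944, 2627), (1945, 1424), (1946, 2601), (1947, 2631), (1948, 2632), (1949, 1426), (1950, 1950), (1951, 2637), (1952, 2639), (1953, 1429), (1954, 1430), (1955, 2644), (1956, 1956), (1957, 1957), (1958, 2648), (1959, 1433), (1960, 2651), (1961, 1434), (1962, 2655), (1963, 1963), (1964, 1510), (1965, 1965), (1966, 1437), (1967, 2662), (1968, 1968), (1969, 2663), (1970, 1970), (1971, 1971), (1972, 1972), (1973, 1973), (1974, 1452), (1975, 1453), (1976, 1454), (1977, 2675), (1978, 1978), (1979, 1456), (1980, 1457), (1981, 2681), (1982, 1459), (1983, 2685)]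
    ⟨e3 q1920 L19076 q1920, e3 q1921 L27330 q2592, e3 q1922 (flp_f L19091) q1409, e3 q1923 L19103 q1923, e3 q1924 L27364 q2596, e3 q1925 L27371 q2597, e3 q1926 (flp_f L19123) q1411, e3 q1927 L19136 q1422, e3 q1928 L19141 q1425, e3 q1929 L27428 q2604, e3 q1930 (flp_f L19157) q1414, e3 q1931 L19173 q1428, e3 q1932 L27467 q2608, e3 q1933 L27477 q2609, e3 q1934 (flp_f L19195) q1416, e3 q1935 (flp_f L27345) q2593, e3 q1936 L27517 q2614, e3 q1937 L27533 q2616, e3 q1938 (flp_f L19228) q1419, e3 q1939 (flp_f L19237) q1420, e3 q1940 (flp_f L27572) q2621, e3 q1941 (flp_f L27391) q2599, e3 q1942 (flp_f L27398) q2600, e3 q1943 L19269 q1943, e3 q1944 L27620 q2627, e3 q1945 (flp_f L19284) q1424, e3 q1946 (flp_f L27405) q2601, e3 q1947 L27658 q2631, e3 q1948 L27667 q2632, e3 q1949 (flp_f L19321) q1426, e3 q1950 L19337 q1950, e3 q1951 L27711 q2637, e3 q1952 L27730 q2639, e3 q1953 (flp_f L19358) q1429, e3 q1954 (flp_f L19366) q1430, e3 q1955 (flp_f L27777) q2644, e3 q1956 L19390 q1956, e3 q1957 L19396 q1957, e3 q1958 L27808 q2648, e3 q1959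 (flp_f L19409) q1433, e3 q1960 L27834 q2651, e3 q1961 (flp_f L19425) q1434, e3 q1962 (flp_f L27868) q2655, e3 q1963 L19447 q1963, e3 q1964 L19453 q1510, e3 q1965 L19461 q1965, e3 q1966 L19466 q1437, e3 q1967 (flp_f L27925) q2662, e3 q1968 L19484 q1968, e3 q1969 L27928 q2663, e3 q1970 L19506 q1970, e3 q1971 L19516 q1971, e3 q1972 L19527 q1972, e3 q1973 L19541 q1973, e3 q1974 L19550 q1452, e3 q1975 L19560 q1453, e3 q1976 L19569 q1454, e3 q1977 L28051 q2675, e3 q1978 L19591 q1978, e3 q1979 L19599 q1456, e3 q1980 L19608 q1457, e3 q1981 L28107 q2681, e3 q1982 L19624 q1459, e3 q1983 L28139 q2685, trivial⟩ (by decide +kernel)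

theorem ce_f_31 : ∀ r, r < 64 → sm gf (Qf (1984 + r)) = Qf (tab Gen.f (1984 + r)) :=
  edges_tab (sm gf) Qf (tab Gen.f) 1984 [(1984, 1451), (1985, 2670), (1986, 2671), (1987, 2691), (1988, 2673), (1989, 2695), (1990, 1455), (1991, 2677), (1992, 2698), (1993, 2679), (1994, 2701), (1995, 1458), (1996, 2682), (1997, 2705), (1998, 2706), (1999, 1460), (2000, 1471), (2001, 2711), (2002, 1463), (2003, 2714), (2004, 2715), (2005, 1465), (2006, 2702), (2007, 2720), (2008, 2722), (2009, 1468), (2010, 1469), (2011, 2727), (2012, 2708), (2013, 2709), (2014, 2014), (2015, 2733), (2016, 1473), (2017, 2017), (2018, 2737), (2019, 2738), (2020, 1475), (2021, 2021), (2022, 2022), (2023, 2744), (2024, 2745), (2025, 1478), (2026, 1489), (2027, 2750), (2028, 2752), (2029, 1481), (2030, 1482), (2031, 2757), (2032, 1495), (2033, 1496), (2034, 2761), (2035, 2763), (2036, 1486), (2037, 1487), (2038, 2768), (2039, 2747), (2040, 2748), (2041, 2772), (2042, 1490), (2043, 2775), (2044, 1491), (2045, 2779), (2046, 2754), (2047, 2619)]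
    ⟨e3 q1984 (flp_f L19637) q1451, e3 q1985 (flp_f L28008) q2670, e3 q1986 (flp_f L28018) q2671, e3 q1987 L28198 q2691, e3 q1988 (flp_f L28036) q2673, e3 q1989 L28236 q2695, e3 q1990 (flp_f L19694) q1455, e3 q1991 (flp_f L28074) q2677, e3 q1992 L28273 q2698, e3 q1993 (flp_f L28092) q2679, e3 q1994 L28310 q2701, e3 q1995 (flp_f L19741) q1458, e3 q1996 (flp_f L28121) q2682, e3 q1997 L28344 q2705, e3 q1998 L28351 q2706, e3 q1999 (flp_f L19774) q1460, e3 q2000 L19788 q1471, e3 q2001 L28412 q2711, e3 q2002 (flp_f L19809) q1463, e3 q2003 L28449 q2714, e3 q2004 L28459 q2715, e3 q2005 (flp_f L19846) q1465, e3 q2006 (flp_f L28326) q2702, e3 q2007 L28500 q2720, e3 q2008 L28517 q2722, e3 q2009 (flp_f L19879) q1468, e3 q2010 (flp_f L19888) q1469, e3 q2011 (flp_f L28557) q2727, e3 q2012 (flp_f L28372) q2708, e3 q2013 (flp_f L28381) q2709, e3 q2014 L19922 q2014, e3 q2015 L28608 q2733, e3 q2016 (flp_f L19942) q1473, e3 q2017 L19957 q2017, e3 q2018 L28648 q2737, e3 q2019 L28659 q2738, e3 q2020 (flp_f L19981) q1475, e3 q2021 L19999 q2021,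 e3 q2022 L20004 q2022, e3 q2023 L28714 q2744, e3 q2024 L28724 q2745, e3 q2025 (flp_f L20029) q1478, e3 q2026 L20047 q1489, e3 q2027 L28766 q2750, e3 q2028 L28782 q2752, e3 q2029 (flp_f L20066) q1481, e3 q2030 (flp_f L20075) q1482, e3 q2031 (flp_f L28821) q2757, e3 q2032 L20095 q1495, e3 q2033 L20103 q1496, e3 q2034 L28850 q2761, e3 q2035 L28870 q2763, e3 q2036 (flp_f L20125) q1486, e3 q2037 (flp_f L20137) q1487, e3 q2038 (flp_f L28914) q2768, e3 q2039 (flp_f L28746) q2747, e3 q2040 (flp_f L28754) q2748, e3 q2041 L28943 q2772, e3 q2042 (flp_f L20177) q1490, e3 q2043 L28970 q2775, e3 q2044 (flp_f L20194) q1491, e3 q2045 (flp_f L28999) q2779, e3 q2046 (flp_f L28805) q2754, e3 q2047 (flp_f L27562) q2619, trivial⟩ (by decide +kernel)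

theorem ce_f_32 : ∀ r, r < 64 → sm gf (Qf (2048 + r)) = Qf (tab Gen.f (2048 + r)) :=
  edges_tab (sm gf) Qf (tab Gen.f) 2048 [(2048, 2756), (2049, 1494), (2050, 2786), (2051, 2759), (2052, 2787), (2053, 1497), (2054, 2789), (2055, 1498), (2056, 2792), (2057, 2057), (2058, 2642), (2059, 2059), (2060, 1501), (2061, 2798), (2062, 2062), (2063, 2799), (2064, 1504), (2065, 2802), (2066, 2066), (2067, 1506), (2068, 2806), (2069, 2653), (2070, 2070), (2071, 1508), (2072, 2811), (2073, 2073), (2074, 2812), (2075, 2659), (2076, 2076), (2077, 2077), (2078, 1513), (2079, 2820), (2080, 2822), (2081, 1516), (2082, 1517), (2083, 2827), (2084, 2084), (2085, 2085), (2086, 2831), (2087, 1520), (2088, 2834), (2089, 1521), (2090, 2838), (2091, 1532), (2092, 2092), (2093, 1534), (2094, 1524), (2095, 2845), (2096, 1537), (2097, 2846), (2098, 1527), (2099, 2850), (2100, 2833), (2101, 1529), (2102, 2855), (2103, 2103), (2104, 2837), (2105, 1531), (2106, 2862), (2107, 2840), (2108, 2863), (2109, 2109), (2110, 2843), (2111, 2844)]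
    ⟨e3 q2048 (flp_f L28816) q2756, e3 q2049 L20232 q1494, e3 q2050 (flp_f L29053) q2786, e3 q2051 (flp_f L28838) q2759, e3 q2052 L29066 q2787, e3 q2053 (flp_f L20262) q1497, e3 q2054 L29095 q2789, e3 q2055 (flp_f L20282) q1498, e3 q2056 (flp_f L29132) q2792, e3 q2057 L20307 q2057, e3 q2058 (flp_f L27762) q2642, e3 q2059 L20323 q2059, e3 q2060 L20328 q1501, e3 q2061 (flp_f L29194) q2798, e3 q2062 L20346 q2062, e3 q2063 L29207 q2799, e3 q2064 (flp_f L20359) q1504, e3 q2065 (flp_f L29244) q2802, e3 q2066 L20385 q2066, e3 q2067 (flp_f L20386) q1506, e3 q2068 (flp_f L29288) q2806, e3 q2069 (flp_f L27855) q2653, e3 q2070 L20413 q2070, e3 q2071 L20418 q1508, e3 q2072 (flp_f L29336) q2811, e3 q2073 L20437 q2073, e3 q2074 L29339 q2812, e3 q2075 (flp_f L27901) q2659, e3 q2076 L20460 q2076, e3 q2077 L20466 q2077, e3 q2078 L20477 q1513, e3 q2079 L29401 q2820, e3 q2080 L29422 q2822, e3 q2081 (flp_f L20500) q1516, e3 q2082 (flp_f L20510) q1517, e3 q2083 (flp_f L29469) q2827, e3 q2084 L20534 q2084, e3 q2085 L20542 q2085, e3 q2086 L29502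 q2831, e3 q2087 (flp_f L20555) q1520, e3 q2088 L29529 q2834, e3 q2089 (flp_f L20573) q1521, e3 q2090 (flp_f L29565) q2838, e3 q2091 L20595 q1532, e3 q2092 L20603 q2092, e3 q2093 L20611 q1534, e3 q2094 L20617 q1524, e3 q2095 (flp_f L29621) q2845, e3 q2096 L20633 q1537, e3 q2097 L29633 q2846, e3 q2098 (flp_f L20645) q1527, e3 q2099 (flp_f L29674) q2850, e3 q2100 (flp_f L29527) q2833, e3 q2101 (flp_f L20671) q1529, e3 q2102 (flp_f L29718) q2855, e3 q2103 L20695 q2103, e3 q2104 (flp_f L29559) q2837, e3 q2105 L20707 q1531, e3 q2106 (flp_f L29770) q2862, e3 q2107 (flp_f L29582) q2840, e3 q2108 L29774 q2863, e3 q2109 L20742 q2109, e3 q2110 (flp_f L29606) q2843, e3 q2111 (flp_f L29613) q2844, trivial⟩ (by decide +kernel)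

theorem ce_f_33 : ∀ r, r < 64 → sm gf (Qf (2112 + r)) = Qf (tab Gen.f (2112 + r)) :=
  edges_tab (sm gf) Qf (tab Gen.f) 2112 [(2112, 1536), (2113, 2113), (2114, 2114), (2115, 1539), (2116, 2874), (2117, 2117), (2118, 2875), (2119, 2119), (2120, 2120), (2121, 2121), (2122, 1544), (2123, 1546), (2124, 2882), (2125, 2883), (2126, 2126), (2127, 2127), (2128, 2128), (2129, 2129), (2130, 1552), (2131, 1553), (2132, 2891), (2133, 2892), (2134, 2893), (2135, 2135), (2136, 2136), (2137, 2137), (2138, 2898), (2139, 2139), (2140, 1559), (2141, 2900), (2142, 2142), (2143, 2143), (2144, 2144), (2145, 2907), (2146, 2146), (2147, 2147), (2148, 2148), (2149, 1579), (2150, 1580), (2151, 2914), (2152, 1582), (2153, 2918), (2154, 1569), (2155, 2155), (2156, 2156), (2157, 2157), (2158, 2921), (2159, 1586), (2160, 2924), (2161, 1575), (2162, 1589), (2163, 2928), (2164, 2929), (2165, 1577), (2166, 2166), (2167, 2933), (2168, 2912), (2169, 2936), (2170, 1581), (2171, 2915), (2172, 2940), (2173, 2941), (2174, 1583), (2175, 2175)]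
    ⟨e3 q2112 L20762 q1536, e3 q2113 L20774 q2113, e3 q2114 L20784 q2114, e3 q2115 L20791 q1539, e3 q2116 (flp_f L29875) q2874, e3 q2117 L20811 q2117, e3 q2118 L29879 q2875, e3 q2119 L20829 q2119, e3 q2120 L20838 q2120, e3 q2121 L20846 q2121, e3 q2122 L20854 q1544, e3 q2123 (flp_f L20858) q1546, e3 q2124 (flp_f L29945) q2882, e3 q2125 (flp_f L29954) q2883, e3 q2126 L20887 q2126, e3 q2127 L20896 q2127, e3 q2128 L20904 q2128, e3 q2129 L20913 q2129, e3 q2130 L20923 q1552, e3 q2131 L20931 q1553, e3 q2132 (flp_f L30020) q2891, e3 q2133 (flp_f L30028) q2892, e3 q2134 (flp_f L30037) q2893, e3 q2135 L20964 q2135, e3 q2136 L20974 q2136, e3 q2137 L20981 q2137, e3 q2138 L30110 q2898, e3 q2139 L21005 q2139, e3 q2140 (flp_f L21009) q1559, e3 q2141 (flp_f L30151) q2900, e3 q2142 L21032 q2142, e3 q2143 L21041 q2143, e3 q2144 L21051 q2144, e3 q2145 L30215 q2907, e3 q2146 L21071 q2146, e3 q2147 L21085 q2147, e3 q2148 L21106 q2148, e3 q2149 L21114 q1579, e3 q2150 L21125 q1580, e3 q2151 L30318 q2914, e3 q2152 L21144 q1582, e3 q2153 L30354 q2918,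 e3 q2154 (flp_f L21158) q1569, e3 q2155 L21175 q2155, e3 q2156 L21187 q2156, e3 q2157 L21215 q2157, e3 q2158 L30454 q2921, e3 q2159 L21240 q1586, e3 q2160 L30489 q2924, e3 q2161 (flp_f L21254) q1575, e3 q2162 L21266 q1589, e3 q2163 L30523 q2928, e3 q2164 L30530 q2929, e3 q2165 (flp_f L21285) q1577, e3 q2166 L21302 q2166, e3 q2167 L30606 q2933, e3 q2168 (flp_f L30302) q2912, e3 q2169 L30647 q2936, e3 q2170 (flp_f L21353) q1581, e3 q2171 (flp_f L30332) q2915, e3 q2172 L30684 q2940, e3 q2173 L30691 q2941, e3 q2174 (flp_f L21390) q1583, e3 q2175 L21406 q2175, trivial⟩ (by decide +kernel)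

theorem ce_f_34 : ∀ r, r < 64 → sm gf (Qf (2176 + r)) = Qf (tab Gen.f (2176 + r)) :=
  edges_tab (sm gf) Qf (tab Gen.f) 2176 [(2176, 1585), (2177, 2947), (2178, 2948), (2179, 1587), (2180, 1598), (2181, 2952), (2182, 2954), (2183, 1590), (2184, 1591), (2185, 2959), (2186, 1604), (2187, 1605), (2188, 2945), (2189, 2964), (2190, 1595), (2191, 1596), (2192, 2949), (2193, 2950), (2194, 2970), (2195, 1599), (2196, 2973), (2197, 1600), (2198, 2977), (2199, 2956), (2200, 2200), (2201, 2958), (2202, 1603), (2203, 2984), (2204, 2961), (2205, 2205), (2206, 2987), (2207, 2988), (2208, 1607), (2209, 2209), (2210, 2993), (2211, 2995), (2212, 1610), (2213, 1611), (2214, 3000), (2215, 2215), (2216, 2216), (2217, 3004), (2218, 3006), (2219, 1615), (2220, 1616), (2221, 3011), (2222, 1631), (2223, 1632), (2224, 3015), (2225, 1619), (2226, 3017), (2227, 1620), (2228, 3021), (2229, 1638), (2230, 2230), (2231, 1640), (2232, 1623), (2233, 3027), (2234, 1643), (2235, 3029), (2236, 1626), (2237, 3031), (2238, 1627), (2239, 3035)]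
    ⟨e3 q2176 (flp_f L21445) q1585, e3 q2177 L30821 q2947, e3 q2178 L30827 q2948, e3 q2179 (flp_f L21481) q1587, e3 q2180 L21497 q1598, e3 q2181 L30875 q2952, e3 q2182 L30889 q2954, e3 q2183 (flp_f L21515) q1590, e3 q2184 (flp_f L21520) q1591, e3 q2185 (flp_f L30933) q2959, e3 q2186 L21545 q1604, e3 q2187 L21553 q1605, e3 q2188 (flp_f L30800) q2945, e3 q2189 L31092 q2964, e3 q2190 (flp_f L21645) q1595, e3 q2191 (flp_f L21653) q1596, e3 q2192 (flp_f L30854) q2949, e3 q2193 (flp_f L30862) q2950, e3 q2194 L31170 q2970, e3 q2195 (flp_f L21699) q1599, e3 q2196 L31196 q2973, e3 q2197 (flp_f L21714) q1600, e3 q2198 (flp_f L31228) q2977, e3 q2199 (flp_f L30908) q2956, e3 q2200 L21742 q2200, e3 q2201 (flp_f L30925) q2958, e3 q2202 L21757 q1603, e3 q2203 (flp_f L31290) q2984, e3 q2204 (flp_f L30952) q2961, e3 q2205 L21782 q2205, e3 q2206 L31315 q2987, e3 q2207 L31325 q2988, e3 q2208 (flp_f L21811) q1607, e3 q2209 L21831 q2209, e3 q2210 L31376 q2993, e3 q2211 L31393 q2995, e3 q2212 (flp_f L21851) q1610, e3 q2213 (flp_f L21860) q1611,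 e3 q2214 (flp_f L31438) q3000, e3 q2215 L21887 q2215, e3 q2216 L21893 q2216, e3 q2217 L31477 q3004, e3 q2218 L31494 q3006, e3 q2219 (flp_f L21918) q1615, e3 q2220 (flp_f L21926) q1616, e3 q2221 (flp_f L31542) q3011, e3 q2222 L21952 q1631, e3 q2223 L21959 q1632, e3 q2224 L31574 q3015, e3 q2225 (flp_f L21973) q1619, e3 q2226 L31604 q3017, e3 q2227 (flp_f L21987) q1620, e3 q2228 (flp_f L31633) q3021, e3 q2229 L22009 q1638, e3 q2230 L22016 q2230, e3 q2231 L22023 q1640, e3 q2232 L22029 q1623, e3 q2233 (flp_f L31693) q3027, e3 q2234 L22049 q1643, e3 q2235 L31703 q3029, e3 q2236 (flp_f L22063) q1626, e3 q2237 L31734 q3031, e3 q2238 (flp_f L22081) q1627, e3 q2239 (flp_f L31769) q3035, trivial⟩ (by decide +kernel)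

theorem ce_f_35 : ∀ r, r < 64 → sm gf (Qf (2240 + r)) = Qf (tab Gen.f (2240 + r)) :=
  edges_tab (sm gf) Qf (tab Gen.f) 2240 [(2240, 3008), (2241, 2241), (2242, 3010), (2243, 1630), (2244, 3041), (2245, 3013), (2246, 3042), (2247, 1633), (2248, 3016), (2249, 1635), (2250, 3048), (2251, 2251), (2252, 3020), (2253, 1637), (2254, 3022), (2255, 3054), (2256, 2256), (2257, 3025), (2258, 3026), (2259, 1642), (2260, 3060), (2261, 1644), (2262, 3063), (2263, 2263), (2264, 1646), (2265, 3067), (2266, 2266), (2267, 2267), (2268, 1648), (2269, 2269), (2270, 3072), (2271, 2271), (2272, 2272), (2273, 2273), (2274, 3077), (2275, 1654), (2276, 2276), (2277, 2277), (2278, 2278), (2279, 2279), (2280, 2280), (2281, 3085), (2282, 2282), (2283, 1661), (2284, 3087), (2285, 3089), (2286, 1663), (2287, 3091), (2288, 1664), (2289, 3095), (2290, 2290), (2291, 1699), (2292, 2292), (2293, 1667), (2294, 3101), (2295, 2295), (2296, 3102), (2297, 1670), (2298, 1683), (2299, 1672), (2300, 3108), (2301, 1707), (2302, 1686), (2303, 1674)]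
    ⟨e3 q2240 (flp_f L31518) q3008, e3 q2241 L22115 q2241, e3 q2242 (flp_f L31536) q3010, e3 q2243 L22128 q1630, e3 q2244 (flp_f L31831) q3041, e3 q2245 (flp_f L31562) q3013, e3 q2246 L31842 q3042, e3 q2247 (flp_f L22159) q1633, e3 q2248 (flp_f L31602) q3016, e3 q2249 (flp_f L22188) q1635, e3 q2250 (flp_f L31921) q3048, e3 q2251 L22206 q2251, e3 q2252 (flp_f L31627) q3020, e3 q2253 L22217 q1637, e3 q2254 (flp_f L31651) q3022, e3 q2255 L31976 q3054, e3 q2256 L22253 q2256, e3 q2257 (flp_f L31675) q3025, e3 q2258 (flp_f L31681) q3026, e3 q2259 L22277 q1642, e3 q2260 L32037 q3060, e3 q2261 (flp_f L22289) q1644, e3 q2262 (flp_f L32083) q3063, e3 q2263 L22320 q2263, e3 q2264 (flp_f L22321) q1646, e3 q2265 (flp_f L32121) q3067, e3 q2266 L22345 q2266, e3 q2267 L22354 q2267, e3 q2268 L22359 q1648, e3 q2269 L22368 q2269, e3 q2270 L32168 q3072, e3 q2271 L22389 q2271, e3 q2272 L22399 q2272, e3 q2273 L22408 q2273, e3 q2274 L32216 q3077, e3 q2275 (flp_f L22422) q1654, e3 q2276 L22438 q2276, e3 q2277 L22448 q2277, e3 q2278 L22455 q2278,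 e3 q2279 L22466 q2279, e3 q2280 L22473 q2280, e3 q2281 L32283 q3085, e3 q2282 L22487 q2282, e3 q2283 (flp_f L22490) q1661, e3 q2284 (flp_f L32304) q3087, e3 q2285 L32317 q3089, e3 q2286 (flp_f L22519) q1663, e3 q2287 L32348 q3091, e3 q2288 (flp_f L22538) q1664, e3 q2289 (flp_f L32388) q3095, e3 q2290 L22562 q2290, e3 q2291 L22572 q1699, e3 q2292 L22582 q2292, e3 q2293 L22588 q1667, e3 q2294 (flp_f L32455) q3101, e3 q2295 L22610 q2295, e3 q2296 L32470 q3102, e3 q2297 (flp_f L22623) q1670, e3 q2298 L22650 q1683, e3 q2299 (flp_f L22652) q1672, e3 q2300 (flp_f L32558) q3108, e3 q2301 L22673 q1707, e3 q2302 L22682 q1686, e3 q2303 L22688 q1674, trivial⟩ (by decide +kernel)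

theorem ce_f_36 : ∀ r, r < 64 → sm gf (Qf (2304 + r)) = Qf (tab Gen.f (2304 + r)) :=
  edges_tab (sm gf) Qf (tab Gen.f) 2304 [(2304, 1688), (2305, 2305), (2306, 1709), (2307, 1689), (2308, 1690), (2309, 1679), (2310, 1681), (2311, 3104), (2312, 3105), (2313, 3107), (2314, 1685), (2315, 3124), (2316, 3112), (2317, 3113), (2318, 3118), (2319, 3119), (2320, 3128), (2321, 1693), (2322, 2322), (2323, 1695), (2324, 3133), (2325, 3093), (2326, 2326), (2327, 1697), (2328, 3138), (2329, 3098), (2330, 2330), (2331, 1702), (2332, 1703), (2333, 3103), (2334, 3106), (2335, 1706), (2336, 3146), (2337, 3111), (2338, 3116), (2339, 3117), (2340, 3151), (2341, 3153), (2342, 3154), (2343, 1713), (2344, 3157), (2345, 1716), (2346, 3158), (2347, 2347), (2348, 2348), (2349, 3162), (2350, 2350), (2351, 3165), (2352, 1720), (2353, 2353), (2354, 2354), (2355, 2355), (2356, 2356), (2357, 3170), (2358, 3172), (2359, 1727), (2360, 3175), (2361, 3176), (2362, 1729), (2363, 3166), (2364, 2364), (2365, 2365), (2366, 3181), (2367, 1735)]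
    ⟨e3 q2304 L22704 q1688, e3 q2305 L22716 q2305, e3 q2306 L22724 q1709, e3 q2307 L22733 q1689, e3 q2308 L22741 q1690, e3 q2309 L22750 q1679, e3 q2310 (flp_f L22762) q1681, e3 q2311 (flp_f L32506) q3104, e3 q2312 (flp_f L32534) q3105, e3 q2313 (flp_f L32551) q3107, e3 q2314 L22833 q1685, e3 q2315 (flp_f L32775) q3124, e3 q2316 (flp_f L32598) q3112, e3 q2317 (flp_f L32605) q3113, e3 q2318 (flp_f L32658) q3118, e3 q2319 (flp_f L32667) q3119, e3 q2320 L32836 q3128, e3 q2321 (flp_f L22901) q1693, e3 q2322 L22932 q2322, e3 q2323 (flp_f L22934) q1695, e3 q2324 (flp_f L32920) q3133, e3 q2325 (flp_f L32374) q3093, e3 q2326 L22966 q2326, e3 q2327 L22972 q1697, e3 q2328 L32977 q3138, e3 q2329 (flp_f L32427) q3098, e3 q2330 L23010 q2330, e3 q2331 L23021 q1702, e3 q2332 (flp_f L23035) q1703, e3 q2333 (flp_f L32495) q3103, e3 q2334 (flp_f L32543) q3106, e3 q2335 L23093 q1706, e3 q2336 (flp_f L33116) q3146, e3 q2337 (flp_f L32590) q3111, e3 q2338 (flp_f L32640) q3116, e3 q2339 (flp_f L32650) q3117, e3 q2340 L33210 q3151, e3 q2341 L33241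 q3153, e3 q2342 L33273 q3154, e3 q2343 (flp_f L23211) q1713, e3 q2344 (flp_f L33302) q3157, e3 q2345 L23242 q1716, e3 q2346 (flp_f L33328) q3158, e3 q2347 L23258 q2347, e3 q2348 L23267 q2348, e3 q2349 L33378 q3162, e3 q2350 L23286 q2350, e3 q2351 L33411 q3165, e3 q2352 (flp_f L23300) q1720, e3 q2353 L23312 q2353, e3 q2354 L23342 q2354, e3 q2355 L23352 q2355, e3 q2356 L23376 q2356, e3 q2357 L33551 q3170, e3 q2358 L33588 q3172, e3 q2359 (flp_f L23416) q1727, e3 q2360 L33621 q3175, e3 q2361 L33631 q3176, e3 q2362 (flp_f L23449) q1729, e3 q2363 (flp_f L33424) q3166, e3 q2364 L23469 q2364, e3 q2365 L23479 q2365, e3 q2366 L33785 q3181, e3 q2367 (flp_f L23576) q1735, trivial⟩ (by decide +kernel)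

theorem ce_f_37 : ∀ r, r < 64 → sm gf (Qf (2368 + r)) = Qf (tab Gen.f (2368 + r)) :=
  edges_tab (sm gf) Qf (tab Gen.f) 2368 [(2368, 3183), (2369, 1736), (2370, 2370), (2371, 3187), (2372, 1738), (2373, 1739), (2374, 3192), (2375, 2375), (2376, 2376), (2377, 1742), (2378, 3195), (2379, 1743), (2380, 2380), (2381, 3199), (2382, 1745), (2383, 1746), (2384, 3204), (2385, 2385), (2386, 2386), (2387, 1759), (2388, 1750), (2389, 1761), (2390, 1762), (2391, 3210), (2392, 1753), (2393, 3213), (2394, 1766), (2395, 2395), (2396, 1768), (2397, 1756), (2398, 1770), (2399, 3206), (2400, 2400), (2401, 3208), (2402, 3209), (2403, 1763), (2404, 2404), (2405, 3212), (2406, 1765), (2407, 3214), (2408, 3227), (2409, 2409), (2410, 3217), (2411, 3218), (2412, 3233), (2413, 3234), (2414, 1772), (2415, 1773), (2416, 3238), (2417, 2417), (2418, 2418), (2419, 3240), (2420, 1776), (2421, 1777), (2422, 2422), (2423, 2423), (2424, 2424), (2425, 1780), (2426, 2426), (2427, 3245), (2428, 1783), (2429, 1784), (2430, 1801), (2431, 2431)]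
    ⟨e3 q2368 L33858 q3183, e3 q2369 (flp_f L23608) q1736, e3 q2370 L23624 q2370, e3 q2371 L33908 q3187, e3 q2372 (flp_f L23638) q1738, e3 q2373 (flp_f L23646) q1739, e3 q2374 (flp_f L33945) q3192, e3 q2375 L23664 q2375, e3 q2376 L23671 q2376, e3 q2377 (flp_f L23719) q1742, e3 q2378 L34080 q3195, e3 q2379 (flp_f L23757) q1743, e3 q2380 L23772 q2380, e3 q2381 L34140 q3199, e3 q2382 (flp_f L23790) q1745, e3 q2383 (flp_f L23798) q1746, e3 q2384 (flp_f L34182) q3204, e3 q2385 L23820 q2385, e3 q2386 L23826 q2386, e3 q2387 L23907 q1759, e3 q2388 (flp_f L23934) q1750, e3 q2389 L23955 q1761, e3 q2390 L23962 q1762, e3 q2391 L34443 q3210, e3 q2392 (flp_f L23987) q1753, e3 q2393 (flp_f L34476) q3213, e3 q2394 L24007 q1766, e3 q2395 L24013 q2395, e3 q2396 L24020 q1768, e3 q2397 L24026 q1756, e3 q2398 L24041 q1770, e3 q2399 (flp_f L34318) q3206, e3 q2400 L24219 q2400, e3 q2401 (flp_f L34388) q3208, e3 q2402 (flp_f L34409) q3209, e3 q2403 (flp_f L24279) q1763, e3 q2404 L24301 q2404, e3 q2405 (flp_f L34470) q3212, e3 q2406 L24312 q1765,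 e3 q2407 (flp_f L34492) q3214, e3 q2408 L34976 q3227, e3 q2409 L24344 q2409, e3 q2410 (flp_f L34514) q3217, e3 q2411 (flp_f L34520) q3218, e3 q2412 L35038 q3233, e3 q2413 L35058 q3234, e3 q2414 (flp_f L24389) q1772, e3 q2415 (flp_f L24400) q1773, e3 q2416 (flp_f L35104) q3238, e3 q2417 L24423 q2417, e3 q2418 L24428 q2418, e3 q2419 L35138 q3240, e3 q2420 (flp_f L24442) q1776, e3 q2421 (flp_f L24459) q1777, e3 q2422 L24485 q2422, e3 q2423 L24491 q2423, e3 q2424 L24496 q2424, e3 q2425 L24499 q1780, e3 q2426 L24518 q2426, e3 q2427 L35270 q3245, e3 q2428 (flp_f L24532) q1783, e3 q2429 (flp_f L24549) q1784, e3 q2430 L24574 q1801, e3 q2431 L24581 q2431, trivial⟩ (by decide +kernel)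

theorem ce_f_38 : ∀ r, r < 64 → sm gf (Qf (2432 + r)) = Qf (tab Gen.f (2432 + r)) :=
  edges_tab (sm gf) Qf (tab Gen.f) 2432 [(2432, 1803), (2433, 1787), (2434, 1805), (2435, 1790), (2436, 1807), (2437, 2437), (2438, 1809), (2439, 1810), (2440, 3231), (2441, 2441), (2442, 1813), (2443, 1814), (2444, 1798), (2445, 3246), (2446, 2446), (2447, 3248), (2448, 3249), (2449, 3264), (2450, 2450), (2451, 3252), (2452, 3253), (2453, 2453), (2454, 3255), (2455, 3256), (2456, 3271), (2457, 3258), (2458, 1811), (2459, 3229), (2460, 3228), (2461, 3215), (2462, 3273), (2463, 1815), (2464, 3276), (2465, 2465), (2466, 2466), (2467, 1817), (2468, 2468), (2469, 2469), (2470, 2470), (2471, 1820), (2472, 3286), (2473, 3287), (2474, 2474), (2475, 2475), (2476, 2476), (2477, 1825), (2478, 3292), (2479, 3293), (2480, 2480), (2481, 2481), (2482, 1829), (2483, 2483), (2484, 2484), (2485, 3302), (2486, 2486), (2487, 2487), (2488, 3305), (2489, 2489), (2490, 1836), (2491, 3307), (2492, 1839), (2493, 1840), (2494, 2494), (2495, 1863)]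
    ⟨e3 q2432 L24588 q1803, e3 q2433 L24592 q1787, e3 q2434 L24608 q1805, e3 q2435 (flp_f L24621) q1790, e3 q2436 L24644 q1807, e3 q2437 L24663 q2437, e3 q2438 L24670 q1809, e3 q2439 L24695 q1810, e3 q2440 (flp_f L626630) q3231, e3 q2441 L24708 q2441, e3 q2442 L24713 q1813, e3 q2443 L24717 q1814, e3 q2444 (flp_f L24738) q1798, e3 q2445 (flp_f L35295) q3246, e3 q2446 L24787 q2446, e3 q2447 (flp_f L35327) q3248, e3 q2448 (flp_f L35352) q3249, e3 q2449 L35720 q3264, e3 q2450 L24836 q2450, e3 q2451 (flp_f L35373) q3252, e3 q2452 (flp_f L35379) q3253, e3 q2453 L24886 q2453, e3 q2454 (flp_f L35425) q3255, e3 q2455 (flp_f L35450) q3256, e3 q2456 L35925 q3271, e3 q2457 (flp_f L35506) q3258, e3 q2458 (flp_f L24991) q1811, e3 q2459 (flp_f L626477) q3229, e3 q2460 (flp_f L626646) q3228, e3 q2461 L626622 q3215, e3 q2462 L36010 q3273, e3 q2463 (flp_f L25039) q1815, e3 q2464 (flp_f L36054) q3276, e3 q2465 L25066 q2465, e3 q2466 L25075 q2466, e3 q2467 L25080 q1817, e3 q2468 L25090 q2468, e3 q2469 L25103 q2469, e3 q2470 L25112 q2470, e3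 q2471 L25118 q1820, e3 q2472 (flp_f L36152) q3286, e3 q2473 L36167 q3287, e3 q2474 L25144 q2474, e3 q2475 L25153 q2475, e3 q2476 L25161 q2476, e3 q2477 (flp_f L25166) q1825, e3 q2478 (flp_f L36215) q3292, e3 q2479 (flp_f L36223) q3293, e3 q2480 L25191 q2480, e3 q2481 L25198 q2481, e3 q2482 (flp_f L25204) q1829, e3 q2483 L25220 q2483, e3 q2484 L25229 q2484, e3 q2485 L36291 q3302, e3 q2486 L25243 q2486, e3 q2487 L25249 q2487, e3 q2488 L36319 q3305, e3 q2489 L25266 q2489, e3 q2490 (flp_f L25269) q1836, e3 q2491 (flp_f L36341) q3307, e3 q2492 L25288 q1839, e3 q2493 (flp_f L25302) q1840, e3 q2494 L25327 q2494, e3 q2495 L25355 q1863, trivial⟩ (by decide +kernel)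

theorem ce_f_39 : ∀ r, r < 64 → sm gf (Qf (2496 + r)) = Qf (tab Gen.f (2496 + r)) :=
  edges_tab (sm gf) Qf (tab Gen.f) 2496 [(2496, 2496), (2497, 2497), (2498, 3177), (2499, 1866), (2500, 2500), (2501, 2501), (2502, 1868), (2503, 1857), (2504, 1858), (2505, 2505), (2506, 1859), (2507, 2507), (2508, 2508), (2509, 1869), (2510, 1860), (2511, 3314), (2512, 3308), (2513, 2513), (2514, 3317), (2515, 1865), (2516, 3164), (2517, 3178), (2518, 3179), (2519, 3318), (2520, 1872), (2521, 1874), (2522, 3319), (2523, 2523), (2524, 1877), (2525, 3321), (2526, 2526), (2527, 2527), (2528, 2528), (2529, 1883), (2530, 1884), (2531, 3331), (2532, 3327), (2533, 3334), (2534, 3329), (2535, 3338), (2536, 1885), (2537, 2537), (2538, 3342), (2539, 3343), (2540, 1887), (2541, 3339), (2542, 2542), (2543, 2543), (2544, 1896), (2545, 1897), (2546, 3354), (2547, 1899), (2548, 3357), (2549, 1901), (2550, 3361), (2551, 1895), (2552, 3350), (2553, 3365), (2554, 3352), (2555, 3369), (2556, 1898), (2557, 3355), (2558, 3373), (2559, 1900)]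
    ⟨e3 q2496 L25364 q2496, e3 q2497 L25389 q2497, e3 q2498 L625701 q3177, e3 q2499 L25405 q1866, e3 q2500 L25414 q2500, e3 q2501 L25421 q2501, e3 q2502 L25465 q1868, e3 q2503 L25474 q1857, e3 q2504 L25497 q1858, e3 q2505 L25548 q2505, e3 q2506 L25563 q1859, e3 q2507 L25587 q2507, e3 q2508 L25594 q2508, e3 q2509 L25599 q1869, e3 q2510 L25613 q1860, e3 q2511 (flp_f L36657) q3314, e3 q2512 (flp_f L36390) q3308, e3 q2513 L25817 q2513, e3 q2514 L37190 q3317, e3 q2515 (flp_f L25918) q1865, e3 q2516 L625531 q3164, e3 q2517 L627150 q3178, e3 q2518 L601961 q3179, e3 q2519 L37668 q3318, e3 q2520 (flp_f L26337) q1872, e3 q2521 L26389 q1874, e3 q2522 (flp_f L37878) q3319, e3 q2523 L26415 q2523, e3 q2524 (flp_f L26701) q1877, e3 q2525 (flp_f L38307) q3321, e3 q2526 L26729 q2526, e3 q2527 L26737 q2527, e3 q2528 L26746 q2528, e3 q2529 L26755 q1883, e3 q2530 L26765 q1884, e3 q2531 L38398 q3331, e3 q2532 (flp_f L38362) q3327, e3 q2533 L38428 q3334, e3 q2534 (flp_f L38382) q3329, e3 q2535 L38466 q3338, e3 q2536 (flp_f L26820) q1885, e3 q2537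 L26832 q2537, e3 q2538 L38501 q3342, e3 q2539 L38511 q3343, e3 q2540 (flp_f L26854) q1887, e3 q2541 (flp_f L38482) q3339, e3 q2542 L26880 q2542, e3 q2543 L26890 q2543, e3 q2544 L26898 q1896, e3 q2545 L26908 q1897, e3 q2546 L38612 q3354, e3 q2547 L26924 q1899, e3 q2548 L38641 q3357, e3 q2549 L26945 q1901, e3 q2550 L38673 q3361, e3 q2551 (flp_f L26955) q1895, e3 q2552 (flp_f L38577) q3350, e3 q2553 L38710 q3365, e3 q2554 (flp_f L38600) q3352, e3 q2555 L38748 q3369, e3 q2556 (flp_f L27001) q1898, e3 q2557 (flp_f L38625) q3355, e3 q2558 L38794 q3373, e3 q2559 (flp_f L27029) q1900, trivial⟩ (by decide +kernel)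

theorem ce_f_40 : ∀ r, r < 64 → sm gf (Qf (2560 + r)) = Qf (tab Gen.f (2560 + r)) :=
  edges_tab (sm gf) Qf (tab Gen.f) 2560 [(2560, 3358), (2561, 3377), (2562, 3378), (2563, 1902), (2564, 1911), (2565, 3383), (2566, 3384), (2567, 1905), (2568, 3374), (2569, 3389), (2570, 3391), (2571, 1908), (2572, 1909), (2573, 3396), (2574, 3380), (2575, 3381), (2576, 2576), (2577, 3401), (2578, 2578), (2579, 3405), (2580, 1914), (2581, 2581), (2582, 3409), (2583, 3410), (2584, 1916), (2585, 2585), (2586, 2586), (2587, 3417), (2588, 1919), (2589, 2589), (2590, 3421), (2591, 3422), (2592, 1921), (2593, 1935), (2594, 3427), (2595, 3429), (2596, 1924), (2597, 1925), (2598, 3434), (2599, 1941), (2600, 1942), (2601, 1946), (2602, 3439), (2603, 3440), (2604, 1929), (2605, 3418), (2606, 3445), (2607, 3447), (2608, 1932), (2609, 1933), (2610, 3452), (2611, 3424), (2612, 3425), (2613, 3456), (2614, 1936), (2615, 3459), (2616, 1937), (2617, 3463), (2618, 3431), (2619, 2047), (2620, 3433), (2621, 1940), (2622, 3470), (2623, 3436)]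
    ⟨e3 q2560 (flp_f L38656) q3358, e3 q2561 L38829 q3377, e3 q2562 L38834 q3378, e3 q2563 (flp_f L27062) q1902, e3 q2564 L27073 q1911, e3 q2565 L38884 q3383, e3 q2566 L38894 q3384, e3 q2567 (flp_f L27105) q1905, e3 q2568 (flp_f L38811) q3374, e3 q2569 L38941 q3389, e3 q2570 L38957 q3391, e3 q2571 (flp_f L27139) q1908, e3 q2572 (flp_f L27146) q1909, e3 q2573 (flp_f L38998) q3396, e3 q2574 (flp_f L38855) q3380, e3 q2575 (flp_f L38863) q3381, e3 q2576 L27179 q2576, e3 q2577 L39038 q3401, e3 q2578 L27202 q2578, e3 q2579 L39081 q3405, e3 q2580 (flp_f L27219) q1914, e3 q2581 L27233 q2581, e3 q2582 L39118 q3409, e3 q2583 L39127 q3410, e3 q2584 (flp_f L27256) q1916, e3 q2585 L27271 q2585, e3 q2586 L27275 q2586, e3 q2587 L39189 q3417, e3 q2588 (flp_f L27292) q1919, e3 q2589 L27306 q2589, e3 q2590 L39229 q3421, e3 q2591 L39237 q3422, e3 q2592 (flp_f L27330) q1921, e3 q2593 L27345 q1935, e3 q2594 L39279 q3427, e3 q2595 L39294 q3429, e3 q2596 (flp_f L27364) q1924, e3 q2597 (flp_f L27371) q1925, e3 q2598 (flp_f L39334) q3434, e3 q2599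 L27391 q1941, e3 q2600 L27398 q1942, e3 q2601 L27405 q1946, e3 q2602 L39371 q3439, e3 q2603 L39382 q3440, e3 q2604 (flp_f L27428) q1929, e3 q2605 (flp_f L39207) q3418, e3 q2606 L39429 q3445, e3 q2607 L39448 q3447, e3 q2608 (flp_f L27467) q1932, e3 q2609 (flp_f L27477) q1933, e3 q2610 (flp_f L39493) q3452, e3 q2611 (flp_f L39259) q3424, e3 q2612 (flp_f L39266) q3425, e3 q2613 L39522 q3456, e3 q2614 (flp_f L27517) q1936, e3 q2615 L39548 q3459, e3 q2616 (flp_f L27533) q1937, e3 q2617 (flp_f L39580) q3463, e3 q2618 (flp_f L39316) q3431, e3 q2619 L27562 q2047, e3 q2620 (flp_f L39329) q3433, e3 q2621 L27572 q1940, e3 q2622 (flp_f L39632) q3470, e3 q2623 (flp_f L39351) q3436, trivial⟩ (by decide +kernel)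

theorem ce_f_41 : ∀ r, r < 64 → sm gf (Qf (2624 + r)) = Qf (tab Gen.f (2624 + r)) :=
  edges_tab (sm gf) Qf (tab Gen.f) 2624 [(2624, 2624), (2625, 3471), (2626, 3472), (2627, 1944), (2628, 2628), (2629, 3475), (2630, 3476), (2631, 1947), (2632, 1948), (2633, 3480), (2634, 2634), (2635, 2635), (2636, 3482), (2637, 1951), (2638, 3484), (2639, 1952), (2640, 3487), (2641, 2641), (2642, 2058), (2643, 2643), (2644, 1955), (2645, 3493), (2646, 2646), (2647, 3494), (2648, 1958), (2649, 3497), (2650, 2650), (2651, 1960), (2652, 3501), (2653, 2069), (2654, 2654), (2655, 1962), (2656, 3506), (2657, 2657), (2658, 3507), (2659, 2075), (2660, 2660), (2661, 2661), (2662, 1967), (2663, 1969), (2664, 3514), (2665, 2665), (2666, 2666), (2667, 2667), (2668, 3521), (2669, 2669), (2670, 1985), (2671, 1986), (2672, 3527), (2673, 1988), (2674, 3531), (2675, 1977), (2676, 2676), (2677, 1991), (2678, 3536), (2679, 1993), (2680, 3539), (2681, 1981), (2682, 1996), (2683, 3543), (2684, 3544), (2685, 1983), (2686, 2686), (2687, 3523)]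
    ⟨e3 q2624 L27596 q2624, e3 q2625 L39653 q3471, e3 q2626 L39662 q3472, e3 q2627 (flp_f L27620) q1944, e3 q2628 L27638 q2628, e3 q2629 L39709 q3475, e3 q2630 L39726 q3476, e3 q2631 (flp_f L27658) q1947, e3 q2632 (flp_f L27667) q1948, e3 q2633 (flp_f L39768) q3480, e3 q2634 L27690 q2634, e3 q2635 L27695 q2635, e3 q2636 L39803 q3482, e3 q2637 (flp_f L27711) q1951, e3 q2638 L39831 q3484, e3 q2639 (flp_f L27730) q1952, e3 q2640 (flp_f L39871) q3487, e3 q2641 L27754 q2641, e3 q2642 L27762 q2058, e3 q2643 L27772 q2643, e3 q2644 L27777 q1955, e3 q2645 (flp_f L39931) q3493, e3 q2646 L27795 q2646, e3 q2647 L39945 q3494, e3 q2648 (flp_f L27808) q1958, e3 q2649 (flp_f L39984) q3497, e3 q2650 L27833 q2650, e3 q2651 (flp_f L27834) q1960, e3 q2652 (flp_f L40027) q3501, e3 q2653 L27855 q2069, e3 q2654 L27863 q2654, e3 q2655 L27868 q1962, e3 q2656 (flp_f L40083) q3506, e3 q2657 L27886 q2657, e3 q2658 L40086 q3507, e3 q2659 L27901 q2075, e3 q2660 L27910 q2660, e3 q2661 L27916 q2661, e3 q2662 L27925 q1967, e3 q2663 (flp_f L27928) q1969,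 e3 q2664 (flp_f L40149) q3514, e3 q2665 L27957 q2665, e3 q2666 L27967 q2666, e3 q2667 L27976 q2667, e3 q2668 L40215 q3521, e3 q2669 L27999 q2669, e3 q2670 L28008 q1985, e3 q2671 L28018 q1986, e3 q2672 L40274 q3527, e3 q2673 L28036 q1988, e3 q2674 L40311 q3531, e3 q2675 (flp_f L28051) q1977, e3 q2676 L28067 q2676, e3 q2677 L28074 q1991, e3 q2678 L40368 q3536, e3 q2679 L28092 q1993, e3 q2680 L40404 q3539, e3 q2681 (flp_f L28107) q1981, e3 q2682 L28121 q1996, e3 q2683 L40438 q3543, e3 q2684 L40447 q3544, e3 q2685 (flp_f L28139) q1983, e3 q2686 L28156 q2686, e3 q2687 (flp_f L40237) q3523, trivial⟩ (by decide +kernel)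

theorem ce_f_42 : ∀ r, r < 64 → sm gf (Qf (2688 + r)) = Qf (tab Gen.f (2688 + r)) :=
  edges_tab (sm gf) Qf (tab Gen.f) 2688 [(2688, 3549), (2689, 3525), (2690, 3552), (2691, 1987), (2692, 3528), (2693, 3556), (2694, 3557), (2695, 1989), (2696, 2696), (2697, 3562), (2698, 1992), (2699, 3565), (2700, 3566), (2701, 1994), (2702, 2006), (2703, 3571), (2704, 3573), (2705, 1997), (2706, 1998), (2707, 3578), (2708, 2012), (2709, 2013), (2710, 3581), (2711, 2001), (2712, 3563), (2713, 3586), (2714, 2003), (2715, 2004), (2716, 3591), (2717, 3568), (2718, 3569), (2719, 3595), (2720, 2007), (2721, 3598), (2722, 2008), (2723, 3602), (2724, 3575), (2725, 3394), (2726, 3577), (2727, 2011), (2728, 3609), (2729, 3580), (2730, 2730), (2731, 3612), (2732, 3613), (2733, 2015), (2734, 2734), (2735, 3618), (2736, 3620), (2737, 2018), (2738, 2019), (2739, 3625), (2740, 2740), (2741, 2741), (2742, 3629), (2743, 3631), (2744, 2023), (2745, 2024), (2746, 3636), (2747, 2039), (2748, 2040), (2749, 3640), (2750, 2027), (2751, 3643)]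
    ⟨e3 q2688 L40500 q3549, e3 q2689 (flp_f L40257) q3525, e3 q2690 L40542 q3552, e3 q2691 (flp_f L28198) q1987, e3 q2692 (flp_f L40290) q3528, e3 q2693 L40579 q3556, e3 q2694 L40588 q3557, e3 q2695 (flp_f L28236) q1989, e3 q2696 L28252 q2696, e3 q2697 L40654 q3562, e3 q2698 (flp_f L28273) q1992, e3 q2699 L40692 q3565, e3 q2700 L40700 q3566, e3 q2701 (flp_f L28310) q1994, e3 q2702 L28326 q2006, e3 q2703 L40743 q3571, e3 q2704 L40759 q3573, e3 q2705 (flp_f L28344) q1997, e3 q2706 (flp_f L28351) q1998, e3 q2707 (flp_f L40800) q3578, e3 q2708 L28372 q2012, e3 q2709 L28381 q2013, e3 q2710 L40848 q3581, e3 q2711 (flp_f L28412) q2001, e3 q2712 (flp_f L40671) q3563, e3 q2713 L40912 q3586, e3 q2714 (flp_f L28449) q2003, e3 q2715 (flp_f L28459) q2004, e3 q2716 (flp_f L40958) q3591, e3 q2717 (flp_f L40723) q3568, e3 q2718 (flp_f L40732) q3569, e3 q2719 L40985 q3595, e3 q2720 (flp_f L28500) q2007, e3 q2721 L41009 q3598, e3 q2722 (flp_f L28517) q2008, e3 q2723 (flp_f L41041) q3602, e3 q2724 (flp_f L40779) q3575, e3 q2725 (flp_f L38984)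 q3394, e3 q2726 (flp_f L40793) q3577, e3 q2727 L28557 q2011, e3 q2728 (flp_f L41098) q3609, e3 q2729 (flp_f L40816) q3580, e3 q2730 L28580 q2730, e3 q2731 L41123 q3612, e3 q2732 L41135 q3613, e3 q2733 (flp_f L28608) q2015, e3 q2734 L28628 q2734, e3 q2735 L41181 q3618, e3 q2736 L41200 q3620, e3 q2737 (flp_f L28648) q2018, e3 q2738 (flp_f L28659) q2019, e3 q2739 (flp_f L41242) q3625, e3 q2740 L28682 q2740, e3 q2741 L28689 q2741, e3 q2742 L41276 q3629, e3 q2743 L41295 q3631, e3 q2744 (flp_f L28714) q2023, e3 q2745 (flp_f L28724) q2024, e3 q2746 (flp_f L41340) q3636, e3 q2747 L28746 q2039, e3 q2748 L28754 q2040, e3 q2749 L41370 q3640, e3 q2750 (flp_f L28766) q2027, e3 q2751 L41398 q3643, trivial⟩ (by decide +kernel)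

theorem ce_f_43 : ∀ r, r < 64 → sm gf (Qf (2752 + r)) = Qf (tab Gen.f (2752 + r)) :=
  edges_tab (sm gf) Qf (tab Gen.f) 2752 [(2752, 2028), (2753, 3647), (2754, 2046), (2755, 3432), (2756, 2048), (2757, 2031), (2758, 3654), (2759, 2051), (2760, 3656), (2761, 2034), (2762, 3659), (2763, 2035), (2764, 3663), (2765, 3633), (2766, 3450), (2767, 3635), (2768, 2038), (2769, 3670), (2770, 3638), (2771, 3672), (2772, 2041), (2773, 3676), (2774, 3642), (2775, 2043), (2776, 3681), (2777, 3461), (2778, 3646), (2779, 2045), (2780, 3688), (2781, 3649), (2782, 3689), (2783, 3467), (2784, 3652), (2785, 3653), (2786, 2050), (2787, 2052), (2788, 2788), (2789, 2054), (2790, 3485), (2791, 2791), (2792, 2056), (2793, 2793), (2794, 3705), (2795, 3490), (2796, 2796), (2797, 2797), (2798, 2061), (2799, 2063), (2800, 3495), (2801, 2801), (2802, 2065), (2803, 2803), (2804, 3499), (2805, 2805), (2806, 2068), (2807, 3723), (2808, 3503), (2809, 2809), (2810, 2810), (2811, 2072), (2812, 2074), (2813, 3730), (2814, 3731), (2815, 3510)]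
    ⟨e3 q2752 (flp_f L28782) q2028, e3 q2753 (flp_f L41427) q3647, e3 q2754 L28805 q2046, e3 q2755 (flp_f L39322) q3432, e3 q2756 L28816 q2048, e3 q2757 L28821 q2031, e3 q2758 (flp_f L41482) q3654, e3 q2759 L28838 q2051, e3 q2760 L41493 q3656, e3 q2761 (flp_f L28850) q2034, e3 q2762 L41522 q3659, e3 q2763 (flp_f L28870) q2035, e3 q2764 (flp_f L41557) q3663, e3 q2765 (flp_f L41320) q3633, e3 q2766 (flp_f L39481) q3450, e3 q2767 (flp_f L41335) q3635, e3 q2768 L28914 q2038, e3 q2769 (flp_f L41614) q3670, e3 q2770 (flp_f L41357) q3638, e3 q2771 L41625 q3672, e3 q2772 (flp_f L28943) q2041, e3 q2773 (flp_f L41661) q3676, e3 q2774 (flp_f L41396) q3642, e3 q2775 (flp_f L28970) q2043, e3 q2776 (flp_f L41701) q3681, e3 q2777 (flp_f L39568) q3461, e3 q2778 (flp_f L41421) q3646, e3 q2779 L28999 q2045, e3 q2780 (flp_f L41752) q3688, e3 q2781 (flp_f L41446) q3649, e3 q2782 L41755 q3689, e3 q2783 (flp_f L39613) q3467, e3 q2784 (flp_f L41466) q3652, e3 q2785 (flp_f L41471) q3653, e3 q2786 L29053 q2050, e3 q2787 (flp_f L29066) q2052, e3 q2788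 L29094 q2788, e3 q2789 (flp_f L29095) q2054, e3 q2790 (flp_f L39856) q3485, e3 q2791 L29127 q2791, e3 q2792 L29132 q2056, e3 q2793 L29151 q2793, e3 q2794 L41968 q3705, e3 q2795 (flp_f L39907) q3490, e3 q2796 L29177 q2796, e3 q2797 L29185 q2797, e3 q2798 L29194 q2061, e3 q2799 (flp_f L29207) q2063, e3 q2800 (flp_f L39969) q3495, e3 q2801 L29238 q2801, e3 q2802 L29244 q2065, e3 q2803 L29265 q2803, e3 q2804 (flp_f L40013) q3499, e3 q2805 L29282 q2805, e3 q2806 L29288 q2068, e3 q2807 L42170 q3723, e3 q2808 (flp_f L40059) q3503, e3 q2809 L29319 q2809, e3 q2810 L29325 q2810, e3 q2811 L29336 q2072, e3 q2812 (flp_f L29339) q2074, e3 q2813 (flp_f L42228) q3730, e3 q2814 (flp_f L42235) q3731, e3 q2815 (flp_f L40111) q3510, trivial⟩ (by decide +kernel)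

theorem ce_f_44 : ∀ r, r < 64 → sm gf (Qf (2816 + r)) = Qf (tab Gen.f (2816 + r)) :=
  edges_tab (sm gf) Qf (tab Gen.f) 2816 [(2816, 3511), (2817, 2817), (2818, 2818), (2819, 3739), (2820, 2079), (2821, 3742), (2822, 2080), (2823, 3746), (2824, 2824), (2825, 2825), (2826, 2826), (2827, 2083), (2828, 3753), (2829, 2829), (2830, 3754), (2831, 2086), (2832, 3758), (2833, 2100), (2834, 2088), (2835, 3763), (2836, 2836), (2837, 2104), (2838, 2090), (2839, 3770), (2840, 2107), (2841, 3771), (2842, 2842), (2843, 2110), (2844, 2111), (2845, 2095), (2846, 2097), (2847, 3780), (2848, 2848), (2849, 3757), (2850, 2099), (2851, 3786), (2852, 3760), (2853, 2853), (2854, 3762), (2855, 2102), (2856, 3791), (2857, 3792), (2858, 3795), (2859, 2859), (2860, 3768), (2861, 3769), (2862, 2106), (2863, 2108), (2864, 3802), (2865, 3803), (2866, 2866), (2867, 2867), (2868, 3776), (2869, 3777), (2870, 3810), (2871, 2871), (2872, 2872), (2873, 2873), (2874, 2116), (2875, 2118), (2876, 3817), (2877, 3818), (2878, 2878), (2879, 2879)]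
    ⟨e3 q2816 (flp_f L40121) q3511, e3 q2817 L29376 q2817, e3 q2818 L29388 q2818, e3 q2819 L42297 q3739, e3 q2820 (flp_f L29401) q2079, e3 q2821 L42326 q3742, e3 q2822 (flp_f L29422) q2080, e3 q2823 (flp_f L42366) q3746, e3 q2824 L29447 q2824, e3 q2825 L29456 q2825, e3 q2826 L29464 q2826, e3 q2827 L29469 q2083, e3 q2828 (flp_f L42428) q3753, e3 q2829 L29488 q2829, e3 q2830 L42443 q3754, e3 q2831 (flp_f L29502) q2086, e3 q2832 (flp_f L42484) q3758, e3 q2833 L29527 q2100, e3 q2834 (flp_f L29529) q2088, e3 q2835 (flp_f L42528) q3763, e3 q2836 L29551 q2836, e3 q2837 L29559 q2104, e3 q2838 L29565 q2090, e3 q2839 (flp_f L42582) q3770, e3 q2840 L29582 q2107, e3 q2841 L42585 q3771, e3 q2842 L29599 q2842, e3 q2843 L29606 q2110, e3 q2844 L29613 q2111, e3 q2845 L29621 q2095, e3 q2846 (flp_f L29633) q2097, e3 q2847 (flp_f L42683) q3780, e3 q2848 L29660 q2848, e3 q2849 (flp_f L42477) q3757, e3 q2850 L29674 q2099, e3 q2851 (flp_f L42742) q3786, e3 q2852 (flp_f L42503) q3760, e3 q2853 L29704 q2853, e3 q2854 (flp_f L42521) q3762, e3 q2855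 L29718 q2102, e3 q2856 (flp_f L42783) q3791, e3 q2857 (flp_f L42793) q3792, e3 q2858 L42810 q3795, e3 q2859 L29750 q2859, e3 q2860 (flp_f L42567) q3768, e3 q2861 (flp_f L42574) q3769, e3 q2862 L29770 q2106, e3 q2863 (flp_f L29774) q2108, e3 q2864 (flp_f L42873) q3802, e3 q2865 (flp_f L42880) q3803, e3 q2866 L29803 q2866, e3 q2867 L29813 q2867, e3 q2868 (flp_f L42627) q3776, e3 q2869 (flp_f L42635) q3777, e3 q2870 L42931 q3810, e3 q2871 L29847 q2871, e3 q2872 L29857 q2872, e3 q2873 L29866 q2873, e3 q2874 L29875 q2116, e3 q2875 (flp_f L29879) q2118, e3 q2876 (flp_f L43004) q3817, e3 q2877 (flp_f L43013) q3818, e3 q2878 L29909 q2878, e3 q2879 L29918 q2879, trivial⟩ (by decide +kernel)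

theorem ce_f_45 : ∀ r, r < 64 → sm gf (Qf (2880 + r)) = Qf (tab Gen.f (2880 + r)) :=
  edges_tab (sm gf) Qf (tab Gen.f) 2880 [(2880, 2880), (2881, 2881), (2882, 2124), (2883, 2125), (2884, 3826), (2885, 3827), (2886, 3828), (2887, 2887), (2888, 2888), (2889, 2889), (2890, 2890), (2891, 2132), (2892, 2133), (2893, 2134), (2894, 3830), (2895, 2895), (2896, 2896), (2897, 3839), (2898, 2138), (2899, 3842), (2900, 2141), (2901, 3843), (2902, 2902), (2903, 2903), (2904, 3848), (2905, 2905), (2906, 3852), (2907, 2145), (2908, 2908), (2909, 2909), (2910, 2910), (2911, 3855), (2912, 2168), (2913, 3858), (2914, 2151), (2915, 2171), (2916, 3862), (2917, 3863), (2918, 2153), (2919, 3853), (2920, 3867), (2921, 2158), (2922, 3870), (2923, 3871), (2924, 2160), (2925, 2925), (2926, 3875), (2927, 3877), (2928, 2163), (2929, 2164), (2930, 3882), (2931, 2931), (2932, 2932), (2933, 2167), (2934, 3886), (2935, 3887), (2936, 2169), (2937, 2937), (2938, 3891), (2939, 3893), (2940, 2172), (2941, 2173), (2942, 3898), (2943, 2943)]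
    ⟨e3 q2880 L29926 q2880, e3 q2881 L29935 q2881, e3 q2882 L29945 q2124, e3 q2883 L29954 q2125, e3 q2884 (flp_f L43080) q3826, e3 q2885 (flp_f L43087) q3827, e3 q2886 (flp_f L43096) q3828, e3 q2887 L29985 q2887, e3 q2888 L29994 q2888, e3 q2889 L30001 q2889, e3 q2890 L30013 q2890, e3 q2891 L30020 q2132, e3 q2892 L30028 q2133, e3 q2893 L30037 q2134, e3 q2894 (flp_f L647581) q3830, e3 q2895 L30079 q2895, e3 q2896 L30089 q2896, e3 q2897 L43271 q3839, e3 q2898 (flp_f L30110) q2138, e3 q2899 (flp_f L43312) q3842, e3 q2900 L30151 q2141, e3 q2901 (flp_f L43345) q3843, e3 q2902 L30169 q2902, e3 q2903 L30180 q2903, e3 q2904 L43400 q3848, e3 q2905 L30200 q2905, e3 q2906 L43436 q3852, e3 q2907 (flp_f L30215) q2145, e3 q2908 L30230 q2908, e3 q2909 L30243 q2909, e3 q2910 L30274 q2910, e3 q2911 L43544 q3855, e3 q2912 L30302 q2168, e3 q2913 L43584 q3858, e3 q2914 (flp_f L30318) q2151, e3 q2915 L30332 q2171, e3 q2916 L43621 q3862, e3 q2917 L43630 q3863, e3 q2918 (flp_f L30354) q2153, e3 q2919 (flp_f L43452) q3853, e3 q2920 L43748 q3867,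 e3 q2921 (flp_f L30454) q2158, e3 q2922 L43819 q3870, e3 q2923 L43827 q3871, e3 q2924 (flp_f L30489) q2160, e3 q2925 L30508 q2925, e3 q2926 L43872 q3875, e3 q2927 L43886 q3877, e3 q2928 (flp_f L30523) q2163, e3 q2929 (flp_f L30530) q2164, e3 q2930 (flp_f L43928) q3882, e3 q2931 L30554 q2931, e3 q2932 L30562 q2932, e3 q2933 (flp_f L30606) q2167, e3 q2934 L44050 q3886, e3 q2935 L44058 q3887, e3 q2936 (flp_f L30647) q2169, e3 q2937 L30665 q2937, e3 q2938 L44110 q3891, e3 q2939 L44127 q3893, e3 q2940 (flp_f L30684) q2172, e3 q2941 (flp_f L30691) q2173, e3 q2942 (flp_f L44174) q3898, e3 q2943 L30719 q2943, trivial⟩ (by decide +kernel)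

theorem ce_f_46 : ∀ r, r < 64 → sm gf (Qf (2944 + r)) = Qf (tab Gen.f (2944 + r)) :=
  edges_tab (sm gf) Qf (tab Gen.f) 2944 [(2944, 2944), (2945, 2188), (2946, 3903), (2947, 2177), (2948, 2178), (2949, 2192), (2950, 2193), (2951, 3909), (2952, 2181), (2953, 3912), (2954, 2182), (2955, 3916), (2956, 2199), (2957, 2957), (2958, 2201), (2959, 2185), (2960, 3923), (2961, 2204), (2962, 3901), (2963, 3924), (2964, 2189), (2965, 3904), (2966, 2966), (2967, 3906), (2968, 3907), (2969, 3931), (2970, 2194), (2971, 3935), (2972, 3911), (2973, 2196), (2974, 3939), (2975, 2975), (2976, 3915), (2977, 2198), (2978, 3945), (2979, 3918), (2980, 3946), (2981, 2981), (2982, 3921), (2983, 3922), (2984, 2203), (2985, 3954), (2986, 3956), (2987, 2206), (2988, 2207), (2989, 3961), (2990, 2990), (2991, 2991), (2992, 3965), (2993, 2210), (2994, 3967), (2995, 2211), (2996, 3971), (2997, 2997), (2998, 2998), (2999, 2999), (3000, 2214), (3001, 3973), (3002, 3002), (3003, 3975), (3004, 2217), (3005, 3977), (3006, 2218), (3007, 3981)]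
    ⟨e3 q2944 L30726 q2944, e3 q2945 L30800 q2188, e3 q2946 L44339 q3903, e3 q2947 (flp_f L30821) q2177, e3 q2948 (flp_f L30827) q2178, e3 q2949 L30854 q2192, e3 q2950 L30862 q2193, e3 q2951 L44419 q3909, e3 q2952 (flp_f L30875) q2181, e3 q2953 L44446 q3912, e3 q2954 (flp_f L30889) q2182, e3 q2955 (flp_f L44478) q3916, e3 q2956 L30908 q2199, e3 q2957 L30916 q2957, e3 q2958 L30925 q2201, e3 q2959 L30933 q2185, e3 q2960 (flp_f L44541) q3923, e3 q2961 L30952 q2204, e3 q2962 (flp_f L44306) q3901, e3 q2963 L44736 q3924, e3 q2964 (flp_f L31092) q2189, e3 q2965 (flp_f L44360) q3904, e3 q2966 L31124 q2966, e3 q2967 (flp_f L44381) q3906, e3 q2968 (flp_f L44408) q3907, e3 q2969 L44852 q3931, e3 q2970 (flp_f L31170) q2194, e3 q2971 (flp_f L44890) q3935, e3 q2972 (flp_f L44444) q3911, e3 q2973 (flp_f L31196) q2196, e3 q2974 (flp_f L44932) q3939, e3 q2975 L31217 q2975, e3 q2976 (flp_f L44472) q3915, e3 q2977 L31228 q2198, e3 q2978 (flp_f L44983) q3945, e3 q2979 (flp_f L44493) q3918, e3 q2980 L44986 q3946, e3 q2981 L31263 q2981, e3 q2982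 (flp_f L44521) q3921, e3 q2983 (flp_f L44529) q3922, e3 q2984 L31290 q2203, e3 q2985 L45064 q3954, e3 q2986 L45084 q3956, e3 q2987 (flp_f L31315) q2206, e3 q2988 (flp_f L31325) q2207, e3 q2989 (flp_f L45135) q3961, e3 q2990 L31354 q2990, e3 q2991 L31360 q2991, e3 q2992 L45172 q3965, e3 q2993 (flp_f L31376) q2210, e3 q2994 L45204 q3967, e3 q2995 (flp_f L31393) q2211, e3 q2996 (flp_f L45237) q3971, e3 q2997 L31418 q2997, e3 q2998 L31426 q2998, e3 q2999 L31433 q2999, e3 q3000 L31438 q2214, e3 q3001 (flp_f L45303) q3973, e3 q3002 L31461 q3002, e3 q3003 L45316 q3975, e3 q3004 (flp_f L31477) q2217, e3 q3005 L45348 q3977, e3 q3006 (flp_f L31494) q2218, e3 q3007 (flp_f L45383) q3981, trivial⟩ (by decide +kernel)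

theorem ce_f_47 : ∀ r, r < 64 → sm gf (Qf (3008 + r)) = Qf (tab Gen.f (3008 + r)) :=
  edges_tab (sm gf) Qf (tab Gen.f) 3008 [(3008, 2240), (3009, 3009), (3010, 2242), (3011, 2221), (3012, 3987), (3013, 2245), (3014, 3988), (3015, 2224), (3016, 2248), (3017, 2226), (3018, 3994), (3019, 3019), (3020, 2252), (3021, 2228), (3022, 2254), (3023, 3951), (3024, 3024), (3025, 2257), (3026, 2258), (3027, 2233), (3028, 4002), (3029, 2235), (3030, 3976), (3031, 2237), (3032, 4008), (3033, 3033), (3034, 3980), (3035, 2239), (3036, 3982), (3037, 4013), (3038, 3038), (3039, 3985), (3040, 3986), (3041, 2244), (3042, 2246), (3043, 3043), (3044, 3990), (3045, 3991), (3046, 3046), (3047, 3993), (3048, 2250), (3049, 4029), (3050, 4031), (3051, 3051), (3052, 3998), (3053, 3999), (3054, 2255), (3055, 3948), (3056, 3947), (3057, 3057), (3058, 3919), (3059, 4001), (3060, 2260), (3061, 3061), (3062, 3062), (3063, 2262), (3064, 3064), (3065, 3065), (3066, 3066), (3067, 2265), (3068, 4048), (3069, 3069), (3070, 3070), (3071, 3071)]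
    ⟨e3 q3008 L31518 q2240, e3 q3009 L31527 q3009, e3 q3010 L31536 q2242, e3 q3011 L31542 q2221, e3 q3012 (flp_f L45446) q3987, e3 q3013 L31562 q2245, e3 q3014 L45457 q3988, e3 q3015 (flp_f L31574) q2224, e3 q3016 L31602 q2248, e3 q3017 (flp_f L31604) q2226, e3 q3018 (flp_f L45537) q3994, e3 q3019 L31620 q3019, e3 q3020 L31627 q2252, e3 q3021 L31633 q2228, e3 q3022 L31651 q2254, e3 q3023 L623084 q3951, e3 q3024 L31668 q3024, e3 q3025 L31675 q2257, e3 q3026 L31681 q2258, e3 q3027 L31693 q2233, e3 q3028 L45658 q4002, e3 q3029 (flp_f L31703) q2235, e3 q3030 (flp_f L45346) q3976, e3 q3031 (flp_f L31734) q2237, e3 q3032 (flp_f L45748) q4008, e3 q3033 L31756 q3033, e3 q3034 (flp_f L45377) q3980, e3 q3035 L31769 q2239, e3 q3036 (flp_f L45401) q3982, e3 q3037 L45807 q4013, e3 q3038 L31808 q3038, e3 q3039 (flp_f L45428) q3985, e3 q3040 (flp_f L45436) q3986, e3 q3041 L31831 q2244, e3 q3042 (flp_f L31842) q2246, e3 q3043 L31866 q3043, e3 q3044 (flp_f L45488) q3990, e3 q3045 (flp_f L45518) q3991, e3 q3046 L31912 q3046, e3 q3047 (flp_f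 L45531) q3993, e3 q3048 L31921 q2250, e3 q3049 (flp_f L46008) q4029, e3 q3050 L46033 q4031, e3 q3051 L31949 q3051, e3 q3052 (flp_f L45572) q3998, e3 q3053 (flp_f L45578) q3999, e3 q3054 (flp_f L31976) q2255, e3 q3055 (flp_f L624655) q3948, e3 q3056 (flp_f L624079) q3947, e3 q3057 L32008 q3057, e3 q3058 (flp_f L625855) q3919, e3 q3059 (flp_f L45646) q4001, e3 q3060 (flp_f L32037) q2260, e3 q3061 L32065 q3061, e3 q3062 L32076 q3062, e3 q3063 L32083 q2262, e3 q3064 L32094 q3064, e3 q3065 L32107 q3065, e3 q3066 L32115 q3066, e3 q3067 L32121 q2265, e3 q3068 L46290 q4048, e3 q3069 L32146 q3069, e3 q3070 L32155 q3070, e3 q3071 L32163 q3071, trivial⟩ (by decide +kernel)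

theorem ce_f_48 : ∀ r, r < 64 → sm gf (Qf (3072 + r)) = Qf (tab Gen.f (3072 + r)) :=
  edges_tab (sm gf) Qf (tab Gen.f) 3072 [(3072, 2270), (3073, 4053), (3074, 4054), (3075, 3075), (3076, 3076), (3077, 2274), (3078, 3078), (3079, 3079), (3080, 4063), (3081, 3081), (3082, 3082), (3083, 4067), (3084, 3084), (3085, 2281), (3086, 4069), (3087, 2284), (3088, 4070), (3089, 2285), (3090, 3090), (3091, 2287), (3092, 4076), (3093, 2325), (3094, 3094), (3095, 2289), (3096, 3096), (3097, 3864), (3098, 2329), (3099, 3099), (3100, 3100), (3101, 2294), (3102, 2296), (3103, 2333), (3104, 2311), (3105, 2312), (3106, 2334), (3107, 2313), (3108, 2300), (3109, 4093), (3110, 3110), (3111, 2337), (3112, 2316), (3113, 2317), (3114, 3114), (3115, 3115), (3116, 2338), (3117, 2339), (3118, 2318), (3119, 2319), (3120, 4085), (3121, 4087), (3122, 4091), (3123, 4092), (3124, 2315), (3125, 4106), (3126, 4098), (3127, 4101), (3128, 2320), (3129, 4071), (3130, 3130), (3131, 4074), (3132, 3132), (3133, 2324), (3134, 4114), (3135, 4116)]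
    ⟨e3 q3072 (flp_f L32168) q2270, e3 q3073 (flp_f L46340) q4053, e3 q3074 (flp_f L46350) q4054, e3 q3075 L32201 q3075, e3 q3076 L32210 q3076, e3 q3077 (flp_f L32216) q2274, e3 q3078 L32233 q3078, e3 q3079 L32241 q3079, e3 q3080 L46425 q4063, e3 q3081 L32259 q3081, e3 q3082 L32265 q3082, e3 q3083 L46455 q4067, e3 q3084 L32280 q3084, e3 q3085 (flp_f L32283) q2281, e3 q3086 (flp_f L46477) q4069, e3 q3087 L32304 q2284, e3 q3088 L46500 q4070, e3 q3089 (flp_f L32317) q2285, e3 q3090 L32347 q3090, e3 q3091 (flp_f L32348) q2287, e3 q3092 (flp_f L46597) q4076, e3 q3093 L32374 q2325, e3 q3094 L32383 q3094, e3 q3095 L32388 q2289, e3 q3096 L32407 q3096, e3 q3097 L625487 q3864, e3 q3098 L32427 q2329, e3 q3099 L32438 q3099, e3 q3100 L32447 q3100, e3 q3101 L32455 q2294, e3 q3102 (flp_f L32470) q2296, e3 q3103 L32495 q2333, e3 q3104 L32506 q2311, e3 q3105 L32534 q2312, e3 q3106 L32543 q2334, e3 q3107 L32551 q2313, e3 q3108 L32558 q2300, e3 q3109 (flp_f L46890) q4093, e3 q3110 L32583 q3110, e3 q3111 L32590 q2337, e3 q3112 L32598 q2316,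 e3 q3113 L32605 q2317, e3 q3114 L32624 q3114, e3 q3115 L32633 q3115, e3 q3116 L32640 q2338, e3 q3117 L32650 q2339, e3 q3118 L32658 q2318, e3 q3119 L32667 q2319, e3 q3120 (flp_f L46767) q4085, e3 q3121 (flp_f L46823) q4087, e3 q3122 (flp_f L46875) q4091, e3 q3123 (flp_f L46883) q4092, e3 q3124 L32775 q2315, e3 q3125 L47163 q4106, e3 q3126 (flp_f L46952) q4098, e3 q3127 (flp_f L47015) q4101, e3 q3128 (flp_f L32836) q2320, e3 q3129 (flp_f L46530) q4071, e3 q3130 L32874 q3130, e3 q3131 (flp_f L46583) q4074, e3 q3132 L32913 q3132, e3 q3133 L32920 q2324, e3 q3134 (flp_f L47342) q4114, e3 q3135 L47375 q4116, trivial⟩ (by decide +kernel)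

theorem ce_f_49 : ∀ r, r < 64 → sm gf (Qf (3136 + r)) = Qf (tab Gen.f (3136 + r)) :=
  edges_tab (sm gf) Qf (tab Gen.f) 3136 [(3136, 4079), (3137, 3137), (3138, 2328), (3139, 3851), (3140, 3865), (3141, 4082), (3142, 3142), (3143, 4084), (3144, 4088), (3145, 4090), (3146, 2336), (3147, 4125), (3148, 4097), (3149, 3866), (3150, 4100), (3151, 2340), (3152, 4132), (3153, 2341), (3154, 2342), (3155, 4135), (3156, 4136), (3157, 2344), (3158, 2346), (3159, 4137), (3160, 4139), (3161, 4141), (3162, 2349), (3163, 4140), (3164, 2516), (3165, 2351), (3166, 2363), (3167, 3167), (3168, 3168), (3169, 4144), (3170, 2357), (3171, 4146), (3172, 2358), (3173, 4142), (3174, 4147), (3175, 2360), (3176, 2361), (3177, 2498), (3178, 2517), (3179, 2518), (3180, 3180), (3181, 2366), (3182, 3182), (3183, 2368), (3184, 3184), (3185, 3185), (3186, 4148), (3187, 2371), (3188, 4158), (3189, 3189), (3190, 3190), (3191, 3191), (3192, 2374), (3193, 3193), (3194, 3194), (3195, 2378), (3196, 3196), (3197, 3197), (3198, 4162), (3199, 2381)]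
    ⟨e3 q3136 (flp_f L46632) q4079, e3 q3137 L32962 q3137, e3 q3138 (flp_f L32977) q2328, e3 q3139 (flp_f L625558) q3851, e3 q3140 L626902 q3865, e3 q3141 (flp_f L46708) q4082, e3 q3142 L33020 q3142, e3 q3143 (flp_f L46758) q4084, e3 q3144 (flp_f L46848) q4088, e3 q3145 (flp_f L46868) q4090, e3 q3146 L33116 q2336, e3 q3147 L47609 q4125, e3 q3148 (flp_f L46936) q4097, e3 q3149 (flp_f L627192) q3866, e3 q3150 (flp_f L47008) q4100, e3 q3151 (flp_f L33210) q2340, e3 q3152 L47747 q4132, e3 q3153 (flp_f L33241) q2341, e3 q3154 (flp_f L33273) q2342, e3 q3155 (flp_f L47821) q4135, e3 q3156 (flp_f L47831) q4136, e3 q3157 L33302 q2344, e3 q3158 L33328 q2346, e3 q3159 (flp_f L47886) q4137, e3 q3160 L47929 q4139, e3 q3161 L47966 q4141, e3 q3162 (flp_f L33378) q2349, e3 q3163 L625567 q4140, e3 q3164 (flp_f L625531) q2516, e3 q3165 (flp_f L33411) q2351, e3 q3166 L33424 q2363, e3 q3167 L33430 q3167, e3 q3168 L33441 q3168, e3 q3169 L48180 q4144, e3 q3170 (flp_f L33551) q2357, e3 q3171 L48263 q4146, e3 q3172 (flp_f L33588) q2358, e3 q3173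 (flp_f L47981) q4142, e3 q3174 L627129 q4147, e3 q3175 (flp_f L33621) q2360, e3 q3176 (flp_f L33631) q2361, e3 q3177 (flp_f L625701) q2498, e3 q3178 (flp_f L627150) q2517, e3 q3179 (flp_f L601961) q2518, e3 q3180 L33668 q3180, e3 q3181 (flp_f L33785) q2366, e3 q3182 L33832 q3182, e3 q3183 (flp_f L33858) q2368, e3 q3184 L33878 q3184, e3 q3185 L33885 q3185, e3 q3186 L627199 q4148, e3 q3187 (flp_f L33908) q2371, e3 q3188 (flp_f L48782) q4158, e3 q3189 L33929 q3189, e3 q3190 L33935 q3190, e3 q3191 L33941 q3191, e3 q3192 L33945 q2374, e3 q3193 L33960 q3193, e3 q3194 L34050 q3194, e3 q3195 (flp_f L34080) q2378, e3 q3196 L34104 q3196, e3 q3197 L34110 q3197, e3 q3198 L49101 q4162, e3 q3199 (flp_f L34140) q2381, trivial⟩ (by decide +kernel)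

theorem ce_f_50 : ∀ r, r < 64 → sm gf (Qf (3200 + r)) = Qf (tab Gen.f (3200 + r)) :=
  edges_tab (sm gf) Qf (tab Gen.f) 3200 [(3200, 4163), (3201, 3201), (3202, 3202), (3203, 3203), (3204, 2384), (3205, 3205), (3206, 2399), (3207, 3207), (3208, 2401), (3209, 2402), (3210, 2391), (3211, 3211), (3212, 2405), (3213, 2393), (3214, 2407), (3215, 2461), (3216, 3216), (3217, 2410), (3218, 2411), (3219, 4170), (3220, 4165), (3221, 3221), (3222, 4167), (3223, 4171), (3224, 3224), (3225, 4164), (3226, 4169), (3227, 2408), (3228, 2460), (3229, 2459), (3230, 3230), (3231, 2440), (3232, 4178), (3233, 2412), (3234, 2413), (3235, 3235), (3236, 3236), (3237, 3237), (3238, 2416), (3239, 3239), (3240, 2419), (3241, 3241), (3242, 3242), (3243, 3243), (3244, 3244), (3245, 2427), (3246, 2445), (3247, 3247), (3248, 2447), (3249, 2448), (3250, 4174), (3251, 3251), (3252, 2451), (3253, 2452), (3254, 3254), (3255, 2454), (3256, 2455), (3257, 4177), (3258, 2457), (3259, 3259), (3260, 4187), (3261, 4188), (3262, 4195), (3263, 4190)]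
    ⟨e3 q3200 (flp_f L49138) q4163, e3 q3201 L34163 q3201, e3 q3202 L34170 q3202, e3 q3203 L34177 q3203, e3 q3204 L34182 q2384, e3 q3205 L34200 q3205, e3 q3206 L34318 q2399, e3 q3207 L34379 q3207, e3 q3208 L34388 q2401, e3 q3209 L34409 q2402, e3 q3210 (flp_f L34443) q2391, e3 q3211 L34463 q3211, e3 q3212 L34470 q2405, e3 q3213 L34476 q2393, e3 q3214 L34492 q2407, e3 q3215 (flp_f L626622) q2461, e3 q3216 L34507 q3216, e3 q3217 L34514 q2410, e3 q3218 L34520 q2411, e3 q3219 L50122 q4170, e3 q3220 (flp_f L49496) q4165, e3 q3221 L34907 q3221, e3 q3222 (flp_f L49590) q4167, e3 q3223 (flp_f L626613) q4171, e3 q3224 L34952 q3224, e3 q3225 L626655 q4164, e3 q3226 (flp_f L49642) q4169, e3 q3227 (flp_f L34976) q2408, e3 q3228 L626646 q2460, e3 q3229 L626477 q2459, e3 q3230 L35000 q3230, e3 q3231 L626630 q2440, e3 q3232 L50464 q4178, e3 q3233 (flp_f L35038) q2412, e3 q3234 (flp_f L35058) q2413, e3 q3235 L35086 q3235, e3 q3236 L35094 q3236, e3 q3237 L35101 q3237, e3 q3238 L35104 q2416, e3 q3239 L35123 q3239, e3 q3240 (flp_f L35138) q2419,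 e3 q3241 L35164 q3241, e3 q3242 L35187 q3242, e3 q3243 L35194 q3243, e3 q3244 L35221 q3244, e3 q3245 (flp_f L35270) q2427, e3 q3246 L35295 q2445, e3 q3247 L35318 q3247, e3 q3248 L35327 q2447, e3 q3249 L35352 q2448, e3 q3250 L626515 q4174, e3 q3251 L35368 q3251, e3 q3252 L35373 q2451, e3 q3253 L35379 q2452, e3 q3254 L35418 q3254, e3 q3255 L35425 q2454, e3 q3256 L35450 q2455, e3 q3257 (flp_f L626565) q4177, e3 q3258 L35506 q2457, e3 q3259 L35604 q3259, e3 q3260 (flp_f L50843) q4187, e3 q3261 (flp_f L50868) q4188, e3 q3262 L51441 q4195, e3 q3263 (flp_f L50932) q4190, trivial⟩ (by decide +kernel)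

theorem ce_f_51 : ∀ r, r < 64 → sm gf (Qf (3264 + r)) = Qf (tab Gen.f (3264 + r)) :=
  edges_tab (sm gf) Qf (tab Gen.f) 3264 [(3264, 2449), (3265, 4173), (3266, 4196), (3267, 3267), (3268, 4189), (3269, 4198), (3270, 4192), (3271, 2456), (3272, 4175), (3273, 2462), (3274, 3274), (3275, 3275), (3276, 2464), (3277, 4207), (3278, 3278), (3279, 3279), (3280, 3280), (3281, 3281), (3282, 4213), (3283, 3283), (3284, 3284), (3285, 3285), (3286, 2472), (3287, 2473), (3288, 4197), (3289, 4218), (3290, 3290), (3291, 3291), (3292, 2478), (3293, 2479), (3294, 4220), (3295, 4219), (3296, 3296), (3297, 3297), (3298, 3298), (3299, 3299), (3300, 4226), (3301, 3301), (3302, 2485), (3303, 4228), (3304, 4214), (3305, 2488), (3306, 4212), (3307, 2491), (3308, 2512), (3309, 3309), (3310, 3310), (3311, 4149), (3312, 3312), (3313, 3313), (3314, 2511), (3315, 3315), (3316, 4232), (3317, 2514), (3318, 2519), (3319, 2522), (3320, 4233), (3321, 2525), (3322, 4235), (3323, 3323), (3324, 3324), (3325, 4241), (3326, 3326), (3327, 2532)]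
    ⟨e3 q3264 (flp_f L35720) q2449, e3 q3265 (flp_f L626502) q4173, e3 q3266 (flp_f L626551) q4196, e3 q3267 L35744 q3267, e3 q3268 L626595 q4189, e3 q3269 L51673 q4198, e3 q3270 (flp_f L51077) q4192, e3 q3271 (flp_f L35925) q2456, e3 q3272 L626586 q4175, e3 q3273 (flp_f L36010) q2462, e3 q3274 L36037 q3274, e3 q3275 L36047 q3275, e3 q3276 L36054 q2464, e3 q3277 L52005 q4207, e3 q3278 L36081 q3278, e3 q3279 L36090 q3279, e3 q3280 L36098 q3280, e3 q3281 L36106 q3281, e3 q3282 L52063 q4213, e3 q3283 L36127 q3283, e3 q3284 L36136 q3284, e3 q3285 L36145 q3285, e3 q3286 L36152 q2472, e3 q3287 (flp_f L36167) q2473, e3 q3288 (flp_f L623925) q4197, e3 q3289 (flp_f L52146) q4218, e3 q3290 L36197 q3290, e3 q3291 L36205 q3291, e3 q3292 L36215 q2478, e3 q3293 L36223 q2479, e3 q3294 L623945 q4220, e3 q3295 L624324 q4219, e3 q3296 L36245 q3296, e3 q3297 L36256 q3297, e3 q3298 L36264 q3298, e3 q3299 L36269 q3299, e3 q3300 L52258 q4226, e3 q3301 L36288 q3301, e3 q3302 (flp_f L36291) q2485, e3 q3303 (flp_f L52282) q4228, e3 q3304 (flp_f L616844)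 q4214, e3 q3305 (flp_f L36319) q2488, e3 q3306 L616861 q4212, e3 q3307 L36341 q2491, e3 q3308 L36390 q2512, e3 q3309 L36399 q3309, e3 q3310 L36424 q3310, e3 q3311 (flp_f L627107) q4149, e3 q3312 L36497 q3312, e3 q3313 L36642 q3313, e3 q3314 L36657 q2511, e3 q3315 L36755 q3315, e3 q3316 L53371 q4232, e3 q3317 (flp_f L37190) q2514, e3 q3318 (flp_f L37668) q2519, e3 q3319 L37878 q2522, e3 q3320 (flp_f L54467) q4233, e3 q3321 L38307 q2525, e3 q3322 (flp_f L55044) q4235, e3 q3323 L38326 q3323, e3 q3324 L38334 q3324, e3 q3325 L55093 q4241, e3 q3326 L38352 q3326, e3 q3327 L38362 q2532, trivial⟩ (by decide +kernel)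

theorem ce_f_52 : ∀ r, r < 64 → sm gf (Qf (3328 + r)) = Qf (tab Gen.f (3328 + r)) :=
  edges_tab (sm gf) Qf (tab Gen.f) 3328 [(3328, 4246), (3329, 2534), (3330, 4250), (3331, 2531), (3332, 4244), (3333, 4255), (3334, 2533), (3335, 4247), (3336, 4259), (3337, 4260), (3338, 2535), (3339, 2541), (3340, 4265), (3341, 4267), (3342, 2538), (3343, 2539), (3344, 4272), (3345, 4262), (3346, 4263), (3347, 3347), (3348, 3348), (3349, 4279), (3350, 2552), (3351, 4282), (3352, 2554), (3353, 4286), (3354, 2546), (3355, 2557), (3356, 4290), (3357, 2548), (3358, 2560), (3359, 4294), (3360, 4295), (3361, 2550), (3362, 3362), (3363, 4280), (3364, 4301), (3365, 2553), (3366, 4283), (3367, 4305), (3368, 4306), (3369, 2555), (3370, 3370), (3371, 4311), (3372, 4312), (3373, 2558), (3374, 2568), (3375, 4317), (3376, 4319), (3377, 2561), (3378, 2562), (3379, 4324), (3380, 2574), (3381, 2575), (3382, 4328), (3383, 2565), (3384, 2566), (3385, 4333), (3386, 4314), (3387, 4315), (3388, 4337), (3389, 2569), (3390, 4340), (3391, 2570)]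
    ⟨e3 q3328 L55144 q4246, e3 q3329 L38382 q2534, e3 q3330 L55181 q4250, e3 q3331 (flp_f L38398) q2531, e3 q3332 (flp_f L55126) q4244, e3 q3333 L55232 q4255, e3 q3334 (flp_f L38428) q2533, e3 q3335 (flp_f L55159) q4247, e3 q3336 L55270 q4259, e3 q3337 L55278 q4260, e3 q3338 (flp_f L38466) q2535, e3 q3339 L38482 q2541, e3 q3340 L55322 q4265, e3 q3341 L55340 q4267, e3 q3342 (flp_f L38501) q2538, e3 q3343 (flp_f L38511) q2539, e3 q3344 (flp_f L55384) q4272, e3 q3345 (flp_f L55302) q4262, e3 q3346 (flp_f L55309) q4263, e3 q3347 L38550 q3347, e3 q3348 L38560 q3348, e3 q3349 L55448 q4279, e3 q3350 L38577 q2552, e3 q3351 L55477 q4282, e3 q3352 L38600 q2554, e3 q3353 L55514 q4286, e3 q3354 (flp_f L38612) q2546, e3 q3355 L38625 q2557, e3 q3356 L55560 q4290, e3 q3357 (flp_f L38641) q2548, e3 q3358 L38656 q2560, e3 q3359 L55595 q4294, e3 q3360 L55602 q4295, e3 q3361 (flp_f L38673) q2550, e3 q3362 L38687 q3362, e3 q3363 (flp_f L55459) q4280, e3 q3364 L55666 q4301, e3 q3365 (flp_f L38710) q2553, e3 q3366 (flp_f L55494) q4283, e3 q3367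 L55704 q4305, e3 q3368 L55711 q4306, e3 q3369 (flp_f L38748) q2555, e3 q3370 L38761 q3370, e3 q3371 L55766 q4311, e3 q3372 L55774 q4312, e3 q3373 (flp_f L38794) q2558, e3 q3374 L38811 q2568, e3 q3375 L55823 q4317, e3 q3376 L55838 q4319, e3 q3377 (flp_f L38829) q2561, e3 q3378 (flp_f L38834) q2562, e3 q3379 (flp_f L55880) q4324, e3 q3380 L38855 q2574, e3 q3381 L38863 q2575, e3 q3382 L55929 q4328, e3 q3383 (flp_f L38884) q2565, e3 q3384 (flp_f L38894) q2566, e3 q3385 (flp_f L55980) q4333, e3 q3386 (flp_f L55801) q4314, e3 q3387 (flp_f L55809) q4315, e3 q3388 L56013 q4337, e3 q3389 (flp_f L38941) q2569, e3 q3390 L56036 q4340, e3 q3391 (flp_f L38957) q2570, trivial⟩ (by decide +kernel)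

theorem ce_f_53 : ∀ r, r < 64 → sm gf (Qf (3392 + r)) = Qf (tab Gen.f (3392 + r)) :=
  edges_tab (sm gf) Qf (tab Gen.f) 3392 [(3392, 4344), (3393, 4321), (3394, 2725), (3395, 4323), (3396, 2573), (3397, 4351), (3398, 4326), (3399, 3399), (3400, 4355), (3401, 2577), (3402, 3402), (3403, 4359), (3404, 4360), (3405, 2579), (3406, 3406), (3407, 4365), (3408, 4367), (3409, 2582), (3410, 2583), (3411, 4372), (3412, 3412), (3413, 3413), (3414, 3414), (3415, 4377), (3416, 4378), (3417, 2587), (3418, 2605), (3419, 4383), (3420, 4385), (3421, 2590), (3422, 2591), (3423, 4390), (3424, 2611), (3425, 2612), (3426, 4394), (3427, 2594), (3428, 4397), (3429, 2595), (3430, 4401), (3431, 2618), (3432, 2755), (3433, 2620), (3434, 2598), (3435, 4408), (3436, 2623), (3437, 4410), (3438, 4412), (3439, 2602), (3440, 2603), (3441, 4417), (3442, 4380), (3443, 4381), (3444, 4421), (3445, 2606), (3446, 4424), (3447, 2607), (3448, 4428), (3449, 4387), (3450, 2766), (3451, 4389), (3452, 2610), (3453, 4435), (3454, 4392), (3455, 4437)]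
    ⟨e3 q3392 (flp_f L56071) q4344, e3 q3393 (flp_f L55857) q4321, e3 q3394 L38984 q2725, e3 q3395 (flp_f L55873) q4323, e3 q3396 L38998 q2573, e3 q3397 (flp_f L56126) q4351, e3 q3398 (flp_f L55896) q4326, e3 q3399 L39019 q3399, e3 q3400 L56161 q4355, e3 q3401 (flp_f L39038) q2577, e3 q3402 L39054 q3402, e3 q3403 L56204 q4359, e3 q3404 L56214 q4360, e3 q3405 (flp_f L39081) q2579, e3 q3406 L39098 q3406, e3 q3407 L56260 q4365, e3 q3408 L56278 q4367, e3 q3409 (flp_f L39118) q2582, e3 q3410 (flp_f L39127) q2583, e3 q3411 (flp_f L56321) q4372, e3 q3412 L39150 q3412, e3 q3413 L39156 q3413, e3 q3414 L39164 q3414, e3 q3415 L56364 q4377, e3 q3416 L56373 q4378, e3 q3417 (flp_f L39189) q2587, e3 q3418 L39207 q2605, e3 q3419 L56422 q4383, e3 q3420 L56440 q4385, e3 q3421 (flp_f L39229) q2590, e3 q3422 (flp_f L39237) q2591, e3 q3423 (flp_f L56486) q4390, e3 q3424 L39259 q2611, e3 q3425 L39266 q2612, e3 q3426 L56516 q4394, e3 q3427 (flp_f L39279) q2594, e3 q3428 L56543 q4397, e3 q3429 (flp_f L39294) q2595, e3 q3430 (flp_f L56575) q4401,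 e3 q3431 L39316 q2618, e3 q3432 L39322 q2755, e3 q3433 L39329 q2620, e3 q3434 L39334 q2598, e3 q3435 (flp_f L56628) q4408, e3 q3436 L39351 q2623, e3 q3437 L56638 q4410, e3 q3438 L56657 q4412, e3 q3439 (flp_f L39371) q2602, e3 q3440 (flp_f L39382) q2603, e3 q3441 (flp_f L56703) q4417, e3 q3442 (flp_f L56398) q4380, e3 q3443 (flp_f L56406) q4381, e3 q3444 L56738 q4421, e3 q3445 (flp_f L39429) q2606, e3 q3446 L56766 q4424, e3 q3447 (flp_f L39448) q2607, e3 q3448 (flp_f L56804) q4428, e3 q3449 (flp_f L56464) q4387, e3 q3450 L39481 q2766, e3 q3451 (flp_f L56481) q4389, e3 q3452 L39493 q2610, e3 q3453 (flp_f L56859) q4435, e3 q3454 (flp_f L56503) q4392, e3 q3455 L56871 q4437, trivial⟩ (by decide +kernel)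

theorem ce_f_54 : ∀ r, r < 64 → sm gf (Qf (3456 + r)) = Qf (tab Gen.f (3456 + r)) :=
  edges_tab (sm gf) Qf (tab Gen.f) 3456 [(3456, 2613), (3457, 4441), (3458, 4396), (3459, 2615), (3460, 4446), (3461, 2777), (3462, 4400), (3463, 2617), (3464, 4453), (3465, 4403), (3466, 4454), (3467, 2783), (3468, 4406), (3469, 4407), (3470, 2622), (3471, 2625), (3472, 2626), (3473, 3473), (3474, 3474), (3475, 2629), (3476, 2630), (3477, 3477), (3478, 3478), (3479, 3479), (3480, 2633), (3481, 3481), (3482, 2636), (3483, 3483), (3484, 2638), (3485, 2790), (3486, 3486), (3487, 2640), (3488, 3488), (3489, 4482), (3490, 2795), (3491, 3491), (3492, 3492), (3493, 2645), (3494, 2647), (3495, 2800), (3496, 3496), (3497, 2649), (3498, 3498), (3499, 2804), (3500, 3500), (3501, 2652), (3502, 4500), (3503, 2808), (3504, 3504), (3505, 3505), (3506, 2656), (3507, 2658), (3508, 4507), (3509, 4508), (3510, 2815), (3511, 2816), (3512, 3512), (3513, 3513), (3514, 2664), (3515, 4515), (3516, 3516), (3517, 3517), (3518, 4521), (3519, 3519)]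
    ⟨e3 q3456 (flp_f L39522) q2613, e3 q3457 (flp_f L56910) q4441, e3 q3458 (flp_f L56541) q4396, e3 q3459 (flp_f L39548) q2615, e3 q3460 (flp_f L56949) q4446, e3 q3461 L39568 q2777, e3 q3462 (flp_f L56569) q4400, e3 q3463 L39580 q2617, e3 q3464 (flp_f L57000) q4453, e3 q3465 (flp_f L56593) q4403, e3 q3466 L57003 q4454, e3 q3467 L39613 q2783, e3 q3468 (flp_f L56614) q4406, e3 q3469 (flp_f L56619) q4407, e3 q3470 L39632 q2622, e3 q3471 (flp_f L39653) q2625, e3 q3472 (flp_f L39662) q2626, e3 q3473 L39688 q3473, e3 q3474 L39696 q3474, e3 q3475 (flp_f L39709) q2629, e3 q3476 (flp_f L39726) q2630, e3 q3477 L39751 q3477, e3 q3478 L39757 q3478, e3 q3479 L39764 q3479, e3 q3480 L39768 q2633, e3 q3481 L39787 q3481, e3 q3482 (flp_f L39803) q2636, e3 q3483 L39830 q3483, e3 q3484 (flp_f L39831) q2638, e3 q3485 L39856 q2790, e3 q3486 L39866 q3486, e3 q3487 L39871 q2640, e3 q3488 L39889 q3488, e3 q3489 L57456 q4482, e3 q3490 L39907 q2795, e3 q3491 L39916 q3491, e3 q3492 L39924 q3492, e3 q3493 L39931 q2645, e3 q3494 (flp_f L39945) q2647,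 e3 q3495 L39969 q2800, e3 q3496 L39978 q3496, e3 q3497 L39984 q2649, e3 q3498 L40004 q3498, e3 q3499 L40013 q2804, e3 q3500 L40021 q3500, e3 q3501 L40027 q2652, e3 q3502 L57688 q4500, e3 q3503 L40059 q2808, e3 q3504 L40068 q3504, e3 q3505 L40074 q3505, e3 q3506 L40083 q2656, e3 q3507 (flp_f L40086) q2658, e3 q3508 (flp_f L57749) q4507, e3 q3509 (flp_f L57756) q4508, e3 q3510 L40111 q2815, e3 q3511 L40121 q2816, e3 q3512 L40128 q3512, e3 q3513 L40138 q3513, e3 q3514 L40149 q2664, e3 q3515 (flp_f L57816) q4515, e3 q3516 L40170 q3516, e3 q3517 L40180 q3517, e3 q3518 L57873 q4521, e3 q3519 L40199 q3519, trivial⟩ (by decide +kernel)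

theorem ce_f_55 : ∀ r, r < 64 → sm gf (Qf (3520 + r)) = Qf (tab Gen.f (3520 + r)) :=
  edges_tab (sm gf) Qf (tab Gen.f) 3520 [(3520, 4525), (3521, 2668), (3522, 3522), (3523, 2687), (3524, 4530), (3525, 2689), (3526, 4533), (3527, 2672), (3528, 2692), (3529, 4537), (3530, 4538), (3531, 2674), (3532, 4526), (3533, 3533), (3534, 4543), (3535, 4545), (3536, 2678), (3537, 4548), (3538, 4549), (3539, 2680), (3540, 3540), (3541, 4554), (3542, 4556), (3543, 2683), (3544, 2684), (3545, 4561), (3546, 3546), (3547, 3547), (3548, 4565), (3549, 2688), (3550, 4568), (3551, 4569), (3552, 2690), (3553, 3553), (3554, 4574), (3555, 4576), (3556, 2693), (3557, 2694), (3558, 4581), (3559, 3559), (3560, 3560), (3561, 4584), (3562, 2697), (3563, 2712), (3564, 4589), (3565, 2699), (3566, 2700), (3567, 4594), (3568, 2717), (3569, 2718), (3570, 4598), (3571, 2703), (3572, 4601), (3573, 2704), (3574, 4605), (3575, 2724), (3576, 4322), (3577, 2726), (3578, 2707), (3579, 4612), (3580, 2729), (3581, 2710), (3582, 4615), (3583, 4586)]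
    ⟨e3 q3520 L57910 q4525, e3 q3521 (flp_f L40215) q2668, e3 q3522 L40229 q3522, e3 q3523 L40237 q2687, e3 q3524 L57970 q4530, e3 q3525 L40257 q2689, e3 q3526 L58011 q4533, e3 q3527 (flp_f L40274) q2672, e3 q3528 L40290 q2692, e3 q3529 L58048 q4537, e3 q3530 L58059 q4538, e3 q3531 (flp_f L40311) q2674, e3 q3532 (flp_f L57926) q4526, e3 q3533 L40333 q3533, e3 q3534 L58110 q4543, e3 q3535 L58148 q4545, e3 q3536 (flp_f L40368) q2678, e3 q3537 L58186 q4548, e3 q3538 L58196 q4549, e3 q3539 (flp_f L40404) q2680, e3 q3540 L40423 q3540, e3 q3541 L58236 q4554, e3 q3542 L58252 q4556, e3 q3543 (flp_f L40438) q2683, e3 q3544 (flp_f L40447) q2684, e3 q3545 (flp_f L58291) q4561, e3 q3546 L40467 q3546, e3 q3547 L40476 q3547, e3 q3548 L58342 q4565, e3 q3549 (flp_f L40500) q2688, e3 q3550 L58383 q4568, e3 q3551 L58393 q4569, e3 q3552 (flp_f L40542) q2690, e3 q3553 L40560 q3553, e3 q3554 L58440 q4574, e3 q3555 L58459 q4576, e3 q3556 (flp_f L40579) q2693, e3 q3557 (flp_f L40588) q2694, e3 q3558 (flp_f L58503) q4581, e3 q3559 L40612 q3559,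 e3 q3560 L40620 q3560, e3 q3561 L58555 q4584, e3 q3562 (flp_f L40654) q2697, e3 q3563 L40671 q2712, e3 q3564 L58620 q4589, e3 q3565 (flp_f L40692) q2699, e3 q3566 (flp_f L40700) q2700, e3 q3567 (flp_f L58667) q4594, e3 q3568 L40723 q2717, e3 q3569 L40732 q2718, e3 q3570 L58695 q4598, e3 q3571 (flp_f L40743) q2703, e3 q3572 L58720 q4601, e3 q3573 (flp_f L40759) q2704, e3 q3574 (flp_f L58752) q4605, e3 q3575 L40779 q2724, e3 q3576 (flp_f L55864) q4322, e3 q3577 L40793 q2726, e3 q3578 L40800 q2707, e3 q3579 (flp_f L58810) q4612, e3 q3580 L40816 q2729, e3 q3581 (flp_f L40848) q2710, e3 q3582 (flp_f L58885) q4615, e3 q3583 (flp_f L58579) q4586, trivial⟩ (by decide +kernel)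

theorem ce_f_56 : ∀ r, r < 64 → sm gf (Qf (3584 + r)) = Qf (tab Gen.f (3584 + r)) :=
  edges_tab (sm gf) Qf (tab Gen.f) 3584 [(3584, 4587), (3585, 4618), (3586, 2713), (3587, 4622), (3588, 4591), (3589, 4331), (3590, 4593), (3591, 2716), (3592, 4629), (3593, 4596), (3594, 4631), (3595, 2719), (3596, 4635), (3597, 4600), (3598, 2721), (3599, 4640), (3600, 4342), (3601, 4604), (3602, 2723), (3603, 4647), (3604, 4607), (3605, 4648), (3606, 4348), (3607, 4610), (3608, 4611), (3609, 2728), (3610, 4656), (3611, 4658), (3612, 2731), (3613, 2732), (3614, 4663), (3615, 3615), (3616, 3616), (3617, 4667), (3618, 2735), (3619, 4670), (3620, 2736), (3621, 4674), (3622, 3622), (3623, 4370), (3624, 3624), (3625, 2739), (3626, 4681), (3627, 3627), (3628, 4683), (3629, 2742), (3630, 4686), (3631, 2743), (3632, 4690), (3633, 2765), (3634, 4388), (3635, 2767), (3636, 2746), (3637, 4697), (3638, 2770), (3639, 4699), (3640, 2749), (3641, 4703), (3642, 2774), (3643, 2751), (3644, 4708), (3645, 4399), (3646, 2778), (3647, 2753)]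
    ⟨e3 q3584 (flp_f L58587) q4587, e3 q3585 L58944 q4618, e3 q3586 (flp_f L40912) q2713, e3 q3587 (flp_f L58982) q4622, e3 q3588 (flp_f L58642) q4591, e3 q3589 (flp_f L55964) q4331, e3 q3590 (flp_f L58660) q4593, e3 q3591 L40958 q2716, e3 q3592 (flp_f L59042) q4629, e3 q3593 (flp_f L58683) q4596, e3 q3594 L59055 q4631, e3 q3595 (flp_f L40985) q2719, e3 q3596 (flp_f L59090) q4635, e3 q3597 (flp_f L58718) q4600, e3 q3598 (flp_f L41009) q2721, e3 q3599 (flp_f L59132) q4640, e3 q3600 (flp_f L56059) q4342, e3 q3601 (flp_f L58746) q4604, e3 q3602 L41041 q2723, e3 q3603 (flp_f L59183) q4647, e3 q3604 (flp_f L58768) q4607, e3 q3605 L59186 q4648, e3 q3606 (flp_f L56103) q4348, e3 q3607 (flp_f L58792) q4610, e3 q3608 (flp_f L58799) q4611, e3 q3609 L41098 q2728, e3 q3610 L59251 q4656, e3 q3611 L59273 q4658, e3 q3612 (flp_f L41123) q2731, e3 q3613 (flp_f L41135) q2732, e3 q3614 (flp_f L59321) q4663, e3 q3615 L41160 q3615, e3 q3616 L41167 q3616, e3 q3617 L59356 q4667, e3 q3618 (flp_f L41181) q2735, e3 q3619 L59386 q4670, e3 q3620 (flp_f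 L41200) q2736, e3 q3621 (flp_f L59419) q4674, e3 q3622 L41226 q3622, e3 q3623 (flp_f L56310) q4370, e3 q3624 L41238 q3624, e3 q3625 L41242 q2739, e3 q3626 (flp_f L59480) q4681, e3 q3627 L41262 q3627, e3 q3628 L59494 q4683, e3 q3629 (flp_f L41276) q2742, e3 q3630 L59524 q4686, e3 q3631 (flp_f L41295) q2743, e3 q3632 (flp_f L59559) q4690, e3 q3633 L41320 q2765, e3 q3634 (flp_f L56472) q4388, e3 q3635 L41335 q2767, e3 q3636 L41340 q2746, e3 q3637 (flp_f L59617) q4697, e3 q3638 L41357 q2770, e3 q3639 L59628 q4699, e3 q3640 (flp_f L41370) q2749, e3 q3641 (flp_f L59664) q4703, e3 q3642 L41396 q2774, e3 q3643 (flp_f L41398) q2751, e3 q3644 (flp_f L59705) q4708, e3 q3645 (flp_f L56561) q4399, e3 q3646 L41421 q2778, e3 q3647 L41427 q2753, trivial⟩ (by decide +kernel)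

theorem ce_f_57 : ∀ r, r < 64 → sm gf (Qf (3648 + r)) = Qf (tab Gen.f (3648 + r)) :=
  edges_tab (sm gf) Qf (tab Gen.f) 3648 [(3648, 4715), (3649, 2781), (3650, 4716), (3651, 4405), (3652, 2784), (3653, 2785), (3654, 2758), (3655, 4724), (3656, 2760), (3657, 4728), (3658, 4685), (3659, 2762), (3660, 4733), (3661, 4426), (3662, 4689), (3663, 2764), (3664, 4740), (3665, 4692), (3666, 4741), (3667, 4432), (3668, 4695), (3669, 4696), (3670, 2769), (3671, 4748), (3672, 2771), (3673, 4751), (3674, 4439), (3675, 4702), (3676, 2773), (3677, 4757), (3678, 4705), (3679, 4444), (3680, 4707), (3681, 2776), (3682, 4763), (3683, 4764), (3684, 4767), (3685, 4450), (3686, 4713), (3687, 4714), (3688, 2780), (3689, 2782), (3690, 4774), (3691, 4775), (3692, 4457), (3693, 4458), (3694, 4721), (3695, 4722), (3696, 4473), (3697, 3697), (3698, 3698), (3699, 4476), (3700, 3700), (3701, 4787), (3702, 4479), (3703, 3703), (3704, 3704), (3705, 2794), (3706, 4792), (3707, 4793), (3708, 4485), (3709, 4486), (3710, 3710), (3711, 3711)]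
    ⟨e3 q3648 (flp_f L59758) q4715, e3 q3649 L41446 q2781, e3 q3650 L59760 q4716, e3 q3651 (flp_f L56607) q4405, e3 q3652 L41466 q2784, e3 q3653 L41471 q2785, e3 q3654 L41482 q2758, e3 q3655 L59816 q4724, e3 q3656 (flp_f L41493) q2760, e3 q3657 (flp_f L59858) q4728, e3 q3658 (flp_f L59522) q4685, e3 q3659 (flp_f L41522) q2762, e3 q3660 (flp_f L59903) q4733, e3 q3661 (flp_f L56790) q4426, e3 q3662 (flp_f L59553) q4689, e3 q3663 L41557 q2764, e3 q3664 (flp_f L59957) q4740, e3 q3665 (flp_f L59578) q4692, e3 q3666 L59962 q4741, e3 q3667 (flp_f L56840) q4432, e3 q3668 (flp_f L59601) q4695, e3 q3669 (flp_f L59608) q4696, e3 q3670 L41614 q2769, e3 q3671 L60016 q4748, e3 q3672 (flp_f L41625) q2771, e3 q3673 (flp_f L60051) q4751, e3 q3674 (flp_f L56896) q4439, e3 q3675 (flp_f L59657) q4702, e3 q3676 L41661 q2773, e3 q3677 (flp_f L60111) q4757, e3 q3678 (flp_f L59685) q4705, e3 q3679 (flp_f L56938) q4444, e3 q3680 (flp_f L59699) q4707, e3 q3681 L41701 q2776, e3 q3682 (flp_f L60149) q4763, e3 q3683 (flp_f L60160) q4764, e3 q3684 L60177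 q4767, e3 q3685 (flp_f L56978) q4450, e3 q3686 (flp_f L59740) q4713, e3 q3687 (flp_f L59746) q4714, e3 q3688 L41752 q2780, e3 q3689 (flp_f L41755) q2782, e3 q3690 (flp_f L60238) q4774, e3 q3691 (flp_f L60243) q4775, e3 q3692 (flp_f L57028) q4457, e3 q3693 (flp_f L57039) q4458, e3 q3694 (flp_f L59793) q4721, e3 q3695 (flp_f L59804) q4722, e3 q3696 (flp_f L57328) q4473, e3 q3697 L41850 q3697, e3 q3698 L41877 q3698, e3 q3699 (flp_f L57377) q4476, e3 q3700 L41899 q3700, e3 q3701 L60488 q4787, e3 q3702 (flp_f L57427) q4479, e3 q3703 L41946 q3703, e3 q3704 L41954 q3704, e3 q3705 (flp_f L41968) q2794, e3 q3706 (flp_f L60551) q4792, e3 q3707 (flp_f L60560) q4793, e3 q3708 (flp_f L57485) q4485, e3 q3709 (flp_f L57494) q4486, e3 q3710 L42010 q3710, e3 q3711 L42020 q3711, trivial⟩ (by decide +kernel)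

theorem ce_f_58 : ∀ r, r < 64 → sm gf (Qf (3712 + r)) = Qf (tab Gen.f (3712 + r)) :=
  edges_tab (sm gf) Qf (tab Gen.f) 3712 [(3712, 4489), (3713, 3713), (3714, 4803), (3715, 4492), (3716, 3716), (3717, 3717), (3718, 4495), (3719, 4810), (3720, 4497), (3721, 3721), (3722, 3722), (3723, 2807), (3724, 4815), (3725, 4816), (3726, 4503), (3727, 4504), (3728, 3728), (3729, 3729), (3730, 2813), (3731, 2814), (3732, 4824), (3733, 4825), (3734, 4826), (3735, 4512), (3736, 4513), (3737, 3737), (3738, 4834), (3739, 2819), (3740, 4838), (3741, 3741), (3742, 2821), (3743, 4843), (3744, 3744), (3745, 3745), (3746, 2823), (3747, 4850), (3748, 3748), (3749, 4851), (3750, 3750), (3751, 3751), (3752, 3752), (3753, 2828), (3754, 2830), (3755, 4860), (3756, 3756), (3757, 2849), (3758, 2832), (3759, 4866), (3760, 2852), (3761, 3761), (3762, 2854), (3763, 2835), (3764, 4872), (3765, 4873), (3766, 4876), (3767, 3767), (3768, 2860), (3769, 2861), (3770, 2839), (3771, 2841), (3772, 4883), (3773, 4884), (3774, 3774), (3775, 3775)]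
    ⟨e3 q3712 (flp_f L57541) q4489, e3 q3713 L42058 q3713, e3 q3714 L60700 q4803, e3 q3715 (flp_f L57593) q4492, e3 q3716 L42100 q3716, e3 q3717 L42107 q3717, e3 q3718 (flp_f L57626) q4495, e3 q3719 L60773 q4810, e3 q3720 (flp_f L57644) q4497, e3 q3721 L42150 q3721, e3 q3722 L42157 q3722, e3 q3723 (flp_f L42170) q2807, e3 q3724 (flp_f L60833) q4815, e3 q3725 (flp_f L60840) q4816, e3 q3726 (flp_f L57714) q4503, e3 q3727 (flp_f L57724) q4504, e3 q3728 L42208 q3728, e3 q3729 L42220 q3729, e3 q3730 L42228 q2813, e3 q3731 L42235 q2814, e3 q3732 (flp_f L60902) q4824, e3 q3733 (flp_f L60909) q4825, e3 q3734 (flp_f L60916) q4826, e3 q3735 (flp_f L57787) q4512, e3 q3736 (flp_f L57797) q4513, e3 q3737 L42282 q3737, e3 q3738 L60984 q4834, e3 q3739 (flp_f L42297) q2819, e3 q3740 (flp_f L61029) q4838, e3 q3741 L42325 q3741, e3 q3742 (flp_f L42326) q2821, e3 q3743 (flp_f L61078) q4843, e3 q3744 L42353 q3744, e3 q3745 L42361 q3745, e3 q3746 L42366 q2823, e3 q3747 (flp_f L61138) q4850, e3 q3748 L42386 q3748, e3 q3749 L61143 q4851, e3 q3750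 L42404 q3750, e3 q3751 L42413 q3751, e3 q3752 L42421 q3752, e3 q3753 L42428 q2828, e3 q3754 (flp_f L42443) q2830, e3 q3755 (flp_f L61246) q4860, e3 q3756 L42468 q3756, e3 q3757 L42477 q2849, e3 q3758 L42484 q2832, e3 q3759 (flp_f L61307) q4866, e3 q3760 L42503 q2852, e3 q3761 L42512 q3761, e3 q3762 L42521 q2854, e3 q3763 L42528 q2835, e3 q3764 (flp_f L61356) q4872, e3 q3765 (flp_f L61365) q4873, e3 q3766 L61383 q4876, e3 q3767 L42560 q3767, e3 q3768 L42567 q2860, e3 q3769 L42574 q2861, e3 q3770 L42582 q2839, e3 q3771 (flp_f L42585) q2841, e3 q3772 (flp_f L61446) q4883, e3 q3773 (flp_f L61455) q4884, e3 q3774 L42613 q3774, e3 q3775 L42621 q3775, trivial⟩ (by decide +kernel)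

theorem ce_f_59 : ∀ r, r < 64 → sm gf (Qf (3776 + r)) = Qf (tab Gen.f (3776 + r)) :=
  edges_tab (sm gf) Qf (tab Gen.f) 3776 [(3776, 2868), (3777, 2869), (3778, 3778), (3779, 4859), (3780, 2847), (3781, 4895), (3782, 4896), (3783, 3783), (3784, 4864), (3785, 4865), (3786, 2851), (3787, 4903), (3788, 3788), (3789, 4870), (3790, 4871), (3791, 2856), (3792, 2857), (3793, 4913), (3794, 4912), (3795, 2858), (3796, 4915), (3797, 4916), (3798, 3798), (3799, 3799), (3800, 4881), (3801, 4882), (3802, 2864), (3803, 2865), (3804, 4924), (3805, 4925), (3806, 4926), (3807, 3807), (3808, 3808), (3809, 4890), (3810, 2870), (3811, 4934), (3812, 4935), (3813, 3813), (3814, 3814), (3815, 3815), (3816, 3816), (3817, 2876), (3818, 2877), (3819, 4943), (3820, 4944), (3821, 4945), (3822, 3822), (3823, 3823), (3824, 3824), (3825, 3825), (3826, 2884), (3827, 2885), (3828, 2886), (3829, 4953), (3830, 2894), (3831, 4954), (3832, 4956), (3833, 3833), (3834, 3834), (3835, 3835), (3836, 4947), (3837, 3837), (3838, 3838), (3839, 2897)]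
    ⟨e3 q3776 L42627 q2868, e3 q3777 L42635 q2869, e3 q3778 L42667 q3778, e3 q3779 (flp_f L61238) q4859, e3 q3780 L42683 q2847, e3 q3781 (flp_f L61600) q4895, e3 q3782 L61619 q4896, e3 q3783 L42719 q3783, e3 q3784 (flp_f L61290) q4864, e3 q3785 (flp_f L61298) q4865, e3 q3786 L42742 q2851, e3 q3787 L61683 q4903, e3 q3788 L42762 q3788, e3 q3789 (flp_f L61341) q4870, e3 q3790 (flp_f L61349) q4871, e3 q3791 L42783 q2856, e3 q3792 L42793 q2857, e3 q3793 L61763 q4913, e3 q3794 (flp_f L61760) q4912, e3 q3795 (flp_f L42810) q2858, e3 q3796 (flp_f L61790) q4915, e3 q3797 (flp_f L61797) q4916, e3 q3798 L42840 q3798, e3 q3799 L42850 q3799, e3 q3800 (flp_f L61426) q4881, e3 q3801 (flp_f L61434) q4882, e3 q3802 L42873 q2864, e3 q3803 L42880 q2865, e3 q3804 (flp_f L61861) q4924, e3 q3805 (flp_f L61868) q4925, e3 q3806 (flp_f L61877) q4926, e3 q3807 L42911 q3807, e3 q3808 L42921 q3808, e3 q3809 (flp_f L61497) q4890, e3 q3810 (flp_f L42931) q2870, e3 q3811 (flp_f L61944) q4934, e3 q3812 (flp_f L61954) q4935, e3 q3813 L42965 q3813, e3 q3814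 L42975 q3814, e3 q3815 L42984 q3815, e3 q3816 L42994 q3816, e3 q3817 L43004 q2876, e3 q3818 L43013 q2877, e3 q3819 (flp_f L62028) q4943, e3 q3820 (flp_f L62036) q4944, e3 q3821 (flp_f L62045) q4945, e3 q3822 L43044 q3822, e3 q3823 L43053 q3823, e3 q3824 L43060 q3824, e3 q3825 L43072 q3825, e3 q3826 L43080 q2884, e3 q3827 L43087 q2885, e3 q3828 L43096 q2886, e3 q3829 (flp_f L62114) q4953, e3 q3830 L647581 q2894, e3 q3831 (flp_f L62132) q4954, e3 q3832 (flp_f L62147) q4956, e3 q3833 L43135 q3833, e3 q3834 L43144 q3834, e3 q3835 L43149 q3835, e3 q3836 L628022 q4947, e3 q3837 L43250 q3837, e3 q3838 L43260 q3838, e3 q3839 (flp_f L43271) q2897, trivial⟩ (by decide +kernel)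

theorem ce_f_60 : ∀ r, r < 64 → sm gf (Qf (3840 + r)) = Qf (tab Gen.f (3840 + r)) :=
  edges_tab (sm gf) Qf (tab Gen.f) 3840 [(3840, 4965), (3841, 4966), (3842, 2899), (3843, 2901), (3844, 4967), (3845, 4969), (3846, 3846), (3847, 4972), (3848, 2904), (3849, 3849), (3850, 4976), (3851, 3139), (3852, 2906), (3853, 2919), (3854, 4977), (3855, 2911), (3856, 4980), (3857, 4981), (3858, 2913), (3859, 4973), (3860, 4985), (3861, 4987), (3862, 2916), (3863, 2917), (3864, 3097), (3865, 3140), (3866, 3149), (3867, 2920), (3868, 3868), (3869, 4993), (3870, 2922), (3871, 2923), (3872, 3872), (3873, 3873), (3874, 4999), (3875, 2926), (3876, 5002), (3877, 2927), (3878, 5006), (3879, 3879), (3880, 3880), (3881, 3881), (3882, 2930), (3883, 3883), (3884, 3884), (3885, 5010), (3886, 2934), (3887, 2935), (3888, 3888), (3889, 3889), (3890, 5016), (3891, 2938), (3892, 5019), (3893, 2939), (3894, 5023), (3895, 3895), (3896, 3896), (3897, 3897), (3898, 2942), (3899, 5026), (3900, 3900), (3901, 2962), (3902, 5027), (3903, 2946)]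
    ⟨e3 q3840 (flp_f L62389) q4965, e3 q3841 (flp_f L62402) q4966, e3 q3842 L43312 q2899, e3 q3843 L43345 q2901, e3 q3844 (flp_f L62475) q4967, e3 q3845 L62522 q4969, e3 q3846 L43383 q3846, e3 q3847 L62562 q4972, e3 q3848 (flp_f L43400) q2904, e3 q3849 L43412 q3849, e3 q3850 L62600 q4976, e3 q3851 L625558 q3139, e3 q3852 (flp_f L43436) q2906, e3 q3853 L43452 q2919, e3 q3854 L62736 q4977, e3 q3855 (flp_f L43544) q2911, e3 q3856 L62815 q4980, e3 q3857 L62825 q4981, e3 q3858 (flp_f L43584) q2913, e3 q3859 (flp_f L62580) q4973, e3 q3860 L62874 q4985, e3 q3861 L62891 q4987, e3 q3862 (flp_f L43621) q2916, e3 q3863 (flp_f L43630) q2917, e3 q3864 (flp_f L625487) q3097, e3 q3865 (flp_f L626902) q3140, e3 q3866 L627192 q3149, e3 q3867 (flp_f L43748) q2920, e3 q3868 L43801 q3868, e3 q3869 L63192 q4993, e3 q3870 (flp_f L43819) q2922, e3 q3871 (flp_f L43827) q2923, e3 q3872 L43853 q3872, e3 q3873 L43861 q3873, e3 q3874 L63268 q4999, e3 q3875 (flp_f L43872) q2926, e3 q3876 L63295 q5002, e3 q3877 (flp_f L43886) q2927, e3 q3878 (flp_f L63325)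 q5006, e3 q3879 L43906 q3879, e3 q3880 L43914 q3880, e3 q3881 L43922 q3881, e3 q3882 L43928 q2930, e3 q3883 L43947 q3883, e3 q3884 L44028 q3884, e3 q3885 L63539 q5010, e3 q3886 (flp_f L44050) q2934, e3 q3887 (flp_f L44058) q2935, e3 q3888 L44088 q3888, e3 q3889 L44095 q3889, e3 q3890 L63627 q5016, e3 q3891 (flp_f L44110) q2938, e3 q3892 L63656 q5019, e3 q3893 (flp_f L44127) q2939, e3 q3894 (flp_f L63692) q5023, e3 q3895 L44149 q3895, e3 q3896 L44158 q3896, e3 q3897 L44167 q3897, e3 q3898 L44174 q2942, e3 q3899 (flp_f L63761) q5026, e3 q3900 L44196 q3900, e3 q3901 L44306 q2962, e3 q3902 L63962 q5027, e3 q3903 (flp_f L44339) q2946, trivial⟩ (by decide +kernel)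

theorem ce_f_61 : ∀ r, r < 64 → sm gf (Qf (3904 + r)) = Qf (tab Gen.f (3904 + r)) :=
  edges_tab (sm gf) Qf (tab Gen.f) 3904 [(3904, 2965), (3905, 3905), (3906, 2967), (3907, 2968), (3908, 5034), (3909, 2951), (3910, 5038), (3911, 2972), (3912, 2953), (3913, 5042), (3914, 3914), (3915, 2976), (3916, 2955), (3917, 5048), (3918, 2979), (3919, 3058), (3920, 3920), (3921, 2982), (3922, 2983), (3923, 2960), (3924, 2963), (3925, 3925), (3926, 5029), (3927, 5030), (3928, 5055), (3929, 5032), (3930, 5057), (3931, 2969), (3932, 5060), (3933, 3933), (3934, 5037), (3935, 2971), (3936, 5039), (3937, 3937), (3938, 5041), (3939, 2974), (3940, 5070), (3941, 5072), (3942, 3942), (3943, 5046), (3944, 5047), (3945, 2978), (3946, 2980), (3947, 3056), (3948, 3055), (3949, 3949), (3950, 3950), (3951, 3023), (3952, 5050), (3953, 5083), (3954, 2985), (3955, 5085), (3956, 2986), (3957, 5089), (3958, 3958), (3959, 3959), (3960, 3960), (3961, 2989), (3962, 5093), (3963, 3963), (3964, 5094), (3965, 2992), (3966, 3966), (3967, 2994)]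
    ⟨e3 q3904 L44360 q2965, e3 q3905 L44370 q3905, e3 q3906 L44381 q2967, e3 q3907 L44408 q2968, e3 q3908 L64079 q5034, e3 q3909 (flp_f L44419) q2951, e3 q3910 (flp_f L64117) q5038, e3 q3911 L44444 q2972, e3 q3912 (flp_f L44446) q2953, e3 q3913 (flp_f L64160) q5042, e3 q3914 L44465 q3914, e3 q3915 L44472 q2976, e3 q3916 L44478 q2955, e3 q3917 (flp_f L64213) q5048, e3 q3918 L44493 q2979, e3 q3919 L625855 q3058, e3 q3920 L44512 q3920, e3 q3921 L44521 q2982, e3 q3922 L44529 q2983, e3 q3923 L44541 q2960, e3 q3924 (flp_f L44736) q2963, e3 q3925 L44761 q3925, e3 q3926 (flp_f L63994) q5029, e3 q3927 (flp_f L64015) q5030, e3 q3928 L64673 q5055, e3 q3929 (flp_f L64046) q5032, e3 q3930 L64743 q5057, e3 q3931 (flp_f L44852) q2969, e3 q3932 (flp_f L64782) q5060, e3 q3933 L44875 q3933, e3 q3934 (flp_f L64109) q5037, e3 q3935 L44890 q2971, e3 q3936 (flp_f L64136) q5039, e3 q3937 L44919 q3937, e3 q3938 (flp_f L64152) q5041, e3 q3939 L44932 q2974, e3 q3940 (flp_f L64890) q5070, e3 q3941 L64918 q5072, e3 q3942 L44962 q3942, e3 q3943 (flp_f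 L64197) q5046, e3 q3944 (flp_f L64203) q5047, e3 q3945 L44983 q2978, e3 q3946 (flp_f L44986) q2980, e3 q3947 L624079 q3056, e3 q3948 L624655 q3055, e3 q3949 L45018 q3949, e3 q3950 L45031 q3950, e3 q3951 (flp_f L623084) q3023, e3 q3952 (flp_f L64275) q5050, e3 q3953 L65049 q5083, e3 q3954 (flp_f L45064) q2985, e3 q3955 L65083 q5085, e3 q3956 (flp_f L45084) q2986, e3 q3957 (flp_f L65122) q5089, e3 q3958 L45111 q3958, e3 q3959 L45121 q3959, e3 q3960 L45130 q3960, e3 q3961 L45135 q2989, e3 q3962 (flp_f L65191) q5093, e3 q3963 L45158 q3963, e3 q3964 L65205 q5094, e3 q3965 (flp_f L45172) q2992, e3 q3966 L45203 q3966, e3 q3967 (flp_f L45204) q2994, trivial⟩ (by decide +kernel)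

theorem ce_f_62 : ∀ r, r < 64 → sm gf (Qf (3968 + r)) = Qf (tab Gen.f (3968 + r)) :=
  edges_tab (sm gf) Qf (tab Gen.f) 3968 [(3968, 5100), (3969, 3969), (3970, 3970), (3971, 2996), (3972, 3972), (3973, 3001), (3974, 5102), (3975, 3003), (3976, 3030), (3977, 3005), (3978, 5108), (3979, 3979), (3980, 3034), (3981, 3007), (3982, 3036), (3983, 5081), (3984, 3984), (3985, 3039), (3986, 3040), (3987, 3012), (3988, 3014), (3989, 3989), (3990, 3044), (3991, 3045), (3992, 3992), (3993, 3047), (3994, 3018), (3995, 5127), (3996, 5077), (3997, 3997), (3998, 3052), (3999, 3053), (4000, 4000), (4001, 3059), (4002, 3028), (4003, 4003), (4004, 5104), (4005, 5105), (4006, 4006), (4007, 5107), (4008, 3032), (4009, 5138), (4010, 4010), (4011, 5111), (4012, 5112), (4013, 3037), (4014, 5079), (4015, 5143), (4016, 4016), (4017, 4017), (4018, 5116), (4019, 5117), (4020, 4020), (4021, 5119), (4022, 5152), (4023, 5121), (4024, 4024), (4025, 5156), (4026, 4026), (4027, 5125), (4028, 5126), (4029, 3049), (4030, 5163), (4031, 3050)]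
    ⟨e3 q3968 (flp_f L65294) q5100, e3 q3969 L45225 q3969, e3 q3970 L45232 q3970, e3 q3971 L45237 q2996, e3 q3972 L45258 q3972, e3 q3973 L45303 q3001, e3 q3974 L65429 q5102, e3 q3975 (flp_f L45316) q3003, e3 q3976 L45346 q3030, e3 q3977 (flp_f L45348) q3005, e3 q3978 (flp_f L65520) q5108, e3 q3979 L45368 q3979, e3 q3980 L45377 q3034, e3 q3981 L45383 q3007, e3 q3982 L45401 q3036, e3 q3983 (flp_f L626531) q5081, e3 q3984 L45421 q3984, e3 q3985 L45428 q3039, e3 q3986 L45436 q3040, e3 q3987 L45446 q3012, e3 q3988 (flp_f L45457) q3014, e3 q3989 L45479 q3989, e3 q3990 L45488 q3044, e3 q3991 L45518 q3045, e3 q3992 L45526 q3992, e3 q3993 L45531 q3047, e3 q3994 L45537 q3018, e3 q3995 (flp_f L65781) q5127, e3 q3996 L622846 q5077, e3 q3997 L45565 q3997, e3 q3998 L45572 q3052, e3 q3999 L45578 q3053, e3 q4000 L45629 q4000, e3 q4001 L45646 q3059, e3 q4002 (flp_f L45658) q3028, e3 q4003 L45686 q4003, e3 q4004 (flp_f L65466) q5104, e3 q4005 (flp_f L65496) q5105, e3 q4006 L45737 q4006, e3 q4007 (flp_f L65514) q5107, e3 q4008 L45748 q3032,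 e3 q4009 L66111 q5138, e3 q4010 L45779 q4010, e3 q4011 (flp_f L65558) q5111, e3 q4012 (flp_f L65566) q5112, e3 q4013 (flp_f L45807) q3037, e3 q4014 L624692 q5079, e3 q4015 (flp_f L66189) q5143, e3 q4016 L45839 q4016, e3 q4017 L45850 q4017, e3 q4018 (flp_f L65627) q5116, e3 q4019 (flp_f L65637) q5117, e3 q4020 L45893 q4020, e3 q4021 (flp_f L65671) q5119, e3 q4022 L66361 q5152, e3 q4023 (flp_f L65724) q5121, e3 q4024 L45977 q4024, e3 q4025 L66436 q5156, e3 q4026 L45993 q4026, e3 q4027 (flp_f L65769) q5125, e3 q4028 (flp_f L65775) q5126, e3 q4029 L46008 q3049, e3 q4030 L66502 q5163, e3 q4031 (flp_f L46033) q3050, trivial⟩ (by decide +kernel)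

theorem ce_f_63 : ∀ r, r < 64 → sm gf (Qf (4032 + r)) = Qf (tab Gen.f (4032 + r)) :=
  edges_tab (sm gf) Qf (tab Gen.f) 4032 [(4032, 5074), (4033, 5073), (4034, 5044), (4035, 5056), (4036, 5031), (4037, 4037), (4038, 4038), (4039, 5167), (4040, 4040), (4041, 4041), (4042, 4042), (4043, 4043), (4044, 5174), (4045, 4045), (4046, 4046), (4047, 4047), (4048, 3068), (4049, 5179), (4050, 5180), (4051, 4051), (4052, 4052), (4053, 3073), (4054, 3074), (4055, 5184), (4056, 5185), (4057, 4057), (4058, 4058), (4059, 4059), (4060, 4060), (4061, 5194), (4062, 4062), (4063, 3080), (4064, 5196), (4065, 5197), (4066, 4066), (4067, 3083), (4068, 5201), (4069, 3086), (4070, 3088), (4071, 3129), (4072, 4072), (4073, 4073), (4074, 3131), (4075, 4075), (4076, 3092), (4077, 5211), (4078, 4988), (4079, 3136), (4080, 4080), (4081, 4081), (4082, 3141), (4083, 4083), (4084, 3143), (4085, 3120), (4086, 4086), (4087, 3121), (4088, 3144), (4089, 4089), (4090, 3145), (4091, 3122), (4092, 3123), (4093, 3109), (4094, 5225), (4095, 4095)]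
    ⟨e3 q4032 L624887 q5074, e3 q4033 L624831 q5073, e3 q4034 (flp_f L625066) q5044, e3 q4035 L624196 q5056, e3 q4036 L622915 q5031, e3 q4037 L46158 q4037, e3 q4038 L46167 q4038, e3 q4039 L66707 q5167, e3 q4040 L46204 q4040, e3 q4041 L46215 q4041, e3 q4042 L46225 q4042, e3 q4043 L46233 q4043, e3 q4044 L66773 q5174, e3 q4045 L46253 q4045, e3 q4046 L46261 q4046, e3 q4047 L46270 q4047, e3 q4048 (flp_f L46290) q3068, e3 q4049 (flp_f L66844) q5179, e3 q4050 (flp_f L66853) q5180, e3 q4051 L46320 q4051, e3 q4052 L46328 q4052, e3 q4053 L46340 q3073, e3 q4054 L46350 q3074, e3 q4055 (flp_f L66897) q5184, e3 q4056 (flp_f L66906) q5185, e3 q4057 L46378 q4057, e3 q4058 L46391 q4058, e3 q4059 L46400 q4059, e3 q4060 L46405 q4060, e3 q4061 L66975 q5194, e3 q4062 L46422 q4062, e3 q4063 (flp_f L46425) q3080, e3 q4064 (flp_f L67001) q5196, e3 q4065 L67004 q5197, e3 q4066 L46452 q4066, e3 q4067 (flp_f L46455) q3083, e3 q4068 (flp_f L67034) q5201, e3 q4069 L46477 q3086, e3 q4070 (flp_f L46500) q3088, e3 q4071 L46530 q3129, e3 q4072 L46541 q4072,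 e3 q4073 L46571 q4073, e3 q4074 L46583 q3131, e3 q4075 L46591 q4075, e3 q4076 L46597 q3092, e3 q4077 (flp_f L67217) q5211, e3 q4078 (flp_f L625496) q4988, e3 q4079 L46632 q3136, e3 q4080 L46642 q4080, e3 q4081 L46650 q4081, e3 q4082 L46708 q3141, e3 q4083 L46728 q4083, e3 q4084 L46758 q3143, e3 q4085 L46767 q3120, e3 q4086 L46804 q4086, e3 q4087 L46823 q3121, e3 q4088 L46848 q3144, e3 q4089 L46860 q4089, e3 q4090 L46868 q3145, e3 q4091 L46875 q3122, e3 q4092 L46883 q3123, e3 q4093 L46890 q3109, e3 q4094 L67664 q5225, e3 q4095 L46921 q4095, trivial⟩ (by decide +kernel)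

theorem ce_f_64 : ∀ r, r < 64 → sm gf (Qf (4096 + r)) = Qf (tab Gen.f (4096 + r)) :=
  edges_tab (sm gf) Qf (tab Gen.f) 4096 [(4096, 4096), (4097, 3148), (4098, 3126), (4099, 4099), (4100, 3150), (4101, 3127), (4102, 5215), (4103, 5222), (4104, 5223), (4105, 5230), (4106, 3125), (4107, 5202), (4108, 4108), (4109, 5234), (4110, 5206), (4111, 5237), (4112, 5208), (4113, 4113), (4114, 3134), (4115, 5242), (4116, 3135), (4117, 4975), (4118, 4989), (4119, 4971), (4120, 4982), (4121, 5213), (4122, 5218), (4123, 5221), (4124, 5250), (4125, 3147), (4126, 5226), (4127, 4541), (4128, 4983), (4129, 5227), (4130, 5251), (4131, 5256), (4132, 3152), (4133, 5259), (4134, 4134), (4135, 3155), (4136, 3156), (4137, 3159), (4138, 5263), (4139, 3160), (4140, 3163), (4141, 3161), (4142, 3173), (4143, 4143), (4144, 3169), (4145, 5264), (4146, 3171), (4147, 3174), (4148, 3186), (4149, 3311), (4150, 4150), (4151, 4151), (4152, 4152), (4153, 4153), (4154, 4154), (4155, 4155), (4156, 5267), (4157, 4157), (4158, 3188), (4159, 4159)]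
    ⟨e3 q4096 L46929 q4096, e3 q4097 L46936 q3148, e3 q4098 L46952 q3126, e3 q4099 L46990 q4099, e3 q4100 L47008 q3150, e3 q4101 L47015 q3127, e3 q4102 (flp_f L67473) q5215, e3 q4103 (flp_f L67633) q5222, e3 q4104 (flp_f L67640) q5223, e3 q4105 L67958 q5230, e3 q4106 (flp_f L47163) q3125, e3 q4107 (flp_f L67076) q5202, e3 q4108 L47229 q4108, e3 q4109 L68129 q5234, e3 q4110 (flp_f L67172) q5206, e3 q4111 L68199 q5237, e3 q4112 (flp_f L67193) q5208, e3 q4113 L47335 q4113, e3 q4114 L47342 q3134, e3 q4115 L68268 q5242, e3 q4116 (flp_f L47375) q3135, e3 q4117 (flp_f L625449) q4975, e3 q4118 (flp_f L626925) q4989, e3 q4119 (flp_f L625589) q4971, e3 q4120 (flp_f L626956) q4982, e3 q4121 (flp_f L67443) q5213, e3 q4122 (flp_f L67592) q5218, e3 q4123 (flp_f L67616) q5221, e3 q4124 L68573 q5250, e3 q4125 (flp_f L47609) q3147, e3 q4126 (flp_f L67713) q5226, e3 q4127 (flp_f L619132) q4541, e3 q4128 (flp_f L627220) q4983, e3 q4129 (flp_f L67789) q5227, e3 q4130 (flp_f L68601) q5251, e3 q4131 L68760 q5256, e3 q4132 (flp_f L47747) q3152,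 e3 q4133 (flp_f L68804) q5259, e3 q4134 L47817 q4134, e3 q4135 L47821 q3155, e3 q4136 L47831 q3156, e3 q4137 L47886 q3159, e3 q4138 L69009 q5263, e3 q4139 (flp_f L47929) q3160, e3 q4140 (flp_f L625567) q3163, e3 q4141 (flp_f L47966) q3161, e3 q4142 L47981 q3173, e3 q4143 L48046 q4143, e3 q4144 (flp_f L48180) q3169, e3 q4145 (flp_f L69060) q5264, e3 q4146 (flp_f L48263) q3171, e3 q4147 (flp_f L627129) q3174, e3 q4148 (flp_f L627199) q3186, e3 q4149 L627107 q3311, e3 q4150 L48385 q4150, e3 q4151 L48581 q4151, e3 q4152 L48632 q4152, e3 q4153 L48692 q4153, e3 q4154 L48700 q4154, e3 q4155 L48719 q4155, e3 q4156 L627225 q5267, e3 q4157 L48770 q4157, e3 q4158 L48782 q3188, e3 q4159 L48961 q4159, trivial⟩ (by decide +kernel)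

theorem ce_f_65 : ∀ r, r < 64 → sm gf (Qf (4160 + r)) = Qf (tab Gen.f (4160 + r)) :=
  edges_tab (sm gf) Qf (tab Gen.f) 4160 [(4160, 4160), (4161, 4161), (4162, 3198), (4163, 3200), (4164, 3225), (4165, 3220), (4166, 4166), (4167, 3222), (4168, 4168), (4169, 3226), (4170, 3219), (4171, 3223), (4172, 4172), (4173, 3265), (4174, 3250), (4175, 3272), (4176, 4176), (4177, 3257), (4178, 3232), (4179, 4179), (4180, 4180), (4181, 4181), (4182, 4182), (4183, 4183), (4184, 4184), (4185, 4185), (4186, 4186), (4187, 3260), (4188, 3261), (4189, 3268), (4190, 3263), (4191, 5148), (4192, 3270), (4193, 5144), (4194, 5113), (4195, 3262), (4196, 3266), (4197, 3288), (4198, 3269), (4199, 5146), (4200, 4200), (4201, 4201), (4202, 4202), (4203, 5275), (4204, 4204), (4205, 4205), (4206, 4206), (4207, 3277), (4208, 5145), (4209, 5186), (4210, 4210), (4211, 4211), (4212, 3306), (4213, 3282), (4214, 3304), (4215, 5279), (4216, 4216), (4217, 4217), (4218, 3289), (4219, 3295), (4220, 3294), (4221, 5280), (4222, 4222), (4223, 5284)]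
    ⟨e3 q4160 L49031 q4160, e3 q4161 L49040 q4161, e3 q4162 (flp_f L49101) q3198, e3 q4163 L49138 q3200, e3 q4164 (flp_f L626655) q3225, e3 q4165 L49496 q3220, e3 q4166 L49582 q4166, e3 q4167 L49590 q3222, e3 q4168 L49629 q4168, e3 q4169 L49642 q3226, e3 q4170 (flp_f L50122) q3219, e3 q4171 L626613 q3223, e3 q4172 L50274 q4172, e3 q4173 L626502 q3265, e3 q4174 (flp_f L626515) q3250, e3 q4175 (flp_f L626586) q3272, e3 q4176 L50372 q4176, e3 q4177 L626565 q3257, e3 q4178 (flp_f L50464) q3232, e3 q4179 L50492 q4179, e3 q4180 L50519 q4180, e3 q4181 L50528 q4181, e3 q4182 L50555 q4182, e3 q4183 L50632 q4183, e3 q4184 L50639 q4184, e3 q4185 L50666 q4185, e3 q4186 L50834 q4186, e3 q4187 L50843 q3260, e3 q4188 L50868 q3261, e3 q4189 (flp_f L626595) q3268, e3 q4190 L50932 q3263, e3 q4191 L622991 q5148, e3 q4192 L51077 q3270, e3 q4193 (flp_f L624728) q5144, e3 q4194 L626572 q5113, e3 q4195 (flp_f L51441) q3262, e3 q4196 L626551 q3266, e3 q4197 L623925 q3288, e3 q4198 (flp_f L51673) q3269, e3 q4199 L624205 q5146, e3 q4200 L51906 q4200,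 e3 q4201 L51915 q4201, e3 q4202 L51938 q4202, e3 q4203 L75066 q5275, e3 q4204 L51961 q4204, e3 q4205 L51971 q4205, e3 q4206 L51981 q4206, e3 q4207 (flp_f L52005) q3277, e3 q4208 L624469 q5145, e3 q4209 L624550 q5186, e3 q4210 L52035 q4210, e3 q4211 L52043 q4211, e3 q4212 (flp_f L616861) q3306, e3 q4213 (flp_f L52063) q3282, e3 q4214 L616844 q3304, e3 q4215 (flp_f L75241) q5279, e3 q4216 L52103 q4216, e3 q4217 L52111 q4217, e3 q4218 L52146 q3289, e3 q4219 (flp_f L624324) q3295, e3 q4220 (flp_f L623945) q3294, e3 q4221 (flp_f L616796) q5280, e3 q4222 L52223 q4222, e3 q4223 L75435 q5284, trivial⟩ (by decide +kernel)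

theorem ce_f_66 : ∀ r, r < 64 → sm gf (Qf (4224 + r)) = Qf (tab Gen.f (4224 + r)) :=
  edges_tab (sm gf) Qf (tab Gen.f) 4224 [(4224, 4224), (4225, 5276), (4226, 3300), (4227, 5274), (4228, 3303), (4229, 5244), (4230, 4230), (4231, 4231), (4232, 3316), (4233, 3320), (4234, 4234), (4235, 3322), (4236, 5287), (4237, 4237), (4238, 5292), (4239, 4239), (4240, 5296), (4241, 3325), (4242, 4242), (4243, 5300), (4244, 3332), (4245, 5304), (4246, 3328), (4247, 3335), (4248, 5308), (4249, 5309), (4250, 3330), (4251, 4251), (4252, 5301), (4253, 5315), (4254, 5316), (4255, 3333), (4256, 4256), (4257, 5321), (4258, 5323), (4259, 3336), (4260, 3337), (4261, 5328), (4262, 3345), (4263, 3346), (4264, 5332), (4265, 3340), (4266, 5335), (4267, 3341), (4268, 5339), (4269, 5325), (4270, 4270), (4271, 5327), (4272, 3344), (4273, 5346), (4274, 5330), (4275, 4275), (4276, 5349), (4277, 4277), (4278, 5353), (4279, 3349), (4280, 3363), (4281, 5357), (4282, 3351), (4283, 3366), (4284, 5361), (4285, 5362), (4286, 3353), (4287, 5354)]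
    ⟨e3 q4224 L52240 q4224, e3 q4225 L616816 q5276, e3 q4226 (flp_f L52258) q3300, e3 q4227 (flp_f L624229) q5274, e3 q4228 L52282 q3303, e3 q4229 L626970 q5244, e3 q4230 L52422 q4230, e3 q4231 L52783 q4231, e3 q4232 (flp_f L53371) q3316, e3 q4233 L54467 q3320, e3 q4234 L54480 q4234, e3 q4235 L55044 q3322, e3 q4236 (flp_f L79340) q5287, e3 q4237 L55061 q4237, e3 q4238 L79384 q5292, e3 q4239 L55080 q4239, e3 q4240 L79420 q5296, e3 q4241 (flp_f L55093) q3325, e3 q4242 L55105 q4242, e3 q4243 L79460 q5300, e3 q4244 L55126 q3332, e3 q4245 L79498 q5304, e3 q4246 (flp_f L55144) q3328, e3 q4247 L55159 q3335, e3 q4248 L79536 q5308, e3 q4249 L79546 q5309, e3 q4250 (flp_f L55181) q3330, e3 q4251 L55200 q4251, e3 q4252 (flp_f L79473) q5301, e3 q4253 L79601 q5315, e3 q4254 L79611 q5316, e3 q4255 (flp_f L55232) q3333, e3 q4256 L55250 q4256, e3 q4257 L79659 q5321, e3 q4258 L79676 q5323, e3 q4259 (flp_f L55270) q3336, e3 q4260 (flp_f L55278) q3337, e3 q4261 (flp_f L79721) q5328, e3 q4262 L55302 q3345, e3 q4263 L55309 q3346, e3 q4264 L79753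 q5332, e3 q4265 (flp_f L55322) q3340, e3 q4266 L79781 q5335, e3 q4267 (flp_f L55340) q3341, e3 q4268 (flp_f L79815) q5339, e3 q4269 (flp_f L79700) q5325, e3 q4270 L55372 q4270, e3 q4271 (flp_f L79715) q5327, e3 q4272 L55384 q3344, e3 q4273 (flp_f L79877) q5346, e3 q4274 (flp_f L79740) q5330, e3 q4275 L55411 q4275, e3 q4276 L79904 q5349, e3 q4277 L55435 q4277, e3 q4278 L79941 q5353, e3 q4279 (flp_f L55448) q3349, e3 q4280 L55459 q3363, e3 q4281 L79989 q5357, e3 q4282 (flp_f L55477) q3351, e3 q4283 L55494 q3366, e3 q4284 L80027 q5361, e3 q4285 L80036 q5362, e3 q4286 (flp_f L55514) q3353, e3 q4287 (flp_f L79954) q5354, trivial⟩ (by decide +kernel)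

theorem ce_f_67 : ∀ r, r < 64 → sm gf (Qf (4288 + r)) = Qf (tab Gen.f (4288 + r)) :=
  edges_tab (sm gf) Qf (tab Gen.f) 4288 [(4288, 5367), (4289, 5368), (4290, 3356), (4291, 4291), (4292, 5373), (4293, 5375), (4294, 3359), (4295, 3360), (4296, 5380), (4297, 4297), (4298, 4298), (4299, 5384), (4300, 5385), (4301, 3364), (4302, 4302), (4303, 5390), (4304, 5392), (4305, 3367), (4306, 3368), (4307, 5397), (4308, 4308), (4309, 4309), (4310, 5401), (4311, 3371), (4312, 3372), (4313, 5406), (4314, 3386), (4315, 3387), (4316, 5410), (4317, 3375), (4318, 5413), (4319, 3376), (4320, 5417), (4321, 3393), (4322, 3576), (4323, 3395), (4324, 3379), (4325, 5424), (4326, 3398), (4327, 5425), (4328, 3382), (4329, 5429), (4330, 5403), (4331, 3589), (4332, 5405), (4333, 3385), (4334, 5436), (4335, 5408), (4336, 5438), (4337, 3388), (4338, 5442), (4339, 5412), (4340, 3390), (4341, 5447), (4342, 3600), (4343, 5416), (4344, 3392), (4345, 5454), (4346, 5419), (4347, 5455), (4348, 3606), (4349, 5422), (4350, 5423), (4351, 3397)]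
    ⟨e3 q4288 L80087 q5367, e3 q4289 L80097 q5368, e3 q4290 (flp_f L55560) q3356, e3 q4291 L55580 q4291, e3 q4292 L80143 q5373, e3 q4293 L80158 q5375, e3 q4294 (flp_f L55595) q3359, e3 q4295 (flp_f L55602) q3360, e3 q4296 (flp_f L80198) q5380, e3 q4297 L55622 q4297, e3 q4298 L55630 q4298, e3 q4299 L80238 q5384, e3 q4300 L80248 q5385, e3 q4301 (flp_f L55666) q3364, e3 q4302 L55685 q4302, e3 q4303 L80301 q5390, e3 q4304 L80319 q5392, e3 q4305 (flp_f L55704) q3367, e3 q4306 (flp_f L55711) q3368, e3 q4307 (flp_f L80364) q5397, e3 q4308 L55735 q4308, e3 q4309 L55742 q4309, e3 q4310 L80417 q5401, e3 q4311 (flp_f L55766) q3371, e3 q4312 (flp_f L55774) q3372, e3 q4313 (flp_f L80469) q5406, e3 q4314 L55801 q3386, e3 q4315 L55809 q3387, e3 q4316 L80503 q5410, e3 q4317 (flp_f L55823) q3375, e3 q4318 L80527 q5413, e3 q4319 (flp_f L55838) q3376, e3 q4320 (flp_f L80562) q5417, e3 q4321 L55857 q3393, e3 q4322 L55864 q3576, e3 q4323 L55873 q3395, e3 q4324 L55880 q3379, e3 q4325 (flp_f L80618) q5424, e3 q4326 L55896 q3398, e3 q4327 L80659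 q5425, e3 q4328 (flp_f L55929) q3382, e3 q4329 (flp_f L80700) q5429, e3 q4330 (flp_f L80442) q5403, e3 q4331 L55964 q3589, e3 q4332 (flp_f L80462) q5405, e3 q4333 L55980 q3385, e3 q4334 (flp_f L80768) q5436, e3 q4335 (flp_f L80489) q5408, e3 q4336 L80782 q5438, e3 q4337 (flp_f L56013) q3388, e3 q4338 (flp_f L80820) q5442, e3 q4339 (flp_f L80525) q5412, e3 q4340 (flp_f L56036) q3390, e3 q4341 (flp_f L80861) q5447, e3 q4342 L56059 q3600, e3 q4343 (flp_f L80556) q5416, e3 q4344 L56071 q3392, e3 q4345 (flp_f L80912) q5454, e3 q4346 (flp_f L80577) q5419, e3 q4347 L80915 q5455, e3 q4348 L56103 q3606, e3 q4349 (flp_f L80602) q5422, e3 q4350 (flp_f L80609) q5423, e3 q4351 L56126 q3397, trivial⟩ (by decide +kernel)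

theorem ce_f_68 : ∀ r, r < 64 → sm gf (Qf (4352 + r)) = Qf (tab Gen.f (4352 + r)) :=
  edges_tab (sm gf) Qf (tab Gen.f) 4352 [(4352, 4352), (4353, 5464), (4354, 5465), (4355, 3400), (4356, 4356), (4357, 5470), (4358, 5472), (4359, 3403), (4360, 3404), (4361, 5477), (4362, 4362), (4363, 4363), (4364, 5481), (4365, 3407), (4366, 5484), (4367, 3408), (4368, 5488), (4369, 4369), (4370, 3623), (4371, 4371), (4372, 3411), (4373, 5495), (4374, 4374), (4375, 5497), (4376, 5499), (4377, 3415), (4378, 3416), (4379, 5504), (4380, 3442), (4381, 3443), (4382, 5508), (4383, 3419), (4384, 5511), (4385, 3420), (4386, 5515), (4387, 3449), (4388, 3634), (4389, 3451), (4390, 3423), (4391, 5522), (4392, 3454), (4393, 5524), (4394, 3426), (4395, 5528), (4396, 3458), (4397, 3428), (4398, 5533), (4399, 3645), (4400, 3462), (4401, 3430), (4402, 5540), (4403, 3465), (4404, 5541), (4405, 3651), (4406, 3468), (4407, 3469), (4408, 3435), (4409, 5549), (4410, 3437), (4411, 5552), (4412, 3438), (4413, 5556), (4414, 5501), (4415, 4415)]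
    ⟨e3 q4352 L56133 q4352, e3 q4353 L80994 q5464, e3 q4354 L81005 q5465, e3 q4355 (flp_f L56161) q3400, e3 q4356 L56181 q4356, e3 q4357 L81058 q5470, e3 q4358 L81079 q5472, e3 q4359 (flp_f L56204) q3403, e3 q4360 (flp_f L56214) q3404, e3 q4361 (flp_f L81128) q5477, e3 q4362 L56239 q4362, e3 q4363 L56245 q4363, e3 q4364 L81163 q5481, e3 q4365 (flp_f L56260) q3407, e3 q4366 L81192 q5484, e3 q4367 (flp_f L56278) q3408, e3 q4368 (flp_f L81228) q5488, e3 q4369 L56303 q4369, e3 q4370 L56310 q3623, e3 q4371 L56317 q4371, e3 q4372 L56321 q3411, e3 q4373 (flp_f L81287) q5495, e3 q4374 L56341 q4374, e3 q4375 L81300 q5497, e3 q4376 L81318 q5499, e3 q4377 (flp_f L56364) q3415, e3 q4378 (flp_f L56373) q3416, e3 q4379 (flp_f L81365) q5504, e3 q4380 L56398 q3442, e3 q4381 L56406 q3443, e3 q4382 L81401 q5508, e3 q4383 (flp_f L56422) q3419, e3 q4384 L81430 q5511, e3 q4385 (flp_f L56440) q3420, e3 q4386 (flp_f L81468) q5515, e3 q4387 L56464 q3449, e3 q4388 L56472 q3634, e3 q4389 L56481 q3451, e3 q4390 L56486 q3423, e3 q4391 (flp_f L81524)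 q5522, e3 q4392 L56503 q3454, e3 q4393 L81536 q5524, e3 q4394 (flp_f L56516) q3426, e3 q4395 (flp_f L81575) q5528, e3 q4396 L56541 q3458, e3 q4397 (flp_f L56543) q3428, e3 q4398 (flp_f L81615) q5533, e3 q4399 L56561 q3645, e3 q4400 L56569 q3462, e3 q4401 L56575 q3430, e3 q4402 (flp_f L81668) q5540, e3 q4403 L56593 q3465, e3 q4404 L81670 q5541, e3 q4405 L56607 q3651, e3 q4406 L56614 q3468, e3 q4407 L56619 q3469, e3 q4408 L56628 q3435, e3 q4409 L81729 q5549, e3 q4410 (flp_f L56638) q3437, e3 q4411 L81758 q5552, e3 q4412 (flp_f L56657) q3438, e3 q4413 (flp_f L81793) q5556, e3 q4414 (flp_f L81343) q5501, e3 q4415 L56691 q4415, trivial⟩ (by decide +kernel)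

theorem ce_f_69 : ∀ r, r < 64 → sm gf (Qf (4416 + r)) = Qf (tab Gen.f (4416 + r)) :=
  edges_tab (sm gf) Qf (tab Gen.f) 4416 [(4416, 5503), (4417, 3441), (4418, 5563), (4419, 5506), (4420, 5565), (4421, 3444), (4422, 5569), (4423, 5510), (4424, 3446), (4425, 5574), (4426, 3661), (4427, 5514), (4428, 3448), (4429, 5581), (4430, 5517), (4431, 5582), (4432, 3667), (4433, 5520), (4434, 5521), (4435, 3453), (4436, 5589), (4437, 3455), (4438, 5593), (4439, 3674), (4440, 5527), (4441, 3457), (4442, 5600), (4443, 5530), (4444, 3679), (4445, 5532), (4446, 3460), (4447, 5606), (4448, 5607), (4449, 5610), (4450, 3685), (4451, 5538), (4452, 5539), (4453, 3464), (4454, 3466), (4455, 5617), (4456, 5618), (4457, 3692), (4458, 3693), (4459, 5546), (4460, 5547), (4461, 4461), (4462, 4462), (4463, 4463), (4464, 4464), (4465, 4465), (4466, 4466), (4467, 4467), (4468, 4468), (4469, 5631), (4470, 4470), (4471, 4471), (4472, 4472), (4473, 3696), (4474, 4474), (4475, 4475), (4476, 3699), (4477, 4477), (4478, 5641), (4479, 3702)]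
    ⟨e3 q4416 (flp_f L81359) q5503, e3 q4417 L56703 q3441, e3 q4418 (flp_f L81857) q5563, e3 q4419 (flp_f L81385) q5506, e3 q4420 L81870 q5565, e3 q4421 (flp_f L56738) q3444, e3 q4422 (flp_f L81915) q5569, e3 q4423 (flp_f L81428) q5510, e3 q4424 (flp_f L56766) q3446, e3 q4425 (flp_f L81959) q5574, e3 q4426 L56790 q3661, e3 q4427 (flp_f L81462) q5514, e3 q4428 L56804 q3448, e3 q4429 (flp_f L82013) q5581, e3 q4430 (flp_f L81486) q5517, e3 q4431 L82018 q5582, e3 q4432 L56840 q3667, e3 q4433 (flp_f L81510) q5520, e3 q4434 (flp_f L81517) q5521, e3 q4435 L56859 q3453, e3 q4436 L82075 q5589, e3 q4437 (flp_f L56871) q3455, e3 q4438 (flp_f L82112) q5593, e3 q4439 L56896 q3674, e3 q4440 (flp_f L81568) q5527, e3 q4441 L56910 q3457, e3 q4442 (flp_f L82172) q5600, e3 q4443 (flp_f L81595) q5530, e3 q4444 L56938 q3679, e3 q4445 (flp_f L81609) q5532, e3 q4446 L56949 q3460, e3 q4447 (flp_f L82212) q5606, e3 q4448 (flp_f L82221) q5607, e3 q4449 L82237 q5610, e3 q4450 L56978 q3685, e3 q4451 (flp_f L81652) q5538, e3 q4452 (flp_f L81658) q5539,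 e3 q4453 L57000 q3464, e3 q4454 (flp_f L57003) q3466, e3 q4455 (flp_f L82301) q5617, e3 q4456 (flp_f L82306) q5618, e3 q4457 L57028 q3692, e3 q4458 L57039 q3693, e3 q4459 (flp_f L81708) q5546, e3 q4460 (flp_f L81717) q5547, e3 q4461 L57107 q4461, e3 q4462 L57116 q4462, e3 q4463 L57125 q4463, e3 q4464 L57151 q4464, e3 q4465 L57192 q4465, e3 q4466 L57213 q4466, e3 q4467 L57221 q4467, e3 q4468 L57246 q4468, e3 q4469 L82657 q5631, e3 q4470 L57262 q4470, e3 q4471 L57269 q4471, e3 q4472 L57275 q4472, e3 q4473 L57328 q3696, e3 q4474 L57339 q4474, e3 q4475 L57365 q4475, e3 q4476 L57377 q3699, e3 q4477 L57387 q4477, e3 q4478 L82905 q5641, e3 q4479 L57427 q3702, trivial⟩ (by decide +kernel)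

theorem ce_f_70 : ∀ r, r < 64 → sm gf (Qf (4480 + r)) = Qf (tab Gen.f (4480 + r)) :=
  edges_tab (sm gf) Qf (tab Gen.f) 4480 [(4480, 4480), (4481, 4481), (4482, 3489), (4483, 5646), (4484, 5647), (4485, 3708), (4486, 3709), (4487, 4487), (4488, 4488), (4489, 3712), (4490, 4490), (4491, 5657), (4492, 3715), (4493, 4493), (4494, 4494), (4495, 3718), (4496, 5664), (4497, 3720), (4498, 4498), (4499, 4499), (4500, 3502), (4501, 5669), (4502, 5670), (4503, 3726), (4504, 3727), (4505, 4505), (4506, 4506), (4507, 3508), (4508, 3509), (4509, 5678), (4510, 5679), (4511, 5680), (4512, 3735), (4513, 3736), (4514, 4514), (4515, 3515), (4516, 5688), (4517, 4517), (4518, 5692), (4519, 4519), (4520, 5695), (4521, 3518), (4522, 4522), (4523, 5699), (4524, 5700), (4525, 3520), (4526, 3532), (4527, 4527), (4528, 5704), (4529, 5706), (4530, 3524), (4531, 5709), (4532, 5710), (4533, 3526), (4534, 5696), (4535, 5715), (4536, 5717), (4537, 3529), (4538, 3530), (4539, 5722), (4540, 5702), (4541, 4127), (4542, 5726), (4543, 3534)]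
    ⟨e3 q4480 L57436 q4480, e3 q4481 L57444 q4481, e3 q4482 (flp_f L57456) q3489, e3 q4483 (flp_f L82971) q5646, e3 q4484 (flp_f L82980) q5647, e3 q4485 L57485 q3708, e3 q4486 L57494 q3709, e3 q4487 L57503 q4487, e3 q4488 L57511 q4488, e3 q4489 L57541 q3712, e3 q4490 L57550 q4490, e3 q4491 L83151 q5657, e3 q4492 L57593 q3715, e3 q4493 L57603 q4493, e3 q4494 L57610 q4494, e3 q4495 L57626 q3718, e3 q4496 L83227 q5664, e3 q4497 L57644 q3720, e3 q4498 L57653 q4498, e3 q4499 L57660 q4499, e3 q4500 (flp_f L57688) q3502, e3 q4501 (flp_f L83322) q5669, e3 q4502 (flp_f L83329) q5670, e3 q4503 L57714 q3726, e3 q4504 L57724 q3727, e3 q4505 L57731 q4505, e3 q4506 L57741 q4506, e3 q4507 L57749 q3508, e3 q4508 L57756 q3509, e3 q4509 (flp_f L83395) q5678, e3 q4510 (flp_f L83402) q5679, e3 q4511 (flp_f L83411) q5680, e3 q4512 L57787 q3735, e3 q4513 L57797 q3736, e3 q4514 L57805 q4514, e3 q4515 L57816 q3515, e3 q4516 (flp_f L83475) q5688, e3 q4517 L57834 q4517, e3 q4518 L83525 q5692, e3 q4519 L57855 q4519, e3 q4520 L83566 q5695, e3 q4521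 (flp_f L57873) q3518, e3 q4522 L57887 q4522, e3 q4523 L83604 q5699, e3 q4524 L83613 q5700, e3 q4525 (flp_f L57910) q3520, e3 q4526 L57926 q3532, e3 q4527 L57931 q4527, e3 q4528 L83667 q5704, e3 q4529 L83710 q5706, e3 q4530 (flp_f L57970) q3524, e3 q4531 L83751 q5709, e3 q4532 L83763 q5710, e3 q4533 (flp_f L58011) q3526, e3 q4534 (flp_f L83584) q5696, e3 q4535 L83807 q5715, e3 q4536 L83826 q5717, e3 q4537 (flp_f L58048) q3529, e3 q4538 (flp_f L58059) q3530, e3 q4539 (flp_f L83868) q5722, e3 q4540 (flp_f L83635) q5702, e3 q4541 L619132 q4127, e3 q4542 L83917 q5726, e3 q4543 (flp_f L58110) q3534, trivial⟩ (by decide +kernel)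

theorem ce_f_71 : ∀ r, r < 64 → sm gf (Qf (4544 + r)) = Qf (tab Gen.f (4544 + r)) :=
  edges_tab (sm gf) Qf (tab Gen.f) 4544 [(4544, 5728), (4545, 3535), (4546, 4546), (4547, 5733), (4548, 3537), (4549, 3538), (4550, 5738), (4551, 4551), (4552, 4552), (4553, 5741), (4554, 3541), (4555, 5743), (4556, 3542), (4557, 5746), (4558, 4558), (4559, 5378), (4560, 4560), (4561, 3545), (4562, 5753), (4563, 4563), (4564, 5754), (4565, 3548), (4566, 4566), (4567, 5759), (4568, 3550), (4569, 3551), (4570, 5764), (4571, 4571), (4572, 4572), (4573, 5768), (4574, 3554), (4575, 5771), (4576, 3555), (4577, 5775), (4578, 4578), (4579, 5395), (4580, 4580), (4581, 3558), (4582, 5782), (4583, 4583), (4584, 3561), (4585, 5785), (4586, 3583), (4587, 3584), (4588, 5788), (4589, 3564), (4590, 5792), (4591, 3588), (4592, 5404), (4593, 3590), (4594, 3567), (4595, 5799), (4596, 3593), (4597, 5801), (4598, 3570), (4599, 5805), (4600, 3597), (4601, 3572), (4602, 5810), (4603, 5415), (4604, 3601), (4605, 3574), (4606, 5817), (4607, 3604)]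
    ⟨e3 q4544 L83965 q5728, e3 q4545 (flp_f L58148) q3535, e3 q4546 L58168 q4546, e3 q4547 L84027 q5733, e3 q4548 (flp_f L58186) q3537, e3 q4549 (flp_f L58196) q3538, e3 q4550 (flp_f L84072) q5738, e3 q4551 L58218 q4551, e3 q4552 L58227 q4552, e3 q4553 L84098 q5741, e3 q4554 (flp_f L58236) q3541, e3 q4555 L84123 q5743, e3 q4556 (flp_f L58252) q3542, e3 q4557 (flp_f L84153) q5746, e3 q4558 L58273 q4558, e3 q4559 (flp_f L80185) q5378, e3 q4560 L58286 q4560, e3 q4561 L58291 q3545, e3 q4562 (flp_f L84206) q5753, e3 q4563 L58307 q4563, e3 q4564 L84241 q5754, e3 q4565 (flp_f L58342) q3548, e3 q4566 L58361 q4566, e3 q4567 L84313 q5759, e3 q4568 (flp_f L58383) q3550, e3 q4569 (flp_f L58393) q3551, e3 q4570 (flp_f L84363) q5764, e3 q4571 L58419 q4571, e3 q4572 L58427 q4572, e3 q4573 L84396 q5768, e3 q4574 (flp_f L58440) q3554, e3 q4575 L84423 q5771, e3 q4576 (flp_f L58459) q3555, e3 q4577 (flp_f L84459) q5775, e3 q4578 L58482 q4578, e3 q4579 (flp_f L80349) q5395, e3 q4580 L58497 q4580, e3 q4581 L58503 q3558, e3 q4582 (flp_f L84523)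 q5782, e3 q4583 L58522 q4583, e3 q4584 (flp_f L58555) q3561, e3 q4585 (flp_f L84601) q5785, e3 q4586 L58579 q3583, e3 q4587 L58587 q3584, e3 q4588 L84662 q5788, e3 q4589 (flp_f L58620) q3564, e3 q4590 (flp_f L84700) q5792, e3 q4591 L58642 q3588, e3 q4592 (flp_f L80451) q5404, e3 q4593 L58660 q3590, e3 q4594 L58667 q3567, e3 q4595 (flp_f L84761) q5799, e3 q4596 L58683 q3593, e3 q4597 L84774 q5801, e3 q4598 (flp_f L58695) q3570, e3 q4599 (flp_f L84809) q5805, e3 q4600 L58718 q3597, e3 q4601 (flp_f L58720) q3572, e3 q4602 (flp_f L84852) q5810, e3 q4603 (flp_f L80548) q5415, e3 q4604 L58746 q3601, e3 q4605 L58752 q3574, e3 q4606 (flp_f L84905) q5817, e3 q4607 L58768 q3604, trivial⟩ (by decide +kernel)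

theorem ce_f_72 : ∀ r, r < 64 → sm gf (Qf (4608 + r)) = Qf (tab Gen.f (4608 + r)) :=
  edges_tab (sm gf) Qf (tab Gen.f) 4608 [(4608, 5818), (4609, 5421), (4610, 3607), (4611, 3608), (4612, 3579), (4613, 4613), (4614, 5784), (4615, 3582), (4616, 5829), (4617, 5787), (4618, 3585), (4619, 5832), (4620, 5427), (4621, 5791), (4622, 3587), (4623, 5838), (4624, 5794), (4625, 5839), (4626, 5433), (4627, 5797), (4628, 5798), (4629, 3592), (4630, 5846), (4631, 3594), (4632, 5850), (4633, 5440), (4634, 5804), (4635, 3596), (4636, 5857), (4637, 5807), (4638, 5445), (4639, 5809), (4640, 3599), (4641, 5863), (4642, 5864), (4643, 5867), (4644, 5451), (4645, 5815), (4646, 5816), (4647, 3603), (4648, 3605), (4649, 5874), (4650, 5875), (4651, 5458), (4652, 5459), (4653, 5823), (4654, 5824), (4655, 5883), (4656, 3610), (4657, 5886), (4658, 3611), (4659, 5890), (4660, 4660), (4661, 5475), (4662, 4662), (4663, 3614), (4664, 5897), (4665, 4665), (4666, 5899), (4667, 3617), (4668, 5903), (4669, 4669), (4670, 3619), (4671, 5908)]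
    ⟨e3 q4608 L84907 q5818, e3 q4609 (flp_f L80593) q5421, e3 q4610 L58792 q3607, e3 q4611 L58799 q3608, e3 q4612 L58810 q3579, e3 q4613 L58873 q4613, e3 q4614 (flp_f L84595) q5784, e3 q4615 L58885 q3582, e3 q4616 (flp_f L85097) q5829, e3 q4617 (flp_f L84620) q5787, e3 q4618 (flp_f L58944) q3585, e3 q4619 (flp_f L85199) q5832, e3 q4620 (flp_f L80686) q5427, e3 q4621 (flp_f L84694) q5791, e3 q4622 L58982 q3587, e3 q4623 (flp_f L85253) q5838, e3 q4624 (flp_f L84716) q5794, e3 q4625 L85258 q5839, e3 q4626 (flp_f L80741) q5433, e3 q4627 (flp_f L84743) q5797, e3 q4628 (flp_f L84752) q5798, e3 q4629 L59042 q3592, e3 q4630 L85318 q5846, e3 q4631 (flp_f L59055) q3594, e3 q4632 (flp_f L85357) q5850, e3 q4633 (flp_f L80806) q5440, e3 q4634 (flp_f L84802) q5804, e3 q4635 L59090 q3596, e3 q4636 (flp_f L85413) q5857, e3 q4637 (flp_f L84827) q5807, e3 q4638 (flp_f L80846) q5445, e3 q4639 (flp_f L84844) q5809, e3 q4640 L59132 q3599, e3 q4641 (flp_f L85462) q5863, e3 q4642 (flp_f L85474) q5864, e3 q4643 L85493 q5867, e3 q4644 (flp_f L80892)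 q5451, e3 q4645 (flp_f L84889) q5815, e3 q4646 (flp_f L84895) q5816, e3 q4647 L59183 q3603, e3 q4648 (flp_f L59186) q3605, e3 q4649 (flp_f L85549) q5874, e3 q4650 (flp_f L85556) q5875, e3 q4651 (flp_f L80944) q5458, e3 q4652 (flp_f L80955) q5459, e3 q4653 (flp_f L84946) q5823, e3 q4654 (flp_f L84957) q5824, e3 q4655 L85619 q5883, e3 q4656 (flp_f L59251) q3610, e3 q4657 L85651 q5886, e3 q4658 (flp_f L59273) q3611, e3 q4659 (flp_f L85690) q5890, e3 q4660 L59301 q4660, e3 q4661 (flp_f L81115) q5475, e3 q4662 L59317 q4662, e3 q4663 L59321 q3614, e3 q4664 (flp_f L85754) q5897, e3 q4665 L59341 q4665, e3 q4666 L85768 q5899, e3 q4667 (flp_f L59356) q3617, e3 q4668 (flp_f L85808) q5903, e3 q4669 L59385 q4669, e3 q4670 (flp_f L59386) q3619, e3 q4671 (flp_f L85854) q5908, trivial⟩ (by decide +kernel)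

theorem ce_f_73 : ∀ r, r < 64 → sm gf (Qf (4672 + r)) = Qf (tab Gen.f (4672 + r)) :=
  edges_tab (sm gf) Qf (tab Gen.f) 4672 [(4672, 5486), (4673, 4673), (4674, 3621), (4675, 5915), (4676, 4676), (4677, 5916), (4678, 5492), (4679, 4679), (4680, 4680), (4681, 3626), (4682, 5924), (4683, 3628), (4684, 5928), (4685, 3658), (4686, 3630), (4687, 5933), (4688, 5513), (4689, 3662), (4690, 3632), (4691, 5940), (4692, 3665), (4693, 5941), (4694, 5519), (4695, 3668), (4696, 3669), (4697, 3637), (4698, 5948), (4699, 3639), (4700, 5951), (4701, 5526), (4702, 3675), (4703, 3641), (4704, 5957), (4705, 3678), (4706, 5531), (4707, 3680), (4708, 3644), (4709, 5963), (4710, 5964), (4711, 5967), (4712, 5537), (4713, 3686), (4714, 3687), (4715, 3648), (4716, 3650), (4717, 5974), (4718, 5975), (4719, 5544), (4720, 5545), (4721, 3694), (4722, 3695), (4723, 5982), (4724, 3655), (4725, 5985), (4726, 5567), (4727, 5927), (4728, 3657), (4729, 5991), (4730, 5930), (4731, 5572), (4732, 5932), (4733, 3660), (4734, 5997), (4735, 5998)]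
    ⟨e3 q4672 (flp_f L81215) q5486, e3 q4673 L59414 q4673, e3 q4674 L59419 q3621, e3 q4675 (flp_f L85913) q5915, e3 q4676 L59441 q4676, e3 q4677 L85917 q5916, e3 q4678 (flp_f L81264) q5492, e3 q4679 L59464 q4679, e3 q4680 L59470 q4680, e3 q4681 L59480 q3626, e3 q4682 L85979 q5924, e3 q4683 (flp_f L59494) q3628, e3 q4684 (flp_f L86021) q5928, e3 q4685 L59522 q3658, e3 q4686 (flp_f L59524) q3630, e3 q4687 (flp_f L86067) q5933, e3 q4688 (flp_f L81452) q5513, e3 q4689 L59553 q3662, e3 q4690 L59559 q3632, e3 q4691 (flp_f L86123) q5940, e3 q4692 L59578 q3665, e3 q4693 L86127 q5941, e3 q4694 (flp_f L81503) q5519, e3 q4695 L59601 q3668, e3 q4696 L59608 q3669, e3 q4697 L59617 q3637, e3 q4698 L86180 q5948, e3 q4699 (flp_f L59628) q3639, e3 q4700 (flp_f L86216) q5951, e3 q4701 (flp_f L81559) q5526, e3 q4702 L59657 q3675, e3 q4703 L59664 q3641, e3 q4704 (flp_f L86278) q5957, e3 q4705 L59685 q3678, e3 q4706 (flp_f L81602) q5531, e3 q4707 L59699 q3680, e3 q4708 L59705 q3644, e3 q4709 (flp_f L86315) q5963, e3 q4710 (flp_f L86325) q5964,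 e3 q4711 L86343 q5967, e3 q4712 (flp_f L81644) q5537, e3 q4713 L59740 q3686, e3 q4714 L59746 q3687, e3 q4715 L59758 q3648, e3 q4716 (flp_f L59760) q3650, e3 q4717 (flp_f L86404) q5974, e3 q4718 (flp_f L86411) q5975, e3 q4719 (flp_f L81694) q5544, e3 q4720 (flp_f L81703) q5545, e3 q4721 L59793 q3694, e3 q4722 L59804 q3695, e3 q4723 L86457 q5982, e3 q4724 (flp_f L59816) q3655, e3 q4725 (flp_f L86498) q5985, e3 q4726 (flp_f L81899) q5567, e3 q4727 (flp_f L86014) q5927, e3 q4728 L59858 q3657, e3 q4729 (flp_f L86561) q5991, e3 q4730 (flp_f L86042) q5930, e3 q4731 (flp_f L81946) q5572, e3 q4732 (flp_f L86061) q5932, e3 q4733 L59903 q3660, e3 q4734 (flp_f L86607) q5997, e3 q4735 (flp_f L86617) q5998, trivial⟩ (by decide +kernel)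

theorem ce_f_74 : ∀ r, r < 64 → sm gf (Qf (4736 + r)) = Qf (tab Gen.f (4736 + r)) :=
  edges_tab (sm gf) Qf (tab Gen.f) 4736 [(4736, 6000), (4737, 5578), (4738, 5938), (4739, 5939), (4740, 3664), (4741, 3666), (4742, 6007), (4743, 6008), (4744, 5585), (4745, 5586), (4746, 5946), (4747, 5947), (4748, 3671), (4749, 5591), (4750, 5950), (4751, 3673), (4752, 6022), (4753, 6023), (4754, 5597), (4755, 5955), (4756, 5956), (4757, 3677), (4758, 5601), (4759, 6032), (4760, 5603), (4761, 5961), (4762, 5962), (4763, 3682), (4764, 3683), (4765, 6042), (4766, 6041), (4767, 3684), (4768, 6044), (4769, 6045), (4770, 5613), (4771, 5614), (4772, 5972), (4773, 5973), (4774, 3690), (4775, 3691), (4776, 6053), (4777, 6054), (4778, 6055), (4779, 5622), (4780, 5623), (4781, 5981), (4782, 6063), (4783, 4783), (4784, 5638), (4785, 6067), (4786, 4786), (4787, 3701), (4788, 6069), (4789, 6070), (4790, 5644), (4791, 4791), (4792, 3706), (4793, 3707), (4794, 6075), (4795, 6076), (4796, 6077), (4797, 5651), (4798, 5652), (4799, 4799)]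
    ⟨e3 q4736 L86634 q6000, e3 q4737 (flp_f L81991) q5578, e3 q4738 (flp_f L86105) q5938, e3 q4739 (flp_f L86113) q5939, e3 q4740 L59957 q3664, e3 q4741 (flp_f L59962) q3666, e3 q4742 (flp_f L86700) q6007, e3 q4743 (flp_f L86707) q6008, e3 q4744 (flp_f L82047) q5585, e3 q4745 (flp_f L82057) q5586, e3 q4746 (flp_f L86165) q5946, e3 q4747 (flp_f L86174) q5947, e3 q4748 (flp_f L60016) q3671, e3 q4749 (flp_f L82097) q5591, e3 q4750 (flp_f L86208) q5950, e3 q4751 L60051 q3673, e3 q4752 (flp_f L86851) q6022, e3 q4753 L86872 q6023, e3 q4754 (flp_f L82147) q5597, e3 q4755 (flp_f L86258) q5955, e3 q4756 (flp_f L86265) q5956, e3 q4757 L60111 q3677, e3 q4758 (flp_f L82177) q5601, e3 q4759 L86950 q6032, e3 q4760 (flp_f L82195) q5603, e3 q4761 (flp_f L86303) q5961, e3 q4762 (flp_f L86309) q5962, e3 q4763 L60149 q3682, e3 q4764 L60160 q3683, e3 q4765 L87016 q6042, e3 q4766 (flp_f L87013) q6041, e3 q4767 (flp_f L60177) q3684, e3 q4768 (flp_f L87043) q6044, e3 q4769 (flp_f L87049) q6045, e3 q4770 (flp_f L82266) q5613, e3 q4771 (flp_f L82278)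 q5614, e3 q4772 (flp_f L86382) q5972, e3 q4773 (flp_f L86394) q5973, e3 q4774 L60238 q3690, e3 q4775 L60243 q3691, e3 q4776 (flp_f L87112) q6053, e3 q4777 (flp_f L87119) q6054, e3 q4778 (flp_f L87126) q6055, e3 q4779 (flp_f L82337) q5622, e3 q4780 (flp_f L82348) q5623, e3 q4781 (flp_f L86453) q5981, e3 q4782 L87324 q6063, e3 q4783 L60384 q4783, e3 q4784 (flp_f L82830) q5638, e3 q4785 L87404 q6067, e3 q4786 L60440 q4786, e3 q4787 (flp_f L60488) q3701, e3 q4788 (flp_f L87511) q6069, e3 q4789 (flp_f L87520) q6070, e3 q4790 (flp_f L82935) q5644, e3 q4791 L60531 q4791, e3 q4792 L60551 q3706, e3 q4793 L60560 q3707, e3 q4794 (flp_f L87584) q6075, e3 q4795 (flp_f L87591) q6076, e3 q4796 (flp_f L87598) q6077, e3 q4797 (flp_f L83011) q5651, e3 q4798 (flp_f L83020) q5652, e3 q4799 L60605 q4799, trivial⟩ (by decide +kernel)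

theorem ce_f_75 : ∀ r, r < 64 → sm gf (Qf (4800 + r)) = Qf (tab Gen.f (4800 + r)) :=
  edges_tab (sm gf) Qf (tab Gen.f) 4800 [(4800, 5654), (4801, 6087), (4802, 4802), (4803, 3714), (4804, 6089), (4805, 6090), (4806, 5660), (4807, 4807), (4808, 6094), (4809, 5663), (4810, 3719), (4811, 6099), (4812, 6100), (4813, 5667), (4814, 4814), (4815, 3724), (4816, 3725), (4817, 6105), (4818, 6106), (4819, 6107), (4820, 5674), (4821, 5675), (4822, 4822), (4823, 4823), (4824, 3732), (4825, 3733), (4826, 3734), (4827, 6116), (4828, 6117), (4829, 6118), (4830, 6120), (4831, 5685), (4832, 5686), (4833, 5687), (4834, 3738), (4835, 6131), (4836, 4836), (4837, 4837), (4838, 3740), (4839, 6137), (4840, 4840), (4841, 4841), (4842, 4842), (4843, 3743), (4844, 6143), (4845, 6144), (4846, 6147), (4847, 4847), (4848, 4848), (4849, 4849), (4850, 3747), (4851, 3749), (4852, 6154), (4853, 6155), (4854, 4854), (4855, 4855), (4856, 4856), (4857, 4857), (4858, 4858), (4859, 3779), (4860, 3755), (4861, 6167), (4862, 6168), (4863, 4863)]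
    ⟨e3 q4800 (flp_f L83082) q5654, e3 q4801 L87725 q6087, e3 q4802 L60678 q4802, e3 q4803 (flp_f L60700) q3714, e3 q4804 (flp_f L87793) q6089, e3 q4805 (flp_f L87801) q6090, e3 q4806 (flp_f L83181) q5660, e3 q4807 L60744 q4807, e3 q4808 L87859 q6094, e3 q4809 (flp_f L83224) q5663, e3 q4810 (flp_f L60773) q3719, e3 q4811 (flp_f L87898) q6099, e3 q4812 (flp_f L87906) q6100, e3 q4813 (flp_f L83255) q5667, e3 q4814 L60814 q4814, e3 q4815 L60833 q3724, e3 q4816 L60840 q3725, e3 q4817 (flp_f L87967) q6105, e3 q4818 (flp_f L87975) q6106, e3 q4819 (flp_f L87982) q6107, e3 q4820 (flp_f L83360) q5674, e3 q4821 (flp_f L83370) q5675, e3 q4822 L60887 q4822, e3 q4823 L60896 q4823, e3 q4824 L60902 q3732, e3 q4825 L60909 q3733, e3 q4826 L60916 q3734, e3 q4827 (flp_f L88050) q6116, e3 q4828 (flp_f L88059) q6117, e3 q4829 (flp_f L88066) q6118, e3 q4830 (flp_f L88080) q6120, e3 q4831 (flp_f L83450) q5685, e3 q4832 (flp_f L83460) q5686, e3 q4833 (flp_f L83467) q5687, e3 q4834 (flp_f L60984) q3738, e3 q4835 (flp_f L88195) q6131, e3 q4836 L61014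 q4836, e3 q4837 L61023 q4837, e3 q4838 L61029 q3740, e3 q4839 (flp_f L88262) q6137, e3 q4840 L61051 q4840, e3 q4841 L61063 q4841, e3 q4842 L61072 q4842, e3 q4843 L61078 q3743, e3 q4844 (flp_f L88317) q6143, e3 q4845 (flp_f L88328) q6144, e3 q4846 L88350 q6147, e3 q4847 L61114 q4847, e3 q4848 L61123 q4848, e3 q4849 L61131 q4849, e3 q4850 L61138 q3747, e3 q4851 (flp_f L61143) q3749, e3 q4852 (flp_f L88417) q6154, e3 q4853 (flp_f L88425) q6155, e3 q4854 L61172 q4854, e3 q4855 L61182 q4855, e3 q4856 L61190 q4856, e3 q4857 L61199 q4857, e3 q4858 L61228 q4858, e3 q4859 L61238 q3779, e3 q4860 L61246 q3755, e3 q4861 (flp_f L88587) q6167, e3 q4862 L88607 q6168, e3 q4863 L61282 q4863, trivial⟩ (by decide +kernel)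

theorem ce_f_76 : ∀ r, r < 64 → sm gf (Qf (4864 + r)) = Qf (tab Gen.f (4864 + r)) :=
  edges_tab (sm gf) Qf (tab Gen.f) 4864 [(4864, 3784), (4865, 3785), (4866, 3759), (4867, 4867), (4868, 6177), (4869, 4869), (4870, 3789), (4871, 3790), (4872, 3764), (4873, 3765), (4874, 6187), (4875, 6186), (4876, 3766), (4877, 6189), (4878, 6190), (4879, 4879), (4880, 4880), (4881, 3800), (4882, 3801), (4883, 3772), (4884, 3773), (4885, 6198), (4886, 6199), (4887, 6200), (4888, 4888), (4889, 4889), (4890, 3809), (4891, 6208), (4892, 4892), (4893, 6165), (4894, 6166), (4895, 3781), (4896, 3782), (4897, 6215), (4898, 6216), (4899, 4899), (4900, 4900), (4901, 6173), (4902, 6174), (4903, 3787), (4904, 6223), (4905, 6224), (4906, 4906), (4907, 4907), (4908, 6182), (4909, 6183), (4910, 6184), (4911, 6235), (4912, 3794), (4913, 3793), (4914, 6238), (4915, 3796), (4916, 3797), (4917, 6240), (4918, 6241), (4919, 6242), (4920, 4920), (4921, 4921), (4922, 6196), (4923, 4923), (4924, 3804), (4925, 3805), (4926, 3806), (4927, 6251)]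
    ⟨e3 q4864 L61290 q3784, e3 q4865 L61298 q3785, e3 q4866 L61307 q3759, e3 q4867 L61313 q4867, e3 q4868 L88686 q6177, e3 q4869 L61333 q4869, e3 q4870 L61341 q3789, e3 q4871 L61349 q3790, e3 q4872 L61356 q3764, e3 q4873 L61365 q3765, e3 q4874 L88765 q6187, e3 q4875 (flp_f L88763) q6186, e3 q4876 (flp_f L61383) q3766, e3 q4877 (flp_f L88794) q6189, e3 q4878 (flp_f L88803) q6190, e3 q4879 L61412 q4879, e3 q4880 L61420 q4880, e3 q4881 L61426 q3800, e3 q4882 L61434 q3801, e3 q4883 L61446 q3772, e3 q4884 L61455 q3773, e3 q4885 (flp_f L88865) q6198, e3 q4886 (flp_f L88872) q6199, e3 q4887 (flp_f L88882) q6200, e3 q4888 L61484 q4888, e3 q4889 L61492 q4889, e3 q4890 L61497 q3809, e3 q4891 L89015 q6208, e3 q4892 L61565 q4892, e3 q4893 (flp_f L88560) q6165, e3 q4894 (flp_f L88569) q6166, e3 q4895 L61600 q3781, e3 q4896 (flp_f L61619) q3782, e3 q4897 (flp_f L89136) q6215, e3 q4898 (flp_f L89144) q6216, e3 q4899 L61653 q4899, e3 q4900 L61664 q4900, e3 q4901 (flp_f L88656) q6173, e3 q4902 (flp_f L88665) q6174, e3 q4903 (flp_f L61683)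 q3787, e3 q4904 (flp_f L89208) q6223, e3 q4905 (flp_f L89216) q6224, e3 q4906 L61713 q4906, e3 q4907 L61723 q4907, e3 q4908 (flp_f L88730) q6182, e3 q4909 (flp_f L88737) q6183, e3 q4910 (flp_f L88748) q6184, e3 q4911 L89297 q6235, e3 q4912 L61760 q3794, e3 q4913 (flp_f L61763) q3793, e3 q4914 (flp_f L89330) q6238, e3 q4915 L61790 q3796, e3 q4916 L61797 q3797, e3 q4917 (flp_f L89354) q6240, e3 q4918 (flp_f L89362) q6241, e3 q4919 (flp_f L89371) q6242, e3 q4920 L61828 q4920, e3 q4921 L61838 q4921, e3 q4922 (flp_f L88845) q6196, e3 q4923 L61855 q4923, e3 q4924 L61861 q3804, e3 q4925 L61868 q3805, e3 q4926 L61877 q3806, e3 q4927 (flp_f L89442) q6251, trivial⟩ (by decide +kernel)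

theorem ce_f_77 : ∀ r, r < 64 → sm gf (Qf (4928 + r)) = Qf (tab Gen.f (4928 + r)) :=
  edges_tab (sm gf) Qf (tab Gen.f) 4928 [(4928, 6252), (4929, 6253), (4930, 6255), (4931, 4931), (4932, 4932), (4933, 4933), (4934, 3811), (4935, 3812), (4936, 6265), (4937, 6266), (4938, 6267), (4939, 4939), (4940, 4940), (4941, 4941), (4942, 4942), (4943, 3819), (4944, 3820), (4945, 3821), (4946, 6275), (4947, 3836), (4948, 6276), (4949, 6278), (4950, 4950), (4951, 4951), (4952, 4952), (4953, 3829), (4954, 3831), (4955, 6119), (4956, 3832), (4957, 6280), (4958, 6256), (4959, 4959), (4960, 4960), (4961, 4961), (4962, 6269), (4963, 4963), (4964, 4964), (4965, 3840), (4966, 3841), (4967, 3844), (4968, 6293), (4969, 3845), (4970, 6296), (4971, 4119), (4972, 3847), (4973, 3859), (4974, 6295), (4975, 4117), (4976, 3850), (4977, 3854), (4978, 6294), (4979, 6301), (4980, 3856), (4981, 3857), (4982, 4120), (4983, 4128), (4984, 6302), (4985, 3860), (4986, 6305), (4987, 3861), (4988, 4078), (4989, 4118), (4990, 4990), (4991, 4991)]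
    ⟨e3 q4928 (flp_f L89452) q6252, e3 q4929 (flp_f L89460) q6253, e3 q4930 (flp_f L89477) q6255, e3 q4931 L61917 q4931, e3 q4932 L61927 q4932, e3 q4933 L61932 q4933, e3 q4934 L61944 q3811, e3 q4935 L61954 q3812, e3 q4936 (flp_f L89561) q6265, e3 q4937 (flp_f L89570) q6266, e3 q4938 (flp_f L89580) q6267, e3 q4939 L61990 q4939, e3 q4940 L62000 q4940, e3 q4941 L62008 q4941, e3 q4942 L62020 q4942, e3 q4943 L62028 q3819, e3 q4944 L62036 q3820, e3 q4945 L62045 q3821, e3 q4946 (flp_f L89657) q6275, e3 q4947 (flp_f L628022) q3836, e3 q4948 (flp_f L89674) q6276, e3 q4949 (flp_f L89690) q6278, e3 q4950 L62083 q4950, e3 q4951 L62092 q4951, e3 q4952 L62098 q4952, e3 q4953 L62114 q3829, e3 q4954 L62132 q3831, e3 q4955 (flp_f L88073) q6119, e3 q4956 L62147 q3832, e3 q4957 (flp_f L647570) q6280, e3 q4958 L647374 q6256, e3 q4959 L62191 q4959, e3 q4960 L62200 q4960, e3 q4961 L62207 q4961, e3 q4962 (flp_f L647588) q6269, e3 q4963 L62355 q4963, e3 q4964 L62382 q4964, e3 q4965 L62389 q3840, e3 q4966 L62402 q3841, e3 q4967 L62475 q3844, e3 q4968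 L90271 q6293, e3 q4969 (flp_f L62522) q3845, e3 q4970 L90351 q6296, e3 q4971 L625589 q4119, e3 q4972 (flp_f L62562) q3847, e3 q4973 L62580 q3859, e3 q4974 (flp_f L625403) q6295, e3 q4975 L625449 q4117, e3 q4976 (flp_f L62600) q3850, e3 q4977 (flp_f L62736) q3854, e3 q4978 (flp_f L90328) q6294, e3 q4979 L90754 q6301, e3 q4980 (flp_f L62815) q3856, e3 q4981 (flp_f L62825) q3857, e3 q4982 L626956 q4120, e3 q4983 L627220 q4128, e3 q4984 L625471 q6302, e3 q4985 (flp_f L62874) q3860, e3 q4986 L90867 q6305, e3 q4987 (flp_f L62891) q3861, e3 q4988 L625496 q4078, e3 q4989 L626925 q4118, e3 q4990 L63103 q4990, e3 q4991 L63161 q4991, trivial⟩ (by decide +kernel)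

theorem ce_f_78 : ∀ r, r < 64 → sm gf (Qf (4992 + r)) = Qf (tab Gen.f (4992 + r)) :=
  edges_tab (sm gf) Qf (tab Gen.f) 4992 [(4992, 6308), (4993, 3869), (4994, 4994), (4995, 4995), (4996, 4996), (4997, 4997), (4998, 6312), (4999, 3874), (5000, 6314), (5001, 5001), (5002, 3876), (5003, 6317), (5004, 5004), (5005, 5005), (5006, 3878), (5007, 5007), (5008, 5008), (5009, 6318), (5010, 3885), (5011, 5011), (5012, 5012), (5013, 5013), (5014, 5014), (5015, 6322), (5016, 3890), (5017, 6324), (5018, 5018), (5019, 3892), (5020, 6327), (5021, 5021), (5022, 5022), (5023, 3894), (5024, 6329), (5025, 5025), (5026, 3899), (5027, 3902), (5028, 5028), (5029, 3926), (5030, 3927), (5031, 4036), (5032, 3929), (5033, 6334), (5034, 3908), (5035, 6337), (5036, 5036), (5037, 3934), (5038, 3910), (5039, 3936), (5040, 5040), (5041, 3938), (5042, 3913), (5043, 6345), (5044, 4034), (5045, 5045), (5046, 3943), (5047, 3944), (5048, 3917), (5049, 5049), (5050, 3952), (5051, 5051), (5052, 6331), (5053, 6352), (5054, 6333), (5055, 3928)]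
    ⟨e3 q4992 L91309 q6308, e3 q4993 (flp_f L63192) q3869, e3 q4994 L63214 q4994, e3 q4995 L63224 q4995, e3 q4996 L63234 q4996, e3 q4997 L63259 q4997, e3 q4998 L91417 q6312, e3 q4999 (flp_f L63268) q3874, e3 q5000 (flp_f L91455) q6314, e3 q5001 L63294 q5001, e3 q5002 (flp_f L63295) q3876, e3 q5003 (flp_f L91494) q6317, e3 q5004 L63313 q5004, e3 q5005 L63320 q5005, e3 q5006 L63325 q3878, e3 q5007 L63341 q5007, e3 q5008 L63501 q5008, e3 q5009 L91824 q6318, e3 q5010 (flp_f L63539) q3885, e3 q5011 L63563 q5011, e3 q5012 L63574 q5012, e3 q5013 L63585 q5013, e3 q5014 L63614 q5014, e3 q5015 L91954 q6322, e3 q5016 (flp_f L63627) q3890, e3 q5017 (flp_f L91996) q6324, e3 q5018 L63655 q5018, e3 q5019 (flp_f L63656) q3892, e3 q5020 (flp_f L92044) q6327, e3 q5021 L63680 q5021, e3 q5022 L63687 q5022, e3 q5023 L63692 q3894, e3 q5024 (flp_f L92103) q6329, e3 q5025 L63710 q5025, e3 q5026 L63761 q3899, e3 q5027 (flp_f L63962) q3902, e3 q5028 L63985 q5028, e3 q5029 L63994 q3926, e3 q5030 L64015 q3927, e3 q5031 (flp_f L622915) q4036, e3 q5032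 L64046 q3929, e3 q5033 L92645 q6334, e3 q5034 (flp_f L64079) q3908, e3 q5035 (flp_f L92685) q6337, e3 q5036 L64100 q5036, e3 q5037 L64109 q3934, e3 q5038 L64117 q3910, e3 q5039 L64136 q3936, e3 q5040 L64145 q5040, e3 q5041 L64152 q3938, e3 q5042 L64160 q3913, e3 q5043 (flp_f L92794) q6345, e3 q5044 L625066 q4034, e3 q5045 L64190 q5045, e3 q5046 L64197 q3943, e3 q5047 L64203 q3944, e3 q5048 L64213 q3917, e3 q5049 L64256 q5049, e3 q5050 L64275 q3952, e3 q5051 L64599 q5051, e3 q5052 (flp_f L92508) q6331, e3 q5053 L93493 q6352, e3 q5054 (flp_f L92556) q6333, e3 q5055 (flp_f L64673) q3928, trivial⟩ (by decide +kernel)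

theorem ce_f_79 : ∀ r, r < 64 → sm gf (Qf (5056 + r)) = Qf (tab Gen.f (5056 + r)) :=
  edges_tab (sm gf) Qf (tab Gen.f) 5056 [(5056, 4035), (5057, 3930), (5058, 5058), (5059, 6336), (5060, 3932), (5061, 6353), (5062, 5062), (5063, 6332), (5064, 6339), (5065, 5065), (5066, 6366), (5067, 5067), (5068, 6343), (5069, 6344), (5070, 3940), (5071, 6373), (5072, 3941), (5073, 4033), (5074, 4032), (5075, 5075), (5076, 5076), (5077, 3996), (5078, 6348), (5079, 4014), (5080, 5080), (5081, 3983), (5082, 6378), (5083, 3953), (5084, 5084), (5085, 3955), (5086, 6384), (5087, 5087), (5088, 5088), (5089, 3957), (5090, 5090), (5091, 5091), (5092, 5092), (5093, 3962), (5094, 3964), (5095, 5095), (5096, 5096), (5097, 5097), (5098, 5098), (5099, 5099), (5100, 3968), (5101, 6388), (5102, 3974), (5103, 5103), (5104, 4004), (5105, 4005), (5106, 5106), (5107, 4007), (5108, 3978), (5109, 6377), (5110, 5110), (5111, 4011), (5112, 4012), (5113, 4194), (5114, 5114), (5115, 5115), (5116, 4018), (5117, 4019), (5118, 5118), (5119, 4021)]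
    ⟨e3 q5056 (flp_f L624196) q4035, e3 q5057 (flp_f L64743) q3930, e3 q5058 L64769 q5058, e3 q5059 (flp_f L92677) q6336, e3 q5060 L64782 q3932, e3 q5061 (flp_f L624859) q6353, e3 q5062 L64816 q5062, e3 q5063 (flp_f L625049) q6332, e3 q5064 (flp_f L92736) q6339, e3 q5065 L64850 q5065, e3 q5066 L93828 q6366, e3 q5067 L64869 q5067, e3 q5068 (flp_f L92778) q6343, e3 q5069 (flp_f L92786) q6344, e3 q5070 L64890 q3940, e3 q5071 L93910 q6373, e3 q5072 (flp_f L64918) q3941, e3 q5073 (flp_f L624831) q4033, e3 q5074 (flp_f L624887) q4032, e3 q5075 L64944 q5075, e3 q5076 L64954 q5076, e3 q5077 (flp_f L622846) q3996, e3 q5078 (flp_f L92870) q6348, e3 q5079 (flp_f L624692) q4014, e3 q5080 L65027 q5080, e3 q5081 L626531 q3983, e3 q5082 L94082 q6378, e3 q5083 (flp_f L65049) q3953, e3 q5084 L65082 q5084, e3 q5085 (flp_f L65083) q3955, e3 q5086 (flp_f L94182) q6384, e3 q5087 L65108 q5087, e3 q5088 L65117 q5088, e3 q5089 L65122 q3957, e3 q5090 L65143 q5090, e3 q5091 L65164 q5091, e3 q5092 L65182 q5092, e3 q5093 L65191 q3962, e3 q5094 (flp_f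 L65205) q3964, e3 q5095 L65232 q5095, e3 q5096 L65241 q5096, e3 q5097 L65273 q5097, e3 q5098 L65284 q5098, e3 q5099 L65289 q5099, e3 q5100 L65294 q3968, e3 q5101 (flp_f L94472) q6388, e3 q5102 (flp_f L65429) q3974, e3 q5103 L65455 q5103, e3 q5104 L65466 q4004, e3 q5105 L65496 q4005, e3 q5106 L65507 q5106, e3 q5107 L65514 q4007, e3 q5108 L65520 q3978, e3 q5109 L622830 q6377, e3 q5110 L65551 q5110, e3 q5111 L65558 q4011, e3 q5112 L65566 q4012, e3 q5113 (flp_f L626572) q4194, e3 q5114 L65611 q5114, e3 q5115 L65620 q5115, e3 q5116 L65627 q4018, e3 q5117 L65637 q4019, e3 q5118 L65664 q5118, e3 q5119 L65671 q4021, trivial⟩ (by decide +kernel)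

theorem ce_f_80 : ∀ r, r < 64 → sm gf (Qf (5120 + r)) = Qf (tab Gen.f (5120 + r)) :=
  edges_tab (sm gf) Qf (tab Gen.f) 5120 [(5120, 6363), (5121, 4023), (5122, 5122), (5123, 6370), (5124, 5124), (5125, 4027), (5126, 4028), (5127, 3995), (5128, 6407), (5129, 5129), (5130, 6391), (5131, 6411), (5132, 6393), (5133, 5133), (5134, 6415), (5135, 5135), (5136, 6397), (5137, 6398), (5138, 4009), (5139, 6374), (5140, 6412), (5141, 5141), (5142, 6392), (5143, 4015), (5144, 4193), (5145, 4208), (5146, 4199), (5147, 5147), (5148, 4191), (5149, 5149), (5150, 6424), (5151, 6401), (5152, 4022), (5153, 6361), (5154, 6426), (5155, 5155), (5156, 4025), (5157, 6368), (5158, 6367), (5159, 5159), (5160, 6341), (5161, 6405), (5162, 6435), (5163, 4030), (5164, 5164), (5165, 6439), (5166, 5166), (5167, 4039), (5168, 6420), (5169, 6441), (5170, 5170), (5171, 5171), (5172, 6445), (5173, 5173), (5174, 4044), (5175, 6450), (5176, 6451), (5177, 5177), (5178, 5178), (5179, 4049), (5180, 4050), (5181, 6443), (5182, 6442), (5183, 5183)]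
    ⟨e3 q5120 (flp_f L624758) q6363, e3 q5121 L65724 q4023, e3 q5122 L65750 q5122, e3 q5123 (flp_f L622855) q6370, e3 q5124 L65764 q5124, e3 q5125 L65769 q4027, e3 q5126 L65775 q4028, e3 q5127 L65781 q3995, e3 q5128 L95217 q6407, e3 q5129 L65960 q5129, e3 q5130 (flp_f L94675) q6391, e3 q5131 L95523 q6411, e3 q5132 (flp_f L94731) q6393, e3 q5133 L66050 q5133, e3 q5134 L95615 q6415, e3 q5135 L66070 q5135, e3 q5136 (flp_f L94782) q6397, e3 q5137 (flp_f L94790) q6398, e3 q5138 (flp_f L66111) q4009, e3 q5139 (flp_f L604477) q6374, e3 q5140 L624933 q6412, e3 q5141 L66143 q5141, e3 q5142 L624924 q6392, e3 q5143 L66189 q4015, e3 q5144 L624728 q4193, e3 q5145 (flp_f L624469) q4208, e3 q5146 (flp_f L624205) q4199, e3 q5147 L66236 q5147, e3 q5148 (flp_f L622991) q4191, e3 q5149 L66289 q5149, e3 q5150 L95959 q6424, e3 q5151 (flp_f L95022) q6401, e3 q5152 (flp_f L66361) q4022, e3 q5153 (flp_f L624745) q6361, e3 q5154 L96124 q6426, e3 q5155 L66434 q5155, e3 q5156 (flp_f L66436) q4025, e3 q5157 (flp_f L624646) q6368, e3 q5158 L615247 q6367,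 e3 q5159 L66458 q5159, e3 q5160 L624864 q6341, e3 q5161 (flp_f L95191) q6405, e3 q5162 L96233 q6435, e3 q5163 (flp_f L66502) q4030, e3 q5164 L66644 q5164, e3 q5165 L96422 q6439, e3 q5166 L66675 q5166, e3 q5167 (flp_f L66707) q4039, e3 q5168 (flp_f L624453) q6420, e3 q5169 (flp_f L96514) q6441, e3 q5170 L66745 q5170, e3 q5171 L66755 q5171, e3 q5172 L96548 q6445, e3 q5173 L66771 q5173, e3 q5174 (flp_f L66773) q4044, e3 q5175 (flp_f L96589) q6450, e3 q5176 (flp_f L96599) q6451, e3 q5177 L66805 q5177, e3 q5178 L66813 q5178, e3 q5179 L66844 q4049, e3 q5180 L66853 q4050, e3 q5181 (flp_f L624538) q6443, e3 q5182 L624477 q6442, e3 q5183 L66878 q5183, trivial⟩ (by decide +kernel)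

theorem ce_f_81 : ∀ r, r < 64 → sm gf (Qf (5184 + r)) = Qf (tab Gen.f (5184 + r)) :=
  edges_tab (sm gf) Qf (tab Gen.f) 5184 [(5184, 4055), (5185, 4056), (5186, 4209), (5187, 6457), (5188, 5188), (5189, 5189), (5190, 6463), (5191, 5191), (5192, 6465), (5193, 5193), (5194, 4061), (5195, 6469), (5196, 4064), (5197, 4065), (5198, 6471), (5199, 6472), (5200, 5200), (5201, 4068), (5202, 4107), (5203, 5203), (5204, 6304), (5205, 5205), (5206, 4110), (5207, 6306), (5208, 4112), (5209, 5209), (5210, 5210), (5211, 4077), (5212, 6483), (5213, 4121), (5214, 5214), (5215, 4102), (5216, 5216), (5217, 5217), (5218, 4122), (5219, 5219), (5220, 5220), (5221, 4123), (5222, 4103), (5223, 4104), (5224, 6496), (5225, 4094), (5226, 4126), (5227, 4129), (5228, 6494), (5229, 6499), (5230, 4105), (5231, 6497), (5232, 6475), (5233, 6504), (5234, 4109), (5235, 6505), (5236, 6479), (5237, 4111), (5238, 6297), (5239, 6480), (5240, 5240), (5241, 6513), (5242, 4115), (5243, 5719), (5244, 4229), (5245, 6485), (5246, 6489), (5247, 6490)]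
    ⟨e3 q5184 L66897 q4055, e3 q5185 L66906 q4056, e3 q5186 (flp_f L624550) q4209, e3 q5187 (flp_f L96739) q6457, e3 q5188 L66932 q5188, e3 q5189 L66940 q5189, e3 q5190 L96800 q6463, e3 q5191 L66959 q5191, e3 q5192 L96821 q6465, e3 q5193 L66972 q5193, e3 q5194 (flp_f L66975) q4061, e3 q5195 (flp_f L96856) q6469, e3 q5196 L67001 q4064, e3 q5197 (flp_f L67004) q4065, e3 q5198 (flp_f L96879) q6471, e3 q5199 (flp_f L96884) q6472, e3 q5200 L67026 q5200, e3 q5201 L67034 q4068, e3 q5202 L67076 q4107, e3 q5203 L67085 q5203, e3 q5204 L625276 q6304, e3 q5205 L67145 q5205, e3 q5206 L67172 q4110, e3 q5207 L625267 q6306, e3 q5208 L67193 q4112, e3 q5209 L67202 q5209, e3 q5210 L67211 q5210, e3 q5211 L67217 q4077, e3 q5212 L97229 q6483, e3 q5213 L67443 q4121, e3 q5214 L67456 q5214, e3 q5215 L67473 q4102, e3 q5216 L67526 q5216, e3 q5217 L67587 q5217, e3 q5218 L67592 q4122, e3 q5219 L67601 q5219, e3 q5220 L67610 q5220, e3 q5221 L67616 q4123, e3 q5222 L67633 q4103, e3 q5223 L67640 q4104, e3 q5224 L97799 q6496, e3 q5225 (flp_f L67664) q4094,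 e3 q5226 L67713 q4126, e3 q5227 L67789 q4129, e3 q5228 (flp_f L97771) q6494, e3 q5229 L98145 q6499, e3 q5230 (flp_f L67958) q4105, e3 q5231 (flp_f L97820) q6497, e3 q5232 (flp_f L96967) q6475, e3 q5233 L98321 q6504, e3 q5234 (flp_f L68129) q4109, e3 q5235 L98478 q6505, e3 q5236 (flp_f L97139) q6479, e3 q5237 (flp_f L68199) q4111, e3 q5238 L620891 q6297, e3 q5239 (flp_f L97174) q6480, e3 q5240 L68235 q5240, e3 q5241 L98573 q6513, e3 q5242 (flp_f L68268) q4115, e3 q5243 L621021 q5719, e3 q5244 (flp_f L626970) q4229, e3 q5245 (flp_f L97529) q6485, e3 q5246 (flp_f L97712) q6489, e3 q5247 (flp_f L97720) q6490, trivial⟩ (by decide +kernel)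

theorem ce_f_82 : ∀ r, r < 64 → sm gf (Qf (5248 + r)) = Qf (tab Gen.f (5248 + r)) :=
  edges_tab (sm gf) Qf (tab Gen.f) 5248 [(5248, 6492), (5249, 6519), (5250, 4124), (5251, 4130), (5252, 5724), (5253, 5713), (5254, 6299), (5255, 6521), (5256, 4131), (5257, 6523), (5258, 5258), (5259, 4133), (5260, 5260), (5261, 5261), (5262, 6527), (5263, 4138), (5264, 4145), (5265, 5265), (5266, 6528), (5267, 4156), (5268, 6531), (5269, 5269), (5270, 6530), (5271, 5271), (5272, 6534), (5273, 5273), (5274, 4227), (5275, 4203), (5276, 4225), (5277, 6458), (5278, 5278), (5279, 4215), (5280, 4221), (5281, 5281), (5282, 5282), (5283, 6535), (5284, 4223), (5285, 6533), (5286, 5286), (5287, 4236), (5288, 6538), (5289, 6542), (5290, 5290), (5291, 6546), (5292, 4238), (5293, 5293), (5294, 6548), (5295, 6549), (5296, 4240), (5297, 5297), (5298, 5298), (5299, 6555), (5300, 4243), (5301, 4252), (5302, 6559), (5303, 6560), (5304, 4245), (5305, 6556), (5306, 6564), (5307, 6565), (5308, 4248), (5309, 4249), (5310, 6569), (5311, 5311)]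
    ⟨e3 q5248 (flp_f L97752) q6492, e3 q5249 L99017 q6519, e3 q5250 (flp_f L68573) q4124, e3 q5251 L68601 q4130, e3 q5252 L619782 q5724, e3 q5253 (flp_f L619317) q5713, e3 q5254 (flp_f L627256) q6299, e3 q5255 (flp_f L99063) q6521, e3 q5256 (flp_f L68760) q4131, e3 q5257 (flp_f L99270) q6523, e3 q5258 L68798 q5258, e3 q5259 L68804 q4133, e3 q5260 L68885 q5260, e3 q5261 L68894 q5261, e3 q5262 L99594 q6527, e3 q5263 (flp_f L69009) q4138, e3 q5264 L69060 q4145, e3 q5265 L69215 q5265, e3 q5266 (flp_f L99643) q6528, e3 q5267 (flp_f L627225) q4156, e3 q5268 L100702 q6531, e3 q5269 L70020 q5269, e3 q5270 (flp_f L627239) q6530, e3 q5271 L74979 q5271, e3 q5272 L108523 q6534, e3 q5273 L75009 q5273, e3 q5274 L624229 q4227, e3 q5275 (flp_f L75066) q4203, e3 q5276 (flp_f L616816) q4225, e3 q5277 (flp_f L624339) q6458, e3 q5278 L75111 q5278, e3 q5279 L75241 q4215, e3 q5280 L616796 q4221, e3 q5281 L75279 q5281, e3 q5282 L75416 q5282, e3 q5283 (flp_f L616836) q6535, e3 q5284 (flp_f L75435) q4223, e3 q5285 L616852 q6533, e3 q5286 L78573 q5286,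 e3 q5287 L79340 q4236, e3 q5288 (flp_f L114580) q6538, e3 q5289 L114615 q6542, e3 q5290 L79369 q5290, e3 q5291 L114652 q6546, e3 q5292 (flp_f L79384) q4238, e3 q5293 L79399 q5293, e3 q5294 L114687 q6548, e3 q5295 L114695 q6549, e3 q5296 (flp_f L79420) q4240, e3 q5297 L79437 q5297, e3 q5298 L79441 q5298, e3 q5299 L114761 q6555, e3 q5300 (flp_f L79460) q4243, e3 q5301 L79473 q4252, e3 q5302 L114800 q6559, e3 q5303 L114812 q6560, e3 q5304 (flp_f L79498) q4245, e3 q5305 (flp_f L114779) q6556, e3 q5306 L114857 q6564, e3 q5307 L114874 q6565, e3 q5308 (flp_f L79536) q4248, e3 q5309 (flp_f L79546) q4249, e3 q5310 (flp_f L114917) q6569, e3 q5311 L79569 q5311, trivial⟩ (by decide +kernel)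

theorem ce_f_83 : ∀ r, r < 64 → sm gf (Qf (5312 + r)) = Qf (tab Gen.f (5312 + r)) :=
  edges_tab (sm gf) Qf (tab Gen.f) 5312 [(5312, 5312), (5313, 6572), (5314, 6574), (5315, 4253), (5316, 4254), (5317, 6579), (5318, 5318), (5319, 5319), (5320, 6583), (5321, 4257), (5322, 6586), (5323, 4258), (5324, 6590), (5325, 4269), (5326, 5326), (5327, 4271), (5328, 4261), (5329, 6597), (5330, 4274), (5331, 6599), (5332, 4264), (5333, 6603), (5334, 6585), (5335, 4266), (5336, 6608), (5337, 5337), (5338, 6589), (5339, 4268), (5340, 6615), (5341, 6592), (5342, 6616), (5343, 5343), (5344, 6595), (5345, 6596), (5346, 4273), (5347, 5347), (5348, 6625), (5349, 4276), (5350, 5350), (5351, 6629), (5352, 6630), (5353, 4278), (5354, 4287), (5355, 6635), (5356, 6636), (5357, 4281), (5358, 6626), (5359, 6641), (5360, 6643), (5361, 4284), (5362, 4285), (5363, 6648), (5364, 6632), (5365, 6633), (5366, 6652), (5367, 4288), (5368, 4289), (5369, 6657), (5370, 5370), (5371, 5371), (5372, 6660), (5373, 4292), (5374, 6662), (5375, 4293)]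
    ⟨e3 q5312 L79576 q5312, e3 q5313 L114950 q6572, e3 q5314 L114970 q6574, e3 q5315 (flp_f L79601) q4253, e3 q5316 (flp_f L79611) q4254, e3 q5317 (flp_f L115018) q6579, e3 q5318 L79638 q5318, e3 q5319 L79644 q5319, e3 q5320 L115055 q6583, e3 q5321 (flp_f L79659) q4257, e3 q5322 L115084 q6586, e3 q5323 (flp_f L79676) q4258, e3 q5324 (flp_f L115118) q6590, e3 q5325 L79700 q4269, e3 q5326 L79707 q5326, e3 q5327 L79715 q4271, e3 q5328 L79721 q4261, e3 q5329 (flp_f L115181) q6597, e3 q5330 L79740 q4274, e3 q5331 L115192 q6599, e3 q5332 (flp_f L79753) q4264, e3 q5333 (flp_f L115231) q6603, e3 q5334 (flp_f L115082) q6585, e3 q5335 (flp_f L79781) q4266, e3 q5336 (flp_f L115277) q6608, e3 q5337 L79803 q5337, e3 q5338 (flp_f L115112) q6589, e3 q5339 L79815 q4268, e3 q5340 (flp_f L115333) q6615, e3 q5341 (flp_f L115137) q6592, e3 q5342 L115337 q6616, e3 q5343 L79853 q5343, e3 q5344 (flp_f L115162) q6595, e3 q5345 (flp_f L115169) q6596, e3 q5346 L79877 q4273, e3 q5347 L79885 q5347, e3 q5348 L115431 q6625, e3 q5349 (flp_f L79904) q4276,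 e3 q5350 L79919 q5350, e3 q5351 L115470 q6629, e3 q5352 L115477 q6630, e3 q5353 (flp_f L79941) q4278, e3 q5354 L79954 q4287, e3 q5355 L115531 q6635, e3 q5356 L115543 q6636, e3 q5357 (flp_f L79989) q4281, e3 q5358 (flp_f L115450) q6626, e3 q5359 L115593 q6641, e3 q5360 L115611 q6643, e3 q5361 (flp_f L80027) q4284, e3 q5362 (flp_f L80036) q4285, e3 q5363 (flp_f L115654) q6648, e3 q5364 (flp_f L115499) q6632, e3 q5365 (flp_f L115507) q6633, e3 q5366 L115705 q6652, e3 q5367 (flp_f L80087) q4288, e3 q5368 (flp_f L80097) q4289, e3 q5369 (flp_f L115755) q6657, e3 q5370 L80123 q5370, e3 q5371 L80131 q5371, e3 q5372 L115787 q6660, e3 q5373 (flp_f L80143) q4292, e3 q5374 L115811 q6662, e3 q5375 (flp_f L80158) q4293, trivial⟩ (by decide +kernel)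

theorem ce_f_84 : ∀ r, r < 64 → sm gf (Qf (5376 + r)) = Qf (tab Gen.f (5376 + r)) :=
  edges_tab (sm gf) Qf (tab Gen.f) 5376 [(5376, 6665), (5377, 5377), (5378, 4559), (5379, 5379), (5380, 4296), (5381, 6671), (5382, 5382), (5383, 6673), (5384, 4299), (5385, 4300), (5386, 6678), (5387, 5387), (5388, 5388), (5389, 6682), (5390, 4303), (5391, 6685), (5392, 4304), (5393, 6689), (5394, 5394), (5395, 4579), (5396, 5396), (5397, 4307), (5398, 6696), (5399, 5399), (5400, 6697), (5401, 4310), (5402, 6701), (5403, 4330), (5404, 4592), (5405, 4332), (5406, 4313), (5407, 6708), (5408, 4335), (5409, 6710), (5410, 4316), (5411, 6714), (5412, 4339), (5413, 4318), (5414, 6719), (5415, 4603), (5416, 4343), (5417, 4320), (5418, 6726), (5419, 4346), (5420, 6727), (5421, 4609), (5422, 4349), (5423, 4350), (5424, 4325), (5425, 4327), (5426, 6736), (5427, 4620), (5428, 6700), (5429, 4329), (5430, 6743), (5431, 6703), (5432, 6744), (5433, 4626), (5434, 6706), (5435, 6707), (5436, 4334), (5437, 6751), (5438, 4336), (5439, 6755)]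
    ⟨e3 q5376 (flp_f L115844) q6665, e3 q5377 L80178 q5377, e3 q5378 L80185 q4559, e3 q5379 L80193 q5379, e3 q5380 L80198 q4296, e3 q5381 (flp_f L115895) q6671, e3 q5382 L80214 q5382, e3 q5383 L115932 q6673, e3 q5384 (flp_f L80238) q4299, e3 q5385 (flp_f L80248) q4300, e3 q5386 (flp_f L115987) q6678, e3 q5387 L80278 q5387, e3 q5388 L80285 q5388, e3 q5389 L116026 q6682, e3 q5390 (flp_f L80301) q4303, e3 q5391 L116052 q6685, e3 q5392 (flp_f L80319) q4304, e3 q5393 (flp_f L116091) q6689, e3 q5394 L80341 q5394, e3 q5395 L80349 q4579, e3 q5396 L80358 q5396, e3 q5397 L80364 q4307, e3 q5398 (flp_f L116153) q6696, e3 q5399 L80383 q5399, e3 q5400 L116198 q6697, e3 q5401 (flp_f L80417) q4310, e3 q5402 (flp_f L116239) q6701, e3 q5403 L80442 q4330, e3 q5404 L80451 q4592, e3 q5405 L80462 q4332, e3 q5406 L80469 q4313, e3 q5407 (flp_f L116308) q6708, e3 q5408 L80489 q4335, e3 q5409 L116322 q6710, e3 q5410 (flp_f L80503) q4316, e3 q5411 (flp_f L116360) q6714, e3 q5412 L80525 q4339, e3 q5413 (flp_f L80527) q4318, e3 q5414 (flp_f L116402)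 q6719, e3 q5415 L80548 q4603, e3 q5416 L80556 q4343, e3 q5417 L80562 q4320, e3 q5418 (flp_f L116455) q6726, e3 q5419 L80577 q4346, e3 q5420 L116457 q6727, e3 q5421 L80593 q4609, e3 q5422 L80602 q4349, e3 q5423 L80609 q4350, e3 q5424 L80618 q4325, e3 q5425 (flp_f L80659) q4327, e3 q5426 (flp_f L116621) q6736, e3 q5427 L80686 q4620, e3 q5428 (flp_f L116233) q6700, e3 q5429 L80700 q4329, e3 q5430 (flp_f L116681) q6743, e3 q5431 (flp_f L116258) q6703, e3 q5432 L116686 q6744, e3 q5433 L80741 q4626, e3 q5434 (flp_f L116288) q6706, e3 q5435 (flp_f L116297) q6707, e3 q5436 L80768 q4334, e3 q5437 L116755 q6751, e3 q5438 (flp_f L80782) q4336, e3 q5439 (flp_f L116796) q6755, trivial⟩ (by decide +kernel)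

theorem ce_f_85 : ∀ r, r < 64 → sm gf (Qf (5440 + r)) = Qf (tab Gen.f (5440 + r)) :=
  edges_tab (sm gf) Qf (tab Gen.f) 5440 [(5440, 4633), (5441, 6713), (5442, 4338), (5443, 6762), (5444, 6716), (5445, 4638), (5446, 6718), (5447, 4341), (5448, 6768), (5449, 6769), (5450, 6772), (5451, 4644), (5452, 6724), (5453, 6725), (5454, 4345), (5455, 4347), (5456, 6779), (5457, 6780), (5458, 4651), (5459, 4652), (5460, 6732), (5461, 6733), (5462, 6788), (5463, 6790), (5464, 4353), (5465, 4354), (5466, 6795), (5467, 5467), (5468, 5468), (5469, 6799), (5470, 4357), (5471, 6802), (5472, 4358), (5473, 6806), (5474, 5474), (5475, 4661), (5476, 5476), (5477, 4361), (5478, 6813), (5479, 5479), (5480, 6815), (5481, 4364), (5482, 6819), (5483, 5483), (5484, 4366), (5485, 6824), (5486, 4672), (5487, 5487), (5488, 4368), (5489, 6831), (5490, 5490), (5491, 6832), (5492, 4678), (5493, 5493), (5494, 5494), (5495, 4373), (5496, 6840), (5497, 4375), (5498, 6843), (5499, 4376), (5500, 6847), (5501, 4414), (5502, 5502), (5503, 4416)]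
    ⟨e3 q5440 L80806 q4633, e3 q5441 (flp_f L116353) q6713, e3 q5442 L80820 q4338, e3 q5443 (flp_f L116852) q6762, e3 q5444 (flp_f L116377) q6716, e3 q5445 L80846 q4638, e3 q5446 (flp_f L116394) q6718, e3 q5447 L80861 q4341, e3 q5448 (flp_f L116903) q6768, e3 q5449 (flp_f L116913) q6769, e3 q5450 L116931 q6772, e3 q5451 L80892 q4644, e3 q5452 (flp_f L116441) q6724, e3 q5453 (flp_f L116447) q6725, e3 q5454 L80912 q4345, e3 q5455 (flp_f L80915) q4347, e3 q5456 (flp_f L116990) q6779, e3 q5457 (flp_f L116997) q6780, e3 q5458 L80944 q4651, e3 q5459 L80955 q4652, e3 q5460 (flp_f L116501) q6732, e3 q5461 (flp_f L116510) q6733, e3 q5462 L117061 q6788, e3 q5463 L117082 q6790, e3 q5464 (flp_f L80994) q4353, e3 q5465 (flp_f L81005) q4354, e3 q5466 (flp_f L117132) q6795, e3 q5467 L81033 q5467, e3 q5468 L81040 q5468, e3 q5469 L117173 q6799, e3 q5470 (flp_f L81058) q4357, e3 q5471 L117204 q6802, e3 q5472 (flp_f L81079) q4358, e3 q5473 (flp_f L117246) q6806, e3 q5474 L81106 q5474, e3 q5475 L81115 q4661, e3 q5476 L81124 q5476, e3 q5477 L81128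 q4361, e3 q5478 (flp_f L117308) q6813, e3 q5479 L81148 q5479, e3 q5480 L117323 q6815, e3 q5481 (flp_f L81163) q4364, e3 q5482 (flp_f L117366) q6819, e3 q5483 L81191 q5483, e3 q5484 (flp_f L81192) q4366, e3 q5485 (flp_f L117411) q6824, e3 q5486 L81215 q4672, e3 q5487 L81223 q5487, e3 q5488 L81228 q4368, e3 q5489 (flp_f L117470) q6831, e3 q5490 L81249 q5490, e3 q5491 L117474 q6832, e3 q5492 L81264 q4678, e3 q5493 L81273 q5493, e3 q5494 L81279 q5494, e3 q5495 L81287 q4373, e3 q5496 L117539 q6840, e3 q5497 (flp_f L81300) q4375, e3 q5498 L117569 q6843, e3 q5499 (flp_f L81318) q4376, e3 q5500 (flp_f L117604) q6847, e3 q5501 L81343 q4414, e3 q5502 L81351 q5502, e3 q5503 L81359 q4416, trivial⟩ (by decide +kernel)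

theorem ce_f_86 : ∀ r, r < 64 → sm gf (Qf (5504 + r)) = Qf (tab Gen.f (5504 + r)) :=
  edges_tab (sm gf) Qf (tab Gen.f) 5504 [(5504, 4379), (5505, 6854), (5506, 4419), (5507, 6856), (5508, 4382), (5509, 6860), (5510, 4423), (5511, 4384), (5512, 6865), (5513, 4688), (5514, 4427), (5515, 4386), (5516, 6872), (5517, 4430), (5518, 6873), (5519, 4694), (5520, 4433), (5521, 4434), (5522, 4391), (5523, 6880), (5524, 4393), (5525, 6884), (5526, 4701), (5527, 4440), (5528, 4395), (5529, 6891), (5530, 4443), (5531, 4706), (5532, 4445), (5533, 4398), (5534, 6897), (5535, 6898), (5536, 6901), (5537, 4712), (5538, 4451), (5539, 4452), (5540, 4402), (5541, 4404), (5542, 6908), (5543, 6909), (5544, 4719), (5545, 4720), (5546, 4459), (5547, 4460), (5548, 6917), (5549, 4409), (5550, 6920), (5551, 6842), (5552, 4411), (5553, 6925), (5554, 5554), (5555, 6846), (5556, 4413), (5557, 6932), (5558, 6849), (5559, 6933), (5560, 5560), (5561, 6852), (5562, 6853), (5563, 4418), (5564, 6940), (5565, 4420), (5566, 6944), (5567, 4726)]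
    ⟨e3 q5504 L81365 q4379, e3 q5505 (flp_f L117669) q6854, e3 q5506 L81385 q4419, e3 q5507 L117682 q6856, e3 q5508 (flp_f L81401) q4382, e3 q5509 (flp_f L117727) q6860, e3 q5510 L81428 q4423, e3 q5511 (flp_f L81430) q4384, e3 q5512 (flp_f L117772) q6865, e3 q5513 L81452 q4688, e3 q5514 L81462 q4427, e3 q5515 L81468 q4386, e3 q5516 (flp_f L117828) q6872, e3 q5517 L81486 q4430, e3 q5518 L117832 q6873, e3 q5519 L81503 q4694, e3 q5520 L81510 q4433, e3 q5521 L81517 q4434, e3 q5522 L81524 q4391, e3 q5523 L117888 q6880, e3 q5524 (flp_f L81536) q4393, e3 q5525 (flp_f L117926) q6884, e3 q5526 L81559 q4701, e3 q5527 L81568 q4440, e3 q5528 L81575 q4395, e3 q5529 (flp_f L117988) q6891, e3 q5530 L81595 q4443, e3 q5531 L81602 q4706, e3 q5532 L81609 q4445, e3 q5533 L81615 q4398, e3 q5534 (flp_f L118027) q6897, e3 q5535 (flp_f L118035) q6898, e3 q5536 L118052 q6901, e3 q5537 L81644 q4712, e3 q5538 L81652 q4451, e3 q5539 L81658 q4452, e3 q5540 L81668 q4402, e3 q5541 (flp_f L81670) q4404, e3 q5542 (flp_f L118116) q6908, e3 q5543 (flp_f L118123)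 q6909, e3 q5544 L81694 q4719, e3 q5545 L81703 q4720, e3 q5546 L81708 q4459, e3 q5547 L81717 q4460, e3 q5548 L118179 q6917, e3 q5549 (flp_f L81729) q4409, e3 q5550 (flp_f L118219) q6920, e3 q5551 (flp_f L117567) q6842, e3 q5552 (flp_f L81758) q4411, e3 q5553 (flp_f L118266) q6925, e3 q5554 L81781 q5554, e3 q5555 (flp_f L117598) q6846, e3 q5556 L81793 q4413, e3 q5557 (flp_f L118323) q6932, e3 q5558 (flp_f L117624) q6849, e3 q5559 L118327 q6933, e3 q5560 L81833 q5560, e3 q5561 (flp_f L117650) q6852, e3 q5562 (flp_f L117657) q6853, e3 q5563 L81857 q4418, e3 q5564 L118389 q6940, e3 q5565 (flp_f L81870) q4420, e3 q5566 (flp_f L118432) q6944, e3 q5567 L81899 q4726, trivial⟩ (by decide +kernel)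

theorem ce_f_87 : ∀ r, r < 64 → sm gf (Qf (5568 + r)) = Qf (tab Gen.f (5568 + r)) :=
  edges_tab (sm gf) Qf (tab Gen.f) 5568 [(5568, 6859), (5569, 4422), (5570, 6951), (5571, 6862), (5572, 4731), (5573, 6864), (5574, 4425), (5575, 6957), (5576, 6958), (5577, 6961), (5578, 4737), (5579, 6870), (5580, 6871), (5581, 4429), (5582, 4431), (5583, 6968), (5584, 6969), (5585, 4744), (5586, 4745), (5587, 6878), (5588, 6879), (5589, 4436), (5590, 6978), (5591, 4749), (5592, 6883), (5593, 4438), (5594, 6985), (5595, 6986), (5596, 6988), (5597, 4754), (5598, 6889), (5599, 6890), (5600, 4442), (5601, 4758), (5602, 6997), (5603, 4760), (5604, 6895), (5605, 6896), (5606, 4447), (5607, 4448), (5608, 7007), (5609, 7006), (5610, 4449), (5611, 7010), (5612, 7011), (5613, 4770), (5614, 4771), (5615, 6906), (5616, 6907), (5617, 4455), (5618, 4456), (5619, 7019), (5620, 7020), (5621, 7021), (5622, 4779), (5623, 4780), (5624, 6915), (5625, 5625), (5626, 7029), (5627, 5627), (5628, 5628), (5629, 7031), (5630, 5630), (5631, 4469)]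
    ⟨e3 q5568 (flp_f L117720) q6859, e3 q5569 L81915 q4422, e3 q5570 (flp_f L118495) q6951, e3 q5571 (flp_f L117747) q6862, e3 q5572 L81946 q4731, e3 q5573 (flp_f L117766) q6864, e3 q5574 L81959 q4425, e3 q5575 (flp_f L118543) q6957, e3 q5576 (flp_f L118551) q6958, e3 q5577 L118567 q6961, e3 q5578 L81991 q4737, e3 q5579 (flp_f L117812) q6870, e3 q5580 (flp_f L117820) q6871, e3 q5581 L82013 q4429, e3 q5582 (flp_f L82018) q4431, e3 q5583 (flp_f L118636) q6968, e3 q5584 (flp_f L118643) q6969, e3 q5585 L82047 q4744, e3 q5586 L82057 q4745, e3 q5587 (flp_f L117875) q6878, e3 q5588 (flp_f L117882) q6879, e3 q5589 (flp_f L82075) q4436, e3 q5590 (flp_f L118714) q6978, e3 q5591 L82097 q4749, e3 q5592 (flp_f L117918) q6883, e3 q5593 L82112 q4438, e3 q5594 (flp_f L118780) q6985, e3 q5595 (flp_f L118791) q6986, e3 q5596 L118811 q6988, e3 q5597 L82147 q4754, e3 q5598 (flp_f L117970) q6889, e3 q5599 (flp_f L117977) q6890, e3 q5600 L82172 q4442, e3 q5601 L82177 q4758, e3 q5602 L118892 q6997, e3 q5603 L82195 q4760, e3 q5604 (flp_f L118015)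 q6895, e3 q5605 (flp_f L118021) q6896, e3 q5606 L82212 q4447, e3 q5607 L82221 q4448, e3 q5608 L118959 q7007, e3 q5609 (flp_f L118956) q7006, e3 q5610 (flp_f L82237) q4449, e3 q5611 (flp_f L118985) q7010, e3 q5612 (flp_f L118991) q7011, e3 q5613 L82266 q4770, e3 q5614 L82278 q4771, e3 q5615 (flp_f L118096) q6906, e3 q5616 (flp_f L118106) q6907, e3 q5617 L82301 q4455, e3 q5618 L82306 q4456, e3 q5619 (flp_f L119058) q7019, e3 q5620 (flp_f L119065) q7020, e3 q5621 (flp_f L119074) q7021, e3 q5622 L82337 q4779, e3 q5623 L82348 q4780, e3 q5624 (flp_f L118167) q6915, e3 q5625 L82452 q5625, e3 q5626 L119300 q7029, e3 q5627 L82481 q5627, e3 q5628 L82573 q5628, e3 q5629 L119543 q7031, e3 q5630 L82635 q5630, e3 q5631 (flp_f L82657) q4469, trivial⟩ (by decide +kernel)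

theorem ce_f_88 : ∀ r, r < 64 → sm gf (Qf (5632 + r)) = Qf (tab Gen.f (5632 + r)) :=
  edges_tab (sm gf) Qf (tab Gen.f) 5632 [(5632, 7033), (5633, 7034), (5634, 5634), (5635, 5635), (5636, 7038), (5637, 5637), (5638, 4784), (5639, 7042), (5640, 5640), (5641, 4478), (5642, 7044), (5643, 7045), (5644, 4790), (5645, 5645), (5646, 4483), (5647, 4484), (5648, 7050), (5649, 7051), (5650, 7052), (5651, 4797), (5652, 4798), (5653, 5653), (5654, 4800), (5655, 7062), (5656, 5656), (5657, 4491), (5658, 7064), (5659, 7065), (5660, 4806), (5661, 5661), (5662, 7069), (5663, 4809), (5664, 4496), (5665, 7074), (5666, 7075), (5667, 4813), (5668, 5668), (5669, 4501), (5670, 4502), (5671, 7080), (5672, 7081), (5673, 7082), (5674, 4820), (5675, 4821), (5676, 5676), (5677, 5677), (5678, 4509), (5679, 4510), (5680, 4511), (5681, 7091), (5682, 7092), (5683, 7093), (5684, 7095), (5685, 4831), (5686, 4832), (5687, 4833), (5688, 4516), (5689, 6539), (5690, 6541), (5691, 6554), (5692, 4518), (5693, 7105), (5694, 6631), (5695, 4520)]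
    ⟨e3 q5632 (flp_f L119607) q7033, e3 q5633 (flp_f L119614) q7034, e3 q5634 L82680 q5634, e3 q5635 L82695 q5635, e3 q5636 L119803 q7038, e3 q5637 L82805 q5637, e3 q5638 L82830 q4784, e3 q5639 L119886 q7042, e3 q5640 L82861 q5640, e3 q5641 (flp_f L82905) q4478, e3 q5642 (flp_f L120001) q7044, e3 q5643 (flp_f L120010) q7045, e3 q5644 L82935 q4790, e3 q5645 L82953 q5645, e3 q5646 L82971 q4483, e3 q5647 L82980 q4484, e3 q5648 (flp_f L120078) q7050, e3 q5649 (flp_f L120085) q7051, e3 q5650 (flp_f L120094) q7052, e3 q5651 L83011 q4797, e3 q5652 L83020 q4798, e3 q5653 L83027 q5653, e3 q5654 L83082 q4800, e3 q5655 L120251 q7062, e3 q5656 L83112 q5656, e3 q5657 (flp_f L83151) q4491, e3 q5658 (flp_f L120358) q7064, e3 q5659 (flp_f L120366) q7065, e3 q5660 L83181 q4806, e3 q5661 L83200 q5661, e3 q5662 L120426 q7069, e3 q5663 L83224 q4809, e3 q5664 (flp_f L83227) q4496, e3 q5665 (flp_f L120467) q7074, e3 q5666 (flp_f L120475) q7075, e3 q5667 L83255 q4813, e3 q5668 L83273 q5668, e3 q5669 L83322 q4501, e3 q5670 L83329 q4502, e3 q5671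 (flp_f L120588) q7080, e3 q5672 (flp_f L120596) q7081, e3 q5673 (flp_f L120605) q7082, e3 q5674 L83360 q4820, e3 q5675 L83370 q4821, e3 q5676 L83378 q5676, e3 q5677 L83387 q5677, e3 q5678 L83395 q4509, e3 q5679 L83402 q4510, e3 q5680 L83411 q4511, e3 q5681 (flp_f L120677) q7091, e3 q5682 (flp_f L120686) q7092, e3 q5683 (flp_f L120693) q7093, e3 q5684 (flp_f L120710) q7095, e3 q5685 L83450 q4831, e3 q5686 L83460 q4832, e3 q5687 L83467 q4833, e3 q5688 L83475 q4516, e3 q5689 L639070 q6539, e3 q5690 L639415 q6541, e3 q5691 (flp_f L643516) q6554, e3 q5692 (flp_f L83525) q4518, e3 q5693 L120903 q7105, e3 q5694 L643380 q6631, e3 q5695 (flp_f L83566) q4520, trivial⟩ (by decide +kernel)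

theorem ce_f_89 : ∀ r, r < 64 → sm gf (Qf (5696 + r)) = Qf (tab Gen.f (5696 + r)) :=
  edges_tab (sm gf) Qf (tab Gen.f) 5696 [(5696, 4534), (5697, 7107), (5698, 7109), (5699, 4523), (5700, 4524), (5701, 7112), (5702, 4540), (5703, 6547), (5704, 4528), (5705, 6562), (5706, 4529), (5707, 6545), (5708, 7114), (5709, 4531), (5710, 4532), (5711, 6647), (5712, 6561), (5713, 5253), (5714, 7119), (5715, 4535), (5716, 7121), (5717, 4536), (5718, 7124), (5719, 5243), (5720, 6646), (5721, 6649), (5722, 4539), (5723, 7129), (5724, 5252), (5725, 6563), (5726, 4542), (5727, 5727), (5728, 4544), (5729, 6650), (5730, 5730), (5731, 5731), (5732, 7131), (5733, 4547), (5734, 7135), (5735, 5735), (5736, 6655), (5737, 5737), (5738, 4550), (5739, 7140), (5740, 5740), (5741, 4553), (5742, 5742), (5743, 4555), (5744, 6663), (5745, 5745), (5746, 4557), (5747, 7150), (5748, 5748), (5749, 7151), (5750, 6668), (5751, 5751), (5752, 5752), (5753, 4562), (5754, 4564), (5755, 7158), (5756, 5756), (5757, 5757), (5758, 7160), (5759, 4567)]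
    ⟨e3 q5696 L83584 q4534, e3 q5697 L120959 q7107, e3 q5698 L120977 q7109, e3 q5699 (flp_f L83604) q4523, e3 q5700 (flp_f L83613) q4524, e3 q5701 (flp_f L121020) q7112, e3 q5702 L83635 q4540, e3 q5703 L643744 q6547, e3 q5704 (flp_f L83667) q4528, e3 q5705 (flp_f L643952) q6562, e3 q5706 (flp_f L83710) q4529, e3 q5707 L643142 q6545, e3 q5708 L121194 q7114, e3 q5709 (flp_f L83751) q4531, e3 q5710 (flp_f L83763) q4532, e3 q5711 L641546 q6647, e3 q5712 (flp_f L643175) q6561, e3 q5713 L619317 q5253, e3 q5714 L121273 q7119, e3 q5715 (flp_f L83807) q4535, e3 q5716 L121300 q7121, e3 q5717 (flp_f L83826) q4536, e3 q5718 (flp_f L121334) q7124, e3 q5719 (flp_f L621021) q5243, e3 q5720 (flp_f L115642) q6646, e3 q5721 L644807 q6649, e3 q5722 L83868 q4539, e3 q5723 (flp_f L121393) q7129, e3 q5724 (flp_f L619782) q5252, e3 q5725 (flp_f L643815) q6563, e3 q5726 (flp_f L83917) q4542, e3 q5727 L83935 q5727, e3 q5728 (flp_f L83965) q4544, e3 q5729 (flp_f L643838) q6650, e3 q5730 L83988 q5730, e3 q5731 L83996 q5731, e3 q5732 L121589 q7131,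 e3 q5733 (flp_f L84027) q4547, e3 q5734 (flp_f L121625) q7135, e3 q5735 L84050 q5735, e3 q5736 (flp_f L115740) q6655, e3 q5737 L84067 q5737, e3 q5738 L84072 q4550, e3 q5739 (flp_f L121681) q7140, e3 q5740 L84088 q5740, e3 q5741 (flp_f L84098) q4553, e3 q5742 L84122 q5742, e3 q5743 (flp_f L84123) q4555, e3 q5744 (flp_f L115831) q6663, e3 q5745 L84148 q5745, e3 q5746 L84153 q4557, e3 q5747 (flp_f L121815) q7150, e3 q5748 L84170 q5748, e3 q5749 L121817 q7151, e3 q5750 (flp_f L115875) q6668, e3 q5751 L84192 q5751, e3 q5752 L84197 q5752, e3 q5753 L84206 q4562, e3 q5754 (flp_f L84241) q4564, e3 q5755 (flp_f L121949) q7158, e3 q5756 L84268 q5756, e3 q5757 L84275 q5757, e3 q5758 L122017 q7160, e3 q5759 (flp_f L84313) q4567, trivial⟩ (by decide +kernel)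

theorem ce_f_90 : ∀ r, r < 64 → sm gf (Qf (5760 + r)) = Qf (tab Gen.f (5760 + r)) :=
  edges_tab (sm gf) Qf (tab Gen.f) 5760 [(5760, 7164), (5761, 5761), (5762, 6676), (5763, 5763), (5764, 4570), (5765, 7171), (5766, 5766), (5767, 7173), (5768, 4573), (5769, 7177), (5770, 5770), (5771, 4575), (5772, 7182), (5773, 6687), (5774, 5774), (5775, 4577), (5776, 7189), (5777, 5777), (5778, 7190), (5779, 6693), (5780, 5780), (5781, 5781), (5782, 4582), (5783, 5783), (5784, 4614), (5785, 4585), (5786, 7199), (5787, 4617), (5788, 4588), (5789, 7202), (5790, 6699), (5791, 4621), (5792, 4590), (5793, 7208), (5794, 4624), (5795, 7209), (5796, 6705), (5797, 4627), (5798, 4628), (5799, 4595), (5800, 7216), (5801, 4597), (5802, 7220), (5803, 6712), (5804, 4634), (5805, 4599), (5806, 7227), (5807, 4637), (5808, 6717), (5809, 4639), (5810, 4602), (5811, 7233), (5812, 7234), (5813, 7237), (5814, 6723), (5815, 4645), (5816, 4646), (5817, 4606), (5818, 4608), (5819, 7244), (5820, 7245), (5821, 6730), (5822, 6731), (5823, 4653)]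
    ⟨e3 q5760 (flp_f L122059) q7164, e3 q5761 L84338 q5761, e3 q5762 (flp_f L115970) q6676, e3 q5763 L84357 q5763, e3 q5764 L84363 q4570, e3 q5765 (flp_f L122126) q7171, e3 q5766 L84382 q5766, e3 q5767 L122142 q7173, e3 q5768 (flp_f L84396) q4573, e3 q5769 (flp_f L122181) q7177, e3 q5770 L84422 q5770, e3 q5771 (flp_f L84423) q4575, e3 q5772 (flp_f L122229) q7182, e3 q5773 (flp_f L116078) q6687, e3 q5774 L84454 q5774, e3 q5775 L84459 q4577, e3 q5776 (flp_f L122288) q7189, e3 q5777 L84478 q5777, e3 q5778 L122292 q7190, e3 q5779 (flp_f L116126) q6693, e3 q5780 L84505 q5780, e3 q5781 L84513 q5781, e3 q5782 L84523 q4582, e3 q5783 L84587 q5783, e3 q5784 L84595 q4614, e3 q5785 L84601 q4585, e3 q5786 (flp_f L122490) q7199, e3 q5787 L84620 q4617, e3 q5788 (flp_f L84662) q4588, e3 q5789 (flp_f L122593) q7202, e3 q5790 (flp_f L116223) q6699, e3 q5791 L84694 q4621, e3 q5792 L84700 q4590, e3 q5793 (flp_f L122649) q7208, e3 q5794 L84716 q4624, e3 q5795 L122653 q7209, e3 q5796 (flp_f L116279) q6705, e3 q5797 L84743 q4627, e3 q5798 L84752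 q4628, e3 q5799 L84761 q4595, e3 q5800 L122712 q7216, e3 q5801 (flp_f L84774) q4597, e3 q5802 (flp_f L122752) q7220, e3 q5803 (flp_f L116344) q6712, e3 q5804 L84802 q4634, e3 q5805 L84809 q4599, e3 q5806 (flp_f L122810) q7227, e3 q5807 L84827 q4637, e3 q5808 (flp_f L116385) q6717, e3 q5809 L84844 q4639, e3 q5810 L84852 q4602, e3 q5811 (flp_f L122858) q7233, e3 q5812 (flp_f L122869) q7234, e3 q5813 L122889 q7237, e3 q5814 (flp_f L116433) q6723, e3 q5815 L84889 q4645, e3 q5816 L84895 q4646, e3 q5817 L84905 q4606, e3 q5818 (flp_f L84907) q4608, e3 q5819 (flp_f L122945) q7244, e3 q5820 (flp_f L122954) q7245, e3 q5821 (flp_f L116485) q6730, e3 q5822 (flp_f L116494) q6731, e3 q5823 L84946 q4653, trivial⟩ (by decide +kernel)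

theorem ce_f_91 : ∀ r, r < 64 → sm gf (Qf (5824 + r)) = Qf (tab Gen.f (5824 + r)) :=
  edges_tab (sm gf) Qf (tab Gen.f) 5824 [(5824, 4654), (5825, 6617), (5826, 5826), (5827, 6593), (5828, 7198), (5829, 4616), (5830, 6734), (5831, 7201), (5832, 4619), (5833, 7262), (5834, 7263), (5835, 6740), (5836, 7206), (5837, 7207), (5838, 4623), (5839, 4625), (5840, 7270), (5841, 7271), (5842, 6747), (5843, 6748), (5844, 7214), (5845, 7215), (5846, 4630), (5847, 7280), (5848, 6753), (5849, 7219), (5850, 4632), (5851, 7287), (5852, 7288), (5853, 7290), (5854, 6759), (5855, 7225), (5856, 7226), (5857, 4636), (5858, 6763), (5859, 7299), (5860, 6765), (5861, 7231), (5862, 7232), (5863, 4641), (5864, 4642), (5865, 7309), (5866, 7308), (5867, 4643), (5868, 7311), (5869, 7312), (5870, 6775), (5871, 6776), (5872, 7242), (5873, 7243), (5874, 4649), (5875, 4650), (5876, 7320), (5877, 7321), (5878, 7322), (5879, 6784), (5880, 6785), (5881, 7251), (5882, 7331), (5883, 4655), (5884, 7335), (5885, 5885), (5886, 4657), (5887, 7340)]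
    ⟨e3 q5824 L84957 q4654, e3 q5825 L635349 q6617, e3 q5826 L85073 q5826, e3 q5827 (flp_f L643017) q6593, e3 q5828 (flp_f L122478) q7198, e3 q5829 L85097 q4616, e3 q5830 (flp_f L116604) q6734, e3 q5831 (flp_f L122585) q7201, e3 q5832 L85199 q4619, e3 q5833 (flp_f L123391) q7262, e3 q5834 L123410 q7263, e3 q5835 (flp_f L116657) q6740, e3 q5836 (flp_f L122633) q7206, e3 q5837 (flp_f L122641) q7207, e3 q5838 L85253 q4623, e3 q5839 (flp_f L85258) q4625, e3 q5840 (flp_f L123471) q7270, e3 q5841 (flp_f L123480) q7271, e3 q5842 (flp_f L116719) q6747, e3 q5843 (flp_f L116731) q6748, e3 q5844 (flp_f L122697) q7214, e3 q5845 (flp_f L122706) q7215, e3 q5846 (flp_f L85318) q4630, e3 q5847 (flp_f L123556) q7280, e3 q5848 (flp_f L116781) q6753, e3 q5849 (flp_f L122744) q7219, e3 q5850 L85357 q4632, e3 q5851 (flp_f L123622) q7287, e3 q5852 (flp_f L123634) q7288, e3 q5853 L123653 q7290, e3 q5854 (flp_f L116829) q6759, e3 q5855 (flp_f L122792) q7225, e3 q5856 (flp_f L122799) q7226, e3 q5857 L85413 q4636, e3 q5858 (flp_f L116859) q6763, e3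 q5859 L123727 q7299, e3 q5860 (flp_f L116880) q6765, e3 q5861 (flp_f L122842) q7231, e3 q5862 (flp_f L122850) q7232, e3 q5863 L85462 q4641, e3 q5864 L85474 q4642, e3 q5865 L123810 q7309, e3 q5866 (flp_f L123807) q7308, e3 q5867 (flp_f L85493) q4643, e3 q5868 (flp_f L123839) q7311, e3 q5869 (flp_f L123845) q7312, e3 q5870 (flp_f L116958) q6775, e3 q5871 (flp_f L116968) q6776, e3 q5872 (flp_f L122924) q7242, e3 q5873 (flp_f L122934) q7243, e3 q5874 L85549 q4649, e3 q5875 L85556 q4650, e3 q5876 (flp_f L123905) q7320, e3 q5877 (flp_f L123912) q7321, e3 q5878 (flp_f L123920) q7322, e3 q5879 (flp_f L117029) q6784, e3 q5880 (flp_f L117040) q6785, e3 q5881 (flp_f L122998) q7251, e3 q5882 L123989 q7331, e3 q5883 (flp_f L85619) q4655, e3 q5884 (flp_f L124035) q7335, e3 q5885 L85650 q5885, e3 q5886 (flp_f L85651) q4657, e3 q5887 (flp_f L124086) q7340, trivial⟩ (by decide +kernel)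

theorem ce_f_92 : ∀ r, r < 64 → sm gf (Qf (5888 + r)) = Qf (tab Gen.f (5888 + r)) :=
  edges_tab (sm gf) Qf (tab Gen.f) 5888 [(5888, 6804), (5889, 5889), (5890, 4659), (5891, 7347), (5892, 5892), (5893, 7348), (5894, 6810), (5895, 5895), (5896, 5896), (5897, 4664), (5898, 7355), (5899, 4666), (5900, 7358), (5901, 6817), (5902, 5902), (5903, 4668), (5904, 7364), (5905, 5905), (5906, 6822), (5907, 5907), (5908, 4671), (5909, 7370), (5910, 7371), (5911, 7374), (5912, 6828), (5913, 5913), (5914, 5914), (5915, 4675), (5916, 4677), (5917, 7381), (5918, 7382), (5919, 6835), (5920, 6836), (5921, 5921), (5922, 5922), (5923, 7389), (5924, 4682), (5925, 7392), (5926, 6858), (5927, 4727), (5928, 4684), (5929, 7398), (5930, 4730), (5931, 6863), (5932, 4732), (5933, 4687), (5934, 7404), (5935, 7405), (5936, 7407), (5937, 6869), (5938, 4738), (5939, 4739), (5940, 4691), (5941, 4693), (5942, 7414), (5943, 7415), (5944, 6876), (5945, 6877), (5946, 4746), (5947, 4747), (5948, 4698), (5949, 6882), (5950, 4750), (5951, 4700)]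
    ⟨e3 q5888 (flp_f L117231) q6804, e3 q5889 L85685 q5889, e3 q5890 L85690 q4659, e3 q5891 (flp_f L124148) q7347, e3 q5892 L85712 q5892, e3 q5893 L124154 q7348, e3 q5894 (flp_f L117285) q6810, e3 q5895 L85738 q5895, e3 q5896 L85746 q5896, e3 q5897 L85754 q4664, e3 q5898 L124212 q7355, e3 q5899 (flp_f L85768) q4666, e3 q5900 (flp_f L124252) q7358, e3 q5901 (flp_f L117351) q6817, e3 q5902 L85802 q5902, e3 q5903 L85808 q4668, e3 q5904 (flp_f L124320) q7364, e3 q5905 L85832 q5905, e3 q5906 (flp_f L117399) q6822, e3 q5907 L85849 q5907, e3 q5908 L85854 q4671, e3 q5909 (flp_f L124363) q7370, e3 q5910 (flp_f L124375) q7371, e3 q5911 L124397 q7374, e3 q5912 (flp_f L117444) q6828, e3 q5913 L85895 q5913, e3 q5914 L85902 q5914, e3 q5915 L85913 q4675, e3 q5916 (flp_f L85917) q4677, e3 q5917 (flp_f L124462) q7381, e3 q5918 (flp_f L124468) q7382, e3 q5919 (flp_f L117499) q6835, e3 q5920 (flp_f L117510) q6836, e3 q5921 L85955 q5921, e3 q5922 L85967 q5922, e3 q5923 L124521 q7389, e3 q5924 (flp_f L85979) q4682, e3 q5925 (flp_f L124563) q7392,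 e3 q5926 (flp_f L117709) q6858, e3 q5927 L86014 q4727, e3 q5928 L86021 q4684, e3 q5929 (flp_f L124628) q7398, e3 q5930 L86042 q4730, e3 q5931 (flp_f L117757) q6863, e3 q5932 L86061 q4732, e3 q5933 L86067 q4687, e3 q5934 (flp_f L124673) q7404, e3 q5935 (flp_f L124682) q7405, e3 q5936 L124700 q7407, e3 q5937 (flp_f L117804) q6869, e3 q5938 L86105 q4738, e3 q5939 L86113 q4739, e3 q5940 L86123 q4691, e3 q5941 (flp_f L86127) q4693, e3 q5942 (flp_f L124766) q7414, e3 q5943 (flp_f L124775) q7415, e3 q5944 (flp_f L117860) q6876, e3 q5945 (flp_f L117868) q6877, e3 q5946 L86165 q4746, e3 q5947 L86174 q4747, e3 q5948 (flp_f L86180) q4698, e3 q5949 (flp_f L117909) q6882, e3 q5950 L86208 q4750, e3 q5951 L86216 q4700, trivial⟩ (by decide +kernel)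

theorem ce_f_93 : ∀ r, r < 64 → sm gf (Qf (5952 + r)) = Qf (tab Gen.f (5952 + r)) :=
  edges_tab (sm gf) Qf (tab Gen.f) 5952 [(5952, 7429), (5953, 7430), (5954, 6888), (5955, 4755), (5956, 4756), (5957, 4704), (5958, 6892), (5959, 7439), (5960, 6894), (5961, 4761), (5962, 4762), (5963, 4709), (5964, 4710), (5965, 7449), (5966, 7448), (5967, 4711), (5968, 7451), (5969, 7452), (5970, 6904), (5971, 6905), (5972, 4772), (5973, 4773), (5974, 4717), (5975, 4718), (5976, 7460), (5977, 7461), (5978, 7462), (5979, 6913), (5980, 6914), (5981, 4781), (5982, 4723), (5983, 6942), (5984, 7391), (5985, 4725), (5986, 7476), (5987, 7477), (5988, 6948), (5989, 7396), (5990, 7397), (5991, 4729), (5992, 6952), (5993, 7485), (5994, 6954), (5995, 7402), (5996, 7403), (5997, 4734), (5998, 4735), (5999, 7494), (6000, 4736), (6001, 7495), (6002, 7496), (6003, 6964), (6004, 6965), (6005, 7412), (6006, 7413), (6007, 4742), (6008, 4743), (6009, 7504), (6010, 7505), (6011, 7506), (6012, 6973), (6013, 6974), (6014, 7421), (6015, 6976)]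
    ⟨e3 q5952 (flp_f L124916) q7429, e3 q5953 L124938 q7430, e3 q5954 (flp_f L117961) q6888, e3 q5955 L86258 q4755, e3 q5956 L86265 q4756, e3 q5957 L86278 q4704, e3 q5958 (flp_f L117992) q6892, e3 q5959 L125012 q7439, e3 q5960 (flp_f L118008) q6894, e3 q5961 L86303 q4761, e3 q5962 L86309 q4762, e3 q5963 L86315 q4709, e3 q5964 L86325 q4710, e3 q5965 L125080 q7449, e3 q5966 (flp_f L125078) q7448, e3 q5967 (flp_f L86343) q4711, e3 q5968 (flp_f L125109) q7451, e3 q5969 (flp_f L125117) q7452, e3 q5970 (flp_f L118080) q6904, e3 q5971 (flp_f L118090) q6905, e3 q5972 L86382 q4772, e3 q5973 L86394 q4773, e3 q5974 L86404 q4717, e3 q5975 L86411 q4718, e3 q5976 (flp_f L125178) q7460, e3 q5977 (flp_f L125185) q7461, e3 q5978 (flp_f L125193) q7462, e3 q5979 (flp_f L118152) q6913, e3 q5980 (flp_f L118161) q6914, e3 q5981 L86453 q4781, e3 q5982 (flp_f L86457) q4723, e3 q5983 (flp_f L118415) q6942, e3 q5984 (flp_f L124555) q7391, e3 q5985 L86498 q4725, e3 q5986 (flp_f L125350) q7476, e3 q5987 L125371 q7477, e3 q5988 (flp_f L118470) q6948,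 e3 q5989 (flp_f L124608) q7396, e3 q5990 (flp_f L124617) q7397, e3 q5991 L86561 q4729, e3 q5992 (flp_f L118502) q6952, e3 q5993 L125456 q7485, e3 q5994 (flp_f L118524) q6954, e3 q5995 (flp_f L124659) q7402, e3 q5996 (flp_f L124667) q7403, e3 q5997 L86607 q4734, e3 q5998 L86617 q4735, e3 q5999 (flp_f L125524) q7494, e3 q6000 (flp_f L86634) q4736, e3 q6001 (flp_f L125553) q7495, e3 q6002 (flp_f L125561) q7496, e3 q6003 (flp_f L118600) q6964, e3 q6004 (flp_f L118611) q6965, e3 q6005 (flp_f L124744) q7412, e3 q6006 (flp_f L124754) q7413, e3 q6007 L86700 q4742, e3 q6008 L86707 q4743, e3 q6009 (flp_f L125626) q7504, e3 q6010 (flp_f L125633) q7505, e3 q6011 (flp_f L125640) q7506, e3 q6012 (flp_f L118674) q6973, e3 q6013 (flp_f L118684) q6974, e3 q6014 (flp_f L124815) q7421, e3 q6015 (flp_f L118701) q6976, trivial⟩ (by decide +kernel)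

theorem ce_f_94 : ∀ r, r < 64 → sm gf (Qf (6016 + r)) = Qf (tab Gen.f (6016 + r)) :=
  edges_tab (sm gf) Qf (tab Gen.f) 6016 [(6016, 7423), (6017, 6980), (6018, 7519), (6019, 6982), (6020, 7427), (6021, 7428), (6022, 4752), (6023, 4753), (6024, 7526), (6025, 7527), (6026, 6991), (6027, 6992), (6028, 7435), (6029, 7436), (6030, 7534), (6031, 6996), (6032, 4759), (6033, 7539), (6034, 7540), (6035, 7000), (6036, 7001), (6037, 7444), (6038, 7445), (6039, 7446), (6040, 7551), (6041, 4766), (6042, 4765), (6043, 7554), (6044, 4768), (6045, 4769), (6046, 7556), (6047, 7557), (6048, 7558), (6049, 7015), (6050, 7016), (6051, 7458), (6052, 6052), (6053, 4776), (6054, 4777), (6055, 4778), (6056, 7567), (6057, 7568), (6058, 7569), (6059, 7571), (6060, 7026), (6061, 7027), (6062, 7028), (6063, 4782), (6064, 7580), (6065, 7581), (6066, 7041), (6067, 4785), (6068, 7585), (6069, 4788), (6070, 4789), (6071, 7587), (6072, 7588), (6073, 7048), (6074, 6074), (6075, 4794), (6076, 4795), (6077, 4796), (6078, 7593), (6079, 7594)]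
    ⟨e3 q6016 (flp_f L124833) q7423, e3 q6017 (flp_f L118735) q6980, e3 q6018 L125796 q7519, e3 q6019 (flp_f L118757) q6982, e3 q6020 (flp_f L124888) q7427, e3 q6021 (flp_f L124896) q7428, e3 q6022 L86851 q4752, e3 q6023 (flp_f L86872) q4753, e3 q6024 (flp_f L125916) q7526, e3 q6025 (flp_f L125923) q7527, e3 q6026 (flp_f L118844) q6991, e3 q6027 (flp_f L118857) q6992, e3 q6028 (flp_f L124983) q7435, e3 q6029 (flp_f L124996) q7436, e3 q6030 L125984 q7534, e3 q6031 (flp_f L118889) q6996, e3 q6032 (flp_f L86950) q4759, e3 q6033 (flp_f L126023) q7539, e3 q6034 (flp_f L126029) q7540, e3 q6035 (flp_f L118915) q7000, e3 q6036 (flp_f L118924) q7001, e3 q6037 (flp_f L125044) q7444, e3 q6038 (flp_f L125050) q7445, e3 q6039 (flp_f L125062) q7446, e3 q6040 L126099 q7551, e3 q6041 L87013 q4766, e3 q6042 (flp_f L87016) q4765, e3 q6043 (flp_f L126134) q7554, e3 q6044 L87043 q4768, e3 q6045 L87049 q4769, e3 q6046 (flp_f L126157) q7556, e3 q6047 (flp_f L126165) q7557, e3 q6048 (flp_f L126173) q7558, e3 q6049 (flp_f L119024) q7015, e3 q6050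 (flp_f L119036) q7016, e3 q6051 (flp_f L125163) q7458, e3 q6052 L87108 q6052, e3 q6053 L87112 q4776, e3 q6054 L87119 q4777, e3 q6055 L87126 q4778, e3 q6056 (flp_f L126247) q7567, e3 q6057 (flp_f L126256) q7568, e3 q6058 (flp_f L126263) q7569, e3 q6059 (flp_f L126279) q7571, e3 q6060 (flp_f L119114) q7026, e3 q6061 (flp_f L119125) q7027, e3 q6062 (flp_f L119132) q7028, e3 q6063 (flp_f L87324) q4782, e3 q6064 (flp_f L126588) q7580, e3 q6065 L126656 q7581, e3 q6066 (flp_f L119883) q7041, e3 q6067 (flp_f L87404) q4785, e3 q6068 (flp_f L126700) q7585, e3 q6069 L87511 q4788, e3 q6070 L87520 q4789, e3 q6071 (flp_f L126839) q7587, e3 q6072 (flp_f L126847) q7588, e3 q6073 (flp_f L120041) q7048, e3 q6074 L87578 q6074, e3 q6075 L87584 q4794, e3 q6076 L87591 q4795, e3 q6077 L87598 q4796, e3 q6078 (flp_f L126922) q7593, e3 q6079 (flp_f L126931) q7594, trivial⟩ (by decide +kernel)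

theorem ce_f_95 : ∀ r, r < 64 → sm gf (Qf (6080 + r)) = Qf (tab Gen.f (6080 + r)) :=
  edges_tab (sm gf) Qf (tab Gen.f) 6080 [(6080, 7595), (6081, 7597), (6082, 7057), (6083, 7058), (6084, 7059), (6085, 7606), (6086, 7061), (6087, 4801), (6088, 7610), (6089, 4804), (6090, 4805), (6091, 7612), (6092, 7613), (6093, 7068), (6094, 4808), (6095, 7618), (6096, 7619), (6097, 7072), (6098, 7073), (6099, 4811), (6100, 4812), (6101, 7626), (6102, 7627), (6103, 7078), (6104, 6104), (6105, 4817), (6106, 4818), (6107, 4819), (6108, 7632), (6109, 7633), (6110, 7634), (6111, 7636), (6112, 7087), (6113, 7088), (6114, 7089), (6115, 6115), (6116, 4827), (6117, 4828), (6118, 4829), (6119, 4955), (6120, 4830), (6121, 7647), (6122, 7649), (6123, 7650), (6124, 7648), (6125, 7651), (6126, 7101), (6127, 7102), (6128, 7103), (6129, 6129), (6130, 6130), (6131, 4835), (6132, 7662), (6133, 6573), (6134, 6134), (6135, 6135), (6136, 6136), (6137, 4839), (6138, 6138), (6139, 6571), (6140, 6140), (6141, 6141), (6142, 6142), (6143, 4844)]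
    ⟨e3 q6080 (flp_f L126940) q7595, e3 q6081 (flp_f L126953) q7597, e3 q6082 (flp_f L120133) q7057, e3 q6083 (flp_f L120142) q7058, e3 q6084 (flp_f L120148) q7059, e3 q6085 L127102 q7606, e3 q6086 (flp_f L120248) q7061, e3 q6087 (flp_f L87725) q4801, e3 q6088 (flp_f L127147) q7610, e3 q6089 L87793 q4804, e3 q6090 L87801 q4805, e3 q6091 (flp_f L127226) q7612, e3 q6092 (flp_f L127235) q7613, e3 q6093 (flp_f L120402) q7068, e3 q6094 (flp_f L87859) q4808, e3 q6095 (flp_f L127318) q7618, e3 q6096 (flp_f L127323) q7619, e3 q6097 (flp_f L120449) q7072, e3 q6098 (flp_f L120458) q7073, e3 q6099 L87898 q4811, e3 q6100 L87906 q4812, e3 q6101 (flp_f L127374) q7626, e3 q6102 (flp_f L127381) q7627, e3 q6103 (flp_f L120505) q7078, e3 q6104 L87961 q6104, e3 q6105 L87967 q4817, e3 q6106 L87975 q4818, e3 q6107 L87982 q4819, e3 q6108 (flp_f L127455) q7632, e3 q6109 (flp_f L127464) q7633, e3 q6110 (flp_f L127470) q7634, e3 q6111 (flp_f L127485) q7636, e3 q6112 (flp_f L120643) q7087, e3 q6113 (flp_f L120653) q7088, e3 q6114 (flp_f L120661) q7089,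 e3 q6115 L88044 q6115, e3 q6116 L88050 q4827, e3 q6117 L88059 q4828, e3 q6118 L88066 q4829, e3 q6119 L88073 q4955, e3 q6120 L88080 q4830, e3 q6121 (flp_f L127569) q7647, e3 q6122 (flp_f L127587) q7649, e3 q6123 (flp_f L127594) q7650, e3 q6124 L647225 q7648, e3 q6125 (flp_f L127622) q7651, e3 q6126 (flp_f L120756) q7101, e3 q6127 (flp_f L120766) q7102, e3 q6128 (flp_f L120775) q7103, e3 q6129 L88178 q6129, e3 q6130 L88188 q6130, e3 q6131 L88195 q4835, e3 q6132 (flp_f L127817) q7662, e3 q6133 (flp_f L647946) q6573, e3 q6134 L88235 q6134, e3 q6135 L88245 q6135, e3 q6136 L88254 q6136, e3 q6137 L88262 q4839, e3 q6138 L88270 q6138, e3 q6139 (flp_f L647929) q6571, e3 q6140 L88292 q6140, e3 q6141 L88302 q6141, e3 q6142 L88311 q6142, e3 q6143 L88317 q4844, trivial⟩ (by decide +kernel)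

theorem ce_f_96 : ∀ r, r < 64 → sm gf (Qf (6144 + r)) = Qf (tab Gen.f (6144 + r)) :=
  edges_tab (sm gf) Qf (tab Gen.f) 6144 [(6144, 4845), (6145, 7676), (6146, 7675), (6147, 4846), (6148, 6582), (6149, 7678), (6150, 6150), (6151, 6151), (6152, 6152), (6153, 6153), (6154, 4852), (6155, 4853), (6156, 7685), (6157, 7686), (6158, 7687), (6159, 6159), (6160, 6160), (6161, 6161), (6162, 6162), (6163, 6613), (6164, 6164), (6165, 4893), (6166, 4894), (6167, 4861), (6168, 4862), (6169, 6607), (6170, 7700), (6171, 6171), (6172, 6172), (6173, 4901), (6174, 4902), (6175, 6605), (6176, 6176), (6177, 4868), (6178, 6602), (6179, 7709), (6180, 6180), (6181, 6181), (6182, 4908), (6183, 4909), (6184, 4910), (6185, 7720), (6186, 4875), (6187, 4874), (6188, 7723), (6189, 4877), (6190, 4878), (6191, 7724), (6192, 7725), (6193, 7726), (6194, 6194), (6195, 6195), (6196, 4922), (6197, 6598), (6198, 4885), (6199, 4886), (6200, 4887), (6201, 7735), (6202, 7736), (6203, 7737), (6204, 7739), (6205, 6205), (6206, 6206), (6207, 6207)]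
    ⟨e3 q6144 L88328 q4845, e3 q6145 L128014 q7676, e3 q6146 (flp_f L128010) q7675, e3 q6147 (flp_f L88350) q4846, e3 q6148 L647891 q6582, e3 q6149 (flp_f L128054) q7678, e3 q6150 L88380 q6150, e3 q6151 L88390 q6151, e3 q6152 L88398 q6152, e3 q6153 L88407 q6153, e3 q6154 L88417 q4852, e3 q6155 L88425 q4853, e3 q6156 (flp_f L128123) q7685, e3 q6157 (flp_f L128130) q7686, e3 q6158 (flp_f L128139) q7687, e3 q6159 L88456 q6159, e3 q6160 L88466 q6160, e3 q6161 L88473 q6161, e3 q6162 L88529 q6162, e3 q6163 (flp_f L640681) q6613, e3 q6164 L88551 q6164, e3 q6165 L88560 q4893, e3 q6166 L88569 q4894, e3 q6167 L88587 q4861, e3 q6168 (flp_f L88607) q4862, e3 q6169 (flp_f L640551) q6607, e3 q6170 (flp_f L128443) q7700, e3 q6171 L88640 q6171, e3 q6172 L88649 q6172, e3 q6173 L88656 q4901, e3 q6174 L88665 q4902, e3 q6175 L642244 q6605, e3 q6176 L88685 q6176, e3 q6177 (flp_f L88686) q4868, e3 q6178 L645367 q6602, e3 q6179 (flp_f L128554) q7709, e3 q6180 L88715 q6180, e3 q6181 L88723 q6181, e3 q6182 L88730 q4908, e3 q6183 L88737 q4909, e3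 q6184 L88748 q4910, e3 q6185 L128632 q7720, e3 q6186 L88763 q4875, e3 q6187 (flp_f L88765) q4874, e3 q6188 (flp_f L128664) q7723, e3 q6189 L88794 q4877, e3 q6190 L88803 q4878, e3 q6191 (flp_f L128690) q7724, e3 q6192 (flp_f L128698) q7725, e3 q6193 (flp_f L128708) q7726, e3 q6194 L88832 q6194, e3 q6195 L88840 q6195, e3 q6196 L88845 q4922, e3 q6197 (flp_f L647874) q6598, e3 q6198 L88865 q4885, e3 q6199 L88872 q4886, e3 q6200 L88882 q4887, e3 q6201 (flp_f L128771) q7735, e3 q6202 (flp_f L128782) q7736, e3 q6203 (flp_f L128790) q7737, e3 q6204 (flp_f L128807) q7739, e3 q6205 L88918 q6205, e3 q6206 L88926 q6206, e3 q6207 L88930 q6207, trivial⟩ (by decide +kernel)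

theorem ce_f_97 : ∀ r, r < 64 → sm gf (Qf (6208 + r)) = Qf (tab Gen.f (6208 + r)) :=
  edges_tab (sm gf) Qf (tab Gen.f) 6208 [(6208, 4891), (6209, 6611), (6210, 7748), (6211, 6211), (6212, 6212), (6213, 7698), (6214, 7699), (6215, 4897), (6216, 4898), (6217, 7755), (6218, 7756), (6219, 7757), (6220, 6220), (6221, 6221), (6222, 7706), (6223, 4904), (6224, 4905), (6225, 7765), (6226, 7766), (6227, 7767), (6228, 6228), (6229, 7776), (6230, 6230), (6231, 7716), (6232, 7717), (6233, 7781), (6234, 7719), (6235, 4911), (6236, 7784), (6237, 7722), (6238, 4914), (6239, 6239), (6240, 4917), (6241, 4918), (6242, 4919), (6243, 7788), (6244, 7789), (6245, 7790), (6246, 7792), (6247, 6247), (6248, 6248), (6249, 6249), (6250, 6250), (6251, 4927), (6252, 4928), (6253, 4929), (6254, 7570), (6255, 4930), (6256, 4958), (6257, 7802), (6258, 7803), (6259, 7804), (6260, 7806), (6261, 6261), (6262, 6262), (6263, 6263), (6264, 6264), (6265, 4936), (6266, 4937), (6267, 4938), (6268, 7812), (6269, 4962), (6270, 7813), (6271, 7815)]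
    ⟨e3 q6208 (flp_f L89015) q4891, e3 q6209 (flp_f L640879) q6611, e3 q6210 (flp_f L129025) q7748, e3 q6211 L89049 q6211, e3 q6212 L89060 q6212, e3 q6213 (flp_f L128361) q7698, e3 q6214 (flp_f L128381) q7699, e3 q6215 L89136 q4897, e3 q6216 L89144 q4898, e3 q6217 (flp_f L129182) q7755, e3 q6218 (flp_f L129191) q7756, e3 q6219 (flp_f L129201) q7757, e3 q6220 L89180 q6220, e3 q6221 L89191 q6221, e3 q6222 (flp_f L128492) q7706, e3 q6223 L89208 q4904, e3 q6224 L89216 q4905, e3 q6225 (flp_f L129282) q7765, e3 q6226 (flp_f L129289) q7766, e3 q6227 (flp_f L129298) q7767, e3 q6228 L89247 q6228, e3 q6229 L129364 q7776, e3 q6230 L89264 q6230, e3 q6231 (flp_f L128600) q7716, e3 q6232 (flp_f L128611) q7717, e3 q6233 L129403 q7781, e3 q6234 (flp_f L128628) q7719, e3 q6235 (flp_f L89297) q4911, e3 q6236 (flp_f L129435) q7784, e3 q6237 (flp_f L128658) q7722, e3 q6238 L89330 q4914, e3 q6239 L89348 q6239, e3 q6240 L89354 q4917, e3 q6241 L89362 q4918, e3 q6242 L89371 q4919, e3 q6243 (flp_f L129487) q7788, e3 q6244 (flp_f L129497) q7789, e3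 q6245 (flp_f L129504) q7790, e3 q6246 (flp_f L129522) q7792, e3 q6247 L89410 q6247, e3 q6248 L89420 q6248, e3 q6249 L89426 q6249, e3 q6250 L89435 q6250, e3 q6251 L89442 q4927, e3 q6252 L89452 q4928, e3 q6253 L89460 q4929, e3 q6254 (flp_f L126272) q7570, e3 q6255 L89477 q4930, e3 q6256 (flp_f L647374) q4958, e3 q6257 (flp_f L129628) q7802, e3 q6258 (flp_f L129635) q7803, e3 q6259 (flp_f L129654) q7804, e3 q6260 (flp_f L129666) q7806, e3 q6261 L89523 q6261, e3 q6262 L89533 q6262, e3 q6263 L89540 q6263, e3 q6264 L89552 q6264, e3 q6265 L89561 q4936, e3 q6266 L89570 q4937, e3 q6267 L89580 q4938, e3 q6268 (flp_f L129763) q7812, e3 q6269 L647588 q4962, e3 q6270 (flp_f L129783) q7813, e3 q6271 (flp_f L129801) q7815, trivial⟩ (by decide +kernel)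

theorem ce_f_98 : ∀ r, r < 64 → sm gf (Qf (6272 + r)) = Qf (tab Gen.f (6272 + r)) :=
  edges_tab (sm gf) Qf (tab Gen.f) 6272 [(6272, 6272), (6273, 6273), (6274, 6274), (6275, 4946), (6276, 4948), (6277, 7635), (6278, 4949), (6279, 7824), (6280, 4957), (6281, 7825), (6282, 7827), (6283, 7807), (6284, 6284), (6285, 6285), (6286, 6286), (6287, 7817), (6288, 6288), (6289, 6289), (6290, 6290), (6291, 6291), (6292, 6540), (6293, 4968), (6294, 4978), (6295, 4974), (6296, 4970), (6297, 5238), (6298, 6544), (6299, 5254), (6300, 7120), (6301, 4979), (6302, 4984), (6303, 7116), (6304, 5204), (6305, 4986), (6306, 5207), (6307, 6307), (6308, 4992), (6309, 6309), (6310, 6310), (6311, 6311), (6312, 4998), (6313, 6313), (6314, 5000), (6315, 6315), (6316, 6316), (6317, 5003), (6318, 5009), (6319, 6319), (6320, 6320), (6321, 7838), (6322, 5015), (6323, 7839), (6324, 5017), (6325, 6325), (6326, 6326), (6327, 5020), (6328, 7841), (6329, 5024), (6330, 6330), (6331, 5052), (6332, 5063), (6333, 5054), (6334, 5033), (6335, 6335)]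
    ⟨e3 q6272 L89623 q6272, e3 q6273 L89633 q6273, e3 q6274 L89640 q6274, e3 q6275 L89657 q4946, e3 q6276 L89674 q4948, e3 q6277 (flp_f L127477) q7635, e3 q6278 L89690 q4949, e3 q6279 (flp_f L129890) q7824, e3 q6280 L647570 q4957, e3 q6281 (flp_f L129915) q7825, e3 q6282 (flp_f L129930) q7827, e3 q6283 (flp_f L647386) q7807, e3 q6284 L89734 q6284, e3 q6285 L89743 q6285, e3 q6286 L89749 q6286, e3 q6287 (flp_f L646097) q7817, e3 q6288 L89883 q6288, e3 q6289 L89889 q6289, e3 q6290 L90114 q6290, e3 q6291 L90126 q6291, e3 q6292 L639269 q6540, e3 q6293 (flp_f L90271) q4968, e3 q6294 L90328 q4978, e3 q6295 L625403 q4974, e3 q6296 (flp_f L90351) q4970, e3 q6297 (flp_f L620891) q5238, e3 q6298 (flp_f L639558) q6544, e3 q6299 L627256 q5254, e3 q6300 L625427 q7120, e3 q6301 (flp_f L90754) q4979, e3 q6302 (flp_f L625471) q4984, e3 q6303 L621061 q7116, e3 q6304 (flp_f L625276) q5204, e3 q6305 (flp_f L90867) q4986, e3 q6306 (flp_f L625267) q5207, e3 q6307 L91179 q6307, e3 q6308 (flp_f L91309) q4992, e3 q6309 L91331 q6309, e3 q6310 L91340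 q6310, e3 q6311 L91361 q6311, e3 q6312 (flp_f L91417) q4998, e3 q6313 L91439 q6313, e3 q6314 L91455 q5000, e3 q6315 L91482 q6315, e3 q6316 L91488 q6316, e3 q6317 L91494 q5003, e3 q6318 (flp_f L91824) q5009, e3 q6319 L91852 q6319, e3 q6320 L91861 q6320, e3 q6321 L133256 q7838, e3 q6322 (flp_f L91954) q5015, e3 q6323 (flp_f L133300) q7839, e3 q6324 L91996 q5017, e3 q6325 L92030 q6325, e3 q6326 L92037 q6326, e3 q6327 L92044 q5020, e3 q6328 (flp_f L133421) q7841, e3 q6329 L92103 q5024, e3 q6330 L92499 q6330, e3 q6331 L92508 q5052, e3 q6332 L625049 q5063, e3 q6333 L92556 q5054, e3 q6334 (flp_f L92645) q5033, e3 q6335 L92670 q6335, trivial⟩ (by decide +kernel)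

theorem ce_f_99 : ∀ r, r < 64 → sm gf (Qf (6336 + r)) = Qf (tab Gen.f (6336 + r)) :=
  edges_tab (sm gf) Qf (tab Gen.f) 6336 [(6336, 5059), (6337, 5035), (6338, 6338), (6339, 5064), (6340, 6340), (6341, 5160), (6342, 6342), (6343, 5068), (6344, 5069), (6345, 5043), (6346, 7855), (6347, 6347), (6348, 5078), (6349, 6349), (6350, 7858), (6351, 7845), (6352, 5053), (6353, 5061), (6354, 6354), (6355, 7847), (6356, 6356), (6357, 7859), (6358, 6358), (6359, 7844), (6360, 7850), (6361, 5153), (6362, 6362), (6363, 5120), (6364, 7869), (6365, 6365), (6366, 5066), (6367, 5158), (6368, 5157), (6369, 6369), (6370, 5123), (6371, 7853), (6372, 7879), (6373, 5071), (6374, 5139), (6375, 6375), (6376, 6376), (6377, 5109), (6378, 5082), (6379, 6379), (6380, 6380), (6381, 6381), (6382, 6382), (6383, 6383), (6384, 5086), (6385, 6385), (6386, 6386), (6387, 6387), (6388, 5101), (6389, 7888), (6390, 6390), (6391, 5130), (6392, 5142), (6393, 5132), (6394, 6394), (6395, 7862), (6396, 6396), (6397, 5136), (6398, 5137), (6399, 6399)]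
    ⟨e3 q6336 L92677 q5059, e3 q6337 L92685 q5035, e3 q6338 L92719 q6338, e3 q6339 L92736 q5064, e3 q6340 L92754 q6340, e3 q6341 (flp_f L624864) q5160, e3 q6342 L92771 q6342, e3 q6343 L92778 q5068, e3 q6344 L92786 q5069, e3 q6345 L92794 q5043, e3 q6346 L134557 q7855, e3 q6347 L92855 q6347, e3 q6348 L92870 q5078, e3 q6349 L93420 q6349, e3 q6350 L135485 q7858, e3 q6351 (flp_f L134097) q7845, e3 q6352 (flp_f L93493) q5053, e3 q6353 L624859 q5061, e3 q6354 L93638 q6354, e3 q6355 (flp_f L134293) q7847, e3 q6356 L93679 q6356, e3 q6357 L615276 q7859, e3 q6358 L93698 q6358, e3 q6359 (flp_f L622323) q7844, e3 q6360 (flp_f L134360) q7850, e3 q6361 L624745 q5153, e3 q6362 L93781 q6362, e3 q6363 L624758 q5120, e3 q6364 L136051 q7869, e3 q6365 L93826 q6365, e3 q6366 (flp_f L93828) q5066, e3 q6367 (flp_f L615247) q5158, e3 q6368 L624646 q5157, e3 q6369 L93858 q6369, e3 q6370 L622855 q5123, e3 q6371 (flp_f L134528) q7853, e3 q6372 L136188 q7879, e3 q6373 (flp_f L93910) q5071, e3 q6374 L604477 q5139, e3 q6375 L93974 q6375, e3 q6376 L93985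 q6376, e3 q6377 (flp_f L622830) q5109, e3 q6378 (flp_f L94082) q5082, e3 q6379 L94113 q6379, e3 q6380 L94124 q6380, e3 q6381 L94156 q6381, e3 q6382 L94170 q6382, e3 q6383 L94177 q6383, e3 q6384 L94182 q5086, e3 q6385 L94344 q6385, e3 q6386 L94351 q6386, e3 q6387 L94437 q6387, e3 q6388 L94472 q5101, e3 q6389 L137021 q7888, e3 q6390 L94666 q6390, e3 q6391 L94675 q5130, e3 q6392 (flp_f L624924) q5142, e3 q6393 L94731 q5132, e3 q6394 L94759 q6394, e3 q6395 (flp_f L622839) q7862, e3 q6396 L94777 q6396, e3 q6397 L94782 q5136, e3 q6398 L94790 q5137, e3 q6399 L94997 q6399, trivial⟩ (by decide +kernel)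

theorem ce_f_100 : ∀ r, r < 64 → sm gf (Qf (6400 + r)) = Qf (tab Gen.f (6400 + r)) :=
  edges_tab (sm gf) Qf (tab Gen.f) 6400 [(6400, 7867), (6401, 5151), (6402, 7877), (6403, 6403), (6404, 6404), (6405, 5161), (6406, 7902), (6407, 5128), (6408, 6408), (6409, 7906), (6410, 7891), (6411, 5131), (6412, 5140), (6413, 7908), (6414, 6414), (6415, 5134), (6416, 7861), (6417, 7907), (6418, 6418), (6419, 7890), (6420, 5168), (6421, 6421), (6422, 7916), (6423, 6423), (6424, 5150), (6425, 7865), (6426, 5154), (6427, 7874), (6428, 7921), (6429, 6429), (6430, 6430), (6431, 7870), (6432, 7928), (6433, 7851), (6434, 7930), (6435, 5162), (6436, 7903), (6437, 7933), (6438, 6438), (6439, 5165), (6440, 7915), (6441, 5169), (6442, 5182), (6443, 5181), (6444, 6444), (6445, 5172), (6446, 7939), (6447, 7940), (6448, 6448), (6449, 6449), (6450, 5175), (6451, 5176), (6452, 7937), (6453, 7946), (6454, 6454), (6455, 7032), (6456, 6456), (6457, 5187), (6458, 5277), (6459, 7030), (6460, 6460), (6461, 7952), (6462, 6462), (6463, 5190)]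
    ⟨e3 q6400 L622340 q7867, e3 q6401 L95022 q5151, e3 q6402 (flp_f L622233) q7877, e3 q6403 L95149 q6403, e3 q6404 L95173 q6404, e3 q6405 L95191 q5161, e3 q6406 L138086 q7902, e3 q6407 (flp_f L95217) q5128, e3 q6408 L95446 q6408, e3 q6409 L138437 q7906, e3 q6410 (flp_f L137298) q7891, e3 q6411 (flp_f L95523) q5131, e3 q6412 (flp_f L624933) q5140, e3 q6413 L138639 q7908, e3 q6414 L95613 q6414, e3 q6415 (flp_f L95615) q5134, e3 q6416 L624687 q7861, e3 q6417 L615331 q7907, e3 q6418 L95641 q6418, e3 q6419 (flp_f L622398) q7890, e3 q6420 L624453 q5168, e3 q6421 L95751 q6421, e3 q6422 L139140 q7916, e3 q6423 L95957 q6423, e3 q6424 (flp_f L95959) q5150, e3 q6425 (flp_f L615297) q7865, e3 q6426 (flp_f L96124) q5154, e3 q6427 (flp_f L615225) q7874, e3 q6428 (flp_f L139394) q7921, e3 q6429 L96146 q6429, e3 q6430 L96155 q6430, e3 q6431 (flp_f L615264) q7870, e3 q6432 L139486 q7928, e3 q6433 (flp_f L622242) q7851, e3 q6434 L139522 q7930, e3 q6435 (flp_f L96233) q5162, e3 q6436 (flp_f L138109) q7903, e3 q6437 L139736 q7933, e3 q6438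 L96420 q6438, e3 q6439 (flp_f L96422) q5165, e3 q6440 L624463 q7915, e3 q6441 L96514 q5169, e3 q6442 (flp_f L624477) q5182, e3 q6443 L624538 q5181, e3 q6444 L96545 q6444, e3 q6445 (flp_f L96548) q5172, e3 q6446 (flp_f L139941) q7939, e3 q6447 (flp_f L139948) q7940, e3 q6448 L96572 q6448, e3 q6449 L96579 q6449, e3 q6450 L96589 q5175, e3 q6451 L96599 q5176, e3 q6452 (flp_f L616569) q7937, e3 q6453 (flp_f L140015) q7946, e3 q6454 L96622 q6454, e3 q6455 (flp_f L624496) q7032, e3 q6456 L96710 q6456, e3 q6457 L96739 q5187, e3 q6458 L624339 q5277, e3 q6459 (flp_f L616784) q7030, e3 q6460 L96781 q6460, e3 q6461 L140224 q7952, e3 q6462 L96797 q6462, e3 q6463 (flp_f L96800) q5190, trivial⟩ (by decide +kernel)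

theorem ce_f_101 : ∀ r, r < 64 → sm gf (Qf (6464 + r)) = Qf (tab Gen.f (6464 + r)) :=
  edges_tab (sm gf) Qf (tab Gen.f) 6464 [(6464, 7956), (6465, 5192), (6466, 7958), (6467, 7959), (6468, 6468), (6469, 5195), (6470, 7617), (6471, 5198), (6472, 5199), (6473, 7964), (6474, 7965), (6475, 5232), (6476, 6558), (6477, 6477), (6478, 6557), (6479, 5236), (6480, 5239), (6481, 6481), (6482, 7971), (6483, 5212), (6484, 6484), (6485, 5245), (6486, 6486), (6487, 6487), (6488, 6488), (6489, 5246), (6490, 5247), (6491, 6491), (6492, 5248), (6493, 7981), (6494, 5228), (6495, 7983), (6496, 5224), (6497, 5231), (6498, 7986), (6499, 5229), (6500, 7987), (6501, 7985), (6502, 6553), (6503, 6645), (6504, 5233), (6505, 5235), (6506, 6627), (6507, 7967), (6508, 7968), (6509, 7108), (6510, 7123), (6511, 7996), (6512, 7991), (6513, 5241), (6514, 6514), (6515, 7973), (6516, 7976), (6517, 7997), (6518, 7978), (6519, 5249), (6520, 6520), (6521, 5255), (6522, 6522), (6523, 5257), (6524, 8001), (6525, 6525), (6526, 6526), (6527, 5262)]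
    ⟨e3 q6464 (flp_f L140264) q7956, e3 q6465 (flp_f L96821) q5192, e3 q6466 (flp_f L140279) q7958, e3 q6467 (flp_f L140285) q7959, e3 q6468 L96847 q6468, e3 q6469 L96856 q5195, e3 q6470 (flp_f L127311) q7617, e3 q6471 L96879 q5198, e3 q6472 L96884 q5199, e3 q6473 (flp_f L140336) q7964, e3 q6474 (flp_f L140345) q7965, e3 q6475 L96967 q5232, e3 q6476 L643152 q6558, e3 q6477 L97000 q6477, e3 q6478 (flp_f L642095) q6557, e3 q6479 L97139 q5236, e3 q6480 L97174 q5239, e3 q6481 L97203 q6481, e3 q6482 L140830 q7971, e3 q6483 (flp_f L97229) q5212, e3 q6484 L97523 q6484, e3 q6485 L97529 q5245, e3 q6486 L97539 q6486, e3 q6487 L97700 q6487, e3 q6488 L97706 q6488, e3 q6489 L97712 q5246, e3 q6490 L97720 q5247, e3 q6491 L97736 q6491, e3 q6492 L97752 q5248, e3 q6493 L141578 q7981, e3 q6494 L97771 q5228, e3 q6495 L141612 q7983, e3 q6496 (flp_f L97799) q5224, e3 q6497 L97820 q5231, e3 q6498 L142049 q7986, e3 q6499 (flp_f L98145) q5229, e3 q6500 (flp_f L142075) q7987, e3 q6501 (flp_f L141654) q7985, e3 q6502 (flp_f L643542) q6553, e3 q6503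 L642135 q6645, e3 q6504 (flp_f L98321) q5233, e3 q6505 (flp_f L98478) q5235, e3 q6506 L642127 q6627, e3 q6507 (flp_f L140713) q7967, e3 q6508 (flp_f L140723) q7968, e3 q6509 (flp_f L620874) q7108, e3 q6510 (flp_f L621203) q7123, e3 q6511 L142666 q7996, e3 q6512 (flp_f L642145) q7991, e3 q6513 (flp_f L98573) q5241, e3 q6514 L98605 q6514, e3 q6515 (flp_f L141279) q7973, e3 q6516 (flp_f L141503) q7976, e3 q6517 L143270 q7997, e3 q6518 (flp_f L141518) q7978, e3 q6519 (flp_f L99017) q5249, e3 q6520 L99042 q6520, e3 q6521 L99063 q5255, e3 q6522 L99263 q6522, e3 q6523 L99270 q5257, e3 q6524 (flp_f L143660) q8001, e3 q6525 L99321 q6525, e3 q6526 L99436 q6526, e3 q6527 (flp_f L99594) q5262, trivial⟩ (by decide +kernel)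

theorem ce_f_102 : ∀ r, r < 64 → sm gf (Qf (6528 + r)) = Qf (tab Gen.f (6528 + r)) :=
  edges_tab (sm gf) Qf (tab Gen.f) 6528 [(6528, 5266), (6529, 8005), (6530, 5270), (6531, 5268), (6532, 6532), (6533, 5285), (6534, 5272), (6535, 5283), (6536, 7035), (6537, 6537), (6538, 5288), (6539, 5689), (6540, 6292), (6541, 5690), (6542, 5289), (6543, 6543), (6544, 6298), (6545, 5707), (6546, 5291), (6547, 5703), (6548, 5294), (6549, 5295), (6550, 6550), (6551, 6551), (6552, 6552), (6553, 6502), (6554, 5691), (6555, 5299), (6556, 5305), (6557, 6478), (6558, 6476), (6559, 5302), (6560, 5303), (6561, 5712), (6562, 5705), (6563, 5725), (6564, 5306), (6565, 5307), (6566, 6566), (6567, 6567), (6568, 6568), (6569, 5310), (6570, 6570), (6571, 6139), (6572, 5313), (6573, 6133), (6574, 5314), (6575, 8010), (6576, 6576), (6577, 6577), (6578, 6578), (6579, 5317), (6580, 8014), (6581, 6581), (6582, 6148), (6583, 5320), (6584, 8016), (6585, 5334), (6586, 5322), (6587, 8018), (6588, 6588), (6589, 5338), (6590, 5324), (6591, 8023)]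
    ⟨e3 q6528 L99643 q5266, e3 q6529 L144660 q8005, e3 q6530 L627239 q5270, e3 q6531 (flp_f L100702) q5268, e3 q6532 L108501 q6532, e3 q6533 (flp_f L616852) q5285, e3 q6534 (flp_f L108523) q5272, e3 q6535 L616836 q5283, e3 q6536 L616667 q7035, e3 q6537 L113548 q6537, e3 q6538 L114580 q5288, e3 q6539 (flp_f L639070) q5689, e3 q6540 (flp_f L639269) q6292, e3 q6541 (flp_f L639415) q5690, e3 q6542 (flp_f L114615) q5289, e3 q6543 L114628 q6543, e3 q6544 L639558 q6298, e3 q6545 (flp_f L643142) q5707, e3 q6546 (flp_f L114652) q5291, e3 q6547 (flp_f L643744) q5703, e3 q6548 (flp_f L114687) q5294, e3 q6549 (flp_f L114695) q5295, e3 q6550 L114719 q6550, e3 q6551 L114727 q6551, e3 q6552 L114734 q6552, e3 q6553 L643542 q6502, e3 q6554 L643516 q5691, e3 q6555 (flp_f L114761) q5299, e3 q6556 L114779 q5305, e3 q6557 L642095 q6478, e3 q6558 (flp_f L643152) q6476, e3 q6559 (flp_f L114800) q5302, e3 q6560 (flp_f L114812) q5303, e3 q6561 L643175 q5712, e3 q6562 L643952 q5705, e3 q6563 L643815 q5725, e3 q6564 (flp_f L114857) q5306, e3 q6565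 (flp_f L114874) q5307, e3 q6566 L114899 q6566, e3 q6567 L114906 q6567, e3 q6568 L114913 q6568, e3 q6569 L114917 q5310, e3 q6570 L114936 q6570, e3 q6571 L647929 q6139, e3 q6572 (flp_f L114950) q5313, e3 q6573 L647946 q6133, e3 q6574 (flp_f L114970) q5314, e3 q6575 (flp_f L166554) q8010, e3 q6576 L114997 q6576, e3 q6577 L115005 q6577, e3 q6578 L115013 q6578, e3 q6579 L115018 q5317, e3 q6580 (flp_f L166623) q8014, e3 q6581 L115040 q6581, e3 q6582 (flp_f L647891) q6148, e3 q6583 (flp_f L115055) q5320, e3 q6584 (flp_f L166676) q8016, e3 q6585 L115082 q5334, e3 q6586 (flp_f L115084) q5322, e3 q6587 (flp_f L166723) q8018, e3 q6588 L115104 q6588, e3 q6589 L115112 q5338, e3 q6590 L115118 q5324, e3 q6591 (flp_f L166781) q8023, trivial⟩ (by decide +kernel)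

theorem ce_f_103 : ∀ r, r < 64 → sm gf (Qf (6592 + r)) = Qf (tab Gen.f (6592 + r)) :=
  edges_tab (sm gf) Qf (tab Gen.f) 6592 [(6592, 5341), (6593, 5827), (6594, 6594), (6595, 5344), (6596, 5345), (6597, 5329), (6598, 6197), (6599, 5331), (6600, 8030), (6601, 6601), (6602, 6178), (6603, 5333), (6604, 8035), (6605, 6175), (6606, 6606), (6607, 6169), (6608, 5336), (6609, 8038), (6610, 8039), (6611, 6209), (6612, 6612), (6613, 6163), (6614, 8022), (6615, 5340), (6616, 5342), (6617, 5825), (6618, 8047), (6619, 6619), (6620, 6620), (6621, 8027), (6622, 8028), (6623, 8055), (6624, 8056), (6625, 5348), (6626, 5358), (6627, 6506), (6628, 8062), (6629, 5351), (6630, 5352), (6631, 5694), (6632, 5364), (6633, 5365), (6634, 8065), (6635, 5355), (6636, 5356), (6637, 8070), (6638, 8058), (6639, 8059), (6640, 8073), (6641, 5359), (6642, 8074), (6643, 5360), (6644, 8077), (6645, 6503), (6646, 5720), (6647, 5711), (6648, 5363), (6649, 5721), (6650, 5729), (6651, 8080), (6652, 5366), (6653, 8083), (6654, 6654), (6655, 5736)]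
    ⟨e3 q6592 L115137 q5341, e3 q6593 L643017 q5827, e3 q6594 L115155 q6594, e3 q6595 L115162 q5344, e3 q6596 L115169 q5345, e3 q6597 L115181 q5329, e3 q6598 L647874 q6197, e3 q6599 (flp_f L115192) q5331, e3 q6600 (flp_f L166882) q8030, e3 q6601 L115217 q6601, e3 q6602 (flp_f L645367) q6178, e3 q6603 L115231 q5333, e3 q6604 (flp_f L166945) q8035, e3 q6605 (flp_f L642244) q6175, e3 q6606 L115264 q6606, e3 q6607 L640551 q6169, e3 q6608 L115277 q5336, e3 q6609 (flp_f L166992) q8038, e3 q6610 (flp_f L167003) q8039, e3 q6611 L640879 q6209, e3 q6612 L115309 q6612, e3 q6613 L640681 q6163, e3 q6614 (flp_f L166769) q8022, e3 q6615 L115333 q5340, e3 q6616 (flp_f L115337) q5342, e3 q6617 (flp_f L635349) q5825, e3 q6618 (flp_f L167095) q8047, e3 q6619 L115364 q6619, e3 q6620 L115375 q6620, e3 q6621 (flp_f L166825) q8027, e3 q6622 (flp_f L166837) q8028, e3 q6623 L167175 q8055, e3 q6624 L167185 q8056, e3 q6625 (flp_f L115431) q5348, e3 q6626 L115450 q5358, e3 q6627 (flp_f L642127) q6506, e3 q6628 L167254 q8062, e3 q6629 (flp_f L115470)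 q5351, e3 q6630 (flp_f L115477) q5352, e3 q6631 (flp_f L643380) q5694, e3 q6632 L115499 q5364, e3 q6633 L115507 q5365, e3 q6634 L167353 q8065, e3 q6635 (flp_f L115531) q5355, e3 q6636 (flp_f L115543) q5356, e3 q6637 (flp_f L167406) q8070, e3 q6638 (flp_f L167213) q8058, e3 q6639 (flp_f L167221) q8059, e3 q6640 L167443 q8073, e3 q6641 (flp_f L115593) q5359, e3 q6642 L167469 q8074, e3 q6643 (flp_f L115611) q5360, e3 q6644 (flp_f L167506) q8077, e3 q6645 (flp_f L642135) q6503, e3 q6646 L115642 q5720, e3 q6647 (flp_f L641546) q5711, e3 q6648 L115654 q5363, e3 q6649 (flp_f L644807) q5721, e3 q6650 L643838 q5729, e3 q6651 L167607 q8080, e3 q6652 (flp_f L115705) q5366, e3 q6653 (flp_f L167646) q8083, e3 q6654 L115731 q6654, e3 q6655 L115740 q5736, trivial⟩ (by decide +kernel)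

theorem ce_f_104 : ∀ r, r < 64 → sm gf (Qf (6656 + r)) = Qf (tab Gen.f (6656 + r)) :=
  edges_tab (sm gf) Qf (tab Gen.f) 6656 [(6656, 6656), (6657, 5369), (6658, 8089), (6659, 6659), (6660, 5372), (6661, 6661), (6662, 5374), (6663, 5744), (6664, 6664), (6665, 5376), (6666, 6666), (6667, 8098), (6668, 5750), (6669, 6669), (6670, 6670), (6671, 5381), (6672, 8103), (6673, 5383), (6674, 8107), (6675, 6675), (6676, 5762), (6677, 6677), (6678, 5386), (6679, 8114), (6680, 6680), (6681, 8116), (6682, 5389), (6683, 8120), (6684, 6684), (6685, 5391), (6686, 8124), (6687, 5773), (6688, 6688), (6689, 5393), (6690, 8131), (6691, 6691), (6692, 8132), (6693, 5779), (6694, 6694), (6695, 6695), (6696, 5398), (6697, 5400), (6698, 8141), (6699, 5790), (6700, 5428), (6701, 5402), (6702, 8148), (6703, 5431), (6704, 8149), (6705, 5796), (6706, 5434), (6707, 5435), (6708, 5407), (6709, 8156), (6710, 5409), (6711, 8160), (6712, 5803), (6713, 5441), (6714, 5411), (6715, 8167), (6716, 5444), (6717, 5808), (6718, 5446), (6719, 5414)]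
    ⟨e3 q6656 L115750 q6656, e3 q6657 L115755 q5369, e3 q6658 (flp_f L167710) q8089, e3 q6659 L115775 q6659, e3 q6660 (flp_f L115787) q5372, e3 q6661 L115810 q6661, e3 q6662 (flp_f L115811) q5374, e3 q6663 L115831 q5744, e3 q6664 L115839 q6664, e3 q6665 L115844 q5376, e3 q6666 L115860 q6666, e3 q6667 L167849 q8098, e3 q6668 L115875 q5750, e3 q6669 L115883 q6669, e3 q6670 L115888 q6670, e3 q6671 L115895 q5381, e3 q6672 L167947 q8103, e3 q6673 (flp_f L115932) q5383, e3 q6674 (flp_f L167992) q8107, e3 q6675 L115960 q6675, e3 q6676 L115970 q5762, e3 q6677 L115981 q6677, e3 q6678 L115987 q5386, e3 q6679 (flp_f L168067) q8114, e3 q6680 L116010 q6680, e3 q6681 L168084 q8116, e3 q6682 (flp_f L116026) q5389, e3 q6683 (flp_f L168126) q8120, e3 q6684 L116051 q6684, e3 q6685 (flp_f L116052) q5391, e3 q6686 (flp_f L168173) q8124, e3 q6687 L116078 q5773, e3 q6688 L116086 q6688, e3 q6689 L116091 q5393, e3 q6690 (flp_f L168232) q8131, e3 q6691 L116109 q6691, e3 q6692 L168236 q8132, e3 q6693 L116126 q5779, e3 q6694 L116137 q6694, e3 q6695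 L116145 q6695, e3 q6696 L116153 q5398, e3 q6697 (flp_f L116198) q5400, e3 q6698 (flp_f L168407) q8141, e3 q6699 L116223 q5790, e3 q6700 L116233 q5428, e3 q6701 L116239 q5402, e3 q6702 (flp_f L168469) q8148, e3 q6703 L116258 q5431, e3 q6704 L168473 q8149, e3 q6705 L116279 q5796, e3 q6706 L116288 q5434, e3 q6707 L116297 q5435, e3 q6708 L116308 q5407, e3 q6709 L168541 q8156, e3 q6710 (flp_f L116322) q5409, e3 q6711 (flp_f L168583) q8160, e3 q6712 L116344 q5803, e3 q6713 L116353 q5441, e3 q6714 L116360 q5411, e3 q6715 (flp_f L168641) q8167, e3 q6716 L116377 q5444, e3 q6717 L116385 q5808, e3 q6718 L116394 q5446, e3 q6719 L116402 q5414, trivial⟩ (by decide +kernel)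

theorem ce_f_105 : ∀ r, r < 64 → sm gf (Qf (6720 + r)) = Qf (tab Gen.f (6720 + r)) :=
  edges_tab (sm gf) Qf (tab Gen.f) 6720 [(6720, 8173), (6721, 8174), (6722, 8177), (6723, 5814), (6724, 5452), (6725, 5453), (6726, 5418), (6727, 5420), (6728, 8184), (6729, 8185), (6730, 5821), (6731, 5822), (6732, 5460), (6733, 5461), (6734, 5830), (6735, 8140), (6736, 5426), (6737, 8197), (6738, 8198), (6739, 8200), (6740, 5835), (6741, 8146), (6742, 8147), (6743, 5430), (6744, 5432), (6745, 8207), (6746, 8208), (6747, 5842), (6748, 5843), (6749, 8154), (6750, 8155), (6751, 5437), (6752, 8217), (6753, 5848), (6754, 8159), (6755, 5439), (6756, 8225), (6757, 8226), (6758, 8229), (6759, 5854), (6760, 8165), (6761, 8166), (6762, 5443), (6763, 5858), (6764, 8238), (6765, 5860), (6766, 8171), (6767, 8172), (6768, 5448), (6769, 5449), (6770, 8248), (6771, 8247), (6772, 5450), (6773, 8251), (6774, 8252), (6775, 5870), (6776, 5871), (6777, 8182), (6778, 8183), (6779, 5456), (6780, 5457), (6781, 8260), (6782, 8261), (6783, 8262)]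
    ⟨e3 q6720 (flp_f L168691) q8173, e3 q6721 (flp_f L168700) q8174, e3 q6722 L168719 q8177, e3 q6723 L116433 q5814, e3 q6724 L116441 q5452, e3 q6725 L116447 q5453, e3 q6726 L116455 q5418, e3 q6727 (flp_f L116457) q5420, e3 q6728 (flp_f L168778) q8184, e3 q6729 (flp_f L168787) q8185, e3 q6730 L116485 q5821, e3 q6731 L116494 q5822, e3 q6732 L116501 q5460, e3 q6733 L116510 q5461, e3 q6734 L116604 q5830, e3 q6735 (flp_f L168399) q8140, e3 q6736 L116621 q5426, e3 q6737 (flp_f L169008) q8197, e3 q6738 (flp_f L169019) q8198, e3 q6739 L169041 q8200, e3 q6740 L116657 q5835, e3 q6741 (flp_f L168451) q8146, e3 q6742 (flp_f L168459) q8147, e3 q6743 L116681 q5430, e3 q6744 (flp_f L116686) q5432, e3 q6745 (flp_f L169111) q8207, e3 q6746 (flp_f L169120) q8208, e3 q6747 L116719 q5842, e3 q6748 L116731 q5843, e3 q6749 (flp_f L168524) q8154, e3 q6750 (flp_f L168535) q8155, e3 q6751 (flp_f L116755) q5437, e3 q6752 (flp_f L169207) q8217, e3 q6753 L116781 q5848, e3 q6754 (flp_f L168575) q8159, e3 q6755 L116796 q5439, e3 q6756 (flp_f L169276)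 q8225, e3 q6757 (flp_f L169286) q8226, e3 q6758 L169304 q8229, e3 q6759 L116829 q5854, e3 q6760 (flp_f L168625) q8165, e3 q6761 (flp_f L168632) q8166, e3 q6762 L116852 q5443, e3 q6763 L116859 q5858, e3 q6764 L169381 q8238, e3 q6765 L116880 q5860, e3 q6766 (flp_f L168675) q8171, e3 q6767 (flp_f L168683) q8172, e3 q6768 L116903 q5448, e3 q6769 L116913 q5449, e3 q6770 L169465 q8248, e3 q6771 (flp_f L169462) q8247, e3 q6772 (flp_f L116931) q5450, e3 q6773 (flp_f L169493) q8251, e3 q6774 (flp_f L169499) q8252, e3 q6775 L116958 q5870, e3 q6776 L116968 q5871, e3 q6777 (flp_f L168759) q8182, e3 q6778 (flp_f L168767) q8183, e3 q6779 L116990 q5456, e3 q6780 L116997 q5457, e3 q6781 (flp_f L169563) q8260, e3 q6782 (flp_f L169570) q8261, e3 q6783 (flp_f L169580) q8262, trivial⟩ (by decide +kernel)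

theorem ce_f_106 : ∀ r, r < 64 → sm gf (Qf (6784 + r)) = Qf (tab Gen.f (6784 + r)) :=
  edges_tab (sm gf) Qf (tab Gen.f) 6784 [(6784, 5879), (6785, 5880), (6786, 8191), (6787, 8271), (6788, 5462), (6789, 8274), (6790, 5463), (6791, 8278), (6792, 6792), (6793, 6793), (6794, 6794), (6795, 5466), (6796, 8285), (6797, 6797), (6798, 8287), (6799, 5469), (6800, 8291), (6801, 6801), (6802, 5471), (6803, 8296), (6804, 5888), (6805, 6805), (6806, 5473), (6807, 8303), (6808, 6808), (6809, 8304), (6810, 5894), (6811, 6811), (6812, 6812), (6813, 5478), (6814, 8311), (6815, 5480), (6816, 8315), (6817, 5901), (6818, 6818), (6819, 5482), (6820, 8322), (6821, 6821), (6822, 5906), (6823, 6823), (6824, 5485), (6825, 8328), (6826, 8329), (6827, 8332), (6828, 5912), (6829, 6829), (6830, 6830), (6831, 5489), (6832, 5491), (6833, 8339), (6834, 8340), (6835, 5919), (6836, 5920), (6837, 6837), (6838, 6838), (6839, 8348), (6840, 5496), (6841, 8352), (6842, 5551), (6843, 5498), (6844, 8357), (6845, 6845), (6846, 5555), (6847, 5500)]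
    ⟨e3 q6784 L117029 q5879, e3 q6785 L117040 q5880, e3 q6786 (flp_f L168833) q8191, e3 q6787 L169651 q8271, e3 q6788 (flp_f L117061) q5462, e3 q6789 L169683 q8274, e3 q6790 (flp_f L117082) q5463, e3 q6791 (flp_f L169722) q8278, e3 q6792 L117110 q6792, e3 q6793 L117119 q6793, e3 q6794 L117127 q6794, e3 q6795 L117132 q5466, e3 q6796 (flp_f L169793) q8285, e3 q6797 L117155 q6797, e3 q6798 L169809 q8287, e3 q6799 (flp_f L117173) q5469, e3 q6800 (flp_f L169858) q8291, e3 q6801 L117203 q6801, e3 q6802 (flp_f L117204) q5471, e3 q6803 (flp_f L169908) q8296, e3 q6804 L117231 q5888, e3 q6805 L117241 q6805, e3 q6806 L117246 q5473, e3 q6807 (flp_f L169970) q8303, e3 q6808 L117267 q6808, e3 q6809 L169976 q8304, e3 q6810 L117285 q5894, e3 q6811 L117294 q6811, e3 q6812 L117302 q6812, e3 q6813 L117308 q5478, e3 q6814 L170037 q8311, e3 q6815 (flp_f L117323) q5480, e3 q6816 (flp_f L170079) q8315, e3 q6817 L117351 q5901, e3 q6818 L117360 q6818, e3 q6819 L117366 q5482, e3 q6820 (flp_f L170147) q8322, e3 q6821 L117389 q6821, e3 q6822 L117399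 q5906, e3 q6823 L117406 q6823, e3 q6824 L117411 q5485, e3 q6825 (flp_f L170192) q8328, e3 q6826 (flp_f L170202) q8329, e3 q6827 L170223 q8332, e3 q6828 L117444 q5912, e3 q6829 L117454 q6829, e3 q6830 L117461 q6830, e3 q6831 L117470 q5489, e3 q6832 (flp_f L117474) q5491, e3 q6833 (flp_f L170291) q8339, e3 q6834 (flp_f L170297) q8340, e3 q6835 L117499 q5919, e3 q6836 L117510 q5920, e3 q6837 L117517 q6837, e3 q6838 L117527 q6838, e3 q6839 L170361 q8348, e3 q6840 (flp_f L117539) q5496, e3 q6841 (flp_f L170401) q8352, e3 q6842 L117567 q5551, e3 q6843 (flp_f L117569) q5498, e3 q6844 (flp_f L170449) q8357, e3 q6845 L117590 q6845, e3 q6846 L117598 q5555, e3 q6847 L117604 q5500, trivial⟩ (by decide +kernel)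

theorem ce_f_107 : ∀ r, r < 64 → sm gf (Qf (6848 + r)) = Qf (tab Gen.f (6848 + r)) :=
  edges_tab (sm gf) Qf (tab Gen.f) 6848 [(6848, 8364), (6849, 5558), (6850, 8365), (6851, 6851), (6852, 5561), (6853, 5562), (6854, 5505), (6855, 8372), (6856, 5507), (6857, 8376), (6858, 5926), (6859, 5568), (6860, 5509), (6861, 8383), (6862, 5571), (6863, 5931), (6864, 5573), (6865, 5512), (6866, 8389), (6867, 8390), (6868, 8393), (6869, 5937), (6870, 5579), (6871, 5580), (6872, 5516), (6873, 5518), (6874, 8400), (6875, 8401), (6876, 5944), (6877, 5945), (6878, 5587), (6879, 5588), (6880, 5523), (6881, 8410), (6882, 5949), (6883, 5592), (6884, 5525), (6885, 8417), (6886, 8418), (6887, 8420), (6888, 5954), (6889, 5598), (6890, 5599), (6891, 5529), (6892, 5958), (6893, 8429), (6894, 5960), (6895, 5604), (6896, 5605), (6897, 5534), (6898, 5535), (6899, 8439), (6900, 8438), (6901, 5536), (6902, 8442), (6903, 8443), (6904, 5970), (6905, 5971), (6906, 5615), (6907, 5616), (6908, 5542), (6909, 5543), (6910, 8451), (6911, 8452)]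
    ⟨e3 q6848 (flp_f L170508) q8364, e3 q6849 L117624 q5558, e3 q6850 L170511 q8365, e3 q6851 L117643 q6851, e3 q6852 L117650 q5561, e3 q6853 L117657 q5562, e3 q6854 L117669 q5505, e3 q6855 L170572 q8372, e3 q6856 (flp_f L117682) q5507, e3 q6857 (flp_f L170616) q8376, e3 q6858 L117709 q5926, e3 q6859 L117720 q5568, e3 q6860 L117727 q5509, e3 q6861 (flp_f L170681) q8383, e3 q6862 L117747 q5571, e3 q6863 L117757 q5931, e3 q6864 L117766 q5573, e3 q6865 L117772 q5512, e3 q6866 (flp_f L170728) q8389, e3 q6867 (flp_f L170735) q8390, e3 q6868 L170752 q8393, e3 q6869 L117804 q5937, e3 q6870 L117812 q5579, e3 q6871 L117820 q5580, e3 q6872 L117828 q5516, e3 q6873 (flp_f L117832) q5518, e3 q6874 (flp_f L170821) q8400, e3 q6875 (flp_f L170830) q8401, e3 q6876 L117860 q5944, e3 q6877 L117868 q5945, e3 q6878 L117875 q5587, e3 q6879 L117882 q5588, e3 q6880 (flp_f L117888) q5523, e3 q6881 (flp_f L170898) q8410, e3 q6882 L117909 q5949, e3 q6883 L117918 q5592, e3 q6884 L117926 q5525, e3 q6885 (flp_f L170965) q8417, e3 q6886 (flp_f L170975)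 q8418, e3 q6887 L170996 q8420, e3 q6888 L117961 q5954, e3 q6889 L117970 q5598, e3 q6890 L117977 q5599, e3 q6891 L117988 q5529, e3 q6892 L117992 q5958, e3 q6893 L171073 q8429, e3 q6894 L118008 q5960, e3 q6895 L118015 q5604, e3 q6896 L118021 q5605, e3 q6897 L118027 q5534, e3 q6898 L118035 q5535, e3 q6899 L171142 q8439, e3 q6900 (flp_f L171140) q8438, e3 q6901 (flp_f L118052) q5536, e3 q6902 (flp_f L171170) q8442, e3 q6903 (flp_f L171178) q8443, e3 q6904 L118080 q5970, e3 q6905 L118090 q5971, e3 q6906 L118096 q5615, e3 q6907 L118106 q5616, e3 q6908 L118116 q5542, e3 q6909 L118123 q5543, e3 q6910 (flp_f L171243) q8451, e3 q6911 (flp_f L171250) q8452, trivial⟩ (by decide +kernel)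

theorem ce_f_108 : ∀ r, r < 64 → sm gf (Qf (6912 + r)) = Qf (tab Gen.f (6912 + r)) :=
  edges_tab (sm gf) Qf (tab Gen.f) 6912 [(6912, 8453), (6913, 5979), (6914, 5980), (6915, 5624), (6916, 8461), (6917, 5548), (6918, 8464), (6919, 8351), (6920, 5550), (6921, 8469), (6922, 8354), (6923, 6923), (6924, 8356), (6925, 5553), (6926, 8474), (6927, 8475), (6928, 8478), (6929, 6929), (6930, 8362), (6931, 8363), (6932, 5557), (6933, 5559), (6934, 8484), (6935, 8485), (6936, 6936), (6937, 6937), (6938, 8370), (6939, 8371), (6940, 5564), (6941, 8494), (6942, 5983), (6943, 8375), (6944, 5566), (6945, 8500), (6946, 8501), (6947, 8503), (6948, 5988), (6949, 8381), (6950, 8382), (6951, 5570), (6952, 5992), (6953, 8511), (6954, 5994), (6955, 8387), (6956, 8388), (6957, 5575), (6958, 5576), (6959, 8521), (6960, 8520), (6961, 5577), (6962, 8524), (6963, 8525), (6964, 6003), (6965, 6004), (6966, 8398), (6967, 8399), (6968, 5583), (6969, 5584), (6970, 8533), (6971, 8534), (6972, 8535), (6973, 6012), (6974, 6013), (6975, 8407)]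
    ⟨e3 q6912 (flp_f L171260) q8453, e3 q6913 L118152 q5979, e3 q6914 L118161 q5980, e3 q6915 L118167 q5624, e3 q6916 L171314 q8461, e3 q6917 (flp_f L118179) q5548, e3 q6918 (flp_f L171354) q8464, e3 q6919 (flp_f L170394) q8351, e3 q6920 L118219 q5550, e3 q6921 (flp_f L171418) q8469, e3 q6922 (flp_f L170423) q8354, e3 q6923 L118253 q6923, e3 q6924 (flp_f L170442) q8356, e3 q6925 L118266 q5553, e3 q6926 (flp_f L171466) q8474, e3 q6927 (flp_f L171477) q8475, e3 q6928 L171497 q8478, e3 q6929 L118299 q6929, e3 q6930 (flp_f L170489) q8362, e3 q6931 (flp_f L170496) q8363, e3 q6932 L118323 q5557, e3 q6933 (flp_f L118327) q5559, e3 q6934 (flp_f L171566) q8484, e3 q6935 (flp_f L171573) q8485, e3 q6936 L118356 q6936, e3 q6937 L118368 q6937, e3 q6938 (flp_f L170555) q8370, e3 q6939 (flp_f L170567) q8371, e3 q6940 (flp_f L118389) q5564, e3 q6941 (flp_f L171655) q8494, e3 q6942 L118415 q5983, e3 q6943 (flp_f L170608) q8375, e3 q6944 L118432 q5566, e3 q6945 (flp_f L171729) q8500, e3 q6946 (flp_f L171739) q8501, e3 q6947 L171759 q8503,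 e3 q6948 L118470 q5988, e3 q6949 (flp_f L170663) q8381, e3 q6950 (flp_f L170672) q8382, e3 q6951 L118495 q5570, e3 q6952 L118502 q5992, e3 q6953 L171847 q8511, e3 q6954 L118524 q5994, e3 q6955 (flp_f L170714) q8387, e3 q6956 (flp_f L170722) q8388, e3 q6957 L118543 q5575, e3 q6958 L118551 q5576, e3 q6959 L171919 q8521, e3 q6960 (flp_f L171916) q8520, e3 q6961 (flp_f L118567) q5577, e3 q6962 (flp_f L171944) q8524, e3 q6963 (flp_f L171952) q8525, e3 q6964 L118600 q6003, e3 q6965 L118611 q6004, e3 q6966 (flp_f L170801) q8398, e3 q6967 (flp_f L170809) q8399, e3 q6968 L118636 q5583, e3 q6969 L118643 q5584, e3 q6970 (flp_f L172021) q8533, e3 q6971 (flp_f L172028) q8534, e3 q6972 (flp_f L172037) q8535, e3 q6973 L118674 q6012, e3 q6974 L118684 q6013, e3 q6975 (flp_f L170872) q8407, trivial⟩ (by decide +kernel)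

theorem ce_f_109 : ∀ r, r < 64 → sm gf (Qf (6976 + r)) = Qf (tab Gen.f (6976 + r)) :=
  edges_tab (sm gf) Qf (tab Gen.f) 6976 [(6976, 6015), (6977, 8409), (6978, 5590), (6979, 8548), (6980, 6017), (6981, 8551), (6982, 6019), (6983, 8415), (6984, 8416), (6985, 5594), (6986, 5595), (6987, 8560), (6988, 5596), (6989, 8562), (6990, 8563), (6991, 6026), (6992, 6027), (6993, 8425), (6994, 8426), (6995, 8570), (6996, 6031), (6997, 5602), (6998, 8575), (6999, 8576), (7000, 6035), (7001, 6036), (7002, 8434), (7003, 8435), (7004, 8436), (7005, 8587), (7006, 5609), (7007, 5608), (7008, 8591), (7009, 8589), (7010, 5611), (7011, 5612), (7012, 8594), (7013, 8595), (7014, 8596), (7015, 6049), (7016, 6050), (7017, 8449), (7018, 7018), (7019, 5619), (7020, 5620), (7021, 5621), (7022, 8605), (7023, 8606), (7024, 8607), (7025, 8609), (7026, 6060), (7027, 6061), (7028, 6062), (7029, 5626), (7030, 6459), (7031, 5629), (7032, 6455), (7033, 5632), (7034, 5633), (7035, 6536), (7036, 8618), (7037, 7037), (7038, 5636), (7039, 8622)]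
    ⟨e3 q6976 L118701 q6015, e3 q6977 (flp_f L170891) q8409, e3 q6978 L118714 q5590, e3 q6979 (flp_f L172152) q8548, e3 q6980 L118735 q6017, e3 q6981 L172195 q8551, e3 q6982 L118757 q6019, e3 q6983 (flp_f L170949) q8415, e3 q6984 (flp_f L170957) q8416, e3 q6985 L118780 q5594, e3 q6986 L118791 q5595, e3 q6987 (flp_f L172279) q8560, e3 q6988 (flp_f L118811) q5596, e3 q6989 (flp_f L172315) q8562, e3 q6990 (flp_f L172322) q8563, e3 q6991 L118844 q6026, e3 q6992 L118857 q6027, e3 q6993 (flp_f L171046) q8425, e3 q6994 (flp_f L171057) q8426, e3 q6995 L172385 q8570, e3 q6996 L118889 q6031, e3 q6997 (flp_f L118892) q5602, e3 q6998 (flp_f L172427) q8575, e3 q6999 (flp_f L172433) q8576, e3 q7000 L118915 q6035, e3 q7001 L118924 q6036, e3 q7002 (flp_f L171111) q8434, e3 q7003 (flp_f L171117) q8435, e3 q7004 (flp_f L171127) q8436, e3 q7005 L172504 q8587, e3 q7006 L118956 q5609, e3 q7007 (flp_f L118959) q5608, e3 q7008 (flp_f L172535) q8591, e3 q7009 (flp_f L172520) q8589, e3 q7010 L118985 q5611, e3 q7011 L118991 q5612, e3 q7012 (flp_f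 L172558) q8594, e3 q7013 (flp_f L172566) q8595, e3 q7014 (flp_f L172576) q8596, e3 q7015 L119024 q6049, e3 q7016 L119036 q6050, e3 q7017 (flp_f L171226) q8449, e3 q7018 L119052 q7018, e3 q7019 L119058 q5619, e3 q7020 L119065 q5620, e3 q7021 L119074 q5621, e3 q7022 (flp_f L172654) q8605, e3 q7023 (flp_f L172663) q8606, e3 q7024 (flp_f L172670) q8607, e3 q7025 (flp_f L172689) q8609, e3 q7026 L119114 q6060, e3 q7027 L119125 q6061, e3 q7028 L119132 q6062, e3 q7029 (flp_f L119300) q5626, e3 q7030 L616784 q6459, e3 q7031 (flp_f L119543) q5629, e3 q7032 L624496 q6455, e3 q7033 L119607 q5632, e3 q7034 L119614 q5633, e3 q7035 (flp_f L616667) q6536, e3 q7036 (flp_f L173482) q8618, e3 q7037 L119645 q7037, e3 q7038 (flp_f L119803) q5636, e3 q7039 (flp_f L173793) q8622, trivial⟩ (by decide +kernel)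

theorem ce_f_110 : ∀ r, r < 64 → sm gf (Qf (7040 + r)) = Qf (tab Gen.f (7040 + r)) :=
  edges_tab (sm gf) Qf (tab Gen.f) 7040 [(7040, 8623), (7041, 6066), (7042, 5639), (7043, 8627), (7044, 5642), (7045, 5643), (7046, 8629), (7047, 8630), (7048, 6073), (7049, 7049), (7050, 5648), (7051, 5649), (7052, 5650), (7053, 8635), (7054, 8636), (7055, 8637), (7056, 8639), (7057, 6082), (7058, 6083), (7059, 6084), (7060, 8648), (7061, 6086), (7062, 5655), (7063, 8652), (7064, 5658), (7065, 5659), (7066, 8654), (7067, 8655), (7068, 6093), (7069, 5662), (7070, 8660), (7071, 8661), (7072, 6097), (7073, 6098), (7074, 5665), (7075, 5666), (7076, 8668), (7077, 8669), (7078, 6103), (7079, 7079), (7080, 5671), (7081, 5672), (7082, 5673), (7083, 8674), (7084, 8675), (7085, 8676), (7086, 8678), (7087, 6112), (7088, 6113), (7089, 6114), (7090, 7090), (7091, 5681), (7092, 5682), (7093, 5683), (7094, 7094), (7095, 5684), (7096, 8689), (7097, 8691), (7098, 8692), (7099, 8694), (7100, 8696), (7101, 6126), (7102, 6127), (7103, 6128)]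
    ⟨e3 q7040 L173863 q8623, e3 q7041 L119883 q6066, e3 q7042 (flp_f L119886) q5639, e3 q7043 (flp_f L173910) q8627, e3 q7044 L120001 q5642, e3 q7045 L120010 q5643, e3 q7046 (flp_f L174065) q8629, e3 q7047 (flp_f L174073) q8630, e3 q7048 L120041 q6073, e3 q7049 L120070 q7049, e3 q7050 L120078 q5648, e3 q7051 L120085 q5649, e3 q7052 L120094 q5650, e3 q7053 (flp_f L174154) q8635, e3 q7054 (flp_f L174163) q8636, e3 q7055 (flp_f L174172) q8637, e3 q7056 (flp_f L174188) q8639, e3 q7057 L120133 q6082, e3 q7058 L120142 q6083, e3 q7059 L120148 q6084, e3 q7060 L174396 q8648, e3 q7061 L120248 q6086, e3 q7062 (flp_f L120251) q5655, e3 q7063 (flp_f L174443) q8652, e3 q7064 L120358 q5658, e3 q7065 L120366 q5659, e3 q7066 (flp_f L174580) q8654, e3 q7067 (flp_f L174589) q8655, e3 q7068 L120402 q6093, e3 q7069 (flp_f L120426) q5662, e3 q7070 (flp_f L174677) q8660, e3 q7071 (flp_f L174682) q8661, e3 q7072 L120449 q6097, e3 q7073 L120458 q6098, e3 q7074 L120467 q5665, e3 q7075 L120475 q5666, e3 q7076 (flp_f L174744) q8668, e3 q7077 (flp_f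 L174751) q8669, e3 q7078 L120505 q6103, e3 q7079 L120580 q7079, e3 q7080 L120588 q5671, e3 q7081 L120596 q5672, e3 q7082 L120605 q5673, e3 q7083 (flp_f L174904) q8674, e3 q7084 (flp_f L174913) q8675, e3 q7085 (flp_f L174919) q8676, e3 q7086 (flp_f L174937) q8678, e3 q7087 L120643 q6112, e3 q7088 L120653 q6113, e3 q7089 L120661 q6114, e3 q7090 L120669 q7090, e3 q7091 L120677 q5681, e3 q7092 L120686 q5682, e3 q7093 L120693 q5683, e3 q7094 L120704 q7094, e3 q7095 L120710 q5684, e3 q7096 (flp_f L175025) q8689, e3 q7097 (flp_f L175042) q8691, e3 q7098 (flp_f L175049) q8692, e3 q7099 (flp_f L175067) q8694, e3 q7100 (flp_f L175083) q8696, e3 q7101 L120756 q6126, e3 q7102 L120766 q6127, e3 q7103 L120775 q6128, trivial⟩ (by decide +kernel)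

theorem ce_f_111 : ∀ r, r < 64 → sm gf (Qf (7104 + r)) = Qf (tab Gen.f (7104 + r)) :=
  edges_tab (sm gf) Qf (tab Gen.f) 7104 [(7104, 8063), (7105, 5693), (7106, 8706), (7107, 5697), (7108, 6509), (7109, 5698), (7110, 8708), (7111, 8057), (7112, 5701), (7113, 8709), (7114, 5708), (7115, 8076), (7116, 6303), (7117, 8068), (7118, 8069), (7119, 5714), (7120, 6300), (7121, 5716), (7122, 8075), (7123, 6510), (7124, 5718), (7125, 8718), (7126, 8719), (7127, 8079), (7128, 8071), (7129, 5723), (7130, 8072), (7131, 5732), (7132, 8724), (7133, 8081), (7134, 7134), (7135, 5734), (7136, 8727), (7137, 7137), (7138, 8728), (7139, 8086), (7140, 5739), (7141, 8090), (7142, 7142), (7143, 7143), (7144, 8092), (7145, 7145), (7146, 8733), (7147, 8095), (7148, 7148), (7149, 7149), (7150, 5747), (7151, 5749), (7152, 8740), (7153, 8741), (7154, 8101), (7155, 8102), (7156, 7156), (7157, 7157), (7158, 5755), (7159, 8747), (7160, 5758), (7161, 8750), (7162, 8105), (7163, 7163), (7164, 5760), (7165, 8756), (7166, 7166), (7167, 8721)]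
    ⟨e3 q7104 (flp_f L643407) q8063, e3 q7105 (flp_f L120903) q5693, e3 q7106 (flp_f L620847) q8706, e3 q7107 (flp_f L120959) q5697, e3 q7108 L620874 q6509, e3 q7109 (flp_f L120977) q5698, e3 q7110 (flp_f L175487) q8708, e3 q7111 (flp_f L640222) q8057, e3 q7112 L121020 q5701, e3 q7113 L175763 q8709, e3 q7114 (flp_f L121194) q5708, e3 q7115 (flp_f L644944) q8076, e3 q7116 (flp_f L621061) q6303, e3 q7117 (flp_f L167392) q8068, e3 q7118 L641573 q8069, e3 q7119 (flp_f L121273) q5714, e3 q7120 (flp_f L625427) q6300, e3 q7121 (flp_f L121300) q5716, e3 q7122 (flp_f L167494) q8075, e3 q7123 L621203 q6510, e3 q7124 L121334 q5718, e3 q7125 (flp_f L176017) q8718, e3 q7126 L176021 q8719, e3 q7127 (flp_f L167541) q8079, e3 q7128 L644784 q8071, e3 q7129 L121393 q5723, e3 q7130 (flp_f L644003) q8072, e3 q7131 (flp_f L121589) q5732, e3 q7132 (flp_f L176399) q8724, e3 q7133 (flp_f L167631) q8081, e3 q7134 L121620 q7134, e3 q7135 L121625 q5734, e3 q7136 (flp_f L176451) q8727, e3 q7137 L121642 q7137, e3 q7138 L176455 q8728, e3 q7139 (flp_f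 L167686) q8086, e3 q7140 L121681 q5739, e3 q7141 (flp_f L167745) q8090, e3 q7142 L121721 q7142, e3 q7143 L121746 q7143, e3 q7144 (flp_f L167784) q8092, e3 q7145 L121760 q7145, e3 q7146 L176671 q8733, e3 q7147 (flp_f L167827) q8095, e3 q7148 L121801 q7148, e3 q7149 L121806 q7149, e3 q7150 L121815 q5747, e3 q7151 (flp_f L121817) q5749, e3 q7152 (flp_f L176730) q8740, e3 q7153 (flp_f L176737) q8741, e3 q7154 (flp_f L167877) q8101, e3 q7155 (flp_f L167887) q8102, e3 q7156 L121856 q7156, e3 q7157 L121865 q7157, e3 q7158 L121949 q5755, e3 q7159 (flp_f L176936) q8747, e3 q7160 (flp_f L122017) q5758, e3 q7161 (flp_f L177051) q8750, e3 q7162 (flp_f L167977) q8105, e3 q7163 L122054 q7163, e3 q7164 L122059 q5760, e3 q7165 (flp_f L177113) q8756, e3 q7166 L122078 q7166, e3 q7167 (flp_f L640383) q8721, trivial⟩ (by decide +kernel)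

theorem ce_f_112 : ∀ r, r < 64 → sm gf (Qf (7168 + r)) = Qf (tab Gen.f (7168 + r)) :=
  edges_tab (sm gf) Qf (tab Gen.f) 7168 [(7168, 8111), (7169, 7169), (7170, 7170), (7171, 5765), (7172, 8759), (7173, 5767), (7174, 8763), (7175, 8118), (7176, 7176), (7177, 5769), (7178, 8770), (7179, 7179), (7180, 8122), (7181, 7181), (7182, 5772), (7183, 8775), (7184, 8776), (7185, 8779), (7186, 8128), (7187, 7187), (7188, 7188), (7189, 5776), (7190, 5778), (7191, 8746), (7192, 8786), (7193, 8135), (7194, 8136), (7195, 7195), (7196, 7196), (7197, 7197), (7198, 5828), (7199, 5786), (7200, 8139), (7201, 5831), (7202, 5789), (7203, 8800), (7204, 8801), (7205, 8145), (7206, 5836), (7207, 5837), (7208, 5793), (7209, 5795), (7210, 8808), (7211, 8809), (7212, 8152), (7213, 8153), (7214, 5844), (7215, 5845), (7216, 5800), (7217, 8815), (7218, 8158), (7219, 5849), (7220, 5802), (7221, 8822), (7222, 8823), (7223, 8825), (7224, 8164), (7225, 5855), (7226, 5856), (7227, 5806), (7228, 8168), (7229, 8834), (7230, 8170), (7231, 5861)]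
    ⟨e3 q7168 (flp_f L168036) q8111, e3 q7169 L122108 q7169, e3 q7170 L122118 q7170, e3 q7171 L122126 q5765, e3 q7172 L177183 q8759, e3 q7173 (flp_f L122142) q5767, e3 q7174 (flp_f L177227) q8763, e3 q7175 (flp_f L168111) q8118, e3 q7176 L122175 q7176, e3 q7177 L122181 q5769, e3 q7178 (flp_f L177291) q8770, e3 q7179 L122202 q7179, e3 q7180 (flp_f L168157) q8122, e3 q7181 L122222 q7181, e3 q7182 L122229 q5772, e3 q7183 (flp_f L177345) q8775, e3 q7184 (flp_f L177358) q8776, e3 q7185 L177382 q8779, e3 q7186 (flp_f L168208) q8128, e3 q7187 L122272 q7187, e3 q7188 L122279 q7188, e3 q7189 L122288 q5776, e3 q7190 (flp_f L122292) q5778, e3 q7191 (flp_f L641140) q8746, e3 q7192 (flp_f L177450) q8786, e3 q7193 (flp_f L168265) q8135, e3 q7194 (flp_f L168276) q8136, e3 q7195 L122336 q7195, e3 q7196 L122348 q7196, e3 q7197 L122464 q7197, e3 q7198 L122478 q5828, e3 q7199 L122490 q5786, e3 q7200 (flp_f L168388) q8139, e3 q7201 L122585 q5831, e3 q7202 L122593 q5789, e3 q7203 (flp_f L177897) q8800, e3 q7204 L177917 q8801, e3 q7205 (flp_f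 L168443) q8145, e3 q7206 L122633 q5836, e3 q7207 L122641 q5837, e3 q7208 L122649 q5793, e3 q7209 (flp_f L122653) q5795, e3 q7210 (flp_f L177978) q8808, e3 q7211 (flp_f L177989) q8809, e3 q7212 (flp_f L168505) q8152, e3 q7213 (flp_f L168515) q8153, e3 q7214 L122697 q5844, e3 q7215 L122706 q5845, e3 q7216 (flp_f L122712) q5800, e3 q7217 (flp_f L178062) q8815, e3 q7218 (flp_f L168566) q8158, e3 q7219 L122744 q5849, e3 q7220 L122752 q5802, e3 q7221 (flp_f L178129) q8822, e3 q7222 (flp_f L178140) q8823, e3 q7223 L178160 q8825, e3 q7224 (flp_f L168616) q8164, e3 q7225 L122792 q5855, e3 q7226 L122799 q5856, e3 q7227 L122810 q5806, e3 q7228 (flp_f L168647) q8168, e3 q7229 L178230 q8834, e3 q7230 (flp_f L168666) q8170, e3 q7231 L122842 q5861, trivial⟩ (by decide +kernel)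

theorem ce_f_113 : ∀ r, r < 64 → sm gf (Qf (7232 + r)) = Qf (tab Gen.f (7232 + r)) :=
  edges_tab (sm gf) Qf (tab Gen.f) 7232 [(7232, 5862), (7233, 5811), (7234, 5812), (7235, 8844), (7236, 8843), (7237, 5813), (7238, 8846), (7239, 8847), (7240, 8180), (7241, 8181), (7242, 5872), (7243, 5873), (7244, 5819), (7245, 5820), (7246, 8855), (7247, 8856), (7248, 8857), (7249, 8189), (7250, 8190), (7251, 5881), (7252, 8048), (7253, 7253), (7254, 7254), (7255, 8024), (7256, 8794), (7257, 8192), (7258, 8872), (7259, 8194), (7260, 8798), (7261, 8799), (7262, 5833), (7263, 5834), (7264, 8879), (7265, 8880), (7266, 8203), (7267, 8204), (7268, 8806), (7269, 8807), (7270, 5840), (7271, 5841), (7272, 8888), (7273, 8889), (7274, 8890), (7275, 8212), (7276, 8213), (7277, 8812), (7278, 8215), (7279, 8814), (7280, 5847), (7281, 8903), (7282, 8220), (7283, 8906), (7284, 8222), (7285, 8820), (7286, 8821), (7287, 5851), (7288, 5852), (7289, 8915), (7290, 5853), (7291, 8916), (7292, 8917), (7293, 8232), (7294, 8233), (7295, 8830)]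
    ⟨e3 q7232 L122850 q5862, e3 q7233 L122858 q5811, e3 q7234 L122869 q5812, e3 q7235 L178315 q8844, e3 q7236 (flp_f L178313) q8843, e3 q7237 (flp_f L122889) q5813, e3 q7238 (flp_f L178346) q8846, e3 q7239 (flp_f L178354) q8847, e3 q7240 (flp_f L168745) q8180, e3 q7241 (flp_f L168753) q8181, e3 q7242 L122924 q5872, e3 q7243 L122934 q5873, e3 q7244 L122945 q5819, e3 q7245 L122954 q5820, e3 q7246 (flp_f L178412) q8855, e3 q7247 (flp_f L178419) q8856, e3 q7248 (flp_f L178428) q8857, e3 q7249 (flp_f L168817) q8189, e3 q7250 (flp_f L168826) q8190, e3 q7251 L122998 q5881, e3 q7252 (flp_f L640931) q8048, e3 q7253 L123187 q7253, e3 q7254 L123198 q7254, e3 q7255 (flp_f L642987) q8024, e3 q7256 (flp_f L177719) q8794, e3 q7257 (flp_f L168958) q8192, e3 q7258 L179008 q8872, e3 q7259 (flp_f L168983) q8194, e3 q7260 (flp_f L177869) q8798, e3 q7261 (flp_f L177879) q8799, e3 q7262 L123391 q5833, e3 q7263 (flp_f L123410) q5834, e3 q7264 (flp_f L179124) q8879, e3 q7265 (flp_f L179132) q8880, e3 q7266 (flp_f L169072) q8203, e3 q7267 (flp_f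 L169083) q8204, e3 q7268 (flp_f L177957) q8806, e3 q7269 (flp_f L177965) q8807, e3 q7270 L123471 q5840, e3 q7271 L123480 q5841, e3 q7272 (flp_f L179194) q8888, e3 q7273 (flp_f L179201) q8889, e3 q7274 (flp_f L179209) q8890, e3 q7275 (flp_f L169156) q8212, e3 q7276 (flp_f L169168) q8213, e3 q7277 (flp_f L178031) q8812, e3 q7278 (flp_f L169190) q8215, e3 q7279 (flp_f L178053) q8814, e3 q7280 L123556 q5847, e3 q7281 (flp_f L179333) q8903, e3 q7282 (flp_f L169232) q8220, e3 q7283 L179380 q8906, e3 q7284 (flp_f L169253) q8222, e3 q7285 (flp_f L178113) q8820, e3 q7286 (flp_f L178121) q8821, e3 q7287 L123622 q5851, e3 q7288 L123634 q5852, e3 q7289 (flp_f L179460) q8915, e3 q7290 (flp_f L123653) q5853, e3 q7291 (flp_f L179493) q8916, e3 q7292 (flp_f L179500) q8917, e3 q7293 (flp_f L169335) q8232, e3 q7294 (flp_f L169346) q8233, e3 q7295 (flp_f L178201) q8830, trivial⟩ (by decide +kernel)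

theorem ce_f_114 : ∀ r, r < 64 → sm gf (Qf (7296 + r)) = Qf (tab Gen.f (7296 + r)) :=
  edges_tab (sm gf) Qf (tab Gen.f) 7296 [(7296, 8831), (7297, 8924), (7298, 8237), (7299, 5859), (7300, 8929), (7301, 8930), (7302, 8241), (7303, 8242), (7304, 8839), (7305, 8840), (7306, 8841), (7307, 8941), (7308, 5866), (7309, 5865), (7310, 8944), (7311, 5868), (7312, 5869), (7313, 8946), (7314, 8947), (7315, 8948), (7316, 8256), (7317, 8257), (7318, 8853), (7319, 7319), (7320, 5876), (7321, 5877), (7322, 5878), (7323, 8957), (7324, 8958), (7325, 8959), (7326, 8961), (7327, 8267), (7328, 8268), (7329, 8269), (7330, 8970), (7331, 5882), (7332, 8973), (7333, 8289), (7334, 7334), (7335, 5884), (7336, 8979), (7337, 7337), (7338, 8294), (7339, 7339), (7340, 5887), (7341, 8985), (7342, 8986), (7343, 8988), (7344, 8300), (7345, 7345), (7346, 7346), (7347, 5891), (7348, 5893), (7349, 8745), (7350, 8790), (7351, 8307), (7352, 8308), (7353, 7353), (7354, 7354), (7355, 5898), (7356, 8313), (7357, 7357), (7358, 5900), (7359, 9005)]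
    ⟨e3 q7296 (flp_f L178212) q8831, e3 q7297 L179555 q8924, e3 q7298 (flp_f L169378) q8237, e3 q7299 (flp_f L123727) q5859, e3 q7300 (flp_f L179602) q8929, e3 q7301 (flp_f L179610) q8930, e3 q7302 (flp_f L169412) q8241, e3 q7303 (flp_f L169423) q8242, e3 q7304 (flp_f L178274) q8839, e3 q7305 (flp_f L178282) q8840, e3 q7306 (flp_f L178295) q8841, e3 q7307 L179695 q8941, e3 q7308 L123807 q5866, e3 q7309 (flp_f L123810) q5865, e3 q7310 (flp_f L179735) q8944, e3 q7311 L123839 q5868, e3 q7312 L123845 q5869, e3 q7313 (flp_f L179758) q8946, e3 q7314 (flp_f L179766) q8947, e3 q7315 (flp_f L179773) q8948, e3 q7316 (flp_f L169529) q8256, e3 q7317 (flp_f L169539) q8257, e3 q7318 (flp_f L178394) q8853, e3 q7319 L123899 q7319, e3 q7320 L123905 q5876, e3 q7321 L123912 q5877, e3 q7322 L123920 q5878, e3 q7323 (flp_f L179839) q8957, e3 q7324 (flp_f L179849) q8958, e3 q7325 (flp_f L179856) q8959, e3 q7326 (flp_f L179871) q8961, e3 q7327 (flp_f L169620) q8267, e3 q7328 (flp_f L169631) q8268, e3 q7329 (flp_f L169637) q8269, e3 q7330 L179941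 q8970, e3 q7331 (flp_f L123989) q5882, e3 q7332 (flp_f L179987) q8973, e3 q7333 (flp_f L169841) q8289, e3 q7334 L124029 q7334, e3 q7335 L124035 q5884, e3 q7336 (flp_f L180058) q8979, e3 q7337 L124059 q7337, e3 q7338 (flp_f L169894) q8294, e3 q7339 L124081 q7339, e3 q7340 L124086 q5887, e3 q7341 (flp_f L180109) q8985, e3 q7342 (flp_f L180120) q8986, e3 q7343 L180142 q8988, e3 q7344 (flp_f L169944) q8300, e3 q7345 L124130 q7345, e3 q7346 L124139 q7346, e3 q7347 L124148 q5891, e3 q7348 (flp_f L124154) q5893, e3 q7349 L641091 q8745, e3 q7350 (flp_f L641310) q8790, e3 q7351 (flp_f L170005) q8307, e3 q7352 (flp_f L170015) q8308, e3 q7353 L124197 q7353, e3 q7354 L124207 q7354, e3 q7355 (flp_f L124212) q5898, e3 q7356 (flp_f L170063) q8313, e3 q7357 L124245 q7357, e3 q7358 L124252 q5900, e3 q7359 (flp_f L180379) q9005, trivial⟩ (by decide +kernel)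

theorem ce_f_115 : ∀ r, r < 64 → sm gf (Qf (7360 + r)) = Qf (tab Gen.f (7360 + r)) :=
  edges_tab (sm gf) Qf (tab Gen.f) 7360 [(7360, 9006), (7361, 8319), (7362, 7362), (7363, 7363), (7364, 5904), (7365, 8323), (7366, 9015), (7367, 8325), (7368, 7368), (7369, 7369), (7370, 5909), (7371, 5910), (7372, 9025), (7373, 9024), (7374, 5911), (7375, 9027), (7376, 9028), (7377, 8335), (7378, 8336), (7379, 7379), (7380, 7380), (7381, 5917), (7382, 5918), (7383, 9036), (7384, 9037), (7385, 9038), (7386, 8344), (7387, 8345), (7388, 7388), (7389, 5923), (7390, 8374), (7391, 5984), (7392, 5925), (7393, 9053), (7394, 9054), (7395, 8380), (7396, 5989), (7397, 5990), (7398, 5929), (7399, 8384), (7400, 9063), (7401, 8386), (7402, 5995), (7403, 5996), (7404, 5934), (7405, 5935), (7406, 9072), (7407, 5936), (7408, 9073), (7409, 9074), (7410, 8396), (7411, 8397), (7412, 6005), (7413, 6006), (7414, 5942), (7415, 5943), (7416, 9082), (7417, 9083), (7418, 9084), (7419, 8405), (7420, 8406), (7421, 6014), (7422, 8408), (7423, 6016)]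
    ⟨e3 q7360 L180405 q9006, e3 q7361 (flp_f L170118) q8319, e3 q7362 L124300 q7362, e3 q7363 L124308 q7363, e3 q7364 L124320 q5904, e3 q7365 (flp_f L170153) q8323, e3 q7366 L180486 q9015, e3 q7367 (flp_f L170171) q8325, e3 q7368 L124351 q7368, e3 q7369 L124358 q7369, e3 q7370 L124363 q5909, e3 q7371 L124375 q5910, e3 q7372 L180562 q9025, e3 q7373 (flp_f L180558) q9024, e3 q7374 (flp_f L124397) q5911, e3 q7375 (flp_f L180594) q9027, e3 q7376 (flp_f L180601) q9028, e3 q7377 (flp_f L170252) q8335, e3 q7378 (flp_f L170264) q8336, e3 q7379 L124441 q7379, e3 q7380 L124454 q7380, e3 q7381 L124462 q5917, e3 q7382 L124468 q5918, e3 q7383 (flp_f L180669) q9036, e3 q7384 (flp_f L180676) q9037, e3 q7385 (flp_f L180683) q9038, e3 q7386 (flp_f L170328) q8344, e3 q7387 (flp_f L170339) q8345, e3 q7388 L124516 q7388, e3 q7389 (flp_f L124521) q5923, e3 q7390 (flp_f L170597) q8374, e3 q7391 L124555 q5984, e3 q7392 L124563 q5925, e3 q7393 (flp_f L180851) q9053, e3 q7394 L180873 q9054, e3 q7395 (flp_f L170654) q8380, e3 q7396 L124608 q5989,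 e3 q7397 L124617 q5990, e3 q7398 L124628 q5929, e3 q7399 (flp_f L170687) q8384, e3 q7400 L180954 q9063, e3 q7401 (flp_f L170707) q8386, e3 q7402 L124659 q5995, e3 q7403 L124667 q5996, e3 q7404 L124673 q5934, e3 q7405 L124682 q5935, e3 q7406 (flp_f L181025) q9072, e3 q7407 (flp_f L124700) q5936, e3 q7408 (flp_f L181055) q9073, e3 q7409 (flp_f L181065) q9074, e3 q7410 (flp_f L170784) q8396, e3 q7411 (flp_f L170793) q8397, e3 q7412 L124744 q6005, e3 q7413 L124754 q6006, e3 q7414 L124766 q5942, e3 q7415 L124775 q5943, e3 q7416 (flp_f L181128) q9082, e3 q7417 (flp_f L181135) q9083, e3 q7418 (flp_f L181143) q9084, e3 q7419 (flp_f L170859) q8405, e3 q7420 (flp_f L170867) q8406, e3 q7421 L124815 q6014, e3 q7422 (flp_f L170883) q8408, e3 q7423 L124833 q6016, trivial⟩ (by decide +kernel)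

theorem ce_f_116 : ∀ r, r < 64 → sm gf (Qf (7424 + r)) = Qf (tab Gen.f (7424 + r)) :=
  edges_tab (sm gf) Qf (tab Gen.f) 7424 [(7424, 8412), (7425, 9095), (7426, 8414), (7427, 6020), (7428, 6021), (7429, 5952), (7430, 5953), (7431, 9102), (7432, 9103), (7433, 8423), (7434, 8424), (7435, 6028), (7436, 6029), (7437, 9110), (7438, 8428), (7439, 5959), (7440, 9115), (7441, 9116), (7442, 8432), (7443, 8433), (7444, 6037), (7445, 6038), (7446, 6039), (7447, 9127), (7448, 5966), (7449, 5965), (7450, 9130), (7451, 5968), (7452, 5969), (7453, 9132), (7454, 9133), (7455, 9134), (7456, 8447), (7457, 8448), (7458, 6051), (7459, 9035), (7460, 5976), (7461, 5977), (7462, 5978), (7463, 9143), (7464, 9144), (7465, 9145), (7466, 9147), (7467, 8458), (7468, 8459), (7469, 8460), (7470, 8492), (7471, 9047), (7472, 9158), (7473, 8497), (7474, 9051), (7475, 9052), (7476, 5986), (7477, 5987), (7478, 9165), (7479, 9166), (7480, 8506), (7481, 9059), (7482, 9060), (7483, 9170), (7484, 8510), (7485, 5993), (7486, 9175), (7487, 9176)]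
    ⟨e3 q7424 (flp_f L170920) q8412, e3 q7425 L181289 q9095, e3 q7426 (flp_f L170940) q8414, e3 q7427 L124888 q6020, e3 q7428 L124896 q6021, e3 q7429 L124916 q5952, e3 q7430 (flp_f L124938) q5953, e3 q7431 (flp_f L181413) q9102, e3 q7432 (flp_f L181422) q9103, e3 q7433 (flp_f L171028) q8423, e3 q7434 (flp_f L171039) q8424, e3 q7435 L124983 q6028, e3 q7436 L124996 q6029, e3 q7437 L181479 q9110, e3 q7438 (flp_f L171071) q8428, e3 q7439 (flp_f L125012) q5959, e3 q7440 (flp_f L181513) q9115, e3 q7441 (flp_f L181521) q9116, e3 q7442 (flp_f L171097) q8432, e3 q7443 (flp_f L171105) q8433, e3 q7444 L125044 q6037, e3 q7445 L125050 q6038, e3 q7446 L125062 q6039, e3 q7447 L181591 q9127, e3 q7448 L125078 q5966, e3 q7449 (flp_f L125080) q5965, e3 q7450 (flp_f L181625) q9130, e3 q7451 L125109 q5968, e3 q7452 L125117 q5969, e3 q7453 (flp_f L181650) q9132, e3 q7454 (flp_f L181658) q9133, e3 q7455 (flp_f L181667) q9134, e3 q7456 (flp_f L171209) q8447, e3 q7457 (flp_f L171219) q8448, e3 q7458 L125163 q6051, e3 q7459 (flp_f L180663) q9035,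 e3 q7460 L125178 q5976, e3 q7461 L125185 q5977, e3 q7462 L125193 q5978, e3 q7463 (flp_f L181733) q9143, e3 q7464 (flp_f L181743) q9144, e3 q7465 (flp_f L181750) q9145, e3 q7466 (flp_f L181766) q9147, e3 q7467 (flp_f L171296) q8458, e3 q7468 (flp_f L171305) q8459, e3 q7469 (flp_f L171311) q8460, e3 q7470 (flp_f L171640) q8492, e3 q7471 (flp_f L180761) q9047, e3 q7472 L181933 q9158, e3 q7473 (flp_f L171704) q8497, e3 q7474 (flp_f L180822) q9051, e3 q7475 (flp_f L180832) q9052, e3 q7476 L125350 q5986, e3 q7477 (flp_f L125371) q5987, e3 q7478 (flp_f L182057) q9165, e3 q7479 (flp_f L182066) q9166, e3 q7480 (flp_f L171808) q8506, e3 q7481 (flp_f L180923) q9059, e3 q7482 (flp_f L180934) q9060, e3 q7483 L182127 q9170, e3 q7484 (flp_f L171844) q8510, e3 q7485 (flp_f L125456) q5993, e3 q7486 (flp_f L182172) q9175, e3 q7487 (flp_f L182180) q9176, trivial⟩ (by decide +kernel)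

theorem ce_f_117 : ∀ r, r < 64 → sm gf (Qf (7488 + r)) = Qf (tab Gen.f (7488 + r)) :=
  edges_tab (sm gf) Qf (tab Gen.f) 7488 [(7488, 8514), (7489, 8515), (7490, 9068), (7491, 9069), (7492, 9070), (7493, 8545), (7494, 5999), (7495, 6001), (7496, 6002), (7497, 9189), (7498, 9190), (7499, 9191), (7500, 8529), (7501, 8530), (7502, 9080), (7503, 7503), (7504, 6009), (7505, 6010), (7506, 6011), (7507, 9199), (7508, 9200), (7509, 9201), (7510, 9203), (7511, 8540), (7512, 8541), (7513, 8542), (7514, 8543), (7515, 9214), (7516, 9092), (7517, 9216), (7518, 8550), (7519, 6018), (7520, 9221), (7521, 9222), (7522, 8554), (7523, 8555), (7524, 9100), (7525, 9101), (7526, 6024), (7527, 6025), (7528, 9230), (7529, 9231), (7530, 9232), (7531, 8567), (7532, 8568), (7533, 9109), (7534, 6030), (7535, 9240), (7536, 9241), (7537, 8573), (7538, 8574), (7539, 6033), (7540, 6034), (7541, 9249), (7542, 9250), (7543, 9251), (7544, 8580), (7545, 9260), (7546, 8582), (7547, 9123), (7548, 9124), (7549, 9265), (7550, 9126), (7551, 6040)]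
    ⟨e3 q7488 (flp_f L171874) q8514, e3 q7489 (flp_f L171883) q8515, e3 q7490 (flp_f L180992) q9068, e3 q7491 (flp_f L180998) q9069, e3 q7492 (flp_f L181009) q9070, e3 q7493 (flp_f L553295) q8545, e3 q7494 L125524 q5999, e3 q7495 L125553 q6001, e3 q7496 L125561 q6002, e3 q7497 (flp_f L182307) q9189, e3 q7498 (flp_f L182315) q9190, e3 q7499 (flp_f L182323) q9191, e3 q7500 (flp_f L171985) q8529, e3 q7501 (flp_f L171996) q8530, e3 q7502 (flp_f L181109) q9080, e3 q7503 L125622 q7503, e3 q7504 L125626 q6009, e3 q7505 L125633 q6010, e3 q7506 L125640 q6011, e3 q7507 (flp_f L182397) q9199, e3 q7508 (flp_f L182406) q9200, e3 q7509 (flp_f L182415) q9201, e3 q7510 (flp_f L182430) q9203, e3 q7511 (flp_f L172077) q8540, e3 q7512 (flp_f L172087) q8541, e3 q7513 (flp_f L172093) q8542, e3 q7514 (flp_f L172104) q8543, e3 q7515 L182520 q9214, e3 q7516 (flp_f L181222) q9092, e3 q7517 L182642 q9216, e3 q7518 (flp_f L172192) q8550, e3 q7519 (flp_f L125796) q6018, e3 q7520 (flp_f L182693) q9221, e3 q7521 (flp_f L182701) q9222, e3 q7522 (flp_f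 L172226) q8554, e3 q7523 (flp_f L172237) q8555, e3 q7524 (flp_f L181333) q9100, e3 q7525 (flp_f L181355) q9101, e3 q7526 L125916 q6024, e3 q7527 L125923 q6025, e3 q7528 (flp_f L182863) q9230, e3 q7529 (flp_f L182872) q9231, e3 q7530 (flp_f L182881) q9232, e3 q7531 (flp_f L172360) q8567, e3 q7532 (flp_f L172373) q8568, e3 q7533 (flp_f L181475) q9109, e3 q7534 (flp_f L125984) q6030, e3 q7535 (flp_f L182965) q9240, e3 q7536 (flp_f L182971) q9241, e3 q7537 (flp_f L172410) q8573, e3 q7538 (flp_f L172420) q8574, e3 q7539 L126023 q6033, e3 q7540 L126029 q6034, e3 q7541 (flp_f L183024) q9249, e3 q7542 (flp_f L183030) q9250, e3 q7543 (flp_f L183036) q9251, e3 q7544 (flp_f L172460) q8580, e3 q7545 L183089 q9260, e3 q7546 (flp_f L172474) q8582, e3 q7547 (flp_f L181557) q9123, e3 q7548 (flp_f L181569) q9124, e3 q7549 L183122 q9265, e3 q7550 (flp_f L181587) q9126, e3 q7551 (flp_f L126099) q6040, trivial⟩ (by decide +kernel)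

theorem ce_f_118 : ∀ r, r < 64 → sm gf (Qf (7552 + r)) = Qf (tab Gen.f (7552 + r)) :=
  edges_tab (sm gf) Qf (tab Gen.f) 7552 [(7552, 9268), (7553, 9129), (7554, 6043), (7555, 7555), (7556, 6046), (7557, 6047), (7558, 6048), (7559, 9272), (7560, 9273), (7561, 9274), (7562, 9276), (7563, 8601), (7564, 8602), (7565, 8603), (7566, 7566), (7567, 6056), (7568, 6057), (7569, 6058), (7570, 6254), (7571, 6059), (7572, 9287), (7573, 9289), (7574, 9290), (7575, 9292), (7576, 9294), (7577, 8615), (7578, 8616), (7579, 8617), (7580, 6064), (7581, 6065), (7582, 9306), (7583, 9307), (7584, 8626), (7585, 6068), (7586, 7586), (7587, 6071), (7588, 6072), (7589, 9312), (7590, 9313), (7591, 8633), (7592, 7592), (7593, 6078), (7594, 6079), (7595, 6080), (7596, 7596), (7597, 6081), (7598, 9320), (7599, 9322), (7600, 9323), (7601, 9325), (7602, 9327), (7603, 8645), (7604, 8646), (7605, 8647), (7606, 6085), (7607, 9338), (7608, 9339), (7609, 8651), (7610, 6088), (7611, 7611), (7612, 6091), (7613, 6092), (7614, 9344), (7615, 9345)]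
    ⟨e3 q7552 (flp_f L183158) q9268, e3 q7553 (flp_f L181619) q9129, e3 q7554 L126134 q6043, e3 q7555 L126152 q7555, e3 q7556 L126157 q6046, e3 q7557 L126165 q6047, e3 q7558 L126173 q6048, e3 q7559 (flp_f L183208) q9272, e3 q7560 (flp_f L183218) q9273, e3 q7561 (flp_f L183224) q9274, e3 q7562 (flp_f L183242) q9276, e3 q7563 (flp_f L172618) q8601, e3 q7564 (flp_f L172630) q8602, e3 q7565 (flp_f L172638) q8603, e3 q7566 L126241 q7566, e3 q7567 L126247 q6056, e3 q7568 L126256 q6057, e3 q7569 L126263 q6058, e3 q7570 L126272 q6254, e3 q7571 L126279 q6059, e3 q7572 (flp_f L183336) q9287, e3 q7573 (flp_f L183356) q9289, e3 q7574 (flp_f L183362) q9290, e3 q7575 (flp_f L183380) q9292, e3 q7576 (flp_f L183392) q9294, e3 q7577 (flp_f L172737) q8615, e3 q7578 (flp_f L172748) q8616, e3 q7579 (flp_f L172757) q8617, e3 q7580 L126588 q6064, e3 q7581 (flp_f L126656) q6065, e3 q7582 (flp_f L183950) q9306, e3 q7583 (flp_f L183957) q9307, e3 q7584 (flp_f L173899) q8626, e3 q7585 L126700 q6068, e3 q7586 L126833 q7586, e3 q7587 L126839 q6071,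 e3 q7588 L126847 q6072, e3 q7589 (flp_f L184195) q9312, e3 q7590 (flp_f L184212) q9313, e3 q7591 (flp_f L174120) q8633, e3 q7592 L126916 q7592, e3 q7593 L126922 q6078, e3 q7594 L126931 q6079, e3 q7595 L126940 q6080, e3 q7596 L126947 q7596, e3 q7597 L126953 q6081, e3 q7598 (flp_f L184306) q9320, e3 q7599 (flp_f L184323) q9322, e3 q7600 (flp_f L184330) q9323, e3 q7601 (flp_f L184344) q9325, e3 q7602 (flp_f L184356) q9327, e3 q7603 (flp_f L174230) q8645, e3 q7604 (flp_f L174239) q8646, e3 q7605 (flp_f L174247) q8647, e3 q7606 (flp_f L127102) q6085, e3 q7607 (flp_f L184575) q9338, e3 q7608 (flp_f L184581) q9339, e3 q7609 (flp_f L174433) q8651, e3 q7610 L127147 q6088, e3 q7611 L127219 q7611, e3 q7612 L127226 q6091, e3 q7613 L127235 q6092, e3 q7614 (flp_f L184732) q9344, e3 q7615 (flp_f L184750) q9345, trivial⟩ (by decide +kernel)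

theorem ce_f_119 : ∀ r, r < 64 → sm gf (Qf (7616 + r)) = Qf (tab Gen.f (7616 + r)) :=
  edges_tab (sm gf) Qf (tab Gen.f) 7616 [(7616, 8658), (7617, 6470), (7618, 6095), (7619, 6096), (7620, 9353), (7621, 9354), (7622, 9355), (7623, 8665), (7624, 8666), (7625, 7625), (7626, 6101), (7627, 6102), (7628, 9363), (7629, 9364), (7630, 8672), (7631, 7631), (7632, 6108), (7633, 6109), (7634, 6110), (7635, 6277), (7636, 6111), (7637, 9371), (7638, 9373), (7639, 9374), (7640, 9376), (7641, 9378), (7642, 8684), (7643, 8685), (7644, 8686), (7645, 7645), (7646, 7646), (7647, 6121), (7648, 6124), (7649, 6122), (7650, 6123), (7651, 6125), (7652, 9377), (7653, 9291), (7654, 9388), (7655, 9372), (7656, 9288), (7657, 8703), (7658, 8704), (7659, 8705), (7660, 7660), (7661, 7661), (7662, 6132), (7663, 8009), (7664, 7664), (7665, 7665), (7666, 7666), (7667, 7667), (7668, 8008), (7669, 7669), (7670, 7670), (7671, 7671), (7672, 7672), (7673, 7673), (7674, 9411), (7675, 6146), (7676, 6145), (7677, 9414), (7678, 6149), (7679, 8015)]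
    ⟨e3 q7616 (flp_f L174642) q8658, e3 q7617 L127311 q6470, e3 q7618 L127318 q6095, e3 q7619 L127323 q6096, e3 q7620 (flp_f L184865) q9353, e3 q7621 (flp_f L184872) q9354, e3 q7622 (flp_f L184879) q9355, e3 q7623 (flp_f L174708) q8665, e3 q7624 (flp_f L174726) q8666, e3 q7625 L127367 q7625, e3 q7626 L127374 q6101, e3 q7627 L127381 q6102, e3 q7628 (flp_f L184945) q9363, e3 q7629 (flp_f L184961) q9364, e3 q7630 (flp_f L174805) q8672, e3 q7631 L127448 q7631, e3 q7632 L127455 q6108, e3 q7633 L127464 q6109, e3 q7634 L127470 q6110, e3 q7635 L127477 q6277, e3 q7636 L127485 q6111, e3 q7637 (flp_f L185056) q9371, e3 q7638 (flp_f L185075) q9373, e3 q7639 (flp_f L185081) q9374, e3 q7640 (flp_f L185095) q9376, e3 q7641 (flp_f L185110) q9378, e3 q7642 (flp_f L174983) q8684, e3 q7643 (flp_f L174993) q8685, e3 q7644 (flp_f L175001) q8686, e3 q7645 L127555 q7645, e3 q7646 L127563 q7646, e3 q7647 L127569 q6121, e3 q7648 (flp_f L647225) q6124, e3 q7649 L127587 q6122, e3 q7650 L127594 q6123, e3 q7651 L127622 q6125, e3 q7652 (flp_f L646557)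 q9377, e3 q7653 (flp_f L646529) q9291, e3 q7654 (flp_f L185253) q9388, e3 q7655 (flp_f L647037) q9372, e3 q7656 L647252 q9288, e3 q7657 (flp_f L175141) q8703, e3 q7658 (flp_f L175149) q8704, e3 q7659 (flp_f L175155) q8705, e3 q7660 L127777 q7660, e3 q7661 L127798 q7661, e3 q7662 L127817 q6132, e3 q7663 (flp_f L648170) q8009, e3 q7664 L127875 q7664, e3 q7665 L127886 q7665, e3 q7666 L127895 q7666, e3 q7667 L127905 q7667, e3 q7668 (flp_f L647964) q8008, e3 q7669 L127957 q7669, e3 q7670 L127967 q7670, e3 q7671 L127976 q7671, e3 q7672 L127984 q7672, e3 q7673 L127994 q7673, e3 q7674 L185847 q9411, e3 q7675 L128010 q6146, e3 q7676 (flp_f L128014) q6145, e3 q7677 (flp_f L185884) q9414, e3 q7678 L128054 q6149, e3 q7679 (flp_f L647954) q8015, trivial⟩ (by decide +kernel)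

theorem ce_f_120 : ∀ r, r < 64 → sm gf (Qf (7680 + r)) = Qf (tab Gen.f (7680 + r)) :=
  edges_tab (sm gf) Qf (tab Gen.f) 7680 [(7680, 9415), (7681, 9416), (7682, 7682), (7683, 7683), (7684, 7684), (7685, 6156), (7686, 6157), (7687, 6158), (7688, 9424), (7689, 9425), (7690, 9426), (7691, 9428), (7692, 7692), (7693, 7693), (7694, 7694), (7695, 8045), (7696, 7696), (7697, 7697), (7698, 6213), (7699, 6214), (7700, 6170), (7701, 8037), (7702, 9441), (7703, 9442), (7704, 7704), (7705, 7705), (7706, 6222), (7707, 7707), (7708, 7708), (7709, 6179), (7710, 8034), (7711, 8234), (7712, 9453), (7713, 7713), (7714, 9461), (7715, 7715), (7716, 6231), (7717, 6232), (7718, 9466), (7719, 6234), (7720, 6185), (7721, 9469), (7722, 6237), (7723, 6188), (7724, 6191), (7725, 6192), (7726, 6193), (7727, 9472), (7728, 9473), (7729, 9474), (7730, 9476), (7731, 7731), (7732, 7732), (7733, 7733), (7734, 8029), (7735, 6201), (7736, 6202), (7737, 6203), (7738, 9146), (7739, 6204), (7740, 9486), (7741, 9487), (7742, 9488), (7743, 9490)]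
    ⟨e3 q7680 (flp_f L185921) q9415, e3 q7681 (flp_f L185930) q9416, e3 q7682 L128085 q7682, e3 q7683 L128095 q7683, e3 q7684 L128102 q7684, e3 q7685 L128123 q6156, e3 q7686 L128130 q6157, e3 q7687 L128139 q6158, e3 q7688 (flp_f L186004) q9424, e3 q7689 (flp_f L186014) q9425, e3 q7690 (flp_f L186022) q9426, e3 q7691 (flp_f L186038) q9428, e3 q7692 L128179 q7692, e3 q7693 L128189 q7693, e3 q7694 L128195 q7694, e3 q7695 (flp_f L648064) q8045, e3 q7696 L128344 q7696, e3 q7697 L128353 q7697, e3 q7698 L128361 q6213, e3 q7699 L128381 q6214, e3 q7700 L128443 q6170, e3 q7701 L648095 q8037, e3 q7702 (flp_f L186506) q9441, e3 q7703 (flp_f L186517) q9442, e3 q7704 L128477 q7704, e3 q7705 L128486 q7705, e3 q7706 L128492 q6222, e3 q7707 L128526 q7707, e3 q7708 L128535 q7708, e3 q7709 L128554 q6179, e3 q7710 (flp_f L645378) q8034, e3 q7711 L642671 q8234, e3 q7712 (flp_f L186669) q9453, e3 q7713 L128583 q7713, e3 q7714 L186725 q9461, e3 q7715 L128596 q7715, e3 q7716 L128600 q6231, e3 q7717 L128611 q6232, e3 q7718 L186759 q9466, e3 q7719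 L128628 q6234, e3 q7720 (flp_f L128632) q6185, e3 q7721 (flp_f L186795) q9469, e3 q7722 L128658 q6237, e3 q7723 L128664 q6188, e3 q7724 L128690 q6191, e3 q7725 L128698 q6192, e3 q7726 L128708 q6193, e3 q7727 (flp_f L186849) q9472, e3 q7728 (flp_f L186860) q9473, e3 q7729 (flp_f L186867) q9474, e3 q7730 (flp_f L186885) q9476, e3 q7731 L128743 q7731, e3 q7732 L128751 q7732, e3 q7733 L128756 q7733, e3 q7734 (flp_f L647850) q8029, e3 q7735 L128771 q6201, e3 q7736 L128782 q6202, e3 q7737 L128790 q6203, e3 q7738 (flp_f L181759) q9146, e3 q7739 L128807 q6204, e3 q7740 (flp_f L186961) q9486, e3 q7741 (flp_f L186980) q9487, e3 q7742 (flp_f L186987) q9488, e3 q7743 (flp_f L187004) q9490, trivial⟩ (by decide +kernel)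

theorem ce_f_121 : ∀ r, r < 64 → sm gf (Qf (7744 + r)) = Qf (tab Gen.f (7744 + r)) :=
  edges_tab (sm gf) Qf (tab Gen.f) 7744 [(7744, 9492), (7745, 7745), (7746, 7746), (7747, 7747), (7748, 6210), (7749, 8042), (7750, 9502), (7751, 9503), (7752, 7752), (7753, 7753), (7754, 9440), (7755, 6217), (7756, 6218), (7757, 6219), (7758, 9511), (7759, 9512), (7760, 9513), (7761, 9515), (7762, 7762), (7763, 7763), (7764, 7764), (7765, 6225), (7766, 6226), (7767, 6227), (7768, 9524), (7769, 9525), (7770, 9526), (7771, 9535), (7772, 9528), (7773, 7773), (7774, 9541), (7775, 7775), (7776, 6229), (7777, 9545), (7778, 7778), (7779, 9547), (7780, 9465), (7781, 6233), (7782, 9550), (7783, 9549), (7784, 6236), (7785, 9470), (7786, 9471), (7787, 7787), (7788, 6243), (7789, 6244), (7790, 6245), (7791, 9275), (7792, 6246), (7793, 9555), (7794, 9556), (7795, 9557), (7796, 9559), (7797, 9561), (7798, 7798), (7799, 7799), (7800, 7800), (7801, 7801), (7802, 6257), (7803, 6258), (7804, 6259), (7805, 9293), (7806, 6260), (7807, 6283)]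
    ⟨e3 q7744 (flp_f L187018) q9492, e3 q7745 L128848 q7745, e3 q7746 L128856 q7746, e3 q7747 L128862 q7747, e3 q7748 L129025 q6210, e3 q7749 (flp_f L640895) q8042, e3 q7750 (flp_f L187333) q9502, e3 q7751 (flp_f L187343) q9503, e3 q7752 L129061 q7752, e3 q7753 L129080 q7753, e3 q7754 (flp_f L186408) q9440, e3 q7755 L129182 q6217, e3 q7756 L129191 q6218, e3 q7757 L129201 q6219, e3 q7758 (flp_f L187558) q9511, e3 q7759 (flp_f L187569) q9512, e3 q7760 (flp_f L187578) q9513, e3 q7761 (flp_f L187598) q9515, e3 q7762 L129245 q7762, e3 q7763 L129256 q7763, e3 q7764 L129263 q7764, e3 q7765 L129282 q6225, e3 q7766 L129289 q6226, e3 q7767 L129298 q6227, e3 q7768 (flp_f L187683) q9524, e3 q7769 (flp_f L187693) q9525, e3 q7770 (flp_f L187700) q9526, e3 q7771 L187767 q9535, e3 q7772 (flp_f L187716) q9528, e3 q7773 L129346 q7773, e3 q7774 L187813 q9541, e3 q7775 L129362 q7775, e3 q7776 (flp_f L129364) q6229, e3 q7777 (flp_f L187847) q9545, e3 q7778 L129383 q7778, e3 q7779 L187857 q9547, e3 q7780 (flp_f L186755) q9465, e3 q7781 (flp_f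 L129403) q6233, e3 q7782 (flp_f L187891) q9550, e3 q7783 (flp_f L187886) q9549, e3 q7784 L129435 q6236, e3 q7785 (flp_f L186808) q9470, e3 q7786 (flp_f L186816) q9471, e3 q7787 L129479 q7787, e3 q7788 L129487 q6243, e3 q7789 L129497 q6244, e3 q7790 L129504 q6245, e3 q7791 (flp_f L183234) q9275, e3 q7792 L129522 q6246, e3 q7793 (flp_f L187985) q9555, e3 q7794 (flp_f L188005) q9556, e3 q7795 (flp_f L188011) q9557, e3 q7796 (flp_f L188029) q9559, e3 q7797 (flp_f L188043) q9561, e3 q7798 L129568 q7798, e3 q7799 L129578 q7799, e3 q7800 L129584 q7800, e3 q7801 L129601 q7801, e3 q7802 L129628 q6257, e3 q7803 L129635 q6258, e3 q7804 L129654 q6259, e3 q7805 (flp_f L183387) q9293, e3 q7806 L129666 q6260, e3 q7807 L647386 q6283, trivial⟩ (by decide +kernel)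

theorem ce_f_122 : ∀ r, r < 64 → sm gf (Qf (7808 + r)) = Qf (tab Gen.f (7808 + r)) :=
  edges_tab (sm gf) Qf (tab Gen.f) 7808 [(7808, 9571), (7809, 9564), (7810, 7810), (7811, 7811), (7812, 6268), (7813, 6270), (7814, 9346), (7815, 6271), (7816, 9575), (7817, 6287), (7818, 9576), (7819, 9578), (7820, 9572), (7821, 7821), (7822, 7822), (7823, 7823), (7824, 6279), (7825, 6281), (7826, 9375), (7827, 6282), (7828, 9580), (7829, 9562), (7830, 7830), (7831, 7831), (7832, 7832), (7833, 7833), (7834, 7834), (7835, 7835), (7836, 7836), (7837, 7837), (7838, 6321), (7839, 6323), (7840, 7840), (7841, 6328), (7842, 9593), (7843, 7843), (7844, 6359), (7845, 6351), (7846, 7846), (7847, 6355), (7848, 7848), (7849, 7849), (7850, 6360), (7851, 6433), (7852, 7852), (7853, 6371), (7854, 9597), (7855, 6346), (7856, 9599), (7857, 7857), (7858, 6350), (7859, 6357), (7860, 7860), (7861, 6416), (7862, 6395), (7863, 9600), (7864, 7864), (7865, 6425), (7866, 7866), (7867, 6400), (7868, 7868), (7869, 6364), (7870, 6431), (7871, 9611)]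
    ⟨e3 q7808 (flp_f L188199) q9571, e3 q7809 L646661 q9564, e3 q7810 L129728 q7810, e3 q7811 L129734 q7811, e3 q7812 L129763 q6268, e3 q7813 L129783 q6270, e3 q7814 (flp_f L184758) q9346, e3 q7815 L129801 q6271, e3 q7816 (flp_f L188354) q9575, e3 q7817 L646097 q6287, e3 q7818 (flp_f L188381) q9576, e3 q7819 (flp_f L188399) q9578, e3 q7820 L646614 q9572, e3 q7821 L129849 q7821, e3 q7822 L129859 q7822, e3 q7823 L129867 q7823, e3 q7824 L129890 q6279, e3 q7825 L129915 q6281, e3 q7826 (flp_f L185089) q9375, e3 q7827 L129930 q6282, e3 q7828 L646234 q9580, e3 q7829 L646608 q9562, e3 q7830 L130002 q7830, e3 q7831 L130010 q7831, e3 q7832 L130014 q7832, e3 q7833 L130189 q7833, e3 q7834 L130497 q7834, e3 q7835 L132553 q7835, e3 q7836 L133098 q7836, e3 q7837 L133107 q7837, e3 q7838 (flp_f L133256) q6321, e3 q7839 L133300 q6323, e3 q7840 L133377 q7840, e3 q7841 L133421 q6328, e3 q7842 L193738 q9593, e3 q7843 L134069 q7843, e3 q7844 L622323 q6359, e3 q7845 L134097 q6351, e3 q7846 L134284 q7846, e3 q7847 L134293 q6355, e3 q7848 L134328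 q7848, e3 q7849 L134345 q7849, e3 q7850 L134360 q6360, e3 q7851 L622242 q6433, e3 q7852 L134472 q7852, e3 q7853 L134528 q6371, e3 q7854 L195380 q9597, e3 q7855 (flp_f L134557) q6346, e3 q7856 L196723 q9599, e3 q7857 L135483 q7857, e3 q7858 (flp_f L135485) q6350, e3 q7859 (flp_f L615276) q6357, e3 q7860 L135767 q7860, e3 q7861 (flp_f L624687) q6416, e3 q7862 L622839 q6395, e3 q7863 (flp_f L615285) q9600, e3 q7864 L135867 q7864, e3 q7865 L615297 q6425, e3 q7866 L135899 q7866, e3 q7867 (flp_f L622340) q6400, e3 q7868 L136027 q7868, e3 q7869 (flp_f L136051) q6364, e3 q7870 L615264 q6431, e3 q7871 (flp_f L197616) q9611, trivial⟩ (by decide +kernel)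

theorem ce_f_123 : ∀ r, r < 64 → sm gf (Qf (7872 + r)) = Qf (tab Gen.f (7872 + r)) :=
  edges_tab (sm gf) Qf (tab Gen.f) 7872 [(7872, 7872), (7873, 7873), (7874, 6427), (7875, 7875), (7876, 9317), (7877, 6402), (7878, 9620), (7879, 6372), (7880, 9598), (7881, 7881), (7882, 7882), (7883, 7883), (7884, 7884), (7885, 7885), (7886, 7886), (7887, 9626), (7888, 6389), (7889, 7889), (7890, 6419), (7891, 6410), (7892, 8901), (7893, 7893), (7894, 7894), (7895, 9157), (7896, 7896), (7897, 8937), (7898, 7898), (7899, 7899), (7900, 9637), (7901, 9638), (7902, 6406), (7903, 6436), (7904, 9641), (7905, 7905), (7906, 6409), (7907, 6417), (7908, 6413), (7909, 9604), (7910, 9646), (7911, 7911), (7912, 7912), (7913, 9642), (7914, 7914), (7915, 6440), (7916, 6422), (7917, 9609), (7918, 9654), (7919, 7919), (7920, 9239), (7921, 6428), (7922, 9613), (7923, 9612), (7924, 9658), (7925, 9662), (7926, 7926), (7927, 9664), (7928, 6432), (7929, 9666), (7930, 6434), (7931, 9667), (7932, 9640), (7933, 6437), (7934, 9652), (7935, 9670)]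
    ⟨e3 q7872 L136078 q7872, e3 q7873 L136087 q7873, e3 q7874 L615225 q6427, e3 q7875 L136135 q7875, e3 q7876 L551141 q9317, e3 q7877 L622233 q6402, e3 q7878 L197797 q9620, e3 q7879 (flp_f L136188) q6372, e3 q7880 (flp_f L195407) q9598, e3 q7881 L136305 q7881, e3 q7882 L136413 q7882, e3 q7883 L136422 q7883, e3 q7884 L136513 q7884, e3 q7885 L136776 q7885, e3 q7886 L136943 q7886, e3 q7887 L198987 q9626, e3 q7888 (flp_f L137021) q6389, e3 q7889 L137269 q7889, e3 q7890 L622398 q6419, e3 q7891 L137298 q6410, e3 q7892 (flp_f L622190) q8901, e3 q7893 L137433 q7893, e3 q7894 L137461 q7894, e3 q7895 L622254 q9157, e3 q7896 L137780 q7896, e3 q7897 L622223 q8937, e3 q7898 L137996 q7898, e3 q7899 L138002 q7899, e3 q7900 L200519 q9637, e3 q7901 L200549 q9638, e3 q7902 (flp_f L138086) q6406, e3 q7903 L138109 q6436, e3 q7904 L201028 q9641, e3 q7905 L138435 q7905, e3 q7906 (flp_f L138437) q6409, e3 q7907 (flp_f L615331) q6417, e3 q7908 (flp_f L138639) q6413, e3 q7909 L615336 q9604, e3 q7910 (flp_f L201361) q9646, e3 q7911 L138665 q7911,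 e3 q7912 L138673 q7912, e3 q7913 L616257 q9642, e3 q7914 L138717 q7914, e3 q7915 (flp_f L624463) q6440, e3 q7916 (flp_f L139140) q6422, e3 q7917 (flp_f L616218) q9609, e3 q7918 (flp_f L202087) q9654, e3 q7919 L139181 q7919, e3 q7920 (flp_f L182957) q9239, e3 q7921 L139394 q6428, e3 q7922 L615146 q9613, e3 q7923 L615203 q9612, e3 q7924 (flp_f L202398) q9658, e3 q7925 L202430 q9662, e3 q7926 L139428 q7926, e3 q7927 L202501 q9664, e3 q7928 (flp_f L139486) q6432, e3 q7929 L202541 q9666, e3 q7930 (flp_f L139522) q6434, e3 q7931 (flp_f L202567) q9667, e3 q7932 (flp_f L200596) q9640, e3 q7933 (flp_f L139736) q6437, e3 q7934 L616247 q9652, e3 q7935 (flp_f L202861) q9670, trivial⟩ (by decide +kernel)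

theorem ce_f_124 : ∀ r, r < 64 → sm gf (Qf (7936 + r)) = Qf (tab Gen.f (7936 + r)) :=
  edges_tab (sm gf) Qf (tab Gen.f) 7936 [(7936, 7936), (7937, 6452), (7938, 9305), (7939, 6446), (7940, 6447), (7941, 9675), (7942, 9676), (7943, 9677), (7944, 7944), (7945, 7945), (7946, 6453), (7947, 8470), (7948, 8479), (7949, 7949), (7950, 8619), (7951, 7951), (7952, 6461), (7953, 8620), (7954, 9686), (7955, 7955), (7956, 6464), (7957, 9337), (7958, 6466), (7959, 6467), (7960, 9690), (7961, 9691), (7962, 9350), (7963, 9351), (7964, 6473), (7965, 6474), (7966, 9696), (7967, 6507), (7968, 6508), (7969, 9699), (7970, 9700), (7971, 6482), (7972, 7972), (7973, 6515), (7974, 7974), (7975, 7975), (7976, 6516), (7977, 9705), (7978, 6518), (7979, 9707), (7980, 8737), (7981, 6493), (7982, 9709), (7983, 6495), (7984, 9710), (7985, 6501), (7986, 6498), (7987, 6500), (7988, 9713), (7989, 8067), (7990, 8060), (7991, 6512), (7992, 8717), (7993, 9716), (7994, 9698), (7995, 9715), (7996, 6511), (7997, 6517), (7998, 7998), (7999, 7999)]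
    ⟨e3 q7936 L139772 q7936, e3 q7937 L616569 q6452, e3 q7938 (flp_f L183943) q9305, e3 q7939 L139941 q6446, e3 q7940 L139948 q6447, e3 q7941 (flp_f L203120) q9675, e3 q7942 (flp_f L203127) q9676, e3 q7943 (flp_f L203135) q9677, e3 q7944 L139973 q7944, e3 q7945 L139988 q7945, e3 q7946 L140015 q6453, e3 q7947 L616579 q8470, e3 q7948 (flp_f L616373) q8479, e3 q7949 L140045 q7949, e3 q7950 (flp_f L616621) q8619, e3 q7951 L140222 q7951, e3 q7952 (flp_f L140224) q6461, e3 q7953 (flp_f L616640) q8620, e3 q7954 (flp_f L203527) q9686, e3 q7955 L140254 q7955, e3 q7956 L140264 q6464, e3 q7957 (flp_f L184567) q9337, e3 q7958 L140279 q6466, e3 q7959 L140285 q6467, e3 q7960 (flp_f L203585) q9690, e3 q7961 (flp_f L203595) q9691, e3 q7962 (flp_f L184847) q9350, e3 q7963 (flp_f L184854) q9351, e3 q7964 L140336 q6473, e3 q7965 L140345 q6474, e3 q7966 (flp_f L203644) q9696, e3 q7967 L140713 q6507, e3 q7968 L140723 q6508, e3 q7969 L204325 q9699, e3 q7970 L204368 q9700, e3 q7971 (flp_f L140830) q6482, e3 q7972 L140857 q7972, e3 q7973 L141279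 q6515, e3 q7974 L141488 q7974, e3 q7975 L141497 q7975, e3 q7976 L141503 q6516, e3 q7977 L205326 q9705, e3 q7978 L141518 q6518, e3 q7979 L205391 q9707, e3 q7980 (flp_f L645121) q8737, e3 q7981 (flp_f L141578) q6493, e3 q7982 L205473 q9709, e3 q7983 (flp_f L141612) q6495, e3 q7984 (flp_f L205500) q9710, e3 q7985 L141654 q6501, e3 q7986 (flp_f L142049) q6498, e3 q7987 L142075 q6500, e3 q7988 (flp_f L206070) q9713, e3 q7989 L642153 q8067, e3 q7990 (flp_f L642078) q8060, e3 q7991 L642145 q6512, e3 q7992 (flp_f L620954) q8717, e3 q7993 L206827 q9716, e3 q7994 (flp_f L204228) q9698, e3 q7995 L642047 q9715, e3 q7996 (flp_f L142666) q6511, e3 q7997 (flp_f L143270) q6517, e3 q7998 L143334 q7998, e3 q7999 L143627 q7999, trivial⟩ (by decide +kernel)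

theorem ce_f_125 : ∀ r, r < 64 → sm gf (Qf (8000 + r)) = Qf (tab Gen.f (8000 + r)) :=
  edges_tab (sm gf) Qf (tab Gen.f) 8000 [(8000, 8000), (8001, 6524), (8002, 8002), (8003, 8003), (8004, 8004), (8005, 6529), (8006, 8006), (8007, 8007), (8008, 7668), (8009, 7663), (8010, 6575), (8011, 9721), (8012, 8012), (8013, 8013), (8014, 6580), (8015, 7679), (8016, 6584), (8017, 9726), (8018, 6587), (8019, 9727), (8020, 9728), (8021, 8021), (8022, 6614), (8023, 6591), (8024, 7255), (8025, 8025), (8026, 8026), (8027, 6621), (8028, 6622), (8029, 7734), (8030, 6600), (8031, 9739), (8032, 9740), (8033, 8033), (8034, 7710), (8035, 6604), (8036, 8036), (8037, 7701), (8038, 6609), (8039, 6610), (8040, 9751), (8041, 9750), (8042, 7749), (8043, 8043), (8044, 8044), (8045, 7695), (8046, 9733), (8047, 6618), (8048, 7252), (8049, 9759), (8050, 9760), (8051, 8051), (8052, 8052), (8053, 9736), (8054, 9769), (8055, 6623), (8056, 6624), (8057, 7111), (8058, 6638), (8059, 6639), (8060, 7990), (8061, 9771), (8062, 6628), (8063, 7104)]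
    ⟨e3 q8000 L143641 q8000, e3 q8001 L143660 q6524, e3 q8002 L143697 q8002, e3 q8003 L143733 q8003, e3 q8004 L143909 q8004, e3 q8005 (flp_f L144660) q6529, e3 q8006 L145833 q8006, e3 q8007 L164522 q8007, e3 q8008 L647964 q7668, e3 q8009 L648170 q7663, e3 q8010 L166554 q6575, e3 q8011 (flp_f L241566) q9721, e3 q8012 L166595 q8012, e3 q8013 L166612 q8013, e3 q8014 L166623 q6580, e3 q8015 L647954 q7679, e3 q8016 L166676 q6584, e3 q8017 (flp_f L241740) q9726, e3 q8018 L166723 q6587, e3 q8019 (flp_f L241786) q9727, e3 q8020 (flp_f L241796) q9728, e3 q8021 L166755 q8021, e3 q8022 L166769 q6614, e3 q8023 L166781 q6591, e3 q8024 L642987 q7255, e3 q8025 L166810 q8025, e3 q8026 L166819 q8026, e3 q8027 L166825 q6621, e3 q8028 L166837 q6622, e3 q8029 L647850 q7734, e3 q8030 L166882 q6600, e3 q8031 (flp_f L242035) q9739, e3 q8032 (flp_f L242047) q9740, e3 q8033 L166918 q8033, e3 q8034 L645378 q7710, e3 q8035 L166945 q6604, e3 q8036 L166972 q8036, e3 q8037 (flp_f L648095) q7701, e3 q8038 L166992 q6609, e3 q8039 L167003 q6610, e3 q8040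 L242232 q9751, e3 q8041 (flp_f L242229) q9750, e3 q8042 L640895 q7749, e3 q8043 L167051 q8043, e3 q8044 L167062 q8044, e3 q8045 L648064 q7695, e3 q8046 (flp_f L241871) q9733, e3 q8047 L167095 q6618, e3 q8048 L640931 q7252, e3 q8049 (flp_f L242345) q9759, e3 q8050 (flp_f L242353) q9760, e3 q8051 L167129 q8051, e3 q8052 L167140 q8052, e3 q8053 (flp_f L241939) q9736, e3 q8054 L242455 q9769, e3 q8055 (flp_f L167175) q6623, e3 q8056 (flp_f L167185) q6624, e3 q8057 L640222 q7111, e3 q8058 L167213 q6638, e3 q8059 L167221 q6639, e3 q8060 L642078 q7990, e3 q8061 L242574 q9771, e3 q8062 (flp_f L167254) q6628, e3 q8063 L643407 q7104, trivial⟩ (by decide +kernel)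

theorem ce_f_126 : ∀ r, r < 64 → sm gf (Qf (8064 + r)) = Qf (tab Gen.f (8064 + r)) :=
  edges_tab (sm gf) Qf (tab Gen.f) 8064 [(8064, 9772), (8065, 6634), (8066, 9775), (8067, 7989), (8068, 7117), (8069, 7118), (8070, 6637), (8071, 7128), (8072, 7130), (8073, 6640), (8074, 6642), (8075, 7122), (8076, 7115), (8077, 6644), (8078, 9777), (8079, 7127), (8080, 6651), (8081, 7133), (8082, 8082), (8083, 6653), (8084, 8084), (8085, 9789), (8086, 7139), (8087, 8087), (8088, 8088), (8089, 6658), (8090, 7141), (8091, 8091), (8092, 7144), (8093, 8093), (8094, 9798), (8095, 7147), (8096, 8096), (8097, 8097), (8098, 6667), (8099, 9802), (8100, 9803), (8101, 7154), (8102, 7155), (8103, 6672), (8104, 9806), (8105, 7162), (8106, 8106), (8107, 6674), (8108, 9813), (8109, 8109), (8110, 9814), (8111, 7168), (8112, 8112), (8113, 8113), (8114, 6679), (8115, 9821), (8116, 6681), (8117, 9825), (8118, 7175), (8119, 8119), (8120, 6683), (8121, 9830), (8122, 7180), (8123, 8123), (8124, 6686), (8125, 9836), (8126, 9837), (8127, 9840)]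
    ⟨e3 q8064 L242715 q9772, e3 q8065 (flp_f L167353) q6634, e3 q8066 (flp_f L242758) q9775, e3 q8067 (flp_f L642153) q7989, e3 q8068 L167392 q7117, e3 q8069 (flp_f L641573) q7118, e3 q8070 L167406 q6637, e3 q8071 (flp_f L644784) q7128, e3 q8072 L644003 q7130, e3 q8073 (flp_f L167443) q6640, e3 q8074 (flp_f L167469) q6642, e3 q8075 L167494 q7122, e3 q8076 L644944 q7115, e3 q8077 L167506 q6644, e3 q8078 L644385 q9777, e3 q8079 L167541 q7127, e3 q8080 (flp_f L167607) q6651, e3 q8081 L167631 q7133, e3 q8082 L167641 q8082, e3 q8083 L167646 q6653, e3 q8084 L167666 q8084, e3 q8085 L243211 q9789, e3 q8086 L167686 q7139, e3 q8087 L167694 q8087, e3 q8088 L167701 q8088, e3 q8089 L167710 q6658, e3 q8090 L167745 q7141, e3 q8091 L167754 q8091, e3 q8092 L167784 q7144, e3 q8093 L167792 q8093, e3 q8094 L243437 q9798, e3 q8095 L167827 q7147, e3 q8096 L167835 q8096, e3 q8097 L167840 q8097, e3 q8098 (flp_f L167849) q6667, e3 q8099 (flp_f L243499) q9802, e3 q8100 (flp_f L243506) q9803, e3 q8101 L167877 q7154, e3 q8102 L167887 q7155, e3 q8103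 (flp_f L167947) q6672, e3 q8104 (flp_f L243674) q9806, e3 q8105 L167977 q7162, e3 q8106 L167987 q8106, e3 q8107 L167992 q6674, e3 q8108 (flp_f L243742) q9813, e3 q8109 L168014 q8109, e3 q8110 L243748 q9814, e3 q8111 L168036 q7168, e3 q8112 L168047 q8112, e3 q8113 L168057 q8113, e3 q8114 L168067 q6679, e3 q8115 L243821 q9821, e3 q8116 (flp_f L168084) q6681, e3 q8117 (flp_f L243867) q9825, e3 q8118 L168111 q7175, e3 q8119 L168120 q8119, e3 q8120 L168126 q6683, e3 q8121 (flp_f L243931) q9830, e3 q8122 L168157 q7180, e3 q8123 L168166 q8123, e3 q8124 L168173 q6686, e3 q8125 (flp_f L243987) q9836, e3 q8126 (flp_f L243998) q9837, e3 q8127 L244021 q9840, trivial⟩ (by decide +kernel)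

theorem ce_f_127 : ∀ r, r < 64 → sm gf (Qf (8128 + r)) = Qf (tab Gen.f (8128 + r)) :=
  edges_tab (sm gf) Qf (tab Gen.f) 8128 [(8128, 7186), (8129, 8129), (8130, 8130), (8131, 6690), (8132, 6692), (8133, 9792), (8134, 9817), (8135, 7193), (8136, 7194), (8137, 8137), (8138, 8138), (8139, 7200), (8140, 6735), (8141, 6698), (8142, 9854), (8143, 9855), (8144, 9857), (8145, 7205), (8146, 6741), (8147, 6742), (8148, 6702), (8149, 6704), (8150, 9864), (8151, 9865), (8152, 7212), (8153, 7213), (8154, 6749), (8155, 6750), (8156, 6709), (8157, 9874), (8158, 7218), (8159, 6754), (8160, 6711), (8161, 9882), (8162, 9883), (8163, 9886), (8164, 7224), (8165, 6760), (8166, 6761), (8167, 6715), (8168, 7228), (8169, 9894), (8170, 7230), (8171, 6766), (8172, 6767), (8173, 6720), (8174, 6721), (8175, 9904), (8176, 9903), (8177, 6722), (8178, 9907), (8179, 9908), (8180, 7240), (8181, 7241), (8182, 6777), (8183, 6778), (8184, 6728), (8185, 6729), (8186, 9916), (8187, 9917), (8188, 9918), (8189, 7249), (8190, 7250), (8191, 6786)]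
    ⟨e3 q8128 L168208 q7186, e3 q8129 L168218 q8129, e3 q8130 L168225 q8130, e3 q8131 L168232 q6690, e3 q8132 (flp_f L168236) q6692, e3 q8133 L644303 q9792, e3 q8134 L644181 q9817, e3 q8135 L168265 q7193, e3 q8136 L168276 q7194, e3 q8137 L168285 q8137, e3 q8138 L168295 q8138, e3 q8139 L168388 q7200, e3 q8140 L168399 q6735, e3 q8141 L168407 q6698, e3 q8142 (flp_f L244322) q9854, e3 q8143 (flp_f L244332) q9855, e3 q8144 L244355 q9857, e3 q8145 L168443 q7205, e3 q8146 L168451 q6741, e3 q8147 L168459 q6742, e3 q8148 L168469 q6702, e3 q8149 (flp_f L168473) q6704, e3 q8150 (flp_f L244425) q9864, e3 q8151 (flp_f L244436) q9865, e3 q8152 L168505 q7212, e3 q8153 L168515 q7213, e3 q8154 L168524 q6749, e3 q8155 L168535 q6750, e3 q8156 (flp_f L168541) q6709, e3 q8157 (flp_f L244520) q9874, e3 q8158 L168566 q7218, e3 q8159 L168575 q6754, e3 q8160 L168583 q6711, e3 q8161 (flp_f L244590) q9882, e3 q8162 (flp_f L244599) q9883, e3 q8163 L244618 q9886, e3 q8164 L168616 q7224, e3 q8165 L168625 q6760, e3 q8166 L168632 q6761, e3 q8167 L168641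 q6715, e3 q8168 L168647 q7228, e3 q8169 L244691 q9894, e3 q8170 L168666 q7230, e3 q8171 L168675 q6766, e3 q8172 L168683 q6767, e3 q8173 L168691 q6720, e3 q8174 L168700 q6721, e3 q8175 L244777 q9904, e3 q8176 (flp_f L244775) q9903, e3 q8177 (flp_f L168719) q6722, e3 q8178 (flp_f L244807) q9907, e3 q8179 (flp_f L244815) q9908, e3 q8180 L168745 q7240, e3 q8181 L168753 q7241, e3 q8182 L168759 q6777, e3 q8183 L168767 q6778, e3 q8184 L168778 q6728, e3 q8185 L168787 q6729, e3 q8186 (flp_f L244877) q9916, e3 q8187 (flp_f L244884) q9917, e3 q8188 (flp_f L244895) q9918, e3 q8189 L168817 q7249, e3 q8190 L168826 q7250, e3 q8191 L168833 q6786, trivial⟩ (by decide +kernel)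

theorem ce_f_128 : ∀ r, r < 64 → sm gf (Qf (8192 + r)) = Qf (tab Gen.f (8192 + r)) :=
  edges_tab (sm gf) Qf (tab Gen.f) 8192 [(8192, 7257), (8193, 9926), (8194, 7259), (8195, 9852), (8196, 9853), (8197, 6737), (8198, 6738), (8199, 9935), (8200, 6739), (8201, 9937), (8202, 9938), (8203, 7266), (8204, 7267), (8205, 9862), (8206, 9863), (8207, 6745), (8208, 6746), (8209, 9946), (8210, 9947), (8211, 9948), (8212, 7275), (8213, 7276), (8214, 9871), (8215, 7278), (8216, 9873), (8217, 6752), (8218, 9961), (8219, 9962), (8220, 7282), (8221, 9967), (8222, 7284), (8223, 9880), (8224, 9881), (8225, 6756), (8226, 6757), (8227, 9977), (8228, 9976), (8229, 6758), (8230, 9980), (8231, 9981), (8232, 7293), (8233, 7294), (8234, 7711), (8235, 9891), (8236, 9988), (8237, 7298), (8238, 6764), (8239, 9993), (8240, 9994), (8241, 7302), (8242, 7303), (8243, 9899), (8244, 9900), (8245, 9901), (8246, 10005), (8247, 6771), (8248, 6770), (8249, 10009), (8250, 10007), (8251, 6773), (8252, 6774), (8253, 10012), (8254, 10013), (8255, 10014)]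
    ⟨e3 q8192 L168958 q7257, e3 q8193 L245176 q9926, e3 q8194 L168983 q7259, e3 q8195 (flp_f L244304) q9852, e3 q8196 (flp_f L244314) q9853, e3 q8197 L169008 q6737, e3 q8198 L169019 q6738, e3 q8199 (flp_f L245268) q9935, e3 q8200 (flp_f L169041) q6739, e3 q8201 (flp_f L245304) q9937, e3 q8202 (flp_f L245312) q9938, e3 q8203 L169072 q7266, e3 q8204 L169083 q7267, e3 q8205 (flp_f L244402) q9862, e3 q8206 (flp_f L244412) q9863, e3 q8207 L169111 q6745, e3 q8208 L169120 q6746, e3 q8209 (flp_f L245386) q9946, e3 q8210 (flp_f L245393) q9947, e3 q8211 (flp_f L245403) q9948, e3 q8212 L169156 q7275, e3 q8213 L169168 q7276, e3 q8214 (flp_f L244488) q9871, e3 q8215 L169190 q7278, e3 q8216 (flp_f L244511) q9873, e3 q8217 L169207 q6752, e3 q8218 (flp_f L245531) q9961, e3 q8219 (flp_f L245542) q9962, e3 q8220 L169232 q7282, e3 q8221 L245588 q9967, e3 q8222 L169253 q7284, e3 q8223 (flp_f L244574) q9880, e3 q8224 (flp_f L244582) q9881, e3 q8225 L169276 q6756, e3 q8226 L169286 q6757, e3 q8227 L245672 q9977, e3 q8228 (flp_f L245669) q9976,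 e3 q8229 (flp_f L169304) q6758, e3 q8230 (flp_f L245701) q9980, e3 q8231 (flp_f L245708) q9981, e3 q8232 L169335 q7293, e3 q8233 L169346 q7294, e3 q8234 (flp_f L642671) q7711, e3 q8235 (flp_f L244673) q9891, e3 q8236 L245765 q9988, e3 q8237 L169378 q7298, e3 q8238 (flp_f L169381) q6764, e3 q8239 (flp_f L245815) q9993, e3 q8240 (flp_f L245823) q9994, e3 q8241 L169412 q7302, e3 q8242 L169423 q7303, e3 q8243 (flp_f L244741) q9899, e3 q8244 (flp_f L244749) q9900, e3 q8245 (flp_f L244760) q9901, e3 q8246 L245909 q10005, e3 q8247 L169462 q6771, e3 q8248 (flp_f L169465) q6770, e3 q8249 (flp_f L245945) q10009, e3 q8250 (flp_f L245928) q10007, e3 q8251 L169493 q6773, e3 q8252 L169499 q6774, e3 q8253 (flp_f L245968) q10012, e3 q8254 (flp_f L245976) q10013, e3 q8255 (flp_f L245985) q10014, trivial⟩ (by decide +kernel)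

theorem ce_f_129 : ∀ r, r < 64 → sm gf (Qf (8256 + r)) = Qf (tab Gen.f (8256 + r)) :=
  edges_tab (sm gf) Qf (tab Gen.f) 8256 [(8256, 7316), (8257, 7317), (8258, 9914), (8259, 8259), (8260, 6781), (8261, 6782), (8262, 6783), (8263, 10023), (8264, 10024), (8265, 10025), (8266, 10027), (8267, 7327), (8268, 7328), (8269, 7329), (8270, 10037), (8271, 6787), (8272, 10041), (8273, 8273), (8274, 6789), (8275, 10044), (8276, 8276), (8277, 8277), (8278, 6791), (8279, 10050), (8280, 8280), (8281, 10036), (8282, 8282), (8283, 8283), (8284, 8284), (8285, 6796), (8286, 10057), (8287, 6798), (8288, 10061), (8289, 7333), (8290, 8290), (8291, 6800), (8292, 10068), (8293, 8293), (8294, 7338), (8295, 8295), (8296, 6803), (8297, 10074), (8298, 10075), (8299, 10078), (8300, 7344), (8301, 8301), (8302, 8302), (8303, 6807), (8304, 6809), (8305, 10085), (8306, 10086), (8307, 7351), (8308, 7352), (8309, 8309), (8310, 8310), (8311, 6814), (8312, 10095), (8313, 7356), (8314, 8314), (8315, 6816), (8316, 10102), (8317, 10103), (8318, 10105), (8319,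 7361)]
    ⟨e3 q8256 L169529 q7316, e3 q8257 L169539 q7317, e3 q8258 (flp_f L244857) q9914, e3 q8259 L169555 q8259, e3 q8260 L169563 q6781, e3 q8261 L169570 q6782, e3 q8262 L169580 q6783, e3 q8263 (flp_f L246055) q10023, e3 q8264 (flp_f L246065) q10024, e3 q8265 (flp_f L246072) q10025, e3 q8266 (flp_f L246090) q10027, e3 q8267 L169620 q7327, e3 q8268 L169631 q7328, e3 q8269 L169637 q7329, e3 q8270 L246170 q10037, e3 q8271 (flp_f L169651) q6787, e3 q8272 (flp_f L246214) q10041, e3 q8273 L169682 q8273, e3 q8274 (flp_f L169683) q6789, e3 q8275 (flp_f L246267) q10044, e3 q8276 L169709 q8276, e3 q8277 L169717 q8277, e3 q8278 L169722 q6791, e3 q8279 (flp_f L246332) q10050, e3 q8280 L169745 q8280, e3 q8281 L614213 q10036, e3 q8282 L169765 q8282, e3 q8283 L169774 q8283, e3 q8284 L169782 q8284, e3 q8285 L169793 q6796, e3 q8286 L246403 q10057, e3 q8287 (flp_f L169809) q6798, e3 q8288 (flp_f L246451) q10061, e3 q8289 L169841 q7333, e3 q8290 L169852 q8290, e3 q8291 L169858 q6800, e3 q8292 (flp_f L246522) q10068, e3 q8293 L169881 q8293,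 e3 q8294 L169894 q7338, e3 q8295 L169903 q8295, e3 q8296 L169908 q6803, e3 q8297 (flp_f L246575) q10074, e3 q8298 (flp_f L246584) q10075, e3 q8299 L246605 q10078, e3 q8300 L169944 q7344, e3 q8301 L169954 q8301, e3 q8302 L169963 q8302, e3 q8303 L169970 q6807, e3 q8304 (flp_f L169976) q6809, e3 q8305 (flp_f L246678) q10085, e3 q8306 (flp_f L246686) q10086, e3 q8307 L170005 q7351, e3 q8308 L170015 q7352, e3 q8309 L170024 q8309, e3 q8310 L170032 q8310, e3 q8311 (flp_f L170037) q6814, e3 q8312 (flp_f L246762) q10095, e3 q8313 L170063 q7356, e3 q8314 L170072 q8314, e3 q8315 L170079 q6816, e3 q8316 (flp_f L246837) q10102, e3 q8317 (flp_f L246849) q10103, e3 q8318 L246874 q10105, e3 q8319 L170118 q7361, trivial⟩ (by decide +kernel)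

theorem ce_f_130 : ∀ r, r < 64 → sm gf (Qf (8320 + r)) = Qf (tab Gen.f (8320 + r)) :=
  edges_tab (sm gf) Qf (tab Gen.f) 8320 [(8320, 8320), (8321, 8321), (8322, 6820), (8323, 7365), (8324, 10114), (8325, 7367), (8326, 8326), (8327, 8327), (8328, 6825), (8329, 6826), (8330, 10124), (8331, 10123), (8332, 6827), (8333, 10127), (8334, 10128), (8335, 7377), (8336, 7378), (8337, 8337), (8338, 8338), (8339, 6833), (8340, 6834), (8341, 9869), (8342, 10090), (8343, 10136), (8344, 7386), (8345, 7387), (8346, 8346), (8347, 10051), (8348, 6839), (8349, 10144), (8350, 8350), (8351, 6919), (8352, 6841), (8353, 10151), (8354, 6922), (8355, 8355), (8356, 6924), (8357, 6844), (8358, 10154), (8359, 10155), (8360, 10158), (8361, 8361), (8362, 6930), (8363, 6931), (8364, 6848), (8365, 6850), (8366, 10164), (8367, 10165), (8368, 8368), (8369, 8369), (8370, 6938), (8371, 6939), (8372, 6855), (8373, 10174), (8374, 7390), (8375, 6943), (8376, 6857), (8377, 10181), (8378, 10182), (8379, 10184), (8380, 7395), (8381, 6949), (8382, 6950), (8383, 6861)]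
    ⟨e3 q8320 L170129 q8320, e3 q8321 L170137 q8321, e3 q8322 L170147 q6820, e3 q8323 L170153 q7365, e3 q8324 L246958 q10114, e3 q8325 L170171 q7367, e3 q8326 L170180 q8326, e3 q8327 L170187 q8327, e3 q8328 L170192 q6825, e3 q8329 L170202 q6826, e3 q8330 L247035 q10124, e3 q8331 (flp_f L247031) q10123, e3 q8332 (flp_f L170223) q6827, e3 q8333 (flp_f L247066) q10127, e3 q8334 (flp_f L247073) q10128, e3 q8335 L170252 q7377, e3 q8336 L170264 q7378, e3 q8337 L170272 q8337, e3 q8338 L170283 q8338, e3 q8339 L170291 q6833, e3 q8340 L170297 q6834, e3 q8341 L644085 q9869, e3 q8342 L637535 q10090, e3 q8343 (flp_f L247161) q10136, e3 q8344 L170328 q7386, e3 q8345 L170339 q7387, e3 q8346 L170347 q8346, e3 q8347 L614175 q10051, e3 q8348 (flp_f L170361) q6839, e3 q8349 (flp_f L247266) q10144, e3 q8350 L170385 q8350, e3 q8351 L170394 q6919, e3 q8352 L170401 q6841, e3 q8353 (flp_f L247332) q10151, e3 q8354 L170423 q6922, e3 q8355 L170434 q8355, e3 q8356 L170442 q6924, e3 q8357 L170449 q6844, e3 q8358 (flp_f L247379) q10154, e3 q8359 (flp_f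 L247389) q10155, e3 q8360 L247410 q10158, e3 q8361 L170482 q8361, e3 q8362 L170489 q6930, e3 q8363 L170496 q6931, e3 q8364 L170508 q6848, e3 q8365 (flp_f L170511) q6850, e3 q8366 (flp_f L247479) q10164, e3 q8367 (flp_f L247488) q10165, e3 q8368 L170539 q8368, e3 q8369 L170549 q8369, e3 q8370 L170555 q6938, e3 q8371 L170567 q6939, e3 q8372 (flp_f L170572) q6855, e3 q8373 (flp_f L247567) q10174, e3 q8374 L170597 q7390, e3 q8375 L170608 q6943, e3 q8376 L170616 q6857, e3 q8377 (flp_f L247642) q10181, e3 q8378 (flp_f L247651) q10182, e3 q8379 L247672 q10184, e3 q8380 L170654 q7395, e3 q8381 L170663 q6949, e3 q8382 L170672 q6950, e3 q8383 L170681 q6861, trivial⟩ (by decide +kernel)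

theorem ce_f_131 : ∀ r, r < 64 → sm gf (Qf (8384 + r)) = Qf (tab Gen.f (8384 + r)) :=
  edges_tab (sm gf) Qf (tab Gen.f) 8384 [(8384, 7399), (8385, 10193), (8386, 7401), (8387, 6955), (8388, 6956), (8389, 6866), (8390, 6867), (8391, 10203), (8392, 10202), (8393, 6868), (8394, 10206), (8395, 10207), (8396, 7410), (8397, 7411), (8398, 6966), (8399, 6967), (8400, 6874), (8401, 6875), (8402, 10215), (8403, 10216), (8404, 10217), (8405, 7419), (8406, 7420), (8407, 6975), (8408, 7422), (8409, 6977), (8410, 6881), (8411, 10230), (8412, 7424), (8413, 10233), (8414, 7426), (8415, 6983), (8416, 6984), (8417, 6885), (8418, 6886), (8419, 10242), (8420, 6887), (8421, 10244), (8422, 10245), (8423, 7433), (8424, 7434), (8425, 6993), (8426, 6994), (8427, 10252), (8428, 7438), (8429, 6893), (8430, 10257), (8431, 10258), (8432, 7442), (8433, 7443), (8434, 7002), (8435, 7003), (8436, 7004), (8437, 10269), (8438, 6900), (8439, 6899), (8440, 10273), (8441, 10271), (8442, 6902), (8443, 6903), (8444, 10276), (8445, 10277), (8446, 10278), (8447,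 7456)]
    ⟨e3 q8384 L170687 q7399, e3 q8385 L247756 q10193, e3 q8386 L170707 q7401, e3 q8387 L170714 q6955, e3 q8388 L170722 q6956, e3 q8389 L170728 q6866, e3 q8390 L170735 q6867, e3 q8391 L247830 q10203, e3 q8392 (flp_f L247828) q10202, e3 q8393 (flp_f L170752) q6868, e3 q8394 (flp_f L247857) q10206, e3 q8395 (flp_f L247867) q10207, e3 q8396 L170784 q7410, e3 q8397 L170793 q7411, e3 q8398 L170801 q6966, e3 q8399 L170809 q6967, e3 q8400 L170821 q6874, e3 q8401 L170830 q6875, e3 q8402 (flp_f L247934) q10215, e3 q8403 (flp_f L247941) q10216, e3 q8404 (flp_f L247951) q10217, e3 q8405 L170859 q7419, e3 q8406 L170867 q7420, e3 q8407 L170872 q6975, e3 q8408 L170883 q7422, e3 q8409 L170891 q6977, e3 q8410 L170898 q6881, e3 q8411 (flp_f L248057) q10230, e3 q8412 L170920 q7424, e3 q8413 L248099 q10233, e3 q8414 L170940 q7426, e3 q8415 L170949 q6983, e3 q8416 L170957 q6984, e3 q8417 L170965 q6885, e3 q8418 L170975 q6886, e3 q8419 (flp_f L248186) q10242, e3 q8420 (flp_f L170996) q6887, e3 q8421 (flp_f L248223) q10244, e3 q8422 (flp_f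 L248232) q10245, e3 q8423 L171028 q7433, e3 q8424 L171039 q7434, e3 q8425 L171046 q6993, e3 q8426 L171057 q6994, e3 q8427 L248291 q10252, e3 q8428 L171071 q7438, e3 q8429 (flp_f L171073) q6893, e3 q8430 (flp_f L248328) q10257, e3 q8431 (flp_f L248336) q10258, e3 q8432 L171097 q7442, e3 q8433 L171105 q7443, e3 q8434 L171111 q7002, e3 q8435 L171117 q7003, e3 q8436 L171127 q7004, e3 q8437 L248407 q10269, e3 q8438 L171140 q6900, e3 q8439 (flp_f L171142) q6899, e3 q8440 (flp_f L248437) q10273, e3 q8441 (flp_f L248421) q10271, e3 q8442 L171170 q6902, e3 q8443 L171178 q6903, e3 q8444 (flp_f L248462) q10276, e3 q8445 (flp_f L248470) q10277, e3 q8446 (flp_f L248481) q10278, e3 q8447 L171209 q7456, trivial⟩ (by decide +kernel)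

theorem ce_f_132 : ∀ r, r < 64 → sm gf (Qf (8448 + r)) = Qf (tab Gen.f (8448 + r)) :=
  edges_tab (sm gf) Qf (tab Gen.f) 8448 [(8448, 7457), (8449, 7017), (8450, 10135), (8451, 6910), (8452, 6911), (8453, 6912), (8454, 10287), (8455, 10288), (8456, 10289), (8457, 10291), (8458, 7467), (8459, 7468), (8460, 7469), (8461, 6916), (8462, 10299), (8463, 10143), (8464, 6918), (8465, 10303), (8466, 10304), (8467, 10149), (8468, 10150), (8469, 6921), (8470, 7947), (8471, 8471), (8472, 10147), (8473, 10153), (8474, 6926), (8475, 6927), (8476, 10316), (8477, 10315), (8478, 6928), (8479, 7948), (8480, 10319), (8481, 8481), (8482, 10162), (8483, 10163), (8484, 6934), (8485, 6935), (8486, 10323), (8487, 10324), (8488, 10325), (8489, 8489), (8490, 8490), (8491, 10171), (8492, 7470), (8493, 10173), (8494, 6941), (8495, 10336), (8496, 10337), (8497, 7473), (8498, 10179), (8499, 10180), (8500, 6945), (8501, 6946), (8502, 10346), (8503, 6947), (8504, 10348), (8505, 10349), (8506, 7480), (8507, 10189), (8508, 10190), (8509, 10353), (8510, 7484),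 (8511, 6953)]
    ⟨e3 q8448 L171219 q7457, e3 q8449 L171226 q7017, e3 q8450 (flp_f L247137) q10135, e3 q8451 L171243 q6910, e3 q8452 L171250 q6911, e3 q8453 L171260 q6912, e3 q8454 (flp_f L248551) q10287, e3 q8455 (flp_f L248561) q10288, e3 q8456 (flp_f L248568) q10289, e3 q8457 (flp_f L248587) q10291, e3 q8458 L171296 q7467, e3 q8459 L171305 q7468, e3 q8460 L171311 q7469, e3 q8461 (flp_f L171314) q6916, e3 q8462 (flp_f L248673) q10299, e3 q8463 (flp_f L247258) q10143, e3 q8464 L171354 q6918, e3 q8465 (flp_f L248742) q10303, e3 q8466 (flp_f L248754) q10304, e3 q8467 (flp_f L247311) q10149, e3 q8468 (flp_f L247319) q10150, e3 q8469 L171418 q6921, e3 q8470 (flp_f L616579) q7947, e3 q8471 L171446 q8471, e3 q8472 L616361 q10147, e3 q8473 (flp_f L247372) q10153, e3 q8474 L171466 q6926, e3 q8475 L171477 q6927, e3 q8476 L248944 q10316, e3 q8477 (flp_f L248941) q10315, e3 q8478 (flp_f L171497) q6928, e3 q8479 L616373 q7948, e3 q8480 (flp_f L248982) q10319, e3 q8481 L171539 q8481, e3 q8482 (flp_f L247455) q10162, e3 q8483 (flp_f L247467)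 q10163, e3 q8484 L171566 q6934, e3 q8485 L171573 q6935, e3 q8486 (flp_f L249054) q10323, e3 q8487 (flp_f L249061) q10324, e3 q8488 (flp_f L249070) q10325, e3 q8489 L171608 q8489, e3 q8490 L171620 q8490, e3 q8491 (flp_f L247538) q10171, e3 q8492 L171640 q7470, e3 q8493 (flp_f L247560) q10173, e3 q8494 L171655 q6941, e3 q8495 (flp_f L249200) q10336, e3 q8496 L249246 q10337, e3 q8497 L171704 q7473, e3 q8498 (flp_f L247624) q10179, e3 q8499 (flp_f L247634) q10180, e3 q8500 L171729 q6945, e3 q8501 L171739 q6946, e3 q8502 (flp_f L249335) q10346, e3 q8503 (flp_f L171759) q6947, e3 q8504 (flp_f L249370) q10348, e3 q8505 (flp_f L249379) q10349, e3 q8506 L171808 q7480, e3 q8507 (flp_f L247727) q10189, e3 q8508 (flp_f L247736) q10190, e3 q8509 L249442 q10353, e3 q8510 L171844 q7484, e3 q8511 (flp_f L171847) q6953, trivial⟩ (by decide +kernel)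

theorem ce_f_133 : ∀ r, r < 64 → sm gf (Qf (8512 + r)) = Qf (tab Gen.f (8512 + r)) :=
  edges_tab (sm gf) Qf (tab Gen.f) 8512 [(8512, 10358), (8513, 10359), (8514, 7488), (8515, 7489), (8516, 10198), (8517, 10199), (8518, 10200), (8519, 10370), (8520, 6960), (8521, 6959), (8522, 10374), (8523, 10372), (8524, 6962), (8525, 6963), (8526, 10377), (8527, 10378), (8528, 10379), (8529, 7500), (8530, 7501), (8531, 10213), (8532, 8532), (8533, 6970), (8534, 6971), (8535, 6972), (8536, 10387), (8537, 10388), (8538, 10389), (8539, 10391), (8540, 7511), (8541, 7512), (8542, 7513), (8543, 7514), (8544, 10402), (8545, 7493), (8546, 10228), (8547, 10229), (8548, 6979), (8549, 10409), (8550, 7518), (8551, 6981), (8552, 10414), (8553, 10415), (8554, 7522), (8555, 7523), (8556, 10238), (8557, 10239), (8558, 10240), (8559, 9934), (8560, 6987), (8561, 10427), (8562, 6989), (8563, 6990), (8564, 10429), (8565, 10430), (8566, 10431), (8567, 7531), (8568, 7532), (8569, 10251), (8570, 6995), (8571, 10439), (8572, 10440), (8573, 7537), (8574, 7538),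 (8575, 6998)]
    ⟨e3 q8512 (flp_f L249490) q10358, e3 q8513 (flp_f L249498) q10359, e3 q8514 L171874 q7488, e3 q8515 L171883 q7489, e3 q8516 (flp_f L247800) q10198, e3 q8517 (flp_f L247806) q10199, e3 q8518 (flp_f L247815) q10200, e3 q8519 L249570 q10370, e3 q8520 L171916 q6960, e3 q8521 (flp_f L171919) q6959, e3 q8522 (flp_f L249598) q10374, e3 q8523 (flp_f L249583) q10372, e3 q8524 L171944 q6962, e3 q8525 L171952 q6963, e3 q8526 (flp_f L249622) q10377, e3 q8527 (flp_f L249630) q10378, e3 q8528 (flp_f L249640) q10379, e3 q8529 L171985 q7500, e3 q8530 L171996 q7501, e3 q8531 (flp_f L247913) q10213, e3 q8532 L172015 q8532, e3 q8533 L172021 q6970, e3 q8534 L172028 q6971, e3 q8535 L172037 q6972, e3 q8536 (flp_f L249718) q10387, e3 q8537 (flp_f L249727) q10388, e3 q8538 (flp_f L249736) q10389, e3 q8539 (flp_f L249754) q10391, e3 q8540 L172077 q7511, e3 q8541 L172087 q7512, e3 q8542 L172093 q7513, e3 q8543 L172104 q7514, e3 q8544 L249845 q10402, e3 q8545 L553295 q7493, e3 q8546 (flp_f L248034) q10228, e3 q8547 (flp_f L248041)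 q10229, e3 q8548 L172152 q6979, e3 q8549 L249968 q10409, e3 q8550 L172192 q7518, e3 q8551 (flp_f L172195) q6981, e3 q8552 (flp_f L250022) q10414, e3 q8553 (flp_f L250030) q10415, e3 q8554 L172226 q7522, e3 q8555 L172237 q7523, e3 q8556 (flp_f L248149) q10238, e3 q8557 (flp_f L248157) q10239, e3 q8558 (flp_f L248169) q10240, e3 q8559 L550684 q9934, e3 q8560 L172279 q6987, e3 q8561 (flp_f L250143) q10427, e3 q8562 L172315 q6989, e3 q8563 L172322 q6990, e3 q8564 (flp_f L250189) q10429, e3 q8565 (flp_f L250198) q10430, e3 q8566 (flp_f L250209) q10431, e3 q8567 L172360 q7531, e3 q8568 L172373 q7532, e3 q8569 (flp_f L248287) q10251, e3 q8570 (flp_f L172385) q6995, e3 q8571 (flp_f L250296) q10439, e3 q8572 (flp_f L250302) q10440, e3 q8573 L172410 q7537, e3 q8574 L172420 q7538, e3 q8575 L172427 q6998, trivial⟩ (by decide +kernel)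

theorem ce_f_134 : ∀ r, r < 64 → sm gf (Qf (8576 + r)) = Qf (tab Gen.f (8576 + r)) :=
  edges_tab (sm gf) Qf (tab Gen.f) 8576 [(8576, 6999), (8577, 10448), (8578, 10449), (8579, 10450), (8580, 7544), (8581, 10459), (8582, 7546), (8583, 10265), (8584, 10266), (8585, 10464), (8586, 10268), (8587, 7005), (8588, 10468), (8589, 7009), (8590, 10272), (8591, 7008), (8592, 10472), (8593, 8593), (8594, 7012), (8595, 7013), (8596, 7014), (8597, 10474), (8598, 10475), (8599, 10476), (8600, 10478), (8601, 7563), (8602, 7564), (8603, 7565), (8604, 8604), (8605, 7022), (8606, 7023), (8607, 7024), (8608, 8608), (8609, 7025), (8610, 10489), (8611, 10491), (8612, 10492), (8613, 10494), (8614, 10496), (8615, 7577), (8616, 7578), (8617, 7579), (8618, 7036), (8619, 7950), (8620, 7953), (8621, 8621), (8622, 7039), (8623, 7040), (8624, 10509), (8625, 10510), (8626, 7584), (8627, 7043), (8628, 8628), (8629, 7046), (8630, 7047), (8631, 10515), (8632, 10516), (8633, 7591), (8634, 8634), (8635, 7053), (8636, 7054), (8637, 7055), (8638, 10506), (8639,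 7056)]
    ⟨e3 q8576 L172433 q6999, e3 q8577 (flp_f L250360) q10448, e3 q8578 (flp_f L250366) q10449, e3 q8579 (flp_f L250374) q10450, e3 q8580 L172460 q7544, e3 q8581 L250432 q10459, e3 q8582 L172474 q7546, e3 q8583 (flp_f L248378) q10265, e3 q8584 (flp_f L248388) q10266, e3 q8585 L250466 q10464, e3 q8586 (flp_f L248403) q10268, e3 q8587 (flp_f L172504) q7005, e3 q8588 (flp_f L250494) q10468, e3 q8589 L172520 q7009, e3 q8590 (flp_f L248430) q10272, e3 q8591 L172535 q7008, e3 q8592 (flp_f L250521) q10472, e3 q8593 L172551 q8593, e3 q8594 L172558 q7012, e3 q8595 L172566 q7013, e3 q8596 L172576 q7014, e3 q8597 (flp_f L250544) q10474, e3 q8598 (flp_f L250554) q10475, e3 q8599 (flp_f L250560) q10476, e3 q8600 (flp_f L250581) q10478, e3 q8601 L172618 q7563, e3 q8602 L172630 q7564, e3 q8603 L172638 q7565, e3 q8604 L172646 q8604, e3 q8605 L172654 q7022, e3 q8606 L172663 q7023, e3 q8607 L172670 q7024, e3 q8608 L172683 q8608, e3 q8609 L172689 q7025, e3 q8610 (flp_f L250679) q10489, e3 q8611 (flp_f L250698) q10491, e3 q8612 (flp_f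 L250704) q10492, e3 q8613 (flp_f L250725) q10494, e3 q8614 (flp_f L250740) q10496, e3 q8615 L172737 q7577, e3 q8616 L172748 q7578, e3 q8617 L172757 q7579, e3 q8618 L173482 q7036, e3 q8619 L616621 q7950, e3 q8620 L616640 q7953, e3 q8621 L173530 q8621, e3 q8622 L173793 q7039, e3 q8623 (flp_f L173863) q7040, e3 q8624 (flp_f L252509) q10509, e3 q8625 (flp_f L252516) q10510, e3 q8626 L173899 q7584, e3 q8627 L173910 q7043, e3 q8628 L174057 q8628, e3 q8629 L174065 q7046, e3 q8630 L174073 q7047, e3 q8631 (flp_f L252784) q10515, e3 q8632 (flp_f L252801) q10516, e3 q8633 L174120 q7591, e3 q8634 L174146 q8634, e3 q8635 L174154 q7053, e3 q8636 L174163 q7054, e3 q8637 L174172 q7055, e3 q8638 (flp_f L251924) q10506, e3 q8639 L174188 q7056, trivial⟩ (by decide +kernel)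

theorem ce_f_135 : ∀ r, r < 64 → sm gf (Qf (8640 + r)) = Qf (tab Gen.f (8640 + r)) :=
  edges_tab (sm gf) Qf (tab Gen.f) 8640 [(8640, 10522), (8641, 10524), (8642, 10525), (8643, 10523), (8644, 10526), (8645, 7603), (8646, 7604), (8647, 7605), (8648, 7060), (8649, 10534), (8650, 10535), (8651, 7609), (8652, 7063), (8653, 8653), (8654, 7066), (8655, 7067), (8656, 10540), (8657, 10541), (8658, 7616), (8659, 8659), (8660, 7070), (8661, 7071), (8662, 10549), (8663, 10550), (8664, 10551), (8665, 7623), (8666, 7624), (8667, 8667), (8668, 7076), (8669, 7077), (8670, 10559), (8671, 10560), (8672, 7630), (8673, 8673), (8674, 7083), (8675, 7084), (8676, 7085), (8677, 8677), (8678, 7086), (8679, 10567), (8680, 10569), (8681, 10570), (8682, 10572), (8683, 10574), (8684, 7642), (8685, 7643), (8686, 7644), (8687, 8687), (8688, 8688), (8689, 7096), (8690, 8690), (8691, 7097), (8692, 7098), (8693, 8693), (8694, 7099), (8695, 8695), (8696, 7100), (8697, 10587), (8698, 10585), (8699, 10588), (8700, 10589), (8701, 10591), (8702, 10592), (8703,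 7657)]
    ⟨e3 q8640 (flp_f L252902) q10522, e3 q8641 (flp_f L252918) q10524, e3 q8642 (flp_f L252925) q10525, e3 q8643 L615999 q10523, e3 q8644 (flp_f L252957) q10526, e3 q8645 L174230 q7603, e3 q8646 L174239 q7604, e3 q8647 L174247 q7605, e3 q8648 (flp_f L174396) q7060, e3 q8649 (flp_f L253274) q10534, e3 q8650 (flp_f L253280) q10535, e3 q8651 L174433 q7609, e3 q8652 L174443 q7063, e3 q8653 L174571 q8653, e3 q8654 L174580 q7066, e3 q8655 L174589 q7067, e3 q8656 (flp_f L253532) q10540, e3 q8657 (flp_f L253550) q10541, e3 q8658 L174642 q7616, e3 q8659 L174671 q8659, e3 q8660 L174677 q7070, e3 q8661 L174682 q7071, e3 q8662 (flp_f L253670) q10549, e3 q8663 (flp_f L253677) q10550, e3 q8664 (flp_f L253686) q10551, e3 q8665 L174708 q7623, e3 q8666 L174726 q7624, e3 q8667 L174735 q8667, e3 q8668 L174744 q7076, e3 q8669 L174751 q7077, e3 q8670 (flp_f L253779) q10559, e3 q8671 (flp_f L253795) q10560, e3 q8672 L174805 q7630, e3 q8673 L174895 q8673, e3 q8674 L174904 q7083, e3 q8675 L174913 q7084, e3 q8676 L174919 q7085, e3 q8677 L174930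 q8677, e3 q8678 L174937 q7086, e3 q8679 (flp_f L254000) q10567, e3 q8680 (flp_f L254018) q10569, e3 q8681 (flp_f L254024) q10570, e3 q8682 (flp_f L254041) q10572, e3 q8683 (flp_f L254059) q10574, e3 q8684 L174983 q7642, e3 q8685 L174993 q7643, e3 q8686 L175001 q7644, e3 q8687 L175007 q8687, e3 q8688 L175017 q8688, e3 q8689 L175025 q7096, e3 q8690 L175036 q8690, e3 q8691 L175042 q7097, e3 q8692 L175049 q7098, e3 q8693 L175060 q8693, e3 q8694 L175067 q7099, e3 q8695 L175077 q8695, e3 q8696 L175083 q7100, e3 q8697 (flp_f L254165) q10587, e3 q8698 (flp_f L628464) q10585, e3 q8699 (flp_f L254199) q10588, e3 q8700 (flp_f L254206) q10589, e3 q8701 (flp_f L254223) q10591, e3 q8702 (flp_f L254250) q10592, e3 q8703 L175141 q7657, trivial⟩ (by decide +kernel)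

theorem ce_f_136 : ∀ r, r < 64 → sm gf (Qf (8704 + r)) = Qf (tab Gen.f (8704 + r)) :=
  edges_tab (sm gf) Qf (tab Gen.f) 8704 [(8704, 7658), (8705, 7659), (8706, 7106), (8707, 9770), (8708, 7110), (8709, 7113), (8710, 9780), (8711, 9773), (8712, 9774), (8713, 9778), (8714, 9779), (8715, 10604), (8716, 9782), (8717, 7992), (8718, 7125), (8719, 7126), (8720, 9776), (8721, 7167), (8722, 9783), (8723, 8723), (8724, 7132), (8725, 10610), (8726, 9786), (8727, 7136), (8728, 7138), (8729, 9793), (8730, 10612), (8731, 9795), (8732, 10613), (8733, 7146), (8734, 10614), (8735, 10615), (8736, 9801), (8737, 7980), (8738, 8738), (8739, 8739), (8740, 7152), (8741, 7153), (8742, 10621), (8743, 10622), (8744, 10620), (8745, 7349), (8746, 7191), (8747, 7159), (8748, 9804), (8749, 8749), (8750, 7161), (8751, 10632), (8752, 10606), (8753, 9810), (8754, 8754), (8755, 8755), (8756, 7165), (8757, 9818), (8758, 8758), (8759, 7172), (8760, 10636), (8761, 9823), (8762, 8762), (8763, 7174), (8764, 10640), (8765, 10641), (8766, 10643), (8767, 9829)]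
    ⟨e3 q8704 L175149 q7658, e3 q8705 L175155 q7659, e3 q8706 L620847 q7106, e3 q8707 (flp_f L636451) q9770, e3 q8708 L175487 q7110, e3 q8709 (flp_f L175763) q7113, e3 q8710 L644937 q9780, e3 q8711 (flp_f L242744) q9773, e3 q8712 (flp_f L644919) q9774, e3 q8713 (flp_f L242871) q9778, e3 q8714 (flp_f L242915) q9779, e3 q8715 L255582 q10604, e3 q8716 (flp_f L242961) q9782, e3 q8717 L620954 q7992, e3 q8718 L176017 q7125, e3 q8719 (flp_f L176021) q7126, e3 q8720 (flp_f L644341) q9776, e3 q8721 L640383 q7167, e3 q8722 (flp_f L243133) q9783, e3 q8723 L176393 q8723, e3 q8724 L176399 q7132, e3 q8725 L256224 q10610, e3 q8726 (flp_f L243183) q9786, e3 q8727 L176451 q7136, e3 q8728 (flp_f L176455) q7138, e3 q8729 (flp_f L243254) q9793, e3 q8730 L256457 q10612, e3 q8731 (flp_f L243375) q9795, e3 q8732 L256532 q10613, e3 q8733 (flp_f L176671) q7146, e3 q8734 (flp_f L256630) q10614, e3 q8735 (flp_f L256637) q10615, e3 q8736 (flp_f L243466) q9801, e3 q8737 L645121 q7980, e3 q8738 L176711 q8738, e3 q8739 L176720 q8739, e3 q8740 L176730 q7152,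 e3 q8741 L176737 q7153, e3 q8742 (flp_f L256696) q10621, e3 q8743 (flp_f L256703) q10622, e3 q8744 (flp_f L635035) q10620, e3 q8745 (flp_f L641091) q7349, e3 q8746 L641140 q7191, e3 q8747 L176936 q7159, e3 q8748 (flp_f L243656) q9804, e3 q8749 L177044 q8749, e3 q8750 L177051 q7161, e3 q8751 (flp_f L257199) q10632, e3 q8752 L640373 q10606, e3 q8753 (flp_f L243714) q9810, e3 q8754 L177097 q8754, e3 q8755 L177106 q8755, e3 q8756 L177113 q7165, e3 q8757 (flp_f L243793) q9818, e3 q8758 L177178 q8758, e3 q8759 (flp_f L177183) q7172, e3 q8760 (flp_f L257379) q10636, e3 q8761 (flp_f L243851) q9823, e3 q8762 L177220 q8762, e3 q8763 L177227 q7174, e3 q8764 (flp_f L257454) q10640, e3 q8765 (flp_f L257467) q10641, e3 q8766 L257491 q10643, e3 q8767 (flp_f L243904) q9829, trivial⟩ (by decide +kernel)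

theorem ce_f_137 : ∀ r, r < 64 → sm gf (Qf (8768 + r)) = Qf (tab Gen.f (8768 + r)) :=
  edges_tab (sm gf) Qf (tab Gen.f) 8768 [(8768, 8768), (8769, 8769), (8770, 7178), (8771, 9831), (8772, 10650), (8773, 9833), (8774, 8774), (8775, 7183), (8776, 7184), (8777, 10657), (8778, 10656), (8779, 7185), (8780, 10619), (8781, 10659), (8782, 9843), (8783, 9844), (8784, 8784), (8785, 8785), (8786, 7192), (8787, 10627), (8788, 9816), (8789, 10666), (8790, 7350), (8791, 9847), (8792, 8792), (8793, 8793), (8794, 7256), (8795, 9849), (8796, 10673), (8797, 9851), (8798, 7260), (8799, 7261), (8800, 7203), (8801, 7204), (8802, 10680), (8803, 10681), (8804, 9860), (8805, 9861), (8806, 7268), (8807, 7269), (8808, 7210), (8809, 7211), (8810, 10686), (8811, 9870), (8812, 7277), (8813, 9872), (8814, 7279), (8815, 7217), (8816, 10692), (8817, 9877), (8818, 10693), (8819, 9879), (8820, 7285), (8821, 7286), (8822, 7221), (8823, 7222), (8824, 10701), (8825, 7223), (8826, 10702), (8827, 10703), (8828, 9889), (8829, 9890), (8830, 7295), (8831, 7296)]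
    ⟨e3 q8768 L177273 q8768, e3 q8769 L177281 q8769, e3 q8770 L177291 q7178, e3 q8771 (flp_f L243939) q9831, e3 q8772 L257568 q10650, e3 q8773 (flp_f L243960) q9833, e3 q8774 L177338 q8774, e3 q8775 L177345 q7183, e3 q8776 L177358 q7184, e3 q8777 L257661 q10657, e3 q8778 (flp_f L257657) q10656, e3 q8779 (flp_f L177382) q7185, e3 q8780 (flp_f L645130) q10619, e3 q8781 (flp_f L257702) q10659, e3 q8782 (flp_f L244048) q9843, e3 q8783 (flp_f L244058) q9844, e3 q8784 L177422 q8784, e3 q8785 L177433 q8785, e3 q8786 L177450 q7192, e3 q8787 (flp_f L641156) q10627, e3 q8788 (flp_f L640254) q9816, e3 q8789 (flp_f L257782) q10666, e3 q8790 L641310 q7350, e3 q8791 (flp_f L244135) q9847, e3 q8792 L177500 q8792, e3 q8793 L177701 q8793, e3 q8794 L177719 q7256, e3 q8795 (flp_f L244272) q9849, e3 q8796 L258370 q10673, e3 q8797 (flp_f L244295) q9851, e3 q8798 L177869 q7260, e3 q8799 L177879 q7261, e3 q8800 L177897 q7203, e3 q8801 (flp_f L177917) q7204, e3 q8802 (flp_f L258490) q10680, e3 q8803 (flp_f L258500) q10681, e3 q8804 (flp_f L244385)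 q9860, e3 q8805 (flp_f L244394) q9861, e3 q8806 L177957 q7268, e3 q8807 L177965 q7269, e3 q8808 L177978 q7210, e3 q8809 L177989 q7211, e3 q8810 (flp_f L258576) q10686, e3 q8811 (flp_f L244480) q9870, e3 q8812 L178031 q7277, e3 q8813 (flp_f L244501) q9872, e3 q8814 L178053 q7279, e3 q8815 L178062 q7217, e3 q8816 (flp_f L258691) q10692, e3 q8817 (flp_f L244546) q9877, e3 q8818 L258737 q10693, e3 q8819 (flp_f L244565) q9879, e3 q8820 L178113 q7285, e3 q8821 L178121 q7286, e3 q8822 L178129 q7221, e3 q8823 L178140 q7222, e3 q8824 (flp_f L258820) q10701, e3 q8825 (flp_f L178160) q7223, e3 q8826 (flp_f L258854) q10702, e3 q8827 (flp_f L258863) q10703, e3 q8828 (flp_f L244648) q9889, e3 q8829 (flp_f L244657) q9890, e3 q8830 L178201 q7295, e3 q8831 L178212 q7296, trivial⟩ (by decide +kernel)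

theorem ce_f_138 : ∀ r, r < 64 → sm gf (Qf (8832 + r)) = Qf (tab Gen.f (8832 + r)) :=
  edges_tab (sm gf) Qf (tab Gen.f) 8832 [(8832, 10709), (8833, 9893), (8834, 7229), (8835, 10713), (8836, 10714), (8837, 9897), (8838, 9898), (8839, 7304), (8840, 7305), (8841, 7306), (8842, 10724), (8843, 7236), (8844, 7235), (8845, 10727), (8846, 7238), (8847, 7239), (8848, 10729), (8849, 10730), (8850, 10731), (8851, 9912), (8852, 9913), (8853, 7318), (8854, 10625), (8855, 7246), (8856, 7247), (8857, 7248), (8858, 10740), (8859, 10741), (8860, 10742), (8861, 10744), (8862, 9921), (8863, 9922), (8864, 9923), (8865, 9761), (8866, 9762), (8867, 8867), (8868, 8868), (8869, 9734), (8870, 10758), (8871, 9925), (8872, 7258), (8873, 10763), (8874, 10764), (8875, 9929), (8876, 9930), (8877, 10678), (8878, 10679), (8879, 7264), (8880, 7265), (8881, 10772), (8882, 10773), (8883, 10774), (8884, 9942), (8885, 9943), (8886, 10685), (8887, 8887), (8888, 7272), (8889, 7273), (8890, 7274), (8891, 10026), (8892, 10782), (8893, 10783), (8894, 10784), (8895,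 9953)]
    ⟨e3 q8832 L258914 q10709, e3 q8833 (flp_f L244689) q9893, e3 q8834 (flp_f L178230) q7229, e3 q8835 (flp_f L258956) q10713, e3 q8836 (flp_f L258966) q10714, e3 q8837 (flp_f L244723) q9897, e3 q8838 (flp_f L244733) q9898, e3 q8839 L178274 q7304, e3 q8840 L178282 q7305, e3 q8841 L178295 q7306, e3 q8842 L259051 q10724, e3 q8843 L178313 q7236, e3 q8844 (flp_f L178315) q7235, e3 q8845 (flp_f L259090) q10727, e3 q8846 L178346 q7238, e3 q8847 L178354 q7239, e3 q8848 (flp_f L259115) q10729, e3 q8849 (flp_f L259123) q10730, e3 q8850 (flp_f L259131) q10731, e3 q8851 (flp_f L244843) q9912, e3 q8852 (flp_f L244851) q9913, e3 q8853 L178394 q7318, e3 q8854 (flp_f L634977) q10625, e3 q8855 L178412 q7246, e3 q8856 L178419 q7247, e3 q8857 L178428 q7248, e3 q8858 (flp_f L259189) q10740, e3 q8859 (flp_f L259200) q10741, e3 q8860 (flp_f L259207) q10742, e3 q8861 (flp_f L259222) q10744, e3 q8862 (flp_f L244931) q9921, e3 q8863 (flp_f L244940) q9922, e3 q8864 (flp_f L244945) q9923, e3 q8865 L640922 q9761, e3 q8866 L640901 q9762, e3 q8867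 L178772 q8867, e3 q8868 L178783 q8868, e3 q8869 (flp_f L633252) q9734, e3 q8870 L260073 q10758, e3 q8871 (flp_f L245173) q9925, e3 q8872 (flp_f L179008) q7258, e3 q8873 (flp_f L260126) q10763, e3 q8874 (flp_f L260136) q10764, e3 q8875 (flp_f L245211) q9929, e3 q8876 (flp_f L245222) q9930, e3 q8877 (flp_f L258420) q10678, e3 q8878 (flp_f L258440) q10679, e3 q8879 L179124 q7264, e3 q8880 L179132 q7265, e3 q8881 (flp_f L260283) q10772, e3 q8882 (flp_f L260291) q10773, e3 q8883 (flp_f L260298) q10774, e3 q8884 (flp_f L245346) q9942, e3 q8885 (flp_f L245357) q9943, e3 q8886 (flp_f L258538) q10685, e3 q8887 L179188 q8887, e3 q8888 L179194 q7272, e3 q8889 L179201 q7273, e3 q8890 L179209 q7274, e3 q8891 L640958 q10026, e3 q8892 (flp_f L260374) q10782, e3 q8893 (flp_f L260383) q10783, e3 q8894 (flp_f L260397) q10784, e3 q8895 (flp_f L245451) q9953, trivial⟩ (by decide +kernel)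

theorem ce_f_139 : ∀ r, r < 64 → sm gf (Qf (8896 + r)) = Qf (tab Gen.f (8896 + r)) :=
  edges_tab (sm gf) Qf (tab Gen.f) 8896 [(8896, 9954), (8897, 9955), (8898, 9956), (8899, 10795), (8900, 9958), (8901, 7892), (8902, 10691), (8903, 7281), (8904, 10802), (8905, 9966), (8906, 7283), (8907, 10807), (8908, 10808), (8909, 9970), (8910, 9971), (8911, 10697), (8912, 10698), (8913, 10699), (8914, 10333), (8915, 7289), (8916, 7291), (8917, 7292), (8918, 10821), (8919, 10822), (8920, 10823), (8921, 9985), (8922, 9986), (8923, 10708), (8924, 7297), (8925, 10832), (8926, 10833), (8927, 9991), (8928, 9992), (8929, 7300), (8930, 7301), (8931, 10841), (8932, 10842), (8933, 10843), (8934, 9998), (8935, 10852), (8936, 10000), (8937, 7897), (8938, 10721), (8939, 10857), (8940, 10723), (8941, 7307), (8942, 10860), (8943, 10726), (8944, 7310), (8945, 8945), (8946, 7313), (8947, 7314), (8948, 7315), (8949, 10864), (8950, 10865), (8951, 10866), (8952, 10868), (8953, 10019), (8954, 10020), (8955, 10021), (8956, 8956), (8957, 7323), (8958, 7324),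 (8959, 7325)]
    ⟨e3 q8896 (flp_f L245463) q9954, e3 q8897 (flp_f L245470) q9955, e3 q8898 (flp_f L245482) q9956, e3 q8899 L260489 q10795, e3 q8900 (flp_f L245504) q9958, e3 q8901 L622190 q7892, e3 q8902 (flp_f L258670) q10691, e3 q8903 L179333 q7281, e3 q8904 L260640 q10802, e3 q8905 (flp_f L245585) q9966, e3 q8906 (flp_f L179380) q7283, e3 q8907 (flp_f L260687) q10807, e3 q8908 (flp_f L260695) q10808, e3 q8909 (flp_f L245619) q9970, e3 q8910 (flp_f L245630) q9971, e3 q8911 (flp_f L258781) q10697, e3 q8912 (flp_f L258789) q10698, e3 q8913 (flp_f L258802) q10699, e3 q8914 (flp_f L554489) q10333, e3 q8915 L179460 q7289, e3 q8916 L179493 q7291, e3 q8917 L179500 q7292, e3 q8918 (flp_f L260847) q10821, e3 q8919 (flp_f L260856) q10822, e3 q8920 (flp_f L260864) q10823, e3 q8921 (flp_f L245743) q9985, e3 q8922 (flp_f L245754) q9986, e3 q8923 (flp_f L258910) q10708, e3 q8924 (flp_f L179555) q7297, e3 q8925 (flp_f L260940) q10832, e3 q8926 (flp_f L260947) q10833, e3 q8927 (flp_f L245795) q9991, e3 q8928 (flp_f L245806) q9992, e3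 q8929 L179602 q7300, e3 q8930 L179610 q7301, e3 q8931 (flp_f L261011) q10841, e3 q8932 (flp_f L261019) q10842, e3 q8933 (flp_f L261027) q10843, e3 q8934 (flp_f L245856) q9998, e3 q8935 L261089 q10852, e3 q8936 (flp_f L245874) q10000, e3 q8937 (flp_f L622223) q7897, e3 q8938 (flp_f L259027) q10721, e3 q8939 L261130 q10857, e3 q8940 (flp_f L259047) q10723, e3 q8941 (flp_f L179695) q7307, e3 q8942 (flp_f L261171) q10860, e3 q8943 (flp_f L259083) q10726, e3 q8944 L179735 q7310, e3 q8945 L179753 q8945, e3 q8946 L179758 q7313, e3 q8947 L179766 q7314, e3 q8948 L179773 q7315, e3 q8949 (flp_f L261227) q10864, e3 q8950 (flp_f L261236) q10865, e3 q8951 (flp_f L261242) q10866, e3 q8952 (flp_f L261257) q10868, e3 q8953 (flp_f L246021) q10019, e3 q8954 (flp_f L246031) q10020, e3 q8955 (flp_f L246038) q10021, e3 q8956 L179833 q8956, e3 q8957 L179839 q7323, e3 q8958 L179849 q7324, e3 q8959 L179856 q7325, trivial⟩ (by decide +kernel)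

theorem ce_f_140 : ∀ r, r < 64 → sm gf (Qf (8960 + r)) = Qf (tab Gen.f (8960 + r)) :=
  edges_tab (sm gf) Qf (tab Gen.f) 8960 [(8960, 8960), (8961, 7326), (8962, 10879), (8963, 10881), (8964, 10882), (8965, 10884), (8966, 10886), (8967, 10033), (8968, 10034), (8969, 10035), (8970, 7330), (8971, 10059), (8972, 8972), (8973, 7332), (8974, 10901), (8975, 10902), (8976, 10065), (8977, 8977), (8978, 8978), (8979, 7336), (8980, 10069), (8981, 10910), (8982, 10071), (8983, 8983), (8984, 8984), (8985, 7341), (8986, 7342), (8987, 10918), (8988, 7343), (8989, 10626), (8990, 10669), (8991, 10081), (8992, 10082), (8993, 8993), (8994, 8994), (8995, 10670), (8996, 10091), (8997, 8997), (8998, 10093), (8999, 8999), (9000, 10097), (9001, 10925), (9002, 10099), (9003, 9003), (9004, 9004), (9005, 7359), (9006, 7360), (9007, 10932), (9008, 10933), (9009, 10108), (9010, 10109), (9011, 9011), (9012, 9012), (9013, 10940), (9014, 10113), (9015, 7366), (9016, 10943), (9017, 10944), (9018, 10117), (9019, 10118), (9020, 9020), (9021, 9021), (9022,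 9022), (9023, 10953)]
    ⟨e3 q8960 L179865 q8960, e3 q8961 L179871 q7326, e3 q8962 (flp_f L261339) q10879, e3 q8963 (flp_f L261358) q10881, e3 q8964 (flp_f L261366) q10882, e3 q8965 (flp_f L261383) q10884, e3 q8966 (flp_f L261394) q10886, e3 q8967 (flp_f L246137) q10033, e3 q8968 (flp_f L246148) q10034, e3 q8969 (flp_f L246156) q10035, e3 q8970 (flp_f L179941) q7330, e3 q8971 (flp_f L246433) q10059, e3 q8972 L179980 q8972, e3 q8973 L179987 q7332, e3 q8974 (flp_f L261592) q10901, e3 q8975 L261618 q10902, e3 q8976 (flp_f L246493) q10065, e3 q8977 L180038 q8977, e3 q8978 L180048 q8978, e3 q8979 L180058 q7336, e3 q8980 (flp_f L246530) q10069, e3 q8981 L261706 q10910, e3 q8982 (flp_f L246552) q10071, e3 q8983 L180095 q8983, e3 q8984 L180104 q8984, e3 q8985 L180109 q7341, e3 q8986 L180120 q7342, e3 q8987 (flp_f L261783) q10918, e3 q8988 (flp_f L180142) q7343, e3 q8989 (flp_f L641110) q10626, e3 q8990 L641329 q10669, e3 q8991 (flp_f L246638) q10081, e3 q8992 (flp_f L246649) q10082, e3 q8993 L180191 q8993, e3 q8994 L180202 q8994,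 e3 q8995 (flp_f L641272) q10670, e3 q8996 (flp_f L246727) q10091, e3 q8997 L180266 q8997, e3 q8998 (flp_f L246748) q10093, e3 q8999 L180287 q8999, e3 q9000 (flp_f L246788) q10097, e3 q9001 L262080 q10925, e3 q9002 (flp_f L246810) q10099, e3 q9003 L180349 q9003, e3 q9004 L180358 q9004, e3 q9005 L180379 q7359, e3 q9006 (flp_f L180405) q7360, e3 q9007 (flp_f L262215) q10932, e3 q9008 (flp_f L262223) q10933, e3 q9009 (flp_f L246907) q10108, e3 q9010 (flp_f L246920) q10109, e3 q9011 L180455 q9011, e3 q9012 L180469 q9012, e3 q9013 L262287 q10940, e3 q9014 (flp_f L246954) q10113, e3 q9015 (flp_f L180486) q7366, e3 q9016 (flp_f L262326) q10943, e3 q9017 (flp_f L262333) q10944, e3 q9018 (flp_f L246983) q10117, e3 q9019 (flp_f L246993) q10118, e3 q9020 L180523 q9020, e3 q9021 L180530 q9021, e3 q9022 L180541 q9022, e3 q9023 L262412 q10953, trivial⟩ (by decide +kernel)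

theorem ce_f_141 : ∀ r, r < 64 → sm gf (Qf (9024 + r)) = Qf (tab Gen.f (9024 + r)) :=
  edges_tab (sm gf) Qf (tab Gen.f) 9024 [(9024, 7373), (9025, 7372), (9026, 10956), (9027, 7375), (9028, 7376), (9029, 10958), (9030, 10959), (9031, 10960), (9032, 10132), (9033, 10133), (9034, 9034), (9035, 7459), (9036, 7383), (9037, 7384), (9038, 7385), (9039, 10969), (9040, 10752), (9041, 10088), (9042, 10971), (9043, 10139), (9044, 10140), (9045, 10141), (9046, 10172), (9047, 7471), (9048, 10176), (9049, 10983), (9050, 10178), (9051, 7474), (9052, 7475), (9053, 7393), (9054, 7394), (9055, 10990), (9056, 10991), (9057, 10187), (9058, 10188), (9059, 7481), (9060, 7482), (9061, 10998), (9062, 10192), (9063, 7400), (9064, 11002), (9065, 11003), (9066, 10196), (9067, 10197), (9068, 7490), (9069, 7491), (9070, 7492), (9071, 10227), (9072, 7406), (9073, 7408), (9074, 7409), (9075, 11016), (9076, 11017), (9077, 11018), (9078, 10211), (9079, 10212), (9080, 7502), (9081, 10624), (9082, 7416), (9083, 7417), (9084, 7418), (9085, 11025), (9086,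 11027), (9087, 10222)]
    ⟨e3 q9024 L180558 q7373, e3 q9025 (flp_f L180562) q7372, e3 q9026 (flp_f L262451) q10956, e3 q9027 L180594 q7375, e3 q9028 L180601 q7376, e3 q9029 (flp_f L262479) q10958, e3 q9030 (flp_f L262487) q10959, e3 q9031 (flp_f L262495) q10960, e3 q9032 (flp_f L247106) q10132, e3 q9033 (flp_f L247118) q10133, e3 q9034 L180653 q9034, e3 q9035 L180663 q7459, e3 q9036 L180669 q7383, e3 q9037 L180676 q7384, e3 q9038 L180683 q7385, e3 q9039 (flp_f L262572) q10969, e3 q9040 (flp_f L634803) q10752, e3 q9041 (flp_f L637340) q10088, e3 q9042 (flp_f L262603) q10971, e3 q9043 (flp_f L247201) q10139, e3 q9044 (flp_f L247212) q10140, e3 q9045 (flp_f L247220) q10141, e3 q9046 (flp_f L247550) q10172, e3 q9047 L180761 q7471, e3 q9048 (flp_f L247591) q10176, e3 q9049 L262779 q10983, e3 q9050 (flp_f L247615) q10178, e3 q9051 L180822 q7474, e3 q9052 L180832 q7475, e3 q9053 L180851 q7393, e3 q9054 (flp_f L180873) q7394, e3 q9055 (flp_f L262907) q10990, e3 q9056 (flp_f L262918) q10991, e3 q9057 (flp_f L247708) q10187, e3 q9058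 (flp_f L247718) q10188, e3 q9059 L180923 q7481, e3 q9060 L180934 q7482, e3 q9061 L262975 q10998, e3 q9062 (flp_f L247754) q10192, e3 q9063 (flp_f L180954) q7400, e3 q9064 (flp_f L263015) q11002, e3 q9065 (flp_f L263025) q11003, e3 q9066 (flp_f L247784) q10196, e3 q9067 (flp_f L247792) q10197, e3 q9068 L180992 q7490, e3 q9069 L180998 q7491, e3 q9070 L181009 q7492, e3 q9071 L576368 q10227, e3 q9072 L181025 q7406, e3 q9073 L181055 q7408, e3 q9074 L181065 q7409, e3 q9075 (flp_f L263153) q11016, e3 q9076 (flp_f L263161) q11017, e3 q9077 (flp_f L263170) q11018, e3 q9078 (flp_f L247898) q10211, e3 q9079 (flp_f L247907) q10212, e3 q9080 L181109 q7502, e3 q9081 (flp_f L641064) q10624, e3 q9082 L181128 q7416, e3 q9083 L181135 q7417, e3 q9084 L181143 q7418, e3 q9085 (flp_f L263246) q11025, e3 q9086 (flp_f L263270) q11027, e3 q9087 (flp_f L247987) q10222, trivial⟩ (by decide +kernel)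

theorem ce_f_142 : ∀ r, r < 64 → sm gf (Qf (9088 + r)) = Qf (tab Gen.f (9088 + r)) :=
  edges_tab (sm gf) Qf (tab Gen.f) 9088 [(9088, 10223), (9089, 10224), (9090, 10225), (9091, 11033), (9092, 7516), (9093, 11034), (9094, 10232), (9095, 7425), (9096, 11038), (9097, 11039), (9098, 10236), (9099, 10237), (9100, 7524), (9101, 7525), (9102, 7431), (9103, 7432), (9104, 11047), (9105, 11048), (9106, 11049), (9107, 10249), (9108, 10250), (9109, 7533), (9110, 7437), (9111, 11058), (9112, 11059), (9113, 10255), (9114, 10256), (9115, 7440), (9116, 7441), (9117, 11066), (9118, 11067), (9119, 11068), (9120, 10262), (9121, 11077), (9122, 10264), (9123, 7547), (9124, 7548), (9125, 11081), (9126, 7550), (9127, 7447), (9128, 11084), (9129, 7553), (9130, 7450), (9131, 10957), (9132, 7453), (9133, 7454), (9134, 7455), (9135, 11088), (9136, 11089), (9137, 11090), (9138, 11092), (9139, 10283), (9140, 10284), (9141, 10285), (9142, 10968), (9143, 7463), (9144, 7464), (9145, 7465), (9146, 7738), (9147, 7466), (9148, 11103), (9149, 11105), (9150,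 11106), (9151, 11108)]
    ⟨e3 q9088 (flp_f L247995) q10223, e3 q9089 (flp_f L248000) q10224, e3 q9090 (flp_f L248009) q10225, e3 q9091 L263347 q11033, e3 q9092 L181222 q7516, e3 q9093 L263473 q11034, e3 q9094 (flp_f L248097) q10232, e3 q9095 (flp_f L181289) q7425, e3 q9096 (flp_f L263519) q11038, e3 q9097 (flp_f L263529) q11039, e3 q9098 (flp_f L248131) q10236, e3 q9099 (flp_f L248141) q10237, e3 q9100 L181333 q7524, e3 q9101 L181355 q7525, e3 q9102 L181413 q7431, e3 q9103 L181422 q7432, e3 q9104 (flp_f L263692) q11047, e3 q9105 (flp_f L263701) q11048, e3 q9106 (flp_f L263711) q11049, e3 q9107 (flp_f L248268) q10249, e3 q9108 (flp_f L248279) q10250, e3 q9109 L181475 q7533, e3 q9110 (flp_f L181479) q7437, e3 q9111 (flp_f L263786) q11058, e3 q9112 (flp_f L263791) q11059, e3 q9113 (flp_f L248312) q10255, e3 q9114 (flp_f L248320) q10256, e3 q9115 L181513 q7440, e3 q9116 L181521 q7441, e3 q9117 (flp_f L263840) q11066, e3 q9118 (flp_f L263846) q11067, e3 q9119 (flp_f L263854) q11068, e3 q9120 (flp_f L248362) q10262, e3 q9121 L263902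 q11077, e3 q9122 (flp_f L248374) q10264, e3 q9123 L181557 q7547, e3 q9124 L181569 q7548, e3 q9125 L263932 q11081, e3 q9126 L181587 q7550, e3 q9127 (flp_f L181591) q7447, e3 q9128 (flp_f L263972) q11084, e3 q9129 L181619 q7553, e3 q9130 L181625 q7450, e3 q9131 (flp_f L262472) q10957, e3 q9132 L181650 q7453, e3 q9133 L181658 q7454, e3 q9134 L181667 q7455, e3 q9135 (flp_f L264024) q11088, e3 q9136 (flp_f L264035) q11089, e3 q9137 (flp_f L264041) q11090, e3 q9138 (flp_f L264059) q11092, e3 q9139 (flp_f L248519) q10283, e3 q9140 (flp_f L248529) q10284, e3 q9141 (flp_f L248536) q10285, e3 q9142 (flp_f L262565) q10968, e3 q9143 L181733 q7463, e3 q9144 L181743 q7464, e3 q9145 L181750 q7465, e3 q9146 L181759 q7738, e3 q9147 L181766 q7466, e3 q9148 (flp_f L264142) q11103, e3 q9149 (flp_f L264162) q11105, e3 q9150 (flp_f L264168) q11106, e3 q9151 (flp_f L264184) q11108, trivial⟩ (by decide +kernel)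

theorem ce_f_143 : ∀ r, r < 64 → sm gf (Qf (9152 + r)) = Qf (tab Gen.f (9152 + r)) :=
  edges_tab (sm gf) Qf (tab Gen.f) 9152 [(9152, 11110), (9153, 10296), (9154, 10297), (9155, 10298), (9156, 11120), (9157, 7895), (9158, 7472), (9159, 11122), (9160, 11123), (9161, 10340), (9162, 10341), (9163, 10988), (9164, 10989), (9165, 7478), (9166, 7479), (9167, 11130), (9168, 11131), (9169, 10997), (9170, 7483), (9171, 11134), (9172, 11135), (9173, 10356), (9174, 10357), (9175, 7486), (9176, 7487), (9177, 11142), (9178, 11143), (9179, 11144), (9180, 10363), (9181, 10405), (9182, 10365), (9183, 11010), (9184, 11011), (9185, 11157), (9186, 11013), (9187, 10406), (9188, 9188), (9189, 7497), (9190, 7498), (9191, 7499), (9192, 11160), (9193, 11161), (9194, 11162), (9195, 11164), (9196, 10384), (9197, 10385), (9198, 9198), (9199, 7507), (9200, 7508), (9201, 7509), (9202, 9202), (9203, 7510), (9204, 11173), (9205, 11175), (9206, 11176), (9207, 11178), (9208, 11180), (9209, 10397), (9210, 10398), (9211, 10399), (9212, 11190), (9213, 10401),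 (9214, 7515), (9215, 11194)]
    ⟨e3 q9152 (flp_f L264198) q11110, e3 q9153 (flp_f L248630) q10296, e3 q9154 (flp_f L248639) q10297, e3 q9155 (flp_f L248647) q10298, e3 q9156 L264296 q11120, e3 q9157 (flp_f L622254) q7895, e3 q9158 (flp_f L181933) q7472, e3 q9159 (flp_f L264482) q11122, e3 q9160 (flp_f L264492) q11123, e3 q9161 (flp_f L249281) q10340, e3 q9162 (flp_f L249292) q10341, e3 q9163 (flp_f L262829) q10988, e3 q9164 (flp_f L262850) q10989, e3 q9165 L182057 q7478, e3 q9166 L182066 q7479, e3 q9167 (flp_f L264653) q11130, e3 q9168 (flp_f L264671) q11131, e3 q9169 (flp_f L262969) q10997, e3 q9170 (flp_f L182127) q7483, e3 q9171 (flp_f L264757) q11134, e3 q9172 (flp_f L264765) q11135, e3 q9173 (flp_f L249471) q10356, e3 q9174 (flp_f L249481) q10357, e3 q9175 L182172 q7486, e3 q9176 L182180 q7487, e3 q9177 (flp_f L264822) q11142, e3 q9178 (flp_f L264828) q11143, e3 q9179 (flp_f L264834) q11144, e3 q9180 (flp_f L249527) q10363, e3 q9181 L547343 q10405, e3 q9182 (flp_f L249541) q10365, e3 q9183 (flp_f L263063) q11010, e3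 q9184 (flp_f L263074) q11011, e3 q9185 L264923 q11157, e3 q9186 (flp_f L263092) q11013, e3 q9187 L553241 q10406, e3 q9188 L182302 q9188, e3 q9189 L182307 q7497, e3 q9190 L182315 q7498, e3 q9191 L182323 q7499, e3 q9192 (flp_f L265004) q11160, e3 q9193 (flp_f L265014) q11161, e3 q9194 (flp_f L265022) q11162, e3 q9195 (flp_f L265039) q11164, e3 q9196 (flp_f L249682) q10384, e3 q9197 (flp_f L249693) q10385, e3 q9198 L182391 q9198, e3 q9199 L182397 q7507, e3 q9200 L182406 q7508, e3 q9201 L182415 q7509, e3 q9202 L182424 q9202, e3 q9203 L182430 q7510, e3 q9204 (flp_f L265129) q11173, e3 q9205 (flp_f L265148) q11175, e3 q9206 (flp_f L265154) q11176, e3 q9207 (flp_f L265171) q11178, e3 q9208 (flp_f L265182) q11180, e3 q9209 (flp_f L249798) q10397, e3 q9210 (flp_f L249808) q10398, e3 q9211 (flp_f L249816) q10399, e3 q9212 L265282 q11190, e3 q9213 (flp_f L249842) q10401, e3 q9214 (flp_f L182520) q7515, e3 q9215 (flp_f L265324) q11194, trivial⟩ (by decide +kernel)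

theorem ce_f_144 : ∀ r, r < 64 → sm gf (Qf (9216 + r)) = Qf (tab Gen.f (9216 + r)) :=
  edges_tab (sm gf) Qf (tab Gen.f) 9216 [(9216, 7517), (9217, 11196), (9218, 11197), (9219, 10412), (9220, 10413), (9221, 7520), (9222, 7521), (9223, 11203), (9224, 11204), (9225, 11205), (9226, 10419), (9227, 10421), (9228, 11045), (9229, 9229), (9230, 7528), (9231, 7529), (9232, 7530), (9233, 11214), (9234, 11215), (9235, 11216), (9236, 11218), (9237, 10436), (9238, 10437), (9239, 7920), (9240, 7535), (9241, 7536), (9242, 11228), (9243, 11229), (9244, 11230), (9245, 10444), (9246, 11239), (9247, 10446), (9248, 9248), (9249, 7541), (9250, 7542), (9251, 7543), (9252, 11243), (9253, 11244), (9254, 11245), (9255, 11254), (9256, 11247), (9257, 10456), (9258, 11260), (9259, 10458), (9260, 7545), (9261, 11264), (9262, 10461), (9263, 11266), (9264, 11080), (9265, 7549), (9266, 11269), (9267, 11268), (9268, 7552), (9269, 11085), (9270, 11086), (9271, 9271), (9272, 7559), (9273, 7560), (9274, 7561), (9275, 7791), (9276, 7562), (9277, 11275), (9278,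 11277), (9279, 11278)]
    ⟨e3 q9216 (flp_f L182642) q7517, e3 q9217 (flp_f L265533) q11196, e3 q9218 (flp_f L265541) q11197, e3 q9219 (flp_f L250001) q10412, e3 q9220 (flp_f L250013) q10413, e3 q9221 L182693 q7520, e3 q9222 L182701 q7521, e3 q9223 (flp_f L265610) q11203, e3 q9224 (flp_f L265618) q11204, e3 q9225 (flp_f L265626) q11205, e3 q9226 (flp_f L250065) q10419, e3 q9227 (flp_f L250083) q10421, e3 q9228 (flp_f L263593) q11045, e3 q9229 L182857 q9229, e3 q9230 L182863 q7528, e3 q9231 L182872 q7529, e3 q9232 L182881 q7530, e3 q9233 (flp_f L265844) q11214, e3 q9234 (flp_f L265855) q11215, e3 q9235 (flp_f L265863) q11216, e3 q9236 (flp_f L265883) q11218, e3 q9237 (flp_f L250256) q10436, e3 q9238 (flp_f L250269) q10437, e3 q9239 L182957 q7920, e3 q9240 L182965 q7535, e3 q9241 L182971 q7536, e3 q9242 (flp_f L265994) q11228, e3 q9243 (flp_f L266000) q11229, e3 q9244 (flp_f L266008) q11230, e3 q9245 (flp_f L250329) q10444, e3 q9246 L266070 q11239, e3 q9247 (flp_f L250346) q10446, e3 q9248 L183019 q9248, e3 q9249 L183024 q7541,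 e3 q9250 L183030 q7542, e3 q9251 L183036 q7543, e3 q9252 (flp_f L266098) q11243, e3 q9253 (flp_f L266106) q11244, e3 q9254 (flp_f L266112) q11245, e3 q9255 L266167 q11254, e3 q9256 (flp_f L266122) q11247, e3 q9257 (flp_f L250414) q10456, e3 q9258 L266202 q11260, e3 q9259 (flp_f L250429) q10458, e3 q9260 (flp_f L183089) q7545, e3 q9261 (flp_f L266231) q11264, e3 q9262 (flp_f L250448) q10461, e3 q9263 L266239 q11266, e3 q9264 (flp_f L263928) q11080, e3 q9265 (flp_f L183122) q7549, e3 q9266 (flp_f L266277) q11269, e3 q9267 (flp_f L266271) q11268, e3 q9268 L183158 q7552, e3 q9269 (flp_f L263986) q11085, e3 q9270 (flp_f L263994) q11086, e3 q9271 L183201 q9271, e3 q9272 L183208 q7559, e3 q9273 L183218 q7560, e3 q9274 L183224 q7561, e3 q9275 L183234 q7791, e3 q9276 L183242 q7562, e3 q9277 (flp_f L266369) q11275, e3 q9278 (flp_f L266391) q11277, e3 q9279 (flp_f L266397) q11278, trivial⟩ (by decide +kernel)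

theorem ce_f_145 : ∀ r, r < 64 → sm gf (Qf (9280 + r)) = Qf (tab Gen.f (9280 + r)) :=
  edges_tab (sm gf) Qf (tab Gen.f) 9280 [(9280, 11280), (9281, 11282), (9282, 10484), (9283, 10485), (9284, 10486), (9285, 9285), (9286, 9286), (9287, 7572), (9288, 7656), (9289, 7573), (9290, 7574), (9291, 7653), (9292, 7575), (9293, 7805), (9294, 7576), (9295, 11293), (9296, 11294), (9297, 11296), (9298, 11297), (9299, 11299), (9300, 11295), (9301, 10503), (9302, 10504), (9303, 10505), (9304, 9304), (9305, 7938), (9306, 7582), (9307, 7583), (9308, 11312), (9309, 11313), (9310, 9310), (9311, 9311), (9312, 7589), (9313, 7590), (9314, 9314), (9315, 11316), (9316, 11318), (9317, 7876), (9318, 9318), (9319, 9319), (9320, 7598), (9321, 9321), (9322, 7599), (9323, 7600), (9324, 9324), (9325, 7601), (9326, 9326), (9327, 7602), (9328, 11325), (9329, 11323), (9330, 11300), (9331, 11326), (9332, 11328), (9333, 11329), (9334, 10530), (9335, 10531), (9336, 10532), (9337, 7957), (9338, 7607), (9339, 7608), (9340, 11341), (9341, 11342), (9342, 9342),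 (9343, 9343)]
    ⟨e3 q9280 (flp_f L266415) q11280, e3 q9281 (flp_f L266429) q11282, e3 q9282 (flp_f L250633) q10484, e3 q9283 (flp_f L250645) q10485, e3 q9284 (flp_f L250653) q10486, e3 q9285 L183322 q9285, e3 q9286 L183330 q9286, e3 q9287 L183336 q7572, e3 q9288 (flp_f L647252) q7656, e3 q9289 L183356 q7573, e3 q9290 L183362 q7574, e3 q9291 L646529 q7653, e3 q9292 L183380 q7575, e3 q9293 L183387 q7805, e3 q9294 L183392 q7576, e3 q9295 (flp_f L266544) q11293, e3 q9296 (flp_f L266566) q11294, e3 q9297 (flp_f L266582) q11296, e3 q9298 (flp_f L266590) q11297, e3 q9299 (flp_f L266607) q11299, e3 q9300 L647170 q11295, e3 q9301 (flp_f L250803) q10503, e3 q9302 (flp_f L250811) q10504, e3 q9303 (flp_f L250819) q10505, e3 q9304 L183849 q9304, e3 q9305 L183943 q7938, e3 q9306 L183950 q7582, e3 q9307 L183957 q7583, e3 q9308 (flp_f L267422) q11312, e3 q9309 (flp_f L267436) q11313, e3 q9310 L184010 q9310, e3 q9311 L184188 q9311, e3 q9312 L184195 q7589, e3 q9313 L184212 q7590, e3 q9314 L184219 q9314, e3 q9315 (flp_f L267775) q11316, e3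 q9316 (flp_f L267799) q11318, e3 q9317 (flp_f L551141) q7876, e3 q9318 L184290 q9318, e3 q9319 L184298 q9319, e3 q9320 L184306 q7598, e3 q9321 L184317 q9321, e3 q9322 L184323 q7599, e3 q9323 L184330 q7600, e3 q9324 L184337 q9324, e3 q9325 L184344 q7601, e3 q9326 L184352 q9326, e3 q9327 L184356 q7602, e3 q9328 (flp_f L267924) q11325, e3 q9329 L615855 q11323, e3 q9330 L645652 q11300, e3 q9331 (flp_f L267967) q11326, e3 q9332 (flp_f L267980) q11328, e3 q9333 (flp_f L268001) q11329, e3 q9334 (flp_f L253012) q10530, e3 q9335 (flp_f L253019) q10531, e3 q9336 (flp_f L253025) q10532, e3 q9337 L184567 q7957, e3 q9338 L184575 q7607, e3 q9339 L184581 q7608, e3 q9340 (flp_f L268308) q11341, e3 q9341 (flp_f L268324) q11342, e3 q9342 L184632 q9342, e3 q9343 L184724 q9343, trivial⟩ (by decide +kernel)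

theorem ce_f_146 : ∀ r, r < 64 → sm gf (Qf (9344 + r)) = Qf (tab Gen.f (9344 + r)) :=
  edges_tab (sm gf) Qf (tab Gen.f) 9344 [(9344, 7614), (9345, 7615), (9346, 7814), (9347, 11345), (9348, 11347), (9349, 10545), (9350, 7962), (9351, 7963), (9352, 9352), (9353, 7620), (9354, 7621), (9355, 7622), (9356, 11355), (9357, 11356), (9358, 11357), (9359, 11359), (9360, 10556), (9361, 10557), (9362, 9362), (9363, 7628), (9364, 7629), (9365, 9365), (9366, 11367), (9367, 11369), (9368, 10564), (9369, 9369), (9370, 9370), (9371, 7637), (9372, 7655), (9373, 7638), (9374, 7639), (9375, 7826), (9376, 7640), (9377, 7652), (9378, 7641), (9379, 11374), (9380, 11376), (9381, 11298), (9382, 11377), (9383, 11375), (9384, 11379), (9385, 10581), (9386, 10582), (9387, 10583), (9388, 7654), (9389, 10561), (9390, 11346), (9391, 11276), (9392, 11104), (9393, 10600), (9394, 10601), (9395, 9737), (9396, 9396), (9397, 9397), (9398, 9719), (9399, 9720), (9400, 9400), (9401, 9401), (9402, 9402), (9403, 9718), (9404, 9404), (9405, 11396), (9406, 9406),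 (9407, 9407)]
    ⟨e3 q9344 L184732 q7614, e3 q9345 L184750 q7615, e3 q9346 L184758 q7814, e3 q9347 (flp_f L268526) q11345, e3 q9348 (flp_f L268553) q11347, e3 q9349 (flp_f L253620) q10545, e3 q9350 L184847 q7962, e3 q9351 L184854 q7963, e3 q9352 L184861 q9352, e3 q9353 L184865 q7620, e3 q9354 L184872 q7621, e3 q9355 L184879 q7622, e3 q9356 (flp_f L268706) q11355, e3 q9357 (flp_f L268715) q11356, e3 q9358 (flp_f L268721) q11357, e3 q9359 (flp_f L268736) q11359, e3 q9360 (flp_f L253728) q10556, e3 q9361 (flp_f L253746) q10557, e3 q9362 L184939 q9362, e3 q9363 L184945 q7628, e3 q9364 L184961 q7629, e3 q9365 L184969 q9365, e3 q9366 (flp_f L268817) q11367, e3 q9367 (flp_f L268843) q11369, e3 q9368 (flp_f L253886) q10564, e3 q9369 L185043 q9369, e3 q9370 L185051 q9370, e3 q9371 L185056 q7637, e3 q9372 L647037 q7655, e3 q9373 L185075 q7638, e3 q9374 L185081 q7639, e3 q9375 L185089 q7826, e3 q9376 L185095 q7640, e3 q9377 L646557 q7652, e3 q9378 L185110 q7641, e3 q9379 (flp_f L268966) q11374, e3 q9380 (flp_f L268984) q11376, e3 q9381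 L646626 q11298, e3 q9382 (flp_f L269011) q11377, e3 q9383 L646433 q11375, e3 q9384 (flp_f L269046) q11379, e3 q9385 (flp_f L254117) q10581, e3 q9386 (flp_f L254127) q10582, e3 q9387 (flp_f L254132) q10583, e3 q9388 L185253 q7654, e3 q9389 (flp_f L646067) q10561, e3 q9390 (flp_f L629651) q11346, e3 q9391 (flp_f L647013) q11276, e3 q9392 (flp_f L647000) q11104, e3 q9393 (flp_f L254316) q10600, e3 q9394 (flp_f L254323) q10601, e3 q9395 L548419 q9737, e3 q9396 L185542 q9396, e3 q9397 L185572 q9397, e3 q9398 L627530 q9719, e3 q9399 (flp_f L627675) q9720, e3 q9400 L185675 q9400, e3 q9401 L185686 q9401, e3 q9402 L185694 q9402, e3 q9403 (flp_f L647984) q9718, e3 q9404 L185791 q9404, e3 q9405 L270077 q11396, e3 q9406 L185808 q9406, e3 q9407 L185814 q9407, trivial⟩ (by decide +kernel)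

theorem ce_f_147 : ∀ r, r < 64 → sm gf (Qf (9408 + r)) = Qf (tab Gen.f (9408 + r)) :=
  edges_tab (sm gf) Qf (tab Gen.f) 9408 [(9408, 9408), (9409, 10645), (9410, 9410), (9411, 7674), (9412, 11402), (9413, 9413), (9414, 7677), (9415, 7680), (9416, 7681), (9417, 9724), (9418, 9725), (9419, 9826), (9420, 11405), (9421, 9421), (9422, 9422), (9423, 9423), (9424, 7688), (9425, 7689), (9426, 7690), (9427, 10970), (9428, 7691), (9429, 11413), (9430, 11415), (9431, 11416), (9432, 11418), (9433, 11420), (9434, 9434), (9435, 9435), (9436, 9436), (9437, 9758), (9438, 9438), (9439, 9439), (9440, 7754), (9441, 7702), (9442, 7703), (9443, 9747), (9444, 9748), (9445, 10001), (9446, 11433), (9447, 9447), (9448, 9448), (9449, 9449), (9450, 9450), (9451, 11443), (9452, 9452), (9453, 7712), (9454, 9745), (9455, 9972), (9456, 11448), (9457, 9987), (9458, 9458), (9459, 11454), (9460, 9460), (9461, 7714), (9462, 11458), (9463, 9463), (9464, 11460), (9465, 7780), (9466, 7718), (9467, 11463), (9468, 11462), (9469, 7721), (9470, 7785), (9471, 7786)]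
    ⟨e3 q9408 L185826 q9408, e3 q9409 L645183 q10645, e3 q9410 L185844 q9410, e3 q9411 (flp_f L185847) q7674, e3 q9412 (flp_f L270154) q11402, e3 q9413 L185879 q9413, e3 q9414 L185884 q7677, e3 q9415 L185921 q7680, e3 q9416 L185930 q7681, e3 q9417 L648139 q9724, e3 q9418 L648008 q9725, e3 q9419 (flp_f L635728) q9826, e3 q9420 (flp_f L270250) q11405, e3 q9421 L185969 q9421, e3 q9422 L185979 q9422, e3 q9423 L185986 q9423, e3 q9424 L186004 q7688, e3 q9425 L186014 q7689, e3 q9426 L186022 q7690, e3 q9427 (flp_f L262596) q10970, e3 q9428 L186038 q7691, e3 q9429 (flp_f L270339) q11413, e3 q9430 (flp_f L270357) q11415, e3 q9431 (flp_f L270364) q11416, e3 q9432 (flp_f L270381) q11418, e3 q9433 (flp_f L270394) q11420, e3 q9434 L186083 q9434, e3 q9435 L186093 q9435, e3 q9436 L186101 q9436, e3 q9437 (flp_f L648041) q9758, e3 q9438 L186376 q9438, e3 q9439 L186391 q9439, e3 q9440 L186408 q7754, e3 q9441 L186506 q7702, e3 q9442 L186517 q7703, e3 q9443 (flp_f L627572) q9747, e3 q9444 L627638 q9748, e3 q9445 (flp_f L648072) q10001, e3 q9446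 (flp_f L271117) q11433, e3 q9447 L186557 q9447, e3 q9448 L186566 q9448, e3 q9449 L186572 q9449, e3 q9450 L186619 q9450, e3 q9451 L271273 q11443, e3 q9452 L186635 q9452, e3 q9453 L186669 q7712, e3 q9454 (flp_f L645349) q9745, e3 q9455 L635680 q9972, e3 q9456 L271386 q11448, e3 q9457 L642690 q9987, e3 q9458 L186712 q9458, e3 q9459 L271425 q11454, e3 q9460 L186724 q9460, e3 q9461 (flp_f L186725) q7714, e3 q9462 (flp_f L271453) q11458, e3 q9463 L186741 q9463, e3 q9464 L271460 q11460, e3 q9465 L186755 q7780, e3 q9466 (flp_f L186759) q7718, e3 q9467 (flp_f L271500) q11463, e3 q9468 (flp_f L271493) q11462, e3 q9469 L186795 q7721, e3 q9470 L186808 q7785, e3 q9471 L186816 q7786, trivial⟩ (by decide +kernel)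

theorem ce_f_148 : ∀ r, r < 64 → sm gf (Qf (9472 + r)) = Qf (tab Gen.f (9472 + r)) :=
  edges_tab (sm gf) Qf (tab Gen.f) 9472 [(9472, 7727), (9473, 7728), (9474, 7729), (9475, 11091), (9476, 7730), (9477, 9973), (9478, 11466), (9479, 11467), (9480, 11469), (9481, 11471), (9482, 9482), (9483, 9483), (9484, 9484), (9485, 9738), (9486, 7740), (9487, 7741), (9488, 7742), (9489, 11107), (9490, 7743), (9491, 11109), (9492, 7744), (9493, 11481), (9494, 11482), (9495, 11483), (9496, 11484), (9497, 11486), (9498, 11488), (9499, 9499), (9500, 9500), (9501, 9501), (9502, 7750), (9503, 7751), (9504, 9754), (9505, 9755), (9506, 11499), (9507, 11500), (9508, 9508), (9509, 9509), (9510, 9510), (9511, 7758), (9512, 7759), (9513, 7760), (9514, 11217), (9515, 7761), (9516, 11509), (9517, 11510), (9518, 11511), (9519, 11513), (9520, 11515), (9521, 9521), (9522, 9522), (9523, 9523), (9524, 7768), (9525, 7769), (9526, 7770), (9527, 11530), (9528, 7772), (9529, 11525), (9530, 11536), (9531, 11526), (9532, 11527), (9533, 11542), (9534, 11529),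 (9535, 7771)]
    ⟨e3 q9472 L186849 q7727, e3 q9473 L186860 q7728, e3 q9474 L186867 q7729, e3 q9475 (flp_f L264051) q11091, e3 q9476 L186885 q7730, e3 q9477 (flp_f L635755) q9973, e3 q9478 (flp_f L271613) q11466, e3 q9479 (flp_f L271619) q11467, e3 q9480 (flp_f L271635) q11469, e3 q9481 (flp_f L271651) q11471, e3 q9482 L186926 q9482, e3 q9483 L186934 q9483, e3 q9484 L186939 q9484, e3 q9485 L647805 q9738, e3 q9486 L186961 q7740, e3 q9487 L186980 q7741, e3 q9488 L186987 q7742, e3 q9489 (flp_f L264177) q11107, e3 q9490 L187004 q7743, e3 q9491 (flp_f L264193) q11109, e3 q9492 L187018 q7744, e3 q9493 (flp_f L271747) q11481, e3 q9494 (flp_f L271766) q11482, e3 q9495 (flp_f L271782) q11483, e3 q9496 (flp_f L271791) q11484, e3 q9497 (flp_f L271807) q11486, e3 q9498 (flp_f L271830) q11488, e3 q9499 L187072 q9499, e3 q9500 L187077 q9500, e3 q9501 L187082 q9501, e3 q9502 L187333 q7750, e3 q9503 L187343 q7751, e3 q9504 (flp_f L635483) q9754, e3 q9505 (flp_f L635420) q9755, e3 q9506 (flp_f L272305) q11499, e3 q9507 (flp_f L272323) q11500,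 e3 q9508 L187397 q9508, e3 q9509 L187416 q9509, e3 q9510 L187440 q9510, e3 q9511 L187558 q7758, e3 q9512 L187569 q7759, e3 q9513 L187578 q7760, e3 q9514 (flp_f L265874) q11217, e3 q9515 L187598 q7761, e3 q9516 (flp_f L272629) q11509, e3 q9517 (flp_f L272651) q11510, e3 q9518 (flp_f L272657) q11511, e3 q9519 (flp_f L272678) q11513, e3 q9520 (flp_f L272694) q11515, e3 q9521 L187648 q9521, e3 q9522 L187659 q9522, e3 q9523 L187667 q9523, e3 q9524 L187683 q7768, e3 q9525 L187693 q7769, e3 q9526 L187700 q7770, e3 q9527 L272847 q11530, e3 q9528 L187716 q7772, e3 q9529 (flp_f L272801) q11525, e3 q9530 L272893 q11536, e3 q9531 (flp_f L272819) q11526, e3 q9532 (flp_f L272827) q11527, e3 q9533 L272944 q11542, e3 q9534 (flp_f L272844) q11529, e3 q9535 (flp_f L187767) q7771, trivial⟩ (by decide +kernel)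

theorem ce_f_149 : ∀ r, r < 64 → sm gf (Qf (9536 + r)) = Qf (tab Gen.f (9536 + r)) :=
  edges_tab (sm gf) Qf (tab Gen.f) 9536 [(9536, 11546), (9537, 11532), (9538, 9538), (9539, 11550), (9540, 9540), (9541, 7774), (9542, 11554), (9543, 9543), (9544, 11545), (9545, 7777), (9546, 11559), (9547, 7779), (9548, 11561), (9549, 7783), (9550, 7782), (9551, 11562), (9552, 11563), (9553, 11450), (9554, 9554), (9555, 7793), (9556, 7794), (9557, 7795), (9558, 11279), (9559, 7796), (9560, 11281), (9561, 7797), (9562, 7829), (9563, 11565), (9564, 7809), (9565, 11566), (9566, 11567), (9567, 11570), (9568, 9568), (9569, 9569), (9570, 9570), (9571, 7808), (9572, 7820), (9573, 11518), (9574, 9574), (9575, 7816), (9576, 7818), (9577, 11348), (9578, 7819), (9579, 11577), (9580, 7828), (9581, 11578), (9582, 11580), (9583, 11571), (9584, 9584), (9585, 9585), (9586, 9586), (9587, 11378), (9588, 11533), (9589, 9589), (9590, 9590), (9591, 10828), (9592, 9592), (9593, 7842), (9594, 9594), (9595, 9595), (9596, 9596), (9597, 7854), (9598, 7880), (9599,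 7856)]
    ⟨e3 q9536 (flp_f L272977) q11546, e3 q9537 (flp_f L272862) q11532, e3 q9538 L187794 q9538, e3 q9539 L273003 q11550, e3 q9540 L187811 q9540, e3 q9541 (flp_f L187813) q7774, e3 q9542 (flp_f L273038) q11554, e3 q9543 L187831 q9543, e3 q9544 (flp_f L272970) q11545, e3 q9545 L187847 q7777, e3 q9546 (flp_f L273077) q11559, e3 q9547 (flp_f L187857) q7779, e3 q9548 (flp_f L273098) q11561, e3 q9549 L187886 q7783, e3 q9550 L187891 q7782, e3 q9551 (flp_f L273115) q11562, e3 q9552 (flp_f L273122) q11563, e3 q9553 (flp_f L648242) q11450, e3 q9554 L187978 q9554, e3 q9555 L187985 q7793, e3 q9556 L188005 q7794, e3 q9557 L188011 q7795, e3 q9558 (flp_f L266409) q11279, e3 q9559 L188029 q7796, e3 q9560 (flp_f L266423) q11281, e3 q9561 L188043 q7797, e3 q9562 (flp_f L646608) q7829, e3 q9563 (flp_f L273261) q11565, e3 q9564 (flp_f L646661) q7809, e3 q9565 (flp_f L273288) q11566, e3 q9566 (flp_f L273308) q11567, e3 q9567 (flp_f L273325) q11570, e3 q9568 L188105 q9568, e3 q9569 L188113 q9569, e3 q9570 L188119 q9570, e3 q9571 L188199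 q7808, e3 q9572 (flp_f L646614) q7820, e3 q9573 (flp_f L646679) q11518, e3 q9574 L188308 q9574, e3 q9575 L188354 q7816, e3 q9576 L188381 q7818, e3 q9577 (flp_f L268562) q11348, e3 q9578 L188399 q7819, e3 q9579 (flp_f L273733) q11577, e3 q9580 (flp_f L646234) q7828, e3 q9581 (flp_f L273781) q11578, e3 q9582 (flp_f L273798) q11580, e3 q9583 (flp_f L646245) q11571, e3 q9584 L188478 q9584, e3 q9585 L188485 q9585, e3 q9586 L188491 q9586, e3 q9587 (flp_f L269031) q11378, e3 q9588 (flp_f L646241) q11533, e3 q9589 L188667 q9589, e3 q9590 L188673 q9590, e3 q9591 (flp_f L549100) q10828, e3 q9592 L189321 q9592, e3 q9593 (flp_f L193738) q7842, e3 q9594 L194683 q9594, e3 q9595 L195062 q9595, e3 q9596 L195277 q9596, e3 q9597 (flp_f L195380) q7854, e3 q9598 L195407 q7880, e3 q9599 (flp_f L196723) q7856, trivial⟩ (by decide +kernel)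

theorem ce_f_150 : ∀ r, r < 64 → sm gf (Qf (9600 + r)) = Qf (tab Gen.f (9600 + r)) :=
  edges_tab (sm gf) Qf (tab Gen.f) 9600 [(9600, 7863), (9601, 11595), (9602, 9602), (9603, 9603), (9604, 7909), (9605, 9605), (9606, 11596), (9607, 9607), (9608, 9608), (9609, 7917), (9610, 10831), (9611, 7871), (9612, 7923), (9613, 7922), (9614, 11604), (9615, 9615), (9616, 11169), (9617, 9617), (9618, 11225), (9619, 11057), (9620, 7878), (9621, 11610), (9622, 11594), (9623, 9623), (9624, 9624), (9625, 9625), (9626, 7887), (9627, 9627), (9628, 9628), (9629, 10800), (9630, 9630), (9631, 9631), (9632, 10815), (9633, 9633), (9634, 10856), (9635, 11619), (9636, 9636), (9637, 7900), (9638, 7901), (9639, 11622), (9640, 7932), (9641, 7904), (9642, 7913), (9643, 11624), (9644, 9644), (9645, 11133), (9646, 7910), (9647, 11598), (9648, 11625), (9649, 11628), (9650, 9650), (9651, 9651), (9652, 7934), (9653, 11195), (9654, 7918), (9655, 11600), (9656, 11634), (9657, 11226), (9658, 7924), (9659, 11607), (9660, 11638), (9661, 11605), (9662, 7925), (9663,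 11641)]
    ⟨e3 q9600 L615285 q7863, e3 q9601 (flp_f L286062) q11595, e3 q9602 L196763 q9602, e3 q9603 L197131 q9603, e3 q9604 (flp_f L615336) q7909, e3 q9605 L197150 q9605, e3 q9606 (flp_f L615013) q11596, e3 q9607 L197331 q9607, e3 q9608 L197340 q9608, e3 q9609 L616218 q7917, e3 q9610 (flp_f L260931) q10831, e3 q9611 L197616 q7871, e3 q9612 (flp_f L615203) q7923, e3 q9613 (flp_f L615146) q7922, e3 q9614 (flp_f L287358) q11604, e3 q9615 L197644 q9615, e3 q9616 L547059 q11169, e3 q9617 L197663 q9617, e3 q9618 L616085 q11225, e3 q9619 L617285 q11057, e3 q9620 (flp_f L197797) q7878, e3 q9621 (flp_f L287634) q11610, e3 q9622 (flp_f L284078) q11594, e3 q9623 L198263 q9623, e3 q9624 L198649 q9624, e3 q9625 L198894 q9625, e3 q9626 (flp_f L198987) q7887, e3 q9627 L199016 q9627, e3 q9628 L199368 q9628, e3 q9629 (flp_f L622156) q10800, e3 q9630 L199594 q9630, e3 q9631 L199600 q9631, e3 q9632 (flp_f L622054) q10815, e3 q9633 L200117 q9633, e3 q9634 (flp_f L607062) q10856, e3 q9635 L291424 q11619, e3 q9636 L200439 q9636, e3 q9637 (flp_f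 L200519) q7900, e3 q9638 (flp_f L200549) q7901, e3 q9639 (flp_f L291622) q11622, e3 q9640 L200596 q7932, e3 q9641 (flp_f L201028) q7904, e3 q9642 (flp_f L616257) q7913, e3 q9643 (flp_f L292265) q11624, e3 q9644 L201072 q9644, e3 q9645 (flp_f L264749) q11133, e3 q9646 L201361 q7910, e3 q9647 (flp_f L615185) q11598, e3 q9648 (flp_f L614704) q11625, e3 q9649 (flp_f L292720) q11628, e3 q9650 L201387 q9650, e3 q9651 L201402 q9651, e3 q9652 (flp_f L616247) q7934, e3 q9653 (flp_f L265523) q11195, e3 q9654 L202087 q7918, e3 q9655 (flp_f L615050) q11600, e3 q9656 (flp_f L293795) q11634, e3 q9657 (flp_f L265981) q11226, e3 q9658 L202398 q7924, e3 q9659 (flp_f L615037) q11607, e3 q9660 L294192 q11638, e3 q9661 (flp_f L614969) q11605, e3 q9662 (flp_f L202430) q7925, e3 q9663 (flp_f L294221) q11641, trivial⟩ (by decide +kernel)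

theorem ce_f_151 : ∀ r, r < 64 → sm gf (Qf (9664 + r)) = Qf (tab Gen.f (9664 + r)) :=
  edges_tab (sm gf) Qf (tab Gen.f) 9664 [(9664, 7927), (9665, 11642), (9666, 7929), (9667, 7931), (9668, 11645), (9669, 10517), (9670, 7935), (9671, 11630), (9672, 11647), (9673, 11309), (9674, 11310), (9675, 7941), (9676, 7942), (9677, 7943), (9678, 10308), (9679, 11652), (9680, 10320), (9681, 11653), (9682, 9682), (9683, 9683), (9684, 10326), (9685, 9685), (9686, 7954), (9687, 10328), (9688, 11658), (9689, 11340), (9690, 7960), (9691, 7961), (9692, 11662), (9693, 11351), (9694, 11352), (9695, 11353), (9696, 7966), (9697, 11667), (9698, 7994), (9699, 7969), (9700, 7970), (9701, 11669), (9702, 11670), (9703, 9703), (9704, 10611), (9705, 7977), (9706, 10609), (9707, 7979), (9708, 11674), (9709, 7982), (9710, 7984), (9711, 11676), (9712, 9712), (9713, 7988), (9714, 9768), (9715, 7995), (9716, 7993), (9717, 9717), (9718, 9403), (9719, 9398), (9720, 9399), (9721, 8011), (9722, 9722), (9723, 9723), (9724, 9417), (9725, 9418), (9726, 8017), (9727,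 8019)]
    ⟨e3 q9664 (flp_f L202501) q7927, e3 q9665 (flp_f L294306) q11642, e3 q9666 (flp_f L202541) q7929, e3 q9667 L202567 q7931, e3 q9668 (flp_f L294375) q11645, e3 q9669 L542811 q10517, e3 q9670 L202861 q7935, e3 q9671 (flp_f L616234) q11630, e3 q9672 (flp_f L294805) q11647, e3 q9673 (flp_f L267400) q11309, e3 q9674 (flp_f L267409) q11310, e3 q9675 L203120 q7941, e3 q9676 L203127 q7942, e3 q9677 L203135 q7943, e3 q9678 L613898 q10308, e3 q9679 (flp_f L295151) q11652, e3 q9680 (flp_f L616324) q10320, e3 q9681 (flp_f L295175) q11653, e3 q9682 L203179 q9682, e3 q9683 L203195 q9683, e3 q9684 (flp_f L615449) q10326, e3 q9685 L203504 q9685, e3 q9686 L203527 q7954, e3 q9687 (flp_f L616193) q10328, e3 q9688 (flp_f L295692) q11658, e3 q9689 (flp_f L268295) q11340, e3 q9690 L203585 q7960, e3 q9691 L203595 q7961, e3 q9692 (flp_f L295748) q11662, e3 q9693 (flp_f L268680) q11351, e3 q9694 (flp_f L268687) q11352, e3 q9695 (flp_f L268695) q11353, e3 q9696 L203644 q7966, e3 q9697 L296671 q11667, e3 q9698 L204228 q7994, e3 q9699 (flp_f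 L204325) q7969, e3 q9700 (flp_f L204368) q7970, e3 q9701 (flp_f L296911) q11669, e3 q9702 L298215 q11670, e3 q9703 L205302 q9703, e3 q9704 (flp_f L645088) q10611, e3 q9705 (flp_f L205326) q7977, e3 q9706 (flp_f L630948) q10609, e3 q9707 (flp_f L205391) q7979, e3 q9708 (flp_f L298404) q11674, e3 q9709 (flp_f L205473) q7982, e3 q9710 L205500 q7984, e3 q9711 (flp_f L298538) q11676, e3 q9712 L206049 q9712, e3 q9713 L206070 q7988, e3 q9714 L640198 q9768, e3 q9715 (flp_f L642047) q7995, e3 q9716 (flp_f L206827) q7993, e3 q9717 L207798 q9717, e3 q9718 L647984 q9403, e3 q9719 (flp_f L627530) q9398, e3 q9720 L627675 q9399, e3 q9721 L241566 q8011, e3 q9722 L241609 q9722, e3 q9723 L241630 q9723, e3 q9724 (flp_f L648139) q9417, e3 q9725 (flp_f L648008) q9418, e3 q9726 L241740 q8017, e3 q9727 L241786 q8019, trivial⟩ (by decide +kernel)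

theorem ce_f_152 : ∀ r, r < 64 → sm gf (Qf (9728 + r)) = Qf (tab Gen.f (9728 + r)) :=
  edges_tab (sm gf) Qf (tab Gen.f) 9728 [(9728, 8020), (9729, 11684), (9730, 11683), (9731, 9731), (9732, 9732), (9733, 8046), (9734, 8869), (9735, 9735), (9736, 8053), (9737, 9395), (9738, 9485), (9739, 8031), (9740, 8032), (9741, 11692), (9742, 11691), (9743, 9743), (9744, 9744), (9745, 9454), (9746, 9746), (9747, 9443), (9748, 9444), (9749, 11698), (9750, 8041), (9751, 8040), (9752, 11702), (9753, 11700), (9754, 9504), (9755, 9505), (9756, 9756), (9757, 9757), (9758, 9437), (9759, 8049), (9760, 8050), (9761, 8865), (9762, 8866), (9763, 11709), (9764, 11710), (9765, 9765), (9766, 9766), (9767, 9767), (9768, 9714), (9769, 8054), (9770, 8707), (9771, 8061), (9772, 8064), (9773, 8711), (9774, 8712), (9775, 8066), (9776, 8720), (9777, 8078), (9778, 8713), (9779, 8714), (9780, 8710), (9781, 11721), (9782, 8716), (9783, 8722), (9784, 9784), (9785, 11725), (9786, 8726), (9787, 9787), (9788, 9788), (9789, 8085), (9790, 11729), (9791, 11730)]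
    ⟨e3 q9728 L241796 q8020, e3 q9729 L351249 q11684, e3 q9730 (flp_f L351247) q11683, e3 q9731 L241844 q9731, e3 q9732 L241853 q9732, e3 q9733 L241871 q8046, e3 q9734 L633252 q8869, e3 q9735 L241932 q9735, e3 q9736 L241939 q8053, e3 q9737 (flp_f L548419) q9395, e3 q9738 (flp_f L647805) q9485, e3 q9739 L242035 q8031, e3 q9740 L242047 q8032, e3 q9741 L351628 q11692, e3 q9742 (flp_f L351625) q11691, e3 q9743 L242101 q9743, e3 q9744 L242113 q9744, e3 q9745 L645349 q9454, e3 q9746 L242188 q9746, e3 q9747 L627572 q9443, e3 q9748 (flp_f L627638) q9444, e3 q9749 L351868 q11698, e3 q9750 L242229 q8041, e3 q9751 (flp_f L242232) q8040, e3 q9752 (flp_f L351908) q11702, e3 q9753 (flp_f L351890) q11700, e3 q9754 L635483 q9504, e3 q9755 L635420 q9505, e3 q9756 L242303 q9756, e3 q9757 L242314 q9757, e3 q9758 L648041 q9437, e3 q9759 L242345 q8049, e3 q9760 L242353 q8050, e3 q9761 (flp_f L640922) q8865, e3 q9762 (flp_f L640901) q8866, e3 q9763 (flp_f L352044) q11709, e3 q9764 (flp_f L352061) q11710, e3 q9765 L242399 q9765, e3 q9766 L242410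 q9766, e3 q9767 L242417 q9767, e3 q9768 (flp_f L640198) q9714, e3 q9769 (flp_f L242455) q8054, e3 q9770 L636451 q8707, e3 q9771 (flp_f L242574) q8061, e3 q9772 (flp_f L242715) q8064, e3 q9773 L242744 q8711, e3 q9774 L644919 q8712, e3 q9775 L242758 q8066, e3 q9776 L644341 q8720, e3 q9777 (flp_f L644385) q8078, e3 q9778 L242871 q8713, e3 q9779 L242915 q8714, e3 q9780 (flp_f L644937) q8710, e3 q9781 L644955 q11721, e3 q9782 L242961 q8716, e3 q9783 L243133 q8722, e3 q9784 L243143 q9784, e3 q9785 L353270 q11725, e3 q9786 L243183 q8726, e3 q9787 L243191 q9787, e3 q9788 L243198 q9788, e3 q9789 (flp_f L243211) q8085, e3 q9790 (flp_f L353343) q11729, e3 q9791 (flp_f L353352) q11730, trivial⟩ (by decide +kernel)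

theorem ce_f_153 : ∀ r, r < 64 → sm gf (Qf (9792 + r)) = Qf (tab Gen.f (9792 + r)) :=
  edges_tab (sm gf) Qf (tab Gen.f) 9792 [(9792, 8133), (9793, 8729), (9794, 11733), (9795, 8731), (9796, 11735), (9797, 9797), (9798, 8094), (9799, 11737), (9800, 11738), (9801, 8736), (9802, 8099), (9803, 8100), (9804, 8748), (9805, 9805), (9806, 8104), (9807, 11744), (9808, 11745), (9809, 11747), (9810, 8753), (9811, 9811), (9812, 9812), (9813, 8108), (9814, 8110), (9815, 11732), (9816, 8788), (9817, 8134), (9818, 8757), (9819, 9819), (9820, 9820), (9821, 8115), (9822, 11760), (9823, 8761), (9824, 9824), (9825, 8117), (9826, 9419), (9827, 11766), (9828, 11769), (9829, 8767), (9830, 8121), (9831, 8771), (9832, 11773), (9833, 8773), (9834, 9834), (9835, 9835), (9836, 8125), (9837, 8126), (9838, 11781), (9839, 11780), (9840, 8127), (9841, 11728), (9842, 11750), (9843, 8782), (9844, 8783), (9845, 9845), (9846, 11756), (9847, 8791), (9848, 9848), (9849, 8795), (9850, 11789), (9851, 8797), (9852, 8195), (9853, 8196), (9854, 8142), (9855, 8143)]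
    ⟨e3 q9792 (flp_f L644303) q8133, e3 q9793 L243254 q8729, e3 q9794 L353523 q11733, e3 q9795 L243375 q8731, e3 q9796 L353601 q11735, e3 q9797 L243402 q9797, e3 q9798 (flp_f L243437) q8094, e3 q9799 (flp_f L353699) q11737, e3 q9800 (flp_f L353706) q11738, e3 q9801 L243466 q8736, e3 q9802 L243499 q8099, e3 q9803 L243506 q8100, e3 q9804 L243656 q8748, e3 q9805 L243667 q9805, e3 q9806 L243674 q8104, e3 q9807 (flp_f L354032) q11744, e3 q9808 (flp_f L354044) q11745, e3 q9809 L354071 q11747, e3 q9810 L243714 q8753, e3 q9811 L243724 q9811, e3 q9812 L243733 q9812, e3 q9813 L243742 q8108, e3 q9814 (flp_f L243748) q8110, e3 q9815 L644295 q11732, e3 q9816 L640254 q8788, e3 q9817 (flp_f L644181) q8134, e3 q9818 L243793 q8757, e3 q9819 L243804 q9819, e3 q9820 L243816 q9820, e3 q9821 (flp_f L243821) q8115, e3 q9822 (flp_f L354247) q11760, e3 q9823 L243851 q8761, e3 q9824 L243860 q9824, e3 q9825 L243867 q8117, e3 q9826 L635728 q9419, e3 q9827 (flp_f L354336) q11766, e3 q9828 L354359 q11769, e3 q9829 L243904 q8767, e3 q9830 L243931 q8121,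 e3 q9831 L243939 q8771, e3 q9832 L354439 q11773, e3 q9833 L243960 q8773, e3 q9834 L243971 q9834, e3 q9835 L243980 q9835, e3 q9836 L243987 q8125, e3 q9837 L243998 q8126, e3 q9838 L354533 q11781, e3 q9839 (flp_f L354529) q11780, e3 q9840 (flp_f L244021) q8127, e3 q9841 (flp_f L644107) q11728, e3 q9842 (flp_f L644150) q11750, e3 q9843 L244048 q8782, e3 q9844 L244058 q8783, e3 q9845 L244075 q9845, e3 q9846 (flp_f L631990) q11756, e3 q9847 L244135 q8791, e3 q9848 L244144 q9848, e3 q9849 L244272 q8795, e3 q9850 L354948 q11789, e3 q9851 L244295 q8797, e3 q9852 L244304 q8195, e3 q9853 L244314 q8196, e3 q9854 L244322 q8142, e3 q9855 L244332 q8143, trivial⟩ (by decide +kernel)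

theorem ce_f_154 : ∀ r, r < 64 → sm gf (Qf (9856 + r)) = Qf (tab Gen.f (9856 + r)) :=
  edges_tab (sm gf) Qf (tab Gen.f) 9856 [(9856, 11798), (9857, 8144), (9858, 11800), (9859, 11801), (9860, 8804), (9861, 8805), (9862, 8205), (9863, 8206), (9864, 8150), (9865, 8151), (9866, 11809), (9867, 11810), (9868, 11811), (9869, 8341), (9870, 8811), (9871, 8214), (9872, 8813), (9873, 8216), (9874, 8157), (9875, 11824), (9876, 11825), (9877, 8817), (9878, 11829), (9879, 8819), (9880, 8223), (9881, 8224), (9882, 8161), (9883, 8162), (9884, 11837), (9885, 11836), (9886, 8163), (9887, 11840), (9888, 11841), (9889, 8828), (9890, 8829), (9891, 8235), (9892, 11844), (9893, 8833), (9894, 8169), (9895, 11849), (9896, 11850), (9897, 8837), (9898, 8838), (9899, 8243), (9900, 8244), (9901, 8245), (9902, 11860), (9903, 8176), (9904, 8175), (9905, 11864), (9906, 11862), (9907, 8178), (9908, 8179), (9909, 11867), (9910, 11868), (9911, 11869), (9912, 8851), (9913, 8852), (9914, 8258), (9915, 11731), (9916, 8186), (9917, 8187), (9918, 8188), (9919,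 11876)]
    ⟨e3 q9856 (flp_f L355043) q11798, e3 q9857 (flp_f L244355) q8144, e3 q9858 (flp_f L355080) q11800, e3 q9859 (flp_f L355090) q11801, e3 q9860 L244385 q8804, e3 q9861 L244394 q8805, e3 q9862 L244402 q8205, e3 q9863 L244412 q8206, e3 q9864 L244425 q8150, e3 q9865 L244436 q8151, e3 q9866 (flp_f L355162) q11809, e3 q9867 (flp_f L355169) q11810, e3 q9868 (flp_f L355180) q11811, e3 q9869 (flp_f L644085) q8341, e3 q9870 L244480 q8811, e3 q9871 L244488 q8214, e3 q9872 L244501 q8813, e3 q9873 L244511 q8216, e3 q9874 L244520 q8157, e3 q9875 (flp_f L355300) q11824, e3 q9876 (flp_f L355310) q11825, e3 q9877 L244546 q8817, e3 q9878 L355355 q11829, e3 q9879 L244565 q8819, e3 q9880 L244574 q8223, e3 q9881 L244582 q8224, e3 q9882 L244590 q8161, e3 q9883 L244599 q8162, e3 q9884 L355441 q11837, e3 q9885 (flp_f L355439) q11836, e3 q9886 (flp_f L244618) q8163, e3 q9887 (flp_f L355472) q11840, e3 q9888 (flp_f L355481) q11841, e3 q9889 L244648 q8828, e3 q9890 L244657 q8829, e3 q9891 L244673 q8235, e3 q9892 L355534 q11844, e3 q9893 L244689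 q8833, e3 q9894 (flp_f L244691) q8169, e3 q9895 (flp_f L355579) q11849, e3 q9896 (flp_f L355589) q11850, e3 q9897 L244723 q8837, e3 q9898 L244733 q8838, e3 q9899 L244741 q8243, e3 q9900 L244749 q8244, e3 q9901 L244760 q8245, e3 q9902 L355675 q11860, e3 q9903 L244775 q8176, e3 q9904 (flp_f L244777) q8175, e3 q9905 (flp_f L355710) q11864, e3 q9906 (flp_f L355692) q11862, e3 q9907 L244807 q8178, e3 q9908 L244815 q8179, e3 q9909 (flp_f L355735) q11867, e3 q9910 (flp_f L355743) q11868, e3 q9911 (flp_f L355753) q11869, e3 q9912 L244843 q8851, e3 q9913 L244851 q8852, e3 q9914 L244857 q8258, e3 q9915 (flp_f L632064) q11731, e3 q9916 L244877 q8186, e3 q9917 L244884 q8187, e3 q9918 L244895 q8188, e3 q9919 (flp_f L355826) q11876, trivial⟩ (by decide +kernel)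

theorem ce_f_155 : ∀ r, r < 64 → sm gf (Qf (9920 + r)) = Qf (tab Gen.f (9920 + r)) :=
  edges_tab (sm gf) Qf (tab Gen.f) 9920 [(9920, 11877), (9921, 8862), (9922, 8863), (9923, 8864), (9924, 11880), (9925, 8871), (9926, 8193), (9927, 11885), (9928, 11886), (9929, 8875), (9930, 8876), (9931, 11794), (9932, 11795), (9933, 11796), (9934, 8559), (9935, 8199), (9936, 11898), (9937, 8201), (9938, 8202), (9939, 11900), (9940, 11901), (9941, 11902), (9942, 8884), (9943, 8885), (9944, 11807), (9945, 9945), (9946, 8209), (9947, 8210), (9948, 8211), (9949, 11911), (9950, 11912), (9951, 11913), (9952, 11915), (9953, 8895), (9954, 8896), (9955, 8897), (9956, 8898), (9957, 11926), (9958, 8900), (9959, 11822), (9960, 11823), (9961, 8218), (9962, 8219), (9963, 11934), (9964, 11936), (9965, 11939), (9966, 8905), (9967, 8221), (9968, 11944), (9969, 11945), (9970, 8909), (9971, 8910), (9972, 9455), (9973, 9477), (9974, 11834), (9975, 11955), (9976, 8228), (9977, 8227), (9978, 11959), (9979, 11957), (9980, 8230), (9981, 8231), (9982, 11962),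 (9983, 11963)]
    ⟨e3 q9920 (flp_f L355851) q11877, e3 q9921 L244931 q8862, e3 q9922 L244940 q8863, e3 q9923 L244945 q8864, e3 q9924 L356237 q11880, e3 q9925 L245173 q8871, e3 q9926 (flp_f L245176) q8193, e3 q9927 (flp_f L356293) q11885, e3 q9928 (flp_f L356303) q11886, e3 q9929 L245211 q8875, e3 q9930 L245222 q8876, e3 q9931 (flp_f L355004) q11794, e3 q9932 (flp_f L355012) q11795, e3 q9933 (flp_f L355024) q11796, e3 q9934 (flp_f L550684) q8559, e3 q9935 L245268 q8199, e3 q9936 (flp_f L356418) q11898, e3 q9937 L245304 q8201, e3 q9938 L245312 q8202, e3 q9939 (flp_f L356465) q11900, e3 q9940 (flp_f L356473) q11901, e3 q9941 (flp_f L356482) q11902, e3 q9942 L245346 q8884, e3 q9943 L245357 q8885, e3 q9944 (flp_f L355138) q11807, e3 q9945 L245378 q9945, e3 q9946 L245386 q8209, e3 q9947 L245393 q8210, e3 q9948 L245403 q8211, e3 q9949 (flp_f L356564) q11911, e3 q9950 (flp_f L356574) q11912, e3 q9951 (flp_f L356583) q11913, e3 q9952 (flp_f L356602) q11915, e3 q9953 L245451 q8895, e3 q9954 L245463 q8896, e3 q9955 L245470 q8897, e3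 q9956 L245482 q8898, e3 q9957 L356711 q11926, e3 q9958 L245504 q8900, e3 q9959 (flp_f L355281) q11822, e3 q9960 (flp_f L355290) q11823, e3 q9961 L245531 q8218, e3 q9962 L245542 q8219, e3 q9963 (flp_f L356794) q11934, e3 q9964 (flp_f L356815) q11936, e3 q9965 L356863 q11939, e3 q9966 L245585 q8905, e3 q9967 (flp_f L245588) q8221, e3 q9968 (flp_f L356913) q11944, e3 q9969 (flp_f L356921) q11945, e3 q9970 L245619 q8909, e3 q9971 L245630 q8910, e3 q9972 (flp_f L635680) q9455, e3 q9973 L635755 q9477, e3 q9974 (flp_f L355424) q11834, e3 q9975 L357009 q11955, e3 q9976 L245669 q8228, e3 q9977 (flp_f L245672) q8227, e3 q9978 (flp_f L357045) q11959, e3 q9979 (flp_f L357028) q11957, e3 q9980 L245701 q8230, e3 q9981 L245708 q8231, e3 q9982 (flp_f L357070) q11962, e3 q9983 (flp_f L357079) q11963, trivial⟩ (by decide +kernel)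

theorem ce_f_156 : ∀ r, r < 64 → sm gf (Qf (9984 + r)) = Qf (tab Gen.f (9984 + r)) :=
  edges_tab (sm gf) Qf (tab Gen.f) 9984 [(9984, 11964), (9985, 8921), (9986, 8922), (9987, 9457), (9988, 8236), (9989, 11971), (9990, 11972), (9991, 8927), (9992, 8928), (9993, 8239), (9994, 8240), (9995, 11980), (9996, 11981), (9997, 11982), (9998, 8934), (9999, 11991), (10000, 8936), (10001, 9445), (10002, 11857), (10003, 11996), (10004, 11859), (10005, 8246), (10006, 12000), (10007, 8250), (10008, 11863), (10009, 8249), (10010, 12004), (10011, 10011), (10012, 8253), (10013, 8254), (10014, 8255), (10015, 12006), (10016, 12007), (10017, 12008), (10018, 12010), (10019, 8953), (10020, 8954), (10021, 8955), (10022, 10022), (10023, 8263), (10024, 8264), (10025, 8265), (10026, 8891), (10027, 8266), (10028, 12020), (10029, 12021), (10030, 12022), (10031, 12024), (10032, 12026), (10033, 8967), (10034, 8968), (10035, 8969), (10036, 8281), (10037, 8270), (10038, 12037), (10039, 10039), (10040, 10040), (10041, 8272), (10042, 12042), (10043, 10043),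 (10044, 8275), (10045, 12043), (10046, 12044), (10047, 10047)]
    ⟨e3 q9984 (flp_f L357089) q11964, e3 q9985 L245743 q8921, e3 q9986 L245754 q8922, e3 q9987 (flp_f L642690) q9457, e3 q9988 (flp_f L245765) q8236, e3 q9989 (flp_f L357168) q11971, e3 q9990 (flp_f L357175) q11972, e3 q9991 L245795 q8927, e3 q9992 L245806 q8928, e3 q9993 L245815 q8239, e3 q9994 L245823 q8240, e3 q9995 (flp_f L357244) q11980, e3 q9996 (flp_f L357252) q11981, e3 q9997 (flp_f L357262) q11982, e3 q9998 L245856 q8934, e3 q9999 L357329 q11991, e3 q10000 L245874 q8936, e3 q10001 L648072 q9445, e3 q10002 (flp_f L355654) q11857, e3 q10003 L357371 q11996, e3 q10004 (flp_f L355671) q11859, e3 q10005 (flp_f L245909) q8246, e3 q10006 (flp_f L357404) q12000, e3 q10007 L245928 q8250, e3 q10008 (flp_f L355702) q11863, e3 q10009 L245945 q8249, e3 q10010 (flp_f L357435) q12004, e3 q10011 L245961 q10011, e3 q10012 L245968 q8253, e3 q10013 L245976 q8254, e3 q10014 L245985 q8255, e3 q10015 (flp_f L357460) q12006, e3 q10016 (flp_f L357469) q12007, e3 q10017 (flp_f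 L357475) q12008, e3 q10018 (flp_f L357493) q12010, e3 q10019 L246021 q8953, e3 q10020 L246031 q8954, e3 q10021 L246038 q8955, e3 q10022 L246047 q10022, e3 q10023 L246055 q8263, e3 q10024 L246065 q8264, e3 q10025 L246072 q8265, e3 q10026 (flp_f L640958) q8891, e3 q10027 L246090 q8266, e3 q10028 (flp_f L357579) q12020, e3 q10029 (flp_f L357597) q12021, e3 q10030 (flp_f L357605) q12022, e3 q10031 (flp_f L357625) q12024, e3 q10032 (flp_f L357639) q12026, e3 q10033 L246137 q8967, e3 q10034 L246148 q8968, e3 q10035 L246156 q8969, e3 q10036 (flp_f L614213) q8281, e3 q10037 (flp_f L246170) q8270, e3 q10038 (flp_f L357765) q12037, e3 q10039 L246199 q10039, e3 q10040 L246208 q10040, e3 q10041 L246214 q8272, e3 q10042 (flp_f L357837) q12042, e3 q10043 L246239 q10043, e3 q10044 L246267 q8275, e3 q10045 (flp_f L357890) q12043, e3 q10046 (flp_f L357902) q12044, e3 q10047 L246304 q10047, trivial⟩ (by decide +kernel)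

theorem ce_f_157 : ∀ r, r < 64 → sm gf (Qf (10048 + r)) = Qf (tab Gen.f (10048 + r)) :=
  edges_tab (sm gf) Qf (tab Gen.f) 10048 [(10048, 10048), (10049, 10049), (10050, 8279), (10051, 8347), (10052, 12036), (10053, 10053), (10054, 10054), (10055, 10055), (10056, 10056), (10057, 8286), (10058, 12059), (10059, 8971), (10060, 10060), (10061, 8288), (10062, 12066), (10063, 12067), (10064, 12069), (10065, 8976), (10066, 10066), (10067, 10067), (10068, 8292), (10069, 8980), (10070, 12078), (10071, 8982), (10072, 10072), (10073, 10073), (10074, 8297), (10075, 8298), (10076, 12088), (10077, 12087), (10078, 8299), (10079, 12091), (10080, 12092), (10081, 8991), (10082, 8992), (10083, 10083), (10084, 10084), (10085, 8305), (10086, 8306), (10087, 12100), (10088, 9041), (10089, 12101), (10090, 8342), (10091, 8996), (10092, 10092), (10093, 8998), (10094, 10094), (10095, 8312), (10096, 12113), (10097, 9000), (10098, 12116), (10099, 9002), (10100, 10100), (10101, 10101), (10102, 8316), (10103, 8317), (10104, 12125), (10105, 8318), (10106,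 12127), (10107, 12128), (10108, 9009), (10109, 9010), (10110, 10110), (10111, 10111)]
    ⟨e3 q10048 L246313 q10048, e3 q10049 L246321 q10049, e3 q10050 L246332 q8279, e3 q10051 (flp_f L614175) q8347, e3 q10052 (flp_f L614196) q12036, e3 q10053 L246366 q10053, e3 q10054 L246378 q10054, e3 q10055 L246386 q10055, e3 q10056 L246399 q10056, e3 q10057 (flp_f L246403) q8286, e3 q10058 (flp_f L358095) q12059, e3 q10059 L246433 q8971, e3 q10060 L246444 q10060, e3 q10061 L246451 q8288, e3 q10062 (flp_f L358178) q12066, e3 q10063 (flp_f L358189) q12067, e3 q10064 L358214 q12069, e3 q10065 L246493 q8976, e3 q10066 L246504 q10066, e3 q10067 L246514 q10067, e3 q10068 L246522 q8292, e3 q10069 L246530 q8980, e3 q10070 L358305 q12078, e3 q10071 L246552 q8982, e3 q10072 L246561 q10072, e3 q10073 L246570 q10073, e3 q10074 L246575 q8297, e3 q10075 L246584 q8298, e3 q10076 L358387 q12088, e3 q10077 (flp_f L358383) q12087, e3 q10078 (flp_f L246605) q8299, e3 q10079 (flp_f L358417) q12091, e3 q10080 (flp_f L358426) q12092, e3 q10081 L246638 q8991,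 e3 q10082 L246649 q8992, e3 q10083 L246659 q10083, e3 q10084 L246668 q10084, e3 q10085 L246678 q8305, e3 q10086 L246686 q8306, e3 q10087 (flp_f L358500) q12100, e3 q10088 L637340 q9041, e3 q10089 (flp_f L358516) q12101, e3 q10090 (flp_f L637535) q8342, e3 q10091 L246727 q8996, e3 q10092 L246734 q10092, e3 q10093 L246748 q8998, e3 q10094 L246756 q10094, e3 q10095 L246762 q8312, e3 q10096 (flp_f L358638) q12113, e3 q10097 L246788 q9000, e3 q10098 L358687 q12116, e3 q10099 L246810 q9002, e3 q10100 L246821 q10100, e3 q10101 L246830 q10101, e3 q10102 L246837 q8316, e3 q10103 L246849 q8317, e3 q10104 (flp_f L358780) q12125, e3 q10105 (flp_f L246874) q8318, e3 q10106 (flp_f L358822) q12127, e3 q10107 (flp_f L358830) q12128, e3 q10108 L246907 q9009, e3 q10109 L246920 q9010, e3 q10110 L246929 q10110, e3 q10111 L246941 q10111, trivial⟩ (by decide +kernel)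

theorem ce_f_158 : ∀ r, r < 64 → sm gf (Qf (10112 + r)) = Qf (tab Gen.f (10112 + r)) :=
  edges_tab (sm gf) Qf (tab Gen.f) 10112 [(10112, 12135), (10113, 9014), (10114, 8324), (10115, 12140), (10116, 12141), (10117, 9018), (10118, 9019), (10119, 10119), (10120, 10120), (10121, 10121), (10122, 12151), (10123, 8331), (10124, 8330), (10125, 12155), (10126, 12153), (10127, 8333), (10128, 8334), (10129, 11816), (10130, 12105), (10131, 12158), (10132, 9032), (10133, 9033), (10134, 10134), (10135, 8450), (10136, 8343), (10137, 11817), (10138, 12106), (10139, 9043), (10140, 9044), (10141, 9045), (10142, 12051), (10143, 8463), (10144, 8349), (10145, 12172), (10146, 12173), (10147, 8472), (10148, 10148), (10149, 8467), (10150, 8468), (10151, 8353), (10152, 10152), (10153, 8473), (10154, 8358), (10155, 8359), (10156, 12185), (10157, 12184), (10158, 8360), (10159, 12188), (10160, 10160), (10161, 10161), (10162, 8482), (10163, 8483), (10164, 8366), (10165, 8367), (10166, 12194), (10167, 12195), (10168, 12196), (10169, 10169), (10170,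 10170), (10171, 8491), (10172, 9046), (10173, 8493), (10174, 8373), (10175, 12209)]
    ⟨e3 q10112 L358896 q12135, e3 q10113 L246954 q9014, e3 q10114 (flp_f L246958) q8324, e3 q10115 (flp_f L358938) q12140, e3 q10116 (flp_f L358945) q12141, e3 q10117 L246983 q9018, e3 q10118 L246993 q9019, e3 q10119 L247001 q10119, e3 q10120 L247008 q10120, e3 q10121 L247017 q10121, e3 q10122 L359025 q12151, e3 q10123 L247031 q8331, e3 q10124 (flp_f L247035) q8330, e3 q10125 (flp_f L359060) q12155, e3 q10126 (flp_f L359043) q12153, e3 q10127 L247066 q8333, e3 q10128 L247073 q8334, e3 q10129 (flp_f L644091) q11816, e3 q10130 (flp_f L637501) q12105, e3 q10131 (flp_f L359106) q12158, e3 q10132 L247106 q9032, e3 q10133 L247118 q9033, e3 q10134 L247127 q10134, e3 q10135 L247137 q8450, e3 q10136 L247161 q8343, e3 q10137 L632120 q11817, e3 q10138 (flp_f L637486) q12106, e3 q10139 L247201 q9043, e3 q10140 L247212 q9044, e3 q10141 L247220 q9045, e3 q10142 (flp_f L614162) q12051, e3 q10143 L247258 q8463, e3 q10144 L247266 q8349, e3 q10145 (flp_f L359388)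 q12172, e3 q10146 (flp_f L359399) q12173, e3 q10147 (flp_f L616361) q8472, e3 q10148 L247303 q10148, e3 q10149 L247311 q8467, e3 q10150 L247319 q8468, e3 q10151 L247332 q8353, e3 q10152 L247357 q10152, e3 q10153 L247372 q8473, e3 q10154 L247379 q8358, e3 q10155 L247389 q8359, e3 q10156 L359588 q12185, e3 q10157 (flp_f L359586) q12184, e3 q10158 (flp_f L247410) q8360, e3 q10159 (flp_f L359630) q12188, e3 q10160 L247439 q10160, e3 q10161 L247449 q10161, e3 q10162 L247455 q8482, e3 q10163 L247467 q8483, e3 q10164 L247479 q8366, e3 q10165 L247488 q8367, e3 q10166 (flp_f L359700) q12194, e3 q10167 (flp_f L359707) q12195, e3 q10168 (flp_f L359717) q12196, e3 q10169 L247521 q10169, e3 q10170 L247531 q10170, e3 q10171 L247538 q8491, e3 q10172 L247550 q9046, e3 q10173 L247560 q8493, e3 q10174 L247567 q8373, e3 q10175 (flp_f L359838) q12209, trivial⟩ (by decide +kernel)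

theorem ce_f_159 : ∀ r, r < 64 → sm gf (Qf (10176 + r)) = Qf (tab Gen.f (10176 + r)) :=
  edges_tab (sm gf) Qf (tab Gen.f) 10176 [(10176, 9048), (10177, 12212), (10178, 9050), (10179, 8498), (10180, 8499), (10181, 8377), (10182, 8378), (10183, 12221), (10184, 8379), (10185, 12223), (10186, 12224), (10187, 9057), (10188, 9058), (10189, 8507), (10190, 8508), (10191, 12231), (10192, 9062), (10193, 8385), (10194, 12236), (10195, 12237), (10196, 9066), (10197, 9067), (10198, 8516), (10199, 8517), (10200, 8518), (10201, 12248), (10202, 8392), (10203, 8391), (10204, 12252), (10205, 12250), (10206, 8394), (10207, 8395), (10208, 12255), (10209, 12256), (10210, 12257), (10211, 9078), (10212, 9079), (10213, 8531), (10214, 12099), (10215, 8402), (10216, 8403), (10217, 8404), (10218, 12266), (10219, 12267), (10220, 12268), (10221, 12270), (10222, 9087), (10223, 9088), (10224, 9089), (10225, 9090), (10226, 12282), (10227, 9071), (10228, 8546), (10229, 8547), (10230, 8411), (10231, 12289), (10232, 9094), (10233, 8413), (10234, 12294),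 (10235, 12295), (10236, 9098), (10237, 9099), (10238, 8556), (10239, 8557)]
    ⟨e3 q10176 L247591 q9048, e3 q10177 L359883 q12212, e3 q10178 L247615 q9050, e3 q10179 L247624 q8498, e3 q10180 L247634 q8499, e3 q10181 L247642 q8377, e3 q10182 L247651 q8378, e3 q10183 (flp_f L359975) q12221, e3 q10184 (flp_f L247672) q8379, e3 q10185 (flp_f L360011) q12223, e3 q10186 (flp_f L360022) q12224, e3 q10187 L247708 q9057, e3 q10188 L247718 q9058, e3 q10189 L247727 q8507, e3 q10190 L247736 q8508, e3 q10191 L360081 q12231, e3 q10192 L247754 q9062, e3 q10193 (flp_f L247756) q8385, e3 q10194 (flp_f L360124) q12236, e3 q10195 (flp_f L360134) q12237, e3 q10196 L247784 q9066, e3 q10197 L247792 q9067, e3 q10198 L247800 q8516, e3 q10199 L247806 q8517, e3 q10200 L247815 q8518, e3 q10201 L360206 q12248, e3 q10202 L247828 q8392, e3 q10203 (flp_f L247830) q8391, e3 q10204 (flp_f L360233) q12252, e3 q10205 (flp_f L360217) q12250, e3 q10206 L247857 q8394, e3 q10207 L247867 q8395, e3 q10208 (flp_f L360259) q12255, e3 q10209 (flp_f L360267) q12256,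 e3 q10210 (flp_f L360278) q12257, e3 q10211 L247898 q9078, e3 q10212 L247907 q9079, e3 q10213 L247913 q8531, e3 q10214 (flp_f L358492) q12099, e3 q10215 L247934 q8402, e3 q10216 L247941 q8403, e3 q10217 L247951 q8404, e3 q10218 (flp_f L360348) q12266, e3 q10219 (flp_f L360358) q12267, e3 q10220 (flp_f L360367) q12268, e3 q10221 (flp_f L360385) q12270, e3 q10222 L247987 q9087, e3 q10223 L247995 q9088, e3 q10224 L248000 q9089, e3 q10225 L248009 q9090, e3 q10226 L360463 q12282, e3 q10227 (flp_f L576368) q9071, e3 q10228 L248034 q8546, e3 q10229 L248041 q8547, e3 q10230 L248057 q8411, e3 q10231 L360590 q12289, e3 q10232 L248097 q9094, e3 q10233 (flp_f L248099) q8413, e3 q10234 (flp_f L360639) q12294, e3 q10235 (flp_f L360649) q12295, e3 q10236 L248131 q9098, e3 q10237 L248141 q9099, e3 q10238 L248149 q8556, e3 q10239 L248157 q8557, trivial⟩ (by decide +kernel)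

theorem ce_f_160 : ∀ r, r < 64 → sm gf (Qf (10240 + r)) = Qf (tab Gen.f (10240 + r)) :=
  edges_tab (sm gf) Qf (tab Gen.f) 10240 [(10240, 8558), (10241, 11797), (10242, 8419), (10243, 12307), (10244, 8421), (10245, 8422), (10246, 12309), (10247, 12310), (10248, 12311), (10249, 9107), (10250, 9108), (10251, 8569), (10252, 8427), (10253, 12320), (10254, 12321), (10255, 9113), (10256, 9114), (10257, 8430), (10258, 8431), (10259, 12329), (10260, 12330), (10261, 12331), (10262, 9120), (10263, 12340), (10264, 9122), (10265, 8583), (10266, 8584), (10267, 12345), (10268, 8586), (10269, 8437), (10270, 12349), (10271, 8441), (10272, 8590), (10273, 8440), (10274, 12353), (10275, 12157), (10276, 8444), (10277, 8445), (10278, 8446), (10279, 12355), (10280, 12356), (10281, 12357), (10282, 12359), (10283, 9139), (10284, 9140), (10285, 9141), (10286, 11814), (10287, 8454), (10288, 8455), (10289, 8456), (10290, 10290), (10291, 8457), (10292, 12370), (10293, 12371), (10294, 12373), (10295, 12375), (10296, 9153), (10297, 9154), (10298, 9155),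 (10299, 8462), (10300, 12383), (10301, 12384), (10302, 12171), (10303, 8465)]
    ⟨e3 q10240 L248169 q8558, e3 q10241 (flp_f L550530) q11797, e3 q10242 L248186 q8419, e3 q10243 (flp_f L360760) q12307, e3 q10244 L248223 q8421, e3 q10245 L248232 q8422, e3 q10246 (flp_f L360809) q12309, e3 q10247 (flp_f L360818) q12310, e3 q10248 (flp_f L360830) q12311, e3 q10249 L248268 q9107, e3 q10250 L248279 q9108, e3 q10251 L248287 q8569, e3 q10252 (flp_f L248291) q8427, e3 q10253 (flp_f L360908) q12320, e3 q10254 (flp_f L360913) q12321, e3 q10255 L248312 q9113, e3 q10256 L248320 q9114, e3 q10257 L248328 q8430, e3 q10258 L248336 q8431, e3 q10259 (flp_f L360967) q12329, e3 q10260 (flp_f L360973) q12330, e3 q10261 (flp_f L360983) q12331, e3 q10262 L248362 q9120, e3 q10263 L361036 q12340, e3 q10264 L248374 q9122, e3 q10265 L248378 q8583, e3 q10266 L248388 q8584, e3 q10267 L361067 q12345, e3 q10268 L248403 q8586, e3 q10269 (flp_f L248407) q8437, e3 q10270 (flp_f L361099) q12349, e3 q10271 L248421 q8441, e3 q10272 L248430 q8590, e3 q10273 L248437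 q8440, e3 q10274 (flp_f L361127) q12353, e3 q10275 (flp_f L359079) q12157, e3 q10276 L248462 q8444, e3 q10277 L248470 q8445, e3 q10278 L248481 q8446, e3 q10279 (flp_f L361151) q12355, e3 q10280 (flp_f L361162) q12356, e3 q10281 (flp_f L361168) q12357, e3 q10282 (flp_f L361189) q12359, e3 q10283 L248519 q9139, e3 q10284 L248529 q9140, e3 q10285 L248536 q9141, e3 q10286 (flp_f L644074) q11814, e3 q10287 L248551 q8454, e3 q10288 L248561 q8455, e3 q10289 L248568 q8456, e3 q10290 L248581 q10290, e3 q10291 L248587 q8457, e3 q10292 (flp_f L361295) q12370, e3 q10293 (flp_f L361301) q12371, e3 q10294 (flp_f L361320) q12373, e3 q10295 (flp_f L361337) q12375, e3 q10296 L248630 q9153, e3 q10297 L248639 q9154, e3 q10298 L248647 q9155, e3 q10299 L248673 q8462, e3 q10300 (flp_f L361458) q12383, e3 q10301 (flp_f L361468) q12384, e3 q10302 (flp_f L359380) q12171, e3 q10303 L248742 q8465, trivial⟩ (by decide +kernel)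

theorem ce_f_161 : ∀ r, r < 64 → sm gf (Qf (10304 + r)) = Qf (tab Gen.f (10304 + r)) :=
  edges_tab (sm gf) Qf (tab Gen.f) 10304 [(10304, 8466), (10305, 12389), (10306, 12178), (10307, 12179), (10308, 9678), (10309, 10309), (10310, 10310), (10311, 12175), (10312, 12181), (10313, 12182), (10314, 12399), (10315, 8477), (10316, 8476), (10317, 12403), (10318, 12401), (10319, 8480), (10320, 9680), (10321, 12405), (10322, 12193), (10323, 8486), (10324, 8487), (10325, 8488), (10326, 9684), (10327, 12407), (10328, 9687), (10329, 12409), (10330, 10330), (10331, 10331), (10332, 12413), (10333, 8914), (10334, 12207), (10335, 12208), (10336, 8495), (10337, 8496), (10338, 12420), (10339, 12421), (10340, 9161), (10341, 9162), (10342, 12217), (10343, 12218), (10344, 12219), (10345, 11935), (10346, 8502), (10347, 12432), (10348, 8504), (10349, 8505), (10350, 12434), (10351, 12435), (10352, 12230), (10353, 8509), (10354, 12438), (10355, 12439), (10356, 9173), (10357, 9174), (10358, 8512), (10359, 8513), (10360, 12446), (10361, 12447), (10362,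 12448), (10363, 9180), (10364, 12457), (10365, 9182), (10366, 12244), (10367, 12245)]
    ⟨e3 q10304 L248754 q8466, e3 q10305 (flp_f L361603) q12389, e3 q10306 (flp_f L359473) q12178, e3 q10307 (flp_f L359486) q12179, e3 q10308 (flp_f L613898) q9678, e3 q10309 L248891 q10309, e3 q10310 L248900 q10310, e3 q10311 (flp_f L614317) q12175, e3 q10312 (flp_f L359556) q12181, e3 q10313 (flp_f L359568) q12182, e3 q10314 L361853 q12399, e3 q10315 L248941 q8477, e3 q10316 (flp_f L248944) q8476, e3 q10317 (flp_f L361893) q12403, e3 q10318 (flp_f L361875) q12401, e3 q10319 L248982 q8480, e3 q10320 L616324 q9680, e3 q10321 (flp_f L361935) q12405, e3 q10322 (flp_f L359680) q12193, e3 q10323 L249054 q8486, e3 q10324 L249061 q8487, e3 q10325 L249070 q8488, e3 q10326 L615449 q9684, e3 q10327 (flp_f L362028) q12407, e3 q10328 L616193 q9687, e3 q10329 (flp_f L362055) q12409, e3 q10330 L249118 q10330, e3 q10331 L249130 q10331, e3 q10332 L362166 q12413, e3 q10333 L554489 q8914, e3 q10334 (flp_f L359813) q12207, e3 q10335 (flp_f L359822) q12208,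 e3 q10336 L249200 q8495, e3 q10337 (flp_f L249246) q8496, e3 q10338 (flp_f L362356) q12420, e3 q10339 (flp_f L362366) q12421, e3 q10340 L249281 q9161, e3 q10341 L249292 q9162, e3 q10342 (flp_f L359939) q12217, e3 q10343 (flp_f L359947) q12218, e3 q10344 (flp_f L359958) q12219, e3 q10345 (flp_f L550691) q11935, e3 q10346 L249335 q8502, e3 q10347 (flp_f L362477) q12432, e3 q10348 L249370 q8504, e3 q10349 L249379 q8505, e3 q10350 (flp_f L362524) q12434, e3 q10351 (flp_f L362544) q12435, e3 q10352 (flp_f L360075) q12230, e3 q10353 (flp_f L249442) q8509, e3 q10354 (flp_f L362633) q12438, e3 q10355 (flp_f L362641) q12439, e3 q10356 L249471 q9173, e3 q10357 L249481 q9174, e3 q10358 L249490 q8512, e3 q10359 L249498 q8513, e3 q10360 (flp_f L362703) q12446, e3 q10361 (flp_f L362709) q12447, e3 q10362 (flp_f L362717) q12448, e3 q10363 L249527 q9180, e3 q10364 L362778 q12457, e3 q10365 L249541 q9182, e3 q10366 (flp_f L360178) q12244, e3 q10367 (flp_f L360187) q12245, trivial⟩ (by decide +kernel)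

theorem ce_f_162 : ∀ r, r < 64 → sm gf (Qf (10368 + r)) = Qf (tab Gen.f (10368 + r)) :=
  edges_tab (sm gf) Qf (tab Gen.f) 10368 [(10368, 12462), (10369, 12247), (10370, 8519), (10371, 12466), (10372, 8523), (10373, 12251), (10374, 8522), (10375, 12470), (10376, 10376), (10377, 8526), (10378, 8527), (10379, 8528), (10380, 12472), (10381, 12473), (10382, 12474), (10383, 12476), (10384, 9196), (10385, 9197), (10386, 10386), (10387, 8536), (10388, 8537), (10389, 8538), (10390, 12408), (10391, 8539), (10392, 12484), (10393, 12486), (10394, 12487), (10395, 12489), (10396, 12491), (10397, 9209), (10398, 9210), (10399, 9211), (10400, 12499), (10401, 9213), (10402, 8544), (10403, 12504), (10404, 12505), (10405, 9181), (10406, 9187), (10407, 12287), (10408, 12288), (10409, 8549), (10410, 12513), (10411, 12514), (10412, 9219), (10413, 9220), (10414, 8552), (10415, 8553), (10416, 12521), (10417, 12522), (10418, 12523), (10419, 9226), (10420, 11891), (10421, 9227), (10422, 12302), (10423, 12303), (10424, 12536), (10425, 12305), (10426,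 11897), (10427, 8561), (10428, 10428), (10429, 8564), (10430, 8565), (10431, 8566)]
    ⟨e3 q10368 L362812 q12462, e3 q10369 (flp_f L360202) q12247, e3 q10370 (flp_f L249570) q8519, e3 q10371 (flp_f L362837) q12466, e3 q10372 L249583 q8523, e3 q10373 (flp_f L360227) q12251, e3 q10374 L249598 q8522, e3 q10375 (flp_f L362860) q12470, e3 q10376 L249615 q10376, e3 q10377 L249622 q8526, e3 q10378 L249630 q8527, e3 q10379 L249640 q8528, e3 q10380 (flp_f L362885) q12472, e3 q10381 (flp_f L362895) q12473, e3 q10382 (flp_f L362903) q12474, e3 q10383 (flp_f L362923) q12476, e3 q10384 L249682 q9196, e3 q10385 L249693 q9197, e3 q10386 L249710 q10386, e3 q10387 L249718 q8536, e3 q10388 L249727 q8537, e3 q10389 L249736 q8538, e3 q10390 (flp_f L362048) q12408, e3 q10391 L249754 q8539, e3 q10392 (flp_f L363017) q12484, e3 q10393 (flp_f L363035) q12486, e3 q10394 (flp_f L363041) q12487, e3 q10395 (flp_f L363061) q12489, e3 q10396 (flp_f L363075) q12491, e3 q10397 L249798 q9209, e3 q10398 L249808 q9210, e3 q10399 L249816 q9211, e3 q10400 L363175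 q12499, e3 q10401 L249842 q9213, e3 q10402 (flp_f L249845) q8544, e3 q10403 (flp_f L363220) q12504, e3 q10404 (flp_f L363227) q12505, e3 q10405 (flp_f L547343) q9181, e3 q10406 (flp_f L553241) q9187, e3 q10407 (flp_f L360508) q12287, e3 q10408 (flp_f L360526) q12288, e3 q10409 (flp_f L249968) q8549, e3 q10410 (flp_f L363425) q12513, e3 q10411 (flp_f L363433) q12514, e3 q10412 L250001 q9219, e3 q10413 L250013 q9220, e3 q10414 L250022 q8552, e3 q10415 L250030 q8553, e3 q10416 (flp_f L363507) q12521, e3 q10417 (flp_f L363515) q12522, e3 q10418 (flp_f L363525) q12523, e3 q10419 L250065 q9226, e3 q10420 (flp_f L550668) q11891, e3 q10421 L250083 q9227, e3 q10422 (flp_f L360705) q12302, e3 q10423 (flp_f L360717) q12303, e3 q10424 L363641 q12536, e3 q10425 (flp_f L360736) q12305, e3 q10426 (flp_f L550618) q11897, e3 q10427 L250143 q8561, e3 q10428 L250181 q10428, e3 q10429 L250189 q8564, e3 q10430 L250198 q8565, e3 q10431 L250209 q8566, trivial⟩ (by decide +kernel)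

theorem ce_f_163 : ∀ r, r < 64 → sm gf (Qf (10432 + r)) = Qf (tab Gen.f (10432 + r)) :=
  edges_tab (sm gf) Qf (tab Gen.f) 10432 [(10432, 12541), (10433, 12542), (10434, 12543), (10435, 12545), (10436, 9237), (10437, 9238), (10438, 10438), (10439, 8571), (10440, 8572), (10441, 12555), (10442, 12556), (10443, 12557), (10444, 9245), (10445, 12566), (10446, 9247), (10447, 10447), (10448, 8577), (10449, 8578), (10450, 8579), (10451, 12570), (10452, 12571), (10453, 12572), (10454, 12581), (10455, 12574), (10456, 9257), (10457, 12587), (10458, 9259), (10459, 8581), (10460, 12591), (10461, 9262), (10462, 12593), (10463, 12344), (10464, 8585), (10465, 12597), (10466, 12347), (10467, 12596), (10468, 8588), (10469, 12601), (10470, 12351), (10471, 12352), (10472, 8592), (10473, 10473), (10474, 8597), (10475, 8598), (10476, 8599), (10477, 10477), (10478, 8600), (10479, 12607), (10480, 12609), (10481, 12610), (10482, 12612), (10483, 12614), (10484, 9282), (10485, 9283), (10486, 9284), (10487, 10487), (10488, 10488), (10489, 8610), (10490,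 10490), (10491, 8611), (10492, 8612), (10493, 10493), (10494, 8613), (10495, 10495)]
    ⟨e3 q10432 (flp_f L363741) q12541, e3 q10433 (flp_f L363752) q12542, e3 q10434 (flp_f L363760) q12543, e3 q10435 (flp_f L363783) q12545, e3 q10436 L250256 q9237, e3 q10437 L250269 q9238, e3 q10438 L250289 q10438, e3 q10439 L250296 q8571, e3 q10440 L250302 q8572, e3 q10441 (flp_f L363896) q12555, e3 q10442 (flp_f L363902) q12556, e3 q10443 (flp_f L363912) q12557, e3 q10444 L250329 q9245, e3 q10445 L363977 q12566, e3 q10446 L250346 q9247, e3 q10447 L250353 q10447, e3 q10448 L250360 q8577, e3 q10449 L250366 q8578, e3 q10450 L250374 q8579, e3 q10451 (flp_f L364009) q12570, e3 q10452 (flp_f L364017) q12571, e3 q10453 (flp_f L364023) q12572, e3 q10454 L364083 q12581, e3 q10455 (flp_f L364037) q12574, e3 q10456 L250414 q9257, e3 q10457 L364121 q12587, e3 q10458 L250429 q9259, e3 q10459 (flp_f L250432) q8581, e3 q10460 (flp_f L364156) q12591, e3 q10461 L250448 q9262, e3 q10462 L364164 q12593, e3 q10463 (flp_f L361063) q12344, e3 q10464 (flp_f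 L250466) q8585, e3 q10465 (flp_f L364194) q12597, e3 q10466 (flp_f L361083) q12347, e3 q10467 (flp_f L364189) q12596, e3 q10468 L250494 q8588, e3 q10469 (flp_f L364223) q12601, e3 q10470 (flp_f L361112) q12351, e3 q10471 (flp_f L361120) q12352, e3 q10472 L250521 q8592, e3 q10473 L250535 q10473, e3 q10474 L250544 q8597, e3 q10475 L250554 q8598, e3 q10476 L250560 q8599, e3 q10477 L250574 q10477, e3 q10478 L250581 q8600, e3 q10479 (flp_f L364282) q12607, e3 q10480 (flp_f L364303) q12609, e3 q10481 (flp_f L364309) q12610, e3 q10482 (flp_f L364330) q12612, e3 q10483 (flp_f L364347) q12614, e3 q10484 L250633 q9282, e3 q10485 L250645 q9283, e3 q10486 L250653 q9284, e3 q10487 L250661 q10487, e3 q10488 L250671 q10488, e3 q10489 L250679 q8610, e3 q10490 L250692 q10490, e3 q10491 L250698 q8611, e3 q10492 L250704 q8612, e3 q10493 L250719 q10493, e3 q10494 L250725 q8613, e3 q10495 L250734 q10495, trivial⟩ (by decide +kernel)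

theorem ce_f_164 : ∀ r, r < 64 → sm gf (Qf (10496 + r)) = Qf (tab Gen.f (10496 + r)) :=
  edges_tab (sm gf) Qf (tab Gen.f) 10496 [(10496, 8614), (10497, 12627), (10498, 12629), (10499, 12631), (10500, 12632), (10501, 12634), (10502, 12637), (10503, 9301), (10504, 9302), (10505, 9303), (10506, 8638), (10507, 10507), (10508, 10508), (10509, 8624), (10510, 8625), (10511, 12651), (10512, 12652), (10513, 10513), (10514, 10514), (10515, 8631), (10516, 8632), (10517, 9669), (10518, 12655), (10519, 12657), (10520, 10520), (10521, 10521), (10522, 8640), (10523, 8643), (10524, 8641), (10525, 8642), (10526, 8644), (10527, 12488), (10528, 12656), (10529, 12485), (10530, 9334), (10531, 9335), (10532, 9336), (10533, 10533), (10534, 8649), (10535, 8650), (10536, 12664), (10537, 12665), (10538, 10538), (10539, 10539), (10540, 8656), (10541, 8657), (10542, 10542), (10543, 12668), (10544, 12670), (10545, 9349), (10546, 10546), (10547, 10547), (10548, 10548), (10549, 8662), (10550, 8663), (10551, 8664), (10552, 12678), (10553, 12679), (10554,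 12680), (10555, 12682), (10556, 9360), (10557, 9361), (10558, 10558), (10559, 8670)]
    ⟨e3 q10496 L250740 q8614, e3 q10497 (flp_f L364468) q12627, e3 q10498 (flp_f L364489) q12629, e3 q10499 (flp_f L364504) q12631, e3 q10500 (flp_f L364512) q12632, e3 q10501 (flp_f L364532) q12634, e3 q10502 (flp_f L364557) q12637, e3 q10503 L250803 q9301, e3 q10504 L250811 q9302, e3 q10505 L250819 q9303, e3 q10506 L251924 q8638, e3 q10507 L252401 q10507, e3 q10508 L252503 q10508, e3 q10509 L252509 q8624, e3 q10510 L252516 q8625, e3 q10511 (flp_f L367151) q12651, e3 q10512 (flp_f L367167) q12652, e3 q10513 L252572 q10513, e3 q10514 L252775 q10514, e3 q10515 L252784 q8631, e3 q10516 L252801 q8632, e3 q10517 (flp_f L542811) q9669, e3 q10518 (flp_f L367561) q12655, e3 q10519 (flp_f L367584) q12657, e3 q10520 L252882 q10520, e3 q10521 L252892 q10521, e3 q10522 L252902 q8640, e3 q10523 (flp_f L615999) q8643, e3 q10524 L252918 q8641, e3 q10525 L252925 q8642, e3 q10526 L252957 q8644, e3 q10527 (flp_f L615923) q12488, e3 q10528 L616253 q12656,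 e3 q10529 (flp_f L615558) q12485, e3 q10530 L253012 q9334, e3 q10531 L253019 q9335, e3 q10532 L253025 q9336, e3 q10533 L253267 q10533, e3 q10534 L253274 q8649, e3 q10535 L253280 q8650, e3 q10536 (flp_f L368280) q12664, e3 q10537 (flp_f L368298) q12665, e3 q10538 L253341 q10538, e3 q10539 L253522 q10539, e3 q10540 L253532 q8656, e3 q10541 L253550 q8657, e3 q10542 L253562 q10542, e3 q10543 (flp_f L368654) q12668, e3 q10544 (flp_f L368680) q12670, e3 q10545 L253620 q9349, e3 q10546 L253650 q10546, e3 q10547 L253656 q10547, e3 q10548 L253664 q10548, e3 q10549 L253670 q8662, e3 q10550 L253677 q8663, e3 q10551 L253686 q8664, e3 q10552 (flp_f L368844) q12678, e3 q10553 (flp_f L368853) q12679, e3 q10554 (flp_f L368859) q12680, e3 q10555 (flp_f L368877) q12682, e3 q10556 L253728 q9360, e3 q10557 L253746 q9361, e3 q10558 L253771 q10558, e3 q10559 L253779 q8670, trivial⟩ (by decide +kernel)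

theorem ce_f_165 : ∀ r, r < 64 → sm gf (Qf (10560 + r)) = Qf (tab Gen.f (10560 + r)) :=
  edges_tab (sm gf) Qf (tab Gen.f) 10560 [(10560, 8671), (10561, 9389), (10562, 12690), (10563, 12691), (10564, 9368), (10565, 10565), (10566, 10566), (10567, 8679), (10568, 10568), (10569, 8680), (10570, 8681), (10571, 10571), (10572, 8682), (10573, 10573), (10574, 8683), (10575, 12698), (10576, 12700), (10577, 12702), (10578, 12703), (10579, 12705), (10580, 12708), (10581, 9385), (10582, 9386), (10583, 9387), (10584, 10584), (10585, 8698), (10586, 10586), (10587, 8697), (10588, 8699), (10589, 8700), (10590, 10590), (10591, 8701), (10592, 8702), (10593, 10593), (10594, 12719), (10595, 12696), (10596, 12625), (10597, 12720), (10598, 12721), (10599, 12722), (10600, 9393), (10601, 9394), (10602, 11689), (10603, 11719), (10604, 8715), (10605, 11720), (10606, 8752), (10607, 11723), (10608, 12731), (10609, 9706), (10610, 8725), (10611, 9704), (10612, 8730), (10613, 8732), (10614, 8734), (10615, 8735), (10616, 12734), (10617, 12735), (10618,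 12733), (10619, 8780), (10620, 8744), (10621, 8742), (10622, 8743), (10623, 11808)]
    ⟨e3 q10560 L253795 q8671, e3 q10561 L646067 q9389, e3 q10562 (flp_f L369026) q12690, e3 q10563 (flp_f L369051) q12691, e3 q10564 L253886 q9368, e3 q10565 L253983 q10565, e3 q10566 L253993 q10566, e3 q10567 L254000 q8679, e3 q10568 L254011 q10568, e3 q10569 L254018 q8680, e3 q10570 L254024 q8681, e3 q10571 L254036 q10571, e3 q10572 L254041 q8682, e3 q10573 L254052 q10573, e3 q10574 L254059 q8683, e3 q10575 (flp_f L369337) q12698, e3 q10576 (flp_f L369354) q12700, e3 q10577 (flp_f L369372) q12702, e3 q10578 (flp_f L369380) q12703, e3 q10579 (flp_f L369399) q12705, e3 q10580 (flp_f L369422) q12708, e3 q10581 L254117 q9385, e3 q10582 L254127 q9386, e3 q10583 L254132 q9387, e3 q10584 L254138 q10584, e3 q10585 L628464 q8698, e3 q10586 L254157 q10586, e3 q10587 L254165 q8697, e3 q10588 L254199 q8699, e3 q10589 L254206 q8700, e3 q10590 L254217 q10590, e3 q10591 L254223 q8701, e3 q10592 L254250 q8702, e3 q10593 L254259 q10593, e3 q10594 (flp_f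 L369561) q12719, e3 q10595 (flp_f L647136) q12696, e3 q10596 (flp_f L647117) q12625, e3 q10597 (flp_f L369631) q12720, e3 q10598 (flp_f L369656) q12721, e3 q10599 (flp_f L369691) q12722, e3 q10600 L254316 q9393, e3 q10601 L254323 q9394, e3 q10602 (flp_f L548425) q11689, e3 q10603 (flp_f L352615) q11719, e3 q10604 (flp_f L255582) q8715, e3 q10605 (flp_f L644369) q11720, e3 q10606 (flp_f L640373) q8752, e3 q10607 (flp_f L353197) q11723, e3 q10608 L372541 q12731, e3 q10609 L630948 q9706, e3 q10610 (flp_f L256224) q8725, e3 q10611 L645088 q9704, e3 q10612 (flp_f L256457) q8730, e3 q10613 (flp_f L256532) q8732, e3 q10614 L256630 q8734, e3 q10615 L256637 q8735, e3 q10616 (flp_f L373237) q12734, e3 q10617 (flp_f L373245) q12735, e3 q10618 (flp_f L635060) q12733, e3 q10619 L645130 q8780, e3 q10620 L635035 q8744, e3 q10621 L256696 q8742, e3 q10622 L256703 q8743, e3 q10623 (flp_f L635067) q11808, trivial⟩ (by decide +kernel)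

theorem ce_f_166 : ∀ r, r < 64 → sm gf (Qf (10624 + r)) = Qf (tab Gen.f (10624 + r)) :=
  edges_tab (sm gf) Qf (tab Gen.f) 10624 [(10624, 9081), (10625, 8854), (10626, 8989), (10627, 8787), (10628, 11739), (10629, 11763), (10630, 11741), (10631, 10631), (10632, 8751), (10633, 11751), (10634, 10634), (10635, 11758), (10636, 8760), (10637, 12745), (10638, 11765), (10639, 10639), (10640, 8764), (10641, 8765), (10642, 12750), (10643, 8766), (10644, 12751), (10645, 9409), (10646, 11770), (10647, 10647), (10648, 10648), (10649, 11772), (10650, 8772), (10651, 12758), (10652, 11776), (10653, 11777), (10654, 10654), (10655, 12764), (10656, 8778), (10657, 8777), (10658, 12767), (10659, 8781), (10660, 12738), (10661, 11749), (10662, 12768), (10663, 11785), (10664, 11786), (10665, 10665), (10666, 8789), (10667, 11754), (10668, 11755), (10669, 8990), (10670, 8995), (10671, 12776), (10672, 11788), (10673, 8796), (10674, 12780), (10675, 12781), (10676, 11792), (10677, 11793), (10678, 8877), (10679, 8878), (10680, 8802), (10681, 8803),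 (10682, 12787), (10683, 11805), (10684, 11806), (10685, 8886), (10686, 8810), (10687, 11818)]
    ⟨e3 q10624 L641064 q9081, e3 q10625 L634977 q8854, e3 q10626 L641110 q8989, e3 q10627 L641156 q8787, e3 q10628 (flp_f L353978) q11739, e3 q10629 (flp_f L620519) q11763, e3 q10630 (flp_f L354003) q11741, e3 q10631 L257180 q10631, e3 q10632 L257199 q8751, e3 q10633 (flp_f L354113) q11751, e3 q10634 L257277 q10634, e3 q10635 (flp_f L354229) q11758, e3 q10636 L257379 q8760, e3 q10637 (flp_f L374353) q12745, e3 q10638 (flp_f L354298) q11765, e3 q10639 L257447 q10639, e3 q10640 L257454 q8764, e3 q10641 L257467 q8765, e3 q10642 (flp_f L374495) q12750, e3 q10643 (flp_f L257491) q8766, e3 q10644 (flp_f L374542) q12751, e3 q10645 (flp_f L645183) q9409, e3 q10646 (flp_f L354401) q11770, e3 q10647 L257537 q10647, e3 q10648 L257549 q10648, e3 q10649 (flp_f L354435) q11772, e3 q10650 (flp_f L257568) q8772, e3 q10651 (flp_f L374656) q12758, e3 q10652 (flp_f L354472) q11776, e3 q10653 (flp_f L354484) q11777, e3 q10654 L257638 q10654, e3 q10655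 L374750 q12764, e3 q10656 L257657 q8778, e3 q10657 (flp_f L257661) q8777, e3 q10658 (flp_f L374794) q12767, e3 q10659 L257702 q8781, e3 q10660 (flp_f L641162) q12738, e3 q10661 (flp_f L640279) q11749, e3 q10662 (flp_f L374837) q12768, e3 q10663 (flp_f L354603) q11785, e3 q10664 (flp_f L354613) q11786, e3 q10665 L257748 q10665, e3 q10666 L257782 q8789, e3 q10667 (flp_f L640266) q11754, e3 q10668 (flp_f L640323) q11755, e3 q10669 (flp_f L641329) q8990, e3 q10670 L641272 q8995, e3 q10671 L375793 q12776, e3 q10672 (flp_f L354946) q11788, e3 q10673 (flp_f L258370) q8796, e3 q10674 (flp_f L375841) q12780, e3 q10675 (flp_f L375853) q12781, e3 q10676 (flp_f L354984) q11792, e3 q10677 (flp_f L354994) q11793, e3 q10678 L258420 q8877, e3 q10679 L258440 q8878, e3 q10680 L258490 q8802, e3 q10681 L258500 q8803, e3 q10682 (flp_f L376017) q12787, e3 q10683 (flp_f L355122) q11805, e3 q10684 (flp_f L355131) q11806, e3 q10685 L258538 q8886, e3 q10686 L258576 q8810, e3 q10687 (flp_f L355240) q11818, trivial⟩ (by decide +kernel)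

theorem ce_f_167 : ∀ r, r < 64 → sm gf (Qf (10688 + r)) = Qf (tab Gen.f (10688 + r)) :=
  edges_tab (sm gf) Qf (tab Gen.f) 10688 [(10688, 11819), (10689, 12790), (10690, 11821), (10691, 8902), (10692, 8816), (10693, 8818), (10694, 12795), (10695, 11832), (10696, 11833), (10697, 8911), (10698, 8912), (10699, 8913), (10700, 12206), (10701, 8824), (10702, 8826), (10703, 8827), (10704, 12805), (10705, 12806), (10706, 12807), (10707, 11843), (10708, 8923), (10709, 8832), (10710, 12812), (10711, 11847), (10712, 11848), (10713, 8835), (10714, 8836), (10715, 12818), (10716, 12819), (10717, 12820), (10718, 11854), (10719, 12829), (10720, 11856), (10721, 8938), (10722, 12832), (10723, 8940), (10724, 8842), (10725, 12835), (10726, 8943), (10727, 8845), (10728, 12737), (10729, 8848), (10730, 8849), (10731, 8850), (10732, 12839), (10733, 12840), (10734, 12841), (10735, 12843), (10736, 11873), (10737, 11874), (10738, 11875), (10739, 11812), (10740, 8858), (10741, 8859), (10742, 8860), (10743, 10743), (10744, 8861), (10745, 12265), (10746,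 12852), (10747, 12853), (10748, 12854), (10749, 12851), (10750, 11878), (10751, 11879)]
    ⟨e3 q10688 (flp_f L355250) q11819, e3 q10689 L376188 q12790, e3 q10690 (flp_f L355271) q11821, e3 q10691 L258670 q8902, e3 q10692 L258691 q8816, e3 q10693 (flp_f L258737) q8818, e3 q10694 (flp_f L376395) q12795, e3 q10695 (flp_f L355387) q11832, e3 q10696 (flp_f L355397) q11833, e3 q10697 L258781 q8911, e3 q10698 L258789 q8912, e3 q10699 L258802 q8913, e3 q10700 (flp_f L554653) q12206, e3 q10701 L258820 q8824, e3 q10702 L258854 q8826, e3 q10703 L258863 q8827, e3 q10704 (flp_f L376548) q12805, e3 q10705 (flp_f L376557) q12806, e3 q10706 (flp_f L376566) q12807, e3 q10707 (flp_f L355523) q11843, e3 q10708 L258910 q8923, e3 q10709 (flp_f L258914) q8832, e3 q10710 (flp_f L376639) q12812, e3 q10711 (flp_f L355560) q11847, e3 q10712 (flp_f L355569) q11848, e3 q10713 L258956 q8835, e3 q10714 L258966 q8836, e3 q10715 (flp_f L376699) q12818, e3 q10716 (flp_f L376707) q12819, e3 q10717 (flp_f L376717) q12820, e3 q10718 (flp_f L355621) q11854,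 e3 q10719 L376774 q12829, e3 q10720 (flp_f L355637) q11856, e3 q10721 L259027 q8938, e3 q10722 L376812 q12832, e3 q10723 L259047 q8940, e3 q10724 (flp_f L259051) q8842, e3 q10725 (flp_f L376857) q12835, e3 q10726 L259083 q8943, e3 q10727 L259090 q8845, e3 q10728 (flp_f L635026) q12737, e3 q10729 L259115 q8848, e3 q10730 L259123 q8849, e3 q10731 L259131 q8850, e3 q10732 (flp_f L376915) q12839, e3 q10733 (flp_f L376925) q12840, e3 q10734 (flp_f L376931) q12841, e3 q10735 (flp_f L376946) q12843, e3 q10736 (flp_f L355785) q11873, e3 q10737 (flp_f L355793) q11874, e3 q10738 (flp_f L355799) q11875, e3 q10739 (flp_f L648983) q11812, e3 q10740 L259189 q8858, e3 q10741 L259200 q8859, e3 q10742 L259207 q8860, e3 q10743 L259216 q10743, e3 q10744 L259222 q8861, e3 q10745 (flp_f L641013) q12265, e3 q10746 (flp_f L377036) q12852, e3 q10747 (flp_f L377044) q12853, e3 q10748 (flp_f L377059) q12854, e3 q10749 (flp_f L649077) q12851, e3 q10750 (flp_f L355893) q11878, e3 q10751 (flp_f L355902) q11879, trivial⟩ (by decide +kernel)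

theorem ce_f_168 : ∀ r, r < 64 → sm gf (Qf (10752 + r)) = Qf (tab Gen.f (10752 + r)) :=
  edges_tab (sm gf) Qf (tab Gen.f) 10752 [(10752, 9040), (10753, 11711), (10754, 11712), (10755, 10755), (10756, 10756), (10757, 10757), (10758, 8870), (10759, 12871), (10760, 12872), (10761, 11883), (10762, 11884), (10763, 8873), (10764, 8874), (10765, 12878), (10766, 12879), (10767, 12880), (10768, 11890), (10769, 11892), (10770, 12786), (10771, 10771), (10772, 8881), (10773, 8882), (10774, 8883), (10775, 12009), (10776, 12888), (10777, 12889), (10778, 12890), (10779, 11907), (10780, 11908), (10781, 11909), (10782, 8892), (10783, 8893), (10784, 8894), (10785, 12023), (10786, 12025), (10787, 12899), (10788, 12900), (10789, 12901), (10790, 11921), (10791, 11922), (10792, 11923), (10793, 12911), (10794, 11925), (10795, 8899), (10796, 12914), (10797, 12915), (10798, 11929), (10799, 11930), (10800, 9629), (10801, 12794), (10802, 8904), (10803, 12870), (10804, 12921), (10805, 11942), (10806, 11943), (10807, 8907), (10808, 8908), (10809, 12928),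 (10810, 12929), (10811, 12930), (10812, 11949), (10813, 12416), (10814, 11951), (10815, 9632)]
    ⟨e3 q10752 L634803 q9040, e3 q10753 (flp_f L640936) q11711, e3 q10754 (flp_f L635266) q11712, e3 q10755 L259749 q10755, e3 q10756 L259760 q10756, e3 q10757 L259767 q10757, e3 q10758 (flp_f L260073) q8870, e3 q10759 (flp_f L378366) q12871, e3 q10760 (flp_f L378375) q12872, e3 q10761 (flp_f L356271) q11883, e3 q10762 (flp_f L356282) q11884, e3 q10763 L260126 q8873, e3 q10764 L260136 q8874, e3 q10765 (flp_f L378443) q12878, e3 q10766 (flp_f L378451) q12879, e3 q10767 (flp_f L378459) q12880, e3 q10768 (flp_f L356338) q11890, e3 q10769 (flp_f L356356) q11892, e3 q10770 (flp_f L375915) q12786, e3 q10771 L260278 q10771, e3 q10772 L260283 q8881, e3 q10773 L260291 q8882, e3 q10774 L260298 q8883, e3 q10775 (flp_f L640974) q12009, e3 q10776 (flp_f L378666) q12888, e3 q10777 (flp_f L378674) q12889, e3 q10778 (flp_f L378688) q12890, e3 q10779 (flp_f L356526) q11907, e3 q10780 (flp_f L356537) q11908, e3 q10781 (flp_f L356545) q11909, e3 q10782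 L260374 q8892, e3 q10783 L260383 q8893, e3 q10784 L260397 q8894, e3 q10785 (flp_f L640967) q12023, e3 q10786 (flp_f L635191) q12025, e3 q10787 (flp_f L378792) q12899, e3 q10788 (flp_f L378808) q12900, e3 q10789 (flp_f L378818) q12901, e3 q10790 (flp_f L356657) q11921, e3 q10791 (flp_f L356669) q11922, e3 q10792 (flp_f L356678) q11923, e3 q10793 L378917 q12911, e3 q10794 (flp_f L356708) q11925, e3 q10795 (flp_f L260489) q8899, e3 q10796 (flp_f L378971) q12914, e3 q10797 (flp_f L378980) q12915, e3 q10798 (flp_f L356747) q11929, e3 q10799 (flp_f L356759) q11930, e3 q10800 L622156 q9629, e3 q10801 (flp_f L376262) q12794, e3 q10802 (flp_f L260640) q8904, e3 q10803 (flp_f L615165) q12870, e3 q10804 (flp_f L379226) q12921, e3 q10805 (flp_f L356893) q11942, e3 q10806 (flp_f L356904) q11943, e3 q10807 L260687 q8907, e3 q10808 L260695 q8908, e3 q10809 (flp_f L379292) q12928, e3 q10810 (flp_f L379300) q12929, e3 q10811 (flp_f L379308) q12930, e3 q10812 (flp_f L356956) q11949, e3 q10813 (flp_f L554313) q12416, e3 q10814 (flp_f L356974)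 q11951, e3 q10815 L622054 q9632, trivial⟩ (by decide +kernel)

theorem ce_f_169 : ∀ r, r < 64 → sm gf (Qf (10816 + r)) = Qf (tab Gen.f (10816 + r)) :=
  edges_tab (sm gf) Qf (tab Gen.f) 10816 [(10816, 12800), (10817, 12943), (10818, 12802), (10819, 12417), (10820, 10820), (10821, 8918), (10822, 8919), (10823, 8920), (10824, 12946), (10825, 12947), (10826, 12948), (10827, 12950), (10828, 9591), (10829, 11968), (10830, 11969), (10831, 9610), (10832, 8925), (10833, 8926), (10834, 12961), (10835, 12962), (10836, 12963), (10837, 11976), (10838, 12972), (10839, 11978), (10840, 10840), (10841, 8931), (10842, 8932), (10843, 8933), (10844, 12976), (10845, 12977), (10846, 12978), (10847, 12987), (10848, 12980), (10849, 11988), (10850, 12993), (10851, 11990), (10852, 8935), (10853, 12997), (10854, 11993), (10855, 12999), (10856, 9634), (10857, 8939), (10858, 13002), (10859, 13001), (10860, 8942), (10861, 12836), (10862, 12837), (10863, 10863), (10864, 8949), (10865, 8950), (10866, 8951), (10867, 10867), (10868, 8952), (10869, 13008),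 (10870, 13010), (10871, 13011), (10872, 13013), (10873, 13015), (10874, 12016), (10875, 12017), (10876, 12018), (10877, 10877), (10878, 10878), (10879, 8962)]
    ⟨e3 q10816 (flp_f L376458) q12800, e3 q10817 L379415 q12943, e3 q10818 (flp_f L376478) q12802, e3 q10819 (flp_f L554450) q12417, e3 q10820 L260841 q10820, e3 q10821 L260847 q8918, e3 q10822 L260856 q8919, e3 q10823 L260864 q8920, e3 q10824 (flp_f L379514) q12946, e3 q10825 (flp_f L379524) q12947, e3 q10826 (flp_f L379532) q12948, e3 q10827 (flp_f L379549) q12950, e3 q10828 L549100 q9591, e3 q10829 (flp_f L357141) q11968, e3 q10830 (flp_f L357149) q11969, e3 q10831 L260931 q9610, e3 q10832 L260940 q8925, e3 q10833 L260947 q8926, e3 q10834 (flp_f L379651) q12961, e3 q10835 (flp_f L379659) q12962, e3 q10836 (flp_f L379668) q12963, e3 q10837 (flp_f L357206) q11976, e3 q10838 L379735 q12972, e3 q10839 (flp_f L357226) q11978, e3 q10840 L261004 q10840, e3 q10841 L261011 q8931, e3 q10842 L261019 q8932, e3 q10843 L261027 q8933, e3 q10844 (flp_f L379773) q12976, e3 q10845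 (flp_f L379783) q12977, e3 q10846 (flp_f L379789) q12978, e3 q10847 L379853 q12987, e3 q10848 (flp_f L379803) q12980, e3 q10849 (flp_f L357310) q11988, e3 q10850 L379899 q12993, e3 q10851 (flp_f L357326) q11990, e3 q10852 (flp_f L261089) q8935, e3 q10853 (flp_f L379930) q12997, e3 q10854 (flp_f L357351) q11993, e3 q10855 L379940 q12999, e3 q10856 L607062 q9634, e3 q10857 (flp_f L261130) q8939, e3 q10858 (flp_f L379983) q13002, e3 q10859 (flp_f L379976) q13001, e3 q10860 L261171 q8942, e3 q10861 (flp_f L376873) q12836, e3 q10862 (flp_f L376882) q12837, e3 q10863 L261220 q10863, e3 q10864 L261227 q8949, e3 q10865 L261236 q8950, e3 q10866 L261242 q8951, e3 q10867 L261250 q10867, e3 q10868 L261257 q8952, e3 q10869 (flp_f L380083) q13008, e3 q10870 (flp_f L380102) q13010, e3 q10871 (flp_f L380108) q13011, e3 q10872 (flp_f L380123) q13013, e3 q10873 (flp_f L380136) q13015, e3 q10874 (flp_f L357536) q12016, e3 q10875 (flp_f L357546) q12017, e3 q10876 (flp_f L357553) q12018, e3 q10877 L261324 q10877, e3 q10878 L261333 q10878, e3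 q10879 L261339 q8962, trivial⟩ (by decide +kernel)

theorem ce_f_170 : ∀ r, r < 64 → sm gf (Qf (10880 + r)) = Qf (tab Gen.f (10880 + r)) :=
  edges_tab (sm gf) Qf (tab Gen.f) 10880 [(10880, 10880), (10881, 8963), (10882, 8964), (10883, 10883), (10884, 8965), (10885, 10885), (10886, 8966), (10887, 13026), (10888, 13028), (10889, 13030), (10890, 13031), (10891, 13033), (10892, 13036), (10893, 12033), (10894, 12034), (10895, 12035), (10896, 12057), (10897, 12061), (10898, 12108), (10899, 12063), (10900, 10900), (10901, 8974), (10902, 8975), (10903, 12279), (10904, 12774), (10905, 12072), (10906, 12073), (10907, 10907), (10908, 10908), (10909, 12077), (10910, 8981), (10911, 12772), (10912, 12081), (10913, 12082), (10914, 10914), (10915, 10915), (10916, 10916), (10917, 12110), (10918, 8987), (10919, 12775), (10920, 12096), (10921, 12097), (10922, 10922), (10923, 12107), (10924, 12115), (10925, 9001), (10926, 12204), (10927, 13070), (10928, 12119), (10929, 12120), (10930, 10930), (10931, 10931), (10932, 9007), (10933, 9008), (10934,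 13078), (10935, 13079), (10936, 13080), (10937, 12132), (10938, 12133), (10939, 10939), (10940, 9013), (10941, 12138), (10942, 12139), (10943, 9016)]
    ⟨e3 q10880 L261352 q10880, e3 q10881 L261358 q8963, e3 q10882 L261366 q8964, e3 q10883 L261375 q10883, e3 q10884 L261383 q8965, e3 q10885 L261390 q10885, e3 q10886 L261394 q8966, e3 q10887 (flp_f L380238) q13026, e3 q10888 (flp_f L380259) q13028, e3 q10889 (flp_f L380274) q13030, e3 q10890 (flp_f L380283) q13031, e3 q10891 (flp_f L380299) q13033, e3 q10892 (flp_f L380320) q13036, e3 q10893 (flp_f L357700) q12033, e3 q10894 (flp_f L357707) q12034, e3 q10895 (flp_f L357714) q12035, e3 q10896 (flp_f L358079) q12057, e3 q10897 (flp_f L358123) q12061, e3 q10898 (flp_f L611919) q12108, e3 q10899 (flp_f L358149) q12063, e3 q10900 L261572 q10900, e3 q10901 L261592 q8974, e3 q10902 (flp_f L261618) q8975, e3 q10903 (flp_f L617640) q12279, e3 q10904 (flp_f L637298) q12774, e3 q10905 (flp_f L358251) q12072, e3 q10906 (flp_f L358263) q12073, e3 q10907 L261673 q10907, e3 q10908 L261685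 q10908, e3 q10909 (flp_f L358301) q12077, e3 q10910 (flp_f L261706) q8981, e3 q10911 (flp_f L637292) q12772, e3 q10912 (flp_f L358334) q12081, e3 q10913 (flp_f L358344) q12082, e3 q10914 L261749 q10914, e3 q10915 L261756 q10915, e3 q10916 L261766 q10916, e3 q10917 L553483 q12110, e3 q10918 L261783 q8987, e3 q10919 (flp_f L637274) q12775, e3 q10920 (flp_f L358459) q12096, e3 q10921 (flp_f L358470) q12097, e3 q10922 L261877 q10922, e3 q10923 (flp_f L358573) q12107, e3 q10924 (flp_f L358683) q12115, e3 q10925 (flp_f L262080) q9001, e3 q10926 (flp_f L617585) q12204, e3 q10927 (flp_f L381356) q13070, e3 q10928 (flp_f L358720) q12119, e3 q10929 (flp_f L358732) q12120, e3 q10930 L262129 q10930, e3 q10931 L262151 q10931, e3 q10932 L262215 q9007, e3 q10933 L262223 q9008, e3 q10934 (flp_f L381536) q13078, e3 q10935 (flp_f L381545) q13079, e3 q10936 (flp_f L381554) q13080, e3 q10937 (flp_f L358868) q12132, e3 q10938 (flp_f L358881) q12133, e3 q10939 L262282 q10939, e3 q10940 (flp_f L262287) q9013, e3 q10941 (flp_f L358919) q12138, e3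 q10942 (flp_f L358929) q12139, e3 q10943 L262326 q9016, trivial⟩ (by decide +kernel)

theorem ce_f_171 : ∀ r, r < 64 → sm gf (Qf (10944 + r)) = Qf (tab Gen.f (10944 + r)) :=
  edges_tab (sm gf) Qf (tab Gen.f) 10944 [(10944, 9017), (10945, 13088), (10946, 13089), (10947, 13090), (10948, 12145), (10949, 13097), (10950, 12147), (10951, 10951), (10952, 10952), (10953, 9023), (10954, 13101), (10955, 10955), (10956, 9026), (10957, 9131), (10958, 9029), (10959, 9030), (10960, 9031), (10961, 13105), (10962, 12862), (10963, 13106), (10964, 13108), (10965, 12162), (10966, 12163), (10967, 12164), (10968, 9142), (10969, 9039), (10970, 9427), (10971, 9042), (10972, 12102), (10973, 12863), (10974, 12094), (10975, 12104), (10976, 13118), (10977, 12166), (10978, 12167), (10979, 12168), (10980, 13126), (10981, 13127), (10982, 12211), (10983, 9049), (10984, 13131), (10985, 13132), (10986, 12215), (10987, 12216), (10988, 9163), (10989, 9164), (10990, 9055), (10991, 9056), (10992, 13140), (10993, 13141), (10994, 13142), (10995, 12228), (10996,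 12229), (10997, 9169), (10998, 9061), (10999, 13149), (11000, 12234), (11001, 12235), (11002, 9064), (11003, 9065), (11004, 13156), (11005, 13157), (11006, 13158), (11007, 12241)]
    ⟨e3 q10944 L262333 q9017, e3 q10945 (flp_f L381700) q13088, e3 q10946 (flp_f L381706) q13089, e3 q10947 (flp_f L381713) q13090, e3 q10948 (flp_f L358973) q12145, e3 q10949 L381771 q13097, e3 q10950 (flp_f L358989) q12147, e3 q10951 L262390 q10951, e3 q10952 L262409 q10952, e3 q10953 (flp_f L262412) q9023, e3 q10954 (flp_f L381848) q13101, e3 q10955 L262446 q10955, e3 q10956 L262451 q9026, e3 q10957 L262472 q9131, e3 q10958 L262479 q9029, e3 q10959 L262487 q9030, e3 q10960 L262495 q9031, e3 q10961 (flp_f L381908) q13105, e3 q10962 (flp_f L641192) q12862, e3 q10963 (flp_f L381924) q13106, e3 q10964 (flp_f L381941) q13108, e3 q10965 (flp_f L359148) q12162, e3 q10966 (flp_f L359160) q12163, e3 q10967 (flp_f L359169) q12164, e3 q10968 L262565 q9142, e3 q10969 L262572 q9039, e3 q10970 L262596 q9427, e3 q10971 L262603 q9042, e3 q10972 (flp_f L637360)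 q12102, e3 q10973 (flp_f L641180) q12863, e3 q10974 (flp_f L637404) q12094, e3 q10975 (flp_f L637355) q12104, e3 q10976 (flp_f L382091) q13118, e3 q10977 (flp_f L359268) q12166, e3 q10978 (flp_f L359279) q12167, e3 q10979 (flp_f L359289) q12168, e3 q10980 L382198 q13126, e3 q10981 L382331 q13127, e3 q10982 (flp_f L359881) q12211, e3 q10983 (flp_f L262779) q9049, e3 q10984 (flp_f L382383) q13131, e3 q10985 (flp_f L382395) q13132, e3 q10986 (flp_f L359919) q12215, e3 q10987 (flp_f L359929) q12216, e3 q10988 L262829 q9163, e3 q10989 L262850 q9164, e3 q10990 L262907 q9055, e3 q10991 L262918 q9056, e3 q10992 (flp_f L382557) q13140, e3 q10993 (flp_f L382566) q13141, e3 q10994 (flp_f L382576) q13142, e3 q10995 (flp_f L360058) q12228, e3 q10996 (flp_f L360068) q12229, e3 q10997 L262969 q9169, e3 q10998 (flp_f L262975) q9061, e3 q10999 (flp_f L382660) q13149, e3 q11000 (flp_f L360106) q12234, e3 q11001 (flp_f L360114) q12235, e3 q11002 L263015 q9064, e3 q11003 L263025 q9065, e3 q11004 (flp_f L382713) q13156, e3 q11005 (flp_f L382719)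 q13157, e3 q11006 (flp_f L382727) q13158, e3 q11007 (flp_f L360162) q12241, trivial⟩ (by decide +kernel)

theorem ce_f_172 : ∀ r, r < 64 → sm gf (Qf (11008 + r)) = Qf (tab Gen.f (11008 + r)) :=
  edges_tab (sm gf) Qf (tab Gen.f) 11008 [(11008, 12285), (11009, 12243), (11010, 9183), (11011, 9184), (11012, 13170), (11013, 9186), (11014, 12286), (11015, 12739), (11016, 9075), (11017, 9076), (11018, 9077), (11019, 13172), (11020, 13173), (11021, 13175), (11022, 12262), (11023, 12263), (11024, 12264), (11025, 9085), (11026, 11026), (11027, 9086), (11028, 13182), (11029, 12276), (11030, 12277), (11031, 12278), (11032, 12281), (11033, 9091), (11034, 9093), (11035, 13188), (11036, 12292), (11037, 12293), (11038, 9096), (11039, 9097), (11040, 13194), (11041, 13195), (11042, 13196), (11043, 12299), (11044, 12301), (11045, 9228), (11046, 13077), (11047, 9104), (11048, 9105), (11049, 9106), (11050, 13205), (11051, 13206), (11052, 13207), (11053, 13209), (11054, 12316), (11055, 12317), (11056, 12318), (11057, 9619), (11058, 9111), (11059,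 9112), (11060, 13217), (11061, 13218), (11062, 12325), (11063, 13224), (11064, 12327), (11065, 13087), (11066, 9117), (11067, 9118), (11068, 9119), (11069, 13228), (11070, 13229), (11071, 13230)]
    ⟨e3 q11008 (flp_f L553474) q12285, e3 q11009 (flp_f L360174) q12243, e3 q11010 L263063 q9183, e3 q11011 L263074 q9184, e3 q11012 L382808 q13170, e3 q11013 L263092 q9186, e3 q11014 L576405 q12286, e3 q11015 (flp_f L641082) q12739, e3 q11016 L263153 q9075, e3 q11017 L263161 q9076, e3 q11018 L263170 q9077, e3 q11019 (flp_f L382906) q13172, e3 q11020 (flp_f L382914) q13173, e3 q11021 (flp_f L382931) q13175, e3 q11022 (flp_f L360316) q12262, e3 q11023 (flp_f L360325) q12263, e3 q11024 (flp_f L360331) q12264, e3 q11025 L263246 q9085, e3 q11026 L263264 q11026, e3 q11027 L263270 q9086, e3 q11028 (flp_f L383063) q13182, e3 q11029 (flp_f L360424) q12276, e3 q11030 (flp_f L360432) q12277, e3 q11031 (flp_f L360439) q12278, e3 q11032 (flp_f L360461) q12281, e3 q11033 (flp_f L263347) q9091, e3 q11034 (flp_f L263473) q9093, e3 q11035 (flp_f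 L383407) q13188, e3 q11036 (flp_f L360619) q12292, e3 q11037 (flp_f L360629) q12293, e3 q11038 L263519 q9096, e3 q11039 L263529 q9097, e3 q11040 (flp_f L383472) q13194, e3 q11041 (flp_f L383480) q13195, e3 q11042 (flp_f L383490) q13196, e3 q11043 (flp_f L360683) q12299, e3 q11044 (flp_f L360699) q12301, e3 q11045 L263593 q9228, e3 q11046 (flp_f L381528) q13077, e3 q11047 L263692 q9104, e3 q11048 L263701 q9105, e3 q11049 L263711 q9106, e3 q11050 (flp_f L383706) q13205, e3 q11051 (flp_f L383718) q13206, e3 q11052 (flp_f L383726) q13207, e3 q11053 (flp_f L383746) q13209, e3 q11054 (flp_f L360873) q12316, e3 q11055 (flp_f L360884) q12317, e3 q11056 (flp_f L360892) q12318, e3 q11057 (flp_f L617285) q9619, e3 q11058 L263786 q9111, e3 q11059 L263791 q9112, e3 q11060 (flp_f L383850) q13217, e3 q11061 (flp_f L383857) q13218, e3 q11062 (flp_f L360937) q12325, e3 q11063 L383909 q13224, e3 q11064 (flp_f L360951) q12327, e3 q11065 (flp_f L381693) q13087, e3 q11066 L263840 q9117, e3 q11067 L263846 q9118, e3 q11068 L263854 q9119, e3 q11069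 (flp_f L383935) q13228, e3 q11070 (flp_f L383945) q13229, e3 q11071 (flp_f L383951) q13230, trivial⟩ (by decide +kernel)

theorem ce_f_173 : ∀ r, r < 64 → sm gf (Qf (11072 + r)) = Qf (tab Gen.f (11072 + r)) :=
  edges_tab (sm gf) Qf (tab Gen.f) 11072 [(11072, 13238), (11073, 13232), (11074, 12337), (11075, 13244), (11076, 12339), (11077, 9121), (11078, 13248), (11079, 12342), (11080, 9264), (11081, 9125), (11082, 13251), (11083, 13250), (11084, 9128), (11085, 9269), (11086, 9270), (11087, 13104), (11088, 9135), (11089, 9136), (11090, 9137), (11091, 9475), (11092, 9138), (11093, 13257), (11094, 13259), (11095, 13260), (11096, 13262), (11097, 13264), (11098, 12365), (11099, 12366), (11100, 12367), (11101, 12271), (11102, 12860), (11103, 9148), (11104, 9392), (11105, 9149), (11106, 9150), (11107, 9489), (11108, 9151), (11109, 9491), (11110, 9152), (11111, 13275), (11112, 13277), (11113, 13279), (11114, 13280), (11115, 13282), (11116, 13285), (11117, 12380), (11118, 12381), (11119, 12382), (11120, 9156), (11121, 13187), (11122,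 9159), (11123, 9160), (11124, 13297), (11125, 13298), (11126, 13299), (11127, 12426), (11128, 13138), (11129, 11129), (11130, 9167), (11131, 9168), (11132, 13305), (11133, 9645), (11134, 9171), (11135, 9172)]
    ⟨e3 q11072 L384005 q13238, e3 q11073 (flp_f L383963) q13232, e3 q11074 (flp_f L361021) q12337, e3 q11075 L384037 q13244, e3 q11076 (flp_f L361034) q12339, e3 q11077 (flp_f L263902) q9121, e3 q11078 (flp_f L384063) q13248, e3 q11079 (flp_f L361050) q12342, e3 q11080 L263928 q9264, e3 q11081 (flp_f L263932) q9125, e3 q11082 (flp_f L384113) q13251, e3 q11083 (flp_f L384105) q13250, e3 q11084 L263972 q9128, e3 q11085 L263986 q9269, e3 q11086 L263994 q9270, e3 q11087 (flp_f L381900) q13104, e3 q11088 L264024 q9135, e3 q11089 L264035 q9136, e3 q11090 L264041 q9137, e3 q11091 L264051 q9475, e3 q11092 L264059 q9138, e3 q11093 (flp_f L384204) q13257, e3 q11094 (flp_f L384226) q13259, e3 q11095 (flp_f L384232) q13260, e3 q11096 (flp_f L384248) q13262, e3 q11097 (flp_f L384264) q13264, e3 q11098 (flp_f L361236) q12365, e3 q11099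 (flp_f L361246) q12366, e3 q11100 (flp_f L361253) q12367, e3 q11101 (flp_f L649152) q12271, e3 q11102 (flp_f L641175) q12860, e3 q11103 L264142 q9148, e3 q11104 L647000 q9392, e3 q11105 L264162 q9149, e3 q11106 L264168 q9150, e3 q11107 L264177 q9489, e3 q11108 L264184 q9151, e3 q11109 L264193 q9491, e3 q11110 L264198 q9152, e3 q11111 (flp_f L384364) q13275, e3 q11112 (flp_f L384384) q13277, e3 q11113 (flp_f L384402) q13279, e3 q11114 (flp_f L384409) q13280, e3 q11115 (flp_f L384424) q13282, e3 q11116 (flp_f L384447) q13285, e3 q11117 (flp_f L361392) q12380, e3 q11118 (flp_f L361399) q12381, e3 q11119 (flp_f L361405) q12382, e3 q11120 (flp_f L264296) q9156, e3 q11121 (flp_f L616061) q13187, e3 q11122 L264482 q9159, e3 q11123 L264492 q9160, e3 q11124 (flp_f L384890) q13297, e3 q11125 (flp_f L384898) q13298, e3 q11126 (flp_f L384906) q13299, e3 q11127 (flp_f L362421) q12426, e3 q11128 (flp_f L382460) q13138, e3 q11129 L264647 q11129, e3 q11130 L264653 q9167, e3 q11131 L264671 q9168, e3 q11132 (flp_f L385133) q13305, e3 q11133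 L264749 q9645, e3 q11134 L264757 q9171, e3 q11135 L264765 q9172, trivial⟩ (by decide +kernel)

theorem ce_f_174 : ∀ r, r < 64 → sm gf (Qf (11136 + r)) = Qf (tab Gen.f (11136 + r)) :=
  edges_tab (sm gf) Qf (tab Gen.f) 11136 [(11136, 13308), (11137, 13309), (11138, 13310), (11139, 12502), (11140, 12444), (11141, 11141), (11142, 9177), (11143, 9178), (11144, 9179), (11145, 13318), (11146, 13319), (11147, 13320), (11148, 13329), (11149, 13322), (11150, 12454), (11151, 12509), (11152, 12456), (11153, 12510), (11154, 12459), (11155, 13337), (11156, 13169), (11157, 9185), (11158, 13339), (11159, 11159), (11160, 9192), (11161, 9193), (11162, 9194), (11163, 11163), (11164, 9195), (11165, 13342), (11166, 13344), (11167, 13345), (11168, 13347), (11169, 9616), (11170, 12481), (11171, 11171), (11172, 11172), (11173, 9204), (11174, 11174), (11175, 9205), (11176, 9206), (11177, 11177), (11178, 9207), (11179, 11179), (11180, 9208), (11181, 13355), (11182, 13356), (11183, 13358), (11184, 13359), (11185, 13361), (11186, 13363), (11187, 12496),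 (11188, 12497), (11189, 12498), (11190, 9212), (11191, 12658), (11192, 13374), (11193, 12503), (11194, 9215), (11195, 9653), (11196, 9217), (11197, 9218), (11198, 13380), (11199, 13381)]
    ⟨e3 q11136 (flp_f L385271) q13308, e3 q11137 (flp_f L385277) q13309, e3 q11138 (flp_f L385285) q13310, e3 q11139 (flp_f L547301) q12502, e3 q11140 (flp_f L362687) q12444, e3 q11141 L264817 q11141, e3 q11142 L264822 q9177, e3 q11143 L264828 q9178, e3 q11144 L264834 q9179, e3 q11145 (flp_f L385380) q13318, e3 q11146 (flp_f L385388) q13319, e3 q11147 (flp_f L385396) q13320, e3 q11148 L385450 q13329, e3 q11149 (flp_f L385406) q13322, e3 q11150 (flp_f L362761) q12454, e3 q11151 (flp_f L534611) q12509, e3 q11152 (flp_f L362775) q12456, e3 q11153 L547359 q12510, e3 q11154 (flp_f L362794) q12459, e3 q11155 L385521 q13337, e3 q11156 (flp_f L382804) q13169, e3 q11157 (flp_f L264923) q9185, e3 q11158 (flp_f L385556) q13339, e3 q11159 L264997 q11159, e3 q11160 L265004 q9192, e3 q11161 L265014 q9193, e3 q11162 L265022 q9194, e3 q11163 L265032 q11163,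 e3 q11164 L265039 q9195, e3 q11165 (flp_f L385647) q13342, e3 q11166 (flp_f L385668) q13344, e3 q11167 (flp_f L385674) q13345, e3 q11168 (flp_f L385691) q13347, e3 q11169 (flp_f L547059) q9616, e3 q11170 (flp_f L362982) q12481, e3 q11171 L265113 q11171, e3 q11172 L265121 q11172, e3 q11173 L265129 q9204, e3 q11174 L265142 q11174, e3 q11175 L265148 q9205, e3 q11176 L265154 q9206, e3 q11177 L265165 q11177, e3 q11178 L265171 q9207, e3 q11179 L265178 q11179, e3 q11180 L265182 q9208, e3 q11181 (flp_f L385817) q13355, e3 q11182 (flp_f L385838) q13356, e3 q11183 (flp_f L385853) q13358, e3 q11184 (flp_f L385863) q13359, e3 q11185 (flp_f L385879) q13361, e3 q11186 (flp_f L385898) q13363, e3 q11187 (flp_f L363135) q12496, e3 q11188 (flp_f L363142) q12497, e3 q11189 (flp_f L363150) q12498, e3 q11190 (flp_f L265282) q9212, e3 q11191 (flp_f L614643) q12658, e3 q11192 (flp_f L386049) q13374, e3 q11193 (flp_f L363212) q12503, e3 q11194 L265324 q9215, e3 q11195 L265523 q9653, e3 q11196 L265533 q9217, e3 q11197 L265541 q9218, e3 q11198 (flp_f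 L386456) q13380, e3 q11199 (flp_f L386464) q13381, trivial⟩ (by decide +kernel)

theorem ce_f_175 : ∀ r, r < 64 → sm gf (Qf (11200 + r)) = Qf (tab Gen.f (11200 + r)) :=
  edges_tab (sm gf) Qf (tab Gen.f) 11200 [(11200, 13382), (11201, 12519), (11202, 11202), (11203, 9223), (11204, 9224), (11205, 9225), (11206, 13388), (11207, 13389), (11208, 13390), (11209, 13392), (11210, 12529), (11211, 12531), (11212, 12533), (11213, 11213), (11214, 9233), (11215, 9234), (11216, 9235), (11217, 9514), (11218, 9236), (11219, 13403), (11220, 13405), (11221, 13406), (11222, 13408), (11223, 12550), (11224, 12551), (11225, 9618), (11226, 9657), (11227, 11227), (11228, 9242), (11229, 9243), (11230, 9244), (11231, 13420), (11232, 13421), (11233, 13422), (11234, 13431), (11235, 13424), (11236, 12563), (11237, 13437), (11238, 12565), (11239, 9246), (11240, 13441), (11241, 12568), (11242, 11242), (11243, 9252), (11244, 9253), (11245, 9254), (11246, 13451), (11247, 9256), (11248, 13445), (11249, 13457), (11250, 13447), (11251, 13448), (11252, 13463),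 (11253, 13450), (11254, 9255), (11255, 13467), (11256, 13453), (11257, 12584), (11258, 13471), (11259, 12586), (11260, 9258), (11261, 13475), (11262, 12589), (11263, 13466)]
    ⟨e3 q11200 (flp_f L386474) q13382, e3 q11201 (flp_f L363489) q12519, e3 q11202 L265603 q11202, e3 q11203 L265610 q9223, e3 q11204 L265618 q9224, e3 q11205 L265626 q9225, e3 q11206 (flp_f L386588) q13388, e3 q11207 (flp_f L386598) q13389, e3 q11208 (flp_f L386606) q13390, e3 q11209 (flp_f L386620) q13392, e3 q11210 (flp_f L363575) q12529, e3 q11211 (flp_f L363594) q12531, e3 q11212 (flp_f L363619) q12533, e3 q11213 L265836 q11213, e3 q11214 L265844 q9233, e3 q11215 L265855 q9234, e3 q11216 L265863 q9235, e3 q11217 L265874 q9514, e3 q11218 L265883 q9236, e3 q11219 (flp_f L386929) q13403, e3 q11220 (flp_f L386953) q13405, e3 q11221 (flp_f L386959) q13406, e3 q11222 (flp_f L386980) q13408, e3 q11223 (flp_f L363839) q12550, e3 q11224 (flp_f L363852) q12551, e3 q11225 (flp_f L616085) q9618, e3 q11226 L265981 q9657, e3 q11227 L265989 q11227, e3 q11228 L265994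 q9242, e3 q11229 L266000 q9243, e3 q11230 L266008 q9244, e3 q11231 (flp_f L387129) q13420, e3 q11232 (flp_f L387139) q13421, e3 q11233 (flp_f L387145) q13422, e3 q11234 L387211 q13431, e3 q11235 (flp_f L387159) q13424, e3 q11236 (flp_f L363956) q12563, e3 q11237 L387253 q13437, e3 q11238 (flp_f L363974) q12565, e3 q11239 (flp_f L266070) q9246, e3 q11240 (flp_f L387286) q13441, e3 q11241 (flp_f L363993) q12568, e3 q11242 L266093 q11242, e3 q11243 L266098 q9252, e3 q11244 L266106 q9253, e3 q11245 L266112 q9254, e3 q11246 L387346 q13451, e3 q11247 L266122 q9256, e3 q11248 (flp_f L387310) q13445, e3 q11249 L387383 q13457, e3 q11250 (flp_f L387324) q13447, e3 q11251 (flp_f L387332) q13448, e3 q11252 L387425 q13463, e3 q11253 (flp_f L387344) q13450, e3 q11254 (flp_f L266167) q9255, e3 q11255 (flp_f L387457) q13467, e3 q11256 (flp_f L387356) q13453, e3 q11257 (flp_f L364103) q12584, e3 q11258 L387479 q13471, e3 q11259 (flp_f L364118) q12586, e3 q11260 (flp_f L266202) q9258, e3 q11261 (flp_f L387512) q13475, e3 q11262 (flp_f L364141)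 q12589, e3 q11263 (flp_f L387451) q13466, trivial⟩ (by decide +kernel)

theorem ce_f_176 : ∀ r, r < 64 → sm gf (Qf (11264 + r)) = Qf (tab Gen.f (11264 + r)) :=
  edges_tab (sm gf) Qf (tab Gen.f) 11264 [(11264, 9261), (11265, 13480), (11266, 9263), (11267, 13482), (11268, 9267), (11269, 9266), (11270, 13483), (11271, 13484), (11272, 13254), (11273, 11273), (11274, 11274), (11275, 9277), (11276, 9391), (11277, 9278), (11278, 9279), (11279, 9558), (11280, 9280), (11281, 9560), (11282, 9281), (11283, 13488), (11284, 13490), (11285, 13492), (11286, 13493), (11287, 13495), (11288, 13498), (11289, 12621), (11290, 12622), (11291, 12623), (11292, 11292), (11293, 9295), (11294, 9296), (11295, 9300), (11296, 9297), (11297, 9298), (11298, 9381), (11299, 9299), (11300, 9330), (11301, 12681), (11302, 13499), (11303, 13509), (11304, 13491), (11305, 13278), (11306, 12645), (11307, 12646), (11308, 11690), (11309, 9673), (11310, 9674), (11311, 11311), (11312, 9308), (11313, 9309), (11314, 13518), (11315, 11315), (11316, 9315), (11317, 11317),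 (11318, 9316), (11319, 11319), (11320, 13521), (11321, 13415), (11322, 11322), (11323, 9329), (11324, 11324), (11325, 9328), (11326, 9331), (11327, 11327)]
    ⟨e3 q11264 L266231 q9261, e3 q11265 (flp_f L387540) q13480, e3 q11266 (flp_f L266239) q9263, e3 q11267 (flp_f L387559) q13482, e3 q11268 L266271 q9267, e3 q11269 L266277 q9266, e3 q11270 (flp_f L387578) q13483, e3 q11271 (flp_f L387586) q13484, e3 q11272 (flp_f L384159) q13254, e3 q11273 L266355 q11273, e3 q11274 L266364 q11274, e3 q11275 L266369 q9277, e3 q11276 L647013 q9391, e3 q11277 L266391 q9278, e3 q11278 L266397 q9279, e3 q11279 L266409 q9558, e3 q11280 L266415 q9280, e3 q11281 L266423 q9560, e3 q11282 L266429 q9281, e3 q11283 (flp_f L387699) q13488, e3 q11284 (flp_f L387721) q13490, e3 q11285 (flp_f L387739) q13492, e3 q11286 (flp_f L387749) q13493, e3 q11287 (flp_f L387769) q13495, e3 q11288 (flp_f L387787) q13498, e3 q11289 (flp_f L364415) q12621, e3 q11290 (flp_f L364425) q12622, e3 q11291 (flp_f L364432) q12623, e3 q11292 L266539 q11292, e3 q11293 L266544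 q9295, e3 q11294 L266566 q9296, e3 q11295 (flp_f L647170) q9300, e3 q11296 L266582 q9297, e3 q11297 L266590 q9298, e3 q11298 (flp_f L646626) q9381, e3 q11299 L266607 q9299, e3 q11300 (flp_f L645652) q9330, e3 q11301 (flp_f L646081) q12681, e3 q11302 (flp_f L646925) q13499, e3 q11303 (flp_f L388015) q13509, e3 q11304 (flp_f L646971) q13491, e3 q11305 (flp_f L646962) q13278, e3 q11306 (flp_f L364631) q12645, e3 q11307 (flp_f L364640) q12646, e3 q11308 (flp_f L548354) q11690, e3 q11309 L267400 q9673, e3 q11310 L267409 q9674, e3 q11311 L267418 q11311, e3 q11312 L267422 q9308, e3 q11313 L267436 q9309, e3 q11314 (flp_f L389223) q13518, e3 q11315 L267760 q11315, e3 q11316 L267775 q9315, e3 q11317 L267786 q11317, e3 q11318 L267799 q9316, e3 q11319 L267807 q11319, e3 q11320 (flp_f L389737) q13521, e3 q11321 (flp_f L615814) q13415, e3 q11322 L267903 q11322, e3 q11323 (flp_f L615855) q9329, e3 q11324 L267918 q11324, e3 q11325 L267924 q9328, e3 q11326 L267967 q9331, e3 q11327 L267974 q11327, trivial⟩ (by decide +kernel)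

theorem ce_f_177 : ∀ r, r < 64 → sm gf (Qf (11328 + r)) = Qf (tab Gen.f (11328 + r)) :=
  edges_tab (sm gf) Qf (tab Gen.f) 11328 [(11328, 9332), (11329, 9333), (11330, 11330), (11331, 12673), (11332, 13520), (11333, 13283), (11334, 13513), (11335, 13524), (11336, 13276), (11337, 12393), (11338, 12388), (11339, 11688), (11340, 9689), (11341, 9340), (11342, 9341), (11343, 13531), (11344, 11344), (11345, 9347), (11346, 9390), (11347, 9348), (11348, 9577), (11349, 13533), (11350, 13535), (11351, 9693), (11352, 9694), (11353, 9695), (11354, 11354), (11355, 9356), (11356, 9357), (11357, 9358), (11358, 11358), (11359, 9359), (11360, 13546), (11361, 13548), (11362, 13549), (11363, 13551), (11364, 12687), (11365, 12688), (11366, 11366), (11367, 9366), (11368, 11368), (11369, 9367), (11370, 11370), (11371, 13559), (11372, 13561), (11373, 11373), (11374, 9379), (11375, 9383), (11376, 9380), (11377, 9382), (11378, 9587), (11379, 9384), (11380, 12692), (11381, 13494), (11382, 13534), (11383, 13489), (11384, 13566), (11385, 12716), (11386,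 12717), (11387, 12936), (11388, 13404), (11389, 13258), (11390, 11679), (11391, 11391)]
    ⟨e3 q11328 L267980 q9332, e3 q11329 L268001 q9333, e3 q11330 L268008 q11330, e3 q11331 (flp_f L615795) q12673, e3 q11332 (flp_f L615867) q13520, e3 q11333 (flp_f L645481) q13283, e3 q11334 (flp_f L615782) q13513, e3 q11335 (flp_f L390026) q13524, e3 q11336 (flp_f L645678) q13276, e3 q11337 (flp_f L533220) q12393, e3 q11338 (flp_f L648201) q12388, e3 q11339 (flp_f L548431) q11688, e3 q11340 L268295 q9689, e3 q11341 L268308 q9340, e3 q11342 L268324 q9341, e3 q11343 (flp_f L390499) q13531, e3 q11344 L268510 q11344, e3 q11345 L268526 q9347, e3 q11346 L629651 q9390, e3 q11347 L268553 q9348, e3 q11348 L268562 q9577, e3 q11349 (flp_f L390782) q13533, e3 q11350 (flp_f L390831) q13535, e3 q11351 L268680 q9693, e3 q11352 L268687 q9694, e3 q11353 L268695 q9695, e3 q11354 L268700 q11354, e3 q11355 L268706 q9356, e3 q11356 L268715 q9357, e3 q11357 L268721 q9358, e3 q11358 L268730 q11358, e3 q11359 L268736 q9359, e3 q11360 (flp_f L391028) q13546,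 e3 q11361 (flp_f L391047) q13548, e3 q11362 (flp_f L391053) q13549, e3 q11363 (flp_f L391069) q13551, e3 q11364 (flp_f L368951) q12687, e3 q11365 (flp_f L368970) q12688, e3 q11366 L268803 q11366, e3 q11367 L268817 q9366, e3 q11368 L268829 q11368, e3 q11369 L268843 q9367, e3 q11370 L268850 q11370, e3 q11371 (flp_f L391181) q13559, e3 q11372 (flp_f L391224) q13561, e3 q11373 L268945 q11373, e3 q11374 L268966 q9379, e3 q11375 (flp_f L646433) q9383, e3 q11376 L268984 q9380, e3 q11377 L269011 q9382, e3 q11378 L269031 q9587, e3 q11379 L269046 q9384, e3 q11380 L646321 q12692, e3 q11381 (flp_f L646520) q13494, e3 q11382 (flp_f L646442) q13534, e3 q11383 L629306 q13489, e3 q11384 (flp_f L391507) q13566, e3 q11385 (flp_f L369490) q12716, e3 q11386 (flp_f L369497) q12717, e3 q11387 L648574 q12936, e3 q11388 L629643 q13404, e3 q11389 L645698 q13258, e3 q11390 (flp_f L648993) q11679, e3 q11391 L269890 q11391, trivial⟩ (by decide +kernel)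

theorem ce_f_178 : ∀ r, r < 64 → sm gf (Qf (11392 + r)) = Qf (tab Gen.f (11392 + r)) :=
  edges_tab (sm gf) Qf (tab Gen.f) 11392 [(11392, 11392), (11393, 11393), (11394, 13575), (11395, 11395), (11396, 9405), (11397, 13577), (11398, 11398), (11399, 11399), (11400, 12754), (11401, 12752), (11402, 9412), (11403, 11403), (11404, 13107), (11405, 9420), (11406, 11681), (11407, 11761), (11408, 11768), (11409, 13581), (11410, 11410), (11411, 11411), (11412, 11412), (11413, 9429), (11414, 13116), (11415, 9430), (11416, 9431), (11417, 12052), (11418, 9432), (11419, 13117), (11420, 9433), (11421, 11826), (11422, 13588), (11423, 13590), (11424, 12045), (11425, 13591), (11426, 13593), (11427, 11427), (11428, 11428), (11429, 11429), (11430, 11430), (11431, 11431), (11432, 13208), (11433, 9446), (11434, 11697), (11435, 11995), (11436, 13605), (11437, 11437), (11438, 11438), (11439, 11439), (11440, 11440), (11441, 13614), (11442, 11442), (11443, 9451), (11444, 12732), (11445, 11931), (11446, 13619), (11447, 11952), (11448, 9456), (11449,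 13622), (11450, 9553), (11451, 11451), (11452, 13626), (11453, 11453), (11454, 9459), (11455, 13630)]
    ⟨e3 q11392 L269898 q11392, e3 q11393 L270058 q11393, e3 q11394 L649443 q13575, e3 q11395 L270074 q11395, e3 q11396 (flp_f L270077) q9405, e3 q11397 (flp_f L649464) q13577, e3 q11398 L270097 q11398, e3 q11399 L270115 q11399, e3 q11400 (flp_f L649271) q12754, e3 q11401 (flp_f L649157) q12752, e3 q11402 L270154 q9412, e3 q11403 L270171 q11403, e3 q11404 (flp_f L381933) q13107, e3 q11405 L270250 q9420, e3 q11406 (flp_f L648182) q11681, e3 q11407 L648628 q11761, e3 q11408 L649125 q11768, e3 q11409 (flp_f L649502) q13581, e3 q11410 L270295 q11410, e3 q11411 L270305 q11411, e3 q11412 L270312 q11412, e3 q11413 L270339 q9429, e3 q11414 (flp_f L382049) q13116, e3 q11415 L270357 q9430, e3 q11416 L270364 q9431, e3 q11417 (flp_f L637392) q12052, e3 q11418 L270381 q9432, e3 q11419 (flp_f L382086) q13117, e3 q11420 L270394 q9433, e3 q11421 L648761 q11826, e3 q11422 (flp_f L649564) q13588, e3 q11423 (flp_f L649579) q13590, e3 q11424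 L648330 q12045, e3 q11425 (flp_f L649590) q13591, e3 q11426 (flp_f L649606) q13593, e3 q11427 L270454 q11427, e3 q11428 L270461 q11428, e3 q11429 L270468 q11429, e3 q11430 L270934 q11430, e3 q11431 L270954 q11431, e3 q11432 (flp_f L383737) q13208, e3 q11433 L271117 q9446, e3 q11434 L648999 q11697, e3 q11435 L649331 q11995, e3 q11436 (flp_f L649707) q13605, e3 q11437 L271162 q11437, e3 q11438 L271171 q11438, e3 q11439 L271178 q11439, e3 q11440 L271257 q11440, e3 q11441 L649775 q13614, e3 q11442 L271272 q11442, e3 q11443 (flp_f L271273) q9451, e3 q11444 L649025 q12732, e3 q11445 (flp_f L649109) q11931, e3 q11446 L649816 q13619, e3 q11447 L648757 q11952, e3 q11448 (flp_f L271386) q9456, e3 q11449 (flp_f L649840) q13622, e3 q11450 L648242 q9553, e3 q11451 L271411 q11451, e3 q11452 L649866 q13626, e3 q11453 L271424 q11453, e3 q11454 (flp_f L271425) q9459, e3 q11455 (flp_f L649895) q13630, trivial⟩ (by decide +kernel)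

theorem ce_f_179 : ∀ r, r < 64 → sm gf (Qf (11456 + r)) = Qf (tab Gen.f (11456 + r)) :=
  edges_tab (sm gf) Qf (tab Gen.f) 11456 [(11456, 11456), (11457, 13621), (11458, 9462), (11459, 13635), (11460, 9464), (11461, 13636), (11462, 9468), (11463, 9467), (11464, 13637), (11465, 13638), (11466, 9478), (11467, 9479), (11468, 13261), (11469, 9480), (11470, 13263), (11471, 9481), (11472, 11932), (11473, 11954), (11474, 13639), (11475, 12468), (11476, 13641), (11477, 13644), (11478, 11478), (11479, 11479), (11480, 11480), (11481, 9493), (11482, 9494), (11483, 9495), (11484, 9496), (11485, 13281), (11486, 9497), (11487, 13284), (11488, 9498), (11489, 13286), (11490, 12402), (11491, 13654), (11492, 13655), (11493, 13657), (11494, 13659), (11495, 13661), (11496, 11496), (11497, 11497), (11498, 13671), (11499, 9506), (11500, 9507), (11501, 11704), (11502, 11705), (11503, 13672), (11504, 13673), (11505, 13674), (11506, 11506), (11507, 11507), (11508, 11508), (11509, 9516), (11510, 9517), (11511, 9518), (11512, 13407), (11513, 9519),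 (11514, 13409), (11515, 9520), (11516, 13684), (11517, 13685), (11518, 9573), (11519, 13686)]
    ⟨e3 q11456 L271440 q11456, e3 q11457 (flp_f L649833) q13621, e3 q11458 L271453 q9462, e3 q11459 (flp_f L649927) q13635, e3 q11460 (flp_f L271460) q9464, e3 q11461 (flp_f L649934) q13636, e3 q11462 L271493 q9468, e3 q11463 L271500 q9467, e3 q11464 (flp_f L649943) q13637, e3 q11465 (flp_f L649952) q13638, e3 q11466 L271613 q9478, e3 q11467 L271619 q9479, e3 q11468 (flp_f L384242) q13261, e3 q11469 L271635 q9480, e3 q11470 (flp_f L384258) q13263, e3 q11471 L271651 q9481, e3 q11472 L648614 q11932, e3 q11473 L649131 q11954, e3 q11474 (flp_f L649960) q13639, e3 q11475 (flp_f L649379) q12468, e3 q11476 (flp_f L649980) q13641, e3 q11477 (flp_f L649999) q13644, e3 q11478 L271705 q11478, e3 q11479 L271712 q11479, e3 q11480 L271716 q11480, e3 q11481 L271747 q9493, e3 q11482 L271766 q9494, e3 q11483 L271782 q9495, e3 q11484 L271791 q9496, e3 q11485 (flp_f L384418) q13281, e3 q11486 L271807 q9497, e3 q11487 (flp_f L384440) q13284, e3 q11488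 L271830 q9498, e3 q11489 (flp_f L384455) q13286, e3 q11490 L649403 q12402, e3 q11491 (flp_f L650072) q13654, e3 q11492 (flp_f L650081) q13655, e3 q11493 (flp_f L650099) q13657, e3 q11494 (flp_f L650113) q13659, e3 q11495 (flp_f L650129) q13661, e3 q11496 L271891 q11496, e3 q11497 L271897 q11497, e3 q11498 L650202 q13671, e3 q11499 L272305 q9506, e3 q11500 L272323 q9507, e3 q11501 L649095 q11704, e3 q11502 L649091 q11705, e3 q11503 (flp_f L650213) q13672, e3 q11504 (flp_f L650225) q13673, e3 q11505 (flp_f L650232) q13674, e3 q11506 L272410 q11506, e3 q11507 L272427 q11507, e3 q11508 L272453 q11508, e3 q11509 L272629 q9516, e3 q11510 L272651 q9517, e3 q11511 L272657 q9518, e3 q11512 (flp_f L386972) q13407, e3 q11513 L272678 q9519, e3 q11514 (flp_f L386989) q13409, e3 q11515 L272694 q9520, e3 q11516 (flp_f L650320) q13684, e3 q11517 (flp_f L650337) q13685, e3 q11518 L646679 q9573, e3 q11519 (flp_f L650348) q13686, trivial⟩ (by decide +kernel)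

theorem ce_f_180 : ∀ r, r < 64 → sm gf (Qf (11520 + r)) = Qf (tab Gen.f (11520 + r)) :=
  edges_tab (sm gf) Qf (tab Gen.f) 11520 [(11520, 13688), (11521, 13691), (11522, 11522), (11523, 11523), (11524, 11524), (11525, 9529), (11526, 9531), (11527, 9532), (11528, 13707), (11529, 9534), (11530, 9527), (11531, 13711), (11532, 9537), (11533, 9588), (11534, 13716), (11535, 13701), (11536, 9530), (11537, 13719), (11538, 13702), (11539, 13703), (11540, 13723), (11541, 13705), (11542, 9533), (11543, 13727), (11544, 13709), (11545, 9544), (11546, 9536), (11547, 13732), (11548, 13733), (11549, 11549), (11550, 9539), (11551, 13737), (11552, 11552), (11553, 13726), (11554, 9542), (11555, 13742), (11556, 11556), (11557, 13730), (11558, 13731), (11559, 9546), (11560, 11560), (11561, 9548), (11562, 9551), (11563, 9552), (11564, 13749), (11565, 9563), (11566, 9565), (11567, 9566), (11568, 13496), (11569, 13497), (11570, 9567), (11571, 9583), (11572, 13694), (11573, 13715), (11574, 11574), (11575, 11575), (11576, 12957), (11577, 9579), (11578,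 9581), (11579, 13536), (11580, 9582), (11581, 13537), (11582, 13692), (11583, 13713)]
    ⟨e3 q11520 (flp_f L650370) q13688, e3 q11521 (flp_f L650393) q13691, e3 q11522 L272761 q11522, e3 q11523 L272768 q11523, e3 q11524 L272776 q11524, e3 q11525 L272801 q9529, e3 q11526 L272819 q9531, e3 q11527 L272827 q9532, e3 q11528 L650547 q13707, e3 q11529 L272844 q9534, e3 q11530 (flp_f L272847) q9527, e3 q11531 (flp_f L650581) q13711, e3 q11532 L272862 q9537, e3 q11533 L646241 q9588, e3 q11534 L650622 q13716, e3 q11535 (flp_f L650495) q13701, e3 q11536 (flp_f L272893) q9530, e3 q11537 (flp_f L650651) q13719, e3 q11538 (flp_f L650504) q13702, e3 q11539 (flp_f L650515) q13703, e3 q11540 L650681 q13723, e3 q11541 (flp_f L650537) q13705, e3 q11542 (flp_f L272944) q9533, e3 q11543 (flp_f L650715) q13727, e3 q11544 (flp_f L650565) q13709, e3 q11545 L272970 q9544, e3 q11546 L272977 q9536, e3 q11547 (flp_f L650754) q13732, e3 q11548 L650757 q13733, e3 q11549 L273001 q11549, e3 q11550 (flp_f L273003) q9539, e3 q11551 (flp_f L650794) q13737,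 e3 q11552 L273024 q11552, e3 q11553 (flp_f L650709) q13726, e3 q11554 L273038 q9542, e3 q11555 (flp_f L650834) q13742, e3 q11556 L273051 q11556, e3 q11557 (flp_f L650739) q13730, e3 q11558 (flp_f L650747) q13731, e3 q11559 L273077 q9546, e3 q11560 L273094 q11560, e3 q11561 L273098 q9548, e3 q11562 L273115 q9551, e3 q11563 L273122 q9552, e3 q11564 (flp_f L650882) q13749, e3 q11565 L273261 q9563, e3 q11566 L273288 q9565, e3 q11567 L273308 q9566, e3 q11568 (flp_f L387773) q13496, e3 q11569 (flp_f L387781) q13497, e3 q11570 L273325 q9567, e3 q11571 L646245 q9583, e3 q11572 (flp_f L650426) q13694, e3 q11573 (flp_f L650617) q13715, e3 q11574 L273397 q11574, e3 q11575 L273405 q11575, e3 q11576 L648576 q12957, e3 q11577 L273733 q9579, e3 q11578 L273781 q9581, e3 q11579 (flp_f L390840) q13536, e3 q11580 L273798 q9582, e3 q11581 (flp_f L390853) q13537, e3 q11582 (flp_f L650403) q13692, e3 q11583 (flp_f L650595) q13713, trivial⟩ (by decide +kernel)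

theorem ce_f_181 : ∀ r, r < 64 → sm gf (Qf (11584 + r)) = Qf (tab Gen.f (11584 + r)) :=
  edges_tab (sm gf) Qf (tab Gen.f) 11584 [(11584, 11584), (11585, 11585), (11586, 12956), (11587, 13565), (11588, 13757), (11589, 11589), (11590, 11590), (11591, 11591), (11592, 11592), (11593, 13216), (11594, 9622), (11595, 9601), (11596, 9606), (11597, 13759), (11598, 9647), (11599, 11599), (11600, 9655), (11601, 13760), (11602, 11602), (11603, 12959), (11604, 9614), (11605, 9661), (11606, 13416), (11607, 9659), (11608, 11608), (11609, 13353), (11610, 9621), (11611, 13765), (11612, 11612), (11613, 11613), (11614, 11771), (11615, 11615), (11616, 12920), (11617, 11617), (11618, 12942), (11619, 9635), (11620, 12850), (11621, 12817), (11622, 9639), (11623, 13768), (11624, 9643), (11625, 9648), (11626, 13769), (11627, 13306), (11628, 9649), (11629, 13761), (11630, 9671), (11631, 13770), (11632, 11632), (11633, 13378), (11634, 9656), (11635, 13762), (11636, 13417), (11637, 13418), (11638, 9660), (11639, 13779), (11640, 13778), (11641, 9663),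 (11642, 9665), (11643, 13782), (11644, 11644), (11645, 9668), (11646, 12475), (11647, 9672)]
    ⟨e3 q11584 L273893 q11584, e3 q11585 L273899 q11585, e3 q11586 L648572 q12956, e3 q11587 (flp_f L391488) q13565, e3 q11588 L650930 q13757, e3 q11589 L275030 q11589, e3 q11590 L281655 q11590, e3 q11591 L283020 q11591, e3 q11592 L283579 q11592, e3 q11593 (flp_f L648967) q13216, e3 q11594 L284078 q9622, e3 q11595 L286062 q9601, e3 q11596 L615013 q9606, e3 q11597 (flp_f L650950) q13759, e3 q11598 L615185 q9647, e3 q11599 L286658 q11599, e3 q11600 L615050 q9655, e3 q11601 (flp_f L650966) q13760, e3 q11602 L286964 q11602, e3 q11603 (flp_f L379636) q12959, e3 q11604 L287358 q9614, e3 q11605 L614969 q9661, e3 q11606 L615043 q13416, e3 q11607 L615037 q9659, e3 q11608 L287416 q11608, e3 q11609 (flp_f L648517) q13353, e3 q11610 L287634 q9621, e3 q11611 (flp_f L651036) q13765, e3 q11612 L288235 q11612, e3 q11613 L288811 q11613, e3 q11614 L648965 q11771, e3 q11615 L289871 q11615, e3 q11616 L648638 q12920, e3 q11617 L290201 q11617, e3 q11618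 L648795 q12942, e3 q11619 (flp_f L291424) q9635, e3 q11620 (flp_f L649347) q12850, e3 q11621 (flp_f L648943) q12817, e3 q11622 L291622 q9639, e3 q11623 (flp_f L651054) q13768, e3 q11624 L292265 q9643, e3 q11625 L614704 q9648, e3 q11626 (flp_f L651066) q13769, e3 q11627 (flp_f L385256) q13306, e3 q11628 L292720 q9649, e3 q11629 (flp_f L650983) q13761, e3 q11630 L616234 q9671, e3 q11631 (flp_f L651083) q13770, e3 q11632 L292782 q11632, e3 q11633 (flp_f L386439) q13378, e3 q11634 L293795 q9656, e3 q11635 (flp_f L651001) q13762, e3 q11636 (flp_f L387110) q13417, e3 q11637 (flp_f L387118) q13418, e3 q11638 (flp_f L294192) q9660, e3 q11639 (flp_f L651154) q13779, e3 q11640 (flp_f L651149) q13778, e3 q11641 L294221 q9663, e3 q11642 L294306 q9665, e3 q11643 (flp_f L651174) q13782, e3 q11644 L294353 q11644, e3 q11645 L294375 q9668, e3 q11646 (flp_f L561794) q12475, e3 q11647 L294805 q9672, trivial⟩ (by decide +kernel)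

theorem ce_f_182 : ∀ r, r < 64 → sm gf (Qf (11648 + r)) = Qf (tab Gen.f (11648 + r)) :=
  edges_tab (sm gf) Qf (tab Gen.f) 11648 [(11648, 13773), (11649, 13514), (11650, 13515), (11651, 13516), (11652, 9679), (11653, 9681), (11654, 12392), (11655, 12406), (11656, 11656), (11657, 12410), (11658, 9688), (11659, 12411), (11660, 13529), (11661, 13530), (11662, 9692), (11663, 13539), (11664, 13540), (11665, 13541), (11666, 13543), (11667, 9697), (11668, 11722), (11669, 9701), (11670, 9702), (11671, 13796), (11672, 11748), (11673, 13795), (11674, 9708), (11675, 11734), (11676, 9711), (11677, 11677), (11678, 13798), (11679, 11390), (11680, 13801), (11681, 11406), (11682, 13804), (11683, 9730), (11684, 9729), (11685, 13808), (11686, 13806), (11687, 11687), (11688, 11339), (11689, 10602), (11690, 11308), (11691, 9742), (11692, 9741), (11693, 13815), (11694, 13813), (11695, 11695), (11696, 13818), (11697, 11434), (11698, 9749), (11699, 13822), (11700, 9753), (11701, 13807), (11702, 9752), (11703, 13826), (11704, 11501), (11705, 11502),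 (11706, 11706), (11707, 11707), (11708, 11708), (11709, 9763), (11710, 9764), (11711, 10753)]
    ⟨e3 q11648 (flp_f L651112) q13773, e3 q11649 (flp_f L389186) q13514, e3 q11650 (flp_f L389193) q13515, e3 q11651 (flp_f L389201) q13516, e3 q11652 L295151 q9679, e3 q11653 L295175 q9681, e3 q11654 (flp_f L648815) q12392, e3 q11655 L648909 q12406, e3 q11656 L295258 q11656, e3 q11657 L648863 q12410, e3 q11658 L295692 q9688, e3 q11659 L648889 q12411, e3 q11660 (flp_f L390467) q13529, e3 q11661 (flp_f L390476) q13530, e3 q11662 L295748 q9692, e3 q11663 (flp_f L390979) q13539, e3 q11664 (flp_f L390989) q13540, e3 q11665 (flp_f L390995) q13541, e3 q11666 (flp_f L391010) q13543, e3 q11667 (flp_f L296671) q9697, e3 q11668 (flp_f L648610) q11722, e3 q11669 L296911 q9701, e3 q11670 (flp_f L298215) q9702, e3 q11671 (flp_f L651274) q13796, e3 q11672 L648777 q11748, e3 q11673 (flp_f L651266) q13795, e3 q11674 L298404 q9708, e3 q11675 (flp_f L648963) q11734, e3 q11676 L298538 q9711, e3 q11677 L299217 q11677, e3 q11678 L651285 q13798, e3 q11679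 L648993 q11390, e3 q11680 L651325 q13801, e3 q11681 L648182 q11406, e3 q11682 L651370 q13804, e3 q11683 L351247 q9730, e3 q11684 (flp_f L351249) q9729, e3 q11685 (flp_f L651429) q13808, e3 q11686 (flp_f L651406) q13806, e3 q11687 L351331 q11687, e3 q11688 L548431 q11339, e3 q11689 L548425 q10602, e3 q11690 L548354 q11308, e3 q11691 L351625 q9742, e3 q11692 (flp_f L351628) q9741, e3 q11693 (flp_f L651523) q13815, e3 q11694 (flp_f L651493) q13813, e3 q11695 L351721 q11695, e3 q11696 L651551 q13818, e3 q11697 (flp_f L648999) q11434, e3 q11698 (flp_f L351868) q9749, e3 q11699 (flp_f L651618) q13822, e3 q11700 L351890 q9753, e3 q11701 (flp_f L651421) q13807, e3 q11702 L351908 q9752, e3 q11703 (flp_f L651655) q13826, e3 q11704 (flp_f L649095) q11501, e3 q11705 (flp_f L649091) q11502, e3 q11706 L351993 q11706, e3 q11707 L352004 q11707, e3 q11708 L352012 q11708, e3 q11709 L352044 q9763, e3 q11710 L352061 q9764, e3 q11711 L640936 q10753, trivial⟩ (by decide +kernel)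

theorem ce_f_183 : ∀ r, r < 64 → sm gf (Qf (11712 + r)) = Qf (tab Gen.f (11712 + r)) :=
  edges_tab (sm gf) Qf (tab Gen.f) 11712 [(11712, 10754), (11713, 13833), (11714, 13834), (11715, 13835), (11716, 11716), (11717, 11717), (11718, 11718), (11719, 10603), (11720, 10605), (11721, 9781), (11722, 11668), (11723, 10607), (11724, 13847), (11725, 9785), (11726, 13848), (11727, 13849), (11728, 9841), (11729, 9790), (11730, 9791), (11731, 9915), (11732, 9815), (11733, 9794), (11734, 11675), (11735, 9796), (11736, 13853), (11737, 9799), (11738, 9800), (11739, 10628), (11740, 13856), (11741, 10630), (11742, 11742), (11743, 11743), (11744, 9807), (11745, 9808), (11746, 13865), (11747, 9809), (11748, 11672), (11749, 10661), (11750, 9842), (11751, 10633), (11752, 11752), (11753, 11753), (11754, 10667), (11755, 10668), (11756, 9846), (11757, 11757), (11758, 10635), (11759, 11759), (11760, 9822), (11761, 11407), (11762, 13873), (11763, 10629), (11764, 13854), (11765, 10638), (11766, 9827), (11767, 13877), (11768, 11408), (11769, 9828),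 (11770, 10646), (11771, 11614), (11772, 10649), (11773, 9832), (11774, 13851), (11775, 13869)]
    ⟨e3 q11712 L635266 q10754, e3 q11713 (flp_f L651747) q13833, e3 q11714 (flp_f L651763) q13834, e3 q11715 (flp_f L651775) q13835, e3 q11716 L352116 q11716, e3 q11717 L352127 q11717, e3 q11718 L352136 q11718, e3 q11719 L352615 q10603, e3 q11720 L644369 q10605, e3 q11721 (flp_f L644955) q9781, e3 q11722 L648610 q11668, e3 q11723 L353197 q10607, e3 q11724 L651917 q13847, e3 q11725 (flp_f L353270) q9785, e3 q11726 (flp_f L651946) q13848, e3 q11727 (flp_f L651963) q13849, e3 q11728 L644107 q9841, e3 q11729 L353343 q9790, e3 q11730 L353352 q9791, e3 q11731 L632064 q9915, e3 q11732 (flp_f L644295) q9815, e3 q11733 (flp_f L353523) q9794, e3 q11734 L648963 q11675, e3 q11735 (flp_f L353601) q9796, e3 q11736 (flp_f L652039) q13853, e3 q11737 L353699 q9799, e3 q11738 L353706 q9800, e3 q11739 L353978 q10628, e3 q11740 L652081 q13856, e3 q11741 L354003 q10630, e3 q11742 L354014 q11742, e3 q11743 L354025 q11743, e3 q11744 L354032 q9807, e3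 q11745 L354044 q9808, e3 q11746 (flp_f L652220) q13865, e3 q11747 (flp_f L354071) q9809, e3 q11748 (flp_f L648777) q11672, e3 q11749 L640279 q10661, e3 q11750 L644150 q9842, e3 q11751 L354113 q10633, e3 q11752 L354123 q11752, e3 q11753 L354134 q11753, e3 q11754 L640266 q10667, e3 q11755 L640323 q10668, e3 q11756 L631990 q9846, e3 q11757 L354213 q11757, e3 q11758 L354229 q10635, e3 q11759 L354239 q11759, e3 q11760 L354247 q9822, e3 q11761 (flp_f L648628) q11407, e3 q11762 (flp_f L652350) q13873, e3 q11763 L620519 q10629, e3 q11764 (flp_f L652060) q13854, e3 q11765 L354298 q10638, e3 q11766 L354336 q9827, e3 q11767 L652407 q13877, e3 q11768 (flp_f L649125) q11408, e3 q11769 (flp_f L354359) q9828, e3 q11770 L354401 q10646, e3 q11771 (flp_f L648965) q11614, e3 q11772 L354435 q10649, e3 q11773 (flp_f L354439) q9832, e3 q11774 (flp_f L651997) q13851, e3 q11775 (flp_f L652280) q13869, trivial⟩ (by decide +kernel)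

theorem ce_f_184 : ∀ r, r < 64 → sm gf (Qf (11776 + r)) = Qf (tab Gen.f (11776 + r)) :=
  edges_tab (sm gf) Qf (tab Gen.f) 11776 [(11776, 10652), (11777, 10653), (11778, 11778), (11779, 13889), (11780, 9839), (11781, 9838), (11782, 13893), (11783, 13891), (11784, 13870), (11785, 10663), (11786, 10664), (11787, 13896), (11788, 10672), (11789, 9850), (11790, 13901), (11791, 13902), (11792, 10676), (11793, 10677), (11794, 9931), (11795, 9932), (11796, 9933), (11797, 10241), (11798, 9856), (11799, 13914), (11800, 9858), (11801, 9859), (11802, 13916), (11803, 13917), (11804, 13918), (11805, 10683), (11806, 10684), (11807, 9944), (11808, 10623), (11809, 9866), (11810, 9867), (11811, 9868), (11812, 10739), (11813, 13926), (11814, 10286), (11815, 13927), (11816, 10129), (11817, 10137), (11818, 10687), (11819, 10688), (11820, 13934), (11821, 10690), (11822, 9959), (11823, 9960), (11824, 9875), (11825, 9876), (11826, 11421), (11827, 13941), (11828, 13944), (11829, 9878), (11830, 13946), (11831, 13947), (11832, 10695), (11833, 10696),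 (11834, 9974), (11835, 13952), (11836, 9885), (11837, 9884), (11838, 13956), (11839, 13954)]
    ⟨e3 q11776 L354472 q10652, e3 q11777 L354484 q10653, e3 q11778 L354513 q11778, e3 q11779 L652578 q13889, e3 q11780 L354529 q9839, e3 q11781 (flp_f L354533) q9838, e3 q11782 (flp_f L652634) q13893, e3 q11783 (flp_f L652613) q13891, e3 q11784 (flp_f L652299) q13870, e3 q11785 L354603 q10663, e3 q11786 L354613 q10664, e3 q11787 L652666 q13896, e3 q11788 L354946 q10672, e3 q11789 (flp_f L354948) q9850, e3 q11790 (flp_f L652745) q13901, e3 q11791 (flp_f L652759) q13902, e3 q11792 L354984 q10676, e3 q11793 L354994 q10677, e3 q11794 L355004 q9931, e3 q11795 L355012 q9932, e3 q11796 L355024 q9933, e3 q11797 L550530 q10241, e3 q11798 L355043 q9856, e3 q11799 (flp_f L652894) q13914, e3 q11800 L355080 q9858, e3 q11801 L355090 q9859, e3 q11802 (flp_f L652925) q13916, e3 q11803 (flp_f L652939) q13917, e3 q11804 (flp_f L652957) q13918, e3 q11805 L355122 q10683, e3 q11806 L355131 q10684, e3 q11807 L355138 q9944, e3 q11808 L635067 q10623, e3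 q11809 L355162 q9866, e3 q11810 L355169 q9867, e3 q11811 L355180 q9868, e3 q11812 L648983 q10739, e3 q11813 (flp_f L653070) q13926, e3 q11814 L644074 q10286, e3 q11815 (flp_f L653087) q13927, e3 q11816 L644091 q10129, e3 q11817 (flp_f L632120) q10137, e3 q11818 L355240 q10687, e3 q11819 L355250 q10688, e3 q11820 L653180 q13934, e3 q11821 L355271 q10690, e3 q11822 L355281 q9959, e3 q11823 L355290 q9960, e3 q11824 L355300 q9875, e3 q11825 L355310 q9876, e3 q11826 (flp_f L648761) q11421, e3 q11827 (flp_f L653290) q13941, e3 q11828 L653326 q13944, e3 q11829 (flp_f L355355) q9878, e3 q11830 (flp_f L653367) q13946, e3 q11831 (flp_f L653381) q13947, e3 q11832 L355387 q10695, e3 q11833 L355397 q10696, e3 q11834 L355424 q9974, e3 q11835 L653439 q13952, e3 q11836 L355439 q9885, e3 q11837 (flp_f L355441) q9884, e3 q11838 (flp_f L653498) q13956, e3 q11839 (flp_f L653470) q13954, trivial⟩ (by decide +kernel)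

theorem ce_f_185 : ∀ r, r < 64 → sm gf (Qf (11840 + r)) = Qf (tab Gen.f (11840 + r)) :=
  edges_tab (sm gf) Qf (tab Gen.f) 11840 [(11840, 9887), (11841, 9888), (11842, 13959), (11843, 10707), (11844, 9892), (11845, 13961), (11846, 13962), (11847, 10711), (11848, 10712), (11849, 9895), (11850, 9896), (11851, 13969), (11852, 13970), (11853, 13971), (11854, 10718), (11855, 13980), (11856, 10720), (11857, 10002), (11858, 13983), (11859, 10004), (11860, 9902), (11861, 13987), (11862, 9906), (11863, 10008), (11864, 9905), (11865, 13991), (11866, 13850), (11867, 9909), (11868, 9910), (11869, 9911), (11870, 13992), (11871, 13993), (11872, 13994), (11873, 10736), (11874, 10737), (11875, 10738), (11876, 9919), (11877, 9920), (11878, 10750), (11879, 10751), (11880, 9924), (11881, 13999), (11882, 14000), (11883, 10761), (11884, 10762), (11885, 9927), (11886, 9928), (11887, 14008), (11888, 14009), (11889, 14010), (11890, 10768), (11891, 10420), (11892, 10769), (11893, 13909), (11894, 13910), (11895, 14023), (11896, 13912), (11897, 10426),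 (11898, 9936), (11899, 11899), (11900, 9939), (11901, 9940), (11902, 9941), (11903, 14028)]
    ⟨e3 q11840 L355472 q9887, e3 q11841 L355481 q9888, e3 q11842 (flp_f L653539) q13959, e3 q11843 L355523 q10707, e3 q11844 (flp_f L355534) q9892, e3 q11845 (flp_f L653576) q13961, e3 q11846 (flp_f L653590) q13962, e3 q11847 L355560 q10711, e3 q11848 L355569 q10712, e3 q11849 L355579 q9895, e3 q11850 L355589 q9896, e3 q11851 (flp_f L653675) q13969, e3 q11852 (flp_f L653683) q13970, e3 q11853 (flp_f L653695) q13971, e3 q11854 L355621 q10718, e3 q11855 L653809 q13980, e3 q11856 L355637 q10720, e3 q11857 L355654 q10002, e3 q11858 L653831 q13983, e3 q11859 L355671 q10004, e3 q11860 (flp_f L355675) q9902, e3 q11861 (flp_f L653886) q13987, e3 q11862 L355692 q9906, e3 q11863 L355702 q10008, e3 q11864 L355710 q9905, e3 q11865 (flp_f L653918) q13991, e3 q11866 (flp_f L651979) q13850, e3 q11867 L355735 q9909, e3 q11868 L355743 q9910, e3 q11869 L355753 q9911, e3 q11870 (flp_f L653931) q13992, e3 q11871 (flp_f L653941) q13993, e3 q11872 (flp_f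 L653961) q13994, e3 q11873 L355785 q10736, e3 q11874 L355793 q10737, e3 q11875 L355799 q10738, e3 q11876 L355826 q9919, e3 q11877 L355851 q9920, e3 q11878 L355893 q10750, e3 q11879 L355902 q10751, e3 q11880 (flp_f L356237) q9924, e3 q11881 (flp_f L654045) q13999, e3 q11882 (flp_f L654056) q14000, e3 q11883 L356271 q10761, e3 q11884 L356282 q10762, e3 q11885 L356293 q9927, e3 q11886 L356303 q9928, e3 q11887 (flp_f L654153) q14008, e3 q11888 (flp_f L654163) q14009, e3 q11889 (flp_f L654175) q14010, e3 q11890 L356338 q10768, e3 q11891 L550668 q10420, e3 q11892 L356356 q10769, e3 q11893 (flp_f L652831) q13909, e3 q11894 (flp_f L652845) q13910, e3 q11895 L654320 q14023, e3 q11896 (flp_f L652872) q13912, e3 q11897 L550618 q10426, e3 q11898 L356418 q9936, e3 q11899 L356458 q11899, e3 q11900 L356465 q9939, e3 q11901 L356473 q9940, e3 q11902 L356482 q9941, e3 q11903 (flp_f L654387) q14028, trivial⟩ (by decide +kernel)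

theorem ce_f_186 : ∀ r, r < 64 → sm gf (Qf (11904 + r)) = Qf (tab Gen.f (11904 + r)) :=
  edges_tab (sm gf) Qf (tab Gen.f) 11904 [(11904, 14029), (11905, 14030), (11906, 14032), (11907, 10779), (11908, 10780), (11909, 10781), (11910, 11910), (11911, 9949), (11912, 9950), (11913, 9951), (11914, 11914), (11915, 9952), (11916, 14042), (11917, 14043), (11918, 14044), (11919, 14046), (11920, 14048), (11921, 10790), (11922, 10791), (11923, 10792), (11924, 14056), (11925, 10794), (11926, 9957), (11927, 14061), (11928, 14062), (11929, 10798), (11930, 10799), (11931, 11445), (11932, 11472), (11933, 13939), (11934, 9963), (11935, 10345), (11936, 9964), (11937, 14072), (11938, 14074), (11939, 9965), (11940, 14077), (11941, 14078), (11942, 10805), (11943, 10806), (11944, 9968), (11945, 9969), (11946, 14086), (11947, 14087), (11948, 14088), (11949, 10812), (11950, 14095), (11951, 10814), (11952, 11447), (11953, 14098), (11954, 11473), (11955, 9975), (11956, 14102), (11957, 9979), (11958, 13955), (11959, 9978), (11960, 14106), (11961,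 11961), (11962, 9982), (11963, 9983), (11964, 9984), (11965, 14108), (11966, 14109), (11967, 14110)]
    ⟨e3 q11904 (flp_f L654402) q14029, e3 q11905 (flp_f L654412) q14030, e3 q11906 (flp_f L654439) q14032, e3 q11907 L356526 q10779, e3 q11908 L356537 q10780, e3 q11909 L356545 q10781, e3 q11910 L356556 q11910, e3 q11911 L356564 q9949, e3 q11912 L356574 q9950, e3 q11913 L356583 q9951, e3 q11914 L356596 q11914, e3 q11915 L356602 q9952, e3 q11916 (flp_f L654556) q14042, e3 q11917 (flp_f L654574) q14043, e3 q11918 (flp_f L654584) q14044, e3 q11919 (flp_f L654613) q14046, e3 q11920 (flp_f L654632) q14048, e3 q11921 L356657 q10790, e3 q11922 L356669 q10791, e3 q11923 L356678 q10792, e3 q11924 L654717 q14056, e3 q11925 L356708 q10794, e3 q11926 (flp_f L356711) q9957, e3 q11927 (flp_f L654794) q14061, e3 q11928 (flp_f L654805) q14062, e3 q11929 L356747 q10798, e3 q11930 L356759 q10799, e3 q11931 L649109 q11445, e3 q11932 (flp_f L648614) q11472, e3 q11933 (flp_f L653257) q13939, e3 q11934 L356794 q9963, e3 q11935 L550691 q10345, e3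 q11936 L356815 q9964, e3 q11937 (flp_f L654938) q14072, e3 q11938 (flp_f L654962) q14074, e3 q11939 (flp_f L356863) q9965, e3 q11940 (flp_f L654999) q14077, e3 q11941 (flp_f L655008) q14078, e3 q11942 L356893 q10805, e3 q11943 L356904 q10806, e3 q11944 L356913 q9968, e3 q11945 L356921 q9969, e3 q11946 (flp_f L655095) q14086, e3 q11947 (flp_f L655103) q14087, e3 q11948 (flp_f L655113) q14088, e3 q11949 L356956 q10812, e3 q11950 L655192 q14095, e3 q11951 L356974 q10814, e3 q11952 (flp_f L648757) q11447, e3 q11953 L655227 q14098, e3 q11954 (flp_f L649131) q11473, e3 q11955 (flp_f L357009) q9975, e3 q11956 (flp_f L655286) q14102, e3 q11957 L357028 q9979, e3 q11958 (flp_f L653488) q13955, e3 q11959 L357045 q9978, e3 q11960 (flp_f L655325) q14106, e3 q11961 L357062 q11961, e3 q11962 L357070 q9982, e3 q11963 L357079 q9983, e3 q11964 L357089 q9984, e3 q11965 (flp_f L655354) q14108, e3 q11966 (flp_f L655366) q14109, e3 q11967 (flp_f L655384) q14110, trivial⟩ (by decide +kernel)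

theorem ce_f_187 : ∀ r, r < 64 → sm gf (Qf (11968 + r)) = Qf (tab Gen.f (11968 + r)) :=
  edges_tab (sm gf) Qf (tab Gen.f) 11968 [(11968, 10829), (11969, 10830), (11970, 11970), (11971, 9989), (11972, 9990), (11973, 14117), (11974, 14118), (11975, 14119), (11976, 10837), (11977, 14128), (11978, 10839), (11979, 11979), (11980, 9995), (11981, 9996), (11982, 9997), (11983, 14132), (11984, 14133), (11985, 14134), (11986, 14143), (11987, 14136), (11988, 10849), (11989, 14149), (11990, 10851), (11991, 9999), (11992, 14153), (11993, 10854), (11994, 14155), (11995, 11435), (11996, 10003), (11997, 14159), (11998, 13985), (11999, 14158), (12000, 10006), (12001, 14163), (12002, 13989), (12003, 13990), (12004, 10010), (12005, 12005), (12006, 10015), (12007, 10016), (12008, 10017), (12009, 10775), (12010, 10018), (12011, 14168), (12012, 14169), (12013, 14170), (12014, 14172), (12015, 14174), (12016, 10874), (12017, 10875), (12018, 10876), (12019, 12019), (12020, 10028), (12021, 10029), (12022, 10030), (12023, 10785), (12024, 10031),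 (12025, 10786), (12026, 10032), (12027, 14184), (12028, 14185), (12029, 14186), (12030, 14187), (12031, 14189)]
    ⟨e3 q11968 L357141 q10829, e3 q11969 L357149 q10830, e3 q11970 L357160 q11970, e3 q11971 L357168 q9989, e3 q11972 L357175 q9990, e3 q11973 (flp_f L655471) q14117, e3 q11974 (flp_f L655479) q14118, e3 q11975 (flp_f L655490) q14119, e3 q11976 L357206 q10837, e3 q11977 L655573 q14128, e3 q11978 L357226 q10839, e3 q11979 L357235 q11979, e3 q11980 L357244 q9995, e3 q11981 L357252 q9996, e3 q11982 L357262 q9997, e3 q11983 (flp_f L655619) q14132, e3 q11984 (flp_f L655629) q14133, e3 q11985 (flp_f L655635) q14134, e3 q11986 L655718 q14143, e3 q11987 (flp_f L655653) q14136, e3 q11988 L357310 q10849, e3 q11989 L655781 q14149, e3 q11990 L357326 q10851, e3 q11991 (flp_f L357329) q9999, e3 q11992 (flp_f L655830) q14153, e3 q11993 L357351 q10854, e3 q11994 L655840 q14155, e3 q11995 (flp_f L649331) q11435, e3 q11996 (flp_f L357371) q10003, e3 q11997 (flp_f L655891) q14159, e3 q11998 (flp_f L653866) q13985, e3 q11999 (flp_f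 L655885) q14158, e3 q12000 L357404 q10006, e3 q12001 (flp_f L655924) q14163, e3 q12002 (flp_f L653901) q13989, e3 q12003 (flp_f L653910) q13990, e3 q12004 L357435 q10010, e3 q12005 L357451 q12005, e3 q12006 L357460 q10015, e3 q12007 L357469 q10016, e3 q12008 L357475 q10017, e3 q12009 L640974 q10775, e3 q12010 L357493 q10018, e3 q12011 (flp_f L655965) q14168, e3 q12012 (flp_f L655980) q14169, e3 q12013 (flp_f L655986) q14170, e3 q12014 (flp_f L656010) q14172, e3 q12015 (flp_f L656034) q14174, e3 q12016 L357536 q10874, e3 q12017 L357546 q10875, e3 q12018 L357553 q10876, e3 q12019 L357571 q12019, e3 q12020 L357579 q10028, e3 q12021 L357597 q10029, e3 q12022 L357605 q10030, e3 q12023 L640967 q10785, e3 q12024 L357625 q10031, e3 q12025 L635191 q10786, e3 q12026 L357639 q10032, e3 q12027 (flp_f L656133) q14184, e3 q12028 (flp_f L656147) q14185, e3 q12029 (flp_f L656156) q14186, e3 q12030 (flp_f L656165) q14187, e3 q12031 (flp_f L656190) q14189, trivial⟩ (by decide +kernel)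

theorem ce_f_188 : ∀ r, r < 64 → sm gf (Qf (12032 + r)) = Qf (tab Gen.f (12032 + r)) :=
  edges_tab (sm gf) Qf (tab Gen.f) 12032 [(12032, 14191), (12033, 10893), (12034, 10894), (12035, 10895), (12036, 10052), (12037, 10038), (12038, 14203), (12039, 14204), (12040, 12040), (12041, 12041), (12042, 10042), (12043, 10045), (12044, 10046), (12045, 11424), (12046, 14210), (12047, 12047), (12048, 12048), (12049, 12049), (12050, 12050), (12051, 10142), (12052, 11417), (12053, 14202), (12054, 12054), (12055, 12055), (12056, 12056), (12057, 10896), (12058, 12058), (12059, 10058), (12060, 14226), (12061, 10897), (12062, 14229), (12063, 10899), (12064, 12064), (12065, 12065), (12066, 10062), (12067, 10063), (12068, 14237), (12069, 10064), (12070, 14239), (12071, 14240), (12072, 10905), (12073, 10906), (12074, 12074), (12075, 12075), (12076, 13871), (12077, 10909), (12078, 10070), (12079, 14250), (12080, 14251), (12081, 10912), (12082, 10913), (12083, 12083), (12084, 12084), (12085, 12085), (12086, 14261), (12087, 10077), (12088, 10076),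 (12089, 14264), (12090, 14263), (12091, 10079), (12092, 10080), (12093, 14267), (12094, 10974), (12095, 14268)]
    ⟨e3 q12032 (flp_f L656214) q14191, e3 q12033 L357700 q10893, e3 q12034 L357707 q10894, e3 q12035 L357714 q10895, e3 q12036 L614196 q10052, e3 q12037 L357765 q10038, e3 q12038 (flp_f L656331) q14203, e3 q12039 (flp_f L656352) q14204, e3 q12040 L357806 q12040, e3 q12041 L357825 q12041, e3 q12042 L357837 q10042, e3 q12043 L357890 q10045, e3 q12044 L357902 q10046, e3 q12045 (flp_f L648330) q11424, e3 q12046 (flp_f L656444) q14210, e3 q12047 L357957 q12047, e3 q12048 L357969 q12048, e3 q12049 L357977 q12049, e3 q12050 L357990 q12050, e3 q12051 L614162 q10142, e3 q12052 L637392 q11417, e3 q12053 (flp_f L656319) q14202, e3 q12054 L358043 q12054, e3 q12055 L358055 q12055, e3 q12056 L358064 q12056, e3 q12057 L358079 q10896, e3 q12058 L358089 q12058, e3 q12059 L358095 q10058, e3 q12060 (flp_f L656652) q14226, e3 q12061 L358123 q10897, e3 q12062 L656684 q14229, e3 q12063 L358149 q10899, e3 q12064 L358160 q12064, e3 q12065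 L358171 q12065, e3 q12066 L358178 q10062, e3 q12067 L358189 q10063, e3 q12068 (flp_f L656788) q14237, e3 q12069 (flp_f L358214) q10064, e3 q12070 (flp_f L656809) q14239, e3 q12071 (flp_f L656819) q14240, e3 q12072 L358251 q10905, e3 q12073 L358263 q10906, e3 q12074 L358274 q12074, e3 q12075 L358284 q12075, e3 q12076 (flp_f L652320) q13871, e3 q12077 L358301 q10909, e3 q12078 (flp_f L358305) q10070, e3 q12079 (flp_f L656942) q14250, e3 q12080 (flp_f L656953) q14251, e3 q12081 L358334 q10912, e3 q12082 L358344 q10913, e3 q12083 L358354 q12083, e3 q12084 L358361 q12084, e3 q12085 L358369 q12085, e3 q12086 L657037 q14261, e3 q12087 L358383 q10077, e3 q12088 (flp_f L358387) q10076, e3 q12089 (flp_f L657077) q14264, e3 q12090 (flp_f L657060) q14263, e3 q12091 L358417 q10079, e3 q12092 L358426 q10080, e3 q12093 (flp_f L657112) q14267, e3 q12094 L637404 q10974, e3 q12095 (flp_f L657127) q14268, trivial⟩ (by decide +kernel)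

theorem ce_f_189 : ∀ r, r < 64 → sm gf (Qf (12096 + r)) = Qf (tab Gen.f (12096 + r)) :=
  edges_tab (sm gf) Qf (tab Gen.f) 12096 [(12096, 10920), (12097, 10921), (12098, 12098), (12099, 10214), (12100, 10087), (12101, 10089), (12102, 10972), (12103, 13932), (12104, 10975), (12105, 10130), (12106, 10138), (12107, 10923), (12108, 10898), (12109, 14227), (12110, 10917), (12111, 12111), (12112, 12112), (12113, 10096), (12114, 14222), (12115, 10924), (12116, 10098), (12117, 14290), (12118, 14291), (12119, 10928), (12120, 10929), (12121, 12121), (12122, 12122), (12123, 12123), (12124, 13864), (12125, 10104), (12126, 14302), (12127, 10106), (12128, 10107), (12129, 13930), (12130, 14277), (12131, 14304), (12132, 10937), (12133, 10938), (12134, 12134), (12135, 10112), (12136, 14311), (12137, 14312), (12138, 10941), (12139, 10942), (12140, 10115), (12141, 10116), (12142, 13923), (12143, 14320), (12144, 14321), (12145, 10948), (12146, 14330), (12147, 10950), (12148, 12148), (12149, 14308), (12150, 12150), (12151, 10122), (12152, 14336),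 (12153, 10126), (12154, 12154), (12155, 10125), (12156, 14340), (12157, 10275), (12158, 10131), (12159, 13931)]
    ⟨e3 q12096 L358459 q10920, e3 q12097 L358470 q10921, e3 q12098 L358478 q12098, e3 q12099 L358492 q10214, e3 q12100 L358500 q10087, e3 q12101 L358516 q10089, e3 q12102 L637360 q10972, e3 q12103 (flp_f L653153) q13932, e3 q12104 L637355 q10975, e3 q12105 L637501 q10130, e3 q12106 L637486 q10138, e3 q12107 L358573 q10923, e3 q12108 L611919 q10898, e3 q12109 (flp_f L656670) q14227, e3 q12110 (flp_f L553483) q10917, e3 q12111 L358613 q12111, e3 q12112 L358621 q12112, e3 q12113 L358638 q10096, e3 q12114 (flp_f L656607) q14222, e3 q12115 L358683 q10924, e3 q12116 (flp_f L358687) q10098, e3 q12117 (flp_f L657386) q14290, e3 q12118 (flp_f L657395) q14291, e3 q12119 L358720 q10928, e3 q12120 L358732 q10929, e3 q12121 L358742 q12121, e3 q12122 L358751 q12122, e3 q12123 L358762 q12123, e3 q12124 (flp_f L652209) q13864, e3 q12125 L358780 q10104, e3 q12126 (flp_f L657512) q14302, e3 q12127 L358822 q10106, e3 q12128 L358830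 q10107, e3 q12129 (flp_f L653129) q13930, e3 q12130 (flp_f L657235) q14277, e3 q12131 (flp_f L657534) q14304, e3 q12132 L358868 q10937, e3 q12133 L358881 q10938, e3 q12134 L358891 q12134, e3 q12135 (flp_f L358896) q10112, e3 q12136 (flp_f L657613) q14311, e3 q12137 (flp_f L657626) q14312, e3 q12138 L358919 q10941, e3 q12139 L358929 q10942, e3 q12140 L358938 q10115, e3 q12141 L358945 q10116, e3 q12142 (flp_f L653027) q13923, e3 q12143 (flp_f L657689) q14320, e3 q12144 (flp_f L657698) q14321, e3 q12145 L358973 q10948, e3 q12146 L657781 q14330, e3 q12147 L358989 q10950, e3 q12148 L359006 q12148, e3 q12149 (flp_f L657576) q14308, e3 q12150 L359022 q12150, e3 q12151 (flp_f L359025) q10122, e3 q12152 (flp_f L657836) q14336, e3 q12153 L359043 q10126, e3 q12154 L359054 q12154, e3 q12155 L359060 q10125, e3 q12156 (flp_f L657874) q14340, e3 q12157 L359079 q10275, e3 q12158 L359106 q10131, e3 q12159 (flp_f L653143) q13931, trivial⟩ (by decide +kernel)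

theorem ce_f_190 : ∀ r, r < 64 → sm gf (Qf (12160 + r)) = Qf (tab Gen.f (12160 + r)) :=
  edges_tab (sm gf) Qf (tab Gen.f) 12160 [(12160, 14272), (12161, 14278), (12162, 10965), (12163, 10966), (12164, 10967), (12165, 14279), (12166, 10977), (12167, 10978), (12168, 10979), (12169, 14216), (12170, 14217), (12171, 10302), (12172, 10145), (12173, 10146), (12174, 14351), (12175, 10311), (12176, 12176), (12177, 12177), (12178, 10306), (12179, 10307), (12180, 12180), (12181, 10312), (12182, 10313), (12183, 14359), (12184, 10157), (12185, 10156), (12186, 14362), (12187, 14361), (12188, 10159), (12189, 14364), (12190, 14365), (12191, 12191), (12192, 12192), (12193, 10322), (12194, 10166), (12195, 10167), (12196, 10168), (12197, 14371), (12198, 14372), (12199, 14373), (12200, 14375), (12201, 12201), (12202, 12202), (12203, 12203), (12204, 10926), (12205, 14386), (12206, 10700), (12207, 10334), (12208, 10335), (12209, 10175), (12210, 14393), (12211, 10982), (12212, 10177), (12213, 14398), (12214, 14399), (12215, 10986), (12216, 10987),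 (12217, 10342), (12218, 10343), (12219, 10344), (12220, 13940), (12221, 10183), (12222, 14410), (12223, 10185)]
    ⟨e3 q12160 (flp_f L657174) q14272, e3 q12161 (flp_f L657249) q14278, e3 q12162 L359148 q10965, e3 q12163 L359160 q10966, e3 q12164 L359169 q10967, e3 q12165 (flp_f L657260) q14279, e3 q12166 L359268 q10977, e3 q12167 L359279 q10978, e3 q12168 L359289 q10979, e3 q12169 (flp_f L656521) q14216, e3 q12170 (flp_f L656540) q14217, e3 q12171 L359380 q10302, e3 q12172 L359388 q10145, e3 q12173 L359399 q10146, e3 q12174 (flp_f L658024) q14351, e3 q12175 L614317 q10311, e3 q12176 L359455 q12176, e3 q12177 L359466 q12177, e3 q12178 L359473 q10306, e3 q12179 L359486 q10307, e3 q12180 L359542 q12180, e3 q12181 L359556 q10312, e3 q12182 L359568 q10313, e3 q12183 L658121 q14359, e3 q12184 L359586 q10157, e3 q12185 (flp_f L359588) q10156, e3 q12186 (flp_f L658159) q14362, e3 q12187 (flp_f L658147) q14361, e3 q12188 L359630 q10159, e3 q12189 (flp_f L658181) q14364, e3 q12190 (flp_f L658201) q14365, e3 q12191 L359663 q12191,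 e3 q12192 L359673 q12192, e3 q12193 L359680 q10322, e3 q12194 L359700 q10166, e3 q12195 L359707 q10167, e3 q12196 L359717 q10168, e3 q12197 (flp_f L658261) q14371, e3 q12198 (flp_f L658280) q14372, e3 q12199 (flp_f L658290) q14373, e3 q12200 (flp_f L658319) q14375, e3 q12201 L359761 q12201, e3 q12202 L359771 q12202, e3 q12203 L359777 q12203, e3 q12204 L617585 q10926, e3 q12205 L658424 q14386, e3 q12206 L554653 q10700, e3 q12207 L359813 q10334, e3 q12208 L359822 q10335, e3 q12209 L359838 q10175, e3 q12210 L658506 q14393, e3 q12211 L359881 q10982, e3 q12212 (flp_f L359883) q10177, e3 q12213 (flp_f L658565) q14398, e3 q12214 (flp_f L658577) q14399, e3 q12215 L359919 q10986, e3 q12216 L359929 q10987, e3 q12217 L359939 q10342, e3 q12218 L359947 q10343, e3 q12219 L359958 q10344, e3 q12220 (flp_f L653278) q13940, e3 q12221 L359975 q10183, e3 q12222 (flp_f L658674) q14410, e3 q12223 L360011 q10185, trivial⟩ (by decide +kernel)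

theorem ce_f_191 : ∀ r, r < 64 → sm gf (Qf (12224 + r)) = Qf (tab Gen.f (12224 + r)) :=
  edges_tab (sm gf) Qf (tab Gen.f) 12224 [(12224, 10186), (12225, 14412), (12226, 14413), (12227, 14414), (12228, 10995), (12229, 10996), (12230, 10352), (12231, 10191), (12232, 14422), (12233, 14423), (12234, 11000), (12235, 11001), (12236, 10194), (12237, 10195), (12238, 14431), (12239, 14432), (12240, 14433), (12241, 11007), (12242, 14442), (12243, 11009), (12244, 10366), (12245, 10367), (12246, 14446), (12247, 10369), (12248, 10201), (12249, 14450), (12250, 10205), (12251, 10373), (12252, 10204), (12253, 14453), (12254, 14266), (12255, 10208), (12256, 10209), (12257, 10210), (12258, 14455), (12259, 14456), (12260, 14457), (12261, 14459), (12262, 11022), (12263, 11023), (12264, 11024), (12265, 10745), (12266, 10218), (12267, 10219), (12268, 10220), (12269, 14374), (12270, 10221), (12271, 11101), (12272, 14469), (12273, 14470), (12274, 14472), (12275, 14474), (12276, 11029), (12277, 11030), (12278, 11031), (12279, 10903), (12280, 14485),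 (12281, 11032), (12282, 10226), (12283, 14490), (12284, 14491), (12285, 11008), (12286, 11014), (12287, 10407)]
    ⟨e3 q12224 L360022 q10186, e3 q12225 (flp_f L658698) q14412, e3 q12226 (flp_f L658707) q14413, e3 q12227 (flp_f L658721) q14414, e3 q12228 L360058 q10995, e3 q12229 L360068 q10996, e3 q12230 L360075 q10352, e3 q12231 (flp_f L360081) q10191, e3 q12232 (flp_f L658801) q14422, e3 q12233 (flp_f L658808) q14423, e3 q12234 L360106 q11000, e3 q12235 L360114 q11001, e3 q12236 L360124 q10194, e3 q12237 L360134 q10195, e3 q12238 (flp_f L658870) q14431, e3 q12239 (flp_f L658876) q14432, e3 q12240 (flp_f L658886) q14433, e3 q12241 L360162 q11007, e3 q12242 L658942 q14442, e3 q12243 L360174 q11009, e3 q12244 L360178 q10366, e3 q12245 L360187 q10367, e3 q12246 L658970 q14446, e3 q12247 L360202 q10369, e3 q12248 (flp_f L360206) q10201, e3 q12249 (flp_f L659009) q14450, e3 q12250 L360217 q10205, e3 q12251 L360227 q10373, e3 q12252 L360233 q10204, e3 q12253 (flp_f L659036) q14453, e3 q12254 (flp_f L657101) q14266, e3 q12255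 L360259 q10208, e3 q12256 L360267 q10209, e3 q12257 L360278 q10210, e3 q12258 (flp_f L659057) q14455, e3 q12259 (flp_f L659070) q14456, e3 q12260 (flp_f L659078) q14457, e3 q12261 (flp_f L659102) q14459, e3 q12262 L360316 q11022, e3 q12263 L360325 q11023, e3 q12264 L360331 q11024, e3 q12265 L641013 q10745, e3 q12266 L360348 q10218, e3 q12267 L360358 q10219, e3 q12268 L360367 q10220, e3 q12269 (flp_f L658312) q14374, e3 q12270 L360385 q10221, e3 q12271 L649152 q11101, e3 q12272 (flp_f L659196) q14469, e3 q12273 (flp_f L659206) q14470, e3 q12274 (flp_f L659234) q14472, e3 q12275 (flp_f L659252) q14474, e3 q12276 L360424 q11029, e3 q12277 L360432 q11030, e3 q12278 L360439 q11031, e3 q12279 L617640 q10903, e3 q12280 L659366 q14485, e3 q12281 L360461 q11032, e3 q12282 (flp_f L360463) q10226, e3 q12283 (flp_f L659430) q14490, e3 q12284 (flp_f L659439) q14491, e3 q12285 L553474 q11008, e3 q12286 (flp_f L576405) q11014, e3 q12287 L360508 q10407, trivial⟩ (by decide +kernel)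

theorem ce_f_192 : ∀ r, r < 64 → sm gf (Qf (12288 + r)) = Qf (tab Gen.f (12288 + r)) :=
  edges_tab (sm gf) Qf (tab Gen.f) 12288 [(12288, 10408), (12289, 10231), (12290, 14499), (12291, 14500), (12292, 11036), (12293, 11037), (12294, 10234), (12295, 10235), (12296, 14508), (12297, 14509), (12298, 14510), (12299, 11043), (12300, 13907), (12301, 11044), (12302, 10422), (12303, 10423), (12304, 14523), (12305, 10425), (12306, 13913), (12307, 10243), (12308, 14303), (12309, 10246), (12310, 10247), (12311, 10248), (12312, 14528), (12313, 14529), (12314, 14530), (12315, 14532), (12316, 11054), (12317, 11055), (12318, 11056), (12319, 12319), (12320, 10253), (12321, 10254), (12322, 14544), (12323, 14545), (12324, 14546), (12325, 11062), (12326, 14555), (12327, 11064), (12328, 14319), (12329, 10259), (12330, 10260), (12331, 10261), (12332, 14559), (12333, 14560), (12334, 14561), (12335, 14570), (12336, 14563), (12337, 11074), (12338, 14576), (12339, 11076), (12340, 10263), (12341, 14580), (12342, 11079), (12343, 14582), (12344, 10463),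 (12345, 10267), (12346, 14586), (12347, 10466), (12348, 14585), (12349, 10270), (12350, 14590), (12351, 10470)]
    ⟨e3 q12288 L360526 q10408, e3 q12289 (flp_f L360590) q10231, e3 q12290 (flp_f L659524) q14499, e3 q12291 (flp_f L659531) q14500, e3 q12292 L360619 q11036, e3 q12293 L360629 q11037, e3 q12294 L360639 q10234, e3 q12295 L360649 q10235, e3 q12296 (flp_f L659601) q14508, e3 q12297 (flp_f L659609) q14509, e3 q12298 (flp_f L659621) q14510, e3 q12299 L360683 q11043, e3 q12300 (flp_f L652813) q13907, e3 q12301 L360699 q11044, e3 q12302 L360705 q10422, e3 q12303 L360717 q10423, e3 q12304 L659729 q14523, e3 q12305 L360736 q10425, e3 q12306 (flp_f L652885) q13913, e3 q12307 L360760 q10243, e3 q12308 (flp_f L657524) q14303, e3 q12309 L360809 q10246, e3 q12310 L360818 q10247, e3 q12311 L360830 q10248, e3 q12312 (flp_f L659780) q14528, e3 q12313 (flp_f L659792) q14529, e3 q12314 (flp_f L659800) q14530, e3 q12315 (flp_f L659823) q14532, e3 q12316 L360873 q11054, e3 q12317 L360884 q11055, e3 q12318 L360892 q11056, e3 q12319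 L360902 q12319, e3 q12320 L360908 q10253, e3 q12321 L360913 q10254, e3 q12322 (flp_f L659939) q14544, e3 q12323 (flp_f L659945) q14545, e3 q12324 (flp_f L659954) q14546, e3 q12325 L360937 q11062, e3 q12326 L660020 q14555, e3 q12327 L360951 q11064, e3 q12328 (flp_f L657683) q14319, e3 q12329 L360967 q10259, e3 q12330 L360973 q10260, e3 q12331 L360983 q10261, e3 q12332 (flp_f L660050) q14559, e3 q12333 (flp_f L660060) q14560, e3 q12334 (flp_f L660066) q14561, e3 q12335 L660137 q14570, e3 q12336 (flp_f L660082) q14563, e3 q12337 L361021 q11074, e3 q12338 L660184 q14576, e3 q12339 L361034 q11076, e3 q12340 (flp_f L361036) q10263, e3 q12341 (flp_f L660216) q14580, e3 q12342 L361050 q11079, e3 q12343 L660222 q14582, e3 q12344 L361063 q10463, e3 q12345 (flp_f L361067) q10267, e3 q12346 (flp_f L660268) q14586, e3 q12347 L361083 q10466, e3 q12348 (flp_f L660261) q14585, e3 q12349 L361099 q10270, e3 q12350 (flp_f L660296) q14590, e3 q12351 L361112 q10470, trivial⟩ (by decide +kernel)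

theorem ce_f_193 : ∀ r, r < 64 → sm gf (Qf (12352 + r)) = Qf (tab Gen.f (12352 + r)) :=
  edges_tab (sm gf) Qf (tab Gen.f) 12352 [(12352, 10471), (12353, 10274), (12354, 13928), (12355, 10279), (12356, 10280), (12357, 10281), (12358, 12358), (12359, 10282), (12360, 14595), (12361, 14597), (12362, 14598), (12363, 14600), (12364, 14602), (12365, 11098), (12366, 11099), (12367, 11100), (12368, 13929), (12369, 12369), (12370, 10292), (12371, 10293), (12372, 12372), (12373, 10294), (12374, 12374), (12375, 10295), (12376, 14612), (12377, 14613), (12378, 14615), (12379, 14617), (12380, 11117), (12381, 11118), (12382, 11119), (12383, 10300), (12384, 10301), (12385, 14623), (12386, 14349), (12387, 14350), (12388, 11338), (12389, 10305), (12390, 14628), (12391, 14356), (12392, 11654), (12393, 11337), (12394, 12394), (12395, 14353), (12396, 14354), (12397, 14631), (12398, 14358), (12399, 10314), (12400, 14635), (12401, 10318), (12402, 11490), (12403, 10317), (12404, 14638), (12405, 10321), (12406, 11655), (12407, 10327), (12408, 10390),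 (12409, 10329), (12410, 11657), (12411, 11659), (12412, 12412), (12413, 10332), (12414, 14641), (12415, 14642)]
    ⟨e3 q12352 L361120 q10471, e3 q12353 L361127 q10274, e3 q12354 (flp_f L653100) q13928, e3 q12355 L361151 q10279, e3 q12356 L361162 q10280, e3 q12357 L361168 q10281, e3 q12358 L361182 q12358, e3 q12359 L361189 q10282, e3 q12360 (flp_f L660339) q14595, e3 q12361 (flp_f L660362) q14597, e3 q12362 (flp_f L660368) q14598, e3 q12363 (flp_f L660389) q14600, e3 q12364 (flp_f L660408) q14602, e3 q12365 L361236 q11098, e3 q12366 L361246 q11099, e3 q12367 L361253 q11100, e3 q12368 (flp_f L653116) q13929, e3 q12369 L361289 q12369, e3 q12370 L361295 q10292, e3 q12371 L361301 q10293, e3 q12372 L361314 q12372, e3 q12373 L361320 q10294, e3 q12374 L361331 q12374, e3 q12375 L361337 q10295, e3 q12376 (flp_f L660504) q14612, e3 q12377 (flp_f L660513) q14613, e3 q12378 (flp_f L660539) q14615, e3 q12379 (flp_f L660564) q14617, e3 q12380 L361392 q11117, e3 q12381 L361399 q11118, e3 q12382 L361405 q11119, e3 q12383 L361458 q10300,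 e3 q12384 L361468 q10301, e3 q12385 (flp_f L660641) q14623, e3 q12386 (flp_f L657988) q14349, e3 q12387 (flp_f L658009) q14350, e3 q12388 L648201 q11338, e3 q12389 L361603 q10305, e3 q12390 (flp_f L660698) q14628, e3 q12391 (flp_f L658089) q14356, e3 q12392 L648815 q11654, e3 q12393 L533220 q11337, e3 q12394 L361816 q12394, e3 q12395 (flp_f L658041) q14353, e3 q12396 (flp_f L658061) q14354, e3 q12397 L660733 q14631, e3 q12398 (flp_f L658117) q14358, e3 q12399 (flp_f L361853) q10314, e3 q12400 (flp_f L660790) q14635, e3 q12401 L361875 q10318, e3 q12402 (flp_f L649403) q11490, e3 q12403 L361893 q10317, e3 q12404 (flp_f L660821) q14638, e3 q12405 L361935 q10321, e3 q12406 (flp_f L648909) q11655, e3 q12407 L362028 q10327, e3 q12408 L362048 q10390, e3 q12409 L362055 q10329, e3 q12410 (flp_f L648863) q11657, e3 q12411 (flp_f L648889) q11659, e3 q12412 L362125 q12412, e3 q12413 (flp_f L362166) q10332, e3 q12414 (flp_f L660857) q14641, e3 q12415 (flp_f L660868) q14642, trivial⟩ (by decide +kernel)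

theorem ce_f_194 : ∀ r, r < 64 → sm gf (Qf (12416 + r)) = Qf (tab Gen.f (12416 + r)) :=
  edges_tab (sm gf) Qf (tab Gen.f) 12416 [(12416, 10813), (12417, 10819), (12418, 14391), (12419, 14392), (12420, 10338), (12421, 10339), (12422, 14650), (12423, 14651), (12424, 14652), (12425, 14067), (12426, 11127), (12427, 14366), (12428, 14406), (12429, 14661), (12430, 14408), (12431, 14073), (12432, 10347), (12433, 12433), (12434, 10350), (12435, 10351), (12436, 14666), (12437, 12437), (12438, 10354), (12439, 10355), (12440, 14670), (12441, 14671), (12442, 14672), (12443, 14066), (12444, 11140), (12445, 12445), (12446, 10360), (12447, 10361), (12448, 10362), (12449, 14680), (12450, 14681), (12451, 14682), (12452, 14691), (12453, 14684), (12454, 11150), (12455, 14059), (12456, 11152), (12457, 10364), (12458, 14698), (12459, 11154), (12460, 14700), (12461, 14445), (12462, 10368), (12463, 14704), (12464, 14448), (12465, 14703), (12466, 10371), (12467, 14708), (12468, 11475), (12469, 14452), (12470, 10375), (12471, 12471), (12472, 10380),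 (12473, 10381), (12474, 10382), (12475, 11646), (12476, 10383), (12477, 14714), (12478, 14716), (12479, 14717)]
    ⟨e3 q12416 L554313 q10813, e3 q12417 L554450 q10819, e3 q12418 (flp_f L658489) q14391, e3 q12419 (flp_f L658500) q14392, e3 q12420 L362356 q10338, e3 q12421 L362366 q10339, e3 q12422 (flp_f L660963) q14650, e3 q12423 (flp_f L660971) q14651, e3 q12424 (flp_f L660985) q14652, e3 q12425 (flp_f L654869) q14067, e3 q12426 L362421 q11127, e3 q12427 (flp_f L658213) q14366, e3 q12428 (flp_f L658637) q14406, e3 q12429 L661080 q14661, e3 q12430 (flp_f L658660) q14408, e3 q12431 (flp_f L654953) q14073, e3 q12432 L362477 q10347, e3 q12433 L362516 q12433, e3 q12434 L362524 q10350, e3 q12435 L362544 q10351, e3 q12436 (flp_f L661129) q14666, e3 q12437 L362626 q12437, e3 q12438 L362633 q10354, e3 q12439 L362641 q10355, e3 q12440 (flp_f L661176) q14670, e3 q12441 (flp_f L661184) q14671, e3 q12442 (flp_f L661198) q14672, e3 q12443 (flp_f L654846) q14066, e3 q12444 L362687 q11140, e3 q12445 L362696 q12445, e3 q12446 L362703 q10360,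 e3 q12447 L362709 q10361, e3 q12448 L362717 q10362, e3 q12449 (flp_f L661282) q14680, e3 q12450 (flp_f L661290) q14681, e3 q12451 (flp_f L661300) q14682, e3 q12452 L661391 q14691, e3 q12453 (flp_f L661316) q14684, e3 q12454 L362761 q11150, e3 q12455 (flp_f L654764) q14059, e3 q12456 L362775 q11152, e3 q12457 (flp_f L362778) q10364, e3 q12458 (flp_f L661464) q14698, e3 q12459 L362794 q11154, e3 q12460 L661472 q14700, e3 q12461 (flp_f L658966) q14445, e3 q12462 (flp_f L362812) q10368, e3 q12463 (flp_f L661505) q14704, e3 q12464 (flp_f L658983) q14448, e3 q12465 (flp_f L661501) q14703, e3 q12466 L362837 q10371, e3 q12467 (flp_f L661540) q14708, e3 q12468 L649379 q11475, e3 q12469 (flp_f L659026) q14452, e3 q12470 L362860 q10375, e3 q12471 L362876 q12471, e3 q12472 L362885 q10380, e3 q12473 L362895 q10381, e3 q12474 L362903 q10382, e3 q12475 L561794 q11646, e3 q12476 L362923 q10383, e3 q12477 (flp_f L661602) q14714, e3 q12478 (flp_f L661636) q14716, e3 q12479 (flp_f L661644) q14717, trivial⟩ (by decide +kernel)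

theorem ce_f_195 : ∀ r, r < 64 → sm gf (Qf (12480 + r)) = Qf (tab Gen.f (12480 + r)) :=
  edges_tab (sm gf) Qf (tab Gen.f) 12480 [(12480, 14719), (12481, 11170), (12482, 12482), (12483, 12483), (12484, 10392), (12485, 10529), (12486, 10393), (12487, 10394), (12488, 10527), (12489, 10395), (12490, 14640), (12491, 10396), (12492, 14724), (12493, 14726), (12494, 14727), (12495, 14725), (12496, 11187), (12497, 11188), (12498, 11189), (12499, 10400), (12500, 14731), (12501, 14732), (12502, 11139), (12503, 11193), (12504, 10403), (12505, 10404), (12506, 14738), (12507, 14739), (12508, 14740), (12509, 11151), (12510, 11153), (12511, 14497), (12512, 12512), (12513, 10410), (12514, 10411), (12515, 14750), (12516, 14751), (12517, 14752), (12518, 14005), (12519, 11201), (12520, 12520), (12521, 10416), (12522, 10417), (12523, 10418), (12524, 14760), (12525, 14761), (12526, 14762), (12527, 14771), (12528, 14764), (12529, 11210), (12530, 14017), (12531, 11211), (12532, 14019), (12533, 11212), (12534, 14778), (12535, 14522), (12536, 10424),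 (12537, 14781), (12538, 14525), (12539, 14026), (12540, 12540), (12541, 10432), (12542, 10433), (12543, 10434)]
    ⟨e3 q12480 (flp_f L661680) q14719, e3 q12481 L362982 q11170, e3 q12482 L362997 q12482, e3 q12483 L363007 q12483, e3 q12484 L363017 q10392, e3 q12485 L615558 q10529, e3 q12486 L363035 q10393, e3 q12487 L363041 q10394, e3 q12488 L615923 q10527, e3 q12489 L363061 q10395, e3 q12490 (flp_f L660841) q14640, e3 q12491 L363075 q10396, e3 q12492 (flp_f L661756) q14724, e3 q12493 (flp_f L661788) q14726, e3 q12494 (flp_f L661806) q14727, e3 q12495 (flp_f L661771) q14725, e3 q12496 L363135 q11187, e3 q12497 L363142 q11188, e3 q12498 L363150 q11189, e3 q12499 (flp_f L363175) q10400, e3 q12500 (flp_f L661864) q14731, e3 q12501 (flp_f L661876) q14732, e3 q12502 L547301 q11139, e3 q12503 L363212 q11193, e3 q12504 L363220 q10403, e3 q12505 L363227 q10404, e3 q12506 (flp_f L661933) q14738, e3 q12507 (flp_f L661941) q14739, e3 q12508 (flp_f L661950) q14740, e3 q12509 L534611 q11151, e3 q12510 (flp_f L547359) q11153, e3 q12511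 (flp_f L659497) q14497, e3 q12512 L363416 q12512, e3 q12513 L363425 q10410, e3 q12514 L363433 q10411, e3 q12515 (flp_f L662048) q14750, e3 q12516 (flp_f L662056) q14751, e3 q12517 (flp_f L662070) q14752, e3 q12518 (flp_f L654119) q14005, e3 q12519 L363489 q11201, e3 q12520 L363498 q12520, e3 q12521 L363507 q10416, e3 q12522 L363515 q10417, e3 q12523 L363525 q10418, e3 q12524 (flp_f L662158) q14760, e3 q12525 (flp_f L662168) q14761, e3 q12526 (flp_f L662176) q14762, e3 q12527 L662262 q14771, e3 q12528 (flp_f L662196) q14764, e3 q12529 L363575 q11210, e3 q12530 (flp_f L654260) q14017, e3 q12531 L363594 q11211, e3 q12532 (flp_f L654283) q14019, e3 q12533 L363619 q11212, e3 q12534 L662323 q14778, e3 q12535 (flp_f L659723) q14522, e3 q12536 (flp_f L363641) q10424, e3 q12537 (flp_f L662355) q14781, e3 q12538 (flp_f L659751) q14525, e3 q12539 (flp_f L654362) q14026, e3 q12540 L363731 q12540, e3 q12541 L363741 q10432, e3 q12542 L363752 q10433, e3 q12543 L363760 q10434, trivial⟩ (by decide +kernel)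

theorem ce_f_196 : ∀ r, r < 64 → sm gf (Qf (12544 + r)) = Qf (tab Gen.f (12544 + r)) :=
  edges_tab (sm gf) Qf (tab Gen.f) 12544 [(12544, 12544), (12545, 10435), (12546, 14786), (12547, 14788), (12548, 14789), (12549, 14791), (12550, 11223), (12551, 11224), (12552, 12552), (12553, 12553), (12554, 12554), (12555, 10441), (12556, 10442), (12557, 10443), (12558, 14802), (12559, 14803), (12560, 14804), (12561, 14813), (12562, 14806), (12563, 11236), (12564, 14817), (12565, 11238), (12566, 10445), (12567, 14821), (12568, 11241), (12569, 12569), (12570, 10451), (12571, 10452), (12572, 10453), (12573, 14831), (12574, 10455), (12575, 14825), (12576, 14837), (12577, 14827), (12578, 14828), (12579, 14843), (12580, 14830), (12581, 10454), (12582, 14847), (12583, 14833), (12584, 11257), (12585, 14850), (12586, 11259), (12587, 10457), (12588, 14854), (12589, 11262), (12590, 14846), (12591, 10460), (12592, 14859), (12593, 10462), (12594, 14862), (12595, 14584), (12596, 10467), (12597, 10465), (12598, 14866), (12599, 14864), (12600, 14865),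 (12601, 10469), (12602, 14870), (12603, 14592), (12604, 14593), (12605, 12605), (12606, 12606), (12607, 10479)]
    ⟨e3 q12544 L363775 q12544, e3 q12545 L363783 q10435, e3 q12546 (flp_f L662399) q14786, e3 q12547 (flp_f L662424) q14788, e3 q12548 (flp_f L662432) q14789, e3 q12549 (flp_f L662458) q14791, e3 q12550 L363839 q11223, e3 q12551 L363852 q11224, e3 q12552 L363873 q12552, e3 q12553 L363880 q12553, e3 q12554 L363889 q12554, e3 q12555 L363896 q10441, e3 q12556 L363902 q10442, e3 q12557 L363912 q10443, e3 q12558 (flp_f L662577) q14802, e3 q12559 (flp_f L662587) q14803, e3 q12560 (flp_f L662595) q14804, e3 q12561 L662673 q14813, e3 q12562 (flp_f L662613) q14806, e3 q12563 L363956 q11236, e3 q12564 L662700 q14817, e3 q12565 L363974 q11238, e3 q12566 (flp_f L363977) q10445, e3 q12567 (flp_f L662751) q14821, e3 q12568 L363993 q11241, e3 q12569 L364002 q12569, e3 q12570 L364009 q10451, e3 q12571 L364017 q10452, e3 q12572 L364023 q10453, e3 q12573 L662821 q14831, e3 q12574 L364037 q10455, e3 q12575 (flp_f L662779) q14825,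 e3 q12576 L662861 q14837, e3 q12577 (flp_f L662793) q14827, e3 q12578 (flp_f L662801) q14828, e3 q12579 L662902 q14843, e3 q12580 (flp_f L662817) q14830, e3 q12581 (flp_f L364083) q10454, e3 q12582 (flp_f L662932) q14847, e3 q12583 (flp_f L662833) q14833, e3 q12584 L364103 q11257, e3 q12585 L662949 q14850, e3 q12586 L364118 q11259, e3 q12587 (flp_f L364121) q10457, e3 q12588 (flp_f L662992) q14854, e3 q12589 L364141 q11262, e3 q12590 (flp_f L662926) q14846, e3 q12591 L364156 q10460, e3 q12592 (flp_f L663034) q14859, e3 q12593 (flp_f L364164) q10462, e3 q12594 (flp_f L663050) q14862, e3 q12595 (flp_f L660248) q14584, e3 q12596 L364189 q10467, e3 q12597 L364194 q10465, e3 q12598 (flp_f L663079) q14866, e3 q12599 (flp_f L663066) q14864, e3 q12600 (flp_f L663072) q14865, e3 q12601 L364223 q10469, e3 q12602 (flp_f L663105) q14870, e3 q12603 (flp_f L660307) q14592, e3 q12604 (flp_f L660318) q14593, e3 q12605 L364264 q12605, e3 q12606 L364275 q12606, e3 q12607 L364282 q10479, trivial⟩ (by decide +kernel)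

theorem ce_f_197 : ∀ r, r < 64 → sm gf (Qf (12608 + r)) = Qf (tab Gen.f (12608 + r)) :=
  edges_tab (sm gf) Qf (tab Gen.f) 12608 [(12608, 12608), (12609, 10480), (12610, 10481), (12611, 12611), (12612, 10482), (12613, 12613), (12614, 10483), (12615, 14876), (12616, 14878), (12617, 14880), (12618, 14881), (12619, 14883), (12620, 14886), (12621, 11289), (12622, 11290), (12623, 11291), (12624, 12624), (12625, 10596), (12626, 12626), (12627, 10497), (12628, 12628), (12629, 10498), (12630, 12630), (12631, 10499), (12632, 10500), (12633, 12633), (12634, 10501), (12635, 12635), (12636, 12636), (12637, 10502), (12638, 12638), (12639, 14901), (12640, 14903), (12641, 14899), (12642, 14905), (12643, 14908), (12644, 14910), (12645, 11306), (12646, 11307), (12647, 13811), (12648, 12648), (12649, 12649), (12650, 12650), (12651, 10511), (12652, 10512), (12653, 14923), (12654, 12654), (12655, 10518), (12656, 10528), (12657, 10519), (12658, 11191), (12659, 14715), (12660, 14468), (12661, 12661), (12662, 12662), (12663, 12663), (12664, 10536),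 (12665, 10537), (12666, 14927), (12667, 12667), (12668, 10543), (12669, 12669), (12670, 10544), (12671, 12671)]
    ⟨e3 q12608 L364296 q12608, e3 q12609 L364303 q10480, e3 q12610 L364309 q10481, e3 q12611 L364325 q12611, e3 q12612 L364330 q10482, e3 q12613 L364340 q12613, e3 q12614 L364347 q10483, e3 q12615 (flp_f L663159) q14876, e3 q12616 (flp_f L663180) q14878, e3 q12617 (flp_f L663199) q14880, e3 q12618 (flp_f L663211) q14881, e3 q12619 (flp_f L663234) q14883, e3 q12620 (flp_f L663258) q14886, e3 q12621 L364415 q11289, e3 q12622 L364425 q11290, e3 q12623 L364432 q11291, e3 q12624 L364440 q12624, e3 q12625 L647117 q10596, e3 q12626 L364461 q12626, e3 q12627 L364468 q10497, e3 q12628 L364483 q12628, e3 q12629 L364489 q10498, e3 q12630 L364498 q12630, e3 q12631 L364504 q10499, e3 q12632 L364512 q10500, e3 q12633 L364527 q12633, e3 q12634 L364532 q10501, e3 q12635 L364539 q12635, e3 q12636 L364549 q12636, e3 q12637 L364557 q10502, e3 q12638 L364568 q12638, e3 q12639 (flp_f L663434) q14901, e3 q12640 (flp_f L663464) q14903,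 e3 q12641 (flp_f L663408) q14899, e3 q12642 (flp_f L663487) q14905, e3 q12643 (flp_f L663523) q14908, e3 q12644 (flp_f L663548) q14910, e3 q12645 L364631 q11306, e3 q12646 L364640 q11307, e3 q12647 (flp_f L651466) q13811, e3 q12648 L367127 q12648, e3 q12649 L367135 q12649, e3 q12650 L367145 q12650, e3 q12651 L367151 q10511, e3 q12652 L367167 q10512, e3 q12653 (flp_f L663685) q14923, e3 q12654 L367542 q12654, e3 q12655 L367561 q10518, e3 q12656 (flp_f L616253) q10528, e3 q12657 L367584 q10519, e3 q12658 L614643 q11191, e3 q12659 (flp_f L661626) q14715, e3 q12660 (flp_f L659187) q14468, e3 q12661 L368257 q12661, e3 q12662 L368264 q12662, e3 q12663 L368273 q12663, e3 q12664 L368280 q10536, e3 q12665 L368298 q10537, e3 q12666 (flp_f L663741) q14927, e3 q12667 L368634 q12667, e3 q12668 L368654 q10543, e3 q12669 L368666 q12669, e3 q12670 L368680 q10544, e3 q12671 L368693 q12671, trivial⟩ (by decide +kernel)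

theorem ce_f_198 : ∀ r, r < 64 → sm gf (Qf (12672 + r)) = Qf (tab Gen.f (12672 + r)) :=
  edges_tab (sm gf) Qf (tab Gen.f) 12672 [(12672, 14931), (12673, 11331), (12674, 12674), (12675, 12675), (12676, 12676), (12677, 12677), (12678, 10552), (12679, 10553), (12680, 10554), (12681, 11301), (12682, 10555), (12683, 14941), (12684, 14942), (12685, 14943), (12686, 14945), (12687, 11364), (12688, 11365), (12689, 12689), (12690, 10562), (12691, 10563), (12692, 11380), (12693, 14953), (12694, 14954), (12695, 12695), (12696, 10595), (12697, 12697), (12698, 10575), (12699, 12699), (12700, 10576), (12701, 12701), (12702, 10577), (12703, 10578), (12704, 12704), (12705, 10579), (12706, 12706), (12707, 12707), (12708, 10580), (12709, 12709), (12710, 14960), (12711, 14958), (12712, 14962), (12713, 14963), (12714, 14964), (12715, 14968), (12716, 11385), (12717, 11386), (12718, 14004), (12719, 10594), (12720, 10597), (12721, 10598), (12722, 10599), (12723, 12723), (12724, 14929), (12725, 14874), (12726, 14471), (12727, 14976), (12728, 14977),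 (12729, 14376), (12730, 13846), (12731, 10608), (12732, 11444), (12733, 10618), (12734, 10616), (12735, 10617)]
    ⟨e3 q12672 (flp_f L663796) q14931, e3 q12673 L615795 q11331, e3 q12674 L368815 q12674, e3 q12675 L368821 q12675, e3 q12676 L368830 q12676, e3 q12677 L368836 q12677, e3 q12678 L368844 q10552, e3 q12679 L368853 q10553, e3 q12680 L368859 q10554, e3 q12681 L646081 q11301, e3 q12682 L368877 q10555, e3 q12683 (flp_f L663910) q14941, e3 q12684 (flp_f L663925) q14942, e3 q12685 (flp_f L663933) q14943, e3 q12686 (flp_f L663960) q14945, e3 q12687 L368951 q11364, e3 q12688 L368970 q11365, e3 q12689 L369008 q12689, e3 q12690 L369026 q10562, e3 q12691 L369051 q10563, e3 q12692 (flp_f L646321) q11380, e3 q12693 (flp_f L664065) q14953, e3 q12694 (flp_f L664079) q14954, e3 q12695 L369310 q12695, e3 q12696 L647136 q10595, e3 q12697 L369330 q12697, e3 q12698 L369337 q10575, e3 q12699 L369349 q12699, e3 q12700 L369354 q10576, e3 q12701 L369365 q12701, e3 q12702 L369372 q10577, e3 q12703 L369380 q10578, e3 q12704 L369392 q12704,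 e3 q12705 L369399 q10579, e3 q12706 L369405 q12706, e3 q12707 L369415 q12707, e3 q12708 L369422 q10580, e3 q12709 L369432 q12709, e3 q12710 (flp_f L664177) q14960, e3 q12711 L664148 q14958, e3 q12712 (flp_f L664205) q14962, e3 q12713 (flp_f L664221) q14963, e3 q12714 (flp_f L664233) q14964, e3 q12715 (flp_f L664274) q14968, e3 q12716 L369490 q11385, e3 q12717 L369497 q11386, e3 q12718 (flp_f L654097) q14004, e3 q12719 L369561 q10594, e3 q12720 L369631 q10597, e3 q12721 L369656 q10598, e3 q12722 L369691 q10599, e3 q12723 L369699 q12723, e3 q12724 L663774 q14929, e3 q12725 L663144 q14874, e3 q12726 (flp_f L659225) q14471, e3 q12727 (flp_f L664366) q14976, e3 q12728 (flp_f L664374) q14977, e3 q12729 (flp_f L658327) q14376, e3 q12730 (flp_f L651907) q13846, e3 q12731 (flp_f L372541) q10608, e3 q12732 (flp_f L649025) q11444, e3 q12733 L635060 q10618, e3 q12734 L373237 q10616, e3 q12735 L373245 q10617, trivial⟩ (by decide +kernel)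

theorem ce_f_199 : ∀ r, r < 64 → sm gf (Qf (12736 + r)) = Qf (tab Gen.f (12736 + r)) :=
  edges_tab (sm gf) Qf (tab Gen.f) 12736 [(12736, 13915), (12737, 10728), (12738, 10660), (12739, 11015), (12740, 13855), (12741, 13859), (12742, 13860), (12743, 12743), (12744, 13872), (12745, 10637), (12746, 13875), (12747, 13876), (12748, 12748), (12749, 14223), (12750, 10642), (12751, 10644), (12752, 11401), (12753, 14989), (12754, 11400), (12755, 12755), (12756, 13882), (12757, 13883), (12758, 10651), (12759, 14992), (12760, 14993), (12761, 13886), (12762, 14999), (12763, 13888), (12764, 10655), (12765, 15002), (12766, 12766), (12767, 10658), (12768, 10662), (12769, 13867), (12770, 13858), (12771, 13868), (12772, 10911), (12773, 13895), (12774, 10904), (12775, 10919), (12776, 10671), (12777, 15009), (12778, 13899), (12779, 13900), (12780, 10674), (12781, 10675), (12782, 15014), (12783, 15015), (12784, 13906), (12785, 13908), (12786, 10770), (12787, 10682), (12788, 13924), (12789, 13925), (12790, 10689), (12791, 15020), (12792, 13937),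 (12793, 13938), (12794, 10801), (12795, 10694), (12796, 15024), (12797, 15025), (12798, 14389), (12799, 13951)]
    ⟨e3 q12736 (flp_f L652911) q13915, e3 q12737 L635026 q10728, e3 q12738 L641162 q10660, e3 q12739 L641082 q11015, e3 q12740 (flp_f L652075) q13855, e3 q12741 (flp_f L652138) q13859, e3 q12742 (flp_f L652152) q13860, e3 q12743 L374075 q12743, e3 q12744 (flp_f L652335) q13872, e3 q12745 L374353 q10637, e3 q12746 (flp_f L652379) q13875, e3 q12747 (flp_f L652399) q13876, e3 q12748 L374476 q12748, e3 q12749 (flp_f L656618) q14223, e3 q12750 L374495 q10642, e3 q12751 L374542 q10644, e3 q12752 L649157 q11401, e3 q12753 (flp_f L664530) q14989, e3 q12754 L649271 q11400, e3 q12755 L374595 q12755, e3 q12756 (flp_f L652487) q13882, e3 q12757 (flp_f L652504) q13883, e3 q12758 L374656 q10651, e3 q12759 (flp_f L664570) q14992, e3 q12760 (flp_f L664583) q14993, e3 q12761 (flp_f L652540) q13886, e3 q12762 L664642 q14999, e3 q12763 (flp_f L652574) q13888, e3 q12764 (flp_f L374750) q10655, e3 q12765 (flp_f L664677) q15002, e3 q12766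 L374788 q12766, e3 q12767 L374794 q10658, e3 q12768 L374837 q10662, e3 q12769 (flp_f L652247) q13867, e3 q12770 (flp_f L652128) q13858, e3 q12771 (flp_f L652267) q13868, e3 q12772 L637292 q10911, e3 q12773 (flp_f L652658) q13895, e3 q12774 L637298 q10904, e3 q12775 L637274 q10919, e3 q12776 (flp_f L375793) q10671, e3 q12777 (flp_f L664760) q15009, e3 q12778 (flp_f L652718) q13899, e3 q12779 (flp_f L652731) q13900, e3 q12780 L375841 q10674, e3 q12781 L375853 q10675, e3 q12782 (flp_f L664818) q15014, e3 q12783 (flp_f L664830) q15015, e3 q12784 (flp_f L652801) q13906, e3 q12785 (flp_f L652823) q13908, e3 q12786 L375915 q10770, e3 q12787 L376017 q10682, e3 q12788 (flp_f L653042) q13924, e3 q12789 (flp_f L653051) q13925, e3 q12790 (flp_f L376188) q10689, e3 q12791 (flp_f L664883) q15020, e3 q12792 (flp_f L653229) q13937, e3 q12793 (flp_f L653244) q13938, e3 q12794 L376262 q10801, e3 q12795 L376395 q10694, e3 q12796 (flp_f L664930) q15024, e3 q12797 (flp_f L664940) q15025, e3 q12798 (flp_f L658467) q14389, e3 q12799 (flp_f L653437)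 q13951, trivial⟩ (by decide +kernel)

theorem ce_f_200 : ∀ r, r < 64 → sm gf (Qf (12800 + r)) = Qf (tab Gen.f (12800 + r)) :=
  edges_tab (sm gf) Qf (tab Gen.f) 12800 [(12800, 10816), (12801, 15030), (12802, 10818), (12803, 14390), (12804, 13845), (12805, 10704), (12806, 10705), (12807, 10706), (12808, 15033), (12809, 15034), (12810, 15035), (12811, 13960), (12812, 10710), (12813, 15038), (12814, 15039), (12815, 15041), (12816, 13967), (12817, 11621), (12818, 10715), (12819, 10716), (12820, 10717), (12821, 15045), (12822, 15046), (12823, 15047), (12824, 15055), (12825, 15049), (12826, 13977), (12827, 15060), (12828, 13979), (12829, 10719), (12830, 15064), (12831, 13982), (12832, 10722), (12833, 15067), (12834, 15066), (12835, 10725), (12836, 10861), (12837, 10862), (12838, 13919), (12839, 10732), (12840, 10733), (12841, 10734), (12842, 12842), (12843, 10735), (12844, 15072), (12845, 15073), (12846, 15074), (12847, 15076), (12848, 15071), (12849, 13996), (12850, 11620), (12851, 10749), (12852, 10746), (12853, 10747), (12854,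 10748), (12855, 12855), (12856, 14454), (12857, 14467), (12858, 15084), (12859, 15085), (12860, 11102), (12861, 13997), (12862, 10962), (12863, 10973)]
    ⟨e3 q12800 L376458 q10816, e3 q12801 L664982 q15030, e3 q12802 L376478 q10818, e3 q12803 (flp_f L658478) q14390, e3 q12804 (flp_f L651893) q13845, e3 q12805 L376548 q10704, e3 q12806 L376557 q10705, e3 q12807 L376566 q10706, e3 q12808 (flp_f L665030) q15033, e3 q12809 (flp_f L665047) q15034, e3 q12810 (flp_f L665062) q15035, e3 q12811 (flp_f L653556) q13960, e3 q12812 L376639 q10710, e3 q12813 (flp_f L665098) q15038, e3 q12814 (flp_f L665112) q15039, e3 q12815 L665128 q15041, e3 q12816 (flp_f L653649) q13967, e3 q12817 L648943 q11621, e3 q12818 L376699 q10715, e3 q12819 L376707 q10716, e3 q12820 L376717 q10717, e3 q12821 (flp_f L665172) q15045, e3 q12822 (flp_f L665186) q15046, e3 q12823 (flp_f L665192) q15047, e3 q12824 L665261 q15055, e3 q12825 (flp_f L665208) q15049, e3 q12826 (flp_f L653769) q13977, e3 q12827 L665304 q15060, e3 q12828 (flp_f L653807) q13979, e3 q12829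 (flp_f L376774) q10719, e3 q12830 (flp_f L665332) q15064, e3 q12831 (flp_f L653829) q13982, e3 q12832 (flp_f L376812) q10722, e3 q12833 (flp_f L665358) q15067, e3 q12834 (flp_f L665349) q15066, e3 q12835 L376857 q10725, e3 q12836 L376873 q10861, e3 q12837 L376882 q10862, e3 q12838 (flp_f L652969) q13919, e3 q12839 L376915 q10732, e3 q12840 L376925 q10733, e3 q12841 L376931 q10734, e3 q12842 L376939 q12842, e3 q12843 L376946 q10735, e3 q12844 (flp_f L665407) q15072, e3 q12845 (flp_f L665417) q15073, e3 q12846 (flp_f L665423) q15074, e3 q12847 (flp_f L665450) q15076, e3 q12848 (flp_f L665399) q15071, e3 q12849 (flp_f L653995) q13996, e3 q12850 L649347 q11620, e3 q12851 L649077 q10749, e3 q12852 L377036 q10746, e3 q12853 L377044 q10747, e3 q12854 L377059 q10748, e3 q12855 L377068 q12855, e3 q12856 (flp_f L659045) q14454, e3 q12857 (flp_f L659167) q14467, e3 q12858 (flp_f L665524) q15084, e3 q12859 (flp_f L665539) q15085, e3 q12860 L641175 q11102, e3 q12861 (flp_f L654014) q13997, e3 q12862 L641192 q10962, e3 q12863 L641180 q10973,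 trivial⟩ (by decide +kernel)

theorem ce_f_201 : ∀ r, r < 64 → sm gf (Qf (12864 + r)) = Qf (tab Gen.f (12864 + r)) :=
  edges_tab (sm gf) Qf (tab Gen.f) 12864 [(12864, 13836), (12865, 13837), (12866, 13838), (12867, 12867), (12868, 12868), (12869, 12869), (12870, 10803), (12871, 10759), (12872, 10760), (12873, 15100), (12874, 15101), (12875, 15102), (12876, 14006), (12877, 12877), (12878, 10765), (12879, 10766), (12880, 10767), (12881, 15107), (12882, 15108), (12883, 15109), (12884, 15111), (12885, 14016), (12886, 14018), (12887, 14020), (12888, 10776), (12889, 10777), (12890, 10778), (12891, 14171), (12892, 14173), (12893, 15120), (12894, 15121), (12895, 15122), (12896, 14038), (12897, 14039), (12898, 14040), (12899, 10787), (12900, 10788), (12901, 10789), (12902, 14188), (12903, 14190), (12904, 14192), (12905, 15132), (12906, 15133), (12907, 15134), (12908, 14053), (12909, 14054), (12910, 14055), (12911, 10793), (12912, 15144), (12913, 14060), (12914, 10796), (12915, 10797), (12916, 15146), (12917, 15147), (12918, 15148),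 (12919, 14068), (12920, 11616), (12921, 10804), (12922, 15099), (12923, 15153), (12924, 15154), (12925, 14082), (12926, 14084), (12927, 12927)]
    ⟨e3 q12864 (flp_f L651787) q13836, e3 q12865 (flp_f L651803) q13837, e3 q12866 (flp_f L651815) q13838, e3 q12867 L377844 q12867, e3 q12868 L377855 q12868, e3 q12869 L377864 q12869, e3 q12870 L615165 q10803, e3 q12871 L378366 q10759, e3 q12872 L378375 q10760, e3 q12873 (flp_f L665704) q15100, e3 q12874 (flp_f L665714) q15101, e3 q12875 (flp_f L665725) q15102, e3 q12876 (flp_f L654129) q14006, e3 q12877 L378436 q12877, e3 q12878 L378443 q10765, e3 q12879 L378451 q10766, e3 q12880 L378459 q10767, e3 q12881 (flp_f L665787) q15107, e3 q12882 (flp_f L665799) q15108, e3 q12883 (flp_f L665809) q15109, e3 q12884 (flp_f L665829) q15111, e3 q12885 (flp_f L654237) q14016, e3 q12886 (flp_f L654270) q14018, e3 q12887 (flp_f L654292) q14020, e3 q12888 L378666 q10776, e3 q12889 L378674 q10777, e3 q12890 L378688 q10778, e3 q12891 (flp_f L656004) q14171, e3 q12892 (flp_f L656024) q14173, e3 q12893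 (flp_f L665926) q15120, e3 q12894 (flp_f L665937) q15121, e3 q12895 (flp_f L665945) q15122, e3 q12896 (flp_f L654506) q14038, e3 q12897 (flp_f L654521) q14039, e3 q12898 (flp_f L654531) q14040, e3 q12899 L378792 q10787, e3 q12900 L378808 q10788, e3 q12901 L378818 q10789, e3 q12902 (flp_f L656180) q14188, e3 q12903 (flp_f L656203) q14190, e3 q12904 (flp_f L656224) q14192, e3 q12905 (flp_f L666050) q15132, e3 q12906 (flp_f L666062) q15133, e3 q12907 (flp_f L666069) q15134, e3 q12908 (flp_f L654692) q14053, e3 q12909 (flp_f L654702) q14054, e3 q12910 (flp_f L654709) q14055, e3 q12911 (flp_f L378917) q10793, e3 q12912 (flp_f L666167) q15144, e3 q12913 (flp_f L654782) q14060, e3 q12914 L378971 q10796, e3 q12915 L378980 q10797, e3 q12916 (flp_f L666196) q15146, e3 q12917 (flp_f L666206) q15147, e3 q12918 (flp_f L666215) q15148, e3 q12919 (flp_f L654879) q14068, e3 q12920 (flp_f L648638) q11616, e3 q12921 L379226 q10804, e3 q12922 (flp_f L665691) q15099, e3 q12923 (flp_f L666273) q15153, e3 q12924 (flp_f L666282) q15154, e3 q12925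 (flp_f L655043) q14082, e3 q12926 (flp_f L655073) q14084, e3 q12927 L379285 q12927, trivial⟩ (by decide +kernel)

theorem ce_f_202 : ∀ r, r < 64 → sm gf (Qf (12928 + r)) = Qf (tab Gen.f (12928 + r)) :=
  edges_tab (sm gf) Qf (tab Gen.f) 12928 [(12928, 10809), (12929, 10810), (12930, 10811), (12931, 15162), (12932, 15163), (12933, 15164), (12934, 15173), (12935, 15166), (12936, 11387), (12937, 14646), (12938, 14094), (12939, 14647), (12940, 14097), (12941, 15180), (12942, 11618), (12943, 10817), (12944, 15182), (12945, 12945), (12946, 10824), (12947, 10825), (12948, 10826), (12949, 12949), (12950, 10827), (12951, 15185), (12952, 15187), (12953, 15188), (12954, 15190), (12955, 15192), (12956, 11586), (12957, 11576), (12958, 14113), (12959, 11603), (12960, 12960), (12961, 10834), (12962, 10835), (12963, 10836), (12964, 15205), (12965, 15206), (12966, 15207), (12967, 15215), (12968, 15209), (12969, 14125), (12970, 15117), (12971, 14127), (12972, 10838), (12973, 15223), (12974, 14130), (12975, 12975), (12976, 10844), (12977, 10845),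 (12978, 10846), (12979, 15233), (12980, 10848), (12981, 15227), (12982, 15239), (12983, 15229), (12984, 15230), (12985, 15245), (12986, 15232), (12987, 10847), (12988, 15249), (12989, 15235), (12990, 14146), (12991, 15253)]
    ⟨e3 q12928 L379292 q10809, e3 q12929 L379300 q10810, e3 q12930 L379308 q10811, e3 q12931 (flp_f L666360) q15162, e3 q12932 (flp_f L666370) q15163, e3 q12933 (flp_f L666380) q15164, e3 q12934 L666452 q15173, e3 q12935 (flp_f L666394) q15166, e3 q12936 (flp_f L648574) q11387, e3 q12937 (flp_f L660913) q14646, e3 q12938 (flp_f L655189) q14094, e3 q12939 (flp_f L660929) q14647, e3 q12940 (flp_f L655222) q14097, e3 q12941 L666517 q15180, e3 q12942 (flp_f L648795) q11618, e3 q12943 (flp_f L379415) q10817, e3 q12944 (flp_f L666551) q15182, e3 q12945 L379506 q12945, e3 q12946 L379514 q10824, e3 q12947 L379524 q10825, e3 q12948 L379532 q10826, e3 q12949 L379541 q12949, e3 q12950 L379549 q10827, e3 q12951 (flp_f L666582) q15185, e3 q12952 (flp_f L666607) q15187, e3 q12953 (flp_f L666613) q15188, e3 q12954 (flp_f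 L666635) q15190, e3 q12955 (flp_f L666654) q15192, e3 q12956 (flp_f L648572) q11586, e3 q12957 (flp_f L648576) q11576, e3 q12958 (flp_f L655428) q14113, e3 q12959 L379636 q11603, e3 q12960 L379645 q12960, e3 q12961 L379651 q10834, e3 q12962 L379659 q10835, e3 q12963 L379668 q10836, e3 q12964 (flp_f L666780) q15205, e3 q12965 (flp_f L666793) q15206, e3 q12966 (flp_f L666799) q15207, e3 q12967 L666867 q15215, e3 q12968 (flp_f L666816) q15209, e3 q12969 (flp_f L655539) q14125, e3 q12970 (flp_f L665897) q15117, e3 q12971 (flp_f L655570) q14127, e3 q12972 (flp_f L379735) q10838, e3 q12973 (flp_f L666952) q15223, e3 q12974 (flp_f L655599) q14130, e3 q12975 L379766 q12975, e3 q12976 L379773 q10844, e3 q12977 L379783 q10845, e3 q12978 L379789 q10846, e3 q12979 L667024 q15233, e3 q12980 L379803 q10848, e3 q12981 (flp_f L666982) q15227, e3 q12982 L667070 q15239, e3 q12983 (flp_f L667000) q15229, e3 q12984 (flp_f L667008) q15230, e3 q12985 L667125 q15245, e3 q12986 (flp_f L667022) q15232, e3 q12987 (flp_f L379853) q10847, e3 q12988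 (flp_f L667159) q15249, e3 q12989 (flp_f L667040) q15235, e3 q12990 (flp_f L655746) q14146, e3 q12991 L667192 q15253, trivial⟩ (by decide +kernel)

theorem ce_f_203 : ∀ r, r < 64 → sm gf (Qf (12992 + r)) = Qf (tab Gen.f (12992 + r)) :=
  edges_tab (sm gf) Qf (tab Gen.f) 12992 [(12992, 14148), (12993, 10850), (12994, 15257), (12995, 14151), (12996, 15248), (12997, 10853), (12998, 15262), (12999, 10855), (13000, 15263), (13001, 10859), (13002, 10858), (13003, 15264), (13004, 15265), (13005, 15070), (13006, 13006), (13007, 13007), (13008, 10869), (13009, 13009), (13010, 10870), (13011, 10871), (13012, 13012), (13013, 10872), (13014, 13014), (13015, 10873), (13016, 15269), (13017, 15271), (13018, 15273), (13019, 15274), (13020, 15276), (13021, 15279), (13022, 14181), (13023, 14182), (13024, 14183), (13025, 13025), (13026, 10887), (13027, 13027), (13028, 10888), (13029, 13029), (13030, 10889), (13031, 10890), (13032, 13032), (13033, 10891), (13034, 13034), (13035, 13035), (13036, 10892), (13037, 13037), (13038, 14938), (13039,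 15291), (13040, 15293), (13041, 15295), (13042, 15297), (13043, 15300), (13044, 14199), (13045, 14200), (13046, 13812), (13047, 14228), (13048, 14280), (13049, 14232), (13050, 14233), (13051, 13051), (13052, 15008), (13053, 14243), (13054, 14244), (13055, 13055)]
    ⟨e3 q12992 (flp_f L655778) q14148, e3 q12993 (flp_f L379899) q10850, e3 q12994 (flp_f L667233) q15257, e3 q12995 (flp_f L655811) q14151, e3 q12996 (flp_f L667151) q15248, e3 q12997 L379930 q10853, e3 q12998 (flp_f L667267) q15262, e3 q12999 (flp_f L379940) q10855, e3 q13000 (flp_f L667277) q15263, e3 q13001 L379976 q10859, e3 q13002 L379983 q10858, e3 q13003 (flp_f L667286) q15264, e3 q13004 (flp_f L667295) q15265, e3 q13005 (flp_f L665385) q15070, e3 q13006 L380070 q13006, e3 q13007 L380078 q13007, e3 q13008 L380083 q10869, e3 q13009 L380095 q13009, e3 q13010 L380102 q10870, e3 q13011 L380108 q10871, e3 q13012 L380118 q13012, e3 q13013 L380123 q10872, e3 q13014 L380131 q13014, e3 q13015 L380136 q10873, e3 q13016 (flp_f L667326) q15269, e3 q13017 (flp_f L667345)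 q15271, e3 q13018 (flp_f L667362) q15273, e3 q13019 (flp_f L667371) q15274, e3 q13020 (flp_f L667388) q15276, e3 q13021 (flp_f L667404) q15279, e3 q13022 (flp_f L656108) q14181, e3 q13023 (flp_f L656117) q14182, e3 q13024 (flp_f L656123) q14183, e3 q13025 L380231 q13025, e3 q13026 L380238 q10887, e3 q13027 L380251 q13027, e3 q13028 L380259 q10888, e3 q13029 L380268 q13029, e3 q13030 L380274 q10889, e3 q13031 L380283 q10890, e3 q13032 L380292 q13032, e3 q13033 L380299 q10891, e3 q13034 L380304 q13034, e3 q13035 L380314 q13035, e3 q13036 L380320 q10892, e3 q13037 L380328 q13037, e3 q13038 L663886 q14938, e3 q13039 (flp_f L667502) q15291, e3 q13040 (flp_f L667523) q15293, e3 q13041 (flp_f L667546) q15295, e3 q13042 (flp_f L667559) q15297, e3 q13043 (flp_f L667590) q15300, e3 q13044 (flp_f L656289) q14199, e3 q13045 (flp_f L656297) q14200, e3 q13046 (flp_f L651476) q13812, e3 q13047 (flp_f L656680) q14228, e3 q13048 (flp_f L657278) q14280, e3 q13049 (flp_f L656725) q14232, e3 q13050 (flp_f L656737) q14233, e3 q13051 L380602 q13051,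 e3 q13052 (flp_f L664744) q15008, e3 q13053 (flp_f L656855) q14243, e3 q13054 (flp_f L656869) q14244, e3 q13055 L380732 q13055, trivial⟩ (by decide +kernel)

theorem ce_f_204 : ∀ r, r < 64 → sm gf (Qf (13056 + r)) = Qf (tab Gen.f (13056 + r)) :=
  edges_tab (sm gf) Qf (tab Gen.f) 13056 [(13056, 14248), (13057, 14249), (13058, 14996), (13059, 15007), (13060, 14255), (13061, 14283), (13062, 14257), (13063, 13063), (13064, 13064), (13065, 14284), (13066, 14273), (13067, 14274), (13068, 14288), (13069, 14289), (13070, 10927), (13071, 14385), (13072, 15324), (13073, 15325), (13074, 14295), (13075, 14297), (13076, 13076), (13077, 11046), (13078, 10934), (13079, 10935), (13080, 10936), (13081, 15090), (13082, 15331), (13083, 14309), (13084, 14310), (13085, 14316), (13086, 14318), (13087, 11065), (13088, 10945), (13089, 10946), (13090, 10947), (13091, 15082), (13092, 15338), (13093, 15340), (13094, 14327), (13095, 15347), (13096, 14329), (13097, 10949), (13098, 15351), (13099, 14332), (13100, 13881), (13101, 10954), (13102, 13102),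 (13103, 13103), (13104, 11087), (13105, 10961), (13106, 10963), (13107, 11404), (13108, 10964), (13109, 15091), (13110, 14236), (13111, 15355), (13112, 15357), (13113, 14343), (13114, 14344), (13115, 14345), (13116, 11414), (13117, 11419), (13118, 10976), (13119, 14269)]
    ⟨e3 q13056 (flp_f L656917) q14248, e3 q13057 (flp_f L656927) q14249, e3 q13058 (flp_f L664617) q14996, e3 q13059 (flp_f L664730) q15007, e3 q13060 (flp_f L656983) q14255, e3 q13061 (flp_f L657312) q14283, e3 q13062 (flp_f L656999) q14257, e3 q13063 L380851 q13063, e3 q13064 L380870 q13064, e3 q13065 (flp_f L657323) q14284, e3 q13066 (flp_f L657187) q14273, e3 q13067 (flp_f L657195) q14274, e3 q13068 (flp_f L657363) q14288, e3 q13069 (flp_f L657375) q14289, e3 q13070 L381356 q10927, e3 q13071 (flp_f L658420) q14385, e3 q13072 (flp_f L667824) q15324, e3 q13073 (flp_f L667833) q15325, e3 q13074 (flp_f L657433) q14295, e3 q13075 (flp_f L657453) q14297, e3 q13076 L381429 q13076, e3 q13077 L381528 q11046, e3 q13078 L381536 q10934, e3 q13079 L381545 q10935,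 e3 q13080 L381554 q10936, e3 q13081 (flp_f L665589) q15090, e3 q13082 (flp_f L667892) q15331, e3 q13083 (flp_f L657589) q14309, e3 q13084 (flp_f L657599) q14310, e3 q13085 (flp_f L657652) q14316, e3 q13086 (flp_f L657670) q14318, e3 q13087 L381693 q11065, e3 q13088 L381700 q10945, e3 q13089 L381706 q10946, e3 q13090 L381713 q10947, e3 q13091 (flp_f L665506) q15082, e3 q13092 (flp_f L667948) q15338, e3 q13093 (flp_f L667959) q15340, e3 q13094 (flp_f L657756) q14327, e3 q13095 L668001 q15347, e3 q13096 (flp_f L657777) q14329, e3 q13097 (flp_f L381771) q10949, e3 q13098 (flp_f L668033) q15351, e3 q13099 (flp_f L657799) q14332, e3 q13100 (flp_f L652477) q13881, e3 q13101 L381848 q10954, e3 q13102 L381866 q13102, e3 q13103 L381875 q13103, e3 q13104 L381900 q11087, e3 q13105 L381908 q10961, e3 q13106 L381924 q10963, e3 q13107 L381933 q11404, e3 q13108 L381941 q10964, e3 q13109 (flp_f L665599) q15091, e3 q13110 (flp_f L656780) q14236, e3 q13111 (flp_f L668071) q15355, e3 q13112 (flp_f L668086) q15357, e3 q13113 (flp_f L657909) q14343,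 e3 q13114 (flp_f L657923) q14344, e3 q13115 (flp_f L657934) q14345, e3 q13116 L382049 q11414, e3 q13117 L382086 q11419, e3 q13118 L382091 q10976, e3 q13119 (flp_f L657139) q14269, trivial⟩ (by decide +kernel)

theorem ce_f_205 : ∀ r, r < 64 → sm gf (Qf (13120 + r)) = Qf (tab Gen.f (13120 + r)) :=
  edges_tab (sm gf) Qf (tab Gen.f) 13120 [(13120, 14275), (13121, 14209), (13122, 14271), (13123, 14276), (13124, 14346), (13125, 14347), (13126, 10980), (13127, 10981), (13128, 15368), (13129, 14396), (13130, 14397), (13131, 10984), (13132, 10985), (13133, 15372), (13134, 15373), (13135, 15374), (13136, 14403), (13137, 14405), (13138, 11128), (13139, 14484), (13140, 10992), (13141, 10993), (13142, 10994), (13143, 15381), (13144, 15382), (13145, 15383), (13146, 14418), (13147, 14419), (13148, 14420), (13149, 10999), (13150, 15390), (13151, 15391), (13152, 14427), (13153, 14488), (13154, 14429), (13155, 13933), (13156, 11004), (13157, 11005), (13158, 11006), (13159, 15398), (13160, 15399), (13161, 15400), (13162, 15406), (13163, 15402),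 (13164, 14439), (13165, 14495), (13166, 14441), (13167, 14496), (13168, 14444), (13169, 11156), (13170, 11012), (13171, 15415), (13172, 11019), (13173, 11020), (13174, 13174), (13175, 11021), (13176, 15417), (13177, 15419), (13178, 14464), (13179, 14465), (13180, 14466), (13181, 13181), (13182, 11028), (13183, 14481)]
    ⟨e3 q13120 (flp_f L657209) q14275, e3 q13121 (flp_f L656435) q14209, e3 q13122 (flp_f L657168) q14271, e3 q13123 (flp_f L657222) q14276, e3 q13124 (flp_f L657947) q14346, e3 q13125 (flp_f L657958) q14347, e3 q13126 (flp_f L382198) q10980, e3 q13127 (flp_f L382331) q10981, e3 q13128 (flp_f L668197) q15368, e3 q13129 (flp_f L658543) q14396, e3 q13130 (flp_f L658553) q14397, e3 q13131 L382383 q10984, e3 q13132 L382395 q10985, e3 q13133 (flp_f L668246) q15372, e3 q13134 (flp_f L668254) q15373, e3 q13135 (flp_f L668264) q15374, e3 q13136 (flp_f L658613) q14403, e3 q13137 (flp_f L658629) q14405, e3 q13138 L382460 q11128, e3 q13139 (flp_f L659364) q14484, e3 q13140 L382557 q10992, e3 q13141 L382566 q10993, e3 q13142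 L382576 q10994, e3 q13143 (flp_f L668335) q15381, e3 q13144 (flp_f L668345) q15382, e3 q13145 (flp_f L668355) q15383, e3 q13146 (flp_f L658760) q14418, e3 q13147 (flp_f L658770) q14419, e3 q13148 (flp_f L658777) q14420, e3 q13149 L382660 q10999, e3 q13150 (flp_f L668407) q15390, e3 q13151 (flp_f L668414) q15391, e3 q13152 (flp_f L658838) q14427, e3 q13153 (flp_f L659406) q14488, e3 q13154 (flp_f L658852) q14429, e3 q13155 (flp_f L653178) q13933, e3 q13156 L382713 q11004, e3 q13157 L382719 q11005, e3 q13158 L382727 q11006, e3 q13159 (flp_f L668457) q15398, e3 q13160 (flp_f L668467) q15399, e3 q13161 (flp_f L668475) q15400, e3 q13162 L668510 q15406, e3 q13163 (flp_f L668487) q15402, e3 q13164 (flp_f L658928) q14439, e3 q13165 (flp_f L659475) q14495, e3 q13166 (flp_f L658940) q14441, e3 q13167 (flp_f L659486) q14496, e3 q13168 (flp_f L658958) q14444, e3 q13169 L382804 q11156, e3 q13170 (flp_f L382808) q11012, e3 q13171 (flp_f L668573) q15415, e3 q13172 L382906 q11019, e3 q13173 L382914 q11020, e3 q13174 L382924 q13174, e3 q13175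 L382931 q11021, e3 q13176 (flp_f L668585) q15417, e3 q13177 (flp_f L668600) q15419, e3 q13178 (flp_f L659140) q14464, e3 q13179 (flp_f L659149) q14465, e3 q13180 (flp_f L659155) q14466, e3 q13181 L383059 q13181, e3 q13182 L383063 q11028, e3 q13183 (flp_f L659326) q14481, trivial⟩ (by decide +kernel)

theorem ce_f_206 : ∀ r, r < 64 → sm gf (Qf (13184 + r)) = Qf (tab Gen.f (13184 + r)) :=
  edges_tab (sm gf) Qf (tab Gen.f) 13184 [(13184, 14482), (13185, 14483), (13186, 14489), (13187, 11121), (13188, 11035), (13189, 15428), (13190, 15429), (13191, 14504), (13192, 14506), (13193, 14384), (13194, 11040), (13195, 11041), (13196, 11042), (13197, 15436), (13198, 15437), (13199, 15438), (13200, 15440), (13201, 14516), (13202, 14518), (13203, 14520), (13204, 15330), (13205, 11050), (13206, 11051), (13207, 11052), (13208, 11432), (13209, 11053), (13210, 15449), (13211, 15450), (13212, 15452), (13213, 14538), (13214, 14539), (13215, 14540), (13216, 11593), (13217, 11060), (13218, 11061), (13219, 15458), (13220, 15460), (13221, 14552),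 (13222, 15466), (13223, 14554), (13224, 11063), (13225, 15083), (13226, 14557), (13227, 15337), (13228, 11069), (13229, 11070), (13230, 11071), (13231, 15479), (13232, 11073), (13233, 15473), (13234, 15475), (13235, 15476), (13236, 15488), (13237, 15478), (13238, 11072), (13239, 15492), (13240, 15481), (13241, 14573), (13242, 15496), (13243, 14575), (13244, 11075), (13245, 15500), (13246, 14578), (13247, 15491)]
    ⟨e3 q13184 (flp_f L659332) q14482, e3 q13185 (flp_f L659338) q14483, e3 q13186 (flp_f L659421) q14489, e3 q13187 L616061 q11121, e3 q13188 L383407 q11035, e3 q13189 (flp_f L668663) q15428, e3 q13190 (flp_f L668672) q15429, e3 q13191 (flp_f L659563) q14504, e3 q13192 (flp_f L659581) q14506, e3 q13193 (flp_f L658409) q14384, e3 q13194 L383472 q11040, e3 q13195 L383480 q11041, e3 q13196 L383490 q11042, e3 q13197 (flp_f L668723) q15436, e3 q13198 (flp_f L668735) q15437, e3 q13199 (flp_f L668743) q15438, e3 q13200 (flp_f L668759) q15440, e3 q13201 (flp_f L659669) q14516, e3 q13202 (flp_f L659686) q14518, e3 q13203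 (flp_f L659700) q14520, e3 q13204 (flp_f L667881) q15330, e3 q13205 L383706 q11050, e3 q13206 L383718 q11051, e3 q13207 L383726 q11052, e3 q13208 L383737 q11432, e3 q13209 L383746 q11053, e3 q13210 (flp_f L668827) q15449, e3 q13211 (flp_f L668837) q15450, e3 q13212 (flp_f L668855) q15452, e3 q13213 (flp_f L659878) q14538, e3 q13214 (flp_f L659889) q14539, e3 q13215 (flp_f L659898) q14540, e3 q13216 L648967 q11593, e3 q13217 L383850 q11060, e3 q13218 L383857 q11061, e3 q13219 (flp_f L668903) q15458, e3 q13220 (flp_f L668916) q15460, e3 q13221 (flp_f L659993) q14552, e3 q13222 L668949 q15466, e3 q13223 (flp_f L660018) q14554, e3 q13224 (flp_f L383909) q11063, e3 q13225 (flp_f L665514) q15083, e3 q13226 (flp_f L660034) q14557, e3 q13227 (flp_f L667942) q15337, e3 q13228 L383935 q11069, e3 q13229 L383945 q11070, e3 q13230 L383951 q11071, e3 q13231 L669031 q15479, e3 q13232 L383963 q11073, e3 q13233 (flp_f L668993) q15473, e3 q13234 (flp_f L669009) q15475, e3 q13235 (flp_f L669017) q15476, e3 q13236 L669087 q15488, e3 q13237 (flp_f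 L669029) q15478, e3 q13238 (flp_f L384005) q11072, e3 q13239 (flp_f L669119) q15492, e3 q13240 (flp_f L669045) q15481, e3 q13241 (flp_f L660159) q14573, e3 q13242 L669139 q15496, e3 q13243 (flp_f L660182) q14575, e3 q13244 (flp_f L384037) q11075, e3 q13245 (flp_f L669169) q15500, e3 q13246 (flp_f L660202) q14578, e3 q13247 (flp_f L669113) q15491, trivial⟩ (by decide +kernel)

theorem ce_f_207 : ∀ r, r < 64 → sm gf (Qf (13248 + r)) = Qf (tab Gen.f (13248 + r)) :=
  edges_tab (sm gf) Qf (tab Gen.f) 13248 [(13248, 11078), (13249, 15505), (13250, 11083), (13251, 11082), (13252, 15506), (13253, 15507), (13254, 11272), (13255, 14475), (13256, 15089), (13257, 11093), (13258, 11389), (13259, 11094), (13260, 11095), (13261, 11468), (13262, 11096), (13263, 11470), (13264, 11097), (13265, 15511), (13266, 15512), (13267, 15514), (13268, 15515), (13269, 15517), (13270, 15520), (13271, 14608), (13272, 14609), (13273, 14610), (13274, 14476), (13275, 11111), (13276, 11336), (13277, 11112), (13278, 11305), (13279, 11113), (13280, 11114),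 (13281, 11485), (13282, 11115), (13283, 11333), (13284, 11487), (13285, 11116), (13286, 11489), (13287, 15531), (13288, 15533), (13289, 15535), (13290, 15537), (13291, 15540), (13292, 15530), (13293, 14621), (13294, 14622), (13295, 15551), (13296, 13296), (13297, 11124), (13298, 11125), (13299, 11126), (13300, 15553), (13301, 15554), (13302, 15556), (13303, 14658), (13304, 13304), (13305, 11132), (13306, 11627), (13307, 13307), (13308, 11136), (13309, 11137), (13310, 11138), (13311, 15563)]
    ⟨e3 q13248 L384063 q11078, e3 q13249 (flp_f L669193) q15505, e3 q13250 L384105 q11083, e3 q13251 L384113 q11082, e3 q13252 (flp_f L669201) q15506, e3 q13253 (flp_f L669211) q15507, e3 q13254 L384159 q11272, e3 q13255 (flp_f L659263) q14475, e3 q13256 (flp_f L665577) q15089, e3 q13257 L384204 q11093, e3 q13258 (flp_f L645698) q11389, e3 q13259 L384226 q11094, e3 q13260 L384232 q11095, e3 q13261 L384242 q11468, e3 q13262 L384248 q11096, e3 q13263 L384258 q11470, e3 q13264 L384264 q11097, e3 q13265 (flp_f L669242) q15511, e3 q13266 (flp_f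 L669253) q15512, e3 q13267 (flp_f L669273) q15514, e3 q13268 (flp_f L669282) q15515, e3 q13269 (flp_f L669300) q15517, e3 q13270 (flp_f L669320) q15520, e3 q13271 (flp_f L660470) q14608, e3 q13272 (flp_f L660479) q14609, e3 q13273 (flp_f L660484) q14610, e3 q13274 (flp_f L659277) q14476, e3 q13275 L384364 q11111, e3 q13276 L645678 q11336, e3 q13277 L384384 q11112, e3 q13278 L646962 q11305, e3 q13279 L384402 q11113, e3 q13280 L384409 q11114, e3 q13281 L384418 q11485, e3 q13282 L384424 q11115, e3 q13283 L645481 q11333, e3 q13284 L384440 q11487, e3 q13285 L384447 q11116, e3 q13286 L384455 q11489, e3 q13287 (flp_f L669408) q15531, e3 q13288 (flp_f L669429) q15533, e3 q13289 (flp_f L669451) q15535, e3 q13290 (flp_f L669469) q15537, e3 q13291 (flp_f L669497) q15540, e3 q13292 (flp_f L669399) q15530, e3 q13293 (flp_f L660612) q14621, e3 q13294 (flp_f L660619) q14622, e3 q13295 L669586 q15551, e3 q13296 L384883 q13296, e3 q13297 L384890 q11124, e3 q13298 L384898 q11125, e3 q13299 L384906 q11126, e3 q13300 (flp_f L669611) q15553,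 e3 q13301 (flp_f L669621) q15554, e3 q13302 (flp_f L669637) q15556, e3 q13303 (flp_f L661054) q14658, e3 q13304 L385114 q13304, e3 q13305 L385133 q11132, e3 q13306 L385256 q11627, e3 q13307 L385266 q13307, e3 q13308 L385271 q11136, e3 q13309 L385277 q11137, e3 q13310 L385285 q11138, e3 q13311 (flp_f L669689) q15563, trivial⟩ (by decide +kernel)

theorem ce_f_208 : ∀ r, r < 64 → sm gf (Qf (13312 + r)) = Qf (tab Gen.f (13312 + r)) :=
  edges_tab (sm gf) Qf (tab Gen.f) 13312 [(13312, 15564), (13313, 15569), (13314, 15566), (13315, 14736), (13316, 14678), (13317, 13317), (13318, 11145), (13319, 11146), (13320, 11147), (13321, 15581), (13322, 11149), (13323, 15575), (13324, 15587), (13325, 15577), (13326, 15578), (13327, 15592), (13328, 15580), (13329, 11148), (13330, 15595), (13331, 15583), (13332, 14083), (13333, 14694), (13334, 14745), (13335, 14696), (13336, 14746), (13337, 11155), (13338, 15601), (13339, 11158), (13340, 13340), (13341, 13341), (13342, 11165), (13343, 13343), (13344, 11166), (13345, 11167), (13346, 13346),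 (13347, 11168), (13348, 13348), (13349, 15604), (13350, 15606), (13351, 15608), (13352, 15610), (13353, 11609), (13354, 13354), (13355, 11181), (13356, 11182), (13357, 13357), (13358, 11183), (13359, 11184), (13360, 13360), (13361, 11185), (13362, 13362), (13363, 11186), (13364, 13364), (13365, 14934), (13366, 15616), (13367, 15541), (13368, 15617), (13369, 15619), (13370, 15534), (13371, 14629), (13372, 14627), (13373, 13810), (13374, 11192), (13375, 14718)]
    ⟨e3 q13312 (flp_f L669699) q15564, e3 q13313 L669735 q15569, e3 q13314 (flp_f L669713) q15566, e3 q13315 (flp_f L661915) q14736, e3 q13316 (flp_f L661264) q14678, e3 q13317 L385375 q13317, e3 q13318 L385380 q11145, e3 q13319 L385388 q11146, e3 q13320 L385396 q11147, e3 q13321 L669822 q15581, e3 q13322 L385406 q11149, e3 q13323 (flp_f L669786) q15575, e3 q13324 L669862 q15587, e3 q13325 (flp_f L669800) q15577, e3 q13326 (flp_f L669808) q15578, e3 q13327 L669905 q15592, e3 q13328 (flp_f L669820) q15580, e3 q13329 (flp_f L385450) q11148, e3 q13330 (flp_f L669931) q15595,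 e3 q13331 (flp_f L669834) q15583, e3 q13332 (flp_f L655065) q14083, e3 q13333 (flp_f L661419) q14694, e3 q13334 (flp_f L661989) q14745, e3 q13335 (flp_f L661441) q14696, e3 q13336 (flp_f L661996) q14746, e3 q13337 (flp_f L385521) q11155, e3 q13338 (flp_f L669976) q15601, e3 q13339 L385556 q11158, e3 q13340 L385631 q13340, e3 q13341 L385640 q13341, e3 q13342 L385647 q11165, e3 q13343 L385661 q13343, e3 q13344 L385668 q11166, e3 q13345 L385674 q11167, e3 q13346 L385686 q13346, e3 q13347 L385691 q11168, e3 q13348 L385699 q13348, e3 q13349 (flp_f L669998) q15604, e3 q13350 (flp_f L670019) q15606, e3 q13351 (flp_f L670036) q15608, e3 q13352 (flp_f L670065) q15610, e3 q13353 L648517 q11609, e3 q13354 L385812 q13354, e3 q13355 L385817 q11181, e3 q13356 L385838 q11182, e3 q13357 L385847 q13357, e3 q13358 L385853 q11183, e3 q13359 L385863 q11184, e3 q13360 L385874 q13360, e3 q13361 L385879 q11185, e3 q13362 L385892 q13362, e3 q13363 L385898 q11186, e3 q13364 L385907 q13364, e3 q13365 (flp_f L663843) q14934, e3 q13366 (flp_f L670114)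 q15616, e3 q13367 (flp_f L669509) q15541, e3 q13368 (flp_f L670125) q15617, e3 q13369 (flp_f L670144) q15619, e3 q13370 (flp_f L669442) q15534, e3 q13371 (flp_f L660714) q14629, e3 q13372 (flp_f L660689) q14627, e3 q13373 (flp_f L651451) q13810, e3 q13374 L386049 q11192, e3 q13375 (flp_f L661672) q14718, trivial⟩ (by decide +kernel)

theorem ce_f_209 : ∀ r, r < 64 → sm gf (Qf (13376 + r)) = Qf (tab Gen.f (13376 + r)) :=
  edges_tab (sm gf) Qf (tab Gen.f) 13376 [(13376, 15624), (13377, 13377), (13378, 11633), (13379, 13379), (13380, 11198), (13381, 11199), (13382, 11200), (13383, 15628), (13384, 15629), (13385, 15631), (13386, 14758), (13387, 13387), (13388, 11206), (13389, 11207), (13390, 11208), (13391, 15110), (13392, 11209), (13393, 15636), (13394, 15638), (13395, 15639), (13396, 15641), (13397, 15643), (13398, 14126), (13399, 14774), (13400, 14776), (13401, 13401), (13402, 13402), (13403, 11219), (13404, 11388), (13405, 11220), (13406, 11221), (13407, 11512), (13408, 11222), (13409, 11514), (13410, 15654), (13411, 15656),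 (13412, 15658), (13413, 15660), (13414, 14796), (13415, 11321), (13416, 11606), (13417, 11636), (13418, 11637), (13419, 13419), (13420, 11231), (13421, 11232), (13422, 11233), (13423, 15678), (13424, 11235), (13425, 15672), (13426, 15202), (13427, 15674), (13428, 15675), (13429, 15689), (13430, 15677), (13431, 11234), (13432, 15693), (13433, 15680), (13434, 14147), (13435, 15251), (13436, 14816), (13437, 11237), (13438, 15699), (13439, 14819)]
    ⟨e3 q13376 (flp_f L670195) q15624, e3 q13377 L386102 q13377, e3 q13378 L386439 q11633, e3 q13379 L386449 q13379, e3 q13380 L386456 q11198, e3 q13381 L386464 q11199, e3 q13382 L386474 q11200, e3 q13383 (flp_f L670232) q15628, e3 q13384 (flp_f L670244) q15629, e3 q13385 (flp_f L670260) q15631, e3 q13386 (flp_f L662136) q14758, e3 q13387 L386581 q13387, e3 q13388 L386588 q11206, e3 q13389 L386598 q11207, e3 q13390 L386606 q11208, e3 q13391 (flp_f L665819) q15110, e3 q13392 L386620 q11209, e3 q13393 (flp_f L670299) q15636, e3 q13394 (flp_f L670317) q15638, e3 q13395 (flp_f L670325)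 q15639, e3 q13396 (flp_f L670341) q15641, e3 q13397 (flp_f L670353) q15643, e3 q13398 L655563 q14126, e3 q13399 (flp_f L662290) q14774, e3 q13400 (flp_f L662309) q14776, e3 q13401 L386912 q13401, e3 q13402 L386922 q13402, e3 q13403 L386929 q11219, e3 q13404 (flp_f L629643) q11388, e3 q13405 L386953 q11220, e3 q13406 L386959 q11221, e3 q13407 L386972 q11512, e3 q13408 L386980 q11222, e3 q13409 L386989 q11514, e3 q13410 (flp_f L670439) q15654, e3 q13411 (flp_f L670464) q15656, e3 q13412 (flp_f L670484) q15658, e3 q13413 (flp_f L670504) q15660, e3 q13414 (flp_f L662522) q14796, e3 q13415 L615814 q11321, e3 q13416 (flp_f L615043) q11606, e3 q13417 L387110 q11636, e3 q13418 L387118 q11637, e3 q13419 L387124 q13419, e3 q13420 L387129 q11231, e3 q13421 L387139 q11232, e3 q13422 L387145 q11233, e3 q13423 L670643 q15678, e3 q13424 L387159 q11235, e3 q13425 (flp_f L670599) q15672, e3 q13426 (flp_f L666749) q15202, e3 q13427 (flp_f L670617) q15674, e3 q13428 (flp_f L670625) q15675, e3 q13429 L670730 q15689, e3 q13430 (flp_f L670641)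 q15677, e3 q13431 (flp_f L387211) q11234, e3 q13432 (flp_f L670766) q15693, e3 q13433 (flp_f L670655) q15680, e3 q13434 L655768 q14147, e3 q13435 (flp_f L667181) q15251, e3 q13436 (flp_f L662697) q14816, e3 q13437 (flp_f L387253) q11237, e3 q13438 (flp_f L670810) q15699, e3 q13439 (flp_f L662732) q14819, trivial⟩ (by decide +kernel)

theorem ce_f_210 : ∀ r, r < 64 → sm gf (Qf (13440 + r)) = Qf (tab Gen.f (13440 + r)) :=
  edges_tab (sm gf) Qf (tab Gen.f) 13440 [(13440, 15692), (13441, 11240), (13442, 15703), (13443, 13443), (13444, 13444), (13445, 11248), (13446, 15710), (13447, 11250), (13448, 11251), (13449, 15717), (13450, 11253), (13451, 11246), (13452, 15721), (13453, 11256), (13454, 15707), (13455, 15726), (13456, 15709), (13457, 11249), (13458, 15730), (13459, 15712), (13460, 15713), (13461, 15734), (13462, 15715), (13463, 11252), (13464, 15738), (13465, 15719), (13466, 11263), (13467, 11255), (13468, 15743), (13469, 15218), (13470, 14849), (13471, 11258), (13472, 15747), (13473, 14852), (13474, 15737), (13475, 11261),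 (13476, 15752), (13477, 14856), (13478, 15741), (13479, 15742), (13480, 11265), (13481, 13481), (13482, 11267), (13483, 11270), (13484, 11271), (13485, 15759), (13486, 13486), (13487, 13487), (13488, 11283), (13489, 11383), (13490, 11284), (13491, 11304), (13492, 11285), (13493, 11286), (13494, 11381), (13495, 11287), (13496, 11568), (13497, 11569), (13498, 11288), (13499, 11302), (13500, 14944), (13501, 15761), (13502, 15764), (13503, 15765)]
    ⟨e3 q13440 (flp_f L670760) q15692, e3 q13441 L387286 q11240, e3 q13442 (flp_f L670837) q15703, e3 q13443 L387298 q13443, e3 q13444 L387305 q13444, e3 q13445 L387310 q11248, e3 q13446 L670884 q15710, e3 q13447 L387324 q11250, e3 q13448 L387332 q11251, e3 q13449 L670924 q15717, e3 q13450 L387344 q11253, e3 q13451 (flp_f L387346) q11246, e3 q13452 (flp_f L670950) q15721, e3 q13453 L387356 q11256, e3 q13454 (flp_f L670864) q15707, e3 q13455 L670981 q15726, e3 q13456 (flp_f L670880) q15709, e3 q13457 (flp_f L387383) q11249, e3 q13458 (flp_f L671016) q15730, e3 q13459 (flp_f L670898)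 q15712, e3 q13460 (flp_f L670906) q15713, e3 q13461 L671043 q15734, e3 q13462 (flp_f L670918) q15715, e3 q13463 (flp_f L387425) q11252, e3 q13464 (flp_f L671079) q15738, e3 q13465 (flp_f L670940) q15719, e3 q13466 L387451 q11263, e3 q13467 L387457 q11255, e3 q13468 (flp_f L671111) q15743, e3 q13469 (flp_f L666908) q15218, e3 q13470 (flp_f L662946) q14849, e3 q13471 (flp_f L387479) q11258, e3 q13472 (flp_f L671139) q15747, e3 q13473 (flp_f L662975) q14852, e3 q13474 (flp_f L671071) q15737, e3 q13475 L387512 q11261, e3 q13476 (flp_f L671175) q15752, e3 q13477 (flp_f L663006) q14856, e3 q13478 (flp_f L671099) q15741, e3 q13479 (flp_f L671105) q15742, e3 q13480 L387540 q11265, e3 q13481 L387554 q13481, e3 q13482 L387559 q11267, e3 q13483 L387578 q11270, e3 q13484 L387586 q11271, e3 q13485 (flp_f L671219) q15759, e3 q13486 L387675 q13486, e3 q13487 L387694 q13487, e3 q13488 L387699 q11283, e3 q13489 (flp_f L629306) q11383, e3 q13490 L387721 q11284, e3 q13491 L646971 q11304, e3 q13492 L387739 q11285, e3 q13493 L387749 q11286, e3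 q13494 L646520 q11381, e3 q13495 L387769 q11287, e3 q13496 L387773 q11568, e3 q13497 L387781 q11569, e3 q13498 L387787 q11288, e3 q13499 L646925 q11302, e3 q13500 (flp_f L663952) q14944, e3 q13501 (flp_f L671238) q15761, e3 q13502 (flp_f L671274) q15764, e3 q13503 (flp_f L671286) q15765, trivial⟩ (by decide +kernel)

theorem ce_f_211 : ∀ r, r < 64 → sm gf (Qf (13504 + r)) = Qf (tab Gen.f (13504 + r)) :=
  edges_tab (sm gf) Qf (tab Gen.f) 13504 [(13504, 15763), (13505, 15769), (13506, 14894), (13507, 14895), (13508, 15176), (13509, 11303), (13510, 14946), (13511, 15657), (13512, 15513), (13513, 11334), (13514, 11649), (13515, 11650), (13516, 11651), (13517, 13517), (13518, 11314), (13519, 13519), (13520, 11332), (13521, 11320), (13522, 13522), (13523, 14797), (13524, 11335), (13525, 14918), (13526, 15538), (13527, 15775), (13528, 15532), (13529, 11660), (13530, 11661), (13531, 11343), (13532, 13532), (13533, 11349), (13534, 11382), (13535, 11350), (13536, 11579), (13537, 11581), (13538, 14955), (13539, 11663), (13540, 11664),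 (13541, 11665), (13542, 13542), (13543, 11666), (13544, 13544), (13545, 13545), (13546, 11360), (13547, 13547), (13548, 11361), (13549, 11362), (13550, 13550), (13551, 11363), (13552, 13552), (13553, 15793), (13554, 15795), (13555, 15797), (13556, 15799), (13557, 14951), (13558, 13558), (13559, 11371), (13560, 13560), (13561, 11372), (13562, 13562), (13563, 13563), (13564, 14956), (13565, 11587), (13566, 11384), (13567, 15766)]
    ⟨e3 q13504 (flp_f L671260) q15763, e3 q13505 (flp_f L671310) q15769, e3 q13506 (flp_f L663350) q14894, e3 q13507 (flp_f L663359) q14895, e3 q13508 (flp_f L666486) q15176, e3 q13509 L388015 q11303, e3 q13510 (flp_f L663973) q14946, e3 q13511 (flp_f L670475) q15657, e3 q13512 (flp_f L669265) q15513, e3 q13513 L615782 q11334, e3 q13514 L389186 q11649, e3 q13515 L389193 q11650, e3 q13516 L389201 q11651, e3 q13517 L389208 q13517, e3 q13518 L389223 q11314, e3 q13519 L389716 q13519, e3 q13520 L615867 q11332, e3 q13521 L389737 q11320, e3 q13522 L389749 q13522, e3 q13523 L662541 q14797, e3 q13524 L390026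 q11335, e3 q13525 L663631 q14918, e3 q13526 (flp_f L669475) q15538, e3 q13527 (flp_f L671375) q15775, e3 q13528 (flp_f L669423) q15532, e3 q13529 L390467 q11660, e3 q13530 L390476 q11661, e3 q13531 L390499 q11343, e3 q13532 L390759 q13532, e3 q13533 L390782 q11349, e3 q13534 L646442 q11382, e3 q13535 L390831 q11350, e3 q13536 L390840 q11579, e3 q13537 L390853 q11581, e3 q13538 (flp_f L664104) q14955, e3 q13539 L390979 q11663, e3 q13540 L390989 q11664, e3 q13541 L390995 q11665, e3 q13542 L391004 q13542, e3 q13543 L391010 q11666, e3 q13544 L391015 q13544, e3 q13545 L391023 q13545, e3 q13546 L391028 q11360, e3 q13547 L391041 q13547, e3 q13548 L391047 q11361, e3 q13549 L391053 q11362, e3 q13550 L391064 q13550, e3 q13551 L391069 q11363, e3 q13552 L391076 q13552, e3 q13553 (flp_f L671512) q15793, e3 q13554 (flp_f L671532) q15795, e3 q13555 (flp_f L671547) q15797, e3 q13556 (flp_f L671564) q15799, e3 q13557 (flp_f L664039) q14951, e3 q13558 L391158 q13558, e3 q13559 L391181 q11371, e3 q13560 L391192 q13560, e3 q13561 L391224 q11372,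 e3 q13562 L391231 q13562, e3 q13563 L391243 q13563, e3 q13564 (flp_f L664110) q14956, e3 q13565 L391488 q11587, e3 q13566 L391507 q11384, e3 q13567 (flp_f L671292) q15766, trivial⟩ (by decide +kernel)

theorem ce_f_212 : ∀ r, r < 64 → sm gf (Qf (13568 + r)) = Qf (tab Gen.f (13568 + r)) :=
  edges_tab (sm gf) Qf (tab Gen.f) 13568 [(13568, 15655), (13569, 15762), (13570, 15809), (13571, 13800), (13572, 13572), (13573, 14247), (13574, 13574), (13575, 11394), (13576, 15812), (13577, 11397), (13578, 14990), (13579, 14980), (13580, 15356), (13581, 11409), (13582, 13803), (13583, 13874), (13584, 13879), (13585, 13585), (13586, 13586), (13587, 13587), (13588, 11422), (13589, 15092), (13590, 11423), (13591, 11425), (13592, 14218), (13593, 11426), (13594, 15363), (13595, 13942), (13596, 15818), (13597, 14211), (13598, 15819), (13599, 15821), (13600, 13600), (13601, 13601), (13602, 15822), (13603, 13603), (13604, 15451), (13605, 11436), (13606, 13820), (13607, 14157), (13608, 13608), (13609, 13609), (13610, 13610), (13611, 14246), (13612,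 13612), (13613, 13857), (13614, 11441), (13615, 13880), (13616, 13958), (13617, 15837), (13618, 14069), (13619, 11446), (13620, 15840), (13621, 11457), (13622, 11449), (13623, 15842), (13624, 15843), (13625, 13625), (13626, 11452), (13627, 15846), (13628, 13628), (13629, 15839), (13630, 11455), (13631, 15850)]
    ⟨e3 q13568 (flp_f L670456) q15655, e3 q13569 (flp_f L671248) q15762, e3 q13570 L671626 q15809, e3 q13571 (flp_f L651318) q13800, e3 q13572 L649422 q13572, e3 q13573 (flp_f L656909) q14247, e3 q13574 L649440 q13574, e3 q13575 (flp_f L649443) q11394, e3 q13576 (flp_f L671653) q15812, e3 q13577 L649464 q11397, e3 q13578 (flp_f L664546) q14990, e3 q13579 (flp_f L664403) q14980, e3 q13580 (flp_f L668080) q15356, e3 q13581 L649502 q11409, e3 q13582 (flp_f L651362) q13803, e3 q13583 (flp_f L652370) q13874, e3 q13584 (flp_f L652443) q13879, e3 q13585 L649538 q13585, e3 q13586 L649547 q13586, e3 q13587 L649553 q13587, e3 q13588 L649564 q11422, e3 q13589 (flp_f L665617) q15092, e3 q13590 L649579 q11423, e3 q13591 L649590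 q11425, e3 q13592 (flp_f L656556) q14218, e3 q13593 L649606 q11426, e3 q13594 (flp_f L668143) q15363, e3 q13595 (flp_f L653307) q13942, e3 q13596 (flp_f L671703) q15818, e3 q13597 (flp_f L656458) q14211, e3 q13598 (flp_f L671712) q15819, e3 q13599 (flp_f L671729) q15821, e3 q13600 L649664 q13600, e3 q13601 L649672 q13601, e3 q13602 (flp_f L671739) q15822, e3 q13603 L649691 q13603, e3 q13604 (flp_f L668848) q15451, e3 q13605 L649707 q11436, e3 q13606 (flp_f L651587) q13820, e3 q13607 (flp_f L655874) q14157, e3 q13608 L649737 q13608, e3 q13609 L649743 q13609, e3 q13610 L649749 q13610, e3 q13611 (flp_f L656895) q14246, e3 q13612 L649765 q13612, e3 q13613 (flp_f L652112) q13857, e3 q13614 (flp_f L649775) q11441, e3 q13615 (flp_f L652462) q13880, e3 q13616 (flp_f L653526) q13958, e3 q13617 L671864 q15837, e3 q13618 (flp_f L654891) q14069, e3 q13619 (flp_f L649816) q11446, e3 q13620 (flp_f L671888) q15840, e3 q13621 L649833 q11457, e3 q13622 L649840 q11449, e3 q13623 (flp_f L671904) q15842, e3 q13624 L671910 q15843, e3 q13625 L649865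 q13625, e3 q13626 (flp_f L649866) q11452, e3 q13627 (flp_f L671935) q15846, e3 q13628 L649884 q13628, e3 q13629 (flp_f L671882) q15839, e3 q13630 L649895 q11455, e3 q13631 (flp_f L671963) q15850, trivial⟩ (by decide +kernel)

theorem ce_f_213 : ∀ r, r < 64 → sm gf (Qf (13632 + r)) = Qf (tab Gen.f (13632 + r)) :=
  edges_tab (sm gf) Qf (tab Gen.f) 13632 [(13632, 13632), (13633, 15032), (13634, 15841), (13635, 11459), (13636, 11461), (13637, 11464), (13638, 11465), (13639, 11474), (13640, 15516), (13641, 11476), (13642, 15518), (13643, 15519), (13644, 11477), (13645, 15521), (13646, 14071), (13647, 14100), (13648, 14710), (13649, 15855), (13650, 14872), (13651, 13651), (13652, 13652), (13653, 15866), (13654, 11491), (13655, 11492), (13656, 15536), (13657, 11493), (13658, 15539), (13659, 11494), (13660, 15542), (13661, 11495), (13662, 14637), (13663, 15867), (13664, 15868), (13665, 15870), (13666, 15872), (13667, 15880), (13668, 13668), (13669, 13669), (13670, 15884), (13671, 11498), (13672, 11503), (13673, 11504), (13674, 11505),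 (13675, 13828), (13676, 13829), (13677, 13830), (13678, 15886), (13679, 15887), (13680, 15888), (13681, 13681), (13682, 13682), (13683, 13683), (13684, 11516), (13685, 11517), (13686, 11519), (13687, 15659), (13688, 11520), (13689, 15661), (13690, 15662), (13691, 11521), (13692, 11582), (13693, 15898), (13694, 11572), (13695, 15899)]
    ⟨e3 q13632 L649905 q13632, e3 q13633 (flp_f L665017) q15032, e3 q13634 (flp_f L671895) q15841, e3 q13635 L649927 q11459, e3 q13636 L649934 q11461, e3 q13637 L649943 q11464, e3 q13638 L649952 q11465, e3 q13639 L649960 q11474, e3 q13640 (flp_f L669292) q15516, e3 q13641 L649980 q11476, e3 q13642 (flp_f L669304) q15518, e3 q13643 (flp_f L669314) q15519, e3 q13644 L649999 q11477, e3 q13645 (flp_f L669329) q15521, e3 q13646 (flp_f L654921) q14071, e3 q13647 (flp_f L655256) q14100, e3 q13648 (flp_f L661560) q14710, e3 q13649 (flp_f L671992) q15855, e3 q13650 (flp_f L663117) q14872, e3 q13651 L650055 q13651, e3 q13652 L650061 q13652, e3 q13653 L672066 q15866, e3 q13654 L650072 q11491, e3 q13655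 L650081 q11492, e3 q13656 (flp_f L669462) q15536, e3 q13657 L650099 q11493, e3 q13658 (flp_f L669491) q15539, e3 q13659 L650113 q11494, e3 q13660 (flp_f L669524) q15542, e3 q13661 L650129 q11495, e3 q13662 (flp_f L660810) q14637, e3 q13663 (flp_f L672075) q15867, e3 q13664 (flp_f L672083) q15868, e3 q13665 (flp_f L672103) q15870, e3 q13666 (flp_f L672119) q15872, e3 q13667 L672179 q15880, e3 q13668 L650187 q13668, e3 q13669 L650192 q13669, e3 q13670 L672206 q15884, e3 q13671 (flp_f L650202) q11498, e3 q13672 L650213 q11503, e3 q13673 L650225 q11504, e3 q13674 L650232 q11505, e3 q13675 (flp_f L651672) q13828, e3 q13676 (flp_f L651693) q13829, e3 q13677 (flp_f L651707) q13830, e3 q13678 (flp_f L672225) q15886, e3 q13679 (flp_f L672239) q15887, e3 q13680 (flp_f L672248) q15888, e3 q13681 L650299 q13681, e3 q13682 L650305 q13682, e3 q13683 L650312 q13683, e3 q13684 L650320 q11516, e3 q13685 L650337 q11517, e3 q13686 L650348 q11519, e3 q13687 (flp_f L670497) q15659, e3 q13688 L650370 q11520, e3 q13689 (flp_f L670510) q15661, e3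 q13690 (flp_f L670520) q15662, e3 q13691 L650393 q11521, e3 q13692 L650403 q11582, e3 q13693 (flp_f L672344) q15898, e3 q13694 L650426 q11572, e3 q13695 (flp_f L672359) q15899, trivial⟩ (by decide +kernel)

theorem ce_f_214 : ∀ r, r < 64 → sm gf (Qf (13696 + r)) = Qf (tab Gen.f (13696 + r)) :=
  edges_tab (sm gf) Qf (tab Gen.f) 13696 [(13696, 15902), (13697, 15905), (13698, 13698), (13699, 13699), (13700, 15199), (13701, 11535), (13702, 11538), (13703, 11539), (13704, 15911), (13705, 11541), (13706, 15914), (13707, 11528), (13708, 15918), (13709, 11544), (13710, 13710), (13711, 11531), (13712, 15922), (13713, 11583), (13714, 15925), (13715, 11573), (13716, 11534), (13717, 15927), (13718, 15909), (13719, 11537), (13720, 15929), (13721, 15930), (13722, 15906), (13723, 11540), (13724, 15934), (13725, 15913), (13726, 11553), (13727, 11543), (13728, 15938), (13729, 15920), (13730, 11557), (13731, 11558), (13732, 11547), (13733, 11548), (13734, 15944), (13735, 13735), (13736, 15933), (13737, 11551), (13738, 15948), (13739, 13739),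 (13740, 15936), (13741, 15937), (13742, 11555), (13743, 15952), (13744, 15200), (13745, 15941), (13746, 15942), (13747, 13747), (13748, 13748), (13749, 11564), (13750, 15767), (13751, 15768), (13752, 15957), (13753, 15782), (13754, 15889), (13755, 15959), (13756, 15806), (13757, 11588), (13758, 14543), (13759, 11597)]
    ⟨e3 q13696 (flp_f L672386) q15902, e3 q13697 (flp_f L672411) q15905, e3 q13698 L650467 q13698, e3 q13699 L650475 q13699, e3 q13700 (flp_f L666724) q15199, e3 q13701 L650495 q11535, e3 q13702 L650504 q11538, e3 q13703 L650515 q11539, e3 q13704 L672472 q15911, e3 q13705 L650537 q11541, e3 q13706 L672505 q15914, e3 q13707 (flp_f L650547) q11528, e3 q13708 (flp_f L672536) q15918, e3 q13709 L650565 q11544, e3 q13710 L650575 q13710, e3 q13711 L650581 q11531, e3 q13712 (flp_f L672572) q15922, e3 q13713 L650595 q11583, e3 q13714 L672594 q15925, e3 q13715 L650617 q11573, e3 q13716 (flp_f L650622) q11534, e3 q13717 (flp_f L672618) q15927, e3 q13718 (flp_f L672454) q15909, e3 q13719 L650651 q11537, e3 q13720 (flp_f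 L672635) q15929, e3 q13721 L672640 q15930, e3 q13722 (flp_f L672423) q15906, e3 q13723 (flp_f L650681) q11540, e3 q13724 (flp_f L672676) q15934, e3 q13725 (flp_f L672497) q15913, e3 q13726 L650709 q11553, e3 q13727 L650715 q11543, e3 q13728 (flp_f L672707) q15938, e3 q13729 (flp_f L672550) q15920, e3 q13730 L650739 q11557, e3 q13731 L650747 q11558, e3 q13732 L650754 q11547, e3 q13733 (flp_f L650757) q11548, e3 q13734 (flp_f L672757) q15944, e3 q13735 L650778 q13735, e3 q13736 (flp_f L672669) q15933, e3 q13737 L650794 q11551, e3 q13738 (flp_f L672793) q15948, e3 q13739 L650810 q13739, e3 q13740 (flp_f L672692) q15936, e3 q13741 (flp_f L672699) q15937, e3 q13742 L650834 q11555, e3 q13743 (flp_f L672821) q15952, e3 q13744 (flp_f L666733) q15200, e3 q13745 (flp_f L672728) q15941, e3 q13746 (flp_f L672735) q15942, e3 q13747 L650868 q13747, e3 q13748 L650876 q13748, e3 q13749 L650882 q11564, e3 q13750 (flp_f L671298) q15767, e3 q13751 (flp_f L671306) q15768, e3 q13752 L672847 q15957, e3 q13753 (flp_f L671436) q15782, e3 q13754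 (flp_f L672256) q15889, e3 q13755 L672859 q15959, e3 q13756 (flp_f L671613) q15806, e3 q13757 (flp_f L650930) q11588, e3 q13758 (flp_f L659932) q14543, e3 q13759 L650950 q11597, trivial⟩ (by decide +kernel)

theorem ce_f_215 : ∀ r, r < 64 → sm gf (Qf (13760 + r)) = Qf (tab Gen.f (13760 + r)) :=
  edges_tab (sm gf) Qf (tab Gen.f) 13760 [(13760, 11601), (13761, 11629), (13762, 11635), (13763, 15203), (13764, 15666), (13765, 11611), (13766, 15044), (13767, 13968), (13768, 11623), (13769, 11626), (13770, 11631), (13771, 15560), (13772, 15561), (13773, 11648), (13774, 15626), (13775, 15627), (13776, 15667), (13777, 15669), (13778, 11640), (13779, 11639), (13780, 15966), (13781, 15967), (13782, 11643), (13783, 13783), (13784, 14458), (13785, 14720), (13786, 15776), (13787, 15777), (13788, 15780), (13789, 15781), (13790, 15783), (13791, 15785), (13792, 15786), (13793, 15788), (13794, 15790), (13795, 11673), (13796, 11671), (13797, 13852), (13798, 11678), (13799, 15978), (13800, 13571), (13801, 11680), (13802, 15981), (13803, 13582),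 (13804, 11682), (13805, 15984), (13806, 11686), (13807, 11701), (13808, 11685), (13809, 15988), (13810, 13373), (13811, 12647), (13812, 13046), (13813, 11694), (13814, 15980), (13815, 11693), (13816, 15994), (13817, 13817), (13818, 11696), (13819, 15997), (13820, 13606), (13821, 15996), (13822, 11699), (13823, 16001)]
    ⟨e3 q13760 L650966 q11601, e3 q13761 L650983 q11629, e3 q13762 L651001 q11635, e3 q13763 (flp_f L666762) q15203, e3 q13764 (flp_f L670563) q15666, e3 q13765 L651036 q11611, e3 q13766 (flp_f L665164) q15044, e3 q13767 (flp_f L653661) q13968, e3 q13768 L651054 q11623, e3 q13769 L651066 q11626, e3 q13770 L651083 q11631, e3 q13771 (flp_f L669668) q15560, e3 q13772 (flp_f L669676) q15561, e3 q13773 L651112 q11648, e3 q13774 (flp_f L670216) q15626, e3 q13775 (flp_f L670226) q15627, e3 q13776 (flp_f L670569) q15667, e3 q13777 (flp_f L670581) q15669, e3 q13778 L651149 q11640, e3 q13779 L651154 q11639, e3 q13780 (flp_f L672902) q15966, e3 q13781 (flp_f L672909) q15967, e3 q13782 L651174 q11643, e3 q13783 L651180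 q13783, e3 q13784 (flp_f L659094) q14458, e3 q13785 (flp_f L661694) q14720, e3 q13786 (flp_f L671384) q15776, e3 q13787 (flp_f L671395) q15777, e3 q13788 (flp_f L671420) q15780, e3 q13789 (flp_f L671429) q15781, e3 q13790 (flp_f L671440) q15783, e3 q13791 (flp_f L671459) q15785, e3 q13792 (flp_f L671465) q15786, e3 q13793 (flp_f L671479) q15788, e3 q13794 (flp_f L671492) q15790, e3 q13795 L651266 q11673, e3 q13796 L651274 q11671, e3 q13797 (flp_f L652021) q13852, e3 q13798 (flp_f L651285) q11678, e3 q13799 (flp_f L673001) q15978, e3 q13800 L651318 q13571, e3 q13801 (flp_f L651325) q11680, e3 q13802 (flp_f L673045) q15981, e3 q13803 L651362 q13582, e3 q13804 (flp_f L651370) q11682, e3 q13805 (flp_f L673097) q15984, e3 q13806 L651406 q11686, e3 q13807 L651421 q11701, e3 q13808 L651429 q11685, e3 q13809 (flp_f L673155) q15988, e3 q13810 L651451 q13373, e3 q13811 L651466 q12647, e3 q13812 L651476 q13046, e3 q13813 L651493 q11694, e3 q13814 (flp_f L673030) q15980, e3 q13815 L651523 q11693, e3 q13816 (flp_f L673242) q15994, e3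 q13817 L651545 q13817, e3 q13818 (flp_f L651551) q11696, e3 q13819 (flp_f L673285) q15997, e3 q13820 L651587 q13606, e3 q13821 (flp_f L673272) q15996, e3 q13822 L651618 q11699, e3 q13823 (flp_f L673340) q16001, trivial⟩ (by decide +kernel)

theorem ce_f_216 : ∀ r, r < 64 → sm gf (Qf (13824 + r)) = Qf (tab Gen.f (13824 + r)) :=
  edges_tab (sm gf) Qf (tab Gen.f) 13824 [(13824, 15986), (13825, 15987), (13826, 11703), (13827, 16004), (13828, 13675), (13829, 13676), (13830, 13677), (13831, 13831), (13832, 13832), (13833, 11713), (13834, 11714), (13835, 11715), (13836, 12864), (13837, 12865), (13838, 12866), (13839, 16009), (13840, 16010), (13841, 16011), (13842, 13842), (13843, 13843), (13844, 13844), (13845, 12804), (13846, 12730), (13847, 11724), (13848, 11726), (13849, 11727), (13850, 11866), (13851, 11774), (13852, 13797), (13853, 11736), (13854, 11764), (13855, 12740), (13856, 11740), (13857, 13613), (13858, 12770), (13859, 12741), (13860, 12742), (13861, 13861), (13862, 13862), (13863, 13863), (13864, 12124), (13865, 11746),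 (13866, 16033), (13867, 12769), (13868, 12771), (13869, 11775), (13870, 11784), (13871, 12076), (13872, 12744), (13873, 11762), (13874, 13583), (13875, 12746), (13876, 12747), (13877, 11767), (13878, 16040), (13879, 13584), (13880, 13615), (13881, 13100), (13882, 12756), (13883, 12757), (13884, 16026), (13885, 16034), (13886, 12761), (13887, 16049)]
    ⟨e3 q13824 (flp_f L673131) q15986, e3 q13825 (flp_f L673142) q15987, e3 q13826 L651655 q11703, e3 q13827 (flp_f L673366) q16004, e3 q13828 L651672 q13675, e3 q13829 L651693 q13676, e3 q13830 L651707 q13677, e3 q13831 L651727 q13831, e3 q13832 L651737 q13832, e3 q13833 L651747 q11713, e3 q13834 L651763 q11714, e3 q13835 L651775 q11715, e3 q13836 L651787 q12864, e3 q13837 L651803 q12865, e3 q13838 L651815 q12866, e3 q13839 (flp_f L673438) q16009, e3 q13840 (flp_f L673454) q16010, e3 q13841 (flp_f L673466) q16011, e3 q13842 L651862 q13842, e3 q13843 L651870 q13843, e3 q13844 L651876 q13844, e3 q13845 L651893 q12804, e3 q13846 L651907 q12730, e3 q13847 (flp_f L651917) q11724,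 e3 q13848 L651946 q11726, e3 q13849 L651963 q11727, e3 q13850 L651979 q11866, e3 q13851 L651997 q11774, e3 q13852 L652021 q13797, e3 q13853 L652039 q11736, e3 q13854 L652060 q11764, e3 q13855 L652075 q12740, e3 q13856 (flp_f L652081) q11740, e3 q13857 L652112 q13613, e3 q13858 L652128 q12770, e3 q13859 L652138 q12741, e3 q13860 L652152 q12742, e3 q13861 L652166 q13861, e3 q13862 L652179 q13862, e3 q13863 L652192 q13863, e3 q13864 L652209 q12124, e3 q13865 L652220 q11746, e3 q13866 (flp_f L673775) q16033, e3 q13867 L652247 q12769, e3 q13868 L652267 q12771, e3 q13869 L652280 q11775, e3 q13870 L652299 q11784, e3 q13871 L652320 q12076, e3 q13872 L652335 q12744, e3 q13873 L652350 q11762, e3 q13874 L652370 q13583, e3 q13875 L652379 q12746, e3 q13876 L652399 q12747, e3 q13877 (flp_f L652407) q11767, e3 q13878 (flp_f L673898) q16040, e3 q13879 L652443 q13584, e3 q13880 L652462 q13615, e3 q13881 L652477 q13100, e3 q13882 L652487 q12756, e3 q13883 L652504 q12757, e3 q13884 (flp_f L673672) q16026, e3 q13885 (flp_f L673793) q16034, e3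 q13886 L652540 q12761, e3 q13887 L674037 q16049, trivial⟩ (by decide +kernel)

theorem ce_f_217 : ∀ r, r < 64 → sm gf (Qf (13888 + r)) = Qf (tab Gen.f (13888 + r)) :=
  edges_tab (sm gf) Qf (tab Gen.f) 13888 [(13888, 12763), (13889, 11779), (13890, 16053), (13891, 11783), (13892, 13892), (13893, 11782), (13894, 16057), (13895, 12773), (13896, 11787), (13897, 16058), (13898, 16059), (13899, 12778), (13900, 12779), (13901, 11790), (13902, 11791), (13903, 16066), (13904, 16067), (13905, 16068), (13906, 12784), (13907, 12300), (13908, 12785), (13909, 11893), (13910, 11894), (13911, 16081), (13912, 11896), (13913, 12306), (13914, 11799), (13915, 12736), (13916, 11802), (13917, 11803), (13918, 11804), (13919, 12838), (13920, 16085), (13921, 16086), (13922, 16087), (13923, 12142), (13924, 12788), (13925, 12789), (13926, 11813), (13927, 11815), (13928, 12354), (13929, 12368), (13930, 12129), (13931, 12159), (13932, 12103), (13933, 13155), (13934, 11820), (13935, 16098), (13936, 16099), (13937, 12792), (13938, 12793), (13939, 11933),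 (13940, 12220), (13941, 11827), (13942, 13595), (13943, 16105), (13944, 11828), (13945, 16065), (13946, 11830), (13947, 11831), (13948, 16107), (13949, 16108), (13950, 16110), (13951, 12799)]
    ⟨e3 q13888 L652574 q12763, e3 q13889 (flp_f L652578) q11779, e3 q13890 (flp_f L674102) q16053, e3 q13891 L652613 q11783, e3 q13892 L652627 q13892, e3 q13893 L652634 q11782, e3 q13894 (flp_f L674156) q16057, e3 q13895 L652658 q12773, e3 q13896 (flp_f L652666) q11787, e3 q13897 (flp_f L674177) q16058, e3 q13898 (flp_f L674195) q16059, e3 q13899 L652718 q12778, e3 q13900 L652731 q12779, e3 q13901 L652745 q11790, e3 q13902 L652759 q11791, e3 q13903 (flp_f L674299) q16066, e3 q13904 (flp_f L674311) q16067, e3 q13905 (flp_f L674325) q16068, e3 q13906 L652801 q12784, e3 q13907 L652813 q12300, e3 q13908 L652823 q12785, e3 q13909 L652831 q11893, e3 q13910 L652845 q11894, e3 q13911 L674473 q16081, e3 q13912 L652872 q11896, e3 q13913 L652885 q12306, e3 q13914 L652894 q11799, e3 q13915 L652911 q12736, e3 q13916 L652925 q11802, e3 q13917 L652939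 q11803, e3 q13918 L652957 q11804, e3 q13919 L652969 q12838, e3 q13920 (flp_f L674534) q16085, e3 q13921 (flp_f L674548) q16086, e3 q13922 (flp_f L674568) q16087, e3 q13923 L653027 q12142, e3 q13924 L653042 q12788, e3 q13925 L653051 q12789, e3 q13926 L653070 q11813, e3 q13927 L653087 q11815, e3 q13928 L653100 q12354, e3 q13929 L653116 q12368, e3 q13930 L653129 q12129, e3 q13931 L653143 q12159, e3 q13932 L653153 q12103, e3 q13933 L653178 q13155, e3 q13934 (flp_f L653180) q11820, e3 q13935 (flp_f L674729) q16098, e3 q13936 (flp_f L674746) q16099, e3 q13937 L653229 q12792, e3 q13938 L653244 q12793, e3 q13939 L653257 q11933, e3 q13940 L653278 q12220, e3 q13941 L653290 q11827, e3 q13942 L653307 q13595, e3 q13943 (flp_f L674837) q16105, e3 q13944 (flp_f L653326) q11828, e3 q13945 (flp_f L674283) q16065, e3 q13946 L653367 q11830, e3 q13947 L653381 q11831, e3 q13948 (flp_f L674867) q16107, e3 q13949 (flp_f L674885) q16108, e3 q13950 L674907 q16110, e3 q13951 L653437 q12799, trivial⟩ (by decide +kernel)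

theorem ce_f_218 : ∀ r, r < 64 → sm gf (Qf (13952 + r)) = Qf (tab Gen.f (13952 + r)) :=
  edges_tab (sm gf) Qf (tab Gen.f) 13952 [(13952, 11835), (13953, 16114), (13954, 11839), (13955, 11958), (13956, 11838), (13957, 16118), (13958, 13616), (13959, 11842), (13960, 12811), (13961, 11845), (13962, 11846), (13963, 16119), (13964, 16120), (13965, 16121), (13966, 16126), (13967, 12816), (13968, 13767), (13969, 11851), (13970, 11852), (13971, 11853), (13972, 16129), (13973, 16130), (13974, 16131), (13975, 16136), (13976, 16133), (13977, 12826), (13978, 16140), (13979, 12828), (13980, 11855), (13981, 16144), (13982, 12831), (13983, 11858), (13984, 16147), (13985, 11998), (13986, 16146), (13987, 11861), (13988, 16151), (13989, 12002), (13990, 12003), (13991, 11865), (13992, 11870), (13993, 11871), (13994, 11872), (13995, 16155), (13996, 12849), (13997, 12861), (13998, 13998), (13999, 11881), (14000, 11882), (14001, 16159), (14002, 16160), (14003, 16161), (14004, 12718), (14005, 12518), (14006, 12876), (14007, 14007), (14008, 11887),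 (14009, 11888), (14010, 11889), (14011, 16171), (14012, 16172), (14013, 16173), (14014, 16182), (14015, 16175)]
    ⟨e3 q13952 (flp_f L653439) q11835, e3 q13953 (flp_f L674974) q16114, e3 q13954 L653470 q11839, e3 q13955 L653488 q11958, e3 q13956 L653498 q11838, e3 q13957 (flp_f L675034) q16118, e3 q13958 L653526 q13616, e3 q13959 L653539 q11842, e3 q13960 L653556 q12811, e3 q13961 L653576 q11845, e3 q13962 L653590 q11846, e3 q13963 (flp_f L675049) q16119, e3 q13964 (flp_f L675061) q16120, e3 q13965 (flp_f L675079) q16121, e3 q13966 L675141 q16126, e3 q13967 L653649 q12816, e3 q13968 L653661 q13767, e3 q13969 L653675 q11851, e3 q13970 L653683 q11852, e3 q13971 L653695 q11853, e3 q13972 (flp_f L675185) q16129, e3 q13973 (flp_f L675201) q16130, e3 q13974 (flp_f L675209) q16131, e3 q13975 L675271 q16136, e3 q13976 (flp_f L675235) q16133, e3 q13977 L653769 q12826, e3 q13978 L675323 q16140, e3 q13979 L653807 q12828, e3 q13980 (flp_f L653809) q11855, e3 q13981 (flp_f L675383) q16144, e3 q13982 L653829 q12831, e3 q13983 (flp_f L653831)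 q11858, e3 q13984 (flp_f L675414) q16147, e3 q13985 L653866 q11998, e3 q13986 (flp_f L675402) q16146, e3 q13987 L653886 q11861, e3 q13988 (flp_f L675464) q16151, e3 q13989 L653901 q12002, e3 q13990 L653910 q12003, e3 q13991 L653918 q11865, e3 q13992 L653931 q11870, e3 q13993 L653941 q11871, e3 q13994 L653961 q11872, e3 q13995 (flp_f L675509) q16155, e3 q13996 L653995 q12849, e3 q13997 L654014 q12861, e3 q13998 L654035 q13998, e3 q13999 L654045 q11881, e3 q14000 L654056 q11882, e3 q14001 (flp_f L675568) q16159, e3 q14002 (flp_f L675578) q16160, e3 q14003 (flp_f L675591) q16161, e3 q14004 L654097 q12718, e3 q14005 L654119 q12518, e3 q14006 L654129 q12876, e3 q14007 L654142 q14007, e3 q14008 L654153 q11887, e3 q14009 L654163 q11888, e3 q14010 L654175 q11889, e3 q14011 (flp_f L675719) q16171, e3 q14012 (flp_f L675731) q16172, e3 q14013 (flp_f L675741) q16173, e3 q14014 L675839 q16182, e3 q14015 (flp_f L675763) q16175, trivial⟩ (by decide +kernel)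

theorem ce_f_219 : ∀ r, r < 64 → sm gf (Qf (14016 + r)) = Qf (tab Gen.f (14016 + r)) :=
  edges_tab (sm gf) Qf (tab Gen.f) 14016 [(14016, 12885), (14017, 12530), (14018, 12886), (14019, 12532), (14020, 12887), (14021, 16189), (14022, 16080), (14023, 11895), (14024, 16192), (14025, 16083), (14026, 12539), (14027, 14027), (14028, 11903), (14029, 11904), (14030, 11905), (14031, 14031), (14032, 11906), (14033, 16196), (14034, 16197), (14035, 16198), (14036, 16200), (14037, 16202), (14038, 12896), (14039, 12897), (14040, 12898), (14041, 14041), (14042, 11916), (14043, 11917), (14044, 11918), (14045, 14045), (14046, 11919), (14047, 14047), (14048, 11920), (14049, 16210), (14050, 16211), (14051, 16213), (14052, 16215), (14053, 12908), (14054, 12909), (14055, 12910), (14056, 11924), (14057, 16223), (14058, 16224), (14059, 12455), (14060, 12913), (14061, 11927), (14062, 11928), (14063, 16230), (14064, 16231), (14065, 16232), (14066, 12443), (14067, 12425), (14068, 12919), (14069, 13618), (14070, 16241), (14071, 13646), (14072, 11937),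 (14073, 12431), (14074, 11938), (14075, 16244), (14076, 14076), (14077, 11940), (14078, 11941), (14079, 16247)]
    ⟨e3 q14016 L654237 q12885, e3 q14017 L654260 q12530, e3 q14018 L654270 q12886, e3 q14019 L654283 q12532, e3 q14020 L654292 q12887, e3 q14021 L675920 q16189, e3 q14022 (flp_f L674465) q16080, e3 q14023 (flp_f L654320) q11895, e3 q14024 (flp_f L675964) q16192, e3 q14025 (flp_f L674503) q16083, e3 q14026 L654362 q12539, e3 q14027 L654374 q14027, e3 q14028 L654387 q11903, e3 q14029 L654402 q11904, e3 q14030 L654412 q11905, e3 q14031 L654430 q14031, e3 q14032 L654439 q11906, e3 q14033 (flp_f L676015) q16196, e3 q14034 (flp_f L676034) q16197, e3 q14035 (flp_f L676042) q16198, e3 q14036 (flp_f L676071) q16200, e3 q14037 (flp_f L676096) q16202, e3 q14038 L654506 q12896, e3 q14039 L654521 q12897, e3 q14040 L654531 q12898, e3 q14041 L654544 q14041, e3 q14042 L654556 q11916, e3 q14043 L654574 q11917, e3 q14044 L654584 q11918, e3 q14045 L654605 q14045, e3 q14046 L654613 q11919, e3 q14047 L654624 q14047, e3 q14048 L654632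 q11920, e3 q14049 (flp_f L676199) q16210, e3 q14050 (flp_f L676210) q16211, e3 q14051 (flp_f L676241) q16213, e3 q14052 (flp_f L676266) q16215, e3 q14053 L654692 q12908, e3 q14054 L654702 q12909, e3 q14055 L654709 q12910, e3 q14056 (flp_f L654717) q11924, e3 q14057 (flp_f L676374) q16223, e3 q14058 (flp_f L676390) q16224, e3 q14059 L654764 q12455, e3 q14060 L654782 q12913, e3 q14061 L654794 q11927, e3 q14062 L654805 q11928, e3 q14063 (flp_f L676473) q16230, e3 q14064 (flp_f L676483) q16231, e3 q14065 (flp_f L676494) q16232, e3 q14066 L654846 q12443, e3 q14067 L654869 q12425, e3 q14068 L654879 q12919, e3 q14069 L654891 q13618, e3 q14070 L676604 q16241, e3 q14071 L654921 q13646, e3 q14072 L654938 q11937, e3 q14073 L654953 q12431, e3 q14074 L654962 q11938, e3 q14075 (flp_f L676660) q16244, e3 q14076 L654991 q14076, e3 q14077 L654999 q11940, e3 q14078 L655008 q11941, e3 q14079 (flp_f L676697) q16247, trivial⟩ (by decide +kernel)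

theorem ce_f_220 : ∀ r, r < 64 → sm gf (Qf (14080 + r)) = Qf (tab Gen.f (14080 + r)) :=
  edges_tab (sm gf) Qf (tab Gen.f) 14080 [(14080, 16248), (14081, 16249), (14082, 12925), (14083, 13332), (14084, 12926), (14085, 14085), (14086, 11946), (14087, 11947), (14088, 11948), (14089, 16259), (14090, 16260), (14091, 16261), (14092, 16266), (14093, 16263), (14094, 12938), (14095, 11950), (14096, 16271), (14097, 12940), (14098, 11953), (14099, 16274), (14100, 13647), (14101, 16273), (14102, 11956), (14103, 16278), (14104, 16116), (14105, 16117), (14106, 11960), (14107, 14107), (14108, 11965), (14109, 11966), (14110, 11967), (14111, 16283), (14112, 16284), (14113, 12958), (14114, 14114), (14115, 14115), (14116, 14116), (14117, 11973), (14118, 11974), (14119, 11975), (14120, 16291), (14121, 16292), (14122, 16293), (14123, 16302), (14124, 16295), (14125, 12969), (14126, 13398), (14127, 12971), (14128, 11977), (14129, 16309), (14130, 12974), (14131, 14131), (14132, 11983), (14133, 11984), (14134, 11985), (14135, 16319), (14136, 11987),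 (14137, 16313), (14138, 16324), (14139, 16315), (14140, 16316), (14141, 16330), (14142, 16318), (14143, 11986)]
    ⟨e3 q14080 (flp_f L676705) q16248, e3 q14081 (flp_f L676716) q16249, e3 q14082 L655043 q12925, e3 q14083 L655065 q13332, e3 q14084 L655073 q12926, e3 q14085 L655084 q14085, e3 q14086 L655095 q11946, e3 q14087 L655103 q11947, e3 q14088 L655113 q11948, e3 q14089 (flp_f L676840) q16259, e3 q14090 (flp_f L676854) q16260, e3 q14091 (flp_f L676864) q16261, e3 q14092 L676919 q16266, e3 q14093 (flp_f L676886) q16263, e3 q14094 L655189 q12938, e3 q14095 (flp_f L655192) q11950, e3 q14096 (flp_f L676990) q16271, e3 q14097 L655222 q12940, e3 q14098 (flp_f L655227) q11953, e3 q14099 (flp_f L677023) q16274, e3 q14100 L655256 q13647, e3 q14101 (flp_f L677013) q16273, e3 q14102 L655286 q11956, e3 q14103 (flp_f L677074) q16278, e3 q14104 (flp_f L675007) q16116, e3 q14105 (flp_f L675020) q16117, e3 q14106 L655325 q11960, e3 q14107 L655338 q14107, e3 q14108 L655354 q11965, e3 q14109 L655366 q11966, e3 q14110 L655384 q11967, e3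 q14111 (flp_f L677136) q16283, e3 q14112 (flp_f L677149) q16284, e3 q14113 L655428 q12958, e3 q14114 L655441 q14114, e3 q14115 L655451 q14115, e3 q14116 L655463 q14116, e3 q14117 L655471 q11973, e3 q14118 L655479 q11974, e3 q14119 L655490 q11975, e3 q14120 (flp_f L677234) q16291, e3 q14121 (flp_f L677245) q16292, e3 q14122 (flp_f L677251) q16293, e3 q14123 L677347 q16302, e3 q14124 (flp_f L677272) q16295, e3 q14125 L655539 q12969, e3 q14126 (flp_f L655563) q13398, e3 q14127 L655570 q12971, e3 q14128 (flp_f L655573) q11977, e3 q14129 (flp_f L677433) q16309, e3 q14130 L655599 q12974, e3 q14131 L655610 q14131, e3 q14132 L655619 q11983, e3 q14133 L655629 q11984, e3 q14134 L655635 q11985, e3 q14135 L677517 q16319, e3 q14136 L655653 q11987, e3 q14137 (flp_f L677469) q16313, e3 q14138 L677563 q16324, e3 q14139 (flp_f L677487) q16315, e3 q14140 (flp_f L677495) q16316, e3 q14141 L677637 q16330, e3 q14142 (flp_f L677513) q16318, e3 q14143 (flp_f L655718) q11986, trivial⟩ (by decide +kernel)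

theorem ce_f_221 : ∀ r, r < 64 → sm gf (Qf (14144 + r)) = Qf (tab Gen.f (14144 + r)) :=
  edges_tab (sm gf) Qf (tab Gen.f) 14144 [(14144, 16334), (14145, 16321), (14146, 12990), (14147, 13434), (14148, 12992), (14149, 11989), (14150, 16340), (14151, 12995), (14152, 16333), (14153, 11992), (14154, 16345), (14155, 11994), (14156, 16348), (14157, 13607), (14158, 11999), (14159, 11997), (14160, 16352), (14161, 16350), (14162, 16351), (14163, 12001), (14164, 16356), (14165, 16153), (14166, 16154), (14167, 14167), (14168, 12011), (14169, 12012), (14170, 12013), (14171, 12891), (14172, 12014), (14173, 12892), (14174, 12015), (14175, 16359), (14176, 16360), (14177, 16361), (14178, 16362), (14179, 16364), (14180, 16367), (14181, 13022), (14182, 13023), (14183, 13024), (14184, 12027), (14185, 12028), (14186, 12029), (14187, 12030), (14188, 12902), (14189, 12031), (14190, 12903), (14191, 12032), (14192, 12904), (14193, 16378), (14194, 16379), (14195, 16380), (14196, 16382), (14197, 16384), (14198, 16386), (14199, 13044), (14200, 13045),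 (14201, 15991), (14202, 12053), (14203, 12038), (14204, 12039), (14205, 16393), (14206, 14206), (14207, 14207)]
    ⟨e3 q14144 (flp_f L677681) q16334, e3 q14145 (flp_f L677535) q16321, e3 q14146 L655746 q12990, e3 q14147 (flp_f L655768) q13434, e3 q14148 L655778 q12992, e3 q14149 (flp_f L655781) q11989, e3 q14150 (flp_f L677756) q16340, e3 q14151 L655811 q12995, e3 q14152 (flp_f L677673) q16333, e3 q14153 L655830 q11992, e3 q14154 (flp_f L677802) q16345, e3 q14155 (flp_f L655840) q11994, e3 q14156 (flp_f L677834) q16348, e3 q14157 L655874 q13607, e3 q14158 L655885 q11999, e3 q14159 L655891 q11997, e3 q14160 (flp_f L677871) q16352, e3 q14161 (flp_f L677856) q16350, e3 q14162 (flp_f L677863) q16351, e3 q14163 L655924 q12001, e3 q14164 (flp_f L677903) q16356, e3 q14165 (flp_f L675478) q16153, e3 q14166 (flp_f L675490) q16154, e3 q14167 L655954 q14167, e3 q14168 L655965 q12011, e3 q14169 L655980 q12012, e3 q14170 L655986 q12013, e3 q14171 L656004 q12891, e3 q14172 L656010 q12014, e3 q14173 L656024 q12892, e3 q14174 L656034 q12015,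 e3 q14175 (flp_f L677931) q16359, e3 q14176 (flp_f L677946) q16360, e3 q14177 (flp_f L677958) q16361, e3 q14178 (flp_f L677967) q16362, e3 q14179 (flp_f L677993) q16364, e3 q14180 (flp_f L678027) q16367, e3 q14181 L656108 q13022, e3 q14182 L656117 q13023, e3 q14183 L656123 q13024, e3 q14184 L656133 q12027, e3 q14185 L656147 q12028, e3 q14186 L656156 q12029, e3 q14187 L656165 q12030, e3 q14188 L656180 q12902, e3 q14189 L656190 q12031, e3 q14190 L656203 q12903, e3 q14191 L656214 q12032, e3 q14192 L656224 q12904, e3 q14193 (flp_f L678146) q16378, e3 q14194 (flp_f L678162) q16379, e3 q14195 (flp_f L678173) q16380, e3 q14196 (flp_f L678199) q16382, e3 q14197 (flp_f L678221) q16384, e3 q14198 (flp_f L678245) q16386, e3 q14199 L656289 q13044, e3 q14200 L656297 q13045, e3 q14201 (flp_f L673196) q15991, e3 q14202 L656319 q12053, e3 q14203 L656331 q12038, e3 q14204 L656352 q12039, e3 q14205 (flp_f L678322) q16393, e3 q14206 L656379 q14206, e3 q14207 L656398 q14207, trivial⟩ (by decide +kernel)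

theorem ce_f_222 : ∀ r, r < 64 → sm gf (Qf (14208 + r)) = Qf (tab Gen.f (14208 + r)) :=
  edges_tab (sm gf) Qf (tab Gen.f) 14208 [(14208, 14208), (14209, 13121), (14210, 12046), (14211, 13597), (14212, 16397), (14213, 14213), (14214, 14214), (14215, 14215), (14216, 12169), (14217, 12170), (14218, 13592), (14219, 14219), (14220, 14220), (14221, 14221), (14222, 12114), (14223, 12749), (14224, 14224), (14225, 14225), (14226, 12060), (14227, 12109), (14228, 13047), (14229, 12062), (14230, 16415), (14231, 16416), (14232, 13049), (14233, 13050), (14234, 14234), (14235, 14235), (14236, 13110), (14237, 12068), (14238, 16425), (14239, 12070), (14240, 12071), (14241, 16427), (14242, 16428), (14243, 13053), (14244, 13054), (14245, 14245), (14246, 13611), (14247, 13573), (14248, 13056), (14249, 13057), (14250, 12079), (14251, 12080), (14252, 16437), (14253, 16438), (14254, 16439), (14255, 13060), (14256, 16445), (14257, 13062), (14258, 14258), (14259, 14259), (14260, 14260), (14261, 12086), (14262, 16450), (14263, 12090), (14264, 12089),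 (14265, 16452), (14266, 12254), (14267, 12093), (14268, 12095), (14269, 13119), (14270, 16096), (14271, 13122)]
    ⟨e3 q14208 L656415 q14208, e3 q14209 L656435 q13121, e3 q14210 L656444 q12046, e3 q14211 L656458 q13597, e3 q14212 (flp_f L678381) q16397, e3 q14213 L656479 q14213, e3 q14214 L656495 q14214, e3 q14215 L656510 q14215, e3 q14216 L656521 q12169, e3 q14217 L656540 q12170, e3 q14218 L656556 q13592, e3 q14219 L656565 q14219, e3 q14220 L656579 q14220, e3 q14221 L656589 q14221, e3 q14222 L656607 q12114, e3 q14223 L656618 q12749, e3 q14224 L656630 q14224, e3 q14225 L656642 q14225, e3 q14226 L656652 q12060, e3 q14227 L656670 q12109, e3 q14228 L656680 q13047, e3 q14229 (flp_f L656684) q12062, e3 q14230 (flp_f L678649) q16415, e3 q14231 (flp_f L678664) q16416, e3 q14232 L656725 q13049, e3 q14233 L656737 q13050, e3 q14234 L656749 q14234, e3 q14235 L656762 q14235, e3 q14236 L656780 q13110, e3 q14237 L656788 q12068, e3 q14238 (flp_f L678783) q16425, e3 q14239 L656809 q12070, e3 q14240 L656819 q12071, e3 q14241 (flp_f L678813)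 q16427, e3 q14242 (flp_f L678829) q16428, e3 q14243 L656855 q13053, e3 q14244 L656869 q13054, e3 q14245 L656880 q14245, e3 q14246 L656895 q13611, e3 q14247 L656909 q13573, e3 q14248 L656917 q13056, e3 q14249 L656927 q13057, e3 q14250 L656942 q12079, e3 q14251 L656953 q12080, e3 q14252 (flp_f L678933) q16437, e3 q14253 (flp_f L678945) q16438, e3 q14254 (flp_f L678964) q16439, e3 q14255 L656983 q13060, e3 q14256 L679030 q16445, e3 q14257 L656999 q13062, e3 q14258 L657007 q14258, e3 q14259 L657023 q14259, e3 q14260 L657034 q14260, e3 q14261 (flp_f L657037) q12086, e3 q14262 (flp_f L679101) q16450, e3 q14263 L657060 q12090, e3 q14264 L657077 q12089, e3 q14265 (flp_f L679122) q16452, e3 q14266 L657101 q12254, e3 q14267 L657112 q12093, e3 q14268 L657127 q12095, e3 q14269 L657139 q13119, e3 q14270 (flp_f L674689) q16096, e3 q14271 L657168 q13122, trivial⟩ (by decide +kernel)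

theorem ce_f_223 : ∀ r, r < 64 → sm gf (Qf (14272 + r)) = Qf (tab Gen.f (14272 + r)) :=
  edges_tab (sm gf) Qf (tab Gen.f) 14272 [(14272, 12160), (14273, 13066), (14274, 13067), (14275, 13120), (14276, 13123), (14277, 12130), (14278, 12161), (14279, 12165), (14280, 13048), (14281, 16411), (14282, 16412), (14283, 13061), (14284, 13065), (14285, 14285), (14286, 16405), (14287, 16406), (14288, 13068), (14289, 13069), (14290, 12117), (14291, 12118), (14292, 16090), (14293, 16472), (14294, 16473), (14295, 13074), (14296, 16027), (14297, 13075), (14298, 14298), (14299, 16484), (14300, 14300), (14301, 16032), (14302, 12126), (14303, 12308), (14304, 12131), (14305, 16095), (14306, 16052), (14307, 16457), (14308, 12149), (14309, 13083), (14310, 13084), (14311, 12136), (14312, 12137), (14313, 16493), (14314, 16494), (14315, 16495), (14316, 13085), (14317, 16504), (14318, 13086), (14319, 12328), (14320, 12143), (14321, 12144), (14322, 16074), (14323, 16091), (14324, 16443), (14325, 16479), (14326, 16508), (14327, 13094), (14328, 16517),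 (14329, 13096), (14330, 12146), (14331, 16521), (14332, 13099), (14333, 16491), (14334, 14334), (14335, 16488)]
    ⟨e3 q14272 L657174 q12160, e3 q14273 L657187 q13066, e3 q14274 L657195 q13067, e3 q14275 L657209 q13120, e3 q14276 L657222 q13123, e3 q14277 L657235 q12130, e3 q14278 L657249 q12161, e3 q14279 L657260 q12165, e3 q14280 L657278 q13048, e3 q14281 (flp_f L678590) q16411, e3 q14282 (flp_f L678606) q16412, e3 q14283 L657312 q13061, e3 q14284 L657323 q13065, e3 q14285 L657336 q14285, e3 q14286 (flp_f L678500) q16405, e3 q14287 (flp_f L678515) q16406, e3 q14288 L657363 q13068, e3 q14289 L657375 q13069, e3 q14290 L657386 q12117, e3 q14291 L657395 q12118, e3 q14292 (flp_f L674607) q16090, e3 q14293 (flp_f L679361) q16472, e3 q14294 (flp_f L679372) q16473, e3 q14295 L657433 q13074, e3 q14296 (flp_f L673694) q16027, e3 q14297 L657453 q13075, e3 q14298 L657467 q14298, e3 q14299 L679481 q16484, e3 q14300 L657493 q14300, e3 q14301 (flp_f L673764) q16032, e3 q14302 L657512 q12126, e3 q14303 L657524 q12308, e3 q14304 L657534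 q12131, e3 q14305 (flp_f L674680) q16095, e3 q14306 (flp_f L674088) q16052, e3 q14307 (flp_f L679190) q16457, e3 q14308 L657576 q12149, e3 q14309 L657589 q13083, e3 q14310 L657599 q13084, e3 q14311 L657613 q12136, e3 q14312 L657626 q12137, e3 q14313 (flp_f L679594) q16493, e3 q14314 (flp_f L679606) q16494, e3 q14315 (flp_f L679619) q16495, e3 q14316 L657652 q13085, e3 q14317 L679721 q16504, e3 q14318 L657670 q13086, e3 q14319 L657683 q12328, e3 q14320 L657689 q12143, e3 q14321 L657698 q12144, e3 q14322 (flp_f L674397) q16074, e3 q14323 (flp_f L674622) q16091, e3 q14324 (flp_f L679012) q16443, e3 q14325 (flp_f L679438) q16479, e3 q14326 (flp_f L679756) q16508, e3 q14327 L657756 q13094, e3 q14328 L679858 q16517, e3 q14329 L657777 q13096, e3 q14330 (flp_f L657781) q12146, e3 q14331 (flp_f L679896) q16521, e3 q14332 L657799 q13099, e3 q14333 (flp_f L679571) q16491, e3 q14334 L657819 q14334, e3 q14335 (flp_f L679533) q16488, trivial⟩ (by decide +kernel)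

theorem ce_f_224 : ∀ r, r < 64 → sm gf (Qf (14336 + r)) = Qf (tab Gen.f (14336 + r)) :=
  edges_tab (sm gf) Qf (tab Gen.f) 14336 [(14336, 12152), (14337, 16526), (14338, 14338), (14339, 14339), (14340, 12156), (14341, 16455), (14342, 16458), (14343, 13113), (14344, 13114), (14345, 13115), (14346, 13124), (14347, 13125), (14348, 16401), (14349, 12386), (14350, 12387), (14351, 12174), (14352, 16535), (14353, 12395), (14354, 12396), (14355, 14355), (14356, 12391), (14357, 16538), (14358, 12398), (14359, 12183), (14360, 16541), (14361, 12187), (14362, 12186), (14363, 16543), (14364, 12189), (14365, 12190), (14366, 12427), (14367, 16545), (14368, 14368), (14369, 14369), (14370, 14370), (14371, 12197), (14372, 12198), (14373, 12199), (14374, 12269), (14375, 12200), (14376, 12729), (14377, 16550), (14378, 15992), (14379, 16551), (14380, 16553), (14381, 14381), (14382, 14382), (14383, 14383), (14384, 13193), (14385, 13071), (14386, 12205), (14387, 16563), (14388, 16564), (14389, 12798), (14390, 12803), (14391, 12418), (14392, 12419),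 (14393, 12210), (14394, 16570), (14395, 16571), (14396, 13129), (14397, 13130), (14398, 12213), (14399, 12214)]
    ⟨e3 q14336 L657836 q12152, e3 q14337 (flp_f L679950) q16526, e3 q14338 L657853 q14338, e3 q14339 L657864 q14339, e3 q14340 L657874 q12156, e3 q14341 (flp_f L679168) q16455, e3 q14342 (flp_f L679200) q16458, e3 q14343 L657909 q13113, e3 q14344 L657923 q13114, e3 q14345 L657934 q13115, e3 q14346 L657947 q13124, e3 q14347 L657958 q13125, e3 q14348 (flp_f L678439) q16401, e3 q14349 L657988 q12386, e3 q14350 L658009 q12387, e3 q14351 L658024 q12174, e3 q14352 (flp_f L680068) q16535, e3 q14353 L658041 q12395, e3 q14354 L658061 q12396, e3 q14355 L658077 q14355, e3 q14356 L658089 q12391, e3 q14357 L680101 q16538, e3 q14358 L658117 q12398, e3 q14359 (flp_f L658121) q12183, e3 q14360 (flp_f L680152) q16541, e3 q14361 L658147 q12187, e3 q14362 L658159 q12186, e3 q14363 (flp_f L680177) q16543, e3 q14364 L658181 q12189, e3 q14365 L658201 q12190, e3 q14366 L658213 q12427, e3 q14367 (flp_f L680210) q16545, e3 q14368 L658236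 q14368, e3 q14369 L658246 q14369, e3 q14370 L658253 q14370, e3 q14371 L658261 q12197, e3 q14372 L658280 q12198, e3 q14373 L658290 q12199, e3 q14374 L658312 q12269, e3 q14375 L658319 q12200, e3 q14376 L658327 q12729, e3 q14377 (flp_f L680281) q16550, e3 q14378 (flp_f L673215) q15992, e3 q14379 (flp_f L680295) q16551, e3 q14380 (flp_f L680319) q16553, e3 q14381 L658376 q14381, e3 q14382 L658386 q14382, e3 q14383 L658394 q14383, e3 q14384 L658409 q13193, e3 q14385 L658420 q13071, e3 q14386 (flp_f L658424) q12205, e3 q14387 (flp_f L680457) q16563, e3 q14388 (flp_f L680472) q16564, e3 q14389 L658467 q12798, e3 q14390 L658478 q12803, e3 q14391 L658489 q12418, e3 q14392 L658500 q12419, e3 q14393 (flp_f L658506) q12210, e3 q14394 (flp_f L680544) q16570, e3 q14395 (flp_f L680559) q16571, e3 q14396 L658543 q13129, e3 q14397 L658553 q13130, e3 q14398 L658565 q12213, e3 q14399 L658577 q12214, trivial⟩ (by decide +kernel)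

theorem ce_f_225 : ∀ r, r < 64 → sm gf (Qf (14400 + r)) = Qf (tab Gen.f (14400 + r)) :=
  edges_tab (sm gf) Qf (tab Gen.f) 14400 [(14400, 16579), (14401, 16580), (14402, 16581), (14403, 13136), (14404, 16102), (14405, 13137), (14406, 12428), (14407, 16591), (14408, 12430), (14409, 16104), (14410, 12222), (14411, 16426), (14412, 12225), (14413, 12226), (14414, 12227), (14415, 16596), (14416, 16597), (14417, 16598), (14418, 13146), (14419, 13147), (14420, 13148), (14421, 14421), (14422, 12232), (14423, 12233), (14424, 16604), (14425, 16605), (14426, 16606), (14427, 13152), (14428, 16615), (14429, 13154), (14430, 16097), (14431, 12238), (14432, 12239), (14433, 12240), (14434, 16619), (14435, 16620), (14436, 16621), (14437, 16627), (14438, 16623), (14439, 13164), (14440, 16633), (14441, 13166), (14442, 12242), (14443, 16637), (14444, 13168), (14445, 12461), (14446, 12246), (14447, 16641), (14448, 12464), (14449, 16640), (14450, 12249), (14451, 16644), (14452, 12469), (14453, 12253), (14454, 12856), (14455, 12258), (14456, 12259),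 (14457, 12260), (14458, 13784), (14459, 12261), (14460, 16649), (14461, 16650), (14462, 16652), (14463, 16654)]
    ⟨e3 q14400 (flp_f L680651) q16579, e3 q14401 (flp_f L680659) q16580, e3 q14402 (flp_f L680671) q16581, e3 q14403 L658613 q13136, e3 q14404 (flp_f L674799) q16102, e3 q14405 L658629 q13137, e3 q14406 L658637 q12428, e3 q14407 L680771 q16591, e3 q14408 L658660 q12430, e3 q14409 (flp_f L674823) q16104, e3 q14410 L658674 q12222, e3 q14411 (flp_f L678801) q16426, e3 q14412 L658698 q12225, e3 q14413 L658707 q12226, e3 q14414 L658721 q12227, e3 q14415 (flp_f L680842) q16596, e3 q14416 (flp_f L680854) q16597, e3 q14417 (flp_f L680870) q16598, e3 q14418 L658760 q13146, e3 q14419 L658770 q13147, e3 q14420 L658777 q13148, e3 q14421 L658795 q14421, e3 q14422 L658801 q12232, e3 q14423 L658808 q12233, e3 q14424 (flp_f L680939) q16604, e3 q14425 (flp_f L680947) q16605, e3 q14426 (flp_f L680956) q16606, e3 q14427 L658838 q13152, e3 q14428 L681030 q16615, e3 q14429 L658852 q13154, e3 q14430 (flp_f L674710) q16097, e3 q14431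 L658870 q12238, e3 q14432 L658876 q12239, e3 q14433 L658886 q12240, e3 q14434 (flp_f L681072) q16619, e3 q14435 (flp_f L681082) q16620, e3 q14436 (flp_f L681090) q16621, e3 q14437 L681130 q16627, e3 q14438 (flp_f L681106) q16623, e3 q14439 L658928 q13164, e3 q14440 L681166 q16633, e3 q14441 L658940 q13166, e3 q14442 (flp_f L658942) q12242, e3 q14443 (flp_f L681208) q16637, e3 q14444 L658958 q13168, e3 q14445 L658966 q12461, e3 q14446 (flp_f L658970) q12246, e3 q14447 (flp_f L681246) q16641, e3 q14448 L658983 q12464, e3 q14449 (flp_f L681238) q16640, e3 q14450 L659009 q12249, e3 q14451 (flp_f L681275) q16644, e3 q14452 L659026 q12469, e3 q14453 L659036 q12253, e3 q14454 L659045 q12856, e3 q14455 L659057 q12258, e3 q14456 L659070 q12259, e3 q14457 L659078 q12260, e3 q14458 L659094 q13784, e3 q14459 L659102 q12261, e3 q14460 (flp_f L681337) q16649, e3 q14461 (flp_f L681345) q16650, e3 q14462 (flp_f L681371) q16652, e3 q14463 (flp_f L681393) q16654, trivial⟩ (by decide +kernel)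

theorem ce_f_226 : ∀ r, r < 64 → sm gf (Qf (14464 + r)) = Qf (tab Gen.f (14464 + r)) :=
  edges_tab (sm gf) Qf (tab Gen.f) 14464 [(14464, 13178), (14465, 13179), (14466, 13180), (14467, 12857), (14468, 12660), (14469, 12272), (14470, 12273), (14471, 12726), (14472, 12274), (14473, 16552), (14474, 12275), (14475, 13255), (14476, 13274), (14477, 16662), (14478, 16663), (14479, 16665), (14480, 16667), (14481, 13183), (14482, 13184), (14483, 13185), (14484, 13139), (14485, 12280), (14486, 16578), (14487, 16674), (14488, 13153), (14489, 13186), (14490, 12283), (14491, 12284), (14492, 16679), (14493, 16680), (14494, 16681), (14495, 13165), (14496, 13167), (14497, 12511), (14498, 14498), (14499, 12290), (14500, 12291), (14501, 16691), (14502, 16692), (14503, 16693), (14504, 13191), (14505, 16063), (14506, 13192), (14507, 16471), (14508, 12296), (14509, 12297), (14510, 12298), (14511, 16705), (14512, 16706), (14513, 16707), (14514, 16716), (14515, 16709), (14516, 13201), (14517, 16075), (14518, 13202), (14519, 16077), (14520, 13203),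 (14521, 16725), (14522, 12535), (14523, 12304), (14524, 16728), (14525, 12538), (14526, 16084), (14527, 16093)]
    ⟨e3 q14464 L659140 q13178, e3 q14465 L659149 q13179, e3 q14466 L659155 q13180, e3 q14467 L659167 q12857, e3 q14468 L659187 q12660, e3 q14469 L659196 q12272, e3 q14470 L659206 q12273, e3 q14471 L659225 q12726, e3 q14472 L659234 q12274, e3 q14473 (flp_f L680311) q16552, e3 q14474 L659252 q12275, e3 q14475 L659263 q13255, e3 q14476 L659277 q13274, e3 q14477 (flp_f L681480) q16662, e3 q14478 (flp_f L681493) q16663, e3 q14479 (flp_f L681520) q16665, e3 q14480 (flp_f L681546) q16667, e3 q14481 L659326 q13183, e3 q14482 L659332 q13184, e3 q14483 L659338 q13185, e3 q14484 L659364 q13139, e3 q14485 (flp_f L659366) q12280, e3 q14486 (flp_f L680639) q16578, e3 q14487 (flp_f L681632) q16674, e3 q14488 L659406 q13153, e3 q14489 L659421 q13186, e3 q14490 L659430 q12283, e3 q14491 L659439 q12284, e3 q14492 (flp_f L681691) q16679, e3 q14493 (flp_f L681699) q16680, e3 q14494 (flp_f L681710) q16681, e3 q14495 L659475 q13165,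 e3 q14496 L659486 q13167, e3 q14497 L659497 q12511, e3 q14498 L659516 q14498, e3 q14499 L659524 q12290, e3 q14500 L659531 q12291, e3 q14501 (flp_f L681815) q16691, e3 q14502 (flp_f L681823) q16692, e3 q14503 (flp_f L681834) q16693, e3 q14504 L659563 q13191, e3 q14505 (flp_f L674255) q16063, e3 q14506 L659581 q13192, e3 q14507 (flp_f L679353) q16471, e3 q14508 L659601 q12296, e3 q14509 L659609 q12297, e3 q14510 L659621 q12298, e3 q14511 (flp_f L681945) q16705, e3 q14512 (flp_f L681957) q16706, e3 q14513 (flp_f L681965) q16707, e3 q14514 L682044 q16716, e3 q14515 (flp_f L681985) q16709, e3 q14516 L659669 q13201, e3 q14517 (flp_f L674410) q16075, e3 q14518 L659686 q13202, e3 q14519 (flp_f L674432) q16077, e3 q14520 L659700 q13203, e3 q14521 L682120 q16725, e3 q14522 L659723 q12535, e3 q14523 (flp_f L659729) q12304, e3 q14524 (flp_f L682166) q16728, e3 q14525 L659751 q12538, e3 q14526 (flp_f L674521) q16084, e3 q14527 (flp_f L674648) q16093, trivial⟩ (by decide +kernel)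

theorem ce_f_227 : ∀ r, r < 64 → sm gf (Qf (14528 + r)) = Qf (tab Gen.f (14528 + r)) :=
  edges_tab (sm gf) Qf (tab Gen.f) 14528 [(14528, 12312), (14529, 12313), (14530, 12314), (14531, 14531), (14532, 12315), (14533, 16732), (14534, 16734), (14535, 16735), (14536, 16736), (14537, 16738), (14538, 13213), (14539, 13214), (14540, 13215), (14541, 14541), (14542, 14542), (14543, 13758), (14544, 12322), (14545, 12323), (14546, 12324), (14547, 16752), (14548, 16753), (14549, 16754), (14550, 16763), (14551, 16756), (14552, 13221), (14553, 16587), (14554, 13223), (14555, 12326), (14556, 16770), (14557, 13226), (14558, 16088), (14559, 12332), (14560, 12333), (14561, 12334), (14562, 16780), (14563, 12336), (14564, 16774), (14565, 16785), (14566, 16776), (14567, 16777), (14568, 16791), (14569, 16779), (14570, 12335), (14571, 16795), (14572, 16782), (14573, 13241), (14574, 16575), (14575, 13243), (14576, 12338), (14577, 16801), (14578, 13246), (14579, 16794), (14580, 12341), (14581, 16806), (14582, 12343), (14583, 16808), (14584, 12595),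 (14585, 12348), (14586, 12346), (14587, 16812), (14588, 16810), (14589, 16811), (14590, 12350), (14591, 16816)]
    ⟨e3 q14528 L659780 q12312, e3 q14529 L659792 q12313, e3 q14530 L659800 q12314, e3 q14531 L659815 q14531, e3 q14532 L659823 q12315, e3 q14533 (flp_f L682198) q16732, e3 q14534 (flp_f L682221) q16734, e3 q14535 (flp_f L682229) q16735, e3 q14536 (flp_f L682241) q16736, e3 q14537 (flp_f L682262) q16738, e3 q14538 L659878 q13213, e3 q14539 L659889 q13214, e3 q14540 L659898 q13215, e3 q14541 L659910 q14541, e3 q14542 L659920 q14542, e3 q14543 L659932 q13758, e3 q14544 L659939 q12322, e3 q14545 L659945 q12323, e3 q14546 L659954 q12324, e3 q14547 (flp_f L682401) q16752, e3 q14548 (flp_f L682410) q16753, e3 q14549 (flp_f L682416) q16754, e3 q14550 L682499 q16763, e3 q14551 (flp_f L682433) q16756, e3 q14552 L659993 q13221, e3 q14553 (flp_f L680739) q16587, e3 q14554 L660018 q13223, e3 q14555 (flp_f L660020) q12326, e3 q14556 (flp_f L682560) q16770, e3 q14557 L660034 q13226, e3 q14558 (flp_f L674579) q16088, e3 q14559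 L660050 q12332, e3 q14560 L660060 q12333, e3 q14561 L660066 q12334, e3 q14562 L682636 q16780, e3 q14563 L660082 q12336, e3 q14564 (flp_f L682586) q16774, e3 q14565 L682679 q16785, e3 q14566 (flp_f L682604) q16776, e3 q14567 (flp_f L682612) q16777, e3 q14568 L682744 q16791, e3 q14569 (flp_f L682632) q16779, e3 q14570 (flp_f L660137) q12335, e3 q14571 (flp_f L682774) q16795, e3 q14572 (flp_f L682652) q16782, e3 q14573 L660159 q13241, e3 q14574 (flp_f L680595) q16575, e3 q14575 L660182 q13243, e3 q14576 (flp_f L660184) q12338, e3 q14577 (flp_f L682825) q16801, e3 q14578 L660202 q13246, e3 q14579 (flp_f L682768) q16794, e3 q14580 L660216 q12341, e3 q14581 (flp_f L682857) q16806, e3 q14582 (flp_f L660222) q12343, e3 q14583 (flp_f L682870) q16808, e3 q14584 L660248 q12595, e3 q14585 L660261 q12348, e3 q14586 L660268 q12346, e3 q14587 (flp_f L682908) q16812, e3 q14588 (flp_f L682891) q16810, e3 q14589 (flp_f L682899) q16811, e3 q14590 L660296 q12350, e3 q14591 (flp_f L682939) q16816, trivial⟩ (by decide +kernel)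

theorem ce_f_228 : ∀ r, r < 64 → sm gf (Qf (14592 + r)) = Qf (tab Gen.f (14592 + r)) :=
  edges_tab (sm gf) Qf (tab Gen.f) 14592 [(14592, 12603), (14593, 12604), (14594, 16094), (14595, 12360), (14596, 14596), (14597, 12361), (14598, 12362), (14599, 14599), (14600, 12363), (14601, 14601), (14602, 12364), (14603, 16819), (14604, 16821), (14605, 16822), (14606, 16824), (14607, 16827), (14608, 13271), (14609, 13272), (14610, 13273), (14611, 14611), (14612, 12376), (14613, 12377), (14614, 14614), (14615, 12378), (14616, 14616), (14617, 12379), (14618, 14618), (14619, 16838), (14620, 16840), (14621, 13293), (14622, 13294), (14623, 12385), (14624, 16222), (14625, 16648), (14626, 16534), (14627, 13372), (14628, 12390), (14629, 13371), (14630, 16536), (14631, 12397), (14632, 16848), (14633, 16540), (14634, 16847), (14635, 12400), (14636, 16851), (14637, 13662), (14638, 12404), (14639, 16853), (14640, 12490), (14641, 12414), (14642, 12415), (14643, 16854), (14644, 16855), (14645, 16856), (14646, 12937), (14647, 12939), (14648, 16569),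 (14649, 14649), (14650, 12422), (14651, 12423), (14652, 12424), (14653, 16864), (14654, 16865), (14655, 16870)]
    ⟨e3 q14592 L660307 q12603, e3 q14593 L660318 q12604, e3 q14594 (flp_f L674664) q16094, e3 q14595 L660339 q12360, e3 q14596 L660355 q14596, e3 q14597 L660362 q12361, e3 q14598 L660368 q12362, e3 q14599 L660384 q14599, e3 q14600 L660389 q12363, e3 q14601 L660401 q14601, e3 q14602 L660408 q12364, e3 q14603 (flp_f L682962) q16819, e3 q14604 (flp_f L682981) q16821, e3 q14605 (flp_f L682990) q16822, e3 q14606 (flp_f L683015) q16824, e3 q14607 (flp_f L683041) q16827, e3 q14608 L660470 q13271, e3 q14609 L660479 q13272, e3 q14610 L660484 q13273, e3 q14611 L660496 q14611, e3 q14612 L660504 q12376, e3 q14613 L660513 q12377, e3 q14614 L660532 q14614, e3 q14615 L660539 q12378, e3 q14616 L660554 q14616, e3 q14617 L660564 q12379, e3 q14618 L660578 q14618, e3 q14619 (flp_f L683148) q16838, e3 q14620 (flp_f L683171) q16840, e3 q14621 L660612 q13293, e3 q14622 L660619 q13294, e3 q14623 L660641 q12385, e3 q14624 (flp_f L676360)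 q16222, e3 q14625 (flp_f L681329) q16648, e3 q14626 (flp_f L680052) q16534, e3 q14627 L660689 q13372, e3 q14628 L660698 q12390, e3 q14629 L660714 q13371, e3 q14630 (flp_f L680083) q16536, e3 q14631 (flp_f L660733) q12397, e3 q14632 (flp_f L683280) q16848, e3 q14633 (flp_f L680137) q16540, e3 q14634 (flp_f L683269) q16847, e3 q14635 L660790 q12400, e3 q14636 (flp_f L683322) q16851, e3 q14637 L660810 q13662, e3 q14638 L660821 q12404, e3 q14639 (flp_f L683345) q16853, e3 q14640 L660841 q12490, e3 q14641 L660857 q12414, e3 q14642 L660868 q12415, e3 q14643 (flp_f L683357) q16854, e3 q14644 (flp_f L683367) q16855, e3 q14645 (flp_f L683380) q16856, e3 q14646 L660913 q12937, e3 q14647 L660929 q12939, e3 q14648 (flp_f L680525) q16569, e3 q14649 L660954 q14649, e3 q14650 L660963 q12422, e3 q14651 L660971 q12423, e3 q14652 L660985 q12424, e3 q14653 (flp_f L683476) q16864, e3 q14654 (flp_f L683490) q16865, e3 q14655 L683542 q16870, trivial⟩ (by decide +kernel)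

theorem ce_f_229 : ∀ r, r < 64 → sm gf (Qf (14656 + r)) = Qf (tab Gen.f (14656 + r)) :=
  edges_tab (sm gf) Qf (tab Gen.f) 14656 [(14656, 16867), (14657, 16239), (14658, 13303), (14659, 16651), (14660, 16546), (14661, 12429), (14662, 16876), (14663, 16593), (14664, 16245), (14665, 14665), (14666, 12436), (14667, 14667), (14668, 14668), (14669, 14669), (14670, 12440), (14671, 12441), (14672, 12442), (14673, 16884), (14674, 16885), (14675, 16890), (14676, 16887), (14677, 16238), (14678, 13316), (14679, 14679), (14680, 12449), (14681, 12450), (14682, 12451), (14683, 16902), (14684, 12453), (14685, 16896), (14686, 16906), (14687, 16898), (14688, 16899), (14689, 16910), (14690, 16901), (14691, 12452), (14692, 16914), (14693, 16904), (14694, 13333), (14695, 16228), (14696, 13335), (14697, 16913), (14698, 12458), (14699, 16920), (14700, 12460), (14701, 16923), (14702, 16639), (14703, 12465), (14704, 12463), (14705, 16927), (14706, 16925), (14707, 16926), (14708, 12467), (14709, 16931), (14710, 13648), (14711, 16646), (14712, 14712),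 (14713, 14713), (14714, 12477), (14715, 12659), (14716, 12478), (14717, 12479), (14718, 13375), (14719, 12480)]
    ⟨e3 q14656 (flp_f L683514) q16867, e3 q14657 (flp_f L676590) q16239, e3 q14658 L661054 q13303, e3 q14659 (flp_f L681365) q16651, e3 q14660 (flp_f L680225) q16546, e3 q14661 (flp_f L661080) q12429, e3 q14662 (flp_f L683612) q16876, e3 q14663 (flp_f L680802) q16593, e3 q14664 (flp_f L676676) q16245, e3 q14665 L661115 q14665, e3 q14666 L661129 q12436, e3 q14667 L661143 q14667, e3 q14668 L661154 q14668, e3 q14669 L661167 q14669, e3 q14670 L661176 q12440, e3 q14671 L661184 q12441, e3 q14672 L661198 q12442, e3 q14673 (flp_f L683691) q16884, e3 q14674 (flp_f L683705) q16885, e3 q14675 L683756 q16890, e3 q14676 (flp_f L683729) q16887, e3 q14677 (flp_f L676575) q16238, e3 q14678 L661264 q13316, e3 q14679 L661275 q14679, e3 q14680 L661282 q12449, e3 q14681 L661290 q12450, e3 q14682 L661300 q12451, e3 q14683 L683879 q16902, e3 q14684 L661316 q12453, e3 q14685 (flp_f L683821) q16896, e3 q14686 L683912 q16906, e3 q14687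 (flp_f L683839) q16898, e3 q14688 (flp_f L683847) q16899, e3 q14689 L683952 q16910, e3 q14690 (flp_f L683875) q16901, e3 q14691 (flp_f L661391) q12452, e3 q14692 (flp_f L684006) q16914, e3 q14693 (flp_f L683891) q16904, e3 q14694 L661419 q13333, e3 q14695 (flp_f L676445) q16228, e3 q14696 L661441 q13335, e3 q14697 (flp_f L684000) q16913, e3 q14698 L661464 q12458, e3 q14699 (flp_f L684071) q16920, e3 q14700 (flp_f L661472) q12460, e3 q14701 (flp_f L684095) q16923, e3 q14702 (flp_f L681218) q16639, e3 q14703 L661501 q12465, e3 q14704 L661505 q12463, e3 q14705 (flp_f L684132) q16927, e3 q14706 (flp_f L684119) q16925, e3 q14707 (flp_f L684126) q16926, e3 q14708 L661540 q12467, e3 q14709 (flp_f L684168) q16931, e3 q14710 L661560 q13648, e3 q14711 (flp_f L681291) q16646, e3 q14712 L661578 q14712, e3 q14713 L661591 q14713, e3 q14714 L661602 q12477, e3 q14715 L661626 q12659, e3 q14716 L661636 q12478, e3 q14717 L661644 q12479, e3 q14718 L661672 q13375, e3 q14719 L661680 q12480, trivial⟩ (by decide +kernel)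

theorem ce_f_230 : ∀ r, r < 64 → sm gf (Qf (14720 + r)) = Qf (tab Gen.f (14720 + r)) :=
  edges_tab (sm gf) Qf (tab Gen.f) 14720 [(14720, 13785), (14721, 16936), (14722, 16938), (14723, 14723), (14724, 12492), (14725, 12495), (14726, 12493), (14727, 12494), (14728, 16937), (14729, 16661), (14730, 14730), (14731, 12500), (14732, 12501), (14733, 16941), (14734, 16942), (14735, 16943), (14736, 13315), (14737, 14737), (14738, 12506), (14739, 12507), (14740, 12508), (14741, 16949), (14742, 16950), (14743, 16951), (14744, 16953), (14745, 13334), (14746, 13336), (14747, 14747), (14748, 14748), (14749, 14749), (14750, 12515), (14751, 12516), (14752, 12517), (14753, 16963), (14754, 16964), (14755, 16969), (14756, 16966), (14757, 16168), (14758, 13386), (14759, 14759), (14760, 12524), (14761, 12525), (14762, 12526), (14763, 16981), (14764, 12528), (14765, 16975), (14766, 16986), (14767, 16977), (14768, 16978), (14769, 16990), (14770, 16980), (14771, 12527), (14772, 16993), (14773, 16983), (14774, 13399), (14775, 16186), (14776, 13400),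 (14777, 16188), (14778, 12534), (14779, 16999), (14780, 16727), (14781, 12537), (14782, 17001), (14783, 16194)]
    ⟨e3 q14720 L661694 q13785, e3 q14721 (flp_f L684234) q16936, e3 q14722 (flp_f L684268) q16938, e3 q14723 L661740 q14723, e3 q14724 L661756 q12492, e3 q14725 L661771 q12495, e3 q14726 L661788 q12493, e3 q14727 L661806 q12494, e3 q14728 (flp_f L684250) q16937, e3 q14729 (flp_f L681469) q16661, e3 q14730 L661851 q14730, e3 q14731 L661864 q12500, e3 q14732 L661876 q12501, e3 q14733 (flp_f L684316) q16941, e3 q14734 (flp_f L684326) q16942, e3 q14735 (flp_f L684338) q16943, e3 q14736 L661915 q13315, e3 q14737 L661925 q14737, e3 q14738 L661933 q12506, e3 q14739 L661941 q12507, e3 q14740 L661950 q12508, e3 q14741 (flp_f L684400) q16949, e3 q14742 (flp_f L684409) q16950, e3 q14743 (flp_f L684415) q16951, e3 q14744 (flp_f L684432) q16953, e3 q14745 L661989 q13334, e3 q14746 L661996 q13336, e3 q14747 L662009 q14747, e3 q14748 L662022 q14748, e3 q14749 L662039 q14749, e3 q14750 L662048 q12515, e3 q14751 L662056 q12516,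 e3 q14752 L662070 q12517, e3 q14753 (flp_f L684529) q16963, e3 q14754 (flp_f L684543) q16964, e3 q14755 L684594 q16969, e3 q14756 (flp_f L684567) q16966, e3 q14757 (flp_f L675682) q16168, e3 q14758 L662136 q13386, e3 q14759 L662149 q14759, e3 q14760 L662158 q12524, e3 q14761 L662168 q12525, e3 q14762 L662176 q12526, e3 q14763 L684721 q16981, e3 q14764 L662196 q12528, e3 q14765 (flp_f L684661) q16975, e3 q14766 L684770 q16986, e3 q14767 (flp_f L684683) q16977, e3 q14768 (flp_f L684691) q16978, e3 q14769 L684806 q16990, e3 q14770 (flp_f L684717) q16980, e3 q14771 (flp_f L662262) q12527, e3 q14772 (flp_f L684844) q16993, e3 q14773 (flp_f L684739) q16983, e3 q14774 L662290 q13399, e3 q14775 (flp_f L675897) q16186, e3 q14776 L662309 q13400, e3 q14777 (flp_f L675917) q16188, e3 q14778 (flp_f L662323) q12534, e3 q14779 (flp_f L684895) q16999, e3 q14780 (flp_f L682152) q16727, e3 q14781 L662355 q12537, e3 q14782 (flp_f L684915) q17001, e3 q14783 (flp_f L675986) q16194, trivial⟩ (by decide +kernel)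

theorem ce_f_231 : ∀ r, r < 64 → sm gf (Qf (14784 + r)) = Qf (tab Gen.f (14784 + r)) :=
  edges_tab (sm gf) Qf (tab Gen.f) 14784 [(14784, 14784), (14785, 14785), (14786, 12546), (14787, 14787), (14788, 12547), (14789, 12548), (14790, 14790), (14791, 12549), (14792, 14792), (14793, 17008), (14794, 17010), (14795, 17012), (14796, 13414), (14797, 13523), (14798, 14798), (14799, 14799), (14800, 14800), (14801, 14801), (14802, 12558), (14803, 12559), (14804, 12560), (14805, 17030), (14806, 12562), (14807, 17024), (14808, 17036), (14809, 17026), (14810, 17027), (14811, 17040), (14812, 17029), (14813, 12561), (14814, 17044), (14815, 17032), (14816, 13436), (14817, 12564), (14818, 17048), (14819, 13439), (14820, 17043), (14821, 12567), (14822, 17052), (14823, 14823), (14824, 14824), (14825, 12575), (14826, 17060), (14827, 12577), (14828, 12578), (14829, 17067), (14830, 12580), (14831, 12573), (14832, 17071), (14833, 12583), (14834, 17057), (14835, 17076), (14836, 17059), (14837, 12576), (14838, 17080), (14839, 17062), (14840, 17063),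 (14841, 17083), (14842, 17065), (14843, 12579), (14844, 17087), (14845, 17069), (14846, 12590), (14847, 12582)]
    ⟨e3 q14784 L662378 q14784, e3 q14785 L662390 q14785, e3 q14786 L662399 q12546, e3 q14787 L662416 q14787, e3 q14788 L662424 q12547, e3 q14789 L662432 q12548, e3 q14790 L662451 q14790, e3 q14791 L662458 q12549, e3 q14792 L662471 q14792, e3 q14793 (flp_f L684993) q17008, e3 q14794 (flp_f L685014) q17010, e3 q14795 (flp_f L685041) q17012, e3 q14796 L662522 q13414, e3 q14797 (flp_f L662541) q13523, e3 q14798 L662549 q14798, e3 q14799 L662554 q14799, e3 q14800 L662563 q14800, e3 q14801 L662570 q14801, e3 q14802 L662577 q12558, e3 q14803 L662587 q12559, e3 q14804 L662595 q12560, e3 q14805 L685209 q17030, e3 q14806 L662613 q12562, e3 q14807 (flp_f L685155) q17024, e3 q14808 L685264 q17036, e3 q14809 (flp_f L685173) q17026, e3 q14810 (flp_f L685181) q17027, e3 q14811 L685294 q17040, e3 q14812 (flp_f L685205) q17029, e3 q14813 (flp_f L662673) q12561, e3 q14814 (flp_f L685338) q17044, e3 q14815 (flp_f L685223) q17032,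 e3 q14816 L662697 q13436, e3 q14817 (flp_f L662700) q12564, e3 q14818 (flp_f L685385) q17048, e3 q14819 L662732 q13439, e3 q14820 (flp_f L685333) q17043, e3 q14821 L662751 q12567, e3 q14822 (flp_f L685418) q17052, e3 q14823 L662763 q14823, e3 q14824 L662772 q14824, e3 q14825 L662779 q12575, e3 q14826 L685477 q17060, e3 q14827 L662793 q12577, e3 q14828 L662801 q12578, e3 q14829 L685525 q17067, e3 q14830 L662817 q12580, e3 q14831 (flp_f L662821) q12573, e3 q14832 (flp_f L685557) q17071, e3 q14833 L662833 q12583, e3 q14834 (flp_f L685457) q17057, e3 q14835 L685595 q17076, e3 q14836 (flp_f L685473) q17059, e3 q14837 (flp_f L662861) q12576, e3 q14838 (flp_f L685628) q17080, e3 q14839 (flp_f L685491) q17062, e3 q14840 (flp_f L685499) q17063, e3 q14841 L685647 q17083, e3 q14842 (flp_f L685515) q17065, e3 q14843 (flp_f L662902) q12579, e3 q14844 (flp_f L685679) q17087, e3 q14845 (flp_f L685543) q17069, e3 q14846 L662926 q12590, e3 q14847 L662932 q12582, trivial⟩ (by decide +kernel)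

theorem ce_f_232 : ∀ r, r < 64 → sm gf (Qf (14848 + r)) = Qf (tab Gen.f (14848 + r)) :=
  edges_tab (sm gf) Qf (tab Gen.f) 14848 [(14848, 17092), (14849, 13470), (14850, 12585), (14851, 17096), (14852, 13473), (14853, 17086), (14854, 12588), (14855, 17101), (14856, 13477), (14857, 17090), (14858, 17091), (14859, 12592), (14860, 17106), (14861, 14861), (14862, 12594), (14863, 17110), (14864, 12599), (14865, 12600), (14866, 12598), (14867, 17114), (14868, 17112), (14869, 17113), (14870, 12602), (14871, 17118), (14872, 13650), (14873, 14873), (14874, 12725), (14875, 14875), (14876, 12615), (14877, 14877), (14878, 12616), (14879, 14879), (14880, 12617), (14881, 12618), (14882, 14882), (14883, 12619), (14884, 14884), (14885, 14885), (14886, 12620), (14887, 14887), (14888, 17125), (14889, 17127), (14890, 17130), (14891, 17133), (14892, 17136), (14893, 17140), (14894, 13506), (14895, 13507), (14896, 16167), (14897, 14897), (14898, 14898), (14899, 12641), (14900, 14900), (14901, 12639), (14902, 14902), (14903, 12640), (14904, 14904),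 (14905, 12642), (14906, 14906), (14907, 14907), (14908, 12643), (14909, 14909), (14910, 12644), (14911, 14911)]
    ⟨e3 q14848 (flp_f L685717) q17092, e3 q14849 L662946 q13470, e3 q14850 (flp_f L662949) q12585, e3 q14851 (flp_f L685756) q17096, e3 q14852 L662975 q13473, e3 q14853 (flp_f L685672) q17086, e3 q14854 L662992 q12588, e3 q14855 (flp_f L685800) q17101, e3 q14856 L663006 q13477, e3 q14857 (flp_f L685705) q17090, e3 q14858 (flp_f L685711) q17091, e3 q14859 L663034 q12592, e3 q14860 (flp_f L685835) q17106, e3 q14861 L663046 q14861, e3 q14862 L663050 q12594, e3 q14863 (flp_f L685861) q17110, e3 q14864 L663066 q12599, e3 q14865 L663072 q12600, e3 q14866 L663079 q12598, e3 q14867 (flp_f L685889) q17114, e3 q14868 (flp_f L685875) q17112, e3 q14869 (flp_f L685882) q17113, e3 q14870 L663105 q12602, e3 q14871 (flp_f L685916) q17118, e3 q14872 L663117 q13650, e3 q14873 L663127 q14873, e3 q14874 (flp_f L663144) q12725, e3 q14875 L663152 q14875, e3 q14876 L663159 q12615, e3 q14877 L663175 q14877, e3 q14878 L663180 q12616, e3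 q14879 L663190 q14879, e3 q14880 L663199 q12617, e3 q14881 L663211 q12618, e3 q14882 L663227 q14882, e3 q14883 L663234 q12619, e3 q14884 L663240 q14884, e3 q14885 L663249 q14885, e3 q14886 L663258 q12620, e3 q14887 L663272 q14887, e3 q14888 (flp_f L686003) q17125, e3 q14889 (flp_f L686036) q17127, e3 q14890 (flp_f L686060) q17130, e3 q14891 (flp_f L686100) q17133, e3 q14892 (flp_f L686132) q17136, e3 q14893 (flp_f L686171) q17140, e3 q14894 L663350 q13506, e3 q14895 L663359 q13507, e3 q14896 (flp_f L675668) q16167, e3 q14897 L663378 q14897, e3 q14898 L663394 q14898, e3 q14899 L663408 q12641, e3 q14900 L663423 q14900, e3 q14901 L663434 q12639, e3 q14902 L663459 q14902, e3 q14903 L663464 q12640, e3 q14904 L663479 q14904, e3 q14905 L663487 q12642, e3 q14906 L663497 q14906, e3 q14907 L663512 q14907, e3 q14908 L663523 q12643, e3 q14909 L663538 q14909, e3 q14910 L663548 q12644, e3 q14911 L663559 q14911, trivial⟩ (by decide +kernel)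

theorem ce_f_233 : ∀ r, r < 64 → sm gf (Qf (14912 + r)) = Qf (tab Gen.f (14912 + r)) :=
  edges_tab (sm gf) Qf (tab Gen.f) 14912 [(14912, 17148), (14913, 17123), (14914, 16666), (14915, 17150), (14916, 17152), (14917, 16554), (14918, 13525), (14919, 14919), (14920, 14920), (14921, 14921), (14922, 14922), (14923, 12653), (14924, 14924), (14925, 14925), (14926, 14926), (14927, 12666), (14928, 14928), (14929, 12724), (14930, 14930), (14931, 12672), (14932, 14932), (14933, 14933), (14934, 13365), (14935, 14935), (14936, 14936), (14937, 14937), (14938, 13038), (14939, 14939), (14940, 14940), (14941, 12683), (14942, 12684), (14943, 12685), (14944, 13500), (14945, 12686), (14946, 13510), (14947, 17173), (14948, 17174), (14949, 17175), (14950, 17177), (14951, 13557), (14952, 14952), (14953, 12693), (14954, 12694), (14955, 13538), (14956, 13564), (14957, 14957), (14958, 12711), (14959, 14959), (14960, 12710), (14961, 14961), (14962, 12712), (14963, 12713), (14964, 12714), (14965, 14965), (14966, 14966), (14967, 14967), (14968, 12715),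 (14969, 14969), (14970, 17162), (14971, 17121), (14972, 17184), (14973, 17185), (14974, 17186), (14975, 17195)]
    ⟨e3 q14912 (flp_f L686266) q17148, e3 q14913 (flp_f L685974) q17123, e3 q14914 (flp_f L681535) q16666, e3 q14915 (flp_f L686295) q17150, e3 q14916 (flp_f L686322) q17152, e3 q14917 (flp_f L680332) q16554, e3 q14918 (flp_f L663631) q13525, e3 q14919 L663640 q14919, e3 q14920 L663648 q14920, e3 q14921 L663661 q14921, e3 q14922 L663671 q14922, e3 q14923 L663685 q12653, e3 q14924 L663699 q14924, e3 q14925 L663712 q14925, e3 q14926 L663728 q14926, e3 q14927 L663741 q12666, e3 q14928 L663751 q14928, e3 q14929 (flp_f L663774) q12724, e3 q14930 L663790 q14930, e3 q14931 L663796 q12672, e3 q14932 L663819 q14932, e3 q14933 L663826 q14933, e3 q14934 L663843 q13365, e3 q14935 L663854 q14935, e3 q14936 L663865 q14936, e3 q14937 L663870 q14937, e3 q14938 (flp_f L663886) q13038, e3 q14939 L663893 q14939, e3 q14940 L663899 q14940, e3 q14941 L663910 q12683, e3 q14942 L663925 q12684, e3 q14943 L663933 q12685, e3 q14944 L663952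 q13500, e3 q14945 L663960 q12686, e3 q14946 L663973 q13510, e3 q14947 (flp_f L686585) q17173, e3 q14948 (flp_f L686602) q17174, e3 q14949 (flp_f L686611) q17175, e3 q14950 (flp_f L686643) q17177, e3 q14951 L664039 q13557, e3 q14952 L664050 q14952, e3 q14953 L664065 q12693, e3 q14954 L664079 q12694, e3 q14955 L664104 q13538, e3 q14956 L664110 q13564, e3 q14957 L664123 q14957, e3 q14958 (flp_f L664148) q12711, e3 q14959 L664164 q14959, e3 q14960 L664177 q12710, e3 q14961 L664191 q14961, e3 q14962 L664205 q12712, e3 q14963 L664221 q12713, e3 q14964 L664233 q12714, e3 q14965 L664240 q14965, e3 q14966 L664254 q14966, e3 q14967 L664267 q14967, e3 q14968 L664274 q12715, e3 q14969 L664288 q14969, e3 q14970 L686465 q17162, e3 q14971 L685957 q17121, e3 q14972 (flp_f L686735) q17184, e3 q14973 (flp_f L686753) q17185, e3 q14974 (flp_f L686761) q17186, e3 q14975 L686849 q17195, trivial⟩ (by decide +kernel)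

theorem ce_f_234 : ∀ r, r < 64 → sm gf (Qf (14976 + r)) = Qf (tab Gen.f (14976 + r)) :=
  edges_tab (sm gf) Qf (tab Gen.f) 14976 [(14976, 12727), (14977, 12728), (14978, 17005), (14979, 16664), (14980, 13579), (14981, 16021), (14982, 16022), (14983, 16028), (14984, 16035), (14985, 16036), (14986, 16407), (14987, 16038), (14988, 16408), (14989, 12753), (14990, 13578), (14991, 16046), (14992, 12759), (14993, 12760), (14994, 16024), (14995, 17202), (14996, 13058), (14997, 17207), (14998, 16048), (14999, 12762), (15000, 17210), (15001, 16051), (15002, 12765), (15003, 15003), (15004, 15004), (15005, 16023), (15006, 16025), (15007, 13059), (15008, 13052), (15009, 12777), (15010, 17212), (15011, 17213), (15012, 16062), (15013, 16064), (15014, 12782), (15015, 12783), (15016, 17218), (15017, 16076), (15018, 16078), (15019, 16092), (15020, 12791), (15021, 17222), (15022, 17223), (15023, 16103), (15024, 12796), (15025, 12797), (15026, 17228), (15027, 17227), (15028, 16568), (15029, 16112), (15030, 12801), (15031, 17232), (15032, 13633),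 (15033, 12808), (15034, 12809), (15035, 12810), (15036, 17234), (15037, 17233), (15038, 12813), (15039, 12814)]
    ⟨e3 q14976 L664366 q12727, e3 q14977 L664374 q12728, e3 q14978 L684956 q17005, e3 q14979 (flp_f L681512) q16664, e3 q14980 L664403 q13579, e3 q14981 (flp_f L673587) q16021, e3 q14982 (flp_f L673606) q16022, e3 q14983 (flp_f L673704) q16028, e3 q14984 (flp_f L673807) q16035, e3 q14985 (flp_f L673828) q16036, e3 q14986 (flp_f L678525) q16407, e3 q14987 (flp_f L673864) q16038, e3 q14988 (flp_f L678544) q16408, e3 q14989 L664530 q12753, e3 q14990 L664546 q13578, e3 q14991 (flp_f L673999) q16046, e3 q14992 L664570 q12759, e3 q14993 L664583 q12760, e3 q14994 (flp_f L673640) q16024, e3 q14995 (flp_f L686938) q17202, e3 q14996 L664617 q13058, e3 q14997 L686991 q17207, e3 q14998 (flp_f L674031) q16048, e3 q14999 (flp_f L664642) q12762, e3 q15000 (flp_f L687027) q17210, e3 q15001 (flp_f L674073) q16051, e3 q15002 L664677 q12765, e3 q15003 L664686 q15003, e3 q15004 L664698 q15004, e3 q15005 (flp_f L673624) q16023, e3 q15006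 (flp_f L673660) q16025, e3 q15007 L664730 q13059, e3 q15008 L664744 q13052, e3 q15009 L664760 q12777, e3 q15010 (flp_f L687049) q17212, e3 q15011 (flp_f L687065) q17213, e3 q15012 (flp_f L674234) q16062, e3 q15013 (flp_f L674267) q16064, e3 q15014 L664818 q12782, e3 q15015 L664830 q12783, e3 q15016 (flp_f L687127) q17218, e3 q15017 (flp_f L674420) q16076, e3 q15018 (flp_f L674440) q16078, e3 q15019 (flp_f L674633) q16092, e3 q15020 L664883 q12791, e3 q15021 (flp_f L687165) q17222, e3 q15022 (flp_f L687180) q17223, e3 q15023 (flp_f L674811) q16103, e3 q15024 L664930 q12796, e3 q15025 L664940 q12797, e3 q15026 L687224 q17228, e3 q15027 (flp_f L687222) q17227, e3 q15028 (flp_f L680516) q16568, e3 q15029 (flp_f L674943) q16112, e3 q15030 (flp_f L664982) q12801, e3 q15031 (flp_f L687277) q17232, e3 q15032 L665017 q13633, e3 q15033 L665030 q12808, e3 q15034 L665047 q12809, e3 q15035 L665062 q12810, e3 q15036 (flp_f L687309) q17234, e3 q15037 (flp_f L687292) q17233, e3 q15038 L665098 q12813, e3 q15039 L665112 q12814, trivial⟩ (by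 decide +kernel)

theorem ce_f_235 : ∀ r, r < 64 → sm gf (Qf (15040 + r)) = Qf (tab Gen.f (15040 + r)) :=
  edges_tab (sm gf) Qf (tab Gen.f) 15040 [(15040, 17236), (15041, 12815), (15042, 17239), (15043, 16128), (15044, 13766), (15045, 12821), (15046, 12822), (15047, 12823), (15048, 17249), (15049, 12825), (15050, 17243), (15051, 17245), (15052, 17246), (15053, 17257), (15054, 17248), (15055, 12824), (15056, 17261), (15057, 17251), (15058, 16576), (15059, 16139), (15060, 12827), (15061, 17266), (15062, 16142), (15063, 17260), (15064, 12830), (15065, 17271), (15066, 12834), (15067, 12833), (15068, 16751), (15069, 17272), (15070, 13005), (15071, 12848), (15072, 12844), (15073, 12845), (15074, 12846), (15075, 15075), (15076, 12847), (15077, 15077), (15078, 16618), (15079, 17274), (15080, 17275), (15081, 17242), (15082, 13091), (15083, 13225), (15084, 12858), (15085, 12859), (15086, 16595), (15087, 16647), (15088, 17281), (15089, 13256), (15090, 13081), (15091, 13109), (15092, 13589), (15093, 16012), (15094, 16013), (15095, 16014),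 (15096, 15096), (15097, 15097), (15098, 15098), (15099, 12922), (15100, 12873), (15101, 12874), (15102, 12875), (15103, 17292)]
    ⟨e3 q15040 (flp_f L687335) q17236, e3 q15041 (flp_f L665128) q12815, e3 q15042 (flp_f L687367) q17239, e3 q15043 (flp_f L675175) q16128, e3 q15044 L665164 q13766, e3 q15045 L665172 q12821, e3 q15046 L665186 q12822, e3 q15047 L665192 q12823, e3 q15048 L687461 q17249, e3 q15049 L665208 q12825, e3 q15050 (flp_f L687409) q17243, e3 q15051 (flp_f L687435) q17245, e3 q15052 (flp_f L687443) q17246, e3 q15053 L687548 q17257, e3 q15054 (flp_f L687459) q17248, e3 q15055 (flp_f L665261) q12824, e3 q15056 (flp_f L687590) q17261, e3 q15057 (flp_f L687485) q17251, e3 q15058 (flp_f L680615) q16576, e3 q15059 (flp_f L675317) q16139, e3 q15060 (flp_f L665304) q12827, e3 q15061 (flp_f L687631) q17266, e3 q15062 (flp_f L675361) q16142, e3 q15063 (flp_f L687582) q17260, e3 q15064 L665332 q12830, e3 q15065 (flp_f L687665) q17271, e3 q15066 L665349 q12834, e3 q15067 L665358 q12833, e3 q15068 (flp_f L682393) q16751,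 e3 q15069 (flp_f L687674) q17272, e3 q15070 L665385 q13005, e3 q15071 L665399 q12848, e3 q15072 L665407 q12844, e3 q15073 L665417 q12845, e3 q15074 L665423 q12846, e3 q15075 L665445 q15075, e3 q15076 L665450 q12847, e3 q15077 L665462 q15077, e3 q15078 (flp_f L681064) q16618, e3 q15079 (flp_f L687695) q17274, e3 q15080 (flp_f L687707) q17275, e3 q15081 (flp_f L687401) q17242, e3 q15082 L665506 q13091, e3 q15083 L665514 q13225, e3 q15084 L665524 q12858, e3 q15085 L665539 q12859, e3 q15086 (flp_f L680827) q16595, e3 q15087 (flp_f L681306) q16647, e3 q15088 (flp_f L687776) q17281, e3 q15089 L665577 q13256, e3 q15090 L665589 q13081, e3 q15091 L665599 q13109, e3 q15092 L665617 q13589, e3 q15093 (flp_f L673481) q16012, e3 q15094 (flp_f L673497) q16013, e3 q15095 (flp_f L673509) q16014, e3 q15096 L665661 q15096, e3 q15097 L665671 q15097, e3 q15098 L665677 q15098, e3 q15099 L665691 q12922, e3 q15100 L665704 q12873, e3 q15101 L665714 q12874, e3 q15102 L665725 q12875, e3 q15103 (flp_f L687903) q17292, trivial⟩ (by decide +kernel)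

theorem ce_f_236 : ∀ r, r < 64 → sm gf (Qf (15104 + r)) = Qf (tab Gen.f (15104 + r)) :=
  edges_tab (sm gf) Qf (tab Gen.f) 15104 [(15104, 17293), (15105, 17295), (15106, 16169), (15107, 12881), (15108, 12882), (15109, 12883), (15110, 13391), (15111, 12884), (15112, 16365), (15113, 17299), (15114, 17300), (15115, 17302), (15116, 17304), (15117, 12970), (15118, 16185), (15119, 16187), (15120, 12893), (15121, 12894), (15122, 12895), (15123, 16363), (15124, 16366), (15125, 16368), (15126, 17314), (15127, 17315), (15128, 17316), (15129, 16207), (15130, 16208), (15131, 16209), (15132, 12905), (15133, 12906), (15134, 12907), (15135, 16381), (15136, 16383), (15137, 16385), (15138, 17326), (15139, 17327), (15140, 17328), (15141, 16220), (15142, 16221), (15143, 15990), (15144, 12912), (15145, 17333), (15146, 12916), (15147, 12917), (15148, 12918), (15149, 17334), (15150, 17335), (15151, 17337), (15152, 16240), (15153, 12923), (15154, 12924), (15155, 17290), (15156, 17291), (15157, 17340), (15158, 17342), (15159, 16255), (15160, 16257),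 (15161, 15161), (15162, 12931), (15163, 12932), (15164, 12933), (15165, 17356), (15166, 12935), (15167, 17350)]
    ⟨e3 q15104 (flp_f L687918) q17293, e3 q15105 (flp_f L687942) q17295, e3 q15106 (flp_f L675691) q16169, e3 q15107 L665787 q12881, e3 q15108 L665799 q12882, e3 q15109 L665809 q12883, e3 q15110 L665819 q13391, e3 q15111 L665829 q12884, e3 q15112 (flp_f L678001) q16365, e3 q15113 (flp_f L687989) q17299, e3 q15114 (flp_f L687997) q17300, e3 q15115 (flp_f L688017) q17302, e3 q15116 (flp_f L688035) q17304, e3 q15117 L665897 q12970, e3 q15118 (flp_f L675883) q16185, e3 q15119 (flp_f L675906) q16187, e3 q15120 L665926 q12893, e3 q15121 L665937 q12894, e3 q15122 L665945 q12895, e3 q15123 (flp_f L677985) q16363, e3 q15124 (flp_f L678017) q16366, e3 q15125 (flp_f L678040) q16368, e3 q15126 (flp_f L688149) q17314, e3 q15127 (flp_f L688162) q17315, e3 q15128 (flp_f L688170) q17316, e3 q15129 (flp_f L676162) q16207, e3 q15130 (flp_f L676174) q16208, e3 q15131 (flp_f L676182) q16209, e3 q15132 L666050 q12905, e3 q15133 L666062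 q12906, e3 q15134 L666069 q12907, e3 q15135 (flp_f L678190) q16381, e3 q15136 (flp_f L678211) q16383, e3 q15137 (flp_f L678233) q16385, e3 q15138 (flp_f L688275) q17326, e3 q15139 (flp_f L688283) q17327, e3 q15140 (flp_f L688289) q17328, e3 q15141 (flp_f L676324) q16220, e3 q15142 (flp_f L676338) q16221, e3 q15143 (flp_f L673181) q15990, e3 q15144 L666167 q12912, e3 q15145 (flp_f L688351) q17333, e3 q15146 L666196 q12916, e3 q15147 L666206 q12917, e3 q15148 L666215 q12918, e3 q15149 (flp_f L688363) q17334, e3 q15150 (flp_f L688378) q17335, e3 q15151 (flp_f L688400) q17337, e3 q15152 (flp_f L676599) q16240, e3 q15153 L666273 q12923, e3 q15154 L666282 q12924, e3 q15155 (flp_f L687876) q17290, e3 q15156 (flp_f L687891) q17291, e3 q15157 (flp_f L688431) q17340, e3 q15158 (flp_f L688448) q17342, e3 q15159 (flp_f L676795) q16255, e3 q15160 (flp_f L676816) q16257, e3 q15161 L666353 q15161, e3 q15162 L666360 q12931, e3 q15163 L666370 q12932, e3 q15164 L666380 q12933, e3 q15165 L688571 q17356, e3 q15166 L666394 q12935, e3 q15167 (flp_f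 L688525) q17350, trivial⟩ (by decide +kernel)

theorem ce_f_237 : ∀ r, r < 64 → sm gf (Qf (15168 + r)) = Qf (tab Gen.f (15168 + r)) :=
  edges_tab (sm gf) Qf (tab Gen.f) 15168 [(15168, 17362), (15169, 17352), (15170, 17353), (15171, 17366), (15172, 17355), (15173, 12934), (15174, 17369), (15175, 17358), (15176, 13508), (15177, 16861), (15178, 16269), (15179, 16862), (15180, 12941), (15181, 17374), (15182, 12944), (15183, 15183), (15184, 15184), (15185, 12951), (15186, 15186), (15187, 12952), (15188, 12953), (15189, 15189), (15190, 12954), (15191, 15191), (15192, 12955), (15193, 17377), (15194, 17379), (15195, 17381), (15196, 17382), (15197, 17384), (15198, 17387), (15199, 13700), (15200, 13744), (15201, 16286), (15202, 13426), (15203, 13763), (15204, 15204), (15205, 12964), (15206, 12965), (15207, 12966), (15208, 17409), (15209, 12968), (15210, 17403), (15211, 17405), (15212, 17406), (15213, 17417), (15214, 17408), (15215, 12967), (15216, 17421), (15217, 17411), (15218, 13469), (15219, 16305), (15220, 17311), (15221, 16307),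 (15222, 17420), (15223, 12973), (15224, 17429), (15225, 15225), (15226, 15226), (15227, 12981), (15228, 17436), (15229, 12983), (15230, 12984), (15231, 17443)]
    ⟨e3 q15168 L688623 q17362, e3 q15169 (flp_f L688543) q17352, e3 q15170 (flp_f L688551) q17353, e3 q15171 L688665 q17366, e3 q15172 (flp_f L688569) q17355, e3 q15173 (flp_f L666452) q12934, e3 q15174 (flp_f L688699) q17369, e3 q15175 (flp_f L688589) q17358, e3 q15176 L666486 q13508, e3 q15177 (flp_f L683445) q16861, e3 q15178 (flp_f L676961) q16269, e3 q15179 (flp_f L683454) q16862, e3 q15180 (flp_f L666517) q12941, e3 q15181 (flp_f L688747) q17374, e3 q15182 L666551 q12944, e3 q15183 L666560 q15183, e3 q15184 L666573 q15184, e3 q15185 L666582 q12951, e3 q15186 L666599 q15186, e3 q15187 L666607 q12952, e3 q15188 L666613 q12953, e3 q15189 L666628 q15189, e3 q15190 L666635 q12954, e3 q15191 L666646 q15191, e3 q15192 L666654 q12955, e3 q15193 (flp_f L688781) q17377, e3 q15194 (flp_f L688805) q17379, e3 q15195 (flp_f L688828) q17381, e3 q15196 (flp_f L688838) q17382,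 e3 q15197 (flp_f L688859) q17384, e3 q15198 (flp_f L688889) q17387, e3 q15199 L666724 q13700, e3 q15200 L666733 q13744, e3 q15201 (flp_f L677179) q16286, e3 q15202 L666749 q13426, e3 q15203 L666762 q13763, e3 q15204 L666773 q15204, e3 q15205 L666780 q12964, e3 q15206 L666793 q12965, e3 q15207 L666799 q12966, e3 q15208 L689093 q17409, e3 q15209 L666816 q12968, e3 q15210 (flp_f L689042) q17403, e3 q15211 (flp_f L689067) q17405, e3 q15212 (flp_f L689074) q17406, e3 q15213 L689177 q17417, e3 q15214 (flp_f L689091) q17408, e3 q15215 (flp_f L666867) q12967, e3 q15216 (flp_f L689225) q17421, e3 q15217 (flp_f L689115) q17411, e3 q15218 L666908 q13469, e3 q15219 (flp_f L677382) q16305, e3 q15220 (flp_f L688124) q17311, e3 q15221 (flp_f L677404) q16307, e3 q15222 (flp_f L689217) q17420, e3 q15223 L666952 q12973, e3 q15224 (flp_f L689307) q17429, e3 q15225 L666968 q15225, e3 q15226 L666977 q15226, e3 q15227 L666982 q12981, e3 q15228 L689360 q17436, e3 q15229 L667000 q12983, e3 q15230 L667008 q12984, e3 q15231 L689416 q17443, trivial⟩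 (by decide +kernel)

theorem ce_f_238 : ∀ r, r < 64 → sm gf (Qf (15232 + r)) = Qf (tab Gen.f (15232 + r)) :=
  edges_tab (sm gf) Qf (tab Gen.f) 15232 [(15232, 12986), (15233, 12979), (15234, 17447), (15235, 12989), (15236, 17433), (15237, 17452), (15238, 17435), (15239, 12982), (15240, 17455), (15241, 17438), (15242, 17439), (15243, 17459), (15244, 17441), (15245, 12985), (15246, 17463), (15247, 17445), (15248, 12996), (15249, 12988), (15250, 17468), (15251, 13435), (15252, 16336), (15253, 12991), (15254, 17472), (15255, 16338), (15256, 17462), (15257, 12994), (15258, 17477), (15259, 16342), (15260, 17466), (15261, 17467), (15262, 12998), (15263, 13000), (15264, 13003), (15265, 13004), (15266, 17482), (15267, 15267), (15268, 15268), (15269, 13016), (15270, 15270), (15271, 13017), (15272, 15272), (15273, 13018), (15274, 13019), (15275, 15275), (15276, 13020), (15277, 15277), (15278, 15278), (15279, 13021), (15280, 15280), (15281, 17169), (15282, 17485), (15283, 17488), (15284, 17490), (15285, 17493), (15286, 17497), (15287,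 16375), (15288, 16376), (15289, 17119), (15290, 15290), (15291, 13039), (15292, 15292), (15293, 13040), (15294, 15294), (15295, 13041)]
    ⟨e3 q15232 L667022 q12986, e3 q15233 (flp_f L667024) q12979, e3 q15234 (flp_f L689446) q17447, e3 q15235 L667040 q12989, e3 q15236 (flp_f L689338) q17433, e3 q15237 L689486 q17452, e3 q15238 (flp_f L689356) q17435, e3 q15239 (flp_f L667070) q12982, e3 q15240 (flp_f L689518) q17455, e3 q15241 (flp_f L689384) q17438, e3 q15242 (flp_f L689394) q17439, e3 q15243 L689556 q17459, e3 q15244 (flp_f L689410) q17441, e3 q15245 (flp_f L667125) q12985, e3 q15246 (flp_f L689594) q17463, e3 q15247 (flp_f L689432) q17445, e3 q15248 L667151 q12996, e3 q15249 L667159 q12988, e3 q15250 (flp_f L689632) q17468, e3 q15251 L667181 q13435, e3 q15252 (flp_f L677703) q16336, e3 q15253 (flp_f L667192) q12991, e3 q15254 (flp_f L689679) q17472, e3 q15255 (flp_f L677727) q16338, e3 q15256 (flp_f L689587) q17462, e3 q15257 L667233 q12994, e3 q15258 (flp_f L689715) q17477, e3 q15259 (flp_f L677772) q16342, e3 q15260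 (flp_f L689616) q17466, e3 q15261 (flp_f L689624) q17467, e3 q15262 L667267 q12998, e3 q15263 L667277 q13000, e3 q15264 L667286 q13003, e3 q15265 L667295 q13004, e3 q15266 (flp_f L689747) q17482, e3 q15267 L667311 q15267, e3 q15268 L667321 q15268, e3 q15269 L667326 q13016, e3 q15270 L667340 q15270, e3 q15271 L667345 q13017, e3 q15272 L667355 q15272, e3 q15273 L667362 q13018, e3 q15274 L667371 q13019, e3 q15275 L667381 q15275, e3 q15276 L667388 q13020, e3 q15277 L667392 q15277, e3 q15278 L667399 q15278, e3 q15279 L667404 q13021, e3 q15280 L667413 q15280, e3 q15281 L686550 q17169, e3 q15282 (flp_f L689774) q17485, e3 q15283 (flp_f L689796) q17488, e3 q15284 (flp_f L689817) q17490, e3 q15285 (flp_f L689839) q17493, e3 q15286 (flp_f L689861) q17497, e3 q15287 (flp_f L678120) q16375, e3 q15288 (flp_f L678128) q16376, e3 q15289 (flp_f L685926) q17119, e3 q15290 L667490 q15290, e3 q15291 L667502 q13039, e3 q15292 L667515 q15292, e3 q15293 L667523 q13040, e3 q15294 L667535 q15294, e3 q15295 L667546 q13041, trivial⟩ (by decide +kernel)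

theorem ce_f_239 : ∀ r, r < 64 → sm gf (Qf (15296 + r)) = Qf (tab Gen.f (15296 + r)) :=
  edges_tab (sm gf) Qf (tab Gen.f) 15296 [(15296, 15296), (15297, 13042), (15298, 15298), (15299, 15299), (15300, 13043), (15301, 17171), (15302, 17504), (15303, 17506), (15304, 17508), (15305, 16413), (15306, 16414), (15307, 16459), (15308, 16460), (15309, 16420), (15310, 16422), (15311, 16030), (15312, 16430), (15313, 16431), (15314, 16434), (15315, 16436), (15316, 17206), (15317, 16463), (15318, 16444), (15319, 16464), (15320, 16447), (15321, 16456), (15322, 16468), (15323, 16470), (15324, 13072), (15325, 13073), (15326, 16562), (15327, 17525), (15328, 16481), (15329, 16483), (15330, 13204), (15331, 13082), (15332, 17528), (15333, 16492), (15334, 16501), (15335, 16503), (15336, 16506), (15337, 13227), (15338, 13092), (15339, 16045), (15340, 13093), (15341, 16421), (15342, 17532), (15343, 17534), (15344, 16514), (15345, 16432), (15346, 16516), (15347, 13095), (15348, 17540), (15349, 16519), (15350, 16043), (15351, 13098), (15352, 17544),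 (15353, 16042), (15354, 16044), (15355, 13111), (15356, 13580), (15357, 13112), (15358, 16424), (15359, 17545)]
    ⟨e3 q15296 L667554 q15296, e3 q15297 L667559 q13042, e3 q15298 L667571 q15298, e3 q15299 L667585 q15299, e3 q15300 L667590 q13043, e3 q15301 (flp_f L686568) q17171, e3 q15302 (flp_f L689918) q17504, e3 q15303 (flp_f L689943) q17506, e3 q15304 (flp_f L689958) q17508, e3 q15305 (flp_f L678618) q16413, e3 q15306 (flp_f L678632) q16414, e3 q15307 (flp_f L679215) q16459, e3 q15308 (flp_f L679232) q16460, e3 q15309 (flp_f L678710) q16420, e3 q15310 (flp_f L678742) q16422, e3 q15311 L673737 q16030, e3 q15312 (flp_f L678858) q16430, e3 q15313 (flp_f L678869) q16431, e3 q15314 (flp_f L678904) q16434, e3 q15315 (flp_f L678922) q16436, e3 q15316 (flp_f L686987) q17206, e3 q15317 (flp_f L679267) q16463, e3 q15318 (flp_f L679026) q16444, e3 q15319 (flp_f L679280) q16464, e3 q15320 (flp_f L679054) q16447, e3 q15321 (flp_f L679178) q16456, e3 q15322 (flp_f L679314) q16468, e3 q15323 (flp_f L679336) q16470, e3 q15324 L667824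 q13072, e3 q15325 L667833 q13073, e3 q15326 (flp_f L680440) q16562, e3 q15327 (flp_f L690117) q17525, e3 q15328 (flp_f L679459) q16481, e3 q15329 (flp_f L679477) q16483, e3 q15330 L667881 q13204, e3 q15331 L667892 q13082, e3 q15332 (flp_f L690138) q17528, e3 q15333 (flp_f L679582) q16492, e3 q15334 (flp_f L679686) q16501, e3 q15335 (flp_f L679717) q16503, e3 q15336 (flp_f L679741) q16506, e3 q15337 L667942 q13227, e3 q15338 L667948 q13092, e3 q15339 (flp_f L673987) q16045, e3 q15340 L667959 q13093, e3 q15341 (flp_f L678734) q16421, e3 q15342 (flp_f L690173) q17532, e3 q15343 (flp_f L690182) q17534, e3 q15344 (flp_f L679819) q16514, e3 q15345 (flp_f L678880) q16432, e3 q15346 (flp_f L679852) q16516, e3 q15347 (flp_f L668001) q13095, e3 q15348 (flp_f L690228) q17540, e3 q15349 (flp_f L679880) q16519, e3 q15350 (flp_f L673943) q16043, e3 q15351 L668033 q13098, e3 q15352 (flp_f L690256) q17544, e3 q15353 (flp_f L673927) q16042, e3 q15354 (flp_f L673964) q16044, e3 q15355 L668071 q13111, e3 q15356 L668080 q13580, e3 q15357 L668086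 q13112, e3 q15358 (flp_f L678773) q16424, e3 q15359 (flp_f L690264) q17545, trivial⟩ (by decide +kernel)

theorem ce_f_240 : ∀ r, r < 64 → sm gf (Qf (15360 + r)) = Qf (tab Gen.f (15360 + r)) :=
  edges_tab (sm gf) Qf (tab Gen.f) 15360 [(15360, 16529), (15361, 16530), (15362, 16531), (15363, 13594), (15364, 16453), (15365, 16396), (15366, 16454), (15367, 16532), (15368, 13128), (15369, 17553), (15370, 17554), (15371, 16577), (15372, 13133), (15373, 13134), (15374, 13135), (15375, 17557), (15376, 17558), (15377, 17559), (15378, 17561), (15379, 16588), (15380, 16590), (15381, 13143), (15382, 13144), (15383, 13145), (15384, 17566), (15385, 17567), (15386, 17568), (15387, 16524), (15388, 16601), (15389, 16602), (15390, 13150), (15391, 13151), (15392, 17574), (15393, 17576), (15394, 16612), (15395, 16614), (15396, 16678), (15397, 16617), (15398, 13159), (15399, 13160), (15400, 13161), (15401, 17586), (15402, 13163), (15403, 17583), (15404, 17590), (15405, 17585), (15406, 13162), (15407, 17593), (15408, 17588), (15409, 16630), (15410,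 16686), (15411, 16632), (15412, 16687), (15413, 16635), (15414, 16688), (15415, 13171), (15416, 15416), (15417, 13176), (15418, 15418), (15419, 13177), (15420, 17602), (15421, 16658), (15422, 16659), (15423, 16660)]
    ⟨e3 q15360 (flp_f L679981) q16529, e3 q15361 (flp_f L679994) q16530, e3 q15362 (flp_f L680003) q16531, e3 q15363 L668143 q13594, e3 q15364 (flp_f L679141) q16453, e3 q15365 (flp_f L678370) q16396, e3 q15366 (flp_f L679153) q16454, e3 q15367 (flp_f L680014) q16532, e3 q15368 L668197 q13128, e3 q15369 (flp_f L690339) q17553, e3 q15370 (flp_f L690354) q17554, e3 q15371 (flp_f L680623) q16577, e3 q15372 L668246 q13133, e3 q15373 L668254 q13134, e3 q15374 L668264 q13135, e3 q15375 (flp_f L690388) q17557, e3 q15376 (flp_f L690404) q17558, e3 q15377 (flp_f L690414) q17559, e3 q15378 (flp_f L690430) q17561, e3 q15379 (flp_f L680753) q16588, e3 q15380 (flp_f L680767) q16590, e3 q15381 L668335 q13143, e3 q15382 L668345 q13144, e3 q15383 L668355 q13145, e3 q15384 (flp_f L690472) q17566, e3 q15385 (flp_f L690482) q17567,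 e3 q15386 (flp_f L690489) q17568, e3 q15387 (flp_f L679927) q16524, e3 q15388 (flp_f L680905) q16601, e3 q15389 (flp_f L680919) q16602, e3 q15390 L668407 q13150, e3 q15391 L668414 q13151, e3 q15392 (flp_f L690544) q17574, e3 q15393 (flp_f L690557) q17576, e3 q15394 (flp_f L681007) q16612, e3 q15395 (flp_f L681028) q16614, e3 q15396 (flp_f L681680) q16678, e3 q15397 (flp_f L681050) q16617, e3 q15398 L668457 q13159, e3 q15399 L668467 q13160, e3 q15400 L668475 q13161, e3 q15401 L690619 q17586, e3 q15402 L668487 q13163, e3 q15403 (flp_f L690603) q17583, e3 q15404 L690645 q17590, e3 q15405 (flp_f L690617) q17585, e3 q15406 (flp_f L668510) q13162, e3 q15407 (flp_f L690671) q17593, e3 q15408 (flp_f L690635) q17588, e3 q15409 (flp_f L681152) q16630, e3 q15410 (flp_f L681759) q16686, e3 q15411 (flp_f L681164) q16632, e3 q15412 (flp_f L681774) q16687, e3 q15413 (flp_f L681186) q16635, e3 q15414 (flp_f L681780) q16688, e3 q15415 L668573 q13171, e3 q15416 L668580 q15416, e3 q15417 L668585 q13176, e3 q15418 L668595 q15418, e3 q15419 L668600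 q13177, e3 q15420 (flp_f L690728) q17602, e3 q15421 (flp_f L681436) q16658, e3 q15422 (flp_f L681450) q16659, e3 q15423 (flp_f L681455) q16660, trivial⟩ (by decide +kernel)

theorem ce_f_241 : ∀ r, r < 64 → sm gf (Qf (15424 + r)) = Qf (tab Gen.f (15424 + r)) :=
  edges_tab (sm gf) Qf (tab Gen.f) 15424 [(15424, 15424), (15425, 16672), (15426, 16673), (15427, 16533), (15428, 13189), (15429, 13190), (15430, 17608), (15431, 17610), (15432, 16699), (15433, 16701), (15434, 16703), (15435, 16561), (15436, 13197), (15437, 13198), (15438, 13199), (15439, 17217), (15440, 13200), (15441, 17618), (15442, 17620), (15443, 17622), (15444, 16719), (15445, 16721), (15446, 16723), (15447, 15983), (15448, 17283), (15449, 13210), (15450, 13211), (15451, 13604), (15452, 13212), (15453, 17629), (15454, 17630), (15455, 16745), (15456, 16746), (15457, 16747), (15458, 13219), (15459, 17244), (15460, 13220), (15461, 17636), (15462, 17638), (15463, 17640), (15464, 16440), (15465, 16766), (15466, 13222), (15467, 17221), (15468, 16768), (15469, 17241),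 (15470, 17268), (15471, 17238), (15472, 17279), (15473, 13233), (15474, 17235), (15475, 13234), (15476, 13235), (15477, 17659), (15478, 13237), (15479, 13231), (15480, 17663), (15481, 13240), (15482, 17650), (15483, 17652), (15484, 17654), (15485, 17655), (15486, 17668), (15487, 17657)]
    ⟨e3 q15424 L668638 q15424, e3 q15425 (flp_f L681604) q16672, e3 q15426 (flp_f L681611) q16673, e3 q15427 (flp_f L680032) q16533, e3 q15428 L668663 q13189, e3 q15429 L668672 q13190, e3 q15430 (flp_f L690773) q17608, e3 q15431 (flp_f L690790) q17610, e3 q15432 (flp_f L681883) q16699, e3 q15433 (flp_f L681912) q16701, e3 q15434 (flp_f L681925) q16703, e3 q15435 (flp_f L680427) q16561, e3 q15436 L668723 q13197, e3 q15437 L668735 q13198, e3 q15438 L668743 q13199, e3 q15439 (flp_f L687117) q17217, e3 q15440 L668759 q13200, e3 q15441 (flp_f L690852) q17618, e3 q15442 (flp_f L690870) q17620, e3 q15443 (flp_f L690884) q17622, e3 q15444 (flp_f L682072) q16719, e3 q15445 (flp_f L682095) q16721, e3 q15446 (flp_f L682112) q16723, e3 q15447 (flp_f L673082)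 q15983, e3 q15448 (flp_f L687798) q17283, e3 q15449 L668827 q13210, e3 q15450 L668837 q13211, e3 q15451 L668848 q13604, e3 q15452 L668855 q13212, e3 q15453 (flp_f L690932) q17629, e3 q15454 (flp_f L690943) q17630, e3 q15455 (flp_f L682337) q16745, e3 q15456 (flp_f L682345) q16746, e3 q15457 (flp_f L682352) q16747, e3 q15458 L668903 q13219, e3 q15459 (flp_f L687427) q17244, e3 q15460 L668916 q13220, e3 q15461 (flp_f L690988) q17636, e3 q15462 (flp_f L691003) q17638, e3 q15463 (flp_f L691011) q17640, e3 q15464 (flp_f L678976) q16440, e3 q15465 (flp_f L682528) q16766, e3 q15466 (flp_f L668949) q13222, e3 q15467 (flp_f L687153) q17221, e3 q15468 (flp_f L682544) q16768, e3 q15469 (flp_f L687387) q17241, e3 q15470 (flp_f L687641) q17268, e3 q15471 (flp_f L687359) q17238, e3 q15472 (flp_f L687755) q17279, e3 q15473 L668993 q13233, e3 q15474 (flp_f L687327) q17235, e3 q15475 L669009 q13234, e3 q15476 L669017 q13235, e3 q15477 L691135 q17659, e3 q15478 L669029 q13237, e3 q15479 (flp_f L669031) q13231, e3 q15480 (flp_f L691165) q17663,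 e3 q15481 L669045 q13240, e3 q15482 (flp_f L691077) q17650, e3 q15483 (flp_f L691093) q17652, e3 q15484 (flp_f L691107) q17654, e3 q15485 (flp_f L691115) q17655, e3 q15486 L691193 q17668, e3 q15487 (flp_f L691127) q17657, trivial⟩ (by decide +kernel)

theorem ce_f_242 : ∀ r, r < 64 → sm gf (Qf (15488 + r)) = Qf (tab Gen.f (15488 + r)) :=
  edges_tab (sm gf) Qf (tab Gen.f) 15488 [(15488, 13236), (15489, 17672), (15490, 17661), (15491, 13247), (15492, 13239), (15493, 17677), (15494, 16613), (15495, 16797), (15496, 13242), (15497, 17680), (15498, 16799), (15499, 17671), (15500, 13245), (15501, 17684), (15502, 16803), (15503, 17675), (15504, 17676), (15505, 13249), (15506, 13252), (15507, 13253), (15508, 17689), (15509, 16113), (15510, 16669), (15511, 13265), (15512, 13266), (15513, 13512), (15514, 13267), (15515, 13268), (15516, 13640), (15517, 13269), (15518, 13642), (15519, 13643), (15520, 13270), (15521, 13645), (15522, 17692), (15523, 17693), (15524, 17694), (15525, 17697), (15526, 17701), (15527, 16833), (15528, 16834),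 (15529, 17710), (15530, 13292), (15531, 13287), (15532, 13528), (15533, 13288), (15534, 13370), (15535, 13289), (15536, 13656), (15537, 13290), (15538, 13526), (15539, 13658), (15540, 13291), (15541, 13367), (15542, 13660), (15543, 17711), (15544, 17713), (15545, 17715), (15546, 17691), (15547, 16392), (15548, 15985), (15549, 16115), (15550, 15982), (15551, 13295)]
    ⟨e3 q15488 (flp_f L669087) q13236, e3 q15489 (flp_f L691229) q17672, e3 q15490 (flp_f L691151) q17661, e3 q15491 L669113 q13247, e3 q15492 L669119 q13239, e3 q15493 (flp_f L691261) q17677, e3 q15494 (flp_f L681019) q16613, e3 q15495 (flp_f L682792) q16797, e3 q15496 (flp_f L669139) q13242, e3 q15497 (flp_f L691281) q17680, e3 q15498 (flp_f L682809) q16799, e3 q15499 (flp_f L691221) q17671, e3 q15500 L669169 q13245, e3 q15501 (flp_f L691307) q17684, e3 q15502 (flp_f L682835) q16803, e3 q15503 (flp_f L691249) q17675, e3 q15504 (flp_f L691255) q17676, e3 q15505 L669193 q13249, e3 q15506 L669201 q13252, e3 q15507 L669211 q13253, e3 q15508 (flp_f L691335) q17689,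 e3 q15509 (flp_f L674960) q16113, e3 q15510 (flp_f L681569) q16669, e3 q15511 L669242 q13265, e3 q15512 L669253 q13266, e3 q15513 L669265 q13512, e3 q15514 L669273 q13267, e3 q15515 L669282 q13268, e3 q15516 L669292 q13640, e3 q15517 L669300 q13269, e3 q15518 L669304 q13642, e3 q15519 L669314 q13643, e3 q15520 L669320 q13270, e3 q15521 L669329 q13645, e3 q15522 (flp_f L691364) q17692, e3 q15523 (flp_f L691372) q17693, e3 q15524 (flp_f L691383) q17694, e3 q15525 (flp_f L691407) q17697, e3 q15526 (flp_f L691436) q17701, e3 q15527 (flp_f L683103) q16833, e3 q15528 (flp_f L683110) q16834, e3 q15529 L691497 q17710, e3 q15530 L669399 q13292, e3 q15531 L669408 q13287, e3 q15532 L669423 q13528, e3 q15533 L669429 q13288, e3 q15534 L669442 q13370, e3 q15535 L669451 q13289, e3 q15536 L669462 q13656, e3 q15537 L669469 q13290, e3 q15538 L669475 q13526, e3 q15539 L669491 q13658, e3 q15540 L669497 q13291, e3 q15541 L669509 q13367, e3 q15542 L669524 q13660, e3 q15543 (flp_f L691507) q17711, e3 q15544 (flp_f L691527) q17713, e3 q15545 (flp_f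 L691546) q17715, e3 q15546 (flp_f L691351) q17691, e3 q15547 (flp_f L678308) q16392, e3 q15548 (flp_f L673112) q15985, e3 q15549 (flp_f L674988) q16115, e3 q15550 (flp_f L673061) q15982, e3 q15551 (flp_f L669586) q13295, trivial⟩ (by decide +kernel)

theorem ce_f_243 : ∀ r, r < 64 → sm gf (Qf (15552 + r)) = Qf (tab Gen.f (15552 + r)) :=
  edges_tab (sm gf) Qf (tab Gen.f) 15552 [(15552, 15552), (15553, 13300), (15554, 13301), (15555, 17336), (15556, 13302), (15557, 17725), (15558, 17727), (15559, 15559), (15560, 13771), (15561, 13772), (15562, 15562), (15563, 13311), (15564, 13312), (15565, 17735), (15566, 13314), (15567, 16939), (15568, 17734), (15569, 13313), (15570, 17740), (15571, 17737), (15572, 16947), (15573, 15573), (15574, 15574), (15575, 13323), (15576, 17748), (15577, 13325), (15578, 13326), (15579, 17754), (15580, 13328), (15581, 13321), (15582, 17757), (15583, 13331), (15584, 17745), (15585, 17761), (15586, 17747), (15587, 13324), (15588, 17765), (15589, 17750), (15590, 17767), (15591, 17752), (15592, 13327),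 (15593, 17770), (15594, 17756), (15595, 13330), (15596, 17772), (15597, 16256), (15598, 16916), (15599, 16958), (15600, 15600), (15601, 13338), (15602, 15602), (15603, 15603), (15604, 13349), (15605, 15605), (15606, 13350), (15607, 15607), (15608, 13351), (15609, 15609), (15610, 13352), (15611, 15611), (15612, 15612), (15613, 17016), (15614, 17777), (15615, 17780)]
    ⟨e3 q15552 L669604 q15552, e3 q15553 L669611 q13300, e3 q15554 L669621 q13301, e3 q15555 (flp_f L688390) q17336, e3 q15556 L669637 q13302, e3 q15557 (flp_f L691636) q17725, e3 q15558 (flp_f L691650) q17727, e3 q15559 L669661 q15559, e3 q15560 L669668 q13771, e3 q15561 L669676 q13772, e3 q15562 L669684 q15562, e3 q15563 L669689 q13311, e3 q15564 L669699 q13312, e3 q15565 L691703 q17735, e3 q15566 L669713 q13314, e3 q15567 (flp_f L684282) q16939, e3 q15568 (flp_f L691699) q17734, e3 q15569 (flp_f L669735) q13313, e3 q15570 (flp_f L691751) q17740, e3 q15571 (flp_f L691717) q17737, e3 q15572 (flp_f L684379) q16947, e3 q15573 L669772 q15573, e3 q15574 L669779 q15574,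 e3 q15575 L669786 q13323, e3 q15576 L691805 q17748, e3 q15577 L669800 q13325, e3 q15578 L669808 q13326, e3 q15579 L691843 q17754, e3 q15580 L669820 q13328, e3 q15581 (flp_f L669822) q13321, e3 q15582 (flp_f L691867) q17757, e3 q15583 L669834 q13331, e3 q15584 (flp_f L691785) q17745, e3 q15585 L691892 q17761, e3 q15586 (flp_f L691801) q17747, e3 q15587 (flp_f L669862) q13324, e3 q15588 (flp_f L691931) q17765, e3 q15589 (flp_f L691821) q17750, e3 q15590 L691944 q17767, e3 q15591 (flp_f L691837) q17752, e3 q15592 (flp_f L669905) q13327, e3 q15593 (flp_f L691973) q17770, e3 q15594 (flp_f L691859) q17756, e3 q15595 L669931 q13330, e3 q15596 (flp_f L691987) q17772, e3 q15597 (flp_f L676809) q16256, e3 q15598 (flp_f L684022) q16916, e3 q15599 (flp_f L684472) q16958, e3 q15600 L669970 q15600, e3 q15601 L669976 q13338, e3 q15602 L669982 q15602, e3 q15603 L669993 q15603, e3 q15604 L669998 q13349, e3 q15605 L670014 q15605, e3 q15606 L670019 q13350, e3 q15607 L670029 q15607, e3 q15608 L670036 q13351, e3 q15609 L670058 q15609, e3 q15610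 L670065 q13352, e3 q15611 L670069 q15611, e3 q15612 L670076 q15612, e3 q15613 (flp_f L685093) q17016, e3 q15614 (flp_f L692023) q17777, e3 q15615 (flp_f L692051) q17780, trivial⟩ (by decide +kernel)

theorem ce_f_244 : ∀ r, r < 64 → sm gf (Qf (15616 + r)) = Qf (tab Gen.f (15616 + r)) :=
  edges_tab (sm gf) Qf (tab Gen.f) 15616 [(15616, 13366), (15617, 13368), (15618, 15618), (15619, 13369), (15620, 17165), (15621, 17716), (15622, 17785), (15623, 17712), (15624, 13376), (15625, 16940), (15626, 13774), (15627, 13775), (15628, 13383), (15629, 13384), (15630, 17294), (15631, 13385), (15632, 17791), (15633, 17793), (15634, 15634), (15635, 15635), (15636, 13393), (15637, 17298), (15638, 13394), (15639, 13395), (15640, 17301), (15641, 13396), (15642, 17303), (15643, 13397), (15644, 17798), (15645, 17800), (15646, 17802), (15647, 17803), (15648, 17805), (15649, 17808), (15650, 16306), (15651, 16995), (15652, 15652), (15653, 15653), (15654, 13410), (15655, 13568), (15656, 13411), (15657, 13511), (15658, 13412), (15659, 13687), (15660,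 13413), (15661, 13689), (15662, 13690), (15663, 17176), (15664, 17817), (15665, 17819), (15666, 13764), (15667, 13776), (15668, 17404), (15669, 13777), (15670, 15670), (15671, 15671), (15672, 13425), (15673, 17399), (15674, 13427), (15675, 13428), (15676, 17842), (15677, 13430), (15678, 13423), (15679, 17846)]
    ⟨e3 q15616 L670114 q13366, e3 q15617 L670125 q13368, e3 q15618 L670137 q15618, e3 q15619 L670144 q13369, e3 q15620 (flp_f L686504) q17165, e3 q15621 (flp_f L691557) q17716, e3 q15622 (flp_f L692103) q17785, e3 q15623 (flp_f L691519) q17712, e3 q15624 L670195 q13376, e3 q15625 (flp_f L684300) q16940, e3 q15626 L670216 q13774, e3 q15627 L670226 q13775, e3 q15628 L670232 q13383, e3 q15629 L670244 q13384, e3 q15630 (flp_f L687932) q17294, e3 q15631 L670260 q13385, e3 q15632 (flp_f L692158) q17791, e3 q15633 (flp_f L692172) q17793, e3 q15634 L670283 q15634, e3 q15635 L670292 q15635, e3 q15636 L670299 q13393, e3 q15637 (flp_f L687979) q17298, e3 q15638 L670317 q13394, e3 q15639 L670325 q13395, e3 q15640 (flp_f L688007)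 q17301, e3 q15641 L670341 q13396, e3 q15642 (flp_f L688027) q17303, e3 q15643 L670353 q13397, e3 q15644 (flp_f L692213) q17798, e3 q15645 (flp_f L692233) q17800, e3 q15646 (flp_f L692249) q17802, e3 q15647 (flp_f L692257) q17803, e3 q15648 (flp_f L692271) q17805, e3 q15649 (flp_f L692293) q17808, e3 q15650 (flp_f L677397) q16306, e3 q15651 (flp_f L684858) q16995, e3 q15652 L670422 q15652, e3 q15653 L670434 q15653, e3 q15654 L670439 q13410, e3 q15655 L670456 q13568, e3 q15656 L670464 q13411, e3 q15657 L670475 q13511, e3 q15658 L670484 q13412, e3 q15659 L670497 q13687, e3 q15660 L670504 q13413, e3 q15661 L670510 q13689, e3 q15662 L670520 q13690, e3 q15663 (flp_f L686636) q17176, e3 q15664 (flp_f L692365) q17817, e3 q15665 (flp_f L692390) q17819, e3 q15666 L670563 q13764, e3 q15667 L670569 q13776, e3 q15668 (flp_f L689059) q17404, e3 q15669 L670581 q13777, e3 q15670 L670585 q15670, e3 q15671 L670594 q15671, e3 q15672 L670599 q13425, e3 q15673 (flp_f L689009) q17399, e3 q15674 L670617 q13427, e3 q15675 L670625 q13428, e3 q15676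 L692555 q17842, e3 q15677 L670641 q13430, e3 q15678 (flp_f L670643) q13423, e3 q15679 (flp_f L692587) q17846, trivial⟩ (by decide +kernel)

theorem ce_f_245 : ∀ r, r < 64 → sm gf (Qf (15680 + r)) = Qf (tab Gen.f (15680 + r)) :=
  edges_tab (sm gf) Qf (tab Gen.f) 15680 [(15680, 13433), (15681, 17833), (15682, 17398), (15683, 17835), (15684, 17400), (15685, 17837), (15686, 17838), (15687, 17855), (15688, 17840), (15689, 13429), (15690, 17859), (15691, 17844), (15692, 13440), (15693, 13432), (15694, 17863), (15695, 16337), (15696, 17469), (15697, 17046), (15698, 17858), (15699, 13438), (15700, 17868), (15701, 17861), (15702, 17862), (15703, 13442), (15704, 15704), (15705, 17874), (15706, 15706), (15707, 13454), (15708, 17880), (15709, 13456), (15710, 13446), (15711, 17884), (15712, 13459), (15713, 13460), (15714, 17889), (15715, 13462), (15716, 17892), (15717, 13449), (15718, 17896), (15719, 13465), (15720, 17070), (15721, 13452), (15722, 17901), (15723, 17178), (15724, 17905), (15725, 17878), (15726, 13455), (15727, 17908),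 (15728, 17882), (15729, 15729), (15730, 13458), (15731, 17913), (15732, 17914), (15733, 17887), (15734, 13461), (15735, 17918), (15736, 17891), (15737, 13474), (15738, 13464), (15739, 17923), (15740, 17898), (15741, 13478), (15742, 13479), (15743, 13468)]
    ⟨e3 q15680 L670655 q13433, e3 q15681 (flp_f L692491) q17833, e3 q15682 (flp_f L688992) q17398, e3 q15683 (flp_f L692511) q17835, e3 q15684 (flp_f L689017) q17400, e3 q15685 (flp_f L692523) q17837, e3 q15686 (flp_f L692533) q17838, e3 q15687 L692663 q17855, e3 q15688 (flp_f L692549) q17840, e3 q15689 (flp_f L670730) q13429, e3 q15690 (flp_f L692701) q17859, e3 q15691 (flp_f L692573) q17844, e3 q15692 L670760 q13440, e3 q15693 L670766 q13432, e3 q15694 (flp_f L692731) q17863, e3 q15695 (flp_f L677718) q16337, e3 q15696 (flp_f L689645) q17469, e3 q15697 (flp_f L685352) q17046, e3 q15698 (flp_f L692694) q17858, e3 q15699 L670810 q13438, e3 q15700 (flp_f L692770) q17868, e3 q15701 (flp_f L692717) q17861, e3 q15702 (flp_f L692725) q17862, e3 q15703 L670837 q13442, e3 q15704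 L670844 q15704, e3 q15705 L692809 q17874, e3 q15706 L670857 q15706, e3 q15707 L670864 q13454, e3 q15708 L692849 q17880, e3 q15709 L670880 q13456, e3 q15710 (flp_f L670884) q13446, e3 q15711 (flp_f L692881) q17884, e3 q15712 L670898 q13459, e3 q15713 L670906 q13460, e3 q15714 L692911 q17889, e3 q15715 L670918 q13462, e3 q15716 L692929 q17892, e3 q15717 (flp_f L670924) q13449, e3 q15718 (flp_f L692957) q17896, e3 q15719 L670940 q13465, e3 q15720 (flp_f L685551) q17070, e3 q15721 L670950 q13452, e3 q15722 (flp_f L692985) q17901, e3 q15723 (flp_f L686653) q17178, e3 q15724 L693007 q17905, e3 q15725 (flp_f L692837) q17878, e3 q15726 (flp_f L670981) q13455, e3 q15727 (flp_f L693041) q17908, e3 q15728 (flp_f L692869) q17882, e3 q15729 L671011 q15729, e3 q15730 L671016 q13458, e3 q15731 (flp_f L693079) q17913, e3 q15732 L693083 q17914, e3 q15733 (flp_f L692901) q17887, e3 q15734 (flp_f L671043) q13461, e3 q15735 (flp_f L693119) q17918, e3 q15736 (flp_f L692927) q17891, e3 q15737 L671071 q13474, e3 q15738 L671079 q13464, e3 q15739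 (flp_f L693161) q17923, e3 q15740 (flp_f L692967) q17898, e3 q15741 L671099 q13478, e3 q15742 L671105 q13479, e3 q15743 L671111 q13468, trivial⟩ (by decide +kernel)

theorem ce_f_246 : ∀ r, r < 64 → sm gf (Qf (15744 + r)) = Qf (tab Gen.f (15744 + r)) :=
  edges_tab (sm gf) Qf (tab Gen.f) 15744 [(15744, 17423), (15745, 17094), (15746, 17917), (15747, 13472), (15748, 17931), (15749, 17098), (15750, 17921), (15751, 17922), (15752, 13476), (15753, 17935), (15754, 17371), (15755, 17926), (15756, 17927), (15757, 15757), (15758, 15758), (15759, 13485), (15760, 15760), (15761, 13501), (15762, 13569), (15763, 13504), (15764, 13502), (15765, 13503), (15766, 13567), (15767, 13750), (15768, 13751), (15769, 13505), (15770, 17179), (15771, 17940), (15772, 17818), (15773, 17939), (15774, 17945), (15775, 13527), (15776, 13786), (15777, 13787), (15778, 15778), (15779, 17155), (15780, 13788), (15781, 13789), (15782, 13753), (15783, 13790), (15784, 15784), (15785, 13791), (15786, 13792), (15787, 15787), (15788, 13793), (15789, 15789), (15790,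 13794), (15791, 15791), (15792, 15792), (15793, 13553), (15794, 15794), (15795, 13554), (15796, 15796), (15797, 13555), (15798, 15798), (15799, 13556), (15800, 15800), (15801, 15801), (15802, 17182), (15803, 17963), (15804, 17966), (15805, 15805), (15806, 13756), (15807, 17973)]
    ⟨e3 q15744 (flp_f L689253) q17423, e3 q15745 (flp_f L685729) q17094, e3 q15746 (flp_f L693111) q17917, e3 q15747 L671139 q13472, e3 q15748 (flp_f L693217) q17931, e3 q15749 (flp_f L685770) q17098, e3 q15750 (flp_f L693145) q17921, e3 q15751 (flp_f L693153) q17922, e3 q15752 L671175 q13476, e3 q15753 (flp_f L693244) q17935, e3 q15754 (flp_f L688717) q17371, e3 q15755 (flp_f L693179) q17926, e3 q15756 (flp_f L693185) q17927, e3 q15757 L671203 q15757, e3 q15758 L671212 q15758, e3 q15759 L671219 q13485, e3 q15760 L671227 q15760, e3 q15761 L671238 q13501, e3 q15762 L671248 q13569, e3 q15763 L671260 q13504, e3 q15764 L671274 q13502, e3 q15765 L671286 q13503, e3 q15766 L671292 q13567, e3 q15767 L671298 q13750, e3 q15768 L671306 q13751, e3 q15769 L671310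 q13505, e3 q15770 (flp_f L686667) q17179, e3 q15771 (flp_f L693284) q17940, e3 q15772 (flp_f L692377) q17818, e3 q15773 (flp_f L693276) q17939, e3 q15774 L693315 q17945, e3 q15775 L671375 q13527, e3 q15776 L671384 q13786, e3 q15777 L671395 q13787, e3 q15778 L671400 q15778, e3 q15779 (flp_f L686357) q17155, e3 q15780 L671420 q13788, e3 q15781 L671429 q13789, e3 q15782 L671436 q13753, e3 q15783 L671440 q13790, e3 q15784 L671453 q15784, e3 q15785 L671459 q13791, e3 q15786 L671465 q13792, e3 q15787 L671474 q15787, e3 q15788 L671479 q13793, e3 q15789 L671488 q15789, e3 q15790 L671492 q13794, e3 q15791 L671497 q15791, e3 q15792 L671507 q15792, e3 q15793 L671512 q13553, e3 q15794 L671527 q15794, e3 q15795 L671532 q13554, e3 q15796 L671541 q15796, e3 q15797 L671547 q13555, e3 q15798 L671558 q15798, e3 q15799 L671564 q13556, e3 q15800 L671568 q15800, e3 q15801 L671575 q15801, e3 q15802 (flp_f L686711) q17182, e3 q15803 (flp_f L693459) q17963, e3 q15804 (flp_f L693484) q17966, e3 q15805 L671609 q15805, e3 q15806 L671613 q13756, e3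 q15807 L693526 q17973, trivial⟩ (by decide +kernel)

theorem ce_f_247 : ∀ r, r < 64 → sm gf (Qf (15808 + r)) = Qf (tab Gen.f (15808 + r)) :=
  edges_tab (sm gf) Qf (tab Gen.f) 15808 [(15808, 17974), (15809, 13570), (15810, 15810), (15811, 16433), (15812, 13576), (15813, 17546), (15814, 16037), (15815, 15815), (15816, 15816), (15817, 17980), (15818, 13596), (15819, 13598), (15820, 16402), (15821, 13599), (15822, 13602), (15823, 16106), (15824, 17981), (15825, 16398), (15826, 17982), (15827, 15827), (15828, 15828), (15829, 15829), (15830, 17976), (15831, 15831), (15832, 17631), (15833, 16191), (15834, 15834), (15835, 15835), (15836, 17572), (15837, 13617), (15838, 17988), (15839, 13629), (15840, 13620), (15841, 13634), (15842, 13623), (15843, 13624), (15844, 17990), (15845, 15845), (15846, 13627), (15847, 16497), (15848, 15848), (15849, 17989), (15850, 13631), (15851, 17215), (15852, 17571), (15853, 17695), (15854, 17696), (15855, 13649), (15856, 17698), (15857, 17699), (15858, 17700), (15859, 16243), (15860, 16933), (15861,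 16358), (15862, 18002), (15863, 15863), (15864, 15864), (15865, 17605), (15866, 13653), (15867, 13663), (15868, 13664), (15869, 17714), (15870, 13665), (15871, 17717)]
    ⟨e3 q15808 L693530 q17974, e3 q15809 (flp_f L671626) q13570, e3 q15810 L671634 q15810, e3 q15811 (flp_f L678894) q16433, e3 q15812 L671653 q13576, e3 q15813 (flp_f L690275) q17546, e3 q15814 (flp_f L673846) q16037, e3 q15815 L671680 q15815, e3 q15816 L671688 q15816, e3 q15817 L693582 q17980, e3 q15818 L671703 q13596, e3 q15819 L671712 q13598, e3 q15820 (flp_f L678454) q16402, e3 q15821 L671729 q13599, e3 q15822 L671739 q13602, e3 q15823 (flp_f L674856) q16106, e3 q15824 (flp_f L693592) q17981, e3 q15825 (flp_f L678396) q16398, e3 q15826 (flp_f L693604) q17982, e3 q15827 L671791 q15827, e3 q15828 L671797 q15828, e3 q15829 L671804 q15829, e3 q15830 (flp_f L693550) q17976, e3 q15831 L671822 q15831, e3 q15832 (flp_f L690953) q17631, e3 q15833 (flp_f L675949) q16191, e3 q15834 L671850 q15834, e3 q15835 L671856 q15835, e3 q15836 (flp_f L690532) q17572, e3 q15837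 (flp_f L671864) q13617, e3 q15838 (flp_f L693682) q17988, e3 q15839 L671882 q13629, e3 q15840 L671888 q13620, e3 q15841 L671895 q13634, e3 q15842 L671904 q13623, e3 q15843 (flp_f L671910) q13624, e3 q15844 (flp_f L693698) q17990, e3 q15845 L671928 q15845, e3 q15846 L671935 q13627, e3 q15847 (flp_f L679647) q16497, e3 q15848 L671948 q15848, e3 q15849 (flp_f L693688) q17989, e3 q15850 L671963 q13631, e3 q15851 (flp_f L687095) q17215, e3 q15852 (flp_f L690520) q17571, e3 q15853 (flp_f L691389) q17695, e3 q15854 (flp_f L691399) q17696, e3 q15855 L671992 q13649, e3 q15856 (flp_f L691414) q17698, e3 q15857 (flp_f L691423) q17699, e3 q15858 (flp_f L691431) q17700, e3 q15859 (flp_f L676641) q16243, e3 q15860 (flp_f L684186) q16933, e3 q15861 (flp_f L677919) q16358, e3 q15862 L693769 q18002, e3 q15863 L672052 q15863, e3 q15864 L672056 q15864, e3 q15865 (flp_f L690755) q17605, e3 q15866 (flp_f L672066) q13653, e3 q15867 L672075 q13663, e3 q15868 L672083 q13664, e3 q15869 (flp_f L691539) q17714, e3 q15870 L672103 q13665, e3 q15871 (flp_f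 L691571) q17717, trivial⟩ (by decide +kernel)

theorem ce_f_248 : ∀ r, r < 64 → sm gf (Qf (15872 + r)) = Qf (tab Gen.f (15872 + r)) :=
  edges_tab (sm gf) Qf (tab Gen.f) 15872 [(15872, 13666), (15873, 16017), (15874, 16852), (15875, 18004), (15876, 18012), (15877, 18006), (15878, 18007), (15879, 18013), (15880, 13667), (15881, 15881), (15882, 15989), (15883, 16544), (15884, 13670), (15885, 16020), (15886, 13678), (15887, 13679), (15888, 13680), (15889, 13754), (15890, 16006), (15891, 16007), (15892, 18014), (15893, 18015), (15894, 18016), (15895, 15895), (15896, 15896), (15897, 17395), (15898, 13693), (15899, 13695), (15900, 17820), (15901, 17821), (15902, 13696), (15903, 17822), (15904, 17823), (15905, 13697), (15906, 13722), (15907, 18017), (15908, 18028), (15909, 13718), (15910, 18029), (15911, 13704), (15912, 18031), (15913, 13725), (15914, 13706), (15915, 18034), (15916, 18035), (15917, 15917), (15918, 13708), (15919, 18039), (15920, 13729), (15921, 15921), (15922, 13712), (15923, 18043), (15924, 18045), (15925, 13714),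 (15926, 18046), (15927, 13717), (15928, 18047), (15929, 13720), (15930, 13721), (15931, 18049), (15932, 18019), (15933, 13736), (15934, 13724), (15935, 18052)]
    ⟨e3 q15872 L672119 q13666, e3 q15873 (flp_f L673539) q16017, e3 q15874 (flp_f L683335) q16852, e3 q15875 (flp_f L693782) q18004, e3 q15876 L693864 q18012, e3 q15877 (flp_f L693802) q18006, e3 q15878 (flp_f L693809) q18007, e3 q15879 L693873 q18013, e3 q15880 (flp_f L672179) q13667, e3 q15881 L672189 q15881, e3 q15882 (flp_f L673165) q15989, e3 q15883 (flp_f L680189) q16544, e3 q15884 (flp_f L672206) q13670, e3 q15885 L673579 q16020, e3 q15886 L672225 q13678, e3 q15887 L672239 q13679, e3 q15888 L672248 q13680, e3 q15889 L672256 q13754, e3 q15890 (flp_f L673393) q16006, e3 q15891 (flp_f L673407) q16007, e3 q15892 (flp_f L693887) q18014, e3 q15893 (flp_f L693896) q18015, e3 q15894 (flp_f L693904) q18016, e3 q15895 L672316 q15895, e3 q15896 L672323 q15896, e3 q15897 (flp_f L688969) q17395, e3 q15898 L672344 q13693, e3 q15899 L672359 q13695, e3 q15900 (flp_f L692396)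 q17820, e3 q15901 (flp_f L692405) q17821, e3 q15902 L672386 q13696, e3 q15903 (flp_f L692411) q17822, e3 q15904 (flp_f L692421) q17823, e3 q15905 L672411 q13697, e3 q15906 L672423 q13722, e3 q15907 (flp_f L693921) q18017, e3 q15908 L694014 q18028, e3 q15909 L672454 q13718, e3 q15910 L694021 q18029, e3 q15911 (flp_f L672472) q13704, e3 q15912 (flp_f L694047) q18031, e3 q15913 L672497 q13725, e3 q15914 (flp_f L672505) q13706, e3 q15915 (flp_f L694069) q18034, e3 q15916 (flp_f L694076) q18035, e3 q15917 L672529 q15917, e3 q15918 L672536 q13708, e3 q15919 (flp_f L694104) q18039, e3 q15920 L672550 q13729, e3 q15921 L672564 q15921, e3 q15922 L672572 q13712, e3 q15923 (flp_f L694134) q18043, e3 q15924 L694150 q18045, e3 q15925 (flp_f L672594) q13714, e3 q15926 (flp_f L694167) q18046, e3 q15927 L672618 q13717, e3 q15928 (flp_f L694175) q18047, e3 q15929 L672635 q13720, e3 q15930 (flp_f L672640) q13721, e3 q15931 (flp_f L694191) q18049, e3 q15932 (flp_f L693938) q18019, e3 q15933 L672669 q13736, e3 q15934 L672676 q13724, e3 q15935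 (flp_f L694217) q18052, trivial⟩ (by decide +kernel)

theorem ce_f_249 : ∀ r, r < 64 → sm gf (Qf (15936 + r)) = Qf (tab Gen.f (15936 + r)) :=
  edges_tab (sm gf) Qf (tab Gen.f) 15936 [(15936, 13740), (15937, 13741), (15938, 13728), (15939, 18056), (15940, 18058), (15941, 13745), (15942, 13746), (15943, 17950), (15944, 13734), (15945, 18060), (15946, 17955), (15947, 18051), (15948, 13738), (15949, 18063), (15950, 18054), (15951, 18055), (15952, 13743), (15953, 17396), (15954, 15954), (15955, 17941), (15956, 17942), (15957, 13752), (15958, 17949), (15959, 13755), (15960, 17730), (15961, 17787), (15962, 17789), (15963, 17825), (15964, 17827), (15965, 17829), (15966, 13780), (15967, 13781), (15968, 18072), (15969, 16653), (15970, 17946), (15971, 17947), (15972, 17948), (15973, 17952), (15974, 17954), (15975, 17957), (15976, 17960), (15977, 15977), (15978, 13799), (15979, 18079), (15980, 13814), (15981, 13802), (15982, 15550), (15983, 15447), (15984, 13805), (15985, 15548), (15986, 13824), (15987, 13825), (15988, 13809), (15989,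 15882), (15990, 15143), (15991, 14201), (15992, 14378), (15993, 18081), (15994, 13816), (15995, 18089), (15996, 13821), (15997, 13819), (15998, 18092), (15999, 18090)]
    ⟨e3 q15936 L672692 q13740, e3 q15937 L672699 q13741, e3 q15938 L672707 q13728, e3 q15939 (flp_f L694246) q18056, e3 q15940 L694256 q18058, e3 q15941 L672728 q13745, e3 q15942 L672735 q13746, e3 q15943 (flp_f L693353) q17950, e3 q15944 L672757 q13734, e3 q15945 (flp_f L694280) q18060, e3 q15946 (flp_f L693400) q17955, e3 q15947 (flp_f L694208) q18051, e3 q15948 L672793 q13738, e3 q15949 (flp_f L694308) q18063, e3 q15950 (flp_f L694231) q18054, e3 q15951 (flp_f L694239) q18055, e3 q15952 L672821 q13743, e3 q15953 (flp_f L688977) q17396, e3 q15954 L672834 q15954, e3 q15955 (flp_f L693294) q17941, e3 q15956 (flp_f L693298) q17942, e3 q15957 (flp_f L672847) q13752, e3 q15958 (flp_f L693349) q17949, e3 q15959 (flp_f L672859) q13755, e3 q15960 (flp_f L691671) q17730, e3 q15961 (flp_f L692126) q17787, e3 q15962 (flp_f L692142) q17789, e3 q15963 (flp_f L692441)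 q17825, e3 q15964 (flp_f L692453) q17827, e3 q15965 (flp_f L692463) q17829, e3 q15966 L672902 q13780, e3 q15967 L672909 q13781, e3 q15968 (flp_f L694363) q18072, e3 q15969 (flp_f L681385) q16653, e3 q15970 (flp_f L693324) q17946, e3 q15971 (flp_f L693335) q17947, e3 q15972 (flp_f L693341) q17948, e3 q15973 (flp_f L693375) q17952, e3 q15974 (flp_f L693392) q17954, e3 q15975 (flp_f L693419) q17957, e3 q15976 (flp_f L693437) q17960, e3 q15977 L672988 q15977, e3 q15978 L673001 q13799, e3 q15979 (flp_f L694430) q18079, e3 q15980 L673030 q13814, e3 q15981 L673045 q13802, e3 q15982 L673061 q15550, e3 q15983 L673082 q15447, e3 q15984 L673097 q13805, e3 q15985 L673112 q15548, e3 q15986 L673131 q13824, e3 q15987 L673142 q13825, e3 q15988 L673155 q13809, e3 q15989 L673165 q15882, e3 q15990 L673181 q15143, e3 q15991 L673196 q14201, e3 q15992 L673215 q14378, e3 q15993 (flp_f L694465) q18081, e3 q15994 L673242 q13816, e3 q15995 (flp_f L694598) q18089, e3 q15996 L673272 q13821, e3 q15997 L673285 q13819, e3 q15998 (flp_f L694649) q18092,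 e3 q15999 (flp_f L694620) q18090, trivial⟩ (by decide +kernel)

theorem ce_f_250 : ∀ r, r < 64 → sm gf (Qf (16000 + r)) = Qf (tab Gen.f (16000 + r)) :=
  edges_tab (sm gf) Qf (tab Gen.f) 16000 [(16000, 18091), (16001, 13823), (16002, 18083), (16003, 18084), (16004, 13827), (16005, 18097), (16006, 15890), (16007, 15891), (16008, 16008), (16009, 13839), (16010, 13840), (16011, 13841), (16012, 15093), (16013, 15094), (16014, 15095), (16015, 18100), (16016, 18101), (16017, 15873), (16018, 16018), (16019, 16019), (16020, 15885), (16021, 14981), (16022, 14982), (16023, 15005), (16024, 14994), (16025, 15006), (16026, 13884), (16027, 14296), (16028, 14983), (16029, 16029), (16030, 15311), (16031, 16031), (16032, 14301), (16033, 13866), (16034, 13885), (16035, 14984), (16036, 14985), (16037, 15814), (16038, 14987), (16039, 16039), (16040, 13878), (16041, 18121), (16042, 15353), (16043, 15350), (16044, 15354), (16045, 15339), (16046, 14991), (16047, 18113), (16048, 14998), (16049, 13887), (16050, 18128), (16051, 15001), (16052, 14306),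 (16053, 13890), (16054, 18131), (16055, 16055), (16056, 16056), (16057, 13894), (16058, 13897), (16059, 13898), (16060, 18133), (16061, 18134), (16062, 15012), (16063, 14505)]
    ⟨e3 q16000 (flp_f L694636) q18091, e3 q16001 L673340 q13823, e3 q16002 (flp_f L694502) q18083, e3 q16003 (flp_f L694519) q18084, e3 q16004 L673366 q13827, e3 q16005 (flp_f L694716) q18097, e3 q16006 L673393 q15890, e3 q16007 L673407 q15891, e3 q16008 L673426 q16008, e3 q16009 L673438 q13839, e3 q16010 L673454 q13840, e3 q16011 L673466 q13841, e3 q16012 L673481 q15093, e3 q16013 L673497 q15094, e3 q16014 L673509 q15095, e3 q16015 (flp_f L694771) q18100, e3 q16016 (flp_f L694784) q18101, e3 q16017 L673539 q15873, e3 q16018 L673557 q16018, e3 q16019 L673564 q16019, e3 q16020 (flp_f L673579) q15885, e3 q16021 L673587 q14981, e3 q16022 L673606 q14982, e3 q16023 L673624 q15005, e3 q16024 L673640 q14994, e3 q16025 L673660 q15006, e3 q16026 L673672 q13884, e3 q16027 L673694 q14296, e3 q16028 L673704 q14983, e3 q16029 L673714 q16029, e3 q16030 (flp_f L673737)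 q15311, e3 q16031 L673748 q16031, e3 q16032 L673764 q14301, e3 q16033 L673775 q13866, e3 q16034 L673793 q13885, e3 q16035 L673807 q14984, e3 q16036 L673828 q14985, e3 q16037 L673846 q15814, e3 q16038 L673864 q14987, e3 q16039 L673883 q16039, e3 q16040 L673898 q13878, e3 q16041 (flp_f L695095) q18121, e3 q16042 L673927 q15353, e3 q16043 L673943 q15350, e3 q16044 L673964 q15354, e3 q16045 L673987 q15339, e3 q16046 L673999 q14991, e3 q16047 (flp_f L694965) q18113, e3 q16048 L674031 q14998, e3 q16049 (flp_f L674037) q13887, e3 q16050 (flp_f L695217) q18128, e3 q16051 L674073 q15001, e3 q16052 L674088 q14306, e3 q16053 L674102 q13890, e3 q16054 (flp_f L695263) q18131, e3 q16055 L674133 q16055, e3 q16056 L674145 q16056, e3 q16057 L674156 q13894, e3 q16058 L674177 q13897, e3 q16059 L674195 q13898, e3 q16060 (flp_f L695287) q18133, e3 q16061 (flp_f L695307) q18134, e3 q16062 L674234 q15012, e3 q16063 L674255 q14505, trivial⟩ (by decide +kernel)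

theorem ce_f_251 : ∀ r, r < 64 → sm gf (Qf (16064 + r)) = Qf (tab Gen.f (16064 + r)) :=
  edges_tab (sm gf) Qf (tab Gen.f) 16064 [(16064, 15013), (16065, 13945), (16066, 13903), (16067, 13904), (16068, 13905), (16069, 18141), (16070, 18142), (16071, 18143), (16072, 18151), (16073, 18145), (16074, 14322), (16075, 14517), (16076, 15017), (16077, 14519), (16078, 15018), (16079, 18160), (16080, 14022), (16081, 13911), (16082, 18162), (16083, 14025), (16084, 14526), (16085, 13920), (16086, 13921), (16087, 13922), (16088, 14558), (16089, 18165), (16090, 14292), (16091, 14323), (16092, 15019), (16093, 14527), (16094, 14594), (16095, 14305), (16096, 14270), (16097, 14430), (16098, 13935), (16099, 13936), (16100, 18172), (16101, 18173), (16102, 14404), (16103, 15023), (16104, 14409), (16105, 13943), (16106, 15823), (16107, 13948), (16108, 13949), (16109, 18179), (16110, 13950), (16111, 18182), (16112, 15029), (16113, 15509), (16114, 13953), (16115, 15549), (16116, 14104), (16117, 14105), (16118, 13957), (16119, 13963), (16120, 13964),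 (16121, 13965), (16122, 18188), (16123, 18189), (16124, 18193), (16125, 18191), (16126, 13966), (16127, 18197)]
    ⟨e3 q16064 L674267 q15013, e3 q16065 L674283 q13945, e3 q16066 L674299 q13903, e3 q16067 L674311 q13904, e3 q16068 L674325 q13905, e3 q16069 (flp_f L695417) q18141, e3 q16070 (flp_f L695437) q18142, e3 q16071 (flp_f L695449) q18143, e3 q16072 L695552 q18151, e3 q16073 (flp_f L695479) q18145, e3 q16074 L674397 q14322, e3 q16075 L674410 q14517, e3 q16076 L674420 q15017, e3 q16077 L674432 q14519, e3 q16078 L674440 q15018, e3 q16079 L695660 q18160, e3 q16080 L674465 q14022, e3 q16081 (flp_f L674473) q13911, e3 q16082 (flp_f L695698) q18162, e3 q16083 L674503 q14025, e3 q16084 L674521 q14526, e3 q16085 L674534 q13920, e3 q16086 L674548 q13921, e3 q16087 L674568 q13922, e3 q16088 L674579 q14558, e3 q16089 (flp_f L695737) q18165, e3 q16090 L674607 q14292, e3 q16091 L674622 q14323, e3 q16092 L674633 q15019, e3 q16093 L674648 q14527, e3 q16094 L674664 q14594, e3 q16095 L674680 q14305, e3 q16096 L674689 q14270, e3 q16097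 L674710 q14430, e3 q16098 L674729 q13935, e3 q16099 L674746 q13936, e3 q16100 (flp_f L695843) q18172, e3 q16101 (flp_f L695862) q18173, e3 q16102 L674799 q14404, e3 q16103 L674811 q15023, e3 q16104 L674823 q14409, e3 q16105 L674837 q13943, e3 q16106 L674856 q15823, e3 q16107 L674867 q13948, e3 q16108 L674885 q13949, e3 q16109 (flp_f L695959) q18179, e3 q16110 (flp_f L674907) q13950, e3 q16111 (flp_f L696011) q18182, e3 q16112 L674943 q15029, e3 q16113 L674960 q15509, e3 q16114 L674974 q13953, e3 q16115 L674988 q15549, e3 q16116 L675007 q14104, e3 q16117 L675020 q14105, e3 q16118 L675034 q13957, e3 q16119 L675049 q13963, e3 q16120 L675061 q13964, e3 q16121 L675079 q13965, e3 q16122 (flp_f L696107) q18188, e3 q16123 (flp_f L696127) q18189, e3 q16124 L696179 q18193, e3 q16125 (flp_f L696159) q18191, e3 q16126 (flp_f L675141) q13966, e3 q16127 (flp_f L696243) q18197, trivial⟩ (by decide +kernel)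

theorem ce_f_252 : ∀ r, r < 64 → sm gf (Qf (16128 + r)) = Qf (tab Gen.f (16128 + r)) :=
  edges_tab (sm gf) Qf (tab Gen.f) 16128 [(16128, 15043), (16129, 13972), (16130, 13973), (16131, 13974), (16132, 18203), (16133, 13976), (16134, 18200), (16135, 18202), (16136, 13975), (16137, 18209), (16138, 18205), (16139, 15059), (16140, 13978), (16141, 18213), (16142, 15062), (16143, 18208), (16144, 13981), (16145, 18217), (16146, 13986), (16147, 13984), (16148, 18221), (16149, 18219), (16150, 18220), (16151, 13988), (16152, 18225), (16153, 14165), (16154, 14166), (16155, 13995), (16156, 16156), (16157, 16157), (16158, 16158), (16159, 14001), (16160, 14002), (16161, 14003), (16162, 18231), (16163, 18232), (16164, 18233), (16165, 18240), (16166, 18235), (16167, 14896), (16168, 14757), (16169, 15106), (16170, 16170), (16171, 14011), (16172, 14012), (16173, 14013), (16174, 18253), (16175, 14015), (16176, 18247), (16177, 18258), (16178, 18249), (16179, 18250), (16180, 18262), (16181, 18252), (16182, 14014), (16183, 18265), (16184, 18255),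 (16185, 15118), (16186, 14775), (16187, 15119), (16188, 14777), (16189, 14021), (16190, 18272), (16191, 15833)]
    ⟨e3 q16128 L675175 q15043, e3 q16129 L675185 q13972, e3 q16130 L675201 q13973, e3 q16131 L675209 q13974, e3 q16132 L696321 q18203, e3 q16133 L675235 q13976, e3 q16134 (flp_f L696283) q18200, e3 q16135 (flp_f L696315) q18202, e3 q16136 (flp_f L675271) q13975, e3 q16137 (flp_f L696407) q18209, e3 q16138 (flp_f L696349) q18205, e3 q16139 L675317 q15059, e3 q16140 (flp_f L675323) q13978, e3 q16141 (flp_f L696473) q18213, e3 q16142 L675361 q15062, e3 q16143 (flp_f L696395) q18208, e3 q16144 L675383 q13981, e3 q16145 (flp_f L696523) q18217, e3 q16146 L675402 q13986, e3 q16147 L675414 q13984, e3 q16148 (flp_f L696570) q18221, e3 q16149 (flp_f L696541) q18219, e3 q16150 (flp_f L696556) q18220, e3 q16151 L675464 q13988, e3 q16152 (flp_f L696623) q18225, e3 q16153 L675478 q14165, e3 q16154 L675490 q14166, e3 q16155 L675509 q13995, e3 q16156 L675528 q16156, e3 q16157 L675542 q16157, e3 q16158 L675558 q16158, e3 q16159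 L675568 q14001, e3 q16160 L675578 q14002, e3 q16161 L675591 q14003, e3 q16162 (flp_f L696696) q18231, e3 q16163 (flp_f L696709) q18232, e3 q16164 (flp_f L696719) q18233, e3 q16165 L696802 q18240, e3 q16166 (flp_f L696746) q18235, e3 q16167 L675668 q14896, e3 q16168 L675682 q14757, e3 q16169 L675691 q15106, e3 q16170 L675708 q16170, e3 q16171 L675719 q14011, e3 q16172 L675731 q14012, e3 q16173 L675741 q14013, e3 q16174 L696970 q18253, e3 q16175 L675763 q14015, e3 q16176 (flp_f L696904) q18247, e3 q16177 L697029 q18258, e3 q16178 (flp_f L696930) q18249, e3 q16179 (flp_f L696938) q18250, e3 q16180 L697079 q18262, e3 q16181 (flp_f L696966) q18252, e3 q16182 (flp_f L675839) q14014, e3 q16183 (flp_f L697121) q18265, e3 q16184 (flp_f L696996) q18255, e3 q16185 L675883 q15118, e3 q16186 L675897 q14775, e3 q16187 L675906 q15119, e3 q16188 L675917 q14777, e3 q16189 (flp_f L675920) q14021, e3 q16190 (flp_f L697209) q18272, e3 q16191 L675949 q15833, trivial⟩ (by decide +kernel)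

theorem ce_f_253 : ∀ r, r < 64 → sm gf (Qf (16192 + r)) = Qf (tab Gen.f (16192 + r)) :=
  edges_tab (sm gf) Qf (tab Gen.f) 16192 [(16192, 14024), (16193, 18274), (16194, 14783), (16195, 16195), (16196, 14033), (16197, 14034), (16198, 14035), (16199, 16199), (16200, 14036), (16201, 16201), (16202, 14037), (16203, 18277), (16204, 18278), (16205, 18280), (16206, 18283), (16207, 15129), (16208, 15130), (16209, 15131), (16210, 14049), (16211, 14050), (16212, 16212), (16213, 14051), (16214, 16214), (16215, 14052), (16216, 16216), (16217, 18291), (16218, 18293), (16219, 18295), (16220, 15141), (16221, 15142), (16222, 14624), (16223, 14057), (16224, 14058), (16225, 18299), (16226, 18300), (16227, 18301), (16228, 14695), (16229, 16229), (16230, 14063), (16231, 14064), (16232, 14065), (16233, 18307), (16234, 18308), (16235, 18309), (16236, 18315), (16237, 18311), (16238, 14677), (16239, 14657), (16240, 15152), (16241, 14070), (16242, 18320), (16243, 15859), (16244, 14075), (16245, 14664), (16246, 16246), (16247, 14079), (16248, 14080),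 (16249, 14081), (16250, 18325), (16251, 18326), (16252, 18327), (16253, 18332), (16254, 18329), (16255, 15159)]
    ⟨e3 q16192 L675964 q14024, e3 q16193 (flp_f L697233) q18274, e3 q16194 L675986 q14783, e3 q16195 L676002 q16195, e3 q16196 L676015 q14033, e3 q16197 L676034 q14034, e3 q16198 L676042 q14035, e3 q16199 L676064 q16199, e3 q16200 L676071 q14036, e3 q16201 L676085 q16201, e3 q16202 L676096 q14037, e3 q16203 (flp_f L697270) q18277, e3 q16204 (flp_f L697284) q18278, e3 q16205 (flp_f L697315) q18280, e3 q16206 (flp_f L697351) q18283, e3 q16207 L676162 q15129, e3 q16208 L676174 q15130, e3 q16209 L676182 q15131, e3 q16210 L676199 q14049, e3 q16211 L676210 q14050, e3 q16212 L676232 q16212, e3 q16213 L676241 q14051, e3 q16214 L676256 q16214, e3 q16215 L676266 q14052, e3 q16216 L676276 q16216, e3 q16217 (flp_f L697459) q18291, e3 q16218 (flp_f L697489) q18293, e3 q16219 (flp_f L697514) q18295, e3 q16220 L676324 q15141, e3 q16221 L676338 q15142, e3 q16222 L676360 q14624, e3 q16223 L676374 q14057, e3 q16224 L676390 q14058,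 e3 q16225 (flp_f L697588) q18299, e3 q16226 (flp_f L697600) q18300, e3 q16227 (flp_f L697618) q18301, e3 q16228 L676445 q14695, e3 q16229 L676461 q16229, e3 q16230 L676473 q14063, e3 q16231 L676483 q14064, e3 q16232 L676494 q14065, e3 q16233 (flp_f L697704) q18307, e3 q16234 (flp_f L697717) q18308, e3 q16235 (flp_f L697727) q18309, e3 q16236 L697796 q18315, e3 q16237 (flp_f L697752) q18311, e3 q16238 L676575 q14677, e3 q16239 L676590 q14657, e3 q16240 L676599 q15152, e3 q16241 (flp_f L676604) q14070, e3 q16242 (flp_f L697878) q18320, e3 q16243 L676641 q15859, e3 q16244 L676660 q14075, e3 q16245 L676676 q14664, e3 q16246 L676689 q16246, e3 q16247 L676697 q14079, e3 q16248 L676705 q14080, e3 q16249 L676716 q14081, e3 q16250 (flp_f L697944) q18325, e3 q16251 (flp_f L697957) q18326, e3 q16252 (flp_f L697967) q18327, e3 q16253 L698024 q18332, e3 q16254 (flp_f L697992) q18329, e3 q16255 L676795 q15159, trivial⟩ (by decide +kernel)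

theorem ce_f_254 : ∀ r, r < 64 → sm gf (Qf (16256 + r)) = Qf (tab Gen.f (16256 + r)) :=
  edges_tab (sm gf) Qf (tab Gen.f) 16256 [(16256, 15597), (16257, 15160), (16258, 16258), (16259, 14089), (16260, 14090), (16261, 14091), (16262, 18343), (16263, 14093), (16264, 18340), (16265, 18342), (16266, 14092), (16267, 18349), (16268, 18345), (16269, 15178), (16270, 18348), (16271, 14096), (16272, 18354), (16273, 14101), (16274, 14099), (16275, 18358), (16276, 18356), (16277, 18357), (16278, 14103), (16279, 18362), (16280, 18186), (16281, 18187), (16282, 16282), (16283, 14111), (16284, 14112), (16285, 18364), (16286, 15201), (16287, 16287), (16288, 16288), (16289, 16289), (16290, 16290), (16291, 14120), (16292, 14121), (16293, 14122), (16294, 18379), (16295, 14124), (16296, 18373), (16297, 18384), (16298, 18375), (16299, 18376), (16300, 18388), (16301, 18378), (16302, 14123), (16303, 18392), (16304, 18381), (16305, 15219), (16306, 15650), (16307, 15221), (16308, 18391), (16309, 14129), (16310, 18399), (16311, 16311), (16312, 16312),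 (16313, 14137), (16314, 18406), (16315, 14139), (16316, 14140), (16317, 18413), (16318, 14142), (16319, 14135)]
    ⟨e3 q16256 L676809 q15597, e3 q16257 L676816 q15160, e3 q16258 L676831 q16258, e3 q16259 L676840 q14089, e3 q16260 L676854 q14090, e3 q16261 L676864 q14091, e3 q16262 L698176 q18343, e3 q16263 L676886 q14093, e3 q16264 (flp_f L698140) q18340, e3 q16265 (flp_f L698170) q18342, e3 q16266 (flp_f L676919) q14092, e3 q16267 (flp_f L698255) q18349, e3 q16268 (flp_f L698200) q18345, e3 q16269 L676961 q15178, e3 q16270 (flp_f L698245) q18348, e3 q16271 L676990 q14096, e3 q16272 (flp_f L698325) q18354, e3 q16273 L677013 q14101, e3 q16274 L677023 q14099, e3 q16275 (flp_f L698378) q18358, e3 q16276 (flp_f L698351) q18356, e3 q16277 (flp_f L698366) q18357, e3 q16278 L677074 q14103, e3 q16279 (flp_f L698428) q18362, e3 q16280 (flp_f L696074) q18186, e3 q16281 (flp_f L696092) q18187, e3 q16282 L677119 q16282, e3 q16283 L677136 q14111, e3 q16284 L677149 q14112, e3 q16285 (flp_f L698460) q18364, e3 q16286 L677179 q15201, e3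 q16287 L677194 q16287, e3 q16288 L677203 q16288, e3 q16289 L677215 q16289, e3 q16290 L677225 q16290, e3 q16291 L677234 q14120, e3 q16292 L677245 q14121, e3 q16293 L677251 q14122, e3 q16294 L698616 q18379, e3 q16295 L677272 q14124, e3 q16296 (flp_f L698561) q18373, e3 q16297 L698668 q18384, e3 q16298 (flp_f L698582) q18375, e3 q16299 (flp_f L698589) q18376, e3 q16300 L698717 q18388, e3 q16301 (flp_f L698612) q18378, e3 q16302 (flp_f L677347) q14123, e3 q16303 (flp_f L698775) q18392, e3 q16304 (flp_f L698636) q18381, e3 q16305 L677382 q15219, e3 q16306 L677397 q15650, e3 q16307 L677404 q15221, e3 q16308 (flp_f L698768) q18391, e3 q16309 L677433 q14129, e3 q16310 (flp_f L698864) q18399, e3 q16311 L677449 q16311, e3 q16312 L677460 q16312, e3 q16313 L677469 q14137, e3 q16314 L698930 q18406, e3 q16315 L677487 q14139, e3 q16316 L677495 q14140, e3 q16317 L699008 q18413, e3 q16318 L677513 q14142, e3 q16319 (flp_f L677517) q14135, trivial⟩ (by decide +kernel)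

theorem ce_f_255 : ∀ r, r < 64 → sm gf (Qf (16320 + r)) = Qf (tab Gen.f (16320 + r)) :=
  edges_tab (sm gf) Qf (tab Gen.f) 16320 [(16320, 18417), (16321, 14145), (16322, 18403), (16323, 18405), (16324, 14138), (16325, 18423), (16326, 18408), (16327, 18409), (16328, 18426), (16329, 18411), (16330, 14141), (16331, 18430), (16332, 18415), (16333, 14152), (16334, 14144), (16335, 18435), (16336, 15252), (16337, 15695), (16338, 15255), (16339, 18429), (16340, 14150), (16341, 18442), (16342, 15259), (16343, 18433), (16344, 18434), (16345, 14154), (16346, 18446), (16347, 16347), (16348, 14156), (16349, 18450), (16350, 14161), (16351, 14162), (16352, 14160), (16353, 18454), (16354, 18452), (16355, 18453), (16356, 14164), (16357, 18458), (16358, 15861), (16359, 14175), (16360, 14176), (16361, 14177), (16362, 14178), (16363, 15123), (16364, 14179), (16365, 15112), (16366, 15124), (16367, 14180), (16368, 15125), (16369, 18460), (16370, 18461), (16371, 18462), (16372, 18464), (16373, 18467), (16374, 18471), (16375, 15287), (16376, 15288),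 (16377, 18479), (16378, 14193), (16379, 14194), (16380, 14195), (16381, 15135), (16382, 14196), (16383, 15136)]
    ⟨e3 q16320 (flp_f L699050) q18417, e3 q16321 L677535 q14145, e3 q16322 (flp_f L698900) q18403, e3 q16323 (flp_f L698926) q18405, e3 q16324 (flp_f L677563) q14138, e3 q16325 (flp_f L699120) q18423, e3 q16326 (flp_f L698956) q18408, e3 q16327 (flp_f L698966) q18409, e3 q16328 L699151 q18426, e3 q16329 (flp_f L698990) q18411, e3 q16330 (flp_f L677637) q14141, e3 q16331 (flp_f L699213) q18430, e3 q16332 (flp_f L699032) q18415, e3 q16333 L677673 q14152, e3 q16334 L677681 q14144, e3 q16335 (flp_f L699259) q18435, e3 q16336 L677703 q15252, e3 q16337 L677718 q15695, e3 q16338 L677727 q15255, e3 q16339 (flp_f L699203) q18429, e3 q16340 L677756 q14150, e3 q16341 (flp_f L699349) q18442, e3 q16342 L677772 q15259, e3 q16343 (flp_f L699243) q18433, e3 q16344 (flp_f L699251) q18434, e3 q16345 L677802 q14154, e3 q16346 (flp_f L699388) q18446, e3 q16347 L677823 q16347, e3 q16348 L677834 q14156, e3 q16349 (flp_f L699439) q18450,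 e3 q16350 L677856 q14161, e3 q16351 L677863 q14162, e3 q16352 L677871 q14160, e3 q16353 (flp_f L699475) q18454, e3 q16354 (flp_f L699458) q18452, e3 q16355 (flp_f L699466) q18453, e3 q16356 L677903 q14164, e3 q16357 (flp_f L699510) q18458, e3 q16358 L677919 q15861, e3 q16359 L677931 q14175, e3 q16360 L677946 q14176, e3 q16361 L677958 q14177, e3 q16362 L677967 q14178, e3 q16363 L677985 q15123, e3 q16364 L677993 q14179, e3 q16365 L678001 q15112, e3 q16366 L678017 q15124, e3 q16367 L678027 q14180, e3 q16368 L678040 q15125, e3 q16369 (flp_f L699536) q18460, e3 q16370 (flp_f L699553) q18461, e3 q16371 (flp_f L699565) q18462, e3 q16372 (flp_f L699593) q18464, e3 q16373 (flp_f L699629) q18467, e3 q16374 (flp_f L699678) q18471, e3 q16375 L678120 q15287, e3 q16376 L678128 q15288, e3 q16377 L699759 q18479, e3 q16378 L678146 q14193, e3 q16379 L678162 q14194, e3 q16380 L678173 q14195, e3 q16381 L678190 q15135, e3 q16382 L678199 q14196, e3 q16383 L678211 q15136, trivial⟩ (by decide +kernel)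

theorem ce_f_256 : ∀ r, r < 64 → sm gf (Qf (16384 + r)) = Qf (tab Gen.f (16384 + r)) :=
  edges_tab (sm gf) Qf (tab Gen.f) 16384 [(16384, 14197), (16385, 15137), (16386, 14198), (16387, 18480), (16388, 18481), (16389, 18482), (16390, 18484), (16391, 18486), (16392, 15547), (16393, 14205), (16394, 18490), (16395, 16395), (16396, 15365), (16397, 14212), (16398, 15825), (16399, 16399), (16400, 16400), (16401, 14348), (16402, 15820), (16403, 16403), (16404, 16404), (16405, 14286), (16406, 14287), (16407, 14986), (16408, 14988), (16409, 16409), (16410, 16410), (16411, 14281), (16412, 14282), (16413, 15305), (16414, 15306), (16415, 14230), (16416, 14231), (16417, 18505), (16418, 18506), (16419, 18507), (16420, 15309), (16421, 15341), (16422, 15310), (16423, 16423), (16424, 15358), (16425, 14238), (16426, 14411), (16427, 14241), (16428, 14242), (16429, 18171), (16430, 15312), (16431, 15313), (16432, 15345), (16433, 15811), (16434, 15314), (16435, 18518), (16436, 15315), (16437, 14252), (16438, 14253), (16439, 14254), (16440, 15464),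 (16441, 18169), (16442, 18521), (16443, 14324), (16444, 15318), (16445, 14256), (16446, 18526), (16447, 15320)]
    ⟨e3 q16384 L678221 q14197, e3 q16385 L678233 q15137, e3 q16386 L678245 q14198, e3 q16387 (flp_f L699780) q18480, e3 q16388 (flp_f L699792) q18481, e3 q16389 (flp_f L699800) q18482, e3 q16390 (flp_f L699833) q18484, e3 q16391 (flp_f L699857) q18486, e3 q16392 L678308 q15547, e3 q16393 L678322 q14205, e3 q16394 (flp_f L699910) q18490, e3 q16395 L678354 q16395, e3 q16396 L678370 q15365, e3 q16397 L678381 q14212, e3 q16398 L678396 q15825, e3 q16399 L678412 q16399, e3 q16400 L678423 q16400, e3 q16401 L678439 q14348, e3 q16402 L678454 q15820, e3 q16403 L678469 q16403, e3 q16404 L678481 q16404, e3 q16405 L678500 q14286, e3 q16406 L678515 q14287, e3 q16407 L678525 q14986, e3 q16408 L678544 q14988, e3 q16409 L678557 q16409, e3 q16410 L678573 q16410, e3 q16411 L678590 q14281, e3 q16412 L678606 q14282, e3 q16413 L678618 q15305, e3 q16414 L678632 q15306, e3 q16415 L678649 q14230, e3 q16416 L678664 q14231, e3 q16417 (flp_f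 L700162) q18505, e3 q16418 (flp_f L700176) q18506, e3 q16419 (flp_f L700197) q18507, e3 q16420 L678710 q15309, e3 q16421 L678734 q15341, e3 q16422 L678742 q15310, e3 q16423 L678756 q16423, e3 q16424 L678773 q15358, e3 q16425 L678783 q14238, e3 q16426 L678801 q14411, e3 q16427 L678813 q14241, e3 q16428 L678829 q14242, e3 q16429 (flp_f L695827) q18171, e3 q16430 L678858 q15312, e3 q16431 L678869 q15313, e3 q16432 L678880 q15345, e3 q16433 L678894 q15811, e3 q16434 L678904 q15314, e3 q16435 L700351 q18518, e3 q16436 L678922 q15315, e3 q16437 L678933 q14252, e3 q16438 L678945 q14253, e3 q16439 L678964 q14254, e3 q16440 L678976 q15464, e3 q16441 (flp_f L695795) q18169, e3 q16442 (flp_f L700395) q18521, e3 q16443 L679012 q14324, e3 q16444 L679026 q15318, e3 q16445 (flp_f L679030) q14256, e3 q16446 (flp_f L700457) q18526, e3 q16447 L679054 q15320, trivial⟩ (by decide +kernel)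

theorem ce_f_257 : ∀ r, r < 64 → sm gf (Qf (16448 + r)) = Qf (tab Gen.f (16448 + r)) :=
  edges_tab (sm gf) Qf (tab Gen.f) 16448 [(16448, 16448), (16449, 16449), (16450, 14262), (16451, 18528), (16452, 14265), (16453, 15364), (16454, 15366), (16455, 14341), (16456, 15321), (16457, 14307), (16458, 14342), (16459, 15307), (16460, 15308), (16461, 18500), (16462, 18501), (16463, 15317), (16464, 15319), (16465, 18496), (16466, 18497), (16467, 18498), (16468, 15322), (16469, 18108), (16470, 15323), (16471, 14507), (16472, 14293), (16473, 14294), (16474, 18154), (16475, 18168), (16476, 18127), (16477, 18550), (16478, 18547), (16479, 14325), (16480, 18112), (16481, 15328), (16482, 18114), (16483, 15329), (16484, 14299), (16485, 18557), (16486, 16486), (16487, 18117), (16488, 14335), (16489, 18130), (16490, 18532), (16491, 14333), (16492, 15333), (16493, 14313), (16494, 14314), (16495, 14315), (16496, 18137), (16497, 15847), (16498, 18516), (16499, 18542), (16500, 18564), (16501, 15334), (16502, 18110), (16503, 15335), (16504, 14317),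 (16505, 18572), (16506, 15336), (16507, 18540), (16508, 14326), (16509, 18156), (16510, 18535), (16511, 18524)]
    ⟨e3 q16448 L679072 q16448, e3 q16449 L679083 q16449, e3 q16450 L679101 q14262, e3 q16451 (flp_f L700479) q18528, e3 q16452 L679122 q14265, e3 q16453 L679141 q15364, e3 q16454 L679153 q15366, e3 q16455 L679168 q14341, e3 q16456 L679178 q15321, e3 q16457 L679190 q14307, e3 q16458 L679200 q14342, e3 q16459 L679215 q15307, e3 q16460 L679232 q15308, e3 q16461 (flp_f L700079) q18500, e3 q16462 (flp_f L700099) q18501, e3 q16463 L679267 q15317, e3 q16464 L679280 q15319, e3 q16465 (flp_f L700012) q18496, e3 q16466 (flp_f L700028) q18497, e3 q16467 (flp_f L700049) q18498, e3 q16468 L679314 q15322, e3 q16469 (flp_f L694886) q18108, e3 q16470 L679336 q15323, e3 q16471 L679353 q14507, e3 q16472 L679361 q14293, e3 q16473 L679372 q14294, e3 q16474 (flp_f L695590) q18154, e3 q16475 (flp_f L695784) q18168, e3 q16476 (flp_f L695201) q18127, e3 q16477 L700761 q18550, e3 q16478 (flp_f L700729) q18547, e3 q16479 L679438 q14325,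 e3 q16480 (flp_f L694953) q18112, e3 q16481 L679459 q15328, e3 q16482 (flp_f L694981) q18114, e3 q16483 L679477 q15329, e3 q16484 (flp_f L679481) q14299, e3 q16485 (flp_f L700846) q18557, e3 q16486 L679514 q16486, e3 q16487 (flp_f L695023) q18117, e3 q16488 L679533 q14335, e3 q16489 (flp_f L695245) q18130, e3 q16490 (flp_f L700528) q18532, e3 q16491 L679571 q14333, e3 q16492 L679582 q15333, e3 q16493 L679594 q14313, e3 q16494 L679606 q14314, e3 q16495 L679619 q14315, e3 q16496 (flp_f L695348) q18137, e3 q16497 L679647 q15847, e3 q16498 (flp_f L700330) q18516, e3 q16499 (flp_f L700661) q18542, e3 q16500 (flp_f L700933) q18564, e3 q16501 L679686 q15334, e3 q16502 (flp_f L694920) q18110, e3 q16503 L679717 q15335, e3 q16504 (flp_f L679721) q14317, e3 q16505 (flp_f L701029) q18572, e3 q16506 L679741 q15336, e3 q16507 (flp_f L700639) q18540, e3 q16508 L679756 q14326, e3 q16509 (flp_f L695623) q18156, e3 q16510 (flp_f L700570) q18535, e3 q16511 (flp_f L700433) q18524, trivial⟩ (by decide +kernel)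

theorem ce_f_258 : ∀ r, r < 64 → sm gf (Qf (16512 + r)) = Qf (tab Gen.f (16512 + r)) :=
  edges_tab (sm gf) Qf (tab Gen.f) 16512 [(16512, 18553), (16513, 18575), (16514, 15344), (16515, 18502), (16516, 15346), (16517, 14328), (16518, 18583), (16519, 15349), (16520, 18543), (16521, 14331), (16522, 18587), (16523, 18562), (16524, 15387), (16525, 18560), (16526, 14337), (16527, 18590), (16528, 18530), (16529, 15360), (16530, 15361), (16531, 15362), (16532, 15367), (16533, 15427), (16534, 14626), (16535, 14352), (16536, 14630), (16537, 16537), (16538, 14357), (16539, 18598), (16540, 14633), (16541, 14360), (16542, 18600), (16543, 14363), (16544, 15883), (16545, 14367), (16546, 14660), (16547, 18601), (16548, 16548), (16549, 16549), (16550, 14377), (16551, 14379), (16552, 14473), (16553, 14380), (16554, 14917), (16555, 18298), (16556, 18087), (16557, 18489), (16558, 16558), (16559, 16559), (16560, 16560), (16561, 15435), (16562, 15326), (16563, 14387), (16564, 14388), (16565, 18605), (16566, 18606), (16567, 18607), (16568, 15028),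 (16569, 14648), (16570, 14394), (16571, 14395), (16572, 18612), (16573, 18613), (16574, 18614), (16575, 14574)]
    ⟨e3 q16512 (flp_f L700805) q18553, e3 q16513 (flp_f L701050) q18575, e3 q16514 L679819 q15344, e3 q16515 (flp_f L700111) q18502, e3 q16516 L679852 q15346, e3 q16517 (flp_f L679858) q14328, e3 q16518 (flp_f L701149) q18583, e3 q16519 L679880 q15349, e3 q16520 (flp_f L700689) q18543, e3 q16521 L679896 q14331, e3 q16522 (flp_f L701183) q18587, e3 q16523 (flp_f L700911) q18562, e3 q16524 L679927 q15387, e3 q16525 (flp_f L700881) q18560, e3 q16526 L679950 q14337, e3 q16527 (flp_f L701204) q18590, e3 q16528 (flp_f L700503) q18530, e3 q16529 L679981 q15360, e3 q16530 L679994 q15361, e3 q16531 L680003 q15362, e3 q16532 L680014 q15367, e3 q16533 L680032 q15427, e3 q16534 L680052 q14626, e3 q16535 L680068 q14352, e3 q16536 L680083 q14630, e3 q16537 L680098 q16537, e3 q16538 (flp_f L680101) q14357, e3 q16539 (flp_f L701307) q18598, e3 q16540 L680137 q14633, e3 q16541 L680152 q14360, e3 q16542 (flp_f L701338) q18600, e3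 q16543 L680177 q14363, e3 q16544 L680189 q15883, e3 q16545 L680210 q14367, e3 q16546 L680225 q14660, e3 q16547 (flp_f L701357) q18601, e3 q16548 L680253 q16548, e3 q16549 L680266 q16549, e3 q16550 L680281 q14377, e3 q16551 L680295 q14379, e3 q16552 L680311 q14473, e3 q16553 L680319 q14380, e3 q16554 L680332 q14917, e3 q16555 (flp_f L697576) q18298, e3 q16556 (flp_f L694570) q18087, e3 q16557 (flp_f L699898) q18489, e3 q16558 L680386 q16558, e3 q16559 L680399 q16559, e3 q16560 L680408 q16560, e3 q16561 L680427 q15435, e3 q16562 L680440 q15326, e3 q16563 L680457 q14387, e3 q16564 L680472 q14388, e3 q16565 (flp_f L701424) q18605, e3 q16566 (flp_f L701436) q18606, e3 q16567 (flp_f L701451) q18607, e3 q16568 L680516 q15028, e3 q16569 L680525 q14648, e3 q16570 L680544 q14394, e3 q16571 L680559 q14395, e3 q16572 (flp_f L701513) q18612, e3 q16573 (flp_f L701525) q18613, e3 q16574 (flp_f L701540) q18614, e3 q16575 L680595 q14574, trivial⟩ (by decide +kernel)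

theorem ce_f_259 : ∀ r, r < 64 → sm gf (Qf (16576 + r)) = Qf (tab Gen.f (16576 + r)) :=
  edges_tab (sm gf) Qf (tab Gen.f) 16576 [(16576, 15058), (16577, 15371), (16578, 14486), (16579, 14400), (16580, 14401), (16581, 14402), (16582, 18624), (16583, 18625), (16584, 18626), (16585, 18631), (16586, 18628), (16587, 14553), (16588, 15379), (16589, 18175), (16590, 15380), (16591, 14407), (16592, 18637), (16593, 14663), (16594, 18177), (16595, 15086), (16596, 14415), (16597, 14416), (16598, 14417), (16599, 18641), (16600, 18642), (16601, 15388), (16602, 15389), (16603, 16603), (16604, 14424), (16605, 14425), (16606, 14426), (16607, 18647), (16608, 18648), (16609, 18649), (16610, 18655), (16611, 18651), (16612, 15394), (16613, 15494), (16614, 15395), (16615, 14428), (16616, 18662), (16617, 15397), (16618, 15078), (16619, 14434), (16620, 14435), (16621, 14436), (16622, 18671), (16623, 14438), (16624, 18667), (16625, 18668), (16626, 18670), (16627, 14437), (16628, 18678), (16629, 18673), (16630, 15409), (16631, 18538), (16632, 15411),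 (16633, 14440), (16634, 18684), (16635, 15413), (16636, 18677), (16637, 14443), (16638, 18688), (16639, 14702)]
    ⟨e3 q16576 L680615 q15058, e3 q16577 L680623 q15371, e3 q16578 L680639 q14486, e3 q16579 L680651 q14400, e3 q16580 L680659 q14401, e3 q16581 L680671 q14402, e3 q16582 (flp_f L701666) q18624, e3 q16583 (flp_f L701680) q18625, e3 q16584 (flp_f L701690) q18626, e3 q16585 L701744 q18631, e3 q16586 (flp_f L701712) q18628, e3 q16587 L680739 q14553, e3 q16588 L680753 q15379, e3 q16589 (flp_f L695898) q18175, e3 q16590 L680767 q15380, e3 q16591 (flp_f L680771) q14407, e3 q16592 (flp_f L701818) q18637, e3 q16593 L680802 q14663, e3 q16594 (flp_f L695928) q18177, e3 q16595 L680827 q15086, e3 q16596 L680842 q14415, e3 q16597 L680854 q14416, e3 q16598 L680870 q14417, e3 q16599 (flp_f L701875) q18641, e3 q16600 (flp_f L701888) q18642, e3 q16601 L680905 q15388, e3 q16602 L680919 q15389, e3 q16603 L680931 q16603, e3 q16604 L680939 q14424, e3 q16605 L680947 q14425, e3 q16606 L680956 q14426, e3 q16607 (flp_f L701952) q18647,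 e3 q16608 (flp_f L701965) q18648, e3 q16609 (flp_f L701975) q18649, e3 q16610 L702024 q18655, e3 q16611 (flp_f L701992) q18651, e3 q16612 L681007 q15394, e3 q16613 L681019 q15494, e3 q16614 L681028 q15395, e3 q16615 (flp_f L681030) q14428, e3 q16616 (flp_f L702099) q18662, e3 q16617 L681050 q15397, e3 q16618 L681064 q15078, e3 q16619 L681072 q14434, e3 q16620 L681082 q14435, e3 q16621 L681090 q14436, e3 q16622 L702179 q18671, e3 q16623 L681106 q14438, e3 q16624 (flp_f L702147) q18667, e3 q16625 (flp_f L702155) q18668, e3 q16626 (flp_f L702175) q18670, e3 q16627 (flp_f L681130) q14437, e3 q16628 (flp_f L702237) q18678, e3 q16629 (flp_f L702195) q18673, e3 q16630 L681152 q15409, e3 q16631 (flp_f L700607) q18538, e3 q16632 L681164 q15411, e3 q16633 (flp_f L681166) q14440, e3 q16634 (flp_f L702297) q18684, e3 q16635 L681186 q15413, e3 q16636 (flp_f L702229) q18677, e3 q16637 L681208 q14443, e3 q16638 (flp_f L702333) q18688, e3 q16639 L681218 q14702, trivial⟩ (by decide +kernel)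

theorem ce_f_260 : ∀ r, r < 64 → sm gf (Qf (16640 + r)) = Qf (tab Gen.f (16640 + r)) :=
  edges_tab (sm gf) Qf (tab Gen.f) 16640 [(16640, 14449), (16641, 14447), (16642, 18691), (16643, 18690), (16644, 14451), (16645, 18694), (16646, 14711), (16647, 15087), (16648, 14625), (16649, 14460), (16650, 14461), (16651, 14659), (16652, 14462), (16653, 15969), (16654, 14463), (16655, 18697), (16656, 18698), (16657, 18701), (16658, 15421), (16659, 15422), (16660, 15423), (16661, 14729), (16662, 14477), (16663, 14478), (16664, 14979), (16665, 14479), (16666, 14914), (16667, 14480), (16668, 18296), (16669, 15510), (16670, 18707), (16671, 18709), (16672, 15425), (16673, 15426), (16674, 14487), (16675, 18623), (16676, 18711), (16677, 18712), (16678, 15396), (16679, 14492), (16680, 14493), (16681, 14494), (16682, 18716), (16683, 18717), (16684, 18718), (16685, 18720), (16686, 15410), (16687, 15412), (16688, 15414), (16689, 16689), (16690, 16690), (16691, 14501), (16692, 14502), (16693, 14503), (16694, 18730), (16695, 18731), (16696, 18732),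 (16697, 18740), (16698, 18734), (16699, 15432), (16700, 18138), (16701, 15433), (16702, 18139), (16703, 15434)]
    ⟨e3 q16640 L681238 q14449, e3 q16641 L681246 q14447, e3 q16642 (flp_f L702361) q18691, e3 q16643 (flp_f L702351) q18690, e3 q16644 L681275 q14451, e3 q16645 (flp_f L702390) q18694, e3 q16646 L681291 q14711, e3 q16647 L681306 q15087, e3 q16648 L681329 q14625, e3 q16649 L681337 q14460, e3 q16650 L681345 q14461, e3 q16651 L681365 q14659, e3 q16652 L681371 q14462, e3 q16653 L681385 q15969, e3 q16654 L681393 q14463, e3 q16655 (flp_f L702432) q18697, e3 q16656 (flp_f L702447) q18698, e3 q16657 (flp_f L702485) q18701, e3 q16658 L681436 q15421, e3 q16659 L681450 q15422, e3 q16660 L681455 q15423, e3 q16661 L681469 q14729, e3 q16662 L681480 q14477, e3 q16663 L681493 q14478, e3 q16664 L681512 q14979, e3 q16665 L681520 q14479, e3 q16666 L681535 q14914, e3 q16667 L681546 q14480, e3 q16668 (flp_f L697532) q18296, e3 q16669 L681569 q15510, e3 q16670 (flp_f L702556) q18707, e3 q16671 (flp_f L702580) q18709, e3 q16672 L681604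 q15425, e3 q16673 L681611 q15426, e3 q16674 L681632 q14487, e3 q16675 (flp_f L701656) q18623, e3 q16676 (flp_f L702611) q18711, e3 q16677 (flp_f L702629) q18712, e3 q16678 L681680 q15396, e3 q16679 L681691 q14492, e3 q16680 L681699 q14493, e3 q16681 L681710 q14494, e3 q16682 (flp_f L702676) q18716, e3 q16683 (flp_f L702689) q18717, e3 q16684 (flp_f L702697) q18718, e3 q16685 (flp_f L702718) q18720, e3 q16686 L681759 q15410, e3 q16687 L681774 q15412, e3 q16688 L681780 q15414, e3 q16689 L681793 q16689, e3 q16690 L681807 q16690, e3 q16691 L681815 q14501, e3 q16692 L681823 q14502, e3 q16693 L681834 q14503, e3 q16694 (flp_f L702830) q18730, e3 q16695 (flp_f L702841) q18731, e3 q16696 (flp_f L702849) q18732, e3 q16697 L702937 q18740, e3 q16698 (flp_f L702870) q18734, e3 q16699 L681883 q15432, e3 q16700 (flp_f L695382) q18138, e3 q16701 L681912 q15433, e3 q16702 (flp_f L695395) q18139, e3 q16703 L681925 q15434, trivial⟩ (by decide +kernel)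

theorem ce_f_261 : ∀ r, r < 64 → sm gf (Qf (16704 + r)) = Qf (tab Gen.f (16704 + r)) :=
  edges_tab (sm gf) Qf (tab Gen.f) 16704 [(16704, 18166), (16705, 14511), (16706, 14512), (16707, 14513), (16708, 18755), (16709, 14515), (16710, 18749), (16711, 18759), (16712, 18751), (16713, 18752), (16714, 18764), (16715, 18754), (16716, 14514), (16717, 18767), (16718, 18757), (16719, 15444), (16720, 18155), (16721, 15445), (16722, 18157), (16723, 15446), (16724, 18159), (16725, 14521), (16726, 18776), (16727, 14780), (16728, 14524), (16729, 18778), (16730, 18164), (16731, 18170), (16732, 14533), (16733, 16733), (16734, 14534), (16735, 14535), (16736, 14536), (16737, 16737), (16738, 14537), (16739, 18781), (16740, 18782), (16741, 18784), (16742, 18775), (16743, 18785), (16744, 18786), (16745, 15455), (16746, 15456), (16747, 15457), (16748, 16748), (16749, 16749), (16750, 16750), (16751, 15068), (16752, 14547), (16753, 14548), (16754, 14549), (16755, 18809), (16756, 14551), (16757, 18803), (16758, 18813), (16759, 18805), (16760, 18806),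 (16761, 18817), (16762, 18808), (16763, 14550), (16764, 18821), (16765, 18811), (16766, 15465), (16767, 18634)]
    ⟨e3 q16704 (flp_f L695750) q18166, e3 q16705 L681945 q14511, e3 q16706 L681957 q14512, e3 q16707 L681965 q14513, e3 q16708 L703082 q18755, e3 q16709 L681985 q14515, e3 q16710 (flp_f L703030) q18749, e3 q16711 L703120 q18759, e3 q16712 (flp_f L703050) q18751, e3 q16713 (flp_f L703058) q18752, e3 q16714 L703174 q18764, e3 q16715 (flp_f L703078) q18754, e3 q16716 (flp_f L682044) q14514, e3 q16717 (flp_f L703206) q18767, e3 q16718 (flp_f L703104) q18757, e3 q16719 L682072 q15444, e3 q16720 (flp_f L695613) q18155, e3 q16721 L682095 q15445, e3 q16722 (flp_f L695636) q18157, e3 q16723 L682112 q15446, e3 q16724 (flp_f L695658) q18159, e3 q16725 (flp_f L682120) q14521, e3 q16726 (flp_f L703290) q18776, e3 q16727 L682152 q14780, e3 q16728 L682166 q14524, e3 q16729 (flp_f L703315) q18778, e3 q16730 (flp_f L695722) q18164, e3 q16731 (flp_f L695813) q18170, e3 q16732 L682198 q14533, e3 q16733 L682213 q16733, e3 q16734 L682221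 q14534, e3 q16735 L682229 q14535, e3 q16736 L682241 q14536, e3 q16737 L682254 q16737, e3 q16738 L682262 q14537, e3 q16739 (flp_f L703339) q18781, e3 q16740 (flp_f L703355) q18782, e3 q16741 (flp_f L703376) q18784, e3 q16742 (flp_f L703277) q18775, e3 q16743 (flp_f L703388) q18785, e3 q16744 (flp_f L703398) q18786, e3 q16745 L682337 q15455, e3 q16746 L682345 q15456, e3 q16747 L682352 q15457, e3 q16748 L682362 q16748, e3 q16749 L682371 q16749, e3 q16750 L682383 q16750, e3 q16751 L682393 q15068, e3 q16752 L682401 q14547, e3 q16753 L682410 q14548, e3 q16754 L682416 q14549, e3 q16755 L703634 q18809, e3 q16756 L682433 q14551, e3 q16757 (flp_f L703579) q18803, e3 q16758 L703665 q18813, e3 q16759 (flp_f L703598) q18805, e3 q16760 (flp_f L703605) q18806, e3 q16761 L703706 q18817, e3 q16762 (flp_f L703630) q18808, e3 q16763 (flp_f L682499) q14550, e3 q16764 (flp_f L703746) q18821, e3 q16765 (flp_f L703648) q18811, e3 q16766 L682528 q15465, e3 q16767 (flp_f L701792) q18634, trivial⟩ (by decide +kernel)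

theorem ce_f_262 : ∀ r, r < 64 → sm gf (Qf (16768 + r)) = Qf (tab Gen.f (16768 + r)) :=
  edges_tab (sm gf) Qf (tab Gen.f) 16768 [(16768, 15468), (16769, 18820), (16770, 14556), (16771, 18827), (16772, 18148), (16773, 18167), (16774, 14564), (16775, 18833), (16776, 14566), (16777, 14567), (16778, 18840), (16779, 14569), (16780, 14562), (16781, 18844), (16782, 14572), (16783, 18846), (16784, 18832), (16785, 14565), (16786, 18849), (16787, 18835), (16788, 18836), (16789, 18852), (16790, 18838), (16791, 14568), (16792, 18856), (16793, 18842), (16794, 14579), (16795, 14571), (16796, 18861), (16797, 15495), (16798, 18620), (16799, 15498), (16800, 18855), (16801, 14577), (16802, 18867), (16803, 15502), (16804, 18859), (16805, 18860), (16806, 14581), (16807, 18872), (16808, 14583), (16809, 18874), (16810, 14588), (16811, 14589), (16812, 14587), (16813, 18878), (16814, 18876), (16815, 18877), (16816, 14591), (16817, 18881), (16818, 16818), (16819, 14603), (16820, 16820), (16821, 14604), (16822, 14605), (16823, 16823), (16824, 14606),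 (16825, 16825), (16826, 16826), (16827, 14607), (16828, 16828), (16829, 18885), (16830, 18888), (16831, 18891)]
    ⟨e3 q16768 L682544 q15468, e3 q16769 (flp_f L703741) q18820, e3 q16770 L682560 q14556, e3 q16771 (flp_f L703798) q18827, e3 q16772 (flp_f L695517) q18148, e3 q16773 (flp_f L695767) q18167, e3 q16774 L682586 q14564, e3 q16775 L703843 q18833, e3 q16776 L682604 q14566, e3 q16777 L682612 q14567, e3 q16778 L703913 q18840, e3 q16779 L682632 q14569, e3 q16780 (flp_f L682636) q14562, e3 q16781 (flp_f L703949) q18844, e3 q16782 L682652 q14572, e3 q16783 L703957 q18846, e3 q16784 (flp_f L703839) q18832, e3 q16785 (flp_f L682679) q14565, e3 q16786 (flp_f L703995) q18849, e3 q16787 (flp_f L703863) q18835, e3 q16788 (flp_f L703873) q18836, e3 q16789 L704023 q18852, e3 q16790 (flp_f L703899) q18838, e3 q16791 (flp_f L682744) q14568, e3 q16792 (flp_f L704073) q18856, e3 q16793 (flp_f L703931) q18842, e3 q16794 L682768 q14579, e3 q16795 L682774 q14571, e3 q16796 (flp_f L704105) q18861, e3 q16797 L682792 q15495, e3 q16798 (flp_f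 L701621) q18620, e3 q16799 L682809 q15498, e3 q16800 (flp_f L704066) q18855, e3 q16801 L682825 q14577, e3 q16802 (flp_f L704160) q18867, e3 q16803 L682835 q15502, e3 q16804 (flp_f L704093) q18859, e3 q16805 (flp_f L704099) q18860, e3 q16806 L682857 q14581, e3 q16807 (flp_f L704187) q18872, e3 q16808 L682870 q14583, e3 q16809 (flp_f L704202) q18874, e3 q16810 L682891 q14588, e3 q16811 L682899 q14589, e3 q16812 L682908 q14587, e3 q16813 (flp_f L704241) q18878, e3 q16814 (flp_f L704221) q18876, e3 q16815 (flp_f L704232) q18877, e3 q16816 L682939 q14591, e3 q16817 (flp_f L704263) q18881, e3 q16818 L682955 q16818, e3 q16819 L682962 q14603, e3 q16820 L682974 q16820, e3 q16821 L682981 q14604, e3 q16822 L682990 q14605, e3 q16823 L683008 q16823, e3 q16824 L683015 q14606, e3 q16825 L683023 q16825, e3 q16826 L683034 q16826, e3 q16827 L683041 q14607, e3 q16828 L683052 q16828, e3 q16829 (flp_f L704303) q18885, e3 q16830 (flp_f L704338) q18888, e3 q16831 (flp_f L704374) q18891, trivial⟩ (by decide +kernel)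

theorem ce_f_263 : ∀ r, r < 64 → sm gf (Qf (16832 + r)) = Qf (tab Gen.f (16832 + r)) :=
  edges_tab (sm gf) Qf (tab Gen.f) 16832 [(16832, 18895), (16833, 15527), (16834, 15528), (16835, 18882), (16836, 16836), (16837, 16837), (16838, 14619), (16839, 16839), (16840, 14620), (16841, 16841), (16842, 16842), (16843, 18902), (16844, 18696), (16845, 18596), (16846, 18597), (16847, 14634), (16848, 14632), (16849, 18905), (16850, 18904), (16851, 14636), (16852, 15874), (16853, 14639), (16854, 14643), (16855, 14644), (16856, 14645), (16857, 18908), (16858, 18909), (16859, 18910), (16860, 18912), (16861, 15177), (16862, 15179), (16863, 16863), (16864, 14653), (16865, 14654), (16866, 18922), (16867, 14656), (16868, 18699), (16869, 18921), (16870, 14655), (16871, 18927), (16872, 18924), (16873, 18319), (16874, 18700), (16875, 18602), (16876, 14662), (16877, 18931), (16878, 18322), (16879, 16879), (16880, 16880), (16881, 16881), (16882, 16882), (16883, 16883), (16884, 14673), (16885, 14674), (16886, 18942), (16887, 14676), (16888, 18945),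 (16889, 18941), (16890, 14675), (16891, 18948), (16892, 18944), (16893, 18318), (16894, 16894), (16895, 16895)]
    ⟨e3 q16832 (flp_f L704410) q18895, e3 q16833 L683103 q15527, e3 q16834 L683110 q15528, e3 q16835 (flp_f L704274) q18882, e3 q16836 L683124 q16836, e3 q16837 L683140 q16837, e3 q16838 L683148 q14619, e3 q16839 L683162 q16839, e3 q16840 L683171 q14620, e3 q16841 L683187 q16841, e3 q16842 L683198 q16842, e3 q16843 (flp_f L704486) q18902, e3 q16844 (flp_f L702422) q18696, e3 q16845 (flp_f L701271) q18596, e3 q16846 (flp_f L701288) q18597, e3 q16847 L683269 q14634, e3 q16848 L683280 q14632, e3 q16849 (flp_f L704531) q18905, e3 q16850 (flp_f L704520) q18904, e3 q16851 L683322 q14636, e3 q16852 L683335 q15874, e3 q16853 L683345 q14639, e3 q16854 L683357 q14643, e3 q16855 L683367 q14644, e3 q16856 L683380 q14645, e3 q16857 (flp_f L704575) q18908, e3 q16858 (flp_f L704588) q18909, e3 q16859 (flp_f L704598) q18910, e3 q16860 (flp_f L704625) q18912, e3 q16861 L683445 q15177, e3 q16862 L683454 q15179, e3 q16863 L683467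 q16863, e3 q16864 L683476 q14653, e3 q16865 L683490 q14654, e3 q16866 L704742 q18922, e3 q16867 L683514 q14656, e3 q16868 (flp_f L702457) q18699, e3 q16869 (flp_f L704738) q18921, e3 q16870 (flp_f L683542) q14655, e3 q16871 (flp_f L704810) q18927, e3 q16872 (flp_f L704768) q18924, e3 q16873 (flp_f L697863) q18319, e3 q16874 (flp_f L702475) q18700, e3 q16875 (flp_f L701374) q18602, e3 q16876 L683612 q14662, e3 q16877 (flp_f L704851) q18931, e3 q16878 (flp_f L697905) q18322, e3 q16879 L683638 q16879, e3 q16880 L683653 q16880, e3 q16881 L683660 q16881, e3 q16882 L683671 q16882, e3 q16883 L683682 q16883, e3 q16884 L683691 q14673, e3 q16885 L683705 q14674, e3 q16886 L704957 q18942, e3 q16887 L683729 q14676, e3 q16888 L704991 q18945, e3 q16889 (flp_f L704953) q18941, e3 q16890 (flp_f L683756) q14675, e3 q16891 (flp_f L705034) q18948, e3 q16892 (flp_f L704983) q18944, e3 q16893 (flp_f L697848) q18318, e3 q16894 L683801 q16894, e3 q16895 L683810 q16895, trivial⟩ (by decide +kernel)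

theorem ce_f_264 : ∀ r, r < 64 → sm gf (Qf (16896 + r)) = Qf (tab Gen.f (16896 + r)) :=
  edges_tab (sm gf) Qf (tab Gen.f) 16896 [(16896, 14685), (16897, 18956), (16898, 14687), (16899, 14688), (16900, 18962), (16901, 14690), (16902, 14683), (16903, 18966), (16904, 14693), (16905, 18955), (16906, 14686), (16907, 18969), (16908, 18958), (16909, 18960), (16910, 14689), (16911, 18972), (16912, 18964), (16913, 14697), (16914, 14692), (16915, 18976), (16916, 15598), (16917, 18305), (16918, 18974), (16919, 18975), (16920, 14699), (16921, 18980), (16922, 16922), (16923, 14701), (16924, 18983), (16925, 14706), (16926, 14707), (16927, 14705), (16928, 18987), (16929, 18985), (16930, 18986), (16931, 14709), (16932, 18478), (16933, 15860), (16934, 16934), (16935, 16935), (16936, 14721), (16937, 14728), (16938, 14722), (16939, 15567), (16940, 15625), (16941, 14733), (16942, 14734), (16943, 14735), (16944, 18993), (16945, 18994), (16946, 18996), (16947, 15572), (16948, 16948), (16949, 14741), (16950, 14742), (16951, 14743), (16952, 18965),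 (16953, 14744), (16954, 19001), (16955, 19003), (16956, 19005), (16957, 19007), (16958, 15599), (16959, 16959)]
    ⟨e3 q16896 L683821 q14685, e3 q16897 L705120 q18956, e3 q16898 L683839 q14687, e3 q16899 L683847 q14688, e3 q16900 L705188 q18962, e3 q16901 L683875 q14690, e3 q16902 (flp_f L683879) q14683, e3 q16903 (flp_f L705240) q18966, e3 q16904 L683891 q14693, e3 q16905 (flp_f L705116) q18955, e3 q16906 (flp_f L683912) q14686, e3 q16907 (flp_f L705271) q18969, e3 q16908 (flp_f L705136) q18958, e3 q16909 (flp_f L705166) q18960, e3 q16910 (flp_f L683952) q14689, e3 q16911 (flp_f L705310) q18972, e3 q16912 (flp_f L705220) q18964, e3 q16913 L684000 q14697, e3 q16914 L684006 q14692, e3 q16915 (flp_f L705354) q18976, e3 q16916 L684022 q15598, e3 q16917 (flp_f L697677) q18305, e3 q16918 (flp_f L705340) q18974, e3 q16919 (flp_f L705348) q18975, e3 q16920 L684071 q14699, e3 q16921 (flp_f L705389) q18980, e3 q16922 L684090 q16922, e3 q16923 L684095 q14701, e3 q16924 (flp_f L705420) q18983, e3 q16925 L684119 q14706, e3 q16926 L684126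 q14707, e3 q16927 L684132 q14705, e3 q16928 (flp_f L705460) q18987, e3 q16929 (flp_f L705445) q18985, e3 q16930 (flp_f L705453) q18986, e3 q16931 L684168 q14709, e3 q16932 (flp_f L699757) q18478, e3 q16933 L684186 q15860, e3 q16934 L684198 q16934, e3 q16935 L684217 q16935, e3 q16936 L684234 q14721, e3 q16937 L684250 q14728, e3 q16938 L684268 q14722, e3 q16939 L684282 q15567, e3 q16940 L684300 q15625, e3 q16941 L684316 q14733, e3 q16942 L684326 q14734, e3 q16943 L684338 q14735, e3 q16944 (flp_f L705530) q18993, e3 q16945 (flp_f L705548) q18994, e3 q16946 (flp_f L705570) q18996, e3 q16947 L684379 q15572, e3 q16948 L684391 q16948, e3 q16949 L684400 q14741, e3 q16950 L684409 q14742, e3 q16951 L684415 q14743, e3 q16952 (flp_f L705234) q18965, e3 q16953 L684432 q14744, e3 q16954 (flp_f L705618) q19001, e3 q16955 (flp_f L705639) q19003, e3 q16956 (flp_f L705654) q19005, e3 q16957 (flp_f L705670) q19007, e3 q16958 L684472 q15599, e3 q16959 L684485 q16959, trivial⟩ (by decide +kernel)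

theorem ce_f_265 : ∀ r, r < 64 → sm gf (Qf (16960 + r)) = Qf (tab Gen.f (16960 + r)) :=
  edges_tab (sm gf) Qf (tab Gen.f) 16960 [(16960, 16960), (16961, 16961), (16962, 16962), (16963, 14753), (16964, 14754), (16965, 19021), (16966, 14756), (16967, 19024), (16968, 19020), (16969, 14755), (16970, 19027), (16971, 19023), (16972, 18244), (16973, 16973), (16974, 16974), (16975, 14765), (16976, 19035), (16977, 14767), (16978, 14768), (16979, 19041), (16980, 14770), (16981, 14763), (16982, 19044), (16983, 14773), (16984, 19046), (16985, 19034), (16986, 14766), (16987, 19050), (16988, 19037), (16989, 19039), (16990, 14769), (16991, 19053), (16992, 19043), (16993, 14772), (16994, 19055), (16995, 15651), (16996, 18268), (16997, 18270), (16998, 16998), (16999, 14779), (17000, 19060), (17001, 14782), (17002, 19062), (17003, 18276), (17004, 17004), (17005, 14978), (17006, 17006), (17007, 17007), (17008, 14793), (17009, 17009), (17010, 14794), (17011, 17011), (17012, 14795), (17013, 17013), (17014, 17014), (17015, 19070), (17016, 15613),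 (17017, 17017), (17018, 17018), (17019, 17019), (17020, 19083), (17021, 17021), (17022, 17022), (17023, 17023)]
    ⟨e3 q16960 L684494 q16960, e3 q16961 L684505 q16961, e3 q16962 L684520 q16962, e3 q16963 L684529 q14753, e3 q16964 L684543 q14754, e3 q16965 L705817 q19021, e3 q16966 L684567 q14756, e3 q16967 L705851 q19024, e3 q16968 (flp_f L705813) q19020, e3 q16969 (flp_f L684594) q14755, e3 q16970 (flp_f L705894) q19027, e3 q16971 (flp_f L705843) q19023, e3 q16972 (flp_f L696865) q18244, e3 q16973 L684641 q16973, e3 q16974 L684652 q16974, e3 q16975 L684661 q14765, e3 q16976 L705978 q19035, e3 q16977 L684683 q14767, e3 q16978 L684691 q14768, e3 q16979 L706032 q19041, e3 q16980 L684717 q14770, e3 q16981 (flp_f L684721) q14763, e3 q16982 (flp_f L706072) q19044, e3 q16983 L684739 q14773, e3 q16984 L706082 q19046, e3 q16985 (flp_f L705974) q19034, e3 q16986 (flp_f L684770) q14766, e3 q16987 (flp_f L706137) q19050, e3 q16988 (flp_f L705998) q19037, e3 q16989 (flp_f L706018) q19039, e3 q16990 (flp_f L684806) q14769, e3 q16991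 (flp_f L706169) q19053, e3 q16992 (flp_f L706058) q19043, e3 q16993 L684844 q14772, e3 q16994 (flp_f L706187) q19055, e3 q16995 L684858 q15651, e3 q16996 (flp_f L697160) q18268, e3 q16997 (flp_f L697182) q18270, e3 q16998 L684889 q16998, e3 q16999 L684895 q14779, e3 q17000 (flp_f L706227) q19060, e3 q17001 L684915 q14782, e3 q17002 (flp_f L706244) q19062, e3 q17003 (flp_f L697255) q18276, e3 q17004 L684936 q17004, e3 q17005 (flp_f L684956) q14978, e3 q17006 L684965 q17006, e3 q17007 L684984 q17007, e3 q17008 L684993 q14793, e3 q17009 L685006 q17009, e3 q17010 L685014 q14794, e3 q17011 L685035 q17011, e3 q17012 L685041 q14795, e3 q17013 L685053 q17013, e3 q17014 L685064 q17014, e3 q17015 (flp_f L706348) q19070, e3 q17016 L685093 q15613, e3 q17017 L685101 q17017, e3 q17018 L685110 q17018, e3 q17019 L685115 q17019, e3 q17020 L706477 q19083, e3 q17021 L685130 q17021, e3 q17022 L685135 q17022, e3 q17023 L685146 q17023, trivial⟩ (by decide +kernel)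

theorem ce_f_266 : ∀ r, r < 64 → sm gf (Qf (17024 + r)) = Qf (tab Gen.f (17024 + r)) :=
  edges_tab (sm gf) Qf (tab Gen.f) 17024 [(17024, 14807), (17025, 19092), (17026, 14809), (17027, 14810), (17028, 19098), (17029, 14812), (17030, 14805), (17031, 19102), (17032, 14815), (17033, 19089), (17034, 19105), (17035, 19091), (17036, 14808), (17037, 19109), (17038, 19094), (17039, 19096), (17040, 14811), (17041, 19113), (17042, 19100), (17043, 14820), (17044, 14814), (17045, 19117), (17046, 15697), (17047, 19112), (17048, 14818), (17049, 19121), (17050, 19115), (17051, 19116), (17052, 14822), (17053, 19125), (17054, 17054), (17055, 19130), (17056, 17056), (17057, 14834), (17058, 19137), (17059, 14836), (17060, 14826), (17061, 19141), (17062, 14839), (17063, 14840), (17064, 19146), (17065, 14842), (17066, 19149), (17067, 14829), (17068, 19153), (17069, 14845), (17070, 15720), (17071, 14832), (17072, 19158), (17073, 19133), (17074, 19161), (17075, 19135), (17076, 14835), (17077, 19165), (17078, 19139), (17079, 17079), (17080, 14838),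 (17081, 19170), (17082, 19144), (17083, 14841), (17084, 19174), (17085, 19148), (17086, 14853), (17087, 14844)]
    ⟨e3 q17024 L685155 q14807, e3 q17025 L706561 q19092, e3 q17026 L685173 q14809, e3 q17027 L685181 q14810, e3 q17028 L706611 q19098, e3 q17029 L685205 q14812, e3 q17030 (flp_f L685209) q14805, e3 q17031 (flp_f L706657) q19102, e3 q17032 L685223 q14815, e3 q17033 (flp_f L706529) q19089, e3 q17034 L706678 q19105, e3 q17035 (flp_f L706557) q19091, e3 q17036 (flp_f L685264) q14808, e3 q17037 (flp_f L706725) q19109, e3 q17038 (flp_f L706577) q19094, e3 q17039 (flp_f L706597) q19096, e3 q17040 (flp_f L685294) q14811, e3 q17041 (flp_f L706770) q19113, e3 q17042 (flp_f L706637) q19100, e3 q17043 L685333 q14820, e3 q17044 L685338 q14814, e3 q17045 (flp_f L706800) q19117, e3 q17046 L685352 q15697, e3 q17047 (flp_f L706760) q19112, e3 q17048 L685385 q14818, e3 q17049 (flp_f L706850) q19121, e3 q17050 (flp_f L706787) q19115, e3 q17051 (flp_f L706794) q19116, e3 q17052 L685418 q14822, e3 q17053 (flp_f L706886) q19125, e3 q17054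 L685431 q17054, e3 q17055 L706932 q19130, e3 q17056 L685448 q17056, e3 q17057 L685457 q14834, e3 q17058 L706988 q19137, e3 q17059 L685473 q14836, e3 q17060 (flp_f L685477) q14826, e3 q17061 (flp_f L707020) q19141, e3 q17062 L685491 q14839, e3 q17063 L685499 q14840, e3 q17064 L707054 q19146, e3 q17065 L685515 q14842, e3 q17066 L707076 q19149, e3 q17067 (flp_f L685525) q14829, e3 q17068 (flp_f L707109) q19153, e3 q17069 L685543 q14845, e3 q17070 L685551 q15720, e3 q17071 L685557 q14832, e3 q17072 (flp_f L707151) q19158, e3 q17073 (flp_f L706956) q19133, e3 q17074 L707168 q19161, e3 q17075 (flp_f L706978) q19135, e3 q17076 (flp_f L685595) q14835, e3 q17077 (flp_f L707207) q19165, e3 q17078 (flp_f L707008) q19139, e3 q17079 L685623 q17079, e3 q17080 L685628 q14838, e3 q17081 (flp_f L707249) q19170, e3 q17082 (flp_f L707042) q19144, e3 q17083 (flp_f L685647) q14841, e3 q17084 (flp_f L707284) q19174, e3 q17085 (flp_f L707072) q19148, e3 q17086 L685672 q14853, e3 q17087 L685679 q14844, trivial⟩ (by decide +kernel)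

theorem ce_f_267 : ∀ r, r < 64 → sm gf (Qf (17088 + r)) = Qf (tab Gen.f (17088 + r)) :=
  edges_tab (sm gf) Qf (tab Gen.f) 17088 [(17088, 19179), (17089, 19155), (17090, 14857), (17091, 14858), (17092, 14848), (17093, 19184), (17094, 15745), (17095, 19173), (17096, 14851), (17097, 19188), (17098, 15749), (17099, 19177), (17100, 19178), (17101, 14855), (17102, 19192), (17103, 18243), (17104, 19182), (17105, 19183), (17106, 14860), (17107, 19197), (17108, 17108), (17109, 17109), (17110, 14863), (17111, 19201), (17112, 14868), (17113, 14869), (17114, 14867), (17115, 19205), (17116, 19203), (17117, 19204), (17118, 14871), (17119, 15289), (17120, 17120), (17121, 14971), (17122, 17122), (17123, 14913), (17124, 17124), (17125, 14888), (17126, 17126), (17127, 14889), (17128, 17128), (17129, 17129), (17130, 14890), (17131, 17131), (17132, 17132), (17133, 14891), (17134, 17134), (17135, 17135), (17136, 14892), (17137, 17137), (17138, 17138), (17139, 17139), (17140, 14893), (17141, 17141), (17142, 19215), (17143, 19213), (17144, 19219),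 (17145, 19221), (17146, 19223), (17147, 19232), (17148, 14912), (17149, 17149), (17150, 14915), (17151, 17151)]
    ⟨e3 q17088 (flp_f L707324) q19179, e3 q17089 (flp_f L707123) q19155, e3 q17090 L685705 q14857, e3 q17091 L685711 q14858, e3 q17092 L685717 q14848, e3 q17093 (flp_f L707359) q19184, e3 q17094 L685729 q15745, e3 q17095 (flp_f L707277) q19173, e3 q17096 L685756 q14851, e3 q17097 (flp_f L707406) q19188, e3 q17098 L685770 q15749, e3 q17099 (flp_f L707309) q19177, e3 q17100 (flp_f L707316) q19178, e3 q17101 L685800 q14855, e3 q17102 (flp_f L707437) q19192, e3 q17103 (flp_f L696850) q18243, e3 q17104 (flp_f L707347) q19182, e3 q17105 (flp_f L707353) q19183, e3 q17106 L685835 q14860, e3 q17107 (flp_f L707480) q19197, e3 q17108 L685848 q17108, e3 q17109 L685855 q17109, e3 q17110 L685861 q14863, e3 q17111 (flp_f L707511) q19201, e3 q17112 L685875 q14868, e3 q17113 L685882 q14869, e3 q17114 L685889 q14867, e3 q17115 (flp_f L707544) q19205, e3 q17116 (flp_f L707530) q19203, e3 q17117 (flp_f L707537) q19204, e3 q17118 L685916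 q14871, e3 q17119 L685926 q15289, e3 q17120 L685932 q17120, e3 q17121 (flp_f L685957) q14971, e3 q17122 L685963 q17122, e3 q17123 L685974 q14913, e3 q17124 L685990 q17124, e3 q17125 L686003 q14888, e3 q17126 L686029 q17126, e3 q17127 L686036 q14889, e3 q17128 L686042 q17128, e3 q17129 L686051 q17129, e3 q17130 L686060 q14890, e3 q17131 L686074 q17131, e3 q17132 L686093 q17132, e3 q17133 L686100 q14891, e3 q17134 L686108 q17134, e3 q17135 L686119 q17135, e3 q17136 L686132 q14892, e3 q17137 L686140 q17137, e3 q17138 L686149 q17138, e3 q17139 L686162 q17139, e3 q17140 L686171 q14893, e3 q17141 L686185 q17141, e3 q17142 (flp_f L707660) q19215, e3 q17143 (flp_f L707625) q19213, e3 q17144 (flp_f L707705) q19219, e3 q17145 (flp_f L707738) q19221, e3 q17146 (flp_f L707757) q19223, e3 q17147 L707844 q19232, e3 q17148 L686266 q14912, e3 q17149 L686281 q17149, e3 q17150 L686295 q14915, e3 q17151 L686311 q17151, trivial⟩ (by decide +kernel)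

theorem ce_f_268 : ∀ r, r < 64 → sm gf (Qf (17152 + r)) = Qf (tab Gen.f (17152 + r)) :=
  edges_tab (sm gf) Qf (tab Gen.f) 17152 [(17152, 14916), (17153, 19066), (17154, 18708), (17155, 15779), (17156, 17156), (17157, 17157), (17158, 17158), (17159, 17159), (17160, 17160), (17161, 17161), (17162, 14970), (17163, 17163), (17164, 17164), (17165, 15620), (17166, 17166), (17167, 17167), (17168, 17168), (17169, 15281), (17170, 17170), (17171, 15301), (17172, 17172), (17173, 14947), (17174, 14948), (17175, 14949), (17176, 15663), (17177, 14950), (17178, 15723), (17179, 15770), (17180, 19248), (17181, 19249), (17182, 15802), (17183, 17183), (17184, 14972), (17185, 14973), (17186, 14974), (17187, 17187), (17188, 17188), (17189, 17189), (17190, 19262), (17191, 17191), (17192, 19064), (17193, 19212), (17194, 18468), (17195, 14975), (17196, 18109), (17197, 18115), (17198, 18118), (17199, 18499), (17200, 18119), (17201, 18124), (17202, 14995), (17203, 18111), (17204, 19266), (17205, 18503), (17206, 15316), (17207, 14997), (17208, 19270),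 (17209, 18126), (17210, 15000), (17211, 19272), (17212, 15010), (17213, 15011), (17214, 19274), (17215, 15851)]
    ⟨e3 q17152 L686322 q14916, e3 q17153 (flp_f L706293) q19066, e3 q17154 (flp_f L702570) q18708, e3 q17155 L686357 q15779, e3 q17156 L686372 q17156, e3 q17157 L686386 q17157, e3 q17158 L686396 q17158, e3 q17159 L686413 q17159, e3 q17160 L686426 q17160, e3 q17161 L686444 q17161, e3 q17162 (flp_f L686465) q14970, e3 q17163 L686482 q17163, e3 q17164 L686492 q17164, e3 q17165 L686504 q15620, e3 q17166 L686516 q17166, e3 q17167 L686529 q17167, e3 q17168 L686534 q17168, e3 q17169 (flp_f L686550) q15281, e3 q17170 L686556 q17170, e3 q17171 L686568 q15301, e3 q17172 L686577 q17172, e3 q17173 L686585 q14947, e3 q17174 L686602 q14948, e3 q17175 L686611 q14949, e3 q17176 L686636 q15663, e3 q17177 L686643 q14950, e3 q17178 L686653 q15723, e3 q17179 L686667 q15770, e3 q17180 (flp_f L708059) q19248, e3 q17181 (flp_f L708074) q19249, e3 q17182 L686711 q15802, e3 q17183 L686726 q17183, e3 q17184 L686735 q14972, e3 q17185 L686753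 q14973, e3 q17186 L686761 q14974, e3 q17187 L686770 q17187, e3 q17188 L686782 q17188, e3 q17189 L686791 q17189, e3 q17190 L708230 q19262, e3 q17191 L686810 q17191, e3 q17192 L706269 q19064, e3 q17193 (flp_f L707609) q19212, e3 q17194 (flp_f L699640) q18468, e3 q17195 (flp_f L686849) q14975, e3 q17196 (flp_f L694898) q18109, e3 q17197 (flp_f L694991) q18115, e3 q17198 (flp_f L695042) q18118, e3 q17199 (flp_f L700069) q18499, e3 q17200 (flp_f L695056) q18119, e3 q17201 (flp_f L695147) q18124, e3 q17202 L686938 q14995, e3 q17203 (flp_f L694932) q18111, e3 q17204 (flp_f L708292) q19266, e3 q17205 (flp_f L700139) q18503, e3 q17206 L686987 q15316, e3 q17207 (flp_f L686991) q14997, e3 q17208 (flp_f L708346) q19270, e3 q17209 (flp_f L695177) q18126, e3 q17210 L687027 q15000, e3 q17211 (flp_f L708366) q19272, e3 q17212 L687049 q15010, e3 q17213 L687065 q15011, e3 q17214 (flp_f L708394) q19274, e3 q17215 L687095 q15851, trivial⟩ (by decide +kernel)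

theorem ce_f_269 : ∀ r, r < 64 → sm gf (Qf (17216 + r)) = Qf (tab Gen.f (17216 + r)) :=
  edges_tab (sm gf) Qf (tab Gen.f) 17216 [(17216, 18140), (17217, 15439), (17218, 15016), (17219, 19278), (17220, 18158), (17221, 15467), (17222, 15021), (17223, 15022), (17224, 19281), (17225, 18176), (17226, 19283), (17227, 15027), (17228, 15026), (17229, 19286), (17230, 19285), (17231, 18611), (17232, 15031), (17233, 15037), (17234, 15036), (17235, 15474), (17236, 15040), (17237, 19289), (17238, 15471), (17239, 15042), (17240, 19291), (17241, 15469), (17242, 15081), (17243, 15050), (17244, 15459), (17245, 15051), (17246, 15052), (17247, 19301), (17248, 15054), (17249, 15048), (17250, 19305), (17251, 15057), (17252, 18664), (17253, 19295), (17254, 19297), (17255, 19309), (17256, 19299), (17257, 15053), (17258, 19313), (17259, 19303), (17260, 15063), (17261, 15056), (17262, 19317), (17263, 18621), (17264, 18211), (17265, 19312), (17266, 15061), (17267, 19320), (17268, 15470), (17269, 18801), (17270, 19316), (17271, 15065), (17272, 15069),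 (17273, 18802), (17274, 15079), (17275, 15080), (17276, 17276), (17277, 17277), (17278, 18665), (17279, 15472)]
    ⟨e3 q17216 (flp_f L695405) q18140, e3 q17217 L687117 q15439, e3 q17218 L687127 q15016, e3 q17219 (flp_f L708446) q19278, e3 q17220 (flp_f L695644) q18158, e3 q17221 L687153 q15467, e3 q17222 L687165 q15021, e3 q17223 L687180 q15022, e3 q17224 (flp_f L708484) q19281, e3 q17225 (flp_f L695912) q18176, e3 q17226 L708504 q19283, e3 q17227 L687222 q15027, e3 q17228 (flp_f L687224) q15026, e3 q17229 (flp_f L708542) q19286, e3 q17230 (flp_f L708530) q19285, e3 q17231 (flp_f L701500) q18611, e3 q17232 L687277 q15031, e3 q17233 L687292 q15037, e3 q17234 L687309 q15036, e3 q17235 L687327 q15474, e3 q17236 L687335 q15040, e3 q17237 (flp_f L708578) q19289, e3 q17238 L687359 q15471, e3 q17239 L687367 q15042, e3 q17240 (flp_f L708598) q19291, e3 q17241 L687387 q15469, e3 q17242 L687401 q15081, e3 q17243 L687409 q15050, e3 q17244 L687427 q15459, e3 q17245 L687435 q15051, e3 q17246 L687443 q15052, e3 q17247 L708702 q19301,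 e3 q17248 L687459 q15054, e3 q17249 (flp_f L687461) q15048, e3 q17250 (flp_f L708742) q19305, e3 q17251 L687485 q15057, e3 q17252 (flp_f L702111) q18664, e3 q17253 (flp_f L708642) q19295, e3 q17254 (flp_f L708662) q19297, e3 q17255 L708778 q19309, e3 q17256 (flp_f L708686) q19299, e3 q17257 (flp_f L687548) q15053, e3 q17258 (flp_f L708824) q19313, e3 q17259 (flp_f L708722) q19303, e3 q17260 L687582 q15063, e3 q17261 L687590 q15056, e3 q17262 (flp_f L708862) q19317, e3 q17263 (flp_f L701634) q18621, e3 q17264 (flp_f L696435) q18211, e3 q17265 (flp_f L708817) q19312, e3 q17266 L687631 q15061, e3 q17267 (flp_f L708887) q19320, e3 q17268 L687641 q15470, e3 q17269 (flp_f L703554) q18801, e3 q17270 (flp_f L708854) q19316, e3 q17271 L687665 q15065, e3 q17272 L687674 q15069, e3 q17273 (flp_f L703569) q18802, e3 q17274 L687695 q15079, e3 q17275 L687707 q15080, e3 q17276 L687719 q17276, e3 q17277 L687734 q17277, e3 q17278 (flp_f L702129) q18665, e3 q17279 L687755 q15472, trivial⟩ (by decide +kernel)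

theorem ce_f_270 : ∀ r, r < 64 → sm gf (Qf (17280 + r)) = Qf (tab Gen.f (17280 + r)) :=
  edges_tab (sm gf) Qf (tab Gen.f) 17280 [(17280, 19293), (17281, 15088), (17282, 18640), (17283, 15448), (17284, 18102), (17285, 18103), (17286, 18104), (17287, 17287), (17288, 17288), (17289, 18086), (17290, 15155), (17291, 15156), (17292, 15103), (17293, 15104), (17294, 15630), (17295, 15105), (17296, 19331), (17297, 19333), (17298, 15637), (17299, 15113), (17300, 15114), (17301, 15640), (17302, 15115), (17303, 15642), (17304, 15116), (17305, 18465), (17306, 18469), (17307, 19336), (17308, 19337), (17309, 19339), (17310, 19341), (17311, 15220), (17312, 18267), (17313, 18269), (17314, 15126), (17315, 15127), (17316, 15128), (17317, 18463), (17318, 18466), (17319, 18470), (17320, 19351), (17321, 19352), (17322, 19353), (17323, 18288), (17324, 18289), (17325, 18459), (17326, 15138), (17327, 15139), (17328, 15140), (17329, 18483), (17330, 18485), (17331, 19360), (17332, 19361), (17333, 15145), (17334, 15149), (17335, 15150), (17336, 15555),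 (17337, 15151), (17338, 19364), (17339, 19366), (17340, 15157), (17341, 18959), (17342, 15158), (17343, 19327)]
    ⟨e3 q17280 (flp_f L708622) q19293, e3 q17281 L687776 q15088, e3 q17282 (flp_f L701859) q18640, e3 q17283 L687798 q15448, e3 q17284 (flp_f L694802) q18102, e3 q17285 (flp_f L694815) q18103, e3 q17286 (flp_f L694824) q18104, e3 q17287 L687848 q17287, e3 q17288 L687855 q17288, e3 q17289 (flp_f L694550) q18086, e3 q17290 L687876 q15155, e3 q17291 L687891 q15156, e3 q17292 L687903 q15103, e3 q17293 L687918 q15104, e3 q17294 L687932 q15630, e3 q17295 L687942 q15105, e3 q17296 (flp_f L709004) q19331, e3 q17297 (flp_f L709024) q19333, e3 q17298 L687979 q15637, e3 q17299 L687989 q15113, e3 q17300 L687997 q15114, e3 q17301 L688007 q15640, e3 q17302 L688017 q15115, e3 q17303 L688027 q15642, e3 q17304 L688035 q15116, e3 q17305 (flp_f L699601) q18465, e3 q17306 (flp_f L699655) q18469, e3 q17307 (flp_f L709063) q19336, e3 q17308 (flp_f L709075) q19337, e3 q17309 (flp_f L709099) q19339, e3 q17310 (flp_f L709117) q19341, e3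 q17311 L688124 q15220, e3 q17312 (flp_f L697145) q18267, e3 q17313 (flp_f L697169) q18269, e3 q17314 L688149 q15126, e3 q17315 L688162 q15127, e3 q17316 L688170 q15128, e3 q17317 (flp_f L699583) q18463, e3 q17318 (flp_f L699617) q18466, e3 q17319 (flp_f L699669) q18470, e3 q17320 (flp_f L709232) q19351, e3 q17321 (flp_f L709242) q19352, e3 q17322 (flp_f L709249) q19353, e3 q17323 (flp_f L697417) q18288, e3 q17324 (flp_f L697431) q18289, e3 q17325 (flp_f L699522) q18459, e3 q17326 L688275 q15138, e3 q17327 L688283 q15139, e3 q17328 L688289 q15140, e3 q17329 (flp_f L699822) q18483, e3 q17330 (flp_f L699844) q18485, e3 q17331 (flp_f L709325) q19360, e3 q17332 (flp_f L709334) q19361, e3 q17333 L688351 q15145, e3 q17334 L688363 q15149, e3 q17335 L688378 q15150, e3 q17336 L688390 q15555, e3 q17337 L688400 q15151, e3 q17338 (flp_f L709376) q19364, e3 q17339 (flp_f L709396) q19366, e3 q17340 L688431 q15157, e3 q17341 (flp_f L705156) q18959, e3 q17342 L688448 q15158, e3 q17343 (flp_f L708949) q19327, trivial⟩ (by decide +kernel)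

theorem ce_f_271 : ∀ r, r < 64 → sm gf (Qf (17344 + r)) = Qf (tab Gen.f (17344 + r)) :=
  edges_tab (sm gf) Qf (tab Gen.f) 17344 [(17344, 19329), (17345, 19369), (17346, 19371), (17347, 18335), (17348, 17348), (17349, 17349), (17350, 15167), (17351, 19382), (17352, 15169), (17353, 15170), (17354, 19388), (17355, 15172), (17356, 15165), (17357, 19391), (17358, 15175), (17359, 19379), (17360, 19394), (17361, 19381), (17362, 15168), (17363, 19397), (17364, 19384), (17365, 19386), (17366, 15171), (17367, 19400), (17368, 19390), (17369, 15174), (17370, 19403), (17371, 15754), (17372, 18917), (17373, 18351), (17374, 15181), (17375, 17375), (17376, 17376), (17377, 15193), (17378, 17378), (17379, 15194), (17380, 17380), (17381, 15195), (17382, 15196), (17383, 17383), (17384, 15197), (17385, 17385), (17386, 17386), (17387, 15198), (17388, 17388), (17389, 19242), (17390, 19410), (17391, 19413), (17392, 19415), (17393, 19418), (17394, 19421), (17395, 15897), (17396, 15953), (17397, 19210), (17398, 15682), (17399, 15673), (17400, 15684),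 (17401, 17401), (17402, 17402), (17403, 15210), (17404, 15668), (17405, 15211), (17406, 15212), (17407, 19445)]
    ⟨e3 q17344 (flp_f L708978) q19329, e3 q17345 (flp_f L709430) q19369, e3 q17346 (flp_f L709442) q19371, e3 q17347 (flp_f L698074) q18335, e3 q17348 L688507 q17348, e3 q17349 L688516 q17349, e3 q17350 L688525 q15167, e3 q17351 L709549 q19382, e3 q17352 L688543 q15169, e3 q17353 L688551 q15170, e3 q17354 L709607 q19388, e3 q17355 L688569 q15172, e3 q17356 (flp_f L688571) q15165, e3 q17357 (flp_f L709639) q19391, e3 q17358 L688589 q15175, e3 q17359 (flp_f L709525) q19379, e3 q17360 L709656 q19394, e3 q17361 (flp_f L709545) q19381, e3 q17362 (flp_f L688623) q15168, e3 q17363 (flp_f L709696) q19397, e3 q17364 (flp_f L709575) q19384, e3 q17365 (flp_f L709593) q19386, e3 q17366 (flp_f L688665) q15171, e3 q17367 (flp_f L709728) q19400, e3 q17368 (flp_f L709629) q19390, e3 q17369 L688699 q15174, e3 q17370 (flp_f L709756) q19403, e3 q17371 L688717 q15754, e3 q17372 (flp_f L704689) q18917, e3 q17373 (flp_f L698277) q18351,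 e3 q17374 L688747 q15181, e3 q17375 L688759 q17375, e3 q17376 L688774 q17376, e3 q17377 L688781 q15193, e3 q17378 L688798 q17378, e3 q17379 L688805 q15194, e3 q17380 L688818 q17380, e3 q17381 L688828 q15195, e3 q17382 L688838 q15196, e3 q17383 L688853 q17383, e3 q17384 L688859 q15197, e3 q17385 L688867 q17385, e3 q17386 L688880 q17386, e3 q17387 L688889 q15198, e3 q17388 L688899 q17388, e3 q17389 L707990 q19242, e3 q17390 (flp_f L709832) q19410, e3 q17391 (flp_f L709866) q19413, e3 q17392 (flp_f L709893) q19415, e3 q17393 (flp_f L709919) q19418, e3 q17394 (flp_f L709951) q19421, e3 q17395 L688969 q15897, e3 q17396 L688977 q15953, e3 q17397 (flp_f L707582) q19210, e3 q17398 L688992 q15682, e3 q17399 L689009 q15673, e3 q17400 L689017 q15684, e3 q17401 L689025 q17401, e3 q17402 L689037 q17402, e3 q17403 L689042 q15210, e3 q17404 L689059 q15668, e3 q17405 L689067 q15211, e3 q17406 L689074 q15212, e3 q17407 L710177 q19445, trivial⟩ (by decide +kernel)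

theorem ce_f_272 : ∀ r, r < 64 → sm gf (Qf (17408 + r)) = Qf (tab Gen.f (17408 + r)) :=
  edges_tab (sm gf) Qf (tab Gen.f) 17408 [(17408, 15214), (17409, 15208), (17410, 19449), (17411, 15217), (17412, 19437), (17413, 19439), (17414, 19441), (17415, 19453), (17416, 19443), (17417, 15213), (17418, 19456), (17419, 19447), (17420, 15222), (17421, 15216), (17422, 19460), (17423, 15744), (17424, 18394), (17425, 19349), (17426, 18396), (17427, 19075), (17428, 19459), (17429, 15224), (17430, 17430), (17431, 19467), (17432, 17432), (17433, 15236), (17434, 19473), (17435, 15238), (17436, 15228), (17437, 19476), (17438, 15241), (17439, 15242), (17440, 19481), (17441, 15244), (17442, 19484), (17443, 15231), (17444, 19488), (17445, 15247), (17446, 18416), (17447, 15234), (17448, 19493), (17449, 19244), (17450, 19497), (17451, 19471), (17452, 15237), (17453, 19500), (17454, 19475), (17455, 15240), (17456, 19503), (17457, 19504), (17458, 19479), (17459, 15243), (17460, 19508), (17461, 19483), (17462, 15256), (17463, 15246), (17464, 19513),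 (17465, 19490), (17466, 15260), (17467, 15261), (17468, 15250), (17469, 15696), (17470, 18437), (17471, 19507)]
    ⟨e3 q17408 L689091 q15214, e3 q17409 (flp_f L689093) q15208, e3 q17410 (flp_f L710221) q19449, e3 q17411 L689115 q15217, e3 q17412 (flp_f L710108) q19437, e3 q17413 (flp_f L710131) q19439, e3 q17414 (flp_f L710151) q19441, e3 q17415 L710256 q19453, e3 q17416 (flp_f L710172) q19443, e3 q17417 (flp_f L689177) q15213, e3 q17418 (flp_f L710304) q19456, e3 q17419 (flp_f L710197) q19447, e3 q17420 L689217 q15222, e3 q17421 L689225 q15216, e3 q17422 (flp_f L710343) q19460, e3 q17423 L689253 q15744, e3 q17424 (flp_f L698797) q18394, e3 q17425 (flp_f L709212) q19349, e3 q17426 (flp_f L698821) q18396, e3 q17427 (flp_f L706409) q19075, e3 q17428 (flp_f L710335) q19459, e3 q17429 L689307 q15224, e3 q17430 L689314 q17430, e3 q17431 L710408 q19467, e3 q17432 L689331 q17432, e3 q17433 L689338 q15236, e3 q17434 L710454 q19473, e3 q17435 L689356 q15238, e3 q17436 (flp_f L689360) q15228, e3 q17437 (flp_f L710488) q19476, e3 q17438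 L689384 q15241, e3 q17439 L689394 q15242, e3 q17440 L710522 q19481, e3 q17441 L689410 q15244, e3 q17442 L710546 q19484, e3 q17443 (flp_f L689416) q15231, e3 q17444 (flp_f L710573) q19488, e3 q17445 L689432 q15247, e3 q17446 (flp_f L699042) q18416, e3 q17447 L689446 q15234, e3 q17448 (flp_f L710607) q19493, e3 q17449 (flp_f L708004) q19244, e3 q17450 L710638 q19497, e3 q17451 (flp_f L710444) q19471, e3 q17452 (flp_f L689486) q15237, e3 q17453 (flp_f L710675) q19500, e3 q17454 (flp_f L710476) q19475, e3 q17455 L689518 q15240, e3 q17456 (flp_f L710701) q19503, e3 q17457 L710707 q19504, e3 q17458 (flp_f L710514) q19479, e3 q17459 (flp_f L689556) q15243, e3 q17460 (flp_f L710761) q19508, e3 q17461 (flp_f L710544) q19483, e3 q17462 L689587 q15256, e3 q17463 L689594 q15246, e3 q17464 (flp_f L710801) q19513, e3 q17465 (flp_f L710583) q19490, e3 q17466 L689616 q15260, e3 q17467 L689624 q15261, e3 q17468 L689632 q15250, e3 q17469 L689645 q15696, e3 q17470 (flp_f L699279) q18437, e3 q17471 (flp_f L710752) q19507, trivial⟩ (by decide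 +kernel)

theorem ce_f_273 : ∀ r, r < 64 → sm gf (Qf (17472 + r)) = Qf (tab Gen.f (17472 + r)) :=
  edges_tab (sm gf) Qf (tab Gen.f) 17472 [(17472, 15254), (17473, 19521), (17474, 18439), (17475, 19511), (17476, 19512), (17477, 15258), (17478, 19525), (17479, 19198), (17480, 19516), (17481, 19517), (17482, 15266), (17483, 17483), (17484, 17484), (17485, 15282), (17486, 17486), (17487, 17487), (17488, 15283), (17489, 17489), (17490, 15284), (17491, 17491), (17492, 17492), (17493, 15285), (17494, 17494), (17495, 17495), (17496, 17496), (17497, 15286), (17498, 19245), (17499, 19528), (17500, 19532), (17501, 19533), (17502, 19537), (17503, 19545), (17504, 15302), (17505, 17505), (17506, 15303), (17507, 17507), (17508, 15304), (17509, 19247), (17510, 18504), (17511, 18533), (17512, 18510), (17513, 18512), (17514, 18116), (17515, 18514), (17516, 18517), (17517, 18520), (17518, 19269), (17519, 18536), (17520, 18525), (17521, 18537), (17522, 18531), (17523, 18544), (17524, 18546), (17525, 15327), (17526, 19556), (17527, 18555), (17528,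 15332), (17529, 18563), (17530, 18569), (17531, 18571), (17532, 15342), (17533, 18123), (17534, 15343), (17535, 18511)]
    ⟨e3 q17472 L689679 q15254, e3 q17473 (flp_f L710884) q19521, e3 q17474 (flp_f L699305) q18439, e3 q17475 (flp_f L710786) q19511, e3 q17476 (flp_f L710793) q19512, e3 q17477 L689715 q15258, e3 q17478 (flp_f L710911) q19525, e3 q17479 (flp_f L707489) q19198, e3 q17480 (flp_f L710820) q19516, e3 q17481 (flp_f L710828) q19517, e3 q17482 L689747 q15266, e3 q17483 L689755 q17483, e3 q17484 L689762 q17484, e3 q17485 L689774 q15282, e3 q17486 L689780 q17486, e3 q17487 L689789 q17487, e3 q17488 L689796 q15283, e3 q17489 L689807 q17489, e3 q17490 L689817 q15284, e3 q17491 L689823 q17491, e3 q17492 L689832 q17492, e3 q17493 L689839 q15285, e3 q17494 L689844 q17494, e3 q17495 L689850 q17495, e3 q17496 L689857 q17496, e3 q17497 L689861 q15286, e3 q17498 (flp_f L708020) q19245, e3 q17499 (flp_f L710936) q19528, e3 q17500 (flp_f L710966) q19532, e3 q17501 (flp_f L710977) q19533, e3 q17502 (flp_f L711007) q19537, e3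 q17503 L711052 q19545, e3 q17504 L689918 q15302, e3 q17505 L689932 q17505, e3 q17506 L689943 q15303, e3 q17507 L689952 q17507, e3 q17508 L689958 q15304, e3 q17509 (flp_f L708041) q19247, e3 q17510 (flp_f L700149) q18504, e3 q17511 (flp_f L700547) q18533, e3 q17512 (flp_f L700245) q18510, e3 q17513 (flp_f L700273) q18512, e3 q17514 (flp_f L695006) q18116, e3 q17515 (flp_f L700306) q18514, e3 q17516 (flp_f L700347) q18517, e3 q17517 (flp_f L700377) q18520, e3 q17518 (flp_f L708331) q19269, e3 q17519 (flp_f L700589) q18536, e3 q17520 (flp_f L700443) q18525, e3 q17521 (flp_f L700597) q18537, e3 q17522 (flp_f L700512) q18531, e3 q17523 (flp_f L700700) q18544, e3 q17524 (flp_f L700717) q18546, e3 q17525 L690117 q15327, e3 q17526 (flp_f L711164) q19556, e3 q17527 (flp_f L700826) q18555, e3 q17528 L690138 q15332, e3 q17529 (flp_f L700922) q18563, e3 q17530 (flp_f L700994) q18569, e3 q17531 (flp_f L701016) q18571, e3 q17532 L690173 q15342, e3 q17533 (flp_f L695133) q18123, e3 q17534 L690182 q15343, e3 q17535 (flp_f L700263) q18511,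 trivial⟩ (by decide +kernel)

theorem ce_f_274 : ∀ r, r < 64 → sm gf (Qf (17536 + r)) = Qf (tab Gen.f (17536 + r)) :=
  edges_tab (sm gf) Qf (tab Gen.f) 17536 [(17536, 19561), (17537, 18580), (17538, 18515), (17539, 18582), (17540, 15348), (17541, 19568), (17542, 18585), (17543, 18122), (17544, 15352), (17545, 15359), (17546, 15813), (17547, 18513), (17548, 19571), (17549, 18593), (17550, 18594), (17551, 19575), (17552, 18492), (17553, 15369), (17554, 15370), (17555, 19577), (17556, 18622), (17557, 15375), (17558, 15376), (17559, 15377), (17560, 19280), (17561, 15378), (17562, 19580), (17563, 19582), (17564, 19584), (17565, 18635), (17566, 15384), (17567, 15385), (17568, 15386), (17569, 19588), (17570, 19589), (17571, 15852), (17572, 15836), (17573, 18644), (17574, 15392), (17575, 19579), (17576, 15393), (17577, 19595), (17578, 19597), (17579, 18658), (17580, 18660), (17581, 18715), (17582, 19576), (17583, 15403), (17584, 19604), (17585, 15405), (17586, 15401), (17587, 19607), (17588, 15408), (17589, 19602), (17590, 15404),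 (17591, 19609), (17592, 19606), (17593, 15407), (17594, 19612), (17595, 18680), (17596, 18725), (17597, 18682), (17598, 18726), (17599, 18686)]
    ⟨e3 q17536 (flp_f L711202) q19561, e3 q17537 (flp_f L701109) q18580, e3 q17538 (flp_f L700319) q18515, e3 q17539 (flp_f L701136) q18582, e3 q17540 L690228 q15348, e3 q17541 (flp_f L711246) q19568, e3 q17542 (flp_f L701163) q18585, e3 q17543 (flp_f L695116) q18122, e3 q17544 L690256 q15352, e3 q17545 L690264 q15359, e3 q17546 L690275 q15813, e3 q17547 (flp_f L700289) q18513, e3 q17548 (flp_f L711266) q19571, e3 q17549 (flp_f L701235) q18593, e3 q17550 (flp_f L701246) q18594, e3 q17551 L711296 q19575, e3 q17552 (flp_f L699943) q18492, e3 q17553 L690339 q15369, e3 q17554 L690354 q15370, e3 q17555 (flp_f L711325) q19577, e3 q17556 (flp_f L701640) q18622, e3 q17557 L690388 q15375, e3 q17558 L690404 q15376, e3 q17559 L690414 q15377, e3 q17560 (flp_f L708474) q19280, e3 q17561 L690430 q15378, e3 q17562 (flp_f L711367) q19580, e3 q17563 (flp_f L711385) q19582, e3 q17564 (flp_f L711399)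 q19584, e3 q17565 (flp_f L701800) q18635, e3 q17566 L690472 q15384, e3 q17567 L690482 q15385, e3 q17568 L690489 q15386, e3 q17569 (flp_f L711440) q19588, e3 q17570 (flp_f L711448) q19589, e3 q17571 L690520 q15852, e3 q17572 L690532 q15836, e3 q17573 (flp_f L701916) q18644, e3 q17574 L690544 q15392, e3 q17575 (flp_f L711357) q19579, e3 q17576 L690557 q15393, e3 q17577 (flp_f L711499) q19595, e3 q17578 (flp_f L711507) q19597, e3 q17579 (flp_f L702051) q18658, e3 q17580 (flp_f L702069) q18660, e3 q17581 (flp_f L702666) q18715, e3 q17582 (flp_f L711315) q19576, e3 q17583 L690603 q15403, e3 q17584 L711556 q19604, e3 q17585 L690617 q15405, e3 q17586 (flp_f L690619) q15401, e3 q17587 (flp_f L711582) q19607, e3 q17588 L690635 q15408, e3 q17589 (flp_f L711544) q19602, e3 q17590 (flp_f L690645) q15404, e3 q17591 (flp_f L711593) q19609, e3 q17592 (flp_f L711572) q19606, e3 q17593 L690671 q15407, e3 q17594 (flp_f L711615) q19612, e3 q17595 (flp_f L702255) q18680, e3 q17596 (flp_f L702775) q18725, e3 q17597 (flp_f L702271) q18682, e3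 q17598 (flp_f L702783) q18726, e3 q17599 (flp_f L702307) q18686, trivial⟩ (by decide +kernel)

theorem ce_f_275 : ∀ r, r < 64 → sm gf (Qf (17600 + r)) = Qf (tab Gen.f (17600 + r)) :=
  edges_tab (sm gf) Qf (tab Gen.f) 17600 [(17600, 17600), (17601, 17601), (17602, 15420), (17603, 17603), (17604, 19621), (17605, 15865), (17606, 18705), (17607, 19623), (17608, 15430), (17609, 19273), (17610, 15431), (17611, 19625), (17612, 19627), (17613, 18743), (17614, 18745), (17615, 18212), (17616, 18604), (17617, 18201), (17618, 15441), (17619, 18199), (17620, 15442), (17621, 19277), (17622, 15443), (17623, 19634), (17624, 19636), (17625, 18769), (17626, 18771), (17627, 18773), (17628, 18082), (17629, 15453), (17630, 15454), (17631, 15832), (17632, 19643), (17633, 18793), (17634, 18794), (17635, 19592), (17636, 15461), (17637, 19294), (17638, 15462), (17639, 19296), (17640, 15463), (17641, 19646), (17642, 19649), (17643, 18522), (17644, 18823), (17645, 19279), (17646, 18825), (17647, 18181), (17648, 19658), (17649, 19290), (17650, 15482),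 (17651, 18178), (17652, 15483), (17653, 19288), (17654, 15484), (17655, 15485), (17656, 19669), (17657, 15487), (17658, 18339), (17659, 15477), (17660, 19675), (17661, 15490), (17662, 18843), (17663, 15480)]
    ⟨e3 q17600 L690714 q17600, e3 q17601 L690723 q17601, e3 q17602 L690728 q15420, e3 q17603 L690737 q17603, e3 q17604 (flp_f L711669) q19621, e3 q17605 L690755 q15865, e3 q17606 (flp_f L702533) q18705, e3 q17607 L711682 q19623, e3 q17608 L690773 q15430, e3 q17609 (flp_f L708384) q19273, e3 q17610 L690790 q15431, e3 q17611 (flp_f L711703) q19625, e3 q17612 (flp_f L711715) q19627, e3 q17613 (flp_f L702972) q18743, e3 q17614 (flp_f L702994) q18745, e3 q17615 (flp_f L696459) q18212, e3 q17616 (flp_f L701409) q18604, e3 q17617 (flp_f L696303) q18201, e3 q17618 L690852 q15441, e3 q17619 (flp_f L696271) q18199, e3 q17620 L690870 q15442, e3 q17621 (flp_f L708438) q19277, e3 q17622 L690884 q15443, e3 q17623 (flp_f L711772) q19634, e3 q17624 (flp_f L711790) q19636, e3 q17625 (flp_f L703228) q18769, e3 q17626 (flp_f L703243) q18771,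 e3 q17627 (flp_f L703257) q18773, e3 q17628 (flp_f L694484) q18082, e3 q17629 L690932 q15453, e3 q17630 L690943 q15454, e3 q17631 L690953 q15832, e3 q17632 (flp_f L711840) q19643, e3 q17633 (flp_f L703482) q18793, e3 q17634 (flp_f L703489) q18794, e3 q17635 (flp_f L711477) q19592, e3 q17636 L690988 q15461, e3 q17637 (flp_f L708634) q19294, e3 q17638 L691003 q15462, e3 q17639 (flp_f L708654) q19296, e3 q17640 L691011 q15463, e3 q17641 (flp_f L711863) q19646, e3 q17642 (flp_f L711878) q19649, e3 q17643 (flp_f L700413) q18522, e3 q17644 (flp_f L703766) q18823, e3 q17645 (flp_f L708454) q19279, e3 q17646 (flp_f L703782) q18825, e3 q17647 (flp_f L695995) q18181, e3 q17648 L711937 q19658, e3 q17649 (flp_f L708590) q19290, e3 q17650 L691077 q15482, e3 q17651 (flp_f L695949) q18178, e3 q17652 L691093 q15483, e3 q17653 (flp_f L708570) q19288, e3 q17654 L691107 q15484, e3 q17655 L691115 q15485, e3 q17656 L712009 q19669, e3 q17657 L691127 q15487, e3 q17658 (flp_f L698130) q18339, e3 q17659 (flp_f L691135) q15477, e3 q17660 (flp_f L712053)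 q19675, e3 q17661 L691151 q15490, e3 q17662 (flp_f L703941) q18843, e3 q17663 L691165 q15480, trivial⟩ (by decide +kernel)

theorem ce_f_276 : ∀ r, r < 64 → sm gf (Qf (17664 + r)) = Qf (tab Gen.f (17664 + r)) :=
  edges_tab (sm gf) Qf (tab Gen.f) 17664 [(17664, 19680), (17665, 19662), (17666, 19664), (17667, 19667), (17668, 15486), (17669, 19685), (17670, 19671), (17671, 15499), (17672, 15489), (17673, 19689), (17674, 19677), (17675, 15503), (17676, 15504), (17677, 15493), (17678, 18659), (17679, 18863), (17680, 15497), (17681, 19696), (17682, 18865), (17683, 19688), (17684, 15501), (17685, 19276), (17686, 19702), (17687, 19692), (17688, 19693), (17689, 15508), (17690, 18184), (17691, 15546), (17692, 15522), (17693, 15523), (17694, 15524), (17695, 15853), (17696, 15854), (17697, 15525), (17698, 15856), (17699, 15857), (17700, 15858), (17701, 15526), (17702, 19704), (17703, 19705), (17704, 19706), (17705, 19709), (17706, 19718), (17707, 18226), (17708, 18185), (17709, 18695), (17710, 15529), (17711, 15543), (17712, 15623),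 (17713, 15544), (17714, 15869), (17715, 15545), (17716, 15621), (17717, 15871), (17718, 19720), (17719, 19642), (17720, 19703), (17721, 18088), (17722, 17722), (17723, 17723), (17724, 19363), (17725, 15557), (17726, 19365), (17727, 15558)]
    ⟨e3 q17664 (flp_f L712085) q19680, e3 q17665 (flp_f L711965) q19662, e3 q17666 (flp_f L711981) q19664, e3 q17667 (flp_f L712001) q19667, e3 q17668 (flp_f L691193) q15486, e3 q17669 (flp_f L712115) q19685, e3 q17670 (flp_f L712025) q19671, e3 q17671 L691221 q15499, e3 q17672 L691229 q15489, e3 q17673 (flp_f L712147) q19689, e3 q17674 (flp_f L712063) q19677, e3 q17675 L691249 q15503, e3 q17676 L691255 q15504, e3 q17677 L691261 q15493, e3 q17678 (flp_f L702063) q18659, e3 q17679 (flp_f L704121) q18863, e3 q17680 L691281 q15497, e3 q17681 (flp_f L712193) q19696, e3 q17682 (flp_f L704141) q18865, e3 q17683 (flp_f L712139) q19688, e3 q17684 L691307 q15501, e3 q17685 (flp_f L708422) q19276, e3 q17686 L712223 q19702, e3 q17687 (flp_f L712167) q19692, e3 q17688 (flp_f L712173) q19693, e3 q17689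 L691335 q15508, e3 q17690 (flp_f L696039) q18184, e3 q17691 L691351 q15546, e3 q17692 L691364 q15522, e3 q17693 L691372 q15523, e3 q17694 L691383 q15524, e3 q17695 L691389 q15853, e3 q17696 L691399 q15854, e3 q17697 L691407 q15525, e3 q17698 L691414 q15856, e3 q17699 L691423 q15857, e3 q17700 L691431 q15858, e3 q17701 L691436 q15526, e3 q17702 (flp_f L712242) q19704, e3 q17703 (flp_f L712249) q19705, e3 q17704 (flp_f L712260) q19706, e3 q17705 (flp_f L712286) q19709, e3 q17706 L712340 q19718, e3 q17707 (flp_f L696632) q18226, e3 q17708 (flp_f L696051) q18185, e3 q17709 (flp_f L702403) q18695, e3 q17710 (flp_f L691497) q15529, e3 q17711 L691507 q15543, e3 q17712 L691519 q15623, e3 q17713 L691527 q15544, e3 q17714 L691539 q15869, e3 q17715 L691546 q15545, e3 q17716 L691557 q15621, e3 q17717 L691571 q15871, e3 q17718 (flp_f L712355) q19720, e3 q17719 (flp_f L711829) q19642, e3 q17720 (flp_f L712231) q19703, e3 q17721 (flp_f L694585) q18088, e3 q17722 L691610 q17722, e3 q17723 L691619 q17723, e3 q17724 (flp_f L709366) q19363,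 e3 q17725 L691636 q15557, e3 q17726 (flp_f L709388) q19365, e3 q17727 L691650 q15558, trivial⟩ (by decide +kernel)

theorem ce_f_277 : ∀ r, r < 64 → sm gf (Qf (17728 + r)) = Qf (tab Gen.f (17728 + r)) :=
  edges_tab (sm gf) Qf (tab Gen.f) 17728 [(17728, 19725), (17729, 18954), (17730, 15960), (17731, 17731), (17732, 17732), (17733, 18961), (17734, 15568), (17735, 15565), (17736, 19733), (17737, 15571), (17738, 18992), (17739, 19732), (17740, 15570), (17741, 19736), (17742, 17742), (17743, 19739), (17744, 17744), (17745, 15584), (17746, 19745), (17747, 15586), (17748, 15576), (17749, 19749), (17750, 15589), (17751, 19752), (17752, 15591), (17753, 19755), (17754, 15579), (17755, 19757), (17756, 15594), (17757, 15582), (17758, 19759), (17759, 19761), (17760, 19743), (17761, 15585), (17762, 19764), (17763, 19747), (17764, 17764), (17765, 15588), (17766, 19767), (17767, 15590), (17768, 19768), (17769, 19754), (17770, 15593), (17771, 19770), (17772, 15596), (17773, 18336), (17774, 19011), (17775, 17775), (17776, 17776), (17777,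 15614), (17778, 17778), (17779, 17779), (17780, 15615), (17781, 17781), (17782, 17782), (17783, 17783), (17784, 19076), (17785, 15622), (17786, 19233), (17787, 15961), (17788, 19328), (17789, 15962), (17790, 19330), (17791, 15632)]
    ⟨e3 q17728 (flp_f L712397) q19725, e3 q17729 (flp_f L705104) q18954, e3 q17730 L691671 q15960, e3 q17731 L691675 q17731, e3 q17732 L691684 q17732, e3 q17733 L705184 q18961, e3 q17734 L691699 q15568, e3 q17735 (flp_f L691703) q15565, e3 q17736 (flp_f L712456) q19733, e3 q17737 L691717 q15571, e3 q17738 (flp_f L705520) q18992, e3 q17739 (flp_f L712442) q19732, e3 q17740 L691751 q15570, e3 q17741 (flp_f L712483) q19736, e3 q17742 L691765 q17742, e3 q17743 L712502 q19739, e3 q17744 L691778 q17744, e3 q17745 L691785 q15584, e3 q17746 L712540 q19745, e3 q17747 L691801 q15586, e3 q17748 (flp_f L691805) q15576, e3 q17749 (flp_f L712578) q19749, e3 q17750 L691821 q15589, e3 q17751 L712600 q19752, e3 q17752 L691837 q15591, e3 q17753 L712620 q19755, e3 q17754 (flp_f L691843) q15579, e3 q17755 (flp_f L712637)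 q19757, e3 q17756 L691859 q15594, e3 q17757 L691867 q15582, e3 q17758 (flp_f L712651) q19759, e3 q17759 L712657 q19761, e3 q17760 (flp_f L712530) q19743, e3 q17761 (flp_f L691892) q15585, e3 q17762 (flp_f L712690) q19764, e3 q17763 (flp_f L712560) q19747, e3 q17764 L691924 q17764, e3 q17765 L691931 q15588, e3 q17766 (flp_f L712716) q19767, e3 q17767 (flp_f L691944) q15590, e3 q17768 (flp_f L712727) q19768, e3 q17769 (flp_f L712618) q19754, e3 q17770 L691973 q15593, e3 q17771 (flp_f L712743) q19770, e3 q17772 L691987 q15596, e3 q17773 (flp_f L698089) q18336, e3 q17774 (flp_f L705699) q19011, e3 q17775 L692007 q17775, e3 q17776 L692014 q17776, e3 q17777 L692023 q15614, e3 q17778 L692029 q17778, e3 q17779 L692038 q17779, e3 q17780 L692051 q15615, e3 q17781 L692061 q17781, e3 q17782 L692076 q17782, e3 q17783 L692083 q17783, e3 q17784 (flp_f L706427) q19076, e3 q17785 L692103 q15622, e3 q17786 (flp_f L707862) q19233, e3 q17787 L692126 q15961, e3 q17788 (flp_f L708968) q19328, e3 q17789 L692142 q15962, e3 q17790 (flp_f L708994)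 q19330, e3 q17791 L692158 q15632, trivial⟩ (by decide +kernel)

theorem ce_f_278 : ∀ r, r < 64 → sm gf (Qf (17792 + r)) = Qf (tab Gen.f (17792 + r)) :=
  edges_tab (sm gf) Qf (tab Gen.f) 17792 [(17792, 19332), (17793, 15633), (17794, 19781), (17795, 17795), (17796, 19785), (17797, 17797), (17798, 15644), (17799, 18412), (17800, 15645), (17801, 19335), (17802, 15646), (17803, 15647), (17804, 19338), (17805, 15648), (17806, 18404), (17807, 19340), (17808, 15649), (17809, 19342), (17810, 19250), (17811, 19789), (17812, 19791), (17813, 19794), (17814, 19797), (17815, 18395), (17816, 17816), (17817, 15664), (17818, 15772), (17819, 15665), (17820, 15900), (17821, 15901), (17822, 15903), (17823, 15904), (17824, 19251), (17825, 15963), (17826, 19438), (17827, 15964), (17828, 19440), (17829, 15965), (17830, 17830), (17831, 19817), (17832, 17832), (17833, 15681), (17834, 19430), (17835, 15683), (17836, 19432), (17837, 15685), (17838, 15686), (17839, 19829), (17840, 15688), (17841, 19832), (17842, 15676), (17843, 19836), (17844, 15691),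 (17845, 19101), (17846, 15679), (17847, 19840), (17848, 19252), (17849, 19429), (17850, 19821), (17851, 19431), (17852, 19824), (17853, 19433), (17854, 19827), (17855, 15687)]
    ⟨e3 q17792 (flp_f L709016) q19332, e3 q17793 L692172 q15633, e3 q17794 (flp_f L712819) q19781, e3 q17795 L692189 q17795, e3 q17796 L712852 q19785, e3 q17797 L692206 q17797, e3 q17798 L692213 q15644, e3 q17799 L699006 q18412, e3 q17800 L692233 q15645, e3 q17801 (flp_f L709053) q19335, e3 q17802 L692249 q15646, e3 q17803 L692257 q15647, e3 q17804 (flp_f L709089) q19338, e3 q17805 L692271 q15648, e3 q17806 (flp_f L698916) q18404, e3 q17807 (flp_f L709109) q19340, e3 q17808 L692293 q15649, e3 q17809 (flp_f L709127) q19342, e3 q17810 (flp_f L708088) q19250, e3 q17811 (flp_f L712884) q19789, e3 q17812 (flp_f L712904) q19791, e3 q17813 (flp_f L712930) q19794, e3 q17814 (flp_f L712948) q19797, e3 q17815 (flp_f L698812) q18395, e3 q17816 L692357 q17816, e3 q17817 L692365 q15664, e3 q17818 L692377 q15772, e3 q17819 L692390 q15665, e3 q17820 L692396 q15900,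 e3 q17821 L692405 q15901, e3 q17822 L692411 q15903, e3 q17823 L692421 q15904, e3 q17824 (flp_f L708103) q19251, e3 q17825 L692441 q15963, e3 q17826 (flp_f L710124) q19438, e3 q17827 L692453 q15964, e3 q17828 (flp_f L710143) q19440, e3 q17829 L692463 q15965, e3 q17830 L692467 q17830, e3 q17831 L713085 q19817, e3 q17832 L692484 q17832, e3 q17833 L692491 q15681, e3 q17834 (flp_f L710045) q19430, e3 q17835 L692511 q15683, e3 q17836 (flp_f L710064) q19432, e3 q17837 L692523 q15685, e3 q17838 L692533 q15686, e3 q17839 L713173 q19829, e3 q17840 L692549 q15688, e3 q17841 L713195 q19832, e3 q17842 (flp_f L692555) q15676, e3 q17843 (flp_f L713226) q19836, e3 q17844 L692573 q15691, e3 q17845 (flp_f L706651) q19101, e3 q17846 L692587 q15679, e3 q17847 (flp_f L713252) q19840, e3 q17848 (flp_f L708115) q19252, e3 q17849 (flp_f L710029) q19429, e3 q17850 (flp_f L713117) q19821, e3 q17851 (flp_f L710052) q19431, e3 q17852 (flp_f L713139) q19824, e3 q17853 (flp_f L710072) q19433, e3 q17854 (flp_f L713165) q19827, e3 q17855 (flp_f L692663)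 q15687, trivial⟩ (by decide +kernel)

theorem ce_f_279 : ∀ r, r < 64 → sm gf (Qf (17856 + r)) = Qf (tab Gen.f (17856 + r)) :=
  edges_tab (sm gf) Qf (tab Gen.f) 17856 [(17856, 19847), (17857, 19831), (17858, 15698), (17859, 15690), (17860, 19851), (17861, 15701), (17862, 15702), (17863, 15694), (17864, 18438), (17865, 19518), (17866, 19849), (17867, 19850), (17868, 15700), (17869, 19858), (17870, 19853), (17871, 19854), (17872, 19860), (17873, 17873), (17874, 15705), (17875, 19864), (17876, 17876), (17877, 19866), (17878, 15725), (17879, 18341), (17880, 15708), (17881, 19870), (17882, 15728), (17883, 19863), (17884, 15711), (17885, 19875), (17886, 19877), (17887, 15733), (17888, 19880), (17889, 15714), (17890, 19883), (17891, 15736), (17892, 15716), (17893, 19887), (17894, 19888), (17895, 19152), (17896, 15718), (17897, 19893), (17898, 15740), (17899, 19156), (17900, 19157), (17901, 15722), (17902, 19898), (17903, 19900), (17904, 19253), (17905, 15724), (17906, 19903), (17907, 19868), (17908, 15727), (17909, 19905), (17910,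 19872), (17911, 17911), (17912, 17912), (17913, 15731), (17914, 15732), (17915, 19910), (17916, 19879), (17917, 15746), (17918, 15735), (17919, 19913)]
    ⟨e3 q17856 (flp_f L713316) q19847, e3 q17857 (flp_f L713191) q19831, e3 q17858 L692694 q15698, e3 q17859 L692701 q15690, e3 q17860 (flp_f L713350) q19851, e3 q17861 L692717 q15701, e3 q17862 L692725 q15702, e3 q17863 L692731 q15694, e3 q17864 (flp_f L699294) q18438, e3 q17865 (flp_f L710842) q19518, e3 q17866 (flp_f L713333) q19849, e3 q17867 (flp_f L713342) q19850, e3 q17868 L692770 q15700, e3 q17869 (flp_f L713403) q19858, e3 q17870 (flp_f L713365) q19853, e3 q17871 (flp_f L713371) q19854, e3 q17872 L713416 q19860, e3 q17873 L692806 q17873, e3 q17874 (flp_f L692809) q15705, e3 q17875 (flp_f L713444) q19864, e3 q17876 L692820 q17876, e3 q17877 L713452 q19866, e3 q17878 L692837 q15725, e3 q17879 (flp_f L698158) q18341, e3 q17880 (flp_f L692849) q15708, e3 q17881 (flp_f L713498) q19870, e3 q17882 L692869 q15728, e3 q17883 (flp_f L713439) q19863, e3 q17884 L692881 q15711,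 e3 q17885 (flp_f L713536) q19875, e3 q17886 L713544 q19877, e3 q17887 L692901 q15733, e3 q17888 L713562 q19880, e3 q17889 (flp_f L692911) q15714, e3 q17890 (flp_f L713594) q19883, e3 q17891 L692927 q15736, e3 q17892 (flp_f L692929) q15716, e3 q17893 (flp_f L713622) q19887, e3 q17894 (flp_f L713630) q19888, e3 q17895 (flp_f L707101) q19152, e3 q17896 L692957 q15718, e3 q17897 (flp_f L713660) q19893, e3 q17898 L692967 q15740, e3 q17899 (flp_f L707137) q19156, e3 q17900 (flp_f L707143) q19157, e3 q17901 L692985 q15722, e3 q17902 (flp_f L713682) q19898, e3 q17903 L713686 q19900, e3 q17904 (flp_f L708129) q19253, e3 q17905 (flp_f L693007) q15724, e3 q17906 (flp_f L713720) q19903, e3 q17907 (flp_f L713476) q19868, e3 q17908 L693041 q15727, e3 q17909 (flp_f L713737) q19905, e3 q17910 (flp_f L713514) q19872, e3 q17911 L693067 q17911, e3 q17912 L693074 q17912, e3 q17913 L693079 q15731, e3 q17914 (flp_f L693083) q15732, e3 q17915 (flp_f L713777) q19910, e3 q17916 (flp_f L713560) q19879, e3 q17917 L693111 q15746, e3 q17918 L693119 q15735,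 e3 q17919 (flp_f L713801) q19913, trivial⟩ (by decide +kernel)

theorem ce_f_280 : ∀ r, r < 64 → sm gf (Qf (17920 + r)) = Qf (tab Gen.f (17920 + r)) :=
  edges_tab (sm gf) Qf (tab Gen.f) 17920 [(17920, 19885), (17921, 15750), (17922, 15751), (17923, 15739), (17924, 19917), (17925, 19919), (17926, 15755), (17927, 15756), (17928, 19461), (17929, 19808), (17930, 19912), (17931, 15748), (17932, 19923), (17933, 19915), (17934, 19916), (17935, 15753), (17936, 19404), (17937, 19920), (17938, 17938), (17939, 15773), (17940, 15771), (17941, 15955), (17942, 15956), (17943, 19928), (17944, 19929), (17945, 15774), (17946, 15970), (17947, 15971), (17948, 15972), (17949, 15958), (17950, 15943), (17951, 17951), (17952, 15973), (17953, 17953), (17954, 15974), (17955, 15946), (17956, 17956), (17957, 15975), (17958, 17958), (17959, 17959), (17960, 15976), (17961, 17961), (17962, 17962), (17963, 15803), (17964, 17964), (17965, 17965), (17966, 15804), (17967, 17967), (17968, 17968), (17969, 17969), (17970, 17970), (17971, 19254), (17972, 17972),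 (17973, 15807), (17974, 15808), (17975, 19549), (17976, 15830), (17977, 17977), (17978, 17978), (17979, 18561), (17980, 15817), (17981, 15824), (17982, 15826), (17983, 18085)]
    ⟨e3 q17920 (flp_f L713606) q19885, e3 q17921 L693145 q15750, e3 q17922 L693153 q15751, e3 q17923 L693161 q15739, e3 q17924 (flp_f L713831) q19917, e3 q17925 L713843 q19919, e3 q17926 L693179 q15755, e3 q17927 L693185 q15756, e3 q17928 (flp_f L710359) q19461, e3 q17929 (flp_f L713028) q19808, e3 q17930 (flp_f L713793) q19912, e3 q17931 L693217 q15748, e3 q17932 (flp_f L713874) q19923, e3 q17933 (flp_f L713817) q19915, e3 q17934 (flp_f L713825) q19916, e3 q17935 L693244 q15753, e3 q17936 (flp_f L709764) q19404, e3 q17937 (flp_f L713849) q19920, e3 q17938 L693265 q17938, e3 q17939 L693276 q15773, e3 q17940 L693284 q15771, e3 q17941 L693294 q15955, e3 q17942 L693298 q15956, e3 q17943 L713905 q19928, e3 q17944 L713911 q19929, e3 q17945 (flp_f L693315) q15774, e3 q17946 L693324 q15970, e3 q17947 L693335 q15971, e3 q17948 L693341 q15972, e3 q17949 L693349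 q15958, e3 q17950 L693353 q15943, e3 q17951 L693370 q17951, e3 q17952 L693375 q15973, e3 q17953 L693386 q17953, e3 q17954 L693392 q15974, e3 q17955 L693400 q15946, e3 q17956 L693413 q17956, e3 q17957 L693419 q15975, e3 q17958 L693423 q17958, e3 q17959 L693432 q17959, e3 q17960 L693437 q15976, e3 q17961 L693445 q17961, e3 q17962 L693451 q17962, e3 q17963 L693459 q15803, e3 q17964 L693467 q17964, e3 q17965 L693476 q17965, e3 q17966 L693484 q15804, e3 q17967 L693490 q17967, e3 q17968 L693498 q17968, e3 q17969 L693501 q17969, e3 q17970 L693508 q17970, e3 q17971 (flp_f L708142) q19254, e3 q17972 L693525 q17972, e3 q17973 (flp_f L693526) q15807, e3 q17974 (flp_f L693530) q15808, e3 q17975 (flp_f L711104) q19549, e3 q17976 L693550 q15830, e3 q17977 L693562 q17977, e3 q17978 L693568 q17978, e3 q17979 (flp_f L700898) q18561, e3 q17980 (flp_f L693582) q15817, e3 q17981 L693592 q15824, e3 q17982 L693604 q15826, e3 q17983 (flp_f L694533) q18085, trivial⟩ (by decide +kernel)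

theorem ce_f_281 : ∀ r, r < 64 → sm gf (Qf (17984 + r)) = Qf (tab Gen.f (17984 + r)) :=
  edges_tab (sm gf) Qf (tab Gen.f) 17984 [(17984, 18493), (17985, 18080), (17986, 17986), (17987, 19951), (17988, 15838), (17989, 15849), (17990, 15844), (17991, 18539), (17992, 18565), (17993, 18744), (17994, 19707), (17995, 19708), (17996, 19710), (17997, 19711), (17998, 19712), (17999, 18363), (18000, 18095), (18001, 19956), (18002, 15862), (18003, 19957), (18004, 15875), (18005, 19721), (18006, 15877), (18007, 15878), (18008, 18106), (18009, 18907), (18010, 18096), (18011, 19958), (18012, 15876), (18013, 15879), (18014, 15892), (18015, 15893), (18016, 15894), (18017, 15907), (18018, 18099), (18019, 15932), (18020, 19961), (18021, 19962), (18022, 19965), (18023, 19805), (18024, 19806), (18025, 19807), (18026, 19968), (18027, 19969), (18028, 15908), (18029, 15910), (18030, 18030), (18031, 15912), (18032, 19971), (18033, 18033), (18034, 15915), (18035, 15916), (18036, 19975), (18037, 19976), (18038, 18038), (18039, 15919), (18040, 19980),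 (18041, 19983), (18042, 18042), (18043, 15923), (18044, 19984), (18045, 15924), (18046, 15926), (18047, 15928)]
    ⟨e3 q17984 (flp_f L699957) q18493, e3 q17985 (flp_f L694444) q18080, e3 q17986 L693668 q17986, e3 q17987 L714081 q19951, e3 q17988 L693682 q15838, e3 q17989 L693688 q15849, e3 q17990 L693698 q15844, e3 q17991 (flp_f L700625) q18539, e3 q17992 (flp_f L700949) q18565, e3 q17993 (flp_f L702986) q18744, e3 q17994 (flp_f L712269) q19707, e3 q17995 (flp_f L712279) q19708, e3 q17996 (flp_f L712294) q19710, e3 q17997 (flp_f L712300) q19711, e3 q17998 (flp_f L712304) q19712, e3 q17999 (flp_f L698442) q18363, e3 q18000 (flp_f L694689) q18095, e3 q18001 L714110 q19956, e3 q18002 (flp_f L693769) q15862, e3 q18003 (flp_f L714119) q19957, e3 q18004 L693782 q15875, e3 q18005 (flp_f L712367) q19721, e3 q18006 L693802 q15877, e3 q18007 L693809 q15878, e3 q18008 (flp_f L694850) q18106, e3 q18009 (flp_f L704559) q18907, e3 q18010 (flp_f L694702) q18096, e3 q18011 (flp_f L714125) q19958, e3 q18012 (flp_f L693864) q15876, e3 q18013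 (flp_f L693873) q15879, e3 q18014 L693887 q15892, e3 q18015 L693896 q15893, e3 q18016 L693904 q15894, e3 q18017 L693921 q15907, e3 q18018 (flp_f L694752) q18099, e3 q18019 L693938 q15932, e3 q18020 (flp_f L714156) q19961, e3 q18021 (flp_f L714170) q19962, e3 q18022 L714200 q19965, e3 q18023 (flp_f L713008) q19805, e3 q18024 (flp_f L713016) q19806, e3 q18025 (flp_f L713022) q19807, e3 q18026 L714220 q19968, e3 q18027 L714231 q19969, e3 q18028 (flp_f L694014) q15908, e3 q18029 (flp_f L694021) q15910, e3 q18030 L694039 q18030, e3 q18031 L694047 q15912, e3 q18032 (flp_f L714259) q19971, e3 q18033 L694066 q18033, e3 q18034 L694069 q15915, e3 q18035 L694076 q15916, e3 q18036 (flp_f L714290) q19975, e3 q18037 (flp_f L714294) q19976, e3 q18038 L694095 q18038, e3 q18039 L694104 q15919, e3 q18040 (flp_f L714320) q19980, e3 q18041 L714341 q19983, e3 q18042 L694127 q18042, e3 q18043 L694134 q15923, e3 q18044 (flp_f L714355) q19984, e3 q18045 (flp_f L694150) q15924, e3 q18046 L694167 q15926, e3 q18047 L694175 q15928, trivial⟩ (by decide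 +kernel)

theorem ce_f_282 : ∀ r, r < 64 → sm gf (Qf (18048 + r)) = Qf (tab Gen.f (18048 + r)) :=
  edges_tab (sm gf) Qf (tab Gen.f) 18048 [(18048, 19986), (18049, 15931), (18050, 19987), (18051, 15947), (18052, 15935), (18053, 19989), (18054, 15950), (18055, 15951), (18056, 15939), (18057, 19993), (18058, 15940), (18059, 19932), (18060, 15945), (18061, 19937), (18062, 19988), (18063, 15949), (18064, 19428), (18065, 19991), (18066, 19927), (18067, 19728), (18068, 19777), (18069, 19779), (18070, 19810), (18071, 19813), (18072, 15968), (18073, 18702), (18074, 19930), (18075, 19935), (18076, 19940), (18077, 19944), (18078, 18078), (18079, 15979), (18080, 17985), (18081, 15993), (18082, 17628), (18083, 16002), (18084, 16003), (18085, 17983), (18086, 17289), (18087, 16556), (18088, 17721), (18089, 15995), (18090, 15999), (18091, 16000), (18092, 15998), (18093, 20002), (18094, 20003), (18095, 18000), (18096, 18010), (18097, 16005), (18098, 18098), (18099, 18018), (18100, 16015), (18101, 16016), (18102, 17284), (18103, 17285), (18104,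 17286), (18105, 20006), (18106, 18008), (18107, 18107), (18108, 16469), (18109, 17196), (18110, 16502), (18111, 17203)]
    ⟨e3 q18048 (flp_f L714376) q19986, e3 q18049 L694191 q15931, e3 q18050 (flp_f L714386) q19987, e3 q18051 L694208 q15947, e3 q18052 L694217 q15935, e3 q18053 (flp_f L714403) q19989, e3 q18054 L694231 q15950, e3 q18055 L694239 q15951, e3 q18056 L694246 q15939, e3 q18057 L714424 q19993, e3 q18058 (flp_f L694256) q15940, e3 q18059 (flp_f L713950) q19932, e3 q18060 L694280 q15945, e3 q18061 (flp_f L713997) q19937, e3 q18062 (flp_f L714394) q19988, e3 q18063 L694308 q15949, e3 q18064 (flp_f L710024) q19428, e3 q18065 (flp_f L714416) q19991, e3 q18066 (flp_f L713901) q19927, e3 q18067 (flp_f L712417) q19728, e3 q18068 (flp_f L712791) q19777, e3 q18069 (flp_f L712805) q19779, e3 q18070 (flp_f L713044) q19810, e3 q18071 (flp_f L713062) q19813, e3 q18072 L694363 q15968, e3 q18073 (flp_f L702498) q18702, e3 q18074 (flp_f L713927) q19930, e3 q18075 (flp_f L713976) q19935, e3 q18076 (flp_f L714019) q19940, e3 q18077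 (flp_f L714045) q19944, e3 q18078 L694414 q18078, e3 q18079 L694430 q15979, e3 q18080 L694444 q17985, e3 q18081 L694465 q15993, e3 q18082 L694484 q17628, e3 q18083 L694502 q16002, e3 q18084 L694519 q16003, e3 q18085 L694533 q17983, e3 q18086 L694550 q17289, e3 q18087 L694570 q16556, e3 q18088 L694585 q17721, e3 q18089 L694598 q15995, e3 q18090 L694620 q15999, e3 q18091 L694636 q16000, e3 q18092 L694649 q15998, e3 q18093 (flp_f L714507) q20002, e3 q18094 (flp_f L714522) q20003, e3 q18095 L694689 q18000, e3 q18096 L694702 q18010, e3 q18097 L694716 q16005, e3 q18098 L694741 q18098, e3 q18099 L694752 q18018, e3 q18100 L694771 q16015, e3 q18101 L694784 q16016, e3 q18102 L694802 q17284, e3 q18103 L694815 q17285, e3 q18104 L694824 q17286, e3 q18105 (flp_f L714570) q20006, e3 q18106 L694850 q18008, e3 q18107 L694864 q18107, e3 q18108 L694886 q16469, e3 q18109 L694898 q17196, e3 q18110 L694920 q16502, e3 q18111 L694932 q17203, trivial⟩ (by decide +kernel)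

theorem ce_f_283 : ∀ r, r < 64 → sm gf (Qf (18112 + r)) = Qf (tab Gen.f (18112 + r)) :=
  edges_tab (sm gf) Qf (tab Gen.f) 18112 [(18112, 16480), (18113, 16047), (18114, 16482), (18115, 17197), (18116, 17514), (18117, 16487), (18118, 17198), (18119, 17200), (18120, 18120), (18121, 16041), (18122, 17543), (18123, 17533), (18124, 17201), (18125, 20015), (18126, 17209), (18127, 16476), (18128, 16050), (18129, 20022), (18130, 16489), (18131, 16054), (18132, 20024), (18133, 16060), (18134, 16061), (18135, 20028), (18136, 20027), (18137, 16496), (18138, 16700), (18139, 16702), (18140, 17216), (18141, 16069), (18142, 16070), (18143, 16071), (18144, 20036), (18145, 16073), (18146, 20039), (18147, 20033), (18148, 16772), (18149, 20045), (18150, 20035), (18151, 16072), (18152, 20048), (18153, 20038), (18154, 16474), (18155, 16720), (18156, 16509), (18157, 16722), (18158, 17220), (18159, 16724), (18160, 16079), (18161, 20055), (18162, 16082), (18163, 20056), (18164, 16730), (18165, 16089), (18166, 16704), (18167, 16773), (18168, 16475),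 (18169, 16441), (18170, 16731), (18171, 16429), (18172, 16100), (18173, 16101), (18174, 20062), (18175, 16589)]
    ⟨e3 q18112 L694953 q16480, e3 q18113 L694965 q16047, e3 q18114 L694981 q16482, e3 q18115 L694991 q17197, e3 q18116 L695006 q17514, e3 q18117 L695023 q16487, e3 q18118 L695042 q17198, e3 q18119 L695056 q17200, e3 q18120 L695078 q18120, e3 q18121 L695095 q16041, e3 q18122 L695116 q17543, e3 q18123 L695133 q17533, e3 q18124 L695147 q17201, e3 q18125 (flp_f L714725) q20015, e3 q18126 L695177 q17209, e3 q18127 L695201 q16476, e3 q18128 L695217 q16050, e3 q18129 (flp_f L714848) q20022, e3 q18130 L695245 q16489, e3 q18131 L695263 q16054, e3 q18132 (flp_f L714872) q20024, e3 q18133 L695287 q16060, e3 q18134 L695307 q16061, e3 q18135 L714928 q20028, e3 q18136 (flp_f L714922) q20027, e3 q18137 L695348 q16496, e3 q18138 L695382 q16700, e3 q18139 L695395 q16702, e3 q18140 L695405 q17216, e3 q18141 L695417 q16069, e3 q18142 L695437 q16070, e3 q18143 L695449 q16071, e3 q18144 L715052 q20036, e3 q18145 L695479 q16073, e3 q18146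 L715088 q20039, e3 q18147 (flp_f L715014) q20033, e3 q18148 L695517 q16772, e3 q18149 L715183 q20045, e3 q18150 (flp_f L715046) q20035, e3 q18151 (flp_f L695552) q16072, e3 q18152 (flp_f L715231) q20048, e3 q18153 (flp_f L715082) q20038, e3 q18154 L695590 q16474, e3 q18155 L695613 q16720, e3 q18156 L695623 q16509, e3 q18157 L695636 q16722, e3 q18158 L695644 q17220, e3 q18159 L695658 q16724, e3 q18160 (flp_f L695660) q16079, e3 q18161 (flp_f L715325) q20055, e3 q18162 L695698 q16082, e3 q18163 (flp_f L715342) q20056, e3 q18164 L695722 q16730, e3 q18165 L695737 q16089, e3 q18166 L695750 q16704, e3 q18167 L695767 q16773, e3 q18168 L695784 q16475, e3 q18169 L695795 q16441, e3 q18170 L695813 q16731, e3 q18171 L695827 q16429, e3 q18172 L695843 q16100, e3 q18173 L695862 q16101, e3 q18174 (flp_f L715438) q20062, e3 q18175 L695898 q16589, trivial⟩ (by decide +kernel)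

theorem ce_f_284 : ∀ r, r < 64 → sm gf (Qf (18176 + r)) = Qf (tab Gen.f (18176 + r)) :=
  edges_tab (sm gf) Qf (tab Gen.f) 18176 [(18176, 17225), (18177, 16594), (18178, 17651), (18179, 16109), (18180, 20067), (18181, 17647), (18182, 16111), (18183, 20069), (18184, 17690), (18185, 17708), (18186, 16280), (18187, 16281), (18188, 16122), (18189, 16123), (18190, 20073), (18191, 16125), (18192, 20072), (18193, 16124), (18194, 20078), (18195, 20075), (18196, 20077), (18197, 16127), (18198, 20081), (18199, 17619), (18200, 16134), (18201, 17617), (18202, 16135), (18203, 16132), (18204, 20088), (18205, 16138), (18206, 20084), (18207, 20086), (18208, 16143), (18209, 16137), (18210, 20092), (18211, 17264), (18212, 17615), (18213, 16141), (18214, 20095), (18215, 20090), (18216, 20091), (18217, 16145), (18218, 20098), (18219, 16149), (18220, 16150), (18221, 16148), (18222, 20102), (18223, 20100), (18224, 20101), (18225, 16152), (18226, 17707), (18227, 18227), (18228, 18228), (18229, 18229), (18230, 18230), (18231, 16162), (18232, 16163),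 (18233, 16164), (18234, 20118), (18235, 16166), (18236, 20113), (18237, 20122), (18238, 20115), (18239, 20117)]
    ⟨e3 q18176 L695912 q17225, e3 q18177 L695928 q16594, e3 q18178 L695949 q17651, e3 q18179 L695959 q16109, e3 q18180 (flp_f L715519) q20067, e3 q18181 L695995 q17647, e3 q18182 L696011 q16111, e3 q18183 (flp_f L715557) q20069, e3 q18184 L696039 q17690, e3 q18185 L696051 q17708, e3 q18186 L696074 q16280, e3 q18187 L696092 q16281, e3 q18188 L696107 q16122, e3 q18189 L696127 q16123, e3 q18190 L715617 q20073, e3 q18191 L696159 q16125, e3 q18192 (flp_f L715611) q20072, e3 q18193 (flp_f L696179) q16124, e3 q18194 (flp_f L715705) q20078, e3 q18195 (flp_f L715657) q20075, e3 q18196 (flp_f L715694) q20077, e3 q18197 L696243 q16127, e3 q18198 (flp_f L715748) q20081, e3 q18199 L696271 q17619, e3 q18200 L696283 q16134, e3 q18201 L696303 q17617, e3 q18202 L696315 q16135, e3 q18203 (flp_f L696321) q16132, e3 q18204 (flp_f L715857) q20088, e3 q18205 L696349 q16138, e3 q18206 (flp_f L715789) q20084, e3 q18207 (flp_f L715819)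 q20086, e3 q18208 L696395 q16143, e3 q18209 L696407 q16137, e3 q18210 (flp_f L715905) q20092, e3 q18211 L696435 q17264, e3 q18212 L696459 q17615, e3 q18213 L696473 q16141, e3 q18214 (flp_f L715947) q20095, e3 q18215 (flp_f L715879) q20090, e3 q18216 (flp_f L715893) q20091, e3 q18217 L696523 q16145, e3 q18218 (flp_f L715983) q20098, e3 q18219 L696541 q16149, e3 q18220 L696556 q16150, e3 q18221 L696570 q16148, e3 q18222 (flp_f L716042) q20102, e3 q18223 (flp_f L716011) q20100, e3 q18224 (flp_f L716029) q20101, e3 q18225 L696623 q16152, e3 q18226 L696632 q17707, e3 q18227 L696646 q18227, e3 q18228 L696657 q18228, e3 q18229 L696671 q18229, e3 q18230 L696685 q18230, e3 q18231 L696696 q16162, e3 q18232 L696709 q16163, e3 q18233 L696719 q16164, e3 q18234 L716247 q20118, e3 q18235 L696746 q16166, e3 q18236 (flp_f L716187) q20113, e3 q18237 L716299 q20122, e3 q18238 (flp_f L716216) q20115, e3 q18239 (flp_f L716243) q20117, trivial⟩ (by decide +kernel)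

theorem ce_f_285 : ∀ r, r < 64 → sm gf (Qf (18240 + r)) = Qf (tab Gen.f (18240 + r)) :=
  edges_tab (sm gf) Qf (tab Gen.f) 18240 [(18240, 16165), (18241, 20126), (18242, 20120), (18243, 17103), (18244, 16972), (18245, 18245), (18246, 18246), (18247, 16176), (18248, 20134), (18249, 16178), (18250, 16179), (18251, 20140), (18252, 16181), (18253, 16174), (18254, 20143), (18255, 16184), (18256, 20145), (18257, 20133), (18258, 16177), (18259, 20149), (18260, 20136), (18261, 20138), (18262, 16180), (18263, 20152), (18264, 20142), (18265, 16183), (18266, 20155), (18267, 17312), (18268, 16996), (18269, 17313), (18270, 16997), (18271, 18271), (18272, 16190), (18273, 20162), (18274, 16193), (18275, 20164), (18276, 17003), (18277, 16203), (18278, 16204), (18279, 18279), (18280, 16205), (18281, 18281), (18282, 18282), (18283, 16206), (18284, 18284), (18285, 20167), (18286, 20170), (18287, 20174), (18288, 17323), (18289, 17324), (18290, 20166), (18291, 16217), (18292, 18292), (18293, 16218), (18294, 18294), (18295, 16219), (18296, 16668),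 (18297, 20179), (18298, 16555), (18299, 16225), (18300, 16226), (18301, 16227), (18302, 20180), (18303, 20181)]
    ⟨e3 q18240 (flp_f L696802) q16165, e3 q18241 (flp_f L716362) q20126, e3 q18242 (flp_f L716277) q20120, e3 q18243 L696850 q17103, e3 q18244 L696865 q16972, e3 q18245 L696876 q18245, e3 q18246 L696893 q18246, e3 q18247 L696904 q16176, e3 q18248 L716469 q20134, e3 q18249 L696930 q16178, e3 q18250 L696938 q16179, e3 q18251 L716545 q20140, e3 q18252 L696966 q16181, e3 q18253 (flp_f L696970) q16174, e3 q18254 (flp_f L716587) q20143, e3 q18255 L696996 q16184, e3 q18256 L716601 q20145, e3 q18257 (flp_f L716463) q20133, e3 q18258 (flp_f L697029) q16177, e3 q18259 (flp_f L716658) q20149, e3 q18260 (flp_f L716495) q20136, e3 q18261 (flp_f L716527) q20138, e3 q18262 (flp_f L697079) q16180, e3 q18263 (flp_f L716698) q20152, e3 q18264 (flp_f L716575) q20142, e3 q18265 L697121 q16183, e3 q18266 (flp_f L716732) q20155, e3 q18267 L697145 q17312, e3 q18268 L697160 q16996, e3 q18269 L697169 q17313, e3 q18270 L697182 q16997, e3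 q18271 L697199 q18271, e3 q18272 L697209 q16190, e3 q18273 (flp_f L716822) q20162, e3 q18274 L697233 q16193, e3 q18275 (flp_f L716845) q20164, e3 q18276 L697255 q17003, e3 q18277 L697270 q16203, e3 q18278 L697284 q16204, e3 q18279 L697306 q18279, e3 q18280 L697315 q16205, e3 q18281 L697325 q18281, e3 q18282 L697340 q18282, e3 q18283 L697351 q16206, e3 q18284 L697364 q18284, e3 q18285 (flp_f L716883) q20167, e3 q18286 (flp_f L716926) q20170, e3 q18287 (flp_f L716976) q20174, e3 q18288 L697417 q17323, e3 q18289 L697431 q17324, e3 q18290 (flp_f L716865) q20166, e3 q18291 L697459 q16217, e3 q18292 L697478 q18292, e3 q18293 L697489 q16218, e3 q18294 L697503 q18294, e3 q18295 L697514 q16219, e3 q18296 L697532 q16668, e3 q18297 (flp_f L717044) q20179, e3 q18298 L697576 q16555, e3 q18299 L697588 q16225, e3 q18300 L697600 q16226, e3 q18301 L697618 q16227, e3 q18302 (flp_f L717063) q20180, e3 q18303 (flp_f L717083) q20181, trivial⟩ (by decide +kernel)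

theorem ce_f_286 : ∀ r, r < 64 → sm gf (Qf (18304 + r)) = Qf (tab Gen.f (18304 + r)) :=
  edges_tab (sm gf) Qf (tab Gen.f) 18304 [(18304, 20183), (18305, 16917), (18306, 18306), (18307, 16233), (18308, 16234), (18309, 16235), (18310, 20193), (18311, 16237), (18312, 20188), (18313, 20190), (18314, 20192), (18315, 16236), (18316, 20199), (18317, 20195), (18318, 16893), (18319, 16873), (18320, 16242), (18321, 20203), (18322, 16878), (18323, 18323), (18324, 18324), (18325, 16250), (18326, 16251), (18327, 16252), (18328, 20211), (18329, 16254), (18330, 20208), (18331, 20210), (18332, 16253), (18333, 20216), (18334, 20213), (18335, 17347), (18336, 17773), (18337, 18337), (18338, 18338), (18339, 17658), (18340, 16264), (18341, 17879), (18342, 16265), (18343, 16262), (18344, 20227), (18345, 16268), (18346, 20223), (18347, 20225), (18348, 16270), (18349, 16267), (18350, 20232), (18351, 17373), (18352, 20230), (18353, 20231), (18354, 16272), (18355, 20236), (18356, 16276), (18357, 16277), (18358, 16275), (18359, 20239), (18360, 20237),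 (18361, 20238), (18362, 16279), (18363, 17999), (18364, 16285), (18365, 20242), (18366, 18366), (18367, 18367)]
    ⟨e3 q18304 (flp_f L717117) q20183, e3 q18305 L697677 q16917, e3 q18306 L697693 q18306, e3 q18307 L697704 q16233, e3 q18308 L697717 q16234, e3 q18309 L697727 q16235, e3 q18310 L717245 q20193, e3 q18311 L697752 q16237, e3 q18312 (flp_f L717185) q20188, e3 q18313 (flp_f L717214) q20190, e3 q18314 (flp_f L717241) q20192, e3 q18315 (flp_f L697796) q16236, e3 q18316 (flp_f L717336) q20199, e3 q18317 (flp_f L717279) q20195, e3 q18318 L697848 q16893, e3 q18319 L697863 q16873, e3 q18320 L697878 q16242, e3 q18321 (flp_f L717401) q20203, e3 q18322 L697905 q16878, e3 q18323 L697919 q18323, e3 q18324 L697935 q18324, e3 q18325 L697944 q16250, e3 q18326 L697957 q16251, e3 q18327 L697967 q16252, e3 q18328 L717505 q20211, e3 q18329 L697992 q16254, e3 q18330 (flp_f L717470) q20208, e3 q18331 (flp_f L717499) q20210, e3 q18332 (flp_f L698024) q16253, e3 q18333 (flp_f L717581) q20216, e3 q18334 (flp_f L717533) q20213, e3 q18335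 L698074 q17347, e3 q18336 L698089 q17773, e3 q18337 L698098 q18337, e3 q18338 L698113 q18338, e3 q18339 L698130 q17658, e3 q18340 L698140 q16264, e3 q18341 L698158 q17879, e3 q18342 L698170 q16265, e3 q18343 (flp_f L698176) q16262, e3 q18344 (flp_f L717744) q20227, e3 q18345 L698200 q16268, e3 q18346 (flp_f L717680) q20223, e3 q18347 (flp_f L717712) q20225, e3 q18348 L698245 q16270, e3 q18349 L698255 q16267, e3 q18350 (flp_f L717808) q20232, e3 q18351 L698277 q17373, e3 q18352 (flp_f L717782) q20230, e3 q18353 (flp_f L717798) q20231, e3 q18354 L698325 q16272, e3 q18355 (flp_f L717861) q20236, e3 q18356 L698351 q16276, e3 q18357 L698366 q16277, e3 q18358 L698378 q16275, e3 q18359 (flp_f L717907) q20239, e3 q18360 (flp_f L717882) q20237, e3 q18361 (flp_f L717898) q20238, e3 q18362 L698428 q16279, e3 q18363 L698442 q17999, e3 q18364 L698460 q16285, e3 q18365 (flp_f L717947) q20242, e3 q18366 L698486 q18366, e3 q18367 L698500 q18367, trivial⟩ (by decide +kernel)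

theorem ce_f_287 : ∀ r, r < 64 → sm gf (Qf (18368 + r)) = Qf (tab Gen.f (18368 + r)) :=
  edges_tab (sm gf) Qf (tab Gen.f) 18368 [(18368, 18368), (18369, 20249), (18370, 18370), (18371, 18371), (18372, 18372), (18373, 16296), (18374, 20257), (18375, 16298), (18376, 16299), (18377, 20263), (18378, 16301), (18379, 16294), (18380, 20267), (18381, 16304), (18382, 20254), (18383, 20256), (18384, 16297), (18385, 20272), (18386, 20259), (18387, 20261), (18388, 16300), (18389, 20275), (18390, 20265), (18391, 16308), (18392, 16303), (18393, 20280), (18394, 17424), (18395, 17815), (18396, 17426), (18397, 20278), (18398, 20279), (18399, 16310), (18400, 20286), (18401, 20288), (18402, 18402), (18403, 16322), (18404, 17806), (18405, 16323), (18406, 16314), (18407, 20297), (18408, 16326), (18409, 16327), (18410, 20302), (18411, 16329), (18412, 17799), (18413, 16317), (18414, 20308), (18415, 16332), (18416, 17446), (18417, 16320), (18418, 20313), (18419, 20291), (18420, 20293), (18421, 20295), (18422, 18422), (18423, 16325), (18424, 20320),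 (18425, 20300), (18426, 16328), (18427, 20323), (18428, 20304), (18429, 16339), (18430, 16331), (18431, 20328)]
    ⟨e3 q18368 L698509 q18368, e3 q18369 L718021 q20249, e3 q18370 L698531 q18370, e3 q18371 L698538 q18371, e3 q18372 L698552 q18372, e3 q18373 L698561 q16296, e3 q18374 L718110 q20257, e3 q18375 L698582 q16298, e3 q18376 L698589 q16299, e3 q18377 L718174 q20263, e3 q18378 L698612 q16301, e3 q18379 (flp_f L698616) q16294, e3 q18380 (flp_f L718230) q20267, e3 q18381 L698636 q16304, e3 q18382 (flp_f L718077) q20254, e3 q18383 (flp_f L718106) q20256, e3 q18384 (flp_f L698668) q16297, e3 q18385 (flp_f L718292) q20272, e3 q18386 (flp_f L718136) q20259, e3 q18387 (flp_f L718165) q20261, e3 q18388 (flp_f L698717) q16300, e3 q18389 (flp_f L718335) q20275, e3 q18390 (flp_f L718202) q20265, e3 q18391 L698768 q16308, e3 q18392 L698775 q16303, e3 q18393 (flp_f L718398) q20280, e3 q18394 L698797 q17424, e3 q18395 L698812 q17815, e3 q18396 L698821 q17426, e3 q18397 (flp_f L718375) q20278, e3 q18398 (flp_f L718390) q20279, e3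 q18399 L698864 q16310, e3 q18400 (flp_f L718475) q20286, e3 q18401 L718499 q20288, e3 q18402 L698891 q18402, e3 q18403 L698900 q16322, e3 q18404 L698916 q17806, e3 q18405 L698926 q16323, e3 q18406 (flp_f L698930) q16314, e3 q18407 (flp_f L718613) q20297, e3 q18408 L698956 q16326, e3 q18409 L698966 q16327, e3 q18410 L718667 q20302, e3 q18411 L698990 q16329, e3 q18412 (flp_f L699006) q17799, e3 q18413 (flp_f L699008) q16317, e3 q18414 (flp_f L718761) q20308, e3 q18415 L699032 q16332, e3 q18416 L699042 q17446, e3 q18417 L699050 q16320, e3 q18418 (flp_f L718805) q20313, e3 q18419 (flp_f L718531) q20291, e3 q18420 (flp_f L718561) q20293, e3 q18421 (flp_f L718585) q20295, e3 q18422 L699109 q18422, e3 q18423 L699120 q16325, e3 q18424 (flp_f L718884) q20320, e3 q18425 (flp_f L718649) q20300, e3 q18426 (flp_f L699151) q16328, e3 q18427 (flp_f L718923) q20323, e3 q18428 (flp_f L718701) q20304, e3 q18429 L699203 q16339, e3 q18430 L699213 q16331, e3 q18431 (flp_f L718991) q20328, trivial⟩ (by decide +kernel)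

theorem ce_f_288 : ∀ r, r < 64 → sm gf (Qf (18432 + r)) = Qf (tab Gen.f (18432 + r)) :=
  edges_tab (sm gf) Qf (tab Gen.f) 18432 [(18432, 20310), (18433, 16343), (18434, 16344), (18435, 16335), (18436, 20332), (18437, 17470), (18438, 17864), (18439, 17474), (18440, 20326), (18441, 20327), (18442, 16341), (18443, 20338), (18444, 20330), (18445, 20331), (18446, 16346), (18447, 20334), (18448, 18448), (18449, 18449), (18450, 16349), (18451, 20344), (18452, 16354), (18453, 16355), (18454, 16353), (18455, 20348), (18456, 20346), (18457, 20347), (18458, 16357), (18459, 17325), (18460, 16369), (18461, 16370), (18462, 16371), (18463, 17317), (18464, 16372), (18465, 17305), (18466, 17318), (18467, 16373), (18468, 17194), (18469, 17306), (18470, 17319), (18471, 16374), (18472, 20353), (18473, 20354), (18474, 20355), (18475, 20358), (18476, 20362), (18477, 20371), (18478, 16932), (18479, 16377), (18480, 16387), (18481, 16388), (18482, 16389), (18483, 17329), (18484, 16390), (18485, 17330), (18486, 16391), (18487, 20373), (18488, 20374),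 (18489, 16557), (18490, 16394), (18491, 18491), (18492, 17552), (18493, 17984), (18494, 18494), (18495, 18495)]
    ⟨e3 q18432 (flp_f L718775) q20310, e3 q18433 L699243 q16343, e3 q18434 L699251 q16344, e3 q18435 L699259 q16335, e3 q18436 (flp_f L719029) q20332, e3 q18437 L699279 q17470, e3 q18438 L699294 q17864, e3 q18439 L699305 q17474, e3 q18440 (flp_f L718965) q20326, e3 q18441 (flp_f L718981) q20327, e3 q18442 L699349 q16341, e3 q18443 L719108 q20338, e3 q18444 (flp_f L719013) q20330, e3 q18445 (flp_f L719021) q20331, e3 q18446 L699388 q16346, e3 q18447 (flp_f L719049) q20334, e3 q18448 L699412 q18448, e3 q18449 L699426 q18449, e3 q18450 L699439 q16349, e3 q18451 (flp_f L719190) q20344, e3 q18452 L699458 q16354, e3 q18453 L699466 q16355, e3 q18454 L699475 q16353, e3 q18455 (flp_f L719229) q20348, e3 q18456 (flp_f L719211) q20346, e3 q18457 (flp_f L719220) q20347, e3 q18458 L699510 q16357, e3 q18459 L699522 q17325, e3 q18460 L699536 q16369, e3 q18461 L699553 q16370, e3 q18462 L699565 q16371, e3 q18463 L699583 q17317,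 e3 q18464 L699593 q16372, e3 q18465 L699601 q17305, e3 q18466 L699617 q17318, e3 q18467 L699629 q16373, e3 q18468 L699640 q17194, e3 q18469 L699655 q17306, e3 q18470 L699669 q17319, e3 q18471 L699678 q16374, e3 q18472 (flp_f L719283) q20353, e3 q18473 (flp_f L719297) q20354, e3 q18474 (flp_f L719306) q20355, e3 q18475 (flp_f L719351) q20358, e3 q18476 (flp_f L719404) q20362, e3 q18477 L719497 q20371, e3 q18478 L699757 q16932, e3 q18479 (flp_f L699759) q16377, e3 q18480 L699780 q16387, e3 q18481 L699792 q16388, e3 q18482 L699800 q16389, e3 q18483 L699822 q17329, e3 q18484 L699833 q16390, e3 q18485 L699844 q17330, e3 q18486 L699857 q16391, e3 q18487 (flp_f L719524) q20373, e3 q18488 (flp_f L719535) q20374, e3 q18489 L699898 q16557, e3 q18490 L699910 q16394, e3 q18491 L699927 q18491, e3 q18492 L699943 q17552, e3 q18493 L699957 q17984, e3 q18494 L699977 q18494, e3 q18495 L699995 q18495, trivial⟩ (by decide +kernel)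

theorem ce_f_289 : ∀ r, r < 64 → sm gf (Qf (18496 + r)) = Qf (tab Gen.f (18496 + r)) :=
  edges_tab (sm gf) Qf (tab Gen.f) 18496 [(18496, 16465), (18497, 16466), (18498, 16467), (18499, 17199), (18500, 16461), (18501, 16462), (18502, 16515), (18503, 17205), (18504, 17510), (18505, 16417), (18506, 16418), (18507, 16419), (18508, 20060), (18509, 20382), (18510, 17512), (18511, 17535), (18512, 17513), (18513, 17547), (18514, 17515), (18515, 17538), (18516, 16498), (18517, 17516), (18518, 16435), (18519, 20391), (18520, 17517), (18521, 16442), (18522, 17643), (18523, 20393), (18524, 16511), (18525, 17520), (18526, 16446), (18527, 20397), (18528, 16451), (18529, 20399), (18530, 16528), (18531, 17522), (18532, 16490), (18533, 17511), (18534, 20378), (18535, 16510), (18536, 17519), (18537, 17521), (18538, 16631), (18539, 17991), (18540, 16507), (18541, 20376), (18542, 16499), (18543, 16520), (18544, 17523), (18545, 20010), (18546, 17524), (18547, 16478), (18548, 20050), (18549, 20021), (18550, 16477), (18551, 20417), (18552, 20414),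 (18553, 16512), (18554, 20014), (18555, 17527), (18556, 20016), (18557, 16485), (18558, 20423), (18559, 20017)]
    ⟨e3 q18496 L700012 q16465, e3 q18497 L700028 q16466, e3 q18498 L700049 q16467, e3 q18499 L700069 q17199, e3 q18500 L700079 q16461, e3 q18501 L700099 q16462, e3 q18502 L700111 q16515, e3 q18503 L700139 q17205, e3 q18504 L700149 q17510, e3 q18505 L700162 q16417, e3 q18506 L700176 q16418, e3 q18507 L700197 q16419, e3 q18508 (flp_f L715400) q20060, e3 q18509 (flp_f L719676) q20382, e3 q18510 L700245 q17512, e3 q18511 L700263 q17535, e3 q18512 L700273 q17513, e3 q18513 L700289 q17547, e3 q18514 L700306 q17515, e3 q18515 L700319 q17538, e3 q18516 L700330 q16498, e3 q18517 L700347 q17516, e3 q18518 (flp_f L700351) q16435, e3 q18519 (flp_f L719812) q20391, e3 q18520 L700377 q17517, e3 q18521 L700395 q16442, e3 q18522 L700413 q17643, e3 q18523 (flp_f L719834) q20393, e3 q18524 L700433 q16511, e3 q18525 L700443 q17520, e3 q18526 L700457 q16446, e3 q18527 (flp_f L719894) q20397, e3 q18528 L700479 q16451, e3 q18529 (flp_f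 L719914) q20399, e3 q18530 L700503 q16528, e3 q18531 L700512 q17522, e3 q18532 L700528 q16490, e3 q18533 L700547 q17511, e3 q18534 (flp_f L719610) q20378, e3 q18535 L700570 q16510, e3 q18536 L700589 q17519, e3 q18537 L700597 q17521, e3 q18538 L700607 q16631, e3 q18539 L700625 q17991, e3 q18540 L700639 q16507, e3 q18541 (flp_f L719574) q20376, e3 q18542 L700661 q16499, e3 q18543 L700689 q16520, e3 q18544 L700700 q17523, e3 q18545 (flp_f L714640) q20010, e3 q18546 L700717 q17524, e3 q18547 L700729 q16478, e3 q18548 (flp_f L715257) q20050, e3 q18549 (flp_f L714832) q20021, e3 q18550 (flp_f L700761) q16477, e3 q18551 (flp_f L720177) q20417, e3 q18552 (flp_f L720135) q20414, e3 q18553 L700805 q16512, e3 q18554 (flp_f L714711) q20014, e3 q18555 L700826 q17527, e3 q18556 (flp_f L714743) q20016, e3 q18557 L700846 q16485, e3 q18558 (flp_f L720239) q20423, e3 q18559 (flp_f L714753) q20017, trivial⟩ (by decide +kernel)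

theorem ce_f_290 : ∀ r, r < 64 → sm gf (Qf (18560 + r)) = Qf (tab Gen.f (18560 + r)) :=
  edges_tab (sm gf) Qf (tab Gen.f) 18560 [(18560, 16525), (18561, 17979), (18562, 16523), (18563, 17529), (18564, 16500), (18565, 17992), (18566, 20389), (18567, 20410), (18568, 20427), (18569, 17530), (18570, 20012), (18571, 17531), (18572, 16505), (18573, 20434), (18574, 20408), (18575, 16513), (18576, 20052), (18577, 20405), (18578, 20395), (18579, 20419), (18580, 17537), (18581, 20379), (18582, 17539), (18583, 16518), (18584, 20443), (18585, 17542), (18586, 20411), (18587, 16522), (18588, 20447), (18589, 20425), (18590, 16527), (18591, 20449), (18592, 20401), (18593, 17549), (18594, 17550), (18595, 20450), (18596, 16845), (18597, 16846), (18598, 16539), (18599, 20451), (18600, 16542), (18601, 16547), (18602, 16875), (18603, 20001), (18604, 17616), (18605, 16565), (18606, 16566), (18607, 16567), (18608, 20452), (18609, 20453), (18610, 20455), (18611, 17231), (18612, 16572), (18613, 16573), (18614, 16574), (18615, 20458), (18616, 20459),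 (18617, 20460), (18618, 20465), (18619, 20462), (18620, 16798), (18621, 17263), (18622, 17556), (18623, 16675)]
    ⟨e3 q18560 L700881 q16525, e3 q18561 L700898 q17979, e3 q18562 L700911 q16523, e3 q18563 L700922 q17529, e3 q18564 L700933 q16500, e3 q18565 L700949 q17992, e3 q18566 (flp_f L719785) q20389, e3 q18567 (flp_f L720085) q20410, e3 q18568 (flp_f L720287) q20427, e3 q18569 L700994 q17530, e3 q18570 (flp_f L714676) q20012, e3 q18571 L701016 q17531, e3 q18572 L701029 q16505, e3 q18573 (flp_f L720384) q20434, e3 q18574 (flp_f L720060) q20408, e3 q18575 L701050 q16513, e3 q18576 (flp_f L715282) q20052, e3 q18577 (flp_f L720013) q20405, e3 q18578 (flp_f L719870) q20395, e3 q18579 (flp_f L720199) q20419, e3 q18580 L701109 q17537, e3 q18581 (flp_f L719627) q20379, e3 q18582 L701136 q17539, e3 q18583 L701149 q16518, e3 q18584 (flp_f L720487) q20443, e3 q18585 L701163 q17542, e3 q18586 (flp_f L720103) q20411, e3 q18587 L701183 q16522, e3 q18588 (flp_f L720514) q20447, e3 q18589 (flp_f L720264) q20425, e3 q18590 L701204 q16527,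 e3 q18591 (flp_f L720534) q20449, e3 q18592 (flp_f L719948) q20401, e3 q18593 L701235 q17549, e3 q18594 L701246 q17550, e3 q18595 (flp_f L720549) q20450, e3 q18596 L701271 q16845, e3 q18597 L701288 q16846, e3 q18598 L701307 q16539, e3 q18599 (flp_f L720563) q20451, e3 q18600 L701338 q16542, e3 q18601 L701357 q16547, e3 q18602 L701374 q16875, e3 q18603 (flp_f L714488) q20001, e3 q18604 L701409 q17616, e3 q18605 L701424 q16565, e3 q18606 L701436 q16566, e3 q18607 L701451 q16567, e3 q18608 (flp_f L720578) q20452, e3 q18609 (flp_f L720595) q20453, e3 q18610 (flp_f L720627) q20455, e3 q18611 L701500 q17231, e3 q18612 L701513 q16572, e3 q18613 L701525 q16573, e3 q18614 L701540 q16574, e3 q18615 (flp_f L720661) q20458, e3 q18616 (flp_f L720680) q20459, e3 q18617 (flp_f L720692) q20460, e3 q18618 L720756 q20465, e3 q18619 (flp_f L720723) q20462, e3 q18620 L701621 q16798, e3 q18621 L701634 q17263, e3 q18622 L701640 q17556, e3 q18623 L701656 q16675, trivial⟩ (by decide +kernel)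

theorem ce_f_291 : ∀ r, r < 64 → sm gf (Qf (18624 + r)) = Qf (tab Gen.f (18624 + r)) :=
  edges_tab (sm gf) Qf (tab Gen.f) 18624 [(18624, 16582), (18625, 16583), (18626, 16584), (18627, 20476), (18628, 16586), (18629, 20473), (18630, 20475), (18631, 16585), (18632, 20481), (18633, 20478), (18634, 16767), (18635, 17565), (18636, 20064), (18637, 16592), (18638, 20486), (18639, 20065), (18640, 17282), (18641, 16599), (18642, 16600), (18643, 20488), (18644, 17573), (18645, 18645), (18646, 18646), (18647, 16607), (18648, 16608), (18649, 16609), (18650, 20498), (18651, 16611), (18652, 20494), (18653, 20495), (18654, 20497), (18655, 16610), (18656, 20505), (18657, 20500), (18658, 17579), (18659, 17678), (18660, 17580), (18661, 20504), (18662, 16616), (18663, 20511), (18664, 17252), (18665, 17278), (18666, 20474), (18667, 16624), (18668, 16625), (18669, 20472), (18670, 16626), (18671, 16622), (18672, 20523), (18673, 16629), (18674, 20516), (18675, 20518), (18676, 20521), (18677, 16636), (18678, 16628), (18679, 20528), (18680, 17595),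 (18681, 20407), (18682, 17597), (18683, 20470), (18684, 16634), (18685, 20534), (18686, 17599), (18687, 20527)]
    ⟨e3 q18624 L701666 q16582, e3 q18625 L701680 q16583, e3 q18626 L701690 q16584, e3 q18627 L720910 q20476, e3 q18628 L701712 q16586, e3 q18629 (flp_f L720878) q20473, e3 q18630 (flp_f L720904) q20475, e3 q18631 (flp_f L701744) q16585, e3 q18632 (flp_f L720982) q20481, e3 q18633 (flp_f L720940) q20478, e3 q18634 L701792 q16767, e3 q18635 L701800 q17565, e3 q18636 (flp_f L715472) q20064, e3 q18637 L701818 q16592, e3 q18638 (flp_f L721052) q20486, e3 q18639 (flp_f L715486) q20065, e3 q18640 L701859 q17282, e3 q18641 L701875 q16599, e3 q18642 L701888 q16600, e3 q18643 (flp_f L721084) q20488, e3 q18644 L701916 q17573, e3 q18645 L701929 q18645, e3 q18646 L701943 q18646, e3 q18647 L701952 q16607, e3 q18648 L701965 q16608, e3 q18649 L701975 q16609, e3 q18650 L721191 q20498, e3 q18651 L701992 q16611, e3 q18652 (flp_f L721155) q20494, e3 q18653 (flp_f L721164) q20495, e3 q18654 (flp_f L721187) q20497, e3 q18655 (flp_f L702024)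 q16610, e3 q18656 (flp_f L721262) q20505, e3 q18657 (flp_f L721205) q20500, e3 q18658 L702051 q17579, e3 q18659 L702063 q17678, e3 q18660 L702069 q17580, e3 q18661 (flp_f L721255) q20504, e3 q18662 L702099 q16616, e3 q18663 (flp_f L721328) q20511, e3 q18664 L702111 q17252, e3 q18665 L702129 q17278, e3 q18666 (flp_f L720894) q20474, e3 q18667 L702147 q16624, e3 q18668 L702155 q16625, e3 q18669 (flp_f L720868) q20472, e3 q18670 L702175 q16626, e3 q18671 (flp_f L702179) q16622, e3 q18672 (flp_f L721461) q20523, e3 q18673 L702195 q16629, e3 q18674 (flp_f L721379) q20516, e3 q18675 (flp_f L721403) q20518, e3 q18676 (flp_f L721437) q20521, e3 q18677 L702229 q16636, e3 q18678 L702237 q16628, e3 q18679 (flp_f L721499) q20528, e3 q18680 L702255 q17595, e3 q18681 (flp_f L720043) q20407, e3 q18682 L702271 q17597, e3 q18683 (flp_f L720830) q20470, e3 q18684 L702297 q16634, e3 q18685 (flp_f L721567) q20534, e3 q18686 L702307 q17599, e3 q18687 (flp_f L721491) q20527, trivial⟩ (by decide +kernel)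

theorem ce_f_292 : ∀ r, r < 64 → sm gf (Qf (18688 + r)) = Qf (tab Gen.f (18688 + r)) :=
  edges_tab (sm gf) Qf (tab Gen.f) 18688 [(18688, 16638), (18689, 20537), (18690, 16643), (18691, 16642), (18692, 20540), (18693, 20539), (18694, 16645), (18695, 17709), (18696, 16844), (18697, 16655), (18698, 16656), (18699, 16868), (18700, 16874), (18701, 16657), (18702, 18073), (18703, 20543), (18704, 20546), (18705, 17606), (18706, 20105), (18707, 16670), (18708, 17154), (18709, 16671), (18710, 20549), (18711, 16676), (18712, 16677), (18713, 20471), (18714, 20551), (18715, 17581), (18716, 16682), (18717, 16683), (18718, 16684), (18719, 20522), (18720, 16685), (18721, 20554), (18722, 20555), (18723, 20557), (18724, 20559), (18725, 17596), (18726, 17598), (18727, 18727), (18728, 18728), (18729, 18729), (18730, 16694), (18731, 16695), (18732, 16696), (18733, 20576), (18734, 16698), (18735, 20570), (18736, 20572), (18737, 20573), (18738, 20582), (18739, 20575), (18740, 16697), (18741, 20585), (18742, 20578), (18743, 17613), (18744, 17993),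 (18745, 17614), (18746, 20031), (18747, 20042), (18748, 20059), (18749, 16710), (18750, 20595), (18751, 16712)]
    ⟨e3 q18688 L702333 q16638, e3 q18689 (flp_f L721599) q20537, e3 q18690 L702351 q16643, e3 q18691 L702361 q16642, e3 q18692 (flp_f L721640) q20540, e3 q18693 (flp_f L721631) q20539, e3 q18694 L702390 q16645, e3 q18695 L702403 q17709, e3 q18696 L702422 q16844, e3 q18697 L702432 q16655, e3 q18698 L702447 q16656, e3 q18699 L702457 q16868, e3 q18700 L702475 q16874, e3 q18701 L702485 q16657, e3 q18702 L702498 q18073, e3 q18703 (flp_f L721681) q20543, e3 q18704 (flp_f L721719) q20546, e3 q18705 L702533 q17606, e3 q18706 (flp_f L716079) q20105, e3 q18707 L702556 q16670, e3 q18708 L702570 q17154, e3 q18709 L702580 q16671, e3 q18710 (flp_f L721763) q20549, e3 q18711 L702611 q16676, e3 q18712 L702629 q16677, e3 q18713 (flp_f L720850) q20471, e3 q18714 (flp_f L721796) q20551, e3 q18715 L702666 q17581, e3 q18716 L702676 q16682, e3 q18717 L702689 q16683, e3 q18718 L702697 q16684, e3 q18719 (flp_f L721451) q20522, e3 q18720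 L702718 q16685, e3 q18721 (flp_f L721832) q20554, e3 q18722 (flp_f L721839) q20555, e3 q18723 (flp_f L721868) q20557, e3 q18724 (flp_f L721886) q20559, e3 q18725 L702775 q17596, e3 q18726 L702783 q17598, e3 q18727 L702796 q18727, e3 q18728 L702807 q18728, e3 q18729 L702821 q18729, e3 q18730 L702830 q16694, e3 q18731 L702841 q16695, e3 q18732 L702849 q16696, e3 q18733 L722083 q20576, e3 q18734 L702870 q16698, e3 q18735 (flp_f L722020) q20570, e3 q18736 (flp_f L722043) q20572, e3 q18737 (flp_f L722050) q20573, e3 q18738 L722147 q20582, e3 q18739 (flp_f L722079) q20575, e3 q18740 (flp_f L702937) q16697, e3 q18741 (flp_f L722194) q20585, e3 q18742 (flp_f L722103) q20578, e3 q18743 L702972 q17613, e3 q18744 L702986 q17993, e3 q18745 L702994 q17614, e3 q18746 (flp_f L714984) q20031, e3 q18747 (flp_f L715142) q20042, e3 q18748 (flp_f L715383) q20059, e3 q18749 L703030 q16710, e3 q18750 L722292 q20595, e3 q18751 L703050 q16712, trivial⟩ (by decide +kernel)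

theorem ce_f_293 : ∀ r, r < 64 → sm gf (Qf (18752 + r)) = Qf (tab Gen.f (18752 + r)) :=
  edges_tab (sm gf) Qf (tab Gen.f) 18752 [(18752, 16713), (18753, 20601), (18754, 16715), (18755, 16708), (18756, 20604), (18757, 16718), (18758, 20594), (18759, 16711), (18760, 20607), (18761, 20597), (18762, 20598), (18763, 20600), (18764, 16714), (18765, 20611), (18766, 20603), (18767, 16717), (18768, 20614), (18769, 17625), (18770, 20051), (18771, 17626), (18772, 20053), (18773, 17627), (18774, 20054), (18775, 16742), (18776, 16726), (18777, 20623), (18778, 16729), (18779, 20624), (18780, 20058), (18781, 16739), (18782, 16740), (18783, 18783), (18784, 16741), (18785, 16743), (18786, 16744), (18787, 18787), (18788, 20626), (18789, 20627), (18790, 20622), (18791, 20629), (18792, 20630), (18793, 17633), (18794, 17634), (18795, 20634), (18796, 18796), (18797, 18797), (18798, 18798), (18799, 20642), (18800, 18800), (18801, 17269), (18802, 17273), (18803, 16757), (18804, 20649), (18805, 16759), (18806, 16760), (18807, 20655), (18808, 16762),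 (18809, 16755), (18810, 20659), (18811, 16765), (18812, 20648), (18813, 16758), (18814, 20662), (18815, 20651)]
    ⟨e3 q18752 L703058 q16713, e3 q18753 L722356 q20601, e3 q18754 L703078 q16715, e3 q18755 (flp_f L703082) q16708, e3 q18756 (flp_f L722392) q20604, e3 q18757 L703104 q16718, e3 q18758 (flp_f L722288) q20594, e3 q18759 (flp_f L703120) q16711, e3 q18760 (flp_f L722420) q20607, e3 q18761 (flp_f L722318) q20597, e3 q18762 (flp_f L722328) q20598, e3 q18763 (flp_f L722352) q20600, e3 q18764 (flp_f L703174) q16714, e3 q18765 (flp_f L722465) q20611, e3 q18766 (flp_f L722380) q20603, e3 q18767 L703206 q16717, e3 q18768 (flp_f L722489) q20614, e3 q18769 L703228 q17625, e3 q18770 (flp_f L715272) q20051, e3 q18771 L703243 q17626, e3 q18772 (flp_f L715298) q20053, e3 q18773 L703257 q17627, e3 q18774 (flp_f L715310) q20054, e3 q18775 L703277 q16742, e3 q18776 L703290 q16726, e3 q18777 (flp_f L722582) q20623, e3 q18778 L703315 q16729, e3 q18779 (flp_f L722591) q20624, e3 q18780 (flp_f L715368) q20058, e3 q18781 L703339 q16739,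 e3 q18782 L703355 q16740, e3 q18783 L703368 q18783, e3 q18784 L703376 q16741, e3 q18785 L703388 q16743, e3 q18786 L703398 q16744, e3 q18787 L703410 q18787, e3 q18788 (flp_f L722617) q20626, e3 q18789 (flp_f L722633) q20627, e3 q18790 (flp_f L722567) q20622, e3 q18791 (flp_f L722660) q20629, e3 q18792 (flp_f L722671) q20630, e3 q18793 L703482 q17633, e3 q18794 L703489 q17634, e3 q18795 (flp_f L722714) q20634, e3 q18796 L703504 q18796, e3 q18797 L703518 q18797, e3 q18798 L703525 q18798, e3 q18799 L722795 q20642, e3 q18800 L703547 q18800, e3 q18801 L703554 q17269, e3 q18802 L703569 q17273, e3 q18803 L703579 q16757, e3 q18804 L722870 q20649, e3 q18805 L703598 q16759, e3 q18806 L703605 q16760, e3 q18807 L722930 q20655, e3 q18808 L703630 q16762, e3 q18809 (flp_f L703634) q16755, e3 q18810 (flp_f L722974) q20659, e3 q18811 L703648 q16765, e3 q18812 (flp_f L722866) q20648, e3 q18813 (flp_f L703665) q16758, e3 q18814 (flp_f L723001) q20662, e3 q18815 (flp_f L722888) q20651, trivial⟩ (by decide +kernel)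

theorem ce_f_294 : ∀ r, r < 64 → sm gf (Qf (18816 + r)) = Qf (tab Gen.f (18816 + r)) :=
  edges_tab (sm gf) Qf (tab Gen.f) 18816 [(18816, 20653), (18817, 16761), (18818, 20665), (18819, 20657), (18820, 16769), (18821, 16764), (18822, 20669), (18823, 17644), (18824, 20483), (18825, 17646), (18826, 20668), (18827, 16771), (18828, 20675), (18829, 20677), (18830, 20044), (18831, 20681), (18832, 16784), (18833, 16775), (18834, 20684), (18835, 16787), (18836, 16788), (18837, 20689), (18838, 16790), (18839, 20692), (18840, 16778), (18841, 20696), (18842, 16793), (18843, 17662), (18844, 16781), (18845, 20701), (18846, 16783), (18847, 20703), (18848, 20683), (18849, 16786), (18850, 20706), (18851, 20687), (18852, 16789), (18853, 20709), (18854, 20691), (18855, 16800), (18856, 16792), (18857, 20713), (18858, 20698), (18859, 16804), (18860, 16805), (18861, 16796), (18862, 20718), (18863, 17679), (18864, 20468), (18865, 17682), (18866, 20712), (18867, 16802), (18868, 20723), (18869, 20726), (18870, 20716), (18871, 20717), (18872, 16807),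 (18873, 20721), (18874, 16809), (18875, 20729), (18876, 16814), (18877, 16815), (18878, 16813), (18879, 20731)]
    ⟨e3 q18816 (flp_f L722919) q20653, e3 q18817 (flp_f L703706) q16761, e3 q18818 (flp_f L723041) q20665, e3 q18819 (flp_f L722952) q20657, e3 q18820 L703741 q16769, e3 q18821 L703746 q16764, e3 q18822 (flp_f L723071) q20669, e3 q18823 L703766 q17644, e3 q18824 (flp_f L721010) q20483, e3 q18825 L703782 q17646, e3 q18826 (flp_f L723065) q20668, e3 q18827 L703798 q16771, e3 q18828 (flp_f L723122) q20675, e3 q18829 L723134 q20677, e3 q18830 (flp_f L715177) q20044, e3 q18831 L723166 q20681, e3 q18832 L703839 q16784, e3 q18833 (flp_f L703843) q16775, e3 q18834 (flp_f L723204) q20684, e3 q18835 L703863 q16787, e3 q18836 L703873 q16788, e3 q18837 L723254 q20689, e3 q18838 L703899 q16790, e3 q18839 L723292 q20692, e3 q18840 (flp_f L703913) q16778, e3 q18841 (flp_f L723331) q20696, e3 q18842 L703931 q16793, e3 q18843 L703941 q17662, e3 q18844 L703949 q16781, e3 q18845 (flp_f L723371) q20701, e3 q18846 (flp_f L703957) q16783,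 e3 q18847 (flp_f L723386) q20703, e3 q18848 (flp_f L723192) q20683, e3 q18849 L703995 q16786, e3 q18850 (flp_f L723416) q20706, e3 q18851 (flp_f L723236) q20687, e3 q18852 (flp_f L704023) q16789, e3 q18853 (flp_f L723453) q20709, e3 q18854 (flp_f L723286) q20691, e3 q18855 L704066 q16800, e3 q18856 L704073 q16792, e3 q18857 (flp_f L723498) q20713, e3 q18858 (flp_f L723343) q20698, e3 q18859 L704093 q16804, e3 q18860 L704099 q16805, e3 q18861 L704105 q16796, e3 q18862 (flp_f L723527) q20718, e3 q18863 L704121 q17679, e3 q18864 (flp_f L720806) q20468, e3 q18865 L704141 q17682, e3 q18866 (flp_f L723490) q20712, e3 q18867 L704160 q16802, e3 q18868 (flp_f L723570) q20723, e3 q18869 L723587 q20726, e3 q18870 (flp_f L723515) q20716, e3 q18871 (flp_f L723521) q20717, e3 q18872 L704187 q16807, e3 q18873 (flp_f L723556) q20721, e3 q18874 L704202 q16809, e3 q18875 (flp_f L723619) q20729, e3 q18876 L704221 q16814, e3 q18877 L704232 q16815, e3 q18878 L704241 q16813, e3 q18879 (flp_f L723635) q20731, trivial⟩ (by decide +kernel)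

theorem ce_f_295 : ∀ r, r < 64 → sm gf (Qf (18880 + r)) = Qf (tab Gen.f (18880 + r)) :=
  edges_tab (sm gf) Qf (tab Gen.f) 18880 [(18880, 20730), (18881, 16817), (18882, 16835), (18883, 18883), (18884, 18884), (18885, 16829), (18886, 18886), (18887, 18887), (18888, 16830), (18889, 18889), (18890, 18890), (18891, 16831), (18892, 18892), (18893, 18893), (18894, 18894), (18895, 16832), (18896, 18896), (18897, 20738), (18898, 20741), (18899, 20745), (18900, 20751), (18901, 18901), (18902, 16843), (18903, 18903), (18904, 16850), (18905, 16849), (18906, 20753), (18907, 18009), (18908, 16857), (18909, 16858), (18910, 16859), (18911, 20226), (18912, 16860), (18913, 20359), (18914, 20755), (18915, 20757), (18916, 20759), (18917, 17372), (18918, 18918), (18919, 18919), (18920, 20519), (18921, 16869), (18922, 16866), (18923, 20768), (18924, 16872), (18925, 20544), (18926, 20767), (18927, 16871), (18928, 20771), (18929, 20202), (18930, 20545), (18931, 16877), (18932, 20774), (18933, 18933), (18934, 18934), (18935, 18935), (18936, 20779),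 (18937, 18937), (18938, 18938), (18939, 18939), (18940, 20784), (18941, 16889), (18942, 16886), (18943, 20787)]
    ⟨e3 q18880 (flp_f L723626) q20730, e3 q18881 L704263 q16817, e3 q18882 L704274 q16835, e3 q18883 L704281 q18883, e3 q18884 L704294 q18884, e3 q18885 L704303 q16829, e3 q18886 L704314 q18886, e3 q18887 L704331 q18887, e3 q18888 L704338 q16830, e3 q18889 L704348 q18889, e3 q18890 L704363 q18890, e3 q18891 L704374 q16831, e3 q18892 L704385 q18892, e3 q18893 L704395 q18893, e3 q18894 L704404 q18894, e3 q18895 L704410 q16832, e3 q18896 L704421 q18896, e3 q18897 (flp_f L723705) q20738, e3 q18898 (flp_f L723744) q20741, e3 q18899 (flp_f L723794) q20745, e3 q18900 L723843 q20751, e3 q18901 L704476 q18901, e3 q18902 L704486 q16843, e3 q18903 L704501 q18903, e3 q18904 L704520 q16850, e3 q18905 L704531 q16849, e3 q18906 (flp_f L723871) q20753, e3 q18907 L704559 q18009, e3 q18908 L704575 q16857, e3 q18909 L704588 q16858, e3 q18910 L704598 q16859, e3 q18911 (flp_f L717732) q20226, e3 q18912 L704625 q16860, e3 q18913 (flp_f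 L719364) q20359, e3 q18914 (flp_f L723898) q20755, e3 q18915 (flp_f L723927) q20757, e3 q18916 (flp_f L723947) q20759, e3 q18917 L704689 q17372, e3 q18918 L704698 q18918, e3 q18919 L704713 q18919, e3 q18920 (flp_f L721413) q20519, e3 q18921 L704738 q16869, e3 q18922 (flp_f L704742) q16866, e3 q18923 (flp_f L724069) q20768, e3 q18924 L704768 q16872, e3 q18925 (flp_f L721696) q20544, e3 q18926 (flp_f L724053) q20767, e3 q18927 L704810 q16871, e3 q18928 (flp_f L724102) q20771, e3 q18929 (flp_f L717380) q20202, e3 q18930 (flp_f L721710) q20545, e3 q18931 L704851 q16877, e3 q18932 (flp_f L724134) q20774, e3 q18933 L704867 q18933, e3 q18934 L704878 q18934, e3 q18935 L704887 q18935, e3 q18936 L724175 q20779, e3 q18937 L704906 q18937, e3 q18938 L704913 q18938, e3 q18939 L704928 q18939, e3 q18940 L724226 q20784, e3 q18941 L704953 q16889, e3 q18942 (flp_f L704957) q16886, e3 q18943 (flp_f L724270) q20787, trivial⟩ (by decide +kernel)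

theorem ce_f_296 : ∀ r, r < 64 → sm gf (Qf (18944 + r)) = Qf (tab Gen.f (18944 + r)) :=
  edges_tab (sm gf) Qf (tab Gen.f) 18944 [(18944, 16892), (18945, 16888), (18946, 20789), (18947, 20786), (18948, 16891), (18949, 20791), (18950, 20201), (18951, 18951), (18952, 20795), (18953, 18953), (18954, 17729), (18955, 16905), (18956, 16897), (18957, 20800), (18958, 16908), (18959, 17341), (18960, 16909), (18961, 17733), (18962, 16900), (18963, 20805), (18964, 16912), (18965, 16952), (18966, 16903), (18967, 20809), (18968, 20799), (18969, 16907), (18970, 20811), (18971, 20803), (18972, 16911), (18973, 20813), (18974, 16918), (18975, 16919), (18976, 16915), (18977, 20816), (18978, 20814), (18979, 20815), (18980, 16921), (18981, 20335), (18982, 18982), (18983, 16924), (18984, 20821), (18985, 16929), (18986, 16930), (18987, 16928), (18988, 20824), (18989, 20822), (18990, 20823), (18991, 18991), (18992, 17738), (18993, 16944), (18994, 16945), (18995, 20191), (18996, 16946), (18997, 20829), (18998, 20831), (18999, 18999), (19000, 19000),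 (19001, 16954), (19002, 20807), (19003, 16955), (19004, 20182), (19005, 16956), (19006, 20808), (19007, 16957)]
    ⟨e3 q18944 L704983 q16892, e3 q18945 (flp_f L704991) q16888, e3 q18946 (flp_f L724291) q20789, e3 q18947 (flp_f L724254) q20786, e3 q18948 L705034 q16891, e3 q18949 (flp_f L724314) q20791, e3 q18950 (flp_f L717364) q20201, e3 q18951 L705064 q18951, e3 q18952 L724362 q20795, e3 q18953 L705085 q18953, e3 q18954 L705104 q17729, e3 q18955 L705116 q16905, e3 q18956 (flp_f L705120) q16897, e3 q18957 (flp_f L724426) q20800, e3 q18958 L705136 q16908, e3 q18959 L705156 q17341, e3 q18960 L705166 q16909, e3 q18961 (flp_f L705184) q17733, e3 q18962 (flp_f L705188) q16900, e3 q18963 (flp_f L724496) q20805, e3 q18964 L705220 q16912, e3 q18965 L705234 q16952, e3 q18966 L705240 q16903, e3 q18967 (flp_f L724538) q20809, e3 q18968 (flp_f L724412) q20799, e3 q18969 L705271 q16907, e3 q18970 (flp_f L724550) q20811, e3 q18971 (flp_f L724458) q20803, e3 q18972 L705310 q16911, e3 q18973 (flp_f L724573) q20813, e3 q18974 L705340 q16918,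 e3 q18975 L705348 q16919, e3 q18976 L705354 q16915, e3 q18977 (flp_f L724603) q20816, e3 q18978 (flp_f L724589) q20814, e3 q18979 (flp_f L724597) q20815, e3 q18980 L705389 q16921, e3 q18981 (flp_f L719075) q20335, e3 q18982 L705413 q18982, e3 q18983 L705420 q16924, e3 q18984 (flp_f L724654) q20821, e3 q18985 L705445 q16929, e3 q18986 L705453 q16930, e3 q18987 L705460 q16928, e3 q18988 (flp_f L724687) q20824, e3 q18989 (flp_f L724671) q20822, e3 q18990 (flp_f L724680) q20823, e3 q18991 L705505 q18991, e3 q18992 L705520 q17738, e3 q18993 L705530 q16944, e3 q18994 L705548 q16945, e3 q18995 (flp_f L717230) q20191, e3 q18996 L705570 q16946, e3 q18997 (flp_f L724747) q20829, e3 q18998 (flp_f L724765) q20831, e3 q18999 L705599 q18999, e3 q19000 L705611 q19000, e3 q19001 L705618 q16954, e3 q19002 (flp_f L724522) q20807, e3 q19003 L705639 q16955, e3 q19004 (flp_f L717105) q20182, e3 q19005 L705654 q16956, e3 q19006 (flp_f L724530) q20808, e3 q19007 L705670 q16957, trivial⟩ (by decide +kernel)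

theorem ce_f_297 : ∀ r, r < 64 → sm gf (Qf (19008 + r)) = Qf (tab Gen.f (19008 + r)) :=
  edges_tab (sm gf) Qf (tab Gen.f) 19008 [(19008, 20836), (19009, 20838), (19010, 20841), (19011, 17774), (19012, 19012), (19013, 19013), (19014, 19014), (19015, 20849), (19016, 19016), (19017, 19017), (19018, 19018), (19019, 20854), (19020, 16968), (19021, 16965), (19022, 20857), (19023, 16971), (19024, 16967), (19025, 20860), (19026, 20856), (19027, 16970), (19028, 20862), (19029, 20129), (19030, 19030), (19031, 20867), (19032, 19032), (19033, 20871), (19034, 16985), (19035, 16976), (19036, 20875), (19037, 16988), (19038, 20209), (19039, 16989), (19040, 20880), (19041, 16979), (19042, 20883), (19043, 16992), (19044, 16982), (19045, 20885), (19046, 16984), (19047, 20888), (19048, 20873), (19049, 19049), (19050, 16987), (19051, 20891), (19052, 20879), (19053, 16991), (19054, 20893), (19055, 16994), (19056, 20895), (19057, 20158), (19058, 20160), (19059, 19059), (19060, 17000), (19061, 20899), (19062, 17002), (19063, 20901), (19064, 17192),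 (19065, 19065), (19066, 17153), (19067, 19067), (19068, 19068), (19069, 19069), (19070, 17015), (19071, 19071)]
    ⟨e3 q19008 (flp_f L724824) q20836, e3 q19009 (flp_f L724840) q20838, e3 q19010 (flp_f L724865) q20841, e3 q19011 L705699 q17774, e3 q19012 L705709 q19012, e3 q19013 L705726 q19013, e3 q19014 L705737 q19014, e3 q19015 L724951 q20849, e3 q19016 L705760 q19016, e3 q19017 L705769 q19017, e3 q19018 L705788 q19018, e3 q19019 L725008 q20854, e3 q19020 L705813 q16968, e3 q19021 (flp_f L705817) q16965, e3 q19022 (flp_f L725052) q20857, e3 q19023 L705843 q16971, e3 q19024 (flp_f L705851) q16967, e3 q19025 (flp_f L725083) q20860, e3 q19026 (flp_f L725036) q20856, e3 q19027 L705894 q16970, e3 q19028 (flp_f L725106) q20862, e3 q19029 (flp_f L716400) q20129, e3 q19030 L705922 q19030, e3 q19031 L725162 q20867, e3 q19032 L705947 q19032, e3 q19033 L725200 q20871, e3 q19034 L705974 q16985, e3 q19035 (flp_f L705978) q16976, e3 q19036 (flp_f L725254) q20875, e3 q19037 L705998 q16988, e3 q19038 (flp_f L717488) q20209, e3 q19039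 L706018 q16989, e3 q19040 L725302 q20880, e3 q19041 (flp_f L706032) q16979, e3 q19042 (flp_f L725341) q20883, e3 q19043 L706058 q16992, e3 q19044 L706072 q16982, e3 q19045 (flp_f L725361) q20885, e3 q19046 (flp_f L706082) q16984, e3 q19047 (flp_f L725390) q20888, e3 q19048 (flp_f L725234) q20873, e3 q19049 L706130 q19049, e3 q19050 L706137 q16987, e3 q19051 (flp_f L725422) q20891, e3 q19052 (flp_f L725292) q20879, e3 q19053 L706169 q16991, e3 q19054 (flp_f L725441) q20893, e3 q19055 L706187 q16994, e3 q19056 (flp_f L725460) q20895, e3 q19057 (flp_f L716771) q20158, e3 q19058 (flp_f L716794) q20160, e3 q19059 L706219 q19059, e3 q19060 L706227 q17000, e3 q19061 (flp_f L725497) q20899, e3 q19062 L706244 q17002, e3 q19063 (flp_f L725517) q20901, e3 q19064 (flp_f L706269) q17192, e3 q19065 L706279 q19065, e3 q19066 L706293 q17153, e3 q19067 L706307 q19067, e3 q19068 L706322 q19068, e3 q19069 L706340 q19069, e3 q19070 L706348 q17015, e3 q19071 L706360 q19071, trivial⟩ (by decide +kernel)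

theorem ce_f_298 : ∀ r, r < 64 → sm gf (Qf (19072 + r)) = Qf (tab Gen.f (19072 + r)) :=
  edges_tab (sm gf) Qf (tab Gen.f) 19072 [(19072, 19072), (19073, 19073), (19074, 19074), (19075, 17427), (19076, 17784), (19077, 19077), (19078, 20916), (19079, 19079), (19080, 19080), (19081, 20923), (19082, 19082), (19083, 17020), (19084, 20927), (19085, 19085), (19086, 19086), (19087, 20931), (19088, 19088), (19089, 17033), (19090, 20936), (19091, 17035), (19092, 17025), (19093, 20940), (19094, 17038), (19095, 20299), (19096, 17039), (19097, 20945), (19098, 17028), (19099, 20949), (19100, 17042), (19101, 17845), (19102, 17031), (19103, 20953), (19104, 20935), (19105, 17034), (19106, 20957), (19107, 20938), (19108, 19108), (19109, 17037), (19110, 20961), (19111, 20944), (19112, 17047), (19113, 17041), (19114, 20965), (19115, 17050), (19116, 17051), (19117, 17045), (19118, 20969), (19119, 20963), (19120, 20964), (19121, 17049), (19122, 20341), (19123, 20967), (19124, 20968), (19125, 17053), (19126, 20975), (19127, 19127), (19128, 20980),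 (19129, 19129), (19130, 17055), (19131, 20984), (19132, 19132), (19133, 17073), (19134, 20989), (19135, 17075)]
    ⟨e3 q19072 L706374 q19072, e3 q19073 L706387 q19073, e3 q19074 L706400 q19074, e3 q19075 L706409 q17427, e3 q19076 L706427 q17784, e3 q19077 L706437 q19077, e3 q19078 L725689 q20916, e3 q19079 L706452 q19079, e3 q19080 L706459 q19080, e3 q19081 L725747 q20923, e3 q19082 L706474 q19082, e3 q19083 (flp_f L706477) q17020, e3 q19084 (flp_f L725783) q20927, e3 q19085 L706492 q19085, e3 q19086 L706499 q19086, e3 q19087 L725818 q20931, e3 q19088 L706520 q19088, e3 q19089 L706529 q17033, e3 q19090 L725866 q20936, e3 q19091 L706557 q17035, e3 q19092 (flp_f L706561) q17025, e3 q19093 (flp_f L725916) q20940, e3 q19094 L706577 q17038, e3 q19095 (flp_f L718637) q20299, e3 q19096 L706597 q17039, e3 q19097 L725960 q20945, e3 q19098 (flp_f L706611) q17028, e3 q19099 (flp_f L726016) q20949, e3 q19100 L706637 q17042, e3 q19101 L706651 q17845, e3 q19102 L706657 q17031, e3 q19103 (flp_f L726050) q20953, e3 q19104 (flp_f L725862)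 q20935, e3 q19105 (flp_f L706678) q17034, e3 q19106 (flp_f L726096) q20957, e3 q19107 (flp_f L725898) q20938, e3 q19108 L706721 q19108, e3 q19109 L706725 q17037, e3 q19110 (flp_f L726133) q20961, e3 q19111 (flp_f L725952) q20944, e3 q19112 L706760 q17047, e3 q19113 L706770 q17041, e3 q19114 (flp_f L726183) q20965, e3 q19115 L706787 q17050, e3 q19116 L706794 q17051, e3 q19117 L706800 q17045, e3 q19118 (flp_f L726218) q20969, e3 q19119 (flp_f L726157) q20963, e3 q19120 (flp_f L726173) q20964, e3 q19121 L706850 q17049, e3 q19122 (flp_f L719144) q20341, e3 q19123 (flp_f L726204) q20967, e3 q19124 (flp_f L726210) q20968, e3 q19125 L706886 q17053, e3 q19126 (flp_f L726283) q20975, e3 q19127 L706906 q19127, e3 q19128 L726344 q20980, e3 q19129 L706927 q19129, e3 q19130 (flp_f L706932) q17055, e3 q19131 (flp_f L726378) q20984, e3 q19132 L706947 q19132, e3 q19133 L706956 q17073, e3 q19134 L726434 q20989, e3 q19135 L706978 q17075, trivial⟩ (by decide +kernel)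

theorem ce_f_299 : ∀ r, r < 64 → sm gf (Qf (19136 + r)) = Qf (tab Gen.f (19136 + r)) :=
  edges_tab (sm gf) Qf (tab Gen.f) 19136 [(19136, 20992), (19137, 17058), (19138, 20996), (19139, 17078), (19140, 20983), (19141, 17061), (19142, 21001), (19143, 20260), (19144, 17082), (19145, 21005), (19146, 17064), (19147, 21008), (19148, 17085), (19149, 17066), (19150, 21012), (19151, 21013), (19152, 17895), (19153, 17068), (19154, 21018), (19155, 17089), (19156, 17899), (19157, 17900), (19158, 17072), (19159, 21023), (19160, 20987), (19161, 17074), (19162, 21026), (19163, 20991), (19164, 19164), (19165, 17077), (19166, 21031), (19167, 20998), (19168, 19168), (19169, 19169), (19170, 17081), (19171, 21036), (19172, 21004), (19173, 17095), (19174, 17084), (19175, 21040), (19176, 21010), (19177, 17099), (19178, 17100), (19179, 17088), (19180, 21044), (19181, 21047), (19182, 17104), (19183, 17105), (19184, 17093), (19185, 21050), (19186, 21038), (19187, 21039), (19188, 17097), (19189, 20287), (19190, 21042), (19191, 21043), (19192, 17102),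 (19193, 20976), (19194, 20128), (19195, 21048), (19196, 21049), (19197, 17107), (19198, 17479), (19199, 19199)]
    ⟨e3 q19136 L726460 q20992, e3 q19137 (flp_f L706988) q17058, e3 q19138 (flp_f L726501) q20996, e3 q19139 L707008 q17078, e3 q19140 (flp_f L726373) q20983, e3 q19141 L707020 q17061, e3 q19142 (flp_f L726543) q21001, e3 q19143 (flp_f L718154) q20260, e3 q19144 L707042 q17082, e3 q19145 L726567 q21005, e3 q19146 (flp_f L707054) q17064, e3 q19147 (flp_f L726604) q21008, e3 q19148 L707072 q17085, e3 q19149 (flp_f L707076) q17066, e3 q19150 (flp_f L726636) q21012, e3 q19151 (flp_f L726643) q21013, e3 q19152 L707101 q17895, e3 q19153 L707109 q17068, e3 q19154 (flp_f L726681) q21018, e3 q19155 L707123 q17089, e3 q19156 L707137 q17899, e3 q19157 L707143 q17900, e3 q19158 L707151 q17072, e3 q19159 (flp_f L726717) q21023, e3 q19160 (flp_f L726412) q20987, e3 q19161 (flp_f L707168) q17074, e3 q19162 (flp_f L726741) q21026, e3 q19163 (flp_f L726456) q20991, e3 q19164 L707201 q19164, e3 q19165 L707207 q17077, e3 q19166 (flp_f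 L726791) q21031, e3 q19167 (flp_f L726517) q20998, e3 q19168 L707237 q19168, e3 q19169 L707244 q19169, e3 q19170 L707249 q17081, e3 q19171 (flp_f L726830) q21036, e3 q19172 (flp_f L726563) q21004, e3 q19173 L707277 q17095, e3 q19174 L707284 q17084, e3 q19175 (flp_f L726877) q21040, e3 q19176 (flp_f L726618) q21010, e3 q19177 L707309 q17099, e3 q19178 L707316 q17100, e3 q19179 L707324 q17088, e3 q19180 (flp_f L726905) q21044, e3 q19181 L726932 q21047, e3 q19182 L707347 q17104, e3 q19183 L707353 q17105, e3 q19184 L707359 q17093, e3 q19185 (flp_f L726958) q21050, e3 q19186 (flp_f L726854) q21038, e3 q19187 (flp_f L726869) q21039, e3 q19188 L707406 q17097, e3 q19189 (flp_f L718489) q20287, e3 q19190 (flp_f L726891) q21042, e3 q19191 (flp_f L726899) q21043, e3 q19192 L707437 q17102, e3 q19193 (flp_f L726299) q20976, e3 q19194 (flp_f L716386) q20128, e3 q19195 (flp_f L726944) q21048, e3 q19196 (flp_f L726950) q21049, e3 q19197 L707480 q17107, e3 q19198 L707489 q17479, e3 q19199 L707497 q19199, trivial⟩ (by decide +kernel)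

theorem ce_f_300 : ∀ r, r < 64 → sm gf (Qf (19200 + r)) = Qf (tab Gen.f (19200 + r)) :=
  edges_tab (sm gf) Qf (tab Gen.f) 19200 [(19200, 19200), (19201, 17111), (19202, 21063), (19203, 17116), (19204, 17117), (19205, 17115), (19206, 20825), (19207, 21069), (19208, 21066), (19209, 21067), (19210, 17397), (19211, 19211), (19212, 17193), (19213, 17143), (19214, 19214), (19215, 17142), (19216, 19216), (19217, 19217), (19218, 19218), (19219, 17144), (19220, 19220), (19221, 17145), (19222, 19222), (19223, 17146), (19224, 19224), (19225, 19225), (19226, 19226), (19227, 21084), (19228, 19228), (19229, 20903), (19230, 21073), (19231, 20363), (19232, 17147), (19233, 17786), (19234, 19234), (19235, 19235), (19236, 19236), (19237, 19237), (19238, 19238), (19239, 19239), (19240, 19240), (19241, 19241), (19242, 17389), (19243, 19243), (19244, 17449), (19245, 17498), (19246, 19246), (19247, 17509), (19248, 17180), (19249, 17181), (19250, 17810), (19251, 17824), (19252, 17848), (19253, 17904), (19254, 17971), (19255, 19255), (19256, 20305),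 (19257, 20756), (19258, 19258), (19259, 19259), (19260, 19260), (19261, 21101), (19262, 17190), (19263, 20011)]
    ⟨e3 q19200 L707505 q19200, e3 q19201 L707511 q17111, e3 q19202 (flp_f L727073) q21063, e3 q19203 L707530 q17116, e3 q19204 L707537 q17117, e3 q19205 L707544 q17115, e3 q19206 (flp_f L724697) q20825, e3 q19207 (flp_f L727118) q21069, e3 q19208 (flp_f L727095) q21066, e3 q19209 (flp_f L727102) q21067, e3 q19210 L707582 q17397, e3 q19211 L707598 q19211, e3 q19212 L707609 q17193, e3 q19213 L707625 q17143, e3 q19214 L707643 q19214, e3 q19215 L707660 q17142, e3 q19216 L707672 q19216, e3 q19217 L707687 q19217, e3 q19218 L707698 q19218, e3 q19219 L707705 q17144, e3 q19220 L707721 q19220, e3 q19221 L707738 q17145, e3 q19222 L707750 q19222, e3 q19223 L707757 q17146, e3 q19224 L707767 q19224, e3 q19225 L707772 q19225, e3 q19226 L707781 q19226, e3 q19227 L727268 q21084, e3 q19228 L707802 q19228, e3 q19229 (flp_f L725536) q20903, e3 q19230 (flp_f L727157) q21073, e3 q19231 (flp_f L719416) q20363, e3 q19232 (flp_f L707844)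 q17147, e3 q19233 L707862 q17786, e3 q19234 L707877 q19234, e3 q19235 L707893 q19235, e3 q19236 L707906 q19236, e3 q19237 L707923 q19237, e3 q19238 L707934 q19238, e3 q19239 L707951 q19239, e3 q19240 L707961 q19240, e3 q19241 L707968 q19241, e3 q19242 (flp_f L707990) q17389, e3 q19243 L707997 q19243, e3 q19244 L708004 q17449, e3 q19245 L708020 q17498, e3 q19246 L708030 q19246, e3 q19247 L708041 q17509, e3 q19248 L708059 q17180, e3 q19249 L708074 q17181, e3 q19250 L708088 q17810, e3 q19251 L708103 q17824, e3 q19252 L708115 q17848, e3 q19253 L708129 q17904, e3 q19254 L708142 q17971, e3 q19255 L708159 q19255, e3 q19256 (flp_f L718713) q20305, e3 q19257 (flp_f L723914) q20756, e3 q19258 L708193 q19258, e3 q19259 L708204 q19259, e3 q19260 L708213 q19260, e3 q19261 L727478 q21101, e3 q19262 (flp_f L708230) q17190, e3 q19263 (flp_f L714654) q20011, trivial⟩ (by decide +kernel)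

theorem ce_f_301 : ∀ r, r < 64 → sm gf (Qf (19264 + r)) = Qf (tab Gen.f (19264 + r)) :=
  edges_tab (sm gf) Qf (tab Gen.f) 19264 [(19264, 20018), (19265, 20377), (19266, 17204), (19267, 20013), (19268, 20380), (19269, 17518), (19270, 17208), (19271, 21103), (19272, 17211), (19273, 17609), (19274, 17214), (19275, 21106), (19276, 17685), (19277, 17621), (19278, 17219), (19279, 17645), (19280, 17560), (19281, 17224), (19282, 21109), (19283, 17226), (19284, 21110), (19285, 17230), (19286, 17229), (19287, 21112), (19288, 17653), (19289, 17237), (19290, 17649), (19291, 17240), (19292, 20658), (19293, 17280), (19294, 17637), (19295, 17253), (19296, 17639), (19297, 17254), (19298, 21120), (19299, 17256), (19300, 21123), (19301, 17247), (19302, 21126), (19303, 17259), (19304, 20087), (19305, 17250), (19306, 21129), (19307, 20514), (19308, 21118), (19309, 17255), (19310, 21132), (19311, 21122), (19312, 17265), (19313, 17258), (19314, 21135), (19315, 21116), (19316, 17270), (19317, 17262), (19318, 20469), (19319, 21134), (19320, 17267),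 (19321, 21140), (19322, 20646), (19323, 21137), (19324, 19324), (19325, 20007), (19326, 20008), (19327, 17343)]
    ⟨e3 q19264 (flp_f L714772) q20018, e3 q19265 (flp_f L719590) q20377, e3 q19266 L708292 q17204, e3 q19267 (flp_f L714690) q20013, e3 q19268 (flp_f L719644) q20380, e3 q19269 L708331 q17518, e3 q19270 L708346 q17208, e3 q19271 (flp_f L727509) q21103, e3 q19272 L708366 q17211, e3 q19273 L708384 q17609, e3 q19274 L708394 q17214, e3 q19275 (flp_f L727544) q21106, e3 q19276 L708422 q17685, e3 q19277 L708438 q17621, e3 q19278 L708446 q17219, e3 q19279 L708454 q17645, e3 q19280 L708474 q17560, e3 q19281 L708484 q17224, e3 q19282 (flp_f L727582) q21109, e3 q19283 (flp_f L708504) q17226, e3 q19284 (flp_f L727600) q21110, e3 q19285 L708530 q17230, e3 q19286 L708542 q17229, e3 q19287 (flp_f L727616) q21112, e3 q19288 L708570 q17653, e3 q19289 L708578 q17237, e3 q19290 L708590 q17649, e3 q19291 L708598 q17240, e3 q19292 (flp_f L722968) q20658, e3 q19293 L708622 q17280, e3 q19294 L708634 q17637, e3 q19295 L708642 q17253,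 e3 q19296 L708654 q17639, e3 q19297 L708662 q17254, e3 q19298 L727702 q21120, e3 q19299 L708686 q17256, e3 q19300 L727740 q21123, e3 q19301 (flp_f L708702) q17247, e3 q19302 (flp_f L727789) q21126, e3 q19303 L708722 q17259, e3 q19304 (flp_f L715843) q20087, e3 q19305 L708742 q17250, e3 q19306 (flp_f L727815) q21129, e3 q19307 (flp_f L721363) q20514, e3 q19308 (flp_f L727684) q21118, e3 q19309 (flp_f L708778) q17255, e3 q19310 (flp_f L727848) q21132, e3 q19311 (flp_f L727734) q21122, e3 q19312 L708817 q17265, e3 q19313 L708824 q17258, e3 q19314 (flp_f L727879) q21135, e3 q19315 (flp_f L727662) q21116, e3 q19316 L708854 q17270, e3 q19317 L708862 q17262, e3 q19318 (flp_f L720820) q20469, e3 q19319 (flp_f L727871) q21134, e3 q19320 L708887 q17267, e3 q19321 (flp_f L727917) q21140, e3 q19322 (flp_f L722843) q20646, e3 q19323 (flp_f L727898) q21137, e3 q19324 L708918 q19324, e3 q19325 (flp_f L714587) q20007, e3 q19326 (flp_f L714601) q20008, e3 q19327 L708949 q17343, trivial⟩ (by decide +kernel)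

theorem ce_f_302 : ∀ r, r < 64 → sm gf (Qf (19328 + r)) = Qf (tab Gen.f (19328 + r)) :=
  edges_tab (sm gf) Qf (tab Gen.f) 19328 [(19328, 17788), (19329, 17344), (19330, 17790), (19331, 17296), (19332, 17792), (19333, 17297), (19334, 21148), (19335, 17801), (19336, 17307), (19337, 17308), (19338, 17804), (19339, 17309), (19340, 17807), (19341, 17310), (19342, 17809), (19343, 20356), (19344, 20360), (19345, 20364), (19346, 21152), (19347, 21154), (19348, 21156), (19349, 17425), (19350, 20157), (19351, 17320), (19352, 17321), (19353, 17322), (19354, 20357), (19355, 20361), (19356, 20365), (19357, 21163), (19358, 21164), (19359, 21169), (19360, 17331), (19361, 17332), (19362, 20375), (19363, 17724), (19364, 17338), (19365, 17726), (19366, 17339), (19367, 21171), (19368, 20137), (19369, 17345), (19370, 20802), (19371, 17346), (19372, 21144), (19373, 21146), (19374, 21175), (19375, 20218), (19376, 19376), (19377, 21182), (19378, 19378), (19379, 17359), (19380, 21188), (19381, 17361), (19382, 17351), (19383, 21191), (19384, 17364),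 (19385, 20116), (19386, 17365), (19387, 21196), (19388, 17354), (19389, 21198), (19390, 17368), (19391, 17357)]
    ⟨e3 q19328 L708968 q17788, e3 q19329 L708978 q17344, e3 q19330 L708994 q17790, e3 q19331 L709004 q17296, e3 q19332 L709016 q17792, e3 q19333 L709024 q17297, e3 q19334 (flp_f L728018) q21148, e3 q19335 L709053 q17801, e3 q19336 L709063 q17307, e3 q19337 L709075 q17308, e3 q19338 L709089 q17804, e3 q19339 L709099 q17309, e3 q19340 L709109 q17807, e3 q19341 L709117 q17310, e3 q19342 L709127 q17809, e3 q19343 (flp_f L719317) q20356, e3 q19344 (flp_f L719379) q20360, e3 q19345 (flp_f L719428) q20364, e3 q19346 (flp_f L728074) q21152, e3 q19347 (flp_f L728094) q21154, e3 q19348 (flp_f L728110) q21156, e3 q19349 L709212 q17425, e3 q19350 (flp_f L716754) q20157, e3 q19351 L709232 q17320, e3 q19352 L709242 q17321, e3 q19353 L709249 q17322, e3 q19354 (flp_f L719337) q20357, e3 q19355 (flp_f L719393) q20361, e3 q19356 (flp_f L719438) q20365, e3 q19357 (flp_f L728193) q21163, e3 q19358 (flp_f L728202) q21164, e3 q19359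 L728248 q21169, e3 q19360 L709325 q17331, e3 q19361 L709334 q17332, e3 q19362 (flp_f L719553) q20375, e3 q19363 L709366 q17724, e3 q19364 L709376 q17338, e3 q19365 L709388 q17726, e3 q19366 L709396 q17339, e3 q19367 (flp_f L728277) q21171, e3 q19368 (flp_f L716515) q20137, e3 q19369 L709430 q17345, e3 q19370 (flp_f L724446) q20802, e3 q19371 L709442 q17346, e3 q19372 (flp_f L727966) q21144, e3 q19373 (flp_f L727990) q21146, e3 q19374 (flp_f L728314) q21175, e3 q19375 (flp_f L717609) q20218, e3 q19376 L709499 q19376, e3 q19377 L728386 q21182, e3 q19378 L709518 q19378, e3 q19379 L709525 q17359, e3 q19380 L728436 q21188, e3 q19381 L709545 q17361, e3 q19382 (flp_f L709549) q17351, e3 q19383 (flp_f L728478) q21191, e3 q19384 L709575 q17364, e3 q19385 (flp_f L716232) q20116, e3 q19386 L709593 q17365, e3 q19387 L728514 q21196, e3 q19388 (flp_f L709607) q17354, e3 q19389 (flp_f L728545) q21198, e3 q19390 L709629 q17368, e3 q19391 L709639 q17357, trivial⟩ (by decide +kernel)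

theorem ce_f_303 : ∀ r, r < 64 → sm gf (Qf (19392 + r)) = Qf (tab Gen.f (19392 + r)) :=
  edges_tab (sm gf) Qf (tab Gen.f) 19392 [(19392, 21201), (19393, 21186), (19394, 17360), (19395, 21204), (19396, 21190), (19397, 17363), (19398, 21207), (19399, 21195), (19400, 17367), (19401, 21209), (19402, 21200), (19403, 17370), (19404, 17936), (19405, 20763), (19406, 21060), (19407, 19407), (19408, 19408), (19409, 19409), (19410, 17390), (19411, 19411), (19412, 19412), (19413, 17391), (19414, 19414), (19415, 17392), (19416, 19416), (19417, 19417), (19418, 17393), (19419, 19419), (19420, 19420), (19421, 17394), (19422, 21089), (19423, 21215), (19424, 21218), (19425, 21219), (19426, 21222), (19427, 21230), (19428, 18064), (19429, 17849), (19430, 17834), (19431, 17851), (19432, 17836), (19433, 17853), (19434, 19434), (19435, 20926), (19436, 19436), (19437, 17412), (19438, 17826), (19439, 17413), (19440, 17828), (19441, 17414), (19442, 21249), (19443, 17416), (19444, 21252), (19445, 17407), (19446, 21255), (19447, 17419), (19448, 20266),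 (19449, 17410), (19450, 21259), (19451, 21243), (19452, 21246), (19453, 17415), (19454, 21263), (19455, 21251)]
    ⟨e3 q19392 (flp_f L728573) q21201, e3 q19393 (flp_f L728420) q21186, e3 q19394 (flp_f L709656) q17360, e3 q19395 (flp_f L728595) q21204, e3 q19396 (flp_f L728464) q21190, e3 q19397 L709696 q17363, e3 q19398 (flp_f L728629) q21207, e3 q19399 (flp_f L728510) q21195, e3 q19400 L709728 q17367, e3 q19401 (flp_f L728651) q21209, e3 q19402 (flp_f L728559) q21200, e3 q19403 L709756 q17370, e3 q19404 L709764 q17936, e3 q19405 (flp_f L724002) q20763, e3 q19406 (flp_f L727047) q21060, e3 q19407 L709790 q19407, e3 q19408 L709807 q19408, e3 q19409 L709819 q19409, e3 q19410 L709832 q17390, e3 q19411 L709840 q19411, e3 q19412 L709855 q19412, e3 q19413 L709866 q17391, e3 q19414 L709878 q19414, e3 q19415 L709893 q17392, e3 q19416 L709901 q19416, e3 q19417 L709911 q19417, e3 q19418 L709919 q17393, e3 q19419 L709932 q19419, e3 q19420 L709943 q19420, e3 q19421 L709951 q17394, e3 q19422 (flp_f L727343) q21089, e3 q19423 (flp_f L728716)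 q21215, e3 q19424 (flp_f L728752) q21218, e3 q19425 (flp_f L728766) q21219, e3 q19426 (flp_f L728795) q21222, e3 q19427 L728865 q21230, e3 q19428 L710024 q18064, e3 q19429 L710029 q17849, e3 q19430 L710045 q17834, e3 q19431 L710052 q17851, e3 q19432 L710064 q17836, e3 q19433 L710072 q17853, e3 q19434 L710080 q19434, e3 q19435 (flp_f L725776) q20926, e3 q19436 L710102 q19436, e3 q19437 L710108 q17412, e3 q19438 L710124 q17826, e3 q19439 L710131 q17413, e3 q19440 L710143 q17828, e3 q19441 L710151 q17414, e3 q19442 L729054 q21249, e3 q19443 L710172 q17416, e3 q19444 L729088 q21252, e3 q19445 (flp_f L710177) q17407, e3 q19446 (flp_f L729114) q21255, e3 q19447 L710197 q17419, e3 q19448 (flp_f L718222) q20266, e3 q19449 L710221 q17410, e3 q19450 (flp_f L729151) q21259, e3 q19451 (flp_f L729004) q21243, e3 q19452 (flp_f L729031) q21246, e3 q19453 (flp_f L710256) q17415, e3 q19454 (flp_f L729194) q21263, e3 q19455 (flp_f L729084) q21251, trivial⟩ (by decide +kernel)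

theorem ce_f_304 : ∀ r, r < 64 → sm gf (Qf (19456 + r)) = Qf (tab Gen.f (19456 + r)) :=
  edges_tab (sm gf) Qf (tab Gen.f) 19456 [(19456, 17418), (19457, 21266), (19458, 21257), (19459, 17428), (19460, 17422), (19461, 17928), (19462, 20282), (19463, 20912), (19464, 21267), (19465, 21269), (19466, 19466), (19467, 17431), (19468, 21272), (19469, 19469), (19470, 21274), (19471, 17451), (19472, 21277), (19473, 17434), (19474, 21280), (19475, 17454), (19476, 17437), (19477, 21283), (19478, 21285), (19479, 17458), (19480, 21288), (19481, 17440), (19482, 21292), (19483, 17461), (19484, 17442), (19485, 21296), (19486, 21297), (19487, 20307), (19488, 17444), (19489, 21302), (19490, 17465), (19491, 20311), (19492, 20312), (19493, 17448), (19494, 21307), (19495, 21309), (19496, 21091), (19497, 17450), (19498, 21312), (19499, 21276), (19500, 17453), (19501, 21315), (19502, 21282), (19503, 17456), (19504, 17457), (19505, 21318), (19506, 21287), (19507, 17471), (19508, 17460), (19509, 21321), (19510, 21294), (19511, 17475), (19512, 17476),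 (19513, 17464), (19514, 21325), (19515, 21326), (19516, 17480), (19517, 17481), (19518, 17865), (19519, 21231)]
    ⟨e3 q19456 L710304 q17418, e3 q19457 (flp_f L729229) q21266, e3 q19458 (flp_f L729128) q21257, e3 q19459 L710335 q17428, e3 q19460 L710343 q17422, e3 q19461 L710359 q17928, e3 q19462 (flp_f L718417) q20282, e3 q19463 (flp_f L725651) q20912, e3 q19464 (flp_f L729241) q21267, e3 q19465 L729258 q21269, e3 q19466 L710405 q19466, e3 q19467 (flp_f L710408) q17431, e3 q19468 (flp_f L729283) q21272, e3 q19469 L710425 q19469, e3 q19470 L729293 q21274, e3 q19471 L710444 q17451, e3 q19472 L729325 q21277, e3 q19473 (flp_f L710454) q17434, e3 q19474 (flp_f L729354) q21280, e3 q19475 L710476 q17454, e3 q19476 L710488 q17437, e3 q19477 (flp_f L729380) q21283, e3 q19478 L729392 q21285, e3 q19479 L710514 q17458, e3 q19480 L729422 q21288, e3 q19481 (flp_f L710522) q17440, e3 q19482 (flp_f L729465) q21292, e3 q19483 L710544 q17461, e3 q19484 (flp_f L710546) q17442, e3 q19485 (flp_f L729497) q21296, e3 q19486 (flp_f L729504) q21297,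 e3 q19487 (flp_f L718749) q20307, e3 q19488 L710573 q17444, e3 q19489 (flp_f L729534) q21302, e3 q19490 L710583 q17465, e3 q19491 (flp_f L718787) q20311, e3 q19492 (flp_f L718795) q20312, e3 q19493 L710607 q17448, e3 q19494 (flp_f L729562) q21307, e3 q19495 L729566 q21309, e3 q19496 (flp_f L727366) q21091, e3 q19497 (flp_f L710638) q17450, e3 q19498 (flp_f L729609) q21312, e3 q19499 (flp_f L729321) q21276, e3 q19500 L710675 q17453, e3 q19501 (flp_f L729641) q21315, e3 q19502 (flp_f L729368) q21282, e3 q19503 L710701 q17456, e3 q19504 (flp_f L710707) q17457, e3 q19505 (flp_f L729671) q21318, e3 q19506 (flp_f L729420) q21287, e3 q19507 L710752 q17471, e3 q19508 L710761 q17460, e3 q19509 (flp_f L729708) q21321, e3 q19510 (flp_f L729479) q21294, e3 q19511 L710786 q17475, e3 q19512 L710793 q17476, e3 q19513 L710801 q17464, e3 q19514 (flp_f L729736) q21325, e3 q19515 L729739 q21326, e3 q19516 L710820 q17480, e3 q19517 L710828 q17481, e3 q19518 L710842 q17865, e3 q19519 (flp_f L728878) q21231, trivial⟩ (by decide +kernel)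

theorem ce_f_305 : ∀ r, r < 64 → sm gf (Qf (19520 + r)) = Qf (tab Gen.f (19520 + r)) :=
  edges_tab (sm gf) Qf (tab Gen.f) 19520 [(19520, 21320), (19521, 17473), (19522, 20283), (19523, 21323), (19524, 21324), (19525, 17478), (19526, 21327), (19527, 19527), (19528, 17499), (19529, 19529), (19530, 19530), (19531, 19531), (19532, 17500), (19533, 17501), (19534, 19534), (19535, 19535), (19536, 19536), (19537, 17502), (19538, 19538), (19539, 19539), (19540, 19540), (19541, 21346), (19542, 21092), (19543, 21334), (19544, 21347), (19545, 17503), (19546, 20381), (19547, 20403), (19548, 20384), (19549, 17975), (19550, 20387), (19551, 20390), (19552, 20406), (19553, 20396), (19554, 21354), (19555, 20412), (19556, 17526), (19557, 20421), (19558, 21349), (19559, 20431), (19560, 20433), (19561, 17536), (19562, 20020), (19563, 20385), (19564, 21359), (19565, 20440), (19566, 20388), (19567, 20442), (19568, 17541), (19569, 20019), (19570, 21364), (19571, 17548), (19572, 20386), (19573, 20025), (19574, 20400), (19575, 17551), (19576, 17582),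 (19577, 17555), (19578, 21366), (19579, 17575), (19580, 17562), (19581, 20652), (19582, 17563), (19583, 21108)]
    ⟨e3 q19520 (flp_f L729698) q21320, e3 q19521 L710884 q17473, e3 q19522 L718439 q20283, e3 q19523 (flp_f L729722) q21323, e3 q19524 (flp_f L729730) q21324, e3 q19525 L710911 q17478, e3 q19526 (flp_f L729747) q21327, e3 q19527 L710926 q19527, e3 q19528 L710936 q17499, e3 q19529 L710943 q19529, e3 q19530 L710951 q19530, e3 q19531 L710960 q19531, e3 q19532 L710966 q17500, e3 q19533 L710977 q17501, e3 q19534 L710984 q19534, e3 q19535 L710992 q19535, e3 q19536 L711001 q19536, e3 q19537 L711007 q17502, e3 q19538 L711013 q19538, e3 q19539 L711016 q19539, e3 q19540 L711019 q19540, e3 q19541 L729881 q21346, e3 q19542 (flp_f L727380) q21092, e3 q19543 (flp_f L729815) q21334, e3 q19544 L729886 q21347, e3 q19545 (flp_f L711052) q17503, e3 q19546 (flp_f L719656) q20381, e3 q19547 (flp_f L719982) q20403, e3 q19548 (flp_f L719704) q20384, e3 q19549 L711104 q17975, e3 q19550 (flp_f L719749) q20387, e3 q19551 (flp_f L719795)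 q20390, e3 q19552 (flp_f L720025) q20406, e3 q19553 (flp_f L719878) q20396, e3 q19554 L729945 q21354, e3 q19555 (flp_f L720115) q20412, e3 q19556 L711164 q17526, e3 q19557 (flp_f L720217) q20421, e3 q19558 (flp_f L729908) q21349, e3 q19559 (flp_f L720349) q20431, e3 q19560 (flp_f L720371) q20433, e3 q19561 L711202 q17536, e3 q19562 (flp_f L714812) q20020, e3 q19563 (flp_f L719720) q20385, e3 q19564 (flp_f L729988) q21359, e3 q19565 (flp_f L720443) q20440, e3 q19566 (flp_f L719764) q20388, e3 q19567 (flp_f L720471) q20442, e3 q19568 L711246 q17541, e3 q19569 (flp_f L714792) q20019, e3 q19570 L730023 q21364, e3 q19571 L711266 q17548, e3 q19572 (flp_f L719732) q20386, e3 q19573 (flp_f L714887) q20025, e3 q19574 (flp_f L719931) q20400, e3 q19575 (flp_f L711296) q17551, e3 q19576 L711315 q17582, e3 q19577 L711325 q17555, e3 q19578 (flp_f L730049) q21366, e3 q19579 L711357 q17575, e3 q19580 L711367 q17562, e3 q19581 (flp_f L722908) q20652, e3 q19582 L711385 q17563, e3 q19583 (flp_f L727572) q21108, trivial⟩ (by decide +kernel)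

theorem ce_f_306 : ∀ r, r < 64 → sm gf (Qf (19584 + r)) = Qf (tab Gen.f (19584 + r)) :=
  edges_tab (sm gf) Qf (tab Gen.f) 19584 [(19584, 17564), (19585, 21368), (19586, 21370), (19587, 20484), (19588, 17569), (19589, 17570), (19590, 21374), (19591, 21375), (19592, 17635), (19593, 20635), (19594, 20686), (19595, 17577), (19596, 21367), (19597, 17578), (19598, 21380), (19599, 20507), (19600, 20509), (19601, 21365), (19602, 17589), (19603, 21386), (19604, 17584), (19605, 21389), (19606, 17592), (19607, 17587), (19608, 21392), (19609, 17591), (19610, 21394), (19611, 21391), (19612, 17594), (19613, 20530), (19614, 20563), (19615, 20532), (19616, 20564), (19617, 21399), (19618, 19618), (19619, 19619), (19620, 19620), (19621, 17604), (19622, 21404), (19623, 17607), (19624, 20071), (19625, 17611), (19626, 21105), (19627, 17612), (19628, 21408), (19629, 20587), (19630, 20589), (19631, 21125), (19632, 20094), (19633, 20085), (19634, 17623), (19635, 20083), (19636, 17624), (19637, 21107), (19638, 21416), (19639, 20616), (19640, 20618),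 (19641, 20672), (19642, 17719), (19643, 17632), (19644, 21420), (19645, 20513), (19646, 17641), (19647, 20130)]
    ⟨e3 q19584 L711399 q17564, e3 q19585 (flp_f L730077) q21368, e3 q19586 (flp_f L730099) q21370, e3 q19587 (flp_f L721022) q20484, e3 q19588 L711440 q17569, e3 q19589 L711448 q17570, e3 q19590 (flp_f L730132) q21374, e3 q19591 (flp_f L730141) q21375, e3 q19592 L711477 q17635, e3 q19593 (flp_f L722732) q20635, e3 q19594 (flp_f L723226) q20686, e3 q19595 L711499 q17577, e3 q19596 (flp_f L730067) q21367, e3 q19597 L711507 q17578, e3 q19598 (flp_f L730178) q21380, e3 q19599 (flp_f L721278) q20507, e3 q19600 (flp_f L721296) q20509, e3 q19601 (flp_f L730039) q21365, e3 q19602 L711544 q17589, e3 q19603 L730217 q21386, e3 q19604 (flp_f L711556) q17584, e3 q19605 (flp_f L730246) q21389, e3 q19606 L711572 q17592, e3 q19607 L711582 q17587, e3 q19608 (flp_f L730268) q21392, e3 q19609 L711593 q17591, e3 q19610 (flp_f L730280) q21394, e3 q19611 (flp_f L730256) q21391, e3 q19612 L711615 q17594, e3 q19613 (flp_f L721517) q20530,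 e3 q19614 (flp_f L721935) q20563, e3 q19615 (flp_f L721537) q20532, e3 q19616 (flp_f L721943) q20564, e3 q19617 L730305 q21399, e3 q19618 L711648 q19618, e3 q19619 L711658 q19619, e3 q19620 L711665 q19620, e3 q19621 L711669 q17604, e3 q19622 L730333 q21404, e3 q19623 (flp_f L711682) q17607, e3 q19624 (flp_f L715599) q20071, e3 q19625 L711703 q17611, e3 q19626 (flp_f L727534) q21105, e3 q19627 L711715 q17612, e3 q19628 (flp_f L730368) q21408, e3 q19629 (flp_f L722216) q20587, e3 q19630 (flp_f L722240) q20589, e3 q19631 (flp_f L727781) q21125, e3 q19632 (flp_f L715933) q20094, e3 q19633 (flp_f L715805) q20085, e3 q19634 L711772 q17623, e3 q19635 (flp_f L715777) q20083, e3 q19636 L711790 q17624, e3 q19637 (flp_f L727560) q21107, e3 q19638 (flp_f L730432) q21416, e3 q19639 (flp_f L722509) q20616, e3 q19640 (flp_f L722527) q20618, e3 q19641 (flp_f L723101) q20672, e3 q19642 L711829 q17719, e3 q19643 L711840 q17632, e3 q19644 L730455 q21420, e3 q19645 (flp_f L721353) q20513, e3 q19646 L711863 q17641, e3 q19647 L716422 q20130, trivial⟩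 (by decide +kernel)

theorem ce_f_307 : ∀ r, r < 64 → sm gf (Qf (19648 + r)) = Qf (tab Gen.f (19648 + r)) :=
  edges_tab (sm gf) Qf (tab Gen.f) 19648 [(19648, 21117), (19649, 17642), (19650, 21119), (19651, 21422), (19652, 21426), (19653, 20394), (19654, 20671), (19655, 20619), (19656, 20454), (19657, 20068), (19658, 17648), (19659, 21433), (19660, 21114), (19661, 20061), (19662, 17665), (19663, 20066), (19664, 17666), (19665, 21113), (19666, 20553), (19667, 17667), (19668, 20189), (19669, 17656), (19670, 21443), (19671, 17670), (19672, 20207), (19673, 20222), (19674, 20695), (19675, 17660), (19676, 21449), (19677, 17674), (19678, 20699), (19679, 20700), (19680, 17664), (19681, 21454), (19682, 21436), (19683, 21438), (19684, 21441), (19685, 17669), (19686, 21458), (19687, 21445), (19688, 17683), (19689, 17673), (19690, 21462), (19691, 21463), (19692, 17687), (19693, 17688), (19694, 20508), (19695, 20099), (19696, 17681), (19697, 20428), (19698, 20070), (19699, 20538), (19700, 21461), (19701, 20588), (19702, 17686), (19703,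 17720), (19704, 17702), (19705, 17703), (19706, 17704), (19707, 17994), (19708, 17995), (19709, 17705), (19710, 17996), (19711, 17997)]
    ⟨e3 q19648 (flp_f L727676) q21117, e3 q19649 L711878 q17642, e3 q19650 (flp_f L727696) q21119, e3 q19651 (flp_f L730472) q21422, e3 q19652 (flp_f L730496) q21426, e3 q19653 (flp_f L719854) q20394, e3 q19654 (flp_f L723088) q20671, e3 q19655 (flp_f L722535) q20619, e3 q19656 (flp_f L720617) q20454, e3 q19657 (flp_f L715541) q20068, e3 q19658 (flp_f L711937) q17648, e3 q19659 (flp_f L730546) q21433, e3 q19660 (flp_f L727640) q21114, e3 q19661 (flp_f L715426) q20061, e3 q19662 L711965 q17665, e3 q19663 (flp_f L715507) q20066, e3 q19664 L711981 q17666, e3 q19665 (flp_f L727630) q21113, e3 q19666 (flp_f L721822) q20553, e3 q19667 L712001 q17667, e3 q19668 (flp_f L717204) q20189, e3 q19669 (flp_f L712009) q17656, e3 q19670 (flp_f L730618) q21443, e3 q19671 L712025 q17670, e3 q19672 (flp_f L717460) q20207, e3 q19673 (flp_f L717670) q20222, e3 q19674 (flp_f L723323) q20695, e3 q19675 L712053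 q17660, e3 q19676 (flp_f L730660) q21449, e3 q19677 L712063 q17674, e3 q19678 (flp_f L723355) q20699, e3 q19679 (flp_f L723363) q20700, e3 q19680 L712085 q17664, e3 q19681 (flp_f L730684) q21454, e3 q19682 (flp_f L730566) q21436, e3 q19683 (flp_f L730580) q21438, e3 q19684 (flp_f L730602) q21441, e3 q19685 L712115 q17669, e3 q19686 (flp_f L730712) q21458, e3 q19687 (flp_f L730630) q21445, e3 q19688 L712139 q17683, e3 q19689 L712147 q17673, e3 q19690 (flp_f L730738) q21462, e3 q19691 L730744 q21463, e3 q19692 L712167 q17687, e3 q19693 L712173 q17688, e3 q19694 (flp_f L721290) q20508, e3 q19695 (flp_f L715993) q20099, e3 q19696 L712193 q17681, e3 q19697 (flp_f L720305) q20428, e3 q19698 (flp_f L715569) q20070, e3 q19699 (flp_f L721613) q20538, e3 q19700 (flp_f L730732) q21461, e3 q19701 (flp_f L722230) q20588, e3 q19702 (flp_f L712223) q17686, e3 q19703 L712231 q17720, e3 q19704 L712242 q17702, e3 q19705 L712249 q17703, e3 q19706 L712260 q17704, e3 q19707 L712269 q17994, e3 q19708 L712279 q17995, e3 q19709 L712286 q17705, e3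 q19710 L712294 q17996, e3 q19711 L712300 q17997, trivial⟩ (by decide +kernel)

theorem ce_f_308 : ∀ r, r < 64 → sm gf (Qf (19712 + r)) = Qf (tab Gen.f (19712 + r)) :=
  edges_tab (sm gf) Qf (tab Gen.f) 19712 [(19712, 17998), (19713, 21475), (19714, 21466), (19715, 21468), (19716, 21465), (19717, 21476), (19718, 17706), (19719, 21477), (19720, 17718), (19721, 18005), (19722, 21478), (19723, 19723), (19724, 21170), (19725, 17728), (19726, 21172), (19727, 20798), (19728, 18067), (19729, 20839), (19730, 19730), (19731, 20804), (19732, 17739), (19733, 17736), (19734, 21487), (19735, 20827), (19736, 17741), (19737, 21489), (19738, 19738), (19739, 17743), (19740, 21493), (19741, 19741), (19742, 21495), (19743, 17760), (19744, 21498), (19745, 17746), (19746, 21500), (19747, 17763), (19748, 21492), (19749, 17749), (19750, 21503), (19751, 21505), (19752, 17751), (19753, 21507), (19754, 17769), (19755, 17753), (19756, 21509), (19757, 17755), (19758, 21511), (19759, 17758), (19760, 21513), (19761, 17759), (19762, 21515), (19763, 21497),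 (19764, 17762), (19765, 21517), (19766, 19766), (19767, 17766), (19768, 17768), (19769, 21520), (19770, 17771), (19771, 21522), (19772, 20219), (19773, 19773), (19774, 19774), (19775, 19775)]
    ⟨e3 q19712 L712304 q17998, e3 q19713 L730819 q21475, e3 q19714 (flp_f L730765) q21466, e3 q19715 (flp_f L730779) q21468, e3 q19716 (flp_f L730754) q21465, e3 q19717 L730824 q21476, e3 q19718 (flp_f L712340) q17706, e3 q19719 (flp_f L730836) q21477, e3 q19720 L712355 q17718, e3 q19721 L712367 q18005, e3 q19722 L730838 q21478, e3 q19723 L712382 q19723, e3 q19724 (flp_f L728267) q21170, e3 q19725 L712397 q17728, e3 q19726 (flp_f L728293) q21172, e3 q19727 (flp_f L724400) q20798, e3 q19728 L712417 q18067, e3 q19729 (flp_f L724846) q20839, e3 q19730 L712431 q19730, e3 q19731 (flp_f L724478) q20804, e3 q19732 L712442 q17739, e3 q19733 L712456 q17736, e3 q19734 (flp_f L730907) q21487, e3 q19735 (flp_f L724715) q20827, e3 q19736 L712483 q17741, e3 q19737 L730917 q21489, e3 q19738 L712499 q19738, e3 q19739 (flp_f L712502) q17743, e3 q19740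 (flp_f L730949) q21493, e3 q19741 L712513 q19741, e3 q19742 L730957 q21495, e3 q19743 L712530 q17760, e3 q19744 L730983 q21498, e3 q19745 (flp_f L712540) q17746, e3 q19746 (flp_f L731004) q21500, e3 q19747 L712560 q17763, e3 q19748 (flp_f L730944) q21492, e3 q19749 L712578 q17749, e3 q19750 (flp_f L731030) q21503, e3 q19751 L731040 q21505, e3 q19752 (flp_f L712600) q17751, e3 q19753 (flp_f L731071) q21507, e3 q19754 L712618 q17769, e3 q19755 (flp_f L712620) q17753, e3 q19756 (flp_f L731084) q21509, e3 q19757 L712637 q17755, e3 q19758 (flp_f L731096) q21511, e3 q19759 L712651 q17758, e3 q19760 (flp_f L731104) q21513, e3 q19761 (flp_f L712657) q17759, e3 q19762 (flp_f L731117) q21515, e3 q19763 (flp_f L730979) q21497, e3 q19764 L712690 q17762, e3 q19765 (flp_f L731136) q21517, e3 q19766 L712709 q19766, e3 q19767 L712716 q17766, e3 q19768 L712727 q17768, e3 q19769 (flp_f L731161) q21520, e3 q19770 L712743 q17771, e3 q19771 (flp_f L731172) q21522, e3 q19772 (flp_f L717625) q20219, e3 q19773 L712760 q19773, e3 q19774 L712771 q19774,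 e3 q19775 L712776 q19775, trivial⟩ (by decide +kernel)

theorem ce_f_309 : ∀ r, r < 64 → sm gf (Qf (19776 + r)) = Qf (tab Gen.f (19776 + r)) :=
  edges_tab (sm gf) Qf (tab Gen.f) 19776 [(19776, 21143), (19777, 18068), (19778, 21145), (19779, 18069), (19780, 21147), (19781, 17794), (19782, 21149), (19783, 21295), (19784, 19784), (19785, 17796), (19786, 21532), (19787, 19787), (19788, 20301), (19789, 17811), (19790, 20306), (19791, 17812), (19792, 21150), (19793, 21151), (19794, 17813), (19795, 20292), (19796, 21153), (19797, 17814), (19798, 20255), (19799, 20294), (19800, 21155), (19801, 21157), (19802, 21094), (19803, 21535), (19804, 21539), (19805, 18023), (19806, 18024), (19807, 18025), (19808, 17929), (19809, 21242), (19810, 18070), (19811, 21244), (19812, 21245), (19813, 18071), (19814, 21247), (19815, 21559), (19816, 19816), (19817, 17831), (19818, 21562), (19819, 19819), (19820, 21232), (19821, 17850), (19822, 21234), (19823, 21235), (19824, 17852), (19825, 21237), (19826, 21291), (19827, 17854), (19828, 21572), (19829,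 17839), (19830, 21574), (19831, 17857), (19832, 17841), (19833, 21577), (19834, 21578), (19835, 20948), (19836, 17843), (19837, 21583), (19838, 20951), (19839, 20952)]
    ⟨e3 q19776 (flp_f L727957) q21143, e3 q19777 L712791 q18068, e3 q19778 (flp_f L727980) q21145, e3 q19779 L712805 q18069, e3 q19780 (flp_f L728008) q21147, e3 q19781 L712819 q17794, e3 q19782 (flp_f L728034) q21149, e3 q19783 (flp_f L729492) q21295, e3 q19784 L712849 q19784, e3 q19785 (flp_f L712852) q17796, e3 q19786 (flp_f L731253) q21532, e3 q19787 L712869 q19787, e3 q19788 L718665 q20301, e3 q19789 L712884 q17811, e3 q19790 (flp_f L718729) q20306, e3 q19791 L712904 q17812, e3 q19792 (flp_f L728046) q21150, e3 q19793 (flp_f L728062) q21151, e3 q19794 L712930 q17813, e3 q19795 (flp_f L718551) q20292, e3 q19796 (flp_f L728086) q21153, e3 q19797 L712948 q17814, e3 q19798 (flp_f L718097) q20255, e3 q19799 (flp_f L718575) q20294, e3 q19800 (flp_f L728104) q21155, e3 q19801 (flp_f L728122) q21157, e3 q19802 (flp_f L727401) q21094, e3 q19803 (flp_f L731275)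 q21535, e3 q19804 (flp_f L731309) q21539, e3 q19805 L713008 q18023, e3 q19806 L713016 q18024, e3 q19807 L713022 q18025, e3 q19808 L713028 q17929, e3 q19809 (flp_f L728995) q21242, e3 q19810 L713044 q18070, e3 q19811 (flp_f L729010) q21244, e3 q19812 (flp_f L729023) q21245, e3 q19813 L713062 q18071, e3 q19814 (flp_f L729043) q21247, e3 q19815 L731438 q21559, e3 q19816 L713082 q19816, e3 q19817 (flp_f L713085) q17831, e3 q19818 (flp_f L731465) q21562, e3 q19819 L713098 q19819, e3 q19820 (flp_f L728896) q21232, e3 q19821 L713117 q17850, e3 q19822 (flp_f L728911) q21234, e3 q19823 (flp_f L728924) q21235, e3 q19824 L713139 q17852, e3 q19825 (flp_f L728944) q21237, e3 q19826 (flp_f L729455) q21291, e3 q19827 L713165 q17854, e3 q19828 L731537 q21572, e3 q19829 (flp_f L713173) q17839, e3 q19830 (flp_f L731558) q21574, e3 q19831 L713191 q17857, e3 q19832 (flp_f L713195) q17841, e3 q19833 (flp_f L731576) q21577, e3 q19834 (flp_f L731585) q21578, e3 q19835 (flp_f L726006) q20948, e3 q19836 L713226 q17843, e3 q19837 (flp_f L731619) q21583,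 e3 q19838 (flp_f L726034) q20951, e3 q19839 (flp_f L726042) q20952, trivial⟩ (by decide +kernel)

theorem ce_f_310 : ∀ r, r < 64 → sm gf (Qf (19840 + r)) = Qf (tab Gen.f (19840 + r)) :=
  edges_tab (sm gf) Qf (tab Gen.f) 19840 [(19840, 17847), (19841, 21587), (19842, 21095), (19843, 21233), (19844, 21565), (19845, 21236), (19846, 21570), (19847, 17856), (19848, 21592), (19849, 17866), (19850, 17867), (19851, 17860), (19852, 21596), (19853, 17870), (19854, 17871), (19855, 21328), (19856, 21594), (19857, 21595), (19858, 17869), (19859, 21597), (19860, 17872), (19861, 21601), (19862, 19862), (19863, 17883), (19864, 17875), (19865, 21604), (19866, 17877), (19867, 21606), (19868, 17907), (19869, 20224), (19870, 17881), (19871, 21609), (19872, 17910), (19873, 21406), (19874, 21603), (19875, 17885), (19876, 21614), (19877, 17886), (19878, 21616), (19879, 17916), (19880, 17888), (19881, 21619), (19882, 21007), (19883, 17890), (19884, 21621), (19885, 17920), (19886, 21011), (19887, 17893), (19888, 17894), (19889, 21625), (19890, 21626),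 (19891, 21016), (19892, 21017), (19893, 17897), (19894, 21631), (19895, 21634), (19896, 21021), (19897, 21022), (19898, 17902), (19899, 21637), (19900, 17903), (19901, 21639), (19902, 21096), (19903, 17906)]
    ⟨e3 q19840 L713252 q17847, e3 q19841 (flp_f L731643) q21587, e3 q19842 (flp_f L727413) q21095, e3 q19843 (flp_f L728905) q21233, e3 q19844 (flp_f L731487) q21565, e3 q19845 (flp_f L728932) q21236, e3 q19846 (flp_f L731529) q21570, e3 q19847 L713316 q17856, e3 q19848 (flp_f L731687) q21592, e3 q19849 L713333 q17866, e3 q19850 L713342 q17867, e3 q19851 L713350 q17860, e3 q19852 (flp_f L731721) q21596, e3 q19853 L713365 q17870, e3 q19854 L713371 q17871, e3 q19855 (flp_f L729757) q21328, e3 q19856 (flp_f L731705) q21594, e3 q19857 (flp_f L731713) q21595, e3 q19858 L713403 q17869, e3 q19859 (flp_f L731728) q21597, e3 q19860 (flp_f L713416) q17872, e3 q19861 (flp_f L731763) q21601, e3 q19862 L713433 q19862, e3 q19863 L713439 q17883, e3 q19864 L713444 q17875, e3 q19865 (flp_f L731783) q21604, e3 q19866 (flp_f L713452) q17877,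 e3 q19867 (flp_f L731797) q21606, e3 q19868 L713476 q17907, e3 q19869 (flp_f L717698) q20224, e3 q19870 L713498 q17881, e3 q19871 (flp_f L731823) q21609, e3 q19872 L713514 q17910, e3 q19873 (flp_f L730349) q21406, e3 q19874 (flp_f L731776) q21603, e3 q19875 L713536 q17885, e3 q19876 (flp_f L731855) q21614, e3 q19877 (flp_f L713544) q17886, e3 q19878 (flp_f L731869) q21616, e3 q19879 L713560 q17916, e3 q19880 (flp_f L713562) q17888, e3 q19881 (flp_f L731893) q21619, e3 q19882 (flp_f L726596) q21007, e3 q19883 L713594 q17890, e3 q19884 (flp_f L731911) q21621, e3 q19885 L713606 q17920, e3 q19886 (flp_f L726631) q21011, e3 q19887 L713622 q17893, e3 q19888 L713630 q17894, e3 q19889 (flp_f L731935) q21625, e3 q19890 (flp_f L731941) q21626, e3 q19891 (flp_f L726663) q21016, e3 q19892 (flp_f L726671) q21017, e3 q19893 L713660 q17897, e3 q19894 (flp_f L731971) q21631, e3 q19895 L731981 q21634, e3 q19896 (flp_f L726703) q21021, e3 q19897 (flp_f L726711) q21022, e3 q19898 L713682 q17902, e3 q19899 (flp_f L731999) q21637, e3 q19900 (flp_f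 L713686) q17903, e3 q19901 (flp_f L732009) q21639, e3 q19902 (flp_f L727423) q21096, e3 q19903 L713720 q17906, trivial⟩ (by decide +kernel)

theorem ce_f_311 : ∀ r, r < 64 → sm gf (Qf (19904 + r)) = Qf (tab Gen.f (19904 + r)) :=
  edges_tab (sm gf) Qf (tab Gen.f) 19904 [(19904, 21641), (19905, 17909), (19906, 21643), (19907, 21645), (19908, 19908), (19909, 19909), (19910, 17915), (19911, 21647), (19912, 17930), (19913, 17919), (19914, 21649), (19915, 17933), (19916, 17934), (19917, 17924), (19918, 21654), (19919, 17925), (19920, 17937), (19921, 21550), (19922, 21648), (19923, 17932), (19924, 21212), (19925, 21651), (19926, 21652), (19927, 18066), (19928, 17943), (19929, 17944), (19930, 18074), (19931, 19931), (19932, 18059), (19933, 19933), (19934, 19934), (19935, 18075), (19936, 19936), (19937, 18061), (19938, 19938), (19939, 19939), (19940, 18076), (19941, 19941), (19942, 19942), (19943, 19943), (19944, 18077), (19945, 19945), (19946, 19946), (19947, 19947), (19948, 19948), (19949, 19949), (19950, 19950), (19951, 17987),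 (19952, 21469), (19953, 21470), (19954, 21472), (19955, 21473), (19956, 18001), (19957, 18003), (19958, 18011), (19959, 20005), (19960, 20009), (19961, 18020), (19962, 18021), (19963, 21678), (19964, 21679), (19965, 18022), (19966, 21547), (19967, 21548)]
    ⟨e3 q19904 (flp_f L732026) q21641, e3 q19905 L713737 q17909, e3 q19906 (flp_f L732043) q21643, e3 q19907 L732060 q21645, e3 q19908 L713761 q19908, e3 q19909 L713768 q19909, e3 q19910 L713777 q17915, e3 q19911 (flp_f L732079) q21647, e3 q19912 L713793 q17930, e3 q19913 L713801 q17919, e3 q19914 (flp_f L732093) q21649, e3 q19915 L713817 q17933, e3 q19916 L713825 q17934, e3 q19917 L713831 q17924, e3 q19918 L732125 q21654, e3 q19919 (flp_f L713843) q17925, e3 q19920 L713849 q17937, e3 q19921 (flp_f L731386) q21550, e3 q19922 (flp_f L732085) q21648, e3 q19923 L713874 q17932, e3 q19924 (flp_f L728681) q21212, e3 q19925 (flp_f L732109) q21651, e3 q19926 (flp_f L732115) q21652, e3 q19927 L713901 q18066, e3 q19928 (flp_f L713905) q17943, e3 q19929 (flp_f L713911) q17944, e3 q19930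 L713927 q18074, e3 q19931 L713942 q19931, e3 q19932 L713950 q18059, e3 q19933 L713958 q19933, e3 q19934 L713969 q19934, e3 q19935 L713976 q18075, e3 q19936 L713986 q19936, e3 q19937 L713997 q18061, e3 q19938 L714005 q19938, e3 q19939 L714013 q19939, e3 q19940 L714019 q18076, e3 q19941 L714026 q19941, e3 q19942 L714034 q19942, e3 q19943 L714041 q19943, e3 q19944 L714045 q18077, e3 q19945 L714052 q19945, e3 q19946 L714057 q19946, e3 q19947 L714065 q19947, e3 q19948 L714070 q19948, e3 q19949 L714073 q19949, e3 q19950 L714080 q19950, e3 q19951 (flp_f L714081) q17987, e3 q19952 (flp_f L730786) q21469, e3 q19953 (flp_f L730792) q21470, e3 q19954 (flp_f L730804) q21472, e3 q19955 (flp_f L730810) q21473, e3 q19956 (flp_f L714110) q18001, e3 q19957 L714119 q18003, e3 q19958 L714125 q18011, e3 q19959 (flp_f L714559) q20005, e3 q19960 (flp_f L714618) q20009, e3 q19961 L714156 q18020, e3 q19962 L714170 q18021, e3 q19963 L732307 q21678, e3 q19964 L732319 q21679, e3 q19965 (flp_f L714200) q18022, e3 q19966 (flp_f L731360) q21547, e3 q19967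 (flp_f L731366) q21548, trivial⟩ (by decide +kernel)

theorem ce_f_312 : ∀ r, r < 64 → sm gf (Qf (19968 + r)) = Qf (tab Gen.f (19968 + r)) :=
  edges_tab (sm gf) Qf (tab Gen.f) 19968 [(19968, 18026), (19969, 18027), (19970, 19970), (19971, 18032), (19972, 21681), (19973, 19973), (19974, 19974), (19975, 18036), (19976, 18037), (19977, 21684), (19978, 21685), (19979, 19979), (19980, 18040), (19981, 21688), (19982, 21692), (19983, 18041), (19984, 18044), (19985, 21664), (19986, 18048), (19987, 18050), (19988, 18062), (19989, 18053), (19990, 21695), (19991, 18065), (19992, 21698), (19993, 18057), (19994, 21661), (19995, 21694), (19996, 21526), (19997, 21553), (19998, 21557), (19999, 21659), (20000, 21667), (20001, 18603), (20002, 18093), (20003, 18094), (20004, 21702), (20005, 19959), (20006, 18105), (20007, 19325), (20008, 19326), (20009, 19960), (20010, 18545), (20011, 19263), (20012, 18570), (20013, 19267), (20014, 18554), (20015, 18125), (20016, 18556), (20017, 18559), (20018, 19264), (20019, 19569), (20020, 19562), (20021,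 18549), (20022, 18129), (20023, 21710), (20024, 18132), (20025, 19573), (20026, 21713), (20027, 18136), (20028, 18135), (20029, 21716), (20030, 21715), (20031, 18746)]
    ⟨e3 q19968 (flp_f L714220) q18026, e3 q19969 (flp_f L714231) q18027, e3 q19970 L714249 q19970, e3 q19971 L714259 q18032, e3 q19972 (flp_f L732346) q21681, e3 q19973 L714276 q19973, e3 q19974 L714284 q19974, e3 q19975 L714290 q18036, e3 q19976 L714294 q18037, e3 q19977 (flp_f L732364) q21684, e3 q19978 (flp_f L732370) q21685, e3 q19979 L714314 q19979, e3 q19980 L714320 q18040, e3 q19981 (flp_f L732388) q21688, e3 q19982 L732419 q21692, e3 q19983 (flp_f L714341) q18041, e3 q19984 L714355 q18044, e3 q19985 (flp_f L732227) q21664, e3 q19986 L714376 q18048, e3 q19987 L714386 q18050, e3 q19988 L714394 q18062, e3 q19989 L714403 q18053, e3 q19990 (flp_f L732444) q21695, e3 q19991 L714416 q18065, e3 q19992 L732458 q21698, e3 q19993 (flp_f L714424) q18057, e3 q19994 (flp_f L732194) q21661, e3 q19995 (flp_f L732437) q21694, e3 q19996 (flp_f L731205) q21526, e3 q19997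 (flp_f L731406) q21553, e3 q19998 (flp_f L731430) q21557, e3 q19999 (flp_f L732170) q21659, e3 q20000 (flp_f L732252) q21667, e3 q20001 L714488 q18603, e3 q20002 L714507 q18093, e3 q20003 L714522 q18094, e3 q20004 (flp_f L732491) q21702, e3 q20005 L714559 q19959, e3 q20006 L714570 q18105, e3 q20007 L714587 q19325, e3 q20008 L714601 q19326, e3 q20009 L714618 q19960, e3 q20010 L714640 q18545, e3 q20011 L714654 q19263, e3 q20012 L714676 q18570, e3 q20013 L714690 q19267, e3 q20014 L714711 q18554, e3 q20015 L714725 q18125, e3 q20016 L714743 q18556, e3 q20017 L714753 q18559, e3 q20018 L714772 q19264, e3 q20019 L714792 q19569, e3 q20020 L714812 q19562, e3 q20021 L714832 q18549, e3 q20022 L714848 q18129, e3 q20023 (flp_f L732633) q21710, e3 q20024 L714872 q18132, e3 q20025 L714887 q19573, e3 q20026 L732680 q21713, e3 q20027 L714922 q18136, e3 q20028 (flp_f L714928) q18135, e3 q20029 (flp_f L732741) q21716, e3 q20030 (flp_f L732722) q21715, e3 q20031 L714984 q18746, trivial⟩ (by decide +kernel)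

theorem ce_f_313 : ∀ r, r < 64 → sm gf (Qf (20032 + r)) = Qf (tab Gen.f (20032 + r)) :=
  edges_tab (sm gf) Qf (tab Gen.f) 20032 [(20032, 21719), (20033, 18147), (20034, 21722), (20035, 18150), (20036, 18144), (20037, 21725), (20038, 18153), (20039, 18146), (20040, 21727), (20041, 21721), (20042, 18747), (20043, 21730), (20044, 18830), (20045, 18149), (20046, 21733), (20047, 21724), (20048, 18152), (20049, 21735), (20050, 18548), (20051, 18770), (20052, 18576), (20053, 18772), (20054, 18774), (20055, 18161), (20056, 18163), (20057, 21740), (20058, 18780), (20059, 18748), (20060, 18508), (20061, 19661), (20062, 18174), (20063, 21743), (20064, 18636), (20065, 18639), (20066, 19663), (20067, 18180), (20068, 19657), (20069, 18183), (20070, 19698), (20071, 19624), (20072, 18192), (20073, 18190), (20074, 21749), (20075, 18195), (20076, 21748), (20077, 18196), (20078, 18194), (20079, 21752), (20080, 21751), (20081, 18198), (20082, 21755), (20083, 19635), (20084, 18206), (20085, 19633), (20086, 18207), (20087, 19304), (20088, 18204),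 (20089, 21760), (20090, 18215), (20091, 18216), (20092, 18210), (20093, 21764), (20094, 19632), (20095, 18214)]
    ⟨e3 q20032 L732778 q21719, e3 q20033 L715014 q18147, e3 q20034 L732830 q21722, e3 q20035 L715046 q18150, e3 q20036 (flp_f L715052) q18144, e3 q20037 (flp_f L732892) q21725, e3 q20038 L715082 q18153, e3 q20039 (flp_f L715088) q18146, e3 q20040 (flp_f L732916) q21727, e3 q20041 (flp_f L732820) q21721, e3 q20042 L715142 q18747, e3 q20043 L732958 q21730, e3 q20044 L715177 q18830, e3 q20045 (flp_f L715183) q18149, e3 q20046 (flp_f L733013) q21733, e3 q20047 (flp_f L732872) q21724, e3 q20048 L715231 q18152, e3 q20049 (flp_f L733041) q21735, e3 q20050 L715257 q18548, e3 q20051 L715272 q18770, e3 q20052 L715282 q18576, e3 q20053 L715298 q18772, e3 q20054 L715310 q18774, e3 q20055 L715325 q18161, e3 q20056 L715342 q18163, e3 q20057 (flp_f L733117) q21740, e3 q20058 L715368 q18780, e3 q20059 L715383 q18748, e3 q20060 L715400 q18508, e3 q20061 L715426 q19661, e3 q20062 L715438 q18174, e3 q20063 (flp_f L733164) q21743,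 e3 q20064 L715472 q18636, e3 q20065 L715486 q18639, e3 q20066 L715507 q19663, e3 q20067 L715519 q18180, e3 q20068 L715541 q19657, e3 q20069 L715557 q18183, e3 q20070 L715569 q19698, e3 q20071 L715599 q19624, e3 q20072 L715611 q18192, e3 q20073 (flp_f L715617) q18190, e3 q20074 (flp_f L733278) q21749, e3 q20075 L715657 q18195, e3 q20076 (flp_f L733256) q21748, e3 q20077 L715694 q18196, e3 q20078 L715705 q18194, e3 q20079 (flp_f L733321) q21752, e3 q20080 (flp_f L733309) q21751, e3 q20081 L715748 q18198, e3 q20082 (flp_f L733362) q21755, e3 q20083 L715777 q19635, e3 q20084 L715789 q18206, e3 q20085 L715805 q19633, e3 q20086 L715819 q18207, e3 q20087 L715843 q19304, e3 q20088 L715857 q18204, e3 q20089 (flp_f L733449) q21760, e3 q20090 L715879 q18215, e3 q20091 L715893 q18216, e3 q20092 L715905 q18210, e3 q20093 (flp_f L733495) q21764, e3 q20094 L715933 q19632, e3 q20095 L715947 q18214, trivial⟩ (by decide +kernel)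

theorem ce_f_314 : ∀ r, r < 64 → sm gf (Qf (20096 + r)) = Qf (tab Gen.f (20096 + r)) :=
  edges_tab (sm gf) Qf (tab Gen.f) 20096 [(20096, 21762), (20097, 21763), (20098, 18218), (20099, 19695), (20100, 18223), (20101, 18224), (20102, 18222), (20103, 21771), (20104, 21770), (20105, 18706), (20106, 20106), (20107, 20107), (20108, 20108), (20109, 21779), (20110, 20110), (20111, 20111), (20112, 20112), (20113, 18236), (20114, 21786), (20115, 18238), (20116, 19385), (20117, 18239), (20118, 18234), (20119, 21792), (20120, 18242), (20121, 21785), (20122, 18237), (20123, 21796), (20124, 21788), (20125, 21791), (20126, 18241), (20127, 21799), (20128, 19194), (20129, 19029), (20130, 19647), (20131, 20131), (20132, 21805), (20133, 18257), (20134, 18248), (20135, 21809), (20136, 18260), (20137, 19368), (20138, 18261), (20139, 21814), (20140, 18251), (20141, 21817), (20142, 18264), (20143, 18254), (20144, 21820), (20145, 18256), (20146, 21822), (20147, 21807), (20148, 20148), (20149, 18259), (20150, 21826), (20151, 21813), (20152, 18263),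 (20153, 21829), (20154, 21819), (20155, 18266), (20156, 21832), (20157, 19350), (20158, 19057), (20159, 21836)]
    ⟨e3 q20096 (flp_f L733471) q21762, e3 q20097 (flp_f L733485) q21763, e3 q20098 L715983 q18218, e3 q20099 L715993 q19695, e3 q20100 L716011 q18223, e3 q20101 L716029 q18224, e3 q20102 L716042 q18222, e3 q20103 (flp_f L733598) q21771, e3 q20104 (flp_f L733585) q21770, e3 q20105 L716079 q18706, e3 q20106 L716092 q20106, e3 q20107 L716110 q20107, e3 q20108 L716121 q20108, e3 q20109 L733702 q21779, e3 q20110 L716149 q20110, e3 q20111 L716158 q20111, e3 q20112 L716176 q20112, e3 q20113 L716187 q18236, e3 q20114 L733804 q21786, e3 q20115 L716216 q18238, e3 q20116 L716232 q19385, e3 q20117 L716243 q18239, e3 q20118 (flp_f L716247) q18234, e3 q20119 (flp_f L733891) q21792, e3 q20120 L716277 q18242, e3 q20121 (flp_f L733798) q21785, e3 q20122 (flp_f L716299) q18237, e3 q20123 (flp_f L733945) q21796, e3 q20124 (flp_f L733834) q21788, e3 q20125 (flp_f L733875) q21791, e3 q20126 L716362 q18241, e3 q20127 (flp_f L733985)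 q21799, e3 q20128 L716386 q19194, e3 q20129 L716400 q19029, e3 q20130 (flp_f L716422) q19647, e3 q20131 L716434 q20131, e3 q20132 L734069 q21805, e3 q20133 L716463 q18257, e3 q20134 (flp_f L716469) q18248, e3 q20135 (flp_f L734137) q21809, e3 q20136 L716495 q18260, e3 q20137 L716515 q19368, e3 q20138 L716527 q18261, e3 q20139 L734199 q21814, e3 q20140 (flp_f L716545) q18251, e3 q20141 (flp_f L734250) q21817, e3 q20142 L716575 q18264, e3 q20143 L716587 q18254, e3 q20144 (flp_f L734284) q21820, e3 q20145 (flp_f L716601) q18256, e3 q20146 (flp_f L734307) q21822, e3 q20147 (flp_f L734109) q21807, e3 q20148 L716647 q20148, e3 q20149 L716658 q18259, e3 q20150 (flp_f L734358) q21826, e3 q20151 (flp_f L734191) q21813, e3 q20152 L716698 q18263, e3 q20153 (flp_f L734401) q21829, e3 q20154 (flp_f L734268) q21819, e3 q20155 L716732 q18266, e3 q20156 (flp_f L734436) q21832, e3 q20157 L716754 q19350, e3 q20158 L716771 q19057, e3 q20159 L734484 q21836, trivial⟩ (by decide +kernel)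

theorem ce_f_315 : ∀ r, r < 64 → sm gf (Qf (20160 + r)) = Qf (tab Gen.f (20160 + r)) :=
  edges_tab (sm gf) Qf (tab Gen.f) 20160 [(20160, 19058), (20161, 20161), (20162, 18273), (20163, 21838), (20164, 18275), (20165, 21840), (20166, 18290), (20167, 18285), (20168, 20168), (20169, 20169), (20170, 18286), (20171, 20171), (20172, 20172), (20173, 20173), (20174, 18287), (20175, 21843), (20176, 21847), (20177, 21853), (20178, 20178), (20179, 18297), (20180, 18302), (20181, 18303), (20182, 19004), (20183, 18304), (20184, 21855), (20185, 21857), (20186, 20186), (20187, 20187), (20188, 18312), (20189, 19668), (20190, 18313), (20191, 18995), (20192, 18314), (20193, 18310), (20194, 21869), (20195, 18317), (20196, 21863), (20197, 21865), (20198, 21868), (20199, 18316), (20200, 21873), (20201, 18950), (20202, 18929), (20203, 18321), (20204, 21875), (20205, 21876), (20206, 20206), (20207, 19672), (20208, 18330), (20209, 19038), (20210, 18331), (20211, 18328), (20212, 21884), (20213, 18334), (20214, 21880), (20215, 21883), (20216, 18333),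 (20217, 21887), (20218, 19375), (20219, 19772), (20220, 21889), (20221, 20221), (20222, 19673), (20223, 18346)]
    ⟨e3 q20160 L716794 q19058, e3 q20161 L716808 q20161, e3 q20162 L716822 q18273, e3 q20163 (flp_f L734522) q21838, e3 q20164 L716845 q18275, e3 q20165 (flp_f L734544) q21840, e3 q20166 L716865 q18290, e3 q20167 L716883 q18285, e3 q20168 L716896 q20168, e3 q20169 L716913 q20169, e3 q20170 L716926 q18286, e3 q20171 L716939 q20171, e3 q20172 L716953 q20172, e3 q20173 L716966 q20173, e3 q20174 L716976 q18287, e3 q20175 (flp_f L734581) q21843, e3 q20176 (flp_f L734641) q21847, e3 q20177 L734707 q21853, e3 q20178 L717030 q20178, e3 q20179 L717044 q18297, e3 q20180 L717063 q18302, e3 q20181 L717083 q18303, e3 q20182 L717105 q19004, e3 q20183 L717117 q18304, e3 q20184 (flp_f L734745) q21855, e3 q20185 (flp_f L734775) q21857, e3 q20186 L717158 q20186, e3 q20187 L717174 q20187, e3 q20188 L717185 q18312, e3 q20189 L717204 q19668, e3 q20190 L717214 q18313, e3 q20191 L717230 q18995, e3 q20192 L717241 q18314, e3 q20193 (flp_f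 L717245) q18310, e3 q20194 (flp_f L734953) q21869, e3 q20195 L717279 q18317, e3 q20196 (flp_f L734866) q21863, e3 q20197 (flp_f L734890) q21865, e3 q20198 (flp_f L734935) q21868, e3 q20199 L717336 q18316, e3 q20200 (flp_f L735007) q21873, e3 q20201 L717364 q18950, e3 q20202 L717380 q18929, e3 q20203 L717401 q18321, e3 q20204 (flp_f L735039) q21875, e3 q20205 L735048 q21876, e3 q20206 L717447 q20206, e3 q20207 L717460 q19672, e3 q20208 L717470 q18330, e3 q20209 L717488 q19038, e3 q20210 L717499 q18331, e3 q20211 (flp_f L717505) q18328, e3 q20212 (flp_f L735179) q21884, e3 q20213 L717533 q18334, e3 q20214 (flp_f L735112) q21880, e3 q20215 (flp_f L735161) q21883, e3 q20216 L717581 q18333, e3 q20217 (flp_f L735220) q21887, e3 q20218 L717609 q19375, e3 q20219 L717625 q19772, e3 q20220 L735245 q21889, e3 q20221 L717655 q20221, e3 q20222 L717670 q19673, e3 q20223 L717680 q18346, trivial⟩ (by decide +kernel)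

theorem ce_f_316 : ∀ r, r < 64 → sm gf (Qf (20224 + r)) = Qf (tab Gen.f (20224 + r)) :=
  edges_tab (sm gf) Qf (tab Gen.f) 20224 [(20224, 19869), (20225, 18347), (20226, 18911), (20227, 18344), (20228, 21897), (20229, 21894), (20230, 18352), (20231, 18353), (20232, 18350), (20233, 21901), (20234, 21899), (20235, 21900), (20236, 18355), (20237, 18360), (20238, 18361), (20239, 18359), (20240, 21904), (20241, 21905), (20242, 18365), (20243, 20243), (20244, 21912), (20245, 20245), (20246, 20246), (20247, 21919), (20248, 20248), (20249, 18369), (20250, 21922), (20251, 20251), (20252, 21924), (20253, 20253), (20254, 18382), (20255, 19798), (20256, 18383), (20257, 18374), (20258, 21933), (20259, 18386), (20260, 19143), (20261, 18387), (20262, 21938), (20263, 18377), (20264, 21941), (20265, 18390), (20266, 19448), (20267, 18380), (20268, 21946), (20269, 21928), (20270, 21931), (20271, 20271), (20272, 18385), (20273, 21951), (20274, 21937), (20275, 18389), (20276, 21954), (20277, 21943), (20278, 18397), (20279, 18398), (20280, 18393),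 (20281, 21958), (20282, 19462), (20283, 19522), (20284, 21956), (20285, 21957), (20286, 18400), (20287, 19189)]
    ⟨e3 q20224 L717698 q19869, e3 q20225 L717712 q18347, e3 q20226 L717732 q18911, e3 q20227 L717744 q18344, e3 q20228 (flp_f L735371) q21897, e3 q20229 (flp_f L735319) q21894, e3 q20230 L717782 q18352, e3 q20231 L717798 q18353, e3 q20232 L717808 q18350, e3 q20233 (flp_f L735417) q21901, e3 q20234 (flp_f L735393) q21899, e3 q20235 (flp_f L735407) q21900, e3 q20236 L717861 q18355, e3 q20237 L717882 q18360, e3 q20238 L717898 q18361, e3 q20239 L717907 q18359, e3 q20240 (flp_f L735466) q21904, e3 q20241 (flp_f L735479) q21905, e3 q20242 L717947 q18365, e3 q20243 L717960 q20243, e3 q20244 L735568 q21912, e3 q20245 L717986 q20245, e3 q20246 L717994 q20246, e3 q20247 L735649 q21919, e3 q20248 L718018 q20248, e3 q20249 (flp_f L718021) q18369, e3 q20250 (flp_f L735688) q21922, e3 q20251 L718046 q20251, e3 q20252 L735702 q21924, e3 q20253 L718069 q20253, e3 q20254 L718077 q18382, e3 q20255 L718097 q19798, e3 q20256 L718106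 q18383, e3 q20257 (flp_f L718110) q18374, e3 q20258 (flp_f L735826) q21933, e3 q20259 L718136 q18386, e3 q20260 L718154 q19143, e3 q20261 L718165 q18387, e3 q20262 L735885 q21938, e3 q20263 (flp_f L718174) q18377, e3 q20264 (flp_f L735935) q21941, e3 q20265 L718202 q18390, e3 q20266 L718222 q19448, e3 q20267 L718230 q18380, e3 q20268 (flp_f L736000) q21946, e3 q20269 (flp_f L735761) q21928, e3 q20270 (flp_f L735796) q21931, e3 q20271 L718280 q20271, e3 q20272 L718292 q18385, e3 q20273 (flp_f L736059) q21951, e3 q20274 (flp_f L735879) q21937, e3 q20275 L718335 q18389, e3 q20276 (flp_f L736100) q21954, e3 q20277 (flp_f L735953) q21943, e3 q20278 L718375 q18397, e3 q20279 L718390 q18398, e3 q20280 L718398 q18393, e3 q20281 (flp_f L736156) q21958, e3 q20282 L718417 q19462, e3 q20283 (flp_f L718439) q19522, e3 q20284 (flp_f L736132) q21956, e3 q20285 (flp_f L736146) q21957, e3 q20286 L718475 q18400, e3 q20287 L718489 q19189, trivial⟩ (by decide +kernel)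

theorem ce_f_317 : ∀ r, r < 64 → sm gf (Qf (20288 + r)) = Qf (tab Gen.f (20288 + r)) :=
  edges_tab (sm gf) Qf (tab Gen.f) 20288 [(20288, 18401), (20289, 21963), (20290, 20290), (20291, 18419), (20292, 19795), (20293, 18420), (20294, 19799), (20295, 18421), (20296, 21962), (20297, 18407), (20298, 21973), (20299, 19095), (20300, 18425), (20301, 19788), (20302, 18410), (20303, 21980), (20304, 18428), (20305, 19256), (20306, 19790), (20307, 19487), (20308, 18414), (20309, 21987), (20310, 18432), (20311, 19491), (20312, 19492), (20313, 18418), (20314, 21992), (20315, 21966), (20316, 21968), (20317, 21970), (20318, 20318), (20319, 20319), (20320, 18424), (20321, 21999), (20322, 21977), (20323, 18427), (20324, 22002), (20325, 21982), (20326, 18440), (20327, 18441), (20328, 18431), (20329, 22006), (20330, 18444), (20331, 18445), (20332, 18436), (20333, 22009), (20334, 18447), (20335, 18981), (20336, 22004), (20337, 22005), (20338, 18443), (20339, 22007), (20340, 22008), (20341, 19122), (20342, 20342), (20343, 20343), (20344, 18451),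 (20345, 22017), (20346, 18456), (20347, 18457), (20348, 18455), (20349, 21841), (20350, 22023), (20351, 22020)]
    ⟨e3 q20288 (flp_f L718499) q18401, e3 q20289 (flp_f L736222) q21963, e3 q20290 L718520 q20290, e3 q20291 L718531 q18419, e3 q20292 L718551 q19795, e3 q20293 L718561 q18420, e3 q20294 L718575 q19799, e3 q20295 L718585 q18421, e3 q20296 (flp_f L736215) q21962, e3 q20297 L718613 q18407, e3 q20298 (flp_f L736356) q21973, e3 q20299 L718637 q19095, e3 q20300 L718649 q18425, e3 q20301 (flp_f L718665) q19788, e3 q20302 (flp_f L718667) q18410, e3 q20303 (flp_f L736458) q21980, e3 q20304 L718701 q18428, e3 q20305 L718713 q19256, e3 q20306 L718729 q19790, e3 q20307 L718749 q19487, e3 q20308 L718761 q18414, e3 q20309 (flp_f L736554) q21987, e3 q20310 L718775 q18432, e3 q20311 L718787 q19491, e3 q20312 L718795 q19492, e3 q20313 L718805 q18418, e3 q20314 (flp_f L736592) q21992, e3 q20315 (flp_f L736264) q21966, e3 q20316 (flp_f L736290) q21968, e3 q20317 (flp_f L736310) q21970, e3 q20318 L718858 q20318, e3 q20319 L718873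 q20319, e3 q20320 L718884 q18424, e3 q20321 (flp_f L736665) q21999, e3 q20322 (flp_f L736406) q21977, e3 q20323 L718923 q18427, e3 q20324 (flp_f L736706) q22002, e3 q20325 (flp_f L736478) q21982, e3 q20326 L718965 q18440, e3 q20327 L718981 q18441, e3 q20328 L718991 q18431, e3 q20329 L736764 q22006, e3 q20330 L719013 q18444, e3 q20331 L719021 q18445, e3 q20332 L719029 q18436, e3 q20333 (flp_f L736794) q22009, e3 q20334 L719049 q18447, e3 q20335 L719075 q18981, e3 q20336 (flp_f L736742) q22004, e3 q20337 (flp_f L736756) q22005, e3 q20338 (flp_f L719108) q18443, e3 q20339 (flp_f L736776) q22007, e3 q20340 (flp_f L736784) q22008, e3 q20341 L719144 q19122, e3 q20342 L719165 q20342, e3 q20343 L719180 q20343, e3 q20344 L719190 q18451, e3 q20345 (flp_f L736896) q22017, e3 q20346 L719211 q18456, e3 q20347 L719220 q18457, e3 q20348 L719229 q18455, e3 q20349 (flp_f L734559) q21841, e3 q20350 (flp_f L736963) q22023, e3 q20351 (flp_f L736934) q22020, trivial⟩ (by decide +kernel)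

theorem ce_f_318 : ∀ r, r < 64 → sm gf (Qf (20352 + r)) = Qf (tab Gen.f (20352 + r)) :=
  edges_tab (sm gf) Qf (tab Gen.f) 20352 [(20352, 22021), (20353, 18472), (20354, 18473), (20355, 18474), (20356, 19343), (20357, 19354), (20358, 18475), (20359, 18913), (20360, 19344), (20361, 19355), (20362, 18476), (20363, 19231), (20364, 19345), (20365, 19356), (20366, 22038), (20367, 22026), (20368, 22027), (20369, 22040), (20370, 22041), (20371, 18477), (20372, 22042), (20373, 18487), (20374, 18488), (20375, 19362), (20376, 18541), (20377, 19265), (20378, 18534), (20379, 18581), (20380, 19268), (20381, 19546), (20382, 18509), (20383, 22047), (20384, 19548), (20385, 19563), (20386, 19572), (20387, 19550), (20388, 19566), (20389, 18566), (20390, 19551), (20391, 18519), (20392, 22052), (20393, 18523), (20394, 19653), (20395, 18578), (20396, 19553), (20397, 18527), (20398, 22056), (20399, 18529), (20400, 19574), (20401, 18592), (20402, 21712), (20403, 19547), (20404, 22044), (20405, 18577), (20406, 19552), (20407, 18681), (20408, 18574),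 (20409, 22043), (20410, 18567), (20411, 18586), (20412, 19555), (20413, 21703), (20414, 18552), (20415, 21737)]
    ⟨e3 q20352 (flp_f L736943) q22021, e3 q20353 L719283 q18472, e3 q20354 L719297 q18473, e3 q20355 L719306 q18474, e3 q20356 L719317 q19343, e3 q20357 L719337 q19354, e3 q20358 L719351 q18475, e3 q20359 L719364 q18913, e3 q20360 L719379 q19344, e3 q20361 L719393 q19355, e3 q20362 L719404 q18476, e3 q20363 L719416 q19231, e3 q20364 L719428 q19345, e3 q20365 L719438 q19356, e3 q20366 L737149 q22038, e3 q20367 (flp_f L737003) q22026, e3 q20368 (flp_f L737014) q22027, e3 q20369 L737170 q22040, e3 q20370 L737179 q22041, e3 q20371 (flp_f L719497) q18477, e3 q20372 (flp_f L737201) q22042, e3 q20373 L719524 q18487, e3 q20374 L719535 q18488, e3 q20375 L719553 q19362, e3 q20376 L719574 q18541, e3 q20377 L719590 q19265, e3 q20378 L719610 q18534, e3 q20379 L719627 q18581, e3 q20380 L719644 q19268, e3 q20381 L719656 q19546, e3 q20382 L719676 q18509, e3 q20383 (flp_f L737291) q22047, e3 q20384 L719704 q19548, e3 q20385 L719720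 q19563, e3 q20386 L719732 q19572, e3 q20387 L719749 q19550, e3 q20388 L719764 q19566, e3 q20389 L719785 q18566, e3 q20390 L719795 q19551, e3 q20391 L719812 q18519, e3 q20392 (flp_f L737376) q22052, e3 q20393 L719834 q18523, e3 q20394 L719854 q19653, e3 q20395 L719870 q18578, e3 q20396 L719878 q19553, e3 q20397 L719894 q18527, e3 q20398 (flp_f L737433) q22056, e3 q20399 L719914 q18529, e3 q20400 L719931 q19574, e3 q20401 L719948 q18592, e3 q20402 (flp_f L732669) q21712, e3 q20403 L719982 q19547, e3 q20404 (flp_f L737235) q22044, e3 q20405 L720013 q18577, e3 q20406 L720025 q19552, e3 q20407 L720043 q18681, e3 q20408 L720060 q18574, e3 q20409 (flp_f L737215) q22043, e3 q20410 L720085 q18567, e3 q20411 L720103 q18586, e3 q20412 L720115 q19555, e3 q20413 (flp_f L732510) q21703, e3 q20414 L720135 q18552, e3 q20415 (flp_f L733069) q21737, trivial⟩ (by decide +kernel)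

theorem ce_f_319 : ∀ r, r < 64 → sm gf (Qf (20416 + r)) = Qf (tab Gen.f (20416 + r)) :=
  edges_tab (sm gf) Qf (tab Gen.f) 20416 [(20416, 21709), (20417, 18551), (20418, 22066), (20419, 18579), (20420, 21705), (20421, 19557), (20422, 21706), (20423, 18558), (20424, 21707), (20425, 18589), (20426, 22071), (20427, 18568), (20428, 19697), (20429, 22050), (20430, 22062), (20431, 19559), (20432, 21704), (20433, 19560), (20434, 18573), (20435, 22078), (20436, 22061), (20437, 22058), (20438, 22054), (20439, 22067), (20440, 19565), (20441, 22045), (20442, 19567), (20443, 18584), (20444, 22084), (20445, 22087), (20446, 22063), (20447, 18588), (20448, 22083), (20449, 18591), (20450, 18595), (20451, 18599), (20452, 18608), (20453, 18609), (20454, 19656), (20455, 18610), (20456, 22089), (20457, 22091), (20458, 18615), (20459, 18616), (20460, 18617), (20461, 22097), (20462, 18619), (20463, 22094), (20464, 22096), (20465, 18618), (20466, 22102), (20467, 22099), (20468, 18864), (20469, 19318), (20470, 18683), (20471, 18713), (20472, 18669),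 (20473, 18629), (20474, 18666), (20475, 18630), (20476, 18627), (20477, 22112), (20478, 18633), (20479, 22109)]
    ⟨e3 q20416 (flp_f L732617) q21709, e3 q20417 L720177 q18551, e3 q20418 (flp_f L737600) q22066, e3 q20419 L720199 q18579, e3 q20420 (flp_f L732548) q21705, e3 q20421 L720217 q19557, e3 q20422 (flp_f L732564) q21706, e3 q20423 L720239 q18558, e3 q20424 (flp_f L732580) q21707, e3 q20425 L720264 q18589, e3 q20426 (flp_f L737661) q22071, e3 q20427 L720287 q18568, e3 q20428 L720305 q19697, e3 q20429 (flp_f L737347) q22050, e3 q20430 (flp_f L737542) q22062, e3 q20431 L720349 q19559, e3 q20432 (flp_f L732528) q21704, e3 q20433 L720371 q19560, e3 q20434 L720384 q18573, e3 q20435 (flp_f L737753) q22078, e3 q20436 (flp_f L737524) q22061, e3 q20437 (flp_f L737473) q22058, e3 q20438 (flp_f L737399) q22054, e3 q20439 (flp_f L737612) q22067, e3 q20440 L720443 q19565, e3 q20441 (flp_f L737255) q22045, e3 q20442 L720471 q19567, e3 q20443 L720487 q18584, e3 q20444 (flp_f L737826) q22084, e3 q20445 L737849 q22087, e3 q20446 (flp_f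 L737560) q22063, e3 q20447 L720514 q18588, e3 q20448 (flp_f L737820) q22083, e3 q20449 L720534 q18591, e3 q20450 L720549 q18595, e3 q20451 L720563 q18599, e3 q20452 L720578 q18608, e3 q20453 L720595 q18609, e3 q20454 L720617 q19656, e3 q20455 L720627 q18610, e3 q20456 (flp_f L737885) q22089, e3 q20457 (flp_f L737913) q22091, e3 q20458 L720661 q18615, e3 q20459 L720680 q18616, e3 q20460 L720692 q18617, e3 q20461 L738000 q22097, e3 q20462 L720723 q18619, e3 q20463 (flp_f L737963) q22094, e3 q20464 (flp_f L737994) q22096, e3 q20465 (flp_f L720756) q18618, e3 q20466 (flp_f L738085) q22102, e3 q20467 (flp_f L738036) q22099, e3 q20468 L720806 q18864, e3 q20469 L720820 q19318, e3 q20470 L720830 q18683, e3 q20471 L720850 q18713, e3 q20472 L720868 q18669, e3 q20473 L720878 q18629, e3 q20474 L720894 q18666, e3 q20475 L720904 q18630, e3 q20476 (flp_f L720910) q18627, e3 q20477 (flp_f L738237) q22112, e3 q20478 L720940 q18633, e3 q20479 (flp_f L738191) q22109, trivial⟩ (by decide +kernel)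

theorem ce_f_320 : ∀ r, r < 64 → sm gf (Qf (20480 + r)) = Qf (tab Gen.f (20480 + r)) :=
  edges_tab (sm gf) Qf (tab Gen.f) 20480 [(20480, 22111), (20481, 18632), (20482, 22115), (20483, 18824), (20484, 19587), (20485, 21744), (20486, 18638), (20487, 22117), (20488, 18643), (20489, 22118), (20490, 20490), (20491, 22121), (20492, 20492), (20493, 22095), (20494, 18652), (20495, 18653), (20496, 22093), (20497, 18654), (20498, 18650), (20499, 22132), (20500, 18657), (20501, 22125), (20502, 22127), (20503, 22130), (20504, 18661), (20505, 18656), (20506, 22137), (20507, 19599), (20508, 19694), (20509, 19600), (20510, 22136), (20511, 18663), (20512, 22142), (20513, 19645), (20514, 19307), (20515, 22110), (20516, 18674), (20517, 22088), (20518, 18675), (20519, 18920), (20520, 22108), (20521, 18676), (20522, 18719), (20523, 18672), (20524, 22153), (20525, 22148), (20526, 22151), (20527, 18687), (20528, 18679), (20529, 22158), (20530, 19613), (20531, 22060), (20532, 19615), (20533, 22107), (20534, 18685), (20535, 21769), (20536, 22157),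 (20537, 18689), (20538, 19699), (20539, 18693), (20540, 18692), (20541, 22163), (20542, 22162), (20543, 18703)]
    ⟨e3 q20480 (flp_f L738219) q22111, e3 q20481 L720982 q18632, e3 q20482 (flp_f L738275) q22115, e3 q20483 L721010 q18824, e3 q20484 L721022 q19587, e3 q20485 (flp_f L733180) q21744, e3 q20486 L721052 q18638, e3 q20487 (flp_f L738303) q22117, e3 q20488 L721084 q18643, e3 q20489 (flp_f L738318) q22118, e3 q20490 L721110 q20490, e3 q20491 L738347 q22121, e3 q20492 L721136 q20492, e3 q20493 (flp_f L737983) q22095, e3 q20494 L721155 q18652, e3 q20495 L721164 q18653, e3 q20496 (flp_f L737951) q22093, e3 q20497 L721187 q18654, e3 q20498 (flp_f L721191) q18650, e3 q20499 (flp_f L738493) q22132, e3 q20500 L721205 q18657, e3 q20501 (flp_f L738399) q22125, e3 q20502 (flp_f L738434) q22127, e3 q20503 (flp_f L738465) q22130, e3 q20504 L721255 q18661, e3 q20505 L721262 q18656, e3 q20506 (flp_f L738541) q22137, e3 q20507 L721278 q19599, e3 q20508 L721290 q19694, e3 q20509 L721296 q19600, e3 q20510 (flp_f L738533) q22136, e3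 q20511 L721328 q18663, e3 q20512 (flp_f L738606) q22142, e3 q20513 L721353 q19645, e3 q20514 L721363 q19307, e3 q20515 (flp_f L738207) q22110, e3 q20516 L721379 q18674, e3 q20517 (flp_f L737875) q22088, e3 q20518 L721403 q18675, e3 q20519 L721413 q18920, e3 q20520 (flp_f L738181) q22108, e3 q20521 L721437 q18676, e3 q20522 L721451 q18719, e3 q20523 L721461 q18672, e3 q20524 (flp_f L738746) q22153, e3 q20525 (flp_f L738686) q22148, e3 q20526 (flp_f L738718) q22151, e3 q20527 L721491 q18687, e3 q20528 L721499 q18679, e3 q20529 (flp_f L738802) q22158, e3 q20530 L721517 q19613, e3 q20531 (flp_f L737504) q22060, e3 q20532 L721537 q19615, e3 q20533 (flp_f L738165) q22107, e3 q20534 L721567 q18685, e3 q20535 (flp_f L733569) q21769, e3 q20536 (flp_f L738794) q22157, e3 q20537 L721599 q18689, e3 q20538 L721613 q19699, e3 q20539 L721631 q18693, e3 q20540 L721640 q18692, e3 q20541 (flp_f L738873) q22163, e3 q20542 (flp_f L738860) q22162, e3 q20543 L721681 q18703, trivial⟩ (by decide +kernel)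

theorem ce_f_321 : ∀ r, r < 64 → sm gf (Qf (20544 + r)) = Qf (tab Gen.f (20544 + r)) :=
  edges_tab (sm gf) Qf (tab Gen.f) 20544 [(20544, 18925), (20545, 18930), (20546, 18704), (20547, 22165), (20548, 22169), (20549, 18710), (20550, 22131), (20551, 18714), (20552, 22171), (20553, 19666), (20554, 18721), (20555, 18722), (20556, 22106), (20557, 18723), (20558, 22152), (20559, 18724), (20560, 22173), (20561, 22175), (20562, 22178), (20563, 19614), (20564, 19616), (20565, 20565), (20566, 20566), (20567, 20567), (20568, 22186), (20569, 20569), (20570, 18735), (20571, 22174), (20572, 18736), (20573, 18737), (20574, 22196), (20575, 18739), (20576, 18733), (20577, 22199), (20578, 18742), (20579, 22190), (20580, 22192), (20581, 22194), (20582, 18738), (20583, 22203), (20584, 22198), (20585, 18741), (20586, 22206), (20587, 19629), (20588, 19701), (20589, 19630), (20590, 21718), (20591, 22126), (20592, 21729), (20593, 22193), (20594, 18758), (20595, 18750), (20596, 22216), (20597, 18761), (20598, 18762), (20599, 22189), (20600, 18763),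 (20601, 18753), (20602, 22221), (20603, 18766), (20604, 18756), (20605, 22224), (20606, 22214), (20607, 18760)]
    ⟨e3 q20544 L721696 q18925, e3 q20545 L721710 q18930, e3 q20546 L721719 q18704, e3 q20547 (flp_f L738897) q22165, e3 q20548 L738940 q22169, e3 q20549 L721763 q18710, e3 q20550 (flp_f L738485) q22131, e3 q20551 L721796 q18714, e3 q20552 (flp_f L738975) q22171, e3 q20553 L721822 q19666, e3 q20554 L721832 q18721, e3 q20555 L721839 q18722, e3 q20556 (flp_f L738153) q22106, e3 q20557 L721868 q18723, e3 q20558 (flp_f L738736) q22152, e3 q20559 L721886 q18724, e3 q20560 (flp_f L739003) q22173, e3 q20561 (flp_f L739032) q22175, e3 q20562 (flp_f L739069) q22178, e3 q20563 L721935 q19614, e3 q20564 L721943 q19616, e3 q20565 L721954 q20565, e3 q20566 L721972 q20566, e3 q20567 L721983 q20567, e3 q20568 L739167 q22186, e3 q20569 L722013 q20569, e3 q20570 L722020 q18735, e3 q20571 (flp_f L739021) q22174, e3 q20572 L722043 q18736, e3 q20573 L722050 q18737, e3 q20574 L739296 q22196, e3 q20575 L722079 q18739, e3 q20576 (flp_f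 L722083) q18733, e3 q20577 (flp_f L739342) q22199, e3 q20578 L722103 q18742, e3 q20579 (flp_f L739232) q22190, e3 q20580 (flp_f L739248) q22192, e3 q20581 (flp_f L739279) q22194, e3 q20582 (flp_f L722147) q18738, e3 q20583 (flp_f L739396) q22203, e3 q20584 (flp_f L739330) q22198, e3 q20585 L722194 q18741, e3 q20586 (flp_f L739433) q22206, e3 q20587 L722216 q19629, e3 q20588 L722230 q19701, e3 q20589 L722240 q19630, e3 q20590 (flp_f L732769) q21718, e3 q20591 (flp_f L738423) q22126, e3 q20592 (flp_f L732952) q21729, e3 q20593 (flp_f L739268) q22193, e3 q20594 L722288 q18758, e3 q20595 (flp_f L722292) q18750, e3 q20596 (flp_f L739559) q22216, e3 q20597 L722318 q18761, e3 q20598 L722328 q18762, e3 q20599 (flp_f L739219) q22189, e3 q20600 L722352 q18763, e3 q20601 (flp_f L722356) q18753, e3 q20602 (flp_f L739613) q22221, e3 q20603 L722380 q18766, e3 q20604 L722392 q18756, e3 q20605 (flp_f L739641) q22224, e3 q20606 (flp_f L739527) q22214, e3 q20607 L722420 q18760, trivial⟩ (by decide +kernel)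

theorem ce_f_322 : ∀ r, r < 64 → sm gf (Qf (20608 + r)) = Qf (tab Gen.f (20608 + r)) :=
  edges_tab (sm gf) Qf (tab Gen.f) 20608 [(20608, 22226), (20609, 22218), (20610, 22220), (20611, 18765), (20612, 22229), (20613, 22223), (20614, 18768), (20615, 22232), (20616, 19639), (20617, 21738), (20618, 19640), (20619, 19655), (20620, 22234), (20621, 21739), (20622, 18790), (20623, 18777), (20624, 18779), (20625, 22239), (20626, 18788), (20627, 18789), (20628, 20628), (20629, 18791), (20630, 18792), (20631, 22238), (20632, 22241), (20633, 22245), (20634, 18795), (20635, 19593), (20636, 20636), (20637, 22248), (20638, 20638), (20639, 20639), (20640, 22254), (20641, 20641), (20642, 18799), (20643, 22257), (20644, 20644), (20645, 21758), (20646, 19322), (20647, 22215), (20648, 18812), (20649, 18804), (20650, 22264), (20651, 18815), (20652, 19581), (20653, 18816), (20654, 21808), (20655, 18807), (20656, 22271), (20657, 18819), (20658, 19292), (20659, 18810), (20660, 22275), (20661, 22263), (20662, 18814), (20663, 22278), (20664, 22268),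 (20665, 18818), (20666, 22281), (20667, 22273), (20668, 18826), (20669, 18822), (20670, 22285), (20671, 19654)]
    ⟨e3 q20608 (flp_f L739657) q22226, e3 q20609 (flp_f L739581) q22218, e3 q20610 (flp_f L739601) q22220, e3 q20611 L722465 q18765, e3 q20612 (flp_f L739693) q22229, e3 q20613 (flp_f L739629) q22223, e3 q20614 L722489 q18768, e3 q20615 (flp_f L739720) q22232, e3 q20616 L722509 q19639, e3 q20617 (flp_f L733087) q21738, e3 q20618 L722527 q19640, e3 q20619 L722535 q19655, e3 q20620 (flp_f L739742) q22234, e3 q20621 (flp_f L733101) q21739, e3 q20622 L722567 q18790, e3 q20623 L722582 q18777, e3 q20624 L722591 q18779, e3 q20625 (flp_f L739820) q22239, e3 q20626 L722617 q18788, e3 q20627 L722633 q18789, e3 q20628 L722647 q20628, e3 q20629 L722660 q18791, e3 q20630 L722671 q18792, e3 q20631 (flp_f L739809) q22238, e3 q20632 (flp_f L739839) q22241, e3 q20633 L739881 q22245, e3 q20634 L722714 q18795, e3 q20635 L722732 q19593, e3 q20636 L722738 q20636, e3 q20637 L739915 q22248, e3 q20638 L722764 q20638, e3 q20639 L722772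 q20639, e3 q20640 L739976 q22254, e3 q20641 L722792 q20641, e3 q20642 (flp_f L722795) q18799, e3 q20643 (flp_f L740009) q22257, e3 q20644 L722820 q20644, e3 q20645 (flp_f L733417) q21758, e3 q20646 L722843 q19322, e3 q20647 (flp_f L739545) q22215, e3 q20648 L722866 q18812, e3 q20649 (flp_f L722870) q18804, e3 q20650 (flp_f L740090) q22264, e3 q20651 L722888 q18815, e3 q20652 L722908 q19581, e3 q20653 L722919 q18816, e3 q20654 (flp_f L734125) q21808, e3 q20655 (flp_f L722930) q18807, e3 q20656 (flp_f L740171) q22271, e3 q20657 L722952 q18819, e3 q20658 L722968 q19292, e3 q20659 L722974 q18810, e3 q20660 (flp_f L740208) q22275, e3 q20661 (flp_f L740078) q22263, e3 q20662 L723001 q18814, e3 q20663 (flp_f L740233) q22278, e3 q20664 (flp_f L740141) q22268, e3 q20665 L723041 q18818, e3 q20666 (flp_f L740271) q22281, e3 q20667 (flp_f L740185) q22273, e3 q20668 L723065 q18826, e3 q20669 L723071 q18822, e3 q20670 (flp_f L740304) q22285, e3 q20671 L723088 q19654, trivial⟩ (by decide +kernel)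

theorem ce_f_323 : ∀ r, r < 64 → sm gf (Qf (20672 + r)) = Qf (tab Gen.f (20672 + r)) :=
  edges_tab (sm gf) Qf (tab Gen.f) 20672 [(20672, 19641), (20673, 22237), (20674, 22284), (20675, 18828), (20676, 22287), (20677, 18829), (20678, 22289), (20679, 21732), (20680, 22291), (20681, 18831), (20682, 22294), (20683, 18848), (20684, 18834), (20685, 22297), (20686, 19594), (20687, 18851), (20688, 22302), (20689, 18837), (20690, 22305), (20691, 18854), (20692, 18839), (20693, 22308), (20694, 22309), (20695, 19674), (20696, 18841), (20697, 22313), (20698, 18858), (20699, 19678), (20700, 19679), (20701, 18845), (20702, 22318), (20703, 18847), (20704, 22320), (20705, 22296), (20706, 18850), (20707, 22322), (20708, 22301), (20709, 18853), (20710, 22323), (20711, 22307), (20712, 18866), (20713, 18857), (20714, 22327), (20715, 22330), (20716, 18870), (20717, 18871), (20718, 18862), (20719, 22333), (20720, 22104), (20721, 18873), (20722, 22326), (20723, 18868), (20724, 22336), (20725, 22209), (20726, 18869), (20727, 22331), (20728, 22332),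 (20729, 18875), (20730, 18880), (20731, 18879), (20732, 22164), (20733, 22341), (20734, 22339), (20735, 20735)]
    ⟨e3 q20672 L723101 q19641, e3 q20673 (flp_f L739798) q22237, e3 q20674 (flp_f L740296) q22284, e3 q20675 L723122 q18828, e3 q20676 (flp_f L740329) q22287, e3 q20677 (flp_f L723134) q18829, e3 q20678 (flp_f L740346) q22289, e3 q20679 (flp_f L732996) q21732, e3 q20680 L740358 q22291, e3 q20681 (flp_f L723166) q18831, e3 q20682 (flp_f L740403) q22294, e3 q20683 L723192 q18848, e3 q20684 L723204 q18834, e3 q20685 (flp_f L740433) q22297, e3 q20686 L723226 q19594, e3 q20687 L723236 q18851, e3 q20688 L740487 q22302, e3 q20689 (flp_f L723254) q18837, e3 q20690 (flp_f L740536) q22305, e3 q20691 L723286 q18854, e3 q20692 (flp_f L723292) q18839, e3 q20693 (flp_f L740571) q22308, e3 q20694 (flp_f L740580) q22309, e3 q20695 L723323 q19674, e3 q20696 L723331 q18841, e3 q20697 (flp_f L740614) q22313, e3 q20698 L723343 q18858, e3 q20699 L723355 q19678, e3 q20700 L723363 q19679, e3 q20701 L723371 q18845, e3 q20702 (flp_f L740646)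 q22318, e3 q20703 L723386 q18847, e3 q20704 (flp_f L740662) q22320, e3 q20705 (flp_f L740421) q22296, e3 q20706 L723416 q18850, e3 q20707 (flp_f L740679) q22322, e3 q20708 (flp_f L740479) q22301, e3 q20709 L723453 q18853, e3 q20710 (flp_f L740693) q22323, e3 q20711 (flp_f L740556) q22307, e3 q20712 L723490 q18866, e3 q20713 L723498 q18857, e3 q20714 (flp_f L740736) q22327, e3 q20715 L740753 q22330, e3 q20716 L723515 q18870, e3 q20717 L723521 q18871, e3 q20718 L723527 q18862, e3 q20719 (flp_f L740777) q22333, e3 q20720 (flp_f L738113) q22104, e3 q20721 L723556 q18873, e3 q20722 (flp_f L740730) q22326, e3 q20723 L723570 q18868, e3 q20724 (flp_f L740806) q22336, e3 q20725 (flp_f L739474) q22209, e3 q20726 (flp_f L723587) q18869, e3 q20727 (flp_f L740759) q22331, e3 q20728 (flp_f L740767) q22332, e3 q20729 L723619 q18875, e3 q20730 L723626 q18880, e3 q20731 L723635 q18879, e3 q20732 (flp_f L738889) q22164, e3 q20733 (flp_f L740854) q22341, e3 q20734 (flp_f L740830) q22339, e3 q20735 L723672 q20735, trivial⟩ (by decide +kernel)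

theorem ce_f_324 : ∀ r, r < 64 → sm gf (Qf (20736 + r)) = Qf (tab Gen.f (20736 + r)) :=
  edges_tab (sm gf) Qf (tab Gen.f) 20736 [(20736, 20736), (20737, 20737), (20738, 18897), (20739, 20739), (20740, 20740), (20741, 18898), (20742, 20742), (20743, 20743), (20744, 20744), (20745, 18899), (20746, 20746), (20747, 20747), (20748, 20748), (20749, 22357), (20750, 20750), (20751, 18900), (20752, 20752), (20753, 18906), (20754, 21895), (20755, 18914), (20756, 19257), (20757, 18915), (20758, 21896), (20759, 18916), (20760, 22031), (20761, 22359), (20762, 22361), (20763, 19405), (20764, 22176), (20765, 20765), (20766, 22149), (20767, 18926), (20768, 18923), (20769, 22368), (20770, 22166), (20771, 18928), (20772, 22371), (20773, 22167), (20774, 18932), (20775, 22373), (20776, 20776), (20777, 22266), (20778, 20778), (20779, 18936), (20780, 22378), (20781, 20781), (20782, 22380), (20783, 20783), (20784, 18940), (20785, 22383), (20786, 18947), (20787, 18943), (20788, 22385), (20789, 18946), (20790, 22387), (20791, 18949), (20792, 22389),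 (20793, 21866), (20794, 20794), (20795, 18952), (20796, 22392), (20797, 20797), (20798, 19727), (20799, 18968)]
    ⟨e3 q20736 L723686 q20736, e3 q20737 L723697 q20737, e3 q20738 L723705 q18897, e3 q20739 L723716 q20739, e3 q20740 L723733 q20740, e3 q20741 L723744 q18898, e3 q20742 L723757 q20742, e3 q20743 L723771 q20743, e3 q20744 L723784 q20744, e3 q20745 L723794 q18899, e3 q20746 L723808 q20746, e3 q20747 L723815 q20747, e3 q20748 L723820 q20748, e3 q20749 L741014 q22357, e3 q20750 L723835 q20750, e3 q20751 (flp_f L723843) q18900, e3 q20752 L723854 q20752, e3 q20753 L723871 q18906, e3 q20754 (flp_f L735341) q21895, e3 q20755 L723898 q18914, e3 q20756 L723914 q19257, e3 q20757 L723927 q18915, e3 q20758 (flp_f L735359) q21896, e3 q20759 L723947 q18916, e3 q20760 (flp_f L737070) q22031, e3 q20761 (flp_f L741035) q22359, e3 q20762 (flp_f L741067) q22361, e3 q20763 L724002 q19405, e3 q20764 (flp_f L739042) q22176, e3 q20765 L724032 q20765, e3 q20766 (flp_f L738702) q22149, e3 q20767 L724053 q18926, e3 q20768 L724069 q18923,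 e3 q20769 (flp_f L741162) q22368, e3 q20770 (flp_f L738912) q22166, e3 q20771 L724102 q18928, e3 q20772 (flp_f L741195) q22371, e3 q20773 (flp_f L738924) q22167, e3 q20774 L724134 q18932, e3 q20775 L741208 q22373, e3 q20776 L724151 q20776, e3 q20777 (flp_f L740108) q22266, e3 q20778 L724172 q20778, e3 q20779 (flp_f L724175) q18936, e3 q20780 (flp_f L741266) q22378, e3 q20781 L724196 q20781, e3 q20782 L741276 q22380, e3 q20783 L724221 q20783, e3 q20784 (flp_f L724226) q18940, e3 q20785 (flp_f L741326) q22383, e3 q20786 L724254 q18947, e3 q20787 L724270 q18943, e3 q20788 (flp_f L741350) q22385, e3 q20789 L724291 q18946, e3 q20790 (flp_f L741370) q22387, e3 q20791 L724314 q18949, e3 q20792 (flp_f L741394) q22389, e3 q20793 (flp_f L734902) q21866, e3 q20794 L724357 q20794, e3 q20795 (flp_f L724362) q18952, e3 q20796 (flp_f L741441) q22392, e3 q20797 L724381 q20797, e3 q20798 L724400 q19727, e3 q20799 L724412 q18968, trivial⟩ (by decide +kernel)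

theorem ce_f_325 : ∀ r, r < 64 → sm gf (Qf (20800 + r)) = Qf (tab Gen.f (20800 + r)) :=
  edges_tab (sm gf) Qf (tab Gen.f) 20800 [(20800, 18957), (20801, 22395), (20802, 19370), (20803, 18971), (20804, 19731), (20805, 18963), (20806, 22399), (20807, 19002), (20808, 19006), (20809, 18967), (20810, 22403), (20811, 18970), (20812, 22405), (20813, 18973), (20814, 18978), (20815, 18979), (20816, 18977), (20817, 22408), (20818, 22406), (20819, 22407), (20820, 20820), (20821, 18984), (20822, 18989), (20823, 18990), (20824, 18988), (20825, 19206), (20826, 22413), (20827, 19735), (20828, 21862), (20829, 18997), (20830, 21867), (20831, 18998), (20832, 22417), (20833, 22128), (20834, 20834), (20835, 21854), (20836, 19008), (20837, 22401), (20838, 19009), (20839, 19729), (20840, 21856), (20841, 19010), (20842, 22402), (20843, 22422), (20844, 22426), (20845, 22429), (20846, 20846), (20847, 22432), (20848, 20848), (20849, 19015), (20850, 22435), (20851, 20851), (20852, 22437), (20853, 20853), (20854, 19019), (20855, 22441), (20856, 19026),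 (20857, 19022), (20858, 22443), (20859, 20859), (20860, 19025), (20861, 22446), (20862, 19028), (20863, 22448)]
    ⟨e3 q20800 L724426 q18957, e3 q20801 (flp_f L741475) q22395, e3 q20802 L724446 q19370, e3 q20803 L724458 q18971, e3 q20804 L724478 q19731, e3 q20805 L724496 q18963, e3 q20806 (flp_f L741527) q22399, e3 q20807 L724522 q19002, e3 q20808 L724530 q19006, e3 q20809 L724538 q18967, e3 q20810 (flp_f L741569) q22403, e3 q20811 L724550 q18970, e3 q20812 (flp_f L741579) q22405, e3 q20813 L724573 q18973, e3 q20814 L724589 q18978, e3 q20815 L724597 q18979, e3 q20816 L724603 q18977, e3 q20817 (flp_f L741609) q22408, e3 q20818 (flp_f L741593) q22406, e3 q20819 (flp_f L741601) q22407, e3 q20820 L724648 q20820, e3 q20821 L724654 q18984, e3 q20822 L724671 q18989, e3 q20823 L724680 q18990, e3 q20824 L724687 q18988, e3 q20825 L724697 q19206, e3 q20826 (flp_f L741661) q22413, e3 q20827 L724715 q19735, e3 q20828 (flp_f L734853) q21862, e3 q20829 L724747 q18997, e3 q20830 (flp_f L734923) q21867, e3 q20831 L724765 q18998, e3 q20832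 (flp_f L741702) q22417, e3 q20833 (flp_f L738444) q22128, e3 q20834 L724802 q20834, e3 q20835 (flp_f L734733) q21854, e3 q20836 L724824 q19008, e3 q20837 (flp_f L741553) q22401, e3 q20838 L724840 q19009, e3 q20839 L724846 q19729, e3 q20840 (flp_f L734763) q21856, e3 q20841 L724865 q19010, e3 q20842 (flp_f L741563) q22402, e3 q20843 (flp_f L741759) q22422, e3 q20844 (flp_f L741792) q22426, e3 q20845 L741813 q22429, e3 q20846 L724917 q20846, e3 q20847 L741857 q22432, e3 q20848 L724946 q20848, e3 q20849 (flp_f L724951) q19015, e3 q20850 (flp_f L741906) q22435, e3 q20851 L724972 q20851, e3 q20852 L741916 q22437, e3 q20853 L725003 q20853, e3 q20854 (flp_f L725008) q19019, e3 q20855 (flp_f L741982) q22441, e3 q20856 L725036 q19026, e3 q20857 L725052 q19022, e3 q20858 (flp_f L742006) q22443, e3 q20859 L725075 q20859, e3 q20860 L725083 q19025, e3 q20861 (flp_f L742036) q22446, e3 q20862 L725106 q19028, e3 q20863 (flp_f L742058) q22448, trivial⟩ (by decide +kernel)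

theorem ce_f_326 : ∀ r, r < 64 → sm gf (Qf (20864 + r)) = Qf (tab Gen.f (20864 + r)) :=
  edges_tab (sm gf) Qf (tab Gen.f) 20864 [(20864, 21802), (20865, 22450), (20866, 20866), (20867, 19031), (20868, 22453), (20869, 20869), (20870, 22455), (20871, 19033), (20872, 22458), (20873, 19048), (20874, 22261), (20875, 19036), (20876, 22461), (20877, 21881), (20878, 21882), (20879, 19052), (20880, 19040), (20881, 22466), (20882, 22467), (20883, 19042), (20884, 22470), (20885, 19045), (20886, 22472), (20887, 20887), (20888, 19047), (20889, 22475), (20890, 20890), (20891, 19051), (20892, 22478), (20893, 19054), (20894, 22480), (20895, 19056), (20896, 22482), (20897, 21834), (20898, 20898), (20899, 19061), (20900, 22485), (20901, 19063), (20902, 22372), (20903, 19229), (20904, 20904), (20905, 20905), (20906, 20906), (20907, 20907), (20908, 20908), (20909, 20909), (20910, 20910), (20911, 21944), (20912, 19463), (20913, 20913), (20914, 22497), (20915, 20915), (20916, 19078), (20917, 22501), (20918, 20918), (20919, 20919), (20920, 22506),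 (20921, 20921), (20922, 22509), (20923, 19081), (20924, 22513), (20925, 20925), (20926, 19435), (20927, 19084)]
    ⟨e3 q20864 (flp_f L734026) q21802, e3 q20865 L742076 q22450, e3 q20866 L725157 q20866, e3 q20867 (flp_f L725162) q19031, e3 q20868 (flp_f L742127) q22453, e3 q20869 L725183 q20869, e3 q20870 L742141 q22455, e3 q20871 (flp_f L725200) q19033, e3 q20872 (flp_f L742188) q22458, e3 q20873 L725234 q19048, e3 q20874 (flp_f L740055) q22261, e3 q20875 L725254 q19036, e3 q20876 (flp_f L742220) q22461, e3 q20877 (flp_f L735126) q21881, e3 q20878 (flp_f L735147) q21882, e3 q20879 L725292 q19052, e3 q20880 (flp_f L725302) q19040, e3 q20881 (flp_f L742277) q22466, e3 q20882 (flp_f L742290) q22467, e3 q20883 L725341 q19042, e3 q20884 (flp_f L742322) q22470, e3 q20885 L725361 q19045, e3 q20886 (flp_f L742340) q22472, e3 q20887 L725380 q20887, e3 q20888 L725390 q19047, e3 q20889 (flp_f L742368) q22475, e3 q20890 L725415 q20890, e3 q20891 L725422 q19051, e3 q20892 (flp_f L742399) q22478, e3 q20893 L725441 q19054, e3 q20894 (flp_f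 L742420) q22480, e3 q20895 L725460 q19056, e3 q20896 (flp_f L742442) q22482, e3 q20897 (flp_f L734456) q21834, e3 q20898 L725489 q20898, e3 q20899 L725497 q19061, e3 q20900 (flp_f L742464) q22485, e3 q20901 L725517 q19063, e3 q20902 (flp_f L741206) q22372, e3 q20903 L725536 q19229, e3 q20904 L725552 q20904, e3 q20905 L725561 q20905, e3 q20906 L725577 q20906, e3 q20907 L725586 q20907, e3 q20908 L725602 q20908, e3 q20909 L725615 q20909, e3 q20910 L725624 q20910, e3 q20911 (flp_f L735972) q21944, e3 q20912 L725651 q19463, e3 q20913 L725661 q20913, e3 q20914 L742605 q22497, e3 q20915 L725686 q20915, e3 q20916 (flp_f L725689) q19078, e3 q20917 (flp_f L742655) q22501, e3 q20918 L725706 q20918, e3 q20919 L725713 q20919, e3 q20920 L742708 q22506, e3 q20921 L725732 q20921, e3 q20922 L742732 q22509, e3 q20923 (flp_f L725747) q19081, e3 q20924 (flp_f L742792) q22513, e3 q20925 L725764 q20925, e3 q20926 L725776 q19435, e3 q20927 L725783 q19084, trivial⟩ (by decide +kernel)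

theorem ce_f_327 : ∀ r, r < 64 → sm gf (Qf (20928 + r)) = Qf (tab Gen.f (20928 + r)) :=
  edges_tab (sm gf) Qf (tab Gen.f) 20928 [(20928, 22517), (20929, 21935), (20930, 20930), (20931, 19087), (20932, 22522), (20933, 20933), (20934, 21965), (20935, 19104), (20936, 19090), (20937, 22527), (20938, 19107), (20939, 22521), (20940, 19093), (20941, 22531), (20942, 21975), (20943, 21976), (20944, 19111), (20945, 19097), (20946, 22535), (20947, 22536), (20948, 19835), (20949, 19099), (20950, 22540), (20951, 19838), (20952, 19839), (20953, 19103), (20954, 22544), (20955, 22525), (20956, 20956), (20957, 19106), (20958, 22547), (20959, 20959), (20960, 20960), (20961, 19110), (20962, 22551), (20963, 19119), (20964, 19120), (20965, 19114), (20966, 22555), (20967, 19123), (20968, 19124), (20969, 19118), (20970, 22558), (20971, 22553), (20972, 22554), (20973, 22556), (20974, 22557), (20975, 19126), (20976, 19193), (20977, 21939), (20978, 20978), (20979, 21978), (20980, 19128), (20981, 22568), (20982, 20982), (20983, 19140), (20984, 19131),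 (20985, 22572), (20986, 21927), (20987, 19160), (20988, 22576), (20989, 19134), (20990, 22578), (20991, 19163)]
    ⟨e3 q20928 (flp_f L742823) q22517, e3 q20929 (flp_f L735846) q21935, e3 q20930 L725813 q20930, e3 q20931 (flp_f L725818) q19087, e3 q20932 (flp_f L742874) q22522, e3 q20933 L725835 q20933, e3 q20934 (flp_f L736252) q21965, e3 q20935 L725862 q19104, e3 q20936 (flp_f L725866) q19090, e3 q20937 (flp_f L742942) q22527, e3 q20938 L725898 q19107, e3 q20939 (flp_f L742869) q22521, e3 q20940 L725916 q19093, e3 q20941 (flp_f L742980) q22531, e3 q20942 (flp_f L736372) q21975, e3 q20943 (flp_f L736394) q21976, e3 q20944 L725952 q19111, e3 q20945 (flp_f L725960) q19097, e3 q20946 (flp_f L743026) q22535, e3 q20947 (flp_f L743040) q22536, e3 q20948 L726006 q19835, e3 q20949 L726016 q19099, e3 q20950 (flp_f L743088) q22540, e3 q20951 L726034 q19838, e3 q20952 L726042 q19839, e3 q20953 L726050 q19103, e3 q20954 (flp_f L743122) q22544, e3 q20955 (flp_f L742906) q22525, e3 q20956 L726085 q20956, e3 q20957 L726096 q19106, e3 q20958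 (flp_f L743153) q22547, e3 q20959 L726120 q20959, e3 q20960 L726128 q20960, e3 q20961 L726133 q19110, e3 q20962 (flp_f L743195) q22551, e3 q20963 L726157 q19119, e3 q20964 L726173 q19120, e3 q20965 L726183 q19114, e3 q20966 (flp_f L743248) q22555, e3 q20967 L726204 q19123, e3 q20968 L726210 q19124, e3 q20969 L726218 q19118, e3 q20970 (flp_f L743275) q22558, e3 q20971 (flp_f L743224) q22553, e3 q20972 (flp_f L743238) q22554, e3 q20973 (flp_f L743258) q22556, e3 q20974 (flp_f L743266) q22557, e3 q20975 L726283 q19126, e3 q20976 L726299 q19193, e3 q20977 (flp_f L735910) q21939, e3 q20978 L726327 q20978, e3 q20979 (flp_f L736422) q21978, e3 q20980 (flp_f L726344) q19128, e3 q20981 (flp_f L743395) q22568, e3 q20982 L726365 q20982, e3 q20983 L726373 q19140, e3 q20984 L726378 q19131, e3 q20985 (flp_f L743436) q22572, e3 q20986 (flp_f L735748) q21927, e3 q20987 L726412 q19160, e3 q20988 L743474 q22576, e3 q20989 (flp_f L726434) q19134, e3 q20990 (flp_f L743515) q22578, e3 q20991 L726456 q19163, trivial⟩ (by decide +kernel)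

theorem ce_f_328 : ∀ r, r < 64 → sm gf (Qf (20992 + r)) = Qf (tab Gen.f (20992 + r)) :=
  edges_tab (sm gf) Qf (tab Gen.f) 20992 [(20992, 19136), (20993, 22582), (20994, 22583), (20995, 22567), (20996, 19138), (20997, 22588), (20998, 19167), (20999, 22195), (21000, 22571), (21001, 19142), (21002, 22593), (21003, 21936), (21004, 19172), (21005, 19145), (21006, 22597), (21007, 19882), (21008, 19147), (21009, 22600), (21010, 19176), (21011, 19886), (21012, 19150), (21013, 19151), (21014, 22606), (21015, 22607), (21016, 19891), (21017, 19892), (21018, 19154), (21019, 22612), (21020, 22615), (21021, 19896), (21022, 19897), (21023, 19159), (21024, 22618), (21025, 22575), (21026, 19162), (21027, 22621), (21028, 22580), (21029, 21029), (21030, 21030), (21031, 19166), (21032, 22625), (21033, 22035), (21034, 21034), (21035, 21035), (21036, 19171), (21037, 22630), (21038, 19186), (21039, 19187), (21040, 19175), (21041, 22635), (21042, 19190), (21043, 19191), (21044, 19180), (21045, 22638), (21046, 22640), (21047, 19181), (21048, 19195),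 (21049, 19196), (21050, 19185), (21051, 22409), (21052, 22644), (21053, 22633), (21054, 22634), (21055, 22636)]
    ⟨e3 q20992 (flp_f L726460) q19136, e3 q20993 (flp_f L743559) q22582, e3 q20994 (flp_f L743572) q22583, e3 q20995 (flp_f L743388) q22567, e3 q20996 L726501 q19138, e3 q20997 (flp_f L743622) q22588, e3 q20998 L726517 q19167, e3 q20999 L739294 q22195, e3 q21000 (flp_f L743429) q22571, e3 q21001 L726543 q19142, e3 q21002 (flp_f L743658) q22593, e3 q21003 (flp_f L735867) q21936, e3 q21004 L726563 q19172, e3 q21005 (flp_f L726567) q19145, e3 q21006 (flp_f L743692) q22597, e3 q21007 L726596 q19882, e3 q21008 L726604 q19147, e3 q21009 (flp_f L743722) q22600, e3 q21010 L726618 q19176, e3 q21011 L726631 q19886, e3 q21012 L726636 q19150, e3 q21013 L726643 q19151, e3 q21014 (flp_f L743770) q22606, e3 q21015 (flp_f L743775) q22607, e3 q21016 L726663 q19891, e3 q21017 L726671 q19892, e3 q21018 L726681 q19154, e3 q21019 (flp_f L743813) q22612, e3 q21020 L743831 q22615, e3 q21021 L726703 q19896, e3 q21022 L726711 q19897, e3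 q21023 L726717 q19159, e3 q21024 (flp_f L743859) q22618, e3 q21025 (flp_f L743466) q22575, e3 q21026 L726741 q19162, e3 q21027 (flp_f L743875) q22621, e3 q21028 (flp_f L743531) q22580, e3 q21029 L726774 q21029, e3 q21030 L726784 q21030, e3 q21031 L726791 q19166, e3 q21032 (flp_f L743908) q22625, e3 q21033 (flp_f L737114) q22035, e3 q21034 L726818 q21034, e3 q21035 L726825 q21035, e3 q21036 L726830 q19171, e3 q21037 (flp_f L743955) q22630, e3 q21038 L726854 q19186, e3 q21039 L726869 q19187, e3 q21040 L726877 q19175, e3 q21041 (flp_f L744009) q22635, e3 q21042 L726891 q19190, e3 q21043 L726899 q19191, e3 q21044 L726905 q19180, e3 q21045 (flp_f L744029) q22638, e3 q21046 L744039 q22640, e3 q21047 (flp_f L726932) q19181, e3 q21048 L726944 q19195, e3 q21049 L726950 q19196, e3 q21050 L726958 q19185, e3 q21051 (flp_f L741623) q22409, e3 q21052 (flp_f L744076) q22644, e3 q21053 (flp_f L743985) q22633, e3 q21054 (flp_f L743999) q22634, e3 q21055 (flp_f L744016) q22636, trivial⟩ (by decide +kernel)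

theorem ce_f_329 : ∀ r, r < 64 → sm gf (Qf (21056 + r)) = Qf (tab Gen.f (21056 + r)) :=
  edges_tab (sm gf) Qf (tab Gen.f) 21056 [(21056, 22637), (21057, 21801), (21058, 22641), (21059, 22642), (21060, 19406), (21061, 21061), (21062, 21062), (21063, 19202), (21064, 22412), (21065, 22654), (21066, 19208), (21067, 19209), (21068, 21906), (21069, 19207), (21070, 22415), (21071, 22660), (21072, 22657), (21073, 19230), (21074, 21074), (21075, 21075), (21076, 21076), (21077, 21983), (21078, 21078), (21079, 22360), (21080, 21080), (21081, 21081), (21082, 21082), (21083, 22668), (21084, 19227), (21085, 21085), (21086, 21086), (21087, 21087), (21088, 21088), (21089, 19422), (21090, 21090), (21091, 19496), (21092, 19542), (21093, 21093), (21094, 19802), (21095, 19842), (21096, 19902), (21097, 21097), (21098, 21098), (21099, 21929), (21100, 22682), (21101, 19261), (21102, 22046), (21103, 19271), (21104, 22684), (21105, 19626), (21106, 19275), (21107, 19637), (21108, 19583), (21109, 19282), (21110, 19284), (21111, 22688), (21112, 19287),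 (21113, 19665), (21114, 19660), (21115, 22274), (21116, 19315), (21117, 19648), (21118, 19308), (21119, 19650)]
    ⟨e3 q21056 (flp_f L744022) q22637, e3 q21057 (flp_f L734018) q21801, e3 q21058 (flp_f L744052) q22641, e3 q21059 (flp_f L744060) q22642, e3 q21060 L727047 q19406, e3 q21061 L727059 q21061, e3 q21062 L727067 q21062, e3 q21063 L727073 q19202, e3 q21064 (flp_f L741653) q22412, e3 q21065 (flp_f L744164) q22654, e3 q21066 L727095 q19208, e3 q21067 L727102 q19209, e3 q21068 (flp_f L735497) q21906, e3 q21069 L727118 q19207, e3 q21070 (flp_f L741680) q22415, e3 q21071 (flp_f L744226) q22660, e3 q21072 (flp_f L744193) q22657, e3 q21073 L727157 q19230, e3 q21074 L727169 q21074, e3 q21075 L727186 q21075, e3 q21076 L727193 q21076, e3 q21077 (flp_f L736492) q21983, e3 q21078 L727210 q21078, e3 q21079 (flp_f L741055) q22360, e3 q21080 L727227 q21080, e3 q21081 L727238 q21081, e3 q21082 L727247 q21082, e3 q21083 L744305 q22668, e3 q21084 (flp_f L727268) q19227, e3 q21085 L727288 q21085, e3 q21086 L727303 q21086, e3 q21087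 L727316 q21087, e3 q21088 L727329 q21088, e3 q21089 L727343 q19422, e3 q21090 L727354 q21090, e3 q21091 L727366 q19496, e3 q21092 L727380 q19542, e3 q21093 L727389 q21093, e3 q21094 L727401 q19802, e3 q21095 L727413 q19842, e3 q21096 L727423 q19902, e3 q21097 L727437 q21097, e3 q21098 L727446 q21098, e3 q21099 (flp_f L735771) q21929, e3 q21100 L744473 q22682, e3 q21101 (flp_f L727478) q19261, e3 q21102 (flp_f L737273) q22046, e3 q21103 L727509 q19271, e3 q21104 (flp_f L744503) q22684, e3 q21105 L727534 q19626, e3 q21106 L727544 q19275, e3 q21107 L727560 q19637, e3 q21108 L727572 q19583, e3 q21109 L727582 q19282, e3 q21110 L727600 q19284, e3 q21111 (flp_f L744560) q22688, e3 q21112 L727616 q19287, e3 q21113 L727630 q19665, e3 q21114 L727640 q19660, e3 q21115 (flp_f L740200) q22274, e3 q21116 L727662 q19315, e3 q21117 L727676 q19648, e3 q21118 L727684 q19308, e3 q21119 L727696 q19650, trivial⟩ (by decide +kernel)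

theorem ce_f_330 : ∀ r, r < 64 → sm gf (Qf (21120 + r)) = Qf (tab Gen.f (21120 + r)) :=
  edges_tab (sm gf) Qf (tab Gen.f) 21120 [(21120, 19298), (21121, 22694), (21122, 19311), (21123, 19300), (21124, 22696), (21125, 19631), (21126, 19302), (21127, 22699), (21128, 21759), (21129, 19306), (21130, 22702), (21131, 22145), (21132, 19310), (21133, 22704), (21134, 19319), (21135, 19314), (21136, 22707), (21137, 19323), (21138, 22105), (21139, 22706), (21140, 19321), (21141, 22260), (21142, 21142), (21143, 19776), (21144, 19372), (21145, 19778), (21146, 19373), (21147, 19780), (21148, 19334), (21149, 19782), (21150, 19792), (21151, 19793), (21152, 19346), (21153, 19796), (21154, 19347), (21155, 19800), (21156, 19348), (21157, 19801), (21158, 22029), (21159, 22032), (21160, 22036), (21161, 22716), (21162, 22718), (21163, 19357), (21164, 19358), (21165, 22725), (21166, 22030), (21167, 22033), (21168, 22726), (21169, 19359), (21170, 19724), (21171, 19367), (21172, 19726), (21173, 21811), (21174, 21812), (21175, 19374), (21176, 22397),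 (21177, 22710), (21178, 22731), (21179, 21179), (21180, 22603), (21181, 21181), (21182, 19377), (21183, 22738)]
    ⟨e3 q21120 (flp_f L727702) q19298, e3 q21121 (flp_f L744630) q22694, e3 q21122 L727734 q19311, e3 q21123 (flp_f L727740) q19300, e3 q21124 (flp_f L744655) q22696, e3 q21125 L727781 q19631, e3 q21126 L727789 q19302, e3 q21127 (flp_f L744693) q22699, e3 q21128 (flp_f L733435) q21759, e3 q21129 L727815 q19306, e3 q21130 (flp_f L744715) q22702, e3 q21131 (flp_f L738652) q22145, e3 q21132 L727848 q19310, e3 q21133 (flp_f L744733) q22704, e3 q21134 L727871 q19319, e3 q21135 L727879 q19314, e3 q21136 (flp_f L744762) q22707, e3 q21137 L727898 q19323, e3 q21138 (flp_f L738128) q22105, e3 q21139 (flp_f L744754) q22706, e3 q21140 L727917 q19321, e3 q21141 (flp_f L740039) q22260, e3 q21142 L727942 q21142, e3 q21143 L727957 q19776, e3 q21144 L727966 q19372, e3 q21145 L727980 q19778, e3 q21146 L727990 q19373, e3 q21147 L728008 q19780, e3 q21148 L728018 q19334, e3 q21149 L728034 q19782, e3 q21150 L728046 q19792, e3 q21151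 L728062 q19793, e3 q21152 L728074 q19346, e3 q21153 L728086 q19796, e3 q21154 L728094 q19347, e3 q21155 L728104 q19800, e3 q21156 L728110 q19348, e3 q21157 L728122 q19801, e3 q21158 (flp_f L737038) q22029, e3 q21159 (flp_f L737082) q22032, e3 q21160 (flp_f L737126) q22036, e3 q21161 (flp_f L744876) q22716, e3 q21162 (flp_f L744896) q22718, e3 q21163 L728193 q19357, e3 q21164 L728202 q19358, e3 q21165 L744953 q22725, e3 q21166 (flp_f L737054) q22030, e3 q21167 (flp_f L737092) q22033, e3 q21168 L744962 q22726, e3 q21169 (flp_f L728248) q19359, e3 q21170 L728267 q19724, e3 q21171 L728277 q19367, e3 q21172 L728293 q19726, e3 q21173 (flp_f L734157) q21811, e3 q21174 (flp_f L734177) q21812, e3 q21175 L728314 q19374, e3 q21176 (flp_f L741493) q22397, e3 q21177 (flp_f L744796) q22710, e3 q21178 (flp_f L745018) q22731, e3 q21179 L728354 q21179, e3 q21180 (flp_f L743749) q22603, e3 q21181 L728381 q21181, e3 q21182 (flp_f L728386) q19377, e3 q21183 (flp_f L745100) q22738, trivial⟩ (by decide +kernel)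

theorem ce_f_331 : ∀ r, r < 64 → sm gf (Qf (21184 + r)) = Qf (tab Gen.f (21184 + r)) :=
  edges_tab (sm gf) Qf (tab Gen.f) 21184 [(21184, 21184), (21185, 21784), (21186, 19393), (21187, 22742), (21188, 19380), (21189, 22744), (21190, 19396), (21191, 19383), (21192, 22747), (21193, 21789), (21194, 21790), (21195, 19399), (21196, 19387), (21197, 22752), (21198, 19389), (21199, 22754), (21200, 19402), (21201, 19392), (21202, 22757), (21203, 22741), (21204, 19395), (21205, 22760), (21206, 22746), (21207, 19398), (21208, 22751), (21209, 19401), (21210, 22764), (21211, 22765), (21212, 19924), (21213, 21213), (21214, 21214), (21215, 19423), (21216, 21216), (21217, 21217), (21218, 19424), (21219, 19425), (21220, 21220), (21221, 21221), (21222, 19426), (21223, 21223), (21224, 21224), (21225, 22777), (21226, 22673), (21227, 22768), (21228, 22779), (21229, 22780), (21230, 19427), (21231, 19519), (21232, 19820), (21233, 19843), (21234, 19822), (21235, 19823), (21236, 19845), (21237, 19825), (21238, 22512), (21239, 21239), (21240, 22516),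 (21241, 21241), (21242, 19809), (21243, 19451), (21244, 19811), (21245, 19812), (21246, 19452), (21247, 19814)]
    ⟨e3 q21184 L728403 q21184, e3 q21185 (flp_f L733787) q21784, e3 q21186 L728420 q19393, e3 q21187 L745126 q22742, e3 q21188 (flp_f L728436) q19380, e3 q21189 (flp_f L745159) q22744, e3 q21190 L728464 q19396, e3 q21191 L728478 q19383, e3 q21192 (flp_f L745193) q22747, e3 q21193 (flp_f L733848) q21789, e3 q21194 (flp_f L733863) q21790, e3 q21195 L728510 q19399, e3 q21196 (flp_f L728514) q19387, e3 q21197 (flp_f L745244) q22752, e3 q21198 L728545 q19389, e3 q21199 (flp_f L745266) q22754, e3 q21200 L728559 q19402, e3 q21201 L728573 q19392, e3 q21202 (flp_f L745286) q22757, e3 q21203 (flp_f L745122) q22741, e3 q21204 L728595 q19395, e3 q21205 (flp_f L745311) q22760, e3 q21206 (flp_f L745177) q22746, e3 q21207 L728629 q19398, e3 q21208 (flp_f L745229) q22751, e3 q21209 L728651 q19401, e3 q21210 (flp_f L745354) q22764, e3 q21211 L745359 q22765, e3 q21212 L728681 q19924, e3 q21213 L728692 q21213, e3 q21214 L728705 q21214,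 e3 q21215 L728716 q19423, e3 q21216 L728729 q21216, e3 q21217 L728742 q21217, e3 q21218 L728752 q19424, e3 q21219 L728766 q19425, e3 q21220 L728777 q21220, e3 q21221 L728787 q21221, e3 q21222 L728795 q19426, e3 q21223 L728806 q21223, e3 q21224 L728813 q21224, e3 q21225 L745475 q22777, e3 q21226 (flp_f L744377) q22673, e3 q21227 (flp_f L745398) q22768, e3 q21228 L745497 q22779, e3 q21229 L745507 q22780, e3 q21230 (flp_f L728865) q19427, e3 q21231 L728878 q19519, e3 q21232 L728896 q19820, e3 q21233 L728905 q19843, e3 q21234 L728911 q19822, e3 q21235 L728924 q19823, e3 q21236 L728932 q19845, e3 q21237 L728944 q19825, e3 q21238 (flp_f L742785) q22512, e3 q21239 L728963 q21239, e3 q21240 (flp_f L742816) q22516, e3 q21241 L728980 q21241, e3 q21242 L728995 q19809, e3 q21243 L729004 q19451, e3 q21244 L729010 q19811, e3 q21245 L729023 q19812, e3 q21246 L729031 q19452, e3 q21247 L729043 q19814, trivial⟩ (by decide +kernel)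

theorem ce_f_332 : ∀ r, r < 64 → sm gf (Qf (21248 + r)) = Qf (tab Gen.f (21248 + r)) :=
  edges_tab (sm gf) Qf (tab Gen.f) 21248 [(21248, 22526), (21249, 19442), (21250, 22801), (21251, 19455), (21252, 19444), (21253, 22463), (21254, 22804), (21255, 19446), (21256, 22807), (21257, 19458), (21258, 21945), (21259, 19450), (21260, 22811), (21261, 22794), (21262, 22798), (21263, 19454), (21264, 22814), (21265, 22803), (21266, 19457), (21267, 19464), (21268, 22494), (21269, 19465), (21270, 22815), (21271, 21271), (21272, 19468), (21273, 22818), (21274, 19470), (21275, 22820), (21276, 19499), (21277, 19472), (21278, 22823), (21279, 22824), (21280, 19474), (21281, 22827), (21282, 19502), (21283, 19477), (21284, 22830), (21285, 19478), (21286, 22832), (21287, 19506), (21288, 19480), (21289, 22581), (21290, 22834), (21291, 19826), (21292, 19482), (21293, 22838), (21294, 19510), (21295, 19783), (21296, 19485), (21297, 19486), (21298, 22842), (21299, 22843), (21300, 21985), (21301, 21986), (21302, 19489), (21303, 22848), (21304, 22851),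 (21305, 21990), (21306, 21991), (21307, 19494), (21308, 22854), (21309, 19495), (21310, 22856), (21311, 22675)]
    ⟨e3 q21248 (flp_f L742928) q22526, e3 q21249 (flp_f L729054) q19442, e3 q21250 (flp_f L745737) q22801, e3 q21251 L729084 q19455, e3 q21252 (flp_f L729088) q19444, e3 q21253 (flp_f L742234) q22463, e3 q21254 (flp_f L745770) q22804, e3 q21255 L729114 q19446, e3 q21256 (flp_f L745788) q22807, e3 q21257 L729128 q19458, e3 q21258 (flp_f L735990) q21945, e3 q21259 L729151 q19450, e3 q21260 (flp_f L745819) q22811, e3 q21261 (flp_f L745659) q22794, e3 q21262 (flp_f L745701) q22798, e3 q21263 L729194 q19454, e3 q21264 (flp_f L745851) q22814, e3 q21265 (flp_f L745757) q22803, e3 q21266 L729229 q19457, e3 q21267 L729241 q19464, e3 q21268 (flp_f L742570) q22494, e3 q21269 (flp_f L729258) q19465, e3 q21270 (flp_f L745864) q22815, e3 q21271 L729275 q21271, e3 q21272 L729283 q19468, e3 q21273 (flp_f L745888) q22818, e3 q21274 (flp_f L729293) q19470, e3 q21275 (flp_f L745904) q22820, e3 q21276 L729321 q19499, e3 q21277 (flp_f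 L729325) q19472, e3 q21278 (flp_f L745935) q22823, e3 q21279 (flp_f L745948) q22824, e3 q21280 L729354 q19474, e3 q21281 (flp_f L745970) q22827, e3 q21282 L729368 q19502, e3 q21283 L729380 q19477, e3 q21284 (flp_f L745990) q22830, e3 q21285 (flp_f L729392) q19478, e3 q21286 (flp_f L746012) q22832, e3 q21287 L729420 q19506, e3 q21288 (flp_f L729422) q19480, e3 q21289 (flp_f L743548) q22581, e3 q21290 (flp_f L746031) q22834, e3 q21291 L729455 q19826, e3 q21292 L729465 q19482, e3 q21293 (flp_f L746067) q22838, e3 q21294 L729479 q19510, e3 q21295 L729492 q19783, e3 q21296 L729497 q19485, e3 q21297 L729504 q19486, e3 q21298 (flp_f L746095) q22842, e3 q21299 (flp_f L746100) q22843, e3 q21300 (flp_f L736524) q21985, e3 q21301 (flp_f L736542) q21986, e3 q21302 L729534 q19489, e3 q21303 (flp_f L746130) q22848, e3 q21304 L746140 q22851, e3 q21305 (flp_f L736574) q21990, e3 q21306 (flp_f L736584) q21991, e3 q21307 L729562 q19494, e3 q21308 (flp_f L746162) q22854, e3 q21309 (flp_f L729566) q19495, e3 q21310 (flp_f L746177) q22856, e3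 q21311 (flp_f L744398) q22675, trivial⟩ (by decide +kernel)

theorem ce_f_333 : ∀ r, r < 64 → sm gf (Qf (21312 + r)) = Qf (tab Gen.f (21312 + r)) :=
  edges_tab (sm gf) Qf (tab Gen.f) 21312 [(21312, 19498), (21313, 22858), (21314, 22822), (21315, 19501), (21316, 22860), (21317, 22861), (21318, 19505), (21319, 22862), (21320, 19520), (21321, 19509), (21322, 22865), (21323, 19523), (21324, 19524), (21325, 19514), (21326, 19515), (21327, 19526), (21328, 19855), (21329, 22781), (21330, 22864), (21331, 22866), (21332, 22867), (21333, 21333), (21334, 19543), (21335, 21335), (21336, 21336), (21337, 21337), (21338, 22876), (21339, 21339), (21340, 21340), (21341, 21341), (21342, 22659), (21343, 21343), (21344, 21344), (21345, 22882), (21346, 19541), (21347, 19544), (21348, 22048), (21349, 19558), (21350, 22072), (21351, 22051), (21352, 22059), (21353, 22887), (21354, 19554), (21355, 22064), (21356, 22076), (21357, 22075), (21358, 22068), (21359, 19564), (21360, 21708), (21361, 22049), (21362, 21711), (21363, 22057), (21364, 19570),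 (21365, 19601), (21366, 19578), (21367, 19596), (21368, 19585), (21369, 22267), (21370, 19586), (21371, 22687), (21372, 22891), (21373, 22235), (21374, 19590), (21375, 19591)]
    ⟨e3 q21312 L729609 q19498, e3 q21313 (flp_f L746202) q22858, e3 q21314 (flp_f L745922) q22822, e3 q21315 L729641 q19501, e3 q21316 (flp_f L746220) q22860, e3 q21317 L746227 q22861, e3 q21318 L729671 q19505, e3 q21319 (flp_f L746241) q22862, e3 q21320 L729698 q19520, e3 q21321 L729708 q19509, e3 q21322 (flp_f L746276) q22865, e3 q21323 L729722 q19523, e3 q21324 L729730 q19524, e3 q21325 L729736 q19514, e3 q21326 (flp_f L729739) q19515, e3 q21327 L729747 q19526, e3 q21328 L729757 q19855, e3 q21329 (flp_f L745526) q22781, e3 q21330 (flp_f L746266) q22864, e3 q21331 (flp_f L746283) q22866, e3 q21332 (flp_f L746289) q22867, e3 q21333 L729805 q21333, e3 q21334 L729815 q19543, e3 q21335 L729825 q21335, e3 q21336 L729830 q21336, e3 q21337 L729835 q21337, e3 q21338 L746355 q22876, e3 q21339 L729849 q21339, e3 q21340 L729854 q21340, e3 q21341 L729859 q21341,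 e3 q21342 (flp_f L744219) q22659, e3 q21343 L729868 q21343, e3 q21344 L729873 q21344, e3 q21345 L746393 q22882, e3 q21346 (flp_f L729881) q19541, e3 q21347 (flp_f L729886) q19544, e3 q21348 (flp_f L737307) q22048, e3 q21349 L729908 q19558, e3 q21350 (flp_f L737687) q22072, e3 q21351 (flp_f L737357) q22051, e3 q21352 (flp_f L737485) q22059, e3 q21353 L746430 q22887, e3 q21354 (flp_f L729945) q19554, e3 q21355 (flp_f L737574) q22064, e3 q21356 (flp_f L737734) q22076, e3 q21357 (flp_f L737717) q22075, e3 q21358 (flp_f L737624) q22068, e3 q21359 L729988 q19564, e3 q21360 (flp_f L732596) q21708, e3 q21361 (flp_f L737325) q22049, e3 q21362 (flp_f L732651) q21711, e3 q21363 (flp_f L737451) q22057, e3 q21364 (flp_f L730023) q19570, e3 q21365 L730039 q19601, e3 q21366 L730049 q19578, e3 q21367 L730067 q19596, e3 q21368 L730077 q19585, e3 q21369 (flp_f L740127) q22267, e3 q21370 L730099 q19586, e3 q21371 (flp_f L744546) q22687, e3 q21372 (flp_f L746478) q22891, e3 q21373 (flp_f L739768) q22235, e3 q21374 L730132 q19590, e3 q21375 L730141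 q19591, trivial⟩ (by decide +kernel)

theorem ce_f_334 : ∀ r, r < 64 → sm gf (Qf (21376 + r)) = Qf (tab Gen.f (21376 + r)) :=
  edges_tab (sm gf) Qf (tab Gen.f) 21376 [(21376, 22894), (21377, 22896), (21378, 22299), (21379, 22300), (21380, 19598), (21381, 22889), (21382, 22900), (21383, 22139), (21384, 22236), (21385, 22888), (21386, 19603), (21387, 22904), (21388, 22905), (21389, 19605), (21390, 22908), (21391, 19611), (21392, 19608), (21393, 22911), (21394, 19610), (21395, 22913), (21396, 22915), (21397, 22140), (21398, 22210), (21399, 19617), (21400, 21400), (21401, 21401), (21402, 21402), (21403, 22920), (21404, 19622), (21405, 22921), (21406, 19873), (21407, 21747), (21408, 19628), (21409, 22685), (21410, 22924), (21411, 22208), (21412, 22698), (21413, 21766), (21414, 21757), (21415, 21756), (21416, 19638), (21417, 22686), (21418, 22931), (21419, 22932), (21420, 19644), (21421, 22144), (21422, 19651), (21423, 21782), (21424, 21803), (21425, 22692), (21426, 19652), (21427, 22693), (21428, 22934), (21429, 22941), (21430,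 22143), (21431, 22090), (21432, 21746), (21433, 19659), (21434, 22944), (21435, 21742), (21436, 19682), (21437, 21745), (21438, 19683), (21439, 22690)]
    ⟨e3 q21376 (flp_f L746508) q22894, e3 q21377 L746520 q22896, e3 q21378 (flp_f L740449) q22299, e3 q21379 (flp_f L740467) q22300, e3 q21380 L730178 q19598, e3 q21381 (flp_f L746460) q22889, e3 q21382 (flp_f L746550) q22900, e3 q21383 (flp_f L738560) q22139, e3 q21384 (flp_f L739774) q22236, e3 q21385 (flp_f L746446) q22888, e3 q21386 (flp_f L730217) q19603, e3 q21387 (flp_f L746585) q22904, e3 q21388 (flp_f L746596) q22905, e3 q21389 L730246 q19605, e3 q21390 (flp_f L746618) q22908, e3 q21391 L730256 q19611, e3 q21392 L730268 q19608, e3 q21393 (flp_f L746632) q22911, e3 q21394 L730280 q19610, e3 q21395 (flp_f L746644) q22913, e3 q21396 L746654 q22915, e3 q21397 L738582 q22140, e3 q21398 (flp_f L739482) q22210, e3 q21399 (flp_f L730305) q19617, e3 q21400 L730316 q21400, e3 q21401 L730323 q21401, e3 q21402 L730326 q21402, e3 q21403 L746685 q22920, e3 q21404 (flp_f L730333)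 q19622, e3 q21405 (flp_f L746698) q22921, e3 q21406 L730349 q19873, e3 q21407 (flp_f L733242) q21747, e3 q21408 L730368 q19628, e3 q21409 (flp_f L744520) q22685, e3 q21410 (flp_f L746725) q22924, e3 q21411 (flp_f L739452) q22208, e3 q21412 (flp_f L744683) q22698, e3 q21413 (flp_f L733525) q21766, e3 q21414 (flp_f L733397) q21757, e3 q21415 (flp_f L733383) q21756, e3 q21416 L730432 q19638, e3 q21417 (flp_f L744532) q22686, e3 q21418 L746768 q22931, e3 q21419 L746774 q22932, e3 q21420 (flp_f L730455) q19644, e3 q21421 (flp_f L738640) q22144, e3 q21422 L730472 q19651, e3 q21423 L733756 q21782, e3 q21424 (flp_f L734048) q21803, e3 q21425 (flp_f L744602) q22692, e3 q21426 L730496 q19652, e3 q21427 (flp_f L744612) q22693, e3 q21428 (flp_f L746793) q22934, e3 q21429 L746828 q22941, e3 q21430 (flp_f L738621) q22143, e3 q21431 (flp_f L737903) q22090, e3 q21432 (flp_f L733220) q21746, e3 q21433 L730546 q19659, e3 q21434 (flp_f L746853) q22944, e3 q21435 (flp_f L733150) q21742, e3 q21436 L730566 q19682, e3 q21437 (flp_f L733202) q21745,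 e3 q21438 L730580 q19683, e3 q21439 (flp_f L744578) q22690, trivial⟩ (by decide +kernel)

theorem ce_f_335 : ∀ r, r < 64 → sm gf (Qf (21440 + r)) = Qf (tab Gen.f (21440 + r)) :=
  edges_tab (sm gf) Qf (tab Gen.f) 21440 [(21440, 22172), (21441, 19684), (21442, 21864), (21443, 19670), (21444, 22954), (21445, 19687), (21446, 21879), (21447, 21892), (21448, 22312), (21449, 19676), (21450, 22960), (21451, 22963), (21452, 22316), (21453, 22317), (21454, 19681), (21455, 22966), (21456, 22947), (21457, 22952), (21458, 19686), (21459, 22943), (21460, 22968), (21461, 19700), (21462, 19690), (21463, 19691), (21464, 22969), (21465, 19716), (21466, 19714), (21467, 22340), (21468, 19715), (21469, 19952), (21470, 19953), (21471, 22975), (21472, 19954), (21473, 19955), (21474, 22658), (21475, 19713), (21476, 19717), (21477, 19719), (21478, 19722), (21479, 22979), (21480, 21480), (21481, 22727), (21482, 22728), (21483, 22394), (21484, 22424), (21485, 21485), (21486, 22398), (21487, 19734), (21488, 22986), (21489, 19737), (21490, 22988), (21491,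 21491), (21492, 19748), (21493, 19740), (21494, 22991), (21495, 19742), (21496, 22993), (21497, 19763), (21498, 19744), (21499, 22995), (21500, 19746), (21501, 22997), (21502, 22990), (21503, 19750)]
    ⟨e3 q21440 (flp_f L738993) q22172, e3 q21441 L730602 q19684, e3 q21442 (flp_f L734880) q21864, e3 q21443 L730618 q19670, e3 q21444 (flp_f L746921) q22954, e3 q21445 L730630 q19687, e3 q21446 (flp_f L735102) q21879, e3 q21447 (flp_f L735293) q21892, e3 q21448 (flp_f L740604) q22312, e3 q21449 L730660 q19676, e3 q21450 (flp_f L746955) q22960, e3 q21451 L746965 q22963, e3 q21452 (flp_f L740632) q22316, e3 q21453 (flp_f L740640) q22317, e3 q21454 L730684 q19681, e3 q21455 (flp_f L746985) q22966, e3 q21456 (flp_f L746873) q22947, e3 q21457 (flp_f L746905) q22952, e3 q21458 L730712 q19686, e3 q21459 (flp_f L746843) q22943, e3 q21460 L746993 q22968, e3 q21461 L730732 q19700, e3 q21462 L730738 q19690, e3 q21463 (flp_f L730744) q19691, e3 q21464 (flp_f L747003) q22969, e3 q21465 L730754 q19716, e3 q21466 L730765 q19714, e3 q21467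 (flp_f L740849) q22340, e3 q21468 L730779 q19715, e3 q21469 L730786 q19952, e3 q21470 L730792 q19953, e3 q21471 L747039 q22975, e3 q21472 L730804 q19954, e3 q21473 L730810 q19955, e3 q21474 (flp_f L744208) q22658, e3 q21475 (flp_f L730819) q19713, e3 q21476 (flp_f L730824) q19717, e3 q21477 L730836 q19719, e3 q21478 (flp_f L730838) q19722, e3 q21479 (flp_f L747067) q22979, e3 q21480 L730855 q21480, e3 q21481 (flp_f L744981) q22727, e3 q21482 (flp_f L744993) q22728, e3 q21483 (flp_f L741463) q22394, e3 q21484 (flp_f L741778) q22424, e3 q21485 L730886 q21485, e3 q21486 (flp_f L741509) q22398, e3 q21487 L730907 q19734, e3 q21488 (flp_f L747117) q22986, e3 q21489 (flp_f L730917) q19737, e3 q21490 (flp_f L747132) q22988, e3 q21491 L730934 q21491, e3 q21492 L730944 q19748, e3 q21493 L730949 q19740, e3 q21494 (flp_f L747154) q22991, e3 q21495 (flp_f L730957) q19742, e3 q21496 (flp_f L747170) q22993, e3 q21497 L730979 q19763, e3 q21498 (flp_f L730983) q19744, e3 q21499 (flp_f L747187) q22995, e3 q21500 L731004 q19746, e3 q21501 (flp_f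 L747203) q22997, e3 q21502 (flp_f L747147) q22990, e3 q21503 L731030 q19750, trivial⟩ (by decide +kernel)

theorem ce_f_336 : ∀ r, r < 64 → sm gf (Qf (21504 + r)) = Qf (tab Gen.f (21504 + r)) :=
  edges_tab (sm gf) Qf (tab Gen.f) 21504 [(21504, 23000), (21505, 19751), (21506, 23002), (21507, 19753), (21508, 23004), (21509, 19756), (21510, 23006), (21511, 19758), (21512, 23008), (21513, 19760), (21514, 23010), (21515, 19762), (21516, 23012), (21517, 19765), (21518, 23014), (21519, 21519), (21520, 19769), (21521, 23015), (21522, 19771), (21523, 21523), (21524, 21524), (21525, 22709), (21526, 19996), (21527, 22711), (21528, 22712), (21529, 22713), (21530, 22841), (21531, 21531), (21532, 19786), (21533, 23023), (21534, 21979), (21535, 19803), (21536, 21984), (21537, 22714), (21538, 22715), (21539, 19804), (21540, 21967), (21541, 22717), (21542, 21930), (21543, 21969), (21544, 22719), (21545, 22721), (21546, 22677), (21547, 19966), (21548, 19967), (21549, 22510), (21550, 19921), (21551, 22792), (21552, 22793), (21553, 19997),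 (21554, 22795), (21555, 22796), (21556, 22797), (21557, 19998), (21558, 22799), (21559, 19815), (21560, 23045), (21561, 21561), (21562, 19818), (21563, 23047), (21564, 22782), (21565, 19844), (21566, 22784), (21567, 22785)]
    ⟨e3 q21504 (flp_f L747225) q23000, e3 q21505 (flp_f L731040) q19751, e3 q21506 (flp_f L747244) q23002, e3 q21507 L731071 q19753, e3 q21508 (flp_f L747266) q23004, e3 q21509 L731084 q19756, e3 q21510 (flp_f L747275) q23006, e3 q21511 L731096 q19758, e3 q21512 (flp_f L747283) q23008, e3 q21513 L731104 q19760, e3 q21514 (flp_f L747291) q23010, e3 q21515 L731117 q19762, e3 q21516 (flp_f L747303) q23012, e3 q21517 L731136 q19765, e3 q21518 (flp_f L747317) q23014, e3 q21519 L731150 q21519, e3 q21520 L731161 q19769, e3 q21521 (flp_f L747326) q23015, e3 q21522 L731172 q19771, e3 q21523 L731177 q21523, e3 q21524 L731186 q21524, e3 q21525 (flp_f L744786) q22709, e3 q21526 L731205 q19996, e3 q21527 (flp_f L744810) q22711, e3 q21528 (flp_f L744824) q22712, e3 q21529 (flp_f L744836) q22713, e3 q21530 (flp_f L746088)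 q22841, e3 q21531 L731245 q21531, e3 q21532 L731253 q19786, e3 q21533 (flp_f L747383) q23023, e3 q21534 (flp_f L736440) q21979, e3 q21535 L731275 q19803, e3 q21536 (flp_f L736506) q21984, e3 q21537 (flp_f L744848) q22714, e3 q21538 (flp_f L744864) q22715, e3 q21539 L731309 q19804, e3 q21540 (flp_f L736280) q21967, e3 q21541 (flp_f L744890) q22717, e3 q21542 (flp_f L735786) q21930, e3 q21543 (flp_f L736302) q21969, e3 q21544 (flp_f L744904) q22719, e3 q21545 (flp_f L744920) q22721, e3 q21546 (flp_f L744415) q22677, e3 q21547 L731360 q19966, e3 q21548 L731366 q19967, e3 q21549 (flp_f L742758) q22510, e3 q21550 L731386 q19921, e3 q21551 (flp_f L745636) q22792, e3 q21552 (flp_f L745649) q22793, e3 q21553 L731406 q19997, e3 q21554 (flp_f L745670) q22795, e3 q21555 (flp_f L745683) q22796, e3 q21556 (flp_f L745693) q22797, e3 q21557 L731430 q19998, e3 q21558 (flp_f L745712) q22799, e3 q21559 (flp_f L731438) q19815, e3 q21560 (flp_f L747520) q23045, e3 q21561 L731457 q21561, e3 q21562 L731465 q19818, e3 q21563 (flp_f L747535) q23047,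 e3 q21564 (flp_f L745538) q22782, e3 q21565 L731487 q19844, e3 q21566 (flp_f L745561) q22784, e3 q21567 (flp_f L745571) q22785, trivial⟩ (by decide +kernel)

theorem ce_f_337 : ∀ r, r < 64 → sm gf (Qf (21568 + r)) = Qf (tab Gen.f (21568 + r)) :=
  edges_tab (sm gf) Qf (tab Gen.f) 21568 [(21568, 22787), (21569, 22837), (21570, 19846), (21571, 22500), (21572, 19828), (21573, 23055), (21574, 19830), (21575, 23057), (21576, 22495), (21577, 19833), (21578, 19834), (21579, 23061), (21580, 23062), (21581, 22505), (21582, 22539), (21583, 19837), (21584, 23067), (21585, 22542), (21586, 22543), (21587, 19841), (21588, 23071), (21589, 22678), (21590, 22783), (21591, 22786), (21592, 19848), (21593, 23074), (21594, 19856), (21595, 19857), (21596, 19852), (21597, 19859), (21598, 21835), (21599, 23076), (21600, 23077), (21601, 19861), (21602, 23080), (21603, 19874), (21604, 19865), (21605, 23083), (21606, 19867), (21607, 23085), (21608, 21893), (21609, 19871), (21610, 23088), (21611, 23091), (21612, 22922), (21613, 23082), (21614, 19876),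 (21615, 23094), (21616, 19878), (21617, 23096), (21618, 22596), (21619, 19881), (21620, 22599), (21621, 19884), (21622, 23100), (21623, 22604), (21624, 22605), (21625, 19889), (21626, 19890), (21627, 23104), (21628, 23105), (21629, 22610), (21630, 22611), (21631, 19894)]
    ⟨e3 q21568 (flp_f L745590) q22787, e3 q21569 (flp_f L746055) q22837, e3 q21570 L731529 q19846, e3 q21571 (flp_f L742648) q22500, e3 q21572 (flp_f L731537) q19828, e3 q21573 (flp_f L747594) q23055, e3 q21574 L731558 q19830, e3 q21575 (flp_f L747608) q23057, e3 q21576 L742590 q22495, e3 q21577 L731576 q19833, e3 q21578 L731585 q19834, e3 q21579 (flp_f L747637) q23061, e3 q21580 (flp_f L747642) q23062, e3 q21581 L742704 q22505, e3 q21582 (flp_f L743076) q22539, e3 q21583 L731619 q19837, e3 q21584 (flp_f L747674) q23067, e3 q21585 (flp_f L743106) q22542, e3 q21586 (flp_f L743114) q22543, e3 q21587 L731643 q19841, e3 q21588 (flp_f L747700) q23071, e3 q21589 (flp_f L744427) q22678, e3 q21590 (flp_f L745548) q22783, e3 q21591 (flp_f L745579) q22786, e3 q21592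 L731687 q19848, e3 q21593 (flp_f L747724) q23074, e3 q21594 L731705 q19856, e3 q21595 L731713 q19857, e3 q21596 L731721 q19852, e3 q21597 L731728 q19859, e3 q21598 (flp_f L734482) q21835, e3 q21599 (flp_f L747742) q23076, e3 q21600 (flp_f L747750) q23077, e3 q21601 L731763 q19861, e3 q21602 (flp_f L747777) q23080, e3 q21603 L731776 q19874, e3 q21604 L731783 q19865, e3 q21605 (flp_f L747792) q23083, e3 q21606 L731797 q19867, e3 q21607 (flp_f L747804) q23085, e3 q21608 (flp_f L735307) q21893, e3 q21609 L731823 q19871, e3 q21610 (flp_f L747830) q23088, e3 q21611 L747850 q23091, e3 q21612 (flp_f L746707) q22922, e3 q21613 (flp_f L747786) q23082, e3 q21614 L731855 q19876, e3 q21615 (flp_f L747874) q23094, e3 q21616 L731869 q19878, e3 q21617 (flp_f L747888) q23096, e3 q21618 (flp_f L743683) q22596, e3 q21619 L731893 q19881, e3 q21620 (flp_f L743712) q22599, e3 q21621 L731911 q19884, e3 q21622 (flp_f L747916) q23100, e3 q21623 (flp_f L743754) q22604, e3 q21624 (flp_f L743763) q22605, e3 q21625 L731935 q19889, e3 q21626 L731941 q19890,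 e3 q21627 (flp_f L747936) q23104, e3 q21628 (flp_f L747942) q23105, e3 q21629 (flp_f L743797) q22610, e3 q21630 (flp_f L743807) q22611, e3 q21631 L731971 q19894, trivial⟩ (by decide +kernel)

theorem ce_f_338 : ∀ r, r < 64 → sm gf (Qf (21632 + r)) = Qf (tab Gen.f (21632 + r)) :=
  edges_tab (sm gf) Qf (tab Gen.f) 21632 [(21632, 23110), (21633, 23114), (21634, 19895), (21635, 22616), (21636, 22617), (21637, 19899), (21638, 23117), (21639, 19901), (21640, 23119), (21641, 19904), (21642, 23120), (21643, 19906), (21644, 23123), (21645, 19907), (21646, 21646), (21647, 19911), (21648, 19922), (21649, 19914), (21650, 23126), (21651, 19925), (21652, 19926), (21653, 23130), (21654, 19918), (21655, 23036), (21656, 23125), (21657, 23128), (21658, 21658), (21659, 19999), (21660, 21660), (21661, 19994), (21662, 21662), (21663, 21663), (21664, 19985), (21665, 21665), (21666, 21666), (21667, 20000), (21668, 21668), (21669, 21669), (21670, 21670), (21671, 22655), (21672, 21672), (21673, 21673), (21674, 21674), (21675, 21675), (21676, 22973),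 (21677, 22976), (21678, 19963), (21679, 19964), (21680, 21680), (21681, 19972), (21682, 21682), (21683, 21683), (21684, 19977), (21685, 19978), (21686, 23149), (21687, 21687), (21688, 19981), (21689, 23153), (21690, 23136), (21691, 23154), (21692, 19982), (21693, 23146), (21694, 19995), (21695, 19990)]
    ⟨e3 q21632 (flp_f L747968) q23110, e3 q21633 L747984 q23114, e3 q21634 (flp_f L731981) q19895, e3 q21635 (flp_f L743847) q22616, e3 q21636 (flp_f L743853) q22617, e3 q21637 L731999 q19899, e3 q21638 (flp_f L747998) q23117, e3 q21639 L732009 q19901, e3 q21640 (flp_f L748006) q23119, e3 q21641 L732026 q19904, e3 q21642 (flp_f L748014) q23120, e3 q21643 L732043 q19906, e3 q21644 L748035 q23123, e3 q21645 (flp_f L732060) q19907, e3 q21646 L732070 q21646, e3 q21647 L732079 q19911, e3 q21648 L732085 q19922, e3 q21649 L732093 q19914, e3 q21650 (flp_f L748064) q23126, e3 q21651 L732109 q19925, e3 q21652 L732115 q19926, e3 q21653 L748090 q23130, e3 q21654 (flp_f L732125) q19918, e3 q21655 (flp_f L747467) q23036, e3 q21656 (flp_f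 L748056) q23125, e3 q21657 (flp_f L748076) q23128, e3 q21658 L732165 q21658, e3 q21659 L732170 q19999, e3 q21660 L732182 q21660, e3 q21661 L732194 q19994, e3 q21662 L732207 q21662, e3 q21663 L732216 q21663, e3 q21664 L732227 q19985, e3 q21665 L732238 q21665, e3 q21666 L732246 q21666, e3 q21667 L732252 q20000, e3 q21668 L732260 q21668, e3 q21669 L732265 q21669, e3 q21670 L732268 q21670, e3 q21671 (flp_f L744176) q22655, e3 q21672 L732275 q21672, e3 q21673 L732283 q21673, e3 q21674 L732288 q21674, e3 q21675 L732291 q21675, e3 q21676 (flp_f L747028) q22973, e3 q21677 (flp_f L747048) q22976, e3 q21678 (flp_f L732307) q19963, e3 q21679 (flp_f L732319) q19964, e3 q21680 L732338 q21680, e3 q21681 L732346 q19972, e3 q21682 L732354 q21682, e3 q21683 L732359 q21683, e3 q21684 L732364 q19977, e3 q21685 L732370 q19978, e3 q21686 (flp_f L748230) q23149, e3 q21687 L732382 q21687, e3 q21688 L732388 q19981, e3 q21689 L748253 q23153, e3 q21690 (flp_f L748146) q23136, e3 q21691 L748264 q23154, e3 q21692 (flp_f L732419) q19982, e3 q21693 (flp_f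 L748212) q23146, e3 q21694 L732437 q19995, e3 q21695 L732444 q19990, trivial⟩ (by decide +kernel)

theorem ce_f_339 : ∀ r, r < 64 → sm gf (Qf (21696 + r)) = Qf (tab Gen.f (21696 + r)) :=
  edges_tab (sm gf) Qf (tab Gen.f) 21696 [(21696, 21908), (21697, 23156), (21698, 19992), (21699, 23018), (21700, 23039), (21701, 23139), (21702, 20004), (21703, 20413), (21704, 20432), (21705, 20420), (21706, 20422), (21707, 20424), (21708, 21360), (21709, 20416), (21710, 20023), (21711, 21362), (21712, 20402), (21713, 20026), (21714, 23161), (21715, 20030), (21716, 20029), (21717, 23163), (21718, 20590), (21719, 20032), (21720, 23165), (21721, 20041), (21722, 20034), (21723, 23167), (21724, 20047), (21725, 20037), (21726, 23169), (21727, 20040), (21728, 23171), (21729, 20592), (21730, 20043), (21731, 23173), (21732, 20679), (21733, 20046), (21734, 23175), (21735, 20049), (21736, 23176), (21737, 20415), (21738, 20617), (21739, 20621), (21740, 20057), (21741, 23178), (21742, 21435), (21743, 20063), (21744, 20485), (21745, 21437), (21746,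 21432), (21747, 21407), (21748, 20076), (21749, 20074), (21750, 23183), (21751, 20080), (21752, 20079), (21753, 23186), (21754, 23185), (21755, 20082), (21756, 21415), (21757, 21414), (21758, 20645), (21759, 21128)]
    ⟨e3 q21696 (flp_f L735528) q21908, e3 q21697 (flp_f L748284) q23156, e3 q21698 (flp_f L732458) q19992, e3 q21699 (flp_f L747344) q23018, e3 q21700 (flp_f L747489) q23039, e3 q21701 (flp_f L748164) q23139, e3 q21702 L732491 q20004, e3 q21703 L732510 q20413, e3 q21704 L732528 q20432, e3 q21705 L732548 q20420, e3 q21706 L732564 q20422, e3 q21707 L732580 q20424, e3 q21708 L732596 q21360, e3 q21709 L732617 q20416, e3 q21710 L732633 q20023, e3 q21711 L732651 q21362, e3 q21712 L732669 q20402, e3 q21713 (flp_f L732680) q20026, e3 q21714 (flp_f L748362) q23161, e3 q21715 L732722 q20030, e3 q21716 L732741 q20029, e3 q21717 (flp_f L748392) q23163, e3 q21718 L732769 q20590, e3 q21719 (flp_f L732778) q20032, e3 q21720 (flp_f L748429) q23165, e3 q21721 L732820 q20041, e3 q21722 (flp_f L732830) q20034, e3 q21723 (flp_f L748463)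 q23167, e3 q21724 L732872 q20047, e3 q21725 L732892 q20037, e3 q21726 (flp_f L748493) q23169, e3 q21727 L732916 q20040, e3 q21728 (flp_f L748517) q23171, e3 q21729 L732952 q20592, e3 q21730 (flp_f L732958) q20043, e3 q21731 (flp_f L748558) q23173, e3 q21732 L732996 q20679, e3 q21733 L733013 q20046, e3 q21734 (flp_f L748588) q23175, e3 q21735 L733041 q20049, e3 q21736 (flp_f L748604) q23176, e3 q21737 L733069 q20415, e3 q21738 L733087 q20617, e3 q21739 L733101 q20621, e3 q21740 L733117 q20057, e3 q21741 (flp_f L748634) q23178, e3 q21742 L733150 q21435, e3 q21743 L733164 q20063, e3 q21744 L733180 q20485, e3 q21745 L733202 q21437, e3 q21746 L733220 q21432, e3 q21747 L733242 q21407, e3 q21748 L733256 q20076, e3 q21749 L733278 q20074, e3 q21750 (flp_f L748721) q23183, e3 q21751 L733309 q20080, e3 q21752 L733321 q20079, e3 q21753 (flp_f L748763) q23186, e3 q21754 (flp_f L748751) q23185, e3 q21755 L733362 q20082, e3 q21756 L733383 q21415, e3 q21757 L733397 q21414, e3 q21758 L733417 q20645, e3 q21759 L733435 q21128, trivial⟩ (by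 decide +kernel)

theorem ce_f_340 : ∀ r, r < 64 → sm gf (Qf (21760 + r)) = Qf (tab Gen.f (21760 + r)) :=
  edges_tab (sm gf) Qf (tab Gen.f) 21760 [(21760, 20089), (21761, 23192), (21762, 20096), (21763, 20097), (21764, 20093), (21765, 23196), (21766, 21413), (21767, 23194), (21768, 23195), (21769, 20535), (21770, 20104), (21771, 20103), (21772, 23179), (21773, 23200), (21774, 23202), (21775, 21775), (21776, 21776), (21777, 23208), (21778, 21778), (21779, 20109), (21780, 23211), (21781, 21781), (21782, 21423), (21783, 21783), (21784, 21185), (21785, 20121), (21786, 20114), (21787, 23219), (21788, 20124), (21789, 21193), (21790, 21194), (21791, 20125), (21792, 20119), (21793, 23225), (21794, 23217), (21795, 21795), (21796, 20123), (21797, 23229), (21798, 23224), (21799, 20127), (21800, 23232), (21801, 21057), (21802, 20864), (21803, 21424), (21804, 21804), (21805, 20132), (21806, 23235), (21807, 20147), (21808, 20654), (21809, 20135), (21810, 23239), (21811, 21173), (21812, 21174), (21813, 20151), (21814, 20139), (21815, 23245),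 (21816, 23246), (21817, 20141), (21818, 23249), (21819, 20154), (21820, 20144), (21821, 23252), (21822, 20146), (21823, 23254)]
    ⟨e3 q21760 L733449 q20089, e3 q21761 (flp_f L748859) q23192, e3 q21762 L733471 q20096, e3 q21763 L733485 q20097, e3 q21764 L733495 q20093, e3 q21765 (flp_f L748907) q23196, e3 q21766 L733525 q21413, e3 q21767 (flp_f L748879) q23194, e3 q21768 (flp_f L748893) q23195, e3 q21769 L733569 q20535, e3 q21770 L733585 q20104, e3 q21771 L733598 q20103, e3 q21772 (flp_f L748657) q23179, e3 q21773 (flp_f L748968) q23200, e3 q21774 L748990 q23202, e3 q21775 L733659 q21775, e3 q21776 L733667 q21776, e3 q21777 L749089 q23208, e3 q21778 L733697 q21778, e3 q21779 (flp_f L733702) q20109, e3 q21780 (flp_f L749140) q23211, e3 q21781 L733733 q21781, e3 q21782 (flp_f L733756) q21423, e3 q21783 L733768 q21783, e3 q21784 L733787 q21185, e3 q21785 L733798 q20121, e3 q21786 (flp_f L733804) q20114, e3 q21787 (flp_f L749268) q23219, e3 q21788 L733834 q20124, e3 q21789 L733848 q21193, e3 q21790 L733863 q21194, e3 q21791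 L733875 q20125, e3 q21792 L733891 q20119, e3 q21793 (flp_f L749355) q23225, e3 q21794 (flp_f L749232) q23217, e3 q21795 L733933 q21795, e3 q21796 L733945 q20123, e3 q21797 (flp_f L749409) q23229, e3 q21798 (flp_f L749336) q23224, e3 q21799 L733985 q20127, e3 q21800 (flp_f L749450) q23232, e3 q21801 L734018 q21057, e3 q21802 L734026 q20864, e3 q21803 L734048 q21424, e3 q21804 L734062 q21804, e3 q21805 (flp_f L734069) q20132, e3 q21806 (flp_f L749500) q23235, e3 q21807 L734109 q20147, e3 q21808 L734125 q20654, e3 q21809 L734137 q20135, e3 q21810 (flp_f L749558) q23239, e3 q21811 L734157 q21173, e3 q21812 L734177 q21174, e3 q21813 L734191 q20151, e3 q21814 (flp_f L734199) q20139, e3 q21815 (flp_f L749653) q23245, e3 q21816 (flp_f L749672) q23246, e3 q21817 L734250 q20141, e3 q21818 (flp_f L749712) q23249, e3 q21819 L734268 q20154, e3 q21820 L734284 q20144, e3 q21821 (flp_f L749740) q23252, e3 q21822 L734307 q20146, e3 q21823 (flp_f L749760) q23254, trivial⟩ (by decide +kernel)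

theorem ce_f_341 : ∀ r, r < 64 → sm gf (Qf (21824 + r)) = Qf (tab Gen.f (21824 + r)) :=
  edges_tab (sm gf) Qf (tab Gen.f) 21824 [(21824, 23237), (21825, 21825), (21826, 20150), (21827, 23258), (21828, 23244), (21829, 20153), (21830, 23260), (21831, 23263), (21832, 20156), (21833, 23264), (21834, 20897), (21835, 21598), (21836, 20159), (21837, 21837), (21838, 20163), (21839, 23268), (21840, 20165), (21841, 20349), (21842, 23270), (21843, 20175), (21844, 21844), (21845, 21845), (21846, 21846), (21847, 20176), (21848, 21848), (21849, 21849), (21850, 21850), (21851, 23280), (21852, 23281), (21853, 20177), (21854, 20835), (21855, 20184), (21856, 20840), (21857, 20185), (21858, 23283), (21859, 21859), (21860, 23287), (21861, 21861), (21862, 20828), (21863, 20196), (21864, 21442), (21865, 20197), (21866, 20793), (21867, 20830), (21868, 20198), (21869, 20194), (21870, 23296), (21871, 23291), (21872, 23295), (21873, 20200), (21874, 23299), (21875, 20204), (21876, 20205), (21877, 23301), (21878, 21878), (21879, 21446), (21880, 20214),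 (21881, 20877), (21882, 20878), (21883, 20215), (21884, 20212), (21885, 23307), (21886, 23306), (21887, 20217)]
    ⟨e3 q21824 (flp_f L749524) q23237, e3 q21825 L734347 q21825, e3 q21826 L734358 q20150, e3 q21827 (flp_f L749808) q23258, e3 q21828 (flp_f L749632) q23244, e3 q21829 L734401 q20153, e3 q21830 (flp_f L749833) q23260, e3 q21831 L749870 q23263, e3 q21832 L734436 q20156, e3 q21833 (flp_f L749884) q23264, e3 q21834 L734456 q20897, e3 q21835 L734482 q21598, e3 q21836 (flp_f L734484) q20159, e3 q21837 L734510 q21837, e3 q21838 L734522 q20163, e3 q21839 (flp_f L749936) q23268, e3 q21840 L734544 q20165, e3 q21841 L734559 q20349, e3 q21842 (flp_f L749960) q23270, e3 q21843 L734581 q20175, e3 q21844 L734598 q21844, e3 q21845 L734614 q21845, e3 q21846 L734629 q21846, e3 q21847 L734641 q20176, e3 q21848 L734657 q21848, e3 q21849 L734668 q21849, e3 q21850 L734677 q21850, e3 q21851 L750092 q23280, e3 q21852 L750103 q23281, e3 q21853 (flp_f L734707) q20177, e3 q21854 L734733 q20835, e3 q21855 L734745 q20184, e3 q21856 L734763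 q20840, e3 q21857 L734775 q20185, e3 q21858 (flp_f L750141) q23283, e3 q21859 L734804 q21859, e3 q21860 L750199 q23287, e3 q21861 L734836 q21861, e3 q21862 L734853 q20828, e3 q21863 L734866 q20196, e3 q21864 L734880 q21442, e3 q21865 L734890 q20197, e3 q21866 L734902 q20793, e3 q21867 L734923 q20830, e3 q21868 L734935 q20198, e3 q21869 L734953 q20194, e3 q21870 (flp_f L750345) q23296, e3 q21871 (flp_f L750269) q23291, e3 q21872 (flp_f L750326) q23295, e3 q21873 L735007 q20200, e3 q21874 (flp_f L750385) q23299, e3 q21875 L735039 q20204, e3 q21876 (flp_f L735048) q20205, e3 q21877 (flp_f L750425) q23301, e3 q21878 L735087 q21878, e3 q21879 L735102 q21446, e3 q21880 L735112 q20214, e3 q21881 L735126 q20877, e3 q21882 L735147 q20878, e3 q21883 L735161 q20215, e3 q21884 L735179 q20212, e3 q21885 (flp_f L750521) q23307, e3 q21886 (flp_f L750500) q23306, e3 q21887 L735220 q20217, trivial⟩ (by decide +kernel)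

theorem ce_f_342 : ∀ r, r < 64 → sm gf (Qf (21888 + r)) = Qf (tab Gen.f (21888 + r)) :=
  edges_tab (sm gf) Qf (tab Gen.f) 21888 [(21888, 23309), (21889, 20220), (21890, 23310), (21891, 21891), (21892, 21447), (21893, 21608), (21894, 20229), (21895, 20754), (21896, 20758), (21897, 20228), (21898, 23317), (21899, 20234), (21900, 20235), (21901, 20233), (21902, 23319), (21903, 23320), (21904, 20240), (21905, 20241), (21906, 21068), (21907, 23323), (21908, 21696), (21909, 21909), (21910, 23328), (21911, 21911), (21912, 20244), (21913, 23332), (21914, 21914), (21915, 21915), (21916, 23221), (21917, 21917), (21918, 23241), (21919, 20247), (21920, 23339), (21921, 21921), (21922, 20250), (21923, 23342), (21924, 20252), (21925, 23345), (21926, 21926), (21927, 20986), (21928, 20269), (21929, 21099), (21930, 21542), (21931, 20270), (21932, 23344), (21933, 20258), (21934, 23353), (21935, 20929), (21936, 21003), (21937, 20274), (21938, 20262), (21939, 20977), (21940, 23358), (21941, 20264), (21942, 23361), (21943, 20277), (21944, 20911),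 (21945, 21258), (21946, 20268), (21947, 23366), (21948, 23348), (21949, 23351), (21950, 21950), (21951, 20273)]
    ⟨e3 q21888 (flp_f L750545) q23309, e3 q21889 (flp_f L735245) q20220, e3 q21890 (flp_f L750565) q23310, e3 q21891 L735278 q21891, e3 q21892 L735293 q21447, e3 q21893 L735307 q21608, e3 q21894 L735319 q20229, e3 q21895 L735341 q20754, e3 q21896 L735359 q20758, e3 q21897 L735371 q20228, e3 q21898 (flp_f L750663) q23317, e3 q21899 L735393 q20234, e3 q21900 L735407 q20235, e3 q21901 L735417 q20233, e3 q21902 (flp_f L750685) q23319, e3 q21903 (flp_f L750699) q23320, e3 q21904 L735466 q20240, e3 q21905 L735479 q20241, e3 q21906 L735497 q21068, e3 q21907 (flp_f L750744) q23323, e3 q21908 L735528 q21696, e3 q21909 L735533 q21909, e3 q21910 L750817 q23328, e3 q21911 L735563 q21911, e3 q21912 (flp_f L735568) q20244, e3 q21913 (flp_f L750885) q23332, e3 q21914 L735597 q21914, e3 q21915 L735609 q21915, e3 q21916 (flp_f L749293) q23221, e3 q21917 L735635 q21917, e3 q21918 (flp_f L749582) q23241, e3 q21919 (flp_f L735649)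 q20247, e3 q21920 (flp_f L750972) q23339, e3 q21921 L735676 q21921, e3 q21922 L735688 q20250, e3 q21923 (flp_f L751003) q23342, e3 q21924 (flp_f L735702) q20252, e3 q21925 (flp_f L751043) q23345, e3 q21926 L735729 q21926, e3 q21927 L735748 q20986, e3 q21928 L735761 q20269, e3 q21929 L735771 q21099, e3 q21930 L735786 q21542, e3 q21931 L735796 q20270, e3 q21932 (flp_f L751032) q23344, e3 q21933 L735826 q20258, e3 q21934 (flp_f L751151) q23353, e3 q21935 L735846 q20929, e3 q21936 L735867 q21003, e3 q21937 L735879 q20274, e3 q21938 (flp_f L735885) q20262, e3 q21939 L735910 q20977, e3 q21940 (flp_f L751223) q23358, e3 q21941 L735935 q20264, e3 q21942 (flp_f L751261) q23361, e3 q21943 L735953 q20277, e3 q21944 L735972 q20911, e3 q21945 L735990 q21258, e3 q21946 L736000 q20268, e3 q21947 (flp_f L751320) q23366, e3 q21948 (flp_f L751083) q23348, e3 q21949 (flp_f L751120) q23351, e3 q21950 L736046 q21950, e3 q21951 L736059 q20273, trivial⟩ (by decide +kernel)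

theorem ce_f_343 : ∀ r, r < 64 → sm gf (Qf (21952 + r)) = Qf (tab Gen.f (21952 + r)) :=
  edges_tab (sm gf) Qf (tab Gen.f) 21952 [(21952, 23371), (21953, 23357), (21954, 20276), (21955, 23373), (21956, 20284), (21957, 20285), (21958, 20281), (21959, 23376), (21960, 23374), (21961, 23375), (21962, 20296), (21963, 20289), (21964, 23381), (21965, 20934), (21966, 20315), (21967, 21540), (21968, 20316), (21969, 21543), (21970, 20317), (21971, 23379), (21972, 23380), (21973, 20298), (21974, 23391), (21975, 20942), (21976, 20943), (21977, 20322), (21978, 20979), (21979, 21534), (21980, 20303), (21981, 23398), (21982, 20325), (21983, 21077), (21984, 21536), (21985, 21300), (21986, 21301), (21987, 20309), (21988, 23405), (21989, 23408), (21990, 21305), (21991, 21306), (21992, 20314), (21993, 23411), (21994, 23384), (21995, 23386), (21996, 23416), (21997, 21997), (21998, 21998), (21999, 20321), (22000, 23419), (22001, 23395), (22002, 20324), (22003, 23422), (22004, 20336), (22005, 20337), (22006, 20329), (22007, 20339), (22008, 20340),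 (22009, 20333), (22010, 23265), (22011, 23427), (22012, 23423), (22013, 23424), (22014, 23425), (22015, 22015)]
    ⟨e3 q21952 (flp_f L751381) q23371, e3 q21953 (flp_f L751204) q23357, e3 q21954 L736100 q20276, e3 q21955 L751402 q23373, e3 q21956 L736132 q20284, e3 q21957 L736146 q20285, e3 q21958 L736156 q20281, e3 q21959 (flp_f L751450) q23376, e3 q21960 (flp_f L751423) q23374, e3 q21961 (flp_f L751437) q23375, e3 q21962 L736215 q20296, e3 q21963 L736222 q20289, e3 q21964 (flp_f L751521) q23381, e3 q21965 L736252 q20934, e3 q21966 L736264 q20315, e3 q21967 L736280 q21540, e3 q21968 L736290 q20316, e3 q21969 L736302 q21543, e3 q21970 L736310 q20317, e3 q21971 (flp_f L751495) q23379, e3 q21972 (flp_f L751512) q23380, e3 q21973 L736356 q20298, e3 q21974 (flp_f L751641) q23391, e3 q21975 L736372 q20942, e3 q21976 L736394 q20943, e3 q21977 L736406 q20322, e3 q21978 L736422 q20979, e3 q21979 L736440 q21534, e3 q21980 L736458 q20303, e3 q21981 (flp_f L751743) q23398, e3 q21982 L736478 q20325, e3 q21983 L736492 q21077, e3 q21984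 L736506 q21536, e3 q21985 L736524 q21300, e3 q21986 L736542 q21301, e3 q21987 L736554 q20309, e3 q21988 (flp_f L751831) q23405, e3 q21989 L751851 q23408, e3 q21990 L736574 q21305, e3 q21991 L736584 q21306, e3 q21992 L736592 q20314, e3 q21993 (flp_f L751879) q23411, e3 q21994 (flp_f L751559) q23384, e3 q21995 (flp_f L751583) q23386, e3 q21996 L751927 q23416, e3 q21997 L736643 q21997, e3 q21998 L736656 q21998, e3 q21999 L736665 q20321, e3 q22000 (flp_f L751969) q23419, e3 q22001 (flp_f L751691) q23395, e3 q22002 L736706 q20324, e3 q22003 L752006 q23422, e3 q22004 L736742 q20336, e3 q22005 L736756 q20337, e3 q22006 (flp_f L736764) q20329, e3 q22007 L736776 q20339, e3 q22008 L736784 q20340, e3 q22009 L736794 q20333, e3 q22010 (flp_f L749900) q23265, e3 q22011 (flp_f L752078) q23427, e3 q22012 (flp_f L752030) q23423, e3 q22013 (flp_f L752052) q23424, e3 q22014 (flp_f L752060) q23425, e3 q22015 L736874 q22015, trivial⟩ (by decide +kernel)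

theorem ce_f_344 : ∀ r, r < 64 → sm gf (Qf (22016 + r)) = Qf (tab Gen.f (22016 + r)) :=
  edges_tab (sm gf) Qf (tab Gen.f) 22016 [(22016, 22016), (22017, 20345), (22018, 23269), (22019, 23431), (22020, 20351), (22021, 20352), (22022, 23300), (22023, 20350), (22024, 23271), (22025, 23433), (22026, 20367), (22027, 20368), (22028, 23439), (22029, 21158), (22030, 21166), (22031, 20760), (22032, 21159), (22033, 21167), (22034, 23445), (22035, 21033), (22036, 21160), (22037, 23448), (22038, 20366), (22039, 23441), (22040, 20369), (22041, 20370), (22042, 20372), (22043, 20409), (22044, 20404), (22045, 20441), (22046, 21102), (22047, 20383), (22048, 21348), (22049, 21361), (22050, 20429), (22051, 21351), (22052, 20392), (22053, 23455), (22054, 20438), (22055, 23160), (22056, 20398), (22057, 21363), (22058, 20437), (22059, 21352), (22060, 20531), (22061, 20436), (22062, 20430), (22063, 20446), (22064, 21355), (22065, 23158), (22066, 20418), (22067, 20439), (22068, 21358), (22069, 23460), (22070, 23159), (22071, 20426), (22072, 21350),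 (22073, 23453), (22074, 23457), (22075, 21357), (22076, 21356), (22077, 23463), (22078, 20435), (22079, 23464)]
    ⟨e3 q22016 L736886 q22016, e3 q22017 L736896 q20345, e3 q22018 (flp_f L749955) q23269, e3 q22019 (flp_f L752129) q23431, e3 q22020 L736934 q20351, e3 q22021 L736943 q20352, e3 q22022 (flp_f L750412) q23300, e3 q22023 L736963 q20350, e3 q22024 (flp_f L749980) q23271, e3 q22025 (flp_f L752157) q23433, e3 q22026 L737003 q20367, e3 q22027 L737014 q20368, e3 q22028 L752221 q23439, e3 q22029 L737038 q21158, e3 q22030 L737054 q21166, e3 q22031 L737070 q20760, e3 q22032 L737082 q21159, e3 q22033 L737092 q21167, e3 q22034 L752306 q23445, e3 q22035 L737114 q21033, e3 q22036 L737126 q21160, e3 q22037 L752346 q23448, e3 q22038 (flp_f L737149) q20366, e3 q22039 (flp_f L752254) q23441, e3 q22040 (flp_f L737170) q20369, e3 q22041 (flp_f L737179) q20370, e3 q22042 L737201 q20372, e3 q22043 L737215 q20409, e3 q22044 L737235 q20404, e3 q22045 L737255 q20441, e3 q22046 L737273 q21102, e3 q22047 L737291 q20383, e3 q22048 L737307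 q21348, e3 q22049 L737325 q21361, e3 q22050 L737347 q20429, e3 q22051 L737357 q21351, e3 q22052 L737376 q20392, e3 q22053 (flp_f L752466) q23455, e3 q22054 L737399 q20438, e3 q22055 (flp_f L748336) q23160, e3 q22056 L737433 q20398, e3 q22057 L737451 q21363, e3 q22058 L737473 q20437, e3 q22059 L737485 q21352, e3 q22060 L737504 q20531, e3 q22061 L737524 q20436, e3 q22062 L737542 q20430, e3 q22063 L737560 q20446, e3 q22064 L737574 q21355, e3 q22065 (flp_f L748297) q23158, e3 q22066 L737600 q20418, e3 q22067 L737612 q20439, e3 q22068 L737624 q21358, e3 q22069 (flp_f L752559) q23460, e3 q22070 (flp_f L748316) q23159, e3 q22071 L737661 q20426, e3 q22072 L737687 q21350, e3 q22073 (flp_f L752428) q23453, e3 q22074 (flp_f L752504) q23457, e3 q22075 L737717 q21357, e3 q22076 L737734 q21356, e3 q22077 (flp_f L752631) q23463, e3 q22078 L737753 q20435, e3 q22079 (flp_f L752650) q23464, trivial⟩ (by decide +kernel)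

theorem ce_f_345 : ∀ r, r < 64 → sm gf (Qf (22080 + r)) = Qf (tab Gen.f (22080 + r)) :=
  edges_tab (sm gf) Qf (tab Gen.f) 22080 [(22080, 23456), (22081, 23454), (22082, 23451), (22083, 20448), (22084, 20444), (22085, 23465), (22086, 23458), (22087, 20445), (22088, 20517), (22089, 20456), (22090, 21431), (22091, 20457), (22092, 23467), (22093, 20496), (22094, 20463), (22095, 20493), (22096, 20464), (22097, 20461), (22098, 23473), (22099, 20467), (22100, 23470), (22101, 23472), (22102, 20466), (22103, 23476), (22104, 20720), (22105, 21138), (22106, 20556), (22107, 20533), (22108, 20520), (22109, 20479), (22110, 20515), (22111, 20480), (22112, 20477), (22113, 23483), (22114, 23482), (22115, 20482), (22116, 23485), (22117, 20487), (22118, 20489), (22119, 23489), (22120, 22120), (22121, 20491), (22122, 23492), (22123, 22123), (22124, 23471), (22125, 20501), (22126, 20591), (22127, 20502), (22128, 20833), (22129, 23469), (22130, 20503), (22131, 20550), (22132, 20499), (22133, 23501), (22134, 23496), (22135, 23499), (22136, 20510),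 (22137, 20506), (22138, 23506), (22139, 21383), (22140, 21397), (22141, 23505), (22142, 20512), (22143, 21430)]
    ⟨e3 q22080 (flp_f L752485) q23456, e3 q22081 L752458 q23454, e3 q22082 (flp_f L752390) q23451, e3 q22083 L737820 q20448, e3 q22084 L737826 q20444, e3 q22085 (flp_f L752669) q23465, e3 q22086 (flp_f L752534) q23458, e3 q22087 (flp_f L737849) q20445, e3 q22088 L737875 q20517, e3 q22089 L737885 q20456, e3 q22090 L737903 q21431, e3 q22091 L737913 q20457, e3 q22092 (flp_f L752695) q23467, e3 q22093 L737951 q20496, e3 q22094 L737963 q20463, e3 q22095 L737983 q20493, e3 q22096 L737994 q20464, e3 q22097 (flp_f L738000) q20461, e3 q22098 (flp_f L752801) q23473, e3 q22099 L738036 q20467, e3 q22100 (flp_f L752747) q23470, e3 q22101 (flp_f L752781) q23472, e3 q22102 L738085 q20466, e3 q22103 (flp_f L752844) q23476, e3 q22104 L738113 q20720, e3 q22105 L738128 q21138, e3 q22106 L738153 q20556, e3 q22107 L738165 q20533, e3 q22108 L738181 q20520, e3 q22109 L738191 q20479, e3 q22110 L738207 q20515, e3 q22111 L738219 q20480,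 e3 q22112 L738237 q20477, e3 q22113 (flp_f L752957) q23483, e3 q22114 (flp_f L752937) q23482, e3 q22115 L738275 q20482, e3 q22116 (flp_f L752979) q23485, e3 q22117 L738303 q20487, e3 q22118 L738318 q20489, e3 q22119 L753040 q23489, e3 q22120 L738344 q22120, e3 q22121 (flp_f L738347) q20491, e3 q22122 (flp_f L753087) q23492, e3 q22123 L738378 q22123, e3 q22124 (flp_f L752767) q23471, e3 q22125 L738399 q20501, e3 q22126 L738423 q20591, e3 q22127 L738434 q20502, e3 q22128 L738444 q20833, e3 q22129 (flp_f L752733) q23469, e3 q22130 L738465 q20503, e3 q22131 L738485 q20550, e3 q22132 L738493 q20499, e3 q22133 (flp_f L753203) q23501, e3 q22134 (flp_f L753139) q23496, e3 q22135 (flp_f L753172) q23499, e3 q22136 L738533 q20510, e3 q22137 L738541 q20506, e3 q22138 (flp_f L753267) q23506, e3 q22139 L738560 q21383, e3 q22140 (flp_f L738582) q21397, e3 q22141 (flp_f L753257) q23505, e3 q22142 L738606 q20512, e3 q22143 L738621 q21430, trivial⟩ (by decide +kernel)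

theorem ce_f_346 : ∀ r, r < 64 → sm gf (Qf (22144 + r)) = Qf (tab Gen.f (22144 + r)) :=
  edges_tab (sm gf) Qf (tab Gen.f) 22144 [(22144, 21421), (22145, 21131), (22146, 23481), (22147, 23466), (22148, 20525), (22149, 20766), (22150, 23480), (22151, 20526), (22152, 20558), (22153, 20524), (22154, 23517), (22155, 23512), (22156, 23519), (22157, 20536), (22158, 20529), (22159, 23521), (22160, 23479), (22161, 23520), (22162, 20542), (22163, 20541), (22164, 20732), (22165, 20547), (22166, 20770), (22167, 20773), (22168, 23528), (22169, 20548), (22170, 23500), (22171, 20552), (22172, 21440), (22173, 20560), (22174, 20571), (22175, 20561), (22176, 20764), (22177, 23478), (22178, 20562), (22179, 23516), (22180, 23533), (22181, 23536), (22182, 23531), (22183, 22183), (22184, 23541), (22185, 22185), (22186, 20568), (22187, 23544), (22188, 22188), (22189, 20599), (22190, 20579), (22191, 23532), (22192, 20580), (22193, 20593), (22194, 20581), (22195, 20999), (22196, 20574), (22197, 23552), (22198, 20584), (22199, 20577), (22200, 23555),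 (22201, 23547), (22202, 23550), (22203, 20583), (22204, 23558), (22205, 23554), (22206, 20586), (22207, 23560)]
    ⟨e3 q22144 L738640 q21421, e3 q22145 L738652 q21131, e3 q22146 (flp_f L752925) q23481, e3 q22147 (flp_f L752683) q23466, e3 q22148 L738686 q20525, e3 q22149 L738702 q20766, e3 q22150 (flp_f L752913) q23480, e3 q22151 L738718 q20526, e3 q22152 L738736 q20558, e3 q22153 L738746 q20524, e3 q22154 (flp_f L753402) q23517, e3 q22155 (flp_f L753348) q23512, e3 q22156 L753414 q23519, e3 q22157 L738794 q20536, e3 q22158 L738802 q20529, e3 q22159 (flp_f L753448) q23521, e3 q22160 (flp_f L752895) q23479, e3 q22161 (flp_f L753434) q23520, e3 q22162 L738860 q20542, e3 q22163 L738873 q20541, e3 q22164 L738889 q20732, e3 q22165 L738897 q20547, e3 q22166 L738912 q20770, e3 q22167 L738924 q20773, e3 q22168 L753544 q23528, e3 q22169 (flp_f L738940) q20548, e3 q22170 (flp_f L753193) q23500, e3 q22171 L738975 q20552, e3 q22172 L738993 q21440, e3 q22173 L739003 q20560, e3 q22174 L739021 q20571, e3 q22175 L739032 q20561, e3 q22176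 L739042 q20764, e3 q22177 (flp_f L752881) q23478, e3 q22178 L739069 q20562, e3 q22179 (flp_f L753394) q23516, e3 q22180 (flp_f L753626) q23533, e3 q22181 (flp_f L753665) q23536, e3 q22182 (flp_f L753591) q23531, e3 q22183 L739134 q22183, e3 q22184 L753730 q23541, e3 q22185 L739162 q22185, e3 q22186 (flp_f L739167) q20568, e3 q22187 (flp_f L753785) q23544, e3 q22188 L739198 q22188, e3 q22189 L739219 q20599, e3 q22190 L739232 q20579, e3 q22191 (flp_f L753612) q23532, e3 q22192 L739248 q20580, e3 q22193 L739268 q20593, e3 q22194 L739279 q20581, e3 q22195 (flp_f L739294) q20999, e3 q22196 (flp_f L739296) q20574, e3 q22197 (flp_f L753900) q23552, e3 q22198 L739330 q20584, e3 q22199 L739342 q20577, e3 q22200 (flp_f L753935) q23555, e3 q22201 (flp_f L753827) q23547, e3 q22202 (flp_f L753867) q23550, e3 q22203 L739396 q20583, e3 q22204 (flp_f L753972) q23558, e3 q22205 (flp_f L753922) q23554, e3 q22206 L739433 q20586, e3 q22207 (flp_f L754003) q23560, trivial⟩ (by decide +kernel)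

theorem ce_f_347 : ∀ r, r < 64 → sm gf (Qf (22208 + r)) = Qf (tab Gen.f (22208 + r)) :=
  edges_tab (sm gf) Qf (tab Gen.f) 22208 [(22208, 21411), (22209, 20725), (22210, 21398), (22211, 23495), (22212, 23172), (22213, 23549), (22214, 20606), (22215, 20647), (22216, 20596), (22217, 23565), (22218, 20609), (22219, 23546), (22220, 20610), (22221, 20602), (22222, 23570), (22223, 20613), (22224, 20605), (22225, 23573), (22226, 20608), (22227, 23567), (22228, 23569), (22229, 20612), (22230, 23577), (22231, 23580), (22232, 20615), (22233, 23581), (22234, 20620), (22235, 21373), (22236, 21384), (22237, 20673), (22238, 20631), (22239, 20625), (22240, 23486), (22241, 20632), (22242, 23586), (22243, 23584), (22244, 23587), (22245, 20633), (22246, 23589), (22247, 22247), (22248, 20637), (22249, 23592), (22250, 22250), (22251, 23207), (22252, 22252), (22253, 23205), (22254, 20640), (22255, 23598), (22256, 22256), (22257, 20643), (22258, 23601), (22259, 23190), (22260, 21141), (22261, 20874), (22262, 23564), (22263, 20661), (22264, 20650),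 (22265, 23608), (22266, 20777), (22267, 21369), (22268, 20664), (22269, 23218), (22270, 23238), (22271, 20656)]
    ⟨e3 q22208 L739452 q21411, e3 q22209 L739474 q20725, e3 q22210 L739482 q21398, e3 q22211 (flp_f L753127) q23495, e3 q22212 (flp_f L748537) q23172, e3 q22213 (flp_f L753853) q23549, e3 q22214 L739527 q20606, e3 q22215 L739545 q20647, e3 q22216 L739559 q20596, e3 q22217 (flp_f L754071) q23565, e3 q22218 L739581 q20609, e3 q22219 (flp_f L753813) q23546, e3 q22220 L739601 q20610, e3 q22221 L739613 q20602, e3 q22222 (flp_f L754127) q23570, e3 q22223 L739629 q20613, e3 q22224 L739641 q20605, e3 q22225 (flp_f L754147) q23573, e3 q22226 L739657 q20608, e3 q22227 (flp_f L754091) q23567, e3 q22228 (flp_f L754111) q23569, e3 q22229 L739693 q20612, e3 q22230 (flp_f L754199) q23577, e3 q22231 L754240 q23580, e3 q22232 L739720 q20615, e3 q22233 (flp_f L754254) q23581, e3 q22234 L739742 q20620, e3 q22235 L739768 q21373, e3 q22236 L739774 q21384, e3 q22237 L739798 q20673, e3 q22238 L739809 q20631, e3 q22239 L739820 q20625,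 e3 q22240 (flp_f L753004) q23486, e3 q22241 L739839 q20632, e3 q22242 L754306 q23586, e3 q22243 (flp_f L754285) q23584, e3 q22244 L754317 q23587, e3 q22245 (flp_f L739881) q20633, e3 q22246 L754348 q23589, e3 q22247 L739910 q22247, e3 q22248 (flp_f L739915) q20637, e3 q22249 (flp_f L754397) q23592, e3 q22250 L739942 q22250, e3 q22251 L749087 q23207, e3 q22252 L739966 q22252, e3 q22253 L749056 q23205, e3 q22254 (flp_f L739976) q20640, e3 q22255 (flp_f L754465) q23598, e3 q22256 L739997 q22256, e3 q22257 L740009 q20643, e3 q22258 (flp_f L754492) q23601, e3 q22259 (flp_f L748831) q23190, e3 q22260 L740039 q21141, e3 q22261 L740055 q20874, e3 q22262 (flp_f L754057) q23564, e3 q22263 L740078 q20661, e3 q22264 L740090 q20650, e3 q22265 (flp_f L754581) q23608, e3 q22266 L740108 q20777, e3 q22267 L740127 q21369, e3 q22268 L740141 q20664, e3 q22269 (flp_f L749254) q23218, e3 q22270 (flp_f L749544) q23238, e3 q22271 L740171 q20656, trivial⟩ (by decide +kernel)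

theorem ce_f_348 : ∀ r, r < 64 → sm gf (Qf (22272 + r)) = Qf (tab Gen.f (22272 + r)) :=
  edges_tab (sm gf) Qf (tab Gen.f) 22272 [(22272, 23615), (22273, 20667), (22274, 21115), (22275, 20660), (22276, 23619), (22277, 23607), (22278, 20663), (22279, 23621), (22280, 23612), (22281, 20666), (22282, 23623), (22283, 23624), (22284, 20674), (22285, 20670), (22286, 23626), (22287, 20676), (22288, 23625), (22289, 20678), (22290, 23628), (22291, 20680), (22292, 23630), (22293, 23631), (22294, 20682), (22295, 23634), (22296, 20705), (22297, 20685), (22298, 23637), (22299, 21378), (22300, 21379), (22301, 20708), (22302, 20688), (22303, 23488), (22304, 23641), (22305, 20690), (22306, 23644), (22307, 20711), (22308, 20693), (22309, 20694), (22310, 23647), (22311, 23648), (22312, 21448), (22313, 20697), (22314, 23652), (22315, 23655), (22316, 21452), (22317, 21453), (22318, 20702), (22319, 23658), (22320, 20704), (22321, 23661), (22322, 20707), (22323, 20710), (22324, 23663), (22325, 23665), (22326, 20722), (22327, 20714), (22328, 23667),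 (22329, 23669), (22330, 20715), (22331, 20727), (22332, 20728), (22333, 20719), (22334, 23522), (22335, 23670)]
    ⟨e3 q22272 (flp_f L754665) q23615, e3 q22273 L740185 q20667, e3 q22274 L740200 q21115, e3 q22275 L740208 q20660, e3 q22276 (flp_f L754696) q23619, e3 q22277 (flp_f L754568) q23607, e3 q22278 L740233 q20663, e3 q22279 (flp_f L754710) q23621, e3 q22280 (flp_f L754634) q23612, e3 q22281 L740271 q20666, e3 q22282 (flp_f L754740) q23623, e3 q22283 L754748 q23624, e3 q22284 L740296 q20674, e3 q22285 L740304 q20670, e3 q22286 (flp_f L754766) q23626, e3 q22287 L740329 q20676, e3 q22288 (flp_f L754755) q23625, e3 q22289 L740346 q20678, e3 q22290 (flp_f L754778) q23628, e3 q22291 (flp_f L740358) q20680, e3 q22292 (flp_f L754799) q23630, e3 q22293 (flp_f L754816) q23631, e3 q22294 L740403 q20682, e3 q22295 (flp_f L754852) q23634, e3 q22296 L740421 q20705, e3 q22297 L740433 q20685, e3 q22298 (flp_f L754874) q23637, e3 q22299 L740449 q21378, e3 q22300 L740467 q21379, e3 q22301 L740479 q20708, e3 q22302 (flp_f L740487) q20688,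 e3 q22303 L753038 q23488, e3 q22304 (flp_f L754931) q23641, e3 q22305 L740536 q20690, e3 q22306 (flp_f L754969) q23644, e3 q22307 L740556 q20711, e3 q22308 L740571 q20693, e3 q22309 L740580 q20694, e3 q22310 (flp_f L755000) q23647, e3 q22311 (flp_f L755007) q23648, e3 q22312 L740604 q21448, e3 q22313 L740614 q20697, e3 q22314 (flp_f L755037) q23652, e3 q22315 L755051 q23655, e3 q22316 L740632 q21452, e3 q22317 L740640 q21453, e3 q22318 L740646 q20702, e3 q22319 (flp_f L755075) q23658, e3 q22320 L740662 q20704, e3 q22321 (flp_f L755095) q23661, e3 q22322 L740679 q20707, e3 q22323 L740693 q20710, e3 q22324 (flp_f L755114) q23663, e3 q22325 L755140 q23665, e3 q22326 L740730 q20722, e3 q22327 L740736 q20714, e3 q22328 (flp_f L755165) q23667, e3 q22329 L755173 q23669, e3 q22330 (flp_f L740753) q20715, e3 q22331 L740759 q20727, e3 q22332 L740767 q20728, e3 q22333 L740777 q20719, e3 q22334 (flp_f L753464) q23522, e3 q22335 (flp_f L755184) q23670, trivial⟩ (by decide +kernel)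

theorem ce_f_349 : ∀ r, r < 64 → sm gf (Qf (22336 + r)) = Qf (tab Gen.f (22336 + r)) :=
  edges_tab (sm gf) Qf (tab Gen.f) 22336 [(22336, 20724), (22337, 23666), (22338, 23487), (22339, 20734), (22340, 21467), (22341, 20733), (22342, 23524), (22343, 22343), (22344, 22344), (22345, 22345), (22346, 23583), (22347, 22347), (22348, 22348), (22349, 22349), (22350, 22350), (22351, 22351), (22352, 23673), (22353, 22353), (22354, 22354), (22355, 22355), (22356, 23688), (22357, 20749), (22358, 23315), (22359, 20761), (22360, 21079), (22361, 20762), (22362, 23316), (22363, 23442), (22364, 23691), (22365, 23534), (22366, 22366), (22367, 23513), (22368, 20769), (22369, 23696), (22370, 23526), (22371, 20772), (22372, 20902), (22373, 20775), (22374, 23699), (22375, 22375), (22376, 23610), (22377, 22377), (22378, 20780), (22379, 23703), (22380, 20782), (22381, 23705), (22382, 22382), (22383, 20785), (22384, 23707), (22385, 20788), (22386, 23709), (22387, 20790), (22388, 23711), (22389, 20792), (22390, 23293), (22391, 22391), (22392, 20796),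 (22393, 23714), (22394, 21483), (22395, 20801), (22396, 23717), (22397, 21176), (22398, 21486), (22399, 20806)]
    ⟨e3 q22336 L740806 q20724, e3 q22337 (flp_f L755156) q23666, e3 q22338 (flp_f L753021) q23487, e3 q22339 L740830 q20734, e3 q22340 L740849 q21467, e3 q22341 L740854 q20733, e3 q22342 (flp_f L753496) q23524, e3 q22343 L740873 q22343, e3 q22344 L740884 q22344, e3 q22345 L740891 q22345, e3 q22346 (flp_f L754279) q23583, e3 q22347 L740912 q22347, e3 q22348 L740927 q22348, e3 q22349 L740940 q22349, e3 q22350 L740951 q22350, e3 q22351 L740960 q22351, e3 q22352 (flp_f L755213) q23673, e3 q22353 L740983 q22353, e3 q22354 L740990 q22354, e3 q22355 L740999 q22355, e3 q22356 L755369 q23688, e3 q22357 (flp_f L741014) q20749, e3 q22358 (flp_f L750637) q23315, e3 q22359 L741035 q20761, e3 q22360 L741055 q21079, e3 q22361 L741067 q20762, e3 q22362 (flp_f L750653) q23316, e3 q22363 (flp_f L752271) q23442, e3 q22364 (flp_f L755409) q23691, e3 q22365 (flp_f L753643) q23534, e3 q22366 L741133 q22366, e3 q22367 (flp_f L753366)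 q23513, e3 q22368 L741162 q20769, e3 q22369 (flp_f L755474) q23696, e3 q22370 (flp_f L753517) q23526, e3 q22371 L741195 q20772, e3 q22372 L741206 q20902, e3 q22373 (flp_f L741208) q20775, e3 q22374 (flp_f L755509) q23699, e3 q22375 L741233 q22375, e3 q22376 (flp_f L754604) q23610, e3 q22377 L741256 q22377, e3 q22378 L741266 q20780, e3 q22379 (flp_f L755547) q23703, e3 q22380 (flp_f L741276) q20782, e3 q22381 (flp_f L755570) q23705, e3 q22382 L741309 q22382, e3 q22383 L741326 q20785, e3 q22384 (flp_f L755596) q23707, e3 q22385 L741350 q20788, e3 q22386 (flp_f L755616) q23709, e3 q22387 L741370 q20790, e3 q22388 (flp_f L755636) q23711, e3 q22389 L741394 q20792, e3 q22390 (flp_f L750298) q23293, e3 q22391 L741425 q22391, e3 q22392 L741441 q20796, e3 q22393 (flp_f L755677) q23714, e3 q22394 L741463 q21483, e3 q22395 L741475 q20801, e3 q22396 (flp_f L755707) q23717, e3 q22397 L741493 q21176, e3 q22398 L741509 q21486, e3 q22399 L741527 q20806, trivial⟩ (by decide +kernel)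

theorem ce_f_350 : ∀ r, r < 64 → sm gf (Qf (22400 + r)) = Qf (tab Gen.f (22400 + r)) :=
  edges_tab (sm gf) Qf (tab Gen.f) 22400 [(22400, 23721), (22401, 20837), (22402, 20842), (22403, 20810), (22404, 23725), (22405, 20812), (22406, 20818), (22407, 20819), (22408, 20817), (22409, 21051), (22410, 23729), (22411, 22411), (22412, 21064), (22413, 20826), (22414, 23324), (22415, 21070), (22416, 23290), (22417, 20832), (22418, 23294), (22419, 23497), (22420, 22420), (22421, 23282), (22422, 20843), (22423, 23723), (22424, 21484), (22425, 23284), (22426, 20844), (22427, 23724), (22428, 23739), (22429, 20845), (22430, 23745), (22431, 22431), (22432, 20847), (22433, 23747), (22434, 22434), (22435, 20850), (22436, 23750), (22437, 20852), (22438, 23752), (22439, 22439), (22440, 23604), (22441, 20855), (22442, 23755), (22443, 20858), (22444, 23757), (22445, 22445), (22446, 20861), (22447, 23760), (22448, 20863), (22449, 23762), (22450, 20865), (22451, 23764), (22452, 22452), (22453, 20868), (22454, 23766), (22455, 20870), (22456, 23768),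 (22457, 23588), (22458, 20872), (22459, 23771), (22460, 23605), (22461, 20876), (22462, 23774), (22463, 21253)]
    ⟨e3 q22400 (flp_f L755759) q23721, e3 q22401 L741553 q20837, e3 q22402 L741563 q20842, e3 q22403 L741569 q20810, e3 q22404 (flp_f L755803) q23725, e3 q22405 L741579 q20812, e3 q22406 L741593 q20818, e3 q22407 L741601 q20819, e3 q22408 L741609 q20817, e3 q22409 L741623 q21051, e3 q22410 (flp_f L755833) q23729, e3 q22411 L741640 q22411, e3 q22412 L741653 q21064, e3 q22413 L741661 q20826, e3 q22414 (flp_f L750766) q23324, e3 q22415 L741680 q21070, e3 q22416 (flp_f L750257) q23290, e3 q22417 L741702 q20832, e3 q22418 (flp_f L750314) q23294, e3 q22419 (flp_f L753154) q23497, e3 q22420 L741736 q22420, e3 q22421 (flp_f L750127) q23282, e3 q22422 L741759 q20843, e3 q22423 (flp_f L755789) q23723, e3 q22424 L741778 q21484, e3 q22425 (flp_f L750161) q23284, e3 q22426 L741792 q20844, e3 q22427 (flp_f L755797) q23724, e3 q22428 (flp_f L755942) q23739, e3 q22429 (flp_f L741813) q20845, e3 q22430 (flp_f L755988) q23745, e3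 q22431 L741850 q22431, e3 q22432 (flp_f L741857) q20847, e3 q22433 (flp_f L756017) q23747, e3 q22434 L741894 q22434, e3 q22435 L741906 q20850, e3 q22436 (flp_f L756055) q23750, e3 q22437 (flp_f L741916) q20852, e3 q22438 (flp_f L756078) q23752, e3 q22439 L741955 q22439, e3 q22440 (flp_f L754529) q23604, e3 q22441 L741982 q20855, e3 q22442 (flp_f L756116) q23755, e3 q22443 L742006 q20858, e3 q22444 (flp_f L756136) q23757, e3 q22445 L742027 q22445, e3 q22446 L742036 q20861, e3 q22447 (flp_f L756167) q23760, e3 q22448 L742058 q20863, e3 q22449 (flp_f L756192) q23762, e3 q22450 (flp_f L742076) q20865, e3 q22451 (flp_f L756219) q23764, e3 q22452 L742113 q22452, e3 q22453 L742127 q20868, e3 q22454 (flp_f L756244) q23766, e3 q22455 (flp_f L742141) q20870, e3 q22456 (flp_f L756265) q23768, e3 q22457 L754346 q23588, e3 q22458 L742188 q20872, e3 q22459 (flp_f L756303) q23771, e3 q22460 (flp_f L754546) q23605, e3 q22461 L742220 q20876, e3 q22462 (flp_f L756333) q23774, e3 q22463 L742234 q21253, trivial⟩ (by decide +kernel)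

theorem ce_f_351 : ∀ r, r < 64 → sm gf (Qf (22464 + r)) = Qf (tab Gen.f (22464 + r)) :=
  edges_tab (sm gf) Qf (tab Gen.f) 22464 [(22464, 23304), (22465, 23305), (22466, 20881), (22467, 20882), (22468, 23779), (22469, 23780), (22470, 20884), (22471, 23783), (22472, 20886), (22473, 23785), (22474, 22474), (22475, 20889), (22476, 23789), (22477, 22477), (22478, 20892), (22479, 23792), (22480, 20894), (22481, 23794), (22482, 20896), (22483, 23698), (22484, 22484), (22485, 20900), (22486, 23527), (22487, 23276), (22488, 22488), (22489, 22489), (22490, 22490), (22491, 22491), (22492, 22492), (22493, 23364), (22494, 21268), (22495, 21576), (22496, 22496), (22497, 20914), (22498, 23806), (22499, 22499), (22500, 21571), (22501, 20917), (22502, 23810), (22503, 23215), (22504, 22504), (22505, 21581), (22506, 20920), (22507, 23815), (22508, 22508), (22509, 20922), (22510, 21549), (22511, 23818), (22512, 21238), (22513, 20924), (22514, 23822), (22515, 22515), (22516, 21240), (22517, 20928), (22518, 23826), (22519, 23355), (22520, 22520),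 (22521, 20939), (22522, 20932), (22523, 23830), (22524, 23383), (22525, 20955), (22526, 21248), (22527, 20937)]
    ⟨e3 q22464 (flp_f L750470) q23304, e3 q22465 (flp_f L750486) q23305, e3 q22466 L742277 q20881, e3 q22467 L742290 q20882, e3 q22468 (flp_f L756392) q23779, e3 q22469 (flp_f L756401) q23780, e3 q22470 L742322 q20884, e3 q22471 (flp_f L756431) q23783, e3 q22472 L742340 q20886, e3 q22473 (flp_f L756451) q23785, e3 q22474 L742357 q22474, e3 q22475 L742368 q20889, e3 q22476 (flp_f L756482) q23789, e3 q22477 L742392 q22477, e3 q22478 L742399 q20892, e3 q22479 (flp_f L756516) q23792, e3 q22480 L742420 q20894, e3 q22481 (flp_f L756534) q23794, e3 q22482 L742442 q20896, e3 q22483 (flp_f L755498) q23698, e3 q22484 L742456 q22484, e3 q22485 L742464 q20900, e3 q22486 (flp_f L753542) q23527, e3 q22487 (flp_f L750051) q23276, e3 q22488 L742490 q22488, e3 q22489 L742505 q22489, e3 q22490 L742517 q22490, e3 q22491 L742526 q22491, e3 q22492 L742541 q22492, e3 q22493 (flp_f L751294) q23364, e3 q22494 L742570 q21268, e3 q22495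 (flp_f L742590) q21576, e3 q22496 L742600 q22496, e3 q22497 (flp_f L742605) q20914, e3 q22498 (flp_f L756671) q23806, e3 q22499 L742638 q22499, e3 q22500 L742648 q21571, e3 q22501 L742655 q20917, e3 q22502 (flp_f L756710) q23810, e3 q22503 (flp_f L749197) q23215, e3 q22504 L742685 q22504, e3 q22505 (flp_f L742704) q21581, e3 q22506 (flp_f L742708) q20920, e3 q22507 (flp_f L756770) q23815, e3 q22508 L742729 q22508, e3 q22509 (flp_f L742732) q20922, e3 q22510 L742758 q21549, e3 q22511 (flp_f L756803) q23818, e3 q22512 L742785 q21238, e3 q22513 L742792 q20924, e3 q22514 (flp_f L756849) q23822, e3 q22515 L742804 q22515, e3 q22516 L742816 q21240, e3 q22517 L742823 q20928, e3 q22518 (flp_f L756874) q23826, e3 q22519 (flp_f L751176) q23355, e3 q22520 L742851 q22520, e3 q22521 L742869 q20939, e3 q22522 L742874 q20932, e3 q22523 (flp_f L756912) q23830, e3 q22524 (flp_f L751545) q23383, e3 q22525 L742906 q20955, e3 q22526 L742928 q21248, e3 q22527 L742942 q20937, trivial⟩ (by decide +kernel)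

theorem ce_f_352 : ∀ r, r < 64 → sm gf (Qf (22528 + r)) = Qf (tab Gen.f (22528 + r)) :=
  edges_tab (sm gf) Qf (tab Gen.f) 22528 [(22528, 23834), (22529, 23331), (22530, 23829), (22531, 20941), (22532, 23838), (22533, 23393), (22534, 23394), (22535, 20946), (22536, 20947), (22537, 23842), (22538, 23843), (22539, 21582), (22540, 20950), (22541, 23847), (22542, 21585), (22543, 21586), (22544, 20954), (22545, 23851), (22546, 22546), (22547, 20958), (22548, 23855), (22549, 22549), (22550, 22550), (22551, 20962), (22552, 23858), (22553, 20971), (22554, 20972), (22555, 20966), (22556, 20973), (22557, 20974), (22558, 20970), (22559, 23712), (22560, 23866), (22561, 23861), (22562, 23863), (22563, 23864), (22564, 23359), (22565, 22565), (22566, 23396), (22567, 20995), (22568, 20981), (22569, 23872), (22570, 22570), (22571, 21000), (22572, 20985), (22573, 23876), (22574, 23347), (22575, 21025), (22576, 20988), (22577, 23879), (22578, 20990), (22579, 23880), (22580, 21028), (22581, 21289), (22582, 20993), (22583, 20994), (22584, 23883),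 (22585, 23884), (22586, 23540), (22587, 23871), (22588, 20997), (22589, 23889), (22590, 23401), (22591, 23551)]
    ⟨e3 q22528 (flp_f L756964) q23834, e3 q22529 (flp_f L750872) q23331, e3 q22530 (flp_f L756905) q23829, e3 q22531 L742980 q20941, e3 q22532 (flp_f L757004) q23838, e3 q22533 (flp_f L751663) q23393, e3 q22534 (flp_f L751679) q23394, e3 q22535 L743026 q20946, e3 q22536 L743040 q20947, e3 q22537 (flp_f L757050) q23842, e3 q22538 (flp_f L757060) q23843, e3 q22539 L743076 q21582, e3 q22540 L743088 q20950, e3 q22541 (flp_f L757108) q23847, e3 q22542 L743106 q21585, e3 q22543 L743114 q21586, e3 q22544 L743122 q20954, e3 q22545 (flp_f L757144) q23851, e3 q22546 L743142 q22546, e3 q22547 L743153 q20958, e3 q22548 (flp_f L757179) q23855, e3 q22549 L743181 q22549, e3 q22550 L743188 q22550, e3 q22551 L743195 q20962, e3 q22552 (flp_f L757212) q23858, e3 q22553 L743224 q20971, e3 q22554 L743238 q20972, e3 q22555 L743248 q20966, e3 q22556 L743258 q20973, e3 q22557 L743266 q20974, e3 q22558 L743275 q20970, e3 q22559 (flp_f L755654)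 q23712, e3 q22560 (flp_f L757303) q23866, e3 q22561 (flp_f L757250) q23861, e3 q22562 (flp_f L757272) q23863, e3 q22563 (flp_f L757281) q23864, e3 q22564 (flp_f L751240) q23359, e3 q22565 L743358 q22565, e3 q22566 (flp_f L751713) q23396, e3 q22567 L743388 q20995, e3 q22568 L743395 q20981, e3 q22569 (flp_f L757377) q23872, e3 q22570 L743415 q22570, e3 q22571 L743429 q21000, e3 q22572 L743436 q20985, e3 q22573 (flp_f L757412) q23876, e3 q22574 (flp_f L751071) q23347, e3 q22575 L743466 q21025, e3 q22576 (flp_f L743474) q20988, e3 q22577 (flp_f L757447) q23879, e3 q22578 L743515 q20990, e3 q22579 (flp_f L757461) q23880, e3 q22580 L743531 q21028, e3 q22581 L743548 q21289, e3 q22582 L743559 q20993, e3 q22583 L743572 q20994, e3 q22584 (flp_f L757491) q23883, e3 q22585 (flp_f L757500) q23884, e3 q22586 L753728 q23540, e3 q22587 (flp_f L757368) q23871, e3 q22588 L743622 q20997, e3 q22589 (flp_f L757546) q23889, e3 q22590 (flp_f L751773) q23401, e3 q22591 (flp_f L753882) q23551, trivial⟩ (by decide +kernel)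

theorem ce_f_353 : ∀ r, r < 64 → sm gf (Qf (22592 + r)) = Qf (tab Gen.f (22592 + r)) :=
  edges_tab (sm gf) Qf (tab Gen.f) 22592 [(22592, 23875), (22593, 21002), (22594, 23894), (22595, 23356), (22596, 21618), (22597, 21006), (22598, 23899), (22599, 21620), (22600, 21009), (22601, 23902), (22602, 23690), (22603, 21180), (22604, 21623), (22605, 21624), (22606, 21014), (22607, 21015), (22608, 23908), (22609, 23909), (22610, 21629), (22611, 21630), (22612, 21019), (22613, 23915), (22614, 23919), (22615, 21020), (22616, 21635), (22617, 21636), (22618, 21024), (22619, 23726), (22620, 23923), (22621, 21027), (22622, 23926), (22623, 22623), (22624, 22624), (22625, 21032), (22626, 23929), (22627, 23446), (22628, 22628), (22629, 22629), (22630, 21037), (22631, 23728), (22632, 23934), (22633, 21053), (22634, 21054), (22635, 21041), (22636, 21055), (22637, 21056), (22638, 21045), (22639, 23942), (22640, 21046), (22641, 21058), (22642, 21059), (22643, 23321), (22644, 21052), (22645, 23731), (22646, 23946), (22647, 23937), (22648, 23939),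 (22649, 23950), (22650, 23943), (22651, 22651), (22652, 22652), (22653, 23955), (22654, 21065), (22655, 21671)]
    ⟨e3 q22592 (flp_f L757406) q23875, e3 q22593 L743658 q21002, e3 q22594 (flp_f L757580) q23894, e3 q22595 (flp_f L751192) q23356, e3 q22596 L743683 q21618, e3 q22597 L743692 q21006, e3 q22598 (flp_f L757618) q23899, e3 q22599 L743712 q21620, e3 q22600 L743722 q21009, e3 q22601 (flp_f L757650) q23902, e3 q22602 (flp_f L755397) q23690, e3 q22603 L743749 q21180, e3 q22604 L743754 q21623, e3 q22605 L743763 q21624, e3 q22606 L743770 q21014, e3 q22607 L743775 q21015, e3 q22608 (flp_f L757698) q23908, e3 q22609 (flp_f L757704) q23909, e3 q22610 L743797 q21629, e3 q22611 L743807 q21630, e3 q22612 L743813 q21019, e3 q22613 (flp_f L757750) q23915, e3 q22614 L757776 q23919, e3 q22615 (flp_f L743831) q21020, e3 q22616 L743847 q21635, e3 q22617 L743853 q21636, e3 q22618 L743859 q21024, e3 q22619 (flp_f L755809) q23726, e3 q22620 (flp_f L757804) q23923, e3 q22621 L743875 q21027, e3 q22622 (flp_f L757818) q23926, e3 q22623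 L743894 q22623, e3 q22624 L743903 q22624, e3 q22625 L743908 q21032, e3 q22626 (flp_f L757844) q23929, e3 q22627 (flp_f L752323) q23446, e3 q22628 L743941 q22628, e3 q22629 L743948 q22629, e3 q22630 L743955 q21037, e3 q22631 (flp_f L755825) q23728, e3 q22632 (flp_f L757882) q23934, e3 q22633 L743985 q21053, e3 q22634 L743999 q21054, e3 q22635 L744009 q21041, e3 q22636 L744016 q21055, e3 q22637 L744022 q21056, e3 q22638 L744029 q21045, e3 q22639 L757953 q23942, e3 q22640 (flp_f L744039) q21046, e3 q22641 L744052 q21058, e3 q22642 L744060 q21059, e3 q22643 (flp_f L750719) q23321, e3 q22644 L744076 q21052, e3 q22645 (flp_f L755857) q23731, e3 q22646 (flp_f L757998) q23946, e3 q22647 (flp_f L757919) q23937, e3 q22648 (flp_f L757934) q23939, e3 q22649 L758028 q23950, e3 q22650 (flp_f L757966) q23943, e3 q22651 L744143 q22651, e3 q22652 L744151 q22652, e3 q22653 L758073 q23955, e3 q22654 L744164 q21065, e3 q22655 L744176 q21671, trivial⟩ (by decide +kernel)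

theorem ce_f_354 : ∀ r, r < 64 → sm gf (Qf (22656 + r)) = Qf (tab Gen.f (22656 + r)) :=
  edges_tab (sm gf) Qf (tab Gen.f) 22656 [(22656, 23956), (22657, 21072), (22658, 21474), (22659, 21342), (22660, 21071), (22661, 23449), (22662, 23734), (22663, 22663), (22664, 22664), (22665, 22665), (22666, 23967), (22667, 23968), (22668, 21083), (22669, 22669), (22670, 22670), (22671, 22671), (22672, 22672), (22673, 21226), (22674, 22674), (22675, 21311), (22676, 23973), (22677, 21546), (22678, 21589), (22679, 22679), (22680, 23349), (22681, 23327), (22682, 21100), (22683, 23452), (22684, 21104), (22685, 21409), (22686, 21417), (22687, 21371), (22688, 21111), (22689, 23978), (22690, 21439), (22691, 23618), (22692, 21425), (22693, 21427), (22694, 21121), (22695, 23984), (22696, 21124), (22697, 23986), (22698, 21412), (22699, 21127), (22700, 23989), (22701, 23191), (22702, 21130), (22703, 23992), (22704, 21133), (22705, 23994), (22706, 21139), (22707, 21136), (22708, 23995), (22709, 21525), (22710, 21177), (22711, 21527), (22712, 21528),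 (22713, 21529), (22714, 21537), (22715, 21538), (22716, 21161), (22717, 21541), (22718, 21162), (22719, 21544)]
    ⟨e3 q22656 (flp_f L758082) q23956, e3 q22657 L744193 q21072, e3 q22658 L744208 q21474, e3 q22659 L744219 q21342, e3 q22660 L744226 q21071, e3 q22661 (flp_f L752368) q23449, e3 q22662 (flp_f L755883) q23734, e3 q22663 L744250 q22663, e3 q22664 L744263 q22664, e3 q22665 L744274 q22665, e3 q22666 L758188 q23967, e3 q22667 L758197 q23968, e3 q22668 (flp_f L744305) q21083, e3 q22669 L744322 q22669, e3 q22670 L744339 q22670, e3 q22671 L744349 q22671, e3 q22672 L744362 q22672, e3 q22673 L744377 q21226, e3 q22674 L744388 q22674, e3 q22675 L744398 q21311, e3 q22676 L758253 q23973, e3 q22677 L744415 q21546, e3 q22678 L744427 q21589, e3 q22679 L744441 q22679, e3 q22680 (flp_f L751098) q23349, e3 q22681 L750815 q23327, e3 q22682 (flp_f L744473) q21100, e3 q22683 (flp_f L752409) q23452, e3 q22684 L744503 q21104, e3 q22685 L744520 q21409, e3 q22686 L744532 q21417, e3 q22687 L744546 q21371, e3 q22688 L744560 q21111, e3 q22689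 (flp_f L758317) q23978, e3 q22690 L744578 q21439, e3 q22691 (flp_f L754688) q23618, e3 q22692 L744602 q21425, e3 q22693 L744612 q21427, e3 q22694 L744630 q21121, e3 q22695 (flp_f L758383) q23984, e3 q22696 L744655 q21124, e3 q22697 (flp_f L758408) q23986, e3 q22698 L744683 q21412, e3 q22699 L744693 q21127, e3 q22700 (flp_f L758442) q23989, e3 q22701 (flp_f L748847) q23191, e3 q22702 L744715 q21130, e3 q22703 (flp_f L758464) q23992, e3 q22704 L744733 q21133, e3 q22705 (flp_f L758482) q23994, e3 q22706 L744754 q21139, e3 q22707 L744762 q21136, e3 q22708 (flp_f L758491) q23995, e3 q22709 L744786 q21525, e3 q22710 L744796 q21177, e3 q22711 L744810 q21527, e3 q22712 L744824 q21528, e3 q22713 L744836 q21529, e3 q22714 L744848 q21537, e3 q22715 L744864 q21538, e3 q22716 L744876 q21161, e3 q22717 L744890 q21541, e3 q22718 L744896 q21162, e3 q22719 L744904 q21544, trivial⟩ (by decide +kernel)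

theorem ce_f_355 : ∀ r, r < 64 → sm gf (Qf (22720 + r)) = Qf (tab Gen.f (22720 + r)) :=
  edges_tab (sm gf) Qf (tab Gen.f) 22720 [(22720, 23862), (22721, 21545), (22722, 23440), (22723, 23443), (22724, 23435), (22725, 21165), (22726, 21168), (22727, 21481), (22728, 21482), (22729, 23242), (22730, 23243), (22731, 21178), (22732, 23719), (22733, 23998), (22734, 23596), (22735, 22735), (22736, 23905), (22737, 22737), (22738, 21183), (22739, 24020), (22740, 23216), (22741, 21203), (22742, 21187), (22743, 24024), (22744, 21189), (22745, 24026), (22746, 21206), (22747, 21192), (22748, 24029), (22749, 23222), (22750, 23223), (22751, 21208), (22752, 21197), (22753, 24034), (22754, 21199), (22755, 24036), (22756, 24039), (22757, 21202), (22758, 24040), (22759, 24023), (22760, 21205), (22761, 24043), (22762, 24044), (22763, 24045), (22764, 21210), (22765, 21211), (22766, 22766), (22767, 22767), (22768, 21227), (22769, 22769), (22770, 22770), (22771, 24052), (22772, 22772), (22773, 22773), (22774, 24056), (22775, 22775), (22776, 24058),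 (22777, 21225), (22778, 24059), (22779, 21228), (22780, 21229), (22781, 21329), (22782, 21564), (22783, 21590)]
    ⟨e3 q22720 (flp_f L757268) q23862, e3 q22721 L744920 q21545, e3 q22722 (flp_f L752240) q23440, e3 q22723 (flp_f L752283) q23443, e3 q22724 (flp_f L752190) q23435, e3 q22725 (flp_f L744953) q21165, e3 q22726 (flp_f L744962) q21168, e3 q22727 L744981 q21481, e3 q22728 L744993 q21482, e3 q22729 (flp_f L749602) q23242, e3 q22730 (flp_f L749618) q23243, e3 q22731 L745018 q21178, e3 q22732 (flp_f L755723) q23719, e3 q22733 (flp_f L758525) q23998, e3 q22734 (flp_f L754443) q23596, e3 q22735 L745065 q22735, e3 q22736 (flp_f L757677) q23905, e3 q22737 L745090 q22737, e3 q22738 L745100 q21183, e3 q22739 (flp_f L758757) q24020, e3 q22740 (flp_f L749218) q23216, e3 q22741 L745122 q21203, e3 q22742 (flp_f L745126) q21187, e3 q22743 (flp_f L758794) q24024, e3 q22744 L745159 q21189, e3 q22745 (flp_f L758818) q24026, e3 q22746 L745177 q21206, e3 q22747 L745193 q21192, e3 q22748 (flp_f L758846) q24029, e3 q22749 (flp_f L749310)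 q23222, e3 q22750 (flp_f L749324) q23223, e3 q22751 L745229 q21208, e3 q22752 L745244 q21197, e3 q22753 (flp_f L758893) q24034, e3 q22754 L745266 q21199, e3 q22755 (flp_f L758909) q24036, e3 q22756 L758923 q24039, e3 q22757 L745286 q21202, e3 q22758 (flp_f L758939) q24040, e3 q22759 (flp_f L758779) q24023, e3 q22760 L745311 q21205, e3 q22761 (flp_f L758962) q24043, e3 q22762 L758971 q24044, e3 q22763 L758981 q24045, e3 q22764 L745354 q21210, e3 q22765 (flp_f L745359) q21211, e3 q22766 L745376 q22766, e3 q22767 L745386 q22767, e3 q22768 L745398 q21227, e3 q22769 L745409 q22769, e3 q22770 L745418 q22770, e3 q22771 L759056 q24052, e3 q22772 L745439 q22772, e3 q22773 L745446 q22773, e3 q22774 L759092 q24056, e3 q22775 L745461 q22775, e3 q22776 L759111 q24058, e3 q22777 (flp_f L745475) q21225, e3 q22778 L759119 q24059, e3 q22779 (flp_f L745497) q21228, e3 q22780 (flp_f L745507) q21229, e3 q22781 L745526 q21329, e3 q22782 L745538 q21564, e3 q22783 L745548 q21590, trivial⟩ (by decide +kernel)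

theorem ce_f_356 : ∀ r, r < 64 → sm gf (Qf (22784 + r)) = Qf (tab Gen.f (22784 + r)) :=
  edges_tab (sm gf) Qf (tab Gen.f) 22784 [(22784, 21566), (22785, 21567), (22786, 21591), (22787, 21568), (22788, 23325), (22789, 23821), (22790, 22790), (22791, 23825), (22792, 21551), (22793, 21552), (22794, 21261), (22795, 21554), (22796, 21555), (22797, 21556), (22798, 21262), (22799, 21558), (22800, 23833), (22801, 21250), (22802, 24081), (22803, 21265), (22804, 21254), (22805, 23776), (22806, 24084), (22807, 21256), (22808, 24087), (22809, 23941), (22810, 23365), (22811, 21260), (22812, 24091), (22813, 24074), (22814, 21264), (22815, 21270), (22816, 24093), (22817, 22817), (22818, 21273), (22819, 24096), (22820, 21275), (22821, 24098), (22822, 21314), (22823, 21278), (22824, 21279), (22825, 24101), (22826, 24102), (22827, 21281), (22828, 24105), (22829, 24108), (22830, 21284), (22831, 24109), (22832, 21286), (22833, 24111), (22834, 21290), (22835, 23882), (22836, 24113), (22837, 21569), (22838, 21293), (22839, 24117), (22840, 23945),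 (22841, 21530), (22842, 21298), (22843, 21299), (22844, 24121), (22845, 24122), (22846, 23403), (22847, 23404)]
    ⟨e3 q22784 L745561 q21566, e3 q22785 L745571 q21567, e3 q22786 L745579 q21591, e3 q22787 L745590 q21568, e3 q22788 L750784 q23325, e3 q22789 (flp_f L756840) q23821, e3 q22790 L745617 q22790, e3 q22791 (flp_f L756866) q23825, e3 q22792 L745636 q21551, e3 q22793 L745649 q21552, e3 q22794 L745659 q21261, e3 q22795 L745670 q21554, e3 q22796 L745683 q21555, e3 q22797 L745693 q21556, e3 q22798 L745701 q21262, e3 q22799 L745712 q21558, e3 q22800 (flp_f L756950) q23833, e3 q22801 L745737 q21250, e3 q22802 (flp_f L759350) q24081, e3 q22803 L745757 q21265, e3 q22804 L745770 q21254, e3 q22805 (flp_f L756353) q23776, e3 q22806 (flp_f L759377) q24084, e3 q22807 L745788 q21256, e3 q22808 (flp_f L759392) q24087, e3 q22809 (flp_f L757951) q23941, e3 q22810 (flp_f L751310) q23365, e3 q22811 L745819 q21260, e3 q22812 (flp_f L759424) q24091, e3 q22813 (flp_f L759281) q24074, e3 q22814 L745851 q21264, e3 q22815 L745864 q21270,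 e3 q22816 (flp_f L759443) q24093, e3 q22817 L745876 q22817, e3 q22818 L745888 q21273, e3 q22819 (flp_f L759461) q24096, e3 q22820 L745904 q21275, e3 q22821 (flp_f L759475) q24098, e3 q22822 L745922 q21314, e3 q22823 L745935 q21278, e3 q22824 L745948 q21279, e3 q22825 (flp_f L759504) q24101, e3 q22826 (flp_f L759513) q24102, e3 q22827 L745970 q21281, e3 q22828 (flp_f L759533) q24105, e3 q22829 L759551 q24108, e3 q22830 L745990 q21284, e3 q22831 (flp_f L759561) q24109, e3 q22832 L746012 q21286, e3 q22833 (flp_f L759585) q24111, e3 q22834 L746031 q21290, e3 q22835 (flp_f L757478) q23882, e3 q22836 (flp_f L759600) q24113, e3 q22837 L746055 q21569, e3 q22838 L746067 q21293, e3 q22839 (flp_f L759636) q24117, e3 q22840 (flp_f L757992) q23945, e3 q22841 L746088 q21530, e3 q22842 L746095 q21298, e3 q22843 L746100 q21299, e3 q22844 (flp_f L759662) q24121, e3 q22845 (flp_f L759668) q24122, e3 q22846 (flp_f L751805) q23403, e3 q22847 (flp_f L751821) q23404, trivial⟩ (by decide +kernel)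

theorem ce_f_357 : ∀ r, r < 64 → sm gf (Qf (22848 + r)) = Qf (tab Gen.f (22848 + r)) :=
  edges_tab (sm gf) Qf (tab Gen.f) 22848 [(22848, 21303), (22849, 24128), (22850, 24132), (22851, 21304), (22852, 23409), (22853, 23410), (22854, 21308), (22855, 24135), (22856, 21310), (22857, 24137), (22858, 21313), (22859, 24139), (22860, 21316), (22861, 21317), (22862, 21319), (22863, 24142), (22864, 21330), (22865, 21322), (22866, 21331), (22867, 21332), (22868, 23867), (22869, 24061), (22870, 24144), (22871, 24146), (22872, 23959), (22873, 22873), (22874, 22874), (22875, 24149), (22876, 21338), (22877, 22877), (22878, 22878), (22879, 23960), (22880, 22880), (22881, 24154), (22882, 21345), (22883, 22883), (22884, 23461), (22885, 23462), (22886, 23459), (22887, 21353), (22888, 21385), (22889, 21381), (22890, 23611), (22891, 21372), (22892, 23977), (22893, 24160), (22894, 21376), (22895, 24162), (22896, 21377), (22897, 23285), (22898, 23639), (22899, 23640), (22900, 21382), (22901, 24156), (22902, 24168), (22903, 24155), (22904, 21387),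 (22905, 21388), (22906, 24170), (22907, 24171), (22908, 21390), (22909, 24174), (22910, 24177), (22911, 21393)]
    ⟨e3 q22848 L746130 q21303, e3 q22849 (flp_f L759700) q24128, e3 q22850 L759716 q24132, e3 q22851 (flp_f L746140) q21304, e3 q22852 (flp_f L751865) q23409, e3 q22853 (flp_f L751873) q23410, e3 q22854 L746162 q21308, e3 q22855 (flp_f L759732) q24135, e3 q22856 L746177 q21310, e3 q22857 (flp_f L759748) q24137, e3 q22858 L746202 q21313, e3 q22859 (flp_f L759770) q24139, e3 q22860 L746220 q21316, e3 q22861 (flp_f L746227) q21317, e3 q22862 L746241 q21319, e3 q22863 (flp_f L759795) q24142, e3 q22864 L746266 q21330, e3 q22865 L746276 q21322, e3 q22866 L746283 q21331, e3 q22867 L746289 q21332, e3 q22868 (flp_f L757319) q23867, e3 q22869 (flp_f L759148) q24061, e3 q22870 (flp_f L759809) q24144, e3 q22871 L759819 q24146, e3 q22872 (flp_f L758115) q23959, e3 q22873 L746336 q22873, e3 q22874 L746343 q22874, e3 q22875 L759839 q24149, e3 q22876 (flp_f L746355) q21338, e3 q22877 L746366 q22877, e3 q22878 L746373 q22878, e3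 q22879 (flp_f L758121) q23960, e3 q22880 L746385 q22880, e3 q22881 L759871 q24154, e3 q22882 (flp_f L746393) q21345, e3 q22883 L746403 q22883, e3 q22884 (flp_f L752593) q23461, e3 q22885 (flp_f L752599) q23462, e3 q22886 (flp_f L752542) q23459, e3 q22887 (flp_f L746430) q21353, e3 q22888 L746446 q21385, e3 q22889 L746460 q21381, e3 q22890 (flp_f L754620) q23611, e3 q22891 L746478 q21372, e3 q22892 (flp_f L758301) q23977, e3 q22893 L759928 q24160, e3 q22894 L746508 q21376, e3 q22895 L759945 q24162, e3 q22896 (flp_f L746520) q21377, e3 q22897 L750183 q23285, e3 q22898 (flp_f L754898) q23639, e3 q22899 (flp_f L754912) q23640, e3 q22900 L746550 q21382, e3 q22901 (flp_f L759898) q24156, e3 q22902 L759981 q24168, e3 q22903 (flp_f L759882) q24155, e3 q22904 L746585 q21387, e3 q22905 L746596 q21388, e3 q22906 (flp_f L760001) q24170, e3 q22907 (flp_f L760010) q24171, e3 q22908 L746618 q21390, e3 q22909 (flp_f L760028) q24174, e3 q22910 L760038 q24177, e3 q22911 L746632 q21393, trivial⟩ (by decide +kernel)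

theorem ce_f_358 : ∀ r, r < 64 → sm gf (Qf (22912 + r)) = Qf (tab Gen.f (22912 + r)) :=
  edges_tab (sm gf) Qf (tab Gen.f) 22912 [(22912, 24178), (22913, 21395), (22914, 24181), (22915, 21396), (22916, 24182), (22917, 22917), (22918, 22918), (22919, 24185), (22920, 21403), (22921, 21405), (22922, 21612), (22923, 23182), (22924, 21410), (22925, 23975), (22926, 23988), (22927, 23189), (22928, 23188), (22929, 24195), (22930, 23976), (22931, 21418), (22932, 21419), (22933, 23509), (22934, 21428), (22935, 23213), (22936, 23234), (22937, 23982), (22938, 24203), (22939, 23983), (22940, 24205), (22941, 21429), (22942, 23468), (22943, 21459), (22944, 21434), (22945, 24208), (22946, 23180), (22947, 21456), (22948, 23181), (22949, 23671), (22950, 23980), (22951, 23530), (22952, 21457), (22953, 23292), (22954, 21444), (22955, 24218), (22956, 24221), (22957, 23303), (22958, 23312), (22959, 23651), (22960, 21450), (22961, 24226), (22962, 24230), (22963, 21451), (22964, 23656), (22965, 23657), (22966, 21455), (22967, 24233), (22968, 21460),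 (22969, 21464), (22970, 23523), (22971, 23199), (22972, 23525), (22973, 21676), (22974, 23434), (22975, 21471)]
    ⟨e3 q22912 (flp_f L760048) q24178, e3 q22913 L746644 q21395, e3 q22914 L760061 q24181, e3 q22915 (flp_f L746654) q21396, e3 q22916 (flp_f L760072) q24182, e3 q22917 L746670 q22917, e3 q22918 L746677 q22918, e3 q22919 L760086 q24185, e3 q22920 (flp_f L746685) q21403, e3 q22921 L746698 q21405, e3 q22922 L746707 q21612, e3 q22923 (flp_f L748703) q23182, e3 q22924 L746725 q21410, e3 q22925 (flp_f L758275) q23975, e3 q22926 (flp_f L758434) q23988, e3 q22927 (flp_f L748807) q23189, e3 q22928 (flp_f L748795) q23188, e3 q22929 L760155 q24195, e3 q22930 (flp_f L758291) q23976, e3 q22931 (flp_f L746768) q21418, e3 q22932 (flp_f L746774) q21419, e3 q22933 (flp_f L753314) q23509, e3 q22934 L746793 q21428, e3 q22935 (flp_f L749168) q23213, e3 q22936 (flp_f L749482) q23234, e3 q22937 (flp_f L758359) q23982, e3 q22938 L760201 q24203, e3 q22939 (flp_f L758367) q23983, e3 q22940 L760212 q24205, e3 q22941 (flp_f L746828) q21429,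 e3 q22942 (flp_f L752715) q23468, e3 q22943 L746843 q21459, e3 q22944 L746853 q21434, e3 q22945 (flp_f L760233) q24208, e3 q22946 (flp_f L748669) q23180, e3 q22947 L746873 q21456, e3 q22948 (flp_f L748681) q23181, e3 q22949 (flp_f L755194) q23671, e3 q22950 (flp_f L758337) q23980, e3 q22951 (flp_f L753581) q23530, e3 q22952 L746905 q21457, e3 q22953 (flp_f L750283) q23292, e3 q22954 L746921 q21444, e3 q22955 (flp_f L760295) q24218, e3 q22956 L760305 q24221, e3 q22957 (flp_f L750453) q23303, e3 q22958 (flp_f L750587) q23312, e3 q22959 (flp_f L755031) q23651, e3 q22960 L746955 q21450, e3 q22961 (flp_f L760335) q24226, e3 q22962 L760355 q24230, e3 q22963 (flp_f L746965) q21451, e3 q22964 (flp_f L755061) q23656, e3 q22965 (flp_f L755067) q23657, e3 q22966 L746985 q21455, e3 q22967 (flp_f L760373) q24233, e3 q22968 (flp_f L746993) q21460, e3 q22969 L747003 q21464, e3 q22970 (flp_f L753481) q23523, e3 q22971 (flp_f L748962) q23199, e3 q22972 (flp_f L753511) q23525, e3 q22973 L747028 q21676, e3 q22974 (flp_f L752177) q23434, e3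 q22975 (flp_f L747039) q21471, trivial⟩ (by decide +kernel)

theorem ce_f_359 : ∀ r, r < 64 → sm gf (Qf (22976 + r)) = Qf (tab Gen.f (22976 + r)) :=
  edges_tab (sm gf) Qf (tab Gen.f) 22976 [(22976, 21677), (22977, 23944), (22978, 23674), (22979, 21479), (22980, 24237), (22981, 24010), (22982, 24011), (22983, 23716), (22984, 23741), (22985, 23720), (22986, 21488), (22987, 24244), (22988, 21490), (22989, 24246), (22990, 21502), (22991, 21494), (22992, 24249), (22993, 21496), (22994, 24251), (22995, 21499), (22996, 24253), (22997, 21501), (22998, 24255), (22999, 24248), (23000, 21504), (23001, 24258), (23002, 21506), (23003, 24260), (23004, 21508), (23005, 24262), (23006, 21510), (23007, 24264), (23008, 21512), (23009, 24266), (23010, 21514), (23011, 24269), (23012, 21516), (23013, 24271), (23014, 21518), (23015, 21521), (23016, 23763), (23017, 23997), (23018, 21699), (23019, 23999), (23020, 24000), (23021, 24001), (23022, 24120), (23023, 21533), (23024, 24280), (23025, 23397), (23026, 23402), (23027, 24002), (23028, 24003),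 (23029, 23385), (23030, 24004), (23031, 23350), (23032, 23387), (23033, 24006), (23034, 24008), (23035, 23819), (23036, 21655), (23037, 24072), (23038, 24073), (23039, 21700)]
    ⟨e3 q22976 L747048 q21677, e3 q22977 (flp_f L757980) q23944, e3 q22978 (flp_f L755222) q23674, e3 q22979 L747067 q21479, e3 q22980 (flp_f L760397) q24237, e3 q22981 (flp_f L758656) q24010, e3 q22982 (flp_f L758672) q24011, e3 q22983 (flp_f L755695) q23716, e3 q22984 (flp_f L755958) q23741, e3 q22985 (flp_f L755741) q23720, e3 q22986 L747117 q21488, e3 q22987 (flp_f L760443) q24244, e3 q22988 L747132 q21490, e3 q22989 (flp_f L760458) q24246, e3 q22990 L747147 q21502, e3 q22991 L747154 q21494, e3 q22992 (flp_f L760477) q24249, e3 q22993 L747170 q21496, e3 q22994 (flp_f L760493) q24251, e3 q22995 L747187 q21499, e3 q22996 (flp_f L760506) q24253, e3 q22997 L747203 q21501, e3 q22998 (flp_f L760518) q24255, e3 q22999 (flp_f L760469) q24248, e3 q23000 L747225 q21504, e3 q23001 (flp_f L760538) q24258, e3 q23002 L747244 q21506, e3 q23003 (flp_f L760555)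 q24260, e3 q23004 L747266 q21508, e3 q23005 (flp_f L760575) q24262, e3 q23006 L747275 q21510, e3 q23007 (flp_f L760581) q24264, e3 q23008 L747283 q21512, e3 q23009 (flp_f L760591) q24266, e3 q23010 L747291 q21514, e3 q23011 (flp_f L760605) q24269, e3 q23012 L747303 q21516, e3 q23013 (flp_f L760617) q24271, e3 q23014 L747317 q21518, e3 q23015 L747326 q21521, e3 q23016 (flp_f L756206) q23763, e3 q23017 (flp_f L758515) q23997, e3 q23018 L747344 q21699, e3 q23019 (flp_f L758540) q23999, e3 q23020 (flp_f L758556) q24000, e3 q23021 (flp_f L758572) q24001, e3 q23022 (flp_f L759655) q24120, e3 q23023 L747383 q21533, e3 q23024 (flp_f L760670) q24280, e3 q23025 (flp_f L751727) q23397, e3 q23026 (flp_f L751785) q23402, e3 q23027 (flp_f L758582) q24002, e3 q23028 (flp_f L758596) q24003, e3 q23029 (flp_f L751575) q23385, e3 q23030 (flp_f L758606) q24004, e3 q23031 (flp_f L751110) q23350, e3 q23032 (flp_f L751593) q23387, e3 q23033 (flp_f L758618) q24006, e3 q23034 (flp_f L758632) q24008, e3 q23035 (flp_f L756817) q23819, e3 q23036 L747467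 q21655, e3 q23037 (flp_f L759259) q24072, e3 q23038 (flp_f L759271) q24073, e3 q23039 L747489 q21700, trivial⟩ (by decide +kernel)

theorem ce_f_360 : ∀ r, r < 64 → sm gf (Qf (23040 + r)) = Qf (tab Gen.f (23040 + r)) :=
  edges_tab (sm gf) Qf (tab Gen.f) 23040 [(23040, 24075), (23041, 24076), (23042, 24077), (23043, 23935), (23044, 24079), (23045, 21560), (23046, 24303), (23047, 21563), (23048, 24305), (23049, 24062), (23050, 24064), (23051, 24065), (23052, 24067), (23053, 24116), (23054, 23809), (23055, 21573), (23056, 24313), (23057, 21575), (23058, 24315), (23059, 23334), (23060, 23804), (23061, 21579), (23062, 21580), (23063, 24319), (23064, 24320), (23065, 23814), (23066, 23846), (23067, 21584), (23068, 24325), (23069, 23849), (23070, 23850), (23071, 21588), (23072, 24330), (23073, 24063), (23074, 21593), (23075, 24333), (23076, 21599), (23077, 21600), (23078, 23795), (23079, 24335), (23080, 21602), (23081, 24337), (23082, 21613), (23083, 21605), (23084, 24340), (23085, 21607), (23086, 24343), (23087, 23313), (23088,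 21610), (23089, 24346), (23090, 24350), (23091, 21611), (23092, 24187), (23093, 24339), (23094, 21615), (23095, 24354), (23096, 21617), (23097, 24356), (23098, 23898), (23099, 23901), (23100, 21622), (23101, 24359), (23102, 23906), (23103, 23907)]
    ⟨e3 q23040 (flp_f L759297) q24075, e3 q23041 (flp_f L759306) q24076, e3 q23042 (flp_f L759312) q24077, e3 q23043 (flp_f L757896) q23935, e3 q23044 (flp_f L759327) q24079, e3 q23045 L747520 q21560, e3 q23046 (flp_f L760803) q24303, e3 q23047 L747535 q21563, e3 q23048 (flp_f L760815) q24305, e3 q23049 (flp_f L759162) q24062, e3 q23050 (flp_f L759184) q24064, e3 q23051 (flp_f L759190) q24065, e3 q23052 (flp_f L759205) q24067, e3 q23053 (flp_f L759626) q24116, e3 q23054 (flp_f L756703) q23809, e3 q23055 L747594 q21573, e3 q23056 (flp_f L760872) q24313, e3 q23057 L747608 q21575, e3 q23058 (flp_f L760884) q24315, e3 q23059 L750917 q23334, e3 q23060 (flp_f L756643) q23804, e3 q23061 L747637 q21579, e3 q23062 L747642 q21580, e3 q23063 (flp_f L760907) q24319, e3 q23064 (flp_f L760913)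 q24320, e3 q23065 (flp_f L756757) q23814, e3 q23066 (flp_f L757098) q23846, e3 q23067 L747674 q21584, e3 q23068 (flp_f L760945) q24325, e3 q23069 (flp_f L757128) q23849, e3 q23070 (flp_f L757136) q23850, e3 q23071 L747700 q21588, e3 q23072 (flp_f L760977) q24330, e3 q23073 (flp_f L759172) q24063, e3 q23074 L747724 q21593, e3 q23075 (flp_f L760999) q24333, e3 q23076 L747742 q21599, e3 q23077 L747750 q21600, e3 q23078 (flp_f L756548) q23795, e3 q23079 (flp_f L761013) q24335, e3 q23080 L747777 q21602, e3 q23081 (flp_f L761031) q24337, e3 q23082 L747786 q21613, e3 q23083 L747792 q21605, e3 q23084 (flp_f L761047) q24340, e3 q23085 L747804 q21607, e3 q23086 (flp_f L761060) q24343, e3 q23087 (flp_f L750601) q23313, e3 q23088 L747830 q21610, e3 q23089 (flp_f L761084) q24346, e3 q23090 L761110 q24350, e3 q23091 (flp_f L747850) q21611, e3 q23092 (flp_f L760104) q24187, e3 q23093 (flp_f L761041) q24339, e3 q23094 L747874 q21615, e3 q23095 (flp_f L761140) q24354, e3 q23096 L747888 q21617, e3 q23097 (flp_f L761152) q24356, e3 q23098 (flp_f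 L757609) q23898, e3 q23099 (flp_f L757640) q23901, e3 q23100 L747916 q21622, e3 q23101 (flp_f L761166) q24359, e3 q23102 (flp_f L757684) q23906, e3 q23103 (flp_f L757691) q23907, trivial⟩ (by decide +kernel)

theorem ce_f_361 : ∀ r, r < 64 → sm gf (Qf (23104 + r)) = Qf (tab Gen.f (23104 + r)) :=
  edges_tab (sm gf) Qf (tab Gen.f) 23104 [(23104, 21627), (23105, 21628), (23106, 24364), (23107, 24365), (23108, 23913), (23109, 23914), (23110, 21632), (23111, 24374), (23112, 24372), (23113, 24377), (23114, 21633), (23115, 23920), (23116, 23921), (23117, 21638), (23118, 24380), (23119, 21640), (23120, 21642), (23121, 24381), (23122, 24383), (23123, 21644), (23124, 23124), (23125, 21656), (23126, 21650), (23127, 23314), (23128, 21657), (23129, 24386), (23130, 21653), (23131, 24293), (23132, 23799), (23133, 23133), (23134, 23134), (23135, 23135), (23136, 21690), (23137, 23137), (23138, 23138), (23139, 21701), (23140, 23957), (23141, 23141), (23142, 23142), (23143, 23958), (23144, 23144), (23145, 23145), (23146, 21693), (23147, 23147),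 (23148, 23148), (23149, 21686), (23150, 24382), (23151, 24400), (23152, 24401), (23153, 21689), (23154, 21691), (23155, 23961), (23156, 21697), (23157, 24296), (23158, 22065), (23159, 22070), (23160, 22055), (23161, 21714), (23162, 24402), (23163, 21717), (23164, 24404), (23165, 21720), (23166, 24405), (23167, 21723)]
    ⟨e3 q23104 L747936 q21627, e3 q23105 L747942 q21628, e3 q23106 (flp_f L761194) q24364, e3 q23107 (flp_f L761200) q24365, e3 q23108 (flp_f L757738) q23913, e3 q23109 (flp_f L757744) q23914, e3 q23110 L747968 q21632, e3 q23111 L761244 q24374, e3 q23112 (flp_f L761238) q24372, e3 q23113 L761258 q24377, e3 q23114 (flp_f L747984) q21633, e3 q23115 (flp_f L757786) q23920, e3 q23116 (flp_f L757792) q23921, e3 q23117 L747998 q21638, e3 q23118 (flp_f L761272) q24380, e3 q23119 L748006 q21640, e3 q23120 L748014 q21642, e3 q23121 (flp_f L761276) q24381, e3 q23122 L761292 q24383, e3 q23123 (flp_f L748035) q21644, e3 q23124 L748051 q23124, e3 q23125 L748056 q21656, e3 q23126 L748064 q21650, e3 q23127 (flp_f L750623)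 q23314, e3 q23128 L748076 q21657, e3 q23129 (flp_f L761325) q24386, e3 q23130 (flp_f L748090) q21653, e3 q23131 (flp_f L760746) q24293, e3 q23132 (flp_f L756583) q23799, e3 q23133 L748121 q23133, e3 q23134 L748131 q23134, e3 q23135 L748136 q23135, e3 q23136 L748146 q21690, e3 q23137 L748155 q23137, e3 q23138 L748160 q23138, e3 q23139 L748164 q21701, e3 q23140 (flp_f L758096) q23957, e3 q23141 L748177 q23141, e3 q23142 L748182 q23142, e3 q23143 (flp_f L758100) q23958, e3 q23144 L748194 q23144, e3 q23145 L748199 q23145, e3 q23146 L748212 q21693, e3 q23147 L748216 q23147, e3 q23148 L748223 q23148, e3 q23149 L748230 q21686, e3 q23150 (flp_f L761290) q24382, e3 q23151 L761412 q24400, e3 q23152 L761418 q24401, e3 q23153 (flp_f L748253) q21689, e3 q23154 (flp_f L748264) q21691, e3 q23155 (flp_f L758138) q23961, e3 q23156 L748284 q21697, e3 q23157 (flp_f L760764) q24296, e3 q23158 L748297 q22065, e3 q23159 L748316 q22070, e3 q23160 L748336 q22055, e3 q23161 L748362 q21714, e3 q23162 (flp_f L761437) q24402, e3 q23163 L748392 q21717,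 e3 q23164 (flp_f L761467) q24404, e3 q23165 L748429 q21720, e3 q23166 (flp_f L761488) q24405, e3 q23167 L748463 q21723, trivial⟩ (by decide +kernel)

theorem ce_f_362 : ∀ r, r < 64 → sm gf (Qf (23168 + r)) = Qf (tab Gen.f (23168 + r)) :=
  edges_tab (sm gf) Qf (tab Gen.f) 23168 [(23168, 24407), (23169, 21726), (23170, 24409), (23171, 21728), (23172, 22212), (23173, 21731), (23174, 24411), (23175, 21734), (23176, 21736), (23177, 24412), (23178, 21741), (23179, 21772), (23180, 22946), (23181, 22948), (23182, 22923), (23183, 21750), (23184, 24418), (23185, 21754), (23186, 21753), (23187, 24420), (23188, 22928), (23189, 22927), (23190, 22259), (23191, 22701), (23192, 21761), (23193, 24426), (23194, 21767), (23195, 21768), (23196, 21765), (23197, 24413), (23198, 24430), (23199, 22971), (23200, 21773), (23201, 24414), (23202, 21774), (23203, 24434), (23204, 23204), (23205, 22253), (23206, 23206), (23207, 22251), (23208, 21777), (23209, 24439), (23210, 23210), (23211, 21780), (23212, 24442), (23213, 22935), (23214, 23214), (23215,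 22503), (23216, 22740), (23217, 21794), (23218, 22269), (23219, 21787), (23220, 24449), (23221, 21916), (23222, 22749), (23223, 22750), (23224, 21798), (23225, 21793), (23226, 24455), (23227, 24447), (23228, 23228), (23229, 21797), (23230, 24459), (23231, 24461)]
    ⟨e3 q23168 (flp_f L761522) q24407, e3 q23169 L748493 q21726, e3 q23170 (flp_f L761552) q24409, e3 q23171 L748517 q21728, e3 q23172 L748537 q22212, e3 q23173 L748558 q21731, e3 q23174 (flp_f L761578) q24411, e3 q23175 L748588 q21734, e3 q23176 L748604 q21736, e3 q23177 (flp_f L761592) q24412, e3 q23178 L748634 q21741, e3 q23179 L748657 q21772, e3 q23180 L748669 q22946, e3 q23181 L748681 q22948, e3 q23182 L748703 q22923, e3 q23183 L748721 q21750, e3 q23184 (flp_f L761695) q24418, e3 q23185 L748751 q21754, e3 q23186 L748763 q21753, e3 q23187 (flp_f L761723) q24420, e3 q23188 L748795 q22928, e3 q23189 L748807 q22927, e3 q23190 L748831 q22259, e3 q23191 L748847 q22701, e3 q23192 L748859 q21761, e3 q23193 (flp_f L761813) q24426, e3 q23194 L748879 q21767, e3 q23195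 L748893 q21768, e3 q23196 L748907 q21765, e3 q23197 (flp_f L761618) q24413, e3 q23198 (flp_f L761861) q24430, e3 q23199 L748962 q22971, e3 q23200 L748968 q21773, e3 q23201 (flp_f L761633) q24414, e3 q23202 (flp_f L748990) q21774, e3 q23203 (flp_f L761932) q24434, e3 q23204 L749031 q23204, e3 q23205 (flp_f L749056) q22253, e3 q23206 L749067 q23206, e3 q23207 (flp_f L749087) q22251, e3 q23208 (flp_f L749089) q21777, e3 q23209 (flp_f L762015) q24439, e3 q23210 L749124 q23210, e3 q23211 L749140 q21780, e3 q23212 (flp_f L762056) q24442, e3 q23213 L749168 q22935, e3 q23214 L749182 q23214, e3 q23215 L749197 q22503, e3 q23216 L749218 q22740, e3 q23217 L749232 q21794, e3 q23218 L749254 q22269, e3 q23219 L749268 q21787, e3 q23220 (flp_f L762174) q24449, e3 q23221 L749293 q21916, e3 q23222 L749310 q22749, e3 q23223 L749324 q22750, e3 q23224 L749336 q21798, e3 q23225 L749355 q21793, e3 q23226 (flp_f L762251) q24455, e3 q23227 (flp_f L762135) q24447, e3 q23228 L749396 q23228, e3 q23229 L749409 q21797, e3 q23230 (flp_f L762304) q24459,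 e3 q23231 L762327 q24461, trivial⟩ (by decide +kernel)

theorem ce_f_363 : ∀ r, r < 64 → sm gf (Qf (23232 + r)) = Qf (tab Gen.f (23232 + r)) :=
  edges_tab (sm gf) Qf (tab Gen.f) 23232 [(23232, 21800), (23233, 24462), (23234, 22936), (23235, 21806), (23236, 24465), (23237, 21824), (23238, 22270), (23239, 21810), (23240, 24469), (23241, 21918), (23242, 22729), (23243, 22730), (23244, 21828), (23245, 21815), (23246, 21816), (23247, 24475), (23248, 24476), (23249, 21818), (23250, 24479), (23251, 24482), (23252, 21821), (23253, 24483), (23254, 21823), (23255, 24486), (23256, 24489), (23257, 23257), (23258, 21827), (23259, 24491), (23260, 21830), (23261, 24493), (23262, 24495), (23263, 21831), (23264, 21833), (23265, 22010), (23266, 24496), (23267, 23267), (23268, 21839), (23269, 22018), (23270, 21842), (23271, 22024), (23272, 24503), (23273, 23273), (23274, 23274), (23275, 23275), (23276, 22487), (23277, 23277), (23278, 23278), (23279, 24509), (23280, 21851), (23281, 21852), (23282, 22421), (23283, 21858), (23284, 22425), (23285,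 22897), (23286, 23286), (23287, 21860), (23288, 24515), (23289, 23289), (23290, 22416), (23291, 21871), (23292, 22953), (23293, 22390), (23294, 22418), (23295, 21872)]
    ⟨e3 q23232 L749450 q21800, e3 q23233 (flp_f L762346) q24462, e3 q23234 L749482 q22936, e3 q23235 L749500 q21806, e3 q23236 (flp_f L762396) q24465, e3 q23237 L749524 q21824, e3 q23238 L749544 q22270, e3 q23239 L749558 q21810, e3 q23240 (flp_f L762448) q24469, e3 q23241 L749582 q21918, e3 q23242 L749602 q22729, e3 q23243 L749618 q22730, e3 q23244 L749632 q21828, e3 q23245 L749653 q21815, e3 q23246 L749672 q21816, e3 q23247 (flp_f L762537) q24475, e3 q23248 (flp_f L762552) q24476, e3 q23249 L749712 q21818, e3 q23250 (flp_f L762588) q24479, e3 q23251 L762610 q24482, e3 q23252 L749740 q21821, e3 q23253 (flp_f L762626) q24483, e3 q23254 L749760 q21823, e3 q23255 (flp_f L762656) q24486, e3 q23256 L762695 q24489, e3 q23257 L749797 q23257, e3 q23258 L749808 q21827, e3 q23259 (flp_f L762724) q24491, e3 q23260 L749833 q21830, e3 q23261 (flp_f L762748) q24493, e3 q23262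 L762770 q24495, e3 q23263 (flp_f L749870) q21831, e3 q23264 L749884 q21833, e3 q23265 L749900 q22010, e3 q23266 (flp_f L762799) q24496, e3 q23267 L749926 q23267, e3 q23268 L749936 q21839, e3 q23269 L749955 q22018, e3 q23270 L749960 q21842, e3 q23271 L749980 q22024, e3 q23272 L762883 q24503, e3 q23273 L750006 q23273, e3 q23274 L750019 q23274, e3 q23275 L750030 q23275, e3 q23276 L750051 q22487, e3 q23277 L750059 q23277, e3 q23278 L750070 q23278, e3 q23279 L762971 q24509, e3 q23280 (flp_f L750092) q21851, e3 q23281 (flp_f L750103) q21852, e3 q23282 L750127 q22421, e3 q23283 L750141 q21858, e3 q23284 L750161 q22425, e3 q23285 (flp_f L750183) q22897, e3 q23286 L750194 q23286, e3 q23287 (flp_f L750199) q21860, e3 q23288 (flp_f L763076) q24515, e3 q23289 L750236 q23289, e3 q23290 L750257 q22416, e3 q23291 L750269 q21871, e3 q23292 L750283 q22953, e3 q23293 L750298 q22390, e3 q23294 L750314 q22418, e3 q23295 L750326 q21872, trivial⟩ (by decide +kernel)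

theorem ce_f_364 : ∀ r, r < 64 → sm gf (Qf (23296 + r)) = Qf (tab Gen.f (23296 + r)) :=
  edges_tab (sm gf) Qf (tab Gen.f) 23296 [(23296, 21870), (23297, 24523), (23298, 24518), (23299, 21874), (23300, 22022), (23301, 21877), (23302, 24526), (23303, 22957), (23304, 22464), (23305, 22465), (23306, 21886), (23307, 21885), (23308, 24532), (23309, 21888), (23310, 21890), (23311, 24535), (23312, 22958), (23313, 23087), (23314, 23127), (23315, 22358), (23316, 22362), (23317, 21898), (23318, 24542), (23319, 21902), (23320, 21903), (23321, 22643), (23322, 24545), (23323, 21907), (23324, 22414), (23325, 22788), (23326, 23326), (23327, 22681), (23328, 21910), (23329, 24551), (23330, 23330), (23331, 22529), (23332, 21913), (23333, 24555), (23334, 23059), (23335, 23335), (23336, 24451), (23337, 23337), (23338, 24471), (23339, 21920), (23340, 24562), (23341, 23341), (23342, 21923), (23343, 24565), (23344, 21932), (23345, 21925), (23346, 24568), (23347, 22574), (23348, 21948), (23349, 22680), (23350, 23031), (23351, 21949), (23352, 24567),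 (23353, 21934), (23354, 24576), (23355, 22519), (23356, 22595), (23357, 21953), (23358, 21940), (23359, 22564)]
    ⟨e3 q23296 L750345 q21870, e3 q23297 (flp_f L763191) q24523, e3 q23298 (flp_f L763118) q24518, e3 q23299 L750385 q21874, e3 q23300 L750412 q22022, e3 q23301 L750425 q21877, e3 q23302 (flp_f L763236) q24526, e3 q23303 L750453 q22957, e3 q23304 L750470 q22464, e3 q23305 L750486 q22465, e3 q23306 L750500 q21886, e3 q23307 L750521 q21885, e3 q23308 (flp_f L763324) q24532, e3 q23309 L750545 q21888, e3 q23310 L750565 q21890, e3 q23311 (flp_f L763366) q24535, e3 q23312 L750587 q22958, e3 q23313 L750601 q23087, e3 q23314 L750623 q23127, e3 q23315 L750637 q22358, e3 q23316 L750653 q22362, e3 q23317 L750663 q21898, e3 q23318 (flp_f L763464) q24542, e3 q23319 L750685 q21902, e3 q23320 L750699 q21903, e3 q23321 L750719 q22643, e3 q23322 (flp_f L763496) q24545, e3 q23323 L750744 q21907, e3 q23324 L750766 q22414, e3 q23325 (flp_f L750784) q22788, e3 q23326 L750795 q23326, e3 q23327 (flp_f L750815) q22681, e3 q23328 (flp_f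 L750817) q21910, e3 q23329 (flp_f L763602) q24551, e3 q23330 L750852 q23330, e3 q23331 L750872 q22529, e3 q23332 L750885 q21913, e3 q23333 (flp_f L763660) q24555, e3 q23334 (flp_f L750917) q23059, e3 q23335 L750928 q23335, e3 q23336 (flp_f L762203) q24451, e3 q23337 L750949 q23337, e3 q23338 (flp_f L762472) q24471, e3 q23339 L750972 q21920, e3 q23340 (flp_f L763751) q24562, e3 q23341 L750992 q23341, e3 q23342 L751003 q21923, e3 q23343 (flp_f L763778) q24565, e3 q23344 L751032 q21932, e3 q23345 L751043 q21925, e3 q23346 (flp_f L763816) q24568, e3 q23347 L751071 q22574, e3 q23348 L751083 q21948, e3 q23349 L751098 q22680, e3 q23350 L751110 q23031, e3 q23351 L751120 q21949, e3 q23352 (flp_f L763805) q24567, e3 q23353 L751151 q21934, e3 q23354 (flp_f L763919) q24576, e3 q23355 L751176 q22519, e3 q23356 L751192 q22595, e3 q23357 L751204 q21953, e3 q23358 L751223 q21940, e3 q23359 L751240 q22564, trivial⟩ (by decide +kernel)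

theorem ce_f_365 : ∀ r, r < 64 → sm gf (Qf (23360 + r)) = Qf (tab Gen.f (23360 + r)) :=
  edges_tab (sm gf) Qf (tab Gen.f) 23360 [(23360, 24581), (23361, 21942), (23362, 24584), (23363, 24587), (23364, 22493), (23365, 22810), (23366, 21947), (23367, 24590), (23368, 24571), (23369, 24593), (23370, 23370), (23371, 21952), (23372, 24595), (23373, 21955), (23374, 21960), (23375, 21961), (23376, 21959), (23377, 24463), (23378, 24597), (23379, 21971), (23380, 21972), (23381, 21964), (23382, 24602), (23383, 22524), (23384, 21994), (23385, 23029), (23386, 21995), (23387, 23032), (23388, 24610), (23389, 24600), (23390, 24601), (23391, 21974), (23392, 24613), (23393, 22533), (23394, 22534), (23395, 22001), (23396, 22566), (23397, 23025), (23398, 21981), (23399, 24621), (23400, 24624), (23401, 22590), (23402, 23026), (23403, 22846), (23404, 22847), (23405, 21988), (23406, 24630), (23407, 24633), (23408, 21989), (23409, 22852), (23410, 22853), (23411, 21993), (23412, 24484), (23413, 24638), (23414, 24605), (23415, 24641), (23416, 21996),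 (23417, 23417), (23418, 23418), (23419, 22000), (23420, 24492), (23421, 24645), (23422, 22003), (23423, 22012)]
    ⟨e3 q23360 (flp_f L763983) q24581, e3 q23361 L751261 q21942, e3 q23362 (flp_f L764020) q24584, e3 q23363 L764046 q24587, e3 q23364 L751294 q22493, e3 q23365 L751310 q22810, e3 q23366 L751320 q21947, e3 q23367 (flp_f L764093) q24590, e3 q23368 (flp_f L763856) q24571, e3 q23369 L764113 q24593, e3 q23370 L751368 q23370, e3 q23371 L751381 q21952, e3 q23372 (flp_f L764146) q24595, e3 q23373 (flp_f L751402) q21955, e3 q23374 L751423 q21960, e3 q23375 L751437 q21961, e3 q23376 L751450 q21959, e3 q23377 (flp_f L762368) q24463, e3 q23378 (flp_f L764176) q24597, e3 q23379 L751495 q21971, e3 q23380 L751512 q21972, e3 q23381 L751521 q21964, e3 q23382 (flp_f L764249) q24602, e3 q23383 L751545 q22524, e3 q23384 L751559 q21994, e3 q23385 L751575 q23029, e3 q23386 L751583 q21995, e3 q23387 L751593 q23032, e3 q23388 L764335 q24610, e3 q23389 (flp_f L764226) q24600, e3 q23390 (flp_f L764241) q24601, e3 q23391 L751641 q21974,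 e3 q23392 (flp_f L764375) q24613, e3 q23393 L751663 q22533, e3 q23394 L751679 q22534, e3 q23395 L751691 q22001, e3 q23396 L751713 q22566, e3 q23397 L751727 q23025, e3 q23398 L751743 q21981, e3 q23399 (flp_f L764483) q24621, e3 q23400 L764509 q24624, e3 q23401 L751773 q22590, e3 q23402 L751785 q23026, e3 q23403 L751805 q22846, e3 q23404 L751821 q22847, e3 q23405 L751831 q21988, e3 q23406 (flp_f L764603) q24630, e3 q23407 L764623 q24633, e3 q23408 (flp_f L751851) q21989, e3 q23409 L751865 q22852, e3 q23410 L751873 q22853, e3 q23411 L751879 q21993, e3 q23412 (flp_f L762640) q24484, e3 q23413 (flp_f L764671) q24638, e3 q23414 (flp_f L764283) q24605, e3 q23415 L764685 q24641, e3 q23416 (flp_f L751927) q21996, e3 q23417 L751945 q23417, e3 q23418 L751958 q23418, e3 q23419 L751969 q22000, e3 q23420 (flp_f L762742) q24492, e3 q23421 (flp_f L764749) q24645, e3 q23422 (flp_f L752006) q22003, e3 q23423 L752030 q22012, trivial⟩ (by decide +kernel)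

theorem ce_f_366 : ∀ r, r < 64 → sm gf (Qf (23424 + r)) = Qf (tab Gen.f (23424 + r)) :=
  edges_tab (sm gf) Qf (tab Gen.f) 23424 [(23424, 22013), (23425, 22014), (23426, 24525), (23427, 22011), (23428, 24497), (23429, 23429), (23430, 24651), (23431, 22019), (23432, 24500), (23433, 22025), (23434, 22974), (23435, 22724), (23436, 24501), (23437, 24502), (23438, 24654), (23439, 22028), (23440, 22722), (23441, 22039), (23442, 22363), (23443, 22723), (23444, 24653), (23445, 22034), (23446, 22627), (23447, 24660), (23448, 22037), (23449, 22661), (23450, 23450), (23451, 22082), (23452, 22683), (23453, 22073), (23454, 22081), (23455, 22053), (23456, 22080), (23457, 22074), (23458, 22086), (23459, 22886), (23460, 22069), (23461, 22884), (23462, 22885), (23463, 22077), (23464, 22079), (23465, 22085), (23466, 22147), (23467, 22092), (23468, 22942), (23469, 22129), (23470, 22100), (23471, 22124), (23472, 22101), (23473, 22098), (23474, 24667), (23475, 24666), (23476, 22103), (23477, 24669), (23478, 22177), (23479, 22160), (23480, 22150),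 (23481, 22146), (23482, 22114), (23483, 22113), (23484, 24674), (23485, 22116), (23486, 22240), (23487, 22338)]
    ⟨e3 q23424 L752052 q22013, e3 q23425 L752060 q22014, e3 q23426 (flp_f L763225) q24525, e3 q23427 L752078 q22011, e3 q23428 (flp_f L762813) q24497, e3 q23429 L752104 q23429, e3 q23430 L764822 q24651, e3 q23431 L752129 q22019, e3 q23432 (flp_f L762852) q24500, e3 q23433 L752157 q22025, e3 q23434 L752177 q22974, e3 q23435 L752190 q22724, e3 q23436 (flp_f L762869) q24501, e3 q23437 (flp_f L762875) q24502, e3 q23438 (flp_f L764876) q24654, e3 q23439 (flp_f L752221) q22028, e3 q23440 L752240 q22722, e3 q23441 L752254 q22039, e3 q23442 L752271 q22363, e3 q23443 L752283 q22723, e3 q23444 (flp_f L764868) q24653, e3 q23445 (flp_f L752306) q22034, e3 q23446 L752323 q22627, e3 q23447 L764952 q24660, e3 q23448 (flp_f L752346) q22037, e3 q23449 L752368 q22661, e3 q23450 L752381 q23450, e3 q23451 L752390 q22082, e3 q23452 L752409 q22683, e3 q23453 L752428 q22073, e3 q23454 (flp_f L752458) q22081, e3 q23455 L752466 q22053,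 e3 q23456 L752485 q22080, e3 q23457 L752504 q22074, e3 q23458 L752534 q22086, e3 q23459 L752542 q22886, e3 q23460 L752559 q22069, e3 q23461 L752593 q22884, e3 q23462 L752599 q22885, e3 q23463 L752631 q22077, e3 q23464 L752650 q22079, e3 q23465 L752669 q22085, e3 q23466 L752683 q22147, e3 q23467 L752695 q22092, e3 q23468 L752715 q22942, e3 q23469 L752733 q22129, e3 q23470 L752747 q22100, e3 q23471 L752767 q22124, e3 q23472 L752781 q22101, e3 q23473 L752801 q22098, e3 q23474 (flp_f L765080) q24667, e3 q23475 (flp_f L765059) q24666, e3 q23476 L752844 q22103, e3 q23477 (flp_f L765108) q24669, e3 q23478 L752881 q22177, e3 q23479 L752895 q22160, e3 q23480 L752913 q22150, e3 q23481 L752925 q22146, e3 q23482 L752937 q22114, e3 q23483 L752957 q22113, e3 q23484 (flp_f L765183) q24674, e3 q23485 L752979 q22116, e3 q23486 L753004 q22240, e3 q23487 L753021 q22338, trivial⟩ (by decide +kernel)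

theorem ce_f_367 : ∀ r, r < 64 → sm gf (Qf (23488 + r)) = Qf (tab Gen.f (23488 + r)) :=
  edges_tab (sm gf) Qf (tab Gen.f) 23488 [(23488, 22303), (23489, 22119), (23490, 24678), (23491, 23491), (23492, 22122), (23493, 24681), (23494, 24665), (23495, 22211), (23496, 22134), (23497, 22419), (23498, 24664), (23499, 22135), (23500, 22170), (23501, 22133), (23502, 24690), (23503, 24685), (23504, 24692), (23505, 22141), (23506, 22138), (23507, 24694), (23508, 24693), (23509, 22933), (23510, 24672), (23511, 24662), (23512, 22155), (23513, 22367), (23514, 24671), (23515, 24703), (23516, 22179), (23517, 22154), (23518, 24705), (23519, 22156), (23520, 22161), (23521, 22159), (23522, 22334), (23523, 22970), (23524, 22342), (23525, 22972), (23526, 22370), (23527, 22486), (23528, 22168), (23529, 24689), (23530, 22951), (23531, 22182), (23532, 22191), (23533, 22180), (23534, 22365), (23535, 24670), (23536, 22181), (23537, 24704), (23538, 24713), (23539, 23539), (23540, 22586), (23541, 22184), (23542, 24721), (23543, 23543), (23544, 22187),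 (23545, 24724), (23546, 22219), (23547, 22201), (23548, 24714), (23549, 22213), (23550, 22202), (23551, 22591)]
    ⟨e3 q23488 (flp_f L753038) q22303, e3 q23489 (flp_f L753040) q22119, e3 q23490 (flp_f L765245) q24678, e3 q23491 L753073 q23491, e3 q23492 L753087 q22122, e3 q23493 (flp_f L765282) q24681, e3 q23494 (flp_f L765045) q24665, e3 q23495 L753127 q22211, e3 q23496 L753139 q22134, e3 q23497 L753154 q22419, e3 q23498 (flp_f L765027) q24664, e3 q23499 L753172 q22135, e3 q23500 L753193 q22170, e3 q23501 L753203 q22133, e3 q23502 (flp_f L765397) q24690, e3 q23503 (flp_f L765338) q24685, e3 q23504 L765409 q24692, e3 q23505 L753257 q22141, e3 q23506 L753267 q22138, e3 q23507 (flp_f L765447) q24694, e3 q23508 (flp_f L765432) q24693, e3 q23509 L753314 q22933, e3 q23510 (flp_f L765153) q24672, e3 q23511 (flp_f L764993) q24662, e3 q23512 L753348 q22155, e3 q23513 L753366 q22367, e3 q23514 (flp_f L765141) q24671, e3 q23515 L765541 q24703, e3 q23516 L753394 q22179, e3 q23517 L753402 q22154, e3 q23518 (flp_f L765571) q24705, e3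 q23519 (flp_f L753414) q22156, e3 q23520 L753434 q22161, e3 q23521 L753448 q22159, e3 q23522 L753464 q22334, e3 q23523 L753481 q22970, e3 q23524 L753496 q22342, e3 q23525 L753511 q22972, e3 q23526 L753517 q22370, e3 q23527 L753542 q22486, e3 q23528 (flp_f L753544) q22168, e3 q23529 (flp_f L765387) q24689, e3 q23530 L753581 q22951, e3 q23531 L753591 q22182, e3 q23532 L753612 q22191, e3 q23533 L753626 q22180, e3 q23534 L753643 q22365, e3 q23535 (flp_f L765129) q24670, e3 q23536 L753665 q22181, e3 q23537 (flp_f L765561) q24704, e3 q23538 (flp_f L765676) q24713, e3 q23539 L753704 q23539, e3 q23540 (flp_f L753728) q22586, e3 q23541 (flp_f L753730) q22184, e3 q23542 (flp_f L765782) q24721, e3 q23543 L753769 q23543, e3 q23544 L753785 q22187, e3 q23545 (flp_f L765827) q24724, e3 q23546 L753813 q22219, e3 q23547 L753827 q22201, e3 q23548 (flp_f L765692) q24714, e3 q23549 L753853 q22213, e3 q23550 L753867 q22202, e3 q23551 L753882 q22591, trivial⟩ (by decide +kernel)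

theorem ce_f_368 : ∀ r, r < 64 → sm gf (Qf (23552 + r)) = Qf (tab Gen.f (23552 + r)) :=
  edges_tab (sm gf) Qf (tab Gen.f) 23552 [(23552, 22197), (23553, 24731), (23554, 22205), (23555, 22200), (23556, 24734), (23557, 24729), (23558, 22204), (23559, 24736), (23560, 22207), (23561, 24737), (23562, 24684), (23563, 24728), (23564, 22262), (23565, 22217), (23566, 24742), (23567, 22227), (23568, 24726), (23569, 22228), (23570, 22222), (23571, 24747), (23572, 24750), (23573, 22225), (23574, 24751), (23575, 24745), (23576, 24754), (23577, 22230), (23578, 24755), (23579, 24757), (23580, 22231), (23581, 22233), (23582, 24676), (23583, 22346), (23584, 22243), (23585, 24761), (23586, 22242), (23587, 22244), (23588, 22457), (23589, 22246), (23590, 24763), (23591, 23591), (23592, 22249), (23593, 24766), (23594, 24438), (23595, 23595), (23596, 22734), (23597, 24436), (23598, 22255), (23599, 24772), (23600, 23600), (23601, 22258), (23602, 24775), (23603, 24424), (23604, 22440), (23605, 22460), (23606, 24741), (23607, 22277), (23608, 22265),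 (23609, 24782), (23610, 22376), (23611, 22890), (23612, 22280), (23613, 24448), (23614, 24468), (23615, 22272)]
    ⟨e3 q23552 L753900 q22197, e3 q23553 (flp_f L765929) q24731, e3 q23554 L753922 q22205, e3 q23555 L753935 q22200, e3 q23556 (flp_f L765958) q24734, e3 q23557 (flp_f L765897) q24729, e3 q23558 L753972 q22204, e3 q23559 L765970 q24736, e3 q23560 L754003 q22207, e3 q23561 (flp_f L765991) q24737, e3 q23562 (flp_f L765324) q24684, e3 q23563 (flp_f L765883) q24728, e3 q23564 L754057 q22262, e3 q23565 L754071 q22217, e3 q23566 (flp_f L766051) q24742, e3 q23567 L754091 q22227, e3 q23568 (flp_f L765857) q24726, e3 q23569 L754111 q22228, e3 q23570 L754127 q22222, e3 q23571 (flp_f L766105) q24747, e3 q23572 L766123 q24750, e3 q23573 L754147 q22225, e3 q23574 (flp_f L766139) q24751, e3 q23575 (flp_f L766077) q24745, e3 q23576 L766157 q24754, e3 q23577 L754199 q22230, e3 q23578 (flp_f L766179) q24755, e3 q23579 L766201 q24757, e3 q23580 (flp_f L754240) q22231, e3 q23581 L754254 q22233, e3 q23582 (flp_f L765215) q24676, e3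 q23583 L754279 q22346, e3 q23584 L754285 q22243, e3 q23585 L766261 q24761, e3 q23586 (flp_f L754306) q22242, e3 q23587 (flp_f L754317) q22244, e3 q23588 (flp_f L754346) q22457, e3 q23589 (flp_f L754348) q22246, e3 q23590 (flp_f L766306) q24763, e3 q23591 L754383 q23591, e3 q23592 L754397 q22249, e3 q23593 (flp_f L766343) q24766, e3 q23594 (flp_f L761998) q24438, e3 q23595 L754429 q23595, e3 q23596 L754443 q22734, e3 q23597 (flp_f L761966) q24436, e3 q23598 L754465 q22255, e3 q23599 (flp_f L766412) q24772, e3 q23600 L754481 q23600, e3 q23601 L754492 q22258, e3 q23602 (flp_f L766435) q24775, e3 q23603 (flp_f L761787) q24424, e3 q23604 L754529 q22440, e3 q23605 L754546 q22460, e3 q23606 (flp_f L766037) q24741, e3 q23607 L754568 q22277, e3 q23608 L754581 q22265, e3 q23609 (flp_f L766516) q24782, e3 q23610 L754604 q22376, e3 q23611 L754620 q22890, e3 q23612 L754634 q22280, e3 q23613 (flp_f L762158) q24448, e3 q23614 (flp_f L762436) q24468, e3 q23615 L754665 q22272, trivial⟩ (by decide +kernel)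

theorem ce_f_369 : ∀ r, r < 64 → sm gf (Qf (23616 + r)) = Qf (tab Gen.f (23616 + r)) :=
  edges_tab (sm gf) Qf (tab Gen.f) 23616 [(23616, 24789), (23617, 24792), (23618, 22691), (23619, 22276), (23620, 24794), (23621, 22279), (23622, 24798), (23623, 22282), (23624, 22283), (23625, 22288), (23626, 22286), (23627, 24695), (23628, 22290), (23629, 24802), (23630, 22292), (23631, 22293), (23632, 24804), (23633, 24805), (23634, 22295), (23635, 24808), (23636, 24758), (23637, 22298), (23638, 24811), (23639, 22898), (23640, 22899), (23641, 22304), (23642, 24677), (23643, 24816), (23644, 22306), (23645, 24819), (23646, 24822), (23647, 22310), (23648, 22311), (23649, 24823), (23650, 24824), (23651, 22959), (23652, 22314), (23653, 24829), (23654, 24833), (23655, 22315), (23656, 22964), (23657, 22965), (23658, 22319), (23659, 24706), (23660, 24838), (23661, 22321), (23662, 24673), (23663, 22324), (23664, 24843), (23665, 22325), (23666, 22337), (23667, 22328), (23668, 24846), (23669, 22329), (23670, 22335), (23671, 22949), (23672, 24709),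 (23673, 22352), (23674, 22978), (23675, 24650), (23676, 23676), (23677, 23677), (23678, 24759), (23679, 23679)]
    ⟨e3 q23616 (flp_f L766589) q24789, e3 q23617 L766609 q24792, e3 q23618 L754688 q22691, e3 q23619 L754696 q22276, e3 q23620 (flp_f L766630) q24794, e3 q23621 L754710 q22279, e3 q23622 L766655 q24798, e3 q23623 L754740 q22282, e3 q23624 (flp_f L754748) q22283, e3 q23625 L754755 q22288, e3 q23626 L754766 q22286, e3 q23627 (flp_f L765465) q24695, e3 q23628 L754778 q22290, e3 q23629 (flp_f L766704) q24802, e3 q23630 L754799 q22292, e3 q23631 L754816 q22293, e3 q23632 (flp_f L766729) q24804, e3 q23633 (flp_f L766742) q24805, e3 q23634 L754852 q22295, e3 q23635 (flp_f L766774) q24808, e3 q23636 (flp_f L766230) q24758, e3 q23637 L754874 q22298, e3 q23638 (flp_f L766794) q24811, e3 q23639 L754898 q22898, e3 q23640 L754912 q22899, e3 q23641 L754931 q22304, e3 q23642 (flp_f L765228) q24677, e3 q23643 (flp_f L766853) q24816, e3 q23644 L754969 q22306, e3 q23645 (flp_f L766887) q24819, e3 q23646 L766911 q24822, e3 q23647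 L755000 q22310, e3 q23648 L755007 q22311, e3 q23649 (flp_f L766930) q24823, e3 q23650 (flp_f L766936) q24824, e3 q23651 L755031 q22959, e3 q23652 L755037 q22314, e3 q23653 (flp_f L766970) q24829, e3 q23654 L766990 q24833, e3 q23655 (flp_f L755051) q22315, e3 q23656 L755061 q22964, e3 q23657 L755067 q22965, e3 q23658 L755075 q22319, e3 q23659 (flp_f L765581) q24706, e3 q23660 (flp_f L767036) q24838, e3 q23661 L755095 q22321, e3 q23662 (flp_f L765175) q24673, e3 q23663 L755114 q22324, e3 q23664 L767072 q24843, e3 q23665 (flp_f L755140) q22325, e3 q23666 L755156 q22337, e3 q23667 L755165 q22328, e3 q23668 L767105 q24846, e3 q23669 (flp_f L755173) q22329, e3 q23670 L755184 q22335, e3 q23671 L755194 q22949, e3 q23672 (flp_f L765621) q24709, e3 q23673 L755213 q22352, e3 q23674 L755222 q22978, e3 q23675 L764820 q24650, e3 q23676 L755238 q23676, e3 q23677 L755249 q23677, e3 q23678 (flp_f L766238) q24759, e3 q23679 L755271 q23679, trivial⟩ (by decide +kernel)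

theorem ce_f_370 : ∀ r, r < 64 → sm gf (Qf (23680 + r)) = Qf (tab Gen.f (23680 + r)) :=
  edges_tab (sm gf) Qf (tab Gen.f) 23680 [(23680, 23680), (23681, 23681), (23682, 23682), (23683, 24848), (23684, 23684), (23685, 23685), (23686, 24859), (23687, 24860), (23688, 22356), (23689, 24540), (23690, 22602), (23691, 22364), (23692, 24541), (23693, 24657), (23694, 24715), (23695, 24700), (23696, 22369), (23697, 24867), (23698, 22483), (23699, 22374), (23700, 24870), (23701, 24784), (23702, 23702), (23703, 22379), (23704, 24874), (23705, 22381), (23706, 24876), (23707, 22384), (23708, 24878), (23709, 22386), (23710, 24880), (23711, 22388), (23712, 22559), (23713, 24520), (23714, 22393), (23715, 24885), (23716, 22983), (23717, 22396), (23718, 24888), (23719, 22732), (23720, 22985), (23721, 22400), (23722, 24893), (23723, 22423), (23724, 22427), (23725, 22404), (23726, 22619), (23727, 24898), (23728, 22631), (23729, 22410), (23730, 24546), (23731, 22645), (23732, 24903), (23733, 24547), (23734, 22662), (23735, 24517), (23736, 24521),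 (23737, 24686), (23738, 24511), (23739, 22428), (23740, 24895), (23741, 22984), (23742, 24512), (23743, 24598)]
    ⟨e3 q23680 L755282 q23680, e3 q23681 L755296 q23681, e3 q23682 L755307 q23682, e3 q23683 (flp_f L767116) q24848, e3 q23684 L755331 q23684, e3 q23685 L755341 q23685, e3 q23686 L767239 q24859, e3 q23687 L767244 q24860, e3 q23688 (flp_f L755369) q22356, e3 q23689 (flp_f L763438) q24540, e3 q23690 L755397 q22602, e3 q23691 L755409 q22364, e3 q23692 (flp_f L763452) q24541, e3 q23693 (flp_f L764914) q24657, e3 q23694 (flp_f L765707) q24715, e3 q23695 (flp_f L765519) q24700, e3 q23696 L755474 q22369, e3 q23697 (flp_f L767337) q24867, e3 q23698 L755498 q22483, e3 q23699 L755509 q22374, e3 q23700 (flp_f L767370) q24870, e3 q23701 (flp_f L766537) q24784, e3 q23702 L755535 q23702, e3 q23703 L755547 q22379, e3 q23704 (flp_f L767406) q24874, e3 q23705 L755570 q22381, e3 q23706 (flp_f L767429) q24876, e3 q23707 L755596 q22384, e3 q23708 (flp_f L767451) q24878, e3 q23709 L755616 q22386, e3 q23710 (flp_f L767473) q24880, e3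 q23711 L755636 q22388, e3 q23712 L755654 q22559, e3 q23713 (flp_f L763150) q24520, e3 q23714 L755677 q22393, e3 q23715 (flp_f L767532) q24885, e3 q23716 L755695 q22983, e3 q23717 L755707 q22396, e3 q23718 (flp_f L767564) q24888, e3 q23719 L755723 q22732, e3 q23720 L755741 q22985, e3 q23721 L755759 q22400, e3 q23722 (flp_f L767622) q24893, e3 q23723 L755789 q22423, e3 q23724 L755797 q22427, e3 q23725 L755803 q22404, e3 q23726 L755809 q22619, e3 q23727 (flp_f L767670) q24898, e3 q23728 L755825 q22631, e3 q23729 L755833 q22410, e3 q23730 (flp_f L763522) q24546, e3 q23731 L755857 q22645, e3 q23732 L767704 q24903, e3 q23733 (flp_f L763539) q24547, e3 q23734 L755883 q22662, e3 q23735 (flp_f L763106) q24517, e3 q23736 (flp_f L763164) q24521, e3 q23737 (flp_f L765354) q24686, e3 q23738 (flp_f L763008) q24511, e3 q23739 L755942 q22428, e3 q23740 (flp_f L767648) q24895, e3 q23741 L755958 q22984, e3 q23742 (flp_f L763022) q24512, e3 q23743 (flp_f L764200) q24598, trivial⟩ (by decide +kernel)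

theorem ce_f_371 : ∀ r, r < 64 → sm gf (Qf (23744 + r)) = Qf (tab Gen.f (23744 + r)) :=
  edges_tab (sm gf) Qf (tab Gen.f) 23744 [(23744, 24896), (23745, 22430), (23746, 24915), (23747, 22433), (23748, 24917), (23749, 23749), (23750, 22436), (23751, 24920), (23752, 22438), (23753, 24922), (23754, 24778), (23755, 22442), (23756, 24925), (23757, 22444), (23758, 24927), (23759, 23759), (23760, 22447), (23761, 24931), (23762, 22449), (23763, 23016), (23764, 22451), (23765, 24934), (23766, 22454), (23767, 24936), (23768, 22456), (23769, 24938), (23770, 24762), (23771, 22459), (23772, 24941), (23773, 24779), (23774, 22462), (23775, 24944), (23776, 22805), (23777, 24529), (23778, 24530), (23779, 22468), (23780, 22469), (23781, 24950), (23782, 24951), (23783, 22471), (23784, 24954), (23785, 22473), (23786, 24868), (23787, 24957), (23788, 23788), (23789, 22476), (23790, 24961), (23791, 23791), (23792, 22479), (23793, 24710), (23794, 22481), (23795, 23078), (23796, 24474), (23797, 23797), (23798, 24969), (23799, 23132), (23800, 24506),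 (23801, 23801), (23802, 23802), (23803, 24588), (23804, 23060), (23805, 23805), (23806, 22498), (23807, 24974)]
    ⟨e3 q23744 (flp_f L767656) q24896, e3 q23745 L755988 q22430, e3 q23746 (flp_f L767814) q24915, e3 q23747 L756017 q22433, e3 q23748 (flp_f L767841) q24917, e3 q23749 L756041 q23749, e3 q23750 L756055 q22436, e3 q23751 (flp_f L767875) q24920, e3 q23752 L756078 q22438, e3 q23753 (flp_f L767898) q24922, e3 q23754 (flp_f L766476) q24778, e3 q23755 L756116 q22442, e3 q23756 (flp_f L767936) q24925, e3 q23757 L756136 q22444, e3 q23758 (flp_f L767958) q24927, e3 q23759 L756158 q23759, e3 q23760 L756167 q22447, e3 q23761 (flp_f L767998) q24931, e3 q23762 L756192 q22449, e3 q23763 L756206 q23016, e3 q23764 L756219 q22451, e3 q23765 (flp_f L768038) q24934, e3 q23766 L756244 q22454, e3 q23767 (flp_f L768062) q24936, e3 q23768 L756265 q22456, e3 q23769 (flp_f L768081) q24938, e3 q23770 (flp_f L766289) q24762, e3 q23771 L756303 q22459, e3 q23772 (flp_f L768121) q24941, e3 q23773 (flp_f L766489) q24779, e3 q23774 L756333 q22462,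 e3 q23775 (flp_f L768149) q24944, e3 q23776 L756353 q22805, e3 q23777 (flp_f L763279) q24529, e3 q23778 (flp_f L763293) q24530, e3 q23779 L756392 q22468, e3 q23780 L756401 q22469, e3 q23781 (flp_f L768212) q24950, e3 q23782 (flp_f L768222) q24951, e3 q23783 L756431 q22471, e3 q23784 (flp_f L768256) q24954, e3 q23785 L756451 q22473, e3 q23786 (flp_f L767351) q24868, e3 q23787 (flp_f L768284) q24957, e3 q23788 L756471 q23788, e3 q23789 L756482 q22476, e3 q23790 (flp_f L768314) q24961, e3 q23791 L756507 q23791, e3 q23792 L756516 q22479, e3 q23793 (flp_f L765637) q24710, e3 q23794 L756534 q22481, e3 q23795 L756548 q23078, e3 q23796 (flp_f L762524) q24474, e3 q23797 L756562 q23797, e3 q23798 L768389 q24969, e3 q23799 L756583 q23132, e3 q23800 L762943 q24506, e3 q23801 L756597 q23801, e3 q23802 L756612 q23802, e3 q23803 (flp_f L764069) q24588, e3 q23804 L756643 q23060, e3 q23805 L756655 q23805, e3 q23806 L756671 q22498, e3 q23807 (flp_f L768455) q24974, trivial⟩ (by decide +kernel)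

theorem ce_f_372 : ∀ r, r < 64 → sm gf (Qf (23808 + r)) = Qf (tab Gen.f (23808 + r)) :=
  edges_tab (sm gf) Qf (tab Gen.f) 23808 [(23808, 23808), (23809, 23054), (23810, 22502), (23811, 24977), (23812, 24445), (23813, 23813), (23814, 23065), (23815, 22507), (23816, 24982), (23817, 23817), (23818, 22511), (23819, 23035), (23820, 24986), (23821, 22789), (23822, 22514), (23823, 24990), (23824, 24993), (23825, 22791), (23826, 22518), (23827, 24995), (23828, 24578), (23829, 22530), (23830, 22523), (23831, 25000), (23832, 24604), (23833, 22800), (23834, 22528), (23835, 25004), (23836, 24554), (23837, 24999), (23838, 22532), (23839, 25008), (23840, 24616), (23841, 24617), (23842, 22537), (23843, 22538), (23844, 25013), (23845, 25014), (23846, 23066), (23847, 22541), (23848, 25018), (23849, 23069), (23850, 23070), (23851, 22545), (23852, 24881), (23853, 25024), (23854, 23854), (23855, 22548), (23856, 23856), (23857, 23857), (23858, 22552), (23859, 24883), (23860, 25031), (23861, 22561), (23862, 22720), (23863, 22562), (23864, 22563),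 (23865, 24534), (23866, 22560), (23867, 22868), (23868, 25033), (23869, 24582), (23870, 24619), (23871, 22587)]
    ⟨e3 q23808 L756691 q23808, e3 q23809 L756703 q23054, e3 q23810 L756710 q22502, e3 q23811 (flp_f L768480) q24977, e3 q23812 (flp_f L762105) q24445, e3 q23813 L756740 q23813, e3 q23814 L756757 q23065, e3 q23815 L756770 q22507, e3 q23816 (flp_f L768540) q24982, e3 q23817 L756786 q23817, e3 q23818 L756803 q22511, e3 q23819 L756817 q23035, e3 q23820 (flp_f L768575) q24986, e3 q23821 L756840 q22789, e3 q23822 L756849 q22514, e3 q23823 (flp_f L768622) q24990, e3 q23824 L768636 q24993, e3 q23825 L756866 q22791, e3 q23826 L756874 q22518, e3 q23827 (flp_f L768655) q24995, e3 q23828 (flp_f L763940) q24578, e3 q23829 L756905 q22530, e3 q23830 L756912 q22523, e3 q23831 (flp_f L768697) q25000, e3 q23832 (flp_f L764269) q24604, e3 q23833 L756950 q22800, e3 q23834 L756964 q22528, e3 q23835 (flp_f L768747) q25004, e3 q23836 (flp_f L763647) q24554, e3 q23837 (flp_f L768689) q24999, e3 q23838 L757004 q22532, e3 q23839 (flp_f L768791)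 q25008, e3 q23840 (flp_f L764411) q24616, e3 q23841 (flp_f L764425) q24617, e3 q23842 L757050 q22537, e3 q23843 L757060 q22538, e3 q23844 (flp_f L768843) q25013, e3 q23845 (flp_f L768853) q25014, e3 q23846 L757098 q23066, e3 q23847 L757108 q22541, e3 q23848 (flp_f L768901) q25018, e3 q23849 L757128 q23069, e3 q23850 L757136 q23070, e3 q23851 L757144 q22545, e3 q23852 (flp_f L767487) q24881, e3 q23853 (flp_f L768953) q25024, e3 q23854 L757168 q23854, e3 q23855 L757179 q22548, e3 q23856 L757195 q23856, e3 q23857 L757204 q23857, e3 q23858 L757212 q22552, e3 q23859 (flp_f L767510) q24883, e3 q23860 (flp_f L769019) q25031, e3 q23861 L757250 q22561, e3 q23862 L757268 q22720, e3 q23863 L757272 q22562, e3 q23864 L757281 q22563, e3 q23865 (flp_f L763357) q24534, e3 q23866 L757303 q22560, e3 q23867 L757319 q22868, e3 q23868 (flp_f L769041) q25033, e3 q23869 (flp_f L764000) q24582, e3 q23870 (flp_f L764457) q24619, e3 q23871 L757368 q22587, trivial⟩ (by decide +kernel)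

theorem ce_f_373 : ∀ r, r < 64 → sm gf (Qf (23872 + r)) = Qf (tab Gen.f (23872 + r)) :=
  edges_tab (sm gf) Qf (tab Gen.f) 23872 [(23872, 22569), (23873, 25041), (23874, 25044), (23875, 22592), (23876, 22573), (23877, 25046), (23878, 24570), (23879, 22577), (23880, 22579), (23881, 25050), (23882, 22835), (23883, 22584), (23884, 22585), (23885, 25053), (23886, 25054), (23887, 24720), (23888, 25040), (23889, 22589), (23890, 25059), (23891, 24625), (23892, 24730), (23893, 25045), (23894, 22594), (23895, 24889), (23896, 25066), (23897, 24579), (23898, 23098), (23899, 22598), (23900, 25071), (23901, 23099), (23902, 22601), (23903, 25074), (23904, 24862), (23905, 22736), (23906, 23102), (23907, 23103), (23908, 22608), (23909, 22609), (23910, 25081), (23911, 25082), (23912, 25088), (23913, 23108), (23914, 23109), (23915, 22613), (23916, 25094), (23917, 25092), (23918, 25097), (23919, 22614), (23920, 23115), (23921, 23116), (23922, 24543), (23923, 22620), (23924, 24899), (23925, 25102), (23926, 22622), (23927, 23927), (23928, 23928),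 (23929, 22626), (23930, 24659), (23931, 23931), (23932, 23932), (23933, 25114), (23934, 22632), (23935, 23043)]
    ⟨e3 q23872 L757377 q22569, e3 q23873 (flp_f L769138) q25041, e3 q23874 L769166 q25044, e3 q23875 L757406 q22592, e3 q23876 L757412 q22573, e3 q23877 (flp_f L769191) q25046, e3 q23878 (flp_f L763844) q24570, e3 q23879 L757447 q22577, e3 q23880 L757461 q22579, e3 q23881 (flp_f L769224) q25050, e3 q23882 L757478 q22835, e3 q23883 L757491 q22584, e3 q23884 L757500 q22585, e3 q23885 (flp_f L769250) q25053, e3 q23886 (flp_f L769260) q25054, e3 q23887 (flp_f L765765) q24720, e3 q23888 (flp_f L769130) q25040, e3 q23889 L757546 q22589, e3 q23890 (flp_f L769306) q25059, e3 q23891 (flp_f L764529) q24625, e3 q23892 (flp_f L765913) q24730, e3 q23893 (flp_f L769185) q25045, e3 q23894 L757580 q22594, e3 q23895 (flp_f L767576) q24889, e3 q23896 (flp_f L769354) q25066, e3 q23897 (flp_f L763954) q24579, e3 q23898 L757609 q23098, e3 q23899 L757618 q22598, e3 q23900 (flp_f L769389) q25071, e3 q23901 L757640 q23099, e3 q23902 L757650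 q22601, e3 q23903 (flp_f L769415) q25074, e3 q23904 (flp_f L767276) q24862, e3 q23905 L757677 q22736, e3 q23906 L757684 q23102, e3 q23907 L757691 q23103, e3 q23908 L757698 q22608, e3 q23909 L757704 q22609, e3 q23910 (flp_f L769469) q25081, e3 q23911 (flp_f L769475) q25082, e3 q23912 L769520 q25088, e3 q23913 L757738 q23108, e3 q23914 L757744 q23109, e3 q23915 L757750 q22613, e3 q23916 L769560 q25094, e3 q23917 (flp_f L769554) q25092, e3 q23918 L769586 q25097, e3 q23919 (flp_f L757776) q22614, e3 q23920 L757786 q23115, e3 q23921 L757792 q23116, e3 q23922 (flp_f L763482) q24543, e3 q23923 L757804 q22620, e3 q23924 (flp_f L767676) q24899, e3 q23925 (flp_f L769626) q25102, e3 q23926 L757818 q22622, e3 q23927 L757829 q23927, e3 q23928 L757838 q23928, e3 q23929 L757844 q22626, e3 q23930 (flp_f L764950) q24659, e3 q23931 L757860 q23931, e3 q23932 L757869 q23932, e3 q23933 L769719 q25114, e3 q23934 L757882 q22632, e3 q23935 L757896 q23043, trivial⟩ (by decide +kernel)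

theorem ce_f_374 : ∀ r, r < 64 → sm gf (Qf (23936 + r)) = Qf (tab Gen.f (23936 + r)) :=
  edges_tab (sm gf) Qf (tab Gen.f) 23936 [(23936, 25115), (23937, 22647), (23938, 24863), (23939, 22648), (23940, 25119), (23941, 22809), (23942, 22639), (23943, 22650), (23944, 22977), (23945, 22840), (23946, 22646), (23947, 24634), (23948, 24902), (23949, 25126), (23950, 22649), (23951, 23951), (23952, 24849), (23953, 23953), (23954, 25131), (23955, 22653), (23956, 22656), (23957, 23140), (23958, 23143), (23959, 22872), (23960, 22879), (23961, 23155), (23962, 24661), (23963, 24904), (23964, 23964), (23965, 24572), (23966, 25143), (23967, 22666), (23968, 22667), (23969, 25135), (23970, 23970), (23971, 23971), (23972, 25147), (23973, 22676), (23974, 24550), (23975, 22925), (23976, 22930), (23977, 22892), (23978, 22689), (23979, 25151), (23980, 22950), (23981, 24793), (23982, 22937), (23983, 22939), (23984, 22695), (23985, 25157), (23986, 22697), (23987, 25159), (23988, 22926), (23989, 22700), (23990, 25162), (23991, 24425), (23992, 22703),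 (23993, 25166), (23994, 22705), (23995, 22708), (23996, 24800), (23997, 23017), (23998, 22733), (23999, 23019)]
    ⟨e3 q23936 (flp_f L769728) q25115, e3 q23937 L757919 q22647, e3 q23938 (flp_f L767297) q24863, e3 q23939 L757934 q22648, e3 q23940 L769757 q25119, e3 q23941 L757951 q22809, e3 q23942 (flp_f L757953) q22639, e3 q23943 L757966 q22650, e3 q23944 L757980 q22977, e3 q23945 L757992 q22840, e3 q23946 L757998 q22646, e3 q23947 (flp_f L764643) q24634, e3 q23948 (flp_f L767696) q24902, e3 q23949 L769816 q25126, e3 q23950 (flp_f L758028) q22649, e3 q23951 L758037 q23951, e3 q23952 (flp_f L767130) q24849, e3 q23953 L758058 q23953, e3 q23954 L769868 q25131, e3 q23955 (flp_f L758073) q22653, e3 q23956 L758082 q22656, e3 q23957 L758096 q23140, e3 q23958 L758100 q23143, e3 q23959 L758115 q22872, e3 q23960 L758121 q22879, e3 q23961 L758138 q23155, e3 q23962 (flp_f L764979) q24661, e3 q23963 (flp_f L767720) q24904, e3 q23964 L758155 q23964, e3 q23965 (flp_f L763872) q24572, e3 q23966 L769984 q25143, e3 q23967 (flp_f L758188)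 q22666, e3 q23968 (flp_f L758197) q22667, e3 q23969 (flp_f L769912) q25135, e3 q23970 L758233 q23970, e3 q23971 L758241 q23971, e3 q23972 L770030 q25147, e3 q23973 (flp_f L758253) q22676, e3 q23974 (flp_f L763585) q24550, e3 q23975 L758275 q22925, e3 q23976 L758291 q22930, e3 q23977 L758301 q22892, e3 q23978 L758317 q22689, e3 q23979 (flp_f L770082) q25151, e3 q23980 L758337 q22950, e3 q23981 (flp_f L766620) q24793, e3 q23982 L758359 q22937, e3 q23983 L758367 q22939, e3 q23984 L758383 q22695, e3 q23985 (flp_f L770144) q25157, e3 q23986 L758408 q22697, e3 q23987 (flp_f L770168) q25159, e3 q23988 L758434 q22926, e3 q23989 L758442 q22700, e3 q23990 (flp_f L770202) q25162, e3 q23991 (flp_f L761801) q24425, e3 q23992 L758464 q22703, e3 q23993 (flp_f L770232) q25166, e3 q23994 L758482 q22705, e3 q23995 L758491 q22708, e3 q23996 (flp_f L766693) q24800, e3 q23997 L758515 q23017, e3 q23998 L758525 q22733, e3 q23999 L758540 q23019, trivial⟩ (by decide +kernel)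

theorem ce_f_375 : ∀ r, r < 64 → sm gf (Qf (24000 + r)) = Qf (tab Gen.f (24000 + r)) :=
  edges_tab (sm gf) Qf (tab Gen.f) 24000 [(24000, 23020), (24001, 23021), (24002, 23027), (24003, 23028), (24004, 23030), (24005, 24618), (24006, 23033), (24007, 25019), (24008, 23034), (24009, 24009), (24010, 22981), (24011, 22982), (24012, 24472), (24013, 24473), (24014, 24966), (24015, 24891), (24016, 24770), (24017, 24017), (24018, 25078), (24019, 24019), (24020, 22739), (24021, 25192), (24022, 24446), (24023, 22759), (24024, 22743), (24025, 25196), (24026, 22745), (24027, 25198), (24028, 25201), (24029, 22748), (24030, 25202), (24031, 24452), (24032, 24453), (24033, 25207), (24034, 22753), (24035, 25208), (24036, 22755), (24037, 25211), (24038, 25215), (24039, 22756), (24040, 22758), (24041, 25216), (24042, 25218), (24043, 22761), (24044, 22762), (24045, 22763), (24046, 24933), (24047, 24047), (24048, 25222), (24049, 25223), (24050, 24050), (24051, 25225), (24052, 22771), (24053, 24053), (24054, 24054), (24055, 25230), (24056, 22774),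 (24057, 25231), (24058, 22776), (24059, 22778), (24060, 24060), (24061, 22869), (24062, 23049), (24063, 23073)]
    ⟨e3 q24000 L758556 q23020, e3 q24001 L758572 q23021, e3 q24002 L758582 q23027, e3 q24003 L758596 q23028, e3 q24004 L758606 q23030, e3 q24005 (flp_f L764445) q24618, e3 q24006 L758618 q23033, e3 q24007 (flp_f L768915) q25019, e3 q24008 L758632 q23034, e3 q24009 L758647 q24009, e3 q24010 L758656 q22981, e3 q24011 L758672 q22982, e3 q24012 (flp_f L762488) q24472, e3 q24013 (flp_f L762500) q24473, e3 q24014 (flp_f L768374) q24966, e3 q24015 (flp_f L767590) q24891, e3 q24016 (flp_f L766394) q24770, e3 q24017 L758722 q24017, e3 q24018 (flp_f L769446) q25078, e3 q24019 L758743 q24019, e3 q24020 L758757 q22739, e3 q24021 (flp_f L770484) q25192, e3 q24022 (flp_f L762121) q24446, e3 q24023 L758779 q22759, e3 q24024 L758794 q22743, e3 q24025 (flp_f L770515) q25196, e3 q24026 L758818 q22745, e3 q24027 (flp_f L770533) q25198, e3 q24028 L770555 q25201, e3 q24029 L758846 q22748, e3 q24030 (flp_f L770573) q25202, e3 q24031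 (flp_f L762216) q24452, e3 q24032 (flp_f L762226) q24453, e3 q24033 L770607 q25207, e3 q24034 L758893 q22753, e3 q24035 (flp_f L770623) q25208, e3 q24036 L758909 q22755, e3 q24037 (flp_f L770653) q25211, e3 q24038 L770675 q25215, e3 q24039 (flp_f L758923) q22756, e3 q24040 L758939 q22758, e3 q24041 (flp_f L770685) q25216, e3 q24042 L770695 q25218, e3 q24043 L758962 q22761, e3 q24044 (flp_f L758971) q22762, e3 q24045 (flp_f L758981) q22763, e3 q24046 (flp_f L768027) q24933, e3 q24047 L759004 q24047, e3 q24048 L770740 q25222, e3 q24049 L770752 q25223, e3 q24050 L759034 q24050, e3 q24051 L770777 q25225, e3 q24052 (flp_f L759056) q22771, e3 q24053 L759071 q24053, e3 q24054 L759078 q24054, e3 q24055 L770820 q25230, e3 q24056 (flp_f L759092) q22774, e3 q24057 L770830 q25231, e3 q24058 (flp_f L759111) q22776, e3 q24059 (flp_f L759119) q22778, e3 q24060 L759139 q24060, e3 q24061 L759148 q22869, e3 q24062 L759162 q23049, e3 q24063 L759172 q23073, trivial⟩ (by decide +kernel)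

theorem ce_f_376 : ∀ r, r < 64 → sm gf (Qf (24064 + r)) = Qf (tab Gen.f (24064 + r)) :=
  edges_tab (sm gf) Qf (tab Gen.f) 24064 [(24064, 23050), (24065, 23051), (24066, 24962), (24067, 23052), (24068, 24548), (24069, 24989), (24070, 24070), (24071, 24994), (24072, 23037), (24073, 23038), (24074, 22813), (24075, 23040), (24076, 23041), (24077, 23042), (24078, 25109), (24079, 23044), (24080, 25003), (24081, 22802), (24082, 25252), (24083, 25035), (24084, 22806), (24085, 24947), (24086, 25255), (24087, 22808), (24088, 25259), (24089, 25120), (24090, 24589), (24091, 22812), (24092, 25263), (24093, 22816), (24094, 25265), (24095, 25268), (24096, 22819), (24097, 25269), (24098, 22821), (24099, 25272), (24100, 25121), (24101, 22825), (24102, 22826), (24103, 25275), (24104, 25276), (24105, 22828), (24106, 25280), (24107, 25284), (24108, 22829), (24109, 22831), (24110, 25286), (24111, 22833), (24112, 25288), (24113, 22836), (24114, 25052), (24115, 25290), (24116, 23053), (24117, 22839), (24118, 25295), (24119, 25122), (24120, 23022),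 (24121, 22844), (24122, 22845), (24123, 25300), (24124, 25301), (24125, 25307), (24126, 24628), (24127, 24629)]
    ⟨e3 q24064 L759184 q23050, e3 q24065 L759190 q23051, e3 q24066 (flp_f L768334) q24962, e3 q24067 L759205 q23052, e3 q24068 (flp_f L763553) q24548, e3 q24069 (flp_f L768614) q24989, e3 q24070 L759234 q24070, e3 q24071 (flp_f L768645) q24994, e3 q24072 L759259 q23037, e3 q24073 L759271 q23038, e3 q24074 L759281 q22813, e3 q24075 L759297 q23040, e3 q24076 L759306 q23041, e3 q24077 L759312 q23042, e3 q24078 (flp_f L769679) q25109, e3 q24079 L759327 q23044, e3 q24080 (flp_f L768735) q25003, e3 q24081 L759350 q22802, e3 q24082 (flp_f L771028) q25252, e3 q24083 (flp_f L769072) q25035, e3 q24084 L759377 q22806, e3 q24085 (flp_f L768173) q24947, e3 q24086 (flp_f L771052) q25255, e3 q24087 L759392 q22808, e3 q24088 (flp_f L771075) q25259, e3 q24089 (flp_f L769766) q25120, e3 q24090 (flp_f L764083) q24589, e3 q24091 L759424 q22812, e3 q24092 (flp_f L771107) q25263, e3 q24093 L759443 q22816, e3 q24094 (flp_f L771125) q25265,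 e3 q24095 L771139 q25268, e3 q24096 L759461 q22819, e3 q24097 (flp_f L771148) q25269, e3 q24098 L759475 q22821, e3 q24099 (flp_f L771165) q25272, e3 q24100 (flp_f L769782) q25121, e3 q24101 L759504 q22825, e3 q24102 L759513 q22826, e3 q24103 (flp_f L771190) q25275, e3 q24104 (flp_f L771198) q25276, e3 q24105 L759533 q22828, e3 q24106 (flp_f L771226) q25280, e3 q24107 L771254 q25284, e3 q24108 (flp_f L759551) q22829, e3 q24109 L759561 q22831, e3 q24110 (flp_f L771268) q25286, e3 q24111 L759585 q22833, e3 q24112 (flp_f L771290) q25288, e3 q24113 L759600 q22836, e3 q24114 (flp_f L769237) q25052, e3 q24115 (flp_f L771306) q25290, e3 q24116 L759626 q23053, e3 q24117 L759636 q22839, e3 q24118 (flp_f L771342) q25295, e3 q24119 (flp_f L769788) q25122, e3 q24120 L759655 q23022, e3 q24121 L759662 q22844, e3 q24122 L759668 q22845, e3 q24123 (flp_f L771374) q25300, e3 q24124 (flp_f L771380) q25301, e3 q24125 L771409 q25307, e3 q24126 (flp_f L764573) q24628, e3 q24127 (flp_f L764587) q24629, trivial⟩ (by decide +kernel)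

theorem ce_f_377 : ∀ r, r < 64 → sm gf (Qf (24128 + r)) = Qf (tab Gen.f (24128 + r)) :=
  edges_tab (sm gf) Qf (tab Gen.f) 24128 [(24128, 22849), (24129, 25037), (24130, 25311), (24131, 25315), (24132, 22850), (24133, 24635), (24134, 24636), (24135, 22855), (24136, 25318), (24137, 22857), (24138, 25319), (24139, 22859), (24140, 25032), (24141, 24141), (24142, 22863), (24143, 25036), (24144, 22870), (24145, 24580), (24146, 22871), (24147, 24147), (24148, 25324), (24149, 22875), (24150, 25138), (24151, 24151), (24152, 25136), (24153, 25327), (24154, 22881), (24155, 22903), (24156, 22901), (24157, 24785), (24158, 25332), (24159, 25150), (24160, 22893), (24161, 24760), (24162, 22895), (24163, 24513), (24164, 24814), (24165, 24815), (24166, 25338), (24167, 25329), (24168, 22902), (24169, 25328), (24170, 22906), (24171, 22907), (24172, 25341), (24173, 25342), (24174, 22909), (24175, 25346), (24176, 25350), (24177, 22910), (24178, 22912), (24179, 25352), (24180, 25354), (24181, 22914), (24182, 22916), (24183, 24183), (24184, 25356),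 (24185, 22919), (24186, 24432), (24187, 23092), (24188, 24417), (24189, 24844), (24190, 25148), (24191, 25161)]
    ⟨e3 q24128 L759700 q22849, e3 q24129 (flp_f L769089) q25037, e3 q24130 (flp_f L771435) q25311, e3 q24131 L771449 q25315, e3 q24132 (flp_f L759716) q22850, e3 q24133 (flp_f L764651) q24635, e3 q24134 (flp_f L764657) q24636, e3 q24135 L759732 q22855, e3 q24136 (flp_f L771467) q25318, e3 q24137 L759748 q22857, e3 q24138 (flp_f L771475) q25319, e3 q24139 L759770 q22859, e3 q24140 (flp_f L769037) q25032, e3 q24141 L759788 q24141, e3 q24142 L759795 q22863, e3 q24143 (flp_f L769085) q25036, e3 q24144 L759809 q22870, e3 q24145 (flp_f L763973) q24580, e3 q24146 (flp_f L759819) q22871, e3 q24147 L759827 q24147, e3 q24148 L771514 q25324, e3 q24149 (flp_f L759839) q22875, e3 q24150 (flp_f L769944) q25138, e3 q24151 L759856 q24151, e3 q24152 (flp_f L769925) q25136, e3 q24153 L771534 q25327, e3 q24154 (flp_f L759871) q22881, e3 q24155 L759882 q22903, e3 q24156 L759898 q22901, e3 q24157 (flp_f L766549) q24785, e3 q24158 L771580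 q25332, e3 q24159 (flp_f L770068) q25150, e3 q24160 (flp_f L759928) q22893, e3 q24161 (flp_f L766259) q24760, e3 q24162 (flp_f L759945) q22895, e3 q24163 (flp_f L763044) q24513, e3 q24164 (flp_f L766826) q24814, e3 q24165 (flp_f L766836) q24815, e3 q24166 L771619 q25338, e3 q24167 (flp_f L771560) q25329, e3 q24168 (flp_f L759981) q22902, e3 q24169 (flp_f L771546) q25328, e3 q24170 L760001 q22906, e3 q24171 L760010 q22907, e3 q24172 (flp_f L771647) q25341, e3 q24173 (flp_f L771655) q25342, e3 q24174 L760028 q22909, e3 q24175 (flp_f L771679) q25346, e3 q24176 L771697 q25350, e3 q24177 (flp_f L760038) q22910, e3 q24178 L760048 q22912, e3 q24179 (flp_f L771711) q25352, e3 q24180 L771723 q25354, e3 q24181 (flp_f L760061) q22914, e3 q24182 L760072 q22916, e3 q24183 L760076 q24183, e3 q24184 L771735 q25356, e3 q24185 (flp_f L760086) q22919, e3 q24186 (flp_f L761904) q24432, e3 q24187 L760104 q23092, e3 q24188 (flp_f L761677) q24417, e3 q24189 (flp_f L767098) q24844, e3 q24190 (flp_f L770044) q25148, e3 q24191 (flp_f L770192) q25161,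 trivial⟩ (by decide +kernel)

theorem ce_f_378 : ∀ r, r < 64 → sm gf (Qf (24192 + r)) = Qf (tab Gen.f (24192 + r)) :=
  edges_tab (sm gf) Qf (tab Gen.f) 24192 [(24192, 24423), (24193, 24422), (24194, 25365), (24195, 22929), (24196, 25149), (24197, 24696), (24198, 25369), (24199, 24444), (24200, 24464), (24201, 25155), (24202, 25375), (24203, 22938), (24204, 25156), (24205, 22940), (24206, 24663), (24207, 24708), (24208, 22945), (24209, 25379), (24210, 24415), (24211, 24429), (24212, 24416), (24213, 24837), (24214, 25153), (24215, 24712), (24216, 24699), (24217, 24519), (24218, 22955), (24219, 25391), (24220, 25394), (24221, 22956), (24222, 24528), (24223, 24537), (24224, 25099), (24225, 24828), (24226, 22961), (24227, 24835), (24228, 25400), (24229, 25404), (24230, 22962), (24231, 24834), (24232, 24836), (24233, 22967), (24234, 25407), (24235, 24647), (24236, 25034), (24237, 22980), (24238, 25408), (24239, 25182), (24240, 25183), (24241, 24887), (24242, 24911), (24243, 24892), (24244, 22987), (24245, 25415), (24246, 22989),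 (24247, 25417), (24248, 22999), (24249, 22992), (24250, 25420), (24251, 22994), (24252, 25423), (24253, 22996), (24254, 25425), (24255, 22998)]
    ⟨e3 q24192 (flp_f L761765) q24423, e3 q24193 (flp_f L761751) q24422, e3 q24194 L771794 q25365, e3 q24195 (flp_f L760155) q22929, e3 q24196 (flp_f L770056) q25149, e3 q24197 (flp_f L765471) q24696, e3 q24198 L771818 q25369, e3 q24199 (flp_f L762086) q24444, e3 q24200 (flp_f L762376) q24464, e3 q24201 (flp_f L770120) q25155, e3 q24202 L771854 q25375, e3 q24203 (flp_f L760201) q22938, e3 q24204 (flp_f L770130) q25156, e3 q24205 (flp_f L760212) q22940, e3 q24206 (flp_f L765007) q24663, e3 q24207 (flp_f L765605) q24708, e3 q24208 L760233 q22945, e3 q24209 (flp_f L771878) q25379, e3 q24210 (flp_f L761641) q24415, e3 q24211 (flp_f L761855) q24429, e3 q24212 (flp_f L761659) q24416, e3 q24213 (flp_f L767032) q24837, e3 q24214 (flp_f L770098) q25153, e3 q24215 (flp_f L765659) q24712, e3 q24216 (flp_f L765513) q24699, e3 q24217 (flp_f L763133) q24519, e3 q24218 L760295 q22955, e3 q24219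 (flp_f L771946) q25391, e3 q24220 L771956 q25394, e3 q24221 (flp_f L760305) q22956, e3 q24222 (flp_f L763262) q24528, e3 q24223 (flp_f L763390) q24537, e3 q24224 (flp_f L769610) q25099, e3 q24225 (flp_f L766964) q24828, e3 q24226 L760335 q22961, e3 q24227 (flp_f L767006) q24835, e3 q24228 (flp_f L771996) q25400, e3 q24229 L772014 q25404, e3 q24230 (flp_f L760355) q22962, e3 q24231 (flp_f L767002) q24834, e3 q24232 (flp_f L767016) q24836, e3 q24233 L760373 q22967, e3 q24234 (flp_f L772030) q25407, e3 q24235 (flp_f L764783) q24647, e3 q24236 (flp_f L769059) q25034, e3 q24237 L760397 q22980, e3 q24238 (flp_f L772038) q25408, e3 q24239 (flp_f L770389) q25182, e3 q24240 (flp_f L770401) q25183, e3 q24241 (flp_f L767552) q24887, e3 q24242 (flp_f L767779) q24911, e3 q24243 (flp_f L767606) q24892, e3 q24244 L760443 q22987, e3 q24245 (flp_f L772084) q25415, e3 q24246 L760458 q22989, e3 q24247 (flp_f L772098) q25417, e3 q24248 L760469 q22999, e3 q24249 L760477 q22992, e3 q24250 (flp_f L772118) q25420, e3 q24251 L760493 q22994, e3 q24252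 (flp_f L772135) q25423, e3 q24253 L760506 q22996, e3 q24254 (flp_f L772145) q25425, e3 q24255 L760518 q22998, trivial⟩ (by decide +kernel)

theorem ce_f_379 : ∀ r, r < 64 → sm gf (Qf (24256 + r)) = Qf (tab Gen.f (24256 + r)) :=
  edges_tab (sm gf) Qf (tab Gen.f) 24256 [(24256, 25427), (24257, 25419), (24258, 23001), (24259, 25431), (24260, 23003), (24261, 25433), (24262, 23005), (24263, 25435), (24264, 23007), (24265, 25438), (24266, 23009), (24267, 24928), (24268, 25441), (24269, 23011), (24270, 25444), (24271, 23013), (24272, 24932), (24273, 24522), (24274, 25170), (24275, 24965), (24276, 25172), (24277, 25173), (24278, 25174), (24279, 25299), (24280, 23024), (24281, 25452), (24282, 24620), (24283, 24626), (24284, 25175), (24285, 25176), (24286, 24606), (24287, 25177), (24288, 24573), (24289, 24608), (24290, 25179), (24291, 25181), (24292, 24987), (24293, 23131), (24294, 25243), (24295, 25244), (24296, 23157), (24297, 25116), (24298, 25246), (24299, 25247), (24300, 25248), (24301, 25117), (24302, 25250), (24303, 23046),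 (24304, 25476), (24305, 23048), (24306, 25478), (24307, 25232), (24308, 25235), (24309, 25236), (24310, 25238), (24311, 25294), (24312, 24976), (24313, 23056), (24314, 25487), (24315, 23058), (24316, 25489), (24317, 24557), (24318, 24973), (24319, 23063)]
    ⟨e3 q24256 (flp_f L772159) q25427, e3 q24257 (flp_f L772110) q25419, e3 q24258 L760538 q23001, e3 q24259 (flp_f L772185) q25431, e3 q24260 L760555 q23003, e3 q24261 (flp_f L772203) q25433, e3 q24262 L760575 q23005, e3 q24263 (flp_f L772221) q25435, e3 q24264 L760581 q23007, e3 q24265 (flp_f L772237) q25438, e3 q24266 L760591 q23009, e3 q24267 (flp_f L767972) q24928, e3 q24268 (flp_f L772254) q25441, e3 q24269 L760605 q23011, e3 q24270 (flp_f L772268) q25444, e3 q24271 L760617 q23013, e3 q24272 (flp_f L768016) q24932, e3 q24273 (flp_f L763183) q24522, e3 q24274 (flp_f L770270) q25170, e3 q24275 (flp_f L768363) q24965, e3 q24276 (flp_f L770293) q25172, e3 q24277 (flp_f L770307) q25173, e3 q24278 (flp_f L770319) q25174, e3 q24279 (flp_f L771366) q25299, e3 q24280 L760670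 q23024, e3 q24281 (flp_f L772317) q25452, e3 q24282 (flp_f L764469) q24620, e3 q24283 (flp_f L764541) q24626, e3 q24284 (flp_f L770329) q25175, e3 q24285 (flp_f L770341) q25176, e3 q24286 (flp_f L764299) q24606, e3 q24287 (flp_f L770349) q25177, e3 q24288 (flp_f L763882) q24573, e3 q24289 (flp_f L764317) q24608, e3 q24290 (flp_f L770363) q25179, e3 q24291 (flp_f L770379) q25181, e3 q24292 (flp_f L768591) q24987, e3 q24293 L760746 q23131, e3 q24294 (flp_f L770942) q25243, e3 q24295 (flp_f L770950) q25244, e3 q24296 L760764 q23157, e3 q24297 (flp_f L769744) q25116, e3 q24298 (flp_f L770972) q25246, e3 q24299 (flp_f L770980) q25247, e3 q24300 (flp_f L770988) q25248, e3 q24301 (flp_f L769748) q25117, e3 q24302 (flp_f L771006) q25250, e3 q24303 L760803 q23046, e3 q24304 (flp_f L772440) q25476, e3 q24305 L760815 q23048, e3 q24306 (flp_f L772454) q25478, e3 q24307 (flp_f L770841) q25232, e3 q24308 (flp_f L770871) q25235, e3 q24309 (flp_f L770879) q25236, e3 q24310 (flp_f L770897) q25238, e3 q24311 (flp_f L771334) q25294, e3 q24312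 (flp_f L768474) q24976, e3 q24313 L760872 q23056, e3 q24314 (flp_f L772509) q25487, e3 q24315 L760884 q23058, e3 q24316 (flp_f L772519) q25489, e3 q24317 (flp_f L763690) q24557, e3 q24318 (flp_f L768440) q24973, e3 q24319 L760907 q23063, trivial⟩ (by decide +kernel)

theorem ce_f_380 : ∀ r, r < 64 → sm gf (Qf (24320 + r)) = Qf (tab Gen.f (24320 + r)) :=
  edges_tab (sm gf) Qf (tab Gen.f) 24320 [(24320, 23064), (24321, 25494), (24322, 25495), (24323, 24981), (24324, 25017), (24325, 23068), (24326, 24955), (24327, 25502), (24328, 25021), (24329, 25022), (24330, 23072), (24331, 25507), (24332, 25233), (24333, 23075), (24334, 24531), (24335, 23079), (24336, 25508), (24337, 23081), (24338, 25510), (24339, 23093), (24340, 23084), (24341, 25421), (24342, 25515), (24343, 23086), (24344, 25518), (24345, 24538), (24346, 23089), (24347, 25524), (24348, 25522), (24349, 25527), (24350, 23090), (24351, 25070), (24352, 25357), (24353, 25513), (24354, 23095), (24355, 25531), (24356, 23097), (24357, 25532), (24358, 25073), (24359, 23101),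 (24360, 24539), (24361, 25536), (24362, 25079), (24363, 25080), (24364, 23106), (24365, 23107), (24366, 25519), (24367, 25542), (24368, 25544), (24369, 25089), (24370, 25090), (24371, 25552), (24372, 23112), (24373, 25555), (24374, 23111), (24375, 25553), (24376, 25557), (24377, 23113), (24378, 25098), (24379, 25100), (24380, 23118), (24381, 23121), (24382, 23150), (24383, 23122)]
    ⟨e3 q24320 L760913 q23064, e3 q24321 (flp_f L772552) q25494, e3 q24322 (flp_f L772560) q25495, e3 q24323 (flp_f L768527) q24981, e3 q24324 (flp_f L768891) q25017, e3 q24325 L760945 q23068, e3 q24326 (flp_f L768270) q24955, e3 q24327 (flp_f L772605) q25502, e3 q24328 (flp_f L768929) q25021, e3 q24329 (flp_f L768937) q25022, e3 q24330 L760977 q23072, e3 q24331 (flp_f L772635) q25507, e3 q24332 (flp_f L770849) q25233, e3 q24333 L760999 q23075, e3 q24334 (flp_f L763316) q24531, e3 q24335 L761013 q23079, e3 q24336 (flp_f L772646) q25508, e3 q24337 L761031 q23081, e3 q24338 (flp_f L772659) q25510, e3 q24339 L761041 q23093, e3 q24340 L761047 q23084,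 e3 q24341 (flp_f L772123) q25421, e3 q24342 (flp_f L772685) q25515, e3 q24343 L761060 q23086, e3 q24344 (flp_f L772697) q25518, e3 q24345 (flp_f L763402) q24538, e3 q24346 L761084 q23089, e3 q24347 L772749 q25524, e3 q24348 (flp_f L772739) q25522, e3 q24349 L772777 q25527, e3 q24350 (flp_f L761110) q23090, e3 q24351 (flp_f L769381) q25070, e3 q24352 (flp_f L771744) q25357, e3 q24353 (flp_f L772674) q25513, e3 q24354 L761140 q23095, e3 q24355 (flp_f L772805) q25531, e3 q24356 L761152 q23097, e3 q24357 (flp_f L772813) q25532, e3 q24358 (flp_f L769407) q25073, e3 q24359 L761166 q23101, e3 q24360 (flp_f L763426) q24539, e3 q24361 (flp_f L772831) q25536, e3 q24362 (flp_f L769453) q25079, e3 q24363 (flp_f L769461) q25080, e3 q24364 L761194 q23106, e3 q24365 L761200 q23107, e3 q24366 (flp_f L772713) q25519, e3 q24367 (flp_f L772865) q25542, e3 q24368 (flp_f L772877) q25544, e3 q24369 (flp_f L769532) q25089, e3 q24370 (flp_f L769538) q25090, e3 q24371 L772919 q25552, e3 q24372 L761238 q23112, e3 q24373 L772933 q25555, e3 q24374 (flp_f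 L761244) q23111, e3 q24375 (flp_f L772927) q25553, e3 q24376 L772943 q25557, e3 q24377 (flp_f L761258) q23113, e3 q24378 (flp_f L769598) q25098, e3 q24379 (flp_f L769614) q25100, e3 q24380 L761272 q23118, e3 q24381 L761276 q23121, e3 q24382 L761290 q23150, e3 q24383 (flp_f L761292) q23122, trivial⟩ (by decide +kernel)

theorem ce_f_381 : ∀ r, r < 64 → sm gf (Qf (24384 + r)) = Qf (tab Gen.f (24384 + r)) :=
  edges_tab (sm gf) Qf (tab Gen.f) 24384 [(24384, 24384), (24385, 25123), (24386, 23129), (24387, 25560), (24388, 24388), (24389, 25132), (24390, 24390), (24391, 25133), (24392, 24652), (24393, 24393), (24394, 25134), (24395, 24395), (24396, 25137), (24397, 24397), (24398, 25566), (24399, 25234), (24400, 23151), (24401, 23152), (24402, 23162), (24403, 25567), (24404, 23164), (24405, 23166), (24406, 25570), (24407, 23168), (24408, 25572), (24409, 23170), (24410, 25574), (24411, 23174), (24412, 23177), (24413, 23197), (24414, 23201), (24415, 24210), (24416, 24212), (24417, 24188), (24418, 23184), (24419, 25582), (24420, 23187),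 (24421, 25569), (24422, 24193), (24423, 24192), (24424, 23603), (24425, 23991), (24426, 23193), (24427, 25575), (24428, 25591), (24429, 24211), (24430, 23198), (24431, 25577), (24432, 24186), (24433, 25578), (24434, 23203), (24435, 25597), (24436, 23597), (24437, 24437), (24438, 23594), (24439, 23209), (24440, 25602), (24441, 24441), (24442, 23212), (24443, 25605), (24444, 24199), (24445, 23812), (24446, 24022), (24447, 23227)]
    ⟨e3 q24384 L761310 q24384, e3 q24385 (flp_f L769804) q25123, e3 q24386 L761325 q23129, e3 q24387 (flp_f L772963) q25560, e3 q24388 L761337 q24388, e3 q24389 (flp_f L769887) q25132, e3 q24390 L761355 q24390, e3 q24391 (flp_f L769893) q25133, e3 q24392 (flp_f L764851) q24652, e3 q24393 L761372 q24393, e3 q24394 (flp_f L769902) q25134, e3 q24395 L761382 q24395, e3 q24396 (flp_f L769935) q25137, e3 q24397 L761395 q24397, e3 q24398 L772994 q25566, e3 q24399 (flp_f L770867) q25234, e3 q24400 (flp_f L761412) q23151, e3 q24401 (flp_f L761418) q23152, e3 q24402 L761437 q23162, e3 q24403 (flp_f L773005)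 q25567, e3 q24404 L761467 q23164, e3 q24405 L761488 q23166, e3 q24406 (flp_f L773054) q25570, e3 q24407 L761522 q23168, e3 q24408 (flp_f L773088) q25572, e3 q24409 L761552 q23170, e3 q24410 (flp_f L773120) q25574, e3 q24411 L761578 q23174, e3 q24412 L761592 q23177, e3 q24413 L761618 q23197, e3 q24414 L761633 q23201, e3 q24415 L761641 q24210, e3 q24416 L761659 q24212, e3 q24417 L761677 q24188, e3 q24418 L761695 q23184, e3 q24419 (flp_f L773242) q25582, e3 q24420 L761723 q23187, e3 q24421 (flp_f L773046) q25569, e3 q24422 L761751 q24193, e3 q24423 L761765 q24192, e3 q24424 L761787 q23603, e3 q24425 L761801 q23991, e3 q24426 L761813 q23193, e3 q24427 (flp_f L773140) q25575, e3 q24428 (flp_f L773385) q25591, e3 q24429 L761855 q24211, e3 q24430 L761861 q23198, e3 q24431 (flp_f L773168) q25577, e3 q24432 L761904 q24186, e3 q24433 (flp_f L773176) q25578, e3 q24434 L761932 q23203, e3 q24435 (flp_f L773464) q25597, e3 q24436 L761966 q23597, e3 q24437 L761980 q24437, e3 q24438 L761998 q23594, e3 q24439 L762015 q23209, e3 q24440 (flp_f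 L773546) q25602, e3 q24441 L762039 q24441, e3 q24442 L762056 q23212, e3 q24443 (flp_f L773583) q25605, e3 q24444 L762086 q24199, e3 q24445 L762105 q23812, e3 q24446 L762121 q24022, e3 q24447 L762135 q23227, trivial⟩ (by decide +kernel)

theorem ce_f_382 : ∀ r, r < 64 → sm gf (Qf (24448 + r)) = Qf (tab Gen.f (24448 + r)) :=
  edges_tab (sm gf) Qf (tab Gen.f) 24448 [(24448, 23613), (24449, 23220), (24450, 25612), (24451, 23336), (24452, 24031), (24453, 24032), (24454, 25618), (24455, 23226), (24456, 25619), (24457, 25622), (24458, 24458), (24459, 23230), (24460, 25624), (24461, 23231), (24462, 23233), (24463, 23377), (24464, 24200), (24465, 23236), (24466, 25628), (24467, 25631), (24468, 23614), (24469, 23240), (24470, 25633), (24471, 23338), (24472, 24012), (24473, 24013), (24474, 23796), (24475, 23247), (24476, 23248), (24477, 25640), (24478, 25641), (24479, 23250), (24480, 25645), (24481, 25649), (24482, 23251), (24483, 23253), (24484, 23412), (24485, 25651), (24486, 23255), (24487, 25654), (24488, 25656), (24489, 23256),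 (24490, 24490), (24491, 23259), (24492, 23420), (24493, 23261), (24494, 25662), (24495, 23262), (24496, 23266), (24497, 23428), (24498, 24498), (24499, 25665), (24500, 23432), (24501, 23436), (24502, 23437), (24503, 23272), (24504, 24504), (24505, 24505), (24506, 23800), (24507, 24507), (24508, 25672), (24509, 23279), (24510, 24510), (24511, 23738)]
    ⟨e3 q24448 L762158 q23613, e3 q24449 L762174 q23220, e3 q24450 (flp_f L773691) q25612, e3 q24451 L762203 q23336, e3 q24452 L762216 q24031, e3 q24453 L762226 q24032, e3 q24454 L773760 q25618, e3 q24455 L762251 q23226, e3 q24456 (flp_f L773779) q25619, e3 q24457 L773811 q25622, e3 q24458 L762291 q24458, e3 q24459 L762304 q23230, e3 q24460 (flp_f L773844) q25624, e3 q24461 (flp_f L762327) q23231, e3 q24462 L762346 q23233, e3 q24463 L762368 q23377, e3 q24464 L762376 q24200, e3 q24465 L762396 q23236, e3 q24466 (flp_f L773905) q25628, e3 q24467 L773939 q25631, e3 q24468 L762436 q23614, e3 q24469 L762448 q23240, e3 q24470 (flp_f L773971) q25633, e3 q24471 L762472 q23338, e3 q24472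 L762488 q24012, e3 q24473 L762500 q24013, e3 q24474 L762524 q23796, e3 q24475 L762537 q23247, e3 q24476 L762552 q23248, e3 q24477 (flp_f L774068) q25640, e3 q24478 (flp_f L774082) q25641, e3 q24479 L762588 q23250, e3 q24480 (flp_f L774128) q25645, e3 q24481 L774164 q25649, e3 q24482 (flp_f L762610) q23251, e3 q24483 L762626 q23253, e3 q24484 L762640 q23412, e3 q24485 (flp_f L774192) q25651, e3 q24486 L762656 q23255, e3 q24487 (flp_f L774222) q25654, e3 q24488 L774244 q25656, e3 q24489 (flp_f L762695) q23256, e3 q24490 L762713 q24490, e3 q24491 L762724 q23259, e3 q24492 L762742 q23420, e3 q24493 L762748 q23261, e3 q24494 L774326 q25662, e3 q24495 (flp_f L762770) q23262, e3 q24496 L762799 q23266, e3 q24497 L762813 q23428, e3 q24498 L762819 q24498, e3 q24499 L774366 q25665, e3 q24500 L762852 q23432, e3 q24501 L762869 q23436, e3 q24502 L762875 q23437, e3 q24503 (flp_f L762883) q23272, e3 q24504 L762906 q24504, e3 q24505 L762919 q24505, e3 q24506 (flp_f L762943) q23800, e3 q24507 L762949 q24507, e3 q24508 L774471 q25672, e3 q24509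 (flp_f L762971) q23279, e3 q24510 L762995 q24510, e3 q24511 L763008 q23738, trivial⟩ (by decide +kernel)

theorem ce_f_383 : ∀ r, r < 64 → sm gf (Qf (24512 + r)) = Qf (tab Gen.f (24512 + r)) :=
  edges_tab (sm gf) Qf (tab Gen.f) 24512 [(24512, 23742), (24513, 24163), (24514, 24514), (24515, 23288), (24516, 25677), (24517, 23735), (24518, 23298), (24519, 24217), (24520, 23713), (24521, 23736), (24522, 24273), (24523, 23297), (24524, 25685), (24525, 23426), (24526, 23302), (24527, 25688), (24528, 24222), (24529, 23777), (24530, 23778), (24531, 24334), (24532, 23308), (24533, 25694), (24534, 23865), (24535, 23311), (24536, 25697), (24537, 24223), (24538, 24345), (24539, 24360), (24540, 23689), (24541, 23692), (24542, 23318), (24543, 23922), (24544, 25705), (24545, 23322), (24546, 23730), (24547, 23733), (24548, 24068), (24549, 24549), (24550, 23974), (24551, 23329), (24552, 25712), (24553, 24553), (24554, 23836), (24555, 23333), (24556, 25716), (24557, 24317), (24558, 24558), (24559, 25614), (24560, 24560), (24561, 25636), (24562,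 23340), (24563, 25724), (24564, 25727), (24565, 23343), (24566, 25728), (24567, 23352), (24568, 23346), (24569, 25732), (24570, 23878), (24571, 23368), (24572, 23965), (24573, 24288), (24574, 25739), (24575, 25731)]
    ⟨e3 q24512 L763022 q23742, e3 q24513 L763044 q24163, e3 q24514 L763058 q24514, e3 q24515 L763076 q23288, e3 q24516 (flp_f L774561) q25677, e3 q24517 L763106 q23735, e3 q24518 L763118 q23298, e3 q24519 L763133 q24217, e3 q24520 L763150 q23713, e3 q24521 L763164 q23736, e3 q24522 L763183 q24273, e3 q24523 L763191 q23297, e3 q24524 (flp_f L774672) q25685, e3 q24525 L763225 q23426, e3 q24526 L763236 q23302, e3 q24527 (flp_f L774716) q25688, e3 q24528 L763262 q24222, e3 q24529 L763279 q23777, e3 q24530 L763293 q23778, e3 q24531 L763316 q24334, e3 q24532 L763324 q23308, e3 q24533 (flp_f L774804) q25694, e3 q24534 L763357 q23865, e3 q24535 L763366 q23311, e3 q24536 (flp_f L774842) q25697, e3 q24537 L763390 q24223, e3 q24538 L763402 q24345, e3 q24539 L763426 q24360, e3 q24540 L763438 q23689, e3 q24541 L763452 q23692,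 e3 q24542 L763464 q23318, e3 q24543 L763482 q23922, e3 q24544 (flp_f L774956) q25705, e3 q24545 L763496 q23322, e3 q24546 L763522 q23730, e3 q24547 L763539 q23733, e3 q24548 L763553 q24068, e3 q24549 L763567 q24549, e3 q24550 L763585 q23974, e3 q24551 L763602 q23329, e3 q24552 (flp_f L775060) q25712, e3 q24553 L763626 q24553, e3 q24554 L763647 q23836, e3 q24555 L763660 q23333, e3 q24556 (flp_f L775114) q25716, e3 q24557 L763690 q24317, e3 q24558 L763704 q24558, e3 q24559 (flp_f L773716) q25614, e3 q24560 L763727 q24560, e3 q24561 (flp_f L774007) q25636, e3 q24562 L763751 q23340, e3 q24563 (flp_f L775205) q25724, e3 q24564 L775231 q25727, e3 q24565 L763778 q23343, e3 q24566 (flp_f L775241) q25728, e3 q24567 L763805 q23352, e3 q24568 L763816 q23346, e3 q24569 (flp_f L775291) q25732, e3 q24570 L763844 q23878, e3 q24571 L763856 q23368, e3 q24572 L763872 q23965, e3 q24573 L763882 q24288, e3 q24574 L775374 q25739, e3 q24575 (flp_f L775279) q25731, trivial⟩ (by decide +kernel)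

theorem ce_f_384 : ∀ r, r < 64 → sm gf (Qf (24576 + r)) = Qf (tab Gen.f (24576 + r)) :=
  edges_tab (sm gf) Qf (tab Gen.f) 24576 [(24576, 23354), (24577, 25741), (24578, 23828), (24579, 23897), (24580, 24145), (24581, 23360), (24582, 23869), (24583, 25747), (24584, 23362), (24585, 25751), (24586, 25754), (24587, 23363), (24588, 23803), (24589, 24090), (24590, 23367), (24591, 25620), (24592, 25758), (24593, 23369), (24594, 24594), (24595, 23372), (24596, 25625), (24597, 23378), (24598, 23743), (24599, 25626), (24600, 23389), (24601, 23390), (24602, 23382), (24603, 25767), (24604, 23832), (24605, 23414), (24606, 24286), (24607, 25774), (24608, 24289), (24609, 25777), (24610, 23388), (24611, 25765), (24612, 25766), (24613, 23392), (24614, 25634), (24615, 25782), (24616, 23840), (24617, 23841), (24618, 24005), (24619, 23870), (24620, 24282), (24621, 23399), (24622, 25791), (24623, 25794), (24624, 23400), (24625, 23891), (24626, 24283), (24627, 25799), (24628, 24126), (24629, 24127), (24630, 23406), (24631, 25802), (24632, 25805),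 (24633, 23407), (24634, 23947), (24635, 24133), (24636, 24134), (24637, 25686), (24638, 23413), (24639, 25652)]
    ⟨e3 q24576 L763919 q23354, e3 q24577 (flp_f L775403) q25741, e3 q24578 L763940 q23828, e3 q24579 L763954 q23897, e3 q24580 L763973 q24145, e3 q24581 L763983 q23360, e3 q24582 L764000 q23869, e3 q24583 (flp_f L775479) q25747, e3 q24584 L764020 q23362, e3 q24585 (flp_f L775526) q25751, e3 q24586 L775552 q25754, e3 q24587 (flp_f L764046) q23363, e3 q24588 L764069 q23803, e3 q24589 L764083 q24090, e3 q24590 L764093 q23367, e3 q24591 (flp_f L773799) q25620, e3 q24592 (flp_f L775614) q25758, e3 q24593 (flp_f L764113) q23369, e3 q24594 L764132 q24594, e3 q24595 L764146 q23372, e3 q24596 (flp_f L773866) q25625, e3 q24597 L764176 q23378, e3 q24598 L764200 q23743, e3 q24599 (flp_f L773881) q25626, e3 q24600 L764226 q23389, e3 q24601 L764241 q23390, e3 q24602 L764249 q23382, e3 q24603 (flp_f L775724) q25767, e3 q24604 L764269 q23832, e3 q24605 L764283 q23414, e3 q24606 L764299 q24286, e3 q24607 L775801 q25774, e3 q24608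 L764317 q24289, e3 q24609 L775839 q25777, e3 q24610 (flp_f L764335) q23388, e3 q24611 (flp_f L775702) q25765, e3 q24612 (flp_f L775716) q25766, e3 q24613 L764375 q23392, e3 q24614 (flp_f L773987) q25634, e3 q24615 (flp_f L775903) q25782, e3 q24616 L764411 q23840, e3 q24617 L764425 q23841, e3 q24618 L764445 q24005, e3 q24619 L764457 q23870, e3 q24620 L764469 q24282, e3 q24621 L764483 q23399, e3 q24622 (flp_f L776015) q25791, e3 q24623 L776041 q25794, e3 q24624 (flp_f L764509) q23400, e3 q24625 L764529 q23891, e3 q24626 L764541 q24283, e3 q24627 L776109 q25799, e3 q24628 L764573 q24126, e3 q24629 L764587 q24127, e3 q24630 L764603 q23406, e3 q24631 (flp_f L776163) q25802, e3 q24632 L776181 q25805, e3 q24633 (flp_f L764623) q23407, e3 q24634 L764643 q23947, e3 q24635 L764651 q24133, e3 q24636 L764657 q24134, e3 q24637 (flp_f L774700) q25686, e3 q24638 L764671 q23413, e3 q24639 (flp_f L774206) q25652, trivial⟩ (by decide +kernel)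

theorem ce_f_385 : ∀ r, r < 64 → sm gf (Qf (24640 + r)) = Qf (tab Gen.f (24640 + r)) :=
  edges_tab (sm gf) Qf (tab Gen.f) 24640 [(24640, 25811), (24641, 23415), (24642, 24642), (24643, 24643), (24644, 25815), (24645, 23421), (24646, 25660), (24647, 24235), (24648, 25650), (24649, 25663), (24650, 23675), (24651, 23430), (24652, 24392), (24653, 23444), (24654, 23438), (24655, 25666), (24656, 25667), (24657, 23693), (24658, 25771), (24659, 23930), (24660, 23447), (24661, 23962), (24662, 23511), (24663, 24206), (24664, 23498), (24665, 23494), (24666, 23475), (24667, 23474), (24668, 25828), (24669, 23477), (24670, 23535), (24671, 23514), (24672, 23510), (24673, 23662), (24674, 23484), (24675, 25835), (24676, 23582), (24677, 23642), (24678, 23490), (24679, 25839), (24680, 24680), (24681, 23493), (24682, 25842), (24683, 25826), (24684, 23562), (24685, 23503), (24686, 23737), (24687, 25825), (24688, 25850), (24689, 23529), (24690, 23502), (24691, 25852), (24692, 23504), (24693, 23508), (24694, 23507), (24695, 23627), (24696, 24197),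 (24697, 25833), (24698, 25823), (24699, 24216), (24700, 23695), (24701, 25832), (24702, 25865), (24703, 23515)]
    ⟨e3 q24640 (flp_f L776241) q25811, e3 q24641 (flp_f L764685) q23415, e3 q24642 L764713 q24642, e3 q24643 L764722 q24643, e3 q24644 L776275 q25815, e3 q24645 L764749 q23421, e3 q24646 (flp_f L774309) q25660, e3 q24647 L764783 q24235, e3 q24648 (flp_f L774186) q25650, e3 q24649 (flp_f L774345) q25663, e3 q24650 (flp_f L764820) q23675, e3 q24651 (flp_f L764822) q23430, e3 q24652 L764851 q24392, e3 q24653 L764868 q23444, e3 q24654 L764876 q23438, e3 q24655 (flp_f L774388) q25666, e3 q24656 (flp_f L774403) q25667, e3 q24657 L764914 q23693, e3 q24658 (flp_f L775779) q25771, e3 q24659 L764950 q23930, e3 q24660 (flp_f L764952) q23447, e3 q24661 L764979 q23962, e3 q24662 L764993 q23511, e3 q24663 L765007 q24206, e3 q24664 L765027 q23498, e3 q24665 L765045 q23494, e3 q24666 L765059 q23475, e3 q24667 L765080 q23474, e3 q24668 (flp_f L776475) q25828, e3 q24669 L765108 q23477, e3 q24670 L765129 q23535, e3 q24671 L765141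 q23514, e3 q24672 L765153 q23510, e3 q24673 L765175 q23662, e3 q24674 L765183 q23484, e3 q24675 (flp_f L776580) q25835, e3 q24676 L765215 q23582, e3 q24677 L765228 q23642, e3 q24678 L765245 q23490, e3 q24679 (flp_f L776640) q25839, e3 q24680 L765267 q24680, e3 q24681 L765282 q23493, e3 q24682 (flp_f L776673) q25842, e3 q24683 (flp_f L776444) q25826, e3 q24684 L765324 q23562, e3 q24685 L765338 q23503, e3 q24686 L765354 q23737, e3 q24687 (flp_f L776426) q25825, e3 q24688 L776766 q25850, e3 q24689 L765387 q23529, e3 q24690 L765397 q23502, e3 q24691 (flp_f L776801) q25852, e3 q24692 (flp_f L765409) q23504, e3 q24693 L765432 q23508, e3 q24694 L765447 q23507, e3 q24695 L765465 q23627, e3 q24696 L765471 q24197, e3 q24697 (flp_f L776550) q25833, e3 q24698 (flp_f L776392) q25823, e3 q24699 L765513 q24216, e3 q24700 L765519 q23695, e3 q24701 (flp_f L776538) q25832, e3 q24702 L776947 q25865, e3 q24703 (flp_f L765541) q23515, trivial⟩ (by decide +kernel)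

theorem ce_f_386 : ∀ r, r < 64 → sm gf (Qf (24704 + r)) = Qf (tab Gen.f (24704 + r)) :=
  edges_tab (sm gf) Qf (tab Gen.f) 24704 [(24704, 23537), (24705, 23518), (24706, 23659), (24707, 25868), (24708, 24207), (24709, 23672), (24710, 23793), (24711, 25851), (24712, 24215), (24713, 23538), (24714, 23548), (24715, 23694), (24716, 25831), (24717, 25846), (24718, 25866), (24719, 25874), (24720, 23887), (24721, 23542), (24722, 25882), (24723, 24723), (24724, 23545), (24725, 25885), (24726, 23568), (24727, 25875), (24728, 23563), (24729, 23557), (24730, 23892), (24731, 23553), (24732, 25892), (24733, 25895), (24734, 23556), (24735, 25896), (24736, 23559), (24737, 23561), (24738, 25830), (24739, 25845), (24740, 25889), (24741, 23606), (24742, 23566), (24743, 25903), (24744, 25887), (24745, 23575), (24746, 25908), (24747, 23571), (24748, 25909), (24749, 25913), (24750, 23572), (24751, 23574), (24752, 25836), (24753, 25914), (24754, 23576), (24755, 23578), (24756, 25918), (24757, 23579), (24758, 23636), (24759, 23678), (24760, 24161),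 (24761, 23585), (24762, 23770), (24763, 23590), (24764, 25922), (24765, 24765), (24766, 23593), (24767, 25924)]
    ⟨e3 q24704 L765561 q23537, e3 q24705 L765571 q23518, e3 q24706 L765581 q23659, e3 q24707 (flp_f L776991) q25868, e3 q24708 L765605 q24207, e3 q24709 L765621 q23672, e3 q24710 L765637 q23793, e3 q24711 (flp_f L776789) q25851, e3 q24712 L765659 q24215, e3 q24713 L765676 q23538, e3 q24714 L765692 q23548, e3 q24715 L765707 q23694, e3 q24716 (flp_f L776520) q25831, e3 q24717 (flp_f L776734) q25846, e3 q24718 (flp_f L776965) q25866, e3 q24719 (flp_f L777058) q25874, e3 q24720 L765765 q23887, e3 q24721 L765782 q23542, e3 q24722 (flp_f L777164) q25882, e3 q24723 L765810 q24723, e3 q24724 L765827 q23545, e3 q24725 (flp_f L777205) q25885, e3 q24726 L765857 q23568, e3 q24727 (flp_f L777072) q25875, e3 q24728 L765883 q23563, e3 q24729 L765897 q23557, e3 q24730 L765913 q23892, e3 q24731 L765929 q23553, e3 q24732 (flp_f L777298) q25892, e3 q24733 L777330 q25895, e3 q24734 L765958 q23556, e3 q24735 (flp_f L777351) q25896,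 e3 q24736 (flp_f L765970) q23559, e3 q24737 L765991 q23561, e3 q24738 (flp_f L776512) q25830, e3 q24739 (flp_f L776709) q25845, e3 q24740 (flp_f L777255) q25889, e3 q24741 L766037 q23606, e3 q24742 L766051 q23566, e3 q24743 (flp_f L777424) q25903, e3 q24744 (flp_f L777231) q25887, e3 q24745 L766077 q23575, e3 q24746 L777472 q25908, e3 q24747 L766105 q23571, e3 q24748 (flp_f L777494) q25909, e3 q24749 L777522 q25913, e3 q24750 (flp_f L766123) q23572, e3 q24751 L766139 q23574, e3 q24752 (flp_f L776604) q25836, e3 q24753 (flp_f L777532) q25914, e3 q24754 (flp_f L766157) q23576, e3 q24755 L766179 q23578, e3 q24756 L777569 q25918, e3 q24757 (flp_f L766201) q23579, e3 q24758 L766230 q23636, e3 q24759 L766238 q23678, e3 q24760 L766259 q24161, e3 q24761 (flp_f L766261) q23585, e3 q24762 L766289 q23770, e3 q24763 L766306 q23590, e3 q24764 (flp_f L777635) q25922, e3 q24765 L766330 q24765, e3 q24766 L766343 q23593, e3 q24767 (flp_f L777657) q25924, trivial⟩ (by decide +kernel)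

theorem ce_f_387 : ∀ r, r < 64 → sm gf (Qf (24768 + r)) = Qf (tab Gen.f (24768 + r)) :=
  edges_tab (sm gf) Qf (tab Gen.f) 24768 [(24768, 25601), (24769, 24769), (24770, 24016), (24771, 25599), (24772, 23599), (24773, 25931), (24774, 25934), (24775, 23602), (24776, 25935), (24777, 25588), (24778, 23754), (24779, 23773), (24780, 25902), (24781, 25899), (24782, 23609), (24783, 25943), (24784, 23701), (24785, 24157), (24786, 25949), (24787, 25611), (24788, 25632), (24789, 23616), (24790, 25953), (24791, 25957), (24792, 23617), (24793, 23981), (24794, 23620), (24795, 25853), (24796, 25960), (24797, 25827), (24798, 23622), (24799, 25907), (24800, 23996), (24801, 25856), (24802, 23629), (24803, 25964), (24804, 23632), (24805, 23633), (24806, 25967), (24807, 25968), (24808, 23635), (24809, 25972), (24810, 25919), (24811, 23638), (24812, 25834), (24813, 25976), (24814, 24164), (24815, 24165), (24816, 23643), (24817, 25838), (24818, 25981), (24819, 23645), (24820, 25985), (24821, 25989), (24822, 23646), (24823, 23649), (24824, 23650),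 (24825, 25990), (24826, 25991), (24827, 25997), (24828, 24225), (24829, 23653), (24830, 26002), (24831, 26000)]
    ⟨e3 q24768 (flp_f L773529) q25601, e3 q24769 L766377 q24769, e3 q24770 L766394 q24016, e3 q24771 (flp_f L773498) q25599, e3 q24772 L766412 q23599, e3 q24773 (flp_f L777727) q25931, e3 q24774 L777749 q25934, e3 q24775 L766435 q23602, e3 q24776 (flp_f L777757) q25935, e3 q24777 (flp_f L773337) q25588, e3 q24778 L766476 q23754, e3 q24779 L766489 q23773, e3 q24780 (flp_f L777410) q25902, e3 q24781 (flp_f L777384) q25899, e3 q24782 L766516 q23609, e3 q24783 (flp_f L777849) q25943, e3 q24784 L766537 q23701, e3 q24785 L766549 q24157, e3 q24786 L777913 q25949, e3 q24787 (flp_f L773677) q25611, e3 q24788 (flp_f L773959) q25632, e3 q24789 L766589 q23616, e3 q24790 (flp_f L777953) q25953, e3 q24791 L777987 q25957, e3 q24792 (flp_f L766609) q23617, e3 q24793 L766620 q23981, e3 q24794 L766630 q23620, e3 q24795 (flp_f L776811) q25853, e3 q24796 (flp_f L778021) q25960, e3 q24797 (flp_f L776467) q25827, e3 q24798 (flp_f L766655)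 q23622, e3 q24799 (flp_f L777470) q25907, e3 q24800 L766693 q23996, e3 q24801 (flp_f L776853) q25856, e3 q24802 L766704 q23629, e3 q24803 (flp_f L778043) q25964, e3 q24804 L766729 q23632, e3 q24805 L766742 q23633, e3 q24806 (flp_f L778080) q25967, e3 q24807 (flp_f L778092) q25968, e3 q24808 L766774 q23635, e3 q24809 (flp_f L778130) q25972, e3 q24810 (flp_f L777592) q25919, e3 q24811 L766794 q23638, e3 q24812 (flp_f L776574) q25834, e3 q24813 (flp_f L778160) q25976, e3 q24814 L766826 q24164, e3 q24815 L766836 q24165, e3 q24816 L766853 q23643, e3 q24817 (flp_f L776623) q25838, e3 q24818 (flp_f L778216) q25981, e3 q24819 L766887 q23645, e3 q24820 (flp_f L778258) q25985, e3 q24821 L778298 q25989, e3 q24822 (flp_f L766911) q23646, e3 q24823 L766930 q23649, e3 q24824 L766936 q23650, e3 q24825 (flp_f L778310) q25990, e3 q24826 (flp_f L778316) q25991, e3 q24827 L778359 q25997, e3 q24828 L766964 q24225, e3 q24829 L766970 q23653, e3 q24830 L778395 q26002, e3 q24831 (flp_f L778389) q26000, trivial⟩ (by decide +kernel)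

theorem ce_f_388 : ∀ r, r < 64 → sm gf (Qf (24832 + r)) = Qf (tab Gen.f (24832 + r)) :=
  edges_tab (sm gf) Qf (tab Gen.f) 24832 [(24832, 26005), (24833, 23654), (24834, 24231), (24835, 24227), (24836, 24232), (24837, 24213), (24838, 23660), (24839, 25869), (24840, 26010), (24841, 25917), (24842, 26013), (24843, 23664), (24844, 24189), (24845, 25890), (24846, 23668), (24847, 25871), (24848, 23683), (24849, 23952), (24850, 25814), (24851, 24851), (24852, 25920), (24853, 24853), (24854, 24854), (24855, 26016), (24856, 24856), (24857, 26023), (24858, 26025), (24859, 23686), (24860, 23687), (24861, 25702), (24862, 23904), (24863, 23938), (24864, 25703), (24865, 25876), (24866, 25861), (24867, 23697), (24868, 23786), (24869, 26032), (24870, 23700), (24871, 26035), (24872, 25946), (24873, 26039), (24874, 23704), (24875, 26040), (24876, 23706), (24877, 26043), (24878, 23708), (24879, 26045), (24880, 23710), (24881, 23852), (24882, 26048), (24883, 23859), (24884, 25682), (24885, 23715), (24886, 26052), (24887, 24241), (24888, 23718),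 (24889, 23895), (24890, 26056), (24891, 24015), (24892, 24243), (24893, 23722), (24894, 26061), (24895, 23740)]
    ⟨e3 q24832 L778413 q26005, e3 q24833 (flp_f L766990) q23654, e3 q24834 L767002 q24231, e3 q24835 L767006 q24227, e3 q24836 L767016 q24232, e3 q24837 L767032 q24213, e3 q24838 L767036 q23660, e3 q24839 (flp_f L777001) q25869, e3 q24840 (flp_f L778457) q26010, e3 q24841 (flp_f L777567) q25917, e3 q24842 L778471 q26013, e3 q24843 (flp_f L767072) q23664, e3 q24844 L767098 q24189, e3 q24845 (flp_f L777278) q25890, e3 q24846 (flp_f L767105) q23668, e3 q24847 (flp_f L777017) q25871, e3 q24848 L767116 q23683, e3 q24849 L767130 q23952, e3 q24850 L776273 q25814, e3 q24851 L767149 q24851, e3 q24852 (flp_f L777605) q25920, e3 q24853 L767171 q24853, e3 q24854 L767184 q24854, e3 q24855 (flp_f L778503) q26016, e3 q24856 L767210 q24856, e3 q24857 L778583 q26023, e3 q24858 L778601 q26025, e3 q24859 (flp_f L767239) q23686, e3 q24860 (flp_f L767244) q23687, e3 q24861 (flp_f L774912) q25702, e3 q24862 L767276 q23904, e3 q24863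 L767297 q23938, e3 q24864 (flp_f L774926) q25703, e3 q24865 (flp_f L777084) q25876, e3 q24866 (flp_f L776905) q25861, e3 q24867 L767337 q23697, e3 q24868 L767351 q23786, e3 q24869 (flp_f L778692) q26032, e3 q24870 L767370 q23700, e3 q24871 (flp_f L778722) q26035, e3 q24872 (flp_f L777877) q25946, e3 q24873 L778758 q26039, e3 q24874 L767406 q23704, e3 q24875 (flp_f L778773) q26040, e3 q24876 L767429 q23706, e3 q24877 (flp_f L778800) q26043, e3 q24878 L767451 q23708, e3 q24879 (flp_f L778826) q26045, e3 q24880 L767473 q23710, e3 q24881 L767487 q23852, e3 q24882 (flp_f L778860) q26048, e3 q24883 L767510 q23859, e3 q24884 (flp_f L774632) q25682, e3 q24885 L767532 q23715, e3 q24886 (flp_f L778906) q26052, e3 q24887 L767552 q24241, e3 q24888 L767564 q23718, e3 q24889 L767576 q23895, e3 q24890 (flp_f L778951) q26056, e3 q24891 L767590 q24015, e3 q24892 L767606 q24243, e3 q24893 L767622 q23722, e3 q24894 (flp_f L779009) q26061, e3 q24895 L767648 q23740, trivial⟩ (by decide +kernel)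

theorem ce_f_389 : ∀ r, r < 64 → sm gf (Qf (24896 + r)) = Qf (tab Gen.f (24896 + r)) :=
  edges_tab (sm gf) Qf (tab Gen.f) 24896 [(24896, 23744), (24897, 25704), (24898, 23727), (24899, 23924), (24900, 26067), (24901, 25708), (24902, 23948), (24903, 23732), (24904, 23963), (24905, 25679), (24906, 25683), (24907, 25847), (24908, 25673), (24909, 25763), (24910, 26063), (24911, 24242), (24912, 25674), (24913, 25757), (24914, 26065), (24915, 23746), (24916, 26083), (24917, 23748), (24918, 26085), (24919, 26088), (24920, 23751), (24921, 26089), (24922, 23753), (24923, 26092), (24924, 25939), (24925, 23756), (24926, 26095), (24927, 23758), (24928, 24267), (24929, 26098), (24930, 24930), (24931, 23761), (24932, 24272), (24933, 24046), (24934, 23765), (24935, 26105), (24936, 23767), (24937, 26107), (24938, 23769), (24939, 26110), (24940, 25921), (24941, 23772), (24942, 26113), (24943, 25940), (24944, 23775), (24945, 25862), (24946, 26118), (24947, 24085), (24948, 25691), (24949, 25692), (24950, 23781), (24951, 23782), (24952, 26124),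 (24953, 26125), (24954, 23784), (24955, 24326), (24956, 26129), (24957, 23787), (24958, 26033), (24959, 26132)]
    ⟨e3 q24896 L767656 q23744, e3 q24897 (flp_f L774950) q25704, e3 q24898 L767670 q23727, e3 q24899 L767676 q23924, e3 q24900 (flp_f L779069) q26067, e3 q24901 (flp_f L775000) q25708, e3 q24902 L767696 q23948, e3 q24903 (flp_f L767704) q23732, e3 q24904 L767720 q23963, e3 q24905 (flp_f L774591) q25679, e3 q24906 (flp_f L774646) q25683, e3 q24907 (flp_f L776740) q25847, e3 q24908 (flp_f L774490) q25673, e3 q24909 (flp_f L775679) q25763, e3 q24910 (flp_f L779035) q26063, e3 q24911 L767779 q24242, e3 q24912 (flp_f L774508) q25674, e3 q24913 (flp_f L775610) q25757, e3 q24914 (flp_f L779055) q26065, e3 q24915 L767814 q23746, e3 q24916 (flp_f L779215) q26083, e3 q24917 L767841 q23748, e3 q24918 (flp_f L779241) q26085, e3 q24919 L779273 q26088, e3 q24920 L767875 q23751, e3 q24921 (flp_f L779290) q26089, e3 q24922 L767898 q23753, e3 q24923 (flp_f L779317) q26092, e3 q24924 (flp_f L777807) q25939, e3 q24925 L767936 q23756,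 e3 q24926 (flp_f L779353) q26095, e3 q24927 L767958 q23758, e3 q24928 L767972 q24267, e3 q24929 (flp_f L779387) q26098, e3 q24930 L767988 q24930, e3 q24931 L767998 q23761, e3 q24932 L768016 q24272, e3 q24933 L768027 q24046, e3 q24934 L768038 q23765, e3 q24935 (flp_f L779463) q26105, e3 q24936 L768062 q23767, e3 q24937 (flp_f L779489) q26107, e3 q24938 L768081 q23769, e3 q24939 (flp_f L779512) q26110, e3 q24940 (flp_f L777618) q25921, e3 q24941 L768121 q23772, e3 q24942 (flp_f L779546) q26113, e3 q24943 (flp_f L777821) q25940, e3 q24944 L768149 q23775, e3 q24945 (flp_f L776931) q25862, e3 q24946 (flp_f L779596) q26118, e3 q24947 L768173 q24085, e3 q24948 (flp_f L774760) q25691, e3 q24949 (flp_f L774774) q25692, e3 q24950 L768212 q23781, e3 q24951 L768222 q23782, e3 q24952 (flp_f L779658) q26124, e3 q24953 (flp_f L779670) q26125, e3 q24954 L768256 q23784, e3 q24955 L768270 q24326, e3 q24956 (flp_f L779709) q26129, e3 q24957 L768284 q23787, e3 q24958 (flp_f L778704) q26033, e3 q24959 (flp_f L779737) q26132, trivial⟩ (by decide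 +kernel)

theorem ce_f_390 : ∀ r, r < 64 → sm gf (Qf (24960 + r)) = Qf (tab Gen.f (24960 + r)) :=
  edges_tab (sm gf) Qf (tab Gen.f) 24960 [(24960, 24960), (24961, 23790), (24962, 24066), (24963, 24963), (24964, 26139), (24965, 24275), (24966, 24014), (24967, 25639), (24968, 26143), (24969, 23798), (24970, 25670), (24971, 24971), (24972, 25755), (24973, 24318), (24974, 23807), (24975, 26147), (24976, 24312), (24977, 23811), (24978, 26150), (24979, 25608), (24980, 24980), (24981, 24323), (24982, 23816), (24983, 26157), (24984, 24984), (24985, 26161), (24986, 23820), (24987, 24292), (24988, 26162), (24989, 24069), (24990, 23823), (24991, 26166), (24992, 26170), (24993, 23824), (24994, 24071), (24995, 23827), (24996, 26041), (24997, 26174), (24998, 25744), (24999, 23837), (25000, 23831), (25001, 26179), (25002, 25770), (25003, 24080), (25004, 23835), (25005, 26184), (25006, 25715), (25007, 26178), (25008, 23839), (25009, 26046), (25010, 26189), (25011, 25785), (25012, 25786), (25013, 23844), (25014, 23845), (25015, 26194), (25016,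 26195), (25017, 24324), (25018, 23848), (25019, 24007), (25020, 26199), (25021, 24328), (25022, 24329), (25023, 25695)]
    ⟨e3 q24960 L768304 q24960, e3 q24961 L768314 q23790, e3 q24962 L768334 q24066, e3 q24963 L768340 q24963, e3 q24964 L779797 q26139, e3 q24965 L768363 q24275, e3 q24966 L768374 q24014, e3 q24967 L774057 q25639, e3 q24968 L779830 q26143, e3 q24969 (flp_f L768389) q23798, e3 q24970 L774456 q25670, e3 q24971 L768408 q24971, e3 q24972 (flp_f L775572) q25755, e3 q24973 L768440 q24318, e3 q24974 L768455 q23807, e3 q24975 (flp_f L779884) q26147, e3 q24976 L768474 q24312, e3 q24977 L768480 q23811, e3 q24978 (flp_f L779912) q26150, e3 q24979 (flp_f L773630) q25608, e3 q24980 L768510 q24980, e3 q24981 L768527 q24323, e3 q24982 L768540 q23816, e3 q24983 (flp_f L779988) q26157, e3 q24984 L768552 q24984, e3 q24985 L780014 q26161, e3 q24986 L768575 q23820, e3 q24987 L768591 q24292, e3 q24988 (flp_f L780027) q26162, e3 q24989 L768614 q24069, e3 q24990 L768622 q23823, e3 q24991 (flp_f L780071) q26166, e3 q24992 L780090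 q26170, e3 q24993 (flp_f L768636) q23824, e3 q24994 L768645 q24071, e3 q24995 L768655 q23827, e3 q24996 (flp_f L778784) q26041, e3 q24997 (flp_f L780126) q26174, e3 q24998 (flp_f L775437) q25744, e3 q24999 L768689 q23837, e3 q25000 L768697 q23831, e3 q25001 (flp_f L780170) q26179, e3 q25002 (flp_f L775753) q25770, e3 q25003 L768735 q24080, e3 q25004 L768747 q23835, e3 q25005 (flp_f L780223) q26184, e3 q25006 (flp_f L775100) q25715, e3 q25007 (flp_f L780160) q26178, e3 q25008 L768791 q23839, e3 q25009 (flp_f L778844) q26046, e3 q25010 (flp_f L780271) q26189, e3 q25011 (flp_f L775933) q25785, e3 q25012 (flp_f L775947) q25786, e3 q25013 L768843 q23844, e3 q25014 L768853 q23845, e3 q25015 (flp_f L780319) q26194, e3 q25016 (flp_f L780331) q26195, e3 q25017 L768891 q24324, e3 q25018 L768901 q23848, e3 q25019 L768915 q24007, e3 q25020 (flp_f L780377) q26199, e3 q25021 L768929 q24328, e3 q25022 L768937 q24329, e3 q25023 (flp_f L774828) q25695, trivial⟩ (by decide +kernel)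

theorem ce_f_391 : ∀ r, r < 64 → sm gf (Qf (25024 + r)) = Qf (tab Gen.f (25024 + r)) :=
  edges_tab (sm gf) Qf (tab Gen.f) 25024 [(25024, 23853), (25025, 26049), (25026, 26206), (25027, 25027), (25028, 25028), (25029, 25029), (25030, 26213), (25031, 23860), (25032, 24140), (25033, 23868), (25034, 24236), (25035, 24083), (25036, 24143), (25037, 24129), (25038, 25748), (25039, 25788), (25040, 23888), (25041, 23873), (25042, 26223), (25043, 26227), (25044, 23874), (25045, 23893), (25046, 23877), (25047, 26053), (25048, 26230), (25049, 25734), (25050, 23881), (25051, 26234), (25052, 24114), (25053, 23885), (25054, 23886), (25055, 26238), (25056, 26239), (25057, 25881), (25058, 26222), (25059, 23890), (25060, 25796), (25061, 26246), (25062, 25795), (25063, 25891), (25064, 26228), (25065, 26254), (25066, 23896), (25067, 26057), (25068, 26255), (25069, 25745), (25070, 24351), (25071, 23900), (25072, 26260), (25073, 24358), (25074, 23903), (25075, 26028), (25076, 26264), (25077, 26027), (25078, 24018), (25079, 24362), (25080, 24363),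 (25081, 23910), (25082, 23911), (25083, 26276), (25084, 26272), (25085, 25736), (25086, 26274), (25087, 26282)]
    ⟨e3 q25024 L768953 q23853, e3 q25025 (flp_f L778874) q26049, e3 q25026 (flp_f L780441) q26206, e3 q25027 L768975 q25027, e3 q25028 L768990 q25028, e3 q25029 L769000 q25029, e3 q25030 L780509 q26213, e3 q25031 L769019 q23860, e3 q25032 L769037 q24140, e3 q25033 L769041 q23868, e3 q25034 L769059 q24236, e3 q25035 L769072 q24083, e3 q25036 L769085 q24143, e3 q25037 L769089 q24129, e3 q25038 (flp_f L775497) q25748, e3 q25039 (flp_f L775975) q25788, e3 q25040 L769130 q23888, e3 q25041 L769138 q23873, e3 q25042 (flp_f L780620) q26223, e3 q25043 L780655 q26227, e3 q25044 (flp_f L769166) q23874, e3 q25045 L769185 q23893, e3 q25046 L769191 q23877, e3 q25047 (flp_f L778921) q26053, e3 q25048 (flp_f L780684) q26230, e3 q25049 (flp_f L775315) q25734, e3 q25050 L769224 q23881, e3 q25051 (flp_f L780714) q26234, e3 q25052 L769237 q24114, e3 q25053 L769250 q23885, e3 q25054 L769260 q23886, e3 q25055 (flp_f L780752) q26238,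 e3 q25056 (flp_f L780764) q26239, e3 q25057 (flp_f L777147) q25881, e3 q25058 (flp_f L780610) q26222, e3 q25059 L769306 q23890, e3 q25060 (flp_f L776081) q25796, e3 q25061 (flp_f L780821) q26246, e3 q25062 (flp_f L776059) q25795, e3 q25063 (flp_f L777284) q25891, e3 q25064 (flp_f L780673) q26228, e3 q25065 L780873 q26254, e3 q25066 L769354 q23896, e3 q25067 (flp_f L778963) q26057, e3 q25068 (flp_f L780879) q26255, e3 q25069 (flp_f L775451) q25745, e3 q25070 L769381 q24351, e3 q25071 L769389 q23900, e3 q25072 (flp_f L780915) q26260, e3 q25073 L769407 q24358, e3 q25074 L769415 q23903, e3 q25075 (flp_f L778652) q26028, e3 q25076 (flp_f L780952) q26264, e3 q25077 (flp_f L778628) q26027, e3 q25078 L769446 q24018, e3 q25079 L769453 q24362, e3 q25080 L769461 q24363, e3 q25081 L769469 q23910, e3 q25082 L769475 q23911, e3 q25083 L781034 q26276, e3 q25084 (flp_f L781013) q26272, e3 q25085 (flp_f L775344) q25736, e3 q25086 (flp_f L781024) q26274, e3 q25087 L781089 q26282, trivial⟩ (by decide +kernel)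

theorem ce_f_392 : ∀ r, r < 64 → sm gf (Qf (25088 + r)) = Qf (tab Gen.f (25088 + r)) :=
  edges_tab (sm gf) Qf (tab Gen.f) 25088 [(25088, 23912), (25089, 24369), (25090, 24370), (25091, 26287), (25092, 23917), (25093, 26291), (25094, 23916), (25095, 26288), (25096, 26293), (25097, 23918), (25098, 24378), (25099, 24224), (25100, 24379), (25101, 25706), (25102, 23925), (25103, 26068), (25104, 26069), (25105, 25821), (25106, 25106), (25107, 25107), (25108, 26304), (25109, 24078), (25110, 25110), (25111, 26018), (25112, 25112), (25113, 26171), (25114, 23933), (25115, 23936), (25116, 24297), (25117, 24301), (25118, 26313), (25119, 23940), (25120, 24089), (25121, 24100), (25122, 24119), (25123, 24385), (25124, 25806), (25125, 26070), (25126, 23949), (25127, 26017), (25128, 25128), (25129, 26323), (25130, 25664), (25131, 23954), (25132, 24389), (25133, 24391), (25134, 24394), (25135, 23969), (25136, 24152), (25137, 24396), (25138, 24150), (25139, 25822), (25140, 26071), (25141, 25711), (25142, 26333), (25143, 23966), (25144, 25144),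 (25145, 26335), (25146, 26322), (25147, 23972), (25148, 24190), (25149, 24196), (25150, 24159), (25151, 23979)]
    ⟨e3 q25088 (flp_f L769520) q23912, e3 q25089 L769532 q24369, e3 q25090 L769538 q24370, e3 q25091 L781125 q26287, e3 q25092 L769554 q23917, e3 q25093 L781151 q26291, e3 q25094 (flp_f L769560) q23916, e3 q25095 (flp_f L781135) q26288, e3 q25096 L781175 q26293, e3 q25097 (flp_f L769586) q23918, e3 q25098 L769598 q24378, e3 q25099 L769610 q24224, e3 q25100 L769614 q24379, e3 q25101 (flp_f L774974) q25706, e3 q25102 L769626 q23925, e3 q25103 (flp_f L779075) q26068, e3 q25104 (flp_f L779079) q26069, e3 q25105 (flp_f L776366) q25821, e3 q25106 L769647 q25106, e3 q25107 L769657 q25107, e3 q25108 L781251 q26304, e3 q25109 L769679 q24078, e3 q25110 L769683 q25110, e3 q25111 (flp_f L778530) q26018, e3 q25112 L769702 q25112, e3 q25113 (flp_f L780101) q26171, e3 q25114 (flp_f L769719) q23933, e3 q25115 L769728 q23936, e3 q25116 L769744 q24297, e3 q25117 L769748 q24301, e3 q25118 L781342 q26313, e3 q25119 (flp_f L769757)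 q23940, e3 q25120 L769766 q24089, e3 q25121 L769782 q24100, e3 q25122 L769788 q24119, e3 q25123 L769804 q24385, e3 q25124 (flp_f L776201) q25806, e3 q25125 (flp_f L779093) q26070, e3 q25126 (flp_f L769816) q23949, e3 q25127 (flp_f L778514) q26017, e3 q25128 L769843 q25128, e3 q25129 L781431 q26323, e3 q25130 L774364 q25664, e3 q25131 (flp_f L769868) q23954, e3 q25132 L769887 q24389, e3 q25133 L769893 q24391, e3 q25134 L769902 q24394, e3 q25135 L769912 q23969, e3 q25136 L769925 q24152, e3 q25137 L769935 q24396, e3 q25138 L769944 q24150, e3 q25139 (flp_f L776382) q25822, e3 q25140 (flp_f L779107) q26071, e3 q25141 (flp_f L775043) q25711, e3 q25142 L781531 q26333, e3 q25143 (flp_f L769984) q23966, e3 q25144 L770001 q25144, e3 q25145 L781556 q26335, e3 q25146 L781429 q26322, e3 q25147 (flp_f L770030) q23972, e3 q25148 L770044 q24190, e3 q25149 L770056 q24196, e3 q25150 L770068 q24159, e3 q25151 L770082 q23979, trivial⟩ (by decide +kernel)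

theorem ce_f_393 : ∀ r, r < 64 → sm gf (Qf (25152 + r)) = Qf (tab Gen.f (25152 + r)) :=
  edges_tab (sm gf) Qf (tab Gen.f) 25152 [(25152, 26339), (25153, 24214), (25154, 25958), (25155, 24201), (25156, 24204), (25157, 23985), (25158, 26345), (25159, 23987), (25160, 26348), (25161, 24191), (25162, 23990), (25163, 25959), (25164, 26353), (25165, 25589), (25166, 23993), (25167, 26357), (25168, 25585), (25169, 25855), (25170, 24274), (25171, 26137), (25172, 24276), (25173, 24277), (25174, 24278), (25175, 24284), (25176, 24285), (25177, 24287), (25178, 25787), (25179, 24290), (25180, 26200), (25181, 24291), (25182, 24239), (25183, 24240), (25184, 25637), (25185, 25638), (25186, 26141), (25187, 26059), (25188, 25929), (25189, 25189), (25190, 26268), (25191, 26380), (25192, 24021), (25193, 26381), (25194, 25609), (25195, 26386), (25196, 24025), (25197, 26387), (25198, 24027), (25199, 26390), (25200, 26394), (25201, 24028), (25202, 24030), (25203, 26396), (25204, 25615), (25205, 25616), (25206, 26402), (25207, 24033), (25208, 24035),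 (25209, 26403), (25210, 26407), (25211, 24037), (25212, 26104), (25213, 26408), (25214, 26412), (25215, 24038)]
    ⟨e3 q25152 (flp_f L781612) q26339, e3 q25153 L770098 q24214, e3 q25154 (flp_f L777995) q25958, e3 q25155 L770120 q24201, e3 q25156 L770130 q24204, e3 q25157 L770144 q23985, e3 q25158 (flp_f L781678) q26345, e3 q25159 L770168 q23987, e3 q25160 (flp_f L781718) q26348, e3 q25161 L770192 q24191, e3 q25162 L770202 q23990, e3 q25163 (flp_f L778017) q25959, e3 q25164 (flp_f L781785) q26353, e3 q25165 (flp_f L773353) q25589, e3 q25166 L770232 q23993, e3 q25167 (flp_f L781817) q26357, e3 q25168 (flp_f L773299) q25585, e3 q25169 (flp_f L776836) q25855, e3 q25170 L770270 q24274, e3 q25171 (flp_f L779785) q26137, e3 q25172 L770293 q24276, e3 q25173 L770307 q24277, e3 q25174 L770319 q24278, e3 q25175 L770329 q24284, e3 q25176 L770341 q24285, e3 q25177 L770349 q24287, e3 q25178 (flp_f L775967) q25787, e3 q25179 L770363 q24290, e3 q25180 (flp_f L780389) q26200, e3 q25181 L770379 q24291, e3 q25182 L770389 q24239, e3 q25183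 L770401 q24240, e3 q25184 (flp_f L774021) q25637, e3 q25185 (flp_f L774033) q25638, e3 q25186 (flp_f L779818) q26141, e3 q25187 (flp_f L778975) q26059, e3 q25188 (flp_f L777711) q25929, e3 q25189 L770451 q25189, e3 q25190 (flp_f L780982) q26268, e3 q25191 L782046 q26380, e3 q25192 L770484 q24021, e3 q25193 (flp_f L782061) q26381, e3 q25194 (flp_f L773644) q25609, e3 q25195 L782088 q26386, e3 q25196 L770515 q24025, e3 q25197 (flp_f L782106) q26387, e3 q25198 L770533 q24027, e3 q25199 (flp_f L782140) q26390, e3 q25200 L782174 q26394, e3 q25201 (flp_f L770555) q24028, e3 q25202 L770573 q24030, e3 q25203 (flp_f L782196) q26396, e3 q25204 (flp_f L773730) q25615, e3 q25205 (flp_f L773740) q25616, e3 q25206 L782242 q26402, e3 q25207 (flp_f L770607) q24033, e3 q25208 L770623 q24035, e3 q25209 (flp_f L782254) q26403, e3 q25210 L782289 q26407, e3 q25211 L770653 q24037, e3 q25212 (flp_f L779451) q26104, e3 q25213 (flp_f L782301) q26408, e3 q25214 L782323 q26412, e3 q25215 (flp_f L770675) q24038, trivial⟩ (by decide +kernel)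

theorem ce_f_394 : ∀ r, r < 64 → sm gf (Qf (25216 + r)) = Qf (tab Gen.f (25216 + r)) :=
  edges_tab (sm gf) Qf (tab Gen.f) 25216 [(25216, 24041), (25217, 26413), (25218, 24042), (25219, 26103), (25220, 25220), (25221, 26325), (25222, 24048), (25223, 24049), (25224, 26414), (25225, 24051), (25226, 26329), (25227, 25227), (25228, 26417), (25229, 26415), (25230, 24055), (25231, 24057), (25232, 24307), (25233, 24332), (25234, 24399), (25235, 24308), (25236, 24309), (25237, 26114), (25238, 24310), (25239, 25709), (25240, 26165), (25241, 26429), (25242, 26172), (25243, 24294), (25244, 24295), (25245, 26216), (25246, 24298), (25247, 24299), (25248, 24300), (25249, 26305), (25250, 24302), (25251, 26183), (25252, 24082), (25253, 26442), (25254, 26217), (25255, 24086), (25256, 26121), (25257, 26445), (25258, 26314), (25259, 24088), (25260, 26450), (25261, 26290), (25262, 25756), (25263, 24092), (25264, 26454), (25265, 24094), (25266, 26455), (25267, 26459), (25268, 24095), (25269, 24097), (25270, 26349), (25271, 26460), (25272, 24099),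 (25273, 26463), (25274, 26315), (25275, 24103), (25276, 24104), (25277, 26467), (25278, 26468), (25279, 26474)]
    ⟨e3 q25216 L770685 q24041, e3 q25217 (flp_f L782337) q26413, e3 q25218 (flp_f L770695) q24042, e3 q25219 (flp_f L779445) q26103, e3 q25220 L770726 q25220, e3 q25221 (flp_f L781456) q26325, e3 q25222 (flp_f L770740) q24048, e3 q25223 (flp_f L770752) q24049, e3 q25224 L782341 q26414, e3 q25225 (flp_f L770777) q24051, e3 q25226 (flp_f L781494) q26329, e3 q25227 L770800 q25227, e3 q25228 L782372 q26417, e3 q25229 (flp_f L782362) q26415, e3 q25230 (flp_f L770820) q24055, e3 q25231 (flp_f L770830) q24057, e3 q25232 L770841 q24307, e3 q25233 L770849 q24332, e3 q25234 L770867 q24399, e3 q25235 L770871 q24308, e3 q25236 L770879 q24309, e3 q25237 (flp_f L779566) q26114, e3 q25238 L770897 q24310, e3 q25239 (flp_f L775012) q25709, e3 q25240 (flp_f L780063) q26165, e3 q25241 L782483 q26429, e3 q25242 (flp_f L780105) q26172, e3 q25243 L770942 q24294, e3 q25244 L770950 q24295, e3 q25245 (flp_f L780549) q26216, e3 q25246 L770972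 q24298, e3 q25247 L770980 q24299, e3 q25248 L770988 q24300, e3 q25249 (flp_f L781263) q26305, e3 q25250 L771006 q24302, e3 q25251 (flp_f L780209) q26183, e3 q25252 L771028 q24082, e3 q25253 (flp_f L782603) q26442, e3 q25254 (flp_f L780555) q26217, e3 q25255 L771052 q24086, e3 q25256 (flp_f L779618) q26121, e3 q25257 (flp_f L782629) q26445, e3 q25258 (flp_f L781357) q26314, e3 q25259 L771075 q24088, e3 q25260 (flp_f L782664) q26450, e3 q25261 L781149 q26290, e3 q25262 (flp_f L775586) q25756, e3 q25263 L771107 q24092, e3 q25264 (flp_f L782696) q26454, e3 q25265 L771125 q24094, e3 q25266 (flp_f L782706) q26455, e3 q25267 L782727 q26459, e3 q25268 (flp_f L771139) q24095, e3 q25269 L771148 q24097, e3 q25270 (flp_f L781741) q26349, e3 q25271 (flp_f L782733) q26460, e3 q25272 L771165 q24099, e3 q25273 (flp_f L782749) q26463, e3 q25274 (flp_f L781364) q26315, e3 q25275 L771190 q24103, e3 q25276 L771198 q24104, e3 q25277 (flp_f L782785) q26467, e3 q25278 (flp_f L782795) q26468, e3 q25279 L782838 q26474, trivial⟩ (by decide +kernel)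

theorem ce_f_395 : ∀ r, r < 64 → sm gf (Qf (25280 + r)) = Qf (tab Gen.f (25280 + r)) :=
  edges_tab (sm gf) Qf (tab Gen.f) 25280 [(25280, 24106), (25281, 26215), (25282, 26475), (25283, 26479), (25284, 24107), (25285, 26331), (25286, 24110), (25287, 26481), (25288, 24112), (25289, 26482), (25290, 24115), (25291, 26237), (25292, 26485), (25293, 26316), (25294, 24311), (25295, 24118), (25296, 26218), (25297, 26492), (25298, 26298), (25299, 24279), (25300, 24123), (25301, 24124), (25302, 26219), (25303, 26498), (25304, 26504), (25305, 26500), (25306, 26507), (25307, 24125), (25308, 25800), (25309, 25801), (25310, 25746), (25311, 24130), (25312, 26208), (25313, 26512), (25314, 26515), (25315, 24131), (25316, 25807), (25317, 25809), (25318, 24136), (25319, 24138), (25320, 26214), (25321, 25661), (25322, 25735), (25323, 26519), (25324, 24148), (25325, 25668), (25326, 26328), (25327, 24153), (25328, 24169), (25329, 24167), (25330, 25947), (25331, 26525), (25332, 24158), (25333, 26338), (25334, 25675), (25335, 25979), (25336, 25980),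 (25337, 26532), (25338, 24166), (25339, 26522), (25340, 26521), (25341, 24172), (25342, 24173), (25343, 26535)]
    ⟨e3 q25280 L771226 q24106, e3 q25281 (flp_f L780530) q26215, e3 q25282 (flp_f L782850) q26475, e3 q25283 L782876 q26479, e3 q25284 (flp_f L771254) q24107, e3 q25285 (flp_f L781517) q26331, e3 q25286 L771268 q24110, e3 q25287 (flp_f L782890) q26481, e3 q25288 L771290 q24112, e3 q25289 (flp_f L782902) q26482, e3 q25290 L771306 q24115, e3 q25291 (flp_f L780738) q26237, e3 q25292 (flp_f L782928) q26485, e3 q25293 (flp_f L781372) q26316, e3 q25294 L771334 q24311, e3 q25295 L771342 q24118, e3 q25296 (flp_f L780567) q26218, e3 q25297 (flp_f L782979) q26492, e3 q25298 (flp_f L781213) q26298, e3 q25299 L771366 q24279, e3 q25300 L771374 q24123, e3 q25301 L771380 q24124, e3 q25302 (flp_f L780579) q26219, e3 q25303 (flp_f L783022) q26498, e3 q25304 L783053 q26504, e3 q25305 (flp_f L783033) q26500, e3 q25306 L783069 q26507, e3 q25307 (flp_f L771409) q24125, e3 q25308 (flp_f L776129) q25800, e3 q25309 (flp_f L776147) q25801,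 e3 q25310 (flp_f L775471) q25746, e3 q25311 L771435 q24130, e3 q25312 (flp_f L780453) q26208, e3 q25313 (flp_f L783103) q26512, e3 q25314 L783113 q26515, e3 q25315 (flp_f L771449) q24131, e3 q25316 (flp_f L776207) q25807, e3 q25317 (flp_f L776225) q25809, e3 q25318 L771467 q24136, e3 q25319 L771475 q24138, e3 q25320 (flp_f L780526) q26214, e3 q25321 (flp_f L774324) q25661, e3 q25322 (flp_f L775336) q25735, e3 q25323 L783140 q26519, e3 q25324 (flp_f L771514) q24148, e3 q25325 (flp_f L774422) q25668, e3 q25326 (flp_f L781484) q26328, e3 q25327 (flp_f L771534) q24153, e3 q25328 L771546 q24169, e3 q25329 L771560 q24167, e3 q25330 (flp_f L777889) q25947, e3 q25331 L783193 q26525, e3 q25332 (flp_f L771580) q24158, e3 q25333 (flp_f L781598) q26338, e3 q25334 (flp_f L774528) q25675, e3 q25335 (flp_f L778188) q25979, e3 q25336 (flp_f L778200) q25980, e3 q25337 L783238 q26532, e3 q25338 (flp_f L771619) q24166, e3 q25339 (flp_f L783171) q26522, e3 q25340 (flp_f L783157) q26521, e3 q25341 L771647 q24172, e3 q25342 L771655 q24173, e3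 q25343 (flp_f L783260) q26535, trivial⟩ (by decide +kernel)

theorem ce_f_396 : ∀ r, r < 64 → sm gf (Qf (25344 + r)) = Qf (tab Gen.f (25344 + r)) :=
  edges_tab (sm gf) Qf (tab Gen.f) 25344 [(25344, 26536), (25345, 26542), (25346, 24175), (25347, 26545), (25348, 26543), (25349, 26548), (25350, 24176), (25351, 25594), (25352, 24179), (25353, 26550), (25354, 24180), (25355, 26551), (25356, 24184), (25357, 24352), (25358, 25581), (25359, 25999), (25360, 26336), (25361, 26351), (25362, 25587), (25363, 25586), (25364, 26561), (25365, 24194), (25366, 26337), (25367, 25857), (25368, 25965), (25369, 24198), (25370, 25607), (25371, 25627), (25372, 25768), (25373, 26343), (25374, 26570), (25375, 24202), (25376, 26344), (25377, 25824), (25378, 25867), (25379, 24209), (25380, 26346), (25381, 26573), (25382, 25579), (25383, 25590), (25384, 25580), (25385, 26009), (25386, 26341), (25387, 25873), (25388, 25860), (25389, 25681), (25390, 25808), (25391, 24219), (25392, 26584), (25393, 26587), (25394, 24220), (25395, 25690), (25396, 26203),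 (25397, 25699), (25398, 26295), (25399, 25998), (25400, 24228), (25401, 26007), (25402, 26593), (25403, 26596), (25404, 24229), (25405, 26006), (25406, 26008), (25407, 24234)]
    ⟨e3 q25344 (flp_f L783268) q26536, e3 q25345 L783307 q26542, e3 q25346 L771679 q24175, e3 q25347 L783323 q26545, e3 q25348 (flp_f L783317) q26543, e3 q25349 L783339 q26548, e3 q25350 (flp_f L771697) q24176, e3 q25351 (flp_f L773427) q25594, e3 q25352 L771711 q24179, e3 q25353 (flp_f L783353) q26550, e3 q25354 (flp_f L771723) q24180, e3 q25355 L783357 q26551, e3 q25356 (flp_f L771735) q24184, e3 q25357 L771744 q24352, e3 q25358 (flp_f L773226) q25581, e3 q25359 (flp_f L778383) q25999, e3 q25360 (flp_f L781572) q26336, e3 q25361 (flp_f L781759) q26351, e3 q25362 (flp_f L773319) q25587, e3 q25363 (flp_f L773305) q25586, e3 q25364 L783426 q26561, e3 q25365 (flp_f L771794) q24194, e3 q25366 (flp_f L781588) q26337, e3 q25367 (flp_f L776859) q25857, e3 q25368 (flp_f L778061) q25965, e3 q25369 (flp_f L771818) q24198, e3 q25370 (flp_f L773609) q25607, e3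 q25371 (flp_f L773889) q25627, e3 q25372 (flp_f L775737) q25768, e3 q25373 (flp_f L781658) q26343, e3 q25374 L783479 q26570, e3 q25375 (flp_f L771854) q24202, e3 q25376 (flp_f L781668) q26344, e3 q25377 (flp_f L776410) q25824, e3 q25378 (flp_f L776987) q25867, e3 q25379 L771878 q24209, e3 q25380 (flp_f L781700) q26346, e3 q25381 (flp_f L783501) q26573, e3 q25382 (flp_f L773192) q25579, e3 q25383 (flp_f L773379) q25590, e3 q25384 (flp_f L773210) q25580, e3 q25385 (flp_f L778453) q26009, e3 q25386 (flp_f L781634) q26341, e3 q25387 (flp_f L777043) q25873, e3 q25388 (flp_f L776899) q25860, e3 q25389 (flp_f L774620) q25681, e3 q25390 (flp_f L776221) q25808, e3 q25391 L771946 q24219, e3 q25392 (flp_f L783563) q26584, e3 q25393 L783577 q26587, e3 q25394 (flp_f L771956) q24220, e3 q25395 (flp_f L774746) q25690, e3 q25396 (flp_f L780421) q26203, e3 q25397 (flp_f L774870) q25699, e3 q25398 (flp_f L781197) q26295, e3 q25399 (flp_f L778367) q25998, e3 q25400 L771996 q24228, e3 q25401 (flp_f L778429) q26007, e3 q25402 (flp_f L783615)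 q26593, e3 q25403 L783629 q26596, e3 q25404 (flp_f L772014) q24229, e3 q25405 (flp_f L778423) q26006, e3 q25406 (flp_f L778437) q26008, e3 q25407 L772030 q24234, trivial⟩ (by decide +kernel)

theorem ce_f_397 : ∀ r, r < 64 → sm gf (Qf (25408 + r)) = Qf (tab Gen.f (25408 + r)) :=
  edges_tab (sm gf) Qf (tab Gen.f) 25408 [(25408, 24238), (25409, 26599), (25410, 26369), (25411, 26370), (25412, 26055), (25413, 26078), (25414, 26060), (25415, 24245), (25416, 26606), (25417, 24247), (25418, 26607), (25419, 24257), (25420, 24250), (25421, 24341), (25422, 26612), (25423, 24252), (25424, 26615), (25425, 24254), (25426, 26618), (25427, 24256), (25428, 26096), (25429, 26621), (25430, 26610), (25431, 24259), (25432, 26625), (25433, 24261), (25434, 26626), (25435, 24263), (25436, 25684), (25437, 26629), (25438, 24265), (25439, 26090), (25440, 26632), (25441, 24268), (25442, 26099), (25443, 26635), (25444, 24270), (25445, 25680), (25446, 26358), (25447, 26140), (25448, 26360), (25449, 26361), (25450, 26362), (25451, 26496), (25452, 24281),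 (25453, 26600), (25454, 26642), (25455, 25789), (25456, 25797), (25457, 26363), (25458, 26364), (25459, 25772), (25460, 26365), (25461, 25737), (25462, 25775), (25463, 26367), (25464, 26163), (25465, 26310), (25466, 26431), (25467, 26432), (25468, 26311), (25469, 25816), (25470, 26434), (25471, 26435)]
    ⟨e3 q25408 L772038 q24238, e3 q25409 (flp_f L783647) q26599, e3 q25410 (flp_f L781941) q26369, e3 q25411 (flp_f L781957) q26370, e3 q25412 (flp_f L778937) q26055, e3 q25413 (flp_f L779172) q26078, e3 q25414 (flp_f L778991) q26060, e3 q25415 L772084 q24245, e3 q25416 (flp_f L783696) q26606, e3 q25417 L772098 q24247, e3 q25418 (flp_f L783702) q26607, e3 q25419 L772110 q24257, e3 q25420 L772118 q24250, e3 q25421 L772123 q24341, e3 q25422 (flp_f L783734) q26612, e3 q25423 L772135 q24252, e3 q25424 (flp_f L783750) q26615, e3 q25425 L772145 q24254, e3 q25426 (flp_f L783772) q26618, e3 q25427 L772159 q24256, e3 q25428 (flp_f L779371) q26096, e3 q25429 (flp_f L783795) q26621, e3 q25430 (flp_f L783717) q26610, e3 q25431 L772185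 q24259, e3 q25432 (flp_f L783823) q26625, e3 q25433 L772203 q24261, e3 q25434 (flp_f L783831) q26626, e3 q25435 L772221 q24263, e3 q25436 (flp_f L774666) q25684, e3 q25437 (flp_f L783862) q26629, e3 q25438 L772237 q24265, e3 q25439 (flp_f L779301) q26090, e3 q25440 (flp_f L783876) q26632, e3 q25441 L772254 q24268, e3 q25442 (flp_f L779399) q26099, e3 q25443 (flp_f L783894) q26635, e3 q25444 L772268 q24270, e3 q25445 (flp_f L774612) q25680, e3 q25446 (flp_f L781829) q26358, e3 q25447 (flp_f L779810) q26140, e3 q25448 (flp_f L781851) q26360, e3 q25449 (flp_f L781865) q26361, e3 q25450 (flp_f L781881) q26362, e3 q25451 (flp_f L783003) q26496, e3 q25452 L772317 q24281, e3 q25453 (flp_f L783654) q26600, e3 q25454 (flp_f L783932) q26642, e3 q25455 (flp_f L775987) q25789, e3 q25456 (flp_f L776087) q25797, e3 q25457 (flp_f L781893) q26363, e3 q25458 (flp_f L781903) q26364, e3 q25459 (flp_f L775783) q25772, e3 q25460 (flp_f L781915) q26365, e3 q25461 (flp_f L775356) q25737, e3 q25462 (flp_f L775823) q25775, e3 q25463 (flp_f L781927)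 q26367, e3 q25464 (flp_f L780041) q26163, e3 q25465 (flp_f L781324) q26310, e3 q25466 (flp_f L782505) q26431, e3 q25467 (flp_f L782513) q26432, e3 q25468 (flp_f L781330) q26311, e3 q25469 (flp_f L776304) q25816, e3 q25470 (flp_f L782533) q26434, e3 q25471 (flp_f L782543) q26435, trivial⟩ (by decide +kernel)

theorem ce_f_398 : ∀ r, r < 64 → sm gf (Qf (25472 + r)) = Qf (tab Gen.f (25472 + r)) :=
  edges_tab (sm gf) Qf (tab Gen.f) 25472 [(25472, 26312), (25473, 26437), (25474, 26257), (25475, 26439), (25476, 24304), (25477, 26665), (25478, 24306), (25479, 26079), (25480, 26668), (25481, 26418), (25482, 26421), (25483, 26423), (25484, 26425), (25485, 26491), (25486, 26149), (25487, 24314), (25488, 26677), (25489, 24316), (25490, 25693), (25491, 26680), (25492, 25718), (25493, 26146), (25494, 24321), (25495, 24322), (25496, 26126), (25497, 26686), (25498, 26688), (25499, 26156), (25500, 26198), (25501, 26696), (25502, 24327), (25503, 26130), (25504, 26697), (25505, 26202), (25506, 26204), (25507, 24331), (25508, 24336), (25509,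 26420), (25510, 24338), (25511, 26261), (25512, 26701), (25513, 24353), (25514, 26382), (25515, 24342), (25516, 26613), (25517, 26706), (25518, 24344), (25519, 24366), (25520, 26709), (25521, 25700), (25522, 24348), (25523, 26715), (25524, 24347), (25525, 26713), (25526, 26718), (25527, 24349), (25528, 26259), (25529, 26552), (25530, 26704), (25531, 24355), (25532, 24357), (25533, 26722), (25534, 26263), (25535, 26317)]
    ⟨e3 q25472 (flp_f L781336) q26312, e3 q25473 (flp_f L782562) q26437, e3 q25474 (flp_f L780891) q26257, e3 q25475 (flp_f L782580) q26439, e3 q25476 L772440 q24304, e3 q25477 (flp_f L784056) q26665, e3 q25478 L772454 q24306, e3 q25479 (flp_f L779189) q26079, e3 q25480 (flp_f L784077) q26668, e3 q25481 (flp_f L782383) q26418, e3 q25482 (flp_f L782416) q26421, e3 q25483 (flp_f L782435) q26423, e3 q25484 (flp_f L782453) q26425, e3 q25485 (flp_f L782967) q26491, e3 q25486 (flp_f L779904) q26149, e3 q25487 L772509 q24314, e3 q25488 (flp_f L784131) q26677, e3 q25489 L772519 q24316, e3 q25490 (flp_f L774798) q25693,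 e3 q25491 (flp_f L784150) q26680, e3 q25492 (flp_f L775142) q25718, e3 q25493 (flp_f L779870) q26146, e3 q25494 L772552 q24321, e3 q25495 L772560 q24322, e3 q25496 (flp_f L779681) q26126, e3 q25497 (flp_f L784191) q26686, e3 q25498 (flp_f L784206) q26688, e3 q25499 (flp_f L779974) q26156, e3 q25500 (flp_f L780365) q26198, e3 q25501 L784258 q26696, e3 q25502 L772605 q24327, e3 q25503 (flp_f L779721) q26130, e3 q25504 (flp_f L784268) q26697, e3 q25505 (flp_f L780407) q26202, e3 q25506 (flp_f L780425) q26204, e3 q25507 L772635 q24331, e3 q25508 L772646 q24336, e3 q25509 (flp_f L782412) q26420, e3 q25510 L772659 q24338, e3 q25511 (flp_f L780926) q26261, e3 q25512 (flp_f L784294) q26701, e3 q25513 L772674 q24353, e3 q25514 (flp_f L782068) q26382, e3 q25515 L772685 q24342, e3 q25516 (flp_f L783740) q26613, e3 q25517 (flp_f L784320) q26706, e3 q25518 L772697 q24344, e3 q25519 L772713 q24366, e3 q25520 (flp_f L784331) q26709, e3 q25521 (flp_f L774880) q25700, e3 q25522 L772739 q24348, e3 q25523 L784383 q26715, e3 q25524 (flp_f L772749)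 q24347, e3 q25525 (flp_f L784373) q26713, e3 q25526 L784413 q26718, e3 q25527 (flp_f L772777) q24349, e3 q25528 (flp_f L780907) q26259, e3 q25529 (flp_f L783367) q26552, e3 q25530 (flp_f L784308) q26704, e3 q25531 L772805 q24355, e3 q25532 L772813 q24357, e3 q25533 (flp_f L784441) q26722, e3 q25534 (flp_f L780942) q26263, e3 q25535 (flp_f L781384) q26317, trivial⟩ (by decide +kernel)

theorem ce_f_399 : ∀ r, r < 64 → sm gf (Qf (25536 + r)) = Qf (tab Gen.f (25536 + r)) :=
  edges_tab (sm gf) Qf (tab Gen.f) 25536 [(25536, 24361), (25537, 25701), (25538, 26726), (25539, 26269), (25540, 26270), (25541, 26733), (25542, 24367), (25543, 26419), (25544, 24368), (25545, 26710), (25546, 26734), (25547, 26736), (25548, 26283), (25549, 26741), (25550, 26285), (25551, 26728), (25552, 24371), (25553, 24375), (25554, 26745), (25555, 24373), (25556, 26746), (25557, 24376), (25558, 26294), (25559, 26296), (25560, 24387), (25561, 26330), (25562, 26326), (25563, 26327), (25564, 26019), (25565, 26748), (25566, 24398), (25567, 24403), (25568,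 26749), (25569, 24421), (25570, 24406), (25571, 26752), (25572, 24408), (25573, 26754), (25574, 24410), (25575, 24427), (25576, 26756), (25577, 24431), (25578, 24433), (25579, 25382), (25580, 25384), (25581, 25358), (25582, 24419), (25583, 26750), (25584, 26764), (25585, 25168), (25586, 25363), (25587, 25362), (25588, 24777), (25589, 25165), (25590, 25383), (25591, 24428), (25592, 26757), (25593, 26772), (25594, 25351), (25595, 26759), (25596, 26760), (25597, 24435), (25598, 26778), (25599, 24771)]
    ⟨e3 q25536 L772831 q24361, e3 q25537 (flp_f L774904) q25701, e3 q25538 (flp_f L784463) q26726, e3 q25539 (flp_f L780990) q26269, e3 q25540 (flp_f L780998) q26270, e3 q25541 L784505 q26733, e3 q25542 L772865 q24367, e3 q25543 (flp_f L782401) q26419, e3 q25544 L772877 q24368, e3 q25545 (flp_f L784347) q26710, e3 q25546 (flp_f L784513) q26734, e3 q25547 (flp_f L784525) q26736, e3 q25548 (flp_f L781099) q26283, e3 q25549 L784553 q26741, e3 q25550 (flp_f L781115) q26285, e3 q25551 (flp_f L784473) q26728, e3 q25552 (flp_f L772919)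 q24371, e3 q25553 L772927 q24375, e3 q25554 L784575 q26745, e3 q25555 (flp_f L772933) q24373, e3 q25556 L784581 q26746, e3 q25557 (flp_f L772943) q24376, e3 q25558 (flp_f L781185) q26294, e3 q25559 (flp_f L781201) q26296, e3 q25560 L772963 q24387, e3 q25561 (flp_f L781508) q26330, e3 q25562 (flp_f L781467) q26326, e3 q25563 (flp_f L781474) q26327, e3 q25564 (flp_f L778541) q26019, e3 q25565 L784589 q26748, e3 q25566 (flp_f L772994) q24398, e3 q25567 L773005 q24403, e3 q25568 (flp_f L784599) q26749, e3 q25569 L773046 q24421, e3 q25570 L773054 q24406, e3 q25571 (flp_f L784651) q26752, e3 q25572 L773088 q24408, e3 q25573 (flp_f L784685) q26754, e3 q25574 L773120 q24410, e3 q25575 L773140 q24427, e3 q25576 (flp_f L784715) q26756, e3 q25577 L773168 q24431, e3 q25578 L773176 q24433, e3 q25579 L773192 q25382, e3 q25580 L773210 q25384, e3 q25581 L773226 q25358, e3 q25582 L773242 q24419, e3 q25583 (flp_f L784627) q26750, e3 q25584 (flp_f L784838) q26764, e3 q25585 L773299 q25168, e3 q25586 L773305 q25363, e3 q25587 L773319 q25362,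 e3 q25588 L773337 q24777, e3 q25589 L773353 q25165, e3 q25590 L773379 q25383, e3 q25591 L773385 q24428, e3 q25592 (flp_f L784735) q26757, e3 q25593 (flp_f L784970) q26772, e3 q25594 L773427 q25351, e3 q25595 (flp_f L784755) q26759, e3 q25596 (flp_f L784774) q26760, e3 q25597 L773464 q24435, e3 q25598 (flp_f L785055) q26778, e3 q25599 L773498 q24771, trivial⟩ (by decide +kernel)

theorem ce_f_400 : ∀ r, r < 64 → sm gf (Qf (25600 + r)) = Qf (tab Gen.f (25600 + r)) :=
  edges_tab (sm gf) Qf (tab Gen.f) 25600 [(25600, 25600), (25601, 24768), (25602, 24440), (25603, 26784), (25604, 26787), (25605, 24443), (25606, 26788), (25607, 25370), (25608, 24979), (25609, 25194), (25610, 26795), (25611, 24787), (25612, 24450), (25613, 26797), (25614, 24559), (25615, 25204), (25616, 25205), (25617, 26805), (25618, 24454), (25619, 24456), (25620, 24591), (25621, 26806), (25622, 24457), (25623, 25623), (25624, 24460), (25625, 24596), (25626, 24599), (25627, 25371), (25628, 24466), (25629, 26815), (25630, 26819), (25631, 24467), (25632, 24788),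 (25633, 24470), (25634, 24614), (25635, 26823), (25636, 24561), (25637, 25184), (25638, 25185), (25639, 24967), (25640, 24477), (25641, 24478), (25642, 26831), (25643, 26832), (25644, 26838), (25645, 24480), (25646, 26841), (25647, 26839), (25648, 26844), (25649, 24481), (25650, 24648), (25651, 24485), (25652, 24639), (25653, 26846), (25654, 24487), (25655, 26850), (25656, 24488), (25657, 25657), (25658, 25658), (25659, 26853), (25660, 24646), (25661, 25321), (25662, 24494), (25663, 24649)]
    ⟨e3 q25600 L773512 q25600, e3 q25601 L773529 q24768, e3 q25602 L773546 q24440, e3 q25603 (flp_f L785148) q26784, e3 q25604 L785182 q26787, e3 q25605 L773583 q24443, e3 q25606 (flp_f L785198) q26788, e3 q25607 L773609 q25370, e3 q25608 L773630 q24979, e3 q25609 L773644 q25194, e3 q25610 L785295 q26795, e3 q25611 L773677 q24787, e3 q25612 L773691 q24450, e3 q25613 (flp_f L785330) q26797, e3 q25614 L773716 q24559, e3 q25615 L773730 q25204, e3 q25616 L773740 q25205, e3 q25617 L785423 q26805, e3 q25618 (flp_f L773760) q24454, e3 q25619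 L773779 q24456, e3 q25620 L773799 q24591, e3 q25621 (flp_f L785441) q26806, e3 q25622 (flp_f L773811) q24457, e3 q25623 L773832 q25623, e3 q25624 L773844 q24460, e3 q25625 L773866 q24596, e3 q25626 L773881 q24599, e3 q25627 L773889 q25371, e3 q25628 L773905 q24466, e3 q25629 (flp_f L785567) q26815, e3 q25630 L785617 q26819, e3 q25631 (flp_f L773939) q24467, e3 q25632 L773959 q24788, e3 q25633 L773971 q24470, e3 q25634 L773987 q24614, e3 q25635 (flp_f L785673) q26823, e3 q25636 L774007 q24561, e3 q25637 L774021 q25184, e3 q25638 L774033 q25185, e3 q25639 (flp_f L774057) q24967, e3 q25640 L774068 q24477, e3 q25641 L774082 q24478, e3 q25642 (flp_f L785783) q26831, e3 q25643 (flp_f L785797) q26832, e3 q25644 L785868 q26838, e3 q25645 L774128 q24480, e3 q25646 L785902 q26841, e3 q25647 (flp_f L785884) q26839, e3 q25648 L785932 q26844, e3 q25649 (flp_f L774164) q24481, e3 q25650 L774186 q24648, e3 q25651 L774192 q24485, e3 q25652 L774206 q24639, e3 q25653 (flp_f L785960) q26846, e3 q25654 L774222 q24487, e3 q25655 L786001 q26850,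 e3 q25656 (flp_f L774244) q24488, e3 q25657 L774269 q25657, e3 q25658 L774276 q25658, e3 q25659 L786048 q26853, e3 q25660 L774309 q24646, e3 q25661 L774324 q25321, e3 q25662 (flp_f L774326) q24494, e3 q25663 L774345 q24649, trivial⟩ (by decide +kernel)

theorem ce_f_401 : ∀ r, r < 64 → sm gf (Qf (25664 + r)) = Qf (tab Gen.f (25664 + r)) :=
  edges_tab (sm gf) Qf (tab Gen.f) 25664 [(25664, 25130), (25665, 24499), (25666, 24655), (25667, 24656), (25668, 25325), (25669, 25669), (25670, 24970), (25671, 26860), (25672, 24508), (25673, 24908), (25674, 24912), (25675, 25334), (25676, 25676), (25677, 24516), (25678, 26864), (25679, 24905), (25680, 25445), (25681, 25389), (25682, 24884), (25683, 24906), (25684, 25436), (25685, 24524), (25686, 24637), (25687, 26873), (25688, 24527), (25689, 26876), (25690, 25395), (25691, 24948), (25692, 24949), (25693, 25490), (25694, 24533), (25695, 25023), (25696, 26884), (25697, 24536), (25698, 26887), (25699, 25397), (25700, 25521), (25701, 25537), (25702, 24861), (25703, 24864), (25704, 24897),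 (25705, 24544), (25706, 25101), (25707, 26897), (25708, 24901), (25709, 25239), (25710, 25710), (25711, 25141), (25712, 24552), (25713, 26902), (25714, 26905), (25715, 25006), (25716, 24556), (25717, 26907), (25718, 25492), (25719, 25719), (25720, 26800), (25721, 25721), (25722, 26915), (25723, 26826), (25724, 24563), (25725, 26918), (25726, 26922), (25727, 24564)]
    ⟨e3 q25664 (flp_f L774364) q25130, e3 q25665 (flp_f L774366) q24499, e3 q25666 L774388 q24655, e3 q25667 L774403 q24656, e3 q25668 L774422 q25325, e3 q25669 L774432 q25669, e3 q25670 (flp_f L774456) q24970, e3 q25671 L786145 q26860, e3 q25672 (flp_f L774471) q24508, e3 q25673 L774490 q24908, e3 q25674 L774508 q24912, e3 q25675 L774528 q25334, e3 q25676 L774542 q25676, e3 q25677 L774561 q24516, e3 q25678 (flp_f L786215) q26864, e3 q25679 L774591 q24905, e3 q25680 L774612 q25445, e3 q25681 L774620 q25389, e3 q25682 L774632 q24884, e3 q25683 L774646 q24906, e3 q25684 L774666 q25436, e3 q25685 L774672 q24524, e3 q25686 L774700 q24637, e3 q25687 (flp_f L786344)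 q26873, e3 q25688 L774716 q24527, e3 q25689 (flp_f L786388) q26876, e3 q25690 L774746 q25395, e3 q25691 L774760 q24948, e3 q25692 L774774 q24949, e3 q25693 L774798 q25490, e3 q25694 L774804 q24533, e3 q25695 L774828 q25023, e3 q25696 (flp_f L786510) q26884, e3 q25697 L774842 q24536, e3 q25698 (flp_f L786550) q26887, e3 q25699 L774870 q25397, e3 q25700 L774880 q25521, e3 q25701 L774904 q25537, e3 q25702 L774912 q24861, e3 q25703 L774926 q24864, e3 q25704 L774950 q24897, e3 q25705 L774956 q24544, e3 q25706 L774974 q25101, e3 q25707 (flp_f L786699) q26897, e3 q25708 L775000 q24901, e3 q25709 L775012 q25239, e3 q25710 L775026 q25710, e3 q25711 L775043 q25141, e3 q25712 L775060 q24552, e3 q25713 (flp_f L786770) q26902, e3 q25714 L786804 q26905, e3 q25715 L775100 q25006, e3 q25716 L775114 q24556, e3 q25717 (flp_f L786836) q26907, e3 q25718 L775142 q25492, e3 q25719 L775156 q25719, e3 q25720 (flp_f L785368) q26800, e3 q25721 L775174 q25721, e3 q25722 L786925 q26915, e3 q25723 (flp_f L785707) q26826, e3 q25724 L775205 q24563, e3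 q25725 (flp_f L786962) q26918, e3 q25726 L786997 q26922, e3 q25727 (flp_f L775231) q24564, trivial⟩ (by decide +kernel)

theorem ce_f_402 : ∀ r, r < 64 → sm gf (Qf (25728 + r)) = Qf (tab Gen.f (25728 + r)) :=
  edges_tab (sm gf) Qf (tab Gen.f) 25728 [(25728, 24566), (25729, 26789), (25730, 26924), (25731, 24575), (25732, 24569), (25733, 26928), (25734, 25049), (25735, 25322), (25736, 25085), (25737, 25461), (25738, 26937), (25739, 24574), (25740, 26927), (25741, 24577), (25742, 26798), (25743, 26940), (25744, 24998), (25745, 25069), (25746, 25310), (25747, 24583), (25748, 25038), (25749, 26947), (25750, 26952), (25751, 24585), (25752, 26953), (25753, 26956), (25754, 24586), (25755, 24972), (25756, 25262), (25757, 24913), (25758, 24592), (25759, 26807), (25760, 26961), (25761, 26964), (25762, 26812), (25763, 24909), (25764, 26813), (25765, 24611), (25766, 24612), (25767, 24603), (25768, 25372), (25769, 26970), (25770, 25002), (25771, 24658), (25772, 25459), (25773, 26977), (25774, 24607), (25775, 25462), (25776, 26980), (25777,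 24609), (25778, 26857), (25779, 26967), (25780, 26968), (25781, 26986), (25782, 24615), (25783, 26824), (25784, 26987), (25785, 25011), (25786, 25012), (25787, 25178), (25788, 25039), (25789, 25455), (25790, 26974), (25791, 24622)]
    ⟨e3 q25728 L775241 q24566, e3 q25729 (flp_f L785219) q26789, e3 q25730 (flp_f L787019) q26924, e3 q25731 L775279 q24575, e3 q25732 L775291 q24569, e3 q25733 (flp_f L787067) q26928, e3 q25734 L775315 q25049, e3 q25735 L775336 q25322, e3 q25736 L775344 q25085, e3 q25737 L775356 q25461, e3 q25738 L787177 q26937, e3 q25739 (flp_f L775374) q24574, e3 q25740 (flp_f L787055) q26927, e3 q25741 L775403 q24577, e3 q25742 (flp_f L785350) q26798, e3 q25743 (flp_f L787223) q26940, e3 q25744 L775437 q24998, e3 q25745 L775451 q25069, e3 q25746 L775471 q25310, e3 q25747 L775479 q24583, e3 q25748 L775497 q25038, e3 q25749 (flp_f L787314) q26947, e3 q25750 L787371 q26952, e3 q25751 L775526 q24585, e3 q25752 (flp_f L787394) q26953, e3 q25753 L787420 q26956, e3 q25754 (flp_f L775552) q24586, e3 q25755 L775572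 q24972, e3 q25756 L775586 q25262, e3 q25757 L775610 q24913, e3 q25758 L775614 q24592, e3 q25759 (flp_f L785459) q26807, e3 q25760 (flp_f L787500) q26961, e3 q25761 L787524 q26964, e3 q25762 (flp_f L785531) q26812, e3 q25763 L775679 q24909, e3 q25764 (flp_f L785539) q26813, e3 q25765 L775702 q24611, e3 q25766 L775716 q24612, e3 q25767 L775724 q24603, e3 q25768 L775737 q25372, e3 q25769 (flp_f L787604) q26970, e3 q25770 L775753 q25002, e3 q25771 L775779 q24658, e3 q25772 L775783 q25459, e3 q25773 L787682 q26977, e3 q25774 (flp_f L775801) q24607, e3 q25775 L775823 q25462, e3 q25776 L787720 q26980, e3 q25777 (flp_f L775839) q24609, e3 q25778 (flp_f L786110) q26857, e3 q25779 (flp_f L787569) q26967, e3 q25780 (flp_f L787583) q26968, e3 q25781 L787800 q26986, e3 q25782 L775903 q24615, e3 q25783 (flp_f L785689) q26824, e3 q25784 (flp_f L787818) q26987, e3 q25785 L775933 q25011, e3 q25786 L775947 q25012, e3 q25787 L775967 q25178, e3 q25788 L775975 q25039, e3 q25789 L775987 q25455, e3 q25790 (flp_f L787660) q26974, e3 q25791 L776015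 q24622, trivial⟩ (by decide +kernel)

theorem ce_f_403 : ∀ r, r < 64 → sm gf (Qf (25792 + r)) = Qf (tab Gen.f (25792 + r)) :=
  edges_tab (sm gf) Qf (tab Gen.f) 25792 [(25792, 26997), (25793, 27000), (25794, 24623), (25795, 25062), (25796, 25060), (25797, 25456), (25798, 27005), (25799, 24627), (25800, 25308), (25801, 25309), (25802, 24631), (25803, 27009), (25804, 27011), (25805, 24632), (25806, 25124), (25807, 25316), (25808, 25390), (25809, 25317), (25810, 26874), (25811, 24640), (25812, 26847), (25813, 26848), (25814, 24850), (25815, 24644), (25816, 25469), (25817, 26854), (25818, 26845), (25819, 26856), (25820, 26858), (25821, 25105), (25822, 25139), (25823, 24698), (25824, 25377), (25825, 24687), (25826, 24683), (25827, 24797), (25828, 24668), (25829, 27028), (25830, 24738), (25831, 24716), (25832, 24701), (25833, 24697), (25834, 24812), (25835, 24675), (25836, 24752), (25837, 27035), (25838, 24817), (25839, 24679), (25840, 27039), (25841, 27042), (25842, 24682), (25843, 27043), (25844, 27026), (25845, 24739), (25846,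 24717), (25847, 24907), (25848, 27025), (25849, 27053), (25850, 24688), (25851, 24711), (25852, 24691), (25853, 24795), (25854, 27056), (25855, 25169)]
    ⟨e3 q25792 (flp_f L787958) q26997, e3 q25793 L787986 q27000, e3 q25794 (flp_f L776041) q24623, e3 q25795 L776059 q25062, e3 q25796 L776081 q25060, e3 q25797 L776087 q25456, e3 q25798 L788054 q27005, e3 q25799 (flp_f L776109) q24627, e3 q25800 L776129 q25308, e3 q25801 L776147 q25309, e3 q25802 L776163 q24631, e3 q25803 (flp_f L788128) q27009, e3 q25804 L788142 q27011, e3 q25805 (flp_f L776181) q24632, e3 q25806 L776201 q25124, e3 q25807 L776207 q25316, e3 q25808 L776221 q25390, e3 q25809 L776225 q25317, e3 q25810 (flp_f L786372) q26874, e3 q25811 L776241 q24640, e3 q25812 (flp_f L785974) q26847, e3 q25813 (flp_f L785980) q26848, e3 q25814 (flp_f L776273) q24850, e3 q25815 (flp_f L776275) q24644, e3 q25816 L776304 q25469, e3 q25817 (flp_f L786069) q26854, e3 q25818 (flp_f L785952) q26845, e3 q25819 (flp_f L786093) q26856, e3 q25820 (flp_f L786121) q26858, e3 q25821 L776366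 q25105, e3 q25822 L776382 q25139, e3 q25823 L776392 q24698, e3 q25824 L776410 q25377, e3 q25825 L776426 q24687, e3 q25826 L776444 q24683, e3 q25827 L776467 q24797, e3 q25828 L776475 q24668, e3 q25829 (flp_f L788346) q27028, e3 q25830 L776512 q24738, e3 q25831 L776520 q24716, e3 q25832 L776538 q24701, e3 q25833 L776550 q24697, e3 q25834 L776574 q24812, e3 q25835 L776580 q24675, e3 q25836 L776604 q24752, e3 q25837 (flp_f L788450) q27035, e3 q25838 L776623 q24817, e3 q25839 L776640 q24679, e3 q25840 (flp_f L788508) q27039, e3 q25841 L788538 q27042, e3 q25842 L776673 q24682, e3 q25843 (flp_f L788554) q27043, e3 q25844 (flp_f L788316) q27026, e3 q25845 L776709 q24739, e3 q25846 L776734 q24717, e3 q25847 L776740 q24907, e3 q25848 (flp_f L788300) q27025, e3 q25849 L788678 q27053, e3 q25850 (flp_f L776766) q24688, e3 q25851 L776789 q24711, e3 q25852 L776801 q24691, e3 q25853 L776811 q24795, e3 q25854 (flp_f L788730) q27056, e3 q25855 L776836 q25169, trivial⟩ (by decide +kernel)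

theorem ce_f_404 : ∀ r, r < 64 → sm gf (Qf (25856 + r)) = Qf (tab Gen.f (25856 + r)) :=
  edges_tab (sm gf) Qf (tab Gen.f) 25856 [(25856, 24801), (25857, 25367), (25858, 27033), (25859, 27023), (25860, 25388), (25861, 24866), (25862, 24945), (25863, 27032), (25864, 27068), (25865, 24702), (25866, 24718), (25867, 25378), (25868, 24707), (25869, 24839), (25870, 27071), (25871, 24847), (25872, 27054), (25873, 25387), (25874, 24719), (25875, 24727), (25876, 24865), (25877, 27031), (25878, 27048), (25879, 27069), (25880, 27076), (25881, 25057), (25882, 24722), (25883, 27085), (25884, 27088), (25885, 24725), (25886, 27089), (25887, 24744), (25888, 27077), (25889, 24740), (25890, 24845), (25891, 25063), (25892, 24732), (25893, 27098), (25894, 27101), (25895, 24733), (25896, 24735), (25897, 27029), (25898, 27102), (25899, 24781), (25900, 27047), (25901, 27094), (25902, 24780), (25903, 24743), (25904, 27109), (25905, 27092), (25906, 27113), (25907, 24799), (25908, 24746), (25909, 24748), (25910, 27117), (25911, 27115), (25912, 27120),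 (25913, 24749), (25914, 24753), (25915, 27036), (25916, 27121), (25917, 24841), (25918, 24756), (25919, 24810)]
    ⟨e3 q25856 L776853 q24801, e3 q25857 L776859 q25367, e3 q25858 (flp_f L788422) q27033, e3 q25859 (flp_f L788266) q27023, e3 q25860 L776899 q25388, e3 q25861 L776905 q24866, e3 q25862 L776931 q24945, e3 q25863 (flp_f L788412) q27032, e3 q25864 L788864 q27068, e3 q25865 (flp_f L776947) q24702, e3 q25866 L776965 q24718, e3 q25867 L776987 q25378, e3 q25868 L776991 q24707, e3 q25869 L777001 q24839, e3 q25870 (flp_f L788908) q27071, e3 q25871 L777017 q24847, e3 q25872 (flp_f L788698) q27054, e3 q25873 L777043 q25387, e3 q25874 L777058 q24719, e3 q25875 L777072 q24727, e3 q25876 L777084 q24865, e3 q25877 (flp_f L788394) q27031, e3 q25878 (flp_f L788633) q27048, e3 q25879 (flp_f L788880) q27069, e3 q25880 (flp_f L788964) q27076, e3 q25881 L777147 q25057, e3 q25882 L777164 q24722, e3 q25883 (flp_f L789085) q27085, e3 q25884 L789121 q27088, e3 q25885 L777205 q24725, e3 q25886 (flp_f L789139) q27089, e3 q25887 L777231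 q24744, e3 q25888 (flp_f L788978) q27077, e3 q25889 L777255 q24740, e3 q25890 L777278 q24845, e3 q25891 L777284 q25063, e3 q25892 L777298 q24732, e3 q25893 (flp_f L789255) q27098, e3 q25894 L789285 q27101, e3 q25895 (flp_f L777330) q24733, e3 q25896 L777351 q24735, e3 q25897 (flp_f L788374) q27029, e3 q25898 (flp_f L789303) q27102, e3 q25899 L777384 q24781, e3 q25900 (flp_f L788605) q27047, e3 q25901 (flp_f L789200) q27094, e3 q25902 L777410 q24780, e3 q25903 L777424 q24743, e3 q25904 (flp_f L789371) q27109, e3 q25905 (flp_f L789178) q27092, e3 q25906 L789405 q27113, e3 q25907 L777470 q24799, e3 q25908 (flp_f L777472) q24746, e3 q25909 L777494 q24748, e3 q25910 L789455 q27117, e3 q25911 (flp_f L789443) q27115, e3 q25912 L789485 q27120, e3 q25913 (flp_f L777522) q24749, e3 q25914 L777532 q24753, e3 q25915 (flp_f L788474) q27036, e3 q25916 (flp_f L789497) q27121, e3 q25917 L777567 q24841, e3 q25918 (flp_f L777569) q24756, e3 q25919 L777592 q24810, trivial⟩ (by decide +kernel)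

theorem ce_f_405 : ∀ r, r < 64 → sm gf (Qf (25920 + r)) = Qf (tab Gen.f (25920 + r)) :=
  edges_tab (sm gf) Qf (tab Gen.f) 25920 [(25920, 24852), (25921, 24940), (25922, 24764), (25923, 27128), (25924, 24767), (25925, 27130), (25926, 26783), (25927, 25927), (25928, 27136), (25929, 25188), (25930, 26780), (25931, 24773), (25932, 27140), (25933, 27144), (25934, 24774), (25935, 24776), (25936, 27044), (25937, 27146), (25938, 26769), (25939, 24924), (25940, 24943), (25941, 27108), (25942, 27105), (25943, 24783), (25944, 27027), (25945, 27155), (25946, 24872), (25947, 25330), (25948, 27162), (25949, 24786), (25950, 26796), (25951, 26821), (25952, 27167), (25953, 24790), (25954, 27114), (25955, 27168), (25956, 27172), (25957, 24791), (25958, 25154), (25959, 25163), (25960, 24796), (25961, 27057), (25962, 27175), (25963, 27059), (25964, 24803), (25965, 25368), (25966, 27179), (25967, 24806), (25968, 24807), (25969, 27182), (25970, 27183), (25971, 27125), (25972, 24809), (25973, 27124), (25974, 27189), (25975, 27123), (25976, 24813),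 (25977, 27034), (25978, 27193), (25979, 25335), (25980, 25336), (25981, 24818), (25982, 27038), (25983, 27197)]
    ⟨e3 q25920 L777605 q24852, e3 q25921 L777618 q24940, e3 q25922 L777635 q24764, e3 q25923 (flp_f L789583) q27128, e3 q25924 L777657 q24767, e3 q25925 (flp_f L789607) q27130, e3 q25926 (flp_f L785132) q26783, e3 q25927 L777685 q25927, e3 q25928 L789665 q27136, e3 q25929 L777711 q25188, e3 q25930 (flp_f L785087) q26780, e3 q25931 L777727 q24773, e3 q25932 (flp_f L789706) q27140, e3 q25933 L789737 q27144, e3 q25934 (flp_f L777749) q24774, e3 q25935 L777757 q24776, e3 q25936 (flp_f L788575) q27044, e3 q25937 (flp_f L789755) q27146, e3 q25938 (flp_f L784920) q26769, e3 q25939 L777807 q24924, e3 q25940 L777821 q24943, e3 q25941 (flp_f L789357) q27108, e3 q25942 (flp_f L789329) q27105, e3 q25943 L777849 q24783, e3 q25944 (flp_f L788340) q27027, e3 q25945 (flp_f L789860) q27155, e3 q25946 L777877 q24872, e3 q25947 L777889 q25330, e3 q25948 L789937 q27162, e3 q25949 (flp_f L777913) q24786, e3 q25950 (flp_f L785316) q26796,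 e3 q25951 (flp_f L785649) q26821, e3 q25952 L789984 q27167, e3 q25953 L777953 q24790, e3 q25954 (flp_f L789429) q27114, e3 q25955 (flp_f L789993) q27168, e3 q25956 L790025 q27172, e3 q25957 (flp_f L777987) q24791, e3 q25958 L777995 q25154, e3 q25959 L778017 q25163, e3 q25960 L778021 q24796, e3 q25961 (flp_f L788740) q27057, e3 q25962 (flp_f L790059) q27175, e3 q25963 (flp_f L788756) q27059, e3 q25964 L778043 q24803, e3 q25965 L778061 q25368, e3 q25966 (flp_f L790084) q27179, e3 q25967 L778080 q24806, e3 q25968 L778092 q24807, e3 q25969 (flp_f L790116) q27182, e3 q25970 (flp_f L790128) q27183, e3 q25971 (flp_f L789541) q27125, e3 q25972 L778130 q24809, e3 q25973 (flp_f L789525) q27124, e3 q25974 (flp_f L790193) q27189, e3 q25975 (flp_f L789513) q27123, e3 q25976 L778160 q24813, e3 q25977 (flp_f L788444) q27034, e3 q25978 (flp_f L790225) q27193, e3 q25979 L778188 q25335, e3 q25980 L778200 q25336, e3 q25981 L778216 q24818, e3 q25982 (flp_f L788492) q27038, e3 q25983 (flp_f L790271) q27197, trivial⟩ (by decide +kernel)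

theorem ce_f_406 : ∀ r, r < 64 → sm gf (Qf (25984 + r)) = Qf (tab Gen.f (25984 + r)) :=
  edges_tab (sm gf) Qf (tab Gen.f) 25984 [(25984, 27203), (25985, 24820), (25986, 27206), (25987, 27204), (25988, 27209), (25989, 24821), (25990, 24825), (25991, 24826), (25992, 27214), (25993, 27210), (25994, 27217), (25995, 27212), (25996, 27221), (25997, 24827), (25998, 25399), (25999, 25359), (26000, 24831), (26001, 27228), (26002, 24830), (26003, 27225), (26004, 27230), (26005, 24832), (26006, 25405), (26007, 25401), (26008, 25406), (26009, 25385), (26010, 24840), (26011, 27072), (26012, 27073), (26013, 24842), (26014, 27095), (26015, 26983), (26016, 24855), (26017, 25127), (26018, 25111), (26019, 25564), (26020, 27126), (26021, 27240), (26022, 27244), (26023, 24857), (26024, 27245), (26025, 24858), (26026, 26893), (26027, 25077), (26028, 25075), (26029, 26895), (26030, 27078), (26031, 27064), (26032, 24869), (26033, 24958), (26034, 27252), (26035, 24871), (26036, 27254), (26037, 27158), (26038, 27259), (26039, 24873), (26040, 24875),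 (26041, 24996), (26042, 27260), (26043, 24877), (26044, 27263), (26045, 24879), (26046, 25009), (26047, 27266)]
    ⟨e3 q25984 L790336 q27203, e3 q25985 L778258 q24820, e3 q25986 L790372 q27206, e3 q25987 (flp_f L790352) q27204, e3 q25988 L790410 q27209, e3 q25989 (flp_f L778298) q24821, e3 q25990 L778310 q24825, e3 q25991 L778316 q24826, e3 q25992 L790447 q27214, e3 q25993 (flp_f L790422) q27210, e3 q25994 L790470 q27217, e3 q25995 (flp_f L790437) q27212, e3 q25996 L790504 q27221, e3 q25997 (flp_f L778359) q24827, e3 q25998 L778367 q25399, e3 q25999 L778383 q25359, e3 q26000 L778389 q24831, e3 q26001 L790558 q27228, e3 q26002 (flp_f L778395) q24830, e3 q26003 (flp_f L790546) q27225, e3 q26004 L790570 q27230, e3 q26005 (flp_f L778413) q24832, e3 q26006 L778423 q25405, e3 q26007 L778429 q25401, e3 q26008 L778437 q25406, e3 q26009 L778453 q25385, e3 q26010 L778457 q24840, e3 q26011 (flp_f L788918) q27072, e3 q26012 (flp_f L788924) q27073, e3 q26013 (flp_f L778471) q24842, e3 q26014 (flp_f L789224) q27095, e3 q26015 L787776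 q26983, e3 q26016 L778503 q24855, e3 q26017 L778514 q25127, e3 q26018 L778530 q25111, e3 q26019 L778541 q25564, e3 q26020 (flp_f L789556) q27126, e3 q26021 (flp_f L790644) q27240, e3 q26022 L790690 q27244, e3 q26023 (flp_f L778583) q24857, e3 q26024 L790704 q27245, e3 q26025 (flp_f L778601) q24858, e3 q26026 (flp_f L786635) q26893, e3 q26027 L778628 q25077, e3 q26028 L778652 q25075, e3 q26029 (flp_f L786669) q26895, e3 q26030 (flp_f L788992) q27078, e3 q26031 (flp_f L788822) q27064, e3 q26032 L778692 q24869, e3 q26033 L778704 q24958, e3 q26034 (flp_f L790796) q27252, e3 q26035 L778722 q24871, e3 q26036 (flp_f L790814) q27254, e3 q26037 (flp_f L789886) q27158, e3 q26038 L790861 q27259, e3 q26039 (flp_f L778758) q24873, e3 q26040 L778773 q24875, e3 q26041 L778784 q24996, e3 q26042 (flp_f L790873) q27260, e3 q26043 L778800 q24877, e3 q26044 (flp_f L790901) q27263, e3 q26045 L778826 q24879, e3 q26046 L778844 q25009, e3 q26047 (flp_f L790942) q27266, trivial⟩ (by decide +kernel)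

theorem ce_f_407 : ∀ r, r < 64 → sm gf (Qf (26048 + r)) = Qf (tab Gen.f (26048 + r)) :=
  edges_tab (sm gf) Qf (tab Gen.f) 26048 [(26048, 24882), (26049, 25025), (26050, 27269), (26051, 26869), (26052, 24886), (26053, 25047), (26054, 27272), (26055, 25412), (26056, 24890), (26057, 25067), (26058, 27276), (26059, 25187), (26060, 25414), (26061, 24894), (26062, 27280), (26063, 24910), (26064, 26894), (26065, 24914), (26066, 26896), (26067, 24900), (26068, 25103), (26069, 25104), (26070, 25125), (26071, 25140), (26072, 26866), (26073, 26871), (26074, 27049), (26075, 26861), (26076, 26958), (26077, 27281), (26078, 25413), (26079, 25479), (26080, 26862), (26081, 26960), (26082, 27283), (26083, 24916), (26084, 27299), (26085, 24918), (26086, 27302), (26087, 27306), (26088, 24919), (26089, 24921), (26090, 25439), (26091, 27308), (26092, 24923), (26093, 27311), (26094, 27150), (26095, 24926), (26096, 25428), (26097, 27316), (26098, 24929), (26099, 25442), (26100, 27319), (26101, 26101), (26102, 27323), (26103, 25219), (26104, 25212),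 (26105, 24935), (26106, 27326), (26107, 24937), (26108, 27079), (26109, 27329), (26110, 24939), (26111, 27332)]
    ⟨e3 q26048 L778860 q24882, e3 q26049 L778874 q25025, e3 q26050 (flp_f L790978) q27269, e3 q26051 (flp_f L786285) q26869, e3 q26052 L778906 q24886, e3 q26053 L778921 q25047, e3 q26054 (flp_f L791012) q27272, e3 q26055 L778937 q25412, e3 q26056 L778951 q24890, e3 q26057 L778963 q25067, e3 q26058 (flp_f L791060) q27276, e3 q26059 L778975 q25187, e3 q26060 L778991 q25414, e3 q26061 L779009 q24894, e3 q26062 (flp_f L791118) q27280, e3 q26063 L779035 q24910, e3 q26064 (flp_f L786663) q26894, e3 q26065 L779055 q24914, e3 q26066 (flp_f L786693) q26896, e3 q26067 L779069 q24900, e3 q26068 L779075 q25103, e3 q26069 L779079 q25104, e3 q26070 L779093 q25125, e3 q26071 L779107 q25140, e3 q26072 (flp_f L786243) q26866, e3 q26073 (flp_f L786318) q26871, e3 q26074 (flp_f L788637) q27049, e3 q26075 (flp_f L786165) q26861, e3 q26076 (flp_f L787464) q26958, e3 q26077 (flp_f L791130) q27281, e3 q26078 L779172 q25413, e3 q26079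 L779189 q25479, e3 q26080 (flp_f L786183) q26862, e3 q26081 (flp_f L787494) q26960, e3 q26082 (flp_f L791152) q27283, e3 q26083 L779215 q24916, e3 q26084 (flp_f L791306) q27299, e3 q26085 L779241 q24918, e3 q26086 (flp_f L791345) q27302, e3 q26087 L791390 q27306, e3 q26088 (flp_f L779273) q24919, e3 q26089 L779290 q24921, e3 q26090 L779301 q25439, e3 q26091 (flp_f L791419) q27308, e3 q26092 L779317 q24923, e3 q26093 (flp_f L791447) q27311, e3 q26094 (flp_f L789805) q27150, e3 q26095 L779353 q24926, e3 q26096 L779371 q25428, e3 q26097 (flp_f L791512) q27316, e3 q26098 L779387 q24929, e3 q26099 L779399 q25442, e3 q26100 (flp_f L791546) q27319, e3 q26101 L779417 q26101, e3 q26102 L791583 q27323, e3 q26103 L779445 q25219, e3 q26104 L779451 q25212, e3 q26105 L779463 q24935, e3 q26106 (flp_f L791618) q27326, e3 q26107 L779489 q24937, e3 q26108 (flp_f L789017) q27079, e3 q26109 (flp_f L791659) q27329, e3 q26110 L779512 q24939, e3 q26111 (flp_f L791683) q27332, trivial⟩ (by decide +kernel)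

theorem ce_f_408 : ∀ r, r < 64 → sm gf (Qf (26112 + r)) = Qf (tab Gen.f (26112 + r)) :=
  edges_tab (sm gf) Qf (tab Gen.f) 26112 [(26112, 27127), (26113, 24942), (26114, 25237), (26115, 27337), (26116, 27151), (26117, 27342), (26118, 24946), (26119, 27065), (26120, 27343), (26121, 25256), (26122, 26880), (26123, 26882), (26124, 24952), (26125, 24953), (26126, 25496), (26127, 27349), (26128, 27351), (26129, 24956), (26130, 25503), (26131, 27355), (26132, 24959), (26133, 27253), (26134, 26830), (26135, 26135), (26136, 26923), (26137, 25171), (26138, 27307), (26139, 24964), (26140, 25447), (26141, 25186), (26142, 26828), (26143, 24968), (26144, 26859), (26145, 26957), (26146, 25493), (26147, 24975), (26148, 27368), (26149, 25486), (26150, 24978), (26151, 27255), (26152, 27373), (26153, 26792), (26154, 26154), (26155, 27379), (26156, 25499), (26157, 24983), (26158, 27381), (26159, 27385), (26160, 27387), (26161, 24985), (26162, 24988), (26163, 25464), (26164, 27389), (26165, 25240), (26166, 24991), (26167, 27397), (26168, 27395),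 (26169, 27400), (26170, 24992), (26171, 25113), (26172, 25242), (26173, 26877), (26174, 24997), (26175, 27261)]
    ⟨e3 q26112 (flp_f L789567) q27127, e3 q26113 L779546 q24942, e3 q26114 L779566 q25237, e3 q26115 (flp_f L791744) q27337, e3 q26116 (flp_f L789819) q27151, e3 q26117 L791790 q27342, e3 q26118 L779596 q24946, e3 q26119 (flp_f L788848) q27065, e3 q26120 (flp_f L791802) q27343, e3 q26121 L779618 q25256, e3 q26122 (flp_f L786447) q26880, e3 q26123 (flp_f L786480) q26882, e3 q26124 L779658 q24952, e3 q26125 L779670 q24953, e3 q26126 L779681 q25496, e3 q26127 (flp_f L791868) q27349, e3 q26128 (flp_f L791893) q27351, e3 q26129 L779709 q24956, e3 q26130 L779721 q25503, e3 q26131 (flp_f L791935) q27355, e3 q26132 L779737 q24959, e3 q26133 (flp_f L790808) q27253, e3 q26134 L785775 q26830, e3 q26135 L779755 q26135, e3 q26136 (flp_f L787015) q26923, e3 q26137 L779785 q25171, e3 q26138 (flp_f L791413) q27307, e3 q26139 (flp_f L779797) q24964, e3 q26140 L779810 q25447, e3 q26141 L779818 q25186, e3 q26142 L785745 q26828, e3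 q26143 (flp_f L779830) q24968, e3 q26144 L786143 q26859, e3 q26145 (flp_f L787436) q26957, e3 q26146 L779870 q25493, e3 q26147 L779884 q24975, e3 q26148 (flp_f L792049) q27368, e3 q26149 L779904 q25486, e3 q26150 L779912 q24978, e3 q26151 (flp_f L790831) q27255, e3 q26152 (flp_f L792099) q27373, e3 q26153 (flp_f L785257) q26792, e3 q26154 L779947 q26154, e3 q26155 L792157 q27379, e3 q26156 L779974 q25499, e3 q26157 L779988 q24983, e3 q26158 (flp_f L792186) q27381, e3 q26159 L792213 q27385, e3 q26160 L792225 q27387, e3 q26161 (flp_f L780014) q24985, e3 q26162 L780027 q24988, e3 q26163 L780041 q25464, e3 q26164 (flp_f L792255) q27389, e3 q26165 L780063 q25240, e3 q26166 L780071 q24991, e3 q26167 L792330 q27397, e3 q26168 (flp_f L792324) q27395, e3 q26169 L792347 q27400, e3 q26170 (flp_f L780090) q24992, e3 q26171 L780101 q25113, e3 q26172 L780105 q25242, e3 q26173 (flp_f L786415) q26877, e3 q26174 L780126 q24997, e3 q26175 (flp_f L790885) q27261, trivial⟩ (by decide +kernel)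

theorem ce_f_409 : ∀ r, r < 64 → sm gf (Qf (26176 + r)) = Qf (tab Gen.f (26176 + r)) :=
  edges_tab (sm gf) Qf (tab Gen.f) 26176 [(26176, 27404), (26177, 26943), (26178, 25007), (26179, 25001), (26180, 27264), (26181, 27410), (26182, 26973), (26183, 25251), (26184, 25005), (26185, 27415), (26186, 26906), (26187, 27408), (26188, 27421), (26189, 25010), (26190, 27267), (26191, 27422), (26192, 26990), (26193, 26991), (26194, 25015), (26195, 25016), (26196, 27427), (26197, 27428), (26198, 25500), (26199, 25020), (26200, 25180), (26201, 27432), (26202, 25505), (26203, 25396), (26204, 25506), (26205, 26885), (26206, 25026), (26207, 27270), (26208, 25312), (26209, 26209), (26210, 27242), (26211, 26211), (26212, 27145), (26213, 25030), (26214, 25320), (26215, 25281), (26216, 25245), (26217, 25254), (26218, 25296), (26219, 25302), (26220, 26948), (26221, 26993), (26222, 25058), (26223, 25042), (26224, 27458), (26225, 27456), (26226, 27461), (26227, 25043), (26228, 25064), (26229, 27178), (26230, 25048), (26231, 27273), (26232, 27464),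 (26233, 26931), (26234, 25051), (26235, 26994), (26236, 27468), (26237, 25291), (26238, 25055), (26239, 25056)]
    ⟨e3 q26176 (flp_f L792381) q27404, e3 q26177 (flp_f L787253) q26943, e3 q26178 L780160 q25007, e3 q26179 L780170 q25001, e3 q26180 (flp_f L790924) q27264, e3 q26181 (flp_f L792431) q27410, e3 q26182 (flp_f L787632) q26973, e3 q26183 L780209 q25251, e3 q26184 L780223 q25005, e3 q26185 (flp_f L792485) q27415, e3 q26186 (flp_f L786822) q26906, e3 q26187 (flp_f L792410) q27408, e3 q26188 L792543 q27421, e3 q26189 L780271 q25010, e3 q26190 (flp_f L790960) q27267, e3 q26191 (flp_f L792551) q27422, e3 q26192 (flp_f L787854) q26990, e3 q26193 (flp_f L787870) q26991, e3 q26194 L780319 q25015, e3 q26195 L780331 q25016, e3 q26196 (flp_f L792603) q27427, e3 q26197 (flp_f L792615) q27428, e3 q26198 L780365 q25500, e3 q26199 L780377 q25020, e3 q26200 L780389 q25180, e3 q26201 (flp_f L792661) q27432, e3 q26202 L780407 q25505, e3 q26203 L780421 q25396, e3 q26204 L780425 q25506, e3 q26205 (flp_f L786534) q26885, e3 q26206 L780441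 q25026, e3 q26207 (flp_f L790992) q27270, e3 q26208 L780453 q25312, e3 q26209 L780463 q26209, e3 q26210 (flp_f L790671) q27242, e3 q26211 L780490 q26211, e3 q26212 (flp_f L789751) q27145, e3 q26213 (flp_f L780509) q25030, e3 q26214 L780526 q25320, e3 q26215 L780530 q25281, e3 q26216 L780549 q25245, e3 q26217 L780555 q25254, e3 q26218 L780567 q25296, e3 q26219 L780579 q25302, e3 q26220 (flp_f L787328) q26948, e3 q26221 (flp_f L787896) q26993, e3 q26222 L780610 q25058, e3 q26223 L780620 q25042, e3 q26224 L792920 q27458, e3 q26225 (flp_f L792910) q27456, e3 q26226 L792961 q27461, e3 q26227 (flp_f L780655) q25043, e3 q26228 L780673 q25064, e3 q26229 (flp_f L790079) q27178, e3 q26230 L780684 q25048, e3 q26231 (flp_f L791028) q27273, e3 q26232 (flp_f L792991) q27464, e3 q26233 (flp_f L787104) q26931, e3 q26234 L780714 q25051, e3 q26235 (flp_f L787924) q26994, e3 q26236 (flp_f L793022) q27468, e3 q26237 L780738 q25291, e3 q26238 L780752 q25055, e3 q26239 L780764 q25056, trivial⟩ (by decide +kernel)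

theorem ce_f_410 : ∀ r, r < 64 → sm gf (Qf (26240 + r)) = Qf (tab Gen.f (26240 + r)) :=
  edges_tab (sm gf) Qf (tab Gen.f) 26240 [(26240, 26949), (26241, 27473), (26242, 27474), (26243, 27084), (26244, 27454), (26245, 27482), (26246, 25061), (26247, 27002), (26248, 27483), (26249, 27001), (26250, 27096), (26251, 27222), (26252, 27462), (26253, 27492), (26254, 25065), (26255, 25068), (26256, 27277), (26257, 25474), (26258, 26945), (26259, 25528), (26260, 25072), (26261, 25511), (26262, 27498), (26263, 25534), (26264, 25076), (26265, 27248), (26266, 27502), (26267, 27247), (26268, 25190), (26269, 25539), (26270, 25540), (26271, 27511), (26272, 25084), (26273, 26934), (26274, 25086), (26275, 27517), (26276, 25083), (26277, 27512), (26278, 26933), (26279, 27514), (26280, 27523), (26281, 27524), (26282, 25087), (26283, 25548), (26284, 27527), (26285, 25550), (26286, 27530), (26287, 25091), (26288, 25095), (26289, 27533), (26290, 25261), (26291, 25093), (26292, 27535), (26293, 25096), (26294, 25558), (26295, 25398), (26296, 25559),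 (26297, 26898), (26298, 25298), (26299, 27285), (26300, 27286), (26301, 27287), (26302, 27546), (26303, 27548)]
    ⟨e3 q26240 (flp_f L787355) q26949, e3 q26241 (flp_f L793065) q27473, e3 q26242 (flp_f L793077) q27474, e3 q26243 (flp_f L789069) q27084, e3 q26244 (flp_f L792885) q27454, e3 q26245 L793143 q27482, e3 q26246 L780821 q25061, e3 q26247 (flp_f L788026) q27002, e3 q26248 (flp_f L793157) q27483, e3 q26249 (flp_f L788004) q27001, e3 q26250 (flp_f L789230) q27096, e3 q26251 (flp_f L790518) q27222, e3 q26252 (flp_f L792979) q27462, e3 q26253 L793223 q27492, e3 q26254 (flp_f L780873) q25065, e3 q26255 L780879 q25068, e3 q26256 (flp_f L791072) q27277, e3 q26257 L780891 q25474, e3 q26258 (flp_f L787286) q26945, e3 q26259 L780907 q25528, e3 q26260 L780915 q25072, e3 q26261 L780926 q25511, e3 q26262 (flp_f L793267) q27498, e3 q26263 L780942 q25534, e3 q26264 L780952 q25076, e3 q26265 (flp_f L790754) q27248, e3 q26266 (flp_f L793307) q27502, e3 q26267 (flp_f L790730) q27247, e3 q26268 L780982 q25190, e3 q26269 L780990 q25539,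 e3 q26270 L780998 q25540, e3 q26271 L793379 q27511, e3 q26272 L781013 q25084, e3 q26273 (flp_f L787155) q26934, e3 q26274 L781024 q25086, e3 q26275 L793413 q27517, e3 q26276 (flp_f L781034) q25083, e3 q26277 (flp_f L793388) q27512, e3 q26278 (flp_f L787134) q26933, e3 q26279 (flp_f L793400) q27514, e3 q26280 L793473 q27523, e3 q26281 L793481 q27524, e3 q26282 (flp_f L781089) q25087, e3 q26283 L781099 q25548, e3 q26284 L793507 q27527, e3 q26285 L781115 q25550, e3 q26286 L793531 q27530, e3 q26287 (flp_f L781125) q25091, e3 q26288 L781135 q25095, e3 q26289 L793553 q27533, e3 q26290 (flp_f L781149) q25261, e3 q26291 (flp_f L781151) q25093, e3 q26292 L793571 q27535, e3 q26293 (flp_f L781175) q25096, e3 q26294 L781185 q25558, e3 q26295 L781197 q25398, e3 q26296 L781201 q25559, e3 q26297 (flp_f L786717) q26898, e3 q26298 L781213 q25298, e3 q26299 (flp_f L791168) q27285, e3 q26300 (flp_f L791174) q27286, e3 q26301 (flp_f L791188) q27287, e3 q26302 L793647 q27546, e3 q26303 L793665 q27548, trivial⟩ (by decide +kernel)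

theorem ce_f_411 : ∀ r, r < 64 → sm gf (Qf (26304 + r)) = Qf (tab Gen.f (26304 + r)) :=
  edges_tab (sm gf) Qf (tab Gen.f) 26304 [(26304, 25108), (26305, 25249), (26306, 27241), (26307, 26307), (26308, 27388), (26309, 27401), (26310, 25465), (26311, 25468), (26312, 25472), (26313, 25118), (26314, 25258), (26315, 25274), (26316, 25293), (26317, 25535), (26318, 27012), (26319, 27006), (26320, 27288), (26321, 27564), (26322, 25146), (26323, 25129), (26324, 26852), (26325, 25221), (26326, 25562), (26327, 25563), (26328, 25326), (26329, 25226), (26330, 25561), (26331, 25285), (26332, 26901), (26333, 25142), (26334, 27563), (26335, 25145), (26336, 25360), (26337, 25366), (26338, 25333), (26339, 25152), (26340, 27572), (26341, 25386), (26342, 27173), (26343, 25373), (26344, 25376), (26345, 25158), (26346, 25380), (26347, 27575), (26348, 25160), (26349, 25270), (26350, 27578), (26351, 25361), (26352, 27055), (26353, 25164), (26354, 27174), (26355, 27583), (26356, 26770), (26357, 25167), (26358, 25446), (26359, 27362), (26360, 25448),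 (26361, 25449), (26362, 25450), (26363, 25457), (26364, 25458), (26365, 25460), (26366, 26992), (26367, 25463)]
    ⟨e3 q26304 (flp_f L781251) q25108, e3 q26305 L781263 q25249, e3 q26306 (flp_f L790660) q27241, e3 q26307 L781287 q26307, e3 q26308 (flp_f L792247) q27388, e3 q26309 (flp_f L792355) q27401, e3 q26310 L781324 q25465, e3 q26311 L781330 q25468, e3 q26312 L781336 q25472, e3 q26313 (flp_f L781342) q25118, e3 q26314 L781357 q25258, e3 q26315 L781364 q25274, e3 q26316 L781372 q25293, e3 q26317 L781384 q25535, e3 q26318 (flp_f L788158) q27012, e3 q26319 (flp_f L788084) q27006, e3 q26320 (flp_f L791200) q27288, e3 q26321 L793817 q27564, e3 q26322 (flp_f L781429) q25146, e3 q26323 (flp_f L781431) q25129, e3 q26324 L786046 q26852, e3 q26325 L781456 q25221, e3 q26326 L781467 q25562, e3 q26327 L781474 q25563, e3 q26328 L781484 q25326, e3 q26329 L781494 q25226, e3 q26330 L781508 q25561, e3 q26331 L781517 q25285, e3 q26332 (flp_f L786754) q26901, e3 q26333 (flp_f L781531) q25142, e3 q26334 L793815 q27563, e3 q26335 (flp_f L781556)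 q25145, e3 q26336 L781572 q25360, e3 q26337 L781588 q25366, e3 q26338 L781598 q25333, e3 q26339 L781612 q25152, e3 q26340 (flp_f L793916) q27572, e3 q26341 L781634 q25386, e3 q26342 (flp_f L790033) q27173, e3 q26343 L781658 q25373, e3 q26344 L781668 q25376, e3 q26345 L781678 q25158, e3 q26346 L781700 q25380, e3 q26347 (flp_f L793952) q27575, e3 q26348 L781718 q25160, e3 q26349 L781741 q25270, e3 q26350 (flp_f L793990) q27578, e3 q26351 L781759 q25361, e3 q26352 (flp_f L788726) q27055, e3 q26353 L781785 q25164, e3 q26354 (flp_f L790055) q27174, e3 q26355 (flp_f L794058) q27583, e3 q26356 (flp_f L784936) q26770, e3 q26357 L781817 q25167, e3 q26358 L781829 q25446, e3 q26359 (flp_f L791992) q27362, e3 q26360 L781851 q25448, e3 q26361 L781865 q25449, e3 q26362 L781881 q25450, e3 q26363 L781893 q25457, e3 q26364 L781903 q25458, e3 q26365 L781915 q25460, e3 q26366 (flp_f L787890) q26992, e3 q26367 L781927 q25463, trivial⟩ (by decide +kernel)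

theorem ce_f_412 : ∀ r, r < 64 → sm gf (Qf (26368 + r)) = Qf (tab Gen.f (26368 + r)) :=
  edges_tab (sm gf) Qf (tab Gen.f) 26368 [(26368, 27433), (26369, 25410), (26370, 25411), (26371, 26827), (26372, 27364), (26373, 26829), (26374, 27357), (26375, 27278), (26376, 27137), (26377, 27566), (26378, 27505), (26379, 27603), (26380, 25191), (26381, 25193), (26382, 25514), (26383, 27604), (26384, 26793), (26385, 27609), (26386, 25195), (26387, 25197), (26388, 27610), (26389, 27614), (26390, 25199), (26391, 27324), (26392, 27615), (26393, 27619), (26394, 25200), (26395, 27567), (26396, 25203), (26397, 27621), (26398, 26801), (26399, 27624), (26400, 26803), (26401, 27627), (26402, 25206), (26403, 25209), (26404, 27325), (26405, 27628), (26406, 27632), (26407, 25210), (26408, 25213), (26409, 27321), (26410, 27633), (26411, 27636), (26412, 25214), (26413, 25217), (26414, 25224), (26415, 25229), (26416, 27637), (26417, 25228), (26418, 25481), (26419, 25543), (26420, 25509), (26421, 25482), (26422, 27333), (26423, 25483), (26424, 27338),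 (26425, 25484), (26426, 26899), (26427, 27393), (26428, 27650), (26429, 25241), (26430, 27402), (26431, 25466)]
    ⟨e3 q26368 (flp_f L792673) q27433, e3 q26369 L781941 q25410, e3 q26370 L781957 q25411, e3 q26371 (flp_f L785721) q26827, e3 q26372 (flp_f L792012) q27364, e3 q26373 (flp_f L785751) q26829, e3 q26374 (flp_f L791953) q27357, e3 q26375 (flp_f L791080) q27278, e3 q26376 (flp_f L789679) q27137, e3 q26377 (flp_f L793846) q27566, e3 q26378 (flp_f L793331) q27505, e3 q26379 L794262 q27603, e3 q26380 (flp_f L782046) q25191, e3 q26381 L782061 q25193, e3 q26382 L782068 q25514, e3 q26383 (flp_f L794274) q27604, e3 q26384 (flp_f L785271) q26793, e3 q26385 L794304 q27609, e3 q26386 (flp_f L782088) q25195, e3 q26387 L782106 q25197, e3 q26388 (flp_f L794318) q27610, e3 q26389 L794359 q27614, e3 q26390 L782140 q25199, e3 q26391 (flp_f L791597) q27324, e3 q26392 (flp_f L794373) q27615, e3 q26393 L794407 q27619, e3 q26394 (flp_f L782174) q25200, e3 q26395 (flp_f L793857) q27567, e3 q26396 L782196 q25203, e3 q26397 (flp_f L794429)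 q27621, e3 q26398 (flp_f L785382) q26801, e3 q26399 L794455 q27624, e3 q26400 (flp_f L785403) q26803, e3 q26401 L794479 q27627, e3 q26402 (flp_f L782242) q25206, e3 q26403 L782254 q25209, e3 q26404 (flp_f L791611) q27325, e3 q26405 (flp_f L794491) q27628, e3 q26406 L794525 q27632, e3 q26407 (flp_f L782289) q25210, e3 q26408 L782301 q25213, e3 q26409 (flp_f L791564) q27321, e3 q26410 (flp_f L794537) q27633, e3 q26411 L794555 q27636, e3 q26412 (flp_f L782323) q25214, e3 q26413 L782337 q25217, e3 q26414 (flp_f L782341) q25224, e3 q26415 L782362 q25229, e3 q26416 (flp_f L794570) q27637, e3 q26417 (flp_f L782372) q25228, e3 q26418 L782383 q25481, e3 q26419 L782401 q25543, e3 q26420 L782412 q25509, e3 q26421 L782416 q25482, e3 q26422 (flp_f L791704) q27333, e3 q26423 L782435 q25483, e3 q26424 (flp_f L791762) q27338, e3 q26425 L782453 q25484, e3 q26426 (flp_f L786725) q26899, e3 q26427 (flp_f L792305) q27393, e3 q26428 L794677 q27650, e3 q26429 (flp_f L782483) q25241, e3 q26430 (flp_f L792359) q27402, e3 q26431 L782505 q25466, trivial⟩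 (by decide +kernel)

theorem ce_f_413 : ∀ r, r < 64 → sm gf (Qf (26432 + r)) = Qf (tab Gen.f (26432 + r)) :=
  edges_tab (sm gf) Qf (tab Gen.f) 26432 [(26432, 25467), (26433, 27447), (26434, 25470), (26435, 25471), (26436, 27549), (26437, 25473), (26438, 27485), (26439, 25475), (26440, 27414), (26441, 27448), (26442, 25253), (26443, 27664), (26444, 27438), (26445, 25257), (26446, 27346), (26447, 27558), (26448, 27667), (26449, 27534), (26450, 25260), (26451, 27673), (26452, 27532), (26453, 26959), (26454, 25264), (26455, 25266), (26456, 27678), (26457, 27676), (26458, 27681), (26459, 25267), (26460, 25271), (26461, 27579), (26462, 27682), (26463, 25273), (26464, 27445), (26465, 27685), (26466, 27538), (26467, 25277), (26468, 25278), (26469, 27446), (26470, 27689), (26471, 27695), (26472, 27691), (26473, 27698), (26474, 25279), (26475, 25282), (26476, 27424), (26477, 27700), (26478, 27703), (26479, 25283), (26480, 27568), (26481, 25287), (26482, 25289), (26483, 26855), (26484, 27705), (26485, 25292), (26486, 27450), (26487,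 27471), (26488, 27559), (26489, 27708), (26490, 27541), (26491, 25485), (26492, 25297), (26493, 27449), (26494, 27715), (26495, 27540)]
    ⟨e3 q26432 L782513 q25467, e3 q26433 (flp_f L792806) q27447, e3 q26434 L782533 q25470, e3 q26435 L782543 q25471, e3 q26436 (flp_f L793679) q27549, e3 q26437 L782562 q25473, e3 q26438 (flp_f L793169) q27485, e3 q26439 L782580 q25475, e3 q26440 (flp_f L792469) q27414, e3 q26441 (flp_f L792820) q27448, e3 q26442 L782603 q25253, e3 q26443 (flp_f L794805) q27664, e3 q26444 (flp_f L792713) q27438, e3 q26445 L782629 q25257, e3 q26446 (flp_f L791826) q27346, e3 q26447 (flp_f L793759) q27558, e3 q26448 (flp_f L794835) q27667, e3 q26449 (flp_f L793569) q27534, e3 q26450 L782664 q25260, e3 q26451 (flp_f L794872) q27673, e3 q26452 L793551 q27532, e3 q26453 (flp_f L787470) q26959, e3 q26454 L782696 q25264, e3 q26455 L782706 q25266, e3 q26456 L794906 q27678, e3 q26457 (flp_f L794900) q27676, e3 q26458 L794925 q27681, e3 q26459 (flp_f L782727) q25267, e3 q26460 L782733 q25271, e3 q26461 (flp_f L794012)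 q27579, e3 q26462 (flp_f L794935) q27682, e3 q26463 L782749 q25273, e3 q26464 (flp_f L792785) q27445, e3 q26465 (flp_f L794950) q27685, e3 q26466 (flp_f L793599) q27538, e3 q26467 L782785 q25277, e3 q26468 L782795 q25278, e3 q26469 (flp_f L792797) q27446, e3 q26470 (flp_f L794986) q27689, e3 q26471 L795037 q27695, e3 q26472 (flp_f L795009) q27691, e3 q26473 L795059 q27698, e3 q26474 (flp_f L782838) q25279, e3 q26475 L782850 q25282, e3 q26476 (flp_f L792567) q27424, e3 q26477 (flp_f L795077) q27700, e3 q26478 L795097 q27703, e3 q26479 (flp_f L782876) q25283, e3 q26480 (flp_f L793863) q27568, e3 q26481 L782890 q25287, e3 q26482 L782902 q25289, e3 q26483 (flp_f L786081) q26855, e3 q26484 (flp_f L795111) q27705, e3 q26485 L782928 q25292, e3 q26486 (flp_f L792843) q27450, e3 q26487 (flp_f L793042) q27471, e3 q26488 (flp_f L793769) q27559, e3 q26489 (flp_f L795137) q27708, e3 q26490 (flp_f L793625) q27541, e3 q26491 L782967 q25485, e3 q26492 L782979 q25297, e3 q26493 (flp_f L792829) q27449, e3 q26494 (flp_f L795193) q27715, e3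 q26495 (flp_f L793615) q27540, trivial⟩ (by decide +kernel)

theorem ce_f_414 : ∀ r, r < 64 → sm gf (Qf (26496 + r)) = Qf (tab Gen.f (26496 + r)) :=
  edges_tab (sm gf) Qf (tab Gen.f) 26496 [(26496, 25451), (26497, 26944), (26498, 25303), (26499, 27451), (26500, 25305), (26501, 27441), (26502, 27720), (26503, 27727), (26504, 25304), (26505, 27722), (26506, 27729), (26507, 25306), (26508, 27007), (26509, 26932), (26510, 27008), (26511, 26946), (26512, 25313), (26513, 27440), (26514, 27735), (26515, 25314), (26516, 27013), (26517, 27015), (26518, 26849), (26519, 25323), (26520, 26820), (26521, 25340), (26522, 25339), (26523, 27160), (26524, 27742), (26525, 25331), (26526, 27571), (26527, 26863), (26528, 27195), (26529, 27747), (26530, 27196), (26531, 27750), (26532, 25337), (26533, 27739), (26534, 27738), (26535, 25343), (26536, 25344), (26537, 27755), (26538, 27751), (26539, 27758), (26540, 27753), (26541, 27761), (26542, 25345), (26543, 25348), (26544, 27764), (26545, 25347), (26546, 27762), (26547, 27766), (26548, 25349),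 (26549, 26775), (26550, 25353), (26551, 25355), (26552, 25529), (26553, 26888), (26554, 26763), (26555, 27224), (26556, 27570), (26557, 27581), (26558, 26768), (26559, 26767)]
    ⟨e3 q26496 L783003 q25451, e3 q26497 (flp_f L787280) q26944, e3 q26498 L783022 q25303, e3 q26499 (flp_f L792853) q27451, e3 q26500 L783033 q25305, e3 q26501 (flp_f L792745) q27441, e3 q26502 (flp_f L795229) q27720, e3 q26503 L795264 q27727, e3 q26504 (flp_f L783053) q25304, e3 q26505 (flp_f L795241) q27722, e3 q26506 L795276 q27729, e3 q26507 (flp_f L783069) q25306, e3 q26508 (flp_f L788094) q27007, e3 q26509 (flp_f L787128) q26932, e3 q26510 (flp_f L788112) q27008, e3 q26511 (flp_f L787306) q26946, e3 q26512 L783103 q25313, e3 q26513 (flp_f L792733) q27440, e3 q26514 L795310 q27735, e3 q26515 (flp_f L783113) q25314, e3 q26516 (flp_f L788164) q27013, e3 q26517 (flp_f L788184) q27015, e3 q26518 (flp_f L785999) q26849, e3 q26519 (flp_f L783140) q25323, e3 q26520 (flp_f L785641) q26820, e3 q26521 L783157 q25340, e3 q26522 L783171 q25339, e3 q26523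 (flp_f L789913) q27160, e3 q26524 L795370 q27742, e3 q26525 (flp_f L783193) q25331, e3 q26526 (flp_f L793900) q27571, e3 q26527 (flp_f L786199) q26863, e3 q26528 (flp_f L790245) q27195, e3 q26529 L795405 q27747, e3 q26530 (flp_f L790259) q27196, e3 q26531 L795424 q27750, e3 q26532 (flp_f L783238) q25337, e3 q26533 (flp_f L795348) q27739, e3 q26534 (flp_f L795332) q27738, e3 q26535 L783260 q25343, e3 q26536 L783268 q25344, e3 q26537 L795463 q27755, e3 q26538 (flp_f L795434) q27751, e3 q26539 L795486 q27758, e3 q26540 (flp_f L795453) q27753, e3 q26541 L795504 q27761, e3 q26542 (flp_f L783307) q25345, e3 q26543 L783317 q25348, e3 q26544 L795520 q27764, e3 q26545 (flp_f L783323) q25347, e3 q26546 (flp_f L795514) q27762, e3 q26547 L795532 q27766, e3 q26548 (flp_f L783339) q25349, e3 q26549 (flp_f L785008) q26775, e3 q26550 L783353 q25353, e3 q26551 (flp_f L783357) q25355, e3 q26552 L783367 q25529, e3 q26553 (flp_f L786571) q26888, e3 q26554 (flp_f L784822) q26763, e3 q26555 (flp_f L790540) q27224, e3 q26556 (flp_f L793884) q27570,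 e3 q26557 (flp_f L794032) q27581, e3 q26558 (flp_f L784902) q26768, e3 q26559 (flp_f L784886) q26767, trivial⟩ (by decide +kernel)

theorem ce_f_415 : ∀ r, r < 64 → sm gf (Qf (26560 + r)) = Qf (tab Gen.f (26560 + r)) :=
  edges_tab (sm gf) Qf (tab Gen.f) 26560 [(26560, 27774), (26561, 25364), (26562, 27060), (26563, 27180), (26564, 26791), (26565, 26929), (26566, 26814), (26567, 26971), (26568, 27574), (26569, 27783), (26570, 25374), (26571, 27024), (26572, 27070), (26573, 25381), (26574, 27576), (26575, 27786), (26576, 26761), (26577, 26771), (26578, 26762), (26579, 27234), (26580, 27075), (26581, 27063), (26582, 26868), (26583, 27014), (26584, 25392), (26585, 27795), (26586, 27797), (26587, 25393), (26588, 26879), (26589, 27435), (26590, 26890), (26591, 27537), (26592, 27223), (26593, 25402), (26594, 27232), (26595, 27803), (26596, 25403), (26597, 27231), (26598, 27233), (26599, 25409), (26600, 25453), (26601, 27805), (26602, 27594), (26603, 27275), (26604, 27295), (26605, 27279), (26606, 25416), (26607, 25418), (26608,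 27312), (26609, 27809), (26610, 25430), (26611, 27090), (26612, 25422), (26613, 25516), (26614, 27814), (26615, 25424), (26616, 26867), (26617, 27817), (26618, 25426), (26619, 27300), (26620, 27820), (26621, 25429), (26622, 27317), (26623, 27823)]
    ⟨e3 q26560 L795590 q27774, e3 q26561 (flp_f L783426) q25364, e3 q26562 (flp_f L788774) q27060, e3 q26563 (flp_f L790100) q27180, e3 q26564 (flp_f L785239) q26791, e3 q26565 (flp_f L787086) q26929, e3 q26566 (flp_f L785553) q26814, e3 q26567 (flp_f L787618) q26971, e3 q26568 (flp_f L793942) q27574, e3 q26569 L795641 q27783, e3 q26570 (flp_f L783479) q25374, e3 q26571 (flp_f L788284) q27024, e3 q26572 (flp_f L788904) q27070, e3 q26573 L783501 q25381, e3 q26574 (flp_f L793972) q27576, e3 q26575 (flp_f L795663) q27786, e3 q26576 (flp_f L784786) q26761, e3 q26577 (flp_f L784962) q26771, e3 q26578 (flp_f L784804) q26762, e3 q26579 (flp_f L790608) q27234, e3 q26580 (flp_f L788950) q27075, e3 q26581 (flp_f L788816) q27063, e3 q26582 (flp_f L786273) q26868, e3 q26583 (flp_f L788178)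 q27014, e3 q26584 L783563 q25392, e3 q26585 (flp_f L795719) q27795, e3 q26586 L795727 q27797, e3 q26587 (flp_f L783577) q25393, e3 q26588 (flp_f L786437) q26879, e3 q26589 (flp_f L792693) q27435, e3 q26590 (flp_f L786591) q26890, e3 q26591 (flp_f L793595) q27537, e3 q26592 (flp_f L790526) q27223, e3 q26593 L783615 q25402, e3 q26594 (flp_f L790584) q27232, e3 q26595 L795765 q27803, e3 q26596 (flp_f L783629) q25403, e3 q26597 (flp_f L790578) q27231, e3 q26598 (flp_f L790592) q27233, e3 q26599 L783647 q25409, e3 q26600 L783654 q25453, e3 q26601 (flp_f L795775) q27805, e3 q26602 (flp_f L794176) q27594, e3 q26603 (flp_f L791046) q27275, e3 q26604 (flp_f L791270) q27295, e3 q26605 (flp_f L791098) q27279, e3 q26606 L783696 q25416, e3 q26607 L783702 q25418, e3 q26608 (flp_f L791470) q27312, e3 q26609 (flp_f L795805) q27809, e3 q26610 L783717 q25430, e3 q26611 (flp_f L789160) q27090, e3 q26612 L783734 q25422, e3 q26613 L783740 q25516, e3 q26614 (flp_f L795837) q27814, e3 q26615 L783750 q25424, e3 q26616 (flp_f L786267) q26867, e3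 q26617 (flp_f L795854) q27817, e3 q26618 L783772 q25426, e3 q26619 (flp_f L791325) q27300, e3 q26620 (flp_f L795874) q27820, e3 q26621 L783795 q25429, e3 q26622 (flp_f L791528) q27317, e3 q26623 (flp_f L795898) q27823, trivial⟩ (by decide +kernel)

theorem ce_f_416 : ∀ r, r < 64 → sm gf (Qf (26624 + r)) = Qf (tab Gen.f (26624 + r)) :=
  edges_tab (sm gf) Qf (tab Gen.f) 26624 [(26624, 27812), (26625, 25432), (26626, 25434), (26627, 26870), (26628, 27826), (26629, 25437), (26630, 26872), (26631, 27829), (26632, 25440), (26633, 27309), (26634, 27831), (26635, 25443), (26636, 27320), (26637, 27586), (26638, 27345), (26639, 27588), (26640, 27589), (26641, 27718), (26642, 25454), (26643, 27806), (26644, 27838), (26645, 26995), (26646, 27003), (26647, 27590), (26648, 26975), (26649, 27591), (26650, 26935), (26651, 26978), (26652, 27391), (26653, 27554), (26654, 27652), (26655, 27556), (26656, 27654), (26657, 27555), (26658, 27020), (26659, 27656), (26660, 27557), (26661, 27658), (26662, 27495), (26663, 27660), (26664, 27494), (26665,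 25477), (26666, 27327), (26667, 27857), (26668, 25480), (26669, 27296), (26670, 27860), (26671, 27639), (26672, 27642), (26673, 27644), (26674, 27714), (26675, 27371), (26676, 27239), (26677, 25488), (26678, 26881), (26679, 27868), (26680, 25491), (26681, 26883), (26682, 27871), (26683, 26910), (26684, 27367), (26685, 27878), (26686, 25497), (26687, 27350)]
    ⟨e3 q26624 (flp_f L795819) q27812, e3 q26625 L783823 q25432, e3 q26626 L783831 q25434, e3 q26627 (flp_f L786312) q26870, e3 q26628 (flp_f L795918) q27826, e3 q26629 L783862 q25437, e3 q26630 (flp_f L786338) q26872, e3 q26631 (flp_f L795954) q27829, e3 q26632 L783876 q25440, e3 q26633 (flp_f L791431) q27309, e3 q26634 (flp_f L795964) q27831, e3 q26635 L783894 q25443, e3 q26636 (flp_f L791558) q27320, e3 q26637 (flp_f L794086) q27586, e3 q26638 (flp_f L791818) q27345, e3 q26639 (flp_f L794110) q27588, e3 q26640 (flp_f L794126) q27589, e3 q26641 (flp_f L795211) q27718, e3 q26642 L783932 q25454, e3 q26643 (flp_f L795783) q27806, e3 q26644 (flp_f L796001) q27838, e3 q26645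 (flp_f L787930) q26995, e3 q26646 (flp_f L788032) q27003, e3 q26647 (flp_f L794140) q27590, e3 q26648 (flp_f L787666) q26975, e3 q26649 (flp_f L794154) q27591, e3 q26650 (flp_f L787161) q26935, e3 q26651 (flp_f L787704) q26978, e3 q26652 (flp_f L792283) q27391, e3 q26653 (flp_f L793726) q27554, e3 q26654 (flp_f L794695) q27652, e3 q26655 (flp_f L793740) q27556, e3 q26656 (flp_f L794714) q27654, e3 q26657 (flp_f L793732) q27555, e3 q26658 (flp_f L788224) q27020, e3 q26659 (flp_f L794734) q27656, e3 q26660 (flp_f L793750) q27557, e3 q26661 (flp_f L794757) q27658, e3 q26662 (flp_f L793245) q27495, e3 q26663 (flp_f L794775) q27660, e3 q26664 (flp_f L793237) q27494, e3 q26665 L784056 q25477, e3 q26666 (flp_f L791641) q27327, e3 q26667 (flp_f L796110) q27857, e3 q26668 L784077 q25480, e3 q26669 (flp_f L791288) q27296, e3 q26670 (flp_f L796130) q27860, e3 q26671 (flp_f L794580) q27639, e3 q26672 (flp_f L794612) q27642, e3 q26673 (flp_f L794630) q27644, e3 q26674 (flp_f L795179) q27714, e3 q26675 (flp_f L792082) q27371, e3 q26676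 (flp_f L790635) q27239, e3 q26677 L784131 q25488, e3 q26678 (flp_f L786474) q26881, e3 q26679 (flp_f L796177) q27868, e3 q26680 L784150 q25491, e3 q26681 (flp_f L786504) q26883, e3 q26682 (flp_f L796199) q27871, e3 q26683 (flp_f L786875) q26910, e3 q26684 (flp_f L792037) q27367, e3 q26685 L796250 q27878, e3 q26686 L784191 q25497, e3 q26687 (flp_f L791889) q27350, trivial⟩ (by decide +kernel)

theorem ce_f_417 : ∀ r, r < 64 → sm gf (Qf (26688 + r)) = Qf (tab Gen.f (26688 + r)) :=
  edges_tab (sm gf) Qf (tab Gen.f) 26688 [(26688, 25498), (26689, 27352), (26690, 27879), (26691, 27881), (26692, 27380), (26693, 27641), (26694, 27431), (26695, 27873), (26696, 25501), (26697, 25504), (26698, 27356), (26699, 27434), (26700, 27436), (26701, 25512), (26702, 27499), (26703, 27891), (26704, 25530), (26705, 27605), (26706, 25517), (26707, 27815), (26708, 27816), (26709, 25520), (26710, 25545), (26711, 27900), (26712, 26891), (26713, 25525), (26714, 27904), (26715, 25523), (26716, 27561), (26717, 27906), (26718, 25526), (26719, 27497),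 (26720, 27768), (26721, 27894), (26722, 25533), (26723, 27909), (26724, 27501), (26725, 27560), (26726, 25538), (26727, 26892), (26728, 25551), (26729, 27507), (26730, 27917), (26731, 27509), (26732, 27914), (26733, 25541), (26734, 25546), (26735, 27640), (26736, 25547), (26737, 27901), (26738, 27902), (26739, 27920), (26740, 27525), (26741, 25549), (26742, 27528), (26743, 27913), (26744, 27926), (26745, 25554), (26746, 25556), (26747, 27536), (26748, 25565), (26749, 25568), (26750, 25583), (26751, 27927)]
    ⟨e3 q26688 L784206 q25498, e3 q26689 (flp_f L791905) q27352, e3 q26690 (flp_f L796257) q27879, e3 q26691 (flp_f L796273) q27881, e3 q26692 (flp_f L792172) q27380, e3 q26693 (flp_f L794600) q27641, e3 q26694 (flp_f L792649) q27431, e3 q26695 (flp_f L796213) q27873, e3 q26696 (flp_f L784258) q25501, e3 q26697 L784268 q25504, e3 q26698 (flp_f L791947) q27356, e3 q26699 (flp_f L792679) q27434, e3 q26700 (flp_f L792697) q27436, e3 q26701 L784294 q25512, e3 q26702 (flp_f L793279) q27499, e3 q26703 (flp_f L796342) q27891,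 e3 q26704 L784308 q25530, e3 q26705 (flp_f L794282) q27605, e3 q26706 L784320 q25517, e3 q26707 (flp_f L795843) q27815, e3 q26708 (flp_f L795847) q27816, e3 q26709 L784331 q25520, e3 q26710 L784347 q25545, e3 q26711 (flp_f L796385) q27900, e3 q26712 (flp_f L786605) q26891, e3 q26713 L784373 q25525, e3 q26714 L796417 q27904, e3 q26715 (flp_f L784383) q25523, e3 q26716 (flp_f L793789) q27561, e3 q26717 L796437 q27906, e3 q26718 (flp_f L784413) q25526, e3 q26719 (flp_f L793259) q27497, e3 q26720 (flp_f L795546) q27768, e3 q26721 (flp_f L796355) q27894, e3 q26722 L784441 q25533, e3 q26723 (flp_f L796463) q27909, e3 q26724 (flp_f L793295) q27501, e3 q26725 (flp_f L793777) q27560, e3 q26726 L784463 q25538, e3 q26727 (flp_f L786629) q26892, e3 q26728 L784473 q25551, e3 q26729 (flp_f L793350) q27507, e3 q26730 L796513 q27917, e3 q26731 (flp_f L793365) q27509, e3 q26732 (flp_f L796497) q27914, e3 q26733 (flp_f L784505) q25541, e3 q26734 L784513 q25546, e3 q26735 (flp_f L794596) q27640, e3 q26736 L784525 q25547, e3 q26737 (flp_f L796401)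 q27901, e3 q26738 (flp_f L796405) q27902, e3 q26739 (flp_f L796535) q27920, e3 q26740 (flp_f L793497) q27525, e3 q26741 (flp_f L784553) q25549, e3 q26742 (flp_f L793521) q27528, e3 q26743 (flp_f L796491) q27913, e3 q26744 L796571 q27926, e3 q26745 (flp_f L784575) q25554, e3 q26746 (flp_f L784581) q25556, e3 q26747 (flp_f L793583) q27536, e3 q26748 (flp_f L784589) q25565, e3 q26749 L784599 q25568, e3 q26750 L784627 q25583, e3 q26751 (flp_f L796581) q27927, trivial⟩ (by decide +kernel)

theorem ce_f_418 : ∀ r, r < 64 → sm gf (Qf (26752 + r)) = Qf (tab Gen.f (26752 + r)) :=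
  edges_tab (sm gf) Qf (tab Gen.f) 26752 [(26752, 25571), (26753, 27930), (26754, 25573), (26755, 27932), (26756, 25576), (26757, 25592), (26758, 27934), (26759, 25595), (26760, 25596), (26761, 26576), (26762, 26578), (26763, 26554), (26764, 25584), (26765, 27928), (26766, 27941), (26767, 26559), (26768, 26558), (26769, 25938), (26770, 26356), (26771, 26577), (26772, 25593), (26773, 27935), (26774, 27936), (26775, 26549), (26776, 27937), (26777, 27938), (26778, 25598), (26779, 27951), (26780, 25930), (26781, 26781), (26782, 27957), (26783, 25926), (26784, 25603), (26785, 27960), (26786, 27964), (26787, 25604), (26788, 25606), (26789, 25729), (26790, 27966), (26791, 26564), (26792, 26153), (26793, 26384), (26794, 27974), (26795, 25610), (26796, 25950), (26797, 25613), (26798, 25742), (26799, 27978), (26800, 25720), (26801, 26398), (26802, 27985), (26803, 26400), (26804, 27988), (26805, 25617), (26806, 25621), (26807, 25759), (26808, 27989), (26809, 26809), (26810, 26810), (26811, 27993), (26812, 25762), (26813, 25764), (26814,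 26566), (26815, 25629)]
    ⟨e3 q26752 L784651 q25571, e3 q26753 (flp_f L796635) q27930, e3 q26754 L784685 q25573, e3 q26755 (flp_f L796671) q27932, e3 q26756 L784715 q25576, e3 q26757 L784735 q25592, e3 q26758 (flp_f L796705) q27934, e3 q26759 L784755 q25595, e3 q26760 L784774 q25596, e3 q26761 L784786 q26576, e3 q26762 L784804 q26578, e3 q26763 L784822 q26554, e3 q26764 L784838 q25584, e3 q26765 (flp_f L796609) q27928, e3 q26766 (flp_f L796821) q27941, e3 q26767 L784886 q26559, e3 q26768 L784902 q26558, e3 q26769 L784920 q25938, e3 q26770 L784936 q26356, e3 q26771 L784962 q26577, e3 q26772 L784970 q25593, e3 q26773 (flp_f L796725) q27935, e3 q26774 (flp_f L796731) q27936, e3 q26775 L785008 q26549, e3 q26776 (flp_f L796751) q27937, e3 q26777 (flp_f L796768) q27938, e3 q26778 L785055 q25598, e3 q26779 (flp_f L796977) q27951, e3 q26780 L785087 q25930, e3 q26781 L785101 q26781, e3 q26782 L797069 q27957, e3 q26783 L785132 q25926, e3 q26784 L785148 q25603, e3 q26785 (flp_f L797116) q27960, e3 q26786 L797167 q27964, e3 q26787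 (flp_f L785182) q25604, e3 q26788 L785198 q25606, e3 q26789 L785219 q25729, e3 q26790 (flp_f L797191) q27966, e3 q26791 L785239 q26564, e3 q26792 L785257 q26153, e3 q26793 L785271 q26384, e3 q26794 L797306 q27974, e3 q26795 (flp_f L785295) q25610, e3 q26796 L785316 q25950, e3 q26797 L785330 q25613, e3 q26798 L785350 q25742, e3 q26799 (flp_f L797373) q27978, e3 q26800 L785368 q25720, e3 q26801 L785382 q26398, e3 q26802 L797456 q27985, e3 q26803 L785403 q26400, e3 q26804 L797495 q27988, e3 q26805 (flp_f L785423) q25617, e3 q26806 L785441 q25621, e3 q26807 L785459 q25759, e3 q26808 (flp_f L797515) q27989, e3 q26809 L785486 q26809, e3 q26810 L785493 q26810, e3 q26811 L797566 q27993, e3 q26812 L785531 q25762, e3 q26813 L785539 q25764, e3 q26814 L785553 q26566, e3 q26815 L785567 q25629, trivial⟩ (by decide +kernel)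

theorem ce_f_419 : ∀ r, r < 64 → sm gf (Qf (26816 + r)) = Qf (tab Gen.f (26816 + r)) :=
  edges_tab (sm gf) Qf (tab Gen.f) 26816 [(26816, 27999), (26817, 27997), (26818, 28002), (26819, 25630), (26820, 26520), (26821, 25951), (26822, 28006), (26823, 25635), (26824, 25783), (26825, 28007), (26826, 25723), (26827, 26371), (26828, 26142), (26829, 26373), (26830, 26134), (26831, 25642), (26832, 25643), (26833, 28020), (26834, 28016), (26835, 28023), (26836, 28018), (26837, 28026), (26838, 25644), (26839, 25647), (26840, 28031), (26841, 25646), (26842, 28028), (26843, 28033), (26844, 25648), (26845, 25818), (26846, 25653), (26847, 25812), (26848, 25813), (26849, 26518), (26850, 25655), (26851, 26851), (26852, 26324), (26853, 25659), (26854, 25817), (26855, 26483), (26856, 25819), (26857, 25778), (26858, 25820), (26859, 26144), (26860, 25671), (26861, 26075), (26862, 26080), (26863, 26527), (26864, 25678), (26865, 28047), (26866, 26072), (26867, 26616), (26868, 26582), (26869, 26051), (26870, 26627), (26871, 26073), (26872, 26630),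 (26873, 25687), (26874, 25810), (26875, 28057), (26876, 25689), (26877, 26173), (26878, 28059), (26879, 26588)]
    ⟨e3 q26816 L797653 q27999, e3 q26817 (flp_f L797631) q27997, e3 q26818 L797697 q28002, e3 q26819 (flp_f L785617) q25630, e3 q26820 L785641 q26520, e3 q26821 L785649 q25951, e3 q26822 L797747 q28006, e3 q26823 L785673 q25635, e3 q26824 L785689 q25783, e3 q26825 (flp_f L797767) q28007, e3 q26826 L785707 q25723, e3 q26827 L785721 q26371, e3 q26828 (flp_f L785745) q26142, e3 q26829 L785751 q26373, e3 q26830 (flp_f L785775) q26134, e3 q26831 L785783 q25642, e3 q26832 L785797 q25643, e3 q26833 L797950 q28020, e3 q26834 (flp_f L797897) q28016, e3 q26835 L797989 q28023, e3 q26836 (flp_f L797928) q28018, e3 q26837 L798025 q28026, e3 q26838 (flp_f L785868) q25644, e3 q26839 L785884 q25647, e3 q26840 L798091 q28031, e3 q26841 (flp_f L785902) q25646, e3 q26842 (flp_f L798059) q28028, e3 q26843 L798115 q28033, e3 q26844 (flp_f L785932) q25648, e3 q26845 L785952 q25818, e3 q26846 L785960 q25653, e3 q26847 L785974 q25812,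 e3 q26848 L785980 q25813, e3 q26849 L785999 q26518, e3 q26850 (flp_f L786001) q25655, e3 q26851 L786029 q26851, e3 q26852 (flp_f L786046) q26324, e3 q26853 (flp_f L786048) q25659, e3 q26854 L786069 q25817, e3 q26855 L786081 q26483, e3 q26856 L786093 q25819, e3 q26857 L786110 q25778, e3 q26858 L786121 q25820, e3 q26859 (flp_f L786143) q26144, e3 q26860 (flp_f L786145) q25671, e3 q26861 L786165 q26075, e3 q26862 L786183 q26080, e3 q26863 L786199 q26527, e3 q26864 L786215 q25678, e3 q26865 (flp_f L798315) q28047, e3 q26866 L786243 q26072, e3 q26867 L786267 q26616, e3 q26868 L786273 q26582, e3 q26869 L786285 q26051, e3 q26870 L786312 q26627, e3 q26871 L786318 q26073, e3 q26872 L786338 q26630, e3 q26873 L786344 q25687, e3 q26874 L786372 q25810, e3 q26875 (flp_f L798468) q28057, e3 q26876 L786388 q25689, e3 q26877 L786415 q26173, e3 q26878 (flp_f L798502) q28059, e3 q26879 L786437 q26588, trivial⟩ (by decide +kernel)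

theorem ce_f_420 : ∀ r, r < 64 → sm gf (Qf (26880 + r)) = Qf (tab Gen.f (26880 + r)) :=
  edges_tab (sm gf) Qf (tab Gen.f) 26880 [(26880, 26122), (26881, 26678), (26882, 26123), (26883, 26681), (26884, 25696), (26885, 26205), (26886, 28067), (26887, 25698), (26888, 26553), (26889, 28069), (26890, 26590), (26891, 26712), (26892, 26727), (26893, 26026), (26894, 26064), (26895, 26029), (26896, 26066), (26897, 25707), (26898, 26297), (26899, 26426), (26900, 28080), (26901, 26332), (26902, 25713), (26903, 28083), (26904, 28087), (26905, 25714), (26906, 26186), (26907, 25717), (26908, 27952), (26909, 28091), (26910, 26683), (26911, 28043), (26912, 27981), (26913, 28098), (26914, 28088), (26915, 25722), (26916, 28010), (26917, 28102), (26918, 25725), (26919, 28105), (26920, 28103), (26921, 28108), (26922, 25726), (26923, 26136), (26924, 25730), (26925, 27967), (26926, 28110), (26927, 25740), (26928, 25733), (26929, 26565), (26930, 28115), (26931, 26233), (26932, 26509), (26933, 26278), (26934, 26273), (26935, 26650), (26936, 28124),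 (26937, 25738), (26938, 28113), (26939, 28127), (26940, 25743), (26941, 27979), (26942, 28128), (26943, 26177)]
    ⟨e3 q26880 L786447 q26122, e3 q26881 L786474 q26678, e3 q26882 L786480 q26123, e3 q26883 L786504 q26681, e3 q26884 L786510 q25696, e3 q26885 L786534 q26205, e3 q26886 (flp_f L798630) q28067, e3 q26887 L786550 q25698, e3 q26888 L786571 q26553, e3 q26889 (flp_f L798660) q28069, e3 q26890 L786591 q26590, e3 q26891 L786605 q26712, e3 q26892 L786629 q26727, e3 q26893 L786635 q26026, e3 q26894 L786663 q26064, e3 q26895 L786669 q26029, e3 q26896 L786693 q26066, e3 q26897 L786699 q25707, e3 q26898 L786717 q26297, e3 q26899 L786725 q26426, e3 q26900 L798826 q28080, e3 q26901 L786754 q26332, e3 q26902 L786770 q25713, e3 q26903 (flp_f L798873) q28083, e3 q26904 L798924 q28087, e3 q26905 (flp_f L786804) q25714, e3 q26906 L786822 q26186, e3 q26907 L786836 q25717, e3 q26908 (flp_f L797004) q27952, e3 q26909 (flp_f L798979) q28091, e3 q26910 L786875 q26683, e3 q26911 (flp_f L798252) q28043, e3 q26912 (flp_f L797409) q27981,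 e3 q26913 L799063 q28098, e3 q26914 (flp_f L798944) q28088, e3 q26915 (flp_f L786925) q25722, e3 q26916 (flp_f L797801) q28010, e3 q26917 L799103 q28102, e3 q26918 L786962 q25725, e3 q26919 L799134 q28105, e3 q26920 (flp_f L799118) q28103, e3 q26921 L799163 q28108, e3 q26922 (flp_f L786997) q25726, e3 q26923 L787015 q26136, e3 q26924 L787019 q25730, e3 q26925 (flp_f L797213) q27967, e3 q26926 (flp_f L799187) q28110, e3 q26927 L787055 q25740, e3 q26928 L787067 q25733, e3 q26929 L787086 q26565, e3 q26930 (flp_f L799247) q28115, e3 q26931 L787104 q26233, e3 q26932 L787128 q26509, e3 q26933 L787134 q26278, e3 q26934 L787155 q26273, e3 q26935 L787161 q26650, e3 q26936 L799357 q28124, e3 q26937 (flp_f L787177) q25738, e3 q26938 (flp_f L799218) q28113, e3 q26939 L799397 q28127, e3 q26940 L787223 q25743, e3 q26941 (flp_f L797391) q27979, e3 q26942 (flp_f L799415) q28128, e3 q26943 L787253 q26177, trivial⟩ (by decide +kernel)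

theorem ce_f_421 : ∀ r, r < 64 → sm gf (Qf (26944 + r)) = Qf (tab Gen.f (26944 + r)) :=
  edges_tab (sm gf) Qf (tab Gen.f) 26944 [(26944, 26497), (26945, 26258), (26946, 26511), (26947, 25749), (26948, 26220), (26949, 26240), (26950, 28135), (26951, 28141), (26952, 25750), (26953, 25752), (26954, 28142), (26955, 28144), (26956, 25753), (26957, 26145), (26958, 26076), (26959, 26453), (26960, 26081), (26961, 25760), (26962, 27990), (26963, 27991), (26964, 25761), (26965, 27994), (26966, 27995), (26967, 25779), (26968, 25780), (26969, 28158), (26970, 25769), (26971, 26567), (26972, 28159), (26973, 26182), (26974, 25790), (26975, 26648), (26976, 28166), (26977, 25773), (26978, 26651), (26979, 28168), (26980, 25776), (26981, 28027), (26982, 28154), (26983, 26015), (26984, 28156), (26985, 28174), (26986, 25781), (26987, 25784), (26988, 28008), (26989, 28009), (26990, 26192), (26991, 26193), (26992, 26366), (26993, 26221), (26994, 26235), (26995, 26645), (26996, 28163), (26997, 25792), (26998, 28184), (26999, 28186), (27000, 25793),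 (27001, 26249), (27002, 26247), (27003, 26646), (27004, 28190), (27005, 25798), (27006, 26319), (27007, 26508)]
    ⟨e3 q26944 L787280 q26497, e3 q26945 L787286 q26258, e3 q26946 L787306 q26511, e3 q26947 L787314 q25749, e3 q26948 L787328 q26220, e3 q26949 L787355 q26240, e3 q26950 (flp_f L799511) q28135, e3 q26951 L799574 q28141, e3 q26952 (flp_f L787371) q25750, e3 q26953 L787394 q25752, e3 q26954 (flp_f L799598) q28142, e3 q26955 L799616 q28144, e3 q26956 (flp_f L787420) q25753, e3 q26957 L787436 q26145, e3 q26958 L787464 q26076, e3 q26959 L787470 q26453, e3 q26960 L787494 q26081, e3 q26961 L787500 q25760, e3 q26962 (flp_f L797533) q27990, e3 q26963 (flp_f L797539) q27991, e3 q26964 (flp_f L787524) q25761, e3 q26965 (flp_f L797588) q27994, e3 q26966 (flp_f L797604) q27995, e3 q26967 L787569 q25779, e3 q26968 L787583 q25780, e3 q26969 L799809 q28158, e3 q26970 L787604 q25769, e3 q26971 L787618 q26567, e3 q26972 (flp_f L799828) q28159, e3 q26973 L787632 q26182, e3 q26974 L787660 q25790, e3 q26975 L787666 q26648, e3 q26976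 L799907 q28166, e3 q26977 (flp_f L787682) q25773, e3 q26978 L787704 q26651, e3 q26979 L799935 q28168, e3 q26980 (flp_f L787720) q25776, e3 q26981 (flp_f L798049) q28027, e3 q26982 (flp_f L799758) q28154, e3 q26983 (flp_f L787776) q26015, e3 q26984 (flp_f L799791) q28156, e3 q26985 L800013 q28174, e3 q26986 (flp_f L787800) q25781, e3 q26987 L787818 q25784, e3 q26988 (flp_f L797783) q28008, e3 q26989 (flp_f L797789) q28009, e3 q26990 L787854 q26192, e3 q26991 L787870 q26193, e3 q26992 L787890 q26366, e3 q26993 L787896 q26221, e3 q26994 L787924 q26235, e3 q26995 L787930 q26645, e3 q26996 (flp_f L799883) q28163, e3 q26997 L787958 q25792, e3 q26998 (flp_f L800163) q28184, e3 q26999 L800183 q28186, e3 q27000 (flp_f L787986) q25793, e3 q27001 L788004 q26249, e3 q27002 L788026 q26247, e3 q27003 L788032 q26646, e3 q27004 L800239 q28190, e3 q27005 (flp_f L788054) q25798, e3 q27006 L788084 q26319, e3 q27007 L788094 q26508, trivial⟩ (by decide +kernel)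

theorem ce_f_422 : ∀ r, r < 64 → sm gf (Qf (27008 + r)) = Qf (tab Gen.f (27008 + r)) :=
  edges_tab (sm gf) Qf (tab Gen.f) 27008 [(27008, 26510), (27009, 25803), (27010, 28194), (27011, 25804), (27012, 26318), (27013, 26516), (27014, 26583), (27015, 26517), (27016, 28058), (27017, 28035), (27018, 28036), (27019, 28037), (27020, 26658), (27021, 28034), (27022, 28042), (27023, 25859), (27024, 26571), (27025, 25848), (27026, 25844), (27027, 25944), (27028, 25829), (27029, 25897), (27030, 28209), (27031, 25877), (27032, 25863), (27033, 25858), (27034, 25977), (27035, 25837), (27036, 25915), (27037, 28216), (27038, 25982), (27039, 25840), (27040, 28220), (27041, 28224), (27042, 25841), (27043, 25843), (27044, 25936), (27045, 28225), (27046, 28207), (27047, 25900), (27048, 25878), (27049, 26074), (27050, 28233), (27051, 28206), (27052, 28236), (27053, 25849), (27054, 25872), (27055, 26352), (27056, 25854), (27057, 25961), (27058, 28239), (27059, 25963), (27060, 26562), (27061, 28214), (27062, 28204), (27063, 26581), (27064, 26031),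 (27065, 26119), (27066, 28213), (27067, 28248), (27068, 25864), (27069, 25879), (27070, 26572), (27071, 25870)]
    ⟨e3 q27008 L788112 q26510, e3 q27009 L788128 q25803, e3 q27010 L800307 q28194, e3 q27011 (flp_f L788142) q25804, e3 q27012 L788158 q26318, e3 q27013 L788164 q26516, e3 q27014 L788178 q26583, e3 q27015 L788184 q26517, e3 q27016 (flp_f L798496) q28058, e3 q27017 (flp_f L798149) q28035, e3 q27018 (flp_f L798155) q28036, e3 q27019 (flp_f L798165) q28037, e3 q27020 L788224 q26658, e3 q27021 (flp_f L798135) q28034, e3 q27022 (flp_f L798237) q28042, e3 q27023 L788266 q25859, e3 q27024 L788284 q26571, e3 q27025 L788300 q25848, e3 q27026 L788316 q25844, e3 q27027 L788340 q25944, e3 q27028 L788346 q25829, e3 q27029 L788374 q25897, e3 q27030 (flp_f L800503) q28209, e3 q27031 L788394 q25877, e3 q27032 L788412 q25863, e3 q27033 L788422 q25858, e3 q27034 L788444 q25977, e3 q27035 L788450 q25837, e3 q27036 L788474 q25915, e3 q27037 (flp_f L800615) q28216, e3 q27038 L788492 q25982, e3 q27039 L788508 q25840, e3 q27040 (flp_f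 L800676) q28220, e3 q27041 L800723 q28224, e3 q27042 (flp_f L788538) q25841, e3 q27043 L788554 q25843, e3 q27044 L788575 q25936, e3 q27045 (flp_f L800735) q28225, e3 q27046 (flp_f L800473) q28207, e3 q27047 L788605 q25900, e3 q27048 L788633 q25878, e3 q27049 L788637 q26074, e3 q27050 L800845 q28233, e3 q27051 (flp_f L800457) q28206, e3 q27052 L800880 q28236, e3 q27053 (flp_f L788678) q25849, e3 q27054 L788698 q25872, e3 q27055 L788726 q26352, e3 q27056 L788730 q25854, e3 q27057 L788740 q25961, e3 q27058 (flp_f L800932) q28239, e3 q27059 L788756 q25963, e3 q27060 L788774 q26562, e3 q27061 (flp_f L800583) q28214, e3 q27062 (flp_f L800421) q28204, e3 q27063 L788816 q26581, e3 q27064 L788822 q26031, e3 q27065 L788848 q26119, e3 q27066 (flp_f L800571) q28213, e3 q27067 L801044 q28248, e3 q27068 (flp_f L788864) q25864, e3 q27069 L788880 q25879, e3 q27070 L788904 q26572, e3 q27071 L788908 q25870, trivial⟩ (by decide +kernel)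

theorem ce_f_423 : ∀ r, r < 64 → sm gf (Qf (27072 + r)) = Qf (tab Gen.f (27072 + r)) :=
  edges_tab (sm gf) Qf (tab Gen.f) 27072 [(27072, 26011), (27073, 26012), (27074, 28237), (27075, 26580), (27076, 25880), (27077, 25888), (27078, 26030), (27079, 26108), (27080, 28212), (27081, 28230), (27082, 28249), (27083, 28255), (27084, 26243), (27085, 25883), (27086, 28264), (27087, 28268), (27088, 25884), (27089, 25886), (27090, 26611), (27091, 28270), (27092, 25905), (27093, 28256), (27094, 25901), (27095, 26014), (27096, 26250), (27097, 28279), (27098, 25893), (27099, 28280), (27100, 28283), (27101, 25894), (27102, 25898), (27103, 28210), (27104, 28284), (27105, 25942), (27106, 28229), (27107, 28275), (27108, 25941), (27109, 25904), (27110, 28291), (27111, 28273), (27112, 28295), (27113, 25906), (27114, 25954), (27115, 25911), (27116, 28299), (27117, 25910), (27118, 28296), (27119, 28301), (27120, 25912), (27121, 25916), (27122, 28217), (27123, 25975), (27124, 25973), (27125, 25971), (27126, 26020), (27127, 26112), (27128, 25923),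 (27129, 28308), (27130, 25925), (27131, 28048), (27132, 28311), (27133, 27958), (27134, 28316), (27135, 28318)]
    ⟨e3 q27072 L788918 q26011, e3 q27073 L788924 q26012, e3 q27074 (flp_f L800900) q28237, e3 q27075 L788950 q26580, e3 q27076 L788964 q25880, e3 q27077 L788978 q25888, e3 q27078 L788992 q26030, e3 q27079 L789017 q26108, e3 q27080 (flp_f L800553) q28212, e3 q27081 (flp_f L800817) q28230, e3 q27082 (flp_f L801062) q28249, e3 q27083 (flp_f L801142) q28255, e3 q27084 L789069 q26243, e3 q27085 L789085 q25883, e3 q27086 (flp_f L801271) q28264, e3 q27087 L801324 q28268, e3 q27088 (flp_f L789121) q25884, e3 q27089 L789139 q25886, e3 q27090 L789160 q26611, e3 q27091 (flp_f L801354) q28270, e3 q27092 L789178 q25905, e3 q27093 (flp_f L801158) q28256, e3 q27094 L789200 q25901, e3 q27095 L789224 q26014, e3 q27096 L789230 q26250, e3 q27097 L801468 q28279, e3 q27098 L789255 q25893, e3 q27099 (flp_f L801489) q28280, e3 q27100 L801519 q28283, e3 q27101 (flp_f L789285) q25894, e3 q27102 L789303 q25898, e3 q27103 (flp_f L800531)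 q28210, e3 q27104 (flp_f L801537) q28284, e3 q27105 L789329 q25942, e3 q27106 (flp_f L800789) q28229, e3 q27107 (flp_f L801420) q28275, e3 q27108 L789357 q25941, e3 q27109 L789371 q25904, e3 q27110 (flp_f L801618) q28291, e3 q27111 (flp_f L801396) q28273, e3 q27112 L801662 q28295, e3 q27113 (flp_f L789405) q25906, e3 q27114 L789429 q25954, e3 q27115 L789443 q25911, e3 q27116 L801712 q28299, e3 q27117 (flp_f L789455) q25910, e3 q27118 (flp_f L801684) q28296, e3 q27119 L801736 q28301, e3 q27120 (flp_f L789485) q25912, e3 q27121 L789497 q25916, e3 q27122 (flp_f L800639) q28217, e3 q27123 L789513 q25975, e3 q27124 L789525 q25973, e3 q27125 L789541 q25971, e3 q27126 L789556 q26020, e3 q27127 L789567 q26112, e3 q27128 L789583 q25923, e3 q27129 (flp_f L801821) q28308, e3 q27130 L789607 q25925, e3 q27131 (flp_f L798342) q28048, e3 q27132 (flp_f L801860) q28311, e3 q27133 (flp_f L797085) q27958, e3 q27134 L801910 q28316, e3 q27135 L801926 q28318, trivial⟩ (by decide +kernel)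

theorem ce_f_424 : ∀ r, r < 64 → sm gf (Qf (27136 + r)) = Qf (tab Gen.f (27136 + r)) :=
  edges_tab (sm gf) Qf (tab Gen.f) 27136 [(27136, 25928), (27137, 26376), (27138, 27954), (27139, 28323), (27140, 25932), (27141, 28326), (27142, 28324), (27143, 28329), (27144, 25933), (27145, 26212), (27146, 25937), (27147, 28226), (27148, 28332), (27149, 27943), (27150, 26094), (27151, 26116), (27152, 28287), (27153, 28290), (27154, 28286), (27155, 25945), (27156, 28208), (27157, 28342), (27158, 26037), (27159, 28346), (27160, 26523), (27161, 28349), (27162, 25948), (27163, 27976), (27164, 28352), (27165, 28004), (27166, 28356), (27167, 25952), (27168, 25955), (27169, 28294), (27170, 28357), (27171, 28360), (27172, 25956), (27173, 26342), (27174, 26354), (27175, 25962), (27176, 28240), (27177, 28241), (27178, 26229), (27179, 25966), (27180, 26563), (27181, 28367), (27182, 25969), (27183, 25970), (27184, 28305), (27185, 28369), (27186, 28306), (27187, 28371), (27188, 28304), (27189, 25974), (27190, 28298), (27191, 28377), (27192, 28303),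 (27193, 25978), (27194, 28215), (27195, 26528), (27196, 26530), (27197, 25983), (27198, 28385), (27199, 28218)]
    ⟨e3 q27136 (flp_f L789665) q25928, e3 q27137 L789679 q26376, e3 q27138 (flp_f L797026) q27954, e3 q27139 L801986 q28323, e3 q27140 L789706 q25932, e3 q27141 L802009 q28326, e3 q27142 (flp_f L801995) q28324, e3 q27143 L802032 q28329, e3 q27144 (flp_f L789737) q25933, e3 q27145 L789751 q26212, e3 q27146 L789755 q25937, e3 q27147 (flp_f L800757) q28226, e3 q27148 (flp_f L802066) q28332, e3 q27149 (flp_f L796855) q27943, e3 q27150 L789805 q26094, e3 q27151 L789819 q26116, e3 q27152 (flp_f L801573) q28287, e3 q27153 (flp_f L801602) q28290, e3 q27154 (flp_f L801553) q28286, e3 q27155 L789860 q25945, e3 q27156 (flp_f L800497) q28208, e3 q27157 (flp_f L802186) q28342, e3 q27158 L789886 q26037, e3 q27159 L802228 q28346, e3 q27160 L789913 q26523, e3 q27161 L802273 q28349, e3 q27162 (flp_f L789937) q25948, e3 q27163 (flp_f L797341) q27976, e3 q27164 L802307 q28352, e3 q27165 (flp_f L797725) q28004, e3 q27166 L802333 q28356,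 e3 q27167 (flp_f L789984) q25952, e3 q27168 L789993 q25955, e3 q27169 L801660 q28294, e3 q27170 (flp_f L802345) q28357, e3 q27171 L802367 q28360, e3 q27172 (flp_f L790025) q25956, e3 q27173 L790033 q26342, e3 q27174 L790055 q26354, e3 q27175 L790059 q25962, e3 q27176 (flp_f L800942) q28240, e3 q27177 (flp_f L800948) q28241, e3 q27178 L790079 q26229, e3 q27179 L790084 q25966, e3 q27180 L790100 q26563, e3 q27181 (flp_f L802432) q28367, e3 q27182 L790116 q25969, e3 q27183 L790128 q25970, e3 q27184 (flp_f L801782) q28305, e3 q27185 (flp_f L802456) q28369, e3 q27186 (flp_f L801797) q28306, e3 q27187 (flp_f L802487) q28371, e3 q27188 (flp_f L801768) q28304, e3 q27189 L790193 q25974, e3 q27190 L801710 q28298, e3 q27191 (flp_f L802553) q28377, e3 q27192 (flp_f L801756) q28303, e3 q27193 L790225 q25978, e3 q27194 (flp_f L800607) q28215, e3 q27195 L790245 q26528, e3 q27196 L790259 q26530, e3 q27197 L790271 q25983, e3 q27198 L802633 q28385, e3 q27199 (flp_f L800645) q28218, trivial⟩ (by decide +kernel)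

theorem ce_f_425 : ∀ r, r < 64 → sm gf (Qf (27200 + r)) = Qf (tab Gen.f (27200 + r)) :=
  edges_tab (sm gf) Qf (tab Gen.f) 27200 [(27200, 28388), (27201, 28383), (27202, 28391), (27203, 25984), (27204, 25987), (27205, 28394), (27206, 25986), (27207, 28392), (27208, 28396), (27209, 25988), (27210, 25993), (27211, 28399), (27212, 25995), (27213, 28403), (27214, 25992), (27215, 28397), (27216, 28407), (27217, 25994), (27218, 28400), (27219, 28411), (27220, 28412), (27221, 25996), (27222, 26251), (27223, 26592), (27224, 26555), (27225, 26003), (27226, 28418), (27227, 28276), (27228, 26001), (27229, 28420), (27230, 26004), (27231, 26597), (27232, 26594), (27233, 26598), (27234, 26579), (27235, 28251), (27236, 28252), (27237, 28171), (27238, 28155), (27239, 26676), (27240, 26021), (27241, 26306), (27242, 26210), (27243, 28429), (27244, 26022), (27245, 26024), (27246, 28073), (27247, 26267), (27248, 26265), (27249, 28075), (27250, 28257), (27251, 28245), (27252, 26034), (27253, 26133), (27254, 26036), (27255, 26151), (27256, 28436),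 (27257, 28344), (27258, 28441), (27259, 26038), (27260, 26042), (27261, 26175), (27262, 28442), (27263, 26044)]
    ⟨e3 q27200 L802672 q28388, e3 q27201 (flp_f L802615) q28383, e3 q27202 L802710 q28391, e3 q27203 (flp_f L790336) q25984, e3 q27204 L790352 q25987, e3 q27205 L802748 q28394, e3 q27206 (flp_f L790372) q25986, e3 q27207 (flp_f L802728) q28392, e3 q27208 L802776 q28396, e3 q27209 (flp_f L790410) q25988, e3 q27210 L790422 q25993, e3 q27211 L802802 q28399, e3 q27212 L790437 q25995, e3 q27213 L802828 q28403, e3 q27214 (flp_f L790447) q25992, e3 q27215 (flp_f L802792) q28397, e3 q27216 L802864 q28407, e3 q27217 (flp_f L790470) q25994, e3 q27218 (flp_f L802813) q28400, e3 q27219 L802902 q28411, e3 q27220 L802908 q28412, e3 q27221 (flp_f L790504) q25996, e3 q27222 L790518 q26251, e3 q27223 L790526 q26592, e3 q27224 L790540 q26555, e3 q27225 L790546 q26003, e3 q27226 L802958 q28418, e3 q27227 (flp_f L801444) q28276, e3 q27228 (flp_f L790558) q26001, e3 q27229 L802970 q28420, e3 q27230 (flp_f L790570) q26004, e3 q27231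 L790578 q26597, e3 q27232 L790584 q26594, e3 q27233 L790592 q26598, e3 q27234 L790608 q26579, e3 q27235 (flp_f L801094) q28251, e3 q27236 (flp_f L801100) q28252, e3 q27237 L799987 q28171, e3 q27238 (flp_f L799785) q28155, e3 q27239 L790635 q26676, e3 q27240 L790644 q26021, e3 q27241 L790660 q26306, e3 q27242 L790671 q26210, e3 q27243 L803045 q28429, e3 q27244 (flp_f L790690) q26022, e3 q27245 (flp_f L790704) q26024, e3 q27246 (flp_f L798718) q28073, e3 q27247 L790730 q26267, e3 q27248 L790754 q26265, e3 q27249 (flp_f L798754) q28075, e3 q27250 (flp_f L801172) q28257, e3 q27251 (flp_f L801008) q28245, e3 q27252 L790796 q26034, e3 q27253 L790808 q26133, e3 q27254 L790814 q26036, e3 q27255 L790831 q26151, e3 q27256 (flp_f L803142) q28436, e3 q27257 (flp_f L802206) q28344, e3 q27258 L803190 q28441, e3 q27259 (flp_f L790861) q26038, e3 q27260 L790873 q26042, e3 q27261 L790885 q26175, e3 q27262 (flp_f L803204) q28442, e3 q27263 L790901 q26044, trivial⟩ (by decide +kernel)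

theorem ce_f_426 : ∀ r, r < 64 → sm gf (Qf (27264 + r)) = Qf (tab Gen.f (27264 + r)) :=
  edges_tab (sm gf) Qf (tab Gen.f) 27264 [(27264, 26180), (27265, 28445), (27266, 26047), (27267, 26190), (27268, 28448), (27269, 26050), (27270, 26207), (27271, 28053), (27272, 26054), (27273, 26231), (27274, 28452), (27275, 26603), (27276, 26058), (27277, 26256), (27278, 26375), (27279, 26605), (27280, 26062), (27281, 26077), (27282, 28074), (27283, 26082), (27284, 28076), (27285, 26299), (27286, 26300), (27287, 26301), (27288, 26320), (27289, 28050), (27290, 28055), (27291, 28231), (27292, 28044), (27293, 28146), (27294, 28456), (27295, 26604), (27296, 26669), (27297, 28045), (27298, 28148), (27299, 26084), (27300, 26619), (27301, 28470), (27302, 26086), (27303, 28475), (27304, 28473), (27305, 28478), (27306, 26087), (27307, 26138), (27308, 26091), (27309, 26633), (27310, 28480), (27311, 26093), (27312, 26608), (27313, 28483), (27314, 28336), (27315, 28488), (27316, 26097), (27317, 26622), (27318, 28489), (27319, 26100), (27320, 26636),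 (27321, 26409), (27322, 28269), (27323, 26102), (27324, 26391), (27325, 26404), (27326, 26106), (27327, 26666)]
    ⟨e3 q27264 L790924 q26180, e3 q27265 (flp_f L803231) q28445, e3 q27266 L790942 q26047, e3 q27267 L790960 q26190, e3 q27268 (flp_f L803273) q28448, e3 q27269 L790978 q26050, e3 q27270 L790992 q26207, e3 q27271 (flp_f L798406) q28053, e3 q27272 L791012 q26054, e3 q27273 L791028 q26231, e3 q27274 (flp_f L803327) q28452, e3 q27275 L791046 q26603, e3 q27276 L791060 q26058, e3 q27277 L791072 q26256, e3 q27278 L791080 q26375, e3 q27279 L791098 q26605, e3 q27280 L791118 q26062, e3 q27281 L791130 q26077, e3 q27282 (flp_f L798746) q28074, e3 q27283 L791152 q26082, e3 q27284 (flp_f L798778) q28076, e3 q27285 L791168 q26299, e3 q27286 L791174 q26300, e3 q27287 L791188 q26301, e3 q27288 L791200 q26320, e3 q27289 (flp_f L798362) q28050, e3 q27290 (flp_f L798440) q28055, e3 q27291 (flp_f L800821) q28231, e3 q27292 (flp_f L798265) q28044, e3 q27293 (flp_f L799660) q28146, e3 q27294 (flp_f L803370) q28456, e3 q27295 L791270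 q26604, e3 q27296 L791288 q26669, e3 q27297 (flp_f L798285) q28045, e3 q27298 (flp_f L799692) q28148, e3 q27299 L791306 q26084, e3 q27300 L791325 q26619, e3 q27301 (flp_f L803525) q28470, e3 q27302 L791345 q26086, e3 q27303 L803583 q28475, e3 q27304 (flp_f L803565) q28473, e3 q27305 L803624 q28478, e3 q27306 (flp_f L791390) q26087, e3 q27307 L791413 q26138, e3 q27308 L791419 q26091, e3 q27309 L791431 q26633, e3 q27310 (flp_f L803652) q28480, e3 q27311 L791447 q26093, e3 q27312 L791470 q26608, e3 q27313 (flp_f L803677) q28483, e3 q27314 (flp_f L802111) q28336, e3 q27315 L803737 q28488, e3 q27316 L791512 q26097, e3 q27317 L791528 q26622, e3 q27318 (flp_f L803751) q28489, e3 q27319 L791546 q26100, e3 q27320 L791558 q26636, e3 q27321 L791564 q26409, e3 q27322 (flp_f L801348) q28269, e3 q27323 (flp_f L791583) q26102, e3 q27324 L791597 q26391, e3 q27325 L791611 q26404, e3 q27326 L791618 q26106, e3 q27327 L791641 q26666, trivial⟩ (by decide +kernel)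

theorem ce_f_427 : ∀ r, r < 64 → sm gf (Qf (27328 + r)) = Qf (tab Gen.f (27328 + r)) :=
  edges_tab (sm gf) Qf (tab Gen.f) 27328 [(27328, 28497), (27329, 26109), (27330, 28258), (27331, 28500), (27332, 26111), (27333, 26422), (27334, 28503), (27335, 28307), (27336, 28109), (27337, 26115), (27338, 26424), (27339, 28508), (27340, 28338), (27341, 28514), (27342, 26117), (27343, 26120), (27344, 28246), (27345, 26638), (27346, 26446), (27347, 28063), (27348, 28065), (27349, 26127), (27350, 26687), (27351, 26128), (27352, 26689), (27353, 28519), (27354, 28521), (27355, 26131), (27356, 26698), (27357, 26374), (27358, 28435), (27359, 28015), (27360, 28013), (27361, 27965), (27362, 26359), (27363, 28479), (27364, 26372), (27365, 28011), (27366, 28145), (27367, 26684), (27368, 26148), (27369, 28041), (27370, 28534), (27371, 26675), (27372, 28427), (27373, 26152), (27374, 28437), (27375, 28539), (27376, 27970), (27377, 28544), (27378, 28546), (27379, 26155), (27380, 26692), (27381, 26158), (27382, 28551), (27383, 28549), (27384, 28555),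 (27385, 26159), (27386, 28557), (27387, 26160), (27388, 26308), (27389, 26164), (27390, 28038), (27391, 26652)]
    ⟨e3 q27328 (flp_f L803838) q28497, e3 q27329 L791659 q26109, e3 q27330 (flp_f L801196) q28258, e3 q27331 (flp_f L803880) q28500, e3 q27332 L791683 q26111, e3 q27333 L791704 q26422, e3 q27334 (flp_f L803905) q28503, e3 q27335 (flp_f L801805) q28307, e3 q27336 (flp_f L799181) q28109, e3 q27337 L791744 q26115, e3 q27338 L791762 q26424, e3 q27339 (flp_f L803969) q28508, e3 q27340 (flp_f L802140) q28338, e3 q27341 L804023 q28514, e3 q27342 (flp_f L791790) q26117, e3 q27343 L791802 q26120, e3 q27344 (flp_f L801034) q28246, e3 q27345 L791818 q26638, e3 q27346 L791826 q26446, e3 q27347 (flp_f L798564) q28063, e3 q27348 (flp_f L798598) q28065, e3 q27349 L791868 q26127, e3 q27350 L791889 q26687, e3 q27351 L791893 q26128, e3 q27352 L791905 q26689, e3 q27353 (flp_f L804081) q28519, e3 q27354 (flp_f L804107) q28521, e3 q27355 L791935 q26131, e3 q27356 L791947 q26698, e3 q27357 L791953 q26374, e3 q27358 (flp_f L803136) q28435,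 e3 q27359 L797891 q28015, e3 q27360 L797859 q28013, e3 q27361 (flp_f L797187) q27965, e3 q27362 L791992 q26359, e3 q27363 (flp_f L803646) q28479, e3 q27364 L792012 q26372, e3 q27365 L797829 q28011, e3 q27366 (flp_f L799632) q28145, e3 q27367 L792037 q26684, e3 q27368 L792049 q26148, e3 q27369 (flp_f L798224) q28041, e3 q27370 (flp_f L804230) q28534, e3 q27371 L792082 q26675, e3 q27372 (flp_f L803027) q28427, e3 q27373 L792099 q26152, e3 q27374 (flp_f L803158) q28437, e3 q27375 (flp_f L804282) q28539, e3 q27376 (flp_f L797251) q27970, e3 q27377 L804323 q28544, e3 q27378 L804345 q28546, e3 q27379 (flp_f L792157) q26155, e3 q27380 L792172 q26692, e3 q27381 L792186 q26158, e3 q27382 L804409 q28551, e3 q27383 (flp_f L804393) q28549, e3 q27384 L804440 q28555, e3 q27385 (flp_f L792213) q26159, e3 q27386 L804458 q28557, e3 q27387 (flp_f L792225) q26160, e3 q27388 L792247 q26308, e3 q27389 L792255 q26164, e3 q27390 (flp_f L798177) q28038, e3 q27391 L792283 q26652, trivial⟩ (by decide +kernel)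

theorem ce_f_428 : ∀ r, r < 64 → sm gf (Qf (27392 + r)) = Qf (tab Gen.f (27392 + r)) :=
  edges_tab (sm gf) Qf (tab Gen.f) 27392 [(27392, 28558), (27393, 26427), (27394, 28564), (27395, 26168), (27396, 28568), (27397, 26167), (27398, 28565), (27399, 28571), (27400, 26169), (27401, 26309), (27402, 26430), (27403, 28060), (27404, 26176), (27405, 28443), (27406, 28444), (27407, 28131), (27408, 26187), (27409, 28366), (27410, 26181), (27411, 28446), (27412, 28582), (27413, 28162), (27414, 26440), (27415, 26185), (27416, 28587), (27417, 28089), (27418, 28408), (27419, 28580), (27420, 28593), (27421, 26188), (27422, 26191), (27423, 28449), (27424, 26476), (27425, 28177), (27426, 28178), (27427, 26196), (27428, 26197), (27429, 28598), (27430, 28599), (27431, 26694), (27432, 26201), (27433, 26368), (27434, 26699), (27435, 26589), (27436, 26700), (27437, 28068), (27438, 26444), (27439, 28450), (27440, 26513), (27441, 26501), (27442, 28331), (27443, 28319), (27444, 28330), (27445, 26464), (27446, 26469), (27447, 26433), (27448, 26441),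 (27449, 26493), (27450, 26486), (27451, 26499), (27452, 28136), (27453, 28180), (27454, 26244), (27455, 28619)]
    ⟨e3 q27392 (flp_f L804474) q28558, e3 q27393 L792305 q26427, e3 q27394 L804540 q28564, e3 q27395 L792324 q26168, e3 q27396 L804562 q28568, e3 q27397 (flp_f L792330) q26167, e3 q27398 (flp_f L804551) q28565, e3 q27399 L804579 q28571, e3 q27400 (flp_f L792347) q26169, e3 q27401 L792355 q26309, e3 q27402 L792359 q26430, e3 q27403 (flp_f L798528) q28060, e3 q27404 L792381 q26176, e3 q27405 (flp_f L803216) q28443, e3 q27406 (flp_f L803222) q28444, e3 q27407 (flp_f L799451) q28131, e3 q27408 L792410 q26187, e3 q27409 (flp_f L802426) q28366, e3 q27410 L792431 q26181, e3 q27411 (flp_f L803253) q28446, e3 q27412 (flp_f L804679) q28582, e3 q27413 (flp_f L799855) q28162, e3 q27414 L792469 q26440, e3 q27415 L792485 q26185, e3 q27416 (flp_f L804734) q28587, e3 q27417 (flp_f L798950) q28089, e3 q27418 (flp_f L802878) q28408, e3 q27419 (flp_f L804659) q28580, e3 q27420 L804790 q28593, e3 q27421 (flp_f L792543) q26188, e3 q27422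 L792551 q26191, e3 q27423 (flp_f L803291) q28449, e3 q27424 L792567 q26476, e3 q27425 (flp_f L800053) q28177, e3 q27426 (flp_f L800071) q28178, e3 q27427 L792603 q26196, e3 q27428 L792615 q26197, e3 q27429 (flp_f L804844) q28598, e3 q27430 (flp_f L804856) q28599, e3 q27431 L792649 q26694, e3 q27432 L792661 q26201, e3 q27433 L792673 q26368, e3 q27434 L792679 q26699, e3 q27435 L792693 q26589, e3 q27436 L792697 q26700, e3 q27437 (flp_f L798654) q28068, e3 q27438 L792713 q26444, e3 q27439 (flp_f L803303) q28450, e3 q27440 L792733 q26513, e3 q27441 L792745 q26501, e3 q27442 (flp_f L802055) q28331, e3 q27443 (flp_f L801950) q28319, e3 q27444 (flp_f L802044) q28330, e3 q27445 L792785 q26464, e3 q27446 L792797 q26469, e3 q27447 L792806 q26433, e3 q27448 L792820 q26441, e3 q27449 L792829 q26493, e3 q27450 L792843 q26486, e3 q27451 L792853 q26499, e3 q27452 (flp_f L799527) q28136, e3 q27453 (flp_f L800097) q28180, e3 q27454 L792885 q26244, e3 q27455 (flp_f L805080) q28619, trivial⟩ (by decide +kernel)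

theorem ce_f_429 : ∀ r, r < 64 → sm gf (Qf (27456 + r)) = Qf (tab Gen.f (27456 + r)) :=
  edges_tab (sm gf) Qf (tab Gen.f) 27456 [(27456, 26225), (27457, 28629), (27458, 26224), (27459, 28626), (27460, 28631), (27461, 26226), (27462, 26252), (27463, 28365), (27464, 26232), (27465, 28453), (27466, 28454), (27467, 28118), (27468, 26236), (27469, 28181), (27470, 28639), (27471, 26487), (27472, 28621), (27473, 26241), (27474, 26242), (27475, 28137), (27476, 28643), (27477, 28644), (27478, 28262), (27479, 28650), (27480, 28624), (27481, 28654), (27482, 26245), (27483, 26248), (27484, 28188), (27485, 26438), (27486, 28187), (27487, 28277), (27488, 28413), (27489, 28632), (27490, 28663), (27491, 28572), (27492, 26253), (27493, 28455), (27494, 26664), (27495, 26662), (27496, 28133), (27497, 26719), (27498, 26262), (27499, 26702), (27500, 28670), (27501, 26724), (27502, 26266), (27503, 28433), (27504, 28432), (27505, 26378), (27506, 28677), (27507, 26729), (27508, 28680), (27509, 26731), (27510, 28684), (27511, 26271), (27512, 26277),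 (27513, 28121), (27514, 26279), (27515, 28690), (27516, 28691), (27517, 26275), (27518, 28685), (27519, 28120)]
    ⟨e3 q27456 L792910 q26225, e3 q27457 L805182 q28629, e3 q27458 (flp_f L792920) q26224, e3 q27459 (flp_f L805165) q28626, e3 q27460 L805216 q28631, e3 q27461 (flp_f L792961) q26226, e3 q27462 L792979 q26252, e3 q27463 (flp_f L802419) q28365, e3 q27464 L792991 q26232, e3 q27465 (flp_f L803343) q28453, e3 q27466 (flp_f L803349) q28454, e3 q27467 (flp_f L799285) q28118, e3 q27468 L793022 q26236, e3 q27469 (flp_f L800125) q28181, e3 q27470 (flp_f L805292) q28639, e3 q27471 L793042 q26487, e3 q27472 (flp_f L805103) q28621, e3 q27473 L793065 q26241, e3 q27474 L793077 q26242, e3 q27475 (flp_f L799553) q28137, e3 q27476 (flp_f L805328) q28643, e3 q27477 (flp_f L805342) q28644, e3 q27478 (flp_f L801240) q28262, e3 q27479 L805397 q28650, e3 q27480 (flp_f L805141) q28624, e3 q27481 L805429 q28654, e3 q27482 (flp_f L793143) q26245, e3 q27483 L793157 q26248, e3 q27484 (flp_f L800223) q28188, e3 q27485 L793169 q26438, e3 q27486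 (flp_f L800201) q28187, e3 q27487 (flp_f L801448) q28277, e3 q27488 (flp_f L802926) q28413, e3 q27489 (flp_f L805234) q28632, e3 q27490 L805501 q28663, e3 q27491 (flp_f L804589) q28572, e3 q27492 (flp_f L793223) q26253, e3 q27493 (flp_f L803364) q28455, e3 q27494 L793237 q26664, e3 q27495 L793245 q26662, e3 q27496 (flp_f L799485) q28133, e3 q27497 L793259 q26719, e3 q27498 L793267 q26262, e3 q27499 L793279 q26702, e3 q27500 (flp_f L805557) q28670, e3 q27501 L793295 q26724, e3 q27502 L793307 q26266, e3 q27503 (flp_f L803112) q28433, e3 q27504 (flp_f L803088) q28432, e3 q27505 L793331 q26378, e3 q27506 L805618 q28677, e3 q27507 L793350 q26729, e3 q27508 L805645 q28680, e3 q27509 L793365 q26731, e3 q27510 L805673 q28684, e3 q27511 (flp_f L793379) q26271, e3 q27512 L793388 q26277, e3 q27513 (flp_f L799335) q28121, e3 q27514 L793400 q26279, e3 q27515 L805708 q28690, e3 q27516 L805718 q28691, e3 q27517 (flp_f L793413) q26275, e3 q27518 (flp_f L805683) q28685, e3 q27519 (flp_f L799313) q28120, trivial⟩ (by decide +kernel)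

theorem ce_f_430 : ∀ r, r < 64 → sm gf (Qf (27520 + r)) = Qf (tab Gen.f (27520 + r)) :=
  edges_tab (sm gf) Qf (tab Gen.f) 27520 [(27520, 28081), (27521, 28696), (27522, 28697), (27523, 26280), (27524, 26281), (27525, 26740), (27526, 28701), (27527, 26284), (27528, 26742), (27529, 28703), (27530, 26286), (27531, 28705), (27532, 26452), (27533, 26289), (27534, 26449), (27535, 26292), (27536, 26747), (27537, 26591), (27538, 26466), (27539, 28077), (27540, 26495), (27541, 26490), (27542, 28459), (27543, 28195), (27544, 28460), (27545, 28461), (27546, 26302), (27547, 28717), (27548, 26303), (27549, 26436), (27550, 28428), (27551, 28547), (27552, 28556), (27553, 28040), (27554, 26653), (27555, 26657), (27556, 26655), (27557, 26660), (27558, 26447), (27559, 26488), (27560, 26725), (27561, 26716), (27562, 28191), (27563, 26334), (27564, 26321), (27565, 27992), (27566, 26377), (27567, 26395), (27568, 26480), (27569, 28430), (27570, 26556), (27571, 26526), (27572, 26340), (27573, 28361), (27574, 26568), (27575, 26347), (27576, 26574),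 (27577, 28731), (27578, 26350), (27579, 26461), (27580, 28733), (27581, 26557), (27582, 28238), (27583, 26355)]
    ⟨e3 q27520 (flp_f L798842) q28081, e3 q27521 L805770 q28696, e3 q27522 L805780 q28697, e3 q27523 (flp_f L793473) q26280, e3 q27524 (flp_f L793481) q26281, e3 q27525 L793497 q26740, e3 q27526 L805816 q28701, e3 q27527 (flp_f L793507) q26284, e3 q27528 L793521 q26742, e3 q27529 L805834 q28703, e3 q27530 (flp_f L793531) q26286, e3 q27531 L805852 q28705, e3 q27532 (flp_f L793551) q26452, e3 q27533 (flp_f L793553) q26289, e3 q27534 L793569 q26449, e3 q27535 (flp_f L793571) q26292, e3 q27536 L793583 q26747, e3 q27537 L793595 q26591, e3 q27538 L793599 q26466, e3 q27539 (flp_f L798792) q28077, e3 q27540 L793615 q26495, e3 q27541 L793625 q26490, e3 q27542 (flp_f L803400) q28459, e3 q27543 (flp_f L800325) q28195, e3 q27544 (flp_f L803414) q28460, e3 q27545 (flp_f L803426) q28461, e3 q27546 (flp_f L793647) q26302, e3 q27547 L805952 q28717, e3 q27548 (flp_f L793665) q26303, e3 q27549 L793679 q26436, e3 q27550 (flp_f L803037)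 q28428, e3 q27551 (flp_f L804371) q28547, e3 q27552 (flp_f L804454) q28556, e3 q27553 (flp_f L798208) q28040, e3 q27554 L793726 q26653, e3 q27555 L793732 q26657, e3 q27556 L793740 q26655, e3 q27557 L793750 q26660, e3 q27558 L793759 q26447, e3 q27559 L793769 q26488, e3 q27560 L793777 q26725, e3 q27561 L793789 q26716, e3 q27562 (flp_f L800267) q28191, e3 q27563 (flp_f L793815) q26334, e3 q27564 (flp_f L793817) q26321, e3 q27565 L797564 q27992, e3 q27566 L793846 q26377, e3 q27567 L793857 q26395, e3 q27568 L793863 q26480, e3 q27569 (flp_f L803068) q28430, e3 q27570 L793884 q26556, e3 q27571 L793900 q26526, e3 q27572 L793916 q26340, e3 q27573 (flp_f L802377) q28361, e3 q27574 L793942 q26568, e3 q27575 L793952 q26347, e3 q27576 L793972 q26574, e3 q27577 (flp_f L806081) q28731, e3 q27578 L793990 q26350, e3 q27579 L794012 q26461, e3 q27580 (flp_f L806109) q28733, e3 q27581 L794032 q26557, e3 q27582 (flp_f L800928) q28238, e3 q27583 L794058 q26355, trivial⟩ (by decide +kernel)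

theorem ce_f_431 : ∀ r, r < 64 → sm gf (Qf (27584 + r)) = Qf (tab Gen.f (27584 + r)) :=
  edges_tab (sm gf) Qf (tab Gen.f) 27584 [(27584, 28362), (27585, 27944), (27586, 26637), (27587, 28510), (27588, 26639), (27589, 26640), (27590, 26647), (27591, 26649), (27592, 28179), (27593, 28602), (27594, 26602), (27595, 28012), (27596, 28527), (27597, 28014), (27598, 28526), (27599, 28320), (27600, 28724), (27601, 28675), (27602, 28751), (27603, 26379), (27604, 26383), (27605, 26705), (27606, 28752), (27607, 27972), (27608, 28757), (27609, 26385), (27610, 26388), (27611, 28496), (27612, 28758), (27613, 28762), (27614, 26389), (27615, 26392), (27616, 28491), (27617, 28764), (27618, 28767), (27619, 26393), (27620, 28729), (27621, 26397), (27622, 27983), (27623, 28772), (27624, 26399), (27625, 27986), (27626, 28774), (27627, 26401), (27628, 26405), (27629, 28494), (27630, 28775), (27631, 28779), (27632, 26406), (27633, 26410), (27634, 28493), (27635, 28781), (27636, 26411), (27637, 26416), (27638, 28763), (27639, 26671), (27640, 26735),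 (27641, 26693), (27642, 26672), (27643, 28504), (27644, 26673), (27645, 28509), (27646, 28078), (27647, 28791)]
    ⟨e3 q27584 (flp_f L802399) q28362, e3 q27585 (flp_f L796873) q27944, e3 q27586 L794086 q26637, e3 q27587 (flp_f L803993) q28510, e3 q27588 L794110 q26639, e3 q27589 L794126 q26640, e3 q27590 L794140 q26647, e3 q27591 L794154 q26649, e3 q27592 (flp_f L800091) q28179, e3 q27593 (flp_f L804900) q28602, e3 q27594 L794176 q26602, e3 q27595 (flp_f L797835) q28012, e3 q27596 (flp_f L804172) q28527, e3 q27597 (flp_f L797867) q28014, e3 q27598 (flp_f L804158) q28526, e3 q27599 (flp_f L801958) q28320, e3 q27600 (flp_f L806018) q28724, e3 q27601 (flp_f L805602) q28675, e3 q27602 L806297 q28751, e3 q27603 (flp_f L794262) q26379, e3 q27604 L794274 q26383, e3 q27605 L794282 q26705, e3 q27606 (flp_f L806311) q28752, e3 q27607 (flp_f L797282) q27972, e3 q27608 L806342 q28757, e3 q27609 (flp_f L794304) q26385, e3 q27610 L794318 q26388, e3 q27611 (flp_f L803829) q28496, e3 q27612 (flp_f L806356) q28758, e3 q27613 L806396 q28762,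 e3 q27614 (flp_f L794359) q26389, e3 q27615 L794373 q26392, e3 q27616 (flp_f L803773) q28491, e3 q27617 (flp_f L806422) q28764, e3 q27618 L806450 q28767, e3 q27619 (flp_f L794407) q26393, e3 q27620 (flp_f L806064) q28729, e3 q27621 L794429 q26397, e3 q27622 (flp_f L797438) q27983, e3 q27623 L806490 q28772, e3 q27624 (flp_f L794455) q26399, e3 q27625 (flp_f L797475) q27986, e3 q27626 L806506 q28774, e3 q27627 (flp_f L794479) q26401, e3 q27628 L794491 q26405, e3 q27629 (flp_f L803811) q28494, e3 q27630 (flp_f L806520) q28775, e3 q27631 L806557 q28779, e3 q27632 (flp_f L794525) q26406, e3 q27633 L794537 q26410, e3 q27634 (flp_f L803797) q28493, e3 q27635 L806571 q28781, e3 q27636 (flp_f L794555) q26411, e3 q27637 L794570 q26416, e3 q27638 (flp_f L806416) q28763, e3 q27639 L794580 q26671, e3 q27640 L794596 q26735, e3 q27641 L794600 q26693, e3 q27642 L794612 q26672, e3 q27643 (flp_f L803927) q28504, e3 q27644 L794630 q26673, e3 q27645 (flp_f L803987) q28509, e3 q27646 (flp_f L798798) q28078, e3 q27647 L806664 q28791, trivial⟩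 (by decide +kernel)

theorem ce_f_432 : ∀ r, r < 64 → sm gf (Qf (27648 + r)) = Qf (tab Gen.f (27648 + r)) :=
  edges_tab (sm gf) Qf (tab Gen.f) 27648 [(27648, 28562), (27649, 28794), (27650, 26428), (27651, 28573), (27652, 26654), (27653, 28618), (27654, 26656), (27655, 28605), (27656, 26659), (27657, 28719), (27658, 26661), (27659, 28657), (27660, 26663), (27661, 28656), (27662, 28586), (27663, 28608), (27664, 26443), (27665, 28808), (27666, 28607), (27667, 26448), (27668, 28517), (27669, 28707), (27670, 28810), (27671, 28706), (27672, 28692), (27673, 26451), (27674, 28704), (27675, 28147), (27676, 26457), (27677, 28819), (27678, 26456), (27679, 28816), (27680, 28821), (27681, 26458), (27682, 26462), (27683, 28734), (27684, 28735), (27685, 26465), (27686, 28616), (27687, 28825), (27688, 28709), (27689, 26470), (27690, 28617), (27691, 26472), (27692, 28596), (27693, 28828), (27694, 28835), (27695, 26471), (27696, 28830), (27697, 28838), (27698, 26473), (27699, 28003), (27700, 26477), (27701, 28595), (27702, 28841), (27703,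 26478), (27704, 28728), (27705, 26484), (27706, 28030), (27707, 28843), (27708, 26489), (27709, 28620), (27710, 28641), (27711, 28712)]
    ⟨e3 q27648 (flp_f L804526) q28562, e3 q27649 L806687 q28794, e3 q27650 (flp_f L794677) q26428, e3 q27651 (flp_f L804595) q28573, e3 q27652 L794695 q26654, e3 q27653 (flp_f L805068) q28618, e3 q27654 L794714 q26656, e3 q27655 (flp_f L804924) q28605, e3 q27656 L794734 q26659, e3 q27657 (flp_f L805972) q28719, e3 q27658 L794757 q26661, e3 q27659 (flp_f L805461) q28657, e3 q27660 L794775 q26663, e3 q27661 (flp_f L805447) q28656, e3 q27662 (flp_f L804718) q28586, e3 q27663 (flp_f L804962) q28608, e3 q27664 L794805 q26443, e3 q27665 (flp_f L806815) q28808, e3 q27666 (flp_f L804946) q28607, e3 q27667 L794835 q26448, e3 q27668 (flp_f L804053) q28517, e3 q27669 (flp_f L805878) q28707, e3 q27670 (flp_f L806837) q28810, e3 q27671 (flp_f L805870) q28706, e3 q27672 (flp_f L805730) q28692, e3 q27673 L794872 q26451, e3 q27674 L805850 q28704, e3 q27675 (flp_f L799668) q28147, e3 q27676 L794900 q26457,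 e3 q27677 L806887 q28819, e3 q27678 (flp_f L794906) q26456, e3 q27679 (flp_f L806876) q28816, e3 q27680 L806901 q28821, e3 q27681 (flp_f L794925) q26458, e3 q27682 L794935 q26462, e3 q27683 (flp_f L806131) q28734, e3 q27684 (flp_f L806137) q28735, e3 q27685 L794950 q26465, e3 q27686 (flp_f L805043) q28616, e3 q27687 (flp_f L806926) q28825, e3 q27688 (flp_f L805896) q28709, e3 q27689 L794986 q26470, e3 q27690 (flp_f L805056) q28617, e3 q27691 L795009 q26472, e3 q27692 (flp_f L804822) q28596, e3 q27693 (flp_f L806956) q28828, e3 q27694 L807013 q28835, e3 q27695 (flp_f L795037) q26471, e3 q27696 (flp_f L806978) q28830, e3 q27697 L807035 q28838, e3 q27698 (flp_f L795059) q26473, e3 q27699 (flp_f L797719) q28003, e3 q27700 L795077 q26477, e3 q27701 (flp_f L804808) q28595, e3 q27702 L807057 q28841, e3 q27703 (flp_f L795097) q26478, e3 q27704 (flp_f L806054) q28728, e3 q27705 L795111 q26484, e3 q27706 L798089 q28030, e3 q27707 (flp_f L807073) q28843, e3 q27708 L795137 q26489, e3 q27709 (flp_f L805092) q28620, e3 q27710 (flp_f L805306)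 q28641, e3 q27711 (flp_f L805926) q28712, trivial⟩ (by decide +kernel)

theorem ce_f_433 : ∀ r, r < 64 → sm gf (Qf (27712 + r)) = Qf (tab Gen.f (27712 + r)) :=
  edges_tab (sm gf) Qf (tab Gen.f) 27712 [(27712, 28845), (27713, 28711), (27714, 26674), (27715, 26494), (27716, 28610), (27717, 28710), (27718, 26641), (27719, 28132), (27720, 26502), (27721, 28612), (27722, 26505), (27723, 28611), (27724, 28578), (27725, 28856), (27726, 28862), (27727, 26503), (27728, 28863), (27729, 26506), (27730, 28192), (27731, 28119), (27732, 28193), (27733, 28134), (27734, 28609), (27735, 26514), (27736, 28196), (27737, 27975), (27738, 26534), (27739, 26533), (27740, 28347), (27741, 28868), (27742, 26524), (27743, 28046), (27744, 28871), (27745, 28381), (27746, 28875), (27747, 26529), (27748, 28382), (27749, 28877), (27750, 26531), (27751, 26538), (27752, 28880), (27753, 26540), (27754, 28884), (27755, 26537), (27756, 28878), (27757, 28887), (27758, 26539), (27759, 28881), (27760, 28889), (27761, 26541), (27762, 26546), (27763, 28891), (27764,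 26544), (27765, 28892), (27766, 26547), (27767, 27949), (27768, 26720), (27769, 28070), (27770, 27940), (27771, 28415), (27772, 28736), (27773, 28898), (27774, 26560), (27775, 28242)]
    ⟨e3 q27712 (flp_f L807095) q28845, e3 q27713 (flp_f L805918) q28711, e3 q27714 L795179 q26674, e3 q27715 L795193 q26494, e3 q27716 (flp_f L804980) q28610, e3 q27717 (flp_f L805906) q28710, e3 q27718 L795211 q26641, e3 q27719 (flp_f L799477) q28132, e3 q27720 L795229 q26502, e3 q27721 (flp_f L805004) q28612, e3 q27722 L795241 q26505, e3 q27723 (flp_f L804996) q28611, e3 q27724 (flp_f L804635) q28578, e3 q27725 (flp_f L807183) q28856, e3 q27726 L807214 q28862, e3 q27727 (flp_f L795264) q26503, e3 q27728 L807220 q28863, e3 q27729 (flp_f L795276) q26506, e3 q27730 (flp_f L800277) q28192, e3 q27731 (flp_f L799309) q28119, e3 q27732 (flp_f L800297) q28193, e3 q27733 (flp_f L799505) q28134, e3 q27734 (flp_f L804970) q28609, e3 q27735 (flp_f L795310) q26514, e3 q27736 (flp_f L800333) q28196, e3 q27737 (flp_f L797333) q27975, e3 q27738 L795332 q26534,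 e3 q27739 L795348 q26533, e3 q27740 (flp_f L802249) q28347, e3 q27741 L807252 q28868, e3 q27742 (flp_f L795370) q26524, e3 q27743 (flp_f L798299) q28046, e3 q27744 L807276 q28871, e3 q27745 (flp_f L802587) q28381, e3 q27746 L807298 q28875, e3 q27747 (flp_f L795405) q26529, e3 q27748 (flp_f L802601) q28382, e3 q27749 L807312 q28877, e3 q27750 (flp_f L795424) q26531, e3 q27751 L795434 q26538, e3 q27752 L807338 q28880, e3 q27753 L795453 q26540, e3 q27754 L807368 q28884, e3 q27755 (flp_f L795463) q26537, e3 q27756 (flp_f L807324) q28878, e3 q27757 L807392 q28887, e3 q27758 (flp_f L795486) q26539, e3 q27759 (flp_f L807349) q28881, e3 q27760 L807404 q28889, e3 q27761 (flp_f L795504) q26541, e3 q27762 L795514 q26546, e3 q27763 L807414 q28891, e3 q27764 (flp_f L795520) q26544, e3 q27765 L807420 q28892, e3 q27766 (flp_f L795532) q26547, e3 q27767 (flp_f L796945) q27949, e3 q27768 L795546 q26720, e3 q27769 (flp_f L798680) q28070, e3 q27770 (flp_f L796803) q27940, e3 q27771 (flp_f L802946) q28415, e3 q27772 (flp_f L806150) q28736, e3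 q27773 L807465 q28898, e3 q27774 (flp_f L795590) q26560, e3 q27775 (flp_f L800970) q28242, trivial⟩ (by decide +kernel)

theorem ce_f_434 : ∀ r, r < 64 → sm gf (Qf (27776 + r)) = Qf (tab Gen.f (27776 + r)) :=
  edges_tab (sm gf) Qf (tab Gen.f) 27776 [(27776, 28368), (27777, 27969), (27778, 28116), (27779, 27996), (27780, 28160), (27781, 28161), (27782, 28905), (27783, 26569), (27784, 28205), (27785, 28250), (27786, 26575), (27787, 28732), (27788, 27939), (27789, 27945), (27790, 28423), (27791, 28254), (27792, 28244), (27793, 28052), (27794, 28197), (27795, 26585), (27796, 28911), (27797, 26586), (27798, 28062), (27799, 28604), (27800, 28708), (27801, 28414), (27802, 28422), (27803, 26595), (27804, 28421), (27805, 26601), (27806, 26643), (27807, 28914), (27808, 28466), (27809, 26609), (27810, 28484), (27811, 28916), (27812, 26624), (27813, 28271), (27814, 26614), (27815, 26707), (27816, 26708), (27817, 26617), (27818, 28051), (27819, 28924), (27820, 26620), (27821, 28471), (27822, 28926), (27823, 26623), (27824, 28490), (27825,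 28919), (27826, 26628), (27827, 28054), (27828, 28930), (27829, 26631), (27830, 28056), (27831, 26634), (27832, 28481), (27833, 28482), (27834, 28492), (27835, 28739), (27836, 28516), (27837, 28853), (27838, 26644), (27839, 28915)]
    ⟨e3 q27776 (flp_f L802450) q28368, e3 q27777 (flp_f L797235) q27969, e3 q27778 (flp_f L799267) q28116, e3 q27779 (flp_f L797617) q27996, e3 q27780 (flp_f L799842) q28160, e3 q27781 (flp_f L799846) q28161, e3 q27782 L807508 q28905, e3 q27783 (flp_f L795641) q26569, e3 q27784 (flp_f L800441) q28205, e3 q27785 (flp_f L801086) q28250, e3 q27786 L795663 q26575, e3 q27787 (flp_f L806101) q28732, e3 q27788 (flp_f L796783) q27939, e3 q27789 (flp_f L796899) q27945, e3 q27790 (flp_f L803002) q28423, e3 q27791 (flp_f L801130) q28254, e3 q27792 (flp_f L801002) q28244, e3 q27793 (flp_f L798394) q28052, e3 q27794 (flp_f L800347) q28197, e3 q27795 L795719 q26585, e3 q27796 L807550 q28911, e3 q27797 (flp_f L795727) q26586, e3 q27798 (flp_f L798552) q28062, e3 q27799 (flp_f L804920) q28604, e3 q27800 (flp_f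 L805890) q28708, e3 q27801 (flp_f L802934) q28414, e3 q27802 (flp_f L802986) q28422, e3 q27803 (flp_f L795765) q26595, e3 q27804 (flp_f L802980) q28421, e3 q27805 L795775 q26601, e3 q27806 L795783 q26643, e3 q27807 (flp_f L807568) q28914, e3 q27808 (flp_f L803482) q28466, e3 q27809 L795805 q26609, e3 q27810 (flp_f L803699) q28484, e3 q27811 (flp_f L807582) q28916, e3 q27812 L795819 q26624, e3 q27813 (flp_f L801376) q28271, e3 q27814 L795837 q26614, e3 q27815 L795843 q26707, e3 q27816 L795847 q26708, e3 q27817 L795854 q26617, e3 q27818 (flp_f L798386) q28051, e3 q27819 (flp_f L807640) q28924, e3 q27820 L795874 q26620, e3 q27821 (flp_f L803543) q28471, e3 q27822 (flp_f L807654) q28926, e3 q27823 L795898 q26623, e3 q27824 (flp_f L803767) q28490, e3 q27825 (flp_f L807599) q28919, e3 q27826 L795918 q26628, e3 q27827 (flp_f L798432) q28054, e3 q27828 (flp_f L807683) q28930, e3 q27829 L795954 q26631, e3 q27830 (flp_f L798460) q28056, e3 q27831 L795964 q26634, e3 q27832 (flp_f L803664) q28481, e3 q27833 (flp_f L803670) q28482, e3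 q27834 (flp_f L803791) q28492, e3 q27835 (flp_f L806184) q28739, e3 q27836 (flp_f L804045) q28516, e3 q27837 (flp_f L807156) q28853, e3 q27838 L796001 q26644, e3 q27839 (flp_f L807576) q28915, trivial⟩ (by decide +kernel)

theorem ce_f_435 : ∀ r, r < 64 → sm gf (Qf (27840 + r)) = Qf (tab Gen.f (27840 + r)) :=
  edges_tab (sm gf) Qf (tab Gen.f) 27840 [(27840, 28637), (27841, 28182), (27842, 28741), (27843, 28164), (27844, 28122), (27845, 28560), (27846, 28723), (27847, 28795), (27848, 28725), (27849, 28797), (27850, 28666), (27851, 28203), (27852, 28799), (27853, 28668), (27854, 28801), (27855, 28667), (27856, 28665), (27857, 26667), (27858, 28498), (27859, 28948), (27860, 26670), (27861, 28467), (27862, 28468), (27863, 28782), (27864, 28785), (27865, 28851), (27866, 28537), (27867, 28426), (27868, 26679), (27869, 28064), (27870, 28955), (27871, 26682), (27872, 28066), (27873, 26695), (27874, 28094), (27875, 28963), (27876, 28533), (27877, 28960), (27878, 26685), (27879, 26690), (27880, 28520), (27881, 26691), (27882, 28522),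 (27883, 28523), (27884, 28967), (27885, 28548), (27886, 28784), (27887, 28601), (27888, 28959), (27889, 28525), (27890, 28603), (27891, 26703), (27892, 28671), (27893, 28672), (27894, 26721), (27895, 28753), (27896, 28754), (27897, 28922), (27898, 28923), (27899, 28502), (27900, 26711), (27901, 26737), (27902, 26738), (27903, 28984)]
    ⟨e3 q27840 (flp_f L805266) q28637, e3 q27841 (flp_f L800133) q28182, e3 q27842 (flp_f L806208) q28741, e3 q27843 (flp_f L799891) q28164, e3 q27844 (flp_f L799341) q28122, e3 q27845 (flp_f L804500) q28560, e3 q27846 (flp_f L806006) q28723, e3 q27847 (flp_f L806697) q28795, e3 q27848 (flp_f L806028) q28725, e3 q27849 (flp_f L806719) q28797, e3 q27850 (flp_f L805521) q28666, e3 q27851 (flp_f L800403) q28203, e3 q27852 (flp_f L806741) q28799, e3 q27853 (flp_f L805539) q28668, e3 q27854 (flp_f L806763) q28801, e3 q27855 (flp_f L805531) q28667, e3 q27856 (flp_f L805515) q28665, e3 q27857 L796110 q26667, e3 q27858 (flp_f L803860) q28498, e3 q27859 (flp_f L807802) q28948, e3 q27860 L796130 q26670,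 e3 q27861 (flp_f L803500) q28467, e3 q27862 (flp_f L803504) q28468, e3 q27863 (flp_f L806585) q28782, e3 q27864 (flp_f L806619) q28785, e3 q27865 (flp_f L807138) q28851, e3 q27866 (flp_f L804266) q28537, e3 q27867 (flp_f L803020) q28426, e3 q27868 L796177 q26679, e3 q27869 (flp_f L798590) q28064, e3 q27870 (flp_f L807843) q28955, e3 q27871 L796199 q26682, e3 q27872 (flp_f L798622) q28066, e3 q27873 L796213 q26695, e3 q27874 (flp_f L799017) q28094, e3 q27875 L807898 q28963, e3 q27876 (flp_f L804216) q28533, e3 q27877 (flp_f L807878) q28960, e3 q27878 (flp_f L796250) q26685, e3 q27879 L796257 q26690, e3 q27880 (flp_f L804103) q28520, e3 q27881 L796273 q26691, e3 q27882 (flp_f L804119) q28522, e3 q27883 (flp_f L804125) q28523, e3 q27884 (flp_f L807926) q28967, e3 q27885 (flp_f L804379) q28548, e3 q27886 (flp_f L806605) q28784, e3 q27887 (flp_f L804884) q28601, e3 q27888 (flp_f L807870) q28959, e3 q27889 (flp_f L804152) q28525, e3 q27890 (flp_f L804906) q28603, e3 q27891 L796342 q26703, e3 q27892 (flp_f L805569) q28671, e3 q27893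 (flp_f L805573) q28672, e3 q27894 L796355 q26721, e3 q27895 (flp_f L806319) q28753, e3 q27896 (flp_f L806325) q28754, e3 q27897 (flp_f L807626) q28922, e3 q27898 (flp_f L807632) q28923, e3 q27899 (flp_f L803896) q28502, e3 q27900 L796385 q26711, e3 q27901 L796401 q26737, e3 q27902 L796405 q26738, e3 q27903 L808034 q28984, trivial⟩ (by decide +kernel)

theorem ce_f_436 : ∀ r, r < 64 → sm gf (Qf (27904 + r)) = Qf (tab Gen.f (27904 + r)) :=
  edges_tab (sm gf) Qf (tab Gen.f) 27904 [(27904, 26714), (27905, 28727), (27906, 26717), (27907, 28669), (27908, 28894), (27909, 26723), (27910, 28673), (27911, 28726), (27912, 28072), (27913, 26743), (27914, 26732), (27915, 28678), (27916, 28990), (27917, 26730), (27918, 28681), (27919, 28989), (27920, 26739), (27921, 28783), (27922, 28982), (27923, 28983), (27924, 28699), (27925, 28988), (27926, 26744), (27927, 26751), (27928, 26765), (27929, 28996), (27930, 26753), (27931, 28998), (27932, 26755), (27933, 28999), (27934, 26758), (27935, 26773), (27936, 26774), (27937, 26776), (27938, 26777),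 (27939, 27788), (27940, 27770), (27941, 26766), (27942, 28997), (27943, 27149), (27944, 27585), (27945, 27789), (27946, 29000), (27947, 29001), (27948, 29002), (27949, 27767), (27950, 29003), (27951, 26779), (27952, 26908), (27953, 29011), (27954, 27138), (27955, 29016), (27956, 29018), (27957, 26782), (27958, 27133), (27959, 29022), (27960, 26785), (27961, 29025), (27962, 29023), (27963, 29028), (27964, 26786), (27965, 27361), (27966, 26790), (27967, 26925)]
    ⟨e3 q27904 (flp_f L796417) q26714, e3 q27905 (flp_f L806048) q28727, e3 q27906 (flp_f L796437) q26717, e3 q27907 (flp_f L805545) q28669, e3 q27908 (flp_f L807434) q28894, e3 q27909 L796463 q26723, e3 q27910 (flp_f L805584) q28673, e3 q27911 (flp_f L806036) q28726, e3 q27912 (flp_f L798712) q28072, e3 q27913 L796491 q26743, e3 q27914 L796497 q26732, e3 q27915 (flp_f L805631) q28678, e3 q27916 (flp_f L808088) q28990, e3 q27917 (flp_f L796513) q26730, e3 q27918 (flp_f L805654) q28681, e3 q27919 (flp_f L808082) q28989, e3 q27920 L796535 q26739, e3 q27921 (flp_f L806601)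 q28783, e3 q27922 (flp_f L808024) q28982, e3 q27923 (flp_f L808030) q28983, e3 q27924 (flp_f L805806) q28699, e3 q27925 (flp_f L808076) q28988, e3 q27926 (flp_f L796571) q26744, e3 q27927 L796581 q26751, e3 q27928 L796609 q26765, e3 q27929 (flp_f L808132) q28996, e3 q27930 L796635 q26753, e3 q27931 (flp_f L808170) q28998, e3 q27932 L796671 q26755, e3 q27933 (flp_f L808190) q28999, e3 q27934 L796705 q26758, e3 q27935 L796725 q26773, e3 q27936 L796731 q26774, e3 q27937 L796751 q26776, e3 q27938 L796768 q26777, e3 q27939 L796783 q27788, e3 q27940 L796803 q27770, e3 q27941 L796821 q26766, e3 q27942 (flp_f L808160) q28997, e3 q27943 L796855 q27149, e3 q27944 L796873 q27585, e3 q27945 L796899 q27789, e3 q27946 (flp_f L808216) q29000, e3 q27947 (flp_f L808222) q29001, e3 q27948 (flp_f L808242) q29002, e3 q27949 L796945 q27767, e3 q27950 (flp_f L808260) q29003, e3 q27951 L796977 q26779, e3 q27952 L797004 q26908, e3 q27953 (flp_f L808392) q29011, e3 q27954 L797026 q27138, e3 q27955 L808468 q29016, e3 q27956 L808500 q29018, e3 q27957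 (flp_f L797069) q26782, e3 q27958 L797085 q27133, e3 q27959 L808562 q29022, e3 q27960 L797116 q26785, e3 q27961 L808607 q29025, e3 q27962 (flp_f L808581) q29023, e3 q27963 L808646 q29028, e3 q27964 (flp_f L797167) q26786, e3 q27965 L797187 q27361, e3 q27966 L797191 q26790, e3 q27967 L797213 q26925, trivial⟩ (by decide +kernel)

theorem ce_f_437 : ∀ r, r < 64 → sm gf (Qf (27968 + r)) = Qf (tab Gen.f (27968 + r)) :=
  edges_tab (sm gf) Qf (tab Gen.f) 27968 [(27968, 29030), (27969, 27777), (27970, 27376), (27971, 29036), (27972, 27607), (27973, 29039), (27974, 26794), (27975, 27737), (27976, 27163), (27977, 29043), (27978, 26799), (27979, 26941), (27980, 29044), (27981, 26912), (27982, 29049), (27983, 27622), (27984, 29053), (27985, 26802), (27986, 27625), (27987, 29055), (27988, 26804), (27989, 26808), (27990, 26962), (27991, 26963), (27992, 27565), (27993, 26811), (27994, 26965), (27995, 26966), (27996, 27779), (27997, 26817), (27998, 29065), (27999, 26816), (28000, 29062), (28001, 29068), (28002, 26818), (28003, 27699), (28004,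 27165), (28005, 29073), (28006, 26822), (28007, 26825), (28008, 26988), (28009, 26989), (28010, 26916), (28011, 27365), (28012, 27595), (28013, 27360), (28014, 27597), (28015, 27359), (28016, 26834), (28017, 29083), (28018, 26836), (28019, 29087), (28020, 26833), (28021, 29081), (28022, 29090), (28023, 26835), (28024, 29084), (28025, 29093), (28026, 26837), (28027, 26981), (28028, 26842), (28029, 29097), (28030, 27706), (28031, 26840)]
    ⟨e3 q27968 (flp_f L808672) q29030, e3 q27969 L797235 q27777, e3 q27970 L797251 q27376, e3 q27971 L808757 q29036, e3 q27972 L797282 q27607, e3 q27973 L808802 q29039, e3 q27974 (flp_f L797306) q26794, e3 q27975 L797333 q27737, e3 q27976 L797341 q27163, e3 q27977 L808862 q29043, e3 q27978 L797373 q26799, e3 q27979 L797391 q26941, e3 q27980 (flp_f L808886) q29044, e3 q27981 L797409 q26912, e3 q27982 L808950 q29049, e3 q27983 L797438 q27622, e3 q27984 L808998 q29053, e3 q27985 (flp_f L797456) q26802, e3 q27986 L797475 q27625, e3 q27987 L809024 q29055, e3 q27988 (flp_f L797495) q26804, e3 q27989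 L797515 q26808, e3 q27990 L797533 q26962, e3 q27991 L797539 q26963, e3 q27992 (flp_f L797564) q27565, e3 q27993 (flp_f L797566) q26811, e3 q27994 L797588 q26965, e3 q27995 L797604 q26966, e3 q27996 L797617 q27779, e3 q27997 L797631 q26817, e3 q27998 L809170 q29065, e3 q27999 (flp_f L797653) q26816, e3 q28000 (flp_f L809132) q29062, e3 q28001 L809218 q29068, e3 q28002 (flp_f L797697) q26818, e3 q28003 L797719 q27699, e3 q28004 L797725 q27165, e3 q28005 L809284 q29073, e3 q28006 (flp_f L797747) q26822, e3 q28007 L797767 q26825, e3 q28008 L797783 q26988, e3 q28009 L797789 q26989, e3 q28010 L797801 q26916, e3 q28011 (flp_f L797829) q27365, e3 q28012 L797835 q27595, e3 q28013 (flp_f L797859) q27360, e3 q28014 L797867 q27597, e3 q28015 (flp_f L797891) q27359, e3 q28016 L797897 q26834, e3 q28017 L809440 q29083, e3 q28018 L797928 q26836, e3 q28019 L809496 q29087, e3 q28020 (flp_f L797950) q26833, e3 q28021 (flp_f L809414) q29081, e3 q28022 L809534 q29090, e3 q28023 (flp_f L797989) q26835, e3 q28024 (flp_f L809463) q29084, e3 q28025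 L809578 q29093, e3 q28026 (flp_f L798025) q26837, e3 q28027 L798049 q26981, e3 q28028 L798059 q26842, e3 q28029 L809632 q29097, e3 q28030 (flp_f L798089) q27706, e3 q28031 (flp_f L798091) q26840, trivial⟩ (by decide +kernel)

theorem ce_f_438 : ∀ r, r < 64 → sm gf (Qf (28032 + r)) = Qf (tab Gen.f (28032 + r)) :=
  edges_tab (sm gf) Qf (tab Gen.f) 28032 [(28032, 29099), (28033, 26843), (28034, 27021), (28035, 27017), (28036, 27018), (28037, 27019), (28038, 27390), (28039, 29019), (28040, 27553), (28041, 27369), (28042, 27022), (28043, 26911), (28044, 27292), (28045, 27297), (28046, 27743), (28047, 26865), (28048, 27131), (28049, 29107), (28050, 27289), (28051, 27818), (28052, 27793), (28053, 27271), (28054, 27827), (28055, 27290), (28056, 27830), (28057, 26875), (28058, 27016), (28059, 26878), (28060, 27403), (28061, 29117), (28062, 27798), (28063, 27347), (28064, 27869), (28065, 27348), (28066, 27872), (28067, 26886), (28068, 27437), (28069, 26889), (28070, 27769), (28071, 29125), (28072, 27912), (28073, 27246), (28074, 27282),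 (28075, 27249), (28076, 27284), (28077, 27539), (28078, 27646), (28079, 29133), (28080, 26900), (28081, 27520), (28082, 29136), (28083, 26903), (28084, 29139), (28085, 29137), (28086, 29142), (28087, 26904), (28088, 26914), (28089, 27417), (28090, 29146), (28091, 26909), (28092, 29012), (28093, 29147), (28094, 27874), (28095, 29091)]
    ⟨e3 q28032 L809660 q29099, e3 q28033 (flp_f L798115) q26843, e3 q28034 L798135 q27021, e3 q28035 L798149 q27017, e3 q28036 L798155 q27018, e3 q28037 L798165 q27019, e3 q28038 L798177 q27390, e3 q28039 (flp_f L808528) q29019, e3 q28040 L798208 q27553, e3 q28041 L798224 q27369, e3 q28042 L798237 q27022, e3 q28043 L798252 q26911, e3 q28044 L798265 q27292, e3 q28045 L798285 q27297, e3 q28046 L798299 q27743, e3 q28047 L798315 q26865, e3 q28048 L798342 q27131, e3 q28049 (flp_f L809775) q29107, e3 q28050 L798362 q27289, e3 q28051 L798386 q27818, e3 q28052 L798394 q27793, e3 q28053 L798406 q27271, e3 q28054 L798432 q27827, e3 q28055 L798440 q27290, e3 q28056 L798460 q27830, e3 q28057 L798468 q26875,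 e3 q28058 L798496 q27016, e3 q28059 L798502 q26878, e3 q28060 L798528 q27403, e3 q28061 (flp_f L809944) q29117, e3 q28062 L798552 q27798, e3 q28063 L798564 q27347, e3 q28064 L798590 q27869, e3 q28065 L798598 q27348, e3 q28066 L798622 q27872, e3 q28067 L798630 q26886, e3 q28068 L798654 q27437, e3 q28069 L798660 q26889, e3 q28070 L798680 q27769, e3 q28071 (flp_f L810080) q29125, e3 q28072 L798712 q27912, e3 q28073 L798718 q27246, e3 q28074 L798746 q27282, e3 q28075 L798754 q27249, e3 q28076 L798778 q27284, e3 q28077 L798792 q27539, e3 q28078 L798798 q27646, e3 q28079 L810199 q29133, e3 q28080 (flp_f L798826) q26900, e3 q28081 L798842 q27520, e3 q28082 L810245 q29136, e3 q28083 L798873 q26903, e3 q28084 L810290 q29139, e3 q28085 (flp_f L810264) q29137, e3 q28086 L810329 q29142, e3 q28087 (flp_f L798924) q26904, e3 q28088 L798944 q26914, e3 q28089 L798950 q27417, e3 q28090 L810381 q29146, e3 q28091 L798979 q26909, e3 q28092 (flp_f L808418) q29012, e3 q28093 (flp_f L810402) q29147, e3 q28094 L799017 q27874, e3 q28095 (flp_f L809560)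 q29091, trivial⟩ (by decide +kernel)

theorem ce_f_439 : ∀ r, r < 64 → sm gf (Qf (28096 + r)) = Qf (tab Gen.f (28096 + r)) :=
  edges_tab (sm gf) Qf (tab Gen.f) 28096 [(28096, 29047), (28097, 29155), (28098, 26913), (28099, 29143), (28100, 29076), (28101, 29160), (28102, 26917), (28103, 26920), (28104, 29164), (28105, 26919), (28106, 29161), (28107, 29166), (28108, 26921), (28109, 27336), (28110, 26926), (28111, 29031), (28112, 29032), (28113, 26938), (28114, 29173), (28115, 26930), (28116, 27778), (28117, 29174), (28118, 27467), (28119, 27731), (28120, 27519), (28121, 27513), (28122, 27844), (28123, 29183), (28124, 26936), (28125, 29171), (28126, 29186), (28127, 26939), (28128, 26942), (28129, 29045), (28130, 29046), (28131, 27407), (28132, 27719), (28133, 27496), (28134, 27733), (28135, 26950), (28136, 27452), (28137, 27475), (28138, 29194), (28139, 29200), (28140, 29201), (28141, 26951), (28142, 26954), (28143, 29202), (28144, 26955), (28145, 27366), (28146, 27293), (28147, 27675), (28148, 27298), (28149, 29056), (28150,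 29057), (28151, 29058), (28152, 29060), (28153, 29061), (28154, 26982), (28155, 27238), (28156, 26984), (28157, 29214), (28158, 26969), (28159, 26972)]
    ⟨e3 q28096 (flp_f L808924) q29047, e3 q28097 L810493 q29155, e3 q28098 (flp_f L799063) q26913, e3 q28099 (flp_f L810349) q29143, e3 q28100 (flp_f L809330) q29076, e3 q28101 L810545 q29160, e3 q28102 (flp_f L799103) q26917, e3 q28103 L799118 q26920, e3 q28104 L810588 q29164, e3 q28105 (flp_f L799134) q26919, e3 q28106 (flp_f L810561) q29161, e3 q28107 L810610 q29166, e3 q28108 (flp_f L799163) q26921, e3 q28109 L799181 q27336, e3 q28110 L799187 q26926, e3 q28111 (flp_f L808694) q29031, e3 q28112 (flp_f L808700) q29032, e3 q28113 L799218 q26938, e3 q28114 L810685 q29173, e3 q28115 L799247 q26930, e3 q28116 L799267 q27778, e3 q28117 (flp_f L810706) q29174, e3 q28118 L799285 q27467, e3 q28119 L799309 q27731, e3 q28120 L799313 q27519, e3 q28121 L799335 q27513, e3 q28122 L799341 q27844, e3 q28123 L810818 q29183, e3 q28124 (flp_f L799357) q26936, e3 q28125 (flp_f L810659) q29171,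 e3 q28126 L810860 q29186, e3 q28127 (flp_f L799397) q26939, e3 q28128 L799415 q26942, e3 q28129 (flp_f L808904) q29045, e3 q28130 (flp_f L808910) q29046, e3 q28131 L799451 q27407, e3 q28132 L799477 q27719, e3 q28133 L799485 q27496, e3 q28134 L799505 q27733, e3 q28135 L799511 q26950, e3 q28136 L799527 q27452, e3 q28137 L799553 q27475, e3 q28138 (flp_f L810985) q29194, e3 q28139 L811062 q29200, e3 q28140 L811078 q29201, e3 q28141 (flp_f L799574) q26951, e3 q28142 L799598 q26954, e3 q28143 L811091 q29202, e3 q28144 (flp_f L799616) q26955, e3 q28145 L799632 q27366, e3 q28146 L799660 q27293, e3 q28147 L799668 q27675, e3 q28148 L799692 q27298, e3 q28149 (flp_f L809050) q29056, e3 q28150 (flp_f L809056) q29057, e3 q28151 (flp_f L809074) q29058, e3 q28152 (flp_f L809102) q29060, e3 q28153 (flp_f L809118) q29061, e3 q28154 L799758 q26982, e3 q28155 L799785 q27238, e3 q28156 L799791 q26984, e3 q28157 L811262 q29214, e3 q28158 (flp_f L799809) q26969, e3 q28159 L799828 q26972, trivial⟩ (by decide +kernel)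

theorem ce_f_440 : ∀ r, r < 64 → sm gf (Qf (28160 + r)) = Qf (tab Gen.f (28160 + r)) :=
  edges_tab (sm gf) Qf (tab Gen.f) 28160 [(28160, 27780), (28161, 27781), (28162, 27413), (28163, 26996), (28164, 27843), (28165, 29221), (28166, 26976), (28167, 29222), (28168, 26979), (28169, 29094), (28170, 29209), (28171, 27237), (28172, 29211), (28173, 29227), (28174, 26985), (28175, 29074), (28176, 29075), (28177, 27425), (28178, 27426), (28179, 27592), (28180, 27453), (28181, 27469), (28182, 27841), (28183, 29219), (28184, 26998), (28185, 29235), (28186, 26999), (28187, 27486), (28188, 27484), (28189, 29237), (28190, 27004), (28191, 27562), (28192, 27730), (28193, 27732), (28194, 27010), (28195, 27543), (28196, 27736), (28197, 27794), (28198, 29116), (28199, 29101), (28200, 29100), (28201, 29102), (28202, 29103), (28203, 27851), (28204, 27062), (28205, 27784), (28206, 27051), (28207, 27046), (28208, 27156), (28209, 27030), (28210, 27103), (28211, 29249), (28212, 27080), (28213, 27066), (28214, 27061), (28215, 27194), (28216, 27037),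 (28217, 27122), (28218, 27199), (28219, 29256), (28220, 27040), (28221, 29259), (28222, 29257), (28223, 29262)]
    ⟨e3 q28160 L799842 q27780, e3 q28161 L799846 q27781, e3 q28162 L799855 q27413, e3 q28163 L799883 q26996, e3 q28164 L799891 q27843, e3 q28165 L811351 q29221, e3 q28166 (flp_f L799907) q26976, e3 q28167 L811369 q29222, e3 q28168 (flp_f L799935) q26979, e3 q28169 (flp_f L809602) q29094, e3 q28170 (flp_f L811201) q29209, e3 q28171 (flp_f L799987) q27237, e3 q28172 (flp_f L811235) q29211, e3 q28173 L811441 q29227, e3 q28174 (flp_f L800013) q26985, e3 q28175 (flp_f L809312) q29074, e3 q28176 (flp_f L809318) q29075, e3 q28177 L800053 q27425, e3 q28178 L800071 q27426, e3 q28179 L800091 q27592, e3 q28180 L800097 q27453, e3 q28181 L800125 q27469, e3 q28182 L800133 q27841, e3 q28183 (flp_f L811339) q29219, e3 q28184 L800163 q26998, e3 q28185 L811569 q29235, e3 q28186 (flp_f L800183) q26999, e3 q28187 L800201 q27486, e3 q28188 L800223 q27484, e3 q28189 L811601 q29237, e3 q28190 (flp_f L800239) q27004, e3 q28191 L800267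 q27562, e3 q28192 L800277 q27730, e3 q28193 L800297 q27732, e3 q28194 (flp_f L800307) q27010, e3 q28195 L800325 q27543, e3 q28196 L800333 q27736, e3 q28197 L800347 q27794, e3 q28198 (flp_f L809936) q29116, e3 q28199 (flp_f L809692) q29101, e3 q28200 (flp_f L809682) q29100, e3 q28201 (flp_f L809700) q29102, e3 q28202 (flp_f L809712) q29103, e3 q28203 L800403 q27851, e3 q28204 L800421 q27062, e3 q28205 L800441 q27784, e3 q28206 L800457 q27051, e3 q28207 L800473 q27046, e3 q28208 L800497 q27156, e3 q28209 L800503 q27030, e3 q28210 L800531 q27103, e3 q28211 (flp_f L811795) q29249, e3 q28212 L800553 q27080, e3 q28213 L800571 q27066, e3 q28214 L800583 q27061, e3 q28215 L800607 q27194, e3 q28216 L800615 q27037, e3 q28217 L800639 q27122, e3 q28218 L800645 q27199, e3 q28219 L811911 q29256, e3 q28220 L800676 q27040, e3 q28221 L811958 q29259, e3 q28222 (flp_f L811932) q29257, e3 q28223 L811995 q29262, trivial⟩ (by decide +kernel)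

theorem ce_f_441 : ∀ r, r < 64 → sm gf (Qf (28224 + r)) = Qf (tab Gen.f (28224 + r)) :=
  edges_tab (sm gf) Qf (tab Gen.f) 28224 [(28224, 27041), (28225, 27045), (28226, 27147), (28227, 29263), (28228, 29247), (28229, 27106), (28230, 27081), (28231, 27291), (28232, 29271), (28233, 27050), (28234, 29246), (28235, 29273), (28236, 27052), (28237, 27074), (28238, 27582), (28239, 27058), (28240, 27176), (28241, 27177), (28242, 27775), (28243, 29245), (28244, 27792), (28245, 27251), (28246, 27344), (28247, 29280), (28248, 27067), (28249, 27082), (28250, 27785), (28251, 27235), (28252, 27236), (28253, 29274), (28254, 27791), (28255, 27083), (28256, 27093), (28257, 27250), (28258, 27330), (28259, 29251), (28260, 29267), (28261, 29283), (28262, 27478), (28263, 29291), (28264, 27086), (28265, 29294), (28266, 29292), (28267, 29297), (28268, 27087), (28269, 27322), (28270, 27091), (28271, 27813), (28272, 29299), (28273, 27111), (28274, 29284), (28275, 27107), (28276, 27227), (28277, 27487), (28278, 29308), (28279, 27097), (28280, 27099),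 (28281, 29309), (28282, 29311), (28283, 27100), (28284, 27104), (28285, 29250), (28286, 27154), (28287, 27152)]
    ⟨e3 q28224 (flp_f L800723) q27041, e3 q28225 L800735 q27045, e3 q28226 L800757 q27147, e3 q28227 (flp_f L812011) q29263, e3 q28228 (flp_f L811763) q29247, e3 q28229 L800789 q27106, e3 q28230 L800817 q27081, e3 q28231 L800821 q27291, e3 q28232 L812123 q29271, e3 q28233 (flp_f L800845) q27050, e3 q28234 (flp_f L811745) q29246, e3 q28235 L812149 q29273, e3 q28236 (flp_f L800880) q27052, e3 q28237 L800900 q27074, e3 q28238 L800928 q27582, e3 q28239 L800932 q27058, e3 q28240 L800942 q27176, e3 q28241 L800948 q27177, e3 q28242 L800970 q27775, e3 q28243 (flp_f L811725) q29245, e3 q28244 L801002 q27792, e3 q28245 L801008 q27251, e3 q28246 L801034 q27344, e3 q28247 L812261 q29280, e3 q28248 (flp_f L801044) q27067, e3 q28249 L801062 q27082, e3 q28250 L801086 q27785, e3 q28251 L801094 q27235, e3 q28252 L801100 q27236, e3 q28253 (flp_f L812171) q29274, e3 q28254 L801130 q27791, e3 q28255 L801142 q27083, e3 q28256 L801158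 q27093, e3 q28257 L801172 q27250, e3 q28258 L801196 q27330, e3 q28259 (flp_f L811833) q29251, e3 q28260 (flp_f L812082) q29267, e3 q28261 (flp_f L812315) q29283, e3 q28262 L801240 q27478, e3 q28263 L812435 q29291, e3 q28264 L801271 q27086, e3 q28265 L812480 q29294, e3 q28266 (flp_f L812454) q29292, e3 q28267 L812523 q29297, e3 q28268 (flp_f L801324) q27087, e3 q28269 L801348 q27322, e3 q28270 L801354 q27091, e3 q28271 L801376 q27813, e3 q28272 (flp_f L812553) q29299, e3 q28273 L801396 q27111, e3 q28274 (flp_f L812333) q29284, e3 q28275 L801420 q27107, e3 q28276 L801444 q27227, e3 q28277 L801448 q27487, e3 q28278 L812669 q29308, e3 q28279 (flp_f L801468) q27097, e3 q28280 L801489 q27099, e3 q28281 (flp_f L812691) q29309, e3 q28282 L812713 q29311, e3 q28283 (flp_f L801519) q27100, e3 q28284 L801537 q27104, e3 q28285 (flp_f L811823) q29250, e3 q28286 L801553 q27154, e3 q28287 L801573 q27152, trivial⟩ (by decide +kernel)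

theorem ce_f_442 : ∀ r, r < 64 → sm gf (Qf (28288 + r)) = Qf (tab Gen.f (28288 + r)) :=
  edges_tab (sm gf) Qf (tab Gen.f) 28288 [(28288, 29266), (28289, 29303), (28290, 27153), (28291, 27110), (28292, 29302), (28293, 29319), (28294, 27169), (28295, 27112), (28296, 27118), (28297, 29322), (28298, 27190), (28299, 27116), (28300, 29324), (28301, 27119), (28302, 29253), (28303, 27192), (28304, 27188), (28305, 27184), (28306, 27186), (28307, 27335), (28308, 27129), (28309, 29104), (28310, 29330), (28311, 27132), (28312, 29108), (28313, 29333), (28314, 29020), (28315, 29339), (28316, 27134), (28317, 29341), (28318, 27135), (28319, 27443), (28320, 27599), (28321, 29014), (28322, 29347), (28323, 27139), (28324, 27142), (28325, 29352), (28326, 27141), (28327, 29349), (28328, 29355), (28329, 27143), (28330, 27444), (28331, 27442), (28332, 27148), (28333, 29264), (28334, 29265), (28335, 29005), (28336, 27314), (28337, 29315), (28338, 27340), (28339, 29314), (28340, 29316), (28341, 29313), (28342, 27157), (28343, 29248), (28344, 27257),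 (28345, 29371), (28346, 27159), (28347, 27740), (28348, 29373), (28349, 27161), (28350, 29041), (28351, 29377)]
    ⟨e3 q28288 (flp_f L812054) q29266, e3 q28289 (flp_f L812612) q29303, e3 q28290 L801602 q27153, e3 q28291 L801618 q27110, e3 q28292 (flp_f L812594) q29302, e3 q28293 L812830 q29319, e3 q28294 (flp_f L801660) q27169, e3 q28295 (flp_f L801662) q27112, e3 q28296 L801684 q27118, e3 q28297 L812874 q29322, e3 q28298 (flp_f L801710) q27190, e3 q28299 (flp_f L801712) q27116, e3 q28300 L812904 q29324, e3 q28301 (flp_f L801736) q27119, e3 q28302 (flp_f L811879) q29253, e3 q28303 L801756 q27192, e3 q28304 L801768 q27188, e3 q28305 L801782 q27184, e3 q28306 L801797 q27186, e3 q28307 L801805 q27335, e3 q28308 L801821 q27129, e3 q28309 (flp_f L809727) q29104, e3 q28310 (flp_f L812987) q29330, e3 q28311 L801860 q27132, e3 q28312 (flp_f L809801) q29108, e3 q28313 (flp_f L813029) q29333, e3 q28314 (flp_f L808536) q29020, e3 q28315 L813086 q29339, e3 q28316 (flp_f L801910) q27134, e3 q28317 L813104 q29341, e3 q28318 (flp_f L801926)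 q27135, e3 q28319 L801950 q27443, e3 q28320 L801958 q27599, e3 q28321 (flp_f L808442) q29014, e3 q28322 L813164 q29347, e3 q28323 (flp_f L801986) q27139, e3 q28324 L801995 q27142, e3 q28325 L813204 q29352, e3 q28326 (flp_f L802009) q27141, e3 q28327 (flp_f L813181) q29349, e3 q28328 L813229 q29355, e3 q28329 (flp_f L802032) q27143, e3 q28330 L802044 q27444, e3 q28331 L802055 q27442, e3 q28332 L802066 q27148, e3 q28333 (flp_f L812033) q29264, e3 q28334 (flp_f L812039) q29265, e3 q28335 (flp_f L808294) q29005, e3 q28336 L802111 q27314, e3 q28337 (flp_f L812776) q29315, e3 q28338 L802140 q27340, e3 q28339 (flp_f L812761) q29314, e3 q28340 (flp_f L812790) q29316, e3 q28341 (flp_f L812741) q29313, e3 q28342 L802186 q27157, e3 q28343 (flp_f L811787) q29248, e3 q28344 L802206 q27257, e3 q28345 L813418 q29371, e3 q28346 (flp_f L802228) q27159, e3 q28347 L802249 q27740, e3 q28348 L813450 q29373, e3 q28349 (flp_f L802273) q27161, e3 q28350 (flp_f L808836) q29041, e3 q28351 L813491 q29377, trivial⟩ (by decide +kernel)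

theorem ce_f_443 : ∀ r, r < 64 → sm gf (Qf (28352 + r)) = Qf (tab Gen.f (28352 + r)) :=
  edges_tab (sm gf) Qf (tab Gen.f) 28352 [(28352, 27164), (28353, 29070), (28354, 29380), (28355, 29381), (28356, 27166), (28357, 27170), (28358, 29318), (28359, 29383), (28360, 27171), (28361, 27573), (28362, 27584), (28363, 29276), (28364, 29277), (28365, 27463), (28366, 27409), (28367, 27181), (28368, 27776), (28369, 27185), (28370, 29328), (28371, 27187), (28372, 29323), (28373, 29389), (28374, 29327), (28375, 29391), (28376, 29326), (28377, 27191), (28378, 29321), (28379, 29325), (28380, 29252), (28381, 27745), (28382, 27748), (28383, 27201), (28384, 29402), (28385, 27198), (28386, 29254), (28387, 29405), (28388, 27200), (28389, 29399), (28390, 29407), (28391, 27202), (28392, 27207), (28393, 29409), (28394, 27205), (28395, 29410), (28396, 27208), (28397, 27215), (28398, 29414), (28399, 27211), (28400, 27218), (28401, 29417), (28402, 29418), (28403, 27213), (28404, 29411), (28405, 29422), (28406, 29423), (28407, 27216), (28408, 27418),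 (28409, 29426), (28410, 29427), (28411, 27219), (28412, 27220), (28413, 27488), (28414, 27801), (28415, 27771)]
    ⟨e3 q28352 (flp_f L802307) q27164, e3 q28353 (flp_f L809248) q29070, e3 q28354 L813513 q29380, e3 q28355 L813519 q29381, e3 q28356 (flp_f L802333) q27166, e3 q28357 L802345 q27170, e3 q28358 L812828 q29318, e3 q28359 L813536 q29383, e3 q28360 (flp_f L802367) q27171, e3 q28361 L802377 q27573, e3 q28362 L802399 q27584, e3 q28363 (flp_f L812207) q29276, e3 q28364 (flp_f L812213) q29277, e3 q28365 L802419 q27463, e3 q28366 L802426 q27409, e3 q28367 L802432 q27181, e3 q28368 L802450 q27776, e3 q28369 L802456 q27185, e3 q28370 (flp_f L812959) q29328, e3 q28371 L802487 q27187, e3 q28372 (flp_f L812898) q29323, e3 q28373 (flp_f L813600) q29389, e3 q28374 (flp_f L812946) q29327, e3 q28375 (flp_f L813632) q29391, e3 q28376 (flp_f L812932) q29326, e3 q28377 L802553 q27191, e3 q28378 L812872 q29321, e3 q28379 (flp_f L812920) q29325, e3 q28380 (flp_f L811861) q29252, e3 q28381 L802587 q27745, e3 q28382 L802601 q27748, e3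 q28383 L802615 q27201, e3 q28384 L813750 q29402, e3 q28385 (flp_f L802633) q27198, e3 q28386 (flp_f L811885) q29254, e3 q28387 L813790 q29405, e3 q28388 (flp_f L802672) q27200, e3 q28389 (flp_f L813721) q29399, e3 q28390 L813816 q29407, e3 q28391 (flp_f L802710) q27202, e3 q28392 L802728 q27207, e3 q28393 L813844 q29409, e3 q28394 (flp_f L802748) q27205, e3 q28395 L813860 q29410, e3 q28396 (flp_f L802776) q27208, e3 q28397 L802792 q27215, e3 q28398 L813893 q29414, e3 q28399 (flp_f L802802) q27211, e3 q28400 L802813 q27218, e3 q28401 L813913 q29417, e3 q28402 L813921 q29418, e3 q28403 (flp_f L802828) q27213, e3 q28404 (flp_f L813876) q29411, e3 q28405 L813953 q29422, e3 q28406 L813959 q29423, e3 q28407 (flp_f L802864) q27216, e3 q28408 L802878 q27418, e3 q28409 L813995 q29426, e3 q28410 L814001 q29427, e3 q28411 (flp_f L802902) q27219, e3 q28412 (flp_f L802908) q27220, e3 q28413 L802926 q27488, e3 q28414 L802934 q27801, e3 q28415 L802946 q27771, trivial⟩ (by decide +kernel)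

theorem ce_f_444 : ∀ r, r < 64 → sm gf (Qf (28416 + r)) = Qf (tab Gen.f (28416 + r)) :=
  edges_tab (sm gf) Qf (tab Gen.f) 28416 [(28416, 29433), (28417, 29304), (28418, 27226), (28419, 29210), (28420, 27229), (28421, 27804), (28422, 27802), (28423, 27790), (28424, 29282), (28425, 29225), (28426, 27867), (28427, 27372), (28428, 27550), (28429, 27243), (28430, 27569), (28431, 29128), (28432, 27504), (28433, 27503), (28434, 29285), (28435, 27358), (28436, 27256), (28437, 27374), (28438, 29441), (28439, 29368), (28440, 29445), (28441, 27258), (28442, 27262), (28443, 27405), (28444, 27406), (28445, 27265), (28446, 27411), (28447, 29448), (28448, 27268), (28449, 27423), (28450, 27439), (28451, 29112), (28452, 27274), (28453, 27465), (28454, 27466), (28455, 27493), (28456, 27294), (28457, 29129), (28458, 29130), (28459, 27542), (28460, 27544), (28461, 27545), (28462, 29110), (28463, 29268), (28464, 29105), (28465, 29204), (28466, 27808), (28467, 27861), (28468, 27862), (28469, 29205), (28470, 27301), (28471, 27821), (28472, 29460),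 (28473, 27304), (28474, 29466), (28475, 27303), (28476, 29463), (28477, 29469), (28478, 27305), (28479, 27363)]
    ⟨e3 q28416 L814069 q29433, e3 q28417 (flp_f L812636) q29304, e3 q28418 (flp_f L802958) q27226, e3 q28419 (flp_f L811227) q29210, e3 q28420 (flp_f L802970) q27229, e3 q28421 L802980 q27804, e3 q28422 L802986 q27802, e3 q28423 L803002 q27790, e3 q28424 (flp_f L812301) q29282, e3 q28425 L811425 q29225, e3 q28426 L803020 q27867, e3 q28427 L803027 q27372, e3 q28428 L803037 q27550, e3 q28429 (flp_f L803045) q27243, e3 q28430 L803068 q27569, e3 q28431 (flp_f L810121) q29128, e3 q28432 L803088 q27504, e3 q28433 L803112 q27503, e3 q28434 (flp_f L812347) q29285, e3 q28435 L803136 q27358, e3 q28436 L803142 q27256, e3 q28437 L803158 q27374, e3 q28438 (flp_f L814148) q29441, e3 q28439 (flp_f L813381) q29368, e3 q28440 L814191 q29445, e3 q28441 (flp_f L803190) q27258, e3 q28442 L803204 q27262, e3 q28443 L803216 q27405, e3 q28444 L803222 q27406, e3 q28445 L803231 q27265, e3 q28446 L803253 q27411, e3 q28447 (flp_f L814225)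 q29448, e3 q28448 L803273 q27268, e3 q28449 L803291 q27423, e3 q28450 L803303 q27439, e3 q28451 (flp_f L809857) q29112, e3 q28452 L803327 q27274, e3 q28453 L803343 q27465, e3 q28454 L803349 q27466, e3 q28455 L803364 q27493, e3 q28456 L803370 q27294, e3 q28457 (flp_f L810149) q29129, e3 q28458 (flp_f L810167) q29130, e3 q28459 L803400 q27542, e3 q28460 L803414 q27544, e3 q28461 L803426 q27545, e3 q28462 (flp_f L809825) q29110, e3 q28463 (flp_f L812088) q29268, e3 q28464 (flp_f L809743) q29105, e3 q28465 (flp_f L811139) q29204, e3 q28466 L803482 q27808, e3 q28467 L803500 q27861, e3 q28468 L803504 q27862, e3 q28469 (flp_f L811157) q29205, e3 q28470 L803525 q27301, e3 q28471 L803543 q27821, e3 q28472 (flp_f L814382) q29460, e3 q28473 L803565 q27304, e3 q28474 L814446 q29466, e3 q28475 (flp_f L803583) q27303, e3 q28476 (flp_f L814419) q29463, e3 q28477 L814487 q29469, e3 q28478 (flp_f L803624) q27305, e3 q28479 L803646 q27363, trivial⟩ (by decide +kernel)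

theorem ce_f_445 : ∀ r, r < 64 → sm gf (Qf (28480 + r)) = Qf (tab Gen.f (28480 + r)) :=
  edges_tab (sm gf) Qf (tab Gen.f) 28480 [(28480, 27310), (28481, 27832), (28482, 27833), (28483, 27313), (28484, 27810), (28485, 29474), (28486, 29361), (28487, 29480), (28488, 27315), (28489, 27318), (28490, 27824), (28491, 27616), (28492, 27834), (28493, 27634), (28494, 27629), (28495, 29298), (28496, 27611), (28497, 27328), (28498, 27858), (28499, 29487), (28500, 27331), (28501, 29286), (28502, 27899), (28503, 27334), (28504, 27643), (28505, 29492), (28506, 29329), (28507, 29167), (28508, 27339), (28509, 27645), (28510, 27587), (28511, 29363), (28512, 29502), (28513, 29470), (28514, 27341), (28515, 29279), (28516, 27836), (28517, 27668), (28518, 29120), (28519, 27353), (28520, 27880), (28521, 27354), (28522, 27882), (28523, 27883), (28524, 29505), (28525, 27889), (28526, 27598), (28527, 27596), (28528, 29080), (28529, 29079), (28530, 29077), (28531, 29029), (28532, 29203), (28533, 27876), (28534, 27370), (28535, 29098), (28536, 29516),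 (28537, 27866), (28538, 29435), (28539, 27375), (28540, 29442), (28541, 29443), (28542, 29034), (28543, 29528)]
    ⟨e3 q28480 L803652 q27310, e3 q28481 L803664 q27832, e3 q28482 L803670 q27833, e3 q28483 L803677 q27313, e3 q28484 L803699 q27810, e3 q28485 (flp_f L814544) q29474, e3 q28486 (flp_f L813292) q29361, e3 q28487 L814613 q29480, e3 q28488 (flp_f L803737) q27315, e3 q28489 L803751 q27318, e3 q28490 L803767 q27824, e3 q28491 L803773 q27616, e3 q28492 L803791 q27834, e3 q28493 L803797 q27634, e3 q28494 L803811 q27629, e3 q28495 (flp_f L812545) q29298, e3 q28496 L803829 q27611, e3 q28497 L803838 q27328, e3 q28498 L803860 q27858, e3 q28499 (flp_f L814694) q29487, e3 q28500 L803880 q27331, e3 q28501 (flp_f L812371) q29286, e3 q28502 L803896 q27899, e3 q28503 L803905 q27334, e3 q28504 L803927 q27643, e3 q28505 (flp_f L814755) q29492, e3 q28506 (flp_f L812971) q29329, e3 q28507 (flp_f L810624) q29167, e3 q28508 L803969 q27339, e3 q28509 L803987 q27645, e3 q28510 L803993 q27587, e3 q28511 (flp_f L813322) q29363, e3 q28512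 L814864 q29502, e3 q28513 (flp_f L814509) q29470, e3 q28514 (flp_f L804023) q27341, e3 q28515 (flp_f L812259) q29279, e3 q28516 L804045 q27836, e3 q28517 L804053 q27668, e3 q28518 (flp_f L809995) q29120, e3 q28519 L804081 q27353, e3 q28520 L804103 q27880, e3 q28521 L804107 q27354, e3 q28522 L804119 q27882, e3 q28523 L804125 q27883, e3 q28524 (flp_f L814902) q29505, e3 q28525 L804152 q27889, e3 q28526 L804158 q27598, e3 q28527 L804172 q27596, e3 q28528 L809408 q29080, e3 q28529 L809390 q29079, e3 q28530 L809358 q29077, e3 q28531 (flp_f L808666) q29029, e3 q28532 (flp_f L811111) q29203, e3 q28533 L804216 q27876, e3 q28534 L804230 q27370, e3 q28535 (flp_f L809654) q29098, e3 q28536 (flp_f L815012) q29516, e3 q28537 L804266 q27866, e3 q28538 (flp_f L814087) q29435, e3 q28539 L804282 q27375, e3 q28540 (flp_f L814164) q29442, e3 q28541 (flp_f L814170) q29443, e3 q28542 (flp_f L808731) q29034, e3 q28543 L815127 q29528, trivial⟩ (by decide +kernel)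

theorem ce_f_446 : ∀ r, r < 64 → sm gf (Qf (28544 + r)) = Qf (tab Gen.f (28544 + r)) :=
  edges_tab (sm gf) Qf (tab Gen.f) 28544 [(28544, 27377), (28545, 29530), (28546, 27378), (28547, 27551), (28548, 27885), (28549, 27383), (28550, 29535), (28551, 27382), (28552, 29532), (28553, 29538), (28554, 29539), (28555, 27384), (28556, 27552), (28557, 27386), (28558, 27392), (28559, 29064), (28560, 27845), (28561, 29542), (28562, 27648), (28563, 29548), (28564, 27394), (28565, 27398), (28566, 29552), (28567, 29553), (28568, 27396), (28569, 29549), (28570, 29556), (28571, 27399), (28572, 27491), (28573, 27651), (28574, 29118), (28575, 29119), (28576, 29446), (28577, 29447), (28578, 27724), (28579, 29190), (28580, 27419), (28581, 29387), (28582, 27412), (28583, 29449), (28584, 29450), (28585, 29218), (28586, 27662), (28587, 27416), (28588, 29144), (28589, 29424), (28590, 29565), (28591, 29577), (28592, 29356), (28593, 27420), (28594, 29451), (28595, 27701), (28596, 27692), (28597, 29230), (28598, 27429), (28599, 27430), (28600, 29583),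 (28601, 27887), (28602, 27593), (28603, 27890), (28604, 27799), (28605, 27655), (28606, 29124), (28607, 27666)]
    ⟨e3 q28544 (flp_f L804323) q27377, e3 q28545 L815151 q29530, e3 q28546 (flp_f L804345) q27378, e3 q28547 L804371 q27551, e3 q28548 L804379 q27885, e3 q28549 L804393 q27383, e3 q28550 L815210 q29535, e3 q28551 (flp_f L804409) q27382, e3 q28552 (flp_f L815187) q29532, e3 q28553 L815234 q29538, e3 q28554 L815242 q29539, e3 q28555 (flp_f L804440) q27384, e3 q28556 L804454 q27552, e3 q28557 (flp_f L804458) q27386, e3 q28558 L804474 q27392, e3 q28559 L809166 q29064, e3 q28560 L804500 q27845, e3 q28561 (flp_f L815283) q29542, e3 q28562 L804526 q27648, e3 q28563 L815348 q29548, e3 q28564 (flp_f L804540) q27394, e3 q28565 L804551 q27398, e3 q28566 L815375 q29552, e3 q28567 L815381 q29553, e3 q28568 (flp_f L804562) q27396, e3 q28569 (flp_f L815363) q29549, e3 q28570 L815405 q29556, e3 q28571 (flp_f L804579) q27399, e3 q28572 L804589 q27491, e3 q28573 L804595 q27651, e3 q28574 (flp_f L809970) q29118, e3 q28575 (flp_f L809976)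 q29119, e3 q28576 (flp_f L814209) q29446, e3 q28577 (flp_f L814215) q29447, e3 q28578 L804635 q27724, e3 q28579 (flp_f L810918) q29190, e3 q28580 L804659 q27419, e3 q28581 (flp_f L813578) q29387, e3 q28582 L804679 q27412, e3 q28583 (flp_f L814247) q29449, e3 q28584 (flp_f L814253) q29450, e3 q28585 (flp_f L811311) q29218, e3 q28586 L804718 q27662, e3 q28587 L804734 q27416, e3 q28588 (flp_f L810355) q29144, e3 q28589 (flp_f L813977) q29424, e3 q28590 (flp_f L815472) q29565, e3 q28591 L815606 q29577, e3 q28592 (flp_f L813243) q29356, e3 q28593 (flp_f L804790) q27420, e3 q28594 (flp_f L814276) q29451, e3 q28595 L804808 q27701, e3 q28596 L804822 q27692, e3 q28597 (flp_f L811491) q29230, e3 q28598 L804844 q27429, e3 q28599 L804856 q27430, e3 q28600 (flp_f L815674) q29583, e3 q28601 L804884 q27887, e3 q28602 L804900 q27593, e3 q28603 L804906 q27890, e3 q28604 L804920 q27799, e3 q28605 L804924 q27655, e3 q28606 (flp_f L810074) q29124, e3 q28607 L804946 q27666, trivial⟩ (by decide +kernel)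

theorem ce_f_447 : ∀ r, r < 64 → sm gf (Qf (28608 + r)) = Qf (tab Gen.f (28608 + r)) :=
  edges_tab (sm gf) Qf (tab Gen.f) 28608 [(28608, 27663), (28609, 27734), (28610, 27716), (28611, 27723), (28612, 27721), (28613, 29357), (28614, 29340), (28615, 29348), (28616, 27686), (28617, 27690), (28618, 27653), (28619, 27455), (28620, 27709), (28621, 27472), (28622, 29195), (28623, 29232), (28624, 27480), (28625, 29589), (28626, 27459), (28627, 29603), (28628, 29570), (28629, 27457), (28630, 29604), (28631, 27460), (28632, 27489), (28633, 29386), (28634, 29360), (28635, 29452), (28636, 29453), (28637, 27840), (28638, 29177), (28639, 27470), (28640, 29233), (28641, 27710), (28642, 29597), (28643, 27476), (28644, 27477), (28645, 29196), (28646, 29197), (28647, 29614), (28648, 29289), (28649, 29620), (28650, 27479), (28651, 29598), (28652, 29623), (28653, 29624), (28654, 27481), (28655, 29236), (28656, 27661), (28657, 27659), (28658, 29305), (28659, 29428), (28660, 29430), (28661, 29632), (28662, 29557), (28663, 27490), (28664, 29072),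 (28665, 27856), (28666, 27850), (28667, 27855), (28668, 27853), (28669, 27907), (28670, 27500), (28671, 27892)]
    ⟨e3 q28608 L804962 q27663, e3 q28609 L804970 q27734, e3 q28610 L804980 q27716, e3 q28611 L804996 q27723, e3 q28612 L805004 q27721, e3 q28613 (flp_f L813253) q29357, e3 q28614 (flp_f L813100) q29340, e3 q28615 (flp_f L813175) q29348, e3 q28616 L805043 q27686, e3 q28617 L805056 q27690, e3 q28618 L805068 q27653, e3 q28619 L805080 q27455, e3 q28620 L805092 q27709, e3 q28621 L805103 q27472, e3 q28622 (flp_f L811003) q29195, e3 q28623 (flp_f L811525) q29232, e3 q28624 L805141 q27480, e3 q28625 (flp_f L815750) q29589, e3 q28626 L805165 q27459, e3 q28627 L815891 q29603, e3 q28628 (flp_f L815524) q29570, e3 q28629 (flp_f L805182) q27457, e3 q28630 L815907 q29604, e3 q28631 (flp_f L805216) q27460, e3 q28632 L805234 q27489, e3 q28633 (flp_f L813570) q29386, e3 q28634 (flp_f L813282) q29360, e3 q28635 (flp_f L814288) q29452, e3 q28636 (flp_f L814294) q29453, e3 q28637 L805266 q27840, e3 q28638 (flp_f L810743) q29177, e3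 q28639 L805292 q27470, e3 q28640 (flp_f L811553) q29233, e3 q28641 L805306 q27710, e3 q28642 (flp_f L815836) q29597, e3 q28643 L805328 q27476, e3 q28644 L805342 q27477, e3 q28645 (flp_f L811029) q29196, e3 q28646 (flp_f L811035) q29197, e3 q28647 (flp_f L816001) q29614, e3 q28648 (flp_f L812409) q29289, e3 q28649 L816060 q29620, e3 q28650 (flp_f L805397) q27479, e3 q28651 (flp_f L815848) q29598, e3 q28652 L816084 q29623, e3 q28653 L816094 q29624, e3 q28654 (flp_f L805429) q27481, e3 q28655 (flp_f L811599) q29236, e3 q28656 L805447 q27661, e3 q28657 L805461 q27659, e3 q28658 (flp_f L812640) q29305, e3 q28659 (flp_f L814021) q29428, e3 q28660 (flp_f L814047) q29430, e3 q28661 L816172 q29632, e3 q28662 (flp_f L815415) q29557, e3 q28663 (flp_f L805501) q27490, e3 q28664 L809282 q29072, e3 q28665 L805515 q27856, e3 q28666 L805521 q27850, e3 q28667 L805531 q27855, e3 q28668 L805539 q27853, e3 q28669 L805545 q27907, e3 q28670 L805557 q27500, e3 q28671 L805569 q27892, trivial⟩ (by decide +kernel)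

theorem ce_f_448 : ∀ r, r < 64 → sm gf (Qf (28672 + r)) = Qf (tab Gen.f (28672 + r)) :=
  edges_tab (sm gf) Qf (tab Gen.f) 28672 [(28672, 27893), (28673, 27910), (28674, 29440), (28675, 27601), (28676, 29646), (28677, 27506), (28678, 27915), (28679, 29650), (28680, 27508), (28681, 27918), (28682, 29653), (28683, 29654), (28684, 27510), (28685, 27518), (28686, 29180), (28687, 29181), (28688, 29659), (28689, 29661), (28690, 27515), (28691, 27516), (28692, 27672), (28693, 29179), (28694, 29134), (28695, 29666), (28696, 27521), (28697, 27522), (28698, 29429), (28699, 27924), (28700, 29669), (28701, 27526), (28702, 29670), (28703, 27529), (28704, 27674), (28705, 27531), (28706, 27671), (28707, 27669), (28708, 27800), (28709, 27688), (28710, 27717), (28711, 27713), (28712, 27711), (28713, 29240), (28714, 29455), (28715, 29238), (28716, 29456), (28717, 27547), (28718, 29680), (28719, 27657), (28720, 29529), (28721, 29540), (28722, 29059), (28723, 27846), (28724, 27600), (28725, 27848), (28726, 27911), (28727, 27905), (28728, 27704),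 (28729, 27620), (28730, 29353), (28731, 27577), (28732, 27787), (28733, 27580), (28734, 27683), (28735, 27684)]
    ⟨e3 q28672 L805573 q27893, e3 q28673 L805584 q27910, e3 q28674 (flp_f L814142) q29440, e3 q28675 L805602 q27601, e3 q28676 L816291 q29646, e3 q28677 (flp_f L805618) q27506, e3 q28678 L805631 q27915, e3 q28679 L816326 q29650, e3 q28680 (flp_f L805645) q27508, e3 q28681 L805654 q27918, e3 q28682 L816348 q29653, e3 q28683 L816356 q29654, e3 q28684 (flp_f L805673) q27510, e3 q28685 L805683 q27518, e3 q28686 (flp_f L810795) q29180, e3 q28687 (flp_f L810801) q29181, e3 q28688 L816382 q29659, e3 q28689 L816397 q29661, e3 q28690 (flp_f L805708) q27515, e3 q28691 (flp_f L805718) q27516, e3 q28692 L805730 q27672, e3 q28693 (flp_f L810773) q29179, e3 q28694 (flp_f L810219) q29134, e3 q28695 L816443 q29666, e3 q28696 (flp_f L805770) q27521, e3 q28697 (flp_f L805780) q27522, e3 q28698 (flp_f L814035) q29429, e3 q28699 L805806 q27924, e3 q28700 L816473 q29669, e3 q28701 (flp_f L805816) q27526, e3 q28702 L816485 q29670, e3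 q28703 (flp_f L805834) q27529, e3 q28704 (flp_f L805850) q27674, e3 q28705 (flp_f L805852) q27531, e3 q28706 L805870 q27671, e3 q28707 L805878 q27669, e3 q28708 L805890 q27800, e3 q28709 L805896 q27688, e3 q28710 L805906 q27717, e3 q28711 L805918 q27713, e3 q28712 L805926 q27711, e3 q28713 (flp_f L811667) q29240, e3 q28714 (flp_f L814318) q29455, e3 q28715 (flp_f L811631) q29238, e3 q28716 (flp_f L814332) q29456, e3 q28717 (flp_f L805952) q27547, e3 q28718 (flp_f L816575) q29680, e3 q28719 L805972 q27657, e3 q28720 (flp_f L815147) q29529, e3 q28721 (flp_f L815258) q29540, e3 q28722 (flp_f L809084) q29059, e3 q28723 L806006 q27846, e3 q28724 L806018 q27600, e3 q28725 L806028 q27848, e3 q28726 L806036 q27911, e3 q28727 L806048 q27905, e3 q28728 L806054 q27704, e3 q28729 L806064 q27620, e3 q28730 (flp_f L813219) q29353, e3 q28731 L806081 q27577, e3 q28732 L806101 q27787, e3 q28733 L806109 q27580, e3 q28734 L806131 q27683, e3 q28735 L806137 q27684, trivial⟩ (by decide +kernel)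

theorem ce_f_449 : ∀ r, r < 64 → sm gf (Qf (28736 + r)) = Qf (tab Gen.f (28736 + r)) :=
  edges_tab (sm gf) Qf (tab Gen.f) 28736 [(28736, 27772), (28737, 29275), (28738, 29384), (28739, 27835), (28740, 29499), (28741, 27842), (28742, 29231), (28743, 29078), (28744, 29512), (28745, 29510), (28746, 29511), (28747, 29343), (28748, 29684), (28749, 29643), (28750, 29698), (28751, 27602), (28752, 27606), (28753, 27895), (28754, 27896), (28755, 29037), (28756, 29703), (28757, 27608), (28758, 27612), (28759, 29483), (28760, 29704), (28761, 29708), (28762, 27613), (28763, 27638), (28764, 27617), (28765, 29482), (28766, 29711), (28767, 27618), (28768, 29686), (28769, 29050), (28770, 29715), (28771, 29709), (28772, 27623), (28773, 29716), (28774, 27626), (28775, 27630), (28776, 29485), (28777, 29473), (28778, 29719), (28779, 27631), (28780, 29484), (28781, 27635), (28782, 27863), (28783, 27921), (28784, 27886), (28785, 27864), (28786, 29493), (28787, 29494), (28788, 29498), (28789, 29131), (28790, 29727), (28791, 27647), (28792, 29545),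 (28793, 29729), (28794, 27649), (28795, 27847), (28796, 29586), (28797, 27849), (28798, 29585), (28799, 27852)]
    ⟨e3 q28736 L806150 q27772, e3 q28737 (flp_f L812199) q29275, e3 q28738 (flp_f L813556) q29384, e3 q28739 L806184 q27835, e3 q28740 (flp_f L814842) q29499, e3 q28741 L806208 q27842, e3 q28742 (flp_f L811517) q29231, e3 q28743 (flp_f L809366) q29078, e3 q28744 (flp_f L814980) q29512, e3 q28745 (flp_f L814958) q29510, e3 q28746 (flp_f L814968) q29511, e3 q28747 (flp_f L813129) q29343, e3 q28748 (flp_f L816615) q29684, e3 q28749 (flp_f L816266) q29643, e3 q28750 L816767 q29698, e3 q28751 (flp_f L806297) q27602, e3 q28752 L806311 q27606, e3 q28753 L806319 q27895, e3 q28754 L806325 q27896, e3 q28755 (flp_f L808778) q29037, e3 q28756 L816808 q29703, e3 q28757 (flp_f L806342) q27608, e3 q28758 L806356 q27612, e3 q28759 (flp_f L814655) q29483, e3 q28760 (flp_f L816822) q29704, e3 q28761 L816863 q29708, e3 q28762 (flp_f L806396) q27613, e3 q28763 L806416 q27638, e3 q28764 L806422 q27617, e3 q28765 (flp_f L814639) q29482,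 e3 q28766 L816897 q29711, e3 q28767 (flp_f L806450) q27618, e3 q28768 (flp_f L816633) q29686, e3 q28769 (flp_f L808971) q29050, e3 q28770 L816929 q29715, e3 q28771 (flp_f L816883) q29709, e3 q28772 (flp_f L806490) q27623, e3 q28773 L816939 q29716, e3 q28774 (flp_f L806506) q27626, e3 q28775 L806520 q27630, e3 q28776 (flp_f L814677) q29485, e3 q28777 (flp_f L814534) q29473, e3 q28778 L816969 q29719, e3 q28779 (flp_f L806557) q27631, e3 q28780 (flp_f L814665) q29484, e3 q28781 (flp_f L806571) q27635, e3 q28782 L806585 q27863, e3 q28783 L806601 q27921, e3 q28784 L806605 q27886, e3 q28785 L806619 q27864, e3 q28786 (flp_f L814777) q29493, e3 q28787 (flp_f L814783) q29494, e3 q28788 (flp_f L814836) q29498, e3 q28789 (flp_f L810173) q29131, e3 q28790 L817042 q29727, e3 q28791 (flp_f L806664) q27647, e3 q28792 (flp_f L815325) q29545, e3 q28793 L817058 q29729, e3 q28794 (flp_f L806687) q27649, e3 q28795 L806697 q27847, e3 q28796 (flp_f L815714) q29586, e3 q28797 L806719 q27849, e3 q28798 (flp_f L815698) q29585, e3 q28799 L806741 q27852,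 trivial⟩ (by decide +kernel)

theorem ce_f_450 : ∀ r, r < 64 → sm gf (Qf (28800 + r)) = Qf (tab Gen.f (28800 + r)) :=
  edges_tab (sm gf) Qf (tab Gen.f) 28800 [(28800, 29628), (28801, 27854), (28802, 29627), (28803, 29617), (28804, 29626), (28805, 29571), (28806, 29588), (28807, 29560), (28808, 27665), (28809, 29587), (28810, 27670), (28811, 29504), (28812, 29672), (28813, 29664), (28814, 29671), (28815, 29662), (28816, 27679), (28817, 29747), (28818, 29554), (28819, 27677), (28820, 29748), (28821, 27680), (28822, 29689), (28823, 29690), (28824, 29370), (28825, 27687), (28826, 29580), (28827, 29673), (28828, 27693), (28829, 29582), (28830, 27696), (28831, 29581), (28832, 29524), (28833, 29754), (28834, 29760), (28835, 27694), (28836, 29040), (28837, 29762), (28838, 27697), (28839, 29069), (28840, 29579), (28841, 27702), (28842, 29679), (28843, 27707), (28844, 29096), (28845, 27712), (28846, 29592), (28847, 29596), (28848, 29611), (28849, 29675), (28850, 29674), (28851, 27865), (28852, 29590), (28853, 27837), (28854, 29191),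 (28855, 29192), (28856, 27725), (28857, 29593), (28858, 29564), (28859, 29591), (28860, 29563), (28861, 29775), (28862, 27726), (28863, 27728)]
    ⟨e3 q28800 (flp_f L816140) q29628, e3 q28801 L806763 q27854, e3 q28802 (flp_f L816130) q29627, e3 q28803 (flp_f L816030) q29617, e3 q28804 (flp_f L816116) q29626, e3 q28805 (flp_f L815540) q29571, e3 q28806 (flp_f L815740) q29588, e3 q28807 (flp_f L815440) q29560, e3 q28808 L806815 q27665, e3 q28809 (flp_f L815722) q29587, e3 q28810 L806837 q27670, e3 q28811 (flp_f L814888) q29504, e3 q28812 (flp_f L816507) q29672, e3 q28813 (flp_f L816429) q29664, e3 q28814 (flp_f L816499) q29671, e3 q28815 (flp_f L816409) q29662, e3 q28816 L806876 q27679, e3 q28817 L817195 q29747, e3 q28818 (flp_f L815395) q29554, e3 q28819 (flp_f L806887) q27677, e3 q28820 L817201 q29748, e3 q28821 (flp_f L806901) q27680, e3 q28822 (flp_f L816675) q29689, e3 q28823 (flp_f L816681) q29690, e3 q28824 L813416 q29370, e3 q28825 L806926 q27687, e3 q28826 (flp_f L815636) q29580, e3 q28827 (flp_f L816515) q29673,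 e3 q28828 L806956 q27693, e3 q28829 (flp_f L815662) q29582, e3 q28830 L806978 q27696, e3 q28831 (flp_f L815652) q29581, e3 q28832 (flp_f L815087) q29524, e3 q28833 (flp_f L817237) q29754, e3 q28834 L817288 q29760, e3 q28835 (flp_f L807013) q27694, e3 q28836 (flp_f L808828) q29040, e3 q28837 L817302 q29762, e3 q28838 (flp_f L807035) q27697, e3 q28839 (flp_f L809240) q29069, e3 q28840 (flp_f L815624) q29579, e3 q28841 (flp_f L807057) q27702, e3 q28842 (flp_f L816569) q29679, e3 q28843 L807073 q27707, e3 q28844 L809630 q29096, e3 q28845 L807095 q27712, e3 q28846 (flp_f L815786) q29592, e3 q28847 (flp_f L815823) q29596, e3 q28848 (flp_f L815970) q29611, e3 q28849 (flp_f L816537) q29675, e3 q28850 (flp_f L816527) q29674, e3 q28851 L807138 q27865, e3 q28852 (flp_f L815762) q29590, e3 q28853 L807156 q27837, e3 q28854 (flp_f L810944) q29191, e3 q28855 (flp_f L810950) q29192, e3 q28856 L807183 q27725, e3 q28857 (flp_f L815796) q29593, e3 q28858 (flp_f L815466) q29564, e3 q28859 (flp_f L815776) q29591, e3 q28860 (flp_f L815457) q29563,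 e3 q28861 L817389 q29775, e3 q28862 (flp_f L807214) q27726, e3 q28863 (flp_f L807220) q27728, trivial⟩ (by decide +kernel)

theorem ce_f_451 : ∀ r, r < 64 → sm gf (Qf (28864 + r)) = Qf (tab Gen.f (28864 + r)) :=
  edges_tab (sm gf) Qf (tab Gen.f) 28864 [(28864, 29239), (28865, 29178), (28866, 29193), (28867, 29777), (28868, 27741), (28869, 29106), (28870, 29781), (28871, 27744), (28872, 29398), (28873, 29784), (28874, 29217), (28875, 27746), (28876, 29785), (28877, 27749), (28878, 27756), (28879, 29789), (28880, 27752), (28881, 27759), (28882, 29792), (28883, 29701), (28884, 27754), (28885, 29786), (28886, 29794), (28887, 27757), (28888, 29795), (28889, 27760), (28890, 29796), (28891, 27763), (28892, 27765), (28893, 29008), (28894, 27908), (28895, 29126), (28896, 29127), (28897, 29431), (28898, 27773), (28899, 29388), (28900, 29033), (28901, 29175), (28902, 29176), (28903, 29215), (28904, 29216), (28905, 27782), (28906, 29281), (28907, 29688), (28908, 29006), (28909, 29278), (28910, 29241), (28911, 27796), (28912, 29584),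 (28913, 29436), (28914, 27807), (28915, 27839), (28916, 27811), (28917, 29475), (28918, 29476), (28919, 27825), (28920, 29300), (28921, 29301), (28922, 27897), (28923, 27898), (28924, 27819), (28925, 29111), (28926, 27822), (28927, 29461)]
    ⟨e3 q28864 (flp_f L811643) q29239, e3 q28865 (flp_f L810767) q29178, e3 q28866 (flp_f L810977) q29193, e3 q28867 L817401 q29777, e3 q28868 (flp_f L807252) q27741, e3 q28869 (flp_f L809759) q29106, e3 q28870 L817434 q29781, e3 q28871 (flp_f L807276) q27744, e3 q28872 (flp_f L813705) q29398, e3 q28873 L817454 q29784, e3 q28874 (flp_f L811299) q29217, e3 q28875 (flp_f L807298) q27746, e3 q28876 L817460 q29785, e3 q28877 (flp_f L807312) q27749, e3 q28878 L807324 q27756, e3 q28879 L817495 q29789, e3 q28880 (flp_f L807338) q27752, e3 q28881 L807349 q27759, e3 q28882 L817519 q29792, e3 q28883 (flp_f L816796) q29701, e3 q28884 (flp_f L807368) q27754, e3 q28885 (flp_f L817472) q29786, e3 q28886 L817535 q29794, e3 q28887 (flp_f L807392) q27757, e3 q28888 L817541 q29795, e3 q28889 (flp_f L807404)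 q27760, e3 q28890 L817547 q29796, e3 q28891 (flp_f L807414) q27763, e3 q28892 (flp_f L807420) q27765, e3 q28893 (flp_f L808344) q29008, e3 q28894 L807434 q27908, e3 q28895 (flp_f L810100) q29126, e3 q28896 (flp_f L810106) q29127, e3 q28897 (flp_f L814061) q29431, e3 q28898 (flp_f L807465) q27773, e3 q28899 (flp_f L813594) q29388, e3 q28900 (flp_f L808715) q29033, e3 q28901 (flp_f L810726) q29175, e3 q28902 (flp_f L810730) q29176, e3 q28903 (flp_f L811286) q29215, e3 q28904 (flp_f L811292) q29216, e3 q28905 (flp_f L807508) q27782, e3 q28906 (flp_f L812293) q29281, e3 q28907 (flp_f L816659) q29688, e3 q28908 (flp_f L808324) q29006, e3 q28909 (flp_f L812241) q29278, e3 q28910 (flp_f L811681) q29241, e3 q28911 (flp_f L807550) q27796, e3 q28912 (flp_f L815692) q29584, e3 q28913 (flp_f L814097) q29436, e3 q28914 L807568 q27807, e3 q28915 L807576 q27839, e3 q28916 L807582 q27811, e3 q28917 (flp_f L814566) q29475, e3 q28918 (flp_f L814572) q29476, e3 q28919 L807599 q27825, e3 q28920 (flp_f L812575) q29300, e3 q28921 (flp_f L812581)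 q29301, e3 q28922 L807626 q27897, e3 q28923 L807632 q27898, e3 q28924 L807640 q27819, e3 q28925 (flp_f L809849) q29111, e3 q28926 L807654 q27822, e3 q28927 (flp_f L814400) q29461, trivial⟩ (by decide +kernel)

theorem ce_f_452 : ∀ r, r < 64 → sm gf (Qf (28928 + r)) = Qf (tab Gen.f (28928 + r)) :=
  edges_tab (sm gf) Qf (tab Gen.f) 28928 [(28928, 29462), (28929, 29481), (28930, 27828), (28931, 29113), (28932, 29114), (28933, 29115), (28934, 29471), (28935, 29472), (28936, 29503), (28937, 29804), (28938, 29609), (28939, 29544), (28940, 29683), (28941, 29730), (28942, 29638), (28943, 29636), (28944, 29229), (28945, 29734), (28946, 29639), (28947, 29637), (28948, 27859), (28949, 29488), (28950, 29489), (28951, 29458), (28952, 29459), (28953, 29519), (28954, 29438), (28955, 27870), (28956, 29121), (28957, 29122), (28958, 29123), (28959, 27888), (28960, 27877), (28961, 29150), (28962, 29834), (28963, 27875), (28964, 29515), (28965, 29833), (28966, 29831), (28967, 27884), (28968, 29506), (28969, 29507), (28970, 29508), (28971, 29509),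 (28972, 29531), (28973, 29721), (28974, 29832), (28975, 29641), (28976, 29642), (28977, 29699), (28978, 29700), (28979, 29809), (28980, 29810), (28981, 29491), (28982, 27922), (28983, 27923), (28984, 27903), (28985, 29685), (28986, 29640), (28987, 29676), (28988, 27925), (28989, 27919), (28990, 27916), (28991, 29647)]
    ⟨e3 q28928 (flp_f L814406) q29462, e3 q28929 (flp_f L814633) q29481, e3 q28930 L807683 q27828, e3 q28931 (flp_f L809883) q29113, e3 q28932 (flp_f L809889) q29114, e3 q28933 (flp_f L809916) q29115, e3 q28934 (flp_f L814521) q29471, e3 q28935 (flp_f L814527) q29472, e3 q28936 (flp_f L814878) q29503, e3 q28937 (flp_f L817602) q29804, e3 q28938 (flp_f L815952) q29609, e3 q28939 (flp_f L815311) q29544, e3 q28940 (flp_f L816603) q29683, e3 q28941 (flp_f L817070) q29730, e3 q28942 (flp_f L816220) q29638, e3 q28943 (flp_f L816202) q29636, e3 q28944 (flp_f L811471) q29229, e3 q28945 (flp_f L817109) q29734, e3 q28946 (flp_f L816228) q29639, e3 q28947 (flp_f L816210) q29637, e3 q28948 L807802 q27859, e3 q28949 (flp_f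 L814716) q29488, e3 q28950 (flp_f L814722) q29489, e3 q28951 (flp_f L814360) q29458, e3 q28952 (flp_f L814366) q29459, e3 q28953 (flp_f L815049) q29519, e3 q28954 (flp_f L814111) q29438, e3 q28955 L807843 q27870, e3 q28956 (flp_f L810021) q29121, e3 q28957 (flp_f L810027) q29122, e3 q28958 (flp_f L810056) q29123, e3 q28959 L807870 q27888, e3 q28960 L807878 q27877, e3 q28961 (flp_f L810437) q29150, e3 q28962 (flp_f L817795) q29834, e3 q28963 (flp_f L807898) q27875, e3 q28964 (flp_f L814996) q29515, e3 q28965 (flp_f L817789) q29833, e3 q28966 (flp_f L817773) q29831, e3 q28967 L807926 q27884, e3 q28968 (flp_f L814924) q29506, e3 q28969 (flp_f L814930) q29507, e3 q28970 (flp_f L814945) q29508, e3 q28971 (flp_f L814951) q29509, e3 q28972 (flp_f L815171) q29531, e3 q28973 (flp_f L816993) q29721, e3 q28974 (flp_f L817781) q29832, e3 q28975 (flp_f L816252) q29641, e3 q28976 (flp_f L816258) q29642, e3 q28977 (flp_f L816783) q29699, e3 q28978 (flp_f L816789) q29700, e3 q28979 (flp_f L817638) q29809, e3 q28980 (flp_f L817642) q29810,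 e3 q28981 (flp_f L814745) q29491, e3 q28982 L808024 q27922, e3 q28983 L808030 q27923, e3 q28984 (flp_f L808034) q27903, e3 q28985 (flp_f L816625) q29685, e3 q28986 (flp_f L816236) q29640, e3 q28987 (flp_f L816545) q29676, e3 q28988 L808076 q27925, e3 q28989 L808082 q27919, e3 q28990 L808088 q27916, e3 q28991 (flp_f L816305) q29647, trivial⟩ (by decide +kernel)

theorem ce_f_453 : ∀ r, r < 64 → sm gf (Qf (28992 + r)) = Qf (tab Gen.f (28992 + r)) :=
  edges_tab (sm gf) Qf (tab Gen.f) 28992 [(28992, 29855), (28993, 29854), (28994, 29720), (28995, 29852), (28996, 27929), (28997, 27942), (28998, 27931), (28999, 27933), (29000, 27946), (29001, 27947), (29002, 27948), (29003, 27950), (29004, 29857), (29005, 28335), (29006, 28908), (29007, 29858), (29008, 28893), (29009, 29859), (29010, 29860), (29011, 27953), (29012, 28092), (29013, 29864), (29014, 28321), (29015, 29870), (29016, 27955), (29017, 29872), (29018, 27956), (29019, 28039), (29020, 28314), (29021, 29876), (29022, 27959), (29023, 27962), (29024, 29881), (29025, 27961),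 (29026, 29878), (29027, 29884), (29028, 27963), (29029, 28531), (29030, 27968), (29031, 28111), (29032, 28112), (29033, 28900), (29034, 28542), (29035, 29892), (29036, 27971), (29037, 28755), (29038, 29895), (29039, 27973), (29040, 28836), (29041, 28350), (29042, 29900), (29043, 27977), (29044, 27980), (29045, 28129), (29046, 28130), (29047, 28096), (29048, 29907), (29049, 27982), (29050, 28769), (29051, 29910), (29052, 29911), (29053, 27984), (29054, 29912), (29055, 27987)]
    ⟨e3 q28992 (flp_f L817932) q29855, e3 q28993 (flp_f L817926) q29854, e3 q28994 (flp_f L816987) q29720, e3 q28995 (flp_f L817908) q29852, e3 q28996 L808132 q27929, e3 q28997 L808160 q27942, e3 q28998 L808170 q27931, e3 q28999 L808190 q27933, e3 q29000 L808216 q27946, e3 q29001 L808222 q27947, e3 q29002 L808242 q27948, e3 q29003 L808260 q27950, e3 q29004 (flp_f L817960) q29857, e3 q29005 L808294 q28335, e3 q29006 L808324 q28908, e3 q29007 (flp_f L817968) q29858, e3 q29008 L808344 q28893, e3 q29009 (flp_f L817988) q29859, e3 q29010 (flp_f L818006) q29860,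 e3 q29011 L808392 q27953, e3 q29012 L808418 q28092, e3 q29013 (flp_f L818072) q29864, e3 q29014 L808442 q28321, e3 q29015 L818163 q29870, e3 q29016 (flp_f L808468) q27955, e3 q29017 L818195 q29872, e3 q29018 (flp_f L808500) q27956, e3 q29019 L808528 q28039, e3 q29020 L808536 q28314, e3 q29021 L818260 q29876, e3 q29022 (flp_f L808562) q27959, e3 q29023 L808581 q27962, e3 q29024 L818336 q29881, e3 q29025 (flp_f L808607) q27961, e3 q29026 (flp_f L818297) q29878, e3 q29027 L818381 q29884, e3 q29028 (flp_f L808646) q27963, e3 q29029 L808666 q28531, e3 q29030 L808672 q27968, e3 q29031 L808694 q28111, e3 q29032 L808700 q28112, e3 q29033 L808715 q28900, e3 q29034 L808731 q28542, e3 q29035 L818489 q29892, e3 q29036 (flp_f L808757) q27971, e3 q29037 L808778 q28755, e3 q29038 L818538 q29895, e3 q29039 (flp_f L808802) q27973, e3 q29040 L808828 q28836, e3 q29041 L808836 q28350, e3 q29042 L818616 q29900, e3 q29043 (flp_f L808862) q27977, e3 q29044 L808886 q27980, e3 q29045 L808904 q28129, e3 q29046 L808910 q28130, e3 q29047 L808924 q28096,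 e3 q29048 L818723 q29907, e3 q29049 (flp_f L808950) q27982, e3 q29050 L808971 q28769, e3 q29051 L818759 q29910, e3 q29052 L818771 q29911, e3 q29053 (flp_f L808998) q27984, e3 q29054 L818784 q29912, e3 q29055 (flp_f L809024) q27987, trivial⟩ (by decide +kernel)

theorem ce_f_454 : ∀ r, r < 64 → sm gf (Qf (29056 + r)) = Qf (tab Gen.f (29056 + r)) :=
  edges_tab (sm gf) Qf (tab Gen.f) 29056 [(29056, 28149), (29057, 28150), (29058, 28151), (29059, 28722), (29060, 28152), (29061, 28153), (29062, 28000), (29063, 29919), (29064, 28559), (29065, 27998), (29066, 29871), (29067, 29921), (29068, 28001), (29069, 28839), (29070, 28353), (29071, 29925), (29072, 28664), (29073, 28005), (29074, 28175), (29075, 28176), (29076, 28100), (29077, 28530), (29078, 28743), (29079, 28529), (29080, 28528), (29081, 28021), (29082, 29933), (29083, 28017), (29084, 28024), (29085, 29936), (29086, 29937), (29087, 28019), (29088, 29930), (29089, 29940), (29090, 28022), (29091, 28095), (29092, 29942), (29093, 28025), (29094, 28169), (29095, 29945), (29096,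 28844), (29097, 28029), (29098, 28535), (29099, 28032), (29100, 28200), (29101, 28199), (29102, 28201), (29103, 28202), (29104, 28309), (29105, 28464), (29106, 28869), (29107, 28049), (29108, 28312), (29109, 29952), (29110, 28462), (29111, 28925), (29112, 28451), (29113, 28931), (29114, 28932), (29115, 28933), (29116, 28198), (29117, 28061), (29118, 28574), (29119, 28575)]
    ⟨e3 q29056 L809050 q28149, e3 q29057 L809056 q28150, e3 q29058 L809074 q28151, e3 q29059 L809084 q28722, e3 q29060 L809102 q28152, e3 q29061 L809118 q28153, e3 q29062 L809132 q28000, e3 q29063 L818891 q29919, e3 q29064 (flp_f L809166) q28559, e3 q29065 (flp_f L809170) q27998, e3 q29066 (flp_f L818191) q29871, e3 q29067 L818923 q29921, e3 q29068 (flp_f L809218) q28001, e3 q29069 L809240 q28839, e3 q29070 L809248 q28353, e3 q29071 L818979 q29925, e3 q29072 (flp_f L809282) q28664, e3 q29073 (flp_f L809284) q28005, e3 q29074 L809312 q28175, e3 q29075 L809318 q28176, e3 q29076 L809330 q28100, e3 q29077 (flp_f L809358) q28530, e3 q29078 L809366 q28743, e3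 q29079 (flp_f L809390) q28529, e3 q29080 (flp_f L809408) q28528, e3 q29081 L809414 q28021, e3 q29082 L819108 q29933, e3 q29083 (flp_f L809440) q28017, e3 q29084 L809463 q28024, e3 q29085 L819148 q29936, e3 q29086 L819162 q29937, e3 q29087 (flp_f L809496) q28019, e3 q29088 (flp_f L819069) q29930, e3 q29089 L819206 q29940, e3 q29090 (flp_f L809534) q28022, e3 q29091 L809560 q28095, e3 q29092 L819236 q29942, e3 q29093 (flp_f L809578) q28025, e3 q29094 L809602 q28169, e3 q29095 L819282 q29945, e3 q29096 (flp_f L809630) q28844, e3 q29097 (flp_f L809632) q28029, e3 q29098 L809654 q28535, e3 q29099 (flp_f L809660) q28032, e3 q29100 L809682 q28200, e3 q29101 L809692 q28199, e3 q29102 L809700 q28201, e3 q29103 L809712 q28202, e3 q29104 L809727 q28309, e3 q29105 L809743 q28464, e3 q29106 L809759 q28869, e3 q29107 L809775 q28049, e3 q29108 L809801 q28312, e3 q29109 (flp_f L819392) q29952, e3 q29110 L809825 q28462, e3 q29111 L809849 q28925, e3 q29112 L809857 q28451, e3 q29113 L809883 q28931, e3 q29114 L809889 q28932, e3 q29115 L809916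 q28933, e3 q29116 L809936 q28198, e3 q29117 L809944 q28061, e3 q29118 L809970 q28574, e3 q29119 L809976 q28575, trivial⟩ (by decide +kernel)

theorem ce_f_455 : ∀ r, r < 64 → sm gf (Qf (29120 + r)) = Qf (tab Gen.f (29120 + r)) :=
  edges_tab (sm gf) Qf (tab Gen.f) 29120 [(29120, 28518), (29121, 28956), (29122, 28957), (29123, 28958), (29124, 28606), (29125, 28071), (29126, 28895), (29127, 28896), (29128, 28431), (29129, 28457), (29130, 28458), (29131, 28789), (29132, 29968), (29133, 28079), (29134, 28694), (29135, 29972), (29136, 28082), (29137, 28085), (29138, 29977), (29139, 28084), (29140, 29974), (29141, 29980), (29142, 28086), (29143, 28099), (29144, 28588), (29145, 29985), (29146, 28090), (29147, 28093), (29148, 29865), (29149, 29866), (29150, 28961), (29151, 29941), (29152, 29904), (29153, 29993), (29154, 29981), (29155, 28097), (29156, 29973), (29157, 29927), (29158, 29997), (29159, 29998), (29160, 28101), (29161, 28106), (29162, 30001), (29163, 30002), (29164, 28104), (29165, 30004), (29166, 28107), (29167, 28507),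 (29168, 29886), (29169, 29887), (29170, 29888), (29171, 28125), (29172, 30013), (29173, 28114), (29174, 28117), (29175, 28901), (29176, 28902), (29177, 28638), (29178, 28865), (29179, 28693), (29180, 28686), (29181, 28687), (29182, 30020), (29183, 28123)]
    ⟨e3 q29120 L809995 q28518, e3 q29121 L810021 q28956, e3 q29122 L810027 q28957, e3 q29123 L810056 q28958, e3 q29124 L810074 q28606, e3 q29125 L810080 q28071, e3 q29126 L810100 q28895, e3 q29127 L810106 q28896, e3 q29128 L810121 q28431, e3 q29129 L810149 q28457, e3 q29130 L810167 q28458, e3 q29131 L810173 q28789, e3 q29132 L819650 q29968, e3 q29133 (flp_f L810199) q28079, e3 q29134 L810219 q28694, e3 q29135 L819711 q29972, e3 q29136 (flp_f L810245) q28082, e3 q29137 L810264 q28085, e3 q29138 L819789 q29977, e3 q29139 (flp_f L810290) q28084, e3 q29140 (flp_f L819748) q29974, e3 q29141 L819834 q29980, e3 q29142 (flp_f L810329) q28086, e3 q29143 L810349 q28099, e3 q29144 L810355 q28588, e3 q29145 L819903 q29985, e3 q29146 (flp_f L810381) q28090, e3 q29147 L810402 q28093,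 e3 q29148 (flp_f L818098) q29865, e3 q29149 (flp_f L818104) q29866, e3 q29150 L810437 q28961, e3 q29151 (flp_f L819232) q29941, e3 q29152 (flp_f L818682) q29904, e3 q29153 L820008 q29993, e3 q29154 (flp_f L819854) q29981, e3 q29155 (flp_f L810493) q28097, e3 q29156 (flp_f L819738) q29973, e3 q29157 (flp_f L819015) q29927, e3 q29158 L820050 q29997, e3 q29159 L820060 q29998, e3 q29160 (flp_f L810545) q28101, e3 q29161 L810561 q28106, e3 q29162 L820089 q30001, e3 q29163 L820099 q30002, e3 q29164 (flp_f L810588) q28104, e3 q29165 L820123 q30004, e3 q29166 (flp_f L810610) q28107, e3 q29167 L810624 q28507, e3 q29168 (flp_f L818417) q29886, e3 q29169 (flp_f L818423) q29887, e3 q29170 (flp_f L818434) q29888, e3 q29171 L810659 q28125, e3 q29172 L820226 q30013, e3 q29173 (flp_f L810685) q28114, e3 q29174 L810706 q28117, e3 q29175 L810726 q28901, e3 q29176 L810730 q28902, e3 q29177 L810743 q28638, e3 q29178 L810767 q28865, e3 q29179 L810773 q28693, e3 q29180 L810795 q28686, e3 q29181 L810801 q28687, e3 q29182 L820319 q30020, e3 q29183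 (flp_f L810818) q28123, trivial⟩ (by decide +kernel)

theorem ce_f_456 : ∀ r, r < 64 → sm gf (Qf (29184 + r)) = Qf (tab Gen.f (29184 + r)) :=
  edges_tab (sm gf) Qf (tab Gen.f) 29184 [(29184, 30010), (29185, 30022), (29186, 28126), (29187, 29901), (29188, 29902), (29189, 29903), (29190, 28579), (29191, 28854), (29192, 28855), (29193, 28866), (29194, 28138), (29195, 28622), (29196, 28645), (29197, 28646), (29198, 30030), (29199, 30032), (29200, 28139), (29201, 28140), (29202, 28143), (29203, 28532), (29204, 28465), (29205, 28469), (29206, 29913), (29207, 29914), (29208, 29915), (29209, 28170), (29210, 28419), (29211, 28172), (29212, 30042), (29213, 30043), (29214, 28157), (29215, 28903), (29216, 28904), (29217, 28874), (29218, 28585), (29219, 28183), (29220, 30050), (29221, 28165), (29222, 28167), (29223, 29943), (29224, 30037), (29225, 28425), (29226, 30053), (29227, 28173), (29228, 29926), (29229, 28944), (29230, 28597), (29231, 28742), (29232, 28623), (29233, 28640), (29234, 30049), (29235, 28185), (29236, 28655), (29237,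 28189), (29238, 28715), (29239, 28864), (29240, 28713), (29241, 28910), (29242, 29948), (29243, 29949), (29244, 29950), (29245, 28243), (29246, 28234), (29247, 28228)]
    ⟨e3 q29184 (flp_f L820187) q30010, e3 q29185 L820351 q30022, e3 q29186 (flp_f L810860) q28126, e3 q29187 (flp_f L818646) q29901, e3 q29188 (flp_f L818652) q29902, e3 q29189 (flp_f L818670) q29903, e3 q29190 L810918 q28579, e3 q29191 L810944 q28854, e3 q29192 L810950 q28855, e3 q29193 L810977 q28866, e3 q29194 L810985 q28138, e3 q29195 L811003 q28622, e3 q29196 L811029 q28645, e3 q29197 L811035 q28646, e3 q29198 L820467 q30030, e3 q29199 L820490 q30032, e3 q29200 (flp_f L811062) q28139, e3 q29201 (flp_f L811078) q28140, e3 q29202 (flp_f L811091) q28143, e3 q29203 L811111 q28532, e3 q29204 L811139 q28465, e3 q29205 L811157 q28469, e3 q29206 (flp_f L818806) q29913, e3 q29207 (flp_f L818824) q29914, e3 q29208 (flp_f L818836) q29915, e3 q29209 L811201 q28170, e3 q29210 L811227 q28419, e3 q29211 L811235 q28172, e3 q29212 L820632 q30042, e3 q29213 L820646 q30043,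 e3 q29214 (flp_f L811262) q28157, e3 q29215 L811286 q28903, e3 q29216 L811292 q28904, e3 q29217 L811299 q28874, e3 q29218 L811311 q28585, e3 q29219 L811339 q28183, e3 q29220 L820732 q30050, e3 q29221 (flp_f L811351) q28165, e3 q29222 (flp_f L811369) q28167, e3 q29223 (flp_f L819262) q29943, e3 q29224 (flp_f L820567) q30037, e3 q29225 (flp_f L811425) q28425, e3 q29226 L820786 q30053, e3 q29227 (flp_f L811441) q28173, e3 q29228 (flp_f L819001) q29926, e3 q29229 L811471 q28944, e3 q29230 L811491 q28597, e3 q29231 L811517 q28742, e3 q29232 L811525 q28623, e3 q29233 L811553 q28640, e3 q29234 (flp_f L820730) q30049, e3 q29235 (flp_f L811569) q28185, e3 q29236 L811599 q28655, e3 q29237 (flp_f L811601) q28189, e3 q29238 L811631 q28715, e3 q29239 L811643 q28864, e3 q29240 L811667 q28713, e3 q29241 L811681 q28910, e3 q29242 (flp_f L819342) q29948, e3 q29243 (flp_f L819352) q29949, e3 q29244 (flp_f L819362) q29950, e3 q29245 L811725 q28243, e3 q29246 L811745 q28234, e3 q29247 L811763 q28228, trivial⟩ (by decide +kernel)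

theorem ce_f_457 : ∀ r, r < 64 → sm gf (Qf (29248 + r)) = Qf (tab Gen.f (29248 + r)) :=
  edges_tab (sm gf) Qf (tab Gen.f) 29248 [(29248, 28343), (29249, 28211), (29250, 28285), (29251, 28259), (29252, 28380), (29253, 28302), (29254, 28386), (29255, 30063), (29256, 28219), (29257, 28222), (29258, 30067), (29259, 28221), (29260, 30064), (29261, 30069), (29262, 28223), (29263, 28227), (29264, 28333), (29265, 28334), (29266, 28288), (29267, 28260), (29268, 28463), (29269, 30075), (29270, 30076), (29271, 28232), (29272, 30077), (29273, 28235), (29274, 28253), (29275, 28737), (29276, 28363), (29277, 28364), (29278, 28909), (29279, 28515), (29280, 28247), (29281, 28906), (29282, 28424), (29283, 28261), (29284, 28274), (29285, 28434), (29286, 28501), (29287, 30072), (29288, 30080), (29289, 28648), (29290, 30085), (29291, 28263), (29292, 28266), (29293, 30090), (29294, 28265), (29295, 30087), (29296, 30093), (29297, 28267), (29298, 28495), (29299, 28272), (29300, 28920), (29301, 28921), (29302, 28292), (29303, 28289), (29304, 28417),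 (29305, 28658), (29306, 30101), (29307, 30102), (29308, 28278), (29309, 28281), (29310, 30103), (29311, 28282)]
    ⟨e3 q29248 L811787 q28343, e3 q29249 L811795 q28211, e3 q29250 L811823 q28285, e3 q29251 L811833 q28259, e3 q29252 L811861 q28380, e3 q29253 L811879 q28302, e3 q29254 L811885 q28386, e3 q29255 L820957 q30063, e3 q29256 (flp_f L811911) q28219, e3 q29257 L811932 q28222, e3 q29258 L821022 q30067, e3 q29259 (flp_f L811958) q28221, e3 q29260 (flp_f L820979) q30064, e3 q29261 L821052 q30069, e3 q29262 (flp_f L811995) q28223, e3 q29263 L812011 q28227, e3 q29264 L812033 q28333, e3 q29265 L812039 q28334, e3 q29266 L812054 q28288, e3 q29267 L812082 q28260, e3 q29268 L812088 q28463, e3 q29269 L821136 q30075, e3 q29270 L821152 q30076, e3 q29271 (flp_f L812123) q28232, e3 q29272 L821169 q30077, e3 q29273 (flp_f L812149) q28235, e3 q29274 L812171 q28253, e3 q29275 L812199 q28737, e3 q29276 L812207 q28363, e3 q29277 L812213 q28364, e3 q29278 L812241 q28909, e3 q29279 L812259 q28515, e3 q29280 (flp_f L812261) q28247, e3 q29281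 L812293 q28906, e3 q29282 L812301 q28424, e3 q29283 L812315 q28261, e3 q29284 L812333 q28274, e3 q29285 L812347 q28434, e3 q29286 L812371 q28501, e3 q29287 (flp_f L821108) q30072, e3 q29288 (flp_f L821233) q30080, e3 q29289 L812409 q28648, e3 q29290 L821310 q30085, e3 q29291 (flp_f L812435) q28263, e3 q29292 L812454 q28266, e3 q29293 L821386 q30090, e3 q29294 (flp_f L812480) q28265, e3 q29295 (flp_f L821347) q30087, e3 q29296 L821433 q30093, e3 q29297 (flp_f L812523) q28267, e3 q29298 L812545 q28495, e3 q29299 L812553 q28272, e3 q29300 L812575 q28920, e3 q29301 L812581 q28921, e3 q29302 L812594 q28292, e3 q29303 L812612 q28289, e3 q29304 L812636 q28417, e3 q29305 L812640 q28658, e3 q29306 L821536 q30101, e3 q29307 L821550 q30102, e3 q29308 (flp_f L812669) q28278, e3 q29309 L812691 q28281, e3 q29310 L821563 q30103, e3 q29311 (flp_f L812713) q28282, trivial⟩ (by decide +kernel)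

theorem ce_f_458 : ∀ r, r < 64 → sm gf (Qf (29312 + r)) = Qf (tab Gen.f (29312 + r)) :=
  edges_tab (sm gf) Qf (tab Gen.f) 29312 [(29312, 30059), (29313, 28341), (29314, 28339), (29315, 28337), (29316, 28340), (29317, 30108), (29318, 28358), (29319, 28293), (29320, 30110), (29321, 28378), (29322, 28297), (29323, 28372), (29324, 28300), (29325, 28379), (29326, 28376), (29327, 28374), (29328, 28370), (29329, 28506), (29330, 28310), (29331, 29947), (29332, 30116), (29333, 28313), (29334, 29953), (29335, 29954), (29336, 29873), (29337, 30123), (29338, 30124), (29339, 28315), (29340, 28614), (29341, 28317), (29342, 30091), (29343, 28747), (29344, 29867), (29345, 30130), (29346, 30131), (29347, 28322), (29348, 28615), (29349, 28327), (29350, 30135), (29351, 30136), (29352, 28325), (29353, 28730), (29354, 30139), (29355, 28328), (29356, 28592), (29357, 28613), (29358, 30070), (29359, 30071), (29360, 28634), (29361, 28486), (29362, 30106), (29363, 28511), (29364, 30105), (29365, 30097), (29366, 30104), (29367, 30058), (29368, 28439),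 (29369, 30152), (29370, 28824), (29371, 28345), (29372, 30153), (29373, 28348), (29374, 29897), (29375, 30156)]
    ⟨e3 q29312 (flp_f L820908) q30059, e3 q29313 L812741 q28341, e3 q29314 L812761 q28339, e3 q29315 L812776 q28337, e3 q29316 L812790 q28340, e3 q29317 L821647 q30108, e3 q29318 (flp_f L812828) q28358, e3 q29319 (flp_f L812830) q28293, e3 q29320 L821685 q30110, e3 q29321 (flp_f L812872) q28378, e3 q29322 (flp_f L812874) q28297, e3 q29323 L812898 q28372, e3 q29324 (flp_f L812904) q28300, e3 q29325 L812920 q28379, e3 q29326 L812932 q28376, e3 q29327 L812946 q28374, e3 q29328 L812959 q28370, e3 q29329 L812971 q28506, e3 q29330 L812987 q28310, e3 q29331 (flp_f L819320) q29947, e3 q29332 (flp_f L821783) q30116, e3 q29333 L813029 q28313, e3 q29334 (flp_f L819418) q29953, e3 q29335 (flp_f L819424) q29954, e3 q29336 (flp_f L818219) q29873, e3 q29337 L821862 q30123, e3 q29338 L821870 q30124, e3 q29339 (flp_f L813086) q28315, e3 q29340 L813100 q28614, e3 q29341 (flp_f L813104) q28317, e3 q29342 (flp_f L821413) q30091, e3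 q29343 L813129 q28747, e3 q29344 (flp_f L818121) q29867, e3 q29345 L821938 q30130, e3 q29346 L821944 q30131, e3 q29347 (flp_f L813164) q28322, e3 q29348 L813175 q28615, e3 q29349 L813181 q28327, e3 q29350 L821975 q30135, e3 q29351 L821983 q30136, e3 q29352 (flp_f L813204) q28325, e3 q29353 L813219 q28730, e3 q29354 L822011 q30139, e3 q29355 (flp_f L813229) q28328, e3 q29356 L813243 q28592, e3 q29357 L813253 q28613, e3 q29358 (flp_f L821076) q30070, e3 q29359 (flp_f L821082) q30071, e3 q29360 L813282 q28634, e3 q29361 L813292 q28486, e3 q29362 (flp_f L821621) q30106, e3 q29363 L813322 q28511, e3 q29364 (flp_f L821607) q30105, e3 q29365 (flp_f L821490) q30097, e3 q29366 (flp_f L821587) q30104, e3 q29367 (flp_f L820888) q30058, e3 q29368 L813381 q28439, e3 q29369 L822163 q30152, e3 q29370 (flp_f L813416) q28824, e3 q29371 (flp_f L813418) q28345, e3 q29372 L822179 q30153, e3 q29373 (flp_f L813450) q28348, e3 q29374 (flp_f L818574) q29897, e3 q29375 L822215 q30156, trivial⟩ (by decide +kernel)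

theorem ce_f_459 : ∀ r, r < 64 → sm gf (Qf (29376 + r)) = Qf (tab Gen.f (29376 + r)) :=
  edges_tab (sm gf) Qf (tab Gen.f) 29376 [(29376, 30157), (29377, 28351), (29378, 30159), (29379, 30161), (29380, 28354), (29381, 28355), (29382, 30107), (29383, 28359), (29384, 28738), (29385, 30079), (29386, 28633), (29387, 28581), (29388, 28899), (29389, 28373), (29390, 30112), (29391, 28375), (29392, 30111), (29393, 30044), (29394, 30165), (29395, 30114), (29396, 30113), (29397, 30109), (29398, 28872), (29399, 28389), (29400, 30172), (29401, 29964), (29402, 28384), (29403, 30060), (29404, 30174), (29405, 28387), (29406, 30175), (29407, 28390), (29408, 30176), (29409, 28393), (29410, 28395), (29411, 28404), (29412, 30179), (29413, 30180), (29414, 28398), (29415, 30183), (29416, 30185), (29417, 28401), (29418, 28402), (29419, 30039), (29420, 30190), (29421, 30191), (29422, 28405), (29423, 28406), (29424, 28589), (29425, 30193), (29426, 28409), (29427, 28410), (29428, 28659), (29429, 28698), (29430, 28660), (29431, 28897), (29432, 30098),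 (29433, 28416), (29434, 30038), (29435, 28538), (29436, 28913), (29437, 30052), (29438, 28954), (29439, 29877)]
    ⟨e3 q29376 L822223 q30157, e3 q29377 (flp_f L813491) q28351, e3 q29378 L822236 q30159, e3 q29379 L822247 q30161, e3 q29380 (flp_f L813513) q28354, e3 q29381 (flp_f L813519) q28355, e3 q29382 L821645 q30107, e3 q29383 (flp_f L813536) q28359, e3 q29384 L813556 q28738, e3 q29385 (flp_f L821213) q30079, e3 q29386 L813570 q28633, e3 q29387 L813578 q28581, e3 q29388 L813594 q28899, e3 q29389 L813600 q28373, e3 q29390 (flp_f L821725) q30112, e3 q29391 L813632 q28375, e3 q29392 (flp_f L821711) q30111, e3 q29393 (flp_f L820668) q30044, e3 q29394 (flp_f L822286) q30165, e3 q29395 (flp_f L821755) q30114, e3 q29396 (flp_f L821741) q30113, e3 q29397 L821683 q30109, e3 q29398 L813705 q28872, e3 q29399 L813721 q28389, e3 q29400 L822366 q30172, e3 q29401 (flp_f L819590) q29964, e3 q29402 (flp_f L813750) q28384, e3 q29403 (flp_f L820916) q30060, e3 q29404 L822394 q30174, e3 q29405 (flp_f L813790) q28387, e3 q29406 L822408 q30175,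 e3 q29407 (flp_f L813816) q28390, e3 q29408 L822422 q30176, e3 q29409 (flp_f L813844) q28393, e3 q29410 (flp_f L813860) q28395, e3 q29411 L813876 q28404, e3 q29412 L822454 q30179, e3 q29413 L822462 q30180, e3 q29414 (flp_f L813893) q28398, e3 q29415 L822480 q30183, e3 q29416 L822493 q30185, e3 q29417 (flp_f L813913) q28401, e3 q29418 (flp_f L813921) q28402, e3 q29419 (flp_f L820599) q30039, e3 q29420 L822543 q30190, e3 q29421 L822549 q30191, e3 q29422 (flp_f L813953) q28405, e3 q29423 (flp_f L813959) q28406, e3 q29424 L813977 q28589, e3 q29425 L822573 q30193, e3 q29426 (flp_f L813995) q28409, e3 q29427 (flp_f L814001) q28410, e3 q29428 L814021 q28659, e3 q29429 L814035 q28698, e3 q29430 L814047 q28660, e3 q29431 L814061 q28897, e3 q29432 (flp_f L821514) q30098, e3 q29433 (flp_f L814069) q28416, e3 q29434 (flp_f L820593) q30038, e3 q29435 L814087 q28538, e3 q29436 L814097 q28913, e3 q29437 L820784 q30052, e3 q29438 L814111 q28954, e3 q29439 (flp_f L818287) q29877, trivial⟩ (by decide +kernel)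

theorem ce_f_460 : ∀ r, r < 64 → sm gf (Qf (29440 + r)) = Qf (tab Gen.f (29440 + r)) :=
  edges_tab (sm gf) Qf (tab Gen.f) 29440 [(29440, 28674), (29441, 28438), (29442, 28540), (29443, 28541), (29444, 30203), (29445, 28440), (29446, 28576), (29447, 28577), (29448, 28447), (29449, 28583), (29450, 28584), (29451, 28594), (29452, 28635), (29453, 28636), (29454, 29965), (29455, 28714), (29456, 28716), (29457, 30034), (29458, 28951), (29459, 28952), (29460, 28472), (29461, 28927), (29462, 28928), (29463, 28476), (29464, 30218), (29465, 30219), (29466, 28474), (29467, 29882), (29468, 30222), (29469, 28477), (29470, 28513), (29471, 28934), (29472, 28935), (29473, 28777), (29474, 28485), (29475, 28917), (29476, 28918), (29477, 30146), (29478, 30231), (29479, 30094), (29480, 28487), (29481, 28929), (29482, 28765), (29483, 28759), (29484, 28780), (29485, 28776), (29486, 30086), (29487, 28499), (29488, 28949), (29489, 28950), (29490, 30081), (29491, 28981), (29492, 28505), (29493, 28786), (29494, 28787), (29495, 30115), (29496, 30005),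 (29497, 29885), (29498, 28788), (29499, 28740), (29500, 30246), (29501, 30223), (29502, 28512), (29503, 28936)]
    ⟨e3 q29440 L814142 q28674, e3 q29441 L814148 q28438, e3 q29442 L814164 q28540, e3 q29443 L814170 q28541, e3 q29444 L822685 q30203, e3 q29445 (flp_f L814191) q28440, e3 q29446 L814209 q28576, e3 q29447 L814215 q28577, e3 q29448 L814225 q28447, e3 q29449 L814247 q28583, e3 q29450 L814253 q28584, e3 q29451 L814276 q28594, e3 q29452 L814288 q28635, e3 q29453 L814294 q28636, e3 q29454 (flp_f L819616) q29965, e3 q29455 L814318 q28714, e3 q29456 L814332 q28716, e3 q29457 (flp_f L820533) q30034, e3 q29458 L814360 q28951, e3 q29459 L814366 q28952, e3 q29460 L814382 q28472, e3 q29461 L814400 q28927, e3 q29462 L814406 q28928, e3 q29463 L814419 q28476, e3 q29464 L822869 q30218, e3 q29465 L822881 q30219, e3 q29466 (flp_f L814446) q28474, e3 q29467 (flp_f L818363) q29882, e3 q29468 L822919 q30222, e3 q29469 (flp_f L814487) q28477, e3 q29470 L814509 q28513, e3 q29471 L814521 q28934, e3 q29472 L814527 q28935, e3 q29473 L814534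 q28777, e3 q29474 L814544 q28485, e3 q29475 L814566 q28917, e3 q29476 L814572 q28918, e3 q29477 (flp_f L822085) q30146, e3 q29478 L823018 q30231, e3 q29479 (flp_f L821455) q30094, e3 q29480 (flp_f L814613) q28487, e3 q29481 L814633 q28929, e3 q29482 L814639 q28765, e3 q29483 L814655 q28759, e3 q29484 L814665 q28780, e3 q29485 L814677 q28776, e3 q29486 (flp_f L821337) q30086, e3 q29487 L814694 q28499, e3 q29488 L814716 q28949, e3 q29489 L814722 q28950, e3 q29490 (flp_f L821259) q30081, e3 q29491 L814745 q28981, e3 q29492 L814755 q28505, e3 q29493 L814777 q28786, e3 q29494 L814783 q28787, e3 q29495 (flp_f L821765) q30115, e3 q29496 (flp_f L820139) q30005, e3 q29497 (flp_f L818401) q29885, e3 q29498 L814836 q28788, e3 q29499 L814842 q28740, e3 q29500 L823191 q30246, e3 q29501 (flp_f L822943) q30223, e3 q29502 (flp_f L814864) q28512, e3 q29503 L814878 q28936, trivial⟩ (by decide +kernel)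

theorem ce_f_461 : ∀ r, r < 64 → sm gf (Qf (29504 + r)) = Qf (tab Gen.f (29504 + r)) :=
  edges_tab (sm gf) Qf (tab Gen.f) 29504 [(29504, 28811), (29505, 28524), (29506, 28968), (29507, 28969), (29508, 28970), (29509, 28971), (29510, 28745), (29511, 28746), (29512, 28744), (29513, 29929), (29514, 29928), (29515, 28964), (29516, 28536), (29517, 29946), (29518, 29938), (29519, 28953), (29520, 30199), (29521, 30188), (29522, 30201), (29523, 30202), (29524, 28832), (29525, 29889), (29526, 30266), (29527, 30267), (29528, 28543), (29529, 28720), (29530, 28545), (29531, 28972), (29532, 28552), (29533, 30271), (29534, 30249), (29535, 28550), (29536, 30273), (29537, 30274), (29538, 28553), (29539, 28554), (29540, 28721), (29541, 29978), (29542, 28561), (29543, 29918), (29544, 28939), (29545, 28792), (29546, 30280), (29547, 30281), (29548, 28563), (29549, 28569), (29550, 30285), (29551, 30287), (29552, 28566), (29553, 28567), (29554, 28818), (29555, 30283), (29556, 28570), (29557, 28662), (29558, 29958), (29559, 29959), (29560, 28807),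 (29561, 30204), (29562, 30205), (29563, 28860), (29564, 28858), (29565, 28590), (29566, 30164), (29567, 30145)]
    ⟨e3 q29504 L814888 q28811, e3 q29505 L814902 q28524, e3 q29506 L814924 q28968, e3 q29507 L814930 q28969, e3 q29508 L814945 q28970, e3 q29509 L814951 q28971, e3 q29510 L814958 q28745, e3 q29511 L814968 q28746, e3 q29512 L814980 q28744, e3 q29513 L819061 q29929, e3 q29514 L819043 q29928, e3 q29515 L814996 q28964, e3 q29516 L815012 q28536, e3 q29517 (flp_f L819306) q29946, e3 q29518 (flp_f L819184) q29938, e3 q29519 L815049 q28953, e3 q29520 (flp_f L822649) q30199, e3 q29521 (flp_f L822527) q30188, e3 q29522 (flp_f L822671) q30201, e3 q29523 (flp_f L822677) q30202, e3 q29524 L815087 q28832, e3 q29525 (flp_f L818446) q29889, e3 q29526 L823378 q30266, e3 q29527 L823388 q30267, e3 q29528 (flp_f L815127) q28543, e3 q29529 L815147 q28720, e3 q29530 (flp_f L815151) q28545, e3 q29531 L815171 q28972, e3 q29532 L815187 q28552, e3 q29533 L823434 q30271, e3 q29534 (flp_f L823232) q30249, e3 q29535 (flp_f L815210) q28550,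 e3 q29536 L823452 q30273, e3 q29537 L823460 q30274, e3 q29538 (flp_f L815234) q28553, e3 q29539 (flp_f L815242) q28554, e3 q29540 L815258 q28721, e3 q29541 (flp_f L819816) q29978, e3 q29542 L815283 q28561, e3 q29543 L818887 q29918, e3 q29544 L815311 q28939, e3 q29545 L815325 q28792, e3 q29546 L823530 q30280, e3 q29547 L823538 q30281, e3 q29548 (flp_f L815348) q28563, e3 q29549 L815363 q28569, e3 q29550 L823572 q30285, e3 q29551 L823583 q30287, e3 q29552 (flp_f L815375) q28566, e3 q29553 (flp_f L815381) q28567, e3 q29554 L815395 q28818, e3 q29555 (flp_f L823564) q30283, e3 q29556 (flp_f L815405) q28570, e3 q29557 L815415 q28662, e3 q29558 (flp_f L819505) q29958, e3 q29559 (flp_f L819511) q29959, e3 q29560 L815440 q28807, e3 q29561 (flp_f L822703) q30204, e3 q29562 (flp_f L822709) q30205, e3 q29563 L815457 q28860, e3 q29564 L815466 q28858, e3 q29565 L815472 q28590, e3 q29566 (flp_f L822276) q30164, e3 q29567 (flp_f L822073) q30145, trivial⟩ (by decide +kernel)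

theorem ce_f_462 : ∀ r, r < 64 → sm gf (Qf (29568 + r)) = Qf (tab Gen.f (29568 + r)) :=
  edges_tab (sm gf) Qf (tab Gen.f) 29568 [(29568, 30206), (29569, 30207), (29570, 28628), (29571, 28805), (29572, 29982), (29573, 30192), (29574, 30141), (29575, 30307), (29576, 30140), (29577, 28591), (29578, 30132), (29579, 28840), (29580, 28826), (29581, 28831), (29582, 28829), (29583, 28600), (29584, 28912), (29585, 28798), (29586, 28796), (29587, 28809), (29588, 28806), (29589, 28625), (29590, 28852), (29591, 28859), (29592, 28846), (29593, 28857), (29594, 30126), (29595, 29916), (29596, 28847), (29597, 28642), (29598, 28651), (29599, 30317), (29600, 30294), (29601, 30326), (29602, 30303), (29603, 28627), (29604, 28630), (29605, 30163), (29606, 30144), (29607, 30208), (29608, 30209), (29609, 28938), (29610, 30055), (29611, 28848), (29612, 30321), (29613, 30322), (29614, 28647), (29615, 30027), (29616, 30028), (29617, 28803), (29618, 30082), (29619, 30340), (29620, 28649), (29621, 30342), (29622, 30343), (29623, 28652), (29624, 28653),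 (29625, 30345), (29626, 28804), (29627, 28802), (29628, 28800), (29629, 30194), (29630, 30196), (29631, 30290)]
    ⟨e3 q29568 (flp_f L822728) q30206, e3 q29569 (flp_f L822734) q30207, e3 q29570 L815524 q28628, e3 q29571 L815540 q28805, e3 q29572 (flp_f L819862) q29982, e3 q29573 (flp_f L822569) q30192, e3 q29574 (flp_f L822035) q30141, e3 q29575 L823771 q30307, e3 q29576 (flp_f L822025) q30140, e3 q29577 (flp_f L815606) q28591, e3 q29578 (flp_f L821955) q30132, e3 q29579 L815624 q28840, e3 q29580 L815636 q28826, e3 q29581 L815652 q28831, e3 q29582 L815662 q28829, e3 q29583 L815674 q28600, e3 q29584 L815692 q28912, e3 q29585 L815698 q28798, e3 q29586 L815714 q28796, e3 q29587 L815722 q28809, e3 q29588 L815740 q28806, e3 q29589 L815750 q28625, e3 q29590 L815762 q28852, e3 q29591 L815776 q28859, e3 q29592 L815786 q28846, e3 q29593 L815796 q28857, e3 q29594 (flp_f L821900) q30126, e3 q29595 (flp_f L818852) q29916, e3 q29596 L815823 q28847, e3 q29597 L815836 q28642, e3 q29598 L815848 q28651, e3 q29599 (flp_f L823891) q30317,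 e3 q29600 (flp_f L823649) q30294, e3 q29601 L823982 q30326, e3 q29602 (flp_f L823725) q30303, e3 q29603 (flp_f L815891) q28627, e3 q29604 (flp_f L815907) q28630, e3 q29605 (flp_f L822268) q30163, e3 q29606 (flp_f L822062) q30144, e3 q29607 (flp_f L822750) q30208, e3 q29608 (flp_f L822758) q30209, e3 q29609 L815952 q28938, e3 q29610 (flp_f L820838) q30055, e3 q29611 L815970 q28848, e3 q29612 (flp_f L823937) q30321, e3 q29613 (flp_f L823948) q30322, e3 q29614 L816001 q28647, e3 q29615 (flp_f L820443) q30027, e3 q29616 (flp_f L820449) q30028, e3 q29617 L816030 q28803, e3 q29618 (flp_f L821269) q30082, e3 q29619 L824107 q30340, e3 q29620 (flp_f L816060) q28649, e3 q29621 L824127 q30342, e3 q29622 L824137 q30343, e3 q29623 (flp_f L816084) q28652, e3 q29624 (flp_f L816094) q28653, e3 q29625 (flp_f L824159) q30345, e3 q29626 L816116 q28804, e3 q29627 L816130 q28802, e3 q29628 L816140 q28800, e3 q29629 (flp_f L822595) q30194, e3 q29630 (flp_f L822621) q30196, e3 q29631 (flp_f L823615) q30290, trivial⟩ (by decide +kernel)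

theorem ce_f_463 : ∀ r, r < 64 → sm gf (Qf (29632 + r)) = Qf (tab Gen.f (29632 + r)) :=
  edges_tab (sm gf) Qf (tab Gen.f) 29632 [(29632, 28661), (29633, 30275), (29634, 29924), (29635, 29899), (29636, 28943), (29637, 28947), (29638, 28942), (29639, 28946), (29640, 28986), (29641, 28975), (29642, 28976), (29643, 28749), (29644, 30360), (29645, 30220), (29646, 28676), (29647, 28991), (29648, 30363), (29649, 30364), (29650, 28679), (29651, 30367), (29652, 30369), (29653, 28682), (29654, 28683), (29655, 30018), (29656, 30019), (29657, 29891), (29658, 30375), (29659, 28688), (29660, 30377), (29661, 28689), (29662, 28815), (29663, 30187), (29664, 28813), (29665, 29969), (29666, 28695), (29667, 30195), (29668, 30382), (29669, 28700), (29670, 28702), (29671, 28814), (29672, 28812), (29673, 28827), (29674, 28850), (29675, 28849), (29676, 28987), (29677, 30056), (29678, 30210), (29679, 28842), (29680, 28718), (29681, 29893), (29682, 30268), (29683, 28940), (29684, 28748), (29685, 28985), (29686, 28768), (29687, 30138), (29688, 28907),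 (29689, 28822), (29690, 28823), (29691, 30078), (29692, 30244), (29693, 30253), (29694, 30252), (29695, 30127)]
    ⟨e3 q29632 (flp_f L816172) q28661, e3 q29633 (flp_f L823480) q30275, e3 q29634 L818977 q29924, e3 q29635 L818614 q29899, e3 q29636 L816202 q28943, e3 q29637 L816210 q28947, e3 q29638 L816220 q28942, e3 q29639 L816228 q28946, e3 q29640 L816236 q28986, e3 q29641 L816252 q28975, e3 q29642 L816258 q28976, e3 q29643 L816266 q28749, e3 q29644 L824292 q30360, e3 q29645 (flp_f L822901) q30220, e3 q29646 (flp_f L816291) q28676, e3 q29647 L816305 q28991, e3 q29648 L824318 q30363, e3 q29649 L824326 q30364, e3 q29650 (flp_f L816326) q28679, e3 q29651 L824344 q30367, e3 q29652 L824357 q30369, e3 q29653 (flp_f L816348) q28682, e3 q29654 (flp_f L816356) q28683, e3 q29655 (flp_f L820307) q30018, e3 q29656 (flp_f L820313) q30019, e3 q29657 L818487 q29891, e3 q29658 L824393 q30375, e3 q29659 (flp_f L816382) q28688, e3 q29660 L824411 q30377, e3 q29661 (flp_f L816397) q28689, e3 q29662 L816409 q28815, e3 q29663 (flp_f L822518)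 q30187, e3 q29664 L816429 q28813, e3 q29665 (flp_f L819670) q29969, e3 q29666 (flp_f L816443) q28695, e3 q29667 (flp_f L822609) q30195, e3 q29668 L824457 q30382, e3 q29669 (flp_f L816473) q28700, e3 q29670 (flp_f L816485) q28702, e3 q29671 L816499 q28814, e3 q29672 L816507 q28812, e3 q29673 L816515 q28827, e3 q29674 L816527 q28850, e3 q29675 L816537 q28849, e3 q29676 L816545 q28987, e3 q29677 (flp_f L820856) q30056, e3 q29678 (flp_f L822777) q30210, e3 q29679 L816569 q28842, e3 q29680 L816575 q28718, e3 q29681 (flp_f L818518) q29893, e3 q29682 (flp_f L823408) q30268, e3 q29683 L816603 q28940, e3 q29684 L816615 q28748, e3 q29685 L816625 q28985, e3 q29686 L816633 q28768, e3 q29687 (flp_f L822009) q30138, e3 q29688 L816659 q28907, e3 q29689 L816675 q28822, e3 q29690 L816681 q28823, e3 q29691 (flp_f L821205) q30078, e3 q29692 (flp_f L823175) q30244, e3 q29693 (flp_f L823267) q30253, e3 q29694 (flp_f L823255) q30252, e3 q29695 (flp_f L821910) q30127, trivial⟩ (by decide +kernel)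

theorem ce_f_464 : ∀ r, r < 64 → sm gf (Qf (29696 + r)) = Qf (tab Gen.f (29696 + r)) :=
  edges_tab (sm gf) Qf (tab Gen.f) 29696 [(29696, 30389), (29697, 30396), (29698, 28750), (29699, 28977), (29700, 28978), (29701, 28883), (29702, 30401), (29703, 28756), (29704, 28760), (29705, 30234), (29706, 30215), (29707, 30404), (29708, 28761), (29709, 28771), (29710, 30233), (29711, 28766), (29712, 30390), (29713, 30408), (29714, 30405), (29715, 28770), (29716, 28773), (29717, 30235), (29718, 30226), (29719, 28778), (29720, 28994), (29721, 28973), (29722, 30240), (29723, 30241), (29724, 29966), (29725, 30416), (29726, 30373), (29727, 28790), (29728, 30417), (29729, 28793), (29730, 28941), (29731, 30315), (29732, 30016), (29733, 30314), (29734, 28945), (29735, 30348), (29736, 30338), (29737, 30347), (29738, 30337), (29739, 30316), (29740, 30293), (29741, 30383), (29742, 30380), (29743, 30376), (29744, 30378), (29745, 30430), (29746, 30288), (29747, 28817), (29748, 28820), (29749, 30391), (29750, 30392), (29751, 30151), (29752, 30066),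 (29753, 30311), (29754, 28833), (29755, 30313), (29756, 30263), (29757, 30312), (29758, 30262), (29759, 30440)]
    ⟨e3 q29696 (flp_f L824531) q30389, e3 q29697 L824599 q30396, e3 q29698 (flp_f L816767) q28750, e3 q29699 L816783 q28977, e3 q29700 L816789 q28978, e3 q29701 L816796 q28883, e3 q29702 L824641 q30401, e3 q29703 (flp_f L816808) q28756, e3 q29704 L816822 q28760, e3 q29705 (flp_f L823056) q30234, e3 q29706 (flp_f L822843) q30215, e3 q29707 L824673 q30404, e3 q29708 (flp_f L816863) q28761, e3 q29709 L816883 q28771, e3 q29710 (flp_f L823042) q30233, e3 q29711 (flp_f L816897) q28766, e3 q29712 (flp_f L824539) q30390, e3 q29713 L824709 q30408, e3 q29714 (flp_f L824693) q30405, e3 q29715 (flp_f L816929) q28770, e3 q29716 (flp_f L816939) q28773, e3 q29717 (flp_f L823068) q30235, e3 q29718 (flp_f L822964) q30226, e3 q29719 (flp_f L816969) q28778, e3 q29720 L816987 q28994, e3 q29721 L816993 q28973, e3 q29722 (flp_f L823135) q30240, e3 q29723 (flp_f L823141) q30241, e3 q29724 (flp_f L819624) q29966, e3 q29725 L824785 q30416,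 e3 q29726 (flp_f L824385) q30373, e3 q29727 (flp_f L817042) q28790, e3 q29728 L824791 q30417, e3 q29729 (flp_f L817058) q28793, e3 q29730 L817070 q28941, e3 q29731 (flp_f L823867) q30315, e3 q29732 (flp_f L820269) q30016, e3 q29733 (flp_f L823849) q30314, e3 q29734 L817109 q28945, e3 q29735 (flp_f L824189) q30348, e3 q29736 (flp_f L824091) q30338, e3 q29737 (flp_f L824179) q30347, e3 q29738 (flp_f L824080) q30337, e3 q29739 (flp_f L823879) q30316, e3 q29740 (flp_f L823638) q30293, e3 q29741 (flp_f L824475) q30383, e3 q29742 (flp_f L824443) q30380, e3 q29743 (flp_f L824407) q30376, e3 q29744 (flp_f L824425) q30378, e3 q29745 L824882 q30430, e3 q29746 (flp_f L823599) q30288, e3 q29747 (flp_f L817195) q28817, e3 q29748 (flp_f L817201) q28820, e3 q29749 (flp_f L824551) q30391, e3 q29750 (flp_f L824563) q30392, e3 q29751 L822161 q30151, e3 q29752 L821020 q30066, e3 q29753 (flp_f L823815) q30311, e3 q29754 L817237 q28833, e3 q29755 (flp_f L823839) q30313, e3 q29756 (flp_f L823350) q30263, e3 q29757 (flp_f L823829) q30312, e3 q29758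 (flp_f L823339) q30262, e3 q29759 L824947 q30440, trivial⟩ (by decide +kernel)

theorem ce_f_465 : ∀ r, r < 64 → sm gf (Qf (29760 + r)) = Qf (tab Gen.f (29760 + r)) :=
  edges_tab (sm gf) Qf (tab Gen.f) 29760 [(29760, 28834), (29761, 29896), (29762, 28837), (29763, 29922), (29764, 30386), (29765, 29944), (29766, 30318), (29767, 30320), (29768, 30384), (29769, 30025), (29770, 30026), (29771, 30319), (29772, 30298), (29773, 30296), (29774, 30297), (29775, 28861), (29776, 30017), (29777, 28867), (29778, 29951), (29779, 30452), (29780, 30048), (29781, 28870), (29782, 30454), (29783, 30047), (29784, 28873), (29785, 28876), (29786, 28885), (29787, 30458), (29788, 30400), (29789, 28879), (29790, 30460), (29791, 30399), (29792, 28882), (29793, 30462), (29794, 28886), (29795, 28888), (29796, 28890), (29797, 29861), (29798, 29962), (29799, 29963), (29800, 30014), (29801, 30015), (29802, 30045), (29803, 30046), (29804, 28937), (29805, 30227), (29806, 30228), (29807, 30095), (29808, 30096), (29809, 28979), (29810, 28980), (29811, 29955),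 (29812, 30213), (29813, 30214), (29814, 29956), (29815, 29957), (29816, 30224), (29817, 30225), (29818, 30331), (29819, 30332), (29820, 30353), (29821, 30354), (29822, 30054), (29823, 30355)]
    ⟨e3 q29760 (flp_f L817288) q28834, e3 q29761 (flp_f L818564) q29896, e3 q29762 (flp_f L817302) q28837, e3 q29763 (flp_f L818947) q29922, e3 q29764 (flp_f L824505) q30386, e3 q29765 L819280 q29944, e3 q29766 (flp_f L823905) q30318, e3 q29767 (flp_f L823923) q30320, e3 q29768 (flp_f L824485) q30384, e3 q29769 (flp_f L820409) q30025, e3 q29770 (flp_f L820415) q30026, e3 q29771 (flp_f L823915) q30319, e3 q29772 (flp_f L823680) q30298, e3 q29773 (flp_f L823663) q30296, e3 q29774 (flp_f L823672) q30297, e3 q29775 (flp_f L817389) q28861, e3 q29776 (flp_f L820291) q30017, e3 q29777 (flp_f L817401) q28867, e3 q29778 (flp_f L819374) q29951, e3 q29779 L825026 q30452, e3 q29780 (flp_f L820708) q30048, e3 q29781 (flp_f L817434) q28870, e3 q29782 L825040 q30454, e3 q29783 (flp_f L820697) q30047, e3 q29784 (flp_f L817454) q28873, e3 q29785 (flp_f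 L817460) q28876, e3 q29786 L817472 q28885, e3 q29787 L825069 q30458, e3 q29788 (flp_f L824639) q30400, e3 q29789 (flp_f L817495) q28879, e3 q29790 L825087 q30460, e3 q29791 (flp_f L824628) q30399, e3 q29792 (flp_f L817519) q28882, e3 q29793 L825104 q30462, e3 q29794 (flp_f L817535) q28886, e3 q29795 (flp_f L817541) q28888, e3 q29796 (flp_f L817547) q28890, e3 q29797 (flp_f L818020) q29861, e3 q29798 (flp_f L819569) q29962, e3 q29799 (flp_f L819575) q29963, e3 q29800 (flp_f L820254) q30014, e3 q29801 (flp_f L820260) q30015, e3 q29802 (flp_f L820680) q30045, e3 q29803 (flp_f L820686) q30046, e3 q29804 L817602 q28937, e3 q29805 (flp_f L822982) q30227, e3 q29806 (flp_f L822988) q30228, e3 q29807 (flp_f L821473) q30095, e3 q29808 (flp_f L821479) q30096, e3 q29809 L817638 q28979, e3 q29810 L817642 q28980, e3 q29811 (flp_f L819453) q29955, e3 q29812 (flp_f L822824) q30213, e3 q29813 (flp_f L822830) q30214, e3 q29814 (flp_f L819471) q29956, e3 q29815 (flp_f L819477) q29957, e3 q29816 (flp_f L822953) q30224, e3 q29817 (flp_f L822957)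 q30225, e3 q29818 (flp_f L824030) q30331, e3 q29819 (flp_f L824041) q30332, e3 q29820 (flp_f L824231) q30353, e3 q29821 (flp_f L824245) q30354, e3 q29822 (flp_f L820806) q30054, e3 q29823 (flp_f L824253) q30355, trivial⟩ (by decide +kernel)

theorem ce_f_466 : ∀ r, r < 64 → sm gf (Qf (29824 + r)) = Qf (tab Gen.f (29824 + r)) :=
  edges_tab (sm gf) Qf (tab Gen.f) 29824 [(29824, 30236), (29825, 30237), (29826, 30211), (29827, 30212), (29828, 30200), (29829, 29960), (29830, 29961), (29831, 28966), (29832, 28974), (29833, 28965), (29834, 28962), (29835, 29989), (29836, 30487), (29837, 30485), (29838, 30486), (29839, 30484), (29840, 30247), (29841, 30248), (29842, 30250), (29843, 30251), (29844, 30411), (29845, 30356), (29846, 30357), (29847, 30397), (29848, 30398), (29849, 30472), (29850, 30238), (29851, 30239), (29852, 28995), (29853, 30385), (29854, 28993), (29855, 28992), (29856, 30500), (29857, 29004), (29858, 29007), (29859, 29009), (29860, 29010), (29861, 29797), (29862, 30501), (29863, 30502), (29864, 29013), (29865, 29148),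 (29866, 29149), (29867, 29344), (29868, 30509), (29869, 30510), (29870, 29015), (29871, 29066), (29872, 29017), (29873, 29336), (29874, 30514), (29875, 30515), (29876, 29021), (29877, 29439), (29878, 29026), (29879, 30519), (29880, 30520), (29881, 29024), (29882, 29467), (29883, 30523), (29884, 29027), (29885, 29497), (29886, 29168), (29887, 29169)]
    ⟨e3 q29824 (flp_f L823084) q30236, e3 q29825 (flp_f L823090) q30237, e3 q29826 (flp_f L822789) q30211, e3 q29827 (flp_f L822803) q30212, e3 q29828 (flp_f L822659) q30200, e3 q29829 (flp_f L819539) q29960, e3 q29830 (flp_f L819545) q29961, e3 q29831 L817773 q28966, e3 q29832 L817781 q28974, e3 q29833 L817789 q28965, e3 q29834 L817795 q28962, e3 q29835 (flp_f L819962) q29989, e3 q29836 (flp_f L825265) q30487, e3 q29837 (flp_f L825253) q30485, e3 q29838 (flp_f L825259) q30486, e3 q29839 (flp_f L825244) q30484, e3 q29840 (flp_f L823215) q30247, e3 q29841 (flp_f L823221) q30248, e3 q29842 (flp_f L823244) q30250, e3 q29843 (flp_f L823248) q30251, e3 q29844 (flp_f L824744) q30411,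 e3 q29845 (flp_f L824261) q30356, e3 q29846 (flp_f L824267) q30357, e3 q29847 (flp_f L824617) q30397, e3 q29848 (flp_f L824621) q30398, e3 q29849 (flp_f L825174) q30472, e3 q29850 (flp_f L823106) q30238, e3 q29851 (flp_f L823114) q30239, e3 q29852 L817908 q28995, e3 q29853 (flp_f L824497) q30385, e3 q29854 L817926 q28993, e3 q29855 L817932 q28992, e3 q29856 (flp_f L825341) q30500, e3 q29857 L817960 q29004, e3 q29858 L817968 q29007, e3 q29859 L817988 q29009, e3 q29860 L818006 q29010, e3 q29861 L818020 q29797, e3 q29862 (flp_f L825353) q30501, e3 q29863 (flp_f L825371) q30502, e3 q29864 L818072 q29013, e3 q29865 L818098 q29148, e3 q29866 L818104 q29149, e3 q29867 L818121 q29344, e3 q29868 L825478 q30509, e3 q29869 L825492 q30510, e3 q29870 (flp_f L818163) q29015, e3 q29871 L818191 q29066, e3 q29872 (flp_f L818195) q29017, e3 q29873 L818219 q29336, e3 q29874 L825558 q30514, e3 q29875 L825572 q30515, e3 q29876 (flp_f L818260) q29021, e3 q29877 L818287 q29439, e3 q29878 L818297 q29026, e3 q29879 L825629 q30519, e3 q29880 L825643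 q30520, e3 q29881 (flp_f L818336) q29024, e3 q29882 L818363 q29467, e3 q29883 L825685 q30523, e3 q29884 (flp_f L818381) q29027, e3 q29885 L818401 q29497, e3 q29886 L818417 q29168, e3 q29887 L818423 q29169, trivial⟩ (by decide +kernel)

theorem ce_f_467 : ∀ r, r < 64 → sm gf (Qf (29888 + r)) = Qf (tab Gen.f (29888 + r)) :=
  edges_tab (sm gf) Qf (tab Gen.f) 29888 [(29888, 29170), (29889, 29525), (29890, 30531), (29891, 29657), (29892, 29035), (29893, 29681), (29894, 30533), (29895, 29038), (29896, 29761), (29897, 29374), (29898, 30537), (29899, 29635), (29900, 29042), (29901, 29187), (29902, 29188), (29903, 29189), (29904, 29152), (29905, 30543), (29906, 30544), (29907, 29048), (29908, 30546), (29909, 30548), (29910, 29051), (29911, 29052), (29912, 29054), (29913, 29206), (29914, 29207), (29915, 29208), (29916, 29595), (29917, 30553), (29918, 29543), (29919, 29063), (29920, 30511), (29921, 29067), (29922, 29763), (29923, 30557), (29924, 29634), (29925, 29071), (29926, 29228), (29927, 29157), (29928, 29514), (29929, 29513),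 (29930, 29088), (29931, 30561), (29932, 30562), (29933, 29082), (29934, 30565), (29935, 30567), (29936, 29085), (29937, 29086), (29938, 29518), (29939, 30570), (29940, 29089), (29941, 29151), (29942, 29092), (29943, 29223), (29944, 29765), (29945, 29095), (29946, 29517), (29947, 29331), (29948, 29242), (29949, 29243), (29950, 29244), (29951, 29778)]
    ⟨e3 q29888 L818434 q29170, e3 q29889 L818446 q29525, e3 q29890 L825787 q30531, e3 q29891 (flp_f L818487) q29657, e3 q29892 (flp_f L818489) q29035, e3 q29893 L818518 q29681, e3 q29894 L825821 q30533, e3 q29895 (flp_f L818538) q29038, e3 q29896 L818564 q29761, e3 q29897 L818574 q29374, e3 q29898 L825885 q30537, e3 q29899 (flp_f L818614) q29635, e3 q29900 (flp_f L818616) q29042, e3 q29901 L818646 q29187, e3 q29902 L818652 q29188, e3 q29903 L818670 q29189, e3 q29904 L818682 q29152, e3 q29905 L825981 q30543, e3 q29906 L825997 q30544, e3 q29907 (flp_f L818723) q29048, e3 q29908 L826022 q30546, e3 q29909 L826045 q30548, e3 q29910 (flp_f L818759) q29051, e3 q29911 (flp_f L818771)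 q29052, e3 q29912 (flp_f L818784) q29054, e3 q29913 L818806 q29206, e3 q29914 L818824 q29207, e3 q29915 L818836 q29208, e3 q29916 L818852 q29595, e3 q29917 L826118 q30553, e3 q29918 (flp_f L818887) q29543, e3 q29919 (flp_f L818891) q29063, e3 q29920 (flp_f L825524) q30511, e3 q29921 (flp_f L818923) q29067, e3 q29922 L818947 q29763, e3 q29923 L826184 q30557, e3 q29924 (flp_f L818977) q29634, e3 q29925 (flp_f L818979) q29071, e3 q29926 L819001 q29228, e3 q29927 L819015 q29157, e3 q29928 (flp_f L819043) q29514, e3 q29929 (flp_f L819061) q29513, e3 q29930 L819069 q29088, e3 q29931 L826250 q30561, e3 q29932 L826266 q30562, e3 q29933 (flp_f L819108) q29082, e3 q29934 L826306 q30565, e3 q29935 L826333 q30567, e3 q29936 (flp_f L819148) q29085, e3 q29937 (flp_f L819162) q29086, e3 q29938 L819184 q29518, e3 q29939 L826376 q30570, e3 q29940 (flp_f L819206) q29089, e3 q29941 L819232 q29151, e3 q29942 (flp_f L819236) q29092, e3 q29943 L819262 q29223, e3 q29944 (flp_f L819280) q29765, e3 q29945 (flp_f L819282) q29095, e3 q29946 L819306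 q29517, e3 q29947 L819320 q29331, e3 q29948 L819342 q29242, e3 q29949 L819352 q29243, e3 q29950 L819362 q29244, e3 q29951 L819374 q29778, trivial⟩ (by decide +kernel)

theorem ce_f_468 : ∀ r, r < 64 → sm gf (Qf (29952 + r)) = Qf (tab Gen.f (29952 + r)) :=
  edges_tab (sm gf) Qf (tab Gen.f) 29952 [(29952, 29109), (29953, 29334), (29954, 29335), (29955, 29811), (29956, 29814), (29957, 29815), (29958, 29558), (29959, 29559), (29960, 29829), (29961, 29830), (29962, 29798), (29963, 29799), (29964, 29401), (29965, 29454), (29966, 29724), (29967, 30589), (29968, 29132), (29969, 29665), (29970, 30592), (29971, 30593), (29972, 29135), (29973, 29156), (29974, 29140), (29975, 30597), (29976, 30598), (29977, 29138), (29978, 29541), (29979, 30600), (29980, 29141), (29981, 29154), (29982, 29572), (29983, 30604), (29984, 30605), (29985, 29145), (29986, 30504), (29987, 30505), (29988, 30506), (29989, 29835), (29990, 30571), (29991, 30611), (29992, 30601), (29993, 29153), (29994, 30594), (29995, 30614), (29996, 30616), (29997, 29158), (29998,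 29159), (29999, 30619), (30000, 30621), (30001, 29162), (30002, 29163), (30003, 30623), (30004, 29165), (30005, 29496), (30006, 30525), (30007, 30526), (30008, 30527), (30009, 30528), (30010, 29184), (30011, 30631), (30012, 30632), (30013, 29172), (30014, 29800), (30015, 29801)]
    ⟨e3 q29952 L819392 q29109, e3 q29953 L819418 q29334, e3 q29954 L819424 q29335, e3 q29955 L819453 q29811, e3 q29956 L819471 q29814, e3 q29957 L819477 q29815, e3 q29958 L819505 q29558, e3 q29959 L819511 q29559, e3 q29960 L819539 q29829, e3 q29961 L819545 q29830, e3 q29962 L819569 q29798, e3 q29963 L819575 q29799, e3 q29964 L819590 q29401, e3 q29965 L819616 q29454, e3 q29966 L819624 q29724, e3 q29967 L826681 q30589, e3 q29968 (flp_f L819650) q29132, e3 q29969 L819670 q29665, e3 q29970 L826725 q30592, e3 q29971 L826739 q30593, e3 q29972 (flp_f L819711) q29135, e3 q29973 L819738 q29156, e3 q29974 L819748 q29140, e3 q29975 L826800 q30597, e3 q29976 L826814 q30598, e3 q29977 (flp_f L819789) q29138, e3 q29978 L819816 q29541, e3 q29979 L826845 q30600,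 e3 q29980 (flp_f L819834) q29141, e3 q29981 L819854 q29154, e3 q29982 L819862 q29572, e3 q29983 L826897 q30604, e3 q29984 L826913 q30605, e3 q29985 (flp_f L819903) q29145, e3 q29986 (flp_f L825413) q30504, e3 q29987 (flp_f L825419) q30505, e3 q29988 (flp_f L825436) q30506, e3 q29989 L819962 q29835, e3 q29990 (flp_f L826404) q30571, e3 q29991 L826987 q30611, e3 q29992 (flp_f L826865) q30601, e3 q29993 (flp_f L820008) q29153, e3 q29994 (flp_f L826766) q30594, e3 q29995 L827021 q30614, e3 q29996 L827042 q30616, e3 q29997 (flp_f L820050) q29158, e3 q29998 (flp_f L820060) q29159, e3 q29999 L827077 q30619, e3 q30000 L827098 q30621, e3 q30001 (flp_f L820089) q29162, e3 q30002 (flp_f L820099) q29163, e3 q30003 (flp_f L827125) q30623, e3 q30004 (flp_f L820123) q29165, e3 q30005 L820139 q29496, e3 q30006 (flp_f L825713) q30525, e3 q30007 (flp_f L825721) q30526, e3 q30008 (flp_f L825734) q30527, e3 q30009 (flp_f L825747) q30528, e3 q30010 L820187 q29184, e3 q30011 L827218 q30631, e3 q30012 L827234 q30632, e3 q30013 (flp_f L820226) q29172,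 e3 q30014 L820254 q29800, e3 q30015 L820260 q29801, trivial⟩ (by decide +kernel)

theorem ce_f_469 : ∀ r, r < 64 → sm gf (Qf (30016 + r)) = Qf (tab Gen.f (30016 + r)) :=
  edges_tab (sm gf) Qf (tab Gen.f) 30016 [(30016, 29732), (30017, 29776), (30018, 29655), (30019, 29656), (30020, 29182), (30021, 30640), (30022, 29185), (30023, 30539), (30024, 30540), (30025, 29769), (30026, 29770), (30027, 29615), (30028, 29616), (30029, 30647), (30030, 29198), (30031, 30648), (30032, 29199), (30033, 30617), (30034, 29457), (30035, 30550), (30036, 30551), (30037, 29224), (30038, 29434), (30039, 29419), (30040, 30654), (30041, 30656), (30042, 29212), (30043, 29213), (30044, 29393), (30045, 29802), (30046, 29803), (30047, 29783), (30048, 29780), (30049, 29234), (30050, 29220), (30051, 30572), (30052, 29437), (30053, 29226), (30054, 29822), (30055, 29610), (30056, 29677), (30057, 30575), (30058, 29367), (30059, 29312), (30060, 29403), (30061, 30664), (30062, 30587), (30063, 29255), (30064, 29260), (30065, 30667), (30066, 29752), (30067, 29258),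 (30068, 30668), (30069, 29261), (30070, 29358), (30071, 29359), (30072, 29287), (30073, 30672), (30074, 30674), (30075, 29269), (30076, 29270), (30077, 29272), (30078, 29691), (30079, 29385)]
    ⟨e3 q30016 L820269 q29732, e3 q30017 L820291 q29776, e3 q30018 L820307 q29655, e3 q30019 L820313 q29656, e3 q30020 (flp_f L820319) q29182, e3 q30021 L827329 q30640, e3 q30022 (flp_f L820351) q29185, e3 q30023 (flp_f L825927) q30539, e3 q30024 (flp_f L825945) q30540, e3 q30025 L820409 q29769, e3 q30026 L820415 q29770, e3 q30027 L820443 q29615, e3 q30028 L820449 q29616, e3 q30029 L827435 q30647, e3 q30030 (flp_f L820467) q29198, e3 q30031 L827449 q30648, e3 q30032 (flp_f L820490) q29199, e3 q30033 (flp_f L827063) q30617, e3 q30034 L820533 q29457, e3 q30035 (flp_f L826080) q30550, e3 q30036 (flp_f L826092) q30551, e3 q30037 L820567 q29224, e3 q30038 L820593 q29434, e3 q30039 L820599 q29419, e3 q30040 L827534 q30654, e3 q30041 L827559 q30656, e3 q30042 (flp_f L820632) q29212, e3 q30043 (flp_f L820646) q29213, e3 q30044 L820668 q29393,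 e3 q30045 L820680 q29802, e3 q30046 L820686 q29803, e3 q30047 L820697 q29783, e3 q30048 L820708 q29780, e3 q30049 L820730 q29234, e3 q30050 (flp_f L820732) q29220, e3 q30051 (flp_f L826422) q30572, e3 q30052 (flp_f L820784) q29437, e3 q30053 (flp_f L820786) q29226, e3 q30054 L820806 q29822, e3 q30055 L820838 q29610, e3 q30056 L820856 q29677, e3 q30057 (flp_f L826464) q30575, e3 q30058 L820888 q29367, e3 q30059 L820908 q29312, e3 q30060 L820916 q29403, e3 q30061 L827656 q30664, e3 q30062 (flp_f L826657) q30587, e3 q30063 (flp_f L820957) q29255, e3 q30064 L820979 q29260, e3 q30065 L827704 q30667, e3 q30066 (flp_f L821020) q29752, e3 q30067 (flp_f L821022) q29258, e3 q30068 L827722 q30668, e3 q30069 (flp_f L821052) q29261, e3 q30070 L821076 q29358, e3 q30071 L821082 q29359, e3 q30072 L821108 q29287, e3 q30073 L827773 q30672, e3 q30074 L827806 q30674, e3 q30075 (flp_f L821136) q29269, e3 q30076 (flp_f L821152) q29270, e3 q30077 (flp_f L821169) q29272, e3 q30078 L821205 q29691, e3 q30079 L821213 q29385, trivial⟩ (by decide +kernel)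

theorem ce_f_470 : ∀ r, r < 64 → sm gf (Qf (30080 + r)) = Qf (tab Gen.f (30080 + r)) :=
  edges_tab (sm gf) Qf (tab Gen.f) 30080 [(30080, 29288), (30081, 29490), (30082, 29618), (30083, 30677), (30084, 30637), (30085, 29290), (30086, 29486), (30087, 29295), (30088, 30681), (30089, 30682), (30090, 29293), (30091, 29342), (30092, 30685), (30093, 29296), (30094, 29479), (30095, 29807), (30096, 29808), (30097, 29365), (30098, 29432), (30099, 30691), (30100, 30693), (30101, 29306), (30102, 29307), (30103, 29310), (30104, 29366), (30105, 29364), (30106, 29362), (30107, 29382), (30108, 29317), (30109, 29397), (30110, 29320), (30111, 29392), (30112, 29390), (30113, 29396), (30114, 29395), (30115, 29495), (30116, 29332), (30117, 30574), (30118, 30569), (30119, 30576), (30120, 30577), (30121, 30705), (30122, 30706), (30123, 29337), (30124, 29338), (30125, 30684), (30126, 29594), (30127, 29695), (30128, 30710), (30129, 30712), (30130, 29345), (30131, 29346), (30132, 29578), (30133, 30717), (30134, 30719), (30135, 29350), (30136, 29351),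 (30137, 30723), (30138, 29687), (30139, 29354), (30140, 29576), (30141, 29574), (30142, 30669), (30143, 30670)]
    ⟨e3 q30080 L821233 q29288, e3 q30081 L821259 q29490, e3 q30082 L821269 q29618, e3 q30083 L827854 q30677, e3 q30084 (flp_f L827300) q30637, e3 q30085 (flp_f L821310) q29290, e3 q30086 L821337 q29486, e3 q30087 L821347 q29295, e3 q30088 L827912 q30681, e3 q30089 L827926 q30682, e3 q30090 (flp_f L821386) q29293, e3 q30091 L821413 q29342, e3 q30092 L827968 q30685, e3 q30093 (flp_f L821433) q29296, e3 q30094 L821455 q29479, e3 q30095 L821473 q29807, e3 q30096 L821479 q29808, e3 q30097 L821490 q29365, e3 q30098 L821514 q29432, e3 q30099 L828043 q30691, e3 q30100 L828066 q30693, e3 q30101 (flp_f L821536) q29306, e3 q30102 (flp_f L821550) q29307, e3 q30103 (flp_f L821563) q29310, e3 q30104 L821587 q29366, e3 q30105 L821607 q29364, e3 q30106 L821621 q29362, e3 q30107 (flp_f L821645) q29382, e3 q30108 (flp_f L821647) q29317, e3 q30109 (flp_f L821683) q29397, e3 q30110 (flp_f L821685) q29320, e3 q30111 L821711 q29392,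 e3 q30112 L821725 q29390, e3 q30113 L821741 q29396, e3 q30114 L821755 q29395, e3 q30115 L821765 q29495, e3 q30116 L821783 q29332, e3 q30117 (flp_f L826450) q30574, e3 q30118 (flp_f L826370) q30569, e3 q30119 (flp_f L826486) q30576, e3 q30120 (flp_f L826492) q30577, e3 q30121 L828224 q30705, e3 q30122 L828232 q30706, e3 q30123 (flp_f L821862) q29337, e3 q30124 (flp_f L821870) q29338, e3 q30125 (flp_f L827964) q30684, e3 q30126 L821900 q29594, e3 q30127 L821910 q29695, e3 q30128 L828276 q30710, e3 q30129 L828289 q30712, e3 q30130 (flp_f L821938) q29345, e3 q30131 (flp_f L821944) q29346, e3 q30132 L821955 q29578, e3 q30133 L828339 q30717, e3 q30134 L828356 q30719, e3 q30135 (flp_f L821975) q29350, e3 q30136 (flp_f L821983) q29351, e3 q30137 (flp_f L828404) q30723, e3 q30138 L822009 q29687, e3 q30139 (flp_f L822011) q29354, e3 q30140 L822025 q29576, e3 q30141 L822035 q29574, e3 q30142 (flp_f L827740) q30669, e3 q30143 (flp_f L827750) q30670, trivial⟩ (by decide +kernel)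

theorem ce_f_471 : ∀ r, r < 64 → sm gf (Qf (30144 + r)) = Qf (tab Gen.f (30144 + r)) :=
  edges_tab (sm gf) Qf (tab Gen.f) 30144 [(30144, 29606), (30145, 29567), (30146, 29477), (30147, 30696), (30148, 30695), (30149, 30689), (30150, 30734), (30151, 29751), (30152, 29369), (30153, 29372), (30154, 30737), (30155, 30739), (30156, 29375), (30157, 29376), (30158, 30742), (30159, 29378), (30160, 30743), (30161, 29379), (30162, 30714), (30163, 29605), (30164, 29566), (30165, 29394), (30166, 30698), (30167, 30697), (30168, 30657), (30169, 30699), (30170, 30750), (30171, 30586), (30172, 29400), (30173, 30752), (30174, 29404), (30175, 29406), (30176, 29408), (30177, 30754), (30178, 30756), (30179, 29412), (30180, 29413), (30181, 30758), (30182, 30760), (30183, 29415), (30184, 30762), (30185, 29416), (30186, 30652), (30187, 29663), (30188, 29521), (30189, 30766), (30190, 29420), (30191, 29421), (30192, 29573), (30193, 29425), (30194, 29629), (30195, 29667), (30196, 29630), (30197, 30516), (30198, 30651), (30199, 29520), (30200, 29828),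 (30201, 29522), (30202, 29523), (30203, 29444), (30204, 29561), (30205, 29562), (30206, 29568), (30207, 29569)]
    ⟨e3 q30144 L822062 q29606, e3 q30145 L822073 q29567, e3 q30146 L822085 q29477, e3 q30147 (flp_f L828115) q30696, e3 q30148 (flp_f L828101) q30695, e3 q30149 (flp_f L828025) q30689, e3 q30150 L828532 q30734, e3 q30151 (flp_f L822161) q29751, e3 q30152 (flp_f L822163) q29369, e3 q30153 (flp_f L822179) q29372, e3 q30154 L828573 q30737, e3 q30155 L828588 q30739, e3 q30156 (flp_f L822215) q29375, e3 q30157 (flp_f L822223) q29376, e3 q30158 L828615 q30742, e3 q30159 (flp_f L822236) q29378, e3 q30160 L828621 q30743, e3 q30161 (flp_f L822247) q29379, e3 q30162 (flp_f L828312) q30714, e3 q30163 L822268 q29605, e3 q30164 L822276 q29566, e3 q30165 L822286 q29394, e3 q30166 (flp_f L828147) q30698, e3 q30167 (flp_f L828133) q30697, e3 q30168 (flp_f L827579) q30657, e3 q30169 (flp_f L828165) q30699, e3 q30170 L828697 q30750, e3 q30171 (flp_f L826640) q30586, e3 q30172 (flp_f L822366) q29400, e3 q30173 L828724 q30752, e3 q30174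 (flp_f L822394) q29404, e3 q30175 (flp_f L822408) q29406, e3 q30176 (flp_f L822422) q29408, e3 q30177 L828746 q30754, e3 q30178 L828761 q30756, e3 q30179 (flp_f L822454) q29412, e3 q30180 (flp_f L822462) q29413, e3 q30181 (flp_f L828780) q30758, e3 q30182 L828794 q30760, e3 q30183 (flp_f L822480) q29415, e3 q30184 L828808 q30762, e3 q30185 (flp_f L822493) q29416, e3 q30186 (flp_f L827512) q30652, e3 q30187 L822518 q29663, e3 q30188 L822527 q29521, e3 q30189 L828842 q30766, e3 q30190 (flp_f L822543) q29420, e3 q30191 (flp_f L822549) q29421, e3 q30192 L822569 q29573, e3 q30193 (flp_f L822573) q29425, e3 q30194 L822595 q29629, e3 q30195 L822609 q29667, e3 q30196 L822621 q29630, e3 q30197 (flp_f L825597) q30516, e3 q30198 (flp_f L827506) q30651, e3 q30199 L822649 q29520, e3 q30200 L822659 q29828, e3 q30201 L822671 q29522, e3 q30202 L822677 q29523, e3 q30203 (flp_f L822685) q29444, e3 q30204 L822703 q29561, e3 q30205 L822709 q29562, e3 q30206 L822728 q29568, e3 q30207 L822734 q29569, trivial⟩ (by decide +kernel)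

theorem ce_f_472 : ∀ r, r < 64 → sm gf (Qf (30208 + r)) = Qf (tab Gen.f (30208 + r)) :=
  edges_tab (sm gf) Qf (tab Gen.f) 30208 [(30208, 29607), (30209, 29608), (30210, 29678), (30211, 29826), (30212, 29827), (30213, 29812), (30214, 29813), (30215, 29706), (30216, 30783), (30217, 30785), (30218, 29464), (30219, 29465), (30220, 29645), (30221, 30522), (30222, 29468), (30223, 29501), (30224, 29816), (30225, 29817), (30226, 29718), (30227, 29805), (30228, 29806), (30229, 30795), (30230, 30686), (30231, 29478), (30232, 30678), (30233, 29710), (30234, 29705), (30235, 29717), (30236, 29824), (30237, 29825), (30238, 29850), (30239, 29851), (30240, 29722), (30241, 29723), (30242, 30624), (30243, 30524), (30244, 29692), (30245, 30788), (30246, 29500), (30247, 29840), (30248, 29841), (30249, 29534), (30250, 29842), (30251, 29843), (30252, 29694), (30253, 29693), (30254, 30558), (30255, 30573), (30256, 30568), (30257, 30771), (30258, 30765), (30259, 30715), (30260, 30772), (30261, 30773), (30262, 29758), (30263, 29756), (30264, 30820),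 (30265, 30821), (30266, 29526), (30267, 29527), (30268, 29682), (30269, 30824), (30270, 30806), (30271, 29533)]
    ⟨e3 q30208 L822750 q29607, e3 q30209 L822758 q29608, e3 q30210 L822777 q29678, e3 q30211 L822789 q29826, e3 q30212 L822803 q29827, e3 q30213 L822824 q29812, e3 q30214 L822830 q29813, e3 q30215 L822843 q29706, e3 q30216 L829057 q30783, e3 q30217 L829080 q30785, e3 q30218 (flp_f L822869) q29464, e3 q30219 (flp_f L822881) q29465, e3 q30220 L822901 q29645, e3 q30221 (flp_f L825681) q30522, e3 q30222 (flp_f L822919) q29468, e3 q30223 L822943 q29501, e3 q30224 L822953 q29816, e3 q30225 L822957 q29817, e3 q30226 L822964 q29718, e3 q30227 L822982 q29805, e3 q30228 L822988 q29806, e3 q30229 L829198 q30795, e3 q30230 (flp_f L827992) q30686, e3 q30231 (flp_f L823018) q29478, e3 q30232 (flp_f L827880) q30678, e3 q30233 L823042 q29710, e3 q30234 L823056 q29705, e3 q30235 L823068 q29717, e3 q30236 L823084 q29824, e3 q30237 L823090 q29825, e3 q30238 L823106 q29850, e3 q30239 L823114 q29851, e3 q30240 L823135 q29722, e3 q30241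 L823141 q29723, e3 q30242 (flp_f L827145) q30624, e3 q30243 (flp_f L825705) q30524, e3 q30244 L823175 q29692, e3 q30245 (flp_f L829128) q30788, e3 q30246 (flp_f L823191) q29500, e3 q30247 L823215 q29840, e3 q30248 L823221 q29841, e3 q30249 L823232 q29534, e3 q30250 L823244 q29842, e3 q30251 L823248 q29843, e3 q30252 L823255 q29694, e3 q30253 L823267 q29693, e3 q30254 L826220 q30558, e3 q30255 (flp_f L826436) q30573, e3 q30256 (flp_f L826353) q30568, e3 q30257 (flp_f L828916) q30771, e3 q30258 (flp_f L828840) q30765, e3 q30259 (flp_f L828327) q30715, e3 q30260 (flp_f L828926) q30772, e3 q30261 (flp_f L828938) q30773, e3 q30262 L823339 q29758, e3 q30263 L823350 q29756, e3 q30264 L829455 q30820, e3 q30265 L829467 q30821, e3 q30266 (flp_f L823378) q29526, e3 q30267 (flp_f L823388) q29527, e3 q30268 L823408 q29682, e3 q30269 L829503 q30824, e3 q30270 (flp_f L829331) q30806, e3 q30271 (flp_f L823434) q29533, trivial⟩ (by decide +kernel)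

theorem ce_f_473 : ∀ r, r < 64 → sm gf (Qf (30272 + r)) = Qf (tab Gen.f (30272 + r)) :=
  edges_tab (sm gf) Qf (tab Gen.f) 30272 [(30272, 30826), (30273, 29536), (30274, 29537), (30275, 29633), (30276, 30599), (30277, 30552), (30278, 30830), (30279, 30832), (30280, 29546), (30281, 29547), (30282, 30722), (30283, 29555), (30284, 30836), (30285, 29550), (30286, 30839), (30287, 29551), (30288, 29746), (30289, 30834), (30290, 29631), (30291, 30580), (30292, 30581), (30293, 29740), (30294, 29600), (30295, 30774), (30296, 29773), (30297, 29774), (30298, 29772), (30299, 30745), (30300, 30729), (30301, 30775), (30302, 30776), (30303, 29602), (30304, 30767), (30305, 30725), (30306, 30724), (30307, 29575), (30308, 30708), (30309, 30713), (30310, 30538), (30311, 29753), (30312, 29757), (30313, 29755), (30314, 29733), (30315, 29731), (30316, 29739), (30317, 29599), (30318, 29766), (30319, 29771), (30320, 29767), (30321, 29612), (30322, 29613), (30323, 30861), (30324, 30844), (30325, 30853), (30326, 29601), (30327, 30854), (30328, 30727),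 (30329, 30728), (30330, 30777), (30331, 29818), (30332, 29819), (30333, 30863), (30334, 30864), (30335, 30644)]
    ⟨e3 q30272 L829524 q30826, e3 q30273 (flp_f L823452) q29536, e3 q30274 (flp_f L823460) q29537, e3 q30275 L823480 q29633, e3 q30276 (flp_f L826841) q30599, e3 q30277 L826114 q30552, e3 q30278 L829574 q30830, e3 q30279 L829591 q30832, e3 q30280 (flp_f L823530) q29546, e3 q30281 (flp_f L823538) q29547, e3 q30282 (flp_f L828395) q30722, e3 q30283 L823564 q29555, e3 q30284 L829627 q30836, e3 q30285 (flp_f L823572) q29550, e3 q30286 L829653 q30839, e3 q30287 (flp_f L823583) q29551, e3 q30288 L823599 q29746, e3 q30289 (flp_f L829619) q30834, e3 q30290 L823615 q29631, e3 q30291 (flp_f L826545) q30580, e3 q30292 (flp_f L826561) q30581, e3 q30293 L823638 q29740, e3 q30294 L823649 q29600, e3 q30295 (flp_f L828949) q30774, e3 q30296 L823663 q29773, e3 q30297 L823672 q29774, e3 q30298 L823680 q29772, e3 q30299 (flp_f L828646) q30745, e3 q30300 (flp_f L828471) q30729, e3 q30301 (flp_f L828959) q30775, e3 q30302 (flp_f L828973)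 q30776, e3 q30303 L823725 q29602, e3 q30304 (flp_f L828864) q30767, e3 q30305 (flp_f L828430) q30725, e3 q30306 (flp_f L828420) q30724, e3 q30307 (flp_f L823771) q29575, e3 q30308 (flp_f L828264) q30708, e3 q30309 (flp_f L828301) q30713, e3 q30310 (flp_f L825911) q30538, e3 q30311 L823815 q29753, e3 q30312 L823829 q29757, e3 q30313 L823839 q29755, e3 q30314 L823849 q29733, e3 q30315 L823867 q29731, e3 q30316 L823879 q29739, e3 q30317 L823891 q29599, e3 q30318 L823905 q29766, e3 q30319 L823915 q29771, e3 q30320 L823923 q29767, e3 q30321 L823937 q29612, e3 q30322 L823948 q29613, e3 q30323 (flp_f L829895) q30861, e3 q30324 (flp_f L829708) q30844, e3 q30325 (flp_f L829790) q30853, e3 q30326 (flp_f L823982) q29601, e3 q30327 (flp_f L829807) q30854, e3 q30328 (flp_f L828450) q30727, e3 q30329 (flp_f L828461) q30728, e3 q30330 (flp_f L828988) q30777, e3 q30331 L824030 q29818, e3 q30332 L824041 q29819, e3 q30333 (flp_f L829919) q30863, e3 q30334 (flp_f L829931) q30864, e3 q30335 (flp_f L827400) q30644, trivial⟩ (by decide +kernel)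

theorem ce_f_474 : ∀ r, r < 64 → sm gf (Qf (30336 + r)) = Qf (tab Gen.f (30336 + r)) :=
  edges_tab (sm gf) Qf (tab Gen.f) 30336 [(30336, 30645), (30337, 29738), (30338, 29736), (30339, 30877), (30340, 29619), (30341, 30878), (30342, 29621), (30343, 29622), (30344, 30880), (30345, 29625), (30346, 30532), (30347, 29737), (30348, 29735), (30349, 30769), (30350, 30827), (30351, 30556), (30352, 30536), (30353, 29820), (30354, 29821), (30355, 29823), (30356, 29845), (30357, 29846), (30358, 30888), (30359, 30786), (30360, 29644), (30361, 30891), (30362, 30893), (30363, 29648), (30364, 29649), (30365, 30740), (30366, 30896), (30367, 29651), (30368, 30897), (30369, 29652), (30370, 30638), (30371, 30639), (30372, 30530), (30373, 29726), (30374, 30903), (30375, 29658), (30376, 29743), (30377, 29660), (30378, 29744), (30379, 30764), (30380, 29742), (30381, 30768), (30382, 29668), (30383, 29741), (30384, 29768), (30385, 29853), (30386, 29764), (30387, 30721), (30388, 30822), (30389, 29696), (30390, 29712), (30391, 29749), (30392, 29750),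 (30393, 30808), (30394, 30809), (30395, 30885), (30396, 29697), (30397, 29847), (30398, 29848), (30399, 29791)]
    ⟨e3 q30336 (flp_f L827416) q30645, e3 q30337 L824080 q29738, e3 q30338 L824091 q29736, e3 q30339 L830039 q30877, e3 q30340 (flp_f L824107) q29619, e3 q30341 L830049 q30878, e3 q30342 (flp_f L824127) q29621, e3 q30343 (flp_f L824137) q29622, e3 q30344 (flp_f L830071) q30880, e3 q30345 L824159 q29625, e3 q30346 (flp_f L825817) q30532, e3 q30347 L824179 q29737, e3 q30348 L824189 q29735, e3 q30349 (flp_f L828894) q30769, e3 q30350 (flp_f L829544) q30827, e3 q30351 L826182 q30556, e3 q30352 L825883 q30536, e3 q30353 L824231 q29820, e3 q30354 L824245 q29821, e3 q30355 L824253 q29823, e3 q30356 L824261 q29845, e3 q30357 L824267 q29846, e3 q30358 L830147 q30888, e3 q30359 (flp_f L829098) q30786, e3 q30360 (flp_f L824292) q29644, e3 q30361 L830174 q30891, e3 q30362 L830189 q30893, e3 q30363 (flp_f L824318) q29648, e3 q30364 (flp_f L824326) q29649, e3 q30365 (flp_f L828607) q30740, e3 q30366 L830209 q30896, e3 q30367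 (flp_f L824344) q29651, e3 q30368 L830217 q30897, e3 q30369 (flp_f L824357) q29652, e3 q30370 (flp_f L827312) q30638, e3 q30371 (flp_f L827320) q30639, e3 q30372 L825785 q30530, e3 q30373 L824385 q29726, e3 q30374 L830252 q30903, e3 q30375 (flp_f L824393) q29658, e3 q30376 L824407 q29743, e3 q30377 (flp_f L824411) q29660, e3 q30378 L824425 q29744, e3 q30379 (flp_f L828830) q30764, e3 q30380 L824443 q29742, e3 q30381 (flp_f L828880) q30768, e3 q30382 (flp_f L824457) q29668, e3 q30383 L824475 q29741, e3 q30384 L824485 q29768, e3 q30385 L824497 q29853, e3 q30386 L824505 q29764, e3 q30387 (flp_f L828384) q30721, e3 q30388 (flp_f L829487) q30822, e3 q30389 L824531 q29696, e3 q30390 L824539 q29712, e3 q30391 L824551 q29749, e3 q30392 L824563 q29750, e3 q30393 (flp_f L829349) q30808, e3 q30394 (flp_f L829358) q30809, e3 q30395 (flp_f L830123) q30885, e3 q30396 (flp_f L824599) q29697, e3 q30397 L824617 q29847, e3 q30398 L824621 q29848, e3 q30399 L824628 q29791, trivial⟩ (by decide +kernel)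

theorem ce_f_475 : ∀ r, r < 64 → sm gf (Qf (30400 + r)) = Qf (tab Gen.f (30400 + r)) :=
  edges_tab (sm gf) Qf (tab Gen.f) 30400 [(30400, 29788), (30401, 29702), (30402, 30797), (30403, 30781), (30404, 29707), (30405, 29714), (30406, 30909), (30407, 30919), (30408, 29713), (30409, 30790), (30410, 30791), (30411, 29844), (30412, 30801), (30413, 30802), (30414, 30923), (30415, 30901), (30416, 29725), (30417, 29728), (30418, 30860), (30419, 30636), (30420, 30882), (30421, 30876), (30422, 30874), (30423, 30875), (30424, 30842), (30425, 30843), (30426, 30906), (30427, 30908), (30428, 30904), (30429, 30837), (30430, 29745), (30431, 30840), (30432, 30911), (30433, 30733), (30434, 30735), (30435, 30666), (30436, 30859), (30437, 30818), (30438, 30816), (30439, 30817), (30440, 29759), (30441, 30534), (30442, 30555), (30443, 30862), (30444, 30848), (30445, 30642), (30446, 30643), (30447, 30847), (30448, 30849), (30449, 30846), (30450, 30947), (30451, 30661), (30452, 29779), (30453, 30659), (30454, 29782), (30455, 30660), (30456, 30951),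 (30457, 30916), (30458, 29787), (30459, 30914), (30460, 29790), (30461, 30915), (30462, 29793), (30463, 30584)]
    ⟨e3 q30400 L824639 q29788, e3 q30401 (flp_f L824641) q29702, e3 q30402 (flp_f L829224) q30797, e3 q30403 (flp_f L829041) q30781, e3 q30404 (flp_f L824673) q29707, e3 q30405 L824693 q29714, e3 q30406 (flp_f L830314) q30909, e3 q30407 (flp_f L830408) q30919, e3 q30408 (flp_f L824709) q29713, e3 q30409 (flp_f L829144) q30790, e3 q30410 (flp_f L829153) q30791, e3 q30411 L824744 q29844, e3 q30412 (flp_f L829275) q30801, e3 q30413 (flp_f L829283) q30802, e3 q30414 L830438 q30923, e3 q30415 (flp_f L830245) q30901, e3 q30416 (flp_f L824785) q29725, e3 q30417 (flp_f L824791) q29728, e3 q30418 (flp_f L829883) q30860, e3 q30419 (flp_f L827287) q30636, e3 q30420 (flp_f L830091) q30882, e3 q30421 (flp_f L830035) q30876, e3 q30422 (flp_f L830014) q30874, e3 q30423 (flp_f L830025) q30875, e3 q30424 (flp_f L829685) q30842, e3 q30425 (flp_f L829696) q30843, e3 q30426 (flp_f L830288) q30906, e3 q30427 (flp_f L830306) q30908,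 e3 q30428 (flp_f L830268) q30904, e3 q30429 (flp_f L829643) q30837, e3 q30430 (flp_f L824882) q29745, e3 q30431 (flp_f L829669) q30840, e3 q30432 (flp_f L830332) q30911, e3 q30433 L828530 q30733, e3 q30434 (flp_f L828554) q30735, e3 q30435 L827702 q30666, e3 q30436 (flp_f L829869) q30859, e3 q30437 (flp_f L829439) q30818, e3 q30438 (flp_f L829418) q30816, e3 q30439 (flp_f L829429) q30817, e3 q30440 (flp_f L824947) q29759, e3 q30441 (flp_f L825849) q30534, e3 q30442 (flp_f L826164) q30555, e3 q30443 (flp_f L829905) q30862, e3 q30444 (flp_f L829736) q30848, e3 q30445 (flp_f L827365) q30642, e3 q30446 (flp_f L827381) q30643, e3 q30447 (flp_f L829731) q30847, e3 q30448 (flp_f L829749) q30849, e3 q30449 (flp_f L829723) q30846, e3 q30450 L830602 q30947, e3 q30451 (flp_f L827622) q30661, e3 q30452 (flp_f L825026) q29779, e3 q30453 (flp_f L827601) q30659, e3 q30454 (flp_f L825040) q29782, e3 q30455 (flp_f L827612) q30660, e3 q30456 L830633 q30951, e3 q30457 (flp_f L830375) q30916, e3 q30458 (flp_f L825069) q29787, e3 q30459 (flp_f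 L830358) q30914, e3 q30460 (flp_f L825087) q29790, e3 q30461 (flp_f L830367) q30915, e3 q30462 (flp_f L825104) q29793, e3 q30463 (flp_f L826615) q30584, trivial⟩ (by decide +kernel)

theorem ce_f_476 : ∀ r, r < 64 → sm gf (Qf (30464 + r)) = Qf (tab Gen.f (30464 + r)) :=
  edges_tab (sm gf) Qf (tab Gen.f) 30464 [(30464, 30585), (30465, 30634), (30466, 30635), (30467, 30658), (30468, 30792), (30469, 30793), (30470, 30687), (30471, 30688), (30472, 29849), (30473, 30779), (30474, 30780), (30475, 30578), (30476, 30579), (30477, 30789), (30478, 30870), (30479, 30798), (30480, 30799), (30481, 30778), (30482, 30582), (30483, 30583), (30484, 29839), (30485, 29837), (30486, 29838), (30487, 29836), (30488, 30970), (30489, 30969), (30490, 30967), (30491, 30968), (30492, 30804), (30493, 30805), (30494, 30807), (30495, 30886), (30496, 30913), (30497, 30959), (30498, 30800), (30499, 30673), (30500, 29856), (30501, 29862), (30502, 29863), (30503, 30980), (30504, 29986), (30505, 29987), (30506, 29988), (30507, 30985), (30508, 30986), (30509,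 29868), (30510, 29869), (30511, 29920), (30512, 30989), (30513, 30991), (30514, 29874), (30515, 29875), (30516, 30197), (30517, 30996), (30518, 30998), (30519, 29879), (30520, 29880), (30521, 31002), (30522, 30221), (30523, 29883), (30524, 30243), (30525, 30006), (30526, 30007), (30527, 30008)]
    ⟨e3 q30464 (flp_f L826627) q30585, e3 q30465 (flp_f L827266) q30634, e3 q30466 (flp_f L827274) q30635, e3 q30467 (flp_f L827591) q30658, e3 q30468 (flp_f L829161) q30792, e3 q30469 (flp_f L829175) q30793, e3 q30470 (flp_f L828002) q30687, e3 q30471 (flp_f L828010) q30688, e3 q30472 L825174 q29849, e3 q30473 (flp_f L829016) q30779, e3 q30474 (flp_f L829026) q30780, e3 q30475 (flp_f L826510) q30578, e3 q30476 (flp_f L826526) q30579, e3 q30477 (flp_f L829136) q30789, e3 q30478 (flp_f L829981) q30870, e3 q30479 (flp_f L829234) q30798, e3 q30480 (flp_f L829248) q30799, e3 q30481 (flp_f L829002) q30778, e3 q30482 (flp_f L826580) q30582, e3 q30483 (flp_f L826596) q30583, e3 q30484 L825244 q29839, e3 q30485 L825253 q29837, e3 q30486 L825259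 q29838, e3 q30487 L825265 q29836, e3 q30488 (flp_f L830766) q30970, e3 q30489 (flp_f L830760) q30969, e3 q30490 (flp_f L830743) q30967, e3 q30491 (flp_f L830752) q30968, e3 q30492 (flp_f L829310) q30804, e3 q30493 (flp_f L829318) q30805, e3 q30494 (flp_f L829341) q30807, e3 q30495 (flp_f L830131) q30886, e3 q30496 (flp_f L830350) q30913, e3 q30497 (flp_f L830695) q30959, e3 q30498 (flp_f L829263) q30800, e3 q30499 L827804 q30673, e3 q30500 L825341 q29856, e3 q30501 L825353 q29862, e3 q30502 L825371 q29863, e3 q30503 (flp_f L830831) q30980, e3 q30504 L825413 q29986, e3 q30505 L825419 q29987, e3 q30506 L825436 q29988, e3 q30507 L830904 q30985, e3 q30508 L830920 q30986, e3 q30509 (flp_f L825478) q29868, e3 q30510 (flp_f L825492) q29869, e3 q30511 L825524 q29920, e3 q30512 L830972 q30989, e3 q30513 L831003 q30991, e3 q30514 (flp_f L825558) q29874, e3 q30515 (flp_f L825572) q29875, e3 q30516 L825597 q30197, e3 q30517 L831079 q30996, e3 q30518 L831108 q30998, e3 q30519 (flp_f L825629) q29879, e3 q30520 (flp_f L825643) q29880, e3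 q30521 (flp_f L831172) q31002, e3 q30522 L825681 q30221, e3 q30523 (flp_f L825685) q29883, e3 q30524 L825705 q30243, e3 q30525 L825713 q30006, e3 q30526 L825721 q30007, e3 q30527 L825734 q30008, trivial⟩ (by decide +kernel)

theorem ce_f_477 : ∀ r, r < 64 → sm gf (Qf (30528 + r)) = Qf (tab Gen.f (30528 + r)) :=
  edges_tab (sm gf) Qf (tab Gen.f) 30528 [(30528, 30009), (30529, 31009), (30530, 30372), (30531, 29890), (30532, 30346), (30533, 29894), (30534, 30441), (30535, 31014), (30536, 30352), (30537, 29898), (30538, 30310), (30539, 30023), (30540, 30024), (30541, 31018), (30542, 31020), (30543, 29905), (30544, 29906), (30545, 31023), (30546, 29908), (30547, 31024), (30548, 29909), (30549, 30993), (30550, 30035), (30551, 30036), (30552, 30277), (30553, 29917), (30554, 30987), (30555, 30442), (30556, 30351), (30557, 29923), (30558, 30254), (30559, 31029), (30560, 31031), (30561, 29931), (30562, 29932), (30563, 31033), (30564, 31035), (30565, 29934), (30566, 31037), (30567, 29935), (30568, 30256), (30569, 30118), (30570, 29939),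 (30571, 29990), (30572, 30051), (30573, 30255), (30574, 30117), (30575, 30057), (30576, 30119), (30577, 30120), (30578, 30475), (30579, 30476), (30580, 30291), (30581, 30292), (30582, 30482), (30583, 30483), (30584, 30463), (30585, 30464), (30586, 30171), (30587, 30062), (30588, 31051), (30589, 29967), (30590, 31053), (30591, 31055)]
    ⟨e3 q30528 L825747 q30009, e3 q30529 L831261 q31009, e3 q30530 (flp_f L825785) q30372, e3 q30531 (flp_f L825787) q29890, e3 q30532 L825817 q30346, e3 q30533 (flp_f L825821) q29894, e3 q30534 L825849 q30441, e3 q30535 L831350 q31014, e3 q30536 (flp_f L825883) q30352, e3 q30537 (flp_f L825885) q29898, e3 q30538 L825911 q30310, e3 q30539 L825927 q30023, e3 q30540 L825945 q30024, e3 q30541 L831420 q31018, e3 q30542 L831453 q31020, e3 q30543 (flp_f L825981) q29905, e3 q30544 (flp_f L825997) q29906, e3 q30545 L831494 q31023, e3 q30546 (flp_f L826022) q29908, e3 q30547 L831508 q31024, e3 q30548 (flp_f L826045) q29909, e3 q30549 (flp_f L831044) q30993, e3 q30550 L826080 q30035, e3 q30551 L826092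 q30036, e3 q30552 (flp_f L826114) q30277, e3 q30553 (flp_f L826118) q29917, e3 q30554 (flp_f L830952) q30987, e3 q30555 L826164 q30442, e3 q30556 (flp_f L826182) q30351, e3 q30557 (flp_f L826184) q29923, e3 q30558 (flp_f L826220) q30254, e3 q30559 L831583 q31029, e3 q30560 L831614 q31031, e3 q30561 (flp_f L826250) q29931, e3 q30562 (flp_f L826266) q29932, e3 q30563 (flp_f L831647) q31033, e3 q30564 L831669 q31035, e3 q30565 (flp_f L826306) q29934, e3 q30566 L831701 q31037, e3 q30567 (flp_f L826333) q29935, e3 q30568 L826353 q30256, e3 q30569 L826370 q30118, e3 q30570 (flp_f L826376) q29939, e3 q30571 L826404 q29990, e3 q30572 L826422 q30051, e3 q30573 L826436 q30255, e3 q30574 L826450 q30117, e3 q30575 L826464 q30057, e3 q30576 L826486 q30119, e3 q30577 L826492 q30120, e3 q30578 L826510 q30475, e3 q30579 L826526 q30476, e3 q30580 L826545 q30291, e3 q30581 L826561 q30292, e3 q30582 L826580 q30482, e3 q30583 L826596 q30483, e3 q30584 L826615 q30463, e3 q30585 L826627 q30464, e3 q30586 L826640 q30171, e3 q30587 L826657 q30062,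 e3 q30588 L831931 q31051, e3 q30589 (flp_f L826681) q29967, e3 q30590 L831963 q31053, e3 q30591 L831994 q31055, trivial⟩ (by decide +kernel)

theorem ce_f_478 : ∀ r, r < 64 → sm gf (Qf (30592 + r)) = Qf (tab Gen.f (30592 + r)) :=
  edges_tab (sm gf) Qf (tab Gen.f) 30592 [(30592, 29970), (30593, 29971), (30594, 29994), (30595, 31058), (30596, 31060), (30597, 29975), (30598, 29976), (30599, 30276), (30600, 29979), (30601, 29992), (30602, 31064), (30603, 31066), (30604, 29983), (30605, 29984), (30606, 30981), (30607, 30982), (30608, 30983), (30609, 31040), (30610, 31062), (30611, 29991), (30612, 31056), (30613, 31072), (30614, 29995), (30615, 31073), (30616, 29996), (30617, 30033), (30618, 31076), (30619, 29999), (30620, 31078), (30621, 30000), (30622, 31080), (30623, 30003), (30624, 30242), (30625, 31004), (30626, 31005), (30627, 31006), (30628, 31007), (30629, 31086), (30630, 31088), (30631, 30011), (30632, 30012), (30633, 31021), (30634, 30465), (30635, 30466), (30636, 30419), (30637, 30084), (30638, 30370), (30639, 30371),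 (30640, 30021), (30641, 31016), (30642, 30445), (30643, 30446), (30644, 30335), (30645, 30336), (30646, 31098), (30647, 30029), (30648, 30031), (30649, 31074), (30650, 31026), (30651, 30198), (30652, 30186), (30653, 31104), (30654, 30040), (30655, 31106)]
    ⟨e3 q30592 (flp_f L826725) q29970, e3 q30593 (flp_f L826739) q29971, e3 q30594 L826766 q29994, e3 q30595 L832040 q31058, e3 q30596 L832071 q31060, e3 q30597 (flp_f L826800) q29975, e3 q30598 (flp_f L826814) q29976, e3 q30599 L826841 q30276, e3 q30600 (flp_f L826845) q29979, e3 q30601 L826865 q29992, e3 q30602 L832129 q31064, e3 q30603 L832162 q31066, e3 q30604 (flp_f L826897) q29983, e3 q30605 (flp_f L826913) q29984, e3 q30606 (flp_f L830845) q30981, e3 q30607 (flp_f L830859) q30982, e3 q30608 (flp_f L830876) q30983, e3 q30609 (flp_f L831761) q31040, e3 q30610 (flp_f L832111) q31062, e3 q30611 (flp_f L826987) q29991, e3 q30612 (flp_f L832020) q31056, e3 q30613 L832239 q31072, e3 q30614 (flp_f L827021) q29995, e3 q30615 L832249 q31073, e3 q30616 (flp_f L827042) q29996,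 e3 q30617 L827063 q30033, e3 q30618 L832280 q31076, e3 q30619 (flp_f L827077) q29999, e3 q30620 L832306 q31078, e3 q30621 (flp_f L827098) q30000, e3 q30622 (flp_f L832332) q31080, e3 q30623 L827125 q30003, e3 q30624 L827145 q30242, e3 q30625 (flp_f L831198) q31004, e3 q30626 (flp_f L831212) q31005, e3 q30627 (flp_f L831223) q31006, e3 q30628 (flp_f L831235) q31007, e3 q30629 L832406 q31086, e3 q30630 L832437 q31088, e3 q30631 (flp_f L827218) q30011, e3 q30632 (flp_f L827234) q30012, e3 q30633 (flp_f L831482) q31021, e3 q30634 L827266 q30465, e3 q30635 L827274 q30466, e3 q30636 L827287 q30419, e3 q30637 L827300 q30084, e3 q30638 L827312 q30370, e3 q30639 L827320 q30371, e3 q30640 (flp_f L827329) q30021, e3 q30641 (flp_f L831398) q31016, e3 q30642 L827365 q30445, e3 q30643 L827381 q30446, e3 q30644 L827400 q30335, e3 q30645 L827416 q30336, e3 q30646 L832561 q31098, e3 q30647 (flp_f L827435) q30029, e3 q30648 (flp_f L827449) q30031, e3 q30649 (flp_f L832268) q31074, e3 q30650 (flp_f L831543) q31026, e3 q30651 L827506 q30198,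 e3 q30652 L827512 q30186, e3 q30653 L832647 q31104, e3 q30654 (flp_f L827534) q30040, e3 q30655 L832679 q31106, trivial⟩ (by decide +kernel)

theorem ce_f_479 : ∀ r, r < 64 → sm gf (Qf (30656 + r)) = Qf (tab Gen.f (30656 + r)) :=
  edges_tab (sm gf) Qf (tab Gen.f) 30656 [(30656, 30041), (30657, 30168), (30658, 30467), (30659, 30453), (30660, 30455), (30661, 30451), (30662, 31114), (30663, 31050), (30664, 30061), (30665, 31117), (30666, 30435), (30667, 30065), (30668, 30068), (30669, 30142), (30670, 30143), (30671, 31121), (30672, 30073), (30673, 30499), (30674, 30074), (30675, 31123), (30676, 31093), (30677, 30083), (30678, 30232), (30679, 31127), (30680, 31129), (30681, 30088), (30682, 30089), (30683, 31001), (30684, 30125), (30685, 30092), (30686, 30230), (30687, 30470), (30688, 30471), (30689, 30149), (30690, 31136), (30691, 30099), (30692, 31137), (30693, 30100), (30694, 30994), (30695, 30148), (30696, 30147), (30697, 30167), (30698, 30166), (30699, 30169), (30700, 31041), (30701, 31039), (30702, 31042), (30703, 31043),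 (30704, 31144), (30705, 30121), (30706, 30122), (30707, 31131), (30708, 30308), (30709, 31148), (30710, 30128), (30711, 31150), (30712, 30129), (30713, 30309), (30714, 30162), (30715, 30259), (30716, 31154), (30717, 30133), (30718, 31157), (30719, 30134)]
    ⟨e3 q30656 (flp_f L827559) q30041, e3 q30657 L827579 q30168, e3 q30658 L827591 q30467, e3 q30659 L827601 q30453, e3 q30660 L827612 q30455, e3 q30661 L827622 q30451, e3 q30662 L832776 q31114, e3 q30663 (flp_f L831923) q31050, e3 q30664 (flp_f L827656) q30061, e3 q30665 L832827 q31117, e3 q30666 (flp_f L827702) q30435, e3 q30667 (flp_f L827704) q30065, e3 q30668 (flp_f L827722) q30068, e3 q30669 L827740 q30142, e3 q30670 L827750 q30143, e3 q30671 L832894 q31121, e3 q30672 (flp_f L827773) q30073, e3 q30673 (flp_f L827804) q30499, e3 q30674 (flp_f L827806) q30074, e3 q30675 L832930 q31123, e3 q30676 (flp_f L832502) q31093, e3 q30677 (flp_f L827854) q30083, e3 q30678 L827880 q30232, e3 q30679 L832991 q31127, e3 q30680 L833020 q31129, e3 q30681 (flp_f L827912) q30088, e3 q30682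 (flp_f L827926) q30089, e3 q30683 (flp_f L831159) q31001, e3 q30684 L827964 q30125, e3 q30685 (flp_f L827968) q30092, e3 q30686 L827992 q30230, e3 q30687 L828002 q30470, e3 q30688 L828010 q30471, e3 q30689 L828025 q30149, e3 q30690 L833112 q31136, e3 q30691 (flp_f L828043) q30099, e3 q30692 L833126 q31137, e3 q30693 (flp_f L828066) q30100, e3 q30694 (flp_f L831061) q30994, e3 q30695 L828101 q30148, e3 q30696 L828115 q30147, e3 q30697 L828133 q30167, e3 q30698 L828147 q30166, e3 q30699 L828165 q30169, e3 q30700 (flp_f L831775) q31041, e3 q30701 (flp_f L831739) q31039, e3 q30702 (flp_f L831789) q31042, e3 q30703 (flp_f L831805) q31043, e3 q30704 L833224 q31144, e3 q30705 (flp_f L828224) q30121, e3 q30706 (flp_f L828232) q30122, e3 q30707 (flp_f L833056) q31131, e3 q30708 L828264 q30308, e3 q30709 L833270 q31148, e3 q30710 (flp_f L828276) q30128, e3 q30711 L833284 q31150, e3 q30712 (flp_f L828289) q30129, e3 q30713 L828301 q30309, e3 q30714 L828312 q30162, e3 q30715 L828327 q30259, e3 q30716 L833327 q31154, e3 q30717 (flp_f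 L828339) q30133, e3 q30718 L833357 q31157, e3 q30719 (flp_f L828356) q30134, trivial⟩ (by decide +kernel)

theorem ce_f_480 : ∀ r, r < 64 → sm gf (Qf (30720 + r)) = Qf (tab Gen.f (30720 + r)) :=
  edges_tab (sm gf) Qf (tab Gen.f) 30720 [(30720, 31160), (30721, 30387), (30722, 30282), (30723, 30137), (30724, 30306), (30725, 30305), (30726, 31119), (30727, 30328), (30728, 30329), (30729, 30300), (30730, 31139), (30731, 31134), (30732, 31111), (30733, 30433), (30734, 30150), (30735, 30434), (30736, 31169), (30737, 30154), (30738, 31170), (30739, 30155), (30740, 30365), (30741, 31173), (30742, 30158), (30743, 30160), (30744, 31151), (30745, 30299), (30746, 31140), (30747, 31105), (30748, 31107), (30749, 31048), (30750, 30170), (30751, 31049), (30752, 30173), (30753, 31179), (30754, 30177), (30755, 31181), (30756, 30178), (30757, 31183), (30758, 30181), (30759, 31185), (30760, 30182), (30761, 31101), (30762, 30184), (30763, 31102), (30764, 30379), (30765, 30258), (30766, 30189), (30767, 30304), (30768, 30381), (30769, 30349),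 (30770, 30992), (30771, 30257), (30772, 30260), (30773, 30261), (30774, 30295), (30775, 30301), (30776, 30302), (30777, 30330), (30778, 30481), (30779, 30473), (30780, 30474), (30781, 30403), (30782, 31201), (30783, 30216)]
    ⟨e3 q30720 (flp_f L833395) q31160, e3 q30721 L828384 q30387, e3 q30722 L828395 q30282, e3 q30723 L828404 q30137, e3 q30724 L828420 q30306, e3 q30725 L828430 q30305, e3 q30726 (flp_f L832868) q31119, e3 q30727 L828450 q30328, e3 q30728 L828461 q30329, e3 q30729 L828471 q30300, e3 q30730 (flp_f L833161) q31139, e3 q30731 (flp_f L833096) q31134, e3 q30732 (flp_f L832741) q31111, e3 q30733 (flp_f L828530) q30433, e3 q30734 (flp_f L828532) q30150, e3 q30735 L828554 q30434, e3 q30736 L833497 q31169, e3 q30737 (flp_f L828573) q30154, e3 q30738 L833505 q31170, e3 q30739 (flp_f L828588) q30155, e3 q30740 L828607 q30365, e3 q30741 L833533 q31173, e3 q30742 (flp_f L828615) q30158, e3 q30743 (flp_f L828621) q30160, e3 q30744 (flp_f L833299) q31151, e3 q30745 L828646 q30299, e3 q30746 (flp_f L833179) q31140, e3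 q30747 (flp_f L832671) q31105, e3 q30748 (flp_f L832701) q31107, e3 q30749 (flp_f L831892) q31048, e3 q30750 (flp_f L828697) q30170, e3 q30751 (flp_f L831907) q31049, e3 q30752 (flp_f L828724) q30173, e3 q30753 L833594 q31179, e3 q30754 (flp_f L828746) q30177, e3 q30755 L833608 q31181, e3 q30756 (flp_f L828761) q30178, e3 q30757 (flp_f L833628) q31183, e3 q30758 L828780 q30181, e3 q30759 L833641 q31185, e3 q30760 (flp_f L828794) q30182, e3 q30761 (flp_f L832608) q31101, e3 q30762 (flp_f L828808) q30184, e3 q30763 (flp_f L832624) q31102, e3 q30764 L828830 q30379, e3 q30765 L828840 q30258, e3 q30766 (flp_f L828842) q30189, e3 q30767 L828864 q30304, e3 q30768 L828880 q30381, e3 q30769 L828894 q30349, e3 q30770 (flp_f L831027) q30992, e3 q30771 L828916 q30257, e3 q30772 L828926 q30260, e3 q30773 L828938 q30261, e3 q30774 L828949 q30295, e3 q30775 L828959 q30301, e3 q30776 L828973 q30302, e3 q30777 L828988 q30330, e3 q30778 L829002 q30481, e3 q30779 L829016 q30473, e3 q30780 L829026 q30474, e3 q30781 L829041 q30403, e3 q30782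 L833829 q31201, e3 q30783 (flp_f L829057) q30216, trivial⟩ (by decide +kernel)

theorem ce_f_481 : ∀ r, r < 64 → sm gf (Qf (30784 + r)) = Qf (tab Gen.f (30784 + r)) :=
  edges_tab (sm gf) Qf (tab Gen.f) 30784 [(30784, 31204), (30785, 30217), (30786, 30359), (30787, 31000), (30788, 30245), (30789, 30477), (30790, 30409), (30791, 30410), (30792, 30468), (30793, 30469), (30794, 31132), (30795, 30229), (30796, 31125), (30797, 30402), (30798, 30479), (30799, 30480), (30800, 30498), (30801, 30412), (30802, 30413), (30803, 31003), (30804, 30492), (30805, 30493), (30806, 30270), (30807, 30494), (30808, 30393), (30809, 30394), (30810, 31036), (30811, 31038), (30812, 31188), (30813, 31190), (30814, 31152), (30815, 31192), (30816, 30438), (30817, 30439), (30818, 30437), (30819, 31226), (30820, 30264), (30821, 30265), (30822, 30388), (30823, 31214), (30824, 30269), (30825, 31215), (30826, 30272), (30827, 30350), (30828, 31061), (30829, 31231), (30830, 30278), (30831, 31234), (30832, 30279), (30833, 31159), (30834, 30289), (30835, 31237),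 (30836, 30284), (30837, 30429), (30838, 31233), (30839, 30286), (30840, 30431), (30841, 31045), (30842, 30424), (30843, 30425), (30844, 30324), (30845, 31193), (30846, 30449), (30847, 30447)]
    ⟨e3 q30784 L833871 q31204, e3 q30785 (flp_f L829080) q30217, e3 q30786 L829098 q30359, e3 q30787 (flp_f L831144) q31000, e3 q30788 L829128 q30245, e3 q30789 L829136 q30477, e3 q30790 L829144 q30409, e3 q30791 L829153 q30410, e3 q30792 L829161 q30468, e3 q30793 L829175 q30469, e3 q30794 (flp_f L833072) q31132, e3 q30795 (flp_f L829198) q30229, e3 q30796 (flp_f L832973) q31125, e3 q30797 L829224 q30402, e3 q30798 L829234 q30479, e3 q30799 L829248 q30480, e3 q30800 L829263 q30498, e3 q30801 L829275 q30412, e3 q30802 L829283 q30413, e3 q30803 (flp_f L831192) q31003, e3 q30804 L829310 q30492, e3 q30805 L829318 q30493, e3 q30806 L829331 q30270, e3 q30807 L829341 q30494, e3 q30808 L829349 q30393, e3 q30809 L829358 q30394, e3 q30810 (flp_f L831693) q31036, e3 q30811 (flp_f L831723) q31038, e3 q30812 (flp_f L833677) q31188, e3 q30813 (flp_f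 L833699) q31190, e3 q30814 (flp_f L833315) q31152, e3 q30815 (flp_f L833721) q31192, e3 q30816 L829418 q30438, e3 q30817 L829429 q30439, e3 q30818 L829439 q30437, e3 q30819 L834098 q31226, e3 q30820 (flp_f L829455) q30264, e3 q30821 (flp_f L829467) q30265, e3 q30822 L829487 q30388, e3 q30823 (flp_f L833993) q31214, e3 q30824 (flp_f L829503) q30269, e3 q30825 (flp_f L834004) q31215, e3 q30826 (flp_f L829524) q30272, e3 q30827 L829544 q30350, e3 q30828 (flp_f L832097) q31061, e3 q30829 L834162 q31231, e3 q30830 (flp_f L829574) q30278, e3 q30831 L834192 q31234, e3 q30832 (flp_f L829591) q30279, e3 q30833 (flp_f L833385) q31159, e3 q30834 L829619 q30289, e3 q30835 L834215 q31237, e3 q30836 (flp_f L829627) q30284, e3 q30837 L829643 q30429, e3 q30838 (flp_f L834190) q31233, e3 q30839 (flp_f L829653) q30286, e3 q30840 L829669 q30431, e3 q30841 (flp_f L831842) q31045, e3 q30842 L829685 q30424, e3 q30843 L829696 q30425, e3 q30844 L829708 q30324, e3 q30845 (flp_f L833729) q31193, e3 q30846 L829723 q30449, e3 q30847 L829731 q30447,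 trivial⟩ (by decide +kernel)

theorem ce_f_482 : ∀ r, r < 64 → sm gf (Qf (30848 + r)) = Qf (tab Gen.f (30848 + r)) :=
  edges_tab (sm gf) Qf (tab Gen.f) 30848 [(30848, 30444), (30849, 30448), (30850, 31164), (30851, 31165), (30852, 31194), (30853, 30325), (30854, 30327), (30855, 31161), (30856, 31146), (30857, 31149), (30858, 31015), (30859, 30436), (30860, 30418), (30861, 30323), (30862, 30443), (30863, 30333), (30864, 30334), (30865, 31241), (30866, 31242), (30867, 31249), (30868, 31163), (30869, 31195), (30870, 30478), (30871, 31251), (30872, 31246), (30873, 31096), (30874, 30422), (30875, 30423), (30876, 30421), (30877, 30339), (30878, 30341), (30879, 31261), (30880, 30344), (30881, 31011), (30882, 30420), (30883, 31227), (30884, 31013), (30885, 30395), (30886, 30495), (30887, 31202), (30888, 30358), (30889, 31205), (30890, 31266), (30891, 30361), (30892, 31268), (30893, 30362), (30894, 31171), (30895, 31271), (30896, 30366), (30897, 30368), (30898, 31094), (30899, 31008), (30900, 31010), (30901, 30415), (30902, 31276),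 (30903, 30374), (30904, 30428), (30905, 31187), (30906, 30426), (30907, 31189), (30908, 30427), (30909, 30406), (30910, 31156), (30911, 30432)]
    ⟨e3 q30848 L829736 q30444, e3 q30849 L829749 q30448, e3 q30850 (flp_f L833444) q31164, e3 q30851 (flp_f L833455) q31165, e3 q30852 (flp_f L833742) q31194, e3 q30853 L829790 q30325, e3 q30854 L829807 q30327, e3 q30855 (flp_f L833413) q31161, e3 q30856 (flp_f L833258) q31146, e3 q30857 (flp_f L833282) q31149, e3 q30858 (flp_f L831378) q31015, e3 q30859 L829869 q30436, e3 q30860 L829883 q30418, e3 q30861 L829895 q30323, e3 q30862 L829905 q30443, e3 q30863 L829919 q30333, e3 q30864 L829931 q30334, e3 q30865 (flp_f L834262) q31241, e3 q30866 (flp_f L834275) q31242, e3 q30867 (flp_f L834346) q31249, e3 q30868 (flp_f L833434) q31163, e3 q30869 (flp_f L833756) q31195, e3 q30870 L829981 q30478, e3 q30871 (flp_f L834372) q31251, e3 q30872 (flp_f L834315) q31246, e3 q30873 (flp_f L832544) q31096, e3 q30874 L830014 q30422, e3 q30875 L830025 q30423, e3 q30876 L830035 q30421, e3 q30877 (flp_f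 L830039) q30339, e3 q30878 (flp_f L830049) q30341, e3 q30879 (flp_f L834461) q31261, e3 q30880 L830071 q30344, e3 q30881 (flp_f L831310) q31011, e3 q30882 L830091 q30420, e3 q30883 (flp_f L834122) q31227, e3 q30884 L831348 q31013, e3 q30885 L830123 q30395, e3 q30886 L830131 q30495, e3 q30887 (flp_f L833851) q31202, e3 q30888 (flp_f L830147) q30358, e3 q30889 (flp_f L833891) q31205, e3 q30890 L834500 q31266, e3 q30891 (flp_f L830174) q30361, e3 q30892 L834514 q31268, e3 q30893 (flp_f L830189) q30362, e3 q30894 (flp_f L833526) q31171, e3 q30895 L834533 q31271, e3 q30896 (flp_f L830209) q30366, e3 q30897 (flp_f L830217) q30368, e3 q30898 (flp_f L832512) q31094, e3 q30899 L831259 q31008, e3 q30900 (flp_f L831283) q31010, e3 q30901 L830245 q30415, e3 q30902 L834571 q31276, e3 q30903 (flp_f L830252) q30374, e3 q30904 L830268 q30428, e3 q30905 (flp_f L833667) q31187, e3 q30906 L830288 q30426, e3 q30907 (flp_f L833690) q31189, e3 q30908 L830306 q30427, e3 q30909 L830314 q30406, e3 q30910 (flp_f L833355) q31156, e3 q30911 L830332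 q30432, trivial⟩ (by decide +kernel)

theorem ce_f_483 : ∀ r, r < 64 → sm gf (Qf (30912 + r)) = Qf (tab Gen.f (30912 + r)) :=
  edges_tab (sm gf) Qf (tab Gen.f) 30912 [(30912, 31217), (30913, 30496), (30914, 30459), (30915, 30461), (30916, 30457), (30917, 31198), (30918, 31199), (30919, 30407), (30920, 31207), (30921, 31212), (30922, 31274), (30923, 30414), (30924, 31275), (30925, 31091), (30926, 31092), (30927, 31259), (30928, 31260), (30929, 31258), (30930, 31240), (30931, 31279), (30932, 31277), (30933, 31238), (30934, 31280), (30935, 31167), (30936, 31116), (30937, 31118), (30938, 31224), (30939, 31225), (30940, 31223), (30941, 31012), (30942, 31244), (30943, 31095), (30944, 31245), (30945, 31243), (30946, 31110), (30947, 30450), (30948, 31112), (30949, 31109), (30950, 31284), (30951, 30456), (30952, 31285), (30953, 31283), (30954, 31047), (30955, 31090), (30956, 31108), (30957, 31208), (30958, 31133), (30959, 30497), (30960, 31197), (30961, 31044), (30962, 31206), (30963, 31255), (30964, 31210), (30965, 31196), (30966,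 31046), (30967, 30490), (30968, 30491), (30969, 30489), (30970, 30488), (30971, 31316), (30972, 31317), (30973, 31315), (30974, 31213), (30975, 31216)]
    ⟨e3 q30912 (flp_f L834023) q31217, e3 q30913 L830350 q30496, e3 q30914 L830358 q30459, e3 q30915 L830367 q30461, e3 q30916 L830375 q30457, e3 q30917 (flp_f L833800) q31198, e3 q30918 (flp_f L833813) q31199, e3 q30919 L830408 q30407, e3 q30920 (flp_f L833908) q31207, e3 q30921 (flp_f L833967) q31212, e3 q30922 (flp_f L834558) q31274, e3 q30923 (flp_f L830438) q30414, e3 q30924 (flp_f L834567) q31275, e3 q30925 (flp_f L832479) q31091, e3 q30926 (flp_f L832490) q31092, e3 q30927 (flp_f L834444) q31259, e3 q30928 (flp_f L834453) q31260, e3 q30929 (flp_f L834434) q31258, e3 q30930 (flp_f L834250) q31240, e3 q30931 (flp_f L834607) q31279, e3 q30932 (flp_f L834587) q31277, e3 q30933 (flp_f L834233) q31238, e3 q30934 (flp_f L834615) q31280, e3 q30935 (flp_f L833479) q31167, e3 q30936 L832825 q31116, e3 q30937 (flp_f L832851) q31118, e3 q30938 (flp_f L834085) q31224, e3 q30939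 (flp_f L834094) q31225, e3 q30940 (flp_f L834075) q31223, e3 q30941 (flp_f L831328) q31012, e3 q30942 (flp_f L834292) q31244, e3 q30943 (flp_f L832526) q31095, e3 q30944 (flp_f L834306) q31245, e3 q30945 (flp_f L834286) q31243, e3 q30946 (flp_f L832734) q31110, e3 q30947 (flp_f L830602) q30450, e3 q30948 (flp_f L832756) q31112, e3 q30949 (flp_f L832724) q31109, e3 q30950 (flp_f L834654) q31284, e3 q30951 (flp_f L830633) q30456, e3 q30952 (flp_f L834661) q31285, e3 q30953 (flp_f L834644) q31283, e3 q30954 (flp_f L831878) q31047, e3 q30955 (flp_f L832467) q31090, e3 q30956 (flp_f L832713) q31108, e3 q30957 (flp_f L833916) q31208, e3 q30958 (flp_f L833080) q31133, e3 q30959 L830695 q30497, e3 q30960 (flp_f L833784) q31197, e3 q30961 (flp_f L831824) q31044, e3 q30962 (flp_f L833897) q31206, e3 q30963 (flp_f L834407) q31255, e3 q30964 (flp_f L833942) q31210, e3 q30965 (flp_f L833769) q31196, e3 q30966 (flp_f L831860) q31046, e3 q30967 L830743 q30490, e3 q30968 L830752 q30491, e3 q30969 L830760 q30489, e3 q30970 L830766 q30488,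 e3 q30971 (flp_f L834890) q31316, e3 q30972 (flp_f L834897) q31317, e3 q30973 (flp_f L834882) q31315, e3 q30974 (flp_f L833979) q31213, e3 q30975 (flp_f L834012) q31216, trivial⟩ (by decide +kernel)

theorem ce_f_484 : ∀ r, r < 64 → sm gf (Qf (30976 + r)) = Qf (tab Gen.f (30976 + r)) :=
  edges_tab (sm gf) Qf (tab Gen.f) 30976 [(30976, 31263), (30977, 31282), (30978, 31211), (30979, 31120), (30980, 30503), (30981, 30606), (30982, 30607), (30983, 30608), (30984, 31325), (30985, 30507), (30986, 30508), (30987, 30554), (30988, 31328), (30989, 30512), (30990, 31330), (30991, 30513), (30992, 30770), (30993, 30549), (30994, 30694), (30995, 31334), (30996, 30517), (30997, 31337), (30998, 30518), (30999, 31340), (31000, 30787), (31001, 30683), (31002, 30521), (31003, 30803), (31004, 30625), (31005, 30626), (31006, 30627), (31007, 30628), (31008, 30899), (31009, 30529), (31010, 30900), (31011, 30881), (31012, 30941), (31013, 30884), (31014, 30535), (31015, 30858), (31016, 30641), (31017, 31349), (31018, 30541), (31019, 31350), (31020,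 30542), (31021, 30633), (31022, 31353), (31023, 30545), (31024, 30547), (31025, 31331), (31026, 30650), (31027, 31326), (31028, 31357), (31029, 30559), (31030, 31359), (31031, 30560), (31032, 31361), (31033, 30563), (31034, 31363), (31035, 30564), (31036, 30810), (31037, 30566), (31038, 30811), (31039, 30701)]
    ⟨e3 q30976 (flp_f L834479) q31263, e3 q30977 (flp_f L834633) q31282, e3 q30978 (flp_f L833954) q31211, e3 q30979 L832892 q31120, e3 q30980 L830831 q30503, e3 q30981 L830845 q30606, e3 q30982 L830859 q30607, e3 q30983 L830876 q30608, e3 q30984 L834973 q31325, e3 q30985 (flp_f L830904) q30507, e3 q30986 (flp_f L830920) q30508, e3 q30987 L830952 q30554, e3 q30988 L835029 q31328, e3 q30989 (flp_f L830972) q30512, e3 q30990 L835061 q31330, e3 q30991 (flp_f L831003) q30513, e3 q30992 L831027 q30770, e3 q30993 L831044 q30549, e3 q30994 L831061 q30694, e3 q30995 L835120 q31334, e3 q30996 (flp_f L831079) q30517, e3 q30997 L835166 q31337, e3 q30998 (flp_f L831108) q30518, e3 q30999 (flp_f L835214) q31340, e3 q31000 L831144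 q30787, e3 q31001 L831159 q30683, e3 q31002 L831172 q30521, e3 q31003 L831192 q30803, e3 q31004 L831198 q30625, e3 q31005 L831212 q30626, e3 q31006 L831223 q30627, e3 q31007 L831235 q30628, e3 q31008 (flp_f L831259) q30899, e3 q31009 (flp_f L831261) q30529, e3 q31010 L831283 q30900, e3 q31011 L831310 q30881, e3 q31012 L831328 q30941, e3 q31013 (flp_f L831348) q30884, e3 q31014 (flp_f L831350) q30535, e3 q31015 L831378 q30858, e3 q31016 L831398 q30641, e3 q31017 L835354 q31349, e3 q31018 (flp_f L831420) q30541, e3 q31019 L835370 q31350, e3 q31020 (flp_f L831453) q30542, e3 q31021 L831482 q30633, e3 q31022 L835412 q31353, e3 q31023 (flp_f L831494) q30545, e3 q31024 (flp_f L831508) q30547, e3 q31025 (flp_f L835086) q31331, e3 q31026 L831543 q30650, e3 q31027 (flp_f L835009) q31326, e3 q31028 L835467 q31357, e3 q31029 (flp_f L831583) q30559, e3 q31030 L835497 q31359, e3 q31031 (flp_f L831614) q30560, e3 q31032 (flp_f L835531) q31361, e3 q31033 L831647 q30563, e3 q31034 L835554 q31363, e3 q31035 (flp_f L831669) q30564, e3 q31036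 L831693 q30810, e3 q31037 (flp_f L831701) q30566, e3 q31038 L831723 q30811, e3 q31039 L831739 q30701, trivial⟩ (by decide +kernel)

theorem ce_f_485 : ∀ r, r < 64 → sm gf (Qf (31040 + r)) = Qf (tab Gen.f (31040 + r)) :=
  edges_tab (sm gf) Qf (tab Gen.f) 31040 [(31040, 30609), (31041, 30700), (31042, 30702), (31043, 30703), (31044, 30961), (31045, 30841), (31046, 30966), (31047, 30954), (31048, 30749), (31049, 30751), (31050, 30663), (31051, 30588), (31052, 31376), (31053, 30590), (31054, 31378), (31055, 30591), (31056, 30612), (31057, 31380), (31058, 30595), (31059, 31382), (31060, 30596), (31061, 30828), (31062, 30610), (31063, 31384), (31064, 30602), (31065, 31385), (31066, 30603), (31067, 31322), (31068, 31323), (31069, 31324), (31070, 31377), (31071, 31389), (31072, 30613), (31073, 30615), (31074, 30649), (31075, 31393), (31076, 30618), (31077, 31395), (31078, 30620), (31079, 31396), (31080, 30622), (31081, 31341), (31082, 31342), (31083, 31343), (31084, 31344), (31085, 31400), (31086, 30629), (31087, 31402), (31088,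 30630), (31089, 31351), (31090, 30955), (31091, 30925), (31092, 30926), (31093, 30676), (31094, 30898), (31095, 30943), (31096, 30873), (31097, 31411), (31098, 30646), (31099, 31390), (31100, 31391), (31101, 30761), (31102, 30763), (31103, 31415)]
    ⟨e3 q31040 L831761 q30609, e3 q31041 L831775 q30700, e3 q31042 L831789 q30702, e3 q31043 L831805 q30703, e3 q31044 L831824 q30961, e3 q31045 L831842 q30841, e3 q31046 L831860 q30966, e3 q31047 L831878 q30954, e3 q31048 L831892 q30749, e3 q31049 L831907 q30751, e3 q31050 L831923 q30663, e3 q31051 (flp_f L831931) q30588, e3 q31052 L835772 q31376, e3 q31053 (flp_f L831963) q30590, e3 q31054 L835806 q31378, e3 q31055 (flp_f L831994) q30591, e3 q31056 L832020 q30612, e3 q31057 L835837 q31380, e3 q31058 (flp_f L832040) q30595, e3 q31059 L835871 q31382, e3 q31060 (flp_f L832071) q30596, e3 q31061 L832097 q30828, e3 q31062 L832111 q30610, e3 q31063 L835902 q31384, e3 q31064 (flp_f L832129) q30602, e3 q31065 L835918 q31385, e3 q31066 (flp_f L832162) q30603, e3 q31067 (flp_f L834928)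 q31322, e3 q31068 (flp_f L834946) q31323, e3 q31069 (flp_f L834963) q31324, e3 q31070 (flp_f L835802) q31377, e3 q31071 L835971 q31389, e3 q31072 (flp_f L832239) q30613, e3 q31073 (flp_f L832249) q30615, e3 q31074 L832268 q30649, e3 q31075 L836021 q31393, e3 q31076 (flp_f L832280) q30618, e3 q31077 (flp_f L836051) q31395, e3 q31078 (flp_f L832306) q30620, e3 q31079 (flp_f L836066) q31396, e3 q31080 L832332 q30622, e3 q31081 (flp_f L835228) q31341, e3 q31082 (flp_f L835243) q31342, e3 q31083 (flp_f L835257) q31343, e3 q31084 (flp_f L835272) q31344, e3 q31085 L836117 q31400, e3 q31086 (flp_f L832406) q30629, e3 q31087 L836147 q31402, e3 q31088 (flp_f L832437) q30630, e3 q31089 (flp_f L835399) q31351, e3 q31090 L832467 q30955, e3 q31091 L832479 q30925, e3 q31092 L832490 q30926, e3 q31093 L832502 q30676, e3 q31094 L832512 q30898, e3 q31095 L832526 q30943, e3 q31096 L832544 q30873, e3 q31097 L836276 q31411, e3 q31098 (flp_f L832561) q30646, e3 q31099 (flp_f L835993) q31390, e3 q31100 (flp_f L836006) q31391, e3 q31101 L832608 q30761,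 e3 q31102 L832624 q30763, e3 q31103 L836334 q31415, trivial⟩ (by decide +kernel)

theorem ce_f_486 : ∀ r, r < 64 → sm gf (Qf (31104 + r)) = Qf (tab Gen.f (31104 + r)) :=
  edges_tab (sm gf) Qf (tab Gen.f) 31104 [(31104, 30653), (31105, 30747), (31106, 30655), (31107, 30748), (31108, 30956), (31109, 30949), (31110, 30946), (31111, 30732), (31112, 30948), (31113, 31373), (31114, 30662), (31115, 31374), (31116, 30936), (31117, 30665), (31118, 30937), (31119, 30726), (31120, 30979), (31121, 30671), (31122, 31406), (31123, 30675), (31124, 31407), (31125, 30796), (31126, 31428), (31127, 30679), (31128, 31431), (31129, 30680), (31130, 31339), (31131, 30707), (31132, 30794), (31133, 30958), (31134, 30731), (31135, 31434), (31136, 30690), (31137, 30692), (31138, 31332), (31139, 30730), (31140, 30746), (31141, 31365), (31142, 31366), (31143, 31367), (31144, 30704), (31145, 31430), (31146, 30856), (31147, 31440), (31148, 30709), (31149, 30857), (31150, 30711), (31151, 30744), (31152, 30814), (31153, 31446), (31154, 30716), (31155, 31449),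 (31156, 30910), (31157, 30718), (31158, 31451), (31159, 30833), (31160, 30720), (31161, 30855), (31162, 31423), (31163, 30868), (31164, 30850), (31165, 30851), (31166, 31418), (31167, 30935)]
    ⟨e3 q31104 (flp_f L832647) q30653, e3 q31105 L832671 q30747, e3 q31106 (flp_f L832679) q30655, e3 q31107 L832701 q30748, e3 q31108 L832713 q30956, e3 q31109 L832724 q30949, e3 q31110 L832734 q30946, e3 q31111 L832741 q30732, e3 q31112 L832756 q30948, e3 q31113 (flp_f L835731) q31373, e3 q31114 (flp_f L832776) q30662, e3 q31115 (flp_f L835748) q31374, e3 q31116 (flp_f L832825) q30936, e3 q31117 (flp_f L832827) q30665, e3 q31118 L832851 q30937, e3 q31119 L832868 q30726, e3 q31120 (flp_f L832892) q30979, e3 q31121 (flp_f L832894) q30671, e3 q31122 (flp_f L836206) q31406, e3 q31123 (flp_f L832930) q30675, e3 q31124 (flp_f L836219) q31407, e3 q31125 L832973 q30796, e3 q31126 L836524 q31428, e3 q31127 (flp_f L832991) q30679, e3 q31128 L836570 q31431, e3 q31129 (flp_f L833020) q30680, e3 q31130 (flp_f L835202) q31339, e3 q31131 L833056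 q30707, e3 q31132 L833072 q30794, e3 q31133 L833080 q30958, e3 q31134 L833096 q30731, e3 q31135 L836607 q31434, e3 q31136 (flp_f L833112) q30690, e3 q31137 (flp_f L833126) q30692, e3 q31138 (flp_f L835102) q31332, e3 q31139 L833161 q30730, e3 q31140 L833179 q30746, e3 q31141 (flp_f L835596) q31365, e3 q31142 (flp_f L835611) q31366, e3 q31143 (flp_f L835623) q31367, e3 q31144 (flp_f L833224) q30704, e3 q31145 (flp_f L836566) q31430, e3 q31146 L833258 q30856, e3 q31147 L836680 q31440, e3 q31148 (flp_f L833270) q30709, e3 q31149 L833282 q30857, e3 q31150 (flp_f L833284) q30711, e3 q31151 L833299 q30744, e3 q31152 L833315 q30814, e3 q31153 L836749 q31446, e3 q31154 (flp_f L833327) q30716, e3 q31155 (flp_f L836789) q31449, e3 q31156 L833355 q30910, e3 q31157 (flp_f L833357) q30718, e3 q31158 (flp_f L836817) q31451, e3 q31159 L833385 q30833, e3 q31160 L833395 q30720, e3 q31161 L833413 q30855, e3 q31162 (flp_f L836450) q31423, e3 q31163 L833434 q30868, e3 q31164 L833444 q30850, e3 q31165 L833455 q30851, e3 q31166 (flp_f L836379)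 q31418, e3 q31167 L833479 q30935, trivial⟩ (by decide +kernel)

theorem ce_f_487 : ∀ r, r < 64 → sm gf (Qf (31168 + r)) = Qf (tab Gen.f (31168 + r)) :=
  edges_tab (sm gf) Qf (tab Gen.f) 31168 [(31168, 31457), (31169, 30736), (31170, 30738), (31171, 30894), (31172, 31460), (31173, 30741), (31174, 31441), (31175, 31443), (31176, 31416), (31177, 31372), (31178, 31465), (31179, 30753), (31180, 31467), (31181, 30755), (31182, 31468), (31183, 30757), (31184, 31469), (31185, 30759), (31186, 31413), (31187, 30905), (31188, 30812), (31189, 30907), (31190, 30813), (31191, 31329), (31192, 30815), (31193, 30845), (31194, 30852), (31195, 30869), (31196, 30965), (31197, 30960), (31198, 30917), (31199, 30918), (31200, 31478), (31201, 30782), (31202, 30887), (31203, 31336), (31204, 30784), (31205, 30889), (31206, 30962), (31207, 30920), (31208, 30957), (31209, 31426), (31210, 30964), (31211, 30978), (31212, 30921), (31213, 30974), (31214, 30823), (31215, 30825), (31216, 30975), (31217, 30912), (31218, 31364), (31219, 31472), (31220, 31442),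 (31221, 31444), (31222, 31473), (31223, 30940), (31224, 30938), (31225, 30939), (31226, 30819), (31227, 30883), (31228, 31485), (31229, 31381), (31230, 31494), (31231, 30829)]
    ⟨e3 q31168 L836881 q31457, e3 q31169 (flp_f L833497) q30736, e3 q31170 (flp_f L833505) q30738, e3 q31171 L833526 q30894, e3 q31172 L836918 q31460, e3 q31173 (flp_f L833533) q30741, e3 q31174 (flp_f L836696) q31441, e3 q31175 (flp_f L836723) q31443, e3 q31176 (flp_f L836358) q31416, e3 q31177 (flp_f L835713) q31372, e3 q31178 L836968 q31465, e3 q31179 (flp_f L833594) q30753, e3 q31180 (flp_f L836990) q31467, e3 q31181 (flp_f L833608) q30755, e3 q31182 (flp_f L837005) q31468, e3 q31183 L833628 q30757, e3 q31184 L837011 q31469, e3 q31185 (flp_f L833641) q30759, e3 q31186 (flp_f L836311) q31413, e3 q31187 L833667 q30905, e3 q31188 L833677 q30812, e3 q31189 L833690 q30907, e3 q31190 L833699 q30813, e3 q31191 (flp_f L835057) q31329, e3 q31192 L833721 q30815, e3 q31193 L833729 q30845, e3 q31194 L833742 q30852, e3 q31195 L833756 q30869, e3 q31196 L833769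 q30965, e3 q31197 L833784 q30960, e3 q31198 L833800 q30917, e3 q31199 L833813 q30918, e3 q31200 L837117 q31478, e3 q31201 (flp_f L833829) q30782, e3 q31202 L833851 q30887, e3 q31203 (flp_f L835162) q31336, e3 q31204 (flp_f L833871) q30784, e3 q31205 L833891 q30889, e3 q31206 L833897 q30962, e3 q31207 L833908 q30920, e3 q31208 L833916 q30957, e3 q31209 (flp_f L836506) q31426, e3 q31210 L833942 q30964, e3 q31211 L833954 q30978, e3 q31212 L833967 q30921, e3 q31213 L833979 q30974, e3 q31214 L833993 q30823, e3 q31215 L834004 q30825, e3 q31216 L834012 q30975, e3 q31217 L834023 q30912, e3 q31218 (flp_f L835578) q31364, e3 q31219 (flp_f L837045) q31472, e3 q31220 (flp_f L836712) q31442, e3 q31221 (flp_f L836738) q31444, e3 q31222 (flp_f L837051) q31473, e3 q31223 L834075 q30940, e3 q31224 L834085 q30938, e3 q31225 L834094 q30939, e3 q31226 (flp_f L834098) q30819, e3 q31227 L834122 q30883, e3 q31228 (flp_f L837218) q31485, e3 q31229 (flp_f L835867) q31381, e3 q31230 L837300 q31494, e3 q31231 (flp_f L834162) q30829, trivial⟩ (by decide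 +kernel)

theorem ce_f_488 : ∀ r, r < 64 → sm gf (Qf (31232 + r)) = Qf (tab Gen.f (31232 + r)) :=
  edges_tab (sm gf) Qf (tab Gen.f) 31232 [(31232, 31448), (31233, 30838), (31234, 30831), (31235, 31450), (31236, 31496), (31237, 30835), (31238, 30933), (31239, 31369), (31240, 30930), (31241, 30865), (31242, 30866), (31243, 30945), (31244, 30942), (31245, 30944), (31246, 30872), (31247, 31453), (31248, 31474), (31249, 30867), (31250, 31347), (31251, 30871), (31252, 31499), (31253, 31504), (31254, 31452), (31255, 30963), (31256, 31502), (31257, 31410), (31258, 30929), (31259, 30927), (31260, 30928), (31261, 30879), (31262, 31346), (31263, 30976), (31264, 31479), (31265, 31511), (31266, 30890), (31267, 31458), (31268, 30892), (31269, 31459), (31270, 31513), (31271, 30895), (31272, 31408), (31273, 31345), (31274, 30922), (31275, 30924), (31276, 30902), (31277, 30932), (31278, 31471), (31279, 30931), (31280, 30934), (31281, 31486), (31282, 30977), (31283, 30953), (31284, 30950), (31285, 30952), (31286, 31476), (31287, 31480), (31288,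 31483), (31289, 31515), (31290, 31405), (31291, 31508), (31292, 31507), (31293, 31498), (31294, 31517), (31295, 31497)]
    ⟨e3 q31232 (flp_f L836779) q31448, e3 q31233 L834190 q30838, e3 q31234 (flp_f L834192) q30831, e3 q31235 (flp_f L836806) q31450, e3 q31236 L837320 q31496, e3 q31237 (flp_f L834215) q30835, e3 q31238 L834233 q30933, e3 q31239 (flp_f L835660) q31369, e3 q31240 L834250 q30930, e3 q31241 L834262 q30865, e3 q31242 L834275 q30866, e3 q31243 L834286 q30945, e3 q31244 L834292 q30942, e3 q31245 L834306 q30944, e3 q31246 L834315 q30872, e3 q31247 (flp_f L836838) q31453, e3 q31248 (flp_f L837066) q31474, e3 q31249 L834346 q30867, e3 q31250 (flp_f L835328) q31347, e3 q31251 L834372 q30871, e3 q31252 (flp_f L837357) q31499, e3 q31253 (flp_f L837413) q31504, e3 q31254 (flp_f L836828) q31452, e3 q31255 L834407 q30963, e3 q31256 (flp_f L837389) q31502, e3 q31257 (flp_f L836263) q31410, e3 q31258 L834434 q30929, e3 q31259 L834444 q30927, e3 q31260 L834453 q30928, e3 q31261 L834461 q30879, e3 q31262 (flp_f L835314) q31346,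 e3 q31263 L834479 q30976, e3 q31264 (flp_f L837139) q31479, e3 q31265 L837480 q31511, e3 q31266 (flp_f L834500) q30890, e3 q31267 (flp_f L836903) q31458, e3 q31268 (flp_f L834514) q30892, e3 q31269 (flp_f L836916) q31459, e3 q31270 L837496 q31513, e3 q31271 (flp_f L834533) q30895, e3 q31272 (flp_f L836229) q31408, e3 q31273 (flp_f L835286) q31345, e3 q31274 L834558 q30922, e3 q31275 L834567 q30924, e3 q31276 (flp_f L834571) q30902, e3 q31277 L834587 q30932, e3 q31278 (flp_f L837035) q31471, e3 q31279 L834607 q30931, e3 q31280 L834615 q30934, e3 q31281 (flp_f L837231) q31486, e3 q31282 L834633 q30977, e3 q31283 L834644 q30953, e3 q31284 L834654 q30950, e3 q31285 L834661 q30952, e3 q31286 (flp_f L837100) q31476, e3 q31287 (flp_f L837150) q31480, e3 q31288 (flp_f L837190) q31483, e3 q31289 (flp_f L837514) q31515, e3 q31290 (flp_f L836192) q31405, e3 q31291 (flp_f L837460) q31508, e3 q31292 (flp_f L837450) q31507, e3 q31293 (flp_f L837343) q31498, e3 q31294 (flp_f L837536) q31517, e3 q31295 (flp_f L837336) q31497, trivial⟩ (by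 decide +kernel)

theorem ce_f_489 : ∀ r, r < 64 → sm gf (Qf (31296 + r)) = Qf (tab Gen.f (31296 + r)) :=
  edges_tab (sm gf) Qf (tab Gen.f) 31296 [(31296, 31455), (31297, 31422), (31298, 31491), (31299, 31490), (31300, 31500), (31301, 31409), (31302, 31501), (31303, 31419), (31304, 31417), (31305, 31519), (31306, 31518), (31307, 31371), (31308, 31404), (31309, 31481), (31310, 31432), (31311, 31475), (31312, 31368), (31313, 31482), (31314, 31370), (31315, 30973), (31316, 30971), (31317, 30972), (31318, 31529), (31319, 31528), (31320, 31484), (31321, 31424), (31322, 31067), (31323, 31068), (31324, 31069), (31325, 30984), (31326, 31027), (31327, 31534), (31328, 30988), (31329, 31191), (31330, 30990), (31331, 31025), (31332, 31138), (31333, 31540), (31334, 30995), (31335, 31543), (31336, 31203), (31337, 30997), (31338, 31545), (31339, 31130), (31340, 30999), (31341, 31081), (31342, 31082), (31343, 31083), (31344, 31084), (31345, 31273), (31346, 31262), (31347, 31250), (31348, 31550), (31349, 31017), (31350, 31019), (31351, 31089),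 (31352, 31553), (31353, 31022), (31354, 31535), (31355, 31537), (31356, 31556), (31357, 31028), (31358, 31558), (31359, 31030)]
    ⟨e3 q31296 (flp_f L836863) q31455, e3 q31297 (flp_f L836434) q31422, e3 q31298 (flp_f L837278) q31491, e3 q31299 (flp_f L837268) q31490, e3 q31300 (flp_f L837368) q31500, e3 q31301 (flp_f L836244) q31409, e3 q31302 (flp_f L837379) q31501, e3 q31303 (flp_f L836395) q31419, e3 q31304 (flp_f L836371) q31417, e3 q31305 (flp_f L837553) q31519, e3 q31306 (flp_f L837545) q31518, e3 q31307 (flp_f L835696) q31371, e3 q31308 (flp_f L836179) q31404, e3 q31309 (flp_f L837158) q31481, e3 q31310 (flp_f L836587) q31432, e3 q31311 (flp_f L837083) q31475, e3 q31312 (flp_f L835641) q31368, e3 q31313 (flp_f L837175) q31482, e3 q31314 (flp_f L835679) q31370, e3 q31315 L834882 q30973, e3 q31316 L834890 q30971, e3 q31317 L834897 q30972, e3 q31318 (flp_f L837636) q31529, e3 q31319 (flp_f L837628) q31528, e3 q31320 (flp_f L837203) q31484, e3 q31321 (flp_f L836465) q31424, e3 q31322 L834928 q31067, e3 q31323 L834946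 q31068, e3 q31324 L834963 q31069, e3 q31325 (flp_f L834973) q30984, e3 q31326 L835009 q31027, e3 q31327 L837697 q31534, e3 q31328 (flp_f L835029) q30988, e3 q31329 L835057 q31191, e3 q31330 (flp_f L835061) q30990, e3 q31331 L835086 q31025, e3 q31332 L835102 q31138, e3 q31333 L837796 q31540, e3 q31334 (flp_f L835120) q30995, e3 q31335 (flp_f L837850) q31543, e3 q31336 L835162 q31203, e3 q31337 (flp_f L835166) q30997, e3 q31338 (flp_f L837884) q31545, e3 q31339 L835202 q31130, e3 q31340 L835214 q30999, e3 q31341 L835228 q31081, e3 q31342 L835243 q31082, e3 q31343 L835257 q31083, e3 q31344 L835272 q31084, e3 q31345 L835286 q31273, e3 q31346 L835314 q31262, e3 q31347 L835328 q31250, e3 q31348 L837959 q31550, e3 q31349 (flp_f L835354) q31017, e3 q31350 (flp_f L835370) q31019, e3 q31351 L835399 q31089, e3 q31352 L838010 q31553, e3 q31353 (flp_f L835412) q31022, e3 q31354 (flp_f L837725) q31535, e3 q31355 (flp_f L837760) q31537, e3 q31356 L838054 q31556, e3 q31357 (flp_f L835467) q31028, e3 q31358 (flp_f L838092) q31558, e3 q31359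 (flp_f L835497) q31030, trivial⟩ (by decide +kernel)

theorem ce_f_490 : ∀ r, r < 64 → sm gf (Qf (31360 + r)) = Qf (tab Gen.f (31360 + r)) :=
  edges_tab (sm gf) Qf (tab Gen.f) 31360 [(31360, 31559), (31361, 31032), (31362, 31560), (31363, 31034), (31364, 31218), (31365, 31141), (31366, 31142), (31367, 31143), (31368, 31312), (31369, 31239), (31370, 31314), (31371, 31307), (31372, 31177), (31373, 31113), (31374, 31115), (31375, 31567), (31376, 31052), (31377, 31070), (31378, 31054), (31379, 31569), (31380, 31057), (31381, 31229), (31382, 31059), (31383, 31571), (31384, 31063), (31385, 31065), (31386, 31531), (31387, 31532), (31388, 31573), (31389, 31071), (31390, 31099), (31391, 31100), (31392, 31575), (31393, 31075), (31394, 31577), (31395, 31077), (31396, 31079), (31397, 31546), (31398, 31547), (31399, 31580), (31400, 31085), (31401, 31551), (31402, 31087), (31403, 31552), (31404, 31308), (31405, 31290), (31406, 31122), (31407, 31124), (31408, 31272), (31409, 31301), (31410, 31257), (31411, 31097), (31412, 31574), (31413,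 31186), (31414, 31586), (31415, 31103), (31416, 31176), (31417, 31304), (31418, 31166), (31419, 31303), (31420, 31544), (31421, 31565), (31422, 31297), (31423, 31162)]
    ⟨e3 q31360 (flp_f L838109) q31559, e3 q31361 L835531 q31032, e3 q31362 L838119 q31560, e3 q31363 (flp_f L835554) q31034, e3 q31364 L835578 q31218, e3 q31365 L835596 q31141, e3 q31366 L835611 q31142, e3 q31367 L835623 q31143, e3 q31368 L835641 q31312, e3 q31369 L835660 q31239, e3 q31370 L835679 q31314, e3 q31371 L835696 q31307, e3 q31372 L835713 q31177, e3 q31373 L835731 q31113, e3 q31374 L835748 q31115, e3 q31375 L838240 q31567, e3 q31376 (flp_f L835772) q31052, e3 q31377 L835802 q31070, e3 q31378 (flp_f L835806) q31054, e3 q31379 L838273 q31569, e3 q31380 (flp_f L835837) q31057, e3 q31381 L835867 q31229, e3 q31382 (flp_f L835871) q31059, e3 q31383 L838306 q31571, e3 q31384 (flp_f L835902) q31063, e3 q31385 (flp_f L835918) q31065, e3 q31386 (flp_f L837651) q31531, e3 q31387 (flp_f L837670) q31532, e3 q31388 L838339 q31573, e3 q31389 (flp_f L835971) q31071,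 e3 q31390 L835993 q31099, e3 q31391 L836006 q31100, e3 q31392 L838364 q31575, e3 q31393 (flp_f L836021) q31075, e3 q31394 (flp_f L838396) q31577, e3 q31395 L836051 q31077, e3 q31396 L836066 q31079, e3 q31397 (flp_f L837901) q31546, e3 q31398 (flp_f L837915) q31547, e3 q31399 L838438 q31580, e3 q31400 (flp_f L836117) q31085, e3 q31401 (flp_f L837991) q31551, e3 q31402 (flp_f L836147) q31087, e3 q31403 (flp_f L838008) q31552, e3 q31404 L836179 q31308, e3 q31405 L836192 q31290, e3 q31406 L836206 q31122, e3 q31407 L836219 q31124, e3 q31408 L836229 q31272, e3 q31409 L836244 q31301, e3 q31410 L836263 q31257, e3 q31411 (flp_f L836276) q31097, e3 q31412 (flp_f L838360) q31574, e3 q31413 L836311 q31186, e3 q31414 L838527 q31586, e3 q31415 (flp_f L836334) q31103, e3 q31416 L836358 q31176, e3 q31417 L836371 q31304, e3 q31418 L836379 q31166, e3 q31419 L836395 q31303, e3 q31420 (flp_f L837871) q31544, e3 q31421 (flp_f L838215) q31565, e3 q31422 L836434 q31297, e3 q31423 L836450 q31162, trivial⟩ (by decide +kernel)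

theorem ce_f_491 : ∀ r, r < 64 → sm gf (Qf (31424 + r)) = Qf (tab Gen.f (31424 + r)) :=
  edges_tab (sm gf) Qf (tab Gen.f) 31424 [(31424, 31321), (31425, 31583), (31426, 31209), (31427, 31595), (31428, 31126), (31429, 31542), (31430, 31145), (31431, 31128), (31432, 31310), (31433, 31596), (31434, 31135), (31435, 31536), (31436, 31538), (31437, 31562), (31438, 31563), (31439, 31599), (31440, 31147), (31441, 31174), (31442, 31220), (31443, 31175), (31444, 31221), (31445, 31602), (31446, 31153), (31447, 31605), (31448, 31232), (31449, 31155), (31450, 31235), (31451, 31158), (31452, 31254), (31453, 31247), (31454, 31588), (31455, 31296), (31456, 31607), (31457, 31168), (31458, 31267), (31459, 31269), (31460, 31172), (31461, 31600), (31462, 31587), (31463, 31564), (31464, 31610), (31465, 31178), (31466, 31612), (31467, 31180), (31468, 31182), (31469, 31184), (31470, 31585), (31471, 31278), (31472, 31219), (31473, 31222), (31474, 31248), (31475, 31311), (31476, 31286), (31477, 31616), (31478, 31200), (31479, 31264), (31480, 31287),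 (31481, 31309), (31482, 31313), (31483, 31288), (31484, 31320), (31485, 31228), (31486, 31281), (31487, 31561)]
    ⟨e3 q31424 L836465 q31321, e3 q31425 (flp_f L838487) q31583, e3 q31426 L836506 q31209, e3 q31427 L838667 q31595, e3 q31428 (flp_f L836524) q31126, e3 q31429 (flp_f L837836) q31542, e3 q31430 L836566 q31145, e3 q31431 (flp_f L836570) q31128, e3 q31432 L836587 q31310, e3 q31433 L838681 q31596, e3 q31434 (flp_f L836607) q31135, e3 q31435 (flp_f L837743) q31536, e3 q31436 (flp_f L837777) q31538, e3 q31437 (flp_f L838163) q31562, e3 q31438 (flp_f L838175) q31563, e3 q31439 L838725 q31599, e3 q31440 (flp_f L836680) q31147, e3 q31441 L836696 q31174, e3 q31442 L836712 q31220, e3 q31443 L836723 q31175, e3 q31444 L836738 q31221, e3 q31445 L838758 q31602, e3 q31446 (flp_f L836749) q31153, e3 q31447 (flp_f L838798) q31605, e3 q31448 L836779 q31232, e3 q31449 L836789 q31155, e3 q31450 L836806 q31235, e3 q31451 L836817 q31158, e3 q31452 L836828 q31254, e3 q31453 L836838 q31247, e3 q31454 (flp_f L838566) q31588, e3 q31455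 L836863 q31296, e3 q31456 L838815 q31607, e3 q31457 (flp_f L836881) q31168, e3 q31458 L836903 q31267, e3 q31459 L836916 q31269, e3 q31460 (flp_f L836918) q31172, e3 q31461 (flp_f L838740) q31600, e3 q31462 (flp_f L838553) q31587, e3 q31463 (flp_f L838197) q31564, e3 q31464 L838847 q31610, e3 q31465 (flp_f L836968) q31178, e3 q31466 (flp_f L838869) q31612, e3 q31467 L836990 q31180, e3 q31468 L837005 q31182, e3 q31469 (flp_f L837011) q31184, e3 q31470 (flp_f L838514) q31585, e3 q31471 L837035 q31278, e3 q31472 L837045 q31219, e3 q31473 L837051 q31222, e3 q31474 L837066 q31248, e3 q31475 L837083 q31311, e3 q31476 L837100 q31286, e3 q31477 L838914 q31616, e3 q31478 (flp_f L837117) q31200, e3 q31479 L837139 q31264, e3 q31480 L837150 q31287, e3 q31481 L837158 q31309, e3 q31482 L837175 q31313, e3 q31483 L837190 q31288, e3 q31484 L837203 q31320, e3 q31485 L837218 q31228, e3 q31486 L837231 q31281, e3 q31487 (flp_f L838145) q31561, trivial⟩ (by decide +kernel)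

theorem ce_f_492 : ∀ r, r < 64 → sm gf (Qf (31488 + r)) = Qf (tab Gen.f (31488 + r)) :=
  edges_tab (sm gf) Qf (tab Gen.f) 31488 [(31488, 31614), (31489, 31601), (31490, 31299), (31491, 31298), (31492, 31618), (31493, 31621), (31494, 31230), (31495, 31604), (31496, 31236), (31497, 31295), (31498, 31293), (31499, 31252), (31500, 31300), (31501, 31302), (31502, 31256), (31503, 31606), (31504, 31253), (31505, 31623), (31506, 31624), (31507, 31292), (31508, 31291), (31509, 31617), (31510, 31626), (31511, 31265), (31512, 31608), (31513, 31270), (31514, 31548), (31515, 31289), (31516, 31613), (31517, 31294), (31518, 31306), (31519, 31305), (31520, 31615), (31521, 31628), (31522, 31582), (31523, 31625), (31524, 31592), (31525, 31620), (31526, 31589), (31527, 31629), (31528, 31319), (31529, 31318), (31530, 31630), (31531, 31386), (31532, 31387), (31533, 31632), (31534, 31327), (31535, 31354), (31536, 31435), (31537, 31355), (31538, 31436), (31539, 31635), (31540, 31333), (31541, 31638), (31542, 31429), (31543, 31335), (31544, 31420),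 (31545, 31338), (31546, 31397), (31547, 31398), (31548, 31514), (31549, 31640), (31550, 31348), (31551, 31401)]
    ⟨e3 q31488 (flp_f L838897) q31614, e3 q31489 (flp_f L838756) q31601, e3 q31490 L837268 q31299, e3 q31491 L837278 q31298, e3 q31492 (flp_f L838949) q31618, e3 q31493 L838973 q31621, e3 q31494 (flp_f L837300) q31230, e3 q31495 (flp_f L838786) q31604, e3 q31496 (flp_f L837320) q31236, e3 q31497 L837336 q31295, e3 q31498 L837343 q31293, e3 q31499 L837357 q31252, e3 q31500 L837368 q31300, e3 q31501 L837379 q31302, e3 q31502 L837389 q31256, e3 q31503 (flp_f L838809) q31606, e3 q31504 L837413 q31253, e3 q31505 (flp_f L838998) q31623, e3 q31506 (flp_f L839011) q31624, e3 q31507 L837450 q31292, e3 q31508 L837460 q31291, e3 q31509 (flp_f L838938) q31617, e3 q31510 L839024 q31626, e3 q31511 (flp_f L837480) q31265, e3 q31512 (flp_f L838836) q31608, e3 q31513 (flp_f L837496) q31270, e3 q31514 (flp_f L837929) q31548, e3 q31515 L837514 q31289, e3 q31516 (flp_f L838888) q31613, e3 q31517 L837536 q31294, e3 q31518 L837545 q31306,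 e3 q31519 L837553 q31305, e3 q31520 (flp_f L838908) q31615, e3 q31521 (flp_f L839043) q31628, e3 q31522 (flp_f L838473) q31582, e3 q31523 (flp_f L839020) q31625, e3 q31524 (flp_f L838622) q31592, e3 q31525 (flp_f L838969) q31620, e3 q31526 (flp_f L838581) q31589, e3 q31527 (flp_f L839054) q31629, e3 q31528 L837628 q31319, e3 q31529 L837636 q31318, e3 q31530 (flp_f L839061) q31630, e3 q31531 L837651 q31386, e3 q31532 L837670 q31387, e3 q31533 L839082 q31632, e3 q31534 (flp_f L837697) q31327, e3 q31535 L837725 q31354, e3 q31536 L837743 q31435, e3 q31537 L837760 q31355, e3 q31538 L837777 q31436, e3 q31539 L839133 q31635, e3 q31540 (flp_f L837796) q31333, e3 q31541 (flp_f L839189) q31638, e3 q31542 L837836 q31429, e3 q31543 L837850 q31335, e3 q31544 L837871 q31420, e3 q31545 L837884 q31338, e3 q31546 L837901 q31397, e3 q31547 L837915 q31398, e3 q31548 L837929 q31514, e3 q31549 L839216 q31640, e3 q31550 (flp_f L837959) q31348, e3 q31551 L837991 q31401, trivial⟩ (by decide +kernel)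

theorem ce_f_493 : ∀ r, r < 64 → sm gf (Qf (31552 + r)) = Qf (tab Gen.f (31552 + r)) :=
  edges_tab (sm gf) Qf (tab Gen.f) 31552 [(31552, 31403), (31553, 31352), (31554, 31633), (31555, 31643), (31556, 31356), (31557, 31645), (31558, 31358), (31559, 31360), (31560, 31362), (31561, 31487), (31562, 31437), (31563, 31438), (31564, 31463), (31565, 31421), (31566, 31648), (31567, 31375), (31568, 31649), (31569, 31379), (31570, 31650), (31571, 31383), (31572, 31631), (31573, 31388), (31574, 31412), (31575, 31392), (31576, 31652), (31577, 31394), (31578, 31639), (31579, 31653), (31580, 31399), (31581, 31641), (31582, 31522), (31583, 31425), (31584, 31651), (31585, 31470), (31586, 31414), (31587, 31462), (31588, 31454), (31589, 31526), (31590, 31637), (31591, 31647), (31592, 31524), (31593, 31655), (31594, 31657), (31595, 31427), (31596, 31433), (31597, 31634), (31598, 31646), (31599, 31439), (31600, 31461), (31601, 31489), (31602, 31445), (31603, 31662), (31604, 31495), (31605, 31447), (31606, 31503), (31607, 31456), (31608, 31512),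 (31609, 31659), (31610, 31464), (31611, 31664), (31612, 31466), (31613, 31516), (31614, 31488), (31615, 31520)]
    ⟨e3 q31552 L838008 q31403, e3 q31553 (flp_f L838010) q31352, e3 q31554 (flp_f L839111) q31633, e3 q31555 L839266 q31643, e3 q31556 (flp_f L838054) q31356, e3 q31557 (flp_f L839306) q31645, e3 q31558 L838092 q31358, e3 q31559 L838109 q31360, e3 q31560 (flp_f L838119) q31362, e3 q31561 L838145 q31487, e3 q31562 L838163 q31437, e3 q31563 L838175 q31438, e3 q31564 L838197 q31463, e3 q31565 L838215 q31421, e3 q31566 L839352 q31648, e3 q31567 (flp_f L838240) q31375, e3 q31568 L839369 q31649, e3 q31569 (flp_f L838273) q31379, e3 q31570 L839386 q31650, e3 q31571 (flp_f L838306) q31383, e3 q31572 (flp_f L839072) q31631, e3 q31573 (flp_f L838339) q31388, e3 q31574 L838360 q31412, e3 q31575 (flp_f L838364) q31392, e3 q31576 (flp_f L839427) q31652, e3 q31577 L838396 q31394, e3 q31578 (flp_f L839208) q31639, e3 q31579 L839437 q31653, e3 q31580 (flp_f L838438) q31399, e3 q31581 (flp_f L839249) q31641, e3 q31582 L838473 q31522,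 e3 q31583 L838487 q31425, e3 q31584 (flp_f L839416) q31651, e3 q31585 L838514 q31470, e3 q31586 (flp_f L838527) q31414, e3 q31587 L838553 q31462, e3 q31588 L838566 q31454, e3 q31589 L838581 q31526, e3 q31590 (flp_f L839175) q31637, e3 q31591 (flp_f L839344) q31647, e3 q31592 L838622 q31524, e3 q31593 (flp_f L839478) q31655, e3 q31594 L839499 q31657, e3 q31595 (flp_f L838667) q31427, e3 q31596 (flp_f L838681) q31433, e3 q31597 (flp_f L839129) q31634, e3 q31598 (flp_f L839327) q31646, e3 q31599 (flp_f L838725) q31439, e3 q31600 L838740 q31461, e3 q31601 L838756 q31489, e3 q31602 (flp_f L838758) q31445, e3 q31603 (flp_f L839575) q31662, e3 q31604 L838786 q31495, e3 q31605 L838798 q31447, e3 q31606 L838809 q31503, e3 q31607 (flp_f L838815) q31456, e3 q31608 L838836 q31512, e3 q31609 (flp_f L839538) q31659, e3 q31610 (flp_f L838847) q31464, e3 q31611 (flp_f L839601) q31664, e3 q31612 L838869 q31466, e3 q31613 L838888 q31516, e3 q31614 L838897 q31488, e3 q31615 L838908 q31520, trivial⟩ (by decide +kernel)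

theorem ce_f_494 : ∀ r, r < 55 → sm gf (Qf (31616 + r)) = Qf (tab Gen.f (31616 + r)) :=
  edges_tab (sm gf) Qf (tab Gen.f) 31616 [(31616, 31477), (31617, 31509), (31618, 31492), (31619, 31660), (31620, 31525), (31621, 31493), (31622, 31661), (31623, 31505), (31624, 31506), (31625, 31523), (31626, 31510), (31627, 31663), (31628, 31521), (31629, 31527), (31630, 31530), (31631, 31572), (31632, 31533), (31633, 31554), (31634, 31597), (31635, 31539), (31636, 31668), (31637, 31590), (31638, 31541), (31639, 31578), (31640, 31549), (31641, 31581), (31642, 31665), (31643, 31555), (31644, 31670), (31645, 31557), (31646, 31598), (31647, 31591), (31648, 31566), (31649, 31568), (31650, 31570), (31651, 31584), (31652, 31576), (31653, 31579), (31654, 31669), (31655, 31593), (31656, 31667), (31657, 31594), (31658, 31666), (31659, 31609), (31660, 31619), (31661, 31622), (31662, 31603), (31663, 31627), (31664, 31611), (31665, 31642), (31666, 31658), (31667, 31656), (31668, 31636), (31669, 31654), (31670, 31644)]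
    ⟨e3 q31616 (flp_f L838914) q31477, e3 q31617 L838938 q31509, e3 q31618 L838949 q31492, e3 q31619 (flp_f L839553) q31660, e3 q31620 L838969 q31525, e3 q31621 (flp_f L838973) q31493, e3 q31622 (flp_f L839564) q31661, e3 q31623 L838998 q31505, e3 q31624 L839011 q31506, e3 q31625 L839020 q31523, e3 q31626 (flp_f L839024) q31510, e3 q31627 (flp_f L839592) q31663, e3 q31628 L839043 q31521, e3 q31629 L839054 q31527, e3 q31630 L839061 q31530, e3 q31631 L839072 q31572, e3 q31632 (flp_f L839082) q31533, e3 q31633 L839111 q31554, e3 q31634 L839129 q31597, e3 q31635 (flp_f L839133) q31539, e3 q31636 (flp_f L839673) q31668, e3 q31637 L839175 q31590, e3 q31638 L839189 q31541, e3 q31639 L839208 q31578, e3 q31640 (flp_f L839216) q31549, e3 q31641 L839249 q31581, e3 q31642 (flp_f L839622) q31665, e3 q31643 (flp_f L839266) q31555, e3 q31644 (flp_f L839711) q31670, e3 q31645 L839306 q31557, e3 q31646 L839327 q31598, e3 q31647 L839344 q31591, e3 q31648 (flp_f L839352) q31566, e3 q31649 (flp_f L839369) q31568, e3 q31650 (flp_f L839386) q31570,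 e3 q31651 L839416 q31584, e3 q31652 L839427 q31576, e3 q31653 (flp_f L839437) q31579, e3 q31654 (flp_f L839700) q31669, e3 q31655 L839478 q31593, e3 q31656 (flp_f L839658) q31667, e3 q31657 (flp_f L839499) q31594, e3 q31658 (flp_f L839641) q31666, e3 q31659 L839538 q31609, e3 q31660 L839553 q31619, e3 q31661 L839564 q31622, e3 q31662 L839575 q31603, e3 q31663 L839592 q31627, e3 q31664 L839601 q31611, e3 q31665 L839622 q31642, e3 q31666 L839641 q31658, e3 q31667 L839658 q31656, e3 q31668 L839673 q31636, e3 q31669 L839700 q31654, e3 q31670 L839711 q31644, trivial⟩ (by decide +kernel)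

theorem cl_f : ∀ i, i < 31671 → sm gf (Qf i) = Qf (tab Gen.f i) :=
  all_of_chunks (fun i => sm gf (Qf i) = Qf (tab Gen.f i)) 494 55
    ⟨ce_f_0, ce_f_1, ce_f_2, ce_f_3, ce_f_4, ce_f_5, ce_f_6, ce_f_7, ce_f_8, ce_f_9, ce_f_10, ce_f_11, ce_f_12, ce_f_13, ce_f_14, ce_f_15, ce_f_16, ce_f_17, ce_f_18, ce_f_19, ce_f_20, ce_f_21, ce_f_22, ce_f_23, ce_f_24, ce_f_25, ce_f_26, ce_f_27, ce_f_28, ce_f_29, ce_f_30, ce_f_31, ce_f_32, ce_f_33, ce_f_34, ce_f_35, ce_f_36, ce_f_37, ce_f_38, ce_f_39, ce_f_40, ce_f_41, ce_f_42, ce_f_43, ce_f_44, ce_f_45, ce_f_46, ce_f_47, ce_f_48, ce_f_49, ce_f_50, ce_f_51, ce_f_52, ce_f_53, ce_f_54, ce_f_55, ce_f_56, ce_f_57, ce_f_58, ce_f_59, ce_f_60, ce_f_61, ce_f_62, ce_f_63, ce_f_64, ce_f_65, ce_f_66, ce_f_67, ce_f_68, ce_f_69, ce_f_70, ce_f_71, ce_f_72, ce_f_73, ce_f_74, ce_f_75, ce_f_76, ce_f_77, ce_f_78, ce_f_79, ce_f_80, ce_f_81, ce_f_82, ce_f_83, ce_f_84, ce_f_85, ce_f_86, ce_f_87, ce_f_88, ce_f_89, ce_f_90, ce_f_91, ce_f_92, ce_f_93, ce_f_94, ce_f_95, ce_f_96, ce_f_97, ce_f_98, ce_f_99, ce_f_100,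 ce_f_101, ce_f_102, ce_f_103, ce_f_104, ce_f_105, ce_f_106, ce_f_107, ce_f_108, ce_f_109, ce_f_110, ce_f_111, ce_f_112, ce_f_113, ce_f_114, ce_f_115, ce_f_116, ce_f_117, ce_f_118, ce_f_119, ce_f_120, ce_f_121, ce_f_122, ce_f_123, ce_f_124, ce_f_125, ce_f_126, ce_f_127, ce_f_128, ce_f_129, ce_f_130, ce_f_131, ce_f_132, ce_f_133, ce_f_134, ce_f_135, ce_f_136, ce_f_137, ce_f_138, ce_f_139, ce_f_140, ce_f_141, ce_f_142, ce_f_143, ce_f_144, ce_f_145, ce_f_146, ce_f_147, ce_f_148, ce_f_149, ce_f_150, ce_f_151, ce_f_152, ce_f_153, ce_f_154, ce_f_155, ce_f_156, ce_f_157, ce_f_158, ce_f_159, ce_f_160, ce_f_161, ce_f_162, ce_f_163, ce_f_164, ce_f_165, ce_f_166, ce_f_167, ce_f_168, ce_f_169, ce_f_170, ce_f_171, ce_f_172, ce_f_173, ce_f_174, ce_f_175, ce_f_176, ce_f_177, ce_f_178, ce_f_179, ce_f_180, ce_f_181, ce_f_182, ce_f_183, ce_f_184, ce_f_185, ce_f_186, ce_f_187, ce_f_188, ce_f_189, ce_f_190, ce_f_191, ce_f_192, ce_f_193, ce_f_194, ce_f_195, ce_f_196, ce_f_197, ce_f_198, ce_f_199, ce_f_200, ce_f_201, ce_f_202, ce_f_203, ce_f_204,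 ce_f_205, ce_f_206, ce_f_207, ce_f_208, ce_f_209, ce_f_210, ce_f_211, ce_f_212, ce_f_213, ce_f_214, ce_f_215, ce_f_216, ce_f_217, ce_f_218, ce_f_219, ce_f_220, ce_f_221, ce_f_222, ce_f_223, ce_f_224, ce_f_225, ce_f_226, ce_f_227, ce_f_228, ce_f_229, ce_f_230, ce_f_231, ce_f_232, ce_f_233, ce_f_234, ce_f_235, ce_f_236, ce_f_237, ce_f_238, ce_f_239, ce_f_240, ce_f_241, ce_f_242, ce_f_243, ce_f_244, ce_f_245, ce_f_246, ce_f_247, ce_f_248, ce_f_249, ce_f_250, ce_f_251, ce_f_252, ce_f_253, ce_f_254, ce_f_255, ce_f_256, ce_f_257, ce_f_258, ce_f_259, ce_f_260, ce_f_261, ce_f_262, ce_f_263, ce_f_264, ce_f_265, ce_f_266, ce_f_267, ce_f_268, ce_f_269, ce_f_270, ce_f_271, ce_f_272, ce_f_273, ce_f_274, ce_f_275, ce_f_276, ce_f_277, ce_f_278, ce_f_279, ce_f_280, ce_f_281, ce_f_282, ce_f_283, ce_f_284, ce_f_285, ce_f_286, ce_f_287, ce_f_288, ce_f_289, ce_f_290, ce_f_291, ce_f_292, ce_f_293, ce_f_294, ce_f_295, ce_f_296, ce_f_297, ce_f_298, ce_f_299, ce_f_300, ce_f_301, ce_f_302, ce_f_303, ce_f_304, ce_f_305, ce_f_306, ce_f_307, ce_f_308,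 ce_f_309, ce_f_310, ce_f_311, ce_f_312, ce_f_313, ce_f_314, ce_f_315, ce_f_316, ce_f_317, ce_f_318, ce_f_319, ce_f_320, ce_f_321, ce_f_322, ce_f_323, ce_f_324, ce_f_325, ce_f_326, ce_f_327, ce_f_328, ce_f_329, ce_f_330, ce_f_331, ce_f_332, ce_f_333, ce_f_334, ce_f_335, ce_f_336, ce_f_337, ce_f_338, ce_f_339, ce_f_340, ce_f_341, ce_f_342, ce_f_343, ce_f_344, ce_f_345, ce_f_346, ce_f_347, ce_f_348, ce_f_349, ce_f_350, ce_f_351, ce_f_352, ce_f_353, ce_f_354, ce_f_355, ce_f_356, ce_f_357, ce_f_358, ce_f_359, ce_f_360, ce_f_361, ce_f_362, ce_f_363, ce_f_364, ce_f_365, ce_f_366, ce_f_367, ce_f_368, ce_f_369, ce_f_370, ce_f_371, ce_f_372, ce_f_373, ce_f_374, ce_f_375, ce_f_376, ce_f_377, ce_f_378, ce_f_379, ce_f_380, ce_f_381, ce_f_382, ce_f_383, ce_f_384, ce_f_385, ce_f_386, ce_f_387, ce_f_388, ce_f_389, ce_f_390, ce_f_391, ce_f_392, ce_f_393, ce_f_394, ce_f_395, ce_f_396, ce_f_397, ce_f_398, ce_f_399, ce_f_400, ce_f_401, ce_f_402, ce_f_403, ce_f_404, ce_f_405, ce_f_406, ce_f_407, ce_f_408, ce_f_409, ce_f_410, ce_f_411, ce_f_412,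 ce_f_413, ce_f_414, ce_f_415, ce_f_416, ce_f_417, ce_f_418, ce_f_419, ce_f_420, ce_f_421, ce_f_422, ce_f_423, ce_f_424, ce_f_425, ce_f_426, ce_f_427, ce_f_428, ce_f_429, ce_f_430, ce_f_431, ce_f_432, ce_f_433, ce_f_434, ce_f_435, ce_f_436, ce_f_437, ce_f_438, ce_f_439, ce_f_440, ce_f_441, ce_f_442, ce_f_443, ce_f_444, ce_f_445, ce_f_446, ce_f_447, ce_f_448, ce_f_449, ce_f_450, ce_f_451, ce_f_452, ce_f_453, ce_f_454, ce_f_455, ce_f_456, ce_f_457, ce_f_458, ce_f_459, ce_f_460, ce_f_461, ce_f_462, ce_f_463, ce_f_464, ce_f_465, ce_f_466, ce_f_467, ce_f_468, ce_f_469, ce_f_470, ce_f_471, ce_f_472, ce_f_473, ce_f_474, ce_f_475, ce_f_476, ce_f_477, ce_f_478, ce_f_479, ce_f_480, ce_f_481, ce_f_482, ce_f_483, ce_f_484, ce_f_485, ce_f_486, ce_f_487, ce_f_488, ce_f_489, ce_f_490, ce_f_491, ce_f_492, ce_f_493, trivial⟩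
    ce_f_494


end Cfsg.Agent.Helper28.FicA
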