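import Cfsg.Agent.Helper28.FicC0

/-!
# The Fi₂₃ presentation, cosets of the subgroup generated by a, …, i: the action of the generator g (helper28; generated)
-/

set_option autoImplicit false
set_option maxRecDepth 100000
set_option linter.unusedSimpArgs false
set_option linter.constructorNameAsVariable false

noncomputable section

namespace Cfsg.Agent.Helper28.FicA

open Cfsg.Spor Cfsg.Spor.Fi23 Cfsg.Agent.Helper28.CosetTable

theorem ce_g_0 : ∀ r, r < 64 → sm gg (Qf (0 + r)) = Qf (tab Gen.g (0 + r)) :=
  edges_tab (sm gg) Qf (tab Gen.g) 0 [(0, 0), (1, 2), (2, 1), (3, 3), (4, 4), (5, 5), (6, 6), (7, 7), (8, 8), (9, 9), (10, 10), (11, 11), (12, 12), (13, 13), (14, 14), (15, 15), (16, 16), (17, 17), (18, 18), (19, 19), (20, 20), (21, 21), (22, 22), (23, 23), (24, 24), (25, 36), (26, 26), (27, 27), (28, 28), (29, 29), (30, 30), (31, 31), (32, 32), (33, 49), (34, 34), (35, 35), (36, 25), (37, 53), (38, 38), (39, 39), (40, 40), (41, 41), (42, 62), (43, 43), (44, 44), (45, 45), (46, 68), (47, 47), (48, 48), (49, 33), (50, 73),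 (51, 51), (52, 52), (53, 37), (54, 77), (55, 55), (56, 56), (57, 57), (58, 58), (59, 87), (60, 60), (61, 61), (62, 42), (63, 92)]
    ⟨e3 q0 L6 q0, e3 q1 L19 q2, e3 q2 (flp_g L19) q1, e3 q3 L38 q3, e3 q4 L44 q4, e3 q5 L54 q5, e3 q6 L63 q6, e3 q7 L73 q7, e3 q8 L81 q8, e3 q9 L92 q9, e3 q10 L101 q10, e3 q11 L110 q11, e3 q12 L121 q12, e3 q13 L127 q13, e3 q14 L138 q14, e3 q15 L149 q15, e3 q16 L156 q16, e3 q17 L166 q17, e3 q18 L173 q18, e3 q19 L184 q19, e3 q20 L192 q20, e3 q21 L203 q21, e3 q22 L209 q22, e3 q23 L218 q23, e3 q24 L229 q24, e3 q25 L328 q36, e3 q26 L246 q26, e3 q27 L253 q27, e3 q28 L262 q28, e3 q29 L271 q29, e3 q30 L283 q30, e3 q31 L290 q31, e3 q32 L300 q32, e3 q33 L444 q49, e3 q34 L317 q34, e3 q35 L324 q35, e3 q36 (flp_g L328) q25, e3 q37 (flp_g L486) q53, e3 q38 L351 q38, e3 q39 L358 q39, e3 q40 L369 q40, e3 q41 L380 q41, e3 q42 L561 q62, e3 q43 L399 q43, e3 q44 L407 q44, e3 q45 L414 q45, e3 q46 L614 q68, e3 q47 L433 q47, e3 q48 L441 q48, e3 q49 (flp_g L444) q33, e3 q50 (flp_g L666) q73, e3 q51 L467 q51, e3 q52 L478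 q52, e3 q53 L486 q37, e3 q54 (flp_g L702) q77, e3 q55 L500 q55, e3 q56 L511 q56, e3 q57 L522 q57, e3 q58 L528 q58, e3 q59 L786 q87, e3 q60 L549 q60, e3 q61 L558 q61, e3 q62 (flp_g L561) q42, e3 q63 (flp_g L844) q92, trivial⟩ (by decide +kernel)

theorem ce_g_1 : ∀ r, r < 64 → sm gg (Qf (64 + r)) = Qf (tab Gen.g (64 + r)) :=
  edges_tab (sm gg) Qf (tab Gen.g) 64 [(64, 64), (65, 96), (66, 66), (67, 67), (68, 46), (69, 102), (70, 70), (71, 71), (72, 72), (73, 50), (74, 107), (75, 75), (76, 76), (77, 54), (78, 111), (79, 79), (80, 80), (81, 119), (82, 82), (83, 83), (84, 124), (85, 85), (86, 86), (87, 59), (88, 130), (89, 89), (90, 90), (91, 91), (92, 63), (93, 135), (94, 94), (95, 138), (96, 65), (97, 142), (98, 143), (99, 99), (100, 100), (101, 101), (102, 69), (103, 149), (104, 104), (105, 105), (106, 106), (107, 74), (108, 155), (109, 109), (110, 110), (111, 78), (112, 160), (113, 161), (114, 114), (115, 115), (116, 169), (117, 117), (118, 118), (119, 81), (120, 175), (121, 121), (122, 122), (123, 180), (124, 84), (125, 184),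 (126, 185), (127, 127)]
    ⟨e3 q64 L587 q64, e3 q65 L873 q96, e3 q66 L602 q66, e3 q67 L612 q67, e3 q68 (flp_g L614) q46, e3 q69 (flp_g L928) q102, e3 q70 L638 q70, e3 q71 L645 q71, e3 q72 L658 q72, e3 q73 L666 q50, e3 q74 (flp_g L970) q107, e3 q75 L681 q75, e3 q76 L693 q76, e3 q77 L702 q54, e3 q78 (flp_g L1003) q111, e3 q79 L717 q79, e3 q80 L727 q80, e3 q81 L1067 q119, e3 q82 L747 q82, e3 q83 L756 q83, e3 q84 L1115 q124, e3 q85 L773 q85, e3 q86 L784 q86, e3 q87 (flp_g L786) q59, e3 q88 (flp_g L1177) q130, e3 q89 L813 q89, e3 q90 L821 q90, e3 q91 L835 q91, e3 q92 L844 q63, e3 q93 (flp_g L1224) q135, e3 q94 L861 q94, e3 q95 L1246 q138, e3 q96 (flp_g L873) q65, e3 q97 (flp_g L1283) q142, e3 q98 (flp_g L1293) q143, e3 q99 L903 q99, e3 q100 L910 q100, e3 q101 L920 q101, e3 q102 L928 q69, e3 q103 (flp_g L1343) q149, e3 q104 L943 q104, e3 q105 L950 q105, e3 q106 L961 q106, e3 q107 L970 q74, e3 q108 (flp_g L1391) q155, e3 q109 L985 q109, e3 q110 L995 q110, e3 q111 L1003 q78, e3 q112 (flp_g L1433) q160, e3 q113 (flp_g L1441) q161,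 e3 q114 L1028 q114, e3 q115 L1036 q115, e3 q116 L1507 q169, e3 q117 L1054 q117, e3 q118 L1065 q118, e3 q119 (flp_g L1067) q81, e3 q120 (flp_g L1569) q175, e3 q121 L1094 q121, e3 q122 L1103 q122, e3 q123 L1609 q180, e3 q124 (flp_g L1115) q84, e3 q125 (flp_g L1651) q184, e3 q126 (flp_g L1662) q185, e3 q127 L1149 q127, trivial⟩ (by decide +kernel)

theorem ce_g_2 : ∀ r, r < 64 → sm gg (Qf (128 + r)) = Qf (tab Gen.g (128 + r)) :=
  edges_tab (sm gg) Qf (tab Gen.g) 128 [(128, 128), (129, 129), (130, 88), (131, 191), (132, 132), (133, 133), (134, 134), (135, 93), (136, 197), (137, 137), (138, 95), (139, 203), (140, 204), (141, 141), (142, 97), (143, 98), (144, 210), (145, 211), (146, 146), (147, 147), (148, 148), (149, 103), (150, 218), (151, 151), (152, 152), (153, 224), (154, 154), (155, 108), (156, 226), (157, 227), (158, 158), (159, 159), (160, 112), (161, 113), (162, 233), (163, 234), (164, 164), (165, 240), (166, 166), (167, 167), (168, 246), (169, 116), (170, 250), (171, 251), (172, 172), (173, 173), (174, 174), (175, 120),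 (176, 257), (177, 177), (178, 178), (179, 179), (180, 123), (181, 265), (182, 266), (183, 183), (184, 125), (185, 126), (186, 272), (187, 273), (188, 188), (189, 189), (190, 190), (191, 131)]
    ⟨e3 q128 L1157 q128, e3 q129 L1168 q129, e3 q130 L1177 q88, e3 q131 (flp_g L1718) q191, e3 q132 L1194 q132, e3 q133 L1202 q133, e3 q134 L1214 q134, e3 q135 L1224 q93, e3 q136 (flp_g L1773) q197, e3 q137 L1242 q137, e3 q138 (flp_g L1246) q95, e3 q139 (flp_g L1825) q203, e3 q140 (flp_g L1834) q204, e3 q141 L1277 q141, e3 q142 L1283 q97, e3 q143 L1293 q98, e3 q144 (flp_g L1884) q210, e3 q145 (flp_g L1891) q211, e3 q146 L1315 q146, e3 q147 L1322 q147, e3 q148 L1333 q148, e3 q149 L1343 q103, e3 q150 (flp_g L1948) q218, e3 q151 L1355 q151, e3 q152 L1363 q152, e3 q153 L1988 q224, e3 q154 L1382 q154, e3 q155 L1391 q108, e3 q156 (flp_g L2009) q226, e3 q157 (flp_g L2017) q227, e3 q158 L1414 q158, e3 q159 L1424 q159, e3 q160 L1433 q112, e3 q161 L1441 q113, e3 q162 (flp_g L2071) q233, e3 q163 (flp_g L2080) q234, e3 q164 L1467 q164, e3 q165 L2125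 q240, e3 q166 L1487 q166, e3 q167 L1497 q167, e3 q168 L2178 q246, e3 q169 (flp_g L1507) q116, e3 q170 (flp_g L2220) q250, e3 q171 (flp_g L2231) q251, e3 q172 L1541 q172, e3 q173 L1549 q173, e3 q174 L1560 q174, e3 q175 L1569 q120, e3 q176 (flp_g L2288) q257, e3 q177 L1587 q177, e3 q178 L1594 q178, e3 q179 L1605 q179, e3 q180 (flp_g L1609) q123, e3 q181 (flp_g L2360) q265, e3 q182 (flp_g L2370) q266, e3 q183 L1644 q183, e3 q184 L1651 q125, e3 q185 L1662 q126, e3 q186 (flp_g L2426) q272, e3 q187 (flp_g L2434) q273, e3 q188 L1687 q188, e3 q189 L1695 q189, e3 q190 L1707 q190, e3 q191 L1718 q131, trivial⟩ (by decide +kernel)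

theorem ce_g_3 : ∀ r, r < 64 → sm gg (Qf (192 + r)) = Qf (tab Gen.g (192 + r)) :=
  edges_tab (sm gg) Qf (tab Gen.g) 192 [(192, 280), (193, 193), (194, 194), (195, 286), (196, 196), (197, 136), (198, 288), (199, 289), (200, 200), (201, 201), (202, 202), (203, 139), (204, 140), (205, 298), (206, 299), (207, 300), (208, 208), (209, 209), (210, 144), (211, 145), (212, 307), (213, 308), (214, 214), (215, 215), (216, 216), (217, 217), (218, 150), (219, 318), (220, 319), (221, 221), (222, 222), (223, 326), (224, 153), (225, 225), (226, 156), (227, 157), (228, 330), (229, 331), (230, 230), (231, 231), (232, 232), (233, 162), (234, 163), (235, 235), (236, 339), (237, 340), (238, 341), (239, 347), (240, 165), (241, 351), (242, 352), (243, 243), (244, 244), (245, 245), (246, 168), (247, 362), (248, 363), (249, 249), (250, 170), (251, 171), (252, 369), (253, 370), (254, 254), (255, 255)]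
    ⟨e3 q192 (flp_g L2499) q280, e3 q193 L1733 q193, e3 q194 L1742 q194, e3 q195 L2544 q286, e3 q196 L1763 q196, e3 q197 L1773 q136, e3 q198 (flp_g L2569) q288, e3 q199 (flp_g L2578) q289, e3 q200 L1799 q200, e3 q201 L1810 q201, e3 q202 L1818 q202, e3 q203 L1825 q139, e3 q204 L1834 q140, e3 q205 (flp_g L2658) q298, e3 q206 (flp_g L2668) q299, e3 q207 (flp_g L2676) q300, e3 q208 L1864 q208, e3 q209 L1875 q209, e3 q210 L1884 q144, e3 q211 L1891 q145, e3 q212 (flp_g L2731) q307, e3 q213 (flp_g L2739) q308, e3 q214 L1913 q214, e3 q215 L1920 q215, e3 q216 L1928 q216, e3 q217 L1940 q217, e3 q218 L1948 q150, e3 q219 (flp_g L2817) q318, e3 q220 (flp_g L2825) q319, e3 q221 L1969 q221, e3 q222 L1977 q222, e3 q223 L2876 q326, e3 q224 (flp_g L1988) q153, e3 q225 L2001 q225, e3 q226 L2009 q156, e3 q227 L2017 q157, e3 q228 (flp_g L2913) q330, e3 q229 (flp_g L2923) q331, e3 q230 L2044 q230, e3 q231 L2052 q231, e3 q232 L2061 q232, e3 q233 L2071 q162, e3 q234 L2080 q163, e3 q235 L2091 q235, e3 q236 (flp_g L2993) q339, e3 q237 (flp_g L3002)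 q340, e3 q238 (flp_g L3009) q341, e3 q239 L3057 q347, e3 q240 (flp_g L2125) q165, e3 q241 (flp_g L3102) q351, e3 q242 (flp_g L3112) q352, e3 q243 L2156 q243, e3 q244 L2167 q244, e3 q245 L2176 q245, e3 q246 (flp_g L2178) q168, e3 q247 (flp_g L3203) q362, e3 q248 (flp_g L3213) q363, e3 q249 L2213 q249, e3 q250 L2220 q170, e3 q251 L2231 q171, e3 q252 (flp_g L3271) q369, e3 q253 (flp_g L3279) q370, e3 q254 L2256 q254, e3 q255 L2265 q255, trivial⟩ (by decide +kernel)

theorem ce_g_4 : ∀ r, r < 64 → sm gg (Qf (256 + r)) = Qf (tab Gen.g (256 + r)) :=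
  edges_tab (sm gg) Qf (tab Gen.g) 256 [(256, 256), (257, 176), (258, 377), (259, 259), (260, 260), (261, 261), (262, 385), (263, 263), (264, 264), (265, 181), (266, 182), (267, 391), (268, 392), (269, 393), (270, 270), (271, 271), (272, 186), (273, 187), (274, 400), (275, 401), (276, 276), (277, 277), (278, 278), (279, 279), (280, 192), (281, 411), (282, 412), (283, 283), (284, 284), (285, 419), (286, 195), (287, 287), (288, 198), (289, 199), (290, 423), (291, 424), (292, 292), (293, 429), (294, 294), (295, 295), (296, 296), (297, 297), (298, 205), (299, 206), (300, 207), (301, 438), (302, 439), (303, 440), (304, 441), (305, 305), (306, 306), (307, 212), (308, 213), (309, 450), (310, 451), (311, 452), (312, 312), (313, 313), (314, 314), (315, 315), (316, 465), (317, 317), (318, 219), (319, 220)]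
    ⟨e3 q256 L2277 q256, e3 q257 L2288 q176, e3 q258 (flp_g L3346) q377, e3 q259 L2303 q259, e3 q260 L2312 q260, e3 q261 L2323 q261, e3 q262 L3408 q385, e3 q263 L2343 q263, e3 q264 L2352 q264, e3 q265 L2360 q181, e3 q266 L2370 q182, e3 q267 (flp_g L3470) q391, e3 q268 (flp_g L3481) q392, e3 q269 (flp_g L3490) q393, e3 q270 L2404 q270, e3 q271 L2416 q271, e3 q272 L2426 q186, e3 q273 L2434 q187, e3 q274 (flp_g L3554) q400, e3 q275 (flp_g L3563) q401, e3 q276 L2459 q276, e3 q277 L2468 q277, e3 q278 L2477 q278, e3 q279 L2490 q279, e3 q280 L2499 q192, e3 q281 (flp_g L3653) q411, e3 q282 (flp_g L3662) q412, e3 q283 L2523 q283, e3 q284 L2532 q284, e3 q285 L3717 q419, e3 q286 (flp_g L2544) q195, e3 q287 L2559 q287, e3 q288 L2569 q198, e3 q289 L2578 q199, e3 q290 (flp_g L3759) q423, e3 q291 (flp_g L3770) q424, e3 q292 L2605 q292, e3 q293 L3811 q429, e3 q294 L2626 q294, e3 q295 L2635 q295, e3 q296 L2642 q296, e3 q297 L2652 q297, e3 q298 L2658 q205, e3 q299 L2668 q206, e3 q300 L2676 q207, e3 q301 (flp_g L3890) q438, e3 q302 (flp_g L3900)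 q439, e3 q303 (flp_g L3908) q440, e3 q304 (flp_g L3915) q441, e3 q305 L2715 q305, e3 q306 L2723 q306, e3 q307 L2731 q212, e3 q308 L2739 q213, e3 q309 (flp_g L3985) q450, e3 q310 (flp_g L3993) q451, e3 q311 (flp_g L4001) q452, e3 q312 L2768 q312, e3 q313 L2777 q313, e3 q314 L2786 q314, e3 q315 L2795 q315, e3 q316 L4102 q465, e3 q317 L2810 q317, e3 q318 L2817 q219, e3 q319 L2825 q220, trivial⟩ (by decide +kernel)

theorem ce_g_5 : ∀ r, r < 64 → sm gg (Qf (320 + r)) = Qf (tab Gen.g (320 + r)) :=
  edges_tab (sm gg) Qf (tab Gen.g) 320 [(320, 468), (321, 469), (322, 475), (323, 323), (324, 324), (325, 478), (326, 223), (327, 327), (328, 328), (329, 329), (330, 228), (331, 229), (332, 332), (333, 483), (334, 484), (335, 485), (336, 336), (337, 337), (338, 494), (339, 236), (340, 237), (341, 238), (342, 342), (343, 495), (344, 496), (345, 499), (346, 501), (347, 239), (348, 505), (349, 506), (350, 350), (351, 241), (352, 242), (353, 511), (354, 512), (355, 513), (356, 356), (357, 357), (358, 358), (359, 359), (360, 360), (361, 361),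 (362, 247), (363, 248), (364, 527), (365, 528), (366, 529), (367, 367), (368, 368), (369, 252), (370, 253), (371, 535), (372, 536), (373, 373), (374, 374), (375, 375), (376, 376), (377, 258), (378, 546), (379, 547), (380, 380), (381, 381), (382, 555), (383, 383)]
    ⟨e3 q320 (flp_g L4131) q468, e3 q321 (flp_g L4139) q469, e3 q322 L4179 q475, e3 q323 L2857 q323, e3 q324 L2865 q324, e3 q325 L4203 q478, e3 q326 (flp_g L2876) q223, e3 q327 L2891 q327, e3 q328 L2895 q328, e3 q329 L2904 q329, e3 q330 L2913 q228, e3 q331 L2923 q229, e3 q332 L2935 q332, e3 q333 (flp_g L4252) q483, e3 q334 (flp_g L4262) q484, e3 q335 (flp_g L4268) q485, e3 q336 L2965 q336, e3 q337 L2975 q337, e3 q338 L4341 q494, e3 q339 L2993 q236, e3 q340 L3002 q237, e3 q341 L3009 q238, e3 q342 L3022 q342, e3 q343 (flp_g L4355) q495, e3 q344 (flp_g L4363) q496, e3 q345 (flp_g L4388) q499, e3 q346 L4424 q501, e3 q347 (flp_g L3057) q239, e3 q348 (flp_g L4468) q505, e3 q349 (flp_g L4479) q506, e3 q350 L3094 q350, e3 q351 L3102 q241, e3 q352 L3112 q242, e3 q353 (flp_g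 L4528) q511, e3 q354 (flp_g L4540) q512, e3 q355 (flp_g L4549) q513, e3 q356 L3147 q356, e3 q357 L3159 q357, e3 q358 L3168 q358, e3 q359 L3176 q359, e3 q360 L3186 q360, e3 q361 L3195 q361, e3 q362 L3203 q247, e3 q363 L3213 q248, e3 q364 (flp_g L4678) q527, e3 q365 (flp_g L4690) q528, e3 q366 (flp_g L4699) q529, e3 q367 L3249 q367, e3 q368 L3261 q368, e3 q369 L3271 q252, e3 q370 L3279 q253, e3 q371 (flp_g L4756) q535, e3 q372 (flp_g L4766) q536, e3 q373 L3306 q373, e3 q374 L3314 q374, e3 q375 L3323 q375, e3 q376 L3336 q376, e3 q377 L3346 q258, e3 q378 (flp_g L4856) q546, e3 q379 (flp_g L4865) q547, e3 q380 L3368 q380, e3 q381 L3378 q381, e3 q382 L4929 q555, e3 q383 L3394 q383, trivial⟩ (by decide +kernel)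

theorem ce_g_6 : ∀ r, r < 64 → sm gg (Qf (384 + r)) = Qf (tab Gen.g (384 + r)) :=
  edges_tab (sm gg) Qf (tab Gen.g) 384 [(384, 558), (385, 262), (386, 560), (387, 387), (388, 388), (389, 389), (390, 390), (391, 267), (392, 268), (393, 269), (394, 569), (395, 570), (396, 571), (397, 572), (398, 398), (399, 399), (400, 274), (401, 275), (402, 580), (403, 581), (404, 582), (405, 405), (406, 406), (407, 407), (408, 408), (409, 595), (410, 410), (411, 281), (412, 282), (413, 598), (414, 599), (415, 605), (416, 416), (417, 417), (418, 608), (419, 285), (420, 420), (421, 421), (422, 422), (423, 290), (424, 291), (425, 425), (426, 613), (427, 614), (428, 615), (429, 293), (430, 620), (431, 621), (432, 432), (433, 433), (434, 434), (435, 435), (436, 436), (437, 437), (438, 301), (439, 302), (440, 303), (441, 304), (442, 634), (443, 635), (444, 636), (445, 637), (446, 638), (447, 639)]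
    ⟨e3 q384 L4954 q558, e3 q385 (flp_g L3408) q262, e3 q386 L4974 q560, e3 q387 L3434 q387, e3 q388 L3444 q388, e3 q389 L3452 q389, e3 q390 L3463 q390, e3 q391 L3470 q267, e3 q392 L3481 q268, e3 q393 L3490 q269, e3 q394 (flp_g L5064) q569, e3 q395 (flp_g L5076) q570, e3 q396 (flp_g L5085) q571, e3 q397 (flp_g L5093) q572, e3 q398 L3536 q398, e3 q399 L3545 q399, e3 q400 L3554 q274, e3 q401 L3563 q275, e3 q402 (flp_g L5165) q580, e3 q403 (flp_g L5175) q581, e3 q404 (flp_g L5184) q582, e3 q405 L3598 q405, e3 q406 L3608 q406, e3 q407 L3617 q407, e3 q408 L3627 q408, e3 q409 L5296 q595, e3 q410 L3644 q410, e3 q411 L3653 q281, e3 q412 L3662 q282, e3 q413 (flp_g L5329) q598, e3 q414 (flp_g L5338) q599, e3 q415 L5383 q605, e3 q416 L3695 q416, e3 q417 L3704 q417, e3 q418 L5408 q608, e3 q419 (flp_g L3717) q285, e3 q420 L3734 q420, e3 q421 L3740 q421, e3 q422 L3750 q422, e3 q423 L3759 q290, e3 q424 L3770 q291, e3 q425 L3783 q425, e3 q426 (flp_g L5461) q613, e3 q427 (flp_g L5472) q614, e3 q428 (flp_g L5480) q615, e3 q429 (flp_g L3811)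 q293, e3 q430 (flp_g L5526) q620, e3 q431 (flp_g L5536) q621, e3 q432 L3843 q432, e3 q433 L3852 q433, e3 q434 L3860 q434, e3 q435 L3864 q435, e3 q436 L3875 q436, e3 q437 L3884 q437, e3 q438 L3890 q301, e3 q439 L3900 q302, e3 q440 L3908 q303, e3 q441 L3915 q304, e3 q442 (flp_g L5643) q634, e3 q443 (flp_g L5654) q635, e3 q444 (flp_g L5660) q636, e3 q445 (flp_g L5666) q637, e3 q446 (flp_g L5672) q638, e3 q447 (flp_g L5679) q639, trivial⟩ (by decide +kernel)

theorem ce_g_7 : ∀ r, r < 64 → sm gg (Qf (448 + r)) = Qf (tab Gen.g (448 + r)) :=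
  edges_tab (sm gg) Qf (tab Gen.g) 448 [(448, 448), (449, 449), (450, 309), (451, 310), (452, 311), (453, 649), (454, 650), (455, 651), (456, 652), (457, 661), (458, 458), (459, 459), (460, 666), (461, 461), (462, 462), (463, 463), (464, 671), (465, 316), (466, 466), (467, 467), (468, 320), (469, 321), (470, 680), (471, 676), (472, 677), (473, 678), (474, 686), (475, 322), (476, 476), (477, 689), (478, 325), (479, 479), (480, 480), (481, 481), (482, 695), (483, 333), (484, 334), (485, 335), (486, 486), (487, 696), (488, 697), (489, 700), (490, 490), (491, 491), (492, 492), (493, 707), (494, 338), (495, 343), (496, 344), (497, 497), (498, 498), (499, 345), (500, 708), (501, 346), (502, 715), (503, 503), (504, 504), (505, 348), (506, 349), (507, 722), (508, 723), (509, 509), (510, 510), (511, 353)]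
    ⟨e3 q448 L3967 q448, e3 q449 L3976 q449, e3 q450 L3985 q309, e3 q451 L3993 q310, e3 q452 L4001 q311, e3 q453 (flp_g L5776) q649, e3 q454 (flp_g L5785) q650, e3 q455 (flp_g L5794) q651, e3 q456 (flp_g L5803) q652, e3 q457 L5870 q661, e3 q458 L4048 q458, e3 q459 L4058 q459, e3 q460 L5912 q666, e3 q461 L4075 q461, e3 q462 L4084 q462, e3 q463 L4090 q463, e3 q464 L5952 q671, e3 q465 (flp_g L4102) q316, e3 q466 L4112 q466, e3 q467 L4121 q467, e3 q468 L4131 q320, e3 q469 L4139 q321, e3 q470 L6024 q680, e3 q471 (flp_g L5999) q676, e3 q472 (flp_g L6007) q677, e3 q473 (flp_g L6012) q678, e3 q474 L6070 q686, e3 q475 (flp_g L4179) q322, e3 q476 L4191 q476, e3 q477 L6093 q689, e3 q478 (flp_g L4203) q325, e3 q479 L4217 q479, e3 q480 L4221 q480, e3 q481 L4232 q481, e3 q482 L6146 q695, e3 q483 L4252 q333, e3 q484 L4262 q334, e3 q485 L4268 q335, e3 q486 L4279 q486, e3 q487 (flp_g L6162) q696, e3 q488 (flp_g L6170) q697, e3 q489 (flp_g L6193) q700, e3 q490 L4307 q490, e3 q491 L4317 q491, e3 q492 L4325 q492, e3 q493 L6271 q707, e3 q494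 (flp_g L4341) q338, e3 q495 L4355 q343, e3 q496 L4363 q344, e3 q497 L4374 q497, e3 q498 L4382 q498, e3 q499 L4388 q345, e3 q500 (flp_g L6286) q708, e3 q501 (flp_g L4424) q346, e3 q502 (flp_g L6408) q715, e3 q503 L4450 q503, e3 q504 L4459 q504, e3 q505 L4468 q348, e3 q506 L4479 q349, e3 q507 (flp_g L6481) q722, e3 q508 (flp_g L6491) q723, e3 q509 L4509 q509, e3 q510 L4520 q510, e3 q511 L4528 q353, trivial⟩ (by decide +kernel)

theorem ce_g_8 : ∀ r, r < 64 → sm gg (Qf (512 + r)) = Qf (tab Gen.g (512 + r)) :=
  edges_tab (sm gg) Qf (tab Gen.g) 512 [(512, 354), (513, 355), (514, 729), (515, 730), (516, 731), (517, 517), (518, 518), (519, 519), (520, 520), (521, 521), (522, 743), (523, 523), (524, 524), (525, 525), (526, 526), (527, 364), (528, 365), (529, 366), (530, 752), (531, 753), (532, 754), (533, 533), (534, 534), (535, 371), (536, 372), (537, 761), (538, 762), (539, 763), (540, 540), (541, 541), (542, 542), (543, 543), (544, 776), (545, 545), (546, 378), (547, 379), (548, 779), (549, 780), (550, 786), (551, 551), (552,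 552), (553, 553), (554, 792), (555, 382), (556, 795), (557, 557), (558, 384), (559, 559), (560, 386), (561, 799), (562, 800), (563, 563), (564, 564), (565, 565), (566, 566), (567, 567), (568, 568), (569, 394), (570, 395), (571, 396), (572, 397), (573, 813), (574, 814), (575, 815)]
    ⟨e3 q512 L4540 q354, e3 q513 L4549 q355, e3 q514 (flp_g L6551) q729, e3 q515 (flp_g L6560) q730, e3 q516 (flp_g L6569) q731, e3 q517 L4590 q517, e3 q518 L4597 q518, e3 q519 L4604 q519, e3 q520 L4611 q520, e3 q521 L4620 q521, e3 q522 L6667 q743, e3 q523 L4641 q523, e3 q524 L4651 q524, e3 q525 L4659 q525, e3 q526 L4670 q526, e3 q527 L4678 q364, e3 q528 L4690 q365, e3 q529 L4699 q366, e3 q530 (flp_g L6765) q752, e3 q531 (flp_g L6774) q753, e3 q532 (flp_g L6783) q754, e3 q533 L4738 q533, e3 q534 L4747 q534, e3 q535 L4756 q371, e3 q536 L4766 q372, e3 q537 (flp_g L6848) q761, e3 q538 (flp_g L6857) q762, e3 q539 (flp_g L6866) q763, e3 q540 L4800 q540, e3 q541 L4810 q541, e3 q542 L4818 q542, e3 q543 L4829 q543, e3 q544 L6977 q776, e3 q545 L4848 q545,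 e3 q546 L4856 q378, e3 q547 L4865 q379, e3 q548 (flp_g L7009) q779, e3 q549 (flp_g L7019) q780, e3 q550 L7064 q786, e3 q551 L4900 q551, e3 q552 L4910 q552, e3 q553 L4916 q553, e3 q554 L7117 q792, e3 q555 (flp_g L4929) q382, e3 q556 L7142 q795, e3 q557 L4951 q557, e3 q558 (flp_g L4954) q384, e3 q559 L4973 q559, e3 q560 (flp_g L4974) q386, e3 q561 (flp_g L7185) q799, e3 q562 (flp_g L7196) q800, e3 q563 L5010 q563, e3 q564 L5020 q564, e3 q565 L5029 q565, e3 q566 L5034 q566, e3 q567 L5046 q567, e3 q568 L5056 q568, e3 q569 L5064 q394, e3 q570 L5076 q395, e3 q571 L5085 q396, e3 q572 L5093 q397, e3 q573 (flp_g L7324) q813, e3 q574 (flp_g L7331) q814, e3 q575 (flp_g L7338) q815, trivial⟩ (by decide +kernel)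

theorem ce_g_9 : ∀ r, r < 64 → sm gg (Qf (576 + r)) = Qf (tab Gen.g (576 + r)) :=
  edges_tab (sm gg) Qf (tab Gen.g) 576 [(576, 816), (577, 817), (578, 578), (579, 579), (580, 402), (581, 403), (582, 404), (583, 827), (584, 828), (585, 829), (586, 830), (587, 839), (588, 588), (589, 589), (590, 844), (591, 591), (592, 592), (593, 593), (594, 849), (595, 409), (596, 596), (597, 597), (598, 413), (599, 414), (600, 858), (601, 854), (602, 855), (603, 856), (604, 864), (605, 415), (606, 606), (607, 867), (608, 418), (609, 609), (610, 610), (611, 611), (612, 873), (613, 426), (614, 427), (615, 428), (616, 616), (617, 874), (618, 875), (619, 878), (620, 430), (621, 431), (622, 883), (623, 884), (624, 885), (625, 625), (626, 626), (627, 627), (628, 628), (629, 629), (630, 630), (631, 631), (632, 632), (633, 633), (634, 442), (635, 443), (636, 444), (637, 445), (638, 446), (639, 447)]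
    ⟨e3 q576 (flp_g L7346) q816, e3 q577 (flp_g L7354) q817, e3 q578 L5145 q578, e3 q579 L5155 q579, e3 q580 L5165 q402, e3 q581 L5175 q403, e3 q582 L5184 q404, e3 q583 (flp_g L7456) q827, e3 q584 (flp_g L7466) q828, e3 q585 (flp_g L7475) q829, e3 q586 (flp_g L7485) q830, e3 q587 L7559 q839, e3 q588 L5236 q588, e3 q589 L5247 q589, e3 q590 L7606 q844, e3 q591 L5264 q591, e3 q592 L5274 q592, e3 q593 L5282 q593, e3 q594 L7649 q849, e3 q595 (flp_g L5296) q409, e3 q596 L5309 q596, e3 q597 L5319 q597, e3 q598 L5329 q413, e3 q599 L5338 q414, e3 q600 L7730 q858, e3 q601 (flp_g L7700) q854, e3 q602 (flp_g L7709) q855, e3 q603 (flp_g L7716) q856, e3 q604 L7781 q864, e3 q605 (flp_g L5383) q415, e3 q606 L5397 q606, e3 q607 L7808 q867, e3 q608 (flp_g L5408) q418, e3 q609 L5425 q609, e3 q610 L5429 q610, e3 q611 L5441 q611, e3 q612 L7866 q873, e3 q613 L5461 q426, e3 q614 L5472 q427, e3 q615 L5480 q428, e3 q616 L5493 q616, e3 q617 (flp_g L7884) q874, e3 q618 (flp_g L7892) q875, e3 q619 (flp_g L7918) q878, e3 q620 L5526 q430, e3 q621 L5536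 q431, e3 q622 (flp_g L7957) q883, e3 q623 (flp_g L7967) q884, e3 q624 (flp_g L7976) q885, e3 q625 L5569 q625, e3 q626 L5575 q626, e3 q627 L5586 q627, e3 q628 L5594 q628, e3 q629 L5602 q629, e3 q630 L5607 q630, e3 q631 L5618 q631, e3 q632 L5627 q632, e3 q633 L5635 q633, e3 q634 L5643 q442, e3 q635 L5654 q443, e3 q636 L5660 q444, e3 q637 L5666 q445, e3 q638 L5672 q446, e3 q639 L5679 q447, trivial⟩ (by decide +kernel)

theorem ce_g_10 : ∀ r, r < 64 → sm gg (Qf (640 + r)) = Qf (tab Gen.g (640 + r)) :=
  edges_tab (sm gg) Qf (tab Gen.g) 640 [(640, 905), (641, 906), (642, 907), (643, 908), (644, 909), (645, 917), (646, 646), (647, 647), (648, 648), (649, 453), (650, 454), (651, 455), (652, 456), (653, 930), (654, 923), (655, 924), (656, 935), (657, 926), (658, 927), (659, 928), (660, 941), (661, 457), (662, 662), (663, 663), (664, 664), (665, 948), (666, 460), (667, 667), (668, 668), (669, 954), (670, 956), (671, 464), (672, 672), (673, 673), (674, 674), (675, 962), (676, 471), (677, 472), (678, 473), (679, 968), (680, 470), (681,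 963), (682, 964), (683, 973), (684, 974), (685, 967), (686, 474), (687, 687), (688, 977), (689, 477), (690, 690), (691, 691), (692, 692), (693, 693), (694, 984), (695, 482), (696, 487), (697, 488), (698, 698), (699, 699), (700, 489), (701, 985), (702, 702), (703, 703)]
    ⟨e3 q640 (flp_g L8155) q905, e3 q641 (flp_g L8162) q906, e3 q642 (flp_g L8170) q907, e3 q643 (flp_g L8179) q908, e3 q644 (flp_g L8187) q909, e3 q645 L8278 q917, e3 q646 L5750 q646, e3 q647 L5759 q647, e3 q648 L5768 q648, e3 q649 L5776 q453, e3 q650 L5785 q454, e3 q651 L5794 q455, e3 q652 L5803 q456, e3 q653 L8387 q930, e3 q654 (flp_g L8335) q923, e3 q655 (flp_g L8345) q924, e3 q656 L8430 q935, e3 q657 (flp_g L8362) q926, e3 q658 (flp_g L8371) q927, e3 q659 (flp_g L8377) q928, e3 q660 L8473 q941, e3 q661 (flp_g L5870) q457, e3 q662 L5881 q662, e3 q663 L5891 q663, e3 q664 L5898 q664, e3 q665 L8533 q948, e3 q666 (flp_g L5912) q460, e3 q667 L5925 q667, e3 q668 L5933 q668, e3 q669 L8582 q954, e3 q670 L8596 q956, e3 q671 (flp_g L5952) q464, e3 q672 L5966 q672,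 e3 q673 L5972 q673, e3 q674 L5981 q674, e3 q675 L8647 q962, e3 q676 L5999 q471, e3 q677 L6007 q472, e3 q678 L6012 q473, e3 q679 L8691 q968, e3 q680 (flp_g L6024) q470, e3 q681 (flp_g L8659) q963, e3 q682 (flp_g L8666) q964, e3 q683 L8748 q973, e3 q684 L8756 q974, e3 q685 (flp_g L8689) q967, e3 q686 (flp_g L6070) q474, e3 q687 L6084 q687, e3 q688 L8785 q977, e3 q689 (flp_g L6093) q477, e3 q690 L6108 q690, e3 q691 L6114 q691, e3 q692 L6125 q692, e3 q693 L6132 q693, e3 q694 L8847 q984, e3 q695 (flp_g L6146) q482, e3 q696 L6162 q487, e3 q697 L6170 q488, e3 q698 L6182 q698, e3 q699 L6189 q699, e3 q700 L6193 q489, e3 q701 (flp_g L8860) q985, e3 q702 L6230 q702, e3 q703 L6239 q703, trivial⟩ (by decide +kernel)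

theorem ce_g_11 : ∀ r, r < 64 → sm gg (Qf (704 + r)) = Qf (tab Gen.g (704 + r)) :=
  edges_tab (sm gg) Qf (tab Gen.g) 704 [(704, 993), (705, 995), (706, 706), (707, 493), (708, 500), (709, 709), (710, 710), (711, 711), (712, 712), (713, 713), (714, 714), (715, 502), (716, 1004), (717, 1006), (718, 718), (719, 719), (720, 720), (721, 721), (722, 507), (723, 508), (724, 1013), (725, 1014), (726, 726), (727, 727), (728, 728), (729, 514), (730, 515), (731, 516), (732, 1021), (733, 1022), (734, 1023), (735, 1024), (736, 736), (737, 737), (738, 738), (739, 739), (740, 740), (741, 741), (742, 1041), (743, 522), (744, 1042), (745, 1043), (746, 746), (747, 747), (748, 748), (749, 749), (750, 750), (751, 751), (752, 530), (753, 531), (754, 532), (755, 1054), (756, 1055), (757, 1056), (758, 1057), (759, 759), (760, 760), (761, 537), (762, 538), (763, 539), (764, 1067), (765, 1068), (766, 1069), (767, 1070)]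
    ⟨e3 q704 L8993 q993, e3 q705 L9011 q995, e3 q706 L6267 q706, e3 q707 (flp_g L6271) q493, e3 q708 L6286 q500, e3 q709 L6298 q709, e3 q710 L6313 q710, e3 q711 L6326 q711, e3 q712 L6336 q712, e3 q713 L6389 q713, e3 q714 L6399 q714, e3 q715 L6408 q502, e3 q716 (flp_g L9210) q1004, e3 q717 L9222 q1006, e3 q718 L6437 q718, e3 q719 L6448 q719, e3 q720 L6457 q720, e3 q721 L6469 q721, e3 q722 L6481 q507, e3 q723 L6491 q508, e3 q724 (flp_g L9306) q1013, e3 q725 (flp_g L9314) q1014, e3 q726 L6516 q726, e3 q727 L6529 q727, e3 q728 L6539 q728, e3 q729 L6551 q514, e3 q730 L6560 q515, e3 q731 L6569 q516, e3 q732 (flp_g L9379) q1021, e3 q733 (flp_g L9387) q1022, e3 q734 (flp_g L9395) q1023, e3 q735 (flp_g L9404) q1024, e3 q736 L6614 q736, e3 q737 L6621 q737, e3 q738 L6629 q738, e3 q739 L6639 q739, e3 q740 L6648 q740, e3 q741 L6657 q741, e3 q742 L9543 q1041, e3 q743 (flp_g L6667) q522, e3 q744 (flp_g L9557) q1042, e3 q745 (flp_g L9568) q1043, e3 q746 L6704 q746, e3 q747 L6715 q747, e3 q748 L6724 q748, e3 q749 L6730 q749, e3 q750 L6743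 q750, e3 q751 L6753 q751, e3 q752 L6765 q530, e3 q753 L6774 q531, e3 q754 L6783 q532, e3 q755 (flp_g L9683) q1054, e3 q756 (flp_g L9691) q1055, e3 q757 (flp_g L9698) q1056, e3 q758 (flp_g L9706) q1057, e3 q759 L6826 q759, e3 q760 L6837 q760, e3 q761 L6848 q537, e3 q762 L6857 q538, e3 q763 L6866 q539, e3 q764 (flp_g L9797) q1067, e3 q765 (flp_g L9807) q1068, e3 q766 (flp_g L9815) q1069, e3 q767 (flp_g L9826) q1070, trivial⟩ (by decide +kernel)

theorem ce_g_12 : ∀ r, r < 64 → sm gg (Qf (768 + r)) = Qf (tab Gen.g (768 + r)) :=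
  edges_tab (sm gg) Qf (tab Gen.g) 768 [(768, 1079), (769, 769), (770, 770), (771, 1084), (772, 772), (773, 773), (774, 774), (775, 1090), (776, 544), (777, 777), (778, 778), (779, 548), (780, 549), (781, 1099), (782, 1095), (783, 1096), (784, 1097), (785, 1105), (786, 550), (787, 787), (788, 788), (789, 1111), (790, 1113), (791, 791), (792, 554), (793, 793), (794, 1117), (795, 556), (796, 1120), (797, 797), (798, 798), (799, 561), (800, 562), (801, 1122), (802, 1123), (803, 1124), (804, 804), (805, 805), (806, 806), (807, 807), (808, 808), (809, 809), (810, 810), (811, 811), (812, 812), (813, 573), (814, 574), (815, 575), (816, 576), (817, 577), (818, 1142), (819, 1143), (820, 1144), (821, 1145), (822, 1146), (823, 1156), (824, 824), (825, 825), (826, 826), (827, 583), (828, 584), (829, 585), (830, 586), (831, 1169)]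
    ⟨e3 q768 L9901 q1079, e3 q769 L6917 q769, e3 q770 L6929 q770, e3 q771 L9948 q1084, e3 q772 L6948 q772, e3 q773 L6959 q773, e3 q774 L6966 q774, e3 q775 L9999 q1090, e3 q776 (flp_g L6977) q544, e3 q777 L6990 q777, e3 q778 L7000 q778, e3 q779 L7009 q548, e3 q780 L7019 q549, e3 q781 L10080 q1099, e3 q782 (flp_g L10052) q1095, e3 q783 (flp_g L10062) q1096, e3 q784 (flp_g L10068) q1097, e3 q785 L10130 q1105, e3 q786 (flp_g L7064) q550, e3 q787 L7080 q787, e3 q788 L7087 q788, e3 q789 L10184 q1111, e3 q790 L10200 q1113, e3 q791 L7115 q791, e3 q792 (flp_g L7117) q554, e3 q793 L7133 q793, e3 q794 L10234 q1117, e3 q795 (flp_g L7142) q556, e3 q796 (flp_g L10264) q1120, e3 q797 L7164 q797, e3 q798 L7177 q798, e3 q799 L7185 q561, e3 q800 L7196 q562, e3 q801 (flp_g L10281) q1122, e3 q802 (flp_g L10292) q1123, e3 q803 (flp_g L10302) q1124, e3 q804 L7234 q804, e3 q805 L7242 q805, e3 q806 L7254 q806, e3 q807 L7263 q807, e3 q808 L7272 q808, e3 q809 L7279 q809, e3 q810 L7292 q810, e3 q811 L7302 q811, e3 q812 L7311 q812, e3 q813 L7324 q573,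 e3 q814 L7331 q574, e3 q815 L7338 q575, e3 q816 L7346 q576, e3 q817 L7354 q577, e3 q818 (flp_g L10483) q1142, e3 q819 (flp_g L10492) q1143, e3 q820 (flp_g L10501) q1144, e3 q821 (flp_g L10510) q1145, e3 q822 (flp_g L10519) q1146, e3 q823 L10613 q1156, e3 q824 L7425 q824, e3 q825 L7436 q825, e3 q826 L7446 q826, e3 q827 L7456 q583, e3 q828 L7466 q584, e3 q829 L7475 q585, e3 q830 L7485 q586, e3 q831 L10734 q1169, trivial⟩ (by decide +kernel)

theorem ce_g_13 : ∀ r, r < 64 → sm gg (Qf (832 + r)) = Qf (tab Gen.g (832 + r)) :=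
  edges_tab (sm gg) Qf (tab Gen.g) 832 [(832, 1162), (833, 1163), (834, 1174), (835, 1165), (836, 1166), (837, 1167), (838, 1180), (839, 587), (840, 840), (841, 841), (842, 842), (843, 1187), (844, 590), (845, 845), (846, 846), (847, 1193), (848, 1195), (849, 594), (850, 850), (851, 851), (852, 852), (853, 1201), (854, 601), (855, 602), (856, 603), (857, 1207), (858, 600), (859, 1202), (860, 1203), (861, 1214), (862, 1215), (863, 1206), (864, 604), (865, 865), (866, 1219), (867, 607), (868, 868), (869, 869), (870, 870), (871, 871), (872, 1226), (873, 612), (874, 617), (875, 618), (876, 876), (877, 877), (878, 619), (879, 1227), (880, 1229), (881, 1231), (882, 1234), (883, 622), (884, 623), (885, 624), (886, 1237), (887, 1238), (888, 1239), (889, 1240), (890, 1241), (891, 891), (892, 892), (893, 893), (894, 894), (895, 895)]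
    ⟨e3 q832 (flp_g L10676) q1162, e3 q833 (flp_g L10687) q1163, e3 q834 L10782 q1174, e3 q835 (flp_g L10704) q1165, e3 q836 (flp_g L10714) q1166, e3 q837 (flp_g L10722) q1167, e3 q838 L10830 q1180, e3 q839 (flp_g L7559) q587, e3 q840 L7570 q840, e3 q841 L7581 q841, e3 q842 L7590 q842, e3 q843 L10897 q1187, e3 q844 (flp_g L7606) q590, e3 q845 L7621 q845, e3 q846 L7629 q846, e3 q847 L10951 q1193, e3 q848 L10966 q1195, e3 q849 (flp_g L7649) q594, e3 q850 L7666 q850, e3 q851 L7672 q851, e3 q852 L7682 q852, e3 q853 L11025 q1201, e3 q854 L7700 q601, e3 q855 L7709 q602, e3 q856 L7716 q603, e3 q857 L11074 q1207, e3 q858 (flp_g L7730) q600, e3 q859 (flp_g L11039) q1202, e3 q860 (flp_g L11046) q1203, e3 q861 L11136 q1214, e3 q862 L11143 q1215, e3 q863 (flp_g L11072) q1206, e3 q864 (flp_g L7781) q604, e3 q865 L7798 q865, e3 q866 L11180 q1219, e3 q867 (flp_g L7808) q607, e3 q868 L7824 q868, e3 q869 L7829 q869, e3 q870 L7841 q870, e3 q871 L7850 q871, e3 q872 L11246 q1226, e3 q873 (flp_g L7866) q612, e3 q874 L7884 q617, e3 q875 L7892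 q618, e3 q876 L7903 q876, e3 q877 L7912 q877, e3 q878 L7918 q619, e3 q879 (flp_g L11263) q1227, e3 q880 (flp_g L11279) q1229, e3 q881 (flp_g L11296) q1231, e3 q882 (flp_g L11322) q1234, e3 q883 L7957 q622, e3 q884 L7967 q623, e3 q885 L7976 q624, e3 q886 (flp_g L11360) q1237, e3 q887 (flp_g L11368) q1238, e3 q888 (flp_g L11379) q1239, e3 q889 (flp_g L11388) q1240, e3 q890 (flp_g L11397) q1241, e3 q891 L8028 q891, e3 q892 L8036 q892, e3 q893 L8046 q893, e3 q894 L8054 q894, e3 q895 L8060 q895, trivial⟩ (by decide +kernel)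

theorem ce_g_14 : ∀ r, r < 64 → sm gg (Qf (896 + r)) = Qf (tab Gen.g (896 + r)) :=
  edges_tab (sm gg) Qf (tab Gen.g) 896 [(896, 896), (897, 897), (898, 898), (899, 899), (900, 900), (901, 901), (902, 902), (903, 903), (904, 904), (905, 640), (906, 641), (907, 642), (908, 643), (909, 644), (910, 1272), (911, 1266), (912, 1267), (913, 1276), (914, 1269), (915, 1270), (916, 1281), (917, 645), (918, 918), (919, 919), (920, 920), (921, 921), (922, 1290), (923, 654), (924, 655), (925, 1295), (926, 657), (927, 658), (928, 659), (929, 1301), (930, 653), (931, 1291), (932, 1292), (933, 1293), (934, 1308), (935, 656), (936, 1296), (937, 1297), (938, 1313), (939, 1315), (940, 1300), (941, 660), (942, 942), (943, 943), (944, 944), (945, 1323), (946, 1325), (947, 947), (948, 665), (949, 949), (950, 950), (951, 1330), (952, 952), (953, 1333), (954, 669), (955, 1335), (956, 670), (957, 957), (958, 958), (959, 959)]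
    ⟨e3 q896 L8067 q896, e3 q897 L8074 q897, e3 q898 L8080 q898, e3 q899 L8087 q899, e3 q900 L8099 q900, e3 q901 L8106 q901, e3 q902 L8113 q902, e3 q903 L8120 q903, e3 q904 L8128 q904, e3 q905 L8155 q640, e3 q906 L8162 q641, e3 q907 L8170 q642, e3 q908 L8179 q643, e3 q909 L8187 q644, e3 q910 L11716 q1272, e3 q911 (flp_g L11660) q1266, e3 q912 (flp_g L11678) q1267, e3 q913 L11804 q1276, e3 q914 (flp_g L11701) q1269, e3 q915 (flp_g L11706) q1270, e3 q916 L11847 q1281, e3 q917 (flp_g L8278) q645, e3 q918 L8288 q918, e3 q919 L8298 q919, e3 q920 L8308 q920, e3 q921 L8318 q921, e3 q922 L11926 q1290, e3 q923 L8335 q654, e3 q924 L8345 q655, e3 q925 L11968 q1295, e3 q926 L8362 q657, e3 q927 L8371 q658, e3 q928 L8377 q659, e3 q929 L12012 q1301, e3 q930 (flp_g L8387) q653, e3 q931 (flp_g L11938) q1291, e3 q932 (flp_g L11948) q1292, e3 q933 (flp_g L11955) q1293, e3 q934 L12069 q1308, e3 q935 (flp_g L8430) q656, e3 q936 (flp_g L11982) q1296, e3 q937 (flp_g L11990) q1297, e3 q938 L12123 q1313, e3 q939 L12138 q1315, e3 q940 (flp_g L12008)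 q1300, e3 q941 (flp_g L8473) q660, e3 q942 L8488 q942, e3 q943 L8494 q943, e3 q944 L8503 q944, e3 q945 L12209 q1323, e3 q946 L12225 q1325, e3 q947 L8529 q947, e3 q948 (flp_g L8533) q665, e3 q949 L8549 q949, e3 q950 L8554 q950, e3 q951 L12267 q1330, e3 q952 L8569 q952, e3 q953 L12290 q1333, e3 q954 (flp_g L8582) q669, e3 q955 L12307 q1335, e3 q956 (flp_g L8596) q670, e3 q957 L8610 q957, e3 q958 L8617 q958, e3 q959 L8626 q959, trivial⟩ (by decide +kernel)

theorem ce_g_15 : ∀ r, r < 64 → sm gg (Qf (960 + r)) = Qf (tab Gen.g (960 + r)) :=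
  edges_tab (sm gg) Qf (tab Gen.g) 960 [(960, 960), (961, 1342), (962, 675), (963, 681), (964, 682), (965, 1347), (966, 1349), (967, 685), (968, 679), (969, 1343), (970, 1344), (971, 1353), (972, 1354), (973, 683), (974, 684), (975, 1357), (976, 976), (977, 688), (978, 978), (979, 979), (980, 980), (981, 1362), (982, 1364), (983, 983), (984, 694), (985, 701), (986, 986), (987, 987), (988, 988), (989, 989), (990, 990), (991, 1370), (992, 1372), (993, 704), (994, 1373), (995, 705), (996, 1375), (997, 997), (998, 998), (999, 999), (1000, 1000), (1001, 1380), (1002, 1002), (1003, 1003), (1004, 716), (1005, 1384), (1006, 717), (1007, 1387), (1008, 1388), (1009, 1009), (1010, 1010), (1011, 1011), (1012, 1012), (1013, 724), (1014, 725), (1015, 1395), (1016, 1396), (1017, 1397), (1018, 1018), (1019, 1019), (1020, 1020), (1021, 732), (1022, 733), (1023, 734)]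
    ⟨e3 q960 L8632 q960, e3 q961 L12365 q1342, e3 q962 (flp_g L8647) q675, e3 q963 L8659 q681, e3 q964 L8666 q682, e3 q965 L12421 q1347, e3 q966 L12437 q1349, e3 q967 L8689 q685, e3 q968 (flp_g L8691) q679, e3 q969 (flp_g L12379) q1343, e3 q970 (flp_g L12385) q1344, e3 q971 L12491 q1353, e3 q972 L12516 q1354, e3 q973 (flp_g L8748) q683, e3 q974 (flp_g L8756) q684, e3 q975 (flp_g L12561) q1357, e3 q976 L8784 q976, e3 q977 (flp_g L8785) q688, e3 q978 L8801 q978, e3 q979 L8808 q979, e3 q980 L8817 q980, e3 q981 L12625 q1362, e3 q982 L12643 q1364, e3 q983 L8843 q983, e3 q984 (flp_g L8847) q694, e3 q985 L8860 q701, e3 q986 L8872 q986, e3 q987 L8888 q987, e3 q988 L8899 q988, e3 q989 L8907 q989, e3 q990 L8952 q990, e3 q991 L12813 q1370, e3 q992 L12849 q1372, e3 q993 (flp_g L8993) q704, e3 q994 L12877 q1373, e3 q995 (flp_g L9011) q705, e3 q996 (flp_g L12900) q1375, e3 q997 L9055 q997, e3 q998 L9084 q998, e3 q999 L9112 q999, e3 q1000 L9169 q1000, e3 q1001 L13091 q1380, e3 q1002 L9192 q1002, e3 q1003 L9201 q1003, e3 q1004 L9210 q716,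 e3 q1005 (flp_g L13135) q1384, e3 q1006 (flp_g L9222) q717, e3 q1007 (flp_g L13166) q1387, e3 q1008 (flp_g L13178) q1388, e3 q1009 L9264 q1009, e3 q1010 L9274 q1010, e3 q1011 L9284 q1011, e3 q1012 L9295 q1012, e3 q1013 L9306 q724, e3 q1014 L9314 q725, e3 q1015 (flp_g L13247) q1395, e3 q1016 (flp_g L13255) q1396, e3 q1017 (flp_g L13263) q1397, e3 q1018 L9348 q1018, e3 q1019 L9358 q1019, e3 q1020 L9368 q1020, e3 q1021 L9379 q732, e3 q1022 L9387 q733, e3 q1023 L9395 q734, trivial⟩ (by decide +kernel)

theorem ce_g_16 : ∀ r, r < 64 → sm gg (Qf (1024 + r)) = Qf (tab Gen.g (1024 + r)) :=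
  edges_tab (sm gg) Qf (tab Gen.g) 1024 [(1024, 735), (1025, 1407), (1026, 1408), (1027, 1409), (1028, 1410), (1029, 1411), (1030, 1422), (1031, 1031), (1032, 1032), (1033, 1033), (1034, 1034), (1035, 1035), (1036, 1432), (1037, 1037), (1038, 1038), (1039, 1039), (1040, 1438), (1041, 742), (1042, 744), (1043, 745), (1044, 1440), (1045, 1441), (1046, 1442), (1047, 1047), (1048, 1048), (1049, 1049), (1050, 1050), (1051, 1051), (1052, 1052), (1053, 1053), (1054, 755), (1055, 756), (1056, 757), (1057, 758), (1058, 1456), (1059, 1457), (1060, 1458), (1061, 1459), (1062, 1460), (1063, 1471), (1064, 1064), (1065, 1065), (1066, 1066), (1067, 764), (1068, 765), (1069, 766), (1070, 767), (1071, 1484), (1072, 1477), (1073, 1478), (1074, 1489), (1075, 1480), (1076, 1481), (1077, 1482), (1078, 1495), (1079, 768), (1080, 1080), (1081, 1081), (1082, 1082), (1083, 1502), (1084, 771), (1085, 1085), (1086, 1086), (1087, 1509)]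
    ⟨e3 q1024 L9404 q735, e3 q1025 (flp_g L13352) q1407, e3 q1026 (flp_g L13361) q1408, e3 q1027 (flp_g L13371) q1409, e3 q1028 (flp_g L13380) q1410, e3 q1029 (flp_g L13389) q1411, e3 q1030 L13476 q1422, e3 q1031 L9463 q1031, e3 q1032 L9470 q1032, e3 q1033 L9480 q1033, e3 q1034 L9489 q1034, e3 q1035 L9499 q1035, e3 q1036 L13566 q1432, e3 q1037 L9516 q1037, e3 q1038 L9525 q1038, e3 q1039 L9531 q1039, e3 q1040 L13614 q1438, e3 q1041 (flp_g L9543) q742, e3 q1042 L9557 q744, e3 q1043 L9568 q745, e3 q1044 (flp_g L13635) q1440, e3 q1045 (flp_g L13647) q1441, e3 q1046 (flp_g L13657) q1442, e3 q1047 L9608 q1047, e3 q1048 L9622 q1048, e3 q1049 L9631 q1049, e3 q1050 L9641 q1050, e3 q1051 L9652 q1051, e3 q1052 L9662 q1052, e3 q1053 L9672 q1053, e3 q1054 L9683 q755, e3 q1055 L9691 q756, e3 q1056 L9698 q757, e3 q1057 L9706 q758, e3 q1058 (flp_g L13795) q1456, e3 q1059 (flp_g L13803) q1457, e3 q1060 (flp_g L13812) q1458, e3 q1061 (flp_g L13820) q1459, e3 q1062 (flp_g L13830) q1460, e3 q1063 L13917 q1471, e3 q1064 L9768 q1064, e3 q1065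 L9778 q1065, e3 q1066 L9788 q1066, e3 q1067 L9797 q764, e3 q1068 L9807 q765, e3 q1069 L9815 q766, e3 q1070 L9826 q767, e3 q1071 L14039 q1484, e3 q1072 (flp_g L13980) q1477, e3 q1073 (flp_g L13992) q1478, e3 q1074 L14087 q1489, e3 q1075 (flp_g L14011) q1480, e3 q1076 (flp_g L14022) q1481, e3 q1077 (flp_g L14029) q1482, e3 q1078 L14135 q1495, e3 q1079 (flp_g L9901) q768, e3 q1080 L9914 q1080, e3 q1081 L9926 q1081, e3 q1082 L9934 q1082, e3 q1083 L14200 q1502, e3 q1084 (flp_g L9948) q771, e3 q1085 L9965 q1085, e3 q1086 L9973 q1086, e3 q1087 L14259 q1509, trivial⟩ (by decide +kernel)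

theorem ce_g_17 : ∀ r, r < 64 → sm gg (Qf (1088 + r)) = Qf (tab Gen.g (1088 + r)) :=
  edges_tab (sm gg) Qf (tab Gen.g) 1088 [(1088, 1511), (1089, 1089), (1090, 775), (1091, 1091), (1092, 1092), (1093, 1093), (1094, 1519), (1095, 782), (1096, 783), (1097, 784), (1098, 1525), (1099, 781), (1100, 1520), (1101, 1521), (1102, 1532), (1103, 1534), (1104, 1524), (1105, 785), (1106, 1106), (1107, 1107), (1108, 1540), (1109, 1542), (1110, 1110), (1111, 789), (1112, 1546), (1113, 790), (1114, 1549), (1115, 1115), (1116, 1116), (1117, 794), (1118, 1553), (1119, 1119), (1120, 796), (1121, 1557), (1122, 801), (1123, 802), (1124, 803), (1125, 1558), (1126, 1559), (1127, 1560), (1128, 1561), (1129, 1562), (1130, 1130), (1131, 1131), (1132, 1132), (1133, 1133), (1134, 1134), (1135, 1135), (1136, 1136), (1137, 1137), (1138, 1138), (1139, 1139), (1140, 1140), (1141, 1141), (1142, 818), (1143, 819), (1144, 820), (1145, 821), (1146, 822), (1147, 1593), (1148, 1585), (1149, 1586), (1150, 1587), (1151, 1598)]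
    ⟨e3 q1088 L14273 q1511, e3 q1089 L9995 q1089, e3 q1090 (flp_g L9999) q775, e3 q1091 L10016 q1091, e3 q1092 L10021 q1092, e3 q1093 L10032 q1093, e3 q1094 L14345 q1519, e3 q1095 L10052 q782, e3 q1096 L10062 q783, e3 q1097 L10068 q784, e3 q1098 L14394 q1525, e3 q1099 (flp_g L10080) q781, e3 q1100 (flp_g L14361) q1520, e3 q1101 (flp_g L14368) q1521, e3 q1102 L14454 q1532, e3 q1103 L14472 q1534, e3 q1104 (flp_g L14392) q1524, e3 q1105 (flp_g L10130) q785, e3 q1106 L10147 q1106, e3 q1107 L10153 q1107, e3 q1108 L14521 q1540, e3 q1109 L14538 q1542, e3 q1110 L10182 q1110, e3 q1111 (flp_g L10184) q789, e3 q1112 L14573 q1546, e3 q1113 (flp_g L10200) q790, e3 q1114 (flp_g L14606) q1549, e3 q1115 L10223 q1115, e3 q1116 L10233 q1116, e3 q1117 (flp_g L10234) q794, e3 q1118 (flp_g L14640) q1553, e3 q1119 L10258 q1119, e3 q1120 L10264 q796, e3 q1121 (flp_g L14674) q1557, e3 q1122 L10281 q801, e3 q1123 L10292 q802, e3 q1124 L10302 q803, e3 q1125 (flp_g L14682) q1558, e3 q1126 (flp_g L14692) q1559, e3 q1127 (flp_g L14704) q1560, e3 q1128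 (flp_g L14714) q1561, e3 q1129 (flp_g L14724) q1562, e3 q1130 L10363 q1130, e3 q1131 L10376 q1131, e3 q1132 L10385 q1132, e3 q1133 L10392 q1133, e3 q1134 L10400 q1134, e3 q1135 L10409 q1135, e3 q1136 L10416 q1136, e3 q1137 L10428 q1137, e3 q1138 L10436 q1138, e3 q1139 L10444 q1139, e3 q1140 L10453 q1140, e3 q1141 L10462 q1141, e3 q1142 L10483 q818, e3 q1143 L10492 q819, e3 q1144 L10501 q820, e3 q1145 L10510 q821, e3 q1146 L10519 q822, e3 q1147 L15042 q1593, e3 q1148 (flp_g L14980) q1585, e3 q1149 (flp_g L14989) q1586, e3 q1150 (flp_g L14999) q1587, e3 q1151 L15133 q1598, trivial⟩ (by decide +kernel)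

theorem ce_g_18 : ∀ r, r < 64 → sm gg (Qf (1152 + r)) = Qf (tab Gen.g (1152 + r)) :=
  edges_tab (sm gg) Qf (tab Gen.g) 1152 [(1152, 1589), (1153, 1590), (1154, 1591), (1155, 1604), (1156, 823), (1157, 1157), (1158, 1158), (1159, 1159), (1160, 1160), (1161, 1613), (1162, 832), (1163, 833), (1164, 1618), (1165, 835), (1166, 836), (1167, 837), (1168, 1624), (1169, 831), (1170, 1614), (1171, 1615), (1172, 1616), (1173, 1631), (1174, 834), (1175, 1619), (1176, 1620), (1177, 1638), (1178, 1640), (1179, 1623), (1180, 838), (1181, 1181), (1182, 1182), (1183, 1183), (1184, 1649), (1185, 1651), (1186, 1186), (1187, 843), (1188, 1188), (1189, 1189), (1190, 1656), (1191, 1191), (1192, 1659), (1193, 847), (1194, 1661), (1195, 848), (1196, 1196), (1197, 1197), (1198, 1198), (1199, 1199), (1200, 1668), (1201, 853), (1202, 859), (1203, 860), (1204, 1675), (1205, 1677), (1206, 863), (1207, 857), (1208, 1669), (1209, 1670), (1210, 1683), (1211, 1672), (1212, 1686), (1213, 1674), (1214, 861), (1215, 862)]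
    ⟨e3 q1152 (flp_g L15014) q1589, e3 q1153 (flp_g L15023) q1590, e3 q1154 (flp_g L15030) q1591, e3 q1155 L15181 q1604, e3 q1156 (flp_g L10613) q823, e3 q1157 L10626 q1157, e3 q1158 L10637 q1158, e3 q1159 L10647 q1159, e3 q1160 L10658 q1160, e3 q1161 L15269 q1613, e3 q1162 L10676 q832, e3 q1163 L10687 q833, e3 q1164 L15316 q1618, e3 q1165 L10704 q835, e3 q1166 L10714 q836, e3 q1167 L10722 q837, e3 q1168 L15365 q1624, e3 q1169 (flp_g L10734) q831, e3 q1170 (flp_g L15281) q1614, e3 q1171 (flp_g L15292) q1615, e3 q1172 (flp_g L15301) q1616, e3 q1173 L15429 q1631, e3 q1174 (flp_g L10782) q834, e3 q1175 (flp_g L15332) q1619, e3 q1176 (flp_g L15340) q1620, e3 q1177 L15488 q1638, e3 q1178 L15504 q1640, e3 q1179 (flp_g L15361) q1623, e3 q1180 (flp_g L10830) q838, e3 q1181 L10848 q1181, e3 q1182 L10855 q1182, e3 q1183 L10864 q1183, e3 q1184 L15585 q1649, e3 q1185 L15602 q1651, e3 q1186 L10893 q1186, e3 q1187 (flp_g L10897) q843, e3 q1188 L10916 q1188, e3 q1189 L10923 q1189, e3 q1190 L15651 q1656, e3 q1191 L10939 q1191, e3 q1192 L15674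 q1659, e3 q1193 (flp_g L10951) q847, e3 q1194 L15690 q1661, e3 q1195 (flp_g L10966) q848, e3 q1196 L10984 q1196, e3 q1197 L10990 q1197, e3 q1198 L11000 q1198, e3 q1199 L11008 q1199, e3 q1200 L15756 q1668, e3 q1201 (flp_g L11025) q853, e3 q1202 L11039 q859, e3 q1203 L11046 q860, e3 q1204 L15817 q1675, e3 q1205 L15834 q1677, e3 q1206 L11072 q863, e3 q1207 (flp_g L11074) q857, e3 q1208 (flp_g L15773) q1669, e3 q1209 (flp_g L15781) q1670, e3 q1210 L15899 q1683, e3 q1211 (flp_g L15798) q1672, e3 q1212 L15924 q1686, e3 q1213 (flp_g L15815) q1674, e3 q1214 (flp_g L11136) q861, e3 q1215 (flp_g L11143) q862, trivial⟩ (by decide +kernel)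

theorem ce_g_19 : ∀ r, r < 64 → sm gg (Qf (1216 + r)) = Qf (tab Gen.g (1216 + r)) :=
  edges_tab (sm gg) Qf (tab Gen.g) 1216 [(1216, 1690), (1217, 1679), (1218, 1218), (1219, 866), (1220, 1220), (1221, 1221), (1222, 1222), (1223, 1698), (1224, 1700), (1225, 1225), (1226, 872), (1227, 879), (1228, 1228), (1229, 880), (1230, 1230), (1231, 881), (1232, 1232), (1233, 1233), (1234, 882), (1235, 1703), (1236, 1706), (1237, 886), (1238, 887), (1239, 888), (1240, 889), (1241, 890), (1242, 1712), (1243, 1713), (1244, 1714), (1245, 1716), (1246, 1717), (1247, 1718), (1248, 1719), (1249, 1720), (1250, 1250), (1251, 1251), (1252, 1252), (1253, 1253), (1254, 1254), (1255, 1255), (1256, 1256), (1257, 1257), (1258, 1258), (1259, 1741), (1260, 1260), (1261, 1261), (1262, 1262), (1263, 1263), (1264, 1264), (1265, 1748), (1266, 911), (1267, 912), (1268, 1752), (1269, 914), (1270, 915), (1271, 1757), (1272, 910), (1273, 1759), (1274, 1750), (1275, 1761), (1276, 913), (1277, 1753), (1278, 1766), (1279, 1768)]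
    ⟨e3 q1216 (flp_g L15972) q1690, e3 q1217 (flp_g L15858) q1679, e3 q1218 L11179 q1218, e3 q1219 (flp_g L11180) q866, e3 q1220 L11196 q1220, e3 q1221 L11204 q1221, e3 q1222 L11213 q1222, e3 q1223 L16041 q1698, e3 q1224 L16060 q1700, e3 q1225 L11242 q1225, e3 q1226 (flp_g L11246) q872, e3 q1227 L11263 q879, e3 q1228 L11276 q1228, e3 q1229 L11279 q880, e3 q1230 L11291 q1230, e3 q1231 L11296 q881, e3 q1232 L11304 q1232, e3 q1233 L11314 q1233, e3 q1234 L11322 q882, e3 q1235 (flp_g L16094) q1703, e3 q1236 (flp_g L16130) q1706, e3 q1237 L11360 q886, e3 q1238 L11368 q887, e3 q1239 L11379 q888, e3 q1240 L11388 q889, e3 q1241 L11397 q890, e3 q1242 (flp_g L16219) q1712, e3 q1243 (flp_g L16229) q1713, e3 q1244 (flp_g L16239) q1714, e3 q1245 (flp_g L16256) q1716, e3 q1246 (flp_g L16263) q1717, e3 q1247 (flp_g L16271) q1718, e3 q1248 (flp_g L16279) q1719, e3 q1249 (flp_g L16287) q1720, e3 q1250 L11475 q1250, e3 q1251 L11491 q1251, e3 q1252 L11501 q1252, e3 q1253 L11516 q1253, e3 q1254 L11523 q1254, e3 q1255 L11531 q1255, e3 q1256 L11538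 q1256, e3 q1257 L11547 q1257, e3 q1258 L11554 q1258, e3 q1259 L16531 q1741, e3 q1260 L11586 q1260, e3 q1261 L11594 q1261, e3 q1262 L11603 q1262, e3 q1263 L11613 q1263, e3 q1264 L11622 q1264, e3 q1265 L16634 q1748, e3 q1266 L11660 q911, e3 q1267 L11678 q912, e3 q1268 L16721 q1752, e3 q1269 L11701 q914, e3 q1270 L11706 q915, e3 q1271 L16765 q1757, e3 q1272 (flp_g L11716) q910, e3 q1273 L16850 q1759, e3 q1274 (flp_g L16708) q1750, e3 q1275 L16898 q1761, e3 q1276 (flp_g L11804) q913, e3 q1277 (flp_g L16742) q1753, e3 q1278 L16949 q1766, e3 q1279 L16963 q1768, trivial⟩ (by decide +kernel)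

theorem ce_g_20 : ∀ r, r < 64 → sm gg (Qf (1280 + r)) = Qf (tab Gen.g (1280 + r)) :=
  edges_tab (sm gg) Qf (tab Gen.g) 1280 [(1280, 1756), (1281, 916), (1282, 1282), (1283, 1283), (1284, 1284), (1285, 1775), (1286, 1286), (1287, 1287), (1288, 1288), (1289, 1781), (1290, 922), (1291, 931), (1292, 932), (1293, 933), (1294, 1788), (1295, 925), (1296, 936), (1297, 937), (1298, 1793), (1299, 1795), (1300, 940), (1301, 929), (1302, 1782), (1303, 1783), (1304, 1784), (1305, 1801), (1306, 1803), (1307, 1787), (1308, 934), (1309, 1309), (1310, 1790), (1311, 1807), (1312, 1809), (1313, 938), (1314, 1811), (1315, 939), (1316, 1814), (1317, 1317), (1318, 1318), (1319, 1818), (1320, 1320), (1321, 1822), (1322, 1322), (1323, 945), (1324, 1825), (1325, 946), (1326, 1828), (1327, 1327), (1328, 1328), (1329, 1832), (1330, 951), (1331, 1835), (1332, 1836), (1333, 953), (1334, 1334), (1335, 955), (1336, 1336), (1337, 1337), (1338, 1338), (1339, 1843), (1340, 1845), (1341, 1341), (1342, 961), (1343, 969)]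
    ⟨e3 q1280 (flp_g L16762) q1756, e3 q1281 (flp_g L11847) q916, e3 q1282 L11860 q1282, e3 q1283 L11865 q1283, e3 q1284 L11876 q1284, e3 q1285 L17031 q1775, e3 q1286 L11896 q1286, e3 q1287 L11906 q1287, e3 q1288 L11913 q1288, e3 q1289 L17081 q1781, e3 q1290 (flp_g L11926) q922, e3 q1291 L11938 q931, e3 q1292 L11948 q932, e3 q1293 L11955 q933, e3 q1294 L17138 q1788, e3 q1295 (flp_g L11968) q925, e3 q1296 L11982 q936, e3 q1297 L11990 q937, e3 q1298 L17193 q1793, e3 q1299 L17207 q1795, e3 q1300 L12008 q940, e3 q1301 (flp_g L12012) q929, e3 q1302 (flp_g L17096) q1782, e3 q1303 (flp_g L17103) q1783, e3 q1304 (flp_g L17112) q1784, e3 q1305 L17277 q1801, e3 q1306 L17295 q1803, e3 q1307 (flp_g L17135) q1787, e3 q1308 (flp_g L12069) q934, e3 q1309 L12086 q1309, e3 q1310 (flp_g L17161) q1790, e3 q1311 L17346 q1807, e3 q1312 L17375 q1809, e3 q1313 (flp_g L12123) q938, e3 q1314 L17408 q1811, e3 q1315 (flp_g L12138) q939, e3 q1316 (flp_g L17428) q1814, e3 q1317 L12163 q1317, e3 q1318 L12168 q1318, e3 q1319 L17467 q1818, e3 q1320 L12185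 q1320, e3 q1321 L17502 q1822, e3 q1322 L12205 q1322, e3 q1323 (flp_g L12209) q945, e3 q1324 L17530 q1825, e3 q1325 (flp_g L12225) q946, e3 q1326 (flp_g L17558) q1828, e3 q1327 L12249 q1327, e3 q1328 L12255 q1328, e3 q1329 L17586 q1832, e3 q1330 (flp_g L12267) q951, e3 q1331 L17611 q1835, e3 q1332 L17619 q1836, e3 q1333 (flp_g L12290) q953, e3 q1334 L12306 q1334, e3 q1335 (flp_g L12307) q955, e3 q1336 L12320 q1336, e3 q1337 L12326 q1337, e3 q1338 L12334 q1338, e3 q1339 L17695 q1843, e3 q1340 L17712 q1845, e3 q1341 L12362 q1341, e3 q1342 (flp_g L12365) q961, e3 q1343 L12379 q969, trivial⟩ (by decide +kernel)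

theorem ce_g_21 : ∀ r, r < 64 → sm gg (Qf (1344 + r)) = Qf (tab Gen.g (1344 + r)) :=
  edges_tab (sm gg) Qf (tab Gen.g) 1344 [(1344, 970), (1345, 1849), (1346, 1851), (1347, 965), (1348, 1853), (1349, 966), (1350, 1856), (1351, 1847), (1352, 1857), (1353, 971), (1354, 972), (1355, 1355), (1356, 1356), (1357, 975), (1358, 1358), (1359, 1359), (1360, 1862), (1361, 1864), (1362, 981), (1363, 1865), (1364, 982), (1365, 1867), (1366, 1366), (1367, 1367), (1368, 1368), (1369, 1871), (1370, 991), (1371, 1872), (1372, 992), (1373, 994), (1374, 1874), (1375, 996), (1376, 1376), (1377, 1377), (1378, 1877), (1379, 1379), (1380, 1001), (1381, 1880), (1382, 1382), (1383, 1383), (1384, 1005), (1385, 1884), (1386, 1885), (1387, 1007), (1388, 1008), (1389, 1889), (1390, 1890), (1391, 1391), (1392, 1392), (1393, 1393), (1394, 1394), (1395, 1015), (1396, 1016), (1397, 1017), (1398, 1899), (1399, 1900), (1400, 1901), (1401, 1902), (1402, 1911), (1403, 1403), (1404, 1404), (1405, 1405), (1406, 1406), (1407, 1025)]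
    ⟨e3 q1344 L12385 q970, e3 q1345 L17769 q1849, e3 q1346 L17802 q1851, e3 q1347 (flp_g L12421) q965, e3 q1348 L17835 q1853, e3 q1349 (flp_g L12437) q966, e3 q1350 (flp_g L17863) q1856, e3 q1351 (flp_g L17742) q1847, e3 q1352 L17898 q1857, e3 q1353 (flp_g L12491) q971, e3 q1354 (flp_g L12516) q972, e3 q1355 L12548 q1355, e3 q1356 L12556 q1356, e3 q1357 L12561 q975, e3 q1358 L12579 q1358, e3 q1359 L12584 q1359, e3 q1360 L18028 q1862, e3 q1361 L18065 q1864, e3 q1362 (flp_g L12625) q981, e3 q1363 L18092 q1865, e3 q1364 (flp_g L12643) q982, e3 q1365 (flp_g L18111) q1867, e3 q1366 L12683 q1366, e3 q1367 L12711 q1367, e3 q1368 L12735 q1368, e3 q1369 L18310 q1871, e3 q1370 (flp_g L12813) q991, e3 q1371 L18384 q1872, e3 q1372 (flp_g L12849) q992, e3 q1373 (flp_g L12877) q994, e3 q1374 (flp_g L18436) q1874, e3 q1375 L12900 q996, e3 q1376 L12944 q1376, e3 q1377 L13019 q1377, e3 q1378 L18673 q1877, e3 q1379 L13090 q1379, e3 q1380 (flp_g L13091) q1001, e3 q1381 (flp_g L18712) q1880, e3 q1382 L13119 q1382, e3 q1383 L13127 q1383, e3 q1384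 L13135 q1005, e3 q1385 (flp_g L18748) q1884, e3 q1386 (flp_g L18758) q1885, e3 q1387 L13166 q1007, e3 q1388 L13178 q1008, e3 q1389 (flp_g L18801) q1889, e3 q1390 (flp_g L18812) q1890, e3 q1391 L13213 q1391, e3 q1392 L13222 q1392, e3 q1393 L13231 q1393, e3 q1394 L13240 q1394, e3 q1395 L13247 q1015, e3 q1396 L13255 q1016, e3 q1397 L13263 q1017, e3 q1398 (flp_g L18890) q1899, e3 q1399 (flp_g L18901) q1900, e3 q1400 (flp_g L18912) q1901, e3 q1401 (flp_g L18920) q1902, e3 q1402 L18987 q1911, e3 q1403 L13315 q1403, e3 q1404 L13324 q1404, e3 q1405 L13333 q1405, e3 q1406 L13343 q1406, e3 q1407 L13352 q1025, trivial⟩ (by decide +kernel)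

theorem ce_g_22 : ∀ r, r < 64 → sm gg (Qf (1408 + r)) = Qf (tab Gen.g (1408 + r)) :=
  edges_tab (sm gg) Qf (tab Gen.g) 1408 [(1408, 1026), (1409, 1027), (1410, 1028), (1411, 1029), (1412, 1927), (1413, 1918), (1414, 1919), (1415, 1920), (1416, 1921), (1417, 1935), (1418, 1923), (1419, 1924), (1420, 1925), (1421, 1941), (1422, 1030), (1423, 1423), (1424, 1424), (1425, 1425), (1426, 1426), (1427, 1950), (1428, 1428), (1429, 1429), (1430, 1430), (1431, 1956), (1432, 1036), (1433, 1433), (1434, 1434), (1435, 1963), (1436, 1965), (1437, 1437), (1438, 1040), (1439, 1439), (1440, 1044), (1441, 1045), (1442, 1046), (1443, 1969), (1444, 1970), (1445, 1971), (1446, 1972), (1447, 1447), (1448, 1448), (1449, 1449), (1450, 1450), (1451, 1451), (1452, 1452), (1453, 1453), (1454, 1454), (1455, 1455), (1456, 1058), (1457, 1059), (1458, 1060), (1459, 1061), (1460, 1062), (1461, 2000), (1462, 1991), (1463, 1992), (1464, 1993), (1465, 1994), (1466, 2006), (1467, 1996), (1468, 1997), (1469, 1998), (1470, 2012), (1471, 1063)]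
    ⟨e3 q1408 L13361 q1026, e3 q1409 L13371 q1027, e3 q1410 L13380 q1028, e3 q1411 L13389 q1029, e3 q1412 L19130 q1927, e3 q1413 (flp_g L19056) q1918, e3 q1414 (flp_g L19066) q1919, e3 q1415 (flp_g L19077) q1920, e3 q1416 (flp_g L19087) q1921, e3 q1417 L19205 q1935, e3 q1418 (flp_g L19104) q1923, e3 q1419 (flp_g L19113) q1924, e3 q1420 (flp_g L19119) q1925, e3 q1421 L19250 q1941, e3 q1422 (flp_g L13476) q1030, e3 q1423 L13487 q1423, e3 q1424 L13496 q1424, e3 q1425 L13505 q1425, e3 q1426 L13516 q1426, e3 q1427 L19330 q1950, e3 q1428 L13534 q1428, e3 q1429 L13544 q1429, e3 q1430 L13551 q1430, e3 q1431 L19383 q1956, e3 q1432 (flp_g L13566) q1036, e3 q1433 L13580 q1433, e3 q1434 L13587 q1434, e3 q1435 L19441 q1963, e3 q1436 L19455 q1965, e3 q1437 L13611 q1437, e3 q1438 (flp_g L13614) q1040, e3 q1439 L13628 q1439, e3 q1440 L13635 q1044, e3 q1441 L13647 q1045, e3 q1442 L13657 q1046, e3 q1443 (flp_g L19493) q1969, e3 q1444 (flp_g L19507) q1970, e3 q1445 (flp_g L19517) q1971, e3 q1446 (flp_g L19528) q1972, e3 q1447 L13715 q1447,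 e3 q1448 L13724 q1448, e3 q1449 L13733 q1449, e3 q1450 L13741 q1450, e3 q1451 L13748 q1451, e3 q1452 L13758 q1452, e3 q1453 L13767 q1453, e3 q1454 L13775 q1454, e3 q1455 L13784 q1455, e3 q1456 L13795 q1058, e3 q1457 L13803 q1059, e3 q1458 L13812 q1060, e3 q1459 L13820 q1061, e3 q1460 L13830 q1062, e3 q1461 L19780 q2000, e3 q1462 (flp_g L19707) q1991, e3 q1463 (flp_g L19718) q1992, e3 q1464 (flp_g L19726) q1993, e3 q1465 (flp_g L19737) q1994, e3 q1466 L19855 q2006, e3 q1467 (flp_g L19754) q1996, e3 q1468 (flp_g L19764) q1997, e3 q1469 (flp_g L19770) q1998, e3 q1470 L19903 q2012, e3 q1471 (flp_g L13917) q1063, trivial⟩ (by decide +kernel)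

theorem ce_g_23 : ∀ r, r < 64 → sm gg (Qf (1472 + r)) = Qf (tab Gen.g (1472 + r)) :=
  edges_tab (sm gg) Qf (tab Gen.g) 1472 [(1472, 1472), (1473, 1473), (1474, 1474), (1475, 1475), (1476, 2021), (1477, 1072), (1478, 1073), (1479, 2026), (1480, 1075), (1481, 1076), (1482, 1077), (1483, 2032), (1484, 1071), (1485, 2022), (1486, 2023), (1487, 2024), (1488, 2039), (1489, 1074), (1490, 2027), (1491, 2028), (1492, 2046), (1493, 2048), (1494, 2031), (1495, 1078), (1496, 1496), (1497, 1497), (1498, 1498), (1499, 2057), (1500, 2059), (1501, 1501), (1502, 1083), (1503, 1503), (1504, 1504), (1505, 2066), (1506, 1506), (1507, 2070), (1508, 1508), (1509, 1087), (1510, 2074), (1511, 1088), (1512, 2077), (1513, 1513), (1514, 1514), (1515, 1515), (1516, 1516), (1517, 1517), (1518, 2084), (1519, 1094), (1520, 1100), (1521, 1101), (1522, 2091), (1523, 2093), (1524, 1104), (1525, 1098), (1526, 2085), (1527, 2086), (1528, 2100), (1529, 2088), (1530, 2104), (1531, 2090), (1532, 1102), (1533, 2108), (1534, 1103), (1535, 2111)]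
    ⟨e3 q1472 L13930 q1472, e3 q1473 L13941 q1473, e3 q1474 L13950 q1474, e3 q1475 L13962 q1475, e3 q1476 L19991 q2021, e3 q1477 L13980 q1072, e3 q1478 L13992 q1073, e3 q1479 L20038 q2026, e3 q1480 L14011 q1075, e3 q1481 L14022 q1076, e3 q1482 L14029 q1077, e3 q1483 L20087 q2032, e3 q1484 (flp_g L14039) q1071, e3 q1485 (flp_g L20005) q2022, e3 q1486 (flp_g L20017) q2023, e3 q1487 (flp_g L20025) q2024, e3 q1488 L20150 q2039, e3 q1489 (flp_g L14087) q1074, e3 q1490 (flp_g L20056) q2027, e3 q1491 (flp_g L20064) q2028, e3 q1492 L20208 q2046, e3 q1493 L20224 q2048, e3 q1494 (flp_g L20083) q2031, e3 q1495 (flp_g L14135) q1078, e3 q1496 L14153 q1496, e3 q1497 L14161 q1497, e3 q1498 L14170 q1498, e3 q1499 L20298 q2057, e3 q1500 L20315 q2059, e3 q1501 L14197 q1501, e3 q1502 (flp_g L14200) q1083, e3 q1503 L14219 q1503, e3 q1504 L14225 q1504, e3 q1505 L20376 q2066, e3 q1506 L14239 q1506, e3 q1507 L20407 q2070, e3 q1508 L14255 q1508, e3 q1509 (flp_g L14259) q1087, e3 q1510 L20441 q2074, e3 q1511 (flp_g L14273) q1088, e3 q1512 (flp_g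 L20467) q2077, e3 q1513 L14295 q1513, e3 q1514 L14305 q1514, e3 q1515 L14312 q1515, e3 q1516 L14323 q1516, e3 q1517 L14330 q1517, e3 q1518 L20527 q2084, e3 q1519 (flp_g L14345) q1094, e3 q1520 L14361 q1100, e3 q1521 L14368 q1101, e3 q1522 L20587 q2091, e3 q1523 L20604 q2093, e3 q1524 L14392 q1104, e3 q1525 (flp_g L14394) q1098, e3 q1526 (flp_g L20544) q2085, e3 q1527 (flp_g L20551) q2086, e3 q1528 L20661 q2100, e3 q1529 (flp_g L20567) q2088, e3 q1530 L20696 q2104, e3 q1531 (flp_g L20585) q2090, e3 q1532 (flp_g L14454) q1102, e3 q1533 L20727 q2108, e3 q1534 (flp_g L14472) q1103, e3 q1535 (flp_g L20756) q2111, trivial⟩ (by decide +kernel)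

theorem ce_g_24 : ∀ r, r < 64 → sm gg (Qf (1536 + r)) = Qf (tab Gen.g (1536 + r)) :=
  edges_tab (sm gg) Qf (tab Gen.g) 1536 [(1536, 2095), (1537, 1537), (1538, 2114), (1539, 1539), (1540, 1108), (1541, 2118), (1542, 1109), (1543, 2121), (1544, 1544), (1545, 1545), (1546, 1112), (1547, 2125), (1548, 1548), (1549, 1114), (1550, 2129), (1551, 1551), (1552, 1552), (1553, 1118), (1554, 2133), (1555, 2134), (1556, 1556), (1557, 1121), (1558, 1125), (1559, 1126), (1560, 1127), (1561, 1128), (1562, 1129), (1563, 2138), (1564, 2139), (1565, 2141), (1566, 2142), (1567, 2143), (1568, 2144), (1569, 2145), (1570, 1570), (1571, 1571), (1572, 1572), (1573, 1573), (1574, 1574), (1575, 1575), (1576, 1576), (1577, 1577), (1578, 2166), (1579, 1579), (1580, 1580), (1581, 1581), (1582, 1582), (1583, 1583), (1584, 2175), (1585, 1148), (1586, 1149), (1587, 1150), (1588, 2180), (1589, 1152), (1590, 1153), (1591, 1154), (1592, 2186), (1593, 1147), (1594, 2188), (1595, 2177), (1596, 2178), (1597, 2192), (1598, 1151), (1599, 2181)]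
    ⟨e3 q1536 (flp_g L20624) q2095, e3 q1537 L14501 q1537, e3 q1538 L20775 q2114, e3 q1539 L14519 q1539, e3 q1540 (flp_g L14521) q1108, e3 q1541 L20814 q2118, e3 q1542 (flp_g L14538) q1109, e3 q1543 (flp_g L20847) q2121, e3 q1544 L14561 q1544, e3 q1545 L14572 q1545, e3 q1546 (flp_g L14573) q1112, e3 q1547 (flp_g L20882) q2125, e3 q1548 L14599 q1548, e3 q1549 L14606 q1114, e3 q1550 (flp_g L20914) q2129, e3 q1551 L14624 q1551, e3 q1552 L14633 q1552, e3 q1553 L14640 q1118, e3 q1554 (flp_g L20947) q2133, e3 q1555 (flp_g L20957) q2134, e3 q1556 L14664 q1556, e3 q1557 L14674 q1121, e3 q1558 L14682 q1125, e3 q1559 L14692 q1126, e3 q1560 L14704 q1127, e3 q1561 L14714 q1128, e3 q1562 L14724 q1129, e3 q1563 (flp_g L20993) q2138, e3 q1564 (flp_g L21006) q2139, e3 q1565 (flp_g L21025) q2141, e3 q1566 (flp_g L21033) q2142, e3 q1567 (flp_g L21042) q2143, e3 q1568 (flp_g L21052) q2144, e3 q1569 (flp_g L21061) q2145, e3 q1570 L14804 q1570, e3 q1571 L14817 q1571, e3 q1572 L14836 q1572, e3 q1573 L14844 q1573, e3 q1574 L14854 q1574, e3 q1575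 L14862 q1575, e3 q1576 L14871 q1576, e3 q1577 L14879 q1577, e3 q1578 L21294 q2166, e3 q1579 L14905 q1579, e3 q1580 L14915 q1580, e3 q1581 L14925 q1581, e3 q1582 L14935 q1582, e3 q1583 L14945 q1583, e3 q1584 L21399 q2175, e3 q1585 L14980 q1148, e3 q1586 L14989 q1149, e3 q1587 L14999 q1150, e3 q1588 L21489 q2180, e3 q1589 L15014 q1152, e3 q1590 L15023 q1153, e3 q1591 L15030 q1154, e3 q1592 L21538 q2186, e3 q1593 (flp_g L15042) q1147, e3 q1594 L21619 q2188, e3 q1595 (flp_g L21466) q2177, e3 q1596 (flp_g L21474) q2178, e3 q1597 L21672 q2192, e3 q1598 (flp_g L15133) q1151, e3 q1599 (flp_g L21505) q2181, trivial⟩ (by decide +kernel)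

theorem ce_g_25 : ∀ r, r < 64 → sm gg (Qf (1600 + r)) = Qf (tab Gen.g (1600 + r)) :=
  edges_tab (sm gg) Qf (tab Gen.g) 1600 [(1600, 2182), (1601, 2199), (1602, 2201), (1603, 2185), (1604, 1155), (1605, 1605), (1606, 1606), (1607, 1607), (1608, 2209), (1609, 1609), (1610, 1610), (1611, 1611), (1612, 2215), (1613, 1161), (1614, 1170), (1615, 1171), (1616, 1172), (1617, 2222), (1618, 1164), (1619, 1175), (1620, 1176), (1621, 2229), (1622, 2231), (1623, 1179), (1624, 1168), (1625, 2216), (1626, 2217), (1627, 2218), (1628, 2240), (1629, 2242), (1630, 2221), (1631, 1173), (1632, 1632), (1633, 2224), (1634, 2248), (1635, 2226), (1636, 2252), (1637, 2228), (1638, 1177), (1639, 2255), (1640, 1178), (1641, 2258), (1642, 2233), (1643, 1643), (1644, 1644), (1645, 2263), (1646, 1646), (1647, 2267), (1648, 1648), (1649, 1184), (1650, 2270), (1651, 1185), (1652, 2273), (1653, 1653), (1654, 1654), (1655, 2277), (1656, 1190), (1657, 2280), (1658, 2281), (1659, 1192), (1660, 1660), (1661, 1194), (1662, 1662), (1663, 1663)]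
    ⟨e3 q1600 (flp_g L21512) q2182, e3 q1601 L21728 q2199, e3 q1602 L21743 q2201, e3 q1603 (flp_g L21535) q2185, e3 q1604 (flp_g L15181) q1155, e3 q1605 L15197 q1605, e3 q1606 L15202 q1606, e3 q1607 L15214 q1607, e3 q1608 L21823 q2209, e3 q1609 L15234 q1609, e3 q1610 L15245 q1610, e3 q1611 L15254 q1611, e3 q1612 L21878 q2215, e3 q1613 (flp_g L15269) q1161, e3 q1614 L15281 q1170, e3 q1615 L15292 q1171, e3 q1616 L15301 q1172, e3 q1617 L21942 q2222, e3 q1618 (flp_g L15316) q1164, e3 q1619 L15332 q1175, e3 q1620 L15340 q1176, e3 q1621 L22002 q2229, e3 q1622 L22017 q2231, e3 q1623 L15361 q1179, e3 q1624 (flp_g L15365) q1168, e3 q1625 (flp_g L21896) q2216, e3 q1626 (flp_g L21904) q2217, e3 q1627 (flp_g L21913) q2218, e3 q1628 L22097 q2240, e3 q1629 L22116 q2242, e3 q1630 (flp_g L21939) q2221, e3 q1631 (flp_g L15429) q1173, e3 q1632 L15449 q1632, e3 q1633 (flp_g L21970) q2224, e3 q1634 L22178 q2248, e3 q1635 (flp_g L21985) q2226, e3 q1636 L22207 q2252, e3 q1637 (flp_g L21998) q2228, e3 q1638 (flp_g L15488) q1177, e3 q1639 L22239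 q2255, e3 q1640 (flp_g L15504) q1178, e3 q1641 (flp_g L22267) q2258, e3 q1642 (flp_g L22040) q2233, e3 q1643 L15537 q1643, e3 q1644 L15544 q1644, e3 q1645 L22311 q2263, e3 q1646 L15562 q1646, e3 q1647 L22346 q2267, e3 q1648 L15581 q1648, e3 q1649 (flp_g L15585) q1184, e3 q1650 L22373 q2270, e3 q1651 (flp_g L15602) q1185, e3 q1652 (flp_g L22409) q2273, e3 q1653 L15632 q1653, e3 q1654 L15638 q1654, e3 q1655 L22439 q2277, e3 q1656 (flp_g L15651) q1190, e3 q1657 L22467 q2280, e3 q1658 L22474 q2281, e3 q1659 (flp_g L15674) q1192, e3 q1660 L15689 q1660, e3 q1661 (flp_g L15690) q1194, e3 q1662 L15707 q1662, e3 q1663 L15714 q1663, trivial⟩ (by decide +kernel)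

theorem ce_g_26 : ∀ r, r < 64 → sm gg (Qf (1664 + r)) = Qf (tab Gen.g (1664 + r)) :=
  edges_tab (sm gg) Qf (tab Gen.g) 1664 [(1664, 1664), (1665, 2290), (1666, 2292), (1667, 1667), (1668, 1200), (1669, 1208), (1670, 1209), (1671, 2298), (1672, 1211), (1673, 2302), (1674, 1213), (1675, 1204), (1676, 2305), (1677, 1205), (1678, 2308), (1679, 1217), (1680, 2295), (1681, 2296), (1682, 2311), (1683, 1210), (1684, 2313), (1685, 2300), (1686, 1212), (1687, 2317), (1688, 1688), (1689, 1689), (1690, 1216), (1691, 2319), (1692, 1692), (1693, 1693), (1694, 2322), (1695, 1695), (1696, 2326), (1697, 1697), (1698, 1223), (1699, 2328), (1700, 1224), (1701, 2330), (1702, 1702), (1703, 1235), (1704, 1704), (1705, 1705), (1706, 1236), (1707, 1707), (1708, 1708), (1709, 1709), (1710, 1710), (1711, 2336), (1712, 1242), (1713, 1243), (1714, 1244), (1715, 1715), (1716, 1245), (1717, 1246), (1718, 1247), (1719, 1248), (1720, 1249), (1721, 2341), (1722, 2342), (1723, 2344), (1724, 2346), (1725, 2347), (1726, 2348), (1727, 2349)]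
    ⟨e3 q1664 L15722 q1664, e3 q1665 L22556 q2290, e3 q1666 L22574 q2292, e3 q1667 L15753 q1667, e3 q1668 (flp_g L15756) q1200, e3 q1669 L15773 q1208, e3 q1670 L15781 q1209, e3 q1671 L22642 q2298, e3 q1672 L15798 q1211, e3 q1673 L22675 q2302, e3 q1674 L15815 q1213, e3 q1675 (flp_g L15817) q1204, e3 q1676 L22707 q2305, e3 q1677 (flp_g L15834) q1205, e3 q1678 (flp_g L22743) q2308, e3 q1679 L15858 q1217, e3 q1680 (flp_g L22612) q2295, e3 q1681 (flp_g L22620) q2296, e3 q1682 L22780 q2311, e3 q1683 (flp_g L15899) q1210, e3 q1684 L22820 q2313, e3 q1685 (flp_g L22665) q2300, e3 q1686 (flp_g L15924) q1212, e3 q1687 (flp_g L22863) q2317, e3 q1688 L15955 q1688, e3 q1689 L15965 q1689, e3 q1690 L15972 q1216, e3 q1691 (flp_g L22889) q2319, e3 q1692 L15993 q1692, e3 q1693 L16000 q1693, e3 q1694 L22922 q2322, e3 q1695 L16018 q1695, e3 q1696 L22959 q2326, e3 q1697 L16037 q1697, e3 q1698 (flp_g L16041) q1223, e3 q1699 L22986 q2328, e3 q1700 (flp_g L16060) q1224, e3 q1701 (flp_g L23011) q2330, e3 q1702 L16086 q1702, e3 q1703 L16094 q1235,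 e3 q1704 L16107 q1704, e3 q1705 L16124 q1705, e3 q1706 L16130 q1236, e3 q1707 L16136 q1707, e3 q1708 L16145 q1708, e3 q1709 L16162 q1709, e3 q1710 L16171 q1710, e3 q1711 (flp_g L23099) q2336, e3 q1712 L16219 q1242, e3 q1713 L16229 q1243, e3 q1714 L16239 q1244, e3 q1715 L16249 q1715, e3 q1716 L16256 q1245, e3 q1717 L16263 q1246, e3 q1718 L16271 q1247, e3 q1719 L16279 q1248, e3 q1720 L16287 q1249, e3 q1721 (flp_g L23189) q2341, e3 q1722 (flp_g L23206) q2342, e3 q1723 (flp_g L23225) q2344, e3 q1724 (flp_g L23251) q2346, e3 q1725 (flp_g L23259) q2347, e3 q1726 (flp_g L23268) q2348, e3 q1727 (flp_g L23277) q2349, trivial⟩ (by decide +kernel)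

theorem ce_g_27 : ∀ r, r < 64 → sm gg (Qf (1728 + r)) = Qf (tab Gen.g (1728 + r)) :=
  edges_tab (sm gg) Qf (tab Gen.g) 1728 [(1728, 2350), (1729, 2351), (1730, 2363), (1731, 1731), (1732, 1732), (1733, 1733), (1734, 1734), (1735, 1735), (1736, 1736), (1737, 2370), (1738, 1738), (1739, 1739), (1740, 2375), (1741, 1259), (1742, 1742), (1743, 1743), (1744, 2380), (1745, 1745), (1746, 1746), (1747, 2385), (1748, 1265), (1749, 2387), (1750, 1274), (1751, 2389), (1752, 1268), (1753, 1277), (1754, 2394), (1755, 2396), (1756, 1280), (1757, 1271), (1758, 2386), (1759, 1273), (1760, 2401), (1761, 1275), (1762, 1762), (1763, 2391), (1764, 2405), (1765, 2393), (1766, 1278), (1767, 2408), (1768, 1279), (1769, 2411), (1770, 1770), (1771, 1771), (1772, 1772), (1773, 1773), (1774, 2417), (1775, 1285), (1776, 1776), (1777, 1777), (1778, 2422), (1779, 2424), (1780, 1780), (1781, 1289), (1782, 1302), (1783, 1303), (1784, 1304), (1785, 2430), (1786, 2432), (1787, 1307), (1788, 1294), (1789, 2418), (1790, 1310), (1791, 2436)]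
    ⟨e3 q1728 (flp_g L23287) q2350, e3 q1729 (flp_g L23296) q2351, e3 q1730 L23458 q2363, e3 q1731 L16405 q1731, e3 q1732 L16432 q1732, e3 q1733 L16441 q1733, e3 q1734 L16462 q1734, e3 q1735 L16476 q1735, e3 q1736 L16493 q1736, e3 q1737 L23616 q2370, e3 q1738 L16517 q1738, e3 q1739 L16521 q1739, e3 q1740 L23657 q2375, e3 q1741 (flp_g L16531) q1259, e3 q1742 L16568 q1742, e3 q1743 L16588 q1743, e3 q1744 L23765 q2380, e3 q1745 L16615 q1745, e3 q1746 L16621 q1746, e3 q1747 L23815 q2385, e3 q1748 (flp_g L16634) q1265, e3 q1749 L23900 q2387, e3 q1750 L16708 q1274, e3 q1751 L23949 q2389, e3 q1752 (flp_g L16721) q1268, e3 q1753 L16742 q1277, e3 q1754 L24001 q2394, e3 q1755 L24014 q2396, e3 q1756 L16762 q1280, e3 q1757 (flp_g L16765) q1271, e3 q1758 (flp_g L23828) q2386, e3 q1759 (flp_g L16850) q1273, e3 q1760 L24220 q2401, e3 q1761 (flp_g L16898) q1275, e3 q1762 L16913 q1762, e3 q1763 (flp_g L23982) q2391, e3 q1764 L24302 q2405, e3 q1765 (flp_g L23998) q2393, e3 q1766 (flp_g L16949) q1278, e3 q1767 L24331 q2408, e3 q1768 (flp_g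 L16963) q1279, e3 q1769 (flp_g L24357) q2411, e3 q1770 L16990 q1770, e3 q1771 L16996 q1771, e3 q1772 L17007 q1772, e3 q1773 L17015 q1773, e3 q1774 L24415 q2417, e3 q1775 (flp_g L17031) q1285, e3 q1776 L17044 q1776, e3 q1777 L17053 q1777, e3 q1778 L24477 q2422, e3 q1779 L24492 q2424, e3 q1780 L17076 q1780, e3 q1781 (flp_g L17081) q1289, e3 q1782 L17096 q1302, e3 q1783 L17103 q1303, e3 q1784 L17112 q1304, e3 q1785 L24565 q2430, e3 q1786 L24582 q2432, e3 q1787 L17135 q1307, e3 q1788 (flp_g L17138) q1294, e3 q1789 (flp_g L24432) q2418, e3 q1790 L17161 q1310, e3 q1791 L24636 q2436, trivial⟩ (by decide +kernel)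

theorem ce_g_28 : ∀ r, r < 64 → sm gg (Qf (1792 + r)) = Qf (tab Gen.g (1792 + r)) :=
  edges_tab (sm gg) Qf (tab Gen.g) 1792 [(1792, 2438), (1793, 1298), (1794, 2440), (1795, 1299), (1796, 2443), (1797, 2426), (1798, 2427), (1799, 2445), (1800, 2447), (1801, 1305), (1802, 2449), (1803, 1306), (1804, 2452), (1805, 1805), (1806, 2454), (1807, 1311), (1808, 2456), (1809, 1312), (1810, 1810), (1811, 1314), (1812, 2460), (1813, 1813), (1814, 1316), (1815, 1815), (1816, 2466), (1817, 1817), (1818, 1319), (1819, 2470), (1820, 1820), (1821, 2473), (1822, 1321), (1823, 2476), (1824, 1824), (1825, 1324), (1826, 2479), (1827, 1827), (1828, 1326), (1829, 1829), (1830, 2484), (1831, 2485), (1832, 1329), (1833, 1833), (1834, 2488), (1835, 1331), (1836, 1332), (1837, 1837), (1838, 1838), (1839, 1839), (1840, 1840), (1841, 2494), (1842, 2496), (1843, 1339), (1844, 2498), (1845, 1340), (1846, 2501), (1847, 1351), (1848, 2503), (1849, 1345), (1850, 2505), (1851, 1346), (1852, 2497), (1853, 1348), (1854, 2508), (1855, 2500)]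
    ⟨e3 q1792 L24664 q2438, e3 q1793 (flp_g L17193) q1298, e3 q1794 L24699 q2440, e3 q1795 (flp_g L17207) q1299, e3 q1796 (flp_g L24719) q2443, e3 q1797 (flp_g L24521) q2426, e3 q1798 (flp_g L24527) q2427, e3 q1799 L24754 q2445, e3 q1800 L24788 q2447, e3 q1801 (flp_g L17277) q1305, e3 q1802 L24824 q2449, e3 q1803 (flp_g L17295) q1306, e3 q1804 (flp_g L24847) q2452, e3 q1805 L17323 q1805, e3 q1806 L24887 q2454, e3 q1807 (flp_g L17346) q1311, e3 q1808 L24950 q2456, e3 q1809 (flp_g L17375) q1312, e3 q1810 L17407 q1810, e3 q1811 (flp_g L17408) q1314, e3 q1812 (flp_g L25007) q2460, e3 q1813 L17425 q1813, e3 q1814 L17428 q1316, e3 q1815 L17444 q1815, e3 q1816 L25067 q2466, e3 q1817 L17463 q1817, e3 q1818 (flp_g L17467) q1319, e3 q1819 L25104 q2470, e3 q1820 L17491 q1820, e3 q1821 L25130 q2473, e3 q1822 (flp_g L17502) q1321, e3 q1823 (flp_g L25162) q2476, e3 q1824 L17529 q1824, e3 q1825 (flp_g L17530) q1324, e3 q1826 (flp_g L25186) q2479, e3 q1827 L17553 q1827, e3 q1828 L17558 q1326, e3 q1829 L17566 q1829, e3 q1830 L25221 q2484,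 e3 q1831 L25230 q2485, e3 q1832 (flp_g L17586) q1329, e3 q1833 L17602 q1833, e3 q1834 L25252 q2488, e3 q1835 (flp_g L17611) q1331, e3 q1836 (flp_g L17619) q1332, e3 q1837 L17634 q1837, e3 q1838 L17640 q1838, e3 q1839 L17647 q1839, e3 q1840 L17652 q1840, e3 q1841 L25320 q2494, e3 q1842 L25357 q2496, e3 q1843 (flp_g L17695) q1339, e3 q1844 L25393 q2498, e3 q1845 (flp_g L17712) q1340, e3 q1846 (flp_g L25422) q2501, e3 q1847 L17742 q1351, e3 q1848 L25467 q2503, e3 q1849 (flp_g L17769) q1345, e3 q1850 L25540 q2505, e3 q1851 (flp_g L17802) q1346, e3 q1852 (flp_g L25391) q2497, e3 q1853 (flp_g L17835) q1348, e3 q1854 (flp_g L25595) q2508, e3 q1855 (flp_g L25416) q2500, trivial⟩ (by decide +kernel)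

theorem ce_g_29 : ∀ r, r < 64 → sm gg (Qf (1856 + r)) = Qf (tab Gen.g (1856 + r)) :=
  edges_tab (sm gg) Qf (tab Gen.g) 1856 [(1856, 1350), (1857, 1352), (1858, 1858), (1859, 1859), (1860, 1860), (1861, 2513), (1862, 1360), (1863, 2514), (1864, 1361), (1865, 1363), (1866, 2516), (1867, 1365), (1868, 1868), (1869, 1869), (1870, 2519), (1871, 1369), (1872, 1371), (1873, 1873), (1874, 1374), (1875, 2522), (1876, 1876), (1877, 1378), (1878, 2525), (1879, 1879), (1880, 1381), (1881, 2528), (1882, 1882), (1883, 1883), (1884, 1385), (1885, 1386), (1886, 2534), (1887, 2535), (1888, 2541), (1889, 1389), (1890, 1390), (1891, 2542), (1892, 2543), (1893, 1893), (1894, 1894), (1895, 1895), (1896, 1896), (1897, 1897), (1898, 1898), (1899, 1398), (1900, 1399), (1901, 1400), (1902, 1401), (1903, 2564), (1904, 2557), (1905, 2558), (1906, 2568), (1907, 2560), (1908, 2561), (1909, 2562), (1910, 2574), (1911, 1402), (1912, 1912), (1913, 1913), (1914, 1914), (1915, 1915), (1916, 1916), (1917, 2585), (1918, 1413), (1919, 1414)]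
    ⟨e3 q1856 L17863 q1350, e3 q1857 (flp_g L17898) q1352, e3 q1858 L17930 q1858, e3 q1859 L17970 q1859, e3 q1860 L17991 q1860, e3 q1861 L25810 q2513, e3 q1862 (flp_g L18028) q1360, e3 q1863 L25882 q2514, e3 q1864 (flp_g L18065) q1361, e3 q1865 (flp_g L18092) q1363, e3 q1866 (flp_g L25930) q2516, e3 q1867 L18111 q1365, e3 q1868 L18154 q1868, e3 q1869 L18222 q1869, e3 q1870 L26225 q2519, e3 q1871 (flp_g L18310) q1369, e3 q1872 (flp_g L18384) q1371, e3 q1873 L18429 q1873, e3 q1874 L18436 q1374, e3 q1875 (flp_g L26396) q2522, e3 q1876 L18607 q1876, e3 q1877 (flp_g L18673) q1378, e3 q1878 (flp_g L26719) q2525, e3 q1879 L18702 q1879, e3 q1880 L18712 q1381, e3 q1881 (flp_g L26747) q2528, e3 q1882 L18731 q1882, e3 q1883 L18739 q1883, e3 q1884 L18748 q1385, e3 q1885 L18758 q1386, e3 q1886 (flp_g L26804) q2534, e3 q1887 (flp_g L26815) q2535, e3 q1888 L26864 q2541, e3 q1889 L18801 q1389, e3 q1890 L18812 q1390, e3 q1891 (flp_g L26881) q2542, e3 q1892 (flp_g L26891) q2543, e3 q1893 L18842 q1893, e3 q1894 L18851 q1894, e3 q1895 L18858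 q1895, e3 q1896 L18864 q1896, e3 q1897 L18873 q1897, e3 q1898 L18882 q1898, e3 q1899 L18890 q1398, e3 q1900 L18901 q1399, e3 q1901 L18912 q1400, e3 q1902 L18920 q1401, e3 q1903 L27067 q2564, e3 q1904 (flp_g L27013) q2557, e3 q1905 (flp_g L27024) q2558, e3 q1906 L27115 q2568, e3 q1907 (flp_g L27043) q2560, e3 q1908 (flp_g L27051) q2561, e3 q1909 (flp_g L27056) q2562, e3 q1910 L27162 q2574, e3 q1911 (flp_g L18987) q1402, e3 q1912 L18999 q1912, e3 q1913 L19009 q1913, e3 q1914 L19020 q1914, e3 q1915 L19030 q1915, e3 q1916 L19040 q1916, e3 q1917 L27265 q2585, e3 q1918 L19056 q1413, e3 q1919 L19066 q1414, trivial⟩ (by decide +kernel)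

theorem ce_g_30 : ∀ r, r < 64 → sm gg (Qf (1920 + r)) = Qf (tab Gen.g (1920 + r)) :=
  edges_tab (sm gg) Qf (tab Gen.g) 1920 [(1920, 1415), (1921, 1416), (1922, 2593), (1923, 1418), (1924, 1419), (1925, 1420), (1926, 2599), (1927, 1412), (1928, 2586), (1929, 2587), (1930, 2605), (1931, 2589), (1932, 2590), (1933, 2591), (1934, 2611), (1935, 1417), (1936, 2594), (1937, 2595), (1938, 2618), (1939, 2620), (1940, 2598), (1941, 1421), (1942, 1942), (1943, 1943), (1944, 1944), (1945, 2628), (1946, 1946), (1947, 1947), (1948, 1948), (1949, 2634), (1950, 1427), (1951, 1951), (1952, 1952), (1953, 2641), (1954, 2643), (1955, 1955), (1956, 1431), (1957, 1957), (1958, 1958), (1959, 2650), (1960, 1960), (1961, 2654), (1962, 1962), (1963, 1435), (1964, 2658), (1965, 1436), (1966, 2661), (1967, 1967), (1968, 1968), (1969, 1443), (1970, 1444), (1971, 1445), (1972, 1446), (1973, 2664), (1974, 2665), (1975, 2666), (1976, 2667), (1977, 2668), (1978, 1978), (1979, 1979), (1980, 1980), (1981, 1981), (1982, 1982), (1983, 1983)]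
    ⟨e3 q1920 L19077 q1415, e3 q1921 L19087 q1416, e3 q1922 L27338 q2593, e3 q1923 L19104 q1418, e3 q1924 L19113 q1419, e3 q1925 L19119 q1420, e3 q1926 L27384 q2599, e3 q1927 (flp_g L19130) q1412, e3 q1928 (flp_g L27276) q2586, e3 q1929 (flp_g L27287) q2587, e3 q1930 L27439 q2605, e3 q1931 (flp_g L27307) q2589, e3 q1932 (flp_g L27317) q2590, e3 q1933 (flp_g L27324) q2591, e3 q1934 L27491 q2611, e3 q1935 (flp_g L19205) q1417, e3 q1936 (flp_g L27353) q2594, e3 q1937 (flp_g L27360) q2595, e3 q1938 L27548 q2618, e3 q1939 L27564 q2620, e3 q1940 (flp_g L27381) q2598, e3 q1941 (flp_g L19250) q1421, e3 q1942 L19265 q1942, e3 q1943 L19270 q1943, e3 q1944 L19280 q1944, e3 q1945 L27629 q2628, e3 q1946 L19298 q1946, e3 q1947 L19309 q1947, e3 q1948 L19317 q1948, e3 q1949 L27682 q2634, e3 q1950 (flp_g L19330) q1427, e3 q1951 L19344 q1951, e3 q1952 L19352 q1952, e3 q1953 L27747 q2641, e3 q1954 L27764 q2643, e3 q1955 L19381 q1955, e3 q1956 (flp_g L19383) q1431, e3 q1957 L19399 q1957, e3 q1958 L19405 q1958, e3 q1959 L27826 q2650, e3 q1960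 L19421 q1960, e3 q1961 L27857 q2654, e3 q1962 L19438 q1962, e3 q1963 (flp_g L19441) q1435, e3 q1964 L27889 q2658, e3 q1965 (flp_g L19455) q1436, e3 q1966 (flp_g L27917) q2661, e3 q1967 L19477 q1967, e3 q1968 L19486 q1968, e3 q1969 L19493 q1443, e3 q1970 L19507 q1444, e3 q1971 L19517 q1445, e3 q1972 L19528 q1446, e3 q1973 (flp_g L27948) q2664, e3 q1974 (flp_g L27958) q2665, e3 q1975 (flp_g L27968) q2666, e3 q1976 (flp_g L27977) q2667, e3 q1977 (flp_g L27986) q2668, e3 q1978 L19592 q1978, e3 q1979 L19601 q1979, e3 q1980 L19610 q1980, e3 q1981 L19618 q1981, e3 q1982 L19626 q1982, e3 q1983 L19635 q1983, trivial⟩ (by decide +kernel)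

theorem ce_g_31 : ∀ r, r < 64 → sm gg (Qf (1984 + r)) = Qf (tab Gen.g (1984 + r)) :=
  edges_tab (sm gg) Qf (tab Gen.g) 1984 [(1984, 2686), (1985, 1985), (1986, 1986), (1987, 1987), (1988, 1988), (1989, 1989), (1990, 2696), (1991, 1462), (1992, 1463), (1993, 1464), (1994, 1465), (1995, 2702), (1996, 1467), (1997, 1468), (1998, 1469), (1999, 2708), (2000, 1461), (2001, 2697), (2002, 2712), (2003, 2699), (2004, 2700), (2005, 2717), (2006, 1466), (2007, 2703), (2008, 2704), (2009, 2724), (2010, 2726), (2011, 2707), (2012, 1470), (2013, 2013), (2014, 2014), (2015, 2015), (2016, 2734), (2017, 2017), (2018, 2018), (2019, 2019), (2020, 2740), (2021, 1476), (2022, 1485), (2023, 1486), (2024, 1487), (2025, 2747), (2026, 1479), (2027, 1490), (2028, 1491), (2029, 2754), (2030, 2756), (2031, 1494), (2032, 1483), (2033, 2741), (2034, 2742), (2035, 2743), (2036, 2765), (2037, 2767), (2038, 2746), (2039, 1488), (2040, 2040), (2041, 2749), (2042, 2774), (2043, 2751), (2044, 2778), (2045, 2753), (2046, 1492), (2047, 2782)]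
    ⟨e3 q1984 L28147 q2686, e3 q1985 L19651 q1985, e3 q1986 L19660 q1986, e3 q1987 L19670 q1987, e3 q1988 L19679 q1988, e3 q1989 L19690 q1989, e3 q1990 L28244 q2696, e3 q1991 L19707 q1462, e3 q1992 L19718 q1463, e3 q1993 L19726 q1464, e3 q1994 L19737 q1465, e3 q1995 L28317 q2702, e3 q1996 L19754 q1467, e3 q1997 L19764 q1468, e3 q1998 L19770 q1469, e3 q1999 L28366 q2708, e3 q2000 (flp_g L19780) q1461, e3 q2001 (flp_g L28268) q2697, e3 q2002 L28422 q2712, e3 q2003 (flp_g L28297) q2699, e3 q2004 (flp_g L28304) q2700, e3 q2005 L28475 q2717, e3 q2006 (flp_g L19855) q1466, e3 q2007 (flp_g L28335) q2703, e3 q2008 (flp_g L28342) q2704, e3 q2009 L28530 q2724, e3 q2010 L28545 q2726, e3 q2011 (flp_g L28363) q2707, e3 q2012 (flp_g L19903) q1470, e3 q2013 L19919 q2013, e3 q2014 L19923 q2014, e3 q2015 L19936 q2015, e3 q2016 L28619 q2734, e3 q2017 L19958 q2017, e3 q2018 L19970 q2018, e3 q2019 L19978 q2019, e3 q2020 L28674 q2740, e3 q2021 (flp_g L19991) q1476, e3 q2022 L20005 q1485, e3 q2023 L20017 q1486, e3 q2024 L20025 q1487, e3 q2025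 L28737 q2747, e3 q2026 (flp_g L20038) q1479, e3 q2027 L20056 q1490, e3 q2028 L20064 q1491, e3 q2029 L28796 q2754, e3 q2030 L28811 q2756, e3 q2031 L20083 q1494, e3 q2032 (flp_g L20087) q1483, e3 q2033 (flp_g L28692) q2741, e3 q2034 (flp_g L28701) q2742, e3 q2035 (flp_g L28710) q2743, e3 q2036 L28885 q2765, e3 q2037 L28904 q2767, e3 q2038 (flp_g L28734) q2746, e3 q2039 (flp_g L20150) q1488, e3 q2040 L20170 q2040, e3 q2041 (flp_g L28764) q2749, e3 q2042 L28959 q2774, e3 q2043 (flp_g L28778) q2751, e3 q2044 L28989 q2778, e3 q2045 (flp_g L28792) q2753, e3 q2046 (flp_g L20208) q1492, e3 q2047 L29022 q2782, trivial⟩ (by decide +kernel)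

theorem ce_g_32 : ∀ r, r < 64 → sm gg (Qf (2048 + r)) = Qf (tab Gen.g (2048 + r)) :=
  edges_tab (sm gg) Qf (tab Gen.g) 2048 [(2048, 1493), (2049, 2785), (2050, 2758), (2051, 2051), (2052, 2052), (2053, 2788), (2054, 2054), (2055, 2791), (2056, 2056), (2057, 1499), (2058, 2794), (2059, 1500), (2060, 2797), (2061, 2061), (2062, 2062), (2063, 2063), (2064, 2801), (2065, 2065), (2066, 1505), (2067, 2805), (2068, 2068), (2069, 2807), (2070, 1507), (2071, 2810), (2072, 2072), (2073, 2073), (2074, 1510), (2075, 2814), (2076, 2076), (2077, 1512), (2078, 2818), (2079, 2079), (2080, 2080), (2081, 2824), (2082, 2826), (2083, 2083), (2084, 1518), (2085, 1526), (2086, 1527), (2087, 2833), (2088, 1529), (2089, 2837), (2090, 1531), (2091, 1522), (2092, 2841), (2093, 1523), (2094, 2844), (2095, 1536), (2096, 2829), (2097, 2830), (2098, 2849), (2099, 2832), (2100, 1528), (2101, 2854), (2102, 2835), (2103, 2858), (2104, 1530), (2105, 2861), (2106, 2839), (2107, 2107), (2108, 1533), (2109, 2865), (2110, 2110), (2111, 1535)]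
    ⟨e3 q2048 (flp_g L20224) q1493, e3 q2049 (flp_g L29044) q2785, e3 q2050 (flp_g L28830) q2758, e3 q2051 L20252 q2051, e3 q2052 L20258 q2052, e3 q2053 L29084 q2788, e3 q2054 L20275 q2054, e3 q2055 L29119 q2791, e3 q2056 L20295 q2056, e3 q2057 (flp_g L20298) q1499, e3 q2058 L29156 q2794, e3 q2059 (flp_g L20315) q1500, e3 q2060 (flp_g L29186) q2797, e3 q2061 L20337 q2061, e3 q2062 L20350 q2062, e3 q2063 L20355 q2063, e3 q2064 L29231 q2801, e3 q2065 L20372 q2065, e3 q2066 (flp_g L20376) q1505, e3 q2067 L29275 q2805, e3 q2068 L20399 q2068, e3 q2069 L29300 q2807, e3 q2070 (flp_g L20407) q1507, e3 q2071 (flp_g L29326) q2810, e3 q2072 L20429 q2072, e3 q2073 L20440 q2073, e3 q2074 (flp_g L20441) q1510, e3 q2075 (flp_g L29357) q2814, e3 q2076 L20461 q2076, e3 q2077 L20467 q1512, e3 q2078 (flp_g L29389) q2818, e3 q2079 L20487 q2079, e3 q2080 L20495 q2080, e3 q2081 L29439 q2824, e3 q2082 L29457 q2826, e3 q2083 L20524 q2083, e3 q2084 (flp_g L20527) q1518, e3 q2085 L20544 q1526, e3 q2086 L20551 q1527, e3 q2087 L29518 q2833, e3 q2088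 L20567 q1529, e3 q2089 L29552 q2837, e3 q2090 L20585 q1531, e3 q2091 (flp_g L20587) q1522, e3 q2092 L29585 q2841, e3 q2093 (flp_g L20604) q1523, e3 q2094 (flp_g L29615) q2844, e3 q2095 L20624 q1536, e3 q2096 (flp_g L29490) q2829, e3 q2097 (flp_g L29497) q2830, e3 q2098 L29661 q2849, e3 q2099 (flp_g L29516) q2832, e3 q2100 (flp_g L20661) q1528, e3 q2101 L29705 q2854, e3 q2102 (flp_g L29543) q2835, e3 q2103 L29735 q2858, e3 q2104 (flp_g L20696) q1530, e3 q2105 (flp_g L29764) q2861, e3 q2106 (flp_g L29572) q2839, e3 q2107 L20726 q2107, e3 q2108 (flp_g L20727) q1533, e3 q2109 (flp_g L29798) q2865, e3 q2110 L20751 q2110, e3 q2111 L20756 q1535, trivial⟩ (by decide +kernel)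

theorem ce_g_33 : ∀ r, r < 64 → sm gg (Qf (2112 + r)) = Qf (tab Gen.g (2112 + r)) :=
  edges_tab (sm gg) Qf (tab Gen.g) 2112 [(2112, 2869), (2113, 2870), (2114, 1538), (2115, 2873), (2116, 2116), (2117, 2117), (2118, 1541), (2119, 2877), (2120, 2120), (2121, 1543), (2122, 2881), (2123, 2123), (2124, 2124), (2125, 1547), (2126, 2885), (2127, 2886), (2128, 2128), (2129, 1550), (2130, 2890), (2131, 2131), (2132, 2132), (2133, 1554), (2134, 1555), (2135, 2894), (2136, 2891), (2137, 2137), (2138, 1563), (2139, 1564), (2140, 2140), (2141, 1565), (2142, 1566), (2143, 1567), (2144, 1568), (2145, 1569), (2146, 2897), (2147, 2899), (2148, 2901), (2149, 2902), (2150, 2903), (2151, 2904), (2152, 2905), (2153, 2906), (2154, 2919), (2155, 2155), (2156, 2156), (2157, 2157), (2158, 2158), (2159, 2159), (2160, 2160), (2161, 2925), (2162, 2162), (2163, 2163), (2164, 2164), (2165, 2931), (2166, 1578), (2167, 2167), (2168, 2168), (2169, 2169), (2170, 2937), (2171, 2171), (2172, 2172), (2173, 2173), (2174, 2943), (2175, 1584)]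
    ⟨e3 q2112 (flp_g L29827) q2869, e3 q2113 L29830 q2870, e3 q2114 (flp_g L20775) q1538, e3 q2115 (flp_g L29867) q2873, e3 q2116 L20801 q2116, e3 q2117 L20813 q2117, e3 q2118 (flp_g L20814) q1541, e3 q2119 (flp_g L29903) q2877, e3 q2120 L20840 q2120, e3 q2121 L20847 q1543, e3 q2122 (flp_g L29936) q2881, e3 q2123 L20865 q2123, e3 q2124 L20874 q2124, e3 q2125 L20882 q1547, e3 q2126 (flp_g L29970) q2885, e3 q2127 (flp_g L29979) q2886, e3 q2128 L20905 q2128, e3 q2129 L20914 q1550, e3 q2130 L30006 q2890, e3 q2131 L20933 q2131, e3 q2132 L20940 q2132, e3 q2133 L20947 q1554, e3 q2134 L20957 q1555, e3 q2135 (flp_g L30064) q2894, e3 q2136 L630246 q2891, e3 q2137 L20982 q2137, e3 q2138 L20993 q1563, e3 q2139 L21006 q1564, e3 q2140 L21017 q2140, e3 q2141 L21025 q1565, e3 q2142 L21033 q1566, e3 q2143 L21042 q1567, e3 q2144 L21052 q1568, e3 q2145 L21061 q1569, e3 q2146 (flp_g L30105) q2897, e3 q2147 (flp_g L30130) q2899, e3 q2148 (flp_g L30161) q2901, e3 q2149 (flp_g L30170) q2902, e3 q2150 (flp_g L30181) q2903, e3 q2151 (flp_g L30191)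 q2904, e3 q2152 (flp_g L30201) q2905, e3 q2153 (flp_g L30211) q2906, e3 q2154 L30365 q2919, e3 q2155 L21176 q2155, e3 q2156 L21188 q2156, e3 q2157 L21216 q2157, e3 q2158 L21233 q2158, e3 q2159 L21242 q2159, e3 q2160 L21251 q2160, e3 q2161 L30499 q2925, e3 q2162 L21268 q2162, e3 q2163 L21276 q2163, e3 q2164 L21282 q2164, e3 q2165 L30545 q2931, e3 q2166 (flp_g L21294) q1578, e3 q2167 L21327 q2167, e3 q2168 L21337 q2168, e3 q2169 L21348 q2169, e3 q2170 L30657 q2937, e3 q2171 L21366 q2171, e3 q2172 L21376 q2172, e3 q2173 L21384 q2173, e3 q2174 L30712 q2943, e3 q2175 (flp_g L21399) q1584, trivial⟩ (by decide +kernel)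

theorem ce_g_34 : ∀ r, r < 64 → sm gg (Qf (2176 + r)) = Qf (tab Gen.g (2176 + r)) :=
  edges_tab (sm gg) Qf (tab Gen.g) 2176 [(2176, 2945), (2177, 1595), (2178, 1596), (2179, 2949), (2180, 1588), (2181, 1599), (2182, 1600), (2183, 2956), (2184, 2958), (2185, 1603), (2186, 1592), (2187, 2944), (2188, 1594), (2189, 2946), (2190, 2965), (2191, 2967), (2192, 1597), (2193, 2193), (2194, 2951), (2195, 2972), (2196, 2953), (2197, 2976), (2198, 2955), (2199, 1601), (2200, 2980), (2201, 1602), (2202, 2983), (2203, 2960), (2204, 2204), (2205, 2205), (2206, 2206), (2207, 2207), (2208, 2990), (2209, 1608), (2210, 2210), (2211, 2211), (2212, 2997), (2213, 2999), (2214, 2214), (2215, 1612), (2216, 1625), (2217, 1626), (2218, 1627), (2219, 3008), (2220, 3010), (2221, 1630), (2222, 1617), (2223, 2991), (2224, 1633), (2225, 3016), (2226, 1635), (2227, 3020), (2228, 1637), (2229, 1621), (2230, 3023), (2231, 1622), (2232, 3026), (2233, 1642), (2234, 3002), (2235, 3003), (2236, 3030), (2237, 3005), (2238, 3034), (2239, 3007)]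
    ⟨e3 q2176 L30792 q2945, e3 q2177 L21466 q1595, e3 q2178 L21474 q1596, e3 q2179 L30846 q2949, e3 q2180 (flp_g L21489) q1588, e3 q2181 L21505 q1599, e3 q2182 L21512 q1600, e3 q2183 L30903 q2956, e3 q2184 L30917 q2958, e3 q2185 L21535 q1603, e3 q2186 (flp_g L21538) q1592, e3 q2187 (flp_g L30728) q2944, e3 q2188 (flp_g L21619) q1594, e3 q2189 (flp_g L30816) q2946, e3 q2190 L31107 q2965, e3 q2191 L31125 q2967, e3 q2192 (flp_g L21672) q1597, e3 q2193 L21690 q2193, e3 q2194 (flp_g L30872) q2951, e3 q2195 L31188 q2972, e3 q2196 (flp_g L30885) q2953, e3 q2197 L31218 q2976, e3 q2198 (flp_g L30900) q2955, e3 q2199 (flp_g L21728) q1601, e3 q2200 L31246 q2980, e3 q2201 (flp_g L21743) q1602, e3 q2202 (flp_g L31280) q2983, e3 q2203 (flp_g L30944) q2960, e3 q2204 L21778 q2204, e3 q2205 L21783 q2205, e3 q2206 L21795 q2206, e3 q2207 L21805 q2207, e3 q2208 L31344 q2990, e3 q2209 (flp_g L21823) q1608, e3 q2210 L21838 q2210, e3 q2211 L21847 q2211, e3 q2212 L31411 q2997, e3 q2213 L31427 q2999, e3 q2214 L21873 q2214, e3 q2215 (flp_g L21878)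 q1612, e3 q2216 L21896 q1625, e3 q2217 L21904 q1626, e3 q2218 L21913 q1627, e3 q2219 L31510 q3008, e3 q2220 L31528 q3010, e3 q2221 L21939 q1630, e3 q2222 (flp_g L21942) q1617, e3 q2223 (flp_g L31364) q2991, e3 q2224 L21970 q1633, e3 q2225 L31593 q3016, e3 q2226 L21985 q1635, e3 q2227 L31621 q3020, e3 q2228 L21998 q1637, e3 q2229 (flp_g L22002) q1621, e3 q2230 L31655 q3023, e3 q2231 (flp_g L22017) q1622, e3 q2232 (flp_g L31683) q3026, e3 q2233 L22040 q1642, e3 q2234 (flp_g L31464) q3002, e3 q2235 (flp_g L31472) q3003, e3 q2236 L31723 q3030, e3 q2237 (flp_g L31490) q3005, e3 q2238 L31757 q3034, e3 q2239 (flp_g L31507) q3007, trivial⟩ (by decide +kernel)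

theorem ce_g_35 : ∀ r, r < 64 → sm gg (Qf (2240 + r)) = Qf (tab Gen.g (2240 + r)) :=
  edges_tab (sm gg) Qf (tab Gen.g) 2240 [(2240, 1628), (2241, 3037), (2242, 1629), (2243, 3040), (2244, 3012), (2245, 2245), (2246, 3014), (2247, 3044), (2248, 1634), (2249, 3047), (2250, 3018), (2251, 3050), (2252, 1636), (2253, 3053), (2254, 2254), (2255, 1639), (2256, 3056), (2257, 2257), (2258, 1641), (2259, 3059), (2260, 2260), (2261, 3062), (2262, 2262), (2263, 1645), (2264, 3066), (2265, 2265), (2266, 3068), (2267, 1647), (2268, 3071), (2269, 2269), (2270, 1650), (2271, 3074), (2272, 2272), (2273, 1652), (2274, 2274), (2275, 3079), (2276, 3080), (2277, 1655), (2278, 2278), (2279, 3083), (2280, 1657), (2281, 1658), (2282, 2282), (2283, 2283), (2284, 2284), (2285, 2285), (2286, 3090), (2287, 2287), (2288, 3094), (2289, 2289), (2290, 1665), (2291, 3097), (2292, 1666), (2293, 3100), (2294, 2294), (2295, 1680), (2296, 1681), (2297, 3104), (2298, 1671), (2299, 3107), (2300, 1685), (2301, 3110), (2302, 1673), (2303, 3113)]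
    ⟨e3 q2240 (flp_g L22097) q1628, e3 q2241 L31792 q3037, e3 q2242 (flp_g L22116) q1629, e3 q2243 (flp_g L31823) q3040, e3 q2244 (flp_g L31551) q3012, e3 q2245 L22152 q2245, e3 q2246 (flp_g L31572) q3014, e3 q2247 L31867 q3044, e3 q2248 (flp_g L22178) q1634, e3 q2249 L31913 q3047, e3 q2250 (flp_g L31613) q3018, e3 q2251 L31935 q3050, e3 q2252 (flp_g L22207) q1636, e3 q2253 (flp_g L31963) q3053, e3 q2254 L22238 q2254, e3 q2255 (flp_g L22239) q1639, e3 q2256 (flp_g L31998) q3056, e3 q2257 L22262 q2257, e3 q2258 L22267 q1641, e3 q2259 (flp_g L32025) q3059, e3 q2260 L22285 q2260, e3 q2261 L32066 q3062, e3 q2262 L22307 q2262, e3 q2263 (flp_g L22311) q1645, e3 q2264 L32108 q3066, e3 q2265 L22335 q2265, e3 q2266 L32132 q3068, e3 q2267 (flp_g L22346) q1647, e3 q2268 (flp_g L32164) q3071, e3 q2269 L22372 q2269, e3 q2270 (flp_g L22373) q1650, e3 q2271 (flp_g L32194) q3074, e3 q2272 L22402 q2272, e3 q2273 L22409 q1652, e3 q2274 L22416 q2274, e3 q2275 L32234 q3079, e3 q2276 L32242 q3080, e3 q2277 (flp_g L22439) q1655, e3 q2278 L22458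 q2278, e3 q2279 L32267 q3083, e3 q2280 (flp_g L22467) q1657, e3 q2281 (flp_g L22474) q1658, e3 q2282 L22489 q2282, e3 q2283 L22497 q2283, e3 q2284 L22506 q2284, e3 q2285 L22513 q2285, e3 q2286 L32339 q3090, e3 q2287 L22533 q2287, e3 q2288 L32376 q3094, e3 q2289 L22553 q2289, e3 q2290 (flp_g L22556) q1665, e3 q2291 L32411 q3097, e3 q2292 (flp_g L22574) q1666, e3 q2293 (flp_g L32448) q3100, e3 q2294 L22599 q2294, e3 q2295 L22612 q1680, e3 q2296 L22620 q1681, e3 q2297 L32497 q3104, e3 q2298 (flp_g L22642) q1671, e3 q2299 L32545 q3107, e3 q2300 L22665 q1685, e3 q2301 L32575 q3110, e3 q2302 (flp_g L22675) q1673, e3 q2303 (flp_g L32607) q3113, trivial⟩ (by decide +kernel)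

theorem ce_g_36 : ∀ r, r < 64 → sm gg (Qf (2304 + r)) = Qf (tab Gen.g (2304 + r)) :=
  edges_tab (sm gg) Qf (tab Gen.g) 2304 [(2304, 3096), (2305, 1676), (2306, 3115), (2307, 3099), (2308, 1678), (2309, 3119), (2310, 3120), (2311, 1682), (2312, 2312), (2313, 1684), (2314, 3123), (2315, 3109), (2316, 2316), (2317, 1687), (2318, 2318), (2319, 1691), (2320, 2320), (2321, 3130), (2322, 1694), (2323, 3132), (2324, 2324), (2325, 3135), (2326, 1696), (2327, 3137), (2328, 1699), (2329, 3139), (2330, 1701), (2331, 3142), (2332, 2332), (2333, 2333), (2334, 2334), (2335, 2335), (2336, 1711), (2337, 2337), (2338, 2338), (2339, 2339), (2340, 3147), (2341, 1721), (2342, 1722), (2343, 2343), (2344, 1723), (2345, 2345), (2346, 1724), (2347, 1725), (2348, 1726), (2349, 1727), (2350, 1728), (2351, 1729), (2352, 3166), (2353, 3152), (2354, 3155), (2355, 3156), (2356, 3159), (2357, 3160), (2358, 3161), (2359, 3173), (2360, 3163), (2361, 3164), (2362, 3178), (2363, 1730), (2364, 2364), (2365, 2365), (2366, 2366), (2367, 3182)]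
    ⟨e3 q2304 (flp_g L32409) q3096, e3 q2305 (flp_g L22707) q1676, e3 q2306 (flp_g L32634) q3115, e3 q2307 (flp_g L32440) q3099, e3 q2308 L22743 q1678, e3 q2309 (flp_g L32669) q3119, e3 q2310 L32692 q3120, e3 q2311 (flp_g L22780) q1682, e3 q2312 L22819 q2312, e3 q2313 (flp_g L22820) q1684, e3 q2314 (flp_g L32770) q3123, e3 q2315 (flp_g L32563) q3109, e3 q2316 L22857 q2316, e3 q2317 L22863 q1687, e3 q2318 L22880 q2318, e3 q2319 L22889 q1691, e3 q2320 L22896 q2320, e3 q2321 L32865 q3130, e3 q2322 (flp_g L22922) q1694, e3 q2323 L32906 q3132, e3 q2324 L22948 q2324, e3 q2325 L32941 q3135, e3 q2326 (flp_g L22959) q1696, e3 q2327 (flp_g L32963) q3137, e3 q2328 (flp_g L22986) q1699, e3 q2329 (flp_g L32993) q3139, e3 q2330 L23011 q1701, e3 q2331 (flp_g L33021) q3142, e3 q2332 L23043 q2332, e3 q2333 L23058 q2333, e3 q2334 L23086 q2334, e3 q2335 L23095 q2335, e3 q2336 L23099 q1711, e3 q2337 L23117 q2337, e3 q2338 L23131 q2338, e3 q2339 L23141 q2339, e3 q2340 (flp_g L33134) q3147, e3 q2341 L23189 q1721, e3 q2342 L23206 q1722, e3 q2343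 L23218 q2343, e3 q2344 L23225 q1723, e3 q2345 L23244 q2345, e3 q2346 L23251 q1724, e3 q2347 L23259 q1725, e3 q2348 L23268 q1726, e3 q2349 L23277 q1727, e3 q2350 L23287 q1728, e3 q2351 L23296 q1729, e3 q2352 L33418 q3166, e3 q2353 (flp_g L33237) q3152, e3 q2354 (flp_g L33284) q3155, e3 q2355 (flp_g L33294) q3156, e3 q2356 (flp_g L33336) q3159, e3 q2357 (flp_g L33353) q3160, e3 q2358 (flp_g L33373) q3161, e3 q2359 L33598 q3173, e3 q2360 (flp_g L33400) q3163, e3 q2361 (flp_g L33406) q3164, e3 q2362 L33645 q3178, e3 q2363 (flp_g L23458) q1730, e3 q2364 L23470 q2364, e3 q2365 L23480 q2365, e3 q2366 L23554 q2366, e3 q2367 L33824 q3182, trivial⟩ (by decide +kernel)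

theorem ce_g_37 : ∀ r, r < 64 → sm gg (Qf (2368 + r)) = Qf (tab Gen.g (2368 + r)) :=
  edges_tab (sm gg) Qf (tab Gen.g) 2368 [(2368, 2368), (2369, 3184), (2370, 1737), (2371, 2371), (2372, 3189), (2373, 3191), (2374, 2374), (2375, 1740), (2376, 3179), (2377, 3194), (2378, 2378), (2379, 3196), (2380, 1744), (2381, 2381), (2382, 3201), (2383, 3203), (2384, 2384), (2385, 1747), (2386, 1758), (2387, 1749), (2388, 3208), (2389, 1751), (2390, 3197), (2391, 1763), (2392, 3212), (2393, 1765), (2394, 1754), (2395, 3215), (2396, 1755), (2397, 3218), (2398, 3205), (2399, 2399), (2400, 3219), (2401, 1760), (2402, 2402), (2403, 3222), (2404, 3223), (2405, 1764), (2406, 3226), (2407, 2407), (2408, 1767), (2409, 3229), (2410, 2410), (2411, 1769), (2412, 2412), (2413, 2413), (2414, 3235), (2415, 3237), (2416, 2416), (2417, 1774), (2418, 1789), (2419, 2419), (2420, 3241), (2421, 3243), (2422, 1778), (2423, 3204), (2424, 1779), (2425, 3202), (2426, 1797), (2427, 1798), (2428, 3246), (2429, 3248), (2430, 1785), (2431, 3250)]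
    ⟨e3 q2368 L23603 q2368, e3 q2369 L33870 q3184, e3 q2370 (flp_g L23616) q1737, e3 q2371 L23636 q2371, e3 q2372 L33921 q3189, e3 q2373 L33936 q3191, e3 q2374 L23655 q2374, e3 q2375 (flp_g L23657) q1740, e3 q2376 (flp_g L33659) q3179, e3 q2377 L34043 q3194, e3 q2378 L23749 q2378, e3 q2379 L34098 q3196, e3 q2380 (flp_g L23765) q1744, e3 q2381 L23786 q2381, e3 q2382 L34157 q3201, e3 q2383 L34171 q3203, e3 q2384 L23811 q2384, e3 q2385 (flp_g L23815) q1747, e3 q2386 L23828 q1758, e3 q2387 (flp_g L23900) q1749, e3 q2388 L34380 q3208, e3 q2389 (flp_g L23949) q1751, e3 q2390 (flp_g L34113) q3197, e3 q2391 L23982 q1763, e3 q2392 L34464 q3212, e3 q2393 L23998 q1765, e3 q2394 (flp_g L24001) q1754, e3 q2395 L34495 q3215, e3 q2396 (flp_g L24014) q1755, e3 q2397 (flp_g L34522) q3218, e3 q2398 (flp_g L34202) q3205, e3 q2399 L24161 q2399, e3 q2400 L34800 q3219, e3 q2401 (flp_g L24220) q1760, e3 q2402 L24250 q2402, e3 q2403 L34908 q3222, e3 q2404 L34939 q3223, e3 q2405 (flp_g L24302) q1764, e3 q2406 (flp_g L34965) q3226, e3 q2407 L24330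 q2407, e3 q2408 (flp_g L24331) q1767, e3 q2409 (flp_g L34996) q3229, e3 q2410 L24352 q2410, e3 q2411 L24357 q1769, e3 q2412 L24373 q2412, e3 q2413 L24383 q2413, e3 q2414 L35077 q3235, e3 q2415 L35095 q3237, e3 q2416 L24411 q2416, e3 q2417 (flp_g L24415) q1774, e3 q2418 L24432 q1789, e3 q2419 L24438 q2419, e3 q2420 L35156 q3241, e3 q2421 L35188 q3243, e3 q2422 (flp_g L24477) q1778, e3 q2423 L626178 q3204, e3 q2424 (flp_g L24492) q1779, e3 q2425 L626193 q3202, e3 q2426 L24521 q1797, e3 q2427 L24527 q1798, e3 q2428 L35286 q3246, e3 q2429 L35319 q3248, e3 q2430 (flp_g L24565) q1785, e3 q2431 L35357 q3250, trivial⟩ (by decide +kernel)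

theorem ce_g_38 : ∀ r, r < 64 → sm gg (Qf (2432 + r)) = Qf (tab Gen.g (2432 + r)) :=
  edges_tab (sm gg) Qf (tab Gen.g) 2432 [(2432, 1786), (2433, 3253), (2434, 3239), (2435, 3255), (2436, 1791), (2437, 3257), (2438, 1792), (2439, 3244), (2440, 1794), (2441, 3217), (2442, 3216), (2443, 1796), (2444, 3260), (2445, 1799), (2446, 3262), (2447, 1800), (2448, 2448), (2449, 1802), (2450, 3266), (2451, 2451), (2452, 1804), (2453, 3269), (2454, 1806), (2455, 2455), (2456, 1808), (2457, 2457), (2458, 2458), (2459, 2459), (2460, 1812), (2461, 2461), (2462, 2462), (2463, 3275), (2464, 2464), (2465, 3277), (2466, 1816), (2467, 3280), (2468, 2468), (2469, 3282), (2470, 1819), (2471, 3285), (2472, 2472), (2473, 1821), (2474, 3289), (2475, 2475), (2476, 1823), (2477, 2477), (2478, 2478), (2479, 1826), (2480, 3295), (2481, 2481), (2482, 3298), (2483, 3300), (2484, 1830), (2485, 1831), (2486, 2486), (2487, 3304), (2488, 1834), (2489, 2489), (2490, 2490), (2491, 2491), (2492, 3230), (2493, 3309), (2494, 1841), (2495, 3311)]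
    ⟨e3 q2432 (flp_g L24582) q1786, e3 q2433 (flp_g L35381) q3253, e3 q2434 (flp_g L35127) q3239, e3 q2435 L35419 q3255, e3 q2436 (flp_g L24636) q1791, e3 q2437 L35486 q3257, e3 q2438 (flp_g L24664) q1792, e3 q2439 (flp_g L35224) q3244, e3 q2440 (flp_g L24699) q1794, e3 q2441 (flp_g L626639) q3217, e3 q2442 (flp_g L626092) q3216, e3 q2443 L24719 q1796, e3 q2444 L35605 q3260, e3 q2445 (flp_g L24754) q1799, e3 q2446 L35676 q3262, e3 q2447 (flp_g L24788) q1800, e3 q2448 L24823 q2448, e3 q2449 (flp_g L24824) q1802, e3 q2450 (flp_g L35740) q3266, e3 q2451 L24844 q2451, e3 q2452 L24847 q1804, e3 q2453 L35822 q3269, e3 q2454 (flp_g L24887) q1806, e3 q2455 L24919 q2455, e3 q2456 (flp_g L24950) q1808, e3 q2457 L24973 q2457, e3 q2458 L24995 q2458, e3 q2459 L25002 q2459, e3 q2460 L25007 q1812, e3 q2461 L25019 q2461, e3 q2462 L25034 q2462, e3 q2463 L36038 q3275, e3 q2464 L25056 q2464, e3 q2465 L36067 q3277, e3 q2466 (flp_g L25067) q1816, e3 q2467 (flp_g L36099) q3280, e3 q2468 L25094 q2468, e3 q2469 L36111 q3282, e3 q2470 (flp_g L25104)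 q1819, e3 q2471 (flp_g L36146) q3285, e3 q2472 L25125 q2472, e3 q2473 (flp_g L25130) q1821, e3 q2474 (flp_g L36190) q3289, e3 q2475 L25156 q2475, e3 q2476 L25162 q1823, e3 q2477 L25172 q2477, e3 q2478 L25180 q2478, e3 q2479 L25186 q1826, e3 q2480 (flp_g L36238) q3295, e3 q2481 L25199 q2481, e3 q2482 L36257 q3298, e3 q2483 L36272 q3300, e3 q2484 (flp_g L25221) q1830, e3 q2485 (flp_g L25230) q1831, e3 q2486 L25245 q2486, e3 q2487 L36306 q3304, e3 q2488 (flp_g L25252) q1834, e3 q2489 L25268 q2489, e3 q2490 L25275 q2490, e3 q2491 L25283 q2491, e3 q2492 (flp_g L624016) q3230, e3 q2493 L36392 q3309, e3 q2494 (flp_g L25320) q1841, e3 q2495 L36473 q3311, trivial⟩ (by decide +kernel)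

theorem ce_g_39 : ∀ r, r < 64 → sm gg (Qf (2496 + r)) = Qf (tab Gen.g (2496 + r)) :=
  edges_tab (sm gg) Qf (tab Gen.g) 2496 [(2496, 1842), (2497, 1852), (2498, 1844), (2499, 3176), (2500, 1855), (2501, 1846), (2502, 3313), (2503, 1848), (2504, 3310), (2505, 1850), (2506, 3312), (2507, 3192), (2508, 1854), (2509, 3193), (2510, 3190), (2511, 2511), (2512, 3316), (2513, 1861), (2514, 1863), (2515, 3177), (2516, 1866), (2517, 3165), (2518, 2518), (2519, 1870), (2520, 2520), (2521, 2521), (2522, 1875), (2523, 3320), (2524, 2524), (2525, 1878), (2526, 3322), (2527, 2527), (2528, 1881), (2529, 3326), (2530, 2530), (2531, 2531), (2532, 2532), (2533, 2533), (2534, 1886), (2535, 1887), (2536, 3339), (2537, 3335), (2538, 3336), (2539, 3337), (2540, 3345), (2541, 1888), (2542, 1891), (2543, 1892), (2544, 3347), (2545, 3348), (2546, 3349), (2547, 2547), (2548, 2548), (2549, 2549), (2550, 2550), (2551, 3362), (2552, 2552), (2553, 2553), (2554, 2554), (2555, 2555), (2556, 3370), (2557, 1904), (2558, 1905), (2559, 3374)]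
    ⟨e3 q2496 (flp_g L25357) q1842, e3 q2497 L25391 q1852, e3 q2498 (flp_g L25393) q1844, e3 q2499 (flp_g L625730) q3176, e3 q2500 L25416 q1855, e3 q2501 L25422 q1846, e3 q2502 L36634 q3313, e3 q2503 (flp_g L25467) q1848, e3 q2504 (flp_g L36426) q3310, e3 q2505 (flp_g L25540) q1850, e3 q2506 (flp_g L36499) q3312, e3 q2507 L625639 q3192, e3 q2508 L25595 q1854, e3 q2509 L627183 q3193, e3 q2510 (flp_g L625820) q3190, e3 q2511 L25685 q2511, e3 q2512 L37080 q3316, e3 q2513 (flp_g L25810) q1861, e3 q2514 (flp_g L25882) q1863, e3 q2515 (flp_g L603722) q3177, e3 q2516 L25930 q1866, e3 q2517 L627152 q3165, e3 q2518 L26091 q2518, e3 q2519 (flp_g L26225) q1870, e3 q2520 L26345 q2520, e3 q2521 L26391 q2521, e3 q2522 L26396 q1875, e3 q2523 (flp_g L37897) q3320, e3 q2524 L26710 q2524, e3 q2525 L26719 q1878, e3 q2526 (flp_g L38318) q3322, e3 q2527 L26738 q2527, e3 q2528 L26747 q1881, e3 q2529 (flp_g L38353) q3326, e3 q2530 L26767 q2530, e3 q2531 L26776 q2531, e3 q2532 L26783 q2532, e3 q2533 L26794 q2533, e3 q2534 L26804 q1886, e3 q2535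 L26815 q1887, e3 q2536 L38474 q3339, e3 q2537 (flp_g L38442) q3335, e3 q2538 (flp_g L38453) q3336, e3 q2539 (flp_g L38461) q3337, e3 q2540 L38527 q3345, e3 q2541 (flp_g L26864) q1888, e3 q2542 L26881 q1891, e3 q2543 L26891 q1892, e3 q2544 (flp_g L38551) q3347, e3 q2545 (flp_g L38561) q3348, e3 q2546 (flp_g L38570) q3349, e3 q2547 L26926 q2547, e3 q2548 L26936 q2548, e3 q2549 L26947 q2549, e3 q2550 L26954 q2550, e3 q2551 L38680 q3362, e3 q2552 L26965 q2552, e3 q2553 L26977 q2553, e3 q2554 L26989 q2554, e3 q2555 L26998 q2555, e3 q2556 L38755 q3370, e3 q2557 L27013 q1904, e3 q2558 L27024 q1905, e3 q2559 L38802 q3374, trivial⟩ (by decide +kernel)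

theorem ce_g_40 : ∀ r, r < 64 → sm gg (Qf (2560 + r)) = Qf (tab Gen.g (2560 + r)) :=
  edges_tab (sm gg) Qf (tab Gen.g) 2560 [(2560, 1907), (2561, 1908), (2562, 1909), (2563, 3380), (2564, 1903), (2565, 3371), (2566, 3372), (2567, 3386), (2568, 1906), (2569, 3375), (2570, 3376), (2571, 3393), (2572, 3395), (2573, 3379), (2574, 1910), (2575, 2575), (2576, 2576), (2577, 2577), (2578, 2578), (2579, 2579), (2580, 3406), (2581, 2581), (2582, 2582), (2583, 2583), (2584, 3412), (2585, 1917), (2586, 1928), (2587, 1929), (2588, 3418), (2589, 1931), (2590, 1932), (2591, 1933), (2592, 3424), (2593, 1922), (2594, 1936), (2595, 1937), (2596, 3431), (2597, 3433), (2598, 1940), (2599, 1926), (2600, 3413), (2601, 3414), (2602, 3415), (2603, 3416), (2604, 3442), (2605, 1930), (2606, 3419), (2607, 3420), (2608, 3449), (2609, 3451), (2610, 3423), (2611, 1934), (2612, 2612), (2613, 3426), (2614, 3458), (2615, 3428), (2616, 3462), (2617, 3430), (2618, 1938), (2619, 3466), (2620, 1939), (2621, 3469), (2622, 3435), (2623, 2623)]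
    ⟨e3 q2560 L27043 q1907, e3 q2561 L27051 q1908, e3 q2562 L27056 q1909, e3 q2563 L38850 q3380, e3 q2564 (flp_g L27067) q1903, e3 q2565 (flp_g L38778) q3371, e3 q2566 (flp_g L38786) q3372, e3 q2567 L38913 q3386, e3 q2568 (flp_g L27115) q1906, e3 q2569 (flp_g L38819) q3375, e3 q2570 (flp_g L38825) q3376, e3 q2571 L38971 q3393, e3 q2572 L38986 q3395, e3 q2573 (flp_g L38848) q3379, e3 q2574 (flp_g L27162) q1910, e3 q2575 L27175 q2575, e3 q2576 L27180 q2576, e3 q2577 L27191 q2577, e3 q2578 L27203 q2578, e3 q2579 L27214 q2579, e3 q2580 L39091 q3406, e3 q2581 L27234 q2581, e3 q2582 L27244 q2582, e3 q2583 L27251 q2583, e3 q2584 L39143 q3412, e3 q2585 (flp_g L27265) q1917, e3 q2586 L27276 q1928, e3 q2587 L27287 q1929, e3 q2588 L39198 q3418, e3 q2589 L27307 q1931, e3 q2590 L27317 q1932, e3 q2591 L27324 q1933, e3 q2592 L39251 q3424, e3 q2593 (flp_g L27338) q1922, e3 q2594 L27353 q1936, e3 q2595 L27360 q1937, e3 q2596 L39309 q3431, e3 q2597 L39324 q3433, e3 q2598 L27381 q1940, e3 q2599 (flp_g L27384) q1926, e3 q2600 (flp_g L39158)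 q3413, e3 q2601 (flp_g L39165) q3414, e3 q2602 (flp_g L39176) q3415, e3 q2603 (flp_g L39184) q3416, e3 q2604 L39398 q3442, e3 q2605 (flp_g L27439) q1930, e3 q2606 (flp_g L39215) q3419, e3 q2607 (flp_g L39223) q3420, e3 q2608 L39464 q3449, e3 q2609 L39483 q3451, e3 q2610 (flp_g L39249) q3423, e3 q2611 (flp_g L27491) q1934, e3 q2612 L27508 q2612, e3 q2613 (flp_g L39275) q3426, e3 q2614 L39539 q3458, e3 q2615 (flp_g L39291) q3428, e3 q2616 L39570 q3462, e3 q2617 (flp_g L39306) q3430, e3 q2618 (flp_g L27548) q1938, e3 q2619 L39601 q3466, e3 q2620 (flp_g L27564) q1939, e3 q2621 (flp_g L39625) q3469, e3 q2622 (flp_g L39343) q3435, e3 q2623 L27591 q2623, trivial⟩ (by decide +kernel)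

theorem ce_g_41 : ∀ r, r < 64 → sm gg (Qf (2624 + r)) = Qf (tab Gen.g (2624 + r)) :=
  edges_tab (sm gg) Qf (tab Gen.g) 2624 [(2624, 2624), (2625, 2625), (2626, 2626), (2627, 3473), (2628, 1945), (2629, 2629), (2630, 2630), (2631, 3477), (2632, 3479), (2633, 2633), (2634, 1949), (2635, 2635), (2636, 2636), (2637, 3483), (2638, 2638), (2639, 3486), (2640, 2640), (2641, 1953), (2642, 3489), (2643, 1954), (2644, 3492), (2645, 2645), (2646, 2646), (2647, 2647), (2648, 3496), (2649, 2649), (2650, 1959), (2651, 3500), (2652, 2652), (2653, 3502), (2654, 1961), (2655, 3505), (2656, 2656), (2657, 2657), (2658, 1964), (2659, 3509), (2660, 2660), (2661, 1966), (2662, 3513), (2663, 2663), (2664, 1973), (2665, 1974), (2666, 1975), (2667, 1976), (2668, 1977), (2669, 3515), (2670, 3516), (2671, 3517), (2672, 3518), (2673, 3519), (2674, 3520), (2675, 3532), (2676, 2676), (2677, 2677), (2678, 2678), (2679, 2679), (2680, 2680), (2681, 3540), (2682, 2682), (2683, 2683), (2684, 2684), (2685, 3546), (2686, 1984), (2687, 2687)]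
    ⟨e3 q2624 L27597 q2624, e3 q2625 L27607 q2625, e3 q2626 L27614 q2626, e3 q2627 L39680 q3473, e3 q2628 (flp_g L27629) q1945, e3 q2629 L27645 q2629, e3 q2630 L27654 q2630, e3 q2631 L39743 q3477, e3 q2632 L39758 q3479, e3 q2633 L27678 q2633, e3 q2634 (flp_g L27682) q1949, e3 q2635 L27699 q2635, e3 q2636 L27705 q2636, e3 q2637 L39822 q3483, e3 q2638 L27724 q2638, e3 q2639 L39858 q3486, e3 q2640 L27745 q2640, e3 q2641 (flp_g L27747) q1953, e3 q2642 L39893 q3489, e3 q2643 (flp_g L27764) q1954, e3 q2644 (flp_g L39925) q3492, e3 q2645 L27786 q2645, e3 q2646 L27798 q2646, e3 q2647 L27805 q2647, e3 q2648 L39971 q3496, e3 q2649 L27823 q2649, e3 q2650 (flp_g L27826) q1959, e3 q2651 L40015 q3500, e3 q2652 L27848 q2652, e3 q2653 L40047 q3502, e3 q2654 (flp_g L27857) q1961, e3 q2655 (flp_g L40075) q3505, e3 q2656 L27879 q2656, e3 q2657 L27888 q2657, e3 q2658 (flp_g L27889) q1964, e3 q2659 (flp_g L40106) q3509, e3 q2660 L27911 q2660, e3 q2661 L27917 q1966, e3 q2662 (flp_g L40139) q3513, e3 q2663 L27938 q2663, e3 q2664 L27948 q1973, e3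 q2665 L27958 q1974, e3 q2666 L27968 q1975, e3 q2667 L27977 q1976, e3 q2668 L27986 q1977, e3 q2669 (flp_g L40161) q3515, e3 q2670 (flp_g L40171) q3516, e3 q2671 (flp_g L40181) q3517, e3 q2672 (flp_g L40191) q3518, e3 q2673 (flp_g L40200) q3519, e3 q2674 (flp_g L40211) q3520, e3 q2675 L40321 q3532, e3 q2676 L28068 q2676, e3 q2677 L28076 q2677, e3 q2678 L28086 q2678, e3 q2679 L28094 q2679, e3 q2680 L28104 q2680, e3 q2681 L40413 q3540, e3 q2682 L28123 q2682, e3 q2683 L28132 q2683, e3 q2684 L28137 q2684, e3 q2685 L40459 q3546, e3 q2686 (flp_g L28147) q1984, e3 q2687 L28160 q2687, trivial⟩ (by decide +kernel)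

theorem ce_g_42 : ∀ r, r < 64 → sm gg (Qf (2688 + r)) = Qf (tab Gen.g (2688 + r)) :=
  edges_tab (sm gg) Qf (tab Gen.g) 2688 [(2688, 2688), (2689, 2689), (2690, 2690), (2691, 3553), (2692, 2692), (2693, 2693), (2694, 2694), (2695, 3559), (2696, 1990), (2697, 2001), (2698, 3563), (2699, 2003), (2700, 2004), (2701, 3568), (2702, 1995), (2703, 2007), (2704, 2008), (2705, 3575), (2706, 3577), (2707, 2011), (2708, 1999), (2709, 3560), (2710, 3561), (2711, 3583), (2712, 2002), (2713, 3564), (2714, 3588), (2715, 3590), (2716, 3567), (2717, 2005), (2718, 2718), (2719, 3570), (2720, 3597), (2721, 3572), (2722, 3601), (2723, 3574), (2724, 2009), (2725, 3605), (2726, 2010), (2727, 3608), (2728, 3579), (2729, 2729), (2730, 2730), (2731, 2731), (2732, 2732), (2733, 3615), (2734, 2016), (2735, 2735), (2736, 2736), (2737, 3622), (2738, 3624), (2739, 2739), (2740, 2020), (2741, 2033), (2742, 2034), (2743, 2035), (2744, 3633), (2745, 3635), (2746, 2038), (2747, 2025), (2748, 3616), (2749, 2041), (2750, 3642), (2751, 2043)]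
    ⟨e3 q2688 L28172 q2688, e3 q2689 L28181 q2689, e3 q2690 L28193 q2690, e3 q2691 L40551 q3553, e3 q2692 L28213 q2692, e3 q2693 L28224 q2693, e3 q2694 L28231 q2694, e3 q2695 L40606 q3559, e3 q2696 (flp_g L28244) q1990, e3 q2697 L28268 q2001, e3 q2698 L40662 q3563, e3 q2699 L28297 q2003, e3 q2700 L28304 q2004, e3 q2701 L40716 q3568, e3 q2702 (flp_g L28317) q1995, e3 q2703 L28335 q2007, e3 q2704 L28342 q2008, e3 q2705 L40772 q3575, e3 q2706 L40786 q3577, e3 q2707 L28363 q2011, e3 q2708 (flp_g L28366) q1999, e3 q2709 (flp_g L40622) q3560, e3 q2710 (flp_g L40649) q3561, e3 q2711 L40864 q3583, e3 q2712 (flp_g L28422) q2002, e3 q2713 (flp_g L40688) q3564, e3 q2714 L40926 q3588, e3 q2715 L40944 q3590, e3 q2716 (flp_g L40714) q3567, e3 q2717 (flp_g L28475) q2005, e3 q2718 L28493 q2718, e3 q2719 (flp_g L40741) q3570, e3 q2720 L41000 q3597, e3 q2721 (flp_g L40753) q3572, e3 q2722 L41031 q3601, e3 q2723 (flp_g L40769) q3574, e3 q2724 (flp_g L28530) q2009, e3 q2725 L41060 q3605, e3 q2726 (flp_g L28545) q2010, e3 q2727 (flp_g L41089)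 q3608, e3 q2728 (flp_g L40809) q3579, e3 q2729 L28575 q2729, e3 q2730 L28581 q2730, e3 q2731 L28594 q2731, e3 q2732 L28603 q2732, e3 q2733 L41151 q3615, e3 q2734 (flp_g L28619) q2016, e3 q2735 L28636 q2735, e3 q2736 L28645 q2736, e3 q2737 L41217 q3622, e3 q2738 L41233 q3624, e3 q2739 L28669 q2739, e3 q2740 (flp_g L28674) q2020, e3 q2741 L28692 q2033, e3 q2742 L28701 q2034, e3 q2743 L28710 q2035, e3 q2744 L41310 q3633, e3 q2745 L41328 q3635, e3 q2746 L28734 q2038, e3 q2747 (flp_g L28737) q2025, e3 q2748 (flp_g L41171) q3616, e3 q2749 L28764 q2041, e3 q2750 L41386 q3642, e3 q2751 L28778 q2043, trivial⟩ (by decide +kernel)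

theorem ce_g_43 : ∀ r, r < 64 → sm gg (Qf (2752 + r)) = Qf (tab Gen.g (2752 + r)) :=
  edges_tab (sm gg) Qf (tab Gen.g) 2752 [(2752, 3646), (2753, 2045), (2754, 2029), (2755, 3650), (2756, 2030), (2757, 3653), (2758, 2050), (2759, 3627), (2760, 3628), (2761, 3658), (2762, 3630), (2763, 3662), (2764, 3632), (2765, 2036), (2766, 3666), (2767, 2037), (2768, 3669), (2769, 3637), (2770, 2770), (2771, 3639), (2772, 3675), (2773, 3641), (2774, 2042), (2775, 3680), (2776, 3644), (2777, 3684), (2778, 2044), (2779, 3687), (2780, 3648), (2781, 2781), (2782, 2047), (2783, 3691), (2784, 2784), (2785, 2049), (2786, 3695), (2787, 3697), (2788, 2053), (2789, 3700), (2790, 3701), (2791, 2055), (2792, 3704), (2793, 2793), (2794, 2058), (2795, 3707), (2796, 2796), (2797, 2060), (2798, 3711), (2799, 3713), (2800, 3714), (2801, 2064), (2802, 3717), (2803, 2803), (2804, 3719), (2805, 2067), (2806, 3722), (2807, 2069), (2808, 3725), (2809, 2809), (2810, 2071), (2811, 3729), (2812, 3507), (2813, 2813), (2814, 2075), (2815, 3733)]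
    ⟨e3 q2752 L41415 q3646, e3 q2753 L28792 q2045, e3 q2754 (flp_g L28796) q2029, e3 q2755 L41450 q3650, e3 q2756 (flp_g L28811) q2030, e3 q2757 (flp_g L41473) q3653, e3 q2758 L28830 q2050, e3 q2759 (flp_g L41265) q3627, e3 q2760 (flp_g L41272) q3628, e3 q2761 L41510 q3658, e3 q2762 (flp_g L41289) q3630, e3 q2763 L41545 q3662, e3 q2764 (flp_g L41307) q3632, e3 q2765 (flp_g L28885) q2036, e3 q2766 L41581 q3666, e3 q2767 (flp_g L28904) q2037, e3 q2768 (flp_g L41607) q3669, e3 q2769 (flp_g L41347) q3637, e3 q2770 L28935 q2770, e3 q2771 (flp_g L41366) q3639, e3 q2772 L41649 q3675, e3 q2773 (flp_g L41382) q3641, e3 q2774 (flp_g L28959) q2042, e3 q2775 L41691 q3680, e3 q2776 (flp_g L41408) q3644, e3 q2777 L41716 q3684, e3 q2778 (flp_g L28989) q2044, e3 q2779 (flp_g L41742) q3687, e3 q2780 (flp_g L41437) q3648, e3 q2781 L29021 q2781, e3 q2782 (flp_g L29022) q2047, e3 q2783 (flp_g L41773) q3691, e3 q2784 L29040 q2784, e3 q2785 L29044 q2049, e3 q2786 (flp_g L41802) q3695, e3 q2787 L41841 q3697, e3 q2788 (flp_g L29084) q2053, e3 q2789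 L41890 q3700, e3 q2790 L41925 q3701, e3 q2791 (flp_g L29119) q2055, e3 q2792 (flp_g L41955) q3704, e3 q2793 L29155 q2793, e3 q2794 (flp_g L29156) q2058, e3 q2795 (flp_g L41990) q3707, e3 q2796 L29180 q2796, e3 q2797 L29186 q2060, e3 q2798 (flp_g L42021) q3711, e3 q2799 L42050 q3713, e3 q2800 L42078 q3714, e3 q2801 (flp_g L29231) q2064, e3 q2802 (flp_g L42108) q3717, e3 q2803 L29268 q2803, e3 q2804 L42128 q3719, e3 q2805 (flp_g L29275) q2067, e3 q2806 (flp_g L42158) q3722, e3 q2807 (flp_g L29300) q2069, e3 q2808 (flp_g L42188) q3725, e3 q2809 L29320 q2809, e3 q2810 L29326 q2071, e3 q2811 (flp_g L42221) q3729, e3 q2812 (flp_g L40091) q3507, e3 q2813 L29350 q2813, e3 q2814 L29357 q2075, e3 q2815 (flp_g L42249) q3733, trivial⟩ (by decide +kernel)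

theorem ce_g_44 : ∀ r, r < 64 → sm gg (Qf (2816 + r)) = Qf (tab Gen.g (2816 + r)) :=
  edges_tab (sm gg) Qf (tab Gen.g) 2816 [(2816, 3734), (2817, 2817), (2818, 2078), (2819, 2819), (2820, 3741), (2821, 2821), (2822, 3745), (2823, 2823), (2824, 2081), (2825, 3749), (2826, 2082), (2827, 3752), (2828, 2828), (2829, 2096), (2830, 2097), (2831, 3757), (2832, 2099), (2833, 2087), (2834, 3762), (2835, 2102), (2836, 3766), (2837, 2089), (2838, 3769), (2839, 2106), (2840, 3748), (2841, 2092), (2842, 3773), (2843, 3751), (2844, 2094), (2845, 3777), (2846, 3779), (2847, 3755), (2848, 3782), (2849, 2098), (2850, 3785), (2851, 3759), (2852, 2852), (2853, 3787), (2854, 2101), (2855, 3790), (2856, 3764), (2857, 3765), (2858, 2103), (2859, 3797), (2860, 2860), (2861, 2105), (2862, 3801), (2863, 2863), (2864, 2864), (2865, 2109), (2866, 3805), (2867, 3806), (2868, 2868), (2869, 2112), (2870, 2113), (2871, 3812), (2872, 2872), (2873, 2115), (2874, 3816), (2875, 2875), (2876, 2876), (2877, 2119), (2878, 3820), (2879, 3821)]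
    ⟨e3 q2816 (flp_g L42259) q3734, e3 q2817 L29377 q2817, e3 q2818 L29389 q2078, e3 q2819 L29396 q2819, e3 q2820 L42316 q3741, e3 q2821 L29415 q2821, e3 q2822 L42354 q3745, e3 q2823 L29436 q2823, e3 q2824 (flp_g L29439) q2081, e3 q2825 L42390 q3749, e3 q2826 (flp_g L29457) q2082, e3 q2827 (flp_g L42422) q3752, e3 q2828 L29478 q2828, e3 q2829 L29490 q2096, e3 q2830 L29497 q2097, e3 q2831 L42469 q3757, e3 q2832 L29516 q2099, e3 q2833 (flp_g L29518) q2087, e3 q2834 L42513 q3762, e3 q2835 L29543 q2102, e3 q2836 L42546 q3766, e3 q2837 (flp_g L29552) q2089, e3 q2838 (flp_g L42576) q3769, e3 q2839 L29572 q2106, e3 q2840 (flp_g L42388) q3748, e3 q2841 (flp_g L29585) q2092, e3 q2842 (flp_g L42608) q3773, e3 q2843 (flp_g L42415) q3751, e3 q2844 L29615 q2094, e3 q2845 (flp_g L42637) q3777, e3 q2846 L42668 q3779, e3 q2847 (flp_g L42459) q3755, e3 q2848 L42702 q3782, e3 q2849 (flp_g L29661) q2098, e3 q2850 (flp_g L42735) q3785, e3 q2851 (flp_g L42492) q3759, e3 q2852 L29695 q2852, e3 q2853 L42746 q3787, e3 q2854 (flp_g L29705) q2101,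 e3 q2855 (flp_g L42778) q3790, e3 q2856 (flp_g L42533) q3764, e3 q2857 (flp_g L42543) q3765, e3 q2858 (flp_g L29735) q2103, e3 q2859 (flp_g L42834) q3797, e3 q2860 L29759 q2860, e3 q2861 L29764 q2105, e3 q2862 (flp_g L42864) q3801, e3 q2863 L29781 q2863, e3 q2864 L29791 q2864, e3 q2865 L29798 q2109, e3 q2866 (flp_g L42895) q3805, e3 q2867 (flp_g L42905) q3806, e3 q2868 L29820 q2868, e3 q2869 L29827 q2112, e3 q2870 (flp_g L29830) q2113, e3 q2871 (flp_g L42958) q3812, e3 q2872 L29859 q2872, e3 q2873 L29867 q2115, e3 q2874 (flp_g L42995) q3816, e3 q2875 L29886 q2875, e3 q2876 L29895 q2876, e3 q2877 L29903 q2119, e3 q2878 (flp_g L43030) q3820, e3 q2879 (flp_g L43039) q3821, trivial⟩ (by decide +kernel)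

theorem ce_g_45 : ∀ r, r < 64 → sm gg (Qf (2880 + r)) = Qf (tab Gen.g (2880 + r)) :=
  edges_tab (sm gg) Qf (tab Gen.g) 2880 [(2880, 2880), (2881, 2122), (2882, 3825), (2883, 2883), (2884, 2884), (2885, 2126), (2886, 2127), (2887, 3831), (2888, 3832), (2889, 2889), (2890, 2130), (2891, 2136), (2892, 2892), (2893, 2893), (2894, 2135), (2895, 3836), (2896, 3826), (2897, 2146), (2898, 2898), (2899, 2147), (2900, 2900), (2901, 2148), (2902, 2149), (2903, 2150), (2904, 2151), (2905, 2152), (2906, 2153), (2907, 3853), (2908, 3840), (2909, 3841), (2910, 3844), (2911, 3845), (2912, 3846), (2913, 3847), (2914, 3859), (2915, 3849), (2916, 3850), (2917, 3851), (2918, 3865), (2919, 2154), (2920, 2920), (2921, 3868), (2922, 2922), (2923, 2923), (2924, 3872), (2925, 2161), (2926, 2926), (2927, 2927), (2928, 3879), (2929, 3881), (2930, 2930), (2931, 2165), (2932, 3866), (2933, 3884), (2934, 2934), (2935, 2935), (2936, 3888), (2937, 2170), (2938, 2938), (2939, 2939), (2940, 3895), (2941, 3897), (2942, 2942), (2943, 2174)]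
    ⟨e3 q2880 L29927 q2880, e3 q2881 L29936 q2122, e3 q2882 L43065 q3825, e3 q2883 L29956 q2883, e3 q2884 L29964 q2884, e3 q2885 L29970 q2126, e3 q2886 L29979 q2127, e3 q2887 (flp_g L43120) q3831, e3 q2888 (flp_g L43129) q3832, e3 q2889 L30002 q2889, e3 q2890 (flp_g L30006) q2130, e3 q2891 (flp_g L630246) q2136, e3 q2892 L30030 q2892, e3 q2893 L30039 q2893, e3 q2894 L30064 q2135, e3 q2895 (flp_g L43225) q3836, e3 q2896 (flp_g L647520) q3826, e3 q2897 L30105 q2146, e3 q2898 L30120 q2898, e3 q2899 L30130 q2147, e3 q2900 L30153 q2900, e3 q2901 L30161 q2148, e3 q2902 L30170 q2149, e3 q2903 L30181 q2150, e3 q2904 L30191 q2151, e3 q2905 L30201 q2152, e3 q2906 L30211 q2153, e3 q2907 L43445 q3853, e3 q2908 (flp_g L43288) q3840, e3 q2909 (flp_g L43301) q3841, e3 q2910 (flp_g L43354) q3844, e3 q2911 (flp_g L43374) q3845, e3 q2912 (flp_g L43384) q3846, e3 q2913 (flp_g L43395) q3847, e3 q2914 L43596 q3859, e3 q2915 (flp_g L43413) q3849, e3 q2916 (flp_g L43423) q3850, e3 q2917 (flp_g L43431) q3851, e3 q2918 L43648 q3865, e3 q2919 (flp_g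 L30365) q2154, e3 q2920 L30431 q2920, e3 q2921 L43792 q3868, e3 q2922 L30477 q2922, e3 q2923 L30484 q2923, e3 q2924 L43843 q3872, e3 q2925 (flp_g L30499) q2161, e3 q2926 L30515 q2926, e3 q2927 L30521 q2927, e3 q2928 L43899 q3879, e3 q2929 L43915 q3881, e3 q2930 L30543 q2930, e3 q2931 (flp_g L30545) q2165, e3 q2932 (flp_g L43665) q3866, e3 q2933 L44020 q3884, e3 q2934 L30630 q2934, e3 q2935 L30639 q2935, e3 q2936 L44080 q3888, e3 q2937 (flp_g L30657) q2170, e3 q2938 L30672 q2938, e3 q2939 L30680 q2939, e3 q2940 L44144 q3895, e3 q2941 L44159 q3897, e3 q2942 L30708 q2942, e3 q2943 (flp_g L30712) q2174, trivial⟩ (by decide +kernel)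

theorem ce_g_46 : ∀ r, r < 64 → sm gg (Qf (2944 + r)) = Qf (tab Gen.g (2944 + r)) :=
  edges_tab (sm gg) Qf (tab Gen.g) 2944 [(2944, 2187), (2945, 2176), (2946, 2189), (2947, 3904), (2948, 3906), (2949, 2179), (2950, 3889), (2951, 2194), (2952, 3911), (2953, 2196), (2954, 3915), (2955, 2198), (2956, 2183), (2957, 3919), (2958, 2184), (2959, 3922), (2960, 2203), (2961, 3900), (2962, 2962), (2963, 3902), (2964, 3926), (2965, 2190), (2966, 3928), (2967, 2191), (2968, 2968), (2969, 3908), (2970, 3934), (2971, 3910), (2972, 2195), (2973, 3938), (2974, 3913), (2975, 3941), (2976, 2197), (2977, 3944), (2978, 3917), (2979, 2979), (2980, 2200), (2981, 3948), (2982, 2982), (2983, 2202), (2984, 3952), (2985, 2985), (2986, 2986), (2987, 3958), (2988, 3960), (2989, 2989), (2990, 2208), (2991, 2223), (2992, 2992), (2993, 3966), (2994, 2994), (2995, 3970), (2996, 2996), (2997, 2212), (2998, 3898), (2999, 2213), (3000, 3896), (3001, 3001), (3002, 2234), (3003, 2235), (3004, 3976), (3005, 2237), (3006, 3980), (3007, 2239)]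
    ⟨e3 q2944 L30728 q2187, e3 q2945 (flp_g L30792) q2176, e3 q2946 L30816 q2189, e3 q2947 L44354 q3904, e3 q2948 L44371 q3906, e3 q2949 (flp_g L30846) q2179, e3 q2950 (flp_g L44098) q3889, e3 q2951 L30872 q2194, e3 q2952 L44437 q3911, e3 q2953 L30885 q2196, e3 q2954 L44466 q3915, e3 q2955 L30900 q2198, e3 q2956 (flp_g L30903) q2183, e3 q2957 L44496 q3919, e3 q2958 (flp_g L30917) q2184, e3 q2959 (flp_g L44531) q3922, e3 q2960 L30944 q2203, e3 q2961 (flp_g L44198) q3900, e3 q2962 L31063 q2962, e3 q2963 (flp_g L44333) q3902, e3 q2964 L44762 q3926, e3 q2965 (flp_g L31107) q2190, e3 q2966 L44793 q3928, e3 q2967 (flp_g L31125) q2191, e3 q2968 L31163 q2968, e3 q2969 (flp_g L44417) q3908, e3 q2970 L44876 q3934, e3 q2971 (flp_g L44434) q3910, e3 q2972 (flp_g L31188) q2195, e3 q2973 L44920 q3938, e3 q2974 (flp_g L44459) q3913, e3 q2975 L44949 q3941, e3 q2976 (flp_g L31218) q2197, e3 q2977 (flp_g L44975) q3944, e3 q2978 (flp_g L44487) q3917, e3 q2979 L31245 q2979, e3 q2980 (flp_g L31246) q2200, e3 q2981 (flp_g L45012) q3948, e3 q2982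 L31273 q2982, e3 q2983 L31280 q2202, e3 q2984 (flp_g L45050) q3952, e3 q2985 L31299 q2985, e3 q2986 L31309 q2986, e3 q2987 L45103 q3958, e3 q2988 L45122 q3960, e3 q2989 L31340 q2989, e3 q2990 (flp_g L31344) q2208, e3 q2991 L31364 q2223, e3 q2992 L31372 q2992, e3 q2993 L45194 q3966, e3 q2994 L31390 q2994, e3 q2995 L45226 q3970, e3 q2996 L31406 q2996, e3 q2997 (flp_g L31411) q2212, e3 q2998 (flp_g L626199) q3898, e3 q2999 (flp_g L31427) q2213, e3 q3000 (flp_g L623342) q3896, e3 q3001 L31451 q3001, e3 q3002 L31464 q2234, e3 q3003 L31472 q2235, e3 q3004 L45336 q3976, e3 q3005 L31490 q2237, e3 q3006 L45369 q3980, e3 q3007 L31507 q2239, trivial⟩ (by decide +kernel)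

theorem ce_g_47 : ∀ r, r < 64 → sm gg (Qf (3008 + r)) = Qf (tab Gen.g (3008 + r)) :=
  edges_tab (sm gg) Qf (tab Gen.g) 3008 [(3008, 2219), (3009, 3983), (3010, 2220), (3011, 3986), (3012, 2244), (3013, 3963), (3014, 2246), (3015, 3990), (3016, 2225), (3017, 3993), (3018, 2250), (3019, 3996), (3020, 2227), (3021, 3999), (3022, 3972), (3023, 2230), (3024, 3921), (3025, 3920), (3026, 2232), (3027, 4001), (3028, 3974), (3029, 4004), (3030, 2236), (3031, 4007), (3032, 3978), (3033, 4009), (3034, 2238), (3035, 4012), (3036, 3036), (3037, 2241), (3038, 4015), (3039, 3039), (3040, 2243), (3041, 4019), (3042, 4021), (3043, 4022), (3044, 2247), (3045, 3045), (3046, 4025), (3047, 2249), (3048, 4028), (3049, 3995), (3050, 2251), (3051, 4033), (3052, 3052), (3053, 2253), (3054, 3054), (3055, 3055), (3056, 2256), (3057, 4035), (3058, 3058), (3059, 2259), (3060, 4038), (3061, 4039), (3062, 2261), (3063, 4042), (3064, 3064), (3065, 4044), (3066, 2264), (3067, 4047), (3068, 2266), (3069, 4050), (3070, 3070), (3071, 2268)]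
    ⟨e3 q3008 (flp_g L31510) q2219, e3 q3009 L45406 q3983, e3 q3010 (flp_g L31528) q2220, e3 q3011 (flp_g L45438) q3986, e3 q3012 L31551 q2244, e3 q3013 (flp_g L45162) q3963, e3 q3014 L31572 q2246, e3 q3015 L45480 q3990, e3 q3016 (flp_g L31593) q2225, e3 q3017 L45527 q3993, e3 q3018 L31613 q2250, e3 q3019 L45552 q3996, e3 q3020 (flp_g L31621) q2227, e3 q3021 (flp_g L45580) q3999, e3 q3022 (flp_g L45261) q3972, e3 q3023 (flp_g L31655) q2230, e3 q3024 (flp_g L626765) q3921, e3 q3025 L625866 q3920, e3 q3026 L31683 q2232, e3 q3027 (flp_g L45648) q4001, e3 q3028 (flp_g L45312) q3974, e3 q3029 L45687 q4004, e3 q3030 (flp_g L31723) q2236, e3 q3031 L45738 q4007, e3 q3032 (flp_g L45359) q3978, e3 q3033 L45763 q4009, e3 q3034 (flp_g L31757) q2238, e3 q3035 (flp_g L45794) q4012, e3 q3036 L31791 q3036, e3 q3037 (flp_g L31792) q2241, e3 q3038 (flp_g L45833) q4015, e3 q3039 L31818 q3039, e3 q3040 L31823 q2243, e3 q3041 (flp_g L45867) q4019, e3 q3042 L45894 q4021, e3 q3043 L45924 q4022, e3 q3044 (flp_g L31867) q2247, e3 q3045 L31906 q3045,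 e3 q3046 L45981 q4025, e3 q3047 (flp_g L31913) q2249, e3 q3048 (flp_g L46004) q4028, e3 q3049 (flp_g L45541) q3995, e3 q3050 (flp_g L31935) q2251, e3 q3051 (flp_g L46055) q4033, e3 q3052 L31958 q3052, e3 q3053 L31963 q2253, e3 q3054 L31982 q3054, e3 q3055 L31991 q3055, e3 q3056 L31998 q2256, e3 q3057 (flp_g L46117) q4035, e3 q3058 L32014 q3058, e3 q3059 L32025 q2259, e3 q3060 L46159 q4038, e3 q3061 L46186 q4039, e3 q3062 (flp_g L32066) q2261, e3 q3063 (flp_g L46226) q4042, e3 q3064 L32098 q3064, e3 q3065 L46237 q4044, e3 q3066 (flp_g L32108) q2264, e3 q3067 (flp_g L46271) q4047, e3 q3068 (flp_g L32132) q2266, e3 q3069 (flp_g L46313) q4050, e3 q3070 L32158 q3070, e3 q3071 L32164 q2268, trivial⟩ (by decide +kernel)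

theorem ce_g_48 : ∀ r, r < 64 → sm gg (Qf (3072 + r)) = Qf (tab Gen.g (3072 + r)) :=
  edges_tab (sm gg) Qf (tab Gen.g) 3072 [(3072, 3072), (3073, 3073), (3074, 2271), (3075, 4056), (3076, 3076), (3077, 4059), (3078, 4061), (3079, 2275), (3080, 2276), (3081, 3081), (3082, 4065), (3083, 2279), (3084, 3084), (3085, 3085), (3086, 3086), (3087, 3949), (3088, 3088), (3089, 4072), (3090, 2286), (3091, 4075), (3092, 3092), (3093, 4078), (3094, 2288), (3095, 4081), (3096, 2304), (3097, 2291), (3098, 3863), (3099, 2307), (3100, 2293), (3101, 4083), (3102, 4085), (3103, 4086), (3104, 2297), (3105, 4073), (3106, 4089), (3107, 2299), (3108, 4092), (3109, 2315), (3110, 2301), (3111, 4096), (3112, 4080), (3113, 2303), (3114, 3882), (3115, 2306), (3116, 3883), (3117, 4099), (3118, 3880), (3119, 2309), (3120, 2310), (3121, 3121), (3122, 3122), (3123, 2314), (3124, 4104), (3125, 4094), (3126, 3126), (3127, 3127), (3128, 4108), (3129, 4109), (3130, 2321), (3131, 4111), (3132, 2323), (3133, 4113), (3134, 3134), (3135, 2325)]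
    ⟨e3 q3072 L32176 q3072, e3 q3073 L32186 q3073, e3 q3074 L32194 q2271, e3 q3075 (flp_g L46369) q4056, e3 q3076 L32211 q3076, e3 q3077 L46392 q4059, e3 q3078 L46407 q4061, e3 q3079 (flp_g L32234) q2275, e3 q3080 (flp_g L32242) q2276, e3 q3081 L32261 q3081, e3 q3082 L46444 q4065, e3 q3083 (flp_g L32267) q2279, e3 q3084 L32282 q3084, e3 q3085 L32289 q3085, e3 q3086 L32297 q3086, e3 q3087 L605086 q3949, e3 q3088 L32313 q3088, e3 q3089 L46532 q4072, e3 q3090 (flp_g L32339) q2286, e3 q3091 L46585 q4075, e3 q3092 L32363 q3092, e3 q3093 L46618 q4078, e3 q3094 (flp_g L32376) q2288, e3 q3095 (flp_g L46651) q4081, e3 q3096 L32409 q2304, e3 q3097 (flp_g L32411) q2291, e3 q3098 (flp_g L626947) q3863, e3 q3099 L32440 q2307, e3 q3100 L32448 q2293, e3 q3101 (flp_g L46729) q4083, e3 q3102 L46760 q4085, e3 q3103 L46794 q4086, e3 q3104 (flp_g L32497) q2297, e3 q3105 (flp_g L46573) q4073, e3 q3106 L46852 q4089, e3 q3107 (flp_g L32545) q2299, e3 q3108 (flp_g L46885) q4092, e3 q3109 L32563 q2315, e3 q3110 (flp_g L32575) q2301, e3 q3111 (flp_g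 L46930) q4096, e3 q3112 (flp_g L46644) q4080, e3 q3113 L32607 q2303, e3 q3114 (flp_g L625653) q3882, e3 q3115 L32634 q2306, e3 q3116 (flp_g L626873) q3883, e3 q3117 (flp_g L46991) q4099, e3 q3118 L625850 q3880, e3 q3119 L32669 q2309, e3 q3120 (flp_g L32692) q2310, e3 q3121 L32735 q3121, e3 q3122 L32763 q3122, e3 q3123 L32770 q2314, e3 q3124 (flp_g L47139) q4104, e3 q3125 (flp_g L46903) q4094, e3 q3126 L32805 q3126, e3 q3127 L32822 q3127, e3 q3128 L47221 q4108, e3 q3129 L47260 q4109, e3 q3130 (flp_g L32865) q2321, e3 q3131 L47312 q4111, e3 q3132 (flp_g L32906) q2323, e3 q3133 (flp_g L47336) q4113, e3 q3134 L32927 q3134, e3 q3135 (flp_g L32941) q2325, trivial⟩ (by decide +kernel)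

theorem ce_g_49 : ∀ r, r < 64 → sm gg (Qf (3136 + r)) = Qf (tab Gen.g (3136 + r)) :=
  edges_tab (sm gg) Qf (tab Gen.g) 3136 [(3136, 4117), (3137, 2327), (3138, 3864), (3139, 2329), (3140, 3852), (3141, 4119), (3142, 2331), (3143, 3143), (3144, 3144), (3145, 3145), (3146, 3146), (3147, 2340), (3148, 3148), (3149, 3149), (3150, 3150), (3151, 4130), (3152, 2353), (3153, 3153), (3154, 3154), (3155, 2354), (3156, 2355), (3157, 3157), (3158, 3158), (3159, 2356), (3160, 2357), (3161, 2358), (3162, 4142), (3163, 2360), (3164, 2361), (3165, 2517), (3166, 2352), (3167, 4131), (3168, 4133), (3169, 4138), (3170, 4145), (3171, 4140), (3172, 4147), (3173, 2359), (3174, 4141), (3175, 4146), (3176, 2499), (3177, 2515), (3178, 2362), (3179, 2376), (3180, 3180), (3181, 4151), (3182, 2367), (3183, 4154), (3184, 2369), (3185, 4148), (3186, 3186), (3187, 4155), (3188, 3188), (3189, 2372), (3190, 2510), (3191, 2373), (3192, 2507), (3193, 2509), (3194, 2377), (3195, 4161), (3196, 2379), (3197, 2390), (3198, 3198), (3199, 4160)]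
    ⟨e3 q3136 (flp_g L47389) q4117, e3 q3137 L32963 q2327, e3 q3138 L625521 q3864, e3 q3139 L32993 q2329, e3 q3140 L626904 q3852, e3 q3141 (flp_g L47444) q4119, e3 q3142 L33021 q2331, e3 q3143 L33050 q3143, e3 q3144 L33101 q3144, e3 q3145 L33112 q3145, e3 q3146 L33118 q3146, e3 q3147 L33134 q2340, e3 q3148 L33149 q3148, e3 q3149 L33165 q3149, e3 q3150 L33175 q3150, e3 q3151 L47716 q4130, e3 q3152 L33237 q2353, e3 q3153 L33250 q3153, e3 q3154 L33279 q3154, e3 q3155 L33284 q2354, e3 q3156 L33294 q2355, e3 q3157 L33304 q3157, e3 q3158 L33330 q3158, e3 q3159 L33336 q2356, e3 q3160 L33353 q2357, e3 q3161 L33373 q2358, e3 q3162 L47974 q4142, e3 q3163 L33400 q2360, e3 q3164 L33406 q2361, e3 q3165 (flp_g L627152) q2517, e3 q3166 (flp_g L33418) q2352, e3 q3167 (flp_g L47742) q4131, e3 q3168 (flp_g L47762) q4133, e3 q3169 (flp_g L47902) q4138, e3 q3170 L48226 q4145, e3 q3171 (flp_g L47959) q4140, e3 q3172 L48278 q4147, e3 q3173 (flp_g L33598) q2359, e3 q3174 L627131 q4141, e3 q3175 (flp_g L625756) q4146, e3 q3176 L625730 q2499, e3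 q3177 L603722 q2515, e3 q3178 (flp_g L33645) q2362, e3 q3179 L33659 q2376, e3 q3180 L33669 q3180, e3 q3181 L48573 q4151, e3 q3182 (flp_g L33824) q2367, e3 q3183 L48693 q4154, e3 q3184 (flp_g L33870) q2369, e3 q3185 (flp_g L48294) q4148, e3 q3186 L33905 q3186, e3 q3187 L627212 q4155, e3 q3188 L33919 q3188, e3 q3189 (flp_g L33921) q2372, e3 q3190 L625820 q2510, e3 q3191 (flp_g L33936) q2373, e3 q3192 (flp_g L625639) q2507, e3 q3193 (flp_g L627183) q2509, e3 q3194 (flp_g L34043) q2377, e3 q3195 L49032 q4161, e3 q3196 (flp_g L34098) q2379, e3 q3197 L34113 q2390, e3 q3198 L34134 q3198, e3 q3199 L626221 q4160, trivial⟩ (by decide +kernel)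

theorem ce_g_50 : ∀ r, r < 64 → sm gg (Qf (3200 + r)) = Qf (tab Gen.g (3200 + r)) :=
  edges_tab (sm gg) Qf (tab Gen.g) 3200 [(3200, 3200), (3201, 2382), (3202, 2425), (3203, 2383), (3204, 2423), (3205, 2398), (3206, 4159), (3207, 4164), (3208, 2388), (3209, 4157), (3210, 4167), (3211, 4165), (3212, 2392), (3213, 4169), (3214, 4153), (3215, 2395), (3216, 2442), (3217, 2441), (3218, 2397), (3219, 2400), (3220, 3220), (3221, 4173), (3222, 2403), (3223, 2404), (3224, 4175), (3225, 3225), (3226, 2406), (3227, 3227), (3228, 3228), (3229, 2409), (3230, 2492), (3231, 3231), (3232, 3232), (3233, 4179), (3234, 4181), (3235, 2414), (3236, 4162), (3237, 2415), (3238, 4180), (3239, 2434), (3240, 4184), (3241, 2420), (3242, 4163), (3243, 2421), (3244, 2439), (3245, 4187), (3246, 2428), (3247, 4189), (3248, 2429), (3249, 4182), (3250, 2431), (3251, 4190), (3252, 4166), (3253, 2433), (3254, 4191), (3255, 2435), (3256, 4185), (3257, 2437), (3258, 4168), (3259, 4193), (3260, 2444), (3261, 3261), (3262, 2446), (3263, 3263)]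
    ⟨e3 q3200 L34153 q3200, e3 q3201 (flp_g L34157) q2382, e3 q3202 (flp_g L626193) q2425, e3 q3203 (flp_g L34171) q2383, e3 q3204 (flp_g L626178) q2423, e3 q3205 L34202 q2398, e3 q3206 (flp_g L48965) q4159, e3 q3207 L49475 q4164, e3 q3208 (flp_g L34380) q2388, e3 q3209 L626756 q4157, e3 q3210 L49583 q4167, e3 q3211 (flp_g L626607) q4165, e3 q3212 (flp_g L34464) q2392, e3 q3213 (flp_g L49644) q4169, e3 q3214 (flp_g L603497) q4153, e3 q3215 (flp_g L34495) q2395, e3 q3216 L626092 q2442, e3 q3217 L626639 q2441, e3 q3218 L34522 q2397, e3 q3219 (flp_g L34800) q2400, e3 q3220 L34825 q3220, e3 q3221 L50278 q4173, e3 q3222 (flp_g L34908) q2403, e3 q3223 (flp_g L34939) q2404, e3 q3224 (flp_g L50366) q4175, e3 q3225 L34960 q3225, e3 q3226 L34965 q2406, e3 q3227 L34981 q3227, e3 q3228 L34989 q3228, e3 q3229 L34996 q2409, e3 q3230 L624016 q2492, e3 q3231 L35017 q3231, e3 q3232 L35032 q3232, e3 q3233 L50483 q4179, e3 q3234 L50520 q4181, e3 q3235 (flp_g L35077) q2414, e3 q3236 L626206 q4162, e3 q3237 (flp_g L35095) q2415, e3 q3238 (flp_g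 L626259) q4180, e3 q3239 L35127 q2434, e3 q3240 L50633 q4184, e3 q3241 (flp_g L35156) q2420, e3 q3242 (flp_g L626271) q4163, e3 q3243 (flp_g L35188) q2421, e3 q3244 L35224 q2439, e3 q3245 L50835 q4187, e3 q3246 (flp_g L35286) q2428, e3 q3247 L50910 q4189, e3 q3248 (flp_g L35319) q2429, e3 q3249 (flp_g L50559) q4182, e3 q3250 (flp_g L35357) q2431, e3 q3251 (flp_g L626542) q4190, e3 q3252 (flp_g L626065) q4166, e3 q3253 L35381 q2433, e3 q3254 L51057 q4191, e3 q3255 (flp_g L35419) q2435, e3 q3256 (flp_g L50669) q4185, e3 q3257 (flp_g L35486) q2437, e3 q3258 L626581 q4168, e3 q3259 L51330 q4193, e3 q3260 (flp_g L35605) q2444, e3 q3261 L35640 q3261, e3 q3262 (flp_g L35676) q2446, e3 q3263 L35702 q3263, trivial⟩ (by decide +kernel)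

theorem ce_g_51 : ∀ r, r < 64 → sm gg (Qf (3264 + r)) = Qf (tab Gen.g (3264 + r)) :=
  edges_tab (sm gg) Qf (tab Gen.g) 3264 [(3264, 3264), (3265, 3265), (3266, 2450), (3267, 4197), (3268, 3268), (3269, 2453), (3270, 3270), (3271, 3271), (3272, 3272), (3273, 4201), (3274, 4203), (3275, 2463), (3276, 4206), (3277, 2465), (3278, 4209), (3279, 3279), (3280, 2467), (3281, 4212), (3282, 2469), (3283, 4215), (3284, 3284), (3285, 2471), (3286, 4217), (3287, 3287), (3288, 3288), (3289, 2474), (3290, 4220), (3291, 3291), (3292, 4172), (3293, 3293), (3294, 3294), (3295, 2480), (3296, 4221), (3297, 4223), (3298, 2482), (3299, 4225), (3300, 2483), (3301, 3301), (3302, 3302), (3303, 3303), (3304, 2487), (3305, 3305), (3306, 3306), (3307, 4176), (3308, 4229), (3309, 2493), (3310, 2504), (3311, 2495), (3312, 2506), (3313, 2502), (3314, 4230), (3315, 4158), (3316, 2512), (3317, 4149), (3318, 3318), (3319, 3319), (3320, 2523), (3321, 3321), (3322, 2526), (3323, 4236), (3324, 3324), (3325, 3325), (3326, 2529), (3327, 4242)]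
    ⟨e3 q3264 L35726 q3264, e3 q3265 L35735 q3265, e3 q3266 L35740 q2450, e3 q3267 (flp_g L51527) q4197, e3 q3268 L35759 q3268, e3 q3269 (flp_g L35822) q2453, e3 q3270 L35845 q3270, e3 q3271 L35931 q3271, e3 q3272 L35940 q3272, e3 q3273 L51907 q4201, e3 q3274 L51943 q4203, e3 q3275 (flp_g L36038) q2463, e3 q3276 (flp_g L51982) q4206, e3 q3277 (flp_g L36067) q2465, e3 q3278 (flp_g L52028) q4209, e3 q3279 L36093 q3279, e3 q3280 L36099 q2467, e3 q3281 L52049 q4212, e3 q3282 (flp_g L36111) q2469, e3 q3283 (flp_g L52089) q4215, e3 q3284 L36139 q3284, e3 q3285 L36146 q2471, e3 q3286 (flp_g L52112) q4217, e3 q3287 L36174 q3287, e3 q3288 L36183 q3288, e3 q3289 L36190 q2474, e3 q3290 (flp_g L52164) q4220, e3 q3291 L36206 q3291, e3 q3292 (flp_g L624051) q4172, e3 q3293 L36225 q3293, e3 q3294 L36232 q3294, e3 q3295 L36238 q2480, e3 q3296 (flp_g L52207) q4221, e3 q3297 L52226 q4223, e3 q3298 (flp_g L36257) q2482, e3 q3299 L52243 q4225, e3 q3300 (flp_g L36272) q2483, e3 q3301 L36290 q3301, e3 q3302 L36297 q3302, e3 q3303 L36305 q3303,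 e3 q3304 (flp_g L36306) q2487, e3 q3305 L36326 q3305, e3 q3306 L36335 q3306, e3 q3307 (flp_g L624267) q4176, e3 q3308 L52398 q4229, e3 q3309 (flp_g L36392) q2493, e3 q3310 L36426 q2504, e3 q3311 (flp_g L36473) q2495, e3 q3312 L36499 q2506, e3 q3313 (flp_g L36634) q2502, e3 q3314 (flp_g L52424) q4230, e3 q3315 L627273 q4158, e3 q3316 (flp_g L37080) q2512, e3 q3317 (flp_g L627109) q4149, e3 q3318 L37677 q3318, e3 q3319 L37880 q3319, e3 q3320 L37897 q2523, e3 q3321 L38309 q3321, e3 q3322 L38318 q2526, e3 q3323 (flp_g L55053) q4236, e3 q3324 L38335 q3324, e3 q3325 L38343 q3325, e3 q3326 L38353 q2529, e3 q3327 (flp_g L55106) q4242, trivial⟩ (by decide +kernel)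

theorem ce_g_52 : ∀ r, r < 64 → sm gg (Qf (3328 + r)) = Qf (tab Gen.g (3328 + r)) :=
  edges_tab (sm gg) Qf (tab Gen.g) 3328 [(3328, 4243), (3329, 3329), (3330, 3330), (3331, 4251), (3332, 3332), (3333, 3333), (3334, 4256), (3335, 2537), (3336, 2538), (3337, 2539), (3338, 4262), (3339, 2536), (3340, 4257), (3341, 4258), (3342, 4269), (3343, 4271), (3344, 4261), (3345, 2540), (3346, 3346), (3347, 2544), (3348, 2545), (3349, 2546), (3350, 4275), (3351, 4276), (3352, 4277), (3353, 4278), (3354, 4287), (3355, 3355), (3356, 3356), (3357, 4291), (3358, 3358), (3359, 3359), (3360, 3360), (3361, 4297), (3362, 2551), (3363, 3363), (3364, 3364), (3365, 4302), (3366, 3366), (3367, 3367), (3368, 3368), (3369, 4308), (3370, 2556), (3371, 2565), (3372, 2566), (3373, 4314), (3374, 2559), (3375, 2569), (3376, 2570), (3377, 4321), (3378, 4323), (3379, 2573), (3380, 2563), (3381, 4309), (3382, 4310), (3383, 4330), (3384, 4332), (3385, 4313), (3386, 2567), (3387, 3387), (3388, 4316), (3389, 4339), (3390, 4318), (3391, 4343)]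
    ⟨e3 q3328 (flp_g L55117) q4243, e3 q3329 L38384 q3329, e3 q3330 L38394 q3330, e3 q3331 L55191 q4251, e3 q3332 L38410 q3332, e3 q3333 L38422 q3333, e3 q3334 L55242 q4256, e3 q3335 L38442 q2537, e3 q3336 L38453 q2538, e3 q3337 L38461 q2539, e3 q3338 L55294 q4262, e3 q3339 (flp_g L38474) q2536, e3 q3340 (flp_g L55257) q4257, e3 q3341 (flp_g L55266) q4258, e3 q3342 L55356 q4269, e3 q3343 L55373 q4271, e3 q3344 (flp_g L55290) q4261, e3 q3345 (flp_g L38527) q2540, e3 q3346 L38545 q3346, e3 q3347 L38551 q2544, e3 q3348 L38561 q2545, e3 q3349 L38570 q2546, e3 q3350 (flp_g L55412) q4275, e3 q3351 (flp_g L55424) q4276, e3 q3352 (flp_g L55436) q4277, e3 q3353 (flp_g L55445) q4278, e3 q3354 L55523 q4287, e3 q3355 L38627 q3355, e3 q3356 L38637 q3356, e3 q3357 L55570 q4291, e3 q3358 L38658 q3358, e3 q3359 L38665 q3359, e3 q3360 L38669 q3360, e3 q3361 L55615 q4297, e3 q3362 (flp_g L38680) q2551, e3 q3363 L38692 q3363, e3 q3364 L38704 q3364, e3 q3365 L55676 q4302, e3 q3366 L38726 q3366, e3 q3367 L38735 q3367, e3 q3368 L38741 q3368, e3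 q3369 L55730 q4308, e3 q3370 (flp_g L38755) q2556, e3 q3371 L38778 q2565, e3 q3372 L38786 q2566, e3 q3373 L55793 q4314, e3 q3374 (flp_g L38802) q2559, e3 q3375 L38819 q2569, e3 q3376 L38825 q2570, e3 q3377 L55852 q4321, e3 q3378 L55866 q4323, e3 q3379 L38848 q2573, e3 q3380 (flp_g L38850) q2563, e3 q3381 (flp_g L55743) q4309, e3 q3382 (flp_g L55760) q4310, e3 q3383 L55946 q4330, e3 q3384 L55966 q4332, e3 q3385 (flp_g L55790) q4313, e3 q3386 (flp_g L38913) q2567, e3 q3387 L38932 q3387, e3 q3388 (flp_g L55819) q4316, e3 q3389 L56029 q4339, e3 q3390 (flp_g L55833) q4318, e3 q3391 L56061 q4343, trivial⟩ (by decide +kernel)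

theorem ce_g_53 : ∀ r, r < 64 → sm gg (Qf (3392 + r)) = Qf (tab Gen.g (3392 + r)) :=
  edges_tab (sm gg) Qf (tab Gen.g) 3392 [(3392, 4320), (3393, 2571), (3394, 4347), (3395, 2572), (3396, 4350), (3397, 4325), (3398, 3398), (3399, 3399), (3400, 3400), (3401, 4356), (3402, 3402), (3403, 3403), (3404, 3404), (3405, 4362), (3406, 2580), (3407, 3407), (3408, 3408), (3409, 4369), (3410, 4371), (3411, 3411), (3412, 2584), (3413, 2600), (3414, 2601), (3415, 2602), (3416, 2603), (3417, 4380), (3418, 2588), (3419, 2606), (3420, 2607), (3421, 4387), (3422, 4389), (3423, 2610), (3424, 2592), (3425, 4363), (3426, 2613), (3427, 4396), (3428, 2615), (3429, 4400), (3430, 2617), (3431, 2596), (3432, 4404), (3433, 2597), (3434, 4407), (3435, 2622), (3436, 4374), (3437, 4375), (3438, 4376), (3439, 4414), (3440, 4416), (3441, 4379), (3442, 2604), (3443, 3443), (3444, 4382), (3445, 4423), (3446, 4384), (3447, 4427), (3448, 4386), (3449, 2608), (3450, 4431), (3451, 2609), (3452, 4434), (3453, 4391), (3454, 3454), (3455, 4393)]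
    ⟨e3 q3392 (flp_g L55850) q4320, e3 q3393 (flp_g L38971) q2571, e3 q3394 L56088 q4347, e3 q3395 (flp_g L38986) q2572, e3 q3396 (flp_g L56119) q4350, e3 q3397 (flp_g L55889) q4325, e3 q3398 L39015 q3398, e3 q3399 L39020 q3399, e3 q3400 L39032 q3400, e3 q3401 L56172 q4356, e3 q3402 L39055 q3402, e3 q3403 L39066 q3403, e3 q3404 L39074 q3404, e3 q3405 L56231 q4362, e3 q3406 (flp_g L39091) q2580, e3 q3407 L39105 q3407, e3 q3408 L39113 q3408, e3 q3409 L56296 q4369, e3 q3410 L56312 q4371, e3 q3411 L39139 q3411, e3 q3412 (flp_g L39143) q2584, e3 q3413 L39158 q2600, e3 q3414 L39165 q2601, e3 q3415 L39176 q2602, e3 q3416 L39184 q2603, e3 q3417 L56389 q4380, e3 q3418 (flp_g L39198) q2588, e3 q3419 L39215 q2606, e3 q3420 L39223 q2607, e3 q3421 L56456 q4387, e3 q3422 L56474 q4389, e3 q3423 L39249 q2610, e3 q3424 (flp_g L39251) q2592, e3 q3425 (flp_g L56248) q4363, e3 q3426 L39275 q2613, e3 q3427 L56533 q4396, e3 q3428 L39291 q2615, e3 q3429 L56563 q4400, e3 q3430 L39306 q2617, e3 q3431 (flp_g L39309) q2596, e3 q3432 L56596 q4404, e3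 q3433 (flp_g L39324) q2597, e3 q3434 (flp_g L56621) q4407, e3 q3435 L39343 q2622, e3 q3436 (flp_g L56343) q4374, e3 q3437 (flp_g L56351) q4375, e3 q3438 (flp_g L56360) q4376, e3 q3439 L56673 q4414, e3 q3440 L56692 q4416, e3 q3441 (flp_g L56385) q4379, e3 q3442 (flp_g L39398) q2604, e3 q3443 L39418 q3443, e3 q3444 (flp_g L56416) q4382, e3 q3445 L56756 q4423, e3 q3446 (flp_g L56435) q4384, e3 q3447 L56792 q4427, e3 q3448 (flp_g L56454) q4386, e3 q3449 (flp_g L39464) q2608, e3 q3450 L56826 q4431, e3 q3451 (flp_g L39483) q2609, e3 q3452 (flp_g L56854) q4434, e3 q3453 (flp_g L56493) q4391, e3 q3454 L39513 q3454, e3 q3455 (flp_g L56513) q4393, trivial⟩ (by decide +kernel)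

theorem ce_g_54 : ∀ r, r < 64 → sm gg (Qf (3456 + r)) = Qf (tab Gen.g (3456 + r)) :=
  edges_tab (sm gg) Qf (tab Gen.g) 3456 [(3456, 4440), (3457, 4395), (3458, 2614), (3459, 4445), (3460, 4398), (3461, 4449), (3462, 2616), (3463, 4452), (3464, 4402), (3465, 3465), (3466, 2619), (3467, 4456), (3468, 3468), (3469, 2621), (3470, 4460), (3471, 4461), (3472, 4463), (3473, 2627), (3474, 3474), (3475, 4465), (3476, 4467), (3477, 2631), (3478, 4469), (3479, 2632), (3480, 4472), (3481, 3481), (3482, 4474), (3483, 2637), (3484, 4477), (3485, 4478), (3486, 2639), (3487, 4481), (3488, 3488), (3489, 2642), (3490, 4484), (3491, 3491), (3492, 2644), (3493, 4488), (3494, 4490), (3495, 4491), (3496, 2648), (3497, 4494), (3498, 3498), (3499, 4496), (3500, 2651), (3501, 4499), (3502, 2653), (3503, 4502), (3504, 3504), (3505, 2655), (3506, 4506), (3507, 2812), (3508, 3508), (3509, 2659), (3510, 4510), (3511, 4511), (3512, 3512), (3513, 2662), (3514, 3514), (3515, 2669), (3516, 2670), (3517, 2671), (3518, 2672), (3519, 2673)]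
    ⟨e3 q3456 L56898 q4440, e3 q3457 (flp_g L56530) q4395, e3 q3458 (flp_g L39539) q2614, e3 q3459 L56940 q4445, e3 q3460 (flp_g L56554) q4398, e3 q3461 L56964 q4449, e3 q3462 (flp_g L39570) q2616, e3 q3463 (flp_g L56992) q4452, e3 q3464 (flp_g L56585) q4402, e3 q3465 L39600 q3465, e3 q3466 (flp_g L39601) q2619, e3 q3467 (flp_g L57023) q4456, e3 q3468 L39621 q3468, e3 q3469 L39625 q2621, e3 q3470 (flp_g L57053) q4460, e3 q3471 L57099 q4461, e3 q3472 L57117 q4463, e3 q3473 (flp_g L39680) q2627, e3 q3474 L39699 q3474, e3 q3475 L57183 q4465, e3 q3476 L57214 q4467, e3 q3477 (flp_g L39743) q2631, e3 q3478 L57251 q4469, e3 q3479 (flp_g L39758) q2632, e3 q3480 (flp_g L57276) q4472, e3 q3481 L39791 q3481, e3 q3482 L57330 q4474, e3 q3483 (flp_g L39822) q2637, e3 q3484 L57379 q4477, e3 q3485 L57413 q4478, e3 q3486 (flp_g L39858) q2639, e3 q3487 (flp_g L57445) q4481, e3 q3488 L39892 q3488, e3 q3489 (flp_g L39893) q2642, e3 q3490 (flp_g L57480) q4484, e3 q3491 L39919 q3491, e3 q3492 L39925 q2644, e3 q3493 (flp_g L57512) q4488, e3 q3494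 L57543 q4490, e3 q3495 L57579 q4491, e3 q3496 (flp_g L39971) q2648, e3 q3497 (flp_g L57611) q4494, e3 q3498 L40006 q3498, e3 q3499 L57630 q4496, e3 q3500 (flp_g L40015) q2651, e3 q3501 (flp_g L57661) q4499, e3 q3502 (flp_g L40047) q2653, e3 q3503 (flp_g L57708) q4502, e3 q3504 L40069 q3504, e3 q3505 L40075 q2655, e3 q3506 (flp_g L57742) q4506, e3 q3507 L40091 q2812, e3 q3508 L40099 q3508, e3 q3509 L40106 q2659, e3 q3510 (flp_g L57772) q4510, e3 q3511 (flp_g L57781) q4511, e3 q3512 L40129 q3512, e3 q3513 L40139 q2662, e3 q3514 L40151 q3514, e3 q3515 L40161 q2669, e3 q3516 L40171 q2670, e3 q3517 L40181 q2671, e3 q3518 L40191 q2672, e3 q3519 L40200 q2673, trivial⟩ (by decide +kernel)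

theorem ce_g_55 : ∀ r, r < 64 → sm gg (Qf (3520 + r)) = Qf (tab Gen.g (3520 + r)) :=
  edges_tab (sm gg) Qf (tab Gen.g) 3520 [(3520, 2674), (3521, 4526), (3522, 4516), (3523, 4517), (3524, 4518), (3525, 4519), (3526, 4520), (3527, 4534), (3528, 4522), (3529, 4523), (3530, 4524), (3531, 4540), (3532, 2675), (3533, 3533), (3534, 3534), (3535, 3535), (3536, 4546), (3537, 3537), (3538, 3538), (3539, 4551), (3540, 2681), (3541, 3541), (3542, 3542), (3543, 4558), (3544, 4560), (3545, 3545), (3546, 2685), (3547, 4541), (3548, 3548), (3549, 4566), (3550, 3550), (3551, 3551), (3552, 4571), (3553, 2691), (3554, 3554), (3555, 3555), (3556, 4578), (3557, 4580), (3558, 3558), (3559, 2695), (3560, 2709), (3561, 2710), (3562, 4586), (3563, 2698), (3564, 2713), (3565, 4591), (3566, 4593), (3567, 2716), (3568, 2701), (3569, 4572), (3570, 2719), (3571, 4600), (3572, 2721), (3573, 4604), (3574, 2723), (3575, 2705), (3576, 4608), (3577, 2706), (3578, 4611), (3579, 2728), (3580, 4583), (3581, 4614), (3582, 4585), (3583, 2711)]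
    ⟨e3 q3520 L40211 q2674, e3 q3521 L57918 q4526, e3 q3522 (flp_g L57826) q4516, e3 q3523 (flp_g L57835) q4517, e3 q3524 (flp_g L57847) q4518, e3 q3525 (flp_g L57856) q4519, e3 q3526 (flp_g L57868) q4520, e3 q3527 L58022 q4534, e3 q3528 (flp_g L57888) q4522, e3 q3529 (flp_g L57899) q4523, e3 q3530 (flp_g L57906) q4524, e3 q3531 L58074 q4540, e3 q3532 (flp_g L40321) q2675, e3 q3533 L40334 q3533, e3 q3534 L40343 q3534, e3 q3535 L40364 q3535, e3 q3536 L58158 q4546, e3 q3537 L40394 q3537, e3 q3538 L40400 q3538, e3 q3539 L58209 q4551, e3 q3540 (flp_g L40413) q2681, e3 q3541 L40431 q3541, e3 q3542 L40437 q3542, e3 q3543 L58264 q4558, e3 q3544 L58280 q4560, e3 q3545 L40457 q3545, e3 q3546 (flp_g L40459) q2685, e3 q3547 (flp_g L58091) q4541, e3 q3548 L40494 q3548, e3 q3549 L58352 q4566, e3 q3550 L40527 q3550, e3 q3551 L40535 q3551, e3 q3552 L58412 q4571, e3 q3553 (flp_g L40551) q2691, e3 q3554 L40568 q3554, e3 q3555 L40576 q3555, e3 q3556 L58475 q4578, e3 q3557 L58490 q4580, e3 q3558 L40602 q3558, e3 q3559 (flp_g L40606) q2695,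 e3 q3560 L40622 q2709, e3 q3561 L40649 q2710, e3 q3562 L58571 q4586, e3 q3563 (flp_g L40662) q2698, e3 q3564 L40688 q2713, e3 q3565 L58634 q4591, e3 q3566 L58651 q4593, e3 q3567 L40714 q2716, e3 q3568 (flp_g L40716) q2701, e3 q3569 (flp_g L58430) q4572, e3 q3570 L40741 q2719, e3 q3571 L58710 q4600, e3 q3572 L40753 q2721, e3 q3573 L58740 q4604, e3 q3574 L40769 q2723, e3 q3575 (flp_g L40772) q2705, e3 q3576 L58771 q4608, e3 q3577 (flp_g L40786) q2706, e3 q3578 (flp_g L58801) q4611, e3 q3579 L40809 q2728, e3 q3580 (flp_g L58524) q4583, e3 q3581 L58874 q4614, e3 q3582 (flp_g L58567) q4585, e3 q3583 (flp_g L40864) q2711, trivial⟩ (by decide +kernel)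

theorem ce_g_56 : ∀ r, r < 64 → sm gg (Qf (3584 + r)) = Qf (tab Gen.g (3584 + r)) :=
  edges_tab (sm gg) Qf (tab Gen.g) 3584 [(3584, 3584), (3585, 4588), (3586, 4621), (3587, 4590), (3588, 2714), (3589, 4625), (3590, 2715), (3591, 4628), (3592, 4595), (3593, 3593), (3594, 4597), (3595, 4634), (3596, 4599), (3597, 2720), (3598, 4639), (3599, 4602), (3600, 4643), (3601, 2722), (3602, 4646), (3603, 4606), (3604, 3604), (3605, 2725), (3606, 4650), (3607, 3607), (3608, 2727), (3609, 4654), (3610, 3610), (3611, 3611), (3612, 4660), (3613, 4662), (3614, 3614), (3615, 2733), (3616, 2748), (3617, 3617), (3618, 4669), (3619, 3619), (3620, 4673), (3621, 3621), (3622, 2737), (3623, 4677), (3624, 2738), (3625, 4680), (3626, 3626), (3627, 2759), (3628, 2760), (3629, 4685), (3630, 2762), (3631, 4689), (3632, 2764), (3633, 2744), (3634, 4693), (3635, 2745), (3636, 4696), (3637, 2769), (3638, 4665), (3639, 2771), (3640, 4702), (3641, 2773), (3642, 2750), (3643, 4707), (3644, 2776), (3645, 4711), (3646, 2752), (3647, 4714)]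
    ⟨e3 q3584 L40883 q3584, e3 q3585 (flp_g L58612) q4588, e3 q3586 L58970 q4621, e3 q3587 (flp_g L58632) q4590, e3 q3588 (flp_g L40926) q2714, e3 q3589 L59002 q4625, e3 q3590 (flp_g L40944) q2715, e3 q3591 (flp_g L59035) q4628, e3 q3592 (flp_g L58674) q4595, e3 q3593 L40977 q3593, e3 q3594 (flp_g L58691) q4597, e3 q3595 L59078 q4634, e3 q3596 (flp_g L58707) q4599, e3 q3597 (flp_g L41000) q2720, e3 q3598 L59118 q4639, e3 q3599 (flp_g L58734) q4602, e3 q3600 L59150 q4643, e3 q3601 (flp_g L41031) q2722, e3 q3602 (flp_g L59175) q4646, e3 q3603 (flp_g L58760) q4606, e3 q3604 L41059 q3604, e3 q3605 (flp_g L41060) q2725, e3 q3606 (flp_g L59208) q4650, e3 q3607 L41083 q3607, e3 q3608 L41089 q2727, e3 q3609 (flp_g L59239) q4654, e3 q3610 L41108 q3610, e3 q3611 L41118 q3611, e3 q3612 L59291 q4660, e3 q3613 L59310 q4662, e3 q3614 L41147 q3614, e3 q3615 (flp_g L41151) q2733, e3 q3616 L41171 q2748, e3 q3617 L41178 q3617, e3 q3618 L59375 q4669, e3 q3619 L41195 q3619, e3 q3620 L59408 q4673, e3 q3621 L41212 q3621, e3 q3622 (flp_g L41217)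 q2737, e3 q3623 L59446 q4677, e3 q3624 (flp_g L41233) q2738, e3 q3625 (flp_g L59471) q4680, e3 q3626 L41253 q3626, e3 q3627 L41265 q2759, e3 q3628 L41272 q2760, e3 q3629 L59511 q4685, e3 q3630 L41289 q2762, e3 q3631 L59545 q4689, e3 q3632 L41307 q2764, e3 q3633 (flp_g L41310) q2744, e3 q3634 L59583 q4693, e3 q3635 (flp_g L41328) q2745, e3 q3636 (flp_g L59610) q4696, e3 q3637 L41347 q2769, e3 q3638 (flp_g L59345) q4665, e3 q3639 L41366 q2771, e3 q3640 L59650 q4702, e3 q3641 L41382 q2773, e3 q3642 (flp_g L41386) q2750, e3 q3643 L59693 q4707, e3 q3644 L41408 q2776, e3 q3645 L59721 q4711, e3 q3646 (flp_g L41415) q2752, e3 q3647 (flp_g L59748) q4714, trivial⟩ (by decide +kernel)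

theorem ce_g_57 : ∀ r, r < 64 → sm gg (Qf (3648 + r)) = Qf (tab Gen.g (3648 + r)) :=
  edges_tab (sm gg) Qf (tab Gen.g) 3648 [(3648, 2780), (3649, 4676), (3650, 2755), (3651, 4718), (3652, 4679), (3653, 2757), (3654, 4722), (3655, 4682), (3656, 4727), (3657, 4684), (3658, 2761), (3659, 4732), (3660, 4687), (3661, 4736), (3662, 2763), (3663, 4739), (3664, 4691), (3665, 3665), (3666, 2766), (3667, 4743), (3668, 3668), (3669, 2768), (3670, 4747), (3671, 4698), (3672, 4750), (3673, 4700), (3674, 4753), (3675, 2772), (3676, 4756), (3677, 4704), (3678, 3678), (3679, 4759), (3680, 2775), (3681, 4762), (3682, 4709), (3683, 4710), (3684, 2777), (3685, 4769), (3686, 3686), (3687, 2779), (3688, 4773), (3689, 4454), (3690, 3690), (3691, 2783), (3692, 4777), (3693, 4778), (3694, 3694), (3695, 2786), (3696, 4782), (3697, 2787), (3698, 3698), (3699, 4785), (3700, 2789), (3701, 2790), (3702, 4789), (3703, 3703), (3704, 2792), (3705, 4482), (3706, 3706), (3707, 2795), (3708, 4795), (3709, 4796), (3710, 3710), (3711, 2798)]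
    ⟨e3 q3648 L41437 q2780, e3 q3649 (flp_g L59444) q4676, e3 q3650 (flp_g L41450) q2755, e3 q3651 (flp_g L59777) q4718, e3 q3652 (flp_g L59465) q4679, e3 q3653 L41473 q2757, e3 q3654 (flp_g L59806) q4722, e3 q3655 (flp_g L59488) q4682, e3 q3656 L59844 q4727, e3 q3657 (flp_g L59508) q4684, e3 q3658 (flp_g L41510) q2761, e3 q3659 L59891 q4732, e3 q3660 (flp_g L59536) q4687, e3 q3661 L59919 q4736, e3 q3662 (flp_g L41545) q2763, e3 q3663 (flp_g L59949) q4739, e3 q3664 (flp_g L59567) q4691, e3 q3665 L41580 q3665, e3 q3666 (flp_g L41581) q2766, e3 q3667 (flp_g L59984) q4743, e3 q3668 L41603 q3668, e3 q3669 L41607 q2768, e3 q3670 (flp_g L60012) q4747, e3 q3671 (flp_g L59625) q4698, e3 q3672 L60037 q4750, e3 q3673 (flp_g L59642) q4700, e3 q3674 L60070 q4753, e3 q3675 (flp_g L41649) q2772, e3 q3676 (flp_g L60100) q4756, e3 q3677 (flp_g L59675) q4704, e3 q3678 L41685 q3678, e3 q3679 L60121 q4759, e3 q3680 (flp_g L41691) q2775, e3 q3681 (flp_g L60145) q4762, e3 q3682 (flp_g L59709) q4709, e3 q3683 (flp_g L59719) q4710, e3 q3684 (flp_g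 L41716) q2777, e3 q3685 (flp_g L60198) q4769, e3 q3686 L41737 q3686, e3 q3687 L41742 q2779, e3 q3688 (flp_g L60231) q4773, e3 q3689 (flp_g L57008) q4454, e3 q3690 L41767 q3690, e3 q3691 L41773 q2783, e3 q3692 (flp_g L60256) q4777, e3 q3693 (flp_g L60267) q4778, e3 q3694 L41792 q3694, e3 q3695 L41802 q2786, e3 q3696 L60360 q4782, e3 q3697 (flp_g L41841) q2787, e3 q3698 L41881 q3698, e3 q3699 L60416 q4785, e3 q3700 (flp_g L41890) q2789, e3 q3701 (flp_g L41925) q2790, e3 q3702 (flp_g L60510) q4789, e3 q3703 L41949 q3703, e3 q3704 L41955 q2792, e3 q3705 (flp_g L57463) q4482, e3 q3706 L41983 q3706, e3 q3707 L41990 q2795, e3 q3708 (flp_g L60574) q4795, e3 q3709 (flp_g L60583) q4796, e3 q3710 L42011 q3710, e3 q3711 L42021 q2798, trivial⟩ (by decide +kernel)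

theorem ce_g_58 : ∀ r, r < 64 → sm gg (Qf (3712 + r)) = Qf (tab Gen.g (3712 + r)) :=
  edges_tab (sm gg) Qf (tab Gen.g) 3712 [(3712, 4801), (3713, 2799), (3714, 2800), (3715, 4805), (3716, 3716), (3717, 2802), (3718, 4808), (3719, 2804), (3720, 4812), (3721, 3721), (3722, 2806), (3723, 4500), (3724, 3724), (3725, 2808), (3726, 4818), (3727, 4819), (3728, 3728), (3729, 2811), (3730, 4823), (3731, 4508), (3732, 3732), (3733, 2815), (3734, 2816), (3735, 4829), (3736, 4830), (3737, 3737), (3738, 3738), (3739, 4837), (3740, 3740), (3741, 2820), (3742, 4842), (3743, 3743), (3744, 4846), (3745, 2822), (3746, 4849), (3747, 3747), (3748, 2840), (3749, 2825), (3750, 4853), (3751, 2843), (3752, 2827), (3753, 4857), (3754, 4859), (3755, 2847), (3756, 4862), (3757, 2831), (3758, 4865), (3759, 2851), (3760, 4840), (3761, 4868), (3762, 2834), (3763, 4871), (3764, 2856), (3765, 2857), (3766, 2836), (3767, 4878), (3768, 4848), (3769, 2838), (3770, 4882), (3771, 3771), (3772, 4852), (3773, 2842), (3774, 4886), (3775, 4887)]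
    ⟨e3 q3712 L60653 q4801, e3 q3713 (flp_g L42050) q2799, e3 q3714 (flp_g L42078) q2800, e3 q3715 (flp_g L60721) q4805, e3 q3716 L42101 q3716, e3 q3717 L42108 q2802, e3 q3718 L60760 q4808, e3 q3719 (flp_g L42128) q2804, e3 q3720 (flp_g L60794) q4812, e3 q3721 L42151 q3721, e3 q3722 L42158 q2806, e3 q3723 (flp_g L57693) q4500, e3 q3724 L42181 q3724, e3 q3725 L42188 q2808, e3 q3726 (flp_g L60855) q4818, e3 q3727 (flp_g L60865) q4819, e3 q3728 L42209 q3728, e3 q3729 L42221 q2811, e3 q3730 L60891 q4823, e3 q3731 (flp_g L57758) q4508, e3 q3732 L42243 q3732, e3 q3733 L42249 q2815, e3 q3734 L42259 q2816, e3 q3735 (flp_g L60940) q4829, e3 q3736 (flp_g L60950) q4830, e3 q3737 L42283 q3737, e3 q3738 L42291 q3738, e3 q3739 L61015 q4837, e3 q3740 L42313 q3740, e3 q3741 (flp_g L42316) q2820, e3 q3742 L61064 q4842, e3 q3743 L42342 q3743, e3 q3744 L61100 q4846, e3 q3745 (flp_g L42354) q2822, e3 q3746 (flp_g L61132) q4849, e3 q3747 L42375 q3747, e3 q3748 L42388 q2840, e3 q3749 (flp_g L42390) q2825, e3 q3750 (flp_g L61167) q4853, e3 q3751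 L42415 q2843, e3 q3752 L42422 q2827, e3 q3753 (flp_g L61200) q4857, e3 q3754 L61229 q4859, e3 q3755 L42459 q2847, e3 q3756 L61266 q4862, e3 q3757 (flp_g L42469) q2831, e3 q3758 (flp_g L61300) q4865, e3 q3759 L42492 q2851, e3 q3760 (flp_g L61053) q4840, e3 q3761 L61318 q4868, e3 q3762 (flp_g L42513) q2834, e3 q3763 (flp_g L61351) q4871, e3 q3764 L42533 q2856, e3 q3765 L42543 q2857, e3 q3766 (flp_g L42546) q2836, e3 q3767 (flp_g L61406) q4878, e3 q3768 (flp_g L61125) q4848, e3 q3769 L42576 q2838, e3 q3770 (flp_g L61436) q4882, e3 q3771 L42593 q3771, e3 q3772 (flp_g L61159) q4852, e3 q3773 L42608 q2842, e3 q3774 (flp_g L61469) q4886, e3 q3775 (flp_g L61478) q4887, trivial⟩ (by decide +kernel)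

theorem ce_g_59 : ∀ r, r < 64 → sm gg (Qf (3776 + r)) = Qf (tab Gen.g (3776 + r)) :=
  edges_tab (sm gg) Qf (tab Gen.g) 3776 [(3776, 4856), (3777, 2845), (3778, 4891), (3779, 2846), (3780, 4894), (3781, 4861), (3782, 2848), (3783, 4898), (3784, 3784), (3785, 2850), (3786, 4902), (3787, 2853), (3788, 4905), (3789, 3789), (3790, 2855), (3791, 4909), (3792, 4910), (3793, 4874), (3794, 4875), (3795, 3795), (3796, 3796), (3797, 2859), (3798, 4918), (3799, 4919), (3800, 3800), (3801, 2862), (3802, 4923), (3803, 3803), (3804, 3804), (3805, 2866), (3806, 2867), (3807, 4929), (3808, 4930), (3809, 3809), (3810, 3810), (3811, 3811), (3812, 2871), (3813, 4937), (3814, 4938), (3815, 3815), (3816, 2874), (3817, 4942), (3818, 3818), (3819, 3819), (3820, 2878), (3821, 2879), (3822, 4948), (3823, 4949), (3824, 3824), (3825, 2882), (3826, 2896), (3827, 3827), (3828, 3828), (3829, 3829), (3830, 3830), (3831, 2887), (3832, 2888), (3833, 4957), (3834, 4953), (3835, 4958), (3836, 2895), (3837, 4962), (3838, 4943), (3839, 3839)]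
    ⟨e3 q3776 (flp_g L61191) q4856, e3 q3777 L42637 q2845, e3 q3778 L61547 q4891, e3 q3779 (flp_g L42668) q2846, e3 q3780 (flp_g L61583) q4894, e3 q3781 (flp_g L61263) q4861, e3 q3782 (flp_g L42702) q2848, e3 q3783 (flp_g L61646) q4898, e3 q3784 L42729 q3784, e3 q3785 L42735 q2850, e3 q3786 (flp_g L61680) q4902, e3 q3787 (flp_g L42746) q2853, e3 q3788 (flp_g L61708) q4905, e3 q3789 L42772 q3789, e3 q3790 L42778 q2855, e3 q3791 (flp_g L61737) q4909, e3 q3792 (flp_g L61746) q4910, e3 q3793 (flp_g L61371) q4874, e3 q3794 (flp_g L61381) q4875, e3 q3795 L42817 q3795, e3 q3796 L42827 q3796, e3 q3797 L42834 q2859, e3 q3798 (flp_g L61813) q4918, e3 q3799 (flp_g L61823) q4919, e3 q3800 L42857 q3800, e3 q3801 L42864 q2862, e3 q3802 L61848 q4923, e3 q3803 L42882 q3803, e3 q3804 L42889 q3804, e3 q3805 L42895 q2866, e3 q3806 L42905 q2867, e3 q3807 (flp_g L61902) q4929, e3 q3808 (flp_g L61912) q4930, e3 q3809 L42927 q3809, e3 q3810 L42939 q3810, e3 q3811 L42949 q3811, e3 q3812 L42958 q2871, e3 q3813 (flp_g L61973) q4937, e3 q3814 (flp_g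 L61983) q4938, e3 q3815 L42985 q3815, e3 q3816 L42995 q2874, e3 q3817 L62013 q4942, e3 q3818 L43015 q3818, e3 q3819 L43023 q3819, e3 q3820 L43030 q2878, e3 q3821 L43039 q2879, e3 q3822 (flp_g L62069) q4948, e3 q3823 (flp_g L62078) q4949, e3 q3824 L43061 q3824, e3 q3825 (flp_g L43065) q2882, e3 q3826 L647520 q2896, e3 q3827 L43089 q3827, e3 q3828 L43098 q3828, e3 q3829 L43103 q3829, e3 q3830 L43113 q3830, e3 q3831 L43120 q2887, e3 q3832 L43129 q2888, e3 q3833 (flp_g L62170) q4957, e3 q3834 L628311 q4953, e3 q3835 (flp_g L62184) q4958, e3 q3836 L43225 q2895, e3 q3837 (flp_g L62327) q4962, e3 q3838 L628064 q4943, e3 q3839 L43280 q3839, trivial⟩ (by decide +kernel)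

theorem ce_g_60 : ∀ r, r < 64 → sm gg (Qf (3840 + r)) = Qf (tab Gen.g (3840 + r)) :=
  edges_tab (sm gg) Qf (tab Gen.g) 3840 [(3840, 2908), (3841, 2909), (3842, 3842), (3843, 3843), (3844, 2910), (3845, 2911), (3846, 2912), (3847, 2913), (3848, 4973), (3849, 2915), (3850, 2916), (3851, 2917), (3852, 3140), (3853, 2907), (3854, 4968), (3855, 4978), (3856, 4970), (3857, 4971), (3858, 4982), (3859, 2914), (3860, 4974), (3861, 4975), (3862, 4989), (3863, 3098), (3864, 3138), (3865, 2918), (3866, 2932), (3867, 4990), (3868, 2921), (3869, 3869), (3870, 4994), (3871, 4996), (3872, 2924), (3873, 4983), (3874, 3874), (3875, 5001), (3876, 3876), (3877, 5005), (3878, 3878), (3879, 2928), (3880, 3118), (3881, 2929), (3882, 3114), (3883, 3116), (3884, 2933), (3885, 3885), (3886, 5011), (3887, 5013), (3888, 2936), (3889, 2950), (3890, 3890), (3891, 5018), (3892, 3892), (3893, 5022), (3894, 3894), (3895, 2940), (3896, 3000), (3897, 2941), (3898, 2998), (3899, 3899), (3900, 2961), (3901, 5008), (3902, 2963), (3903, 5029)]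
    ⟨e3 q3840 L43288 q2908, e3 q3841 L43301 q2909, e3 q3842 L43314 q3842, e3 q3843 L43347 q3843, e3 q3844 L43354 q2910, e3 q3845 L43374 q2911, e3 q3846 L43384 q2912, e3 q3847 L43395 q2913, e3 q3848 L62572 q4973, e3 q3849 L43413 q2915, e3 q3850 L43423 q2916, e3 q3851 L43431 q2917, e3 q3852 (flp_g L626904) q3140, e3 q3853 (flp_g L43445) q2907, e3 q3854 (flp_g L62494) q4968, e3 q3855 L62787 q4978, e3 q3856 (flp_g L62546) q4970, e3 q3857 (flp_g L62555) q4971, e3 q3858 L62844 q4982, e3 q3859 (flp_g L43596) q2914, e3 q3860 (flp_g L62588) q4974, e3 q3861 (flp_g L62596) q4975, e3 q3862 L62907 q4989, e3 q3863 L626947 q3098, e3 q3864 (flp_g L625521) q3138, e3 q3865 (flp_g L43648) q2918, e3 q3866 L43665 q2932, e3 q3867 L63094 q4990, e3 q3868 (flp_g L43792) q2921, e3 q3869 L43815 q3869, e3 q3870 L63206 q4994, e3 q3871 L63225 q4996, e3 q3872 (flp_g L43843) q2924, e3 q3873 (flp_g L62863) q4983, e3 q3874 L43870 q3874, e3 q3875 L63285 q5001, e3 q3876 L43884 q3876, e3 q3877 L63314 q5005, e3 q3878 L43897 q3878, e3 q3879 (flp_g L43899) q2928,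 e3 q3880 (flp_g L625850) q3118, e3 q3881 (flp_g L43915) q2929, e3 q3882 L625653 q3114, e3 q3883 L626873 q3116, e3 q3884 (flp_g L44020) q2933, e3 q3885 L44044 q3885, e3 q3886 L63557 q5011, e3 q3887 L63575 q5013, e3 q3888 (flp_g L44080) q2936, e3 q3889 L44098 q2950, e3 q3890 L44106 q3890, e3 q3891 L63648 q5018, e3 q3892 L44122 q3892, e3 q3893 L63681 q5022, e3 q3894 L44140 q3894, e3 q3895 (flp_g L44144) q2940, e3 q3896 L623342 q3000, e3 q3897 (flp_g L44159) q2941, e3 q3898 L626199 q2998, e3 q3899 L44187 q3899, e3 q3900 L44198 q2961, e3 q3901 (flp_g L63505) q5008, e3 q3902 L44333 q2963, e3 q3903 L63986 q5029, trivial⟩ (by decide +kernel)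

theorem ce_g_61 : ∀ r, r < 64 → sm gg (Qf (3904 + r)) = Qf (tab Gen.g (3904 + r)) :=
  edges_tab (sm gg) Qf (tab Gen.g) 3904 [(3904, 2947), (3905, 5031), (3906, 2948), (3907, 5014), (3908, 2969), (3909, 5037), (3910, 2971), (3911, 2952), (3912, 5041), (3913, 2974), (3914, 5044), (3915, 2954), (3916, 5047), (3917, 2978), (3918, 5025), (3919, 2957), (3920, 3025), (3921, 3024), (3922, 2959), (3923, 5050), (3924, 5052), (3925, 5053), (3926, 2964), (3927, 3927), (3928, 2966), (3929, 3929), (3930, 5033), (3931, 5059), (3932, 5035), (3933, 5061), (3934, 2970), (3935, 5064), (3936, 3936), (3937, 5066), (3938, 2973), (3939, 5069), (3940, 5043), (3941, 2975), (3942, 5074), (3943, 3943), (3944, 2977), (3945, 5078), (3946, 3946), (3947, 3947), (3948, 2981), (3949, 3087), (3950, 5079), (3951, 3951), (3952, 2984), (3953, 3953), (3954, 5084), (3955, 3955), (3956, 5088), (3957, 3957), (3958, 2987), (3959, 5026), (3960, 2988), (3961, 5092), (3962, 3962), (3963, 3013), (3964, 3964), (3965, 5096), (3966, 2993), (3967, 5099)]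
    ⟨e3 q3904 (flp_g L44354) q2947, e3 q3905 L64019 q5031, e3 q3906 (flp_g L44371) q2948, e3 q3907 (flp_g L63617) q5014, e3 q3908 L44417 q2969, e3 q3909 L64101 q5037, e3 q3910 L44434 q2971, e3 q3911 (flp_g L44437) q2952, e3 q3912 L64146 q5041, e3 q3913 L44459 q2974, e3 q3914 L64178 q5044, e3 q3915 (flp_g L44466) q2954, e3 q3916 (flp_g L64205) q5047, e3 q3917 L44487 q2978, e3 q3918 (flp_g L63712) q5025, e3 q3919 (flp_g L44496) q2957, e3 q3920 (flp_g L625866) q3025, e3 q3921 L626765 q3024, e3 q3922 L44531 q2959, e3 q3923 (flp_g L64277) q5050, e3 q3924 L64600 q5052, e3 q3925 L64632 q5053, e3 q3926 (flp_g L44762) q2964, e3 q3927 L44792 q3927, e3 q3928 (flp_g L44793) q2966, e3 q3929 L44824 q3929, e3 q3930 (flp_g L64073) q5033, e3 q3931 L64770 q5059, e3 q3932 (flp_g L64092) q5035, e3 q3933 L64799 q5061, e3 q3934 (flp_g L44876) q2970, e3 q3935 (flp_g L64833) q5064, e3 q3936 L44911 q3936, e3 q3937 L64853 q5066, e3 q3938 (flp_g L44920) q2973, e3 q3939 (flp_g L64884) q5069, e3 q3940 (flp_g L64166) q5043, e3 q3941 (flp_g L44949) q2975,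 e3 q3942 (flp_g L64938) q5074, e3 q3943 L44970 q3943, e3 q3944 L44975 q2977, e3 q3945 (flp_g L64969) q5078, e3 q3946 L44993 q3946, e3 q3947 L45003 q3947, e3 q3948 L45012 q2981, e3 q3949 (flp_g L605086) q3087, e3 q3950 (flp_g L65017) q5079, e3 q3951 L45039 q3951, e3 q3952 L45050 q2984, e3 q3953 L45058 q3953, e3 q3954 L65072 q5084, e3 q3955 L45079 q3955, e3 q3956 L65109 q5088, e3 q3957 L45099 q3957, e3 q3958 (flp_g L45103) q2987, e3 q3959 (flp_g L626236) q5026, e3 q3960 (flp_g L45122) q2988, e3 q3961 (flp_g L65183) q5092, e3 q3962 L45146 q3962, e3 q3963 L45162 q3013, e3 q3964 L45169 q3964, e3 q3965 L65233 q5096, e3 q3966 (flp_g L45194) q2993, e3 q3967 L65285 q5099, trivial⟩ (by decide +kernel)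

theorem ce_g_62 : ∀ r, r < 64 → sm gg (Qf (3968 + r)) = Qf (tab Gen.g (3968 + r)) :=
  edges_tab (sm gg) Qf (tab Gen.g) 3968 [(3968, 3968), (3969, 5023), (3970, 2995), (3971, 5021), (3972, 3022), (3973, 5012), (3974, 3028), (3975, 5104), (3976, 3004), (3977, 5107), (3978, 3032), (3979, 5109), (3980, 3006), (3981, 5112), (3982, 5090), (3983, 3009), (3984, 5113), (3985, 5049), (3986, 3011), (3987, 5117), (3988, 5119), (3989, 5120), (3990, 3015), (3991, 5097), (3992, 5123), (3993, 3017), (3994, 5126), (3995, 3049), (3996, 3019), (3997, 5046), (3998, 5045), (3999, 3021), (4000, 5032), (4001, 3027), (4002, 5130), (4003, 5131), (4004, 3029), (4005, 4005), (4006, 5134), (4007, 3031), (4008, 5137), (4009, 3033), (4010, 5140), (4011, 4011), (4012, 3035), (4013, 4013), (4014, 4014), (4015, 3038), (4016, 5145), (4017, 5146), (4018, 4018), (4019, 3041), (4020, 5150), (4021, 3042), (4022, 3043), (4023, 4023), (4024, 5154), (4025, 3046), (4026, 5158), (4027, 4027), (4028, 3048), (4029, 5161), (4030, 5128), (4031, 4031)]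
    ⟨e3 q3968 L45215 q3968, e3 q3969 L623349 q5023, e3 q3970 (flp_g L45226) q2995, e3 q3971 L623312 q5021, e3 q3972 L45261 q3022, e3 q3973 (flp_g L623363) q5012, e3 q3974 L45312 q3028, e3 q3975 L65456 q5104, e3 q3976 (flp_g L45336) q3004, e3 q3977 L65508 q5107, e3 q3978 L45359 q3032, e3 q3979 L65536 q5109, e3 q3980 (flp_g L45369) q3006, e3 q3981 (flp_g L65568) q5112, e3 q3982 (flp_g L65147) q5090, e3 q3983 (flp_g L45406) q3009, e3 q3984 (flp_g L65605) q5113, e3 q3985 L623068 q5049, e3 q3986 L45438 q3011, e3 q3987 (flp_g L65639) q5117, e3 q3988 L65665 q5119, e3 q3989 L65698 q5120, e3 q3990 (flp_g L45480) q3015, e3 q3991 (flp_g L65276) q5097, e3 q3992 L65752 q5123, e3 q3993 (flp_g L45527) q3017, e3 q3994 (flp_g L65777) q5126, e3 q3995 L45541 q3049, e3 q3996 (flp_g L45552) q3019, e3 q3997 (flp_g L622876) q5046, e3 q3998 L624882 q5045, e3 q3999 L45580 q3021, e3 q4000 (flp_g L626749) q5032, e3 q4001 L45648 q3027, e3 q4002 L65961 q5130, e3 q4003 L65994 q5131, e3 q4004 (flp_g L45687) q3029, e3 q4005 L45729 q4005, e3 q4006 L66056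 q5134, e3 q4007 (flp_g L45738) q3031, e3 q4008 (flp_g L66083) q5137, e3 q4009 (flp_g L45763) q3033, e3 q4010 (flp_g L66137) q5140, e3 q4011 L45789 q4011, e3 q4012 L45794 q3035, e3 q4013 L45815 q4013, e3 q4014 L45826 q4014, e3 q4015 L45833 q3038, e3 q4016 (flp_g L66205) q5145, e3 q4017 (flp_g L66216) q5146, e3 q4018 L45858 q4018, e3 q4019 L45867 q3041, e3 q4020 L66293 q5150, e3 q4021 (flp_g L45894) q3042, e3 q4022 (flp_g L45924) q3043, e3 q4023 L45953 q4023, e3 q4024 L66424 q5154, e3 q4025 (flp_g L45981) q3046, e3 q4026 (flp_g L66454) q5158, e3 q4027 L45999 q4027, e3 q4028 L46004 q3048, e3 q4029 (flp_g L66478) q5161, e3 q4030 (flp_g L65795) q5128, e3 q4031 L46039 q4031, trivial⟩ (by decide +kernel)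

theorem ce_g_63 : ∀ r, r < 64 → sm gg (Qf (4032 + r)) = Qf (tab Gen.g (4032 + r)) :=
  edges_tab (sm gg) Qf (tab Gen.g) 4032 [(4032, 4032), (4033, 3051), (4034, 4034), (4035, 3057), (4036, 4036), (4037, 5165), (4038, 3060), (4039, 3061), (4040, 5169), (4041, 4041), (4042, 3063), (4043, 5172), (4044, 3065), (4045, 5176), (4046, 4046), (4047, 3067), (4048, 4048), (4049, 4049), (4050, 3069), (4051, 5182), (4052, 4052), (4053, 5080), (4054, 4054), (4055, 4055), (4056, 3075), (4057, 5187), (4058, 5190), (4059, 3077), (4060, 5192), (4061, 3078), (4062, 4062), (4063, 4063), (4064, 4064), (4065, 3082), (4066, 5199), (4067, 4067), (4068, 4068), (4069, 5075), (4070, 5203), (4071, 5204), (4072, 3089), (4073, 3105), (4074, 5207), (4075, 3091), (4076, 5210), (4077, 4077), (4078, 3093), (4079, 4987), (4080, 3112), (4081, 3095), (4082, 4981), (4083, 3101), (4084, 5214), (4085, 3102), (4086, 3103), (4087, 5205), (4088, 5217), (4089, 3106), (4090, 5220), (4091, 5209), (4092, 3108), (4093, 5223), (4094, 3125), (4095, 5006)]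
    ⟨e3 q4032 L46048 q4032, e3 q4033 L46055 q3051, e3 q4034 L46071 q4034, e3 q4035 L46117 q3057, e3 q4036 L46125 q4036, e3 q4037 L66648 q5165, e3 q4038 (flp_g L46159) q3060, e3 q4039 (flp_g L46186) q3061, e3 q4040 (flp_g L66736) q5169, e3 q4041 L46218 q4041, e3 q4042 L46226 q3063, e3 q4043 L66761 q5172, e3 q4044 (flp_g L46237) q3065, e3 q4045 (flp_g L66799) q5176, e3 q4046 L46264 q4046, e3 q4047 L46271 q3067, e3 q4048 L46297 q4048, e3 q4049 L46306 q4049, e3 q4050 L46313 q3069, e3 q4051 (flp_g L66871) q5182, e3 q4052 L46329 q4052, e3 q4053 L624035 q5080, e3 q4054 L46352 q4054, e3 q4055 L46361 q4055, e3 q4056 L46369 q3075, e3 q4057 (flp_g L66924) q5187, e3 q4058 L66942 q5190, e3 q4059 (flp_g L46392) q3077, e3 q4060 L66962 q5192, e3 q4061 (flp_g L46407) q3078, e3 q4062 L46424 q4062, e3 q4063 L46433 q4063, e3 q4064 L46443 q4064, e3 q4065 (flp_g L46444) q3082, e3 q4066 (flp_g L67019) q5199, e3 q4067 L46462 q4067, e3 q4068 L46471 q4068, e3 q4069 L624642 q5075, e3 q4070 L67078 q5203, e3 q4071 L67115 q5204, e3 q4072 (flp_g L46532)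 q3089, e3 q4073 L46573 q3105, e3 q4074 L67178 q5207, e3 q4075 (flp_g L46585) q3091, e3 q4076 (flp_g L67212) q5210, e3 q4077 L46604 q4077, e3 q4078 (flp_g L46618) q3093, e3 q4079 (flp_g L625460) q4987, e3 q4080 L46644 q3112, e3 q4081 L46651 q3095, e3 q4082 (flp_g L626965) q4981, e3 q4083 L46729 q3101, e3 q4084 L67447 q5214, e3 q4085 (flp_g L46760) q3102, e3 q4086 (flp_g L46794) q3103, e3 q4087 (flp_g L67147) q5205, e3 q4088 L67580 q5217, e3 q4089 (flp_g L46852) q3106, e3 q4090 (flp_g L67611) q5220, e3 q4091 (flp_g L67204) q5209, e3 q4092 L46885 q3108, e3 q4093 (flp_g L67642) q5223, e3 q4094 L46903 q3125, e3 q4095 L625285 q5006, trivial⟩ (by decide +kernel)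

theorem ce_g_64 : ∀ r, r < 64 → sm gg (Qf (4096 + r)) = Qf (tab Gen.g (4096 + r)) :=
  edges_tab (sm gg) Qf (tab Gen.g) 4096 [(4096, 3111), (4097, 5007), (4098, 5004), (4099, 3117), (4100, 4997), (4101, 4995), (4102, 4102), (4103, 4103), (4104, 3124), (4105, 5229), (4106, 5231), (4107, 5233), (4108, 3128), (4109, 3129), (4110, 5235), (4111, 3131), (4112, 5238), (4113, 3133), (4114, 5240), (4115, 4115), (4116, 4988), (4117, 3136), (4118, 4976), (4119, 3141), (4120, 4972), (4121, 4121), (4122, 4122), (4123, 4123), (4124, 4124), (4125, 5251), (4126, 4126), (4127, 4127), (4128, 4128), (4129, 4129), (4130, 3151), (4131, 3167), (4132, 4132), (4133, 3168), (4134, 4134), (4135, 4135), (4136, 4136), (4137, 4137), (4138, 3169), (4139, 5264), (4140, 3171), (4141, 3174), (4142, 3162), (4143, 5257), (4144, 5266), (4145, 3170), (4146, 3175), (4147, 3172), (4148, 3185), (4149, 3317), (4150, 4150), (4151, 3181), (4152, 5267), (4153, 3214), (4154, 3183), (4155, 3187), (4156, 4156), (4157, 3209), (4158, 3315), (4159, 3206)]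
    ⟨e3 q4096 L46930 q3111, e3 q4097 L626893 q5007, e3 q4098 (flp_g L625326) q5004, e3 q4099 L46991 q3117, e3 q4100 (flp_g L626846) q4997, e3 q4101 L625805 q4995, e3 q4102 L47065 q4102, e3 q4103 L47133 q4103, e3 q4104 L47139 q3124, e3 q4105 (flp_g L67948) q5229, e3 q4106 L67979 q5231, e3 q4107 L68059 q5233, e3 q4108 (flp_g L47221) q3128, e3 q4109 (flp_g L47260) q3129, e3 q4110 L68183 q5235, e3 q4111 (flp_g L47312) q3131, e3 q4112 (flp_g L68214) q5238, e3 q4113 L47336 q3133, e3 q4114 (flp_g L68236) q5240, e3 q4115 L47362 q4115, e3 q4116 (flp_g L625498) q4988, e3 q4117 L47389 q3136, e3 q4118 L625437 q4976, e3 q4119 L47444 q3141, e3 q4120 (flp_g L619907) q4972, e3 q4121 L47507 q4121, e3 q4122 L47580 q4122, e3 q4123 L47584 q4123, e3 q4124 L47598 q4124, e3 q4125 L68596 q5251, e3 q4126 L47633 q4126, e3 q4127 L47647 q4127, e3 q4128 L47657 q4128, e3 q4129 L47663 q4129, e3 q4130 (flp_g L47716) q3151, e3 q4131 L47742 q3167, e3 q4132 L47755 q4132, e3 q4133 L47762 q3168, e3 q4134 L47814 q4134, e3 q4135 L47823 q4135, e3 q4136 L47833 q4136,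 e3 q4137 L47888 q4137, e3 q4138 L47902 q3169, e3 q4139 L69053 q5264, e3 q4140 L47959 q3171, e3 q4141 (flp_g L627131) q3174, e3 q4142 (flp_g L47974) q3162, e3 q4143 (flp_g L68776) q5257, e3 q4144 L69430 q5266, e3 q4145 (flp_g L48226) q3170, e3 q4146 L625756 q3175, e3 q4147 (flp_g L48278) q3172, e3 q4148 L48294 q3185, e3 q4149 L627109 q3317, e3 q4150 L48386 q4150, e3 q4151 (flp_g L48573) q3181, e3 q4152 (flp_g L69497) q5267, e3 q4153 L603497 q3214, e3 q4154 (flp_g L48693) q3183, e3 q4155 (flp_g L627212) q3187, e3 q4156 L48763 q4156, e3 q4157 (flp_g L626756) q3209, e3 q4158 (flp_g L627273) q3315, e3 q4159 L48965 q3206, trivial⟩ (by decide +kernel)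

theorem ce_g_65 : ∀ r, r < 64 → sm gg (Qf (4160 + r)) = Qf (tab Gen.g (4160 + r)) :=
  edges_tab (sm gg) Qf (tab Gen.g) 4160 [(4160, 3199), (4161, 3195), (4162, 3236), (4163, 3242), (4164, 3207), (4165, 3211), (4166, 3252), (4167, 3210), (4168, 3258), (4169, 3213), (4170, 4170), (4171, 4171), (4172, 3292), (4173, 3221), (4174, 4174), (4175, 3224), (4176, 3307), (4177, 4177), (4178, 5091), (4179, 3233), (4180, 3238), (4181, 3234), (4182, 3249), (4183, 5093), (4184, 3240), (4185, 3256), (4186, 5116), (4187, 3245), (4188, 5114), (4189, 3247), (4190, 3251), (4191, 3254), (4192, 5115), (4193, 3259), (4194, 4194), (4195, 4195), (4196, 4196), (4197, 3267), (4198, 4198), (4199, 4199), (4200, 5272), (4201, 3273), (4202, 5274), (4203, 3274), (4204, 5277), (4205, 4205), (4206, 3276), (4207, 4207), (4208, 4208), (4209, 3278), (4210, 5184), (4211, 4211), (4212, 3281), (4213, 4213), (4214, 4214), (4215, 3283), (4216, 4216), (4217, 3286), (4218, 4218), (4219, 4219), (4220, 3290), (4221, 3296), (4222, 5283), (4223, 3297)]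
    ⟨e3 q4160 (flp_g L626221) q3199, e3 q4161 (flp_g L49032) q3195, e3 q4162 (flp_g L626206) q3236, e3 q4163 L626271 q3242, e3 q4164 (flp_g L49475) q3207, e3 q4165 L626607 q3211, e3 q4166 L626065 q3252, e3 q4167 (flp_g L49583) q3210, e3 q4168 (flp_g L626581) q3258, e3 q4169 L49644 q3213, e3 q4170 L50129 q4170, e3 q4171 L50139 q4171, e3 q4172 L624051 q3292, e3 q4173 (flp_g L50278) q3221, e3 q4174 L50303 q4174, e3 q4175 L50366 q3224, e3 q4176 L624267 q3307, e3 q4177 L50388 q4177, e3 q4178 L626277 q5091, e3 q4179 (flp_g L50483) q3233, e3 q4180 L626259 q3238, e3 q4181 (flp_g L50520) q3234, e3 q4182 L50559 q3249, e3 q4183 L623381 q5093, e3 q4184 (flp_g L50633) q3240, e3 q4185 L50669 q3256, e3 q4186 (flp_g L623034) q5116, e3 q4187 (flp_g L50835) q3245, e3 q4188 L623424 q5114, e3 q4189 (flp_g L50910) q3247, e3 q4190 L626542 q3251, e3 q4191 (flp_g L51057) q3254, e3 q4192 (flp_g L626099) q5115, e3 q4193 (flp_g L51330) q3259, e3 q4194 L51356 q4194, e3 q4195 L51449 q4195, e3 q4196 L51460 q4196, e3 q4197 L51527 q3267, e3 q4198 L51679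 q4198, e3 q4199 L51688 q4199, e3 q4200 L74984 q5272, e3 q4201 (flp_g L51907) q3273, e3 q4202 L75050 q5274, e3 q4203 (flp_g L51943) q3274, e3 q4204 (flp_g L75095) q5277, e3 q4205 L51974 q4205, e3 q4206 L51982 q3276, e3 q4207 L52012 q4207, e3 q4208 L52021 q4208, e3 q4209 L52028 q3278, e3 q4210 L624026 q5184, e3 q4211 L52044 q4211, e3 q4212 (flp_g L52049) q3281, e3 q4213 L52071 q4213, e3 q4214 L52081 q4214, e3 q4215 L52089 q3283, e3 q4216 L52104 q4216, e3 q4217 L52112 q3286, e3 q4218 L52148 q4218, e3 q4219 L52156 q4219, e3 q4220 L52164 q3290, e3 q4221 L52207 q3296, e3 q4222 L75418 q5283, e3 q4223 (flp_g L52226) q3297, trivial⟩ (by decide +kernel)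

theorem ce_g_66 : ∀ r, r < 64 → sm gg (Qf (4224 + r)) = Qf (tab Gen.g (4224 + r)) :=
  edges_tab (sm gg) Qf (tab Gen.g) 4224 [(4224, 4224), (4225, 3299), (4226, 4226), (4227, 4227), (4228, 5147), (4229, 3308), (4230, 3314), (4231, 5227), (4232, 5244), (4233, 4233), (4234, 4234), (4235, 4235), (4236, 3323), (4237, 5288), (4238, 5289), (4239, 4239), (4240, 4240), (4241, 5297), (4242, 3327), (4243, 3328), (4244, 5298), (4245, 5299), (4246, 5305), (4247, 4247), (4248, 4248), (4249, 4249), (4250, 5311), (4251, 3331), (4252, 4252), (4253, 4253), (4254, 4254), (4255, 5318), (4256, 3334), (4257, 3340), (4258, 3341), (4259, 5325), (4260, 5327), (4261, 3344), (4262, 3338), (4263, 5319), (4264, 5320), (4265, 5334), (4266, 5322), (4267, 5338), (4268, 5324), (4269, 3342), (4270, 5342), (4271, 3343), (4272, 5345), (4273, 5329), (4274, 4274), (4275, 3350), (4276, 3351), (4277, 3352), (4278, 3353), (4279, 5354), (4280, 5347), (4281, 5348), (4282, 5358), (4283, 5350), (4284, 5351), (4285, 5352), (4286, 5364), (4287, 3354)]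
    ⟨e3 q4224 L52242 q4224, e3 q4225 (flp_g L52243) q3299, e3 q4226 L52266 q4226, e3 q4227 L52276 q4227, e3 q4228 L604888 q5147, e3 q4229 (flp_g L52398) q3308, e3 q4230 L52424 q3314, e3 q4231 L602378 q5227, e3 q4232 L619879 q5244, e3 q4233 L54469 q4233, e3 q4234 L54476 q4234, e3 q4235 L55046 q4235, e3 q4236 L55053 q3323, e3 q4237 (flp_g L79349) q5288, e3 q4238 (flp_g L79359) q5289, e3 q4239 L55081 q4239, e3 q4240 L55090 q4240, e3 q4241 L79428 q5297, e3 q4242 L55106 q3327, e3 q4243 L55117 q3328, e3 q4244 (flp_g L79442) q5298, e3 q4245 (flp_g L79454) q5299, e3 q4246 L79510 q5305, e3 q4247 L55161 q4247, e3 q4248 L55171 q4248, e3 q4249 L55178 q4249, e3 q4250 L79559 q5311, e3 q4251 (flp_g L55191) q3331, e3 q4252 L55205 q4252, e3 q4253 L55217 q4253, e3 q4254 L55226 q4254, e3 q4255 L79630 q5318, e3 q4256 (flp_g L55242) q3334, e3 q4257 L55257 q3340, e3 q4258 L55266 q3341, e3 q4259 L79692 q5325, e3 q4260 L79708 q5327, e3 q4261 L55290 q3344, e3 q4262 (flp_g L55294) q3338, e3 q4263 (flp_g L79648) q5319, e3 q4264 (flp_g L79655) q5320,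 e3 q4265 L79771 q5334, e3 q4266 (flp_g L79671) q5322, e3 q4267 L79804 q5338, e3 q4268 (flp_g L79688) q5324, e3 q4269 (flp_g L55356) q3342, e3 q4270 L79839 q5342, e3 q4271 (flp_g L55373) q3343, e3 q4272 (flp_g L79867) q5345, e3 q4273 (flp_g L79732) q5329, e3 q4274 L55407 q4274, e3 q4275 L55412 q3350, e3 q4276 L55424 q3351, e3 q4277 L55436 q3352, e3 q4278 L55445 q3353, e3 q4279 L79948 q5354, e3 q4280 (flp_g L79886) q5347, e3 q4281 (flp_g L79898) q5348, e3 q4282 L80001 q5358, e3 q4283 (flp_g L79920) q5350, e3 q4284 (flp_g L79929) q5351, e3 q4285 (flp_g L79935) q5352, e3 q4286 L80052 q5364, e3 q4287 (flp_g L55523) q3354, trivial⟩ (by decide +kernel)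

theorem ce_g_67 : ∀ r, r < 64 → sm gg (Qf (4288 + r)) = Qf (tab Gen.g (4288 + r)) :=
  edges_tab (sm gg) Qf (tab Gen.g) 4288 [(4288, 4288), (4289, 4289), (4290, 5370), (4291, 3357), (4292, 4292), (4293, 4293), (4294, 5377), (4295, 5379), (4296, 4296), (4297, 3361), (4298, 5365), (4299, 4299), (4300, 4300), (4301, 5387), (4302, 3365), (4303, 4303), (4304, 4304), (4305, 5394), (4306, 5396), (4307, 4307), (4308, 3369), (4309, 3381), (4310, 3382), (4311, 5403), (4312, 5405), (4313, 3385), (4314, 3373), (4315, 5388), (4316, 3388), (4317, 5412), (4318, 3390), (4319, 5416), (4320, 3392), (4321, 3377), (4322, 5420), (4323, 3378), (4324, 5423), (4325, 3397), (4326, 5399), (4327, 5400), (4328, 5428), (4329, 5402), (4330, 3383), (4331, 5432), (4332, 3384), (4333, 5435), (4334, 5407), (4335, 4335), (4336, 5409), (4337, 5441), (4338, 5411), (4339, 3389), (4340, 5446), (4341, 5414), (4342, 5450), (4343, 3391), (4344, 5453), (4345, 5418), (4346, 4346), (4347, 3394), (4348, 5457), (4349, 4349), (4350, 3396), (4351, 5461)]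
    ⟨e3 q4288 L55547 q4288, e3 q4289 L55554 q4289, e3 q4290 L80113 q5370, e3 q4291 (flp_g L55570) q3357, e3 q4292 L55587 q4292, e3 q4293 L55592 q4293, e3 q4294 L80171 q5377, e3 q4295 L80187 q5379, e3 q4296 L55614 q4296, e3 q4297 (flp_g L55615) q3361, e3 q4298 (flp_g L80066) q5365, e3 q4299 L55648 q4299, e3 q4300 L55657 q4300, e3 q4301 L80270 q5387, e3 q4302 (flp_g L55676) q3365, e3 q4303 L55692 q4303, e3 q4304 L55699 q4304, e3 q4305 L80336 q5394, e3 q4306 L80351 q5396, e3 q4307 L55727 q4307, e3 q4308 (flp_g L55730) q3369, e3 q4309 L55743 q3381, e3 q4310 L55760 q3382, e3 q4311 L80434 q5403, e3 q4312 L80453 q5405, e3 q4313 L55790 q3385, e3 q4314 (flp_g L55793) q3373, e3 q4315 (flp_g L80289) q5388, e3 q4316 L55819 q3388, e3 q4317 L80519 q5412, e3 q4318 L55833 q3390, e3 q4319 L80550 q5416, e3 q4320 L55850 q3392, e3 q4321 (flp_g L55852) q3377, e3 q4322 L80579 q5420, e3 q4323 (flp_g L55866) q3378, e3 q4324 (flp_g L80611) q5423, e3 q4325 L55889 q3397, e3 q4326 (flp_g L80384) q5399, e3 q4327 (flp_g L80410) q5400, e3 q4328 L80688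 q5428, e3 q4329 (flp_g L80431) q5402, e3 q4330 (flp_g L55946) q3383, e3 q4331 L80724 q5432, e3 q4332 (flp_g L55966) q3384, e3 q4333 (flp_g L80759) q5435, e3 q4334 (flp_g L80480) q5407, e3 q4335 L56004 q4335, e3 q4336 (flp_g L80500) q5409, e3 q4337 L80808 q5441, e3 q4338 (flp_g L80517) q5411, e3 q4339 (flp_g L56029) q3389, e3 q4340 L80848 q5446, e3 q4341 (flp_g L80542) q5414, e3 q4342 L80879 q5450, e3 q4343 (flp_g L56061) q3391, e3 q4344 (flp_g L80906) q5453, e3 q4345 (flp_g L80570) q5418, e3 q4346 L56087 q4346, e3 q4347 (flp_g L56088) q3394, e3 q4348 (flp_g L80939) q5457, e3 q4349 L56113 q4349, e3 q4350 L56119 q3396, e3 q4351 (flp_g L80971) q5461, trivial⟩ (by decide +kernel)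

theorem ce_g_68 : ∀ r, r < 64 → sm gg (Qf (4352 + r)) = Qf (tab Gen.g (4352 + r)) :=
  edges_tab (sm gg) Qf (tab Gen.g) 4352 [(4352, 4352), (4353, 4353), (4354, 4354), (4355, 5467), (4356, 3401), (4357, 4357), (4358, 4358), (4359, 5474), (4360, 5476), (4361, 4361), (4362, 3405), (4363, 3425), (4364, 4364), (4365, 5483), (4366, 4366), (4367, 5487), (4368, 4368), (4369, 3409), (4370, 5491), (4371, 3410), (4372, 5494), (4373, 4373), (4374, 3436), (4375, 3437), (4376, 3438), (4377, 5501), (4378, 5503), (4379, 3441), (4380, 3417), (4381, 5468), (4382, 3444), (4383, 5510), (4384, 3446), (4385, 5514), (4386, 3448), (4387, 3421), (4388, 5518), (4389, 3422), (4390, 5521), (4391, 3453), (4392, 5479), (4393, 3455), (4394, 5527), (4395, 3457), (4396, 3427), (4397, 5532), (4398, 3460), (4399, 5536), (4400, 3429), (4401, 5539), (4402, 3464), (4403, 5490), (4404, 3432), (4405, 5543), (4406, 5493), (4407, 3434), (4408, 5547), (4409, 5496), (4410, 5551), (4411, 5498), (4412, 5555), (4413, 5500), (4414, 3439), (4415, 5559)]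
    ⟨e3 q4352 L56134 q4352, e3 q4353 L56146 q4353, e3 q4354 L56155 q4354, e3 q4355 L81024 q5467, e3 q4356 (flp_g L56172) q3401, e3 q4357 L56188 q4357, e3 q4358 L56197 q4358, e3 q4359 L81098 q5474, e3 q4360 L81117 q5476, e3 q4361 L56228 q4361, e3 q4362 (flp_g L56231) q3405, e3 q4363 L56248 q3425, e3 q4364 L56255 q4364, e3 q4365 L81183 q5483, e3 q4366 L56274 q4366, e3 q4367 L81217 q5487, e3 q4368 L56292 q4368, e3 q4369 (flp_g L56296) q3409, e3 q4370 L81253 q5491, e3 q4371 (flp_g L56312) q3410, e3 q4372 (flp_g L81280) q5494, e3 q4373 L56332 q4373, e3 q4374 L56343 q3436, e3 q4375 L56351 q3437, e3 q4376 L56360 q3438, e3 q4377 L81334 q5501, e3 q4378 L81352 q5503, e3 q4379 L56385 q3441, e3 q4380 (flp_g L56389) q3417, e3 q4381 (flp_g L81044) q5468, e3 q4382 L56416 q3444, e3 q4383 L81419 q5510, e3 q4384 L56435 q3446, e3 q4385 L81454 q5514, e3 q4386 L56454 q3448, e3 q4387 (flp_g L56456) q3421, e3 q4388 L81490 q5518, e3 q4389 (flp_g L56474) q3422, e3 q4390 (flp_g L81519) q5521, e3 q4391 L56493 q3453, e3 q4392 (flp_g L81151) q5479, e3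 q4393 L56513 q3455, e3 q4394 L81561 q5527, e3 q4395 L56530 q3457, e3 q4396 (flp_g L56533) q3427, e3 q4397 L81604 q5532, e3 q4398 L56554 q3460, e3 q4399 L81631 q5536, e3 q4400 (flp_g L56563) q3429, e3 q4401 (flp_g L81660) q5539, e3 q4402 L56585 q3464, e3 q4403 (flp_g L81251) q5490, e3 q4404 (flp_g L56596) q3432, e3 q4405 (flp_g L81689) q5543, e3 q4406 (flp_g L81274) q5493, e3 q4407 L56621 q3434, e3 q4408 (flp_g L81719) q5547, e3 q4409 (flp_g L81296) q5496, e3 q4410 L81747 q5551, e3 q4411 (flp_g L81313) q5498, e3 q4412 L81782 q5555, e3 q4413 (flp_g L81330) q5500, e3 q4414 (flp_g L56673) q3439, e3 q4415 L81818 q5559, trivial⟩ (by decide +kernel)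

theorem ce_g_69 : ∀ r, r < 64 → sm gg (Qf (4416 + r)) = Qf (tab Gen.g (4416 + r)) :=
  edges_tab (sm gg) Qf (tab Gen.g) 4416 [(4416, 3440), (4417, 5562), (4418, 5505), (4419, 4419), (4420, 5507), (4421, 5568), (4422, 5509), (4423, 3445), (4424, 5573), (4425, 5512), (4426, 5577), (4427, 3447), (4428, 5580), (4429, 5516), (4430, 4430), (4431, 3450), (4432, 5584), (4433, 4433), (4434, 3452), (4435, 5588), (4436, 5523), (4437, 5592), (4438, 5525), (4439, 5596), (4440, 3456), (4441, 5599), (4442, 5529), (4443, 4443), (4444, 5602), (4445, 3459), (4446, 5605), (4447, 5534), (4448, 5535), (4449, 3461), (4450, 5612), (4451, 4451), (4452, 3463), (4453, 5616), (4454, 3689), (4455, 4455), (4456, 3467), (4457, 5620), (4458, 5621), (4459, 4459), (4460, 3470), (4461, 3471), (4462, 5626), (4463, 3472), (4464, 4464), (4465, 3475), (4466, 5629), (4467, 3476), (4468, 4468), (4469, 3478), (4470, 5633), (4471, 4471), (4472, 3480), (4473, 5636), (4474, 3482), (4475, 4475), (4476, 5639), (4477, 3484), (4478, 3485), (4479, 5643)]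
    ⟨e3 q4416 (flp_g L56692) q3440, e3 q4417 (flp_g L81847) q5562, e3 q4418 (flp_g L81376) q5505, e3 q4419 L56727 q4419, e3 q4420 (flp_g L81396) q5507, e3 q4421 L81901 q5568, e3 q4422 (flp_g L81417) q5509, e3 q4423 (flp_g L56756) q3445, e3 q4424 L81948 q5573, e3 q4425 (flp_g L81443) q5512, e3 q4426 L81975 q5577, e3 q4427 (flp_g L56792) q3447, e3 q4428 (flp_g L82007) q5580, e3 q4429 (flp_g L81476) q5516, e3 q4430 L56825 q4430, e3 q4431 (flp_g L56826) q3450, e3 q4432 (flp_g L82042) q5584, e3 q4433 L56850 q4433, e3 q4434 L56854 q3452, e3 q4435 (flp_g L82071) q5588, e3 q4436 (flp_g L81533) q5523, e3 q4437 L82099 q5592, e3 q4438 (flp_g L81551) q5525, e3 q4439 L82131 q5596, e3 q4440 (flp_g L56898) q3456, e3 q4441 (flp_g L82163) q5599, e3 q4442 (flp_g L81586) q5529, e3 q4443 L56932 q4443, e3 q4444 L82183 q5602, e3 q4445 (flp_g L56940) q3459, e3 q4446 (flp_g L82208) q5605, e3 q4447 (flp_g L81619) q5534, e3 q4448 (flp_g L81629) q5535, e3 q4449 (flp_g L56964) q3461, e3 q4450 (flp_g L82260) q5612, e3 q4451 L56987 q4451, e3 q4452 L56992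 q3463, e3 q4453 (flp_g L82294) q5616, e3 q4454 L57008 q3689, e3 q4455 L57017 q4455, e3 q4456 L57023 q3467, e3 q4457 (flp_g L82321) q5620, e3 q4458 (flp_g L82331) q5621, e3 q4459 L57045 q4459, e3 q4460 L57053 q3470, e3 q4461 (flp_g L57099) q3471, e3 q4462 L82456 q5626, e3 q4463 (flp_g L57117) q3472, e3 q4464 L57154 q4464, e3 q4465 (flp_g L57183) q3475, e3 q4466 L82614 q5629, e3 q4467 (flp_g L57214) q3476, e3 q4468 L57250 q4468, e3 q4469 (flp_g L57251) q3478, e3 q4470 (flp_g L82675) q5633, e3 q4471 L57271 q4471, e3 q4472 L57276 q3480, e3 q4473 L82779 q5636, e3 q4474 (flp_g L57330) q3482, e3 q4475 L57368 q4475, e3 q4476 L82836 q5639, e3 q4477 (flp_g L57379) q3484, e3 q4478 (flp_g L57413) q3485, e3 q4479 (flp_g L82929) q5643, trivial⟩ (by decide +kernel)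

theorem ce_g_70 : ∀ r, r < 64 → sm gg (Qf (4480 + r)) = Qf (tab Gen.g (4480 + r)) :=
  edges_tab (sm gg) Qf (tab Gen.g) 4480 [(4480, 4480), (4481, 3487), (4482, 3705), (4483, 4483), (4484, 3490), (4485, 5649), (4486, 5650), (4487, 4487), (4488, 3493), (4489, 5655), (4490, 3494), (4491, 3495), (4492, 5659), (4493, 4493), (4494, 3497), (4495, 5662), (4496, 3499), (4497, 5666), (4498, 4498), (4499, 3501), (4500, 3723), (4501, 4501), (4502, 3503), (4503, 5672), (4504, 5673), (4505, 4505), (4506, 3506), (4507, 5677), (4508, 3731), (4509, 4509), (4510, 3510), (4511, 3511), (4512, 5683), (4513, 5684), (4514, 4514), (4515, 4515), (4516, 3522), (4517, 3523), (4518, 3524), (4519, 3525), (4520, 3526), (4521, 5696), (4522, 3528), (4523, 3529), (4524, 3530), (4525, 5702), (4526, 3521), (4527, 5689), (4528, 5690), (4529, 5691), (4530, 5707), (4531, 5693), (4532, 5694), (4533, 5712), (4534, 3527), (4535, 5697), (4536, 5698), (4537, 5719), (4538, 5721), (4539, 5701), (4540, 3531), (4541, 3547), (4542, 4542), (4543, 5727)]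
    ⟨e3 q4480 L57439 q4480, e3 q4481 L57445 q3487, e3 q4482 L57463 q3705, e3 q4483 L57473 q4483, e3 q4484 L57480 q3490, e3 q4485 (flp_g L82996) q5649, e3 q4486 (flp_g L83004) q5650, e3 q4487 L57504 q4487, e3 q4488 L57512 q3493, e3 q4489 L83086 q5655, e3 q4490 (flp_g L57543) q3494, e3 q4491 (flp_g L57579) q3495, e3 q4492 (flp_g L83174) q5659, e3 q4493 L57604 q4493, e3 q4494 L57611 q3497, e3 q4495 L83214 q5662, e3 q4496 (flp_g L57630) q3499, e3 q4497 (flp_g L83250) q5666, e3 q4498 L57654 q4498, e3 q4499 L57661 q3501, e3 q4500 L57693 q3723, e3 q4501 L57701 q4501, e3 q4502 L57708 q3503, e3 q4503 (flp_g L83346) q5672, e3 q4504 (flp_g L83355) q5673, e3 q4505 L57732 q4505, e3 q4506 L57742 q3506, e3 q4507 L83382 q5677, e3 q4508 L57758 q3731, e3 q4509 L57766 q4509, e3 q4510 L57772 q3510, e3 q4511 L57781 q3511, e3 q4512 (flp_g L83435) q5683, e3 q4513 (flp_g L83444) q5684, e3 q4514 L57806 q4514, e3 q4515 L57818 q4515, e3 q4516 L57826 q3522, e3 q4517 L57835 q3523, e3 q4518 L57847 q3524, e3 q4519 L57856 q3525, e3 q4520 L57868 q3526, e3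 q4521 L83575 q5696, e3 q4522 L57888 q3528, e3 q4523 L57899 q3529, e3 q4524 L57906 q3530, e3 q4525 L83628 q5702, e3 q4526 (flp_g L57918) q3521, e3 q4527 (flp_g L83484) q5689, e3 q4528 (flp_g L83495) q5690, e3 q4529 (flp_g L83519) q5691, e3 q4530 L83722 q5707, e3 q4531 (flp_g L83552) q5693, e3 q4532 (flp_g L83560) q5694, e3 q4533 L83779 q5712, e3 q4534 (flp_g L58022) q3527, e3 q4535 (flp_g L83593) q5697, e3 q4536 (flp_g L83601) q5698, e3 q4537 L83841 q5719, e3 q4538 L83858 q5721, e3 q4539 (flp_g L83624) q5701, e3 q4540 (flp_g L58074) q3531, e3 q4541 L58091 q3547, e3 q4542 L58107 q4542, e3 q4543 L83925 q5727, trivial⟩ (by decide +kernel)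

theorem ce_g_71 : ∀ r, r < 64 → sm gg (Qf (4544 + r)) = Qf (tab Gen.g (4544 + r)) :=
  edges_tab (sm gg) Qf (tab Gen.g) 4544 [(4544, 4544), (4545, 5730), (4546, 3536), (4547, 4547), (4548, 5735), (4549, 5737), (4550, 4550), (4551, 3539), (4552, 5713), (4553, 4553), (4554, 5742), (4555, 4555), (4556, 5745), (4557, 4557), (4558, 3543), (4559, 5749), (4560, 3544), (4561, 5752), (4562, 4562), (4563, 5724), (4564, 4564), (4565, 5756), (4566, 3549), (4567, 4567), (4568, 5761), (4569, 5763), (4570, 4570), (4571, 3552), (4572, 3569), (4573, 4573), (4574, 5770), (4575, 4575), (4576, 5774), (4577, 4577), (4578, 3556), (4579, 5778), (4580, 3557), (4581, 5781), (4582, 4582), (4583, 3580), (4584, 5784), (4585, 3582), (4586, 3562), (4587, 5757), (4588, 3585), (4589, 5791), (4590, 3587), (4591, 3565), (4592, 5795), (4593, 3566), (4594, 5798), (4595, 3592), (4596, 5766), (4597, 3594), (4598, 5804), (4599, 3596), (4600, 3571), (4601, 5809), (4602, 3599), (4603, 5813), (4604, 3573), (4605, 5816), (4606, 3603), (4607, 5777)]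
    ⟨e3 q4544 L58145 q4544, e3 q4545 L83978 q5730, e3 q4546 (flp_g L58158) q3536, e3 q4547 L58183 q4547, e3 q4548 L84040 q5735, e3 q4549 L84059 q5737, e3 q4550 L58208 q4550, e3 q4551 (flp_g L58209) q3539, e3 q4552 (flp_g L83798) q5713, e3 q4553 L58235 q4553, e3 q4554 L84112 q5742, e3 q4555 L58248 q4555, e3 q4556 L84142 q5745, e3 q4557 L58262 q4557, e3 q4558 (flp_g L58264) q3543, e3 q4559 L84172 q5749, e3 q4560 (flp_g L58280) q3544, e3 q4561 (flp_g L84198) q5752, e3 q4562 L58299 q4562, e3 q4563 (flp_g L83888) q5724, e3 q4564 L58336 q4564, e3 q4565 L84260 q5756, e3 q4566 (flp_g L58352) q3549, e3 q4567 L58378 q4567, e3 q4568 L84330 q5761, e3 q4569 L84348 q5763, e3 q4570 L58409 q4570, e3 q4571 (flp_g L58412) q3552, e3 q4572 L58430 q3569, e3 q4573 L58437 q4573, e3 q4574 L84414 q5770, e3 q4575 L58452 q4575, e3 q4576 L84448 q5774, e3 q4577 L58471 q4577, e3 q4578 (flp_g L58475) q3556, e3 q4579 L84482 q5778, e3 q4580 (flp_g L58490) q3557, e3 q4581 (flp_g L84514) q5781, e3 q4582 L58514 q4582, e3 q4583 L58524 q3580, e3 q4584 L84588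 q5784, e3 q4585 L58567 q3582, e3 q4586 (flp_g L58571) q3562, e3 q4587 (flp_g L84279) q5757, e3 q4588 L58612 q3585, e3 q4589 L84686 q5791, e3 q4590 L58632 q3587, e3 q4591 (flp_g L58634) q3565, e3 q4592 L84720 q5795, e3 q4593 (flp_g L58651) q3566, e3 q4594 (flp_g L84754) q5798, e3 q4595 L58674 q3592, e3 q4596 (flp_g L84385) q5766, e3 q4597 L58691 q3594, e3 q4598 L84795 q5804, e3 q4599 L58707 q3596, e3 q4600 (flp_g L58710) q3571, e3 q4601 L84836 q5809, e3 q4602 L58734 q3599, e3 q4603 L84871 q5813, e3 q4604 (flp_g L58740) q3573, e3 q4605 (flp_g L84897) q5816, e3 q4606 L58760 q3603, e3 q4607 (flp_g L84480) q5777, trivial⟩ (by decide +kernel)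

theorem ce_g_72 : ∀ r, r < 64 → sm gg (Qf (4608 + r)) = Qf (tab Gen.g (4608 + r)) :=
  edges_tab (sm gg) Qf (tab Gen.g) 4608 [(4608, 3576), (4609, 5820), (4610, 5780), (4611, 3578), (4612, 5824), (4613, 5825), (4614, 3581), (4615, 5828), (4616, 5786), (4617, 4617), (4618, 5831), (4619, 5789), (4620, 5834), (4621, 3586), (4622, 5837), (4623, 5793), (4624, 4624), (4625, 3589), (4626, 5841), (4627, 4627), (4628, 3591), (4629, 5845), (4630, 5800), (4631, 5849), (4632, 5802), (4633, 5853), (4634, 3595), (4635, 5856), (4636, 5806), (4637, 4637), (4638, 5859), (4639, 3598), (4640, 5862), (4641, 5811), (4642, 5812), (4643, 3600), (4644, 5869), (4645, 4645), (4646, 3602), (4647, 5873), (4648, 5455), (4649, 4649), (4650, 3606), (4651, 5877), (4652, 5878), (4653, 4653), (4654, 3609), (4655, 4655), (4656, 5885), (4657, 4657), (4658, 5889), (4659, 4659), (4660, 3612), (4661, 5893), (4662, 3613), (4663, 5896), (4664, 4664), (4665, 3638), (4666, 4666), (4667, 5902), (4668, 4668), (4669, 3618), (4670, 5907), (4671, 4671)]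
    ⟨e3 q4608 (flp_g L58771) q3576, e3 q4609 (flp_g L84928) q5820, e3 q4610 (flp_g L84506) q5780, e3 q4611 L58801 q3578, e3 q4612 (flp_g L84959) q5824, e3 q4613 L85059 q5825, e3 q4614 (flp_g L58874) q3581, e3 q4615 (flp_g L85087) q5828, e3 q4616 (flp_g L84612) q5786, e3 q4617 L58908 q4617, e3 q4618 L85183 q5831, e3 q4619 (flp_g L84678) q5789, e3 q4620 L85218 q5834, e3 q4621 (flp_g L58970) q3586, e3 q4622 (flp_g L85247) q5837, e3 q4623 (flp_g L84706) q5793, e3 q4624 L59001 q4624, e3 q4625 (flp_g L59002) q3589, e3 q4626 (flp_g L85284) q5841, e3 q4627 L59029 q4627, e3 q4628 L59035 q3591, e3 q4629 (flp_g L85314) q5845, e3 q4630 (flp_g L84769) q5800, e3 q4631 L85343 q5849, e3 q4632 (flp_g L84788) q5802, e3 q4633 L85375 q5853, e3 q4634 (flp_g L59078) q3595, e3 q4635 (flp_g L85404) q5856, e3 q4636 (flp_g L84818) q5806, e3 q4637 L59110 q4637, e3 q4638 L85424 q5859, e3 q4639 (flp_g L59118) q3598, e3 q4640 (flp_g L85456) q5862, e3 q4641 (flp_g L84858) q5811, e3 q4642 (flp_g L84869) q5812, e3 q4643 (flp_g L59150) q3600, e3 q4644 (flp_g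 L85512) q5869, e3 q4645 L59170 q4645, e3 q4646 L59175 q3602, e3 q4647 (flp_g L85541) q5873, e3 q4648 (flp_g L80921) q5455, e3 q4649 L59200 q4649, e3 q4650 L59208 q3606, e3 q4651 (flp_g L85571) q5877, e3 q4652 (flp_g L85582) q5878, e3 q4653 L59229 q4653, e3 q4654 L59239 q3609, e3 q4655 L59246 q4655, e3 q4656 L85639 q5885, e3 q4657 L59266 q4657, e3 q4658 L85677 q5889, e3 q4659 L59287 q4659, e3 q4660 (flp_g L59291) q3612, e3 q4661 L85718 q5893, e3 q4662 (flp_g L59310) q3613, e3 q4663 (flp_g L85747) q5896, e3 q4664 L59330 q4664, e3 q4665 L59345 q3638, e3 q4666 L59351 q4666, e3 q4667 L85795 q5902, e3 q4668 L59370 q4668, e3 q4669 (flp_g L59375) q3618, e3 q4670 L85843 q5907, e3 q4671 L59398 q4671, trivial⟩ (by decide +kernel)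

theorem ce_g_73 : ∀ r, r < 64 → sm gg (Qf (4672 + r)) = Qf (tab Gen.g (4672 + r)) :=
  edges_tab (sm gg) Qf (tab Gen.g) 4672 [(4672, 5911), (4673, 3620), (4674, 5914), (4675, 4675), (4676, 3649), (4677, 3623), (4678, 5918), (4679, 3652), (4680, 3625), (4681, 5922), (4682, 3655), (4683, 5927), (4684, 3657), (4685, 3629), (4686, 5932), (4687, 3660), (4688, 5936), (4689, 3631), (4690, 5939), (4691, 3664), (4692, 5892), (4693, 3634), (4694, 5943), (4695, 5895), (4696, 3636), (4697, 5947), (4698, 3671), (4699, 5950), (4700, 3673), (4701, 5953), (4702, 3640), (4703, 5956), (4704, 3677), (4705, 5905), (4706, 5959), (4707, 3643), (4708, 5962), (4709, 3682), (4710, 3683), (4711, 3645), (4712, 5969), (4713, 5913), (4714, 3647), (4715, 5973), (4716, 5541), (4717, 5917), (4718, 3651), (4719, 5977), (4720, 5978), (4721, 5921), (4722, 3654), (4723, 5923), (4724, 5984), (4725, 5925), (4726, 5987), (4727, 3656), (4728, 5990), (4729, 5929), (4730, 4730), (4731, 5993), (4732, 3659), (4733, 5996), (4734, 5934), (4735, 5935)]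
    ⟨e3 q4672 L85874 q5911, e3 q4673 (flp_g L59408) q3620, e3 q4674 (flp_g L85903) q5914, e3 q4675 L59431 q4675, e3 q4676 L59444 q3649, e3 q4677 (flp_g L59446) q3623, e3 q4678 (flp_g L85935) q5918, e3 q4679 L59465 q3652, e3 q4680 L59471 q3625, e3 q4681 (flp_g L85968) q5922, e3 q4682 L59488 q3655, e3 q4683 L86005 q5927, e3 q4684 L59508 q3657, e3 q4685 (flp_g L59511) q3629, e3 q4686 L86053 q5932, e3 q4687 L59536 q3660, e3 q4688 L86084 q5936, e3 q4689 (flp_g L59545) q3631, e3 q4690 (flp_g L86115) q5939, e3 q4691 L59567 q3664, e3 q4692 (flp_g L85716) q5892, e3 q4693 (flp_g L59583) q3634, e3 q4694 (flp_g L86148) q5943, e3 q4695 (flp_g L85741) q5895, e3 q4696 L59610 q3636, e3 q4697 (flp_g L86176) q5947, e3 q4698 L59625 q3671, e3 q4699 L86200 q5950, e3 q4700 L59642 q3673, e3 q4701 L86236 q5953, e3 q4702 (flp_g L59650) q3640, e3 q4703 (flp_g L86267) q5956, e3 q4704 L59675 q3677, e3 q4705 (flp_g L85835) q5905, e3 q4706 L86285 q5959, e3 q4707 (flp_g L59693) q3643, e3 q4708 (flp_g L86311) q5962, e3 q4709 L59709 q3682, e3 q4710 L59719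 q3683, e3 q4711 (flp_g L59721) q3645, e3 q4712 (flp_g L86363) q5969, e3 q4713 (flp_g L85896) q5913, e3 q4714 L59748 q3647, e3 q4715 (flp_g L86396) q5973, e3 q4716 (flp_g L81676) q5541, e3 q4717 (flp_g L85928) q5917, e3 q4718 L59777 q3651, e3 q4719 (flp_g L86423) q5977, e3 q4720 (flp_g L86433) q5978, e3 q4721 (flp_g L85956) q5921, e3 q4722 L59806 q3654, e3 q4723 (flp_g L85974) q5923, e3 q4724 L86482 q5984, e3 q4725 (flp_g L85995) q5925, e3 q4726 L86518 q5987, e3 q4727 (flp_g L59844) q3656, e3 q4728 (flp_g L86552) q5990, e3 q4729 (flp_g L86030) q5929, e3 q4730 L59883 q4730, e3 q4731 L86575 q5993, e3 q4732 (flp_g L59891) q3659, e3 q4733 (flp_g L86603) q5996, e3 q4734 (flp_g L86071) q5934, e3 q4735 (flp_g L86080) q5935, trivial⟩ (by decide +kernel)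

theorem ce_g_74 : ∀ r, r < 64 → sm gg (Qf (4736 + r)) = Qf (tab Gen.g (4736 + r)) :=
  edges_tab (sm gg) Qf (tab Gen.g) 4736 [(4736, 3661), (4737, 6002), (4738, 4738), (4739, 3663), (4740, 6006), (4741, 5582), (4742, 4742), (4743, 3667), (4744, 6010), (4745, 6011), (4746, 4746), (4747, 3670), (4748, 6016), (4749, 6018), (4750, 3672), (4751, 6021), (4752, 5952), (4753, 3674), (4754, 6025), (4755, 4755), (4756, 3676), (4757, 6029), (4758, 6030), (4759, 3679), (4760, 6034), (4761, 4761), (4762, 3681), (4763, 6038), (4764, 6039), (4765, 5965), (4766, 5966), (4767, 5610), (4768, 4768), (4769, 3685), (4770, 6047), (4771, 6048), (4772, 4772), (4773, 3688), (4774, 6052), (4775, 5618), (4776, 4776), (4777, 3692), (4778, 3693), (4779, 6058), (4780, 6059), (4781, 4781), (4782, 3696), (4783, 4783), (4784, 6065), (4785, 3699), (4786, 4786), (4787, 5641), (4788, 4788), (4789, 3702), (4790, 6072), (4791, 4791), (4792, 6074), (4793, 5647), (4794, 4794), (4795, 3708), (4796, 3709), (4797, 6080), (4798, 6081), (4799, 4799)]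
    ⟨e3 q4736 (flp_g L59919) q3661, e3 q4737 (flp_g L86659) q6002, e3 q4738 L59944 q4738, e3 q4739 L59949 q3663, e3 q4740 (flp_g L86691) q6006, e3 q4741 (flp_g L82025) q5582, e3 q4742 L59978 q4742, e3 q4743 L59984 q3667, e3 q4744 (flp_g L86720) q6010, e3 q4745 (flp_g L86730) q6011, e3 q4746 L60004 q4746, e3 q4747 L60012 q3670, e3 q4748 L86763 q6016, e3 q4749 L86800 q6018, e3 q4750 (flp_g L60037) q3672, e3 q4751 (flp_g L86832) q6021, e3 q4752 (flp_g L86234) q5952, e3 q4753 (flp_g L60070) q3674, e3 q4754 (flp_g L86896) q6025, e3 q4755 L60094 q4755, e3 q4756 L60100 q3676, e3 q4757 (flp_g L86933) q6029, e3 q4758 L86935 q6030, e3 q4759 (flp_g L60121) q3679, e3 q4760 (flp_g L86967) q6034, e3 q4761 L60140 q4761, e3 q4762 L60145 q3681, e3 q4763 (flp_g L86988) q6038, e3 q4764 (flp_g L86998) q6039, e3 q4765 (flp_g L86331) q5965, e3 q4766 (flp_g L86341) q5966, e3 q4767 (flp_g L82243) q5610, e3 q4768 L60191 q4768, e3 q4769 L60198 q3685, e3 q4770 (flp_g L87064) q6047, e3 q4771 (flp_g L87076) q6048, e3 q4772 L60220 q4772, e3 q4773 L60231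 q3688, e3 q4774 L87103 q6052, e3 q4775 (flp_g L82308) q5618, e3 q4776 L60250 q4776, e3 q4777 L60256 q3692, e3 q4778 L60267 q3693, e3 q4779 (flp_g L87151) q6058, e3 q4780 (flp_g L87162) q6059, e3 q4781 L60290 q4781, e3 q4782 (flp_g L60360) q3696, e3 q4783 L60387 q4783, e3 q4784 L87389 q6065, e3 q4785 (flp_g L60416) q3699, e3 q4786 L60443 q4786, e3 q4787 (flp_g L82912) q5641, e3 q4788 L60503 q4788, e3 q4789 L60510 q3702, e3 q4790 (flp_g L87535) q6072, e3 q4791 L60532 q4791, e3 q4792 L87571 q6074, e3 q4793 (flp_g L82982) q5647, e3 q4794 L60568 q4794, e3 q4795 L60574 q3708, e3 q4796 L60583 q3709, e3 q4797 (flp_g L87624) q6080, e3 q4798 (flp_g L87633) q6081, e3 q4799 L60606 q4799, trivial⟩ (by decide +kernel)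

theorem ce_g_75 : ∀ r, r < 64 → sm gg (Qf (4800 + r)) = Qf (tab Gen.g (4800 + r)) :=
  edges_tab (sm gg) Qf (tab Gen.g) 4800 [(4800, 6085), (4801, 3712), (4802, 4802), (4803, 5657), (4804, 4804), (4805, 3715), (4806, 6092), (4807, 4807), (4808, 3718), (4809, 6096), (4810, 5664), (4811, 4811), (4812, 3720), (4813, 6102), (4814, 4814), (4815, 6104), (4816, 5670), (4817, 4817), (4818, 3726), (4819, 3727), (4820, 6110), (4821, 6111), (4822, 4822), (4823, 3730), (4824, 6115), (4825, 5679), (4826, 5680), (4827, 4827), (4828, 4828), (4829, 3735), (4830, 3736), (4831, 6123), (4832, 6124), (4833, 6125), (4834, 6130), (4835, 4835), (4836, 6133), (4837, 3739), (4838, 6136), (4839, 4839), (4840, 3760), (4841, 6139), (4842, 3742), (4843, 6142), (4844, 4844), (4845, 4845), (4846, 3744), (4847, 6149), (4848, 3768), (4849, 3746), (4850, 6153), (4851, 4851), (4852, 3772), (4853, 3750), (4854, 6157), (4855, 6158), (4856, 3776), (4857, 3753), (4858, 6163), (4859, 3754), (4860, 6166), (4861, 3781), (4862, 3756), (4863, 6170)]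
    ⟨e3 q4800 L87710 q6085, e3 q4801 (flp_g L60653) q3712, e3 q4802 L60679 q4802, e3 q4803 (flp_g L83157) q5657, e3 q4804 L60713 q4804, e3 q4805 L60721 q3715, e3 q4806 (flp_g L87818) q6092, e3 q4807 L60745 q4807, e3 q4808 (flp_g L60760) q3718, e3 q4809 (flp_g L87877) q6096, e3 q4810 (flp_g L83233) q5664, e3 q4811 L60786 q4811, e3 q4812 L60794 q3720, e3 q4813 (flp_g L87921) q6102, e3 q4814 L60815 q4814, e3 q4815 L87956 q6104, e3 q4816 (flp_g L83331) q5670, e3 q4817 L60848 q4817, e3 q4818 L60855 q3726, e3 q4819 L60865 q3727, e3 q4820 (flp_g L88006) q6110, e3 q4821 (flp_g L88016) q6111, e3 q4822 L60888 q4822, e3 q4823 (flp_g L60891) q3730, e3 q4824 (flp_g L88045) q6115, e3 q4825 (flp_g L83404) q5679, e3 q4826 (flp_g L83413) q5680, e3 q4827 L60921 q4827, e3 q4828 L60932 q4828, e3 q4829 L60940 q3735, e3 q4830 L60950 q3736, e3 q4831 (flp_g L88106) q6123, e3 q4832 (flp_g L88116) q6124, e3 q4833 (flp_g L88123) q6125, e3 q4834 L88179 q6130, e3 q4835 L61002 q4835, e3 q4836 L88219 q6133, e3 q4837 (flp_g L61015) q3739, e3 q4838 (flp_g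 L88255) q6136, e3 q4839 L61039 q4839, e3 q4840 L61053 q3760, e3 q4841 L88277 q6139, e3 q4842 (flp_g L61064) q3742, e3 q4843 (flp_g L88312) q6142, e3 q4844 L61085 q4844, e3 q4845 L61096 q4845, e3 q4846 (flp_g L61100) q3744, e3 q4847 (flp_g L88374) q6149, e3 q4848 L61125 q3768, e3 q4849 L61132 q3746, e3 q4850 (flp_g L88408) q6153, e3 q4851 L61150 q4851, e3 q4852 L61159 q3772, e3 q4853 L61167 q3750, e3 q4854 (flp_g L88441) q6157, e3 q4855 (flp_g L88450) q6158, e3 q4856 L61191 q3776, e3 q4857 L61200 q3753, e3 q4858 L88534 q6163, e3 q4859 (flp_g L61229) q3754, e3 q4860 (flp_g L88571) q6166, e3 q4861 L61263 q3781, e3 q4862 (flp_g L61266) q3756, e3 q4863 (flp_g L88633) q6170, trivial⟩ (by decide +kernel)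

theorem ce_g_76 : ∀ r, r < 64 → sm gg (Qf (4864 + r)) = Qf (tab Gen.g (4864 + r)) :=
  edges_tab (sm gg) Qf (tab Gen.g) 4864 [(4864, 6135), (4865, 3758), (4866, 6174), (4867, 6175), (4868, 3761), (4869, 6179), (4870, 6141), (4871, 3763), (4872, 6183), (4873, 6184), (4874, 3793), (4875, 3794), (4876, 4876), (4877, 6148), (4878, 3767), (4879, 6192), (4880, 6193), (4881, 6152), (4882, 3770), (4883, 6197), (4884, 4884), (4885, 6156), (4886, 3774), (4887, 3775), (4888, 6203), (4889, 6204), (4890, 6161), (4891, 3778), (4892, 6210), (4893, 4893), (4894, 3780), (4895, 6214), (4896, 4896), (4897, 4897), (4898, 3783), (4899, 6218), (4900, 6219), (4901, 4901), (4902, 3786), (4903, 4903), (4904, 4904), (4905, 3788), (4906, 6226), (4907, 6227), (4908, 4908), (4909, 3791), (4910, 3792), (4911, 6233), (4912, 6234), (4913, 6237), (4914, 6188), (4915, 6239), (4916, 4916), (4917, 4917), (4918, 3798), (4919, 3799), (4920, 6245), (4921, 6246), (4922, 4922), (4923, 3802), (4924, 6250), (4925, 4925), (4926, 4926), (4927, 4927)]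
    ⟨e3 q4864 (flp_g L88247) q6135, e3 q4865 L61300 q3758, e3 q4866 (flp_g L88667) q6174, e3 q4867 L88670 q6175, e3 q4868 (flp_g L61318) q3761, e3 q4869 (flp_g L88710) q6179, e3 q4870 (flp_g L88304) q6141, e3 q4871 L61351 q3763, e3 q4872 (flp_g L88739) q6183, e3 q4873 (flp_g L88750) q6184, e3 q4874 L61371 q3793, e3 q4875 L61381 q3794, e3 q4876 L61391 q4876, e3 q4877 (flp_g L88366) q6148, e3 q4878 L61406 q3767, e3 q4879 (flp_g L88818) q6192, e3 q4880 (flp_g L88827) q6193, e3 q4881 (flp_g L88399) q6152, e3 q4882 L61436 q3770, e3 q4883 L88850 q6197, e3 q4884 L61457 q4884, e3 q4885 (flp_g L88434) q6156, e3 q4886 L61469 q3774, e3 q4887 L61478 q3775, e3 q4888 (flp_g L88904) q6203, e3 q4889 (flp_g L88913) q6204, e3 q4890 (flp_g L88474) q6161, e3 q4891 (flp_g L61547) q3778, e3 q4892 (flp_g L89043) q6210, e3 q4893 L61576 q4893, e3 q4894 L61583 q3780, e3 q4895 (flp_g L89086) q6214, e3 q4896 L61627 q4896, e3 q4897 L61638 q4897, e3 q4898 L61646 q3783, e3 q4899 (flp_g L89162) q6218, e3 q4900 (flp_g L89173) q6219, e3 q4901 L61672 q4901,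 e3 q4902 L61680 q3786, e3 q4903 L61690 q4903, e3 q4904 L61700 q4904, e3 q4905 L61708 q3788, e3 q4906 (flp_g L89232) q6226, e3 q4907 (flp_g L89242) q6227, e3 q4908 L61731 q4908, e3 q4909 L61737 q3791, e3 q4910 L61746 q3792, e3 q4911 (flp_g L89286) q6233, e3 q4912 (flp_g L89295) q6234, e3 q4913 L89320 q6237, e3 q4914 (flp_g L88777) q6188, e3 q4915 L89341 q6239, e3 q4916 L61799 q4916, e3 q4917 L61806 q4917, e3 q4918 L61813 q3798, e3 q4919 L61823 q3799, e3 q4920 (flp_g L89396) q6245, e3 q4921 (flp_g L89406) q6246, e3 q4922 L61844 q4922, e3 q4923 (flp_g L61848) q3802, e3 q4924 (flp_g L89436) q6250, e3 q4925 L61870 q4925, e3 q4926 L61879 q4926, e3 q4927 L61884 q4927, trivial⟩ (by decide +kernel)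

theorem ce_g_77 : ∀ r, r < 64 → sm gg (Qf (4928 + r)) = Qf (tab Gen.g (4928 + r)) :=
  edges_tab (sm gg) Qf (tab Gen.g) 4928 [(4928, 4928), (4929, 3807), (4930, 3808), (4931, 6258), (4932, 6259), (4933, 6260), (4934, 6264), (4935, 4935), (4936, 4936), (4937, 3813), (4938, 3814), (4939, 6270), (4940, 6271), (4941, 4941), (4942, 3817), (4943, 3838), (4944, 4944), (4945, 4945), (4946, 4946), (4947, 4947), (4948, 3822), (4949, 3823), (4950, 6281), (4951, 6282), (4952, 6283), (4953, 3834), (4954, 4954), (4955, 4955), (4956, 4956), (4957, 3833), (4958, 3835), (4959, 6287), (4960, 6275), (4961, 6251), (4962, 3837), (4963, 6265), (4964, 4964), (4965, 4965), (4966, 4966), (4967, 4967), (4968, 3854), (4969, 6294), (4970, 3856), (4971, 3857), (4972, 4120), (4973, 3848), (4974, 3860), (4975, 3861), (4976, 4118), (4977, 6298), (4978, 3855), (4979, 6295), (4980, 6302), (4981, 4082), (4982, 3858), (4983, 3873), (4984, 6296), (4985, 6301), (4986, 6297), (4987, 4079), (4988, 4116), (4989, 3862), (4990, 3867), (4991, 6299)]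
    ⟨e3 q4928 L61895 q4928, e3 q4929 L61902 q3807, e3 q4930 L61912 q3808, e3 q4931 (flp_g L89500) q6258, e3 q4932 (flp_g L89510) q6259, e3 q4933 (flp_g L89515) q6260, e3 q4934 L89544 q6264, e3 q4935 L61956 q4935, e3 q4936 L61965 q4936, e3 q4937 L61973 q3813, e3 q4938 L61983 q3814, e3 q4939 (flp_g L89608) q6270, e3 q4940 (flp_g L89618) q6271, e3 q4941 L62009 q4941, e3 q4942 (flp_g L62013) q3817, e3 q4943 (flp_g L628064) q3838, e3 q4944 L62038 q4944, e3 q4945 L62047 q4945, e3 q4946 L62053 q4946, e3 q4947 L62063 q4947, e3 q4948 L62069 q3822, e3 q4949 L62078 q3823, e3 q4950 (flp_g L89711) q6281, e3 q4951 (flp_g L89720) q6282, e3 q4952 (flp_g L89726) q6283, e3 q4953 (flp_g L628311) q3834, e3 q4954 L62134 q4954, e3 q4955 L62140 q4955, e3 q4956 L62149 q4956, e3 q4957 L62170 q3833, e3 q4958 L62184 q3835, e3 q4959 (flp_g L89858) q6287, e3 q4960 (flp_g L647513) q6275, e3 q4961 L647235 q6251, e3 q4962 L62327 q3837, e3 q4963 (flp_g L647527) q6265, e3 q4964 L62379 q4964, e3 q4965 L62391 q4965, e3 q4966 L62404 q4966, e3 q4967 L62477 q4967,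 e3 q4968 L62494 q3854, e3 q4969 L90320 q6294, e3 q4970 L62546 q3856, e3 q4971 L62555 q3857, e3 q4972 L619907 q4120, e3 q4973 (flp_g L62572) q3848, e3 q4974 L62588 q3860, e3 q4975 L62596 q3861, e3 q4976 (flp_g L625437) q4118, e3 q4977 L90646 q6298, e3 q4978 (flp_g L62787) q3855, e3 q4979 (flp_g L90345) q6295, e3 q4980 L90771 q6302, e3 q4981 L626965 q4082, e3 q4982 (flp_g L62844) q3858, e3 q4983 L62863 q3873, e3 q4984 L625473 q6296, e3 q4985 (flp_g L625416) q6301, e3 q4986 (flp_g L90422) q6297, e3 q4987 L625460 q4079, e3 q4988 L625498 q4116, e3 q4989 (flp_g L62907) q3862, e3 q4990 (flp_g L63094) q3867, e3 q4991 (flp_g L90721) q6299, trivial⟩ (by decide +kernel)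

theorem ce_g_78 : ∀ r, r < 64 → sm gg (Qf (4992 + r)) = Qf (tab Gen.g (4992 + r)) :=
  edges_tab (sm gg) Qf (tab Gen.g) 4992 [(4992, 4992), (4993, 6310), (4994, 3870), (4995, 4101), (4996, 3871), (4997, 4100), (4998, 4998), (4999, 6311), (5000, 5000), (5001, 3875), (5002, 6316), (5003, 5003), (5004, 4098), (5005, 3877), (5006, 4095), (5007, 4097), (5008, 3901), (5009, 5009), (5010, 6320), (5011, 3886), (5012, 3973), (5013, 3887), (5014, 3907), (5015, 5015), (5016, 6319), (5017, 5017), (5018, 3891), (5019, 6326), (5020, 5020), (5021, 3971), (5022, 3893), (5023, 3969), (5024, 5024), (5025, 3918), (5026, 3959), (5027, 6331), (5028, 6332), (5029, 3903), (5030, 6313), (5031, 3905), (5032, 4000), (5033, 3930), (5034, 6336), (5035, 3932), (5036, 6333), (5037, 3909), (5038, 6339), (5039, 6309), (5040, 6341), (5041, 3912), (5042, 6344), (5043, 3940), (5044, 3914), (5045, 3998), (5046, 3997), (5047, 3916), (5048, 6348), (5049, 3985), (5050, 3923), (5051, 6350), (5052, 3924), (5053, 3925), (5054, 5054), (5055, 5055)]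
    ⟨e3 q4992 L63188 q4992, e3 q4993 L91332 q6310, e3 q4994 (flp_g L63206) q3870, e3 q4995 (flp_g L625805) q4101, e3 q4996 (flp_g L63225) q3871, e3 q4997 L626846 q4100, e3 q4998 L63267 q4998, e3 q4999 L626865 q6311, e3 q5000 L63283 q5000, e3 q5001 (flp_g L63285) q3875, e3 q5002 L91483 q6316, e3 q5003 L63306 q5003, e3 q5004 L625326 q4098, e3 q5005 (flp_g L63314) q3877, e3 q5006 (flp_g L625285) q4095, e3 q5007 (flp_g L626893) q4097, e3 q5008 L63505 q3901, e3 q5009 L63532 q5009, e3 q5010 L91853 q6320, e3 q5011 (flp_g L63557) q3886, e3 q5012 L623363 q3973, e3 q5013 (flp_g L63575) q3887, e3 q5014 L63617 q3907, e3 q5015 L63624 q5015, e3 q5016 L623299 q6319, e3 q5017 L63644 q5017, e3 q5018 (flp_g L63648) q3891, e3 q5019 L92031 q6326, e3 q5020 L63671 q5020, e3 q5021 (flp_g L623312) q3971, e3 q5022 (flp_g L63681) q3893, e3 q5023 (flp_g L623349) q3969, e3 q5024 L63703 q5024, e3 q5025 L63712 q3918, e3 q5026 L626236 q3959, e3 q5027 L92500 q6331, e3 q5028 L92535 q6332, e3 q5029 (flp_g L63986) q3903, e3 q5030 L626753 q6313, e3 q5031 (flp_g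 L64019) q3905, e3 q5032 L626749 q4000, e3 q5033 L64073 q3930, e3 q5034 L92671 q6336, e3 q5035 L64092 q3932, e3 q5036 L606502 q6333, e3 q5037 (flp_g L64101) q3909, e3 q5038 (flp_g L92738) q6339, e3 q5039 (flp_g L625359) q6309, e3 q5040 L92755 q6341, e3 q5041 (flp_g L64146) q3912, e3 q5042 (flp_g L92788) q6344, e3 q5043 L64166 q3940, e3 q5044 (flp_g L64178) q3914, e3 q5045 (flp_g L624882) q3998, e3 q5046 L622876 q3997, e3 q5047 L64205 q3916, e3 q5048 (flp_g L92872) q6348, e3 q5049 (flp_g L623068) q3985, e3 q5050 L64277 q3923, e3 q5051 L93425 q6350, e3 q5052 (flp_g L64600) q3924, e3 q5053 (flp_g L64632) q3925, e3 q5054 L64657 q5054, e3 q5055 L64682 q5055, trivial⟩ (by decide +kernel)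

theorem ce_g_79 : ∀ r, r < 64 → sm gg (Qf (5056 + r)) = Qf (tab Gen.g (5056 + r)) :=
  edges_tab (sm gg) Qf (tab Gen.g) 5056 [(5056, 5056), (5057, 6355), (5058, 6357), (5059, 3931), (5060, 6360), (5061, 3933), (5062, 6361), (5063, 5063), (5064, 3935), (5065, 6364), (5066, 3937), (5067, 6368), (5068, 5068), (5069, 3939), (5070, 6371), (5071, 6346), (5072, 5072), (5073, 5073), (5074, 3942), (5075, 4069), (5076, 6374), (5077, 5077), (5078, 3945), (5079, 3950), (5080, 4053), (5081, 5081), (5082, 5082), (5083, 6380), (5084, 3954), (5085, 6383), (5086, 5086), (5087, 6329), (5088, 3956), (5089, 6379), (5090, 3982), (5091, 4178), (5092, 3961), (5093, 4183), (5094, 6386), (5095, 6324), (5096, 3965), (5097, 3991), (5098, 6327), (5099, 3967), (5100, 6325), (5101, 5101), (5102, 6391), (5103, 6392), (5104, 3975), (5105, 6381), (5106, 6395), (5107, 3977), (5108, 6398), (5109, 3979), (5110, 6393), (5111, 6347), (5112, 3981), (5113, 3984), (5114, 4188), (5115, 4192), (5116, 4186), (5117, 3987), (5118, 6400), (5119, 3988)]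
    ⟨e3 q5056 L64694 q5056, e3 q5057 L93639 q6355, e3 q5058 L93682 q6357, e3 q5059 (flp_g L64770) q3931, e3 q5060 (flp_g L93713) q6360, e3 q5061 (flp_g L64799) q3933, e3 q5062 (flp_g L93773) q6361, e3 q5063 L64826 q5063, e3 q5064 L64833 q3935, e3 q5065 L93814 q6364, e3 q5066 (flp_g L64853) q3937, e3 q5067 (flp_g L93852) q6368, e3 q5068 L64877 q5068, e3 q5069 L64884 q3939, e3 q5070 (flp_g L93883) q6371, e3 q5071 (flp_g L92810) q6346, e3 q5072 L64923 q5072, e3 q5073 L64931 q5073, e3 q5074 L64938 q3942, e3 q5075 (flp_g L624642) q4069, e3 q5076 (flp_g L93969) q6374, e3 q5077 L64960 q5077, e3 q5078 L64969 q3945, e3 q5079 L65017 q3950, e3 q5080 (flp_g L624035) q4053, e3 q5081 L65036 q5081, e3 q5082 L65044 q5082, e3 q5083 L94114 q6380, e3 q5084 (flp_g L65072) q3954, e3 q5085 L94171 q6383, e3 q5086 L65096 q5086, e3 q5087 L623368 q6329, e3 q5088 (flp_g L65109) q3956, e3 q5089 (flp_g L621882) q6379, e3 q5090 L65147 q3982, e3 q5091 (flp_g L626277) q4178, e3 q5092 L65183 q3961, e3 q5093 (flp_g L623381) q4183, e3 q5094 L94345 q6386, e3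 q5095 (flp_g L623283) q6324, e3 q5096 (flp_g L65233) q3965, e3 q5097 L65276 q3991, e3 q5098 (flp_g L606719) q6327, e3 q5099 (flp_g L65285) q3967, e3 q5100 (flp_g L622535) q6325, e3 q5101 L65300 q5101, e3 q5102 L94667 q6391, e3 q5103 L94703 q6392, e3 q5104 (flp_g L65456) q3975, e3 q5105 (flp_g L94160) q6381, e3 q5106 L94763 q6395, e3 q5107 (flp_g L65508) q3977, e3 q5108 (flp_g L94792) q6398, e3 q5109 (flp_g L65536) q3979, e3 q5110 L622795 q6393, e3 q5111 L622817 q6347, e3 q5112 L65568 q3981, e3 q5113 L65605 q3984, e3 q5114 (flp_g L623424) q4188, e3 q5115 L626099 q4192, e3 q5116 L623034 q4186, e3 q5117 L65639 q3987, e3 q5118 L94999 q6400, e3 q5119 (flp_g L65665) q3988, trivial⟩ (by decide +kernel)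

theorem ce_g_80 : ∀ r, r < 64 → sm gg (Qf (5120 + r)) = Qf (tab Gen.g (5120 + r)) :=
  edges_tab (sm gg) Qf (tab Gen.g) 5120 [(5120, 3989), (5121, 6338), (5122, 6402), (5123, 3992), (5124, 6343), (5125, 6342), (5126, 3994), (5127, 6405), (5128, 4030), (5129, 6409), (5130, 4002), (5131, 4003), (5132, 5132), (5133, 6413), (5134, 4006), (5135, 6417), (5136, 5136), (5137, 4008), (5138, 5138), (5139, 5139), (5140, 4010), (5141, 6420), (5142, 5142), (5143, 5143), (5144, 5144), (5145, 4016), (5146, 4017), (5147, 4228), (5148, 5148), (5149, 6422), (5150, 4020), (5151, 5151), (5152, 5152), (5153, 5153), (5154, 4024), (5155, 6428), (5156, 5156), (5157, 5157), (5158, 4026), (5159, 6431), (5160, 5160), (5161, 4029), (5162, 6434), (5163, 6436), (5164, 6437), (5165, 4037), (5166, 5166), (5167, 5167), (5168, 5168), (5169, 4040), (5170, 6443), (5171, 5171), (5172, 4043), (5173, 6447), (5174, 5174), (5175, 5175), (5176, 4045), (5177, 6453), (5178, 5178), (5179, 6376), (5180, 5180), (5181, 5181), (5182, 4051), (5183, 6455)]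
    ⟨e3 q5120 (flp_g L65698) q3989, e3 q5121 (flp_g L622755) q6338, e3 q5122 L95141 q6402, e3 q5123 (flp_g L65752) q3992, e3 q5124 L622675 q6343, e3 q5125 (flp_g L622586) q6342, e3 q5126 L65777 q3994, e3 q5127 (flp_g L95193) q6405, e3 q5128 L65795 q4030, e3 q5129 L95452 q6409, e3 q5130 (flp_g L65961) q4002, e3 q5131 (flp_g L65994) q4003, e3 q5132 L66026 q5132, e3 q5133 L95601 q6413, e3 q5134 (flp_g L66056) q4006, e3 q5135 (flp_g L95637) q6417, e3 q5136 L66078 q5136, e3 q5137 L66083 q4008, e3 q5138 L66119 q5138, e3 q5139 L66130 q5139, e3 q5140 L66137 q4010, e3 q5141 (flp_g L95733) q6420, e3 q5142 L66162 q5142, e3 q5143 L66191 q5143, e3 q5144 L66198 q5144, e3 q5145 L66205 q4016, e3 q5146 L66216 q4017, e3 q5147 (flp_g L604888) q4228, e3 q5148 L66244 q5148, e3 q5149 L95943 q6422, e3 q5150 (flp_g L66293) q4020, e3 q5151 L66317 q5151, e3 q5152 L66369 q5152, e3 q5153 L66380 q5153, e3 q5154 (flp_g L66424) q4024, e3 q5155 (flp_g L96142) q6428, e3 q5156 L66440 q5156, e3 q5157 L66447 q5157, e3 q5158 L66454 q4026, e3 q5159 (flp_g L96181)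 q6431, e3 q5160 L66473 q5160, e3 q5161 L66478 q4029, e3 q5162 (flp_g L96223) q6434, e3 q5163 L96254 q6436, e3 q5164 L96408 q6437, e3 q5165 (flp_g L66648) q4037, e3 q5166 L66678 q5166, e3 q5167 L66716 q5167, e3 q5168 L66727 q5168, e3 q5169 L66736 q4040, e3 q5170 (flp_g L96536) q6443, e3 q5171 L66756 q5171, e3 q5172 (flp_g L66761) q4043, e3 q5173 (flp_g L96567) q6447, e3 q5174 L66781 q5174, e3 q5175 L66791 q5175, e3 q5176 L66799 q4045, e3 q5177 (flp_g L96617) q6453, e3 q5178 L66814 q5178, e3 q5179 L624670 q6376, e3 q5180 L66855 q5180, e3 q5181 L66863 q5181, e3 q5182 L66871 q4051, e3 q5183 (flp_g L96704) q6455, trivial⟩ (by decide +kernel)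

theorem ce_g_81 : ∀ r, r < 64 → sm gg (Qf (5184 + r)) = Qf (tab Gen.g (5184 + r)) :=
  edges_tab (sm gg) Qf (tab Gen.g) 5184 [(5184, 4210), (5185, 5185), (5186, 5186), (5187, 4057), (5188, 6459), (5189, 6461), (5190, 4058), (5191, 5191), (5192, 4060), (5193, 6467), (5194, 5194), (5195, 5195), (5196, 6362), (5197, 5197), (5198, 5198), (5199, 4066), (5200, 6474), (5201, 6375), (5202, 6476), (5203, 4070), (5204, 4071), (5205, 4087), (5206, 6478), (5207, 4074), (5208, 6305), (5209, 4091), (5210, 4076), (5211, 6481), (5212, 5212), (5213, 6484), (5214, 4084), (5215, 6477), (5216, 6314), (5217, 4088), (5218, 6488), (5219, 6317), (5220, 4090), (5221, 6491), (5222, 6315), (5223, 4093), (5224, 6495), (5225, 6497), (5226, 5748), (5227, 4231), (5228, 5228), (5229, 4105), (5230, 6500), (5231, 4106), (5232, 6502), (5233, 4107), (5234, 6304), (5235, 4110), (5236, 6506), (5237, 6306), (5238, 4112), (5239, 6509), (5240, 4114), (5241, 6512), (5242, 6514), (5243, 5699), (5244, 4232), (5245, 5245), (5246, 5246), (5247, 5247)]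
    ⟨e3 q5184 (flp_g L624026) q4210, e3 q5185 L66908 q5185, e3 q5186 L66914 q5186, e3 q5187 L66924 q4057, e3 q5188 (flp_g L96766) q6459, e3 q5189 L96785 q6461, e3 q5190 (flp_g L66942) q4058, e3 q5191 L66961 q5191, e3 q5192 (flp_g L66962) q4060, e3 q5193 (flp_g L96839) q6467, e3 q5194 L66983 q5194, e3 q5195 L66993 q5195, e3 q5196 L624420 q6362, e3 q5197 L67009 q5197, e3 q5198 L67015 q5198, e3 q5199 L67019 q4066, e3 q5200 (flp_g L96899) q6474, e3 q5201 L616419 q6375, e3 q5202 L96973 q6476, e3 q5203 (flp_g L67078) q4070, e3 q5204 (flp_g L67115) q4071, e3 q5205 L67147 q4087, e3 q5206 L97128 q6478, e3 q5207 (flp_g L67178) q4074, e3 q5208 L625235 q6305, e3 q5209 L67204 q4091, e3 q5210 L67212 q4076, e3 q5211 (flp_g L97204) q6481, e3 q5212 L67234 q5212, e3 q5213 L97515 q6484, e3 q5214 (flp_g L67447) q4084, e3 q5215 (flp_g L97002) q6477, e3 q5216 (flp_g L626837) q6314, e3 q5217 (flp_g L67580) q4088, e3 q5218 (flp_g L97707) q6488, e3 q5219 (flp_g L625307) q6317, e3 q5220 L67611 q4090, e3 q5221 (flp_g L97737) q6491, e3 q5222 L625075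 q6315, e3 q5223 L67642 q4093, e3 q5224 (flp_g L97788) q6495, e3 q5225 L97815 q6497, e3 q5226 (flp_g L621252) q5748, e3 q5227 (flp_g L602378) q4231, e3 q5228 L67932 q5228, e3 q5229 L67948 q4105, e3 q5230 L98163 q6500, e3 q5231 (flp_g L67979) q4106, e3 q5232 L98303 q6502, e3 q5233 (flp_g L68059) q4107, e3 q5234 (flp_g L609327) q6304, e3 q5235 (flp_g L68183) q4110, e3 q5236 (flp_g L98491) q6506, e3 q5237 (flp_g L609706) q6306, e3 q5238 L68214 q4112, e3 q5239 (flp_g L98521) q6509, e3 q5240 L68236 q4114, e3 q5241 (flp_g L98559) q6512, e3 q5242 L98600 q6514, e3 q5243 L621023 q5699, e3 q5244 (flp_g L619879) q4232, e3 q5245 L68469 q5245, e3 q5246 L68546 q5246, e3 q5247 L68554 q5247, trivial⟩ (by decide +kernel)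

theorem ce_g_82 : ∀ r, r < 64 → sm gg (Qf (5248 + r)) = Qf (tab Gen.g (5248 + r)) :=
  edges_tab (sm gg) Qf (tab Gen.g) 5248 [(5248, 5248), (5249, 5249), (5250, 6520), (5251, 4125), (5252, 5252), (5253, 5253), (5254, 5254), (5255, 5255), (5256, 5256), (5257, 4143), (5258, 5258), (5259, 5259), (5260, 5260), (5261, 5261), (5262, 5262), (5263, 6528), (5264, 4139), (5265, 6524), (5266, 4144), (5267, 4152), (5268, 5268), (5269, 6530), (5270, 5270), (5271, 6533), (5272, 4200), (5273, 5273), (5274, 4202), (5275, 5275), (5276, 5276), (5277, 4204), (5278, 5278), (5279, 5279), (5280, 5280), (5281, 5281), (5282, 6536), (5283, 4222), (5284, 5284), (5285, 5285), (5286, 5286), (5287, 5287), (5288, 4237), (5289, 4238), (5290, 6540), (5291, 6541), (5292, 6547), (5293, 5293), (5294, 5294), (5295, 5295), (5296, 6550), (5297, 4241), (5298, 4244), (5299, 4245), (5300, 6556), (5301, 6552), (5302, 6553), (5303, 6554), (5304, 6562), (5305, 4246), (5306, 5306), (5307, 5307), (5308, 6566), (5309, 6568), (5310, 5310), (5311, 4250)]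
    ⟨e3 q5248 L68558 q5248, e3 q5249 L68564 q5249, e3 q5250 L99035 q6520, e3 q5251 (flp_g L68596) q4125, e3 q5252 L68621 q5252, e3 q5253 L68653 q5253, e3 q5254 L68661 q5254, e3 q5255 L68737 q5255, e3 q5256 L68768 q5256, e3 q5257 L68776 q4143, e3 q5258 L68795 q5258, e3 q5259 L68806 q5259, e3 q5260 L68886 q5260, e3 q5261 L68895 q5261, e3 q5262 L68987 q5262, e3 q5263 L99636 q6528, e3 q5264 (flp_g L69053) q4139, e3 q5265 (flp_g L99289) q6524, e3 q5266 (flp_g L69430) q4144, e3 q5267 L69497 q4152, e3 q5268 L69727 q5268, e3 q5269 (flp_g L100271) q6530, e3 q5270 L70309 q5270, e3 q5271 L108505 q6533, e3 q5272 (flp_g L74984) q4200, e3 q5273 L75012 q5273, e3 q5274 (flp_g L75050) q4202, e3 q5275 L75075 q5275, e3 q5276 L75086 q5276, e3 q5277 L75095 q4204, e3 q5278 L75112 q5278, e3 q5279 L75243 q5279, e3 q5280 L75252 q5280, e3 q5281 L75280 q5281, e3 q5282 L109085 q6536, e3 q5283 (flp_g L75418) q4222, e3 q5284 L75442 q5284, e3 q5285 L75451 q5285, e3 q5286 L78570 q5286, e3 q5287 L79342 q5287, e3 q5288 L79349 q4237, e3 q5289 L79359 q4238,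 e3 q5290 (flp_g L114599) q6540, e3 q5291 (flp_g L114610) q6541, e3 q5292 L114662 q6547, e3 q5293 L79400 q5293, e3 q5294 L79409 q5294, e3 q5295 L79415 q5295, e3 q5296 L114711 q6550, e3 q5297 (flp_g L79428) q4241, e3 q5298 L79442 q4244, e3 q5299 L79454 q4245, e3 q5300 L114771 q6556, e3 q5301 (flp_g L114735) q6552, e3 q5302 (flp_g L114747) q6553, e3 q5303 (flp_g L114756) q6554, e3 q5304 L114828 q6562, e3 q5305 (flp_g L79510) q4246, e3 q5306 L79525 q5306, e3 q5307 L79533 q5307, e3 q5308 L114889 q6566, e3 q5309 L114907 q6568, e3 q5310 L79556 q5310, e3 q5311 (flp_g L79559) q4250, trivial⟩ (by decide +kernel)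

theorem ce_g_83 : ∀ r, r < 64 → sm gg (Qf (5312 + r)) = Qf (tab Gen.g (5312 + r)) :=
  edges_tab (sm gg) Qf (tab Gen.g) 5312 [(5312, 6563), (5313, 5313), (5314, 5314), (5315, 6576), (5316, 6578), (5317, 5317), (5318, 4255), (5319, 4263), (5320, 4264), (5321, 6585), (5322, 4266), (5323, 6589), (5324, 4268), (5325, 4259), (5326, 6593), (5327, 4260), (5328, 6596), (5329, 4273), (5330, 6581), (5331, 6582), (5332, 6602), (5333, 6584), (5334, 4265), (5335, 6607), (5336, 6587), (5337, 6611), (5338, 4267), (5339, 6614), (5340, 6591), (5341, 5341), (5342, 4270), (5343, 6618), (5344, 5344), (5345, 4272), (5346, 6622), (5347, 4280), (5348, 4281), (5349, 6626), (5350, 4283), (5351, 4284), (5352, 4285), (5353, 6632), (5354, 4279), (5355, 6623), (5356, 6624), (5357, 6638), (5358, 4282), (5359, 6627), (5360, 6628), (5361, 6645), (5362, 6647), (5363, 6631), (5364, 4286), (5365, 4298), (5366, 5366), (5367, 6654), (5368, 6656), (5369, 5369), (5370, 4290), (5371, 6639), (5372, 5372), (5373, 6661), (5374, 5374), (5375, 6664)]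
    ⟨e3 q5312 (flp_g L114847) q6563, e3 q5313 L79586 q5313, e3 q5314 L79596 q5314, e3 q5315 L114989 q6576, e3 q5316 L115006 q6578, e3 q5317 L79625 q5317, e3 q5318 (flp_g L79630) q4255, e3 q5319 L79648 q4263, e3 q5320 L79655 q4264, e3 q5321 L115073 q6585, e3 q5322 L79671 q4266, e3 q5323 L115105 q6589, e3 q5324 L79688 q4268, e3 q5325 (flp_g L79692) q4259, e3 q5326 L115142 q6593, e3 q5327 (flp_g L79708) q4260, e3 q5328 (flp_g L115171) q6596, e3 q5329 L79732 q4273, e3 q5330 (flp_g L115044) q6581, e3 q5331 (flp_g L115051) q6582, e3 q5332 L115218 q6602, e3 q5333 (flp_g L115069) q6584, e3 q5334 (flp_g L79771) q4265, e3 q5335 L115265 q6607, e3 q5336 (flp_g L115097) q6587, e3 q5337 L115295 q6611, e3 q5338 (flp_g L79804) q4267, e3 q5339 (flp_g L115323) q6614, e3 q5340 (flp_g L115129) q6591, e3 q5341 L79838 q5341, e3 q5342 (flp_g L79839) q4270, e3 q5343 (flp_g L115359) q6618, e3 q5344 L79862 q5344, e3 q5345 L79867 q4272, e3 q5346 (flp_g L115393) q6622, e3 q5347 L79886 q4280, e3 q5348 L79898 q4281, e3 q5349 L115441 q6626, e3 q5350 L79920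 q4283, e3 q5351 L79929 q4284, e3 q5352 L79935 q4285, e3 q5353 L115493 q6632, e3 q5354 (flp_g L79948) q4279, e3 q5355 (flp_g L115414) q6623, e3 q5356 (flp_g L115423) q6624, e3 q5357 L115562 q6638, e3 q5358 (flp_g L80001) q4282, e3 q5359 (flp_g L115458) q6627, e3 q5360 (flp_g L115465) q6628, e3 q5361 L115627 q6645, e3 q5362 L115644 q6647, e3 q5363 (flp_g L115490) q6631, e3 q5364 (flp_g L80052) q4286, e3 q5365 L80066 q4298, e3 q5366 L80082 q5366, e3 q5367 L115721 q6654, e3 q5368 L115742 q6656, e3 q5369 L80111 q5369, e3 q5370 (flp_g L80113) q4290, e3 q5371 (flp_g L115582) q6639, e3 q5372 L80140 q5372, e3 q5373 L115802 q6661, e3 q5374 L80155 q5374, e3 q5375 L115833 q6664, trivial⟩ (by decide +kernel)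

theorem ce_g_84 : ∀ r, r < 64 → sm gg (Qf (5376 + r)) = Qf (tab Gen.g (5376 + r)) :=
  edges_tab (sm gg) Qf (tab Gen.g) 5376 [(5376, 5376), (5377, 4294), (5378, 6667), (5379, 4295), (5380, 6670), (5381, 5381), (5382, 6650), (5383, 5383), (5384, 6675), (5385, 6677), (5386, 5386), (5387, 4301), (5388, 4315), (5389, 5389), (5390, 6684), (5391, 5391), (5392, 6688), (5393, 5393), (5394, 4305), (5395, 6692), (5396, 4306), (5397, 6695), (5398, 5398), (5399, 4326), (5400, 4327), (5401, 6700), (5402, 4329), (5403, 4311), (5404, 6704), (5405, 4312), (5406, 6707), (5407, 4334), (5408, 6680), (5409, 4336), (5410, 6713), (5411, 4338), (5412, 4317), (5413, 6718), (5414, 4341), (5415, 6722), (5416, 4319), (5417, 6725), (5418, 4345), (5419, 6691), (5420, 4322), (5421, 6729), (5422, 6694), (5423, 4324), (5424, 6733), (5425, 6735), (5426, 6698), (5427, 6739), (5428, 4328), (5429, 6742), (5430, 6702), (5431, 5431), (5432, 4331), (5433, 6746), (5434, 5434), (5435, 4333), (5436, 6750), (5437, 6709), (5438, 6754), (5439, 6711)]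
    ⟨e3 q5376 L80170 q5376, e3 q5377 (flp_g L80171) q4294, e3 q5378 L115861 q6667, e3 q5379 (flp_g L80187) q4295, e3 q5380 (flp_g L115889) q6670, e3 q5381 L80206 q5381, e3 q5382 (flp_g L115673) q6650, e3 q5383 L80231 q5383, e3 q5384 L115952 q6675, e3 q5385 L115972 q6677, e3 q5386 L80266 q5386, e3 q5387 (flp_g L80270) q4301, e3 q5388 L80289 q4315, e3 q5389 L80296 q5389, e3 q5390 L116045 q6684, e3 q5391 L80313 q5391, e3 q5392 L116080 q6688, e3 q5393 L80333 q5393, e3 q5394 (flp_g L80336) q4305, e3 q5395 L116112 q6692, e3 q5396 (flp_g L80351) q4306, e3 q5397 (flp_g L116146) q6695, e3 q5398 L80375 q5398, e3 q5399 L80384 q4326, e3 q5400 L80410 q4327, e3 q5401 L116225 q6700, e3 q5402 L80431 q4329, e3 q5403 (flp_g L80434) q4311, e3 q5404 L116263 q6704, e3 q5405 (flp_g L80453) q4312, e3 q5406 (flp_g L116299) q6707, e3 q5407 L80480 q4334, e3 q5408 (flp_g L116014) q6680, e3 q5409 L80500 q4336, e3 q5410 L116346 q6713, e3 q5411 L80517 q4338, e3 q5412 (flp_g L80519) q4317, e3 q5413 L116387 q6718, e3 q5414 L80542 q4341, e3 q5415 L116421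 q6722, e3 q5416 (flp_g L80550) q4319, e3 q5417 (flp_g L116449) q6725, e3 q5418 L80570 q4345, e3 q5419 (flp_g L116110) q6691, e3 q5420 (flp_g L80579) q4322, e3 q5421 (flp_g L116480) q6729, e3 q5422 (flp_g L116138) q6694, e3 q5423 L80611 q4324, e3 q5424 (flp_g L116512) q6733, e3 q5425 L116606 q6735, e3 q5426 (flp_g L116215) q6698, e3 q5427 L116642 q6739, e3 q5428 (flp_g L80688) q4328, e3 q5429 (flp_g L116673) q6742, e3 q5430 (flp_g L116249) q6702, e3 q5431 L80723 q5431, e3 q5432 (flp_g L80724) q4331, e3 q5433 (flp_g L116714) q6746, e3 q5434 L80753 q5434, e3 q5435 L80759 q4333, e3 q5436 (flp_g L116751) q6750, e3 q5437 (flp_g L116317) q6709, e3 q5438 L116783 q6754, e3 q5439 (flp_g L116337) q6711, trivial⟩ (by decide +kernel)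

theorem ce_g_85 : ∀ r, r < 64 → sm gg (Qf (5440 + r)) = Qf (tab Gen.g (5440 + r)) :=
  edges_tab (sm gg) Qf (tab Gen.g) 5440 [(5440, 6758), (5441, 4337), (5442, 6761), (5443, 6715), (5444, 5444), (5445, 6764), (5446, 4340), (5447, 6767), (5448, 6720), (5449, 6721), (5450, 4342), (5451, 6774), (5452, 5452), (5453, 4344), (5454, 6778), (5455, 4648), (5456, 5456), (5457, 4348), (5458, 6782), (5459, 6783), (5460, 5460), (5461, 4351), (5462, 5462), (5463, 5463), (5464, 6792), (5465, 6794), (5466, 5466), (5467, 4355), (5468, 4381), (5469, 5469), (5470, 6801), (5471, 5471), (5472, 6805), (5473, 5473), (5474, 4359), (5475, 6809), (5476, 4360), (5477, 6812), (5478, 5478), (5479, 4392), (5480, 5480), (5481, 6818), (5482, 5482), (5483, 4365), (5484, 6823), (5485, 5485), (5486, 6827), (5487, 4367), (5488, 6830), (5489, 5489), (5490, 4403), (5491, 4370), (5492, 6834), (5493, 4406), (5494, 4372), (5495, 6838), (5496, 4409), (5497, 6842), (5498, 4411), (5499, 6846), (5500, 4413), (5501, 4377), (5502, 6850), (5503, 4378)]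
    ⟨e3 q5440 L116814 q6758, e3 q5441 (flp_g L80808) q4337, e3 q5442 (flp_g L116845) q6761, e3 q5443 (flp_g L116369) q6715, e3 q5444 L80838 q5444, e3 q5445 L116864 q6764, e3 q5446 (flp_g L80848) q4340, e3 q5447 (flp_g L116897) q6767, e3 q5448 (flp_g L116408) q6720, e3 q5449 (flp_g L116419) q6721, e3 q5450 (flp_g L80879) q4342, e3 q5451 (flp_g L116952) q6774, e3 q5452 L80901 q5452, e3 q5453 L80906 q4344, e3 q5454 (flp_g L116982) q6778, e3 q5455 L80921 q4648, e3 q5456 L80931 q5456, e3 q5457 L80939 q4348, e3 q5458 (flp_g L117014) q6782, e3 q5459 (flp_g L117024) q6783, e3 q5460 L80963 q5460, e3 q5461 L80971 q4351, e3 q5462 L80979 q5462, e3 q5463 L80989 q5463, e3 q5464 L117101 q6792, e3 q5465 L117120 q6794, e3 q5466 L81019 q5466, e3 q5467 (flp_g L81024) q4355, e3 q5468 L81044 q4381, e3 q5469 L81051 q5469, e3 q5470 L117194 q6801, e3 q5471 L81073 q5471, e3 q5472 L117233 q6805, e3 q5473 L81095 q5473, e3 q5474 (flp_g L81098) q4359, e3 q5475 L117272 q6809, e3 q5476 (flp_g L81117) q4360, e3 q5477 (flp_g L117303) q6812, e3 q5478 L81137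 q5478, e3 q5479 L81151 q4392, e3 q5480 L81159 q5480, e3 q5481 L117353 q6818, e3 q5482 L81179 q5482, e3 q5483 (flp_g L81183) q4365, e3 q5484 L117401 q6823, e3 q5485 L81205 q5485, e3 q5486 L117431 q6827, e3 q5487 (flp_g L81217) q4367, e3 q5488 (flp_g L117462) q6830, e3 q5489 L81240 q5489, e3 q5490 L81251 q4403, e3 q5491 (flp_g L81253) q4370, e3 q5492 (flp_g L117494) q6834, e3 q5493 L81274 q4406, e3 q5494 L81280 q4372, e3 q5495 (flp_g L117528) q6838, e3 q5496 L81296 q4409, e3 q5497 L117557 q6842, e3 q5498 L81313 q4411, e3 q5499 L117591 q6846, e3 q5500 L81330 q4413, e3 q5501 (flp_g L81334) q4377, e3 q5502 L117629 q6850, e3 q5503 (flp_g L81352) q4378, trivial⟩ (by decide +kernel)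

theorem ce_g_86 : ∀ r, r < 64 → sm gg (Qf (5504 + r)) = Qf (tab Gen.g (5504 + r)) :=
  edges_tab (sm gg) Qf (tab Gen.g) 5504 [(5504, 6853), (5505, 4418), (5506, 6797), (5507, 4420), (5508, 6859), (5509, 4422), (5510, 4383), (5511, 6864), (5512, 4425), (5513, 6868), (5514, 4385), (5515, 6871), (5516, 4429), (5517, 6808), (5518, 4388), (5519, 6875), (5520, 6811), (5521, 4390), (5522, 6879), (5523, 4436), (5524, 6883), (5525, 4438), (5526, 6887), (5527, 4394), (5528, 6890), (5529, 4442), (5530, 6821), (5531, 6893), (5532, 4397), (5533, 6896), (5534, 4447), (5535, 4448), (5536, 4399), (5537, 6903), (5538, 6829), (5539, 4401), (5540, 6907), (5541, 4716), (5542, 6833), (5543, 4405), (5544, 6911), (5545, 6912), (5546, 6837), (5547, 4408), (5548, 6839), (5549, 6919), (5550, 6841), (5551, 4410), (5552, 6924), (5553, 6844), (5554, 6928), (5555, 4412), (5556, 6931), (5557, 6848), (5558, 5558), (5559, 4415), (5560, 6935), (5561, 5561), (5562, 4417), (5563, 6939), (5564, 6855), (5565, 6943), (5566, 6857), (5567, 6947)]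
    ⟨e3 q5504 (flp_g L117659) q6853, e3 q5505 L81376 q4418, e3 q5506 (flp_g L117159) q6797, e3 q5507 L81396 q4420, e3 q5508 L117711 q6859, e3 q5509 L81417 q4422, e3 q5510 (flp_g L81419) q4383, e3 q5511 L117759 q6864, e3 q5512 L81443 q4425, e3 q5513 L117789 q6868, e3 q5514 (flp_g L81454) q4385, e3 q5515 (flp_g L117822) q6871, e3 q5516 L81476 q4429, e3 q5517 (flp_g L117270) q6808, e3 q5518 (flp_g L81490) q4388, e3 q5519 (flp_g L117855) q6875, e3 q5520 (flp_g L117297) q6811, e3 q5521 L81519 q4390, e3 q5522 (flp_g L117884) q6879, e3 q5523 L81533 q4436, e3 q5524 L117911 q6883, e3 q5525 L81551 q4438, e3 q5526 L117946 q6887, e3 q5527 (flp_g L81561) q4394, e3 q5528 (flp_g L117979) q6890, e3 q5529 L81586 q4442, e3 q5530 (flp_g L117391) q6821, e3 q5531 L117996 q6893, e3 q5532 (flp_g L81604) q4397, e3 q5533 (flp_g L118023) q6896, e3 q5534 L81619 q4447, e3 q5535 L81629 q4448, e3 q5536 (flp_g L81631) q4399, e3 q5537 (flp_g L118074) q6903, e3 q5538 (flp_g L117455) q6829, e3 q5539 L81660 q4401, e3 q5540 (flp_g L118108) q6907, e3 q5541 L81676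 q4716, e3 q5542 (flp_g L117487) q6833, e3 q5543 L81689 q4405, e3 q5544 (flp_g L118137) q6911, e3 q5545 (flp_g L118146) q6912, e3 q5546 (flp_g L117518) q6837, e3 q5547 L81719 q4408, e3 q5548 (flp_g L117535) q6839, e3 q5549 L118206 q6919, e3 q5550 (flp_g L117553) q6841, e3 q5551 (flp_g L81747) q4410, e3 q5552 L118254 q6924, e3 q5553 (flp_g L117582) q6844, e3 q5554 L118284 q6928, e3 q5555 (flp_g L81782) q4412, e3 q5556 (flp_g L118313) q6931, e3 q5557 (flp_g L117615) q6848, e3 q5558 L81817 q5558, e3 q5559 (flp_g L81818) q4415, e3 q5560 (flp_g L118351) q6935, e3 q5561 L81842 q5561, e3 q5562 L81847 q4417, e3 q5563 (flp_g L118386) q6939, e3 q5564 (flp_g L117677) q6855, e3 q5565 L118417 q6943, e3 q5566 (flp_g L117699) q6857, e3 q5567 L118452 q6947, trivial⟩ (by decide +kernel)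

theorem ce_g_87 : ∀ r, r < 64 → sm gg (Qf (5568 + r)) = Qf (tab Gen.g (5568 + r)) :=
  edges_tab (sm gg) Qf (tab Gen.g) 5568 [(5568, 4421), (5569, 6950), (5570, 6861), (5571, 5571), (5572, 6953), (5573, 4424), (5574, 6956), (5575, 6866), (5576, 6867), (5577, 4426), (5578, 6963), (5579, 5579), (5580, 4428), (5581, 6967), (5582, 4741), (5583, 5583), (5584, 4432), (5585, 6971), (5586, 6972), (5587, 5587), (5588, 4435), (5589, 6977), (5590, 6881), (5591, 6981), (5592, 4437), (5593, 6984), (5594, 6885), (5595, 6886), (5596, 4439), (5597, 6990), (5598, 5598), (5599, 4441), (5600, 6994), (5601, 6995), (5602, 4444), (5603, 6999), (5604, 5604), (5605, 4446), (5606, 7003), (5607, 7004), (5608, 6899), (5609, 6900), (5610, 4767), (5611, 5611), (5612, 4450), (5613, 7013), (5614, 7014), (5615, 5615), (5616, 4453), (5617, 7018), (5618, 4775), (5619, 5619), (5620, 4457), (5621, 4458), (5622, 7024), (5623, 7025), (5624, 5624), (5625, 5625), (5626, 4462), (5627, 5627), (5628, 5628), (5629, 4466), (5630, 5630), (5631, 5631)]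
    ⟨e3 q5568 (flp_g L81901) q4421, e3 q5569 (flp_g L118488) q6950, e3 q5570 (flp_g L117736) q6861, e3 q5571 L81938 q5571, e3 q5572 L118510 q6953, e3 q5573 (flp_g L81948) q4424, e3 q5574 (flp_g L118539) q6956, e3 q5575 (flp_g L117776) q6866, e3 q5576 (flp_g L117785) q6867, e3 q5577 (flp_g L81975) q4426, e3 q5578 (flp_g L118594) q6963, e3 q5579 L82002 q5579, e3 q5580 L82007 q4428, e3 q5581 (flp_g L118627) q6967, e3 q5582 L82025 q4741, e3 q5583 L82036 q5583, e3 q5584 L82042 q4432, e3 q5585 (flp_g L118658) q6971, e3 q5586 (flp_g L118667) q6972, e3 q5587 L82065 q5587, e3 q5588 L82071 q4435, e3 q5589 L118703 q6977, e3 q5590 (flp_g L117901) q6881, e3 q5591 L118741 q6981, e3 q5592 (flp_g L82099) q4437, e3 q5593 (flp_g L118774) q6984, e3 q5594 (flp_g L117932) q6885, e3 q5595 (flp_g L117944) q6886, e3 q5596 (flp_g L82131) q4439, e3 q5597 (flp_g L118837) q6990, e3 q5598 L82157 q5598, e3 q5599 L82163 q4441, e3 q5600 (flp_g L118875) q6994, e3 q5601 L118877 q6995, e3 q5602 (flp_g L82183) q4444, e3 q5603 (flp_g L118911) q6999, e3 q5604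 L82203 q5604, e3 q5605 L82208 q4446, e3 q5606 (flp_g L118936) q7003, e3 q5607 (flp_g L118944) q7004, e3 q5608 (flp_g L118040) q6899, e3 q5609 (flp_g L118050) q6900, e3 q5610 L82243 q4767, e3 q5611 L82253 q5611, e3 q5612 L82260 q4450, e3 q5613 (flp_g L119008) q7013, e3 q5614 (flp_g L119019) q7014, e3 q5615 L82285 q5615, e3 q5616 L82294 q4453, e3 q5617 L119047 q7018, e3 q5618 L82308 q4775, e3 q5619 L82315 q5619, e3 q5620 L82321 q4457, e3 q5621 L82331 q4458, e3 q5622 (flp_g L119099) q7024, e3 q5623 (flp_g L119109) q7025, e3 q5624 L82355 q5624, e3 q5625 L82455 q5625, e3 q5626 (flp_g L82456) q4462, e3 q5627 L82483 q5627, e3 q5628 L82577 q5628, e3 q5629 (flp_g L82614) q4466, e3 q5630 L82637 q5630, e3 q5631 L82662 q5631, trivial⟩ (by decide +kernel)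

theorem ce_g_88 : ∀ r, r < 64 → sm gg (Qf (5632 + r)) = Qf (tab Gen.g (5632 + r)) :=
  edges_tab (sm gg) Qf (tab Gen.g) 5632 [(5632, 5632), (5633, 4470), (5634, 7036), (5635, 5635), (5636, 4473), (5637, 5637), (5638, 7040), (5639, 4476), (5640, 5640), (5641, 4787), (5642, 5642), (5643, 4479), (5644, 7047), (5645, 5645), (5646, 7049), (5647, 4793), (5648, 5648), (5649, 4485), (5650, 4486), (5651, 7055), (5652, 7056), (5653, 5653), (5654, 7060), (5655, 4489), (5656, 5656), (5657, 4803), (5658, 5658), (5659, 4492), (5660, 7067), (5661, 5661), (5662, 4495), (5663, 7071), (5664, 4810), (5665, 5665), (5666, 4497), (5667, 7077), (5668, 5668), (5669, 7079), (5670, 4816), (5671, 5671), (5672, 4503), (5673, 4504), (5674, 7085), (5675, 7086), (5676, 5676), (5677, 4507), (5678, 7090), (5679, 4825), (5680, 4826), (5681, 5681), (5682, 5682), (5683, 4512), (5684, 4513), (5685, 7098), (5686, 7099), (5687, 7100), (5688, 5688), (5689, 4527), (5690, 4528), (5691, 4529), (5692, 6545), (5693, 4531), (5694, 4532), (5695, 6561)]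
    ⟨e3 q5632 L82669 q5632, e3 q5633 L82675 q4470, e3 q5634 (flp_g L119628) q7036, e3 q5635 L82696 q5635, e3 q5636 (flp_g L82779) q4473, e3 q5637 L82808 q5637, e3 q5638 L119871 q7040, e3 q5639 (flp_g L82836) q4476, e3 q5640 L82864 q5640, e3 q5641 L82912 q4787, e3 q5642 L82922 q5642, e3 q5643 L82929 q4479, e3 q5644 (flp_g L120027) q7047, e3 q5645 L82954 q5645, e3 q5646 L120063 q7049, e3 q5647 L82982 q4793, e3 q5648 L82990 q5648, e3 q5649 L82996 q4485, e3 q5650 L83004 q4486, e3 q5651 (flp_g L120120) q7055, e3 q5652 (flp_g L120128) q7056, e3 q5653 L83028 q5653, e3 q5654 L120236 q7060, e3 q5655 (flp_g L83086) q4489, e3 q5656 L83113 q5656, e3 q5657 L83157 q4803, e3 q5658 L83166 q5658, e3 q5659 L83174 q4492, e3 q5660 (flp_g L120385) q7067, e3 q5661 L83201 q5661, e3 q5662 (flp_g L83214) q4495, e3 q5663 (flp_g L120444) q7071, e3 q5664 L83233 q4810, e3 q5665 L83242 q5665, e3 q5666 L83250 q4497, e3 q5667 (flp_g L120492) q7077, e3 q5668 L83274 q5668, e3 q5669 L120575 q7079, e3 q5670 L83331 q4816, e3 q5671 L83339 q5671, e3 q5672 L83346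 q4503, e3 q5673 L83355 q4504, e3 q5674 (flp_g L120629) q7085, e3 q5675 (flp_g L120638) q7086, e3 q5676 L83379 q5676, e3 q5677 (flp_g L83382) q4507, e3 q5678 (flp_g L120670) q7090, e3 q5679 L83404 q4825, e3 q5680 L83413 q4826, e3 q5681 L83418 q5681, e3 q5682 L83428 q5682, e3 q5683 L83435 q4512, e3 q5684 L83444 q4513, e3 q5685 (flp_g L120735) q7098, e3 q5686 (flp_g L120744) q7099, e3 q5687 (flp_g L120750) q7100, e3 q5688 L83477 q5688, e3 q5689 L83484 q4527, e3 q5690 L83495 q4528, e3 q5691 L83519 q4529, e3 q5692 (flp_g L639578) q6545, e3 q5693 L83552 q4531, e3 q5694 L83560 q4532, e3 q5695 L643396 q6561, trivial⟩ (by decide +kernel)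

theorem ce_g_89 : ∀ r, r < 64 → sm gg (Qf (5696 + r)) = Qf (tab Gen.g (5696 + r)) :=
  edges_tab (sm gg) Qf (tab Gen.g) 5696 [(5696, 4521), (5697, 4535), (5698, 4536), (5699, 5243), (5700, 6649), (5701, 4539), (5702, 4525), (5703, 6542), (5704, 6546), (5705, 6555), (5706, 6560), (5707, 4530), (5708, 7104), (5709, 7116), (5710, 6648), (5711, 6630), (5712, 4533), (5713, 4552), (5714, 7106), (5715, 7120), (5716, 7108), (5717, 7123), (5718, 7110), (5719, 4537), (5720, 7126), (5721, 4538), (5722, 7128), (5723, 7111), (5724, 4563), (5725, 5725), (5726, 6551), (5727, 4543), (5728, 6570), (5729, 5729), (5730, 4545), (5731, 6549), (5732, 5732), (5733, 7134), (5734, 5734), (5735, 4548), (5736, 7138), (5737, 4549), (5738, 6669), (5739, 5739), (5740, 6569), (5741, 7142), (5742, 4554), (5743, 7145), (5744, 7146), (5745, 4556), (5746, 7149), (5747, 5747), (5748, 5226), (5749, 4559), (5750, 7153), (5751, 6671), (5752, 4561), (5753, 7157), (5754, 6577), (5755, 5755), (5756, 4565), (5757, 4587), (5758, 5758), (5759, 7163)]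
    ⟨e3 q5696 (flp_g L83575) q4521, e3 q5697 L83593 q4535, e3 q5698 L83601 q4536, e3 q5699 (flp_g L621023) q5243, e3 q5700 (flp_g L643349) q6649, e3 q5701 L83624 q4539, e3 q5702 (flp_g L83628) q4525, e3 q5703 L643746 q6542, e3 q5704 L643690 q6546, e3 q5705 L643756 q6555, e3 q5706 L633072 q6560, e3 q5707 (flp_g L83722) q4530, e3 q5708 (flp_g L120898) q7104, e3 q5709 L121210 q7116, e3 q5710 L644836 q6648, e3 q5711 (flp_g L643458) q6630, e3 q5712 (flp_g L83779) q4533, e3 q5713 L83798 q4552, e3 q5714 (flp_g L120956) q7106, e3 q5715 L121290 q7120, e3 q5716 (flp_g L120971) q7108, e3 q5717 L121324 q7123, e3 q5718 (flp_g L120988) q7110, e3 q5719 (flp_g L83841) q4537, e3 q5720 L121357 q7126, e3 q5721 (flp_g L83858) q4538, e3 q5722 (flp_g L121385) q7128, e3 q5723 (flp_g L643360) q7111, e3 q5724 L83888 q4563, e3 q5725 L83912 q5725, e3 q5726 (flp_g L643701) q6551, e3 q5727 (flp_g L83925) q4543, e3 q5728 L643910 q6570, e3 q5729 L83975 q5729, e3 q5730 (flp_g L83978) q4545, e3 q5731 (flp_g L639680) q6549, e3 q5732 L84021 q5732, e3 q5733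 L121612 q7134, e3 q5734 L84039 q5734, e3 q5735 (flp_g L84040) q4548, e3 q5736 L121645 q7138, e3 q5737 (flp_g L84059) q4549, e3 q5738 L644491 q6669, e3 q5739 L84078 q5739, e3 q5740 L643220 q6569, e3 q5741 L121714 q7142, e3 q5742 (flp_g L84112) q4554, e3 q5743 L121753 q7145, e3 q5744 L121781 q7146, e3 q5745 (flp_g L84142) q4556, e3 q5746 (flp_g L121807) q7149, e3 q5747 L84161 q5747, e3 q5748 L621252 q5226, e3 q5749 (flp_g L84172) q4559, e3 q5750 (flp_g L121838) q7153, e3 q5751 L644588 q6671, e3 q5752 L84198 q4561, e3 q5753 (flp_g L121866) q7157, e3 q5754 (flp_g L633344) q6577, e3 q5755 L84255 q5755, e3 q5756 (flp_g L84260) q4565, e3 q5757 L84279 q4587, e3 q5758 L84304 q5758, e3 q5759 L122046 q7163, trivial⟩ (by decide +kernel)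

theorem ce_g_90 : ∀ r, r < 64 → sm gg (Qf (5760 + r)) = Qf (tab Gen.g (5760 + r)) :=
  edges_tab (sm gg) Qf (tab Gen.g) 5760 [(5760, 5760), (5761, 4568), (5762, 7167), (5763, 4569), (5764, 7170), (5765, 5765), (5766, 4596), (5767, 5767), (5768, 7176), (5769, 5769), (5770, 4574), (5771, 7181), (5772, 5772), (5773, 7185), (5774, 4576), (5775, 7188), (5776, 5776), (5777, 4607), (5778, 4579), (5779, 7192), (5780, 4610), (5781, 4581), (5782, 7196), (5783, 6595), (5784, 4584), (5785, 7198), (5786, 4616), (5787, 6567), (5788, 7201), (5789, 4619), (5790, 7204), (5791, 4589), (5792, 7207), (5793, 4623), (5794, 7166), (5795, 4592), (5796, 7211), (5797, 7169), (5798, 4594), (5799, 7215), (5800, 4630), (5801, 7219), (5802, 4632), (5803, 7223), (5804, 4598), (5805, 7226), (5806, 4636), (5807, 7179), (5808, 7229), (5809, 4601), (5810, 7232), (5811, 4641), (5812, 4642), (5813, 4603), (5814, 7239), (5815, 7187), (5816, 4605), (5817, 7243), (5818, 6727), (5819, 7191), (5820, 4609), (5821, 7247), (5822, 7248), (5823, 7195)]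
    ⟨e3 q5760 L84327 q5760, e3 q5761 (flp_g L84330) q4568, e3 q5762 L122083 q7167, e3 q5763 (flp_g L84348) q4569, e3 q5764 (flp_g L122119) q7170, e3 q5765 L84372 q5765, e3 q5766 L84385 q4596, e3 q5767 L84391 q5767, e3 q5768 L122168 q7176, e3 q5769 L84410 q5769, e3 q5770 (flp_g L84414) q4574, e3 q5771 L122214 q7181, e3 q5772 L84439 q5772, e3 q5773 L122252 q7185, e3 q5774 (flp_g L84448) q4576, e3 q5775 (flp_g L122280) q7188, e3 q5776 L84469 q5776, e3 q5777 L84480 q4607, e3 q5778 (flp_g L84482) q4579, e3 q5779 (flp_g L122314) q7192, e3 q5780 L84506 q4610, e3 q5781 L84514 q4581, e3 q5782 (flp_g L122349) q7196, e3 q5783 L643922 q6595, e3 q5784 (flp_g L84588) q4584, e3 q5785 (flp_g L122480) q7198, e3 q5786 L84612 q4616, e3 q5787 L643053 q6567, e3 q5788 L122575 q7201, e3 q5789 L84678 q4619, e3 q5790 L122613 q7204, e3 q5791 (flp_g L84686) q4589, e3 q5792 (flp_g L122643) q7207, e3 q5793 L84706 q4623, e3 q5794 (flp_g L122081) q7166, e3 q5795 (flp_g L84720) q4592, e3 q5796 (flp_g L122678) q7211, e3 q5797 (flp_g L122111) q7169, e3 q5798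 L84754 q4594, e3 q5799 (flp_g L122708) q7215, e3 q5800 L84769 q4630, e3 q5801 L122736 q7219, e3 q5802 L84788 q4632, e3 q5803 L122771 q7223, e3 q5804 (flp_g L84795) q4598, e3 q5805 (flp_g L122801) q7226, e3 q5806 L84818 q4636, e3 q5807 (flp_g L122204) q7179, e3 q5808 L122818 q7229, e3 q5809 (flp_g L84836) q4601, e3 q5810 (flp_g L122852) q7232, e3 q5811 L84858 q4641, e3 q5812 L84869 q4642, e3 q5813 (flp_g L84871) q4603, e3 q5814 (flp_g L122907) q7239, e3 q5815 (flp_g L122273) q7187, e3 q5816 L84897 q4605, e3 q5817 (flp_g L122936) q7243, e3 q5818 (flp_g L116464) q6727, e3 q5819 (flp_g L122305) q7191, e3 q5820 L84928 q4609, e3 q5821 (flp_g L122968) q7247, e3 q5822 (flp_g L122978) q7248, e3 q5823 (flp_g L122337) q7195, trivial⟩ (by decide +kernel)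

theorem ce_g_91 : ∀ r, r < 64 → sm gg (Qf (5824 + r)) = Qf (tab Gen.g (5824 + r)) :=
  edges_tab (sm gg) Qf (tab Gen.g) 5824 [(5824, 4612), (5825, 4613), (5826, 7252), (5827, 5827), (5828, 4615), (5829, 7256), (5830, 7258), (5831, 4618), (5832, 7261), (5833, 7203), (5834, 4620), (5835, 7265), (5836, 5836), (5837, 4622), (5838, 7269), (5839, 6744), (5840, 5840), (5841, 4626), (5842, 7273), (5843, 7274), (5844, 5844), (5845, 4629), (5846, 7279), (5847, 7217), (5848, 7283), (5849, 4631), (5850, 7286), (5851, 7221), (5852, 7222), (5853, 4633), (5854, 7292), (5855, 5855), (5856, 4635), (5857, 7296), (5858, 7297), (5859, 4638), (5860, 7301), (5861, 5861), (5862, 4640), (5863, 7305), (5864, 7306), (5865, 7235), (5866, 7236), (5867, 6772), (5868, 5868), (5869, 4644), (5870, 7314), (5871, 7315), (5872, 5872), (5873, 4647), (5874, 7319), (5875, 6780), (5876, 5876), (5877, 4651), (5878, 4652), (5879, 7325), (5880, 7326), (5881, 5881), (5882, 5882), (5883, 7334), (5884, 5884), (5885, 4656), (5886, 7339), (5887, 5887)]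
    ⟨e3 q5824 L84959 q4612, e3 q5825 (flp_g L85059) q4613, e3 q5826 (flp_g L123182) q7252, e3 q5827 L85082 q5827, e3 q5828 L85087 q4615, e3 q5829 (flp_g L123216) q7256, e3 q5830 L123338 q7258, e3 q5831 (flp_g L85183) q4618, e3 q5832 (flp_g L123374) q7261, e3 q5833 (flp_g L122609) q7203, e3 q5834 (flp_g L85218) q4620, e3 q5835 (flp_g L123433) q7265, e3 q5836 L85242 q5836, e3 q5837 L85247 q4622, e3 q5838 (flp_g L123461) q7269, e3 q5839 (flp_g L116694) q6744, e3 q5840 L85276 q5840, e3 q5841 L85284 q4626, e3 q5842 (flp_g L123495) q7273, e3 q5843 (flp_g L123505) q7274, e3 q5844 L85306 q5844, e3 q5845 L85314 q4629, e3 q5846 L123540 q7279, e3 q5847 (flp_g L122728) q7217, e3 q5848 L123584 q7283, e3 q5849 (flp_g L85343) q4631, e3 q5850 (flp_g L123616) q7286, e3 q5851 (flp_g L122758) q7221, e3 q5852 (flp_g L122769) q7222, e3 q5853 (flp_g L85375) q4633, e3 q5854 (flp_g L123675) q7292, e3 q5855 L85398 q5855, e3 q5856 L85404 q4635, e3 q5857 (flp_g L123708) q7296, e3 q5858 L123710 q7297, e3 q5859 (flp_g L85424) q4638, e3 q5860 (flp_g L123750)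 q7301, e3 q5861 L85449 q5861, e3 q5862 L85456 q4640, e3 q5863 (flp_g L123779) q7305, e3 q5864 (flp_g L123790) q7306, e3 q5865 (flp_g L122876) q7235, e3 q5866 (flp_g L122887) q7236, e3 q5867 (flp_g L116936) q6772, e3 q5868 L85505 q5868, e3 q5869 L85512 q4644, e3 q5870 (flp_g L123860) q7314, e3 q5871 (flp_g L123870) q7315, e3 q5872 L85532 q5872, e3 q5873 L85541 q4647, e3 q5874 L123893 q7319, e3 q5875 (flp_g L116999) q6780, e3 q5876 L85565 q5876, e3 q5877 L85571 q4651, e3 q5878 L85582 q4652, e3 q5879 (flp_g L123944) q7325, e3 q5880 (flp_g L123955) q7326, e3 q5881 L85605 q5881, e3 q5882 L85612 q5882, e3 q5883 L124020 q7334, e3 q5884 L85635 q5884, e3 q5885 (flp_g L85639) q4656, e3 q5886 L124073 q7339, e3 q5887 L85665 q5887, trivial⟩ (by decide +kernel)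

theorem ce_g_92 : ∀ r, r < 64 → sm gg (Qf (5888 + r)) = Qf (tab Gen.g (5888 + r)) :=
  edges_tab (sm gg) Qf (tab Gen.g) 5888 [(5888, 7343), (5889, 4658), (5890, 7346), (5891, 5891), (5892, 4692), (5893, 4661), (5894, 7350), (5895, 4695), (5896, 4663), (5897, 7354), (5898, 5898), (5899, 7357), (5900, 5900), (5901, 7360), (5902, 4667), (5903, 7363), (5904, 5904), (5905, 4705), (5906, 7366), (5907, 4670), (5908, 7369), (5909, 5909), (5910, 5910), (5911, 4672), (5912, 7376), (5913, 4713), (5914, 4674), (5915, 7380), (5916, 6832), (5917, 4717), (5918, 4678), (5919, 7384), (5920, 7385), (5921, 4721), (5922, 4681), (5923, 4723), (5924, 7391), (5925, 4725), (5926, 7394), (5927, 4683), (5928, 7397), (5929, 4729), (5930, 7337), (5931, 7400), (5932, 4686), (5933, 7403), (5934, 4734), (5935, 4735), (5936, 4688), (5937, 7409), (5938, 7345), (5939, 4690), (5940, 7413), (5941, 6873), (5942, 7349), (5943, 4694), (5944, 7417), (5945, 7418), (5946, 7353), (5947, 4697), (5948, 7423), (5949, 7425), (5950, 4699), (5951, 7428)]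
    ⟨e3 q5888 L124107 q7343, e3 q5889 (flp_g L85677) q4658, e3 q5890 (flp_g L124140) q7346, e3 q5891 L85700 q5891, e3 q5892 L85716 q4692, e3 q5893 (flp_g L85718) q4661, e3 q5894 (flp_g L124176) q7350, e3 q5895 L85741 q4695, e3 q5896 L85747 q4663, e3 q5897 (flp_g L124208) q7354, e3 q5898 L85764 q5898, e3 q5899 L124237 q7357, e3 q5900 L85784 q5900, e3 q5901 L124276 q7360, e3 q5902 (flp_g L85795) q4667, e3 q5903 (flp_g L124309) q7363, e3 q5904 L85821 q5904, e3 q5905 L85835 q4705, e3 q5906 L124331 q7366, e3 q5907 (flp_g L85843) q4670, e3 q5908 (flp_g L124359) q7369, e3 q5909 L85860 q5909, e3 q5910 L85871 q5910, e3 q5911 (flp_g L85874) q4672, e3 q5912 (flp_g L124418) q7376, e3 q5913 L85896 q4713, e3 q5914 L85903 q4674, e3 q5915 (flp_g L124455) q7380, e3 q5916 (flp_g L117479) q6832, e3 q5917 L85928 q4717, e3 q5918 L85935 q4678, e3 q5919 (flp_g L124482) q7384, e3 q5920 (flp_g L124492) q7385, e3 q5921 L85956 q4721, e3 q5922 L85968 q4681, e3 q5923 L85974 q4723, e3 q5924 L124545 q7391, e3 q5925 L85995 q4725, e3 q5926 L124584 q7394,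 e3 q5927 (flp_g L86005) q4683, e3 q5928 (flp_g L124619) q7397, e3 q5929 L86030 q4729, e3 q5930 (flp_g L124063) q7337, e3 q5931 L124639 q7400, e3 q5932 (flp_g L86053) q4686, e3 q5933 (flp_g L124669) q7403, e3 q5934 L86071 q4734, e3 q5935 L86080 q4735, e3 q5936 (flp_g L86084) q4688, e3 q5937 (flp_g L124724) q7409, e3 q5938 (flp_g L124133) q7345, e3 q5939 L86115 q4690, e3 q5940 (flp_g L124756) q7413, e3 q5941 (flp_g L117840) q6873, e3 q5942 (flp_g L124169) q7349, e3 q5943 L86148 q4694, e3 q5944 (flp_g L124787) q7417, e3 q5945 (flp_g L124796) q7418, e3 q5946 (flp_g L124198) q7353, e3 q5947 L86176 q4697, e3 q5948 L124826 q7423, e3 q5949 L124864 q7425, e3 q5950 (flp_g L86200) q4699, e3 q5951 (flp_g L124898) q7428, trivial⟩ (by decide +kernel)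

theorem ce_g_93 : ∀ r, r < 64 → sm gg (Qf (5952 + r)) = Qf (tab Gen.g (5952 + r)) :=
  edges_tab (sm gg) Qf (tab Gen.g) 5952 [(5952, 4752), (5953, 4701), (5954, 7432), (5955, 7362), (5956, 4703), (5957, 7436), (5958, 7437), (5959, 4706), (5960, 7441), (5961, 7368), (5962, 4708), (5963, 7445), (5964, 7446), (5965, 4765), (5966, 4766), (5967, 6901), (5968, 7375), (5969, 4712), (5970, 7454), (5971, 7455), (5972, 7379), (5973, 4715), (5974, 7459), (5975, 6909), (5976, 7383), (5977, 4719), (5978, 4720), (5979, 7465), (5980, 7466), (5981, 7388), (5982, 7471), (5983, 7472), (5984, 4724), (5985, 7475), (5986, 7393), (5987, 4726), (5988, 7479), (5989, 5989), (5990, 4728), (5991, 7482), (5992, 7483), (5993, 4731), (5994, 7487), (5995, 5995), (5996, 4733), (5997, 7491), (5998, 7492), (5999, 7406), (6000, 6961), (6001, 6001), (6002, 4737), (6003, 7498), (6004, 7499), (6005, 6005), (6006, 4740), (6007, 7503), (6008, 6969), (6009, 6009), (6010, 4744), (6011, 4745), (6012, 7509), (6013, 7510), (6014, 6014), (6015, 7515)]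
    ⟨e3 q5952 L86234 q4752, e3 q5953 (flp_g L86236) q4701, e3 q5954 (flp_g L124961) q7432, e3 q5955 (flp_g L124301) q7362, e3 q5956 L86267 q4703, e3 q5957 (flp_g L124998) q7436, e3 q5958 L125000 q7437, e3 q5959 (flp_g L86285) q4706, e3 q5960 (flp_g L125030) q7441, e3 q5961 (flp_g L124352) q7368, e3 q5962 L86311 q4708, e3 q5963 (flp_g L125052) q7445, e3 q5964 (flp_g L125064) q7446, e3 q5965 L86331 q4765, e3 q5966 L86341 q4766, e3 q5967 (flp_g L118059) q6901, e3 q5968 (flp_g L124410) q7375, e3 q5969 L86363 q4712, e3 q5970 (flp_g L125131) q7454, e3 q5971 (flp_g L125142) q7455, e3 q5972 (flp_g L124442) q7379, e3 q5973 L86396 q4715, e3 q5974 L125167 q7459, e3 q5975 (flp_g L118125) q6909, e3 q5976 (flp_g L124475) q7383, e3 q5977 L86423 q4719, e3 q5978 L86433 q4720, e3 q5979 (flp_g L125215) q7465, e3 q5980 (flp_g L125225) q7466, e3 q5981 (flp_g L124517) q7388, e3 q5982 L125253 q7471, e3 q5983 L125296 q7472, e3 q5984 (flp_g L86482) q4724, e3 q5985 (flp_g L125332) q7475, e3 q5986 (flp_g L124580) q7393, e3 q5987 (flp_g L86518) q4726,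 e3 q5988 (flp_g L125399) q7479, e3 q5989 L86546 q5989, e3 q5990 L86552 q4728, e3 q5991 (flp_g L125435) q7482, e3 q5992 L125439 q7483, e3 q5993 (flp_g L86575) q4731, e3 q5994 (flp_g L125477) q7487, e3 q5995 L86598 q5995, e3 q5996 L86603 q4733, e3 q5997 (flp_g L125500) q7491, e3 q5998 (flp_g L125509) q7492, e3 q5999 (flp_g L124698) q7406, e3 q6000 (flp_g L118575) q6961, e3 q6001 L86652 q6001, e3 q6002 L86659 q4737, e3 q6003 (flp_g L125576) q7498, e3 q6004 (flp_g L125587) q7499, e3 q6005 L86682 q6005, e3 q6006 L86691 q4740, e3 q6007 L125615 q7503, e3 q6008 (flp_g L118645) q6969, e3 q6009 L86714 q6009, e3 q6010 L86720 q4744, e3 q6011 L86730 q4745, e3 q6012 (flp_g L125667) q7509, e3 q6013 (flp_g L125677) q7510, e3 q6014 L86752 q6014, e3 q6015 L125708 q7515, trivial⟩ (by decide +kernel)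

theorem ce_g_94 : ∀ r, r < 64 → sm gg (Qf (6016 + r)) = Qf (tab Gen.g (6016 + r)) :=
  edges_tab (sm gg) Qf (tab Gen.g) 6016 [(6016, 4748), (6017, 7517), (6018, 4749), (6019, 7521), (6020, 6020), (6021, 4751), (6022, 7525), (6023, 6988), (6024, 6024), (6025, 4754), (6026, 7529), (6027, 7530), (6028, 6028), (6029, 4757), (6030, 4758), (6031, 7536), (6032, 6997), (6033, 6033), (6034, 4760), (6035, 7542), (6036, 7543), (6037, 6037), (6038, 4763), (6039, 4764), (6040, 7549), (6041, 7550), (6042, 7553), (6043, 7450), (6044, 7555), (6045, 7011), (6046, 6046), (6047, 4770), (6048, 4771), (6049, 7561), (6050, 7562), (6051, 6051), (6052, 4774), (6053, 7566), (6054, 7020), (6055, 7021), (6056, 6056), (6057, 6057), (6058, 4779), (6059, 4780), (6060, 7574), (6061, 7575), (6062, 7576), (6063, 7038), (6064, 6064), (6065, 4784), (6066, 7583), (6067, 7042), (6068, 6068), (6069, 7586), (6070, 7045), (6071, 6071), (6072, 4790), (6073, 7590), (6074, 4792), (6075, 7592), (6076, 7051), (6077, 7052), (6078, 6078), (6079, 6079)]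
    ⟨e3 q6016 (flp_g L86763) q4748, e3 q6017 L125777 q7517, e3 q6018 (flp_g L86800) q4749, e3 q6019 (flp_g L125819) q7521, e3 q6020 L86825 q6020, e3 q6021 L86832 q4751, e3 q6022 (flp_g L125860) q7525, e3 q6023 (flp_g L118818) q6988, e3 q6024 L86888 q6024, e3 q6025 L86896 q4754, e3 q6026 (flp_g L125940) q7529, e3 q6027 (flp_g L125953) q7530, e3 q6028 L86921 q6028, e3 q6029 L86933 q4757, e3 q6030 (flp_g L86935) q4758, e3 q6031 (flp_g L126005) q7536, e3 q6032 (flp_g L118896) q6997, e3 q6033 L86960 q6033, e3 q6034 L86967 q4760, e3 q6035 (flp_g L126042) q7542, e3 q6036 (flp_g L126050) q7543, e3 q6037 L86983 q6037, e3 q6038 L86988 q4763, e3 q6039 L86998 q4764, e3 q6040 (flp_g L126087) q7549, e3 q6041 (flp_g L126097) q7550, e3 q6042 L126124 q7553, e3 q6043 (flp_g L125092) q7450, e3 q6044 L126146 q7555, e3 q6045 (flp_g L118993) q7011, e3 q6046 L87057 q6046, e3 q6047 L87064 q4770, e3 q6048 L87076 q4771, e3 q6049 (flp_g L126199) q7561, e3 q6050 (flp_g L126211) q7562, e3 q6051 L87100 q6051, e3 q6052 (flp_g L87103) q4774, e3 q6053 (flp_g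 L126242) q7566, e3 q6054 (flp_g L119067) q7020, e3 q6055 (flp_g L119076) q7021, e3 q6056 L87131 q6056, e3 q6057 L87143 q6057, e3 q6058 L87151 q4779, e3 q6059 L87162 q4780, e3 q6060 (flp_g L126305) q7574, e3 q6061 (flp_g L126316) q7575, e3 q6062 (flp_g L126323) q7576, e3 q6063 (flp_g L119811) q7038, e3 q6064 L87341 q6064, e3 q6065 (flp_g L87389) q4784, e3 q6066 (flp_g L126678) q7583, e3 q6067 (flp_g L119894) q7042, e3 q6068 L87421 q6068, e3 q6069 L126826 q7586, e3 q6070 (flp_g L120012) q7045, e3 q6071 L87528 q6071, e3 q6072 L87535 q4790, e3 q6073 (flp_g L126880) q7590, e3 q6074 (flp_g L87571) q4792, e3 q6075 (flp_g L126917) q7592, e3 q6076 (flp_g L120087) q7051, e3 q6077 (flp_g L120096) q7052, e3 q6078 L87605 q6078, e3 q6079 L87615 q6079, trivial⟩ (by decide +kernel)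

theorem ce_g_95 : ∀ r, r < 64 → sm gg (Qf (6080 + r)) = Qf (tab Gen.g (6080 + r)) :=
  edges_tab (sm gg) Qf (tab Gen.g) 6080 [(6080, 4797), (6081, 4798), (6082, 7600), (6083, 7601), (6084, 7602), (6085, 4800), (6086, 7608), (6087, 7062), (6088, 6088), (6089, 7611), (6090, 7065), (6091, 6091), (6092, 4806), (6093, 7615), (6094, 7069), (6095, 6095), (6096, 4809), (6097, 7621), (6098, 7622), (6099, 7625), (6100, 7075), (6101, 6101), (6102, 4813), (6103, 7629), (6104, 4815), (6105, 7631), (6106, 7081), (6107, 7082), (6108, 6108), (6109, 6109), (6110, 4820), (6111, 4821), (6112, 7639), (6113, 7640), (6114, 7641), (6115, 4824), (6116, 7645), (6117, 7646), (6118, 7093), (6119, 7094), (6120, 7095), (6121, 6121), (6122, 6122), (6123, 4831), (6124, 4832), (6125, 4833), (6126, 7654), (6127, 7655), (6128, 7656), (6129, 6574), (6130, 4834), (6131, 7661), (6132, 6132), (6133, 4836), (6134, 7663), (6135, 4864), (6136, 4838), (6137, 7667), (6138, 6572), (6139, 4841), (6140, 7668), (6141, 4870), (6142, 4843), (6143, 7672)]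
    ⟨e3 q6080 L87624 q4797, e3 q6081 L87633 q4798, e3 q6082 (flp_g L126976) q7600, e3 q6083 (flp_g L126985) q7601, e3 q6084 (flp_g L126991) q7602, e3 q6085 (flp_g L87710) q4800, e3 q6086 (flp_g L127123) q7608, e3 q6087 (flp_g L120258) q7062, e3 q6088 L87740 q6088, e3 q6089 L127213 q7611, e3 q6090 (flp_g L120368) q7065, e3 q6091 L87810 q6091, e3 q6092 L87818 q4806, e3 q6093 (flp_g L127271) q7615, e3 q6094 (flp_g L120431) q7069, e3 q6095 L87871 q6095, e3 q6096 L87877 q4809, e3 q6097 (flp_g L127336) q7621, e3 q6098 (flp_g L127346) q7622, e3 q6099 L127361 q7625, e3 q6100 (flp_g L120477) q7075, e3 q6101 L87915 q6101, e3 q6102 L87921 q4813, e3 q6103 (flp_g L127411) q7629, e3 q6104 (flp_g L87956) q4815, e3 q6105 (flp_g L127449) q7631, e3 q6106 (flp_g L120598) q7081, e3 q6107 (flp_g L120607) q7082, e3 q6108 L87988 q6108, e3 q6109 L87999 q6109, e3 q6110 L88006 q4820, e3 q6111 L88016 q4821, e3 q6112 (flp_g L127509) q7639, e3 q6113 (flp_g L127519) q7640, e3 q6114 (flp_g L127527) q7641, e3 q6115 L88045 q4824, e3 q6116 (flp_g L127556)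 q7645, e3 q6117 (flp_g L127564) q7646, e3 q6118 (flp_g L120695) q7093, e3 q6119 (flp_g L120701) q7094, e3 q6120 (flp_g L120712) q7095, e3 q6121 L88087 q6121, e3 q6122 L88098 q6122, e3 q6123 L88106 q4831, e3 q6124 L88116 q4832, e3 q6125 L88123 q4833, e3 q6126 (flp_g L127656) q7654, e3 q6127 (flp_g L127666) q7655, e3 q6128 (flp_g L127675) q7656, e3 q6129 (flp_g L645297) q6574, e3 q6130 (flp_g L88179) q4834, e3 q6131 (flp_g L127799) q7661, e3 q6132 L88215 q6132, e3 q6133 (flp_g L88219) q4836, e3 q6134 (flp_g L127868) q7663, e3 q6135 L88247 q4864, e3 q6136 L88255 q4838, e3 q6137 (flp_g L127906) q7667, e3 q6138 (flp_g L645288) q6572, e3 q6139 (flp_g L88277) q4841, e3 q6140 (flp_g L127952) q7668, e3 q6141 L88304 q4870, e3 q6142 L88312 q4843, e3 q6143 (flp_g L127985) q7672, trivial⟩ (by decide +kernel)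

theorem ce_g_96 : ∀ r, r < 64 → sm gg (Qf (6144 + r)) = Qf (tab Gen.g (6144 + r)) :=
  edges_tab (sm gg) Qf (tab Gen.g) 6144 [(6144, 7673), (6145, 6145), (6146, 6146), (6147, 6147), (6148, 4877), (6149, 4847), (6150, 7680), (6151, 7681), (6152, 4881), (6153, 4850), (6154, 6598), (6155, 6155), (6156, 4885), (6157, 4854), (6158, 4855), (6159, 7690), (6160, 7691), (6161, 4890), (6162, 6592), (6163, 4858), (6164, 7695), (6165, 6588), (6166, 4860), (6167, 7699), (6168, 6168), (6169, 6586), (6170, 4863), (6171, 7702), (6172, 7703), (6173, 7666), (6174, 4866), (6175, 4867), (6176, 6716), (6177, 6177), (6178, 6583), (6179, 4869), (6180, 7711), (6181, 7712), (6182, 7671), (6183, 4872), (6184, 4873), (6185, 7718), (6186, 7719), (6187, 7722), (6188, 4914), (6189, 6599), (6190, 6190), (6191, 7679), (6192, 4879), (6193, 4880), (6194, 7729), (6195, 7730), (6196, 7684), (6197, 4883), (6198, 7734), (6199, 6199), (6200, 6200), (6201, 7688), (6202, 7689), (6203, 4888), (6204, 4889), (6205, 7742), (6206, 7743), (6207, 7744)]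
    ⟨e3 q6144 (flp_g L127995) q7673, e3 q6145 L88336 q6145, e3 q6146 L88347 q6146, e3 q6147 L88357 q6147, e3 q6148 L88366 q4877, e3 q6149 L88374 q4847, e3 q6150 (flp_g L128071) q7680, e3 q6151 (flp_g L128080) q7681, e3 q6152 L88399 q4881, e3 q6153 L88408 q4850, e3 q6154 L647905 q6598, e3 q6155 L88427 q6155, e3 q6156 L88434 q4885, e3 q6157 L88441 q4854, e3 q6158 L88450 q4855, e3 q6159 (flp_g L128165) q7690, e3 q6160 (flp_g L128174) q7691, e3 q6161 L88474 q4890, e3 q6162 L643937 q6592, e3 q6163 (flp_g L88534) q4858, e3 q6164 (flp_g L128338) q7695, e3 q6165 (flp_g L645263) q6588, e3 q6166 L88571 q4860, e3 q6167 (flp_g L128383) q7699, e3 q6168 L88616 q6168, e3 q6169 L635891 q6586, e3 q6170 L88633 q4863, e3 q6171 (flp_g L128460) q7702, e3 q6172 (flp_g L128470) q7703, e3 q6173 (flp_g L127896) q7666, e3 q6174 L88667 q4866, e3 q6175 (flp_g L88670) q4867, e3 q6176 (flp_g L642613) q6716, e3 q6177 L88694 q6177, e3 q6178 L645369 q6583, e3 q6179 L88710 q4869, e3 q6180 (flp_g L128569) q7711, e3 q6181 (flp_g L128578) q7712, e3 q6182 (flp_g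 L127977) q7671, e3 q6183 L88739 q4872, e3 q6184 L88750 q4873, e3 q6185 (flp_g L128619) q7718, e3 q6186 (flp_g L128630) q7719, e3 q6187 L128652 q7722, e3 q6188 L88777 q4914, e3 q6189 (flp_g L647861) q6599, e3 q6190 L88805 q6190, e3 q6191 (flp_g L128063) q7679, e3 q6192 L88818 q4879, e3 q6193 L88827 q4880, e3 q6194 (flp_g L128730) q7729, e3 q6195 (flp_g L128739) q7730, e3 q6196 (flp_g L128103) q7684, e3 q6197 (flp_g L88850) q4883, e3 q6198 (flp_g L128765) q7734, e3 q6199 L88874 q6199, e3 q6200 L88884 q6200, e3 q6201 (flp_g L128146) q7688, e3 q6202 (flp_g L128157) q7689, e3 q6203 L88904 q4888, e3 q6204 L88913 q4889, e3 q6205 (flp_g L128827) q7742, e3 q6206 (flp_g L128836) q7743, e3 q6207 (flp_g L128841) q7744, trivial⟩ (by decide +kernel)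

theorem ce_g_97 : ∀ r, r < 64 → sm gg (Qf (6208 + r)) = Qf (tab Gen.g (6208 + r)) :=
  edges_tab (sm gg) Qf (tab Gen.g) 6208 [(6208, 6208), (6209, 6209), (6210, 4892), (6211, 7750), (6212, 7751), (6213, 6213), (6214, 4895), (6215, 6606), (6216, 6216), (6217, 6217), (6218, 4899), (6219, 4900), (6220, 7760), (6221, 7761), (6222, 6222), (6223, 6601), (6224, 6224), (6225, 6225), (6226, 4906), (6227, 4907), (6228, 7770), (6229, 7771), (6230, 7772), (6231, 6231), (6232, 6232), (6233, 4911), (6234, 4912), (6235, 7783), (6236, 7782), (6237, 4913), (6238, 7786), (6239, 4915), (6240, 7787), (6241, 6241), (6242, 6242), (6243, 6243), (6244, 6244), (6245, 4920), (6246, 4921), (6247, 7795), (6248, 7796), (6249, 7797), (6250, 4924), (6251, 4961), (6252, 7801), (6253, 6253), (6254, 6254), (6255, 6255), (6256, 6256), (6257, 6257), (6258, 4931), (6259, 4932), (6260, 4933), (6261, 7808), (6262, 7809), (6263, 7802), (6264, 4934), (6265, 4963), (6266, 6266), (6267, 6267), (6268, 6268), (6269, 6269), (6270, 4939), (6271, 4940)]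
    ⟨e3 q6208 L89023 q6208, e3 q6209 L89034 q6209, e3 q6210 L89043 q4892, e3 q6211 (flp_g L129043) q7750, e3 q6212 (flp_g L129054) q7751, e3 q6213 L89069 q6213, e3 q6214 L89086 q4895, e3 q6215 L647729 q6606, e3 q6216 L89146 q6216, e3 q6217 L89154 q6217, e3 q6218 L89162 q4899, e3 q6219 L89173 q4900, e3 q6220 (flp_g L129230) q7760, e3 q6221 (flp_g L129241) q7761, e3 q6222 L89198 q6222, e3 q6223 L647716 q6601, e3 q6224 L89218 q6224, e3 q6225 L89226 q6225, e3 q6226 L89232 q4906, e3 q6227 L89242 q4907, e3 q6228 (flp_g L129322) q7770, e3 q6229 (flp_g L129330) q7771, e3 q6230 (flp_g L129340) q7772, e3 q6231 L89269 q6231, e3 q6232 L89279 q6232, e3 q6233 L89286 q4911, e3 q6234 L89295 q4912, e3 q6235 L129423 q7783, e3 q6236 (flp_g L129413) q7782, e3 q6237 (flp_g L89320) q4913, e3 q6238 (flp_g L129457) q7786, e3 q6239 (flp_g L89341) q4915, e3 q6240 (flp_g L129480) q7787, e3 q6241 L89364 q6241, e3 q6242 L89373 q6242, e3 q6243 L89379 q6243, e3 q6244 L89390 q6244, e3 q6245 L89396 q4920, e3 q6246 L89406 q4921, e3 q6247 (flp_g L129543) q7795,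 e3 q6248 (flp_g L129553) q7796, e3 q6249 (flp_g L129559) q7797, e3 q6250 L89436 q4924, e3 q6251 (flp_g L647235) q4961, e3 q6252 (flp_g L129602) q7801, e3 q6253 L89462 q6253, e3 q6254 L89469 q6254, e3 q6255 L89479 q6255, e3 q6256 L89483 q6256, e3 q6257 L89494 q6257, e3 q6258 L89500 q4931, e3 q6259 L89510 q4932, e3 q6260 L89515 q4933, e3 q6261 (flp_g L129701) q7808, e3 q6262 (flp_g L129711) q7809, e3 q6263 (flp_g L647295) q7802, e3 q6264 (flp_g L89544) q4934, e3 q6265 L647527 q4963, e3 q6266 L89572 q6266, e3 q6267 L89582 q6267, e3 q6268 L89589 q6268, e3 q6269 L89600 q6269, e3 q6270 L89608 q4939, e3 q6271 L89618 q4940, trivial⟩ (by decide +kernel)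

theorem ce_g_98 : ∀ r, r < 64 → sm gg (Qf (6272 + r)) = Qf (tab Gen.g (6272 + r)) :=
  edges_tab (sm gg) Qf (tab Gen.g) 6272 [(6272, 7818), (6273, 7819), (6274, 7820), (6275, 4960), (6276, 6276), (6277, 6277), (6278, 6278), (6279, 6279), (6280, 6280), (6281, 4950), (6282, 4951), (6283, 4952), (6284, 7828), (6285, 7824), (6286, 7829), (6287, 4959), (6288, 7812), (6289, 7788), (6290, 6290), (6291, 6291), (6292, 6292), (6293, 6544), (6294, 4969), (6295, 4979), (6296, 4984), (6297, 4986), (6298, 4977), (6299, 4991), (6300, 7107), (6301, 4985), (6302, 4980), (6303, 7105), (6304, 5234), (6305, 5208), (6306, 5237), (6307, 6548), (6308, 7143), (6309, 5039), (6310, 4993), (6311, 4999), (6312, 7137), (6313, 5030), (6314, 5216), (6315, 5222), (6316, 5002), (6317, 5219), (6318, 7837), (6319, 5016), (6320, 5010), (6321, 6321), (6322, 7836), (6323, 6323), (6324, 5095), (6325, 5100), (6326, 5019), (6327, 5098), (6328, 6328), (6329, 5087), (6330, 7844), (6331, 5027), (6332, 5028), (6333, 5036), (6334, 7847), (6335, 7845)]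
    ⟨e3 q6272 (flp_g L129825) q7818, e3 q6273 (flp_g L129835) q7819, e3 q6274 (flp_g L129842) q7820, e3 q6275 L647513 q4960, e3 q6276 L89676 q6276, e3 q6277 L89682 q6277, e3 q6278 L89692 q6278, e3 q6279 L89695 q6279, e3 q6280 L89705 q6280, e3 q6281 L89711 q4950, e3 q6282 L89720 q4951, e3 q6283 L89726 q4952, e3 q6284 (flp_g L129978) q7828, e3 q6285 L629469 q7824, e3 q6286 (flp_g L129993) q7829, e3 q6287 L89858 q4959, e3 q6288 (flp_g L646119) q7812, e3 q6289 (flp_g L647737) q7788, e3 q6290 L90115 q6290, e3 q6291 L90127 q6291, e3 q6292 L90248 q6292, e3 q6293 (flp_g L639560) q6544, e3 q6294 (flp_g L90320) q4969, e3 q6295 L90345 q4979, e3 q6296 (flp_g L625473) q4984, e3 q6297 L90422 q4986, e3 q6298 (flp_g L90646) q4977, e3 q6299 L90721 q4991, e3 q6300 L625429 q7107, e3 q6301 L625416 q4985, e3 q6302 (flp_g L90771) q4980, e3 q6303 L621063 q7105, e3 q6304 L609327 q5234, e3 q6305 (flp_g L625235) q5208, e3 q6306 L609706 q5237, e3 q6307 L639452 q6548, e3 q6308 L625372 q7143, e3 q6309 L625359 q5039, e3 q6310 (flp_g L91332) q4993, e3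 q6311 (flp_g L626865) q4999, e3 q6312 (flp_g L621276) q7137, e3 q6313 (flp_g L626753) q5030, e3 q6314 L626837 q5216, e3 q6315 (flp_g L625075) q5222, e3 q6316 (flp_g L91483) q5002, e3 q6317 L625307 q5219, e3 q6318 L133099 q7837, e3 q6319 (flp_g L623299) q5016, e3 q6320 (flp_g L91853) q5010, e3 q6321 L91947 q6321, e3 q6322 L622515 q7836, e3 q6323 L91969 q6323, e3 q6324 L623283 q5095, e3 q6325 L622535 q5100, e3 q6326 (flp_g L92031) q5019, e3 q6327 L606719 q5098, e3 q6328 L92052 q6328, e3 q6329 (flp_g L623368) q5087, e3 q6330 L134072 q7844, e3 q6331 (flp_g L92500) q5027, e3 q6332 (flp_g L92535) q5028, e3 q6333 (flp_g L606502) q5036, e3 q6334 L134285 q7847, e3 q6335 (flp_g L622747) q7845, trivial⟩ (by decide +kernel)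

theorem ce_g_99 : ∀ r, r < 64 → sm gg (Qf (6336 + r)) = Qf (tab Gen.g (6336 + r)) :=
  edges_tab (sm gg) Qf (tab Gen.g) 6336 [(6336, 5034), (6337, 7850), (6338, 5121), (6339, 5038), (6340, 7851), (6341, 5040), (6342, 5125), (6343, 5124), (6344, 5042), (6345, 7853), (6346, 5071), (6347, 5111), (6348, 5048), (6349, 7856), (6350, 5051), (6351, 6351), (6352, 6352), (6353, 6353), (6354, 7861), (6355, 5057), (6356, 7863), (6357, 5058), (6358, 7865), (6359, 6359), (6360, 5060), (6361, 5062), (6362, 5196), (6363, 6363), (6364, 5065), (6365, 7871), (6366, 6366), (6367, 6367), (6368, 5067), (6369, 7874), (6370, 6370), (6371, 5070), (6372, 7878), (6373, 7880), (6374, 5076), (6375, 5201), (6376, 5179), (6377, 6377), (6378, 7883), (6379, 5089), (6380, 5083), (6381, 5105), (6382, 7838), (6383, 5085), (6384, 7882), (6385, 7839), (6386, 5094), (6387, 7841), (6388, 7840), (6389, 6389), (6390, 7890), (6391, 5102), (6392, 5103), (6393, 5110), (6394, 7892), (6395, 5106), (6396, 7891), (6397, 7846), (6398, 5108), (6399, 7895)]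
    ⟨e3 q6336 (flp_g L92671) q5034, e3 q6337 (flp_g L134362) q7850, e3 q6338 L622755 q5121, e3 q6339 L92738 q5038, e3 q6340 L134462 q7851, e3 q6341 (flp_g L92755) q5040, e3 q6342 L622586 q5125, e3 q6343 (flp_g L622675) q5124, e3 q6344 L92788 q5042, e3 q6345 (flp_g L134530) q7853, e3 q6346 L92810 q5071, e3 q6347 (flp_g L622817) q5111, e3 q6348 L92872 q5048, e3 q6349 L135469 q7856, e3 q6350 (flp_g L93425) q5051, e3 q6351 L93453 q6351, e3 q6352 L93500 q6352, e3 q6353 L93510 q6353, e3 q6354 L135769 q7861, e3 q6355 (flp_g L93639) q5057, e3 q6356 L135855 q7863, e3 q6357 (flp_g L93682) q5058, e3 q6358 (flp_g L135893) q7865, e3 q6359 L93706 q6359, e3 q6360 L93713 q5060, e3 q6361 L93773 q5062, e3 q6362 (flp_g L624420) q5196, e3 q6363 L93801 q6363, e3 q6364 (flp_g L93814) q5065, e3 q6365 (flp_g L136072) q7871, e3 q6366 L93834 q6366, e3 q6367 L93843 q6367, e3 q6368 L93852 q5067, e3 q6369 (flp_g L136121) q7874, e3 q6370 L93876 q6370, e3 q6371 L93883 q5070, e3 q6372 (flp_g L136177) q7878, e3 q6373 L136212 q7880, e3 q6374 L93969 q5076,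 e3 q6375 (flp_g L616419) q5201, e3 q6376 (flp_g L624670) q5179, e3 q6377 L93992 q6377, e3 q6378 L136414 q7883, e3 q6379 L621882 q5089, e3 q6380 (flp_g L94114) q5083, e3 q6381 L94160 q5105, e3 q6382 L622629 q7838, e3 q6383 (flp_g L94171) q5085, e3 q6384 (flp_g L622561) q7882, e3 q6385 (flp_g L622542) q7839, e3 q6386 (flp_g L94345) q5094, e3 q6387 L622475 q7841, e3 q6388 L621631 q7840, e3 q6389 L94490 q6389, e3 q6390 L137273 q7890, e3 q6391 (flp_g L94667) q5102, e3 q6392 (flp_g L94703) q5103, e3 q6393 (flp_g L622795) q5110, e3 q6394 L137423 q7892, e3 q6395 (flp_g L94763) q5106, e3 q6396 (flp_g L622809) q7891, e3 q6397 (flp_g L622622) q7846, e3 q6398 L94792 q5108, e3 q6399 L137768 q7895, trivial⟩ (by decide +kernel)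

theorem ce_g_100 : ∀ r, r < 64 → sm gg (Qf (6400 + r)) = Qf (tab Gen.g (6400 + r)) :=
  edges_tab (sm gg) Qf (tab Gen.g) 6400 [(6400, 5118), (6401, 7849), (6402, 5122), (6403, 7897), (6404, 7231), (6405, 5127), (6406, 7901), (6407, 7903), (6408, 7904), (6409, 5129), (6410, 6410), (6411, 6411), (6412, 6412), (6413, 5133), (6414, 7910), (6415, 6415), (6416, 6416), (6417, 5135), (6418, 7913), (6419, 6419), (6420, 5141), (6421, 7915), (6422, 5149), (6423, 7918), (6424, 6424), (6425, 6425), (6426, 6426), (6427, 6427), (6428, 5155), (6429, 7923), (6430, 7924), (6431, 5159), (6432, 7927), (6433, 6433), (6434, 5162), (6435, 7931), (6436, 5163), (6437, 5164), (6438, 7935), (6439, 6439), (6440, 6440), (6441, 6441), (6442, 6442), (6443, 5170), (6444, 7937), (6445, 6445), (6446, 6446), (6447, 5173), (6448, 7942), (6449, 7943), (6450, 7881), (6451, 6451), (6452, 6452), (6453, 5177), (6454, 7948), (6455, 5183), (6456, 7033), (6457, 6457), (6458, 6458), (6459, 5188), (6460, 7950), (6461, 5189), (6462, 7954), (6463, 6463)]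
    ⟨e3 q6400 (flp_g L94999) q5118, e3 q6401 L622787 q7849, e3 q6402 (flp_g L95141) q5122, e3 q6403 (flp_g L137992) q7897, e3 q6404 (flp_g L617477) q7231, e3 q6405 L95193 q5127, e3 q6406 (flp_g L138074) q7901, e3 q6407 L138104 q7903, e3 q6408 L138419 q7904, e3 q6409 (flp_g L95452) q5129, e3 q6410 L95480 q6410, e3 q6411 L95533 q6411, e3 q6412 L95546 q6412, e3 q6413 (flp_g L95601) q5133, e3 q6414 (flp_g L138661) q7910, e3 q6415 L95621 q6415, e3 q6416 L95630 q6416, e3 q6417 L95637 q5135, e3 q6418 (flp_g L138703) q7913, e3 q6419 L95657 q6419, e3 q6420 L95733 q5141, e3 q6421 (flp_g L138856) q7915, e3 q6422 (flp_g L95943) q5149, e3 q6423 (flp_g L139164) q7918, e3 q6424 L95965 q6424, e3 q6425 L95974 q6425, e3 q6426 L96130 q6426, e3 q6427 L96137 q6427, e3 q6428 L96142 q5155, e3 q6429 (flp_g L139406) q7923, e3 q6430 (flp_g L139415) q7924, e3 q6431 L96181 q5159, e3 q6432 (flp_g L139475) q7927, e3 q6433 L96207 q6433, e3 q6434 L96223 q5162, e3 q6435 L139540 q7931, e3 q6436 (flp_g L96254) q5163, e3 q6437 (flp_g L96408) q5164, e3 q6438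 (flp_g L139758) q7935, e3 q6439 L96431 q6439, e3 q6440 L96442 q6440, e3 q6441 L96516 q6441, e3 q6442 L96526 q6442, e3 q6443 L96536 q5170, e3 q6444 (flp_g L139918) q7937, e3 q6445 L96555 q6445, e3 q6446 L96563 q6446, e3 q6447 L96567 q5173, e3 q6448 (flp_g L139960) q7942, e3 q6449 (flp_g L139967) q7943, e3 q6450 L616559 q7881, e3 q6451 L96601 q6451, e3 q6452 L96610 q6452, e3 q6453 L96617 q5177, e3 q6454 (flp_g L140028) q7948, e3 q6455 L96704 q5183, e3 q6456 (flp_g L616701) q7033, e3 q6457 L96741 q6457, e3 q6458 L96757 q6458, e3 q6459 L96766 q5188, e3 q6460 L140210 q7950, e3 q6461 (flp_g L96785) q5189, e3 q6462 (flp_g L140245) q7954, e3 q6463 L96809 q6463, trivial⟩ (by decide +kernel)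

theorem ce_g_101 : ∀ r, r < 64 → sm gg (Qf (6464 + r)) = Qf (tab Gen.g (6464 + r)) :=
  edges_tab (sm gg) Qf (tab Gen.g) 6464 [(6464, 6464), (6465, 6465), (6466, 6466), (6467, 5193), (6468, 7961), (6469, 7868), (6470, 6470), (6471, 7875), (6472, 6472), (6473, 6473), (6474, 5200), (6475, 6559), (6476, 5202), (6477, 5215), (6478, 5206), (6479, 6641), (6480, 7121), (6481, 5211), (6482, 7970), (6483, 7972), (6484, 5213), (6485, 6666), (6486, 6565), (6487, 6564), (6488, 5218), (6489, 7974), (6490, 7975), (6491, 5221), (6492, 7148), (6493, 7979), (6494, 7835), (6495, 5224), (6496, 7984), (6497, 5225), (6498, 6498), (6499, 7987), (6500, 5230), (6501, 6501), (6502, 5232), (6503, 6629), (6504, 6558), (6505, 6557), (6506, 5236), (6507, 7990), (6508, 7991), (6509, 5239), (6510, 7109), (6511, 7995), (6512, 5241), (6513, 7968), (6514, 5242), (6515, 6515), (6516, 6516), (6517, 6517), (6518, 6518), (6519, 7998), (6520, 5250), (6521, 7708), (6522, 6522), (6523, 6523), (6524, 5265), (6525, 6525), (6526, 6526), (6527, 6543)]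
    ⟨e3 q6464 L96820 q6464, e3 q6465 L96827 q6465, e3 q6466 L96834 q6466, e3 q6467 L96839 q5193, e3 q6468 (flp_g L140302) q7961, e3 q6469 (flp_g L616659) q7868, e3 q6470 L96872 q6470, e3 q6471 L616228 q7875, e3 q6472 L96886 q6472, e3 q6473 L96891 q6473, e3 q6474 L96899 q5200, e3 q6475 L637813 q6559, e3 q6476 (flp_g L96973) q5202, e3 q6477 L97002 q5215, e3 q6478 (flp_g L97128) q5206, e3 q6479 L644848 q6641, e3 q6480 (flp_g L621215) q7121, e3 q6481 L97204 q5211, e3 q6482 (flp_g L140820) q7970, e3 q6483 L140852 q7972, e3 q6484 (flp_g L97515) q5213, e3 q6485 L642204 q6666, e3 q6486 (flp_g L639817) q6565, e3 q6487 (flp_g L642274) q6564, e3 q6488 L97707 q5218, e3 q6489 (flp_g L141489) q7974, e3 q6490 (flp_g L141498) q7975, e3 q6491 L97737 q5221, e3 q6492 L621245 q7148, e3 q6493 (flp_g L141547) q7979, e3 q6494 (flp_g L621696) q7835, e3 q6495 L97788 q5224, e3 q6496 L141632 q7984, e3 q6497 (flp_g L97815) q5225, e3 q6498 L98133 q6498, e3 q6499 L142071 q7987, e3 q6500 (flp_g L98163) q5230, e3 q6501 L98189 q6501, e3 q6502 (flp_g L98303)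 q5232, e3 q6503 (flp_g L643467) q6629, e3 q6504 (flp_g L636545) q6558, e3 q6505 (flp_g L642097) q6557, e3 q6506 L98491 q5236, e3 q6507 (flp_g L142569) q7990, e3 q6508 (flp_g L142579) q7991, e3 q6509 L98521 q5239, e3 q6510 (flp_g L621006) q7109, e3 q6511 (flp_g L142631) q7995, e3 q6512 L98559 q5241, e3 q6513 L644879 q7968, e3 q6514 (flp_g L98600) q5242, e3 q6515 L98880 q6515, e3 q6516 L98981 q6516, e3 q6517 L98988 q6517, e3 q6518 L98997 q6518, e3 q6519 L143329 q7998, e3 q6520 (flp_g L99035) q5250, e3 q6521 L642561 q7708, e3 q6522 L99261 q6522, e3 q6523 L99272 q6523, e3 q6524 L99289 q5265, e3 q6525 L99322 q6525, e3 q6526 L99437 q6526, e3 q6527 L639287 q6543, trivial⟩ (by decide +kernel)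

theorem ce_g_102 : ∀ r, r < 64 → sm gg (Qf (6528 + r)) = Qf (tab Gen.g (6528 + r)) :=
  edges_tab (sm gg) Qf (tab Gen.g) 6528 [(6528, 5263), (6529, 8002), (6530, 5269), (6531, 8006), (6532, 7956), (6533, 5271), (6534, 6534), (6535, 6535), (6536, 5282), (6537, 6537), (6538, 6538), (6539, 6539), (6540, 5290), (6541, 5291), (6542, 5703), (6543, 6527), (6544, 6293), (6545, 5692), (6546, 5704), (6547, 5292), (6548, 6307), (6549, 5731), (6550, 5296), (6551, 5726), (6552, 5301), (6553, 5302), (6554, 5303), (6555, 5705), (6556, 5300), (6557, 6505), (6558, 6504), (6559, 6475), (6560, 5706), (6561, 5695), (6562, 5304), (6563, 5312), (6564, 6487), (6565, 6486), (6566, 5308), (6567, 5787), (6568, 5309), (6569, 5740), (6570, 5728), (6571, 6571), (6572, 6138), (6573, 6573), (6574, 6129), (6575, 6575), (6576, 5315), (6577, 5754), (6578, 5316), (6579, 8013), (6580, 6580), (6581, 5330), (6582, 5331), (6583, 6178), (6584, 5333), (6585, 5321), (6586, 6169), (6587, 5336), (6588, 6165), (6589, 5323), (6590, 8022), (6591, 5340)]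
    ⟨e3 q6528 (flp_g L99636) q5263, e3 q6529 (flp_g L143692) q8002, e3 q6530 L100271 q5269, e3 q6531 L145825 q8006, e3 q6532 (flp_g L613160) q7956, e3 q6533 (flp_g L108505) q5271, e3 q6534 L108531 q6534, e3 q6535 L108541 q6535, e3 q6536 (flp_g L109085) q5282, e3 q6537 L113549 q6537, e3 q6538 L114582 q6538, e3 q6539 L114591 q6539, e3 q6540 L114599 q5290, e3 q6541 L114610 q5291, e3 q6542 (flp_g L643746) q5703, e3 q6543 (flp_g L639287) q6527, e3 q6544 L639560 q6293, e3 q6545 L639578 q5692, e3 q6546 (flp_g L643690) q5704, e3 q6547 (flp_g L114662) q5292, e3 q6548 (flp_g L639452) q6307, e3 q6549 L639680 q5731, e3 q6550 (flp_g L114711) q5296, e3 q6551 L643701 q5726, e3 q6552 L114735 q5301, e3 q6553 L114747 q5302, e3 q6554 L114756 q5303, e3 q6555 (flp_g L643756) q5705, e3 q6556 (flp_g L114771) q5300, e3 q6557 L642097 q6505, e3 q6558 L636545 q6504, e3 q6559 (flp_g L637813) q6475, e3 q6560 (flp_g L633072) q5706, e3 q6561 (flp_g L643396) q5695, e3 q6562 (flp_g L114828) q5304, e3 q6563 L114847 q5312, e3 q6564 L642274 q6487, e3 q6565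 L639817 q6486, e3 q6566 (flp_g L114889) q5308, e3 q6567 (flp_g L643053) q5787, e3 q6568 (flp_g L114907) q5309, e3 q6569 (flp_g L643220) q5740, e3 q6570 (flp_g L643910) q5728, e3 q6571 L114945 q6571, e3 q6572 L645288 q6138, e3 q6573 L114964 q6573, e3 q6574 L645297 q6129, e3 q6575 L114984 q6575, e3 q6576 (flp_g L114989) q5315, e3 q6577 L633344 q5754, e3 q6578 (flp_g L115006) q5316, e3 q6579 (flp_g L166613) q8013, e3 q6580 L115031 q6580, e3 q6581 L115044 q5330, e3 q6582 L115051 q5331, e3 q6583 (flp_g L645369) q6178, e3 q6584 L115069 q5333, e3 q6585 (flp_g L115073) q5321, e3 q6586 (flp_g L635891) q6169, e3 q6587 L115097 q5336, e3 q6588 L645263 q6165, e3 q6589 (flp_g L115105) q5323, e3 q6590 (flp_g L166771) q8022, e3 q6591 L115129 q5340, trivial⟩ (by decide +kernel)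

theorem ce_g_103 : ∀ r, r < 64 → sm gg (Qf (6592 + r)) = Qf (tab Gen.g (6592 + r)) :=
  edges_tab (sm gg) Qf (tab Gen.g) 6592 [(6592, 6162), (6593, 5326), (6594, 8024), (6595, 5783), (6596, 5328), (6597, 8028), (6598, 6154), (6599, 6189), (6600, 8015), (6601, 6223), (6602, 5332), (6603, 8034), (6604, 8017), (6605, 6605), (6606, 6215), (6607, 5335), (6608, 8037), (6609, 8019), (6610, 8020), (6611, 5337), (6612, 8042), (6613, 6613), (6614, 5339), (6615, 8046), (6616, 6616), (6617, 6617), (6618, 5343), (6619, 8049), (6620, 8050), (6621, 6621), (6622, 5346), (6623, 5355), (6624, 5356), (6625, 8058), (6626, 5349), (6627, 5359), (6628, 5360), (6629, 6503), (6630, 5711), (6631, 5363), (6632, 5353), (6633, 6633), (6634, 8054), (6635, 8067), (6636, 8069), (6637, 8057), (6638, 5357), (6639, 5371), (6640, 8060), (6641, 6479), (6642, 8061), (6643, 8076), (6644, 8063), (6645, 5361), (6646, 8078), (6647, 5362), (6648, 5710), (6649, 5700), (6650, 5382), (6651, 6651), (6652, 8082), (6653, 6653), (6654, 5367), (6655, 8085)]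
    ⟨e3 q6592 (flp_g L643937) q6162, e3 q6593 (flp_g L115142) q5326, e3 q6594 (flp_g L166805) q8024, e3 q6595 (flp_g L643922) q5783, e3 q6596 L115171 q5328, e3 q6597 (flp_g L166839) q8028, e3 q6598 (flp_g L647905) q6154, e3 q6599 L647861 q6189, e3 q6600 (flp_g L166652) q8015, e3 q6601 (flp_g L647716) q6223, e3 q6602 (flp_g L115218) q5332, e3 q6603 (flp_g L166934) q8034, e3 q6604 (flp_g L166688) q8017, e3 q6605 L115256 q6605, e3 q6606 (flp_g L647729) q6215, e3 q6607 (flp_g L115265) q5335, e3 q6608 (flp_g L166987) q8037, e3 q6609 (flp_g L166728) q8019, e3 q6610 (flp_g L166739) q8020, e3 q6611 (flp_g L115295) q5337, e3 q6612 (flp_g L167045) q8042, e3 q6613 L115318 q6613, e3 q6614 L115323 q5339, e3 q6615 (flp_g L167080) q8046, e3 q6616 L115343 q6616, e3 q6617 L115352 q6617, e3 q6618 L115359 q5343, e3 q6619 (flp_g L167110) q8049, e3 q6620 (flp_g L167121) q8050, e3 q6621 L115382 q6621, e3 q6622 L115393 q5346, e3 q6623 L115414 q5355, e3 q6624 L115423 q5356, e3 q6625 L167204 q8058, e3 q6626 (flp_g L115441) q5349, e3 q6627 L115458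 q5359, e3 q6628 L115465 q5360, e3 q6629 L643467 q6503, e3 q6630 L643458 q5711, e3 q6631 L115490 q5363, e3 q6632 (flp_g L115493) q5353, e3 q6633 L115509 q6633, e3 q6634 (flp_g L167168) q8054, e3 q6635 L167372 q8067, e3 q6636 L167394 q8069, e3 q6637 (flp_g L167200) q8057, e3 q6638 (flp_g L115562) q5357, e3 q6639 L115582 q5371, e3 q6640 (flp_g L167232) q8060, e3 q6641 (flp_g L644848) q6479, e3 q6642 (flp_g L167249) q8061, e3 q6643 L167496 q8076, e3 q6644 (flp_g L167267) q8063, e3 q6645 (flp_g L115627) q5361, e3 q6646 L167527 q8078, e3 q6647 (flp_g L115644) q5362, e3 q6648 (flp_g L644836) q5710, e3 q6649 L643349 q5700, e3 q6650 L115673 q5382, e3 q6651 L115700 q6651, e3 q6652 L167633 q8082, e3 q6653 L115719 q6653, e3 q6654 (flp_g L115721) q5367, e3 q6655 L167670 q8085, trivial⟩ (by decide +kernel)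

theorem ce_g_104 : ∀ r, r < 64 → sm gg (Qf (6656 + r)) = Qf (tab Gen.g (6656 + r)) :=
  edges_tab (sm gg) Qf (tab Gen.g) 6656 [(6656, 5368), (6657, 8088), (6658, 6658), (6659, 8072), (6660, 8091), (6661, 5373), (6662, 8093), (6663, 8094), (6664, 5375), (6665, 8097), (6666, 6485), (6667, 5378), (6668, 8100), (6669, 5738), (6670, 5380), (6671, 5751), (6672, 6672), (6673, 8106), (6674, 6674), (6675, 5384), (6676, 8110), (6677, 5385), (6678, 8113), (6679, 6679), (6680, 5408), (6681, 6681), (6682, 8119), (6683, 6683), (6684, 5390), (6685, 8123), (6686, 6686), (6687, 8127), (6688, 5392), (6689, 8130), (6690, 6690), (6691, 5419), (6692, 5395), (6693, 8134), (6694, 5422), (6695, 5397), (6696, 8138), (6697, 8140), (6698, 5426), (6699, 8144), (6700, 5401), (6701, 8147), (6702, 5430), (6703, 8109), (6704, 5404), (6705, 8151), (6706, 8112), (6707, 5406), (6708, 8155), (6709, 5437), (6710, 8159), (6711, 5439), (6712, 8163), (6713, 5410), (6714, 8166), (6715, 5443), (6716, 6176), (6717, 8169), (6718, 5413), (6719, 8172)]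
    ⟨e3 q6656 (flp_g L115742) q5368, e3 q6657 (flp_g L167702) q8088, e3 q6658 L115765 q6658, e3 q6659 (flp_g L167432) q8072, e3 q6660 L167747 q8091, e3 q6661 (flp_g L115802) q5373, e3 q6662 L167786 q8093, e3 q6663 L167813 q8094, e3 q6664 (flp_g L115833) q5375, e3 q6665 (flp_g L167841) q8097, e3 q6666 (flp_g L642204) q6485, e3 q6667 (flp_g L115861) q5378, e3 q6668 (flp_g L167872) q8100, e3 q6669 (flp_g L644491) q5738, e3 q6670 L115889 q5380, e3 q6671 (flp_g L644588) q5751, e3 q6672 L115924 q6672, e3 q6673 L167979 q8106, e3 q6674 L115948 q6674, e3 q6675 (flp_g L115952) q5384, e3 q6676 L168020 q8110, e3 q6677 (flp_g L115972) q5385, e3 q6678 (flp_g L168058) q8113, e3 q6679 L116000 q6679, e3 q6680 L116014 q5408, e3 q6681 L116022 q6681, e3 q6682 L168113 q8119, e3 q6683 L116042 q6683, e3 q6684 (flp_g L116045) q5390, e3 q6685 L168159 q8123, e3 q6686 L116069 q6686, e3 q6687 L168196 q8127, e3 q6688 (flp_g L116080) q5392, e3 q6689 (flp_g L168226) q8130, e3 q6690 L116101 q6690, e3 q6691 L116110 q5419, e3 q6692 (flp_g L116112) q5395,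 e3 q6693 (flp_g L168260) q8134, e3 q6694 L116138 q5422, e3 q6695 L116146 q5397, e3 q6696 (flp_g L168296) q8138, e3 q6697 L168390 q8140, e3 q6698 L116215 q5426, e3 q6699 L168429 q8144, e3 q6700 (flp_g L116225) q5401, e3 q6701 (flp_g L168461) q8147, e3 q6702 L116249 q5430, e3 q6703 (flp_g L168018) q8109, e3 q6704 (flp_g L116263) q5404, e3 q6705 (flp_g L168500) q8151, e3 q6706 (flp_g L168050) q8112, e3 q6707 L116299 q5406, e3 q6708 (flp_g L168537) q8155, e3 q6709 L116317 q5437, e3 q6710 L168568 q8159, e3 q6711 L116337 q5439, e3 q6712 L168602 q8163, e3 q6713 (flp_g L116346) q5410, e3 q6714 (flp_g L168634) q8166, e3 q6715 L116369 q5443, e3 q6716 L642613 q6176, e3 q6717 L168650 q8169, e3 q6718 (flp_g L116387) q5413, e3 q6719 (flp_g L168685) q8172, trivial⟩ (by decide +kernel)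

theorem ce_g_105 : ∀ r, r < 64 → sm gg (Qf (6720 + r)) = Qf (tab Gen.g (6720 + r)) :=
  edges_tab (sm gg) Qf (tab Gen.g) 6720 [(6720, 5448), (6721, 5449), (6722, 5415), (6723, 8179), (6724, 8129), (6725, 5417), (6726, 8183), (6727, 5818), (6728, 8133), (6729, 5421), (6730, 8187), (6731, 8188), (6732, 8137), (6733, 5424), (6734, 8193), (6735, 5425), (6736, 8196), (6737, 8142), (6738, 8143), (6739, 5427), (6740, 8202), (6741, 6741), (6742, 5429), (6743, 8206), (6744, 5839), (6745, 6745), (6746, 5433), (6747, 8210), (6748, 8211), (6749, 6749), (6750, 5436), (6751, 8216), (6752, 8157), (6753, 8221), (6754, 5438), (6755, 8224), (6756, 8161), (6757, 8162), (6758, 5440), (6759, 8231), (6760, 6760), (6761, 5442), (6762, 8235), (6763, 8236), (6764, 5445), (6765, 8240), (6766, 6766), (6767, 5447), (6768, 8244), (6769, 8245), (6770, 8175), (6771, 8176), (6772, 5867), (6773, 6773), (6774, 5451), (6775, 8254), (6776, 8255), (6777, 6777), (6778, 5454), (6779, 8259), (6780, 5875), (6781, 6781), (6782, 5458), (6783, 5459)]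
    ⟨e3 q6720 L116408 q5448, e3 q6721 L116419 q5449, e3 q6722 (flp_g L116421) q5415, e3 q6723 (flp_g L168739) q8179, e3 q6724 (flp_g L168219) q8129, e3 q6725 L116449 q5417, e3 q6726 (flp_g L168769) q8183, e3 q6727 L116464 q5818, e3 q6728 (flp_g L168251) q8133, e3 q6729 L116480 q5421, e3 q6730 (flp_g L168803) q8187, e3 q6731 (flp_g L168812) q8188, e3 q6732 (flp_g L168286) q8137, e3 q6733 L116512 q5424, e3 q6734 L168965 q8193, e3 q6735 (flp_g L116606) q5425, e3 q6736 (flp_g L169002) q8196, e3 q6737 (flp_g L168413) q8142, e3 q6738 (flp_g L168425) q8143, e3 q6739 (flp_g L116642) q5427, e3 q6740 (flp_g L169066) q8202, e3 q6741 L116668 q6741, e3 q6742 L116673 q5429, e3 q6743 (flp_g L169101) q8206, e3 q6744 L116694 q5839, e3 q6745 L116706 q6745, e3 q6746 L116714 q5433, e3 q6747 (flp_g L169137) q8210, e3 q6748 (flp_g L169148) q8211, e3 q6749 L116741 q6749, e3 q6750 L116751 q5436, e3 q6751 L169192 q8216, e3 q6752 (flp_g L168558) q8157, e3 q6753 L169237 q8221, e3 q6754 (flp_g L116783) q5438, e3 q6755 (flp_g L169270) q8224, e3 q6756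 (flp_g L168589) q8161, e3 q6757 (flp_g L168600) q8162, e3 q6758 (flp_g L116814) q5440, e3 q6759 (flp_g L169328) q8231, e3 q6760 L116839 q6760, e3 q6761 L116845 q5442, e3 q6762 (flp_g L169362) q8235, e3 q6763 L169364 q8236, e3 q6764 (flp_g L116864) q5445, e3 q6765 (flp_g L169406) q8240, e3 q6766 L116890 q6766, e3 q6767 L116897 q5447, e3 q6768 (flp_g L169439) q8244, e3 q6769 (flp_g L169448) q8245, e3 q6770 (flp_g L168706) q8175, e3 q6771 (flp_g L168717) q8176, e3 q6772 L116936 q5867, e3 q6773 L116945 q6773, e3 q6774 L116952 q5451, e3 q6775 (flp_g L169516) q8254, e3 q6776 (flp_g L169525) q8255, e3 q6777 L116975 q6777, e3 q6778 L116982 q5454, e3 q6779 L169549 q8259, e3 q6780 L116999 q5875, e3 q6781 L117008 q6781, e3 q6782 L117014 q5458, e3 q6783 L117024 q5459, trivial⟩ (by decide +kernel)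

theorem ce_g_106 : ∀ r, r < 64 → sm gg (Qf (6784 + r)) = Qf (tab Gen.g (6784 + r)) :=
  edges_tab (sm gg) Qf (tab Gen.g) 6784 [(6784, 8265), (6785, 8266), (6786, 6786), (6787, 6787), (6788, 8273), (6789, 6789), (6790, 8277), (6791, 6791), (6792, 5464), (6793, 8281), (6794, 5465), (6795, 8284), (6796, 6796), (6797, 5506), (6798, 6798), (6799, 8290), (6800, 6800), (6801, 5470), (6802, 8295), (6803, 6803), (6804, 8299), (6805, 5472), (6806, 8302), (6807, 6807), (6808, 5517), (6809, 5475), (6810, 8306), (6811, 5520), (6812, 5477), (6813, 8310), (6814, 6814), (6815, 8314), (6816, 6816), (6817, 8318), (6818, 5481), (6819, 8321), (6820, 6820), (6821, 5530), (6822, 8324), (6823, 5484), (6824, 8327), (6825, 6825), (6826, 6826), (6827, 5486), (6828, 8334), (6829, 5538), (6830, 5488), (6831, 8338), (6832, 5916), (6833, 5542), (6834, 5492), (6835, 8342), (6836, 8343), (6837, 5546), (6838, 5495), (6839, 5548), (6840, 8351), (6841, 5550), (6842, 5497), (6843, 8356), (6844, 5553), (6845, 8360), (6846, 5499), (6847, 8363)]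
    ⟨e3 q6784 (flp_g L169604) q8265, e3 q6785 (flp_g L169614) q8266, e3 q6786 L117048 q6786, e3 q6787 L117056 q6787, e3 q6788 L169672 q8273, e3 q6789 L117076 q6789, e3 q6790 L169710 q8277, e3 q6791 L117096 q6791, e3 q6792 (flp_g L117101) q5464, e3 q6793 L169751 q8281, e3 q6794 (flp_g L117120) q5465, e3 q6795 (flp_g L169783) q8284, e3 q6796 L117145 q6796, e3 q6797 L117159 q5506, e3 q6798 L117167 q6798, e3 q6799 L169843 q8290, e3 q6800 L117191 q6800, e3 q6801 (flp_g L117194) q5470, e3 q6802 L169896 q8295, e3 q6803 L117219 q6803, e3 q6804 L169929 q8299, e3 q6805 (flp_g L117233) q5472, e3 q6806 (flp_g L169964) q8302, e3 q6807 L117256 q6807, e3 q6808 L117270 q5517, e3 q6809 (flp_g L117272) q5475, e3 q6810 (flp_g L170000) q8306, e3 q6811 L117297 q5520, e3 q6812 L117303 q5477, e3 q6813 (flp_g L170033) q8310, e3 q6814 L117319 q6814, e3 q6815 L170065 q8314, e3 q6816 L117340 q6816, e3 q6817 L170103 q8318, e3 q6818 (flp_g L117353) q5481, e3 q6819 (flp_g L170138) q8321, e3 q6820 L117379 q6820, e3 q6821 L117391 q5530, e3 q6822 L170159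 q8324, e3 q6823 (flp_g L117401) q5484, e3 q6824 (flp_g L170188) q8327, e3 q6825 L117417 q6825, e3 q6826 L117428 q6826, e3 q6827 (flp_g L117431) q5486, e3 q6828 (flp_g L170246) q8334, e3 q6829 L117455 q5538, e3 q6830 L117462 q5488, e3 q6831 (flp_g L170284) q8338, e3 q6832 L117479 q5916, e3 q6833 L117487 q5542, e3 q6834 L117494 q5492, e3 q6835 (flp_g L170313) q8342, e3 q6836 (flp_g L170322) q8343, e3 q6837 L117518 q5546, e3 q6838 L117528 q5495, e3 q6839 L117535 q5548, e3 q6840 L170386 q8351, e3 q6841 L117553 q5550, e3 q6842 (flp_g L117557) q5497, e3 q6843 L170435 q8356, e3 q6844 L117582 q5553, e3 q6845 L170468 q8360, e3 q6846 (flp_g L117591) q5499, e3 q6847 (flp_g L170498) q8363, trivial⟩ (by decide +kernel)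

theorem ce_g_107 : ∀ r, r < 64 → sm gg (Qf (6848 + r)) = Qf (tab Gen.g (6848 + r)) :=
  edges_tab (sm gg) Qf (tab Gen.g) 6848 [(6848, 5557), (6849, 8280), (6850, 5502), (6851, 8367), (6852, 8283), (6853, 5504), (6854, 8371), (6855, 5564), (6856, 8375), (6857, 5566), (6858, 8379), (6859, 5508), (6860, 8382), (6861, 5570), (6862, 8293), (6863, 8385), (6864, 5511), (6865, 8388), (6866, 5575), (6867, 5576), (6868, 5513), (6869, 8395), (6870, 8301), (6871, 5515), (6872, 8399), (6873, 5941), (6874, 8305), (6875, 5519), (6876, 8403), (6877, 8404), (6878, 8309), (6879, 5522), (6880, 8409), (6881, 5590), (6882, 8413), (6883, 5524), (6884, 8416), (6885, 5594), (6886, 5595), (6887, 5526), (6888, 8422), (6889, 8320), (6890, 5528), (6891, 8426), (6892, 8427), (6893, 5531), (6894, 8431), (6895, 8326), (6896, 5533), (6897, 8435), (6898, 8436), (6899, 5608), (6900, 5609), (6901, 5967), (6902, 8333), (6903, 5537), (6904, 8445), (6905, 8446), (6906, 8337), (6907, 5540), (6908, 8450), (6909, 5975), (6910, 8341), (6911, 5544)]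
    ⟨e3 q6848 L117615 q5557, e3 q6849 (flp_g L169749) q8280, e3 q6850 (flp_g L117629) q5502, e3 q6851 (flp_g L170534) q8367, e3 q6852 (flp_g L169776) q8283, e3 q6853 L117659 q5504, e3 q6854 (flp_g L170569) q8371, e3 q6855 L117677 q5564, e3 q6856 L170599 q8375, e3 q6857 L117699 q5566, e3 q6858 L170637 q8379, e3 q6859 (flp_g L117711) q5508, e3 q6860 (flp_g L170674) q8382, e3 q6861 L117736 q5570, e3 q6862 (flp_g L169884) q8293, e3 q6863 L170693 q8385, e3 q6864 (flp_g L117759) q5511, e3 q6865 (flp_g L170724) q8388, e3 q6866 L117776 q5575, e3 q6867 L117785 q5576, e3 q6868 (flp_g L117789) q5513, e3 q6869 (flp_g L170778) q8395, e3 q6870 (flp_g L169957) q8301, e3 q6871 L117822 q5515, e3 q6872 (flp_g L170811) q8399, e3 q6873 L117840 q5941, e3 q6874 (flp_g L169993) q8305, e3 q6875 L117855 q5519, e3 q6876 (flp_g L170844) q8403, e3 q6877 (flp_g L170852) q8404, e3 q6878 (flp_g L170025) q8309, e3 q6879 L117884 q5522, e3 q6880 L170885 q8409, e3 q6881 L117901 q5590, e3 q6882 L170924 q8413, e3 q6883 (flp_g L117911) q5524, e3 q6884 (flp_g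 L170959) q8416, e3 q6885 L117932 q5594, e3 q6886 L117944 q5595, e3 q6887 (flp_g L117946) q5526, e3 q6888 (flp_g L171021) q8422, e3 q6889 (flp_g L170130) q8320, e3 q6890 L117979 q5528, e3 q6891 (flp_g L171059) q8426, e3 q6892 L171061 q8427, e3 q6893 (flp_g L117996) q5531, e3 q6894 (flp_g L171093) q8431, e3 q6895 (flp_g L170181) q8326, e3 q6896 L118023 q5533, e3 q6897 (flp_g L171119) q8435, e3 q6898 (flp_g L171129) q8436, e3 q6899 L118040 q5608, e3 q6900 L118050 q5609, e3 q6901 L118059 q5967, e3 q6902 (flp_g L170238) q8333, e3 q6903 L118074 q5537, e3 q6904 (flp_g L171194) q8445, e3 q6905 (flp_g L171204) q8446, e3 q6906 (flp_g L170273) q8337, e3 q6907 L118108 q5540, e3 q6908 L171230 q8450, e3 q6909 L118125 q5975, e3 q6910 (flp_g L170306) q8341, e3 q6911 L118137 q5544, trivial⟩ (by decide +kernel)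

theorem ce_g_108 : ∀ r, r < 64 → sm gg (Qf (6912 + r)) = Qf (tab Gen.g (6912 + r)) :=
  edges_tab (sm gg) Qf (tab Gen.g) 6912 [(6912, 5545), (6913, 8456), (6914, 8457), (6915, 8346), (6916, 8347), (6917, 8463), (6918, 8349), (6919, 5549), (6920, 8468), (6921, 8353), (6922, 6922), (6923, 8470), (6924, 5552), (6925, 8473), (6926, 8358), (6927, 8359), (6928, 5554), (6929, 8480), (6930, 6930), (6931, 5556), (6932, 8483), (6933, 6933), (6934, 6934), (6935, 5560), (6936, 8487), (6937, 8488), (6938, 6938), (6939, 5563), (6940, 8493), (6941, 8373), (6942, 8496), (6943, 5565), (6944, 8499), (6945, 8377), (6946, 8378), (6947, 5567), (6948, 8505), (6949, 6949), (6950, 5569), (6951, 8508), (6952, 8509), (6953, 5572), (6954, 8513), (6955, 6955), (6956, 5574), (6957, 8517), (6958, 8518), (6959, 8391), (6960, 8392), (6961, 6000), (6962, 6962), (6963, 5578), (6964, 8527), (6965, 8528), (6966, 6966), (6967, 5581), (6968, 8532), (6969, 6008), (6970, 6970), (6971, 5585), (6972, 5586), (6973, 8538), (6974, 8539), (6975, 6975)]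
    ⟨e3 q6912 L118146 q5545, e3 q6913 (flp_g L171282) q8456, e3 q6914 (flp_g L171291) q8457, e3 q6915 (flp_g L170348) q8346, e3 q6916 (flp_g L170356) q8347, e3 q6917 L171340 q8463, e3 q6918 (flp_g L170376) q8349, e3 q6919 (flp_g L118206) q5549, e3 q6920 (flp_g L171407) q8468, e3 q6921 (flp_g L170413) q8353, e3 q6922 L118245 q6922, e3 q6923 L171431 q8470, e3 q6924 (flp_g L118254) q5552, e3 q6925 (flp_g L171461) q8473, e3 q6926 (flp_g L170454) q8358, e3 q6927 (flp_g L170465) q8359, e3 q6928 (flp_g L118284) q5554, e3 q6929 (flp_g L171521) q8480, e3 q6930 L118308 q6930, e3 q6931 L118313 q5556, e3 q6932 (flp_g L171557) q8483, e3 q6933 L118334 q6933, e3 q6934 L118344 q6934, e3 q6935 L118351 q5560, e3 q6936 (flp_g L171588) q8487, e3 q6937 (flp_g L171600) q8488, e3 q6938 L118375 q6938, e3 q6939 L118386 q5563, e3 q6940 L171642 q8493, e3 q6941 (flp_g L170587) q8373, e3 q6942 L171686 q8496, e3 q6943 (flp_g L118417) q5565, e3 q6944 (flp_g L171723) q8499, e3 q6945 (flp_g L170622) q8377, e3 q6946 (flp_g L170633) q8378, e3 q6947 (flp_g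 L118452) q5567, e3 q6948 (flp_g L171789) q8505, e3 q6949 L118482 q6949, e3 q6950 L118488 q5569, e3 q6951 (flp_g L171826) q8508, e3 q6952 L171830 q8509, e3 q6953 (flp_g L118510) q5572, e3 q6954 (flp_g L171870) q8513, e3 q6955 L118534 q6955, e3 q6956 L118539 q5574, e3 q6957 (flp_g L171897) q8517, e3 q6958 (flp_g L171904) q8518, e3 q6959 (flp_g L170741) q8391, e3 q6960 (flp_g L170750) q8392, e3 q6961 L118575 q6000, e3 q6962 L118587 q6962, e3 q6963 L118594 q5578, e3 q6964 (flp_g L171969) q8527, e3 q6965 (flp_g L171979) q8528, e3 q6966 L118620 q6966, e3 q6967 L118627 q5581, e3 q6968 L172008 q8532, e3 q6969 L118645 q6008, e3 q6970 L118652 q6970, e3 q6971 L118658 q5585, e3 q6972 L118667 q5586, e3 q6973 (flp_g L172064) q8538, e3 q6974 (flp_g L172073) q8539, e3 q6975 L118690 q6975, trivial⟩ (by decide +kernel)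

theorem ce_g_109 : ∀ r, r < 64 → sm gg (Qf (6976 + r)) = Qf (tab Gen.g (6976 + r)) :=
  edges_tab (sm gg) Qf (tab Gen.g) 6976 [(6976, 8544), (6977, 5589), (6978, 8547), (6979, 8411), (6980, 8549), (6981, 5591), (6982, 8553), (6983, 6983), (6984, 5593), (6985, 8557), (6986, 8558), (6987, 8419), (6988, 6023), (6989, 6989), (6990, 5597), (6991, 8565), (6992, 8566), (6993, 6993), (6994, 5600), (6995, 5601), (6996, 8572), (6997, 6032), (6998, 6998), (6999, 5603), (7000, 8578), (7001, 8579), (7002, 7002), (7003, 5606), (7004, 5607), (7005, 8585), (7006, 8586), (7007, 8590), (7008, 8440), (7009, 8441), (7010, 8593), (7011, 6045), (7012, 7012), (7013, 5613), (7014, 5614), (7015, 8599), (7016, 8600), (7017, 7017), (7018, 5617), (7019, 8604), (7020, 6054), (7021, 6055), (7022, 7022), (7023, 7023), (7024, 5622), (7025, 5623), (7026, 8612), (7027, 8613), (7028, 8614), (7029, 7029), (7030, 7030), (7031, 7031), (7032, 7032), (7033, 6456), (7034, 7034), (7035, 7035), (7036, 5634), (7037, 8620), (7038, 6063), (7039, 7039)]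
    ⟨e3 q6976 L172108 q8544, e3 q6977 (flp_g L118703) q5589, e3 q6978 (flp_g L172137) q8547, e3 q6979 (flp_g L170914) q8411, e3 q6980 L172176 q8549, e3 q6981 (flp_g L118741) q5591, e3 q6982 (flp_g L172220) q8553, e3 q6983 L118767 q6983, e3 q6984 L118774 q5593, e3 q6985 (flp_g L172253) q8557, e3 q6986 (flp_g L172263) q8558, e3 q6987 (flp_g L170994) q8419, e3 q6988 L118818 q6023, e3 q6989 L118829 q6989, e3 q6990 L118837 q5597, e3 q6991 (flp_g L172341) q8565, e3 q6992 (flp_g L172353) q8566, e3 q6993 L118865 q6993, e3 q6994 L118875 q5600, e3 q6995 (flp_g L118877) q5601, e3 q6996 (flp_g L172406) q8572, e3 q6997 L118896 q6032, e3 q6998 L118904 q6998, e3 q6999 L118911 q5603, e3 q7000 (flp_g L172448) q8578, e3 q7001 (flp_g L172456) q8579, e3 q7002 L118931 q7002, e3 q7003 L118936 q5606, e3 q7004 L118944 q5607, e3 q7005 (flp_g L172494) q8585, e3 q7006 (flp_g L172502) q8586, e3 q7007 L172524 q8590, e3 q7008 (flp_g L171155) q8440, e3 q7009 (flp_g L171160) q8441, e3 q7010 L172545 q8593, e3 q7011 L118993 q6045, e3 q7012 L119001 q7012,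 e3 q7013 L119008 q5613, e3 q7014 L119019 q5614, e3 q7015 (flp_g L172602) q8599, e3 q7016 (flp_g L172613) q8600, e3 q7017 L119044 q7017, e3 q7018 (flp_g L119047) q5617, e3 q7019 (flp_g L172647) q8604, e3 q7020 L119067 q6054, e3 q7021 L119076 q6055, e3 q7022 L119081 q7022, e3 q7023 L119092 q7023, e3 q7024 L119099 q5622, e3 q7025 L119109 q5623, e3 q7026 (flp_g L172714) q8612, e3 q7027 (flp_g L172724) q8613, e3 q7028 (flp_g L172730) q8614, e3 q7029 L119308 q7029, e3 q7030 L119318 q7030, e3 q7031 L119549 q7031, e3 q7032 L119557 q7032, e3 q7033 L616701 q6456, e3 q7034 L119616 q7034, e3 q7035 L119622 q7035, e3 q7036 L119628 q5634, e3 q7037 (flp_g L173515) q8620, e3 q7038 L119811 q6063, e3 q7039 L119822 q7039, trivial⟩ (by decide +kernel)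

theorem ce_g_110 : ∀ r, r < 64 → sm gg (Qf (7040 + r)) = Qf (tab Gen.g (7040 + r)) :=
  edges_tab (sm gg) Qf (tab Gen.g) 7040 [(7040, 5638), (7041, 8625), (7042, 6067), (7043, 7043), (7044, 8628), (7045, 6070), (7046, 7046), (7047, 5644), (7048, 8632), (7049, 5646), (7050, 8634), (7051, 6076), (7052, 6077), (7053, 7053), (7054, 7054), (7055, 5651), (7056, 5652), (7057, 8642), (7058, 8643), (7059, 8644), (7060, 5654), (7061, 8650), (7062, 6087), (7063, 7063), (7064, 8653), (7065, 6090), (7066, 7066), (7067, 5660), (7068, 8657), (7069, 6094), (7070, 7070), (7071, 5663), (7072, 8663), (7073, 8664), (7074, 8667), (7075, 6100), (7076, 7076), (7077, 5667), (7078, 8671), (7079, 5669), (7080, 8673), (7081, 6106), (7082, 6107), (7083, 7083), (7084, 7084), (7085, 5674), (7086, 5675), (7087, 8681), (7088, 8682), (7089, 8683), (7090, 5678), (7091, 8687), (7092, 8688), (7093, 6118), (7094, 6119), (7095, 6120), (7096, 7096), (7097, 7097), (7098, 5685), (7099, 5686), (7100, 5687), (7101, 8700), (7102, 8701), (7103, 8702)]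
    ⟨e3 q7040 (flp_g L119871) q5638, e3 q7041 (flp_g L173885) q8625, e3 q7042 L119894 q6067, e3 q7043 L119905 q7043, e3 q7044 L174050 q8628, e3 q7045 L120012 q6070, e3 q7046 L120020 q7046, e3 q7047 L120027 q5644, e3 q7048 (flp_g L174108) q8632, e3 q7049 (flp_g L120063) q5646, e3 q7050 (flp_g L174147) q8634, e3 q7051 L120087 q6076, e3 q7052 L120096 q6077, e3 q7053 L120103 q7053, e3 q7054 L120112 q7054, e3 q7055 L120120 q5651, e3 q7056 L120128 q5652, e3 q7057 (flp_g L174210) q8642, e3 q7058 (flp_g L174218) q8643, e3 q7059 (flp_g L174223) q8644, e3 q7060 (flp_g L120236) q5654, e3 q7061 (flp_g L174417) q8650, e3 q7062 L120258 q6087, e3 q7063 L120268 q7063, e3 q7064 L174565 q8653, e3 q7065 L120368 q6090, e3 q7066 L120377 q7066, e3 q7067 L120385 q5660, e3 q7068 (flp_g L174627) q8657, e3 q7069 L120431 q6094, e3 q7070 L120439 q7070, e3 q7071 L120444 q5663, e3 q7072 (flp_g L174696) q8663, e3 q7073 (flp_g L174704) q8664, e3 q7074 L174729 q8667, e3 q7075 L120477 q6100, e3 q7076 L120486 q7076, e3 q7077 L120492 q5667, e3 q7078 (flp_g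 L174783) q8671, e3 q7079 (flp_g L120575) q5669, e3 q7080 (flp_g L174896) q8673, e3 q7081 L120598 q6106, e3 q7082 L120607 q6107, e3 q7083 L120613 q7083, e3 q7084 L120623 q7084, e3 q7085 L120629 q5674, e3 q7086 L120638 q5675, e3 q7087 (flp_g L174960) q8681, e3 q7088 (flp_g L174969) q8682, e3 q7089 (flp_g L174976) q8683, e3 q7090 L120670 q5678, e3 q7091 (flp_g L175008) q8687, e3 q7092 (flp_g L175018) q8688, e3 q7093 L120695 q6118, e3 q7094 L120701 q6119, e3 q7095 L120712 q6120, e3 q7096 L120718 q7096, e3 q7097 L120728 q7097, e3 q7098 L120735 q5685, e3 q7099 L120744 q5686, e3 q7100 L120750 q5687, e3 q7101 (flp_g L175115) q8700, e3 q7102 (flp_g L175124) q8701, e3 q7103 (flp_g L175132) q8702, trivial⟩ (by decide +kernel)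

theorem ce_g_111 : ∀ r, r < 64 → sm gg (Qf (7104 + r)) = Qf (tab Gen.g (7104 + r)) :=
  edges_tab (sm gg) Qf (tab Gen.g) 7104 [(7104, 5708), (7105, 6303), (7106, 5714), (7107, 6300), (7108, 5716), (7109, 6510), (7110, 5718), (7111, 5723), (7112, 8071), (7113, 8706), (7114, 8077), (7115, 8062), (7116, 5709), (7117, 8079), (7118, 8056), (7119, 8709), (7120, 5715), (7121, 6480), (7122, 8715), (7123, 5717), (7124, 8717), (7125, 8707), (7126, 5720), (7127, 8720), (7128, 5722), (7129, 8070), (7130, 7130), (7131, 8723), (7132, 7132), (7133, 8725), (7134, 5733), (7135, 8096), (7136, 7136), (7137, 6312), (7138, 5736), (7139, 8099), (7140, 8087), (7141, 8730), (7142, 5741), (7143, 6308), (7144, 8732), (7145, 5743), (7146, 5744), (7147, 8735), (7148, 6492), (7149, 5746), (7150, 8739), (7151, 8098), (7152, 8102), (7153, 5750), (7154, 8743), (7155, 8744), (7156, 8089), (7157, 5753), (7158, 8012), (7159, 7159), (7160, 8749), (7161, 7161), (7162, 8752), (7163, 5759), (7164, 8755), (7165, 7165), (7166, 5794), (7167, 5762)]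
    ⟨e3 q7104 L120898 q5708, e3 q7105 (flp_g L621063) q6303, e3 q7106 L120956 q5714, e3 q7107 (flp_g L625429) q6300, e3 q7108 L120971 q5716, e3 q7109 L621006 q6510, e3 q7110 L120988 q5718, e3 q7111 L643360 q5723, e3 q7112 (flp_g L632861) q8071, e3 q7113 (flp_g L175336) q8706, e3 q7114 (flp_g L644826) q8077, e3 q7115 (flp_g L641535) q8062, e3 q7116 (flp_g L121210) q5709, e3 q7117 (flp_g L644403) q8079, e3 q7118 (flp_g L643441) q8056, e3 q7119 L621223 q8709, e3 q7120 (flp_g L121290) q5715, e3 q7121 L621215 q6480, e3 q7122 L175981 q8715, e3 q7123 (flp_g L121324) q5717, e3 q7124 (flp_g L176009) q8717, e3 q7125 (flp_g L641888) q8707, e3 q7126 (flp_g L121357) q5720, e3 q7127 (flp_g L176043) q8720, e3 q7128 L121385 q5722, e3 q7129 (flp_g L644762) q8070, e3 q7130 L121540 q7130, e3 q7131 L176384 q8723, e3 q7132 L121603 q7132, e3 q7133 L176415 q8725, e3 q7134 (flp_g L121612) q5733, e3 q7135 (flp_g L644508) q8096, e3 q7136 L121631 q7136, e3 q7137 L621276 q6312, e3 q7138 (flp_g L121645) q5736, e3 q7139 (flp_g L644497) q8099, e3 q7140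 (flp_g L644522) q8087, e3 q7141 L176564 q8730, e3 q7142 (flp_g L121714) q5741, e3 q7143 (flp_g L625372) q6308, e3 q7144 L176612 q8732, e3 q7145 (flp_g L121753) q5743, e3 q7146 (flp_g L121781) q5744, e3 q7147 (flp_g L176692) q8735, e3 q7148 (flp_g L621245) q6492, e3 q7149 L121807 q5746, e3 q7150 (flp_g L176721) q8739, e3 q7151 (flp_g L167856) q8098, e3 q7152 (flp_g L644460) q8102, e3 q7153 L121838 q5750, e3 q7154 (flp_g L176750) q8743, e3 q7155 (flp_g L176761) q8744, e3 q7156 (flp_g L644564) q8089, e3 q7157 L121866 q5753, e3 q7158 L642912 q8012, e3 q7159 L121962 q7159, e3 q7160 L177034 q8749, e3 q7161 L122035 q7161, e3 q7162 L177075 q8752, e3 q7163 (flp_g L122046) q5759, e3 q7164 (flp_g L177107) q8755, e3 q7165 L122067 q7165, e3 q7166 L122081 q5794, e3 q7167 (flp_g L122083) q5762, trivial⟩ (by decide +kernel)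

theorem ce_g_112 : ∀ r, r < 64 → sm gg (Qf (7168 + r)) = Qf (tab Gen.g (7168 + r)) :=
  edges_tab (sm gg) Qf (tab Gen.g) 7168 [(7168, 8135), (7169, 5797), (7170, 5764), (7171, 8758), (7172, 7172), (7173, 8762), (7174, 7174), (7175, 8766), (7176, 5768), (7177, 8769), (7178, 7178), (7179, 5807), (7180, 8772), (7181, 5771), (7182, 8774), (7183, 7183), (7184, 7184), (7185, 5773), (7186, 8781), (7187, 5815), (7188, 5775), (7189, 8785), (7190, 8132), (7191, 5819), (7192, 5779), (7193, 8788), (7194, 8789), (7195, 5823), (7196, 5782), (7197, 8027), (7198, 5785), (7199, 8794), (7200, 8796), (7201, 5788), (7202, 8799), (7203, 5833), (7204, 5790), (7205, 8803), (7206, 8754), (7207, 5792), (7208, 8807), (7209, 8149), (7210, 8101), (7211, 5796), (7212, 8186), (7213, 8810), (7214, 8025), (7215, 5799), (7216, 8814), (7217, 5847), (7218, 8818), (7219, 5801), (7220, 8821), (7221, 5851), (7222, 5852), (7223, 5803), (7224, 8827), (7225, 8768), (7226, 5805), (7227, 8831), (7228, 8832), (7229, 5808), (7230, 8836), (7231, 6404)]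
    ⟨e3 q7168 (flp_g L644192) q8135, e3 q7169 L122111 q5797, e3 q7170 L122119 q5764, e3 q7171 (flp_g L177179) q8758, e3 q7172 L122136 q7172, e3 q7173 L177212 q8762, e3 q7174 L122158 q7174, e3 q7175 L177250 q8766, e3 q7176 (flp_g L122168) q5768, e3 q7177 (flp_g L177282) q8769, e3 q7178 L122192 q7178, e3 q7179 L122204 q5807, e3 q7180 L177303 q8772, e3 q7181 (flp_g L122214) q5771, e3 q7182 (flp_g L177339) q8774, e3 q7183 L122237 q7183, e3 q7184 L122249 q7184, e3 q7185 (flp_g L122252) q5773, e3 q7186 (flp_g L177401) q8781, e3 q7187 L122273 q5815, e3 q7188 L122280 q5775, e3 q7189 (flp_g L177434) q8785, e3 q7190 (flp_g L168242) q8132, e3 q7191 L122305 q5819, e3 q7192 L122314 q5779, e3 q7193 (flp_g L177466) q8788, e3 q7194 (flp_g L177476) q8789, e3 q7195 L122337 q5823, e3 q7196 L122349 q5782, e3 q7197 (flp_g L642930) q8027, e3 q7198 L122480 q5785, e3 q7199 (flp_g L177721) q8794, e3 q7200 L177843 q8796, e3 q7201 (flp_g L122575) q5788, e3 q7202 (flp_g L177881) q8799, e3 q7203 L122609 q5833, e3 q7204 (flp_g L122613) q5790, e3 q7205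 (flp_g L177939) q8803, e3 q7206 (flp_g L177100) q8754, e3 q7207 L122643 q5792, e3 q7208 (flp_g L177967) q8807, e3 q7209 (flp_g L168482) q8149, e3 q7210 L644449 q8101, e3 q7211 L122678 q5796, e3 q7212 (flp_g L644258) q8186, e3 q7213 (flp_g L178012) q8810, e3 q7214 L640494 q8025, e3 q7215 L122708 q5799, e3 q7216 L178044 q8814, e3 q7217 L122728 q5847, e3 q7218 L178089 q8818, e3 q7219 (flp_g L122736) q5801, e3 q7220 (flp_g L178123) q8821, e3 q7221 L122758 q5851, e3 q7222 L122769 q5852, e3 q7223 (flp_g L122771) q5803, e3 q7224 (flp_g L178181) q8827, e3 q7225 (flp_g L177274) q8768, e3 q7226 L122801 q5805, e3 q7227 (flp_g L178214) q8831, e3 q7228 L178216 q8832, e3 q7229 (flp_g L122818) q5808, e3 q7230 (flp_g L178254) q8836, e3 q7231 L617477 q6404, trivial⟩ (by decide +kernel)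

theorem ce_g_113 : ∀ r, r < 64 → sm gg (Qf (7232 + r)) = Qf (tab Gen.g (7232 + r)) :=
  edges_tab (sm gg) Qf (tab Gen.g) 7232 [(7232, 5810), (7233, 8840), (7234, 8841), (7235, 5865), (7236, 5866), (7237, 8177), (7238, 8780), (7239, 5814), (7240, 8849), (7241, 8850), (7242, 8784), (7243, 5817), (7244, 8854), (7245, 8185), (7246, 8787), (7247, 5821), (7248, 5822), (7249, 8860), (7250, 8861), (7251, 8792), (7252, 5826), (7253, 8865), (7254, 8866), (7255, 7255), (7256, 5829), (7257, 8870), (7258, 5830), (7259, 8874), (7260, 7260), (7261, 5832), (7262, 8878), (7263, 8200), (7264, 7264), (7265, 5835), (7266, 8882), (7267, 8883), (7268, 7268), (7269, 5838), (7270, 8887), (7271, 8208), (7272, 7272), (7273, 5842), (7274, 5843), (7275, 8893), (7276, 8894), (7277, 7277), (7278, 8899), (7279, 5846), (7280, 8902), (7281, 8816), (7282, 8904), (7283, 5848), (7284, 8908), (7285, 7285), (7286, 5850), (7287, 8912), (7288, 8913), (7289, 8824), (7290, 8229), (7291, 7291), (7292, 5854), (7293, 8919), (7294, 8920), (7295, 7295)]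
    ⟨e3 q7232 L122852 q5810, e3 q7233 (flp_g L178284) q8840, e3 q7234 (flp_g L178297) q8841, e3 q7235 L122876 q5865, e3 q7236 L122887 q5866, e3 q7237 (flp_g L168725) q8177, e3 q7238 (flp_g L177393) q8780, e3 q7239 L122907 q5814, e3 q7240 (flp_g L178368) q8849, e3 q7241 (flp_g L178377) q8850, e3 q7242 (flp_g L177423) q8784, e3 q7243 L122936 q5817, e3 q7244 L178398 q8854, e3 q7245 (flp_g L168789) q8185, e3 q7246 (flp_g L177459) q8787, e3 q7247 L122968 q5821, e3 q7248 L122978 q5822, e3 q7249 (flp_g L178449) q8860, e3 q7250 (flp_g L178459) q8861, e3 q7251 (flp_g L177501) q8792, e3 q7252 L123182 q5826, e3 q7253 (flp_g L178753) q8865, e3 q7254 (flp_g L178764) q8866, e3 q7255 L123205 q7255, e3 q7256 L123216 q5829, e3 q7257 L178989 q8870, e3 q7258 (flp_g L123338) q5830, e3 q7259 (flp_g L179035) q8874, e3 q7260 L123367 q7260, e3 q7261 L123374 q5832, e3 q7262 (flp_g L179076) q8878, e3 q7263 (flp_g L169048) q8200, e3 q7264 L123426 q7264, e3 q7265 L123433 q5835, e3 q7266 (flp_g L179147) q8882, e3 q7267 (flp_g L179156) q8883, e3 q7268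 L123454 q7268, e3 q7269 L123461 q5838, e3 q7270 L179180 q8887, e3 q7271 (flp_g L169122) q8208, e3 q7272 L123489 q7272, e3 q7273 L123495 q5842, e3 q7274 L123505 q5843, e3 q7275 (flp_g L179235) q8893, e3 q7276 (flp_g L179245) q8894, e3 q7277 L123527 q7277, e3 q7278 L179277 q8899, e3 q7279 (flp_g L123540) q5846, e3 q7280 (flp_g L179313) q8902, e3 q7281 (flp_g L178081) q8816, e3 q7282 L179363 q8904, e3 q7283 (flp_g L123584) q5848, e3 q7284 (flp_g L179403) q8908, e3 q7285 L123609 q7285, e3 q7286 L123616 q5850, e3 q7287 (flp_g L179432) q8912, e3 q7288 (flp_g L179443) q8913, e3 q7289 (flp_g L178158) q8824, e3 q7290 (flp_g L169310) q8229, e3 q7291 L123667 q7291, e3 q7292 L123675 q5854, e3 q7293 (flp_g L179517) q8919, e3 q7294 (flp_g L179528) q8920, e3 q7295 L123698 q7295, trivial⟩ (by decide +kernel)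

theorem ce_g_114 : ∀ r, r < 64 → sm gg (Qf (7296 + r)) = Qf (tab Gen.g (7296 + r)) :=
  edges_tab (sm gg) Qf (tab Gen.g) 7296 [(7296, 5857), (7297, 5858), (7298, 8926), (7299, 8238), (7300, 7300), (7301, 5860), (7302, 8932), (7303, 8933), (7304, 7304), (7305, 5863), (7306, 5864), (7307, 8939), (7308, 8940), (7309, 8943), (7310, 8845), (7311, 8945), (7312, 8252), (7313, 7313), (7314, 5870), (7315, 5871), (7316, 8951), (7317, 8952), (7318, 7318), (7319, 5874), (7320, 8956), (7321, 8261), (7322, 8262), (7323, 7323), (7324, 7324), (7325, 5879), (7326, 5880), (7327, 8964), (7328, 8965), (7329, 8966), (7330, 7330), (7331, 8972), (7332, 7332), (7333, 8975), (7334, 5883), (7335, 8978), (7336, 7336), (7337, 5930), (7338, 8981), (7339, 5886), (7340, 8984), (7341, 7341), (7342, 7342), (7343, 5888), (7344, 8990), (7345, 5938), (7346, 5890), (7347, 8994), (7348, 8304), (7349, 5942), (7350, 5894), (7351, 8344), (7352, 8995), (7353, 5946), (7354, 5897), (7355, 8999), (7356, 9001), (7357, 5899), (7358, 9004), (7359, 7359)]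
    ⟨e3 q7296 L123708 q5857, e3 q7297 (flp_g L123710) q5858, e3 q7298 (flp_g L179579) q8926, e3 q7299 (flp_g L169387) q8238, e3 q7300 L123741 q7300, e3 q7301 L123750 q5860, e3 q7302 (flp_g L179627) q8932, e3 q7303 (flp_g L179637) q8933, e3 q7304 L123772 q7304, e3 q7305 L123779 q5863, e3 q7306 L123790 q5864, e3 q7307 (flp_g L179682) q8939, e3 q7308 (flp_g L179693) q8940, e3 q7309 L179723 q8943, e3 q7310 (flp_g L178329) q8845, e3 q7311 L179748 q8945, e3 q7312 (flp_g L169501) q8252, e3 q7313 L123853 q7313, e3 q7314 L123860 q5870, e3 q7315 L123870 q5871, e3 q7316 (flp_g L179796) q8951, e3 q7317 (flp_g L179806) q8952, e3 q7318 L123890 q7318, e3 q7319 (flp_g L123893) q5874, e3 q7320 (flp_g L179834) q8956, e3 q7321 (flp_g L169572) q8261, e3 q7322 (flp_g L169582) q8262, e3 q7323 L123925 q7323, e3 q7324 L123937 q7324, e3 q7325 L123944 q5879, e3 q7326 L123955 q5880, e3 q7327 (flp_g L179897) q8964, e3 q7328 (flp_g L179908) q8965, e3 q7329 (flp_g L179914) q8966, e3 q7330 L123983 q7330, e3 q7331 L179970 q8972, e3 q7332 L124007 q7332,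 e3 q7333 L180012 q8975, e3 q7334 (flp_g L124020) q5883, e3 q7335 (flp_g L180049) q8978, e3 q7336 L124046 q7336, e3 q7337 L124063 q5930, e3 q7338 L180073 q8981, e3 q7339 (flp_g L124073) q5886, e3 q7340 (flp_g L180105) q8984, e3 q7341 L124092 q7341, e3 q7342 L124102 q7342, e3 q7343 (flp_g L124107) q5888, e3 q7344 (flp_g L180167) q8990, e3 q7345 L124133 q5938, e3 q7346 L124140 q5890, e3 q7347 (flp_g L180203) q8994, e3 q7348 (flp_g L169983) q8304, e3 q7349 L124169 q5942, e3 q7350 L124176 q5894, e3 q7351 L641337 q8344, e3 q7352 (flp_g L180243) q8995, e3 q7353 L124198 q5946, e3 q7354 L124208 q5897, e3 q7355 L180280 q8999, e3 q7356 L180323 q9001, e3 q7357 (flp_g L124237) q5899, e3 q7358 (flp_g L180359) q9004, e3 q7359 L124273 q7359, trivial⟩ (by decide +kernel)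

theorem ce_g_115 : ∀ r, r < 64 → sm gg (Qf (7360 + r)) = Qf (tab Gen.g (7360 + r)) :=
  edges_tab (sm gg) Qf (tab Gen.g) 7360 [(7360, 5901), (7361, 9008), (7362, 5955), (7363, 5903), (7364, 9012), (7365, 9013), (7366, 5906), (7367, 9017), (7368, 5961), (7369, 5908), (7370, 9021), (7371, 9022), (7372, 7372), (7373, 7373), (7374, 8332), (7375, 5968), (7376, 5912), (7377, 9030), (7378, 9031), (7379, 5972), (7380, 5915), (7381, 9035), (7382, 8340), (7383, 5976), (7384, 5919), (7385, 5920), (7386, 9041), (7387, 9042), (7388, 5981), (7389, 9047), (7390, 9049), (7391, 5924), (7392, 9052), (7393, 5986), (7394, 5926), (7395, 9056), (7396, 8977), (7397, 5928), (7398, 9060), (7399, 9061), (7400, 5931), (7401, 9065), (7402, 8983), (7403, 5933), (7404, 9069), (7405, 9070), (7406, 5999), (7407, 8393), (7408, 8989), (7409, 5937), (7410, 9076), (7411, 9077), (7412, 8993), (7413, 5940), (7414, 9081), (7415, 8401), (7416, 8189), (7417, 5944), (7418, 5945), (7419, 8454), (7420, 9086), (7421, 8997), (7422, 9091), (7423, 5948)]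
    ⟨e3 q7360 (flp_g L124276) q5901, e3 q7361 (flp_g L180429) q9008, e3 q7362 L124301 q5955, e3 q7363 L124309 q5903, e3 q7364 (flp_g L180470) q9012, e3 q7365 L180472 q9013, e3 q7366 (flp_g L124331) q5906, e3 q7367 (flp_g L180505) q9017, e3 q7368 L124352 q5961, e3 q7369 L124359 q5908, e3 q7370 (flp_g L180531) q9021, e3 q7371 (flp_g L180542) q9022, e3 q7372 L124383 q7372, e3 q7373 L124394 q7373, e3 q7374 (flp_g L170229) q8332, e3 q7375 L124410 q5968, e3 q7376 L124418 q5912, e3 q7377 (flp_g L180617) q9030, e3 q7378 (flp_g L180628) q9031, e3 q7379 L124442 q5972, e3 q7380 L124455 q5915, e3 q7381 L180658 q9035, e3 q7382 (flp_g L170299) q8340, e3 q7383 L124475 q5976, e3 q7384 L124482 q5919, e3 q7385 L124492 q5920, e3 q7386 (flp_g L180709) q9041, e3 q7387 (flp_g L180719) q9042, e3 q7388 L124517 q5981, e3 q7389 L180752 q9047, e3 q7390 L180796 q9049, e3 q7391 (flp_g L124545) q5924, e3 q7392 (flp_g L180834) q9052, e3 q7393 L124580 q5986, e3 q7394 (flp_g L124584) q5926, e3 q7395 (flp_g L180900) q9056, e3 q7396 (flp_g L180041) q8977,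 e3 q7397 L124619 q5928, e3 q7398 (flp_g L180936) q9060, e3 q7399 L180940 q9061, e3 q7400 (flp_g L124639) q5931, e3 q7401 (flp_g L180976) q9065, e3 q7402 (flp_g L180098) q8983, e3 q7403 L124669 q5933, e3 q7404 (flp_g L181000) q9069, e3 q7405 (flp_g L181011) q9070, e3 q7406 L124698 q5999, e3 q7407 (flp_g L170761) q8393, e3 q7408 (flp_g L180159) q8989, e3 q7409 L124724 q5937, e3 q7410 (flp_g L181079) q9076, e3 q7411 (flp_g L181089) q9077, e3 q7412 (flp_g L180192) q8993, e3 q7413 L124756 q5940, e3 q7414 L181115 q9081, e3 q7415 (flp_g L170832) q8401, e3 q7416 (flp_g L641302) q8189, e3 q7417 L124787 q5944, e3 q7418 L124796 q5945, e3 q7419 (flp_g L637662) q8454, e3 q7420 (flp_g L181176) q9086, e3 q7421 (flp_g L180267) q8997, e3 q7422 L181201 q9091, e3 q7423 (flp_g L124826) q5948, trivial⟩ (by decide +kernel)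

theorem ce_g_116 : ∀ r, r < 64 → sm gg (Qf (7424 + r)) = Qf (tab Gen.g (7424 + r)) :=
  edges_tab (sm gg) Qf (tab Gen.g) 7424 [(7424, 9093), (7425, 5949), (7426, 9097), (7427, 9003), (7428, 5951), (7429, 9101), (7430, 8420), (7431, 9007), (7432, 5954), (7433, 9105), (7434, 9106), (7435, 9011), (7436, 5957), (7437, 5958), (7438, 9112), (7439, 8429), (7440, 9016), (7441, 5960), (7442, 9118), (7443, 9119), (7444, 9020), (7445, 5963), (7446, 5964), (7447, 9125), (7448, 9126), (7449, 9129), (7450, 6043), (7451, 9131), (7452, 8443), (7453, 9029), (7454, 5970), (7455, 5971), (7456, 9137), (7457, 9138), (7458, 9034), (7459, 5974), (7460, 9142), (7461, 8452), (7462, 8453), (7463, 9039), (7464, 9040), (7465, 5979), (7466, 5980), (7467, 9150), (7468, 9151), (7469, 9152), (7470, 9156), (7471, 5982), (7472, 5983), (7473, 9160), (7474, 7474), (7475, 5985), (7476, 9164), (7477, 8503), (7478, 7478), (7479, 5988), (7480, 9168), (7481, 7481), (7482, 5991), (7483, 5992), (7484, 9172), (7485, 8511), (7486, 7486), (7487, 5994)]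
    ⟨e3 q7424 L181273 q9093, e3 q7425 (flp_g L124864) q5949, e3 q7426 (flp_g L181313) q9097, e3 q7427 (flp_g L180350) q9003, e3 q7428 L124898 q5951, e3 q7429 (flp_g L181357) q9101, e3 q7430 (flp_g L171004) q8420, e3 q7431 (flp_g L180420) q9007, e3 q7432 L124961 q5954, e3 q7433 (flp_g L181438) q9105, e3 q7434 (flp_g L181450) q9106, e3 q7435 (flp_g L180456) q9011, e3 q7436 L124998 q5957, e3 q7437 (flp_g L125000) q5958, e3 q7438 (flp_g L181496) q9112, e3 q7439 (flp_g L171079) q8429, e3 q7440 (flp_g L180497) q9016, e3 q7441 L125030 q5960, e3 q7442 (flp_g L181533) q9118, e3 q7443 (flp_g L181541) q9119, e3 q7444 (flp_g L180524) q9020, e3 q7445 L125052 q5963, e3 q7446 L125064 q5964, e3 q7447 (flp_g L181577) q9125, e3 q7448 (flp_g L181589) q9126, e3 q7449 L181613 q9129, e3 q7450 L125092 q6043, e3 q7451 L181637 q9131, e3 q7452 (flp_g L171180) q8443, e3 q7453 (flp_g L180609) q9029, e3 q7454 L125131 q5970, e3 q7455 L125142 q5971, e3 q7456 (flp_g L181690) q9137, e3 q7457 (flp_g L181701) q9138, e3 q7458 (flp_g L180654) q9034, e3 q7459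 (flp_g L125167) q5974, e3 q7460 (flp_g L181728) q9142, e3 q7461 (flp_g L171252) q8452, e3 q7462 (flp_g L171262) q8453, e3 q7463 (flp_g L180688) q9039, e3 q7464 (flp_g L180700) q9040, e3 q7465 L125215 q5979, e3 q7466 L125225 q5980, e3 q7467 (flp_g L181789) q9150, e3 q7468 (flp_g L181799) q9151, e3 q7469 (flp_g L181806) q9152, e3 q7470 L181838 q9156, e3 q7471 (flp_g L125253) q5982, e3 q7472 (flp_g L125296) q5983, e3 q7473 (flp_g L181960) q9160, e3 q7474 L125325 q7474, e3 q7475 L125332 q5985, e3 q7476 (flp_g L182002) q9164, e3 q7477 (flp_g L171768) q8503, e3 q7478 L125391 q7478, e3 q7479 L125399 q5988, e3 q7480 (flp_g L182095) q9168, e3 q7481 L125425 q7481, e3 q7482 L125435 q5991, e3 q7483 (flp_g L125439) q5992, e3 q7484 (flp_g L182152) q9172, e3 q7485 (flp_g L171853) q8511, e3 q7486 L125470 q7486, e3 q7487 L125477 q5994, trivial⟩ (by decide +kernel)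

theorem ce_g_117 : ∀ r, r < 64 → sm gg (Qf (7488 + r)) = Qf (tab Gen.g (7488 + r)) :=
  edges_tab (sm gg) Qf (tab Gen.g) 7488 [(7488, 9178), (7489, 9179), (7490, 7490), (7491, 5997), (7492, 5998), (7493, 9185), (7494, 9186), (7495, 9188), (7496, 8525), (7497, 7497), (7498, 6003), (7499, 6004), (7500, 9194), (7501, 9195), (7502, 7502), (7503, 6007), (7504, 9198), (7505, 8534), (7506, 8535), (7507, 7507), (7508, 7508), (7509, 6012), (7510, 6013), (7511, 9206), (7512, 9207), (7513, 9208), (7514, 9212), (7515, 6015), (7516, 7516), (7517, 6017), (7518, 9218), (7519, 8551), (7520, 7520), (7521, 6019), (7522, 9224), (7523, 9225), (7524, 7524), (7525, 6022), (7526, 9229), (7527, 8563), (7528, 7528), (7529, 6026), (7530, 6027), (7531, 9235), (7532, 9236), (7533, 7533), (7534, 8570), (7535, 7535), (7536, 6031), (7537, 9243), (7538, 9244), (7539, 9248), (7540, 8576), (7541, 7541), (7542, 6035), (7543, 6036), (7544, 9254), (7545, 9255), (7546, 9256), (7547, 7547), (7548, 7548), (7549, 6040), (7550, 6041), (7551, 9267)]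
    ⟨e3 q7488 (flp_g L182193) q9178, e3 q7489 (flp_g L182201) q9179, e3 q7490 L125495 q7490, e3 q7491 L125500 q5997, e3 q7492 L125509 q5998, e3 q7493 (flp_g L182240) q9185, e3 q7494 (flp_g L182249) q9186, e3 q7495 L182294 q9188, e3 q7496 (flp_g L171954) q8525, e3 q7497 L125569 q7497, e3 q7498 L125576 q6003, e3 q7499 L125587 q6004, e3 q7500 (flp_g L182351) q9194, e3 q7501 (flp_g L182362) q9195, e3 q7502 L125610 q7502, e3 q7503 (flp_g L125615) q6007, e3 q7504 (flp_g L182392) q9198, e3 q7505 (flp_g L172030) q8534, e3 q7506 (flp_g L172039) q8535, e3 q7507 L125647 q7507, e3 q7508 L125658 q7508, e3 q7509 L125667 q6012, e3 q7510 L125677 q6013, e3 q7511 (flp_g L182453) q9206, e3 q7512 (flp_g L182463) q9207, e3 q7513 (flp_g L182469) q9208, e3 q7514 L182505 q9212, e3 q7515 (flp_g L125708) q6015, e3 q7516 L125730 q7516, e3 q7517 (flp_g L125777) q6017, e3 q7518 (flp_g L182669) q9218, e3 q7519 (flp_g L172201) q8551, e3 q7520 L125810 q7520, e3 q7521 L125819 q6019, e3 q7522 (flp_g L182718) q9224, e3 q7523 (flp_g L182728) q9225, e3 q7524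 L125841 q7524, e3 q7525 L125860 q6022, e3 q7526 L182850 q9229, e3 q7527 (flp_g L172324) q8563, e3 q7528 L125932 q7528, e3 q7529 L125940 q6026, e3 q7530 L125953 q6027, e3 q7531 (flp_g L182911) q9235, e3 q7532 (flp_g L182924) q9236, e3 q7533 L125981 q7533, e3 q7534 (flp_g L172391) q8570, e3 q7535 L125998 q7535, e3 q7536 L126005 q6031, e3 q7537 (flp_g L182984) q9243, e3 q7538 (flp_g L182994) q9244, e3 q7539 L183015 q9248, e3 q7540 (flp_g L172435) q8576, e3 q7541 L126037 q7541, e3 q7542 L126042 q6035, e3 q7543 L126050 q6036, e3 q7544 (flp_g L183054) q9254, e3 q7545 (flp_g L183060) q9255, e3 q7546 (flp_g L183068) q9256, e3 q7547 L126069 q7547, e3 q7548 L126080 q7548, e3 q7549 L126087 q6040, e3 q7550 L126097 q6041, e3 q7551 L183144 q9267, trivial⟩ (by decide +kernel)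

theorem ce_g_118 : ∀ r, r < 64 → sm gg (Qf (7552 + r)) = Qf (tab Gen.g (7552 + r)) :=
  edges_tab (sm gg) Qf (tab Gen.g) 7552 [(7552, 9266), (7553, 6042), (7554, 9270), (7555, 6044), (7556, 9271), (7557, 8595), (7558, 8596), (7559, 7559), (7560, 7560), (7561, 6049), (7562, 6050), (7563, 9279), (7564, 9280), (7565, 9281), (7566, 6053), (7567, 9285), (7568, 9286), (7569, 8607), (7570, 8608), (7571, 8609), (7572, 7572), (7573, 7573), (7574, 6060), (7575, 6061), (7576, 6062), (7577, 9298), (7578, 9299), (7579, 9300), (7580, 9304), (7581, 8623), (7582, 7582), (7583, 6066), (7584, 9309), (7585, 9310), (7586, 6069), (7587, 9311), (7588, 8630), (7589, 7589), (7590, 6073), (7591, 9316), (7592, 6075), (7593, 9318), (7594, 9319), (7595, 8637), (7596, 8638), (7597, 8639), (7598, 7598), (7599, 7599), (7600, 6082), (7601, 6083), (7602, 6084), (7603, 9331), (7604, 9332), (7605, 9333), (7606, 8648), (7607, 7607), (7608, 6086), (7609, 9341), (7610, 9342), (7611, 6089), (7612, 9343), (7613, 8655), (7614, 7614), (7615, 6093)]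
    ⟨e3 q7552 (flp_g L183134) q9266, e3 q7553 (flp_g L126124) q6042, e3 q7554 (flp_g L183181) q9270, e3 q7555 (flp_g L126146) q6044, e3 q7556 (flp_g L183202) q9271, e3 q7557 (flp_g L172568) q8595, e3 q7558 (flp_g L172578) q8596, e3 q7559 L126179 q7559, e3 q7560 L126192 q7560, e3 q7561 L126199 q6049, e3 q7562 L126211 q6050, e3 q7563 (flp_g L183268) q9279, e3 q7564 (flp_g L183280) q9280, e3 q7565 (flp_g L183288) q9281, e3 q7566 L126242 q6053, e3 q7567 (flp_g L183323) q9285, e3 q7568 (flp_g L183331) q9286, e3 q7569 (flp_g L172672) q8607, e3 q7570 (flp_g L172679) q8608, e3 q7571 (flp_g L172691) q8609, e3 q7572 L126286 q7572, e3 q7573 L126298 q7573, e3 q7574 L126305 q6060, e3 q7575 L126316 q6061, e3 q7576 L126323 q6062, e3 q7577 (flp_g L183429) q9298, e3 q7578 (flp_g L183440) q9299, e3 q7579 (flp_g L183449) q9300, e3 q7580 L183841 q9304, e3 q7581 (flp_g L173870) q8623, e3 q7582 L126672 q7582, e3 q7583 L126678 q6066, e3 q7584 (flp_g L183979) q9309, e3 q7585 L184002 q9310, e3 q7586 (flp_g L126826) q6069, e3 q7587 (flp_g L184189)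 q9311, e3 q7588 (flp_g L174075) q8630, e3 q7589 L126862 q7589, e3 q7590 L126880 q6073, e3 q7591 (flp_g L184247) q9316, e3 q7592 L126917 q6075, e3 q7593 (flp_g L184291) q9318, e3 q7594 (flp_g L184299) q9319, e3 q7595 (flp_g L174174) q8637, e3 q7596 (flp_g L174180) q8638, e3 q7597 (flp_g L174190) q8639, e3 q7598 L126959 q7598, e3 q7599 L126969 q7599, e3 q7600 L126976 q6082, e3 q7601 L126985 q6083, e3 q7602 L126991 q6084, e3 q7603 (flp_g L184390) q9331, e3 q7604 (flp_g L184399) q9332, e3 q7605 (flp_g L184407) q9333, e3 q7606 (flp_g L174402) q8648, e3 q7607 L127116 q7607, e3 q7608 L127123 q6086, e3 q7609 (flp_g L184607) q9341, e3 q7610 L184625 q9342, e3 q7611 (flp_g L127213) q6089, e3 q7612 (flp_g L184725) q9343, e3 q7613 (flp_g L174591) q8655, e3 q7614 L127250 q7614, e3 q7615 L127271 q6093, trivial⟩ (by decide +kernel)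

theorem ce_g_119 : ∀ r, r < 64 → sm gg (Qf (7616 + r)) = Qf (tab Gen.g (7616 + r)) :=
  edges_tab (sm gg) Qf (tab Gen.g) 7616 [(7616, 9348), (7617, 8659), (7618, 9352), (7619, 8661), (7620, 7620), (7621, 6097), (7622, 6098), (7623, 9358), (7624, 9359), (7625, 6099), (7626, 9362), (7627, 8669), (7628, 7628), (7629, 6103), (7630, 9367), (7631, 6105), (7632, 9369), (7633, 9370), (7634, 8676), (7635, 8677), (7636, 8678), (7637, 7637), (7638, 7638), (7639, 6112), (7640, 6113), (7641, 6114), (7642, 9382), (7643, 9383), (7644, 9384), (7645, 6116), (7646, 6117), (7647, 8695), (7648, 8694), (7649, 8693), (7650, 8692), (7651, 8696), (7652, 7652), (7653, 7653), (7654, 6126), (7655, 6127), (7656, 6128), (7657, 9390), (7658, 9391), (7659, 9392), (7660, 8010), (7661, 6131), (7662, 9397), (7663, 6134), (7664, 9398), (7665, 9399), (7666, 6173), (7667, 6137), (7668, 6140), (7669, 8120), (7670, 9403), (7671, 6182), (7672, 6143), (7673, 6144), (7674, 9409), (7675, 9410), (7676, 9413), (7677, 7677), (7678, 7678), (7679, 6191)]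
    ⟨e3 q7616 (flp_g L184794) q9348, e3 q7617 (flp_g L174668) q8659, e3 q7618 L184856 q9352, e3 q7619 (flp_g L174684) q8661, e3 q7620 L127330 q7620, e3 q7621 L127336 q6097, e3 q7622 L127346 q6098, e3 q7623 (flp_g L184901) q9358, e3 q7624 (flp_g L184911) q9359, e3 q7625 (flp_g L127361) q6099, e3 q7626 (flp_g L184940) q9362, e3 q7627 (flp_g L174753) q8669, e3 q7628 L127394 q7628, e3 q7629 L127411 q6103, e3 q7630 (flp_g L184999) q9367, e3 q7631 L127449 q6105, e3 q7632 (flp_g L185044) q9369, e3 q7633 (flp_g L185052) q9370, e3 q7634 (flp_g L174921) q8676, e3 q7635 (flp_g L174927) q8677, e3 q7636 (flp_g L174939) q8678, e3 q7637 L127491 q7637, e3 q7638 L127502 q7638, e3 q7639 L127509 q6112, e3 q7640 L127519 q6113, e3 q7641 L127527 q6114, e3 q7642 (flp_g L185145) q9382, e3 q7643 (flp_g L185155) q9383, e3 q7644 (flp_g L185163) q9384, e3 q7645 L127556 q6116, e3 q7646 L127564 q6117, e3 q7647 L647051 q8695, e3 q7648 (flp_g L647146) q8694, e3 q7649 (flp_g L647083) q8693, e3 q7650 (flp_g L175051) q8692, e3 q7651 (flp_g L175085) q8696,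 e3 q7652 L127629 q7652, e3 q7653 L127648 q7653, e3 q7654 L127656 q6126, e3 q7655 L127666 q6127, e3 q7656 L127675 q6128, e3 q7657 (flp_g L185336) q9390, e3 q7658 (flp_g L185344) q9391, e3 q7659 (flp_g L185349) q9392, e3 q7660 (flp_g L645329) q8010, e3 q7661 L127799 q6131, e3 q7662 (flp_g L185573) q9397, e3 q7663 L127868 q6134, e3 q7664 (flp_g L185658) q9398, e3 q7665 (flp_g L185668) q9399, e3 q7666 L127896 q6173, e3 q7667 L127906 q6137, e3 q7668 L127952 q6140, e3 q7669 (flp_g L645311) q8120, e3 q7670 (flp_g L185786) q9403, e3 q7671 L127977 q6182, e3 q7672 L127985 q6143, e3 q7673 L127995 q6144, e3 q7674 (flp_g L185835) q9409, e3 q7675 (flp_g L185845) q9410, e3 q7676 L185873 q9413, e3 q7677 L128028 q7677, e3 q7678 L128056 q7678, e3 q7679 L128063 q6191, trivial⟩ (by decide +kernel)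

theorem ce_g_120 : ∀ r, r < 64 → sm gg (Qf (7680 + r)) = Qf (tab Gen.g (7680 + r)) :=
  edges_tab (sm gg) Qf (tab Gen.g) 7680 [(7680, 6150), (7681, 6151), (7682, 9419), (7683, 9420), (7684, 6196), (7685, 8029), (7686, 7686), (7687, 7687), (7688, 6201), (7689, 6202), (7690, 6159), (7691, 6160), (7692, 9431), (7693, 9432), (7694, 9433), (7695, 6164), (7696, 8182), (7697, 9437), (7698, 8021), (7699, 6167), (7700, 7700), (7701, 8018), (7702, 6171), (7703, 6172), (7704, 9445), (7705, 9446), (7706, 9402), (7707, 8165), (7708, 6521), (7709, 7709), (7710, 8016), (7711, 6180), (7712, 6181), (7713, 9455), (7714, 9456), (7715, 9457), (7716, 9407), (7717, 9408), (7718, 6185), (7719, 6186), (7720, 9468), (7721, 9467), (7722, 6187), (7723, 9471), (7724, 8030), (7725, 7725), (7726, 7726), (7727, 9417), (7728, 9418), (7729, 6194), (7730, 6195), (7731, 9479), (7732, 9480), (7733, 9481), (7734, 6198), (7735, 9395), (7736, 9485), (7737, 7737), (7738, 7738), (7739, 7739), (7740, 9429), (7741, 9430), (7742, 6205), (7743, 6206)]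
    ⟨e3 q7680 L128071 q6150, e3 q7681 L128080 q6151, e3 q7682 (flp_g L185956) q9419, e3 q7683 (flp_g L185965) q9420, e3 q7684 L128103 q6196, e3 q7685 (flp_g L647852) q8029, e3 q7686 L128132 q7686, e3 q7687 L128141 q7687, e3 q7688 L128146 q6201, e3 q7689 L128157 q6202, e3 q7690 L128165 q6159, e3 q7691 L128174 q6160, e3 q7692 (flp_g L186062) q9431, e3 q7693 (flp_g L186071) q9432, e3 q7694 (flp_g L186076) q9433, e3 q7695 L128338 q6164, e3 q7696 L642707 q8182, e3 q7697 (flp_g L186369) q9437, e3 q7698 (flp_g L645226) q8021, e3 q7699 L128383 q6167, e3 q7700 L128445 q7700, e3 q7701 (flp_g L648131) q8018, e3 q7702 L128460 q6171, e3 q7703 L128470 q6172, e3 q7704 (flp_g L186543) q9445, e3 q7705 (flp_g L186553) q9446, e3 q7706 (flp_g L185695) q9402, e3 q7707 L642571 q8165, e3 q7708 (flp_g L642561) q6521, e3 q7709 L128556 q7709, e3 q7710 (flp_g L645407) q8016, e3 q7711 L128569 q6180, e3 q7712 L128578 q6181, e3 q7713 (flp_g L186690) q9455, e3 q7714 (flp_g L186697) q9456, e3 q7715 (flp_g L186706) q9457, e3 q7716 (flp_g L185815) q9407,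 e3 q7717 (flp_g L185827) q9408, e3 q7718 L128619 q6185, e3 q7719 L128630 q6186, e3 q7720 L186783 q9468, e3 q7721 (flp_g L186771) q9467, e3 q7722 (flp_g L128652) q6187, e3 q7723 (flp_g L186818) q9471, e3 q7724 L647815 q8030, e3 q7725 L128700 q7725, e3 q7726 L128710 q7726, e3 q7727 (flp_g L185938) q9417, e3 q7728 (flp_g L185949) q9418, e3 q7729 L128730 q6194, e3 q7730 L128739 q6195, e3 q7731 (flp_g L186903) q9479, e3 q7732 (flp_g L186912) q9480, e3 q7733 (flp_g L186918) q9481, e3 q7734 L128765 q6198, e3 q7735 L645730 q9395, e3 q7736 (flp_g L186954) q9485, e3 q7737 L128792 q7737, e3 q7738 L128798 q7738, e3 q7739 L128809 q7739, e3 q7740 (flp_g L186044) q9429, e3 q7741 (flp_g L186055) q9430, e3 q7742 L128827 q6205, e3 q7743 L128836 q6206, trivial⟩ (by decide +kernel)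

theorem ce_g_121 : ∀ r, r < 64 → sm gg (Qf (7744 + r)) = Qf (tab Gen.g (7744 + r)) :=
  edges_tab (sm gg) Qf (tab Gen.g) 7744 [(7744, 6207), (7745, 9496), (7746, 9497), (7747, 9498), (7748, 7748), (7749, 7749), (7750, 6211), (7751, 6212), (7752, 9506), (7753, 9507), (7754, 7754), (7755, 8036), (7756, 7756), (7757, 7757), (7758, 7758), (7759, 7759), (7760, 6220), (7761, 6221), (7762, 9518), (7763, 9519), (7764, 9520), (7765, 8033), (7766, 7766), (7767, 7767), (7768, 7768), (7769, 7769), (7770, 6228), (7771, 6229), (7772, 6230), (7773, 9532), (7774, 9533), (7775, 9534), (7776, 9544), (7777, 9536), (7778, 9537), (7779, 7779), (7780, 7780), (7781, 9549), (7782, 6236), (7783, 6235), (7784, 9552), (7785, 7785), (7786, 6238), (7787, 6240), (7788, 6289), (7789, 9554), (7790, 7790), (7791, 7791), (7792, 7792), (7793, 7793), (7794, 7794), (7795, 6247), (7796, 6248), (7797, 6249), (7798, 9565), (7799, 9566), (7800, 9567), (7801, 6252), (7802, 6263), (7803, 7803), (7804, 7804), (7805, 7805), (7806, 7806), (7807, 7807)]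
    ⟨e3 q7744 L128841 q6207, e3 q7745 (flp_g L187047) q9496, e3 q7746 (flp_g L187056) q9497, e3 q7747 (flp_g L187063) q9498, e3 q7748 L129027 q7748, e3 q7749 L129036 q7749, e3 q7750 L129043 q6211, e3 q7751 L129054 q6212, e3 q7752 (flp_g L187371) q9506, e3 q7753 (flp_g L187391) q9507, e3 q7754 L129097 q7754, e3 q7755 L647755 q8036, e3 q7756 L129193 q7756, e3 q7757 L129203 q7757, e3 q7758 L129210 q7758, e3 q7759 L129222 q7759, e3 q7760 L129230 q6220, e3 q7761 L129241 q6221, e3 q7762 (flp_g L187622) q9518, e3 q7763 (flp_g L187633) q9519, e3 q7764 (flp_g L187640) q9520, e3 q7765 L647745 q8033, e3 q7766 L129291 q7766, e3 q7767 L129300 q7767, e3 q7768 L129305 q7768, e3 q7769 L129316 q7769, e3 q7770 L129322 q6228, e3 q7771 L129330 q6229, e3 q7772 L129340 q6230, e3 q7773 (flp_g L187748) q9532, e3 q7774 (flp_g L187756) q9533, e3 q7775 (flp_g L187765) q9534, e3 q7776 L187834 q9544, e3 q7777 (flp_g L187780) q9536, e3 q7778 (flp_g L187785) q9537, e3 q7779 L129390 q7779, e3 q7780 L129400 q7780, e3 q7781 L187881 q9549, e3 q7782 L129413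 q6236, e3 q7783 (flp_g L129423) q6235, e3 q7784 (flp_g L187915) q9552, e3 q7785 L129452 q7785, e3 q7786 L129457 q6238, e3 q7787 L129480 q6240, e3 q7788 L647737 q6289, e3 q7789 (flp_g L187979) q9554, e3 q7790 L129506 q7790, e3 q7791 L129513 q7791, e3 q7792 L129524 q7792, e3 q7793 L129527 q7793, e3 q7794 L129538 q7794, e3 q7795 L129543 q6247, e3 q7796 L129553 q6248, e3 q7797 L129559 q6249, e3 q7798 (flp_g L188079) q9565, e3 q7799 (flp_g L188089) q9566, e3 q7800 (flp_g L188095) q9567, e3 q7801 L129602 q6252, e3 q7802 L647295 q6263, e3 q7803 L129637 q7803, e3 q7804 L129656 q7804, e3 q7805 L129662 q7805, e3 q7806 L129668 q7806, e3 q7807 L129675 q7807, trivial⟩ (by decide +kernel)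

theorem ce_g_122 : ∀ r, r < 64 → sm gg (Qf (7808 + r)) = Qf (tab Gen.g (7808 + r)) :=
  edges_tab (sm gg) Qf (tab Gen.g) 7808 [(7808, 6261), (7809, 6262), (7810, 9573), (7811, 9556), (7812, 6288), (7813, 7813), (7814, 7814), (7815, 7815), (7816, 7816), (7817, 7817), (7818, 6272), (7819, 6273), (7820, 6274), (7821, 9581), (7822, 9582), (7823, 9583), (7824, 6285), (7825, 7825), (7826, 7826), (7827, 7827), (7828, 6284), (7829, 6286), (7830, 9575), (7831, 9555), (7832, 9588), (7833, 9511), (7834, 7834), (7835, 6494), (7836, 6322), (7837, 6318), (7838, 6382), (7839, 6385), (7840, 6388), (7841, 6387), (7842, 7842), (7843, 8820), (7844, 6330), (7845, 6335), (7846, 6397), (7847, 6334), (7848, 8798), (7849, 6401), (7850, 6337), (7851, 6340), (7852, 9123), (7853, 6345), (7854, 9111), (7855, 9598), (7856, 6349), (7857, 9601), (7858, 7858), (7859, 7859), (7860, 9604), (7861, 6354), (7862, 7862), (7863, 6356), (7864, 9606), (7865, 6358), (7866, 9609), (7867, 7867), (7868, 6469), (7869, 7869), (7870, 7870), (7871, 6365)]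
    ⟨e3 q7808 L129701 q6261, e3 q7809 L129711 q6262, e3 q7810 (flp_g L188284) q9573, e3 q7811 L647772 q9556, e3 q7812 L646119 q6288, e3 q7813 L129785 q7813, e3 q7814 L129792 q7814, e3 q7815 L129803 q7815, e3 q7816 L129808 q7816, e3 q7817 L129819 q7817, e3 q7818 L129825 q6272, e3 q7819 L129835 q6273, e3 q7820 L129842 q6274, e3 q7821 (flp_g L188450) q9581, e3 q7822 (flp_g L188460) q9582, e3 q7823 (flp_g L188468) q9583, e3 q7824 (flp_g L629469) q6285, e3 q7825 L129917 q7825, e3 q7826 L129924 q7826, e3 q7827 L129932 q7827, e3 q7828 L129978 q6284, e3 q7829 L129993 q6286, e3 q7830 (flp_g L646198) q9575, e3 q7831 (flp_g L646399) q9555, e3 q7832 (flp_g L188657) q9588, e3 q7833 (flp_g L646136) q9511, e3 q7834 L130498 q7834, e3 q7835 L621696 q6494, e3 q7836 (flp_g L622515) q6322, e3 q7837 (flp_g L133099) q6318, e3 q7838 (flp_g L622629) q6382, e3 q7839 L622542 q6385, e3 q7840 (flp_g L621631) q6388, e3 q7841 (flp_g L622475) q6387, e3 q7842 L133441 q7842, e3 q7843 (flp_g L622203) q8820, e3 q7844 (flp_g L134072) q6330, e3 q7845 L622747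 q6335, e3 q7846 L622622 q6397, e3 q7847 (flp_g L134285) q6334, e3 q7848 (flp_g L617458) q8798, e3 q7849 (flp_g L622787) q6401, e3 q7850 L134362 q6337, e3 q7851 (flp_g L134462) q6340, e3 q7852 L621720 q9123, e3 q7853 L134530 q6345, e3 q7854 L622097 q9111, e3 q7855 L195401 q9598, e3 q7856 (flp_g L135469) q6349, e3 q7857 (flp_g L196748) q9601, e3 q7858 L135493 q7858, e3 q7859 L135504 q7859, e3 q7860 L197136 q9604, e3 q7861 (flp_g L135769) q6354, e3 q7862 L135799 q7862, e3 q7863 (flp_g L135855) q6356, e3 q7864 (flp_g L197325) q9606, e3 q7865 L135893 q6358, e3 q7866 (flp_g L197374) q9609, e3 q7867 L135917 q7867, e3 q7868 L616659 q6469, e3 q7869 L136058 q7869, e3 q7870 L136066 q7870, e3 q7871 L136072 q6365, trivial⟩ (by decide +kernel)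

theorem ce_g_123 : ∀ r, r < 64 → sm gg (Qf (7872 + r)) = Qf (tab Gen.g (7872 + r)) :=
  edges_tab (sm gg) Qf (tab Gen.g) 7872 [(7872, 9613), (7873, 9614), (7874, 6369), (7875, 6471), (7876, 9618), (7877, 7877), (7878, 6372), (7879, 9621), (7880, 6373), (7881, 6450), (7882, 6384), (7883, 6378), (7884, 8759), (7885, 8970), (7886, 8775), (7887, 8771), (7888, 9627), (7889, 9092), (7890, 6390), (7891, 6396), (7892, 6394), (7893, 9629), (7894, 9051), (7895, 6399), (7896, 9632), (7897, 6403), (7898, 8839), (7899, 9634), (7900, 8835), (7901, 6406), (7902, 9639), (7903, 6407), (7904, 6408), (7905, 9643), (7906, 7906), (7907, 7907), (7908, 7908), (7909, 7909), (7910, 6414), (7911, 9648), (7912, 9649), (7913, 6418), (7914, 9652), (7915, 6421), (7916, 7916), (7917, 7917), (7918, 6423), (7919, 9656), (7920, 7920), (7921, 7921), (7922, 7922), (7923, 6429), (7924, 6430), (7925, 9660), (7926, 9661), (7927, 6432), (7928, 9665), (7929, 7929), (7930, 9667), (7931, 6435), (7932, 7932), (7933, 7933), (7934, 7934), (7935, 6438)]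
    ⟨e3 q7872 (flp_g L197631) q9613, e3 q7873 (flp_g L197640) q9614, e3 q7874 L136121 q6369, e3 q7875 (flp_g L616228) q6471, e3 q7876 (flp_g L197728) q9618, e3 q7877 L136159 q7877, e3 q7878 L136177 q6372, e3 q7879 L197818 q9621, e3 q7880 (flp_g L136212) q6373, e3 q7881 (flp_g L616559) q6450, e3 q7882 L622561 q6384, e3 q7883 (flp_g L136414) q6378, e3 q7884 (flp_g L622436) q8759, e3 q7885 (flp_g L611805) q8970, e3 q7886 L621664 q8775, e3 q7887 (flp_g L621638) q8771, e3 q7888 L199011 q9627, e3 q7889 (flp_g L622214) q9092, e3 q7890 (flp_g L137273) q6390, e3 q7891 L622809 q6396, e3 q7892 (flp_g L137423) q6394, e3 q7893 (flp_g L199590) q9629, e3 q7894 L622607 q9051, e3 q7895 (flp_g L137768) q6399, e3 q7896 (flp_g L200103) q9632, e3 q7897 L137992 q6403, e3 q7898 L621525 q8839, e3 q7899 (flp_g L200423) q9634, e3 q7900 L617562 q8835, e3 q7901 L138074 q6406, e3 q7902 L200571 q9639, e3 q7903 (flp_g L138104) q6407, e3 q7904 (flp_g L138419) q6408, e3 q7905 (flp_g L201056) q9643, e3 q7906 L138445 q7906, e3 q7907 L138456 q7907, e3 q7908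 L138647 q7908, e3 q7909 L138656 q7909, e3 q7910 L138661 q6414, e3 q7911 (flp_g L201373) q9648, e3 q7912 (flp_g L201381) q9649, e3 q7913 L138703 q6418, e3 q7914 (flp_g L201452) q9652, e3 q7915 L138856 q6421, e3 q7916 L139148 q7916, e3 q7917 L139157 q7917, e3 q7918 L139164 q6423, e3 q7919 (flp_g L202114) q9656, e3 q7920 L139381 q7920, e3 q7921 L139396 q7921, e3 q7922 L139401 q7922, e3 q7923 L139406 q6429, e3 q7924 L139415 q6430, e3 q7925 (flp_g L202419) q9660, e3 q7926 (flp_g L202428) q9661, e3 q7927 L139475 q6432, e3 q7928 L202520 q9665, e3 q7929 L139510 q7929, e3 q7930 L202563 q9667, e3 q7931 (flp_g L139540) q6435, e3 q7932 L139567 q7932, e3 q7933 L139744 q7933, e3 q7934 L139753 q7934, e3 q7935 L139758 q6438, trivial⟩ (by decide +kernel)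

theorem ce_g_124 : ∀ r, r < 64 → sm gg (Qf (7936 + r)) = Qf (tab Gen.g (7936 + r)) :=
  edges_tab (sm gg) Qf (tab Gen.g) 7936 [(7936, 9672), (7937, 6444), (7938, 7938), (7939, 9603), (7940, 7940), (7941, 7941), (7942, 6448), (7943, 6449), (7944, 9680), (7945, 9681), (7946, 7946), (7947, 7947), (7948, 6454), (7949, 8484), (7950, 6460), (7951, 9684), (7952, 7952), (7953, 7953), (7954, 6462), (7955, 9688), (7956, 6532), (7957, 7957), (7958, 8621), (7959, 7959), (7960, 7960), (7961, 6468), (7962, 8645), (7963, 7963), (7964, 9615), (7965, 7965), (7966, 7966), (7967, 8073), (7968, 6513), (7969, 8714), (7970, 6482), (7971, 9701), (7972, 6483), (7973, 8084), (7974, 6489), (7975, 6490), (7976, 8738), (7977, 9702), (7978, 9703), (7979, 6493), (7980, 8734), (7981, 9708), (7982, 8731), (7983, 9710), (7984, 6496), (7985, 9452), (7986, 9712), (7987, 6499), (7988, 7988), (7989, 8055), (7990, 6507), (7991, 6508), (7992, 8708), (7993, 9714), (7994, 9715), (7995, 6511), (7996, 9698), (7997, 9717), (7998, 6519), (7999, 7999)]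
    ⟨e3 q7936 (flp_g L202883) q9672, e3 q7937 L139918 q6444, e3 q7938 L139932 q7938, e3 q7939 L616275 q9603, e3 q7940 L139950 q7940, e3 q7941 L139954 q7941, e3 q7942 L139960 q6448, e3 q7943 L139967 q6449, e3 q7944 (flp_g L203158) q9680, e3 q7945 (flp_g L203174) q9681, e3 q7946 L140017 q7946, e3 q7947 L140022 q7947, e3 q7948 L140028 q6454, e3 q7949 L616686 q8484, e3 q7950 (flp_g L140210) q6460, e3 q7951 (flp_g L203489) q9684, e3 q7952 L140231 q7952, e3 q7953 L140239 q7953, e3 q7954 L140245 q6462, e3 q7955 (flp_g L203546) q9688, e3 q7956 L613160 q6532, e3 q7957 L140271 q7957, e3 q7958 (flp_g L616202) q8621, e3 q7959 L140287 q7959, e3 q7960 L140293 q7960, e3 q7961 L140302 q6468, e3 q7962 (flp_g L616148) q8645, e3 q7963 L140325 q7963, e3 q7964 L616173 q9615, e3 q7965 L140347 q7965, e3 q7966 L140352 q7966, e3 q7967 (flp_g L645001) q8073, e3 q7968 (flp_g L644879) q6513, e3 q7969 (flp_g L620596) q8714, e3 q7970 L140820 q6482, e3 q7971 L204386 q9701, e3 q7972 (flp_g L140852) q6483, e3 q7973 L642163 q8084, e3 q7974 L141489 q6489,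 e3 q7975 L141498 q6490, e3 q7976 (flp_g L621335) q8738, e3 q7977 (flp_g L205293) q9702, e3 q7978 (flp_g L205303) q9703, e3 q7979 L141547 q6493, e3 q7980 (flp_g L621414) q8734, e3 q7981 L205452 q9708, e3 q7982 L621444 q8731, e3 q7983 L205495 q9710, e3 q7984 (flp_g L141632) q6496, e3 q7985 (flp_g L633571) q9452, e3 q7986 L206045 q9712, e3 q7987 (flp_g L142071) q6499, e3 q7988 L142096 q7988, e3 q7989 (flp_g L643449) q8055, e3 q7990 L142569 q6507, e3 q7991 L142579 q6508, e3 q7992 (flp_g L620945) q8708, e3 q7993 (flp_g L206790) q9714, e3 q7994 (flp_g L206801) q9715, e3 q7995 L142631 q6511, e3 q7996 (flp_g L631150) q9698, e3 q7997 L207792 q9717, e3 q7998 (flp_g L143329) q6519, e3 q7999 L143628 q7999, trivial⟩ (by decide +kernel)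

theorem ce_g_125 : ∀ r, r < 64 → sm gg (Qf (8000 + r)) = Qf (tab Gen.g (8000 + r)) :=
  edges_tab (sm gg) Qf (tab Gen.g) 8000 [(8000, 8000), (8001, 8001), (8002, 6529), (8003, 8003), (8004, 8004), (8005, 8005), (8006, 6531), (8007, 8007), (8008, 8008), (8009, 8009), (8010, 7660), (8011, 8011), (8012, 7158), (8013, 6579), (8014, 9723), (8015, 6600), (8016, 7710), (8017, 6604), (8018, 7701), (8019, 6609), (8020, 6610), (8021, 7698), (8022, 6590), (8023, 9733), (8024, 6594), (8025, 7214), (8026, 9734), (8027, 7197), (8028, 6597), (8029, 7685), (8030, 7724), (8031, 9724), (8032, 9725), (8033, 7765), (8034, 6603), (8035, 9745), (8036, 7755), (8037, 6608), (8038, 9747), (8039, 9748), (8040, 9729), (8041, 9730), (8042, 6612), (8043, 9754), (8044, 9755), (8045, 8045), (8046, 6615), (8047, 8047), (8048, 8048), (8049, 6619), (8050, 6620), (8051, 9763), (8052, 9764), (8053, 8053), (8054, 6634), (8055, 7989), (8056, 7118), (8057, 6637), (8058, 6625), (8059, 8059), (8060, 6640), (8061, 6642), (8062, 7115), (8063, 6644)]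
    ⟨e3 q8000 L143642 q8000, e3 q8001 L143662 q8001, e3 q8002 L143692 q6529, e3 q8003 L143734 q8003, e3 q8004 L143910 q8004, e3 q8005 L144670 q8005, e3 q8006 (flp_g L145825) q6531, e3 q8007 L164523 q8007, e3 q8008 L166501 q8008, e3 q8009 L166531 q8009, e3 q8010 L645329 q7660, e3 q8011 L166567 q8011, e3 q8012 (flp_g L642912) q7158, e3 q8013 L166613 q6579, e3 q8014 (flp_g L241631) q9723, e3 q8015 L166652 q6600, e3 q8016 L645407 q7710, e3 q8017 L166688 q6604, e3 q8018 L648131 q7701, e3 q8019 L166728 q6609, e3 q8020 L166739 q6610, e3 q8021 L645226 q7698, e3 q8022 L166771 q6590, e3 q8023 (flp_g L241873) q9733, e3 q8024 L166805 q6594, e3 q8025 (flp_g L640494) q7214, e3 q8026 (flp_g L241915) q9734, e3 q8027 L642930 q7197, e3 q8028 L166839 q6597, e3 q8029 L647852 q7685, e3 q8030 (flp_g L647815) q7724, e3 q8031 (flp_g L241681) q9724, e3 q8032 (flp_g L241693) q9725, e3 q8033 (flp_g L647745) q7765, e3 q8034 L166934 q6603, e3 q8035 (flp_g L242133) q9745, e3 q8036 (flp_g L647755) q7755, e3 q8037 L166987 q6608, e3 q8038 (flp_g L242202)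 q9747, e3 q8039 (flp_g L242212) q9748, e3 q8040 (flp_g L241804) q9729, e3 q8041 (flp_g L241815) q9730, e3 q8042 L167045 q6612, e3 q8043 (flp_g L242285) q9754, e3 q8044 (flp_g L242296) q9755, e3 q8045 L167069 q8045, e3 q8046 L167080 q6615, e3 q8047 L167097 q8047, e3 q8048 L167104 q8048, e3 q8049 L167110 q6619, e3 q8050 L167121 q6620, e3 q8051 (flp_g L242381) q9763, e3 q8052 (flp_g L242392) q9764, e3 q8053 L167148 q8053, e3 q8054 L167168 q6634, e3 q8055 L643449 q7989, e3 q8056 L643441 q7118, e3 q8057 L167200 q6637, e3 q8058 (flp_g L167204) q6625, e3 q8059 L167226 q8059, e3 q8060 L167232 q6640, e3 q8061 L167249 q6642, e3 q8062 L641535 q7115, e3 q8063 L167267 q6644, trivial⟩ (by decide +kernel)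

theorem ce_g_126 : ∀ r, r < 64 → sm gg (Qf (8064 + r)) = Qf (tab Gen.g (8064 + r)) :=
  edges_tab (sm gg) Qf (tab Gen.g) 8064 [(8064, 9768), (8065, 9774), (8066, 9770), (8067, 6635), (8068, 9776), (8069, 6636), (8070, 7129), (8071, 7112), (8072, 6659), (8073, 7967), (8074, 9780), (8075, 9781), (8076, 6643), (8077, 7114), (8078, 6646), (8079, 7117), (8080, 9784), (8081, 9785), (8082, 6652), (8083, 9788), (8084, 7973), (8085, 6655), (8086, 9791), (8087, 7140), (8088, 6657), (8089, 7156), (8090, 9794), (8091, 6660), (8092, 9796), (8093, 6662), (8094, 6663), (8095, 9800), (8096, 7135), (8097, 6665), (8098, 7151), (8099, 7139), (8100, 6668), (8101, 7210), (8102, 7152), (8103, 9805), (8104, 8104), (8105, 9809), (8106, 6673), (8107, 9812), (8108, 8108), (8109, 6703), (8110, 6676), (8111, 9816), (8112, 6706), (8113, 6678), (8114, 9820), (8115, 8115), (8116, 9824), (8117, 8117), (8118, 9828), (8119, 6682), (8120, 7669), (8121, 8121), (8122, 9832), (8123, 6685), (8124, 9835), (8125, 8125), (8126, 8126), (8127, 6687)]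
    ⟨e3 q8064 (flp_g L242448) q9768, e3 q8065 L242746 q9774, e3 q8066 (flp_g L242470) q9770, e3 q8067 (flp_g L167372) q6635, e3 q8068 L242786 q9776, e3 q8069 (flp_g L167394) q6636, e3 q8070 L644762 q7129, e3 q8071 L632861 q7112, e3 q8072 L167432 q6659, e3 q8073 L645001 q7967, e3 q8074 L242917 q9780, e3 q8075 L242947 q9781, e3 q8076 (flp_g L167496) q6643, e3 q8077 L644826 q7114, e3 q8078 (flp_g L167527) q6646, e3 q8079 L644403 q7117, e3 q8080 L243135 q9784, e3 q8081 L243167 q9785, e3 q8082 (flp_g L167633) q6652, e3 q8083 (flp_g L243199) q9788, e3 q8084 (flp_g L642163) q7973, e3 q8085 (flp_g L167670) q6655, e3 q8086 (flp_g L243238) q9791, e3 q8087 L644522 q7140, e3 q8088 L167702 q6657, e3 q8089 L644564 q7156, e3 q8090 L243331 q9794, e3 q8091 (flp_g L167747) q6660, e3 q8092 L243380 q9796, e3 q8093 (flp_g L167786) q6662, e3 q8094 (flp_g L167813) q6663, e3 q8095 (flp_g L243460) q9800, e3 q8096 L644508 q7135, e3 q8097 L167841 q6665, e3 q8098 L167856 q7151, e3 q8099 L644497 q7139, e3 q8100 L167872 q6668, e3 q8101 (flp_g L644449)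 q7210, e3 q8102 L644460 q7152, e3 q8103 L243658 q9805, e3 q8104 L167966 q8104, e3 q8105 L243700 q9809, e3 q8106 (flp_g L167979) q6673, e3 q8107 (flp_g L243734) q9812, e3 q8108 L168004 q8108, e3 q8109 L168018 q6703, e3 q8110 (flp_g L168020) q6676, e3 q8111 (flp_g L243776) q9816, e3 q8112 L168050 q6706, e3 q8113 L168058 q6678, e3 q8114 (flp_g L243817) q9820, e3 q8115 L168078 q8115, e3 q8116 L243853 q9824, e3 q8117 L168101 q8117, e3 q8118 L243890 q9828, e3 q8119 (flp_g L168113) q6682, e3 q8120 L645311 q7669, e3 q8121 L168137 q8121, e3 q8122 L243944 q9832, e3 q8123 (flp_g L168159) q6685, e3 q8124 (flp_g L243981) q9835, e3 q8125 L168181 q8125, e3 q8126 L168193 q8126, e3 q8127 (flp_g L168196) q6687, trivial⟩ (by decide +kernel)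

theorem ce_g_127 : ∀ r, r < 64 → sm gg (Qf (8128 + r)) = Qf (tab Gen.g (8128 + r)) :=
  edges_tab (sm gg) Qf (tab Gen.g) 8128 [(8128, 9842), (8129, 6724), (8130, 6689), (8131, 9845), (8132, 7190), (8133, 6728), (8134, 6693), (8135, 7168), (8136, 9846), (8137, 6732), (8138, 6696), (8139, 9850), (8140, 6697), (8141, 9853), (8142, 6737), (8143, 6738), (8144, 6699), (8145, 9859), (8146, 9811), (8147, 6701), (8148, 9863), (8149, 7209), (8150, 9815), (8151, 6705), (8152, 9867), (8153, 9868), (8154, 9819), (8155, 6708), (8156, 9873), (8157, 6752), (8158, 9878), (8159, 6710), (8160, 9881), (8161, 6756), (8162, 6757), (8163, 6712), (8164, 9888), (8165, 7707), (8166, 6714), (8167, 9891), (8168, 9892), (8169, 6717), (8170, 9896), (8171, 9834), (8172, 6719), (8173, 9900), (8174, 9901), (8175, 6770), (8176, 6771), (8177, 7237), (8178, 9841), (8179, 6723), (8180, 9910), (8181, 9911), (8182, 7696), (8183, 6726), (8184, 9915), (8185, 7245), (8186, 7212), (8187, 6730), (8188, 6731), (8189, 7416), (8190, 9920), (8191, 9848)]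
    ⟨e3 q8128 (flp_g L244042) q9842, e3 q8129 L168219 q6724, e3 q8130 L168226 q6689, e3 q8131 (flp_g L244076) q9845, e3 q8132 L168242 q7190, e3 q8133 L168251 q6728, e3 q8134 L168260 q6693, e3 q8135 L644192 q7168, e3 q8136 (flp_g L244119) q9846, e3 q8137 L168286 q6732, e3 q8138 L168296 q6696, e3 q8139 L244277 q9850, e3 q8140 (flp_g L168390) q6697, e3 q8141 (flp_g L244316) q9853, e3 q8142 L168413 q6737, e3 q8143 L168425 q6738, e3 q8144 (flp_g L168429) q6699, e3 q8145 (flp_g L244379) q9859, e3 q8146 (flp_g L243727) q9811, e3 q8147 L168461 q6701, e3 q8148 (flp_g L244414) q9863, e3 q8149 L168482 q7209, e3 q8150 (flp_g L243767) q9815, e3 q8151 L168500 q6705, e3 q8152 (flp_g L244452) q9867, e3 q8153 (flp_g L244462) q9868, e3 q8154 (flp_g L243805) q9819, e3 q8155 L168537 q6708, e3 q8156 L244503 q9873, e3 q8157 L168558 q6752, e3 q8158 L244549 q9878, e3 q8159 (flp_g L168568) q6710, e3 q8160 (flp_g L244584) q9881, e3 q8161 L168589 q6756, e3 q8162 L168600 q6757, e3 q8163 (flp_g L168602) q6712, e3 q8164 (flp_g L244641) q9888, e3 q8165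 (flp_g L642571) q7707, e3 q8166 L168634 q6714, e3 q8167 (flp_g L244675) q9891, e3 q8168 L244677 q9892, e3 q8169 (flp_g L168650) q6717, e3 q8170 (flp_g L244717) q9896, e3 q8171 (flp_g L243972) q9834, e3 q8172 L168685 q6719, e3 q8173 (flp_g L244751) q9900, e3 q8174 (flp_g L244762) q9901, e3 q8175 L168706 q6770, e3 q8176 L168717 q6771, e3 q8177 L168725 q7237, e3 q8178 (flp_g L244034) q9841, e3 q8179 L168739 q6723, e3 q8180 (flp_g L244831) q9910, e3 q8181 (flp_g L244839) q9911, e3 q8182 (flp_g L642707) q7696, e3 q8183 L168769 q6726, e3 q8184 L244861 q9915, e3 q8185 L168789 q7245, e3 q8186 L644258 q7212, e3 q8187 L168803 q6730, e3 q8188 L168812 q6731, e3 q8189 L641302 q7416, e3 q8190 (flp_g L244925) q9920, e3 q8191 (flp_g L244145) q9848, trivial⟩ (by decide +kernel)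

theorem ce_g_128 : ∀ r, r < 64 → sm gg (Qf (8192 + r)) = Qf (tab Gen.g (8192 + r)) :=
  edges_tab (sm gg) Qf (tab Gen.g) 8192 [(8192, 9924), (8193, 6734), (8194, 9928), (8195, 8195), (8196, 6736), (8197, 9932), (8198, 9933), (8199, 9856), (8200, 7263), (8201, 8201), (8202, 6740), (8203, 9940), (8204, 9941), (8205, 8205), (8206, 6743), (8207, 9945), (8208, 7271), (8209, 8209), (8210, 6747), (8211, 6748), (8212, 9951), (8213, 9952), (8214, 8214), (8215, 9957), (8216, 6751), (8217, 9960), (8218, 9875), (8219, 9876), (8220, 9965), (8221, 6753), (8222, 9969), (8223, 8223), (8224, 6755), (8225, 9973), (8226, 9974), (8227, 9884), (8228, 9885), (8229, 7290), (8230, 8230), (8231, 6759), (8232, 9983), (8233, 9984), (8234, 8234), (8235, 6762), (8236, 6763), (8237, 9990), (8238, 7299), (8239, 8239), (8240, 6765), (8241, 9996), (8242, 9997), (8243, 8243), (8244, 6768), (8245, 6769), (8246, 10003), (8247, 10004), (8248, 10008), (8249, 9905), (8250, 9906), (8251, 10011), (8252, 7312), (8253, 8253), (8254, 6775), (8255, 6776)]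
    ⟨e3 q8192 L245157 q9924, e3 q8193 (flp_g L168965) q6734, e3 q8194 (flp_g L245205) q9928, e3 q8195 L168995 q8195, e3 q8196 L169002 q6736, e3 q8197 (flp_g L245240) q9932, e3 q8198 (flp_g L245250) q9933, e3 q8199 (flp_g L244353) q9856, e3 q8200 L169048 q7263, e3 q8201 L169059 q8201, e3 q8202 L169066 q6740, e3 q8203 (flp_g L245329) q9940, e3 q8204 (flp_g L245339) q9941, e3 q8205 L169092 q8205, e3 q8206 L169101 q6743, e3 q8207 L245370 q9945, e3 q8208 L169122 q7271, e3 q8209 L169131 q8209, e3 q8210 L169137 q6747, e3 q8211 L169148 q6748, e3 q8212 (flp_g L245433) q9951, e3 q8213 (flp_g L245444) q9952, e3 q8214 L169177 q8214, e3 q8215 L245486 q9957, e3 q8216 (flp_g L169192) q6751, e3 q8217 (flp_g L245523) q9960, e3 q8218 (flp_g L244528) q9875, e3 q8219 (flp_g L244540) q9876, e3 q8220 L245571 q9965, e3 q8221 (flp_g L169237) q6753, e3 q8222 (flp_g L245613) q9969, e3 q8223 L169263 q8223, e3 q8224 L169270 q6755, e3 q8225 (flp_g L245646) q9973, e3 q8226 (flp_g L245655) q9974, e3 q8227 (flp_g L244605) q9884, e3 q8228 (flp_g L244616)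 q9885, e3 q8229 L169310 q7290, e3 q8230 L169320 q8230, e3 q8231 L169328 q6759, e3 q8232 (flp_g L245727) q9983, e3 q8233 (flp_g L245737) q9984, e3 q8234 L169354 q8234, e3 q8235 L169362 q6762, e3 q8236 (flp_g L169364) q6763, e3 q8237 (flp_g L245789) q9990, e3 q8238 L169387 q7299, e3 q8239 L169397 q8239, e3 q8240 L169406 q6765, e3 q8241 (flp_g L245842) q9996, e3 q8242 (flp_g L245852) q9997, e3 q8243 L169432 q8243, e3 q8244 L169439 q6768, e3 q8245 L169448 q6769, e3 q8246 (flp_g L245898) q10003, e3 q8247 (flp_g L245907) q10004, e3 q8248 L245932 q10008, e3 q8249 (flp_g L244792) q9905, e3 q8250 (flp_g L244798) q9906, e3 q8251 L245956 q10011, e3 q8252 L169501 q7312, e3 q8253 L169509 q8253, e3 q8254 L169516 q6775, e3 q8255 L169525 q6776, trivial⟩ (by decide +kernel)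

theorem ce_g_129 : ∀ r, r < 64 → sm gg (Qf (8256 + r)) = Qf (tab Gen.g (8256 + r)) :=
  edges_tab (sm gg) Qf (tab Gen.g) 8256 [(8256, 10017), (8257, 10018), (8258, 8258), (8259, 6779), (8260, 10022), (8261, 7321), (8262, 7322), (8263, 8263), (8264, 8264), (8265, 6784), (8266, 6785), (8267, 10030), (8268, 10031), (8269, 10032), (8270, 8270), (8271, 10040), (8272, 8272), (8273, 6788), (8274, 10039), (8275, 8275), (8276, 10037), (8277, 6790), (8278, 10049), (8279, 8279), (8280, 6849), (8281, 6793), (8282, 10052), (8283, 6852), (8284, 6795), (8285, 10056), (8286, 8286), (8287, 10060), (8288, 8288), (8289, 10064), (8290, 6799), (8291, 10067), (8292, 8292), (8293, 6862), (8294, 10070), (8295, 6802), (8296, 10073), (8297, 8297), (8298, 8298), (8299, 6804), (8300, 10080), (8301, 6870), (8302, 6806), (8303, 10084), (8304, 7348), (8305, 6874), (8306, 6810), (8307, 10088), (8308, 10089), (8309, 6878), (8310, 6813), (8311, 10094), (8312, 8312), (8313, 10098), (8314, 6815), (8315, 10101), (8316, 8316), (8317, 8317), (8318, 6817), (8319,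 10107)]
    ⟨e3 q8256 (flp_g L246008) q10017, e3 q8257 (flp_g L246017) q10018, e3 q8258 L169546 q8258, e3 q8259 (flp_g L169549) q6779, e3 q8260 (flp_g L246048) q10022, e3 q8261 L169572 q7321, e3 q8262 L169582 q7322, e3 q8263 L169587 q8263, e3 q8264 L169598 q8264, e3 q8265 L169604 q6784, e3 q8266 L169614 q6785, e3 q8267 (flp_g L246115) q10030, e3 q8268 (flp_g L246125) q10031, e3 q8269 (flp_g L246130) q10032, e3 q8270 L169646 q8270, e3 q8271 L246200 q10040, e3 q8272 L169667 q8272, e3 q8273 (flp_g L169672) q6788, e3 q8274 L614220 q10039, e3 q8275 L169698 q8275, e3 q8276 L614233 q10037, e3 q8277 (flp_g L169710) q6790, e3 q8278 (flp_g L246322) q10049, e3 q8279 L169735 q8279, e3 q8280 L169749 q6849, e3 q8281 (flp_g L169751) q6793, e3 q8282 (flp_g L246361) q10052, e3 q8283 L169776 q6852, e3 q8284 L169783 q6795, e3 q8285 (flp_g L246400) q10056, e3 q8286 L169803 q8286, e3 q8287 L246435 q10060, e3 q8288 L169828 q8288, e3 q8289 L246476 q10064, e3 q8290 (flp_g L169843) q6799, e3 q8291 (flp_g L246515) q10067, e3 q8292 L169869 q8292, e3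 q8293 L169884 q6862, e3 q8294 L246538 q10070, e3 q8295 (flp_g L169896) q6802, e3 q8296 (flp_g L246571) q10073, e3 q8297 L169914 q8297, e3 q8298 L169924 q8298, e3 q8299 (flp_g L169929) q6804, e3 q8300 (flp_g L246632) q10080, e3 q8301 L169957 q6870, e3 q8302 L169964 q6806, e3 q8303 (flp_g L246669) q10084, e3 q8304 L169983 q7348, e3 q8305 L169993 q6874, e3 q8306 L170000 q6810, e3 q8307 (flp_g L246702) q10088, e3 q8308 (flp_g L246710) q10089, e3 q8309 L170025 q6878, e3 q8310 L170033 q6813, e3 q8311 L246750 q10094, e3 q8312 L170052 q8312, e3 q8313 L246794 q10098, e3 q8314 (flp_g L170065) q6815, e3 q8315 (flp_g L246831) q10101, e3 q8316 L170087 q8316, e3 q8317 L170100 q8317, e3 q8318 (flp_g L170103) q6817, e3 q8319 (flp_g L246900) q10107, trivial⟩ (by decide +kernel)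

theorem ce_g_130 : ∀ r, r < 64 → sm gg (Qf (8320 + r)) = Qf (tab Gen.g (8320 + r)) :=
  edges_tab (sm gg) Qf (tab Gen.g) 8320 [(8320, 6889), (8321, 6819), (8322, 10111), (8323, 10112), (8324, 6822), (8325, 10116), (8326, 6895), (8327, 6824), (8328, 10120), (8329, 10121), (8330, 8330), (8331, 8331), (8332, 7374), (8333, 6902), (8334, 6828), (8335, 10130), (8336, 10131), (8337, 6906), (8338, 6831), (8339, 10135), (8340, 7382), (8341, 6910), (8342, 6835), (8343, 6836), (8344, 7351), (8345, 10138), (8346, 6915), (8347, 6916), (8348, 10143), (8349, 6918), (8350, 10147), (8351, 6840), (8352, 10150), (8353, 6921), (8354, 10043), (8355, 10149), (8356, 6843), (8357, 10153), (8358, 6926), (8359, 6927), (8360, 6845), (8361, 10159), (8362, 10048), (8363, 6847), (8364, 10163), (8365, 8365), (8366, 10051), (8367, 6851), (8368, 10167), (8369, 10168), (8370, 10055), (8371, 6854), (8372, 10173), (8373, 6941), (8374, 10177), (8375, 6856), (8376, 10180), (8377, 6945), (8378, 6946), (8379, 6858), (8380, 10186), (8381, 10066), (8382, 6860),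 (8383, 10190)]
    ⟨e3 q8320 L170130 q6889, e3 q8321 L170138 q6819, e3 q8322 (flp_g L246942) q10111, e3 q8323 L246944 q10112, e3 q8324 (flp_g L170159) q6822, e3 q8325 (flp_g L246979) q10116, e3 q8326 L170181 q6895, e3 q8327 L170188 q6824, e3 q8328 (flp_g L247009) q10120, e3 q8329 (flp_g L247018) q10121, e3 q8330 L170209 q8330, e3 q8331 L170220 q8331, e3 q8332 L170229 q7374, e3 q8333 L170238 q6902, e3 q8334 L170246 q6828, e3 q8335 (flp_g L247091) q10130, e3 q8336 (flp_g L247101) q10131, e3 q8337 L170273 q6906, e3 q8338 L170284 q6831, e3 q8339 L247132 q10135, e3 q8340 L170299 q7382, e3 q8341 L170306 q6910, e3 q8342 L170313 q6835, e3 q8343 L170322 q6836, e3 q8344 (flp_g L641337) q7351, e3 q8345 (flp_g L247196) q10138, e3 q8346 L170348 q6915, e3 q8347 L170356 q6916, e3 q8348 L247250 q10143, e3 q8349 L170376 q6918, e3 q8350 L247287 q10147, e3 q8351 (flp_g L170386) q6840, e3 q8352 (flp_g L247321) q10150, e3 q8353 L170413 q6921, e3 q8354 (flp_g L246243) q10043, e3 q8355 L614033 q10149, e3 q8356 (flp_g L170435) q6843, e3 q8357 (flp_g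 L247374) q10153, e3 q8358 L170454 q6926, e3 q8359 L170465 q6927, e3 q8360 (flp_g L170468) q6845, e3 q8361 (flp_g L247433) q10159, e3 q8362 (flp_g L246315) q10048, e3 q8363 L170498 q6847, e3 q8364 (flp_g L247469) q10163, e3 q8365 L170519 q8365, e3 q8366 (flp_g L246353) q10051, e3 q8367 L170534 q6851, e3 q8368 (flp_g L247502) q10167, e3 q8369 (flp_g L247513) q10168, e3 q8370 (flp_g L246387) q10055, e3 q8371 L170569 q6854, e3 q8372 L247552 q10173, e3 q8373 L170587 q6941, e3 q8374 L247597 q10177, e3 q8375 (flp_g L170599) q6856, e3 q8376 (flp_g L247636) q10180, e3 q8377 L170622 q6945, e3 q8378 L170633 q6946, e3 q8379 (flp_g L170637) q6858, e3 q8380 (flp_g L247701) q10186, e3 q8381 (flp_g L246507) q10066, e3 q8382 L170674 q6860, e3 q8383 (flp_g L247738) q10190, trivial⟩ (by decide +kernel)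

theorem ce_g_131 : ∀ r, r < 64 → sm gg (Qf (8384 + r)) = Qf (tab Gen.g (8384 + r)) :=
  edges_tab (sm gg) Qf (tab Gen.g) 8384 [(8384, 10191), (8385, 6863), (8386, 10195), (8387, 10072), (8388, 6865), (8389, 10199), (8390, 10200), (8391, 6959), (8392, 6960), (8393, 7407), (8394, 10079), (8395, 6869), (8396, 10209), (8397, 10210), (8398, 10083), (8399, 6872), (8400, 10214), (8401, 7415), (8402, 10087), (8403, 6876), (8404, 6877), (8405, 10220), (8406, 10221), (8407, 10092), (8408, 10226), (8409, 6880), (8410, 10229), (8411, 6979), (8412, 10231), (8413, 6882), (8414, 10235), (8415, 10100), (8416, 6884), (8417, 10239), (8418, 10240), (8419, 6987), (8420, 7430), (8421, 10106), (8422, 6888), (8423, 10247), (8424, 10248), (8425, 10110), (8426, 6891), (8427, 6892), (8428, 10254), (8429, 7439), (8430, 10115), (8431, 6894), (8432, 10260), (8433, 10261), (8434, 10119), (8435, 6897), (8436, 6898), (8437, 10267), (8438, 10268), (8439, 10272), (8440, 7008), (8441, 7009), (8442, 10275), (8443, 7452), (8444, 10129), (8445, 6904), (8446,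 6905), (8447, 10281)]
    ⟨e3 q8384 L247742 q10191, e3 q8385 (flp_g L170693) q6863, e3 q8386 (flp_g L247780) q10195, e3 q8387 (flp_g L246564) q10072, e3 q8388 L170724 q6865, e3 q8389 (flp_g L247808) q10199, e3 q8390 (flp_g L247817) q10200, e3 q8391 L170741 q6959, e3 q8392 L170750 q6960, e3 q8393 L170761 q7407, e3 q8394 (flp_g L246624) q10079, e3 q8395 L170778 q6869, e3 q8396 (flp_g L247883) q10209, e3 q8397 (flp_g L247892) q10210, e3 q8398 (flp_g L246660) q10083, e3 q8399 L170811 q6872, e3 q8400 L247919 q10214, e3 q8401 L170832 q7415, e3 q8402 (flp_g L246695) q10087, e3 q8403 L170844 q6876, e3 q8404 L170852 q6877, e3 q8405 (flp_g L247975) q10220, e3 q8406 (flp_g L247983) q10221, e3 q8407 (flp_g L246735) q10092, e3 q8408 L248012 q10226, e3 q8409 (flp_g L170885) q6880, e3 q8410 (flp_g L248043) q10229, e3 q8411 L170914 q6979, e3 q8412 L248083 q10231, e3 q8413 (flp_g L170924) q6882, e3 q8414 (flp_g L248125) q10235, e3 q8415 (flp_g L246822) q10100, e3 q8416 L170959 q6884, e3 q8417 (flp_g L248159) q10239, e3 q8418 (flp_g L248171)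 q10240, e3 q8419 L170994 q6987, e3 q8420 L171004 q7430, e3 q8421 (flp_g L246891) q10106, e3 q8422 L171021 q6888, e3 q8423 (flp_g L248250) q10247, e3 q8424 (flp_g L248261) q10248, e3 q8425 (flp_g L246930) q10110, e3 q8426 L171059 q6891, e3 q8427 (flp_g L171061) q6892, e3 q8428 (flp_g L248308) q10254, e3 q8429 L171079 q7439, e3 q8430 (flp_g L246971) q10115, e3 q8431 L171093 q6894, e3 q8432 (flp_g L248350) q10260, e3 q8433 (flp_g L248358) q10261, e3 q8434 (flp_g L247002) q10119, e3 q8435 L171119 q6897, e3 q8436 L171129 q6898, e3 q8437 (flp_g L248395) q10267, e3 q8438 (flp_g L248405) q10268, e3 q8439 L248424 q10272, e3 q8440 L171155 q7008, e3 q8441 L171160 q7009, e3 q8442 L248447 q10275, e3 q8443 L171180 q7452, e3 q8444 (flp_g L247083) q10129, e3 q8445 L171194 q6904, e3 q8446 L171204 q6905, e3 q8447 (flp_g L248504) q10281, trivial⟩ (by decide +kernel)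

theorem ce_g_132 : ∀ r, r < 64 → sm gg (Qf (8448 + r)) = Qf (tab Gen.g (8448 + r)) :=
  edges_tab (sm gg) Qf (tab Gen.g) 8448 [(8448, 10282), (8449, 10134), (8450, 6908), (8451, 10286), (8452, 7461), (8453, 7462), (8454, 7419), (8455, 10137), (8456, 6913), (8457, 6914), (8458, 10293), (8459, 10294), (8460, 10295), (8461, 10164), (8462, 10142), (8463, 6917), (8464, 10302), (8465, 10145), (8466, 10146), (8467, 8467), (8468, 6920), (8469, 10307), (8470, 6923), (8471, 10308), (8472, 8472), (8473, 6925), (8474, 10312), (8475, 10313), (8476, 10156), (8477, 10157), (8478, 8478), (8479, 8479), (8480, 6929), (8481, 10321), (8482, 8482), (8483, 6932), (8484, 7949), (8485, 8485), (8486, 8486), (8487, 6936), (8488, 6937), (8489, 10328), (8490, 10329), (8491, 8491), (8492, 10332), (8493, 6940), (8494, 10335), (8495, 10175), (8496, 6942), (8497, 10339), (8498, 8498), (8499, 6944), (8500, 10343), (8501, 10344), (8502, 10183), (8503, 7477), (8504, 8504), (8505, 6948), (8506, 10351), (8507, 8507), (8508, 6951), (8509, 6952), (8510, 10355),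 (8511, 7485)]
    ⟨e3 q8448 (flp_g L248514) q10282, e3 q8449 (flp_g L247128) q10134, e3 q8450 (flp_g L171230) q6908, e3 q8451 (flp_g L248544) q10286, e3 q8452 L171252 q7461, e3 q8453 L171262 q7462, e3 q8454 L637662 q7419, e3 q8455 (flp_g L247179) q10137, e3 q8456 L171282 q6913, e3 q8457 L171291 q6914, e3 q8458 (flp_g L248609) q10293, e3 q8459 (flp_g L248618) q10294, e3 q8460 (flp_g L248624) q10295, e3 q8461 L614373 q10164, e3 q8462 (flp_g L247240) q10142, e3 q8463 (flp_g L171340) q6917, e3 q8464 (flp_g L248736) q10302, e3 q8465 (flp_g L247272) q10145, e3 q8466 (flp_g L247284) q10146, e3 q8467 L171401 q8467, e3 q8468 L171407 q6920, e3 q8469 (flp_g L248843) q10307, e3 q8470 (flp_g L171431) q6923, e3 q8471 (flp_g L248886) q10308, e3 q8472 L171455 q8472, e3 q8473 L171461 q6925, e3 q8474 (flp_g L248914) q10312, e3 q8475 (flp_g L248924) q10313, e3 q8476 (flp_g L247397) q10156, e3 q8477 (flp_g L247408) q10157, e3 q8478 L171504 q8478, e3 q8479 L171514 q8479, e3 q8480 L171521 q6929, e3 q8481 (flp_g L249010) q10321, e3 q8482 L171546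 q8482, e3 q8483 L171557 q6932, e3 q8484 (flp_g L616686) q7949, e3 q8485 L171575 q8485, e3 q8486 L171582 q8486, e3 q8487 L171588 q6936, e3 q8488 L171600 q6937, e3 q8489 (flp_g L249099) q10328, e3 q8490 (flp_g L249111) q10329, e3 q8491 L171628 q8491, e3 q8492 L249152 q10332, e3 q8493 (flp_g L171642) q6940, e3 q8494 (flp_g L249185) q10335, e3 q8495 (flp_g L247583) q10175, e3 q8496 (flp_g L171686) q6942, e3 q8497 (flp_g L249275) q10339, e3 q8498 L171716 q8498, e3 q8499 L171723 q6944, e3 q8500 (flp_g L249310) q10343, e3 q8501 (flp_g L249319) q10344, e3 q8502 (flp_g L247670) q10183, e3 q8503 L171768 q7477, e3 q8504 L171781 q8504, e3 q8505 L171789 q6948, e3 q8506 (flp_g L249409) q10351, e3 q8507 L171818 q8507, e3 q8508 L171826 q6951, e3 q8509 (flp_g L171830) q6952, e3 q8510 (flp_g L249467) q10355, e3 q8511 L171853 q7485, trivial⟩ (by decide +kernel)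

theorem ce_g_133 : ∀ r, r < 64 → sm gg (Qf (8512 + r)) = Qf (tab Gen.g (8512 + r)) :=
  edges_tab (sm gg) Qf (tab Gen.g) 8512 [(8512, 8512), (8513, 6954), (8514, 10361), (8515, 10362), (8516, 8516), (8517, 6957), (8518, 6958), (8519, 10368), (8520, 10369), (8521, 10373), (8522, 10204), (8523, 10205), (8524, 10376), (8525, 7496), (8526, 8526), (8527, 6964), (8528, 6965), (8529, 10382), (8530, 10383), (8531, 8531), (8532, 6968), (8533, 10386), (8534, 7505), (8535, 7506), (8536, 8536), (8537, 8537), (8538, 6973), (8539, 6974), (8540, 10394), (8541, 10395), (8542, 10396), (8543, 10400), (8544, 6976), (8545, 10404), (8546, 8546), (8547, 6978), (8548, 10408), (8549, 6980), (8550, 10411), (8551, 7519), (8552, 8552), (8553, 6982), (8554, 10417), (8555, 10418), (8556, 8556), (8557, 6985), (8558, 6986), (8559, 10424), (8560, 10425), (8561, 10243), (8562, 10428), (8563, 7527), (8564, 8564), (8565, 6991), (8566, 6992), (8567, 10434), (8568, 10435), (8569, 8569), (8570, 7534), (8571, 8571), (8572, 6996), (8573, 10442), (8574, 10443),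 (8575, 10447)]
    ⟨e3 q8512 L171863 q8512, e3 q8513 L171870 q6954, e3 q8514 (flp_g L249513) q10361, e3 q8515 (flp_g L249521) q10362, e3 q8516 L171892 q8516, e3 q8517 L171897 q6957, e3 q8518 L171904 q6958, e3 q8519 (flp_g L249561) q10368, e3 q8520 (flp_g L249568) q10369, e3 q8521 L249589 q10373, e3 q8522 (flp_g L247841) q10204, e3 q8523 (flp_g L247845) q10205, e3 q8524 L249607 q10376, e3 q8525 L171954 q7496, e3 q8526 L171962 q8526, e3 q8527 L171969 q6964, e3 q8528 L171979 q6965, e3 q8529 (flp_g L249668) q10382, e3 q8530 (flp_g L249678) q10383, e3 q8531 L172003 q8531, e3 q8532 (flp_g L172008) q6968, e3 q8533 (flp_g L249711) q10386, e3 q8534 L172030 q7505, e3 q8535 L172039 q7506, e3 q8536 L172046 q8536, e3 q8537 L172056 q8537, e3 q8538 L172064 q6973, e3 q8539 L172073 q6974, e3 q8540 (flp_g L249776) q10394, e3 q8541 (flp_g L249785) q10395, e3 q8542 (flp_g L249790) q10396, e3 q8543 L249830 q10400, e3 q8544 (flp_g L172108) q6976, e3 q8545 (flp_g L249867) q10404, e3 q8546 L172131 q8546, e3 q8547 L172137 q6978, e3 q8548 (flp_g L249906)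 q10408, e3 q8549 (flp_g L172176) q6980, e3 q8550 (flp_g L249995) q10411, e3 q8551 L172201 q7519, e3 q8552 L172211 q8552, e3 q8553 L172220 q6982, e3 q8554 (flp_g L250049) q10417, e3 q8555 (flp_g L250059) q10418, e3 q8556 L172246 q8556, e3 q8557 L172253 q6985, e3 q8558 L172263 q6986, e3 q8559 (flp_g L250109) q10424, e3 q8560 (flp_g L250119) q10425, e3 q8561 (flp_g L248212) q10243, e3 q8562 L250174 q10428, e3 q8563 L172324 q7527, e3 q8564 L172333 q8564, e3 q8565 L172341 q6991, e3 q8566 L172353 q6992, e3 q8567 (flp_g L250239) q10434, e3 q8568 (flp_g L250251) q10435, e3 q8569 L172382 q8569, e3 q8570 L172391 q7534, e3 q8571 L172400 q8571, e3 q8572 L172406 q6996, e3 q8573 (flp_g L250316) q10442, e3 q8574 (flp_g L250325) q10443, e3 q8575 L250349 q10447, trivial⟩ (by decide +kernel)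

theorem ce_g_134 : ∀ r, r < 64 → sm gg (Qf (8576 + r)) = Qf (tab Gen.g (8576 + r)) :=
  edges_tab (sm gg) Qf (tab Gen.g) 8576 [(8576, 7540), (8577, 8577), (8578, 7000), (8579, 7001), (8580, 10453), (8581, 10454), (8582, 10455), (8583, 8583), (8584, 8584), (8585, 7005), (8586, 7006), (8587, 10467), (8588, 10465), (8589, 10466), (8590, 7007), (8591, 10471), (8592, 10274), (8593, 7010), (8594, 10473), (8595, 7557), (8596, 7558), (8597, 8597), (8598, 8598), (8599, 7015), (8600, 7016), (8601, 10481), (8602, 10482), (8603, 10483), (8604, 7019), (8605, 10487), (8606, 10488), (8607, 7569), (8608, 7570), (8609, 7571), (8610, 8610), (8611, 8611), (8612, 7026), (8613, 7027), (8614, 7028), (8615, 10500), (8616, 10501), (8617, 10502), (8618, 8618), (8619, 8619), (8620, 7037), (8621, 7958), (8622, 10507), (8623, 7581), (8624, 8624), (8625, 7041), (8626, 10512), (8627, 10513), (8628, 7044), (8629, 10514), (8630, 7588), (8631, 8631), (8632, 7048), (8633, 10519), (8634, 7050), (8635, 10520), (8636, 10521), (8637, 7595), (8638, 7596), (8639,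 7597)]
    ⟨e3 q8576 L172435 q7540, e3 q8577 L172443 q8577, e3 q8578 L172448 q7000, e3 q8579 L172456 q7001, e3 q8580 (flp_g L250394) q10453, e3 q8581 (flp_g L250400) q10454, e3 q8582 (flp_g L250408) q10455, e3 q8583 L172479 q8583, e3 q8584 L172488 q8584, e3 q8585 L172494 q7005, e3 q8586 L172502 q7006, e3 q8587 L250483 q10467, e3 q8588 (flp_g L250475) q10465, e3 q8589 (flp_g L250480) q10466, e3 q8590 (flp_g L172524) q7007, e3 q8591 (flp_g L250516) q10471, e3 q8592 (flp_g L248444) q10274, e3 q8593 (flp_g L172545) q7010, e3 q8594 (flp_g L250536) q10473, e3 q8595 L172568 q7557, e3 q8596 L172578 q7558, e3 q8597 L172584 q8597, e3 q8598 L172596 q8598, e3 q8599 L172602 q7015, e3 q8600 L172613 q7016, e3 q8601 (flp_g L250606) q10481, e3 q8602 (flp_g L250617) q10482, e3 q8603 (flp_g L250624) q10483, e3 q8604 L172647 q7019, e3 q8605 (flp_g L250662) q10487, e3 q8606 (flp_g L250672) q10488, e3 q8607 L172672 q7569, e3 q8608 L172679 q7570, e3 q8609 L172691 q7571, e3 q8610 L172697 q8610, e3 q8611 L172708 q8611, e3 q8612 L172714 q7026, e3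 q8613 L172724 q7027, e3 q8614 L172730 q7028, e3 q8615 (flp_g L250775) q10500, e3 q8616 (flp_g L250785) q10501, e3 q8617 (flp_g L250793) q10502, e3 q8618 L173484 q8618, e3 q8619 L173496 q8619, e3 q8620 L173515 q7037, e3 q8621 L616202 q7958, e3 q8622 L252393 q10507, e3 q8623 L173870 q7581, e3 q8624 L173880 q8624, e3 q8625 L173885 q7041, e3 q8626 (flp_g L252538) q10512, e3 q8627 L252564 q10513, e3 q8628 (flp_g L174050) q7044, e3 q8629 (flp_g L252776) q10514, e3 q8630 L174075 q7588, e3 q8631 L174092 q8631, e3 q8632 L174108 q7048, e3 q8633 (flp_g L252838) q10519, e3 q8634 L174147 q7050, e3 q8635 (flp_g L252883) q10520, e3 q8636 (flp_g L252893) q10521, e3 q8637 L174174 q7595, e3 q8638 L174180 q7596, e3 q8639 L174190 q7597, trivial⟩ (by decide +kernel)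

theorem ce_g_135 : ∀ r, r < 64 → sm gg (Qf (8640 + r)) = Qf (tab Gen.g (8640 + r)) :=
  edges_tab (sm gg) Qf (tab Gen.g) 8640 [(8640, 8640), (8641, 8641), (8642, 7057), (8643, 7058), (8644, 7059), (8645, 7962), (8646, 10528), (8647, 10529), (8648, 7606), (8649, 8649), (8650, 7061), (8651, 10537), (8652, 10538), (8653, 7064), (8654, 10539), (8655, 7613), (8656, 8656), (8657, 7068), (8658, 10544), (8659, 7617), (8660, 10548), (8661, 7619), (8662, 8662), (8663, 7072), (8664, 7073), (8665, 10554), (8666, 10555), (8667, 7074), (8668, 10558), (8669, 7627), (8670, 8670), (8671, 7078), (8672, 10563), (8673, 7080), (8674, 10565), (8675, 10566), (8676, 7634), (8677, 7635), (8678, 7636), (8679, 8679), (8680, 8680), (8681, 7087), (8682, 7088), (8683, 7089), (8684, 10578), (8685, 10579), (8686, 10580), (8687, 7091), (8688, 7092), (8689, 10584), (8690, 10585), (8691, 10586), (8692, 7650), (8693, 7649), (8694, 7648), (8695, 7647), (8696, 7651), (8697, 8697), (8698, 8698), (8699, 8699), (8700, 7101), (8701, 7102), (8702, 7103), (8703, 10597)]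
    ⟨e3 q8640 L174195 q8640, e3 q8641 L174204 q8641, e3 q8642 L174210 q7057, e3 q8643 L174218 q7058, e3 q8644 L174223 q7059, e3 q8645 L616148 q7962, e3 q8646 (flp_g L252997) q10528, e3 q8647 (flp_g L253004) q10529, e3 q8648 L174402 q7606, e3 q8649 L174411 q8649, e3 q8650 L174417 q7061, e3 q8651 (flp_g L253305) q10537, e3 q8652 L253334 q10538, e3 q8653 (flp_g L174565) q7064, e3 q8654 (flp_g L253523) q10539, e3 q8655 L174591 q7613, e3 q8656 L174608 q8656, e3 q8657 L174627 q7068, e3 q8658 (flp_g L253596) q10544, e3 q8659 L174668 q7617, e3 q8660 L253659 q10548, e3 q8661 L174684 q7619, e3 q8662 L174690 q8662, e3 q8663 L174696 q7072, e3 q8664 L174704 q7073, e3 q8665 (flp_g L253707) q10554, e3 q8666 (flp_g L253724) q10555, e3 q8667 (flp_g L174729) q7074, e3 q8668 (flp_g L253772) q10558, e3 q8669 L174753 q7627, e3 q8670 L174768 q8670, e3 q8671 L174783 q7078, e3 q8672 (flp_g L253843) q10563, e3 q8673 L174896 q7080, e3 q8674 (flp_g L253984) q10565, e3 q8675 (flp_g L253994) q10566, e3 q8676 L174921 q7634, e3 q8677 L174927 q7635, e3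 q8678 L174939 q7636, e3 q8679 L174944 q8679, e3 q8680 L174954 q8680, e3 q8681 L174960 q7087, e3 q8682 L174969 q7088, e3 q8683 L174976 q7089, e3 q8684 (flp_g L254092) q10578, e3 q8685 (flp_g L254101) q10579, e3 q8686 (flp_g L254108) q10580, e3 q8687 L175008 q7091, e3 q8688 L175018 q7092, e3 q8689 (flp_g L254139) q10584, e3 q8690 (flp_g L254147) q10585, e3 q8691 (flp_g L254158) q10586, e3 q8692 L175051 q7650, e3 q8693 L647083 q7649, e3 q8694 L647146 q7648, e3 q8695 (flp_g L647051) q7647, e3 q8696 L175085 q7651, e3 q8697 L175091 q8697, e3 q8698 L175101 q8698, e3 q8699 L175108 q8699, e3 q8700 L175115 q7101, e3 q8701 L175124 q7102, e3 q8702 L175132 q7103, e3 q8703 (flp_g L254295) q10597, trivial⟩ (by decide +kernel)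

theorem ce_g_136 : ∀ r, r < 64 → sm gg (Qf (8704 + r)) = Qf (tab Gen.g (8704 + r)) :=
  edges_tab (sm gg) Qf (tab Gen.g) 8704 [(8704, 10598), (8705, 10599), (8706, 7113), (8707, 7125), (8708, 7992), (8709, 7119), (8710, 9771), (8711, 9782), (8712, 9769), (8713, 10603), (8714, 7969), (8715, 7122), (8716, 10605), (8717, 7124), (8718, 9775), (8719, 9777), (8720, 7127), (8721, 9814), (8722, 10608), (8723, 7131), (8724, 9797), (8725, 7133), (8726, 9799), (8727, 9787), (8728, 9789), (8729, 9790), (8730, 7141), (8731, 7982), (8732, 7144), (8733, 9798), (8734, 7980), (8735, 7147), (8736, 10617), (8737, 10618), (8738, 7976), (8739, 7150), (8740, 10620), (8741, 9803), (8742, 9793), (8743, 7154), (8744, 7155), (8745, 10624), (8746, 10625), (8747, 9722), (8748, 10629), (8749, 7160), (8750, 10631), (8751, 8751), (8752, 7162), (8753, 9843), (8754, 7206), (8755, 7164), (8756, 10634), (8757, 9847), (8758, 7171), (8759, 7884), (8760, 8760), (8761, 10628), (8762, 7173), (8763, 10639), (8764, 8764), (8765, 8765), (8766, 7175), (8767, 10644)]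
    ⟨e3 q8704 (flp_g L254302) q10598, e3 q8705 (flp_g L254307) q10599, e3 q8706 L175336 q7113, e3 q8707 L641888 q7125, e3 q8708 L620945 q7992, e3 q8709 (flp_g L621223) q7119, e3 q8710 L644939 q9771, e3 q8711 (flp_g L644980) q9782, e3 q8712 (flp_g L641563) q9769, e3 q8713 L620584 q10603, e3 q8714 L620596 q7969, e3 q8715 (flp_g L175981) q7122, e3 q8716 (flp_g L255604) q10605, e3 q8717 L176009 q7124, e3 q8718 L644742 q9775, e3 q8719 L644352 q9777, e3 q8720 L176043 q7127, e3 q8721 L640385 q9814, e3 q8722 L256162 q10608, e3 q8723 (flp_g L176384) q7131, e3 q8724 L644931 q9797, e3 q8725 (flp_g L176415) q7133, e3 q8726 L644309 q9799, e3 q8727 (flp_g L634437) q9787, e3 q8728 (flp_g L243220) q9789, e3 q8729 (flp_g L631762) q9790, e3 q8730 (flp_g L176564) q7141, e3 q8731 (flp_g L621444) q7982, e3 q8732 (flp_g L176612) q7144, e3 q8733 (flp_g L243444) q9798, e3 q8734 L621414 q7980, e3 q8735 L176692 q7147, e3 q8736 (flp_g L256651) q10617, e3 q8737 (flp_g L256662) q10618, e3 q8738 L621335 q7976, e3 q8739 L176721 q7150, e3 q8740 L256684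 q10620, e3 q8741 (flp_g L243508) q9803, e3 q8742 L644571 q9793, e3 q8743 L176750 q7154, e3 q8744 L176761 q7155, e3 q8745 (flp_g L256734) q10624, e3 q8746 (flp_g L256745) q10625, e3 q8747 L633395 q9722, e3 q8748 L257141 q10629, e3 q8749 (flp_g L177034) q7160, e3 q8750 (flp_g L257181) q10631, e3 q8751 L177070 q8751, e3 q8752 (flp_g L177075) q7162, e3 q8753 L641342 q9843, e3 q8754 L177100 q7206, e3 q8755 L177107 q7164, e3 q8756 (flp_g L257278) q10634, e3 q8757 (flp_g L644173) q9847, e3 q8758 L177179 q7171, e3 q8759 L622436 q7884, e3 q8760 L177201 q8760, e3 q8761 (flp_g L621593) q10628, e3 q8762 (flp_g L177212) q7173, e3 q8763 (flp_g L257448) q10639, e3 q8764 L177235 q8764, e3 q8765 L177247 q8765, e3 q8766 (flp_g L177250) q7175, e3 q8767 (flp_g L257513) q10644, trivial⟩ (by decide +kernel)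

theorem ce_g_137 : ∀ r, r < 64 → sm gg (Qf (8768 + r)) = Qf (tab Gen.g (8768 + r)) :=
  edges_tab (sm gg) Qf (tab Gen.g) 8768 [(8768, 7225), (8769, 7177), (8770, 10648), (8771, 7887), (8772, 7180), (8773, 10651), (8774, 7182), (8775, 7886), (8776, 10654), (8777, 8777), (8778, 8778), (8779, 9840), (8780, 7238), (8781, 7186), (8782, 10661), (8783, 10662), (8784, 7242), (8785, 7189), (8786, 9817), (8787, 7246), (8788, 7193), (8789, 7194), (8790, 10086), (8791, 10668), (8792, 7251), (8793, 9736), (8794, 7199), (8795, 10671), (8796, 7200), (8797, 10675), (8798, 7848), (8799, 7202), (8800, 10679), (8801, 9857), (8802, 9801), (8803, 7205), (8804, 9909), (8805, 10682), (8806, 9731), (8807, 7208), (8808, 10622), (8809, 9865), (8810, 7213), (8811, 9919), (8812, 9735), (8813, 10689), (8814, 7216), (8815, 10691), (8816, 7281), (8817, 10674), (8818, 7218), (8819, 10694), (8820, 7843), (8821, 7220), (8822, 10698), (8823, 10699), (8824, 7289), (8825, 9886), (8826, 10607), (8827, 7224), (8828, 10705), (8829, 10706), (8830, 10647), (8831,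 7227)]
    ⟨e3 q8768 L177274 q7225, e3 q8769 L177282 q7177, e3 q8770 (flp_g L257550) q10648, e3 q8771 L621638 q7887, e3 q8772 (flp_g L177303) q7180, e3 q8773 (flp_g L257593) q10651, e3 q8774 L177339 q7182, e3 q8775 (flp_g L621664) q7886, e3 q8776 (flp_g L257639) q10654, e3 q8777 L177367 q8777, e3 q8778 L177379 q8778, e3 q8779 (flp_g L244026) q9840, e3 q8780 L177393 q7238, e3 q8781 L177401 q7186, e3 q8782 (flp_g L257718) q10661, e3 q8783 (flp_g L257727) q10662, e3 q8784 L177423 q7242, e3 q8785 L177434 q7189, e3 q8786 L644138 q9817, e3 q8787 L177459 q7246, e3 q8788 L177466 q7193, e3 q8789 L177476 q7194, e3 q8790 L641312 q10086, e3 q8791 (flp_g L257817) q10668, e3 q8792 L177501 q7251, e3 q8793 (flp_g L642942) q9736, e3 q8794 L177721 q7199, e3 q8795 L258354 q10671, e3 q8796 (flp_g L177843) q7200, e3 q8797 (flp_g L258398) q10675, e3 q8798 L617458 q7848, e3 q8799 L177881 q7202, e3 q8800 (flp_g L258442) q10679, e3 q8801 (flp_g L244363) q9857, e3 q8802 (flp_g L645171) q9801, e3 q8803 L177939 q7205, e3 q8804 (flp_g L642635) q9909,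 e3 q8805 (flp_g L258522) q10682, e3 q8806 (flp_g L645212) q9731, e3 q8807 L177967 q7208, e3 q8808 L635077 q10622, e3 q8809 (flp_g L244438) q9865, e3 q8810 L178012 q7213, e3 q8811 L644228 q9919, e3 q8812 L642958 q9735, e3 q8813 L258634 q10689, e3 q8814 (flp_g L178044) q7216, e3 q8815 (flp_g L258672) q10691, e3 q8816 L178081 q7281, e3 q8817 L617614 q10674, e3 q8818 (flp_g L178089) q7218, e3 q8819 (flp_g L258761) q10694, e3 q8820 L622203 q7843, e3 q8821 L178123 q7220, e3 q8822 (flp_g L258791) q10698, e3 q8823 (flp_g L258804) q10699, e3 q8824 L178158 q7289, e3 q8825 (flp_g L244625) q9886, e3 q8826 (flp_g L621464) q10607, e3 q8827 L178181 q7224, e3 q8828 (flp_g L258879) q10705, e3 q8829 (flp_g L258889) q10706, e3 q8830 (flp_g L257538) q10647, e3 q8831 L178214 q7227, trivial⟩ (by decide +kernel)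

theorem ce_g_138 : ∀ r, r < 64 → sm gg (Qf (8832 + r)) = Qf (tab Gen.g (8832 + r)) :=
  edges_tab (sm gg) Qf (tab Gen.g) 8832 [(8832, 7228), (8833, 10710), (8834, 9894), (8835, 7900), (8836, 7230), (8837, 10716), (8838, 10717), (8839, 7898), (8840, 7233), (8841, 7234), (8842, 10722), (8843, 10723), (8844, 10726), (8845, 7310), (8846, 10728), (8847, 9908), (8848, 10660), (8849, 7240), (8850, 7241), (8851, 10734), (8852, 10735), (8853, 10665), (8854, 7244), (8855, 10739), (8856, 9917), (8857, 9918), (8858, 10667), (8859, 9923), (8860, 7249), (8861, 7250), (8862, 10747), (8863, 10748), (8864, 10749), (8865, 7253), (8866, 7254), (8867, 10753), (8868, 10754), (8869, 8869), (8870, 7257), (8871, 10760), (8872, 9926), (8873, 8873), (8874, 7259), (8875, 10766), (8876, 10767), (8877, 8877), (8878, 7262), (8879, 10771), (8880, 9938), (8881, 8881), (8882, 7266), (8883, 7267), (8884, 10777), (8885, 10778), (8886, 8886), (8887, 7270), (8888, 10743), (8889, 9947), (8890, 9948), (8891, 8891), (8892, 8892), (8893, 7275), (8894, 7276), (8895,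 10787)]
    ⟨e3 q8832 (flp_g L178216) q7228, e3 q8833 (flp_g L258934) q10710, e3 q8834 (flp_g L244699) q9894, e3 q8835 (flp_g L617562) q7900, e3 q8836 L178254 q7230, e3 q8837 (flp_g L258982) q10716, e3 q8838 (flp_g L258992) q10717, e3 q8839 (flp_g L621525) q7898, e3 q8840 L178284 q7233, e3 q8841 L178297 q7234, e3 q8842 (flp_g L259036) q10722, e3 q8843 (flp_g L259049) q10723, e3 q8844 L259076 q10726, e3 q8845 L178329 q7310, e3 q8846 L259103 q10728, e3 q8847 (flp_g L244817) q9908, e3 q8848 (flp_g L257710) q10660, e3 q8849 L178368 q7240, e3 q8850 L178377 q7241, e3 q8851 (flp_g L259151) q10734, e3 q8852 (flp_g L259160) q10735, e3 q8853 (flp_g L257749) q10665, e3 q8854 (flp_g L178398) q7244, e3 q8855 (flp_g L259184) q10739, e3 q8856 (flp_g L244886) q9917, e3 q8857 (flp_g L244897) q9918, e3 q8858 (flp_g L257787) q10667, e3 q8859 L641218 q9923, e3 q8860 L178449 q7249, e3 q8861 L178459 q7250, e3 q8862 (flp_g L259245) q10747, e3 q8863 (flp_g L259255) q10748, e3 q8864 (flp_g L259261) q10749, e3 q8865 L178753 q7253, e3 q8866 L178764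 q7254, e3 q8867 (flp_g L259731) q10753, e3 q8868 (flp_g L259742) q10754, e3 q8869 L178791 q8869, e3 q8870 (flp_g L178989) q7257, e3 q8871 (flp_g L260101) q10760, e3 q8872 (flp_g L245184) q9926, e3 q8873 L179026 q8873, e3 q8874 L179035 q7259, e3 q8875 (flp_g L260153) q10766, e3 q8876 (flp_g L260163) q10767, e3 q8877 L179059 q8877, e3 q8878 L179076 q7262, e3 q8879 L260271 q10771, e3 q8880 (flp_g L245314) q9938, e3 q8881 L179140 q8881, e3 q8882 L179147 q7266, e3 q8883 L179156 q7267, e3 q8884 (flp_g L260323) q10777, e3 q8885 (flp_g L260332) q10778, e3 q8886 L179175 q8886, e3 q8887 (flp_g L179180) q7270, e3 q8888 (flp_g L635131) q10743, e3 q8889 (flp_g L245395) q9947, e3 q8890 (flp_g L245405) q9948, e3 q8891 L179216 q8891, e3 q8892 L179227 q8892, e3 q8893 L179235 q7275, e3 q8894 L179245 q7276, e3 q8895 (flp_g L260420) q10787, trivial⟩ (by decide +kernel)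

theorem ce_g_139 : ∀ r, r < 64 → sm gg (Qf (8896 + r)) = Qf (tab Gen.g (8896 + r)) :=
  edges_tab (sm gg) Qf (tab Gen.g) 8896 [(8896, 10788), (8897, 10789), (8898, 10793), (8899, 7278), (8900, 10797), (8901, 8901), (8902, 7280), (8903, 10801), (8904, 7282), (8905, 10804), (8906, 9967), (8907, 8907), (8908, 7284), (8909, 10810), (8910, 10811), (8911, 8911), (8912, 7287), (8913, 7288), (8914, 10817), (8915, 10818), (8916, 10820), (8917, 9981), (8918, 8918), (8919, 7293), (8920, 7294), (8921, 10826), (8922, 10827), (8923, 8923), (8924, 9988), (8925, 8925), (8926, 7298), (8927, 10835), (8928, 10836), (8929, 10840), (8930, 9994), (8931, 8931), (8932, 7302), (8933, 7303), (8934, 10846), (8935, 10847), (8936, 10848), (8937, 8937), (8938, 8938), (8939, 7307), (8940, 7308), (8941, 10859), (8942, 10858), (8943, 7309), (8944, 10862), (8945, 7311), (8946, 10863), (8947, 10013), (8948, 10014), (8949, 8949), (8950, 8950), (8951, 7316), (8952, 7317), (8953, 10871), (8954, 10872), (8955, 10873), (8956, 7320), (8957, 10877), (8958, 10878),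 (8959, 10025)]
    ⟨e3 q8896 (flp_g L260430) q10788, e3 q8897 (flp_g L260435) q10789, e3 q8898 L260470 q10793, e3 q8899 (flp_g L179277) q7278, e3 q8900 (flp_g L260515) q10797, e3 q8901 L179305 q8901, e3 q8902 L179313 q7280, e3 q8903 (flp_g L260561) q10801, e3 q8904 (flp_g L179363) q7282, e3 q8905 (flp_g L260664) q10804, e3 q8906 (flp_g L245594) q9967, e3 q8907 L179394 q8907, e3 q8908 L179403 q7284, e3 q8909 (flp_g L260712) q10810, e3 q8910 (flp_g L260722) q10811, e3 q8911 L179425 q8911, e3 q8912 L179432 q7287, e3 q8913 L179443 q7288, e3 q8914 (flp_g L260769) q10817, e3 q8915 (flp_g L260780) q10818, e3 q8916 L260835 q10820, e3 q8917 (flp_g L245710) q9981, e3 q8918 L179509 q8918, e3 q8919 L179517 q7293, e3 q8920 L179528 q7294, e3 q8921 (flp_g L260891) q10826, e3 q8922 (flp_g L260902) q10827, e3 q8923 L179552 q8923, e3 q8924 (flp_g L245772) q9988, e3 q8925 L179571 q8925, e3 q8926 L179579 q7298, e3 q8927 (flp_g L260963) q10835, e3 q8928 (flp_g L260974) q10836, e3 q8929 L260998 q10840, e3 q8930 (flp_g L245825) q9994, e3 q8931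 L179620 q8931, e3 q8932 L179627 q7302, e3 q8933 L179637 q7303, e3 q8934 (flp_g L261049) q10846, e3 q8935 (flp_g L261057) q10847, e3 q8936 (flp_g L261067) q10848, e3 q8937 L179662 q8937, e3 q8938 L179674 q8938, e3 q8939 L179682 q7307, e3 q8940 L179693 q7308, e3 q8941 L261155 q10859, e3 q8942 (flp_g L261144) q10858, e3 q8943 (flp_g L179723) q7309, e3 q8944 (flp_g L261197) q10862, e3 q8945 (flp_g L179748) q7311, e3 q8946 (flp_g L261221) q10863, e3 q8947 (flp_g L245978) q10013, e3 q8948 (flp_g L245987) q10014, e3 q8949 L179779 q8949, e3 q8950 L179790 q8950, e3 q8951 L179796 q7316, e3 q8952 L179806 q7317, e3 q8953 (flp_g L261279) q10871, e3 q8954 (flp_g L261289) q10872, e3 q8955 (flp_g L261296) q10873, e3 q8956 L179834 q7320, e3 q8957 (flp_g L261325) q10877, e3 q8958 (flp_g L261334) q10878, e3 q8959 (flp_g L246074) q10025, trivial⟩ (by decide +kernel)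

theorem ce_g_140 : ∀ r, r < 64 → sm gg (Qf (8960 + r)) = Qf (tab Gen.g (8960 + r)) :=
  edges_tab (sm gg) Qf (tab Gen.g) 8960 [(8960, 10026), (8961, 10027), (8962, 8962), (8963, 8963), (8964, 7327), (8965, 7328), (8966, 7329), (8967, 10890), (8968, 10891), (8969, 10892), (8970, 7885), (8971, 10898), (8972, 7331), (8973, 10900), (8974, 8974), (8975, 7333), (8976, 10904), (8977, 7396), (8978, 7335), (8979, 10908), (8980, 10635), (8981, 7338), (8982, 10911), (8983, 7402), (8984, 7340), (8985, 10915), (8986, 10916), (8987, 8987), (8988, 10078), (8989, 7408), (8990, 7344), (8991, 10139), (8992, 10919), (8993, 7412), (8994, 7347), (8995, 7352), (8996, 10140), (8997, 7421), (8998, 10897), (8999, 7355), (9000, 10896), (9001, 7356), (9002, 10927), (9003, 7427), (9004, 7358), (9005, 10931), (9006, 10105), (9007, 7431), (9008, 7361), (9009, 10935), (9010, 10936), (9011, 7435), (9012, 7364), (9013, 7365), (9014, 10655), (9015, 10114), (9016, 7440), (9017, 7367), (9018, 10946), (9019, 10947), (9020, 7444), (9021, 7370), (9022, 7371),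 (9023, 10649)]
    ⟨e3 q8960 (flp_g L246082) q10026, e3 q8961 (flp_g L246092) q10027, e3 q8962 L179877 q8962, e3 q8963 L179889 q8963, e3 q8964 L179897 q7327, e3 q8965 L179908 q7328, e3 q8966 L179914 q7329, e3 q8967 (flp_g L261430) q10890, e3 q8968 (flp_g L261441) q10891, e3 q8969 (flp_g L261449) q10892, e3 q8970 L611805 q7885, e3 q8971 L261533 q10898, e3 q8972 (flp_g L179970) q7331, e3 q8973 (flp_g L261573) q10900, e3 q8974 L180007 q8974, e3 q8975 (flp_g L180012) q7333, e3 q8976 (flp_g L261646) q10904, e3 q8977 L180041 q7396, e3 q8978 L180049 q7335, e3 q8979 (flp_g L261686) q10908, e3 q8980 (flp_g L611944) q10635, e3 q8981 (flp_g L180073) q7338, e3 q8982 (flp_g L261729) q10911, e3 q8983 L180098 q7402, e3 q8984 L180105 q7340, e3 q8985 (flp_g L261757) q10915, e3 q8986 (flp_g L261767) q10916, e3 q8987 L180139 q8987, e3 q8988 (flp_g L246613) q10078, e3 q8989 L180159 q7408, e3 q8990 L180167 q7344, e3 q8991 L637242 q10139, e3 q8992 (flp_g L261853) q10919, e3 q8993 L180192 q7412, e3 q8994 L180203 q7347, e3 q8995 L180243 q7352, e3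 q8996 (flp_g L641283) q10140, e3 q8997 L180267 q7421, e3 q8998 (flp_g L611849) q10897, e3 q8999 (flp_g L180280) q7355, e3 q9000 L612428 q10896, e3 q9001 (flp_g L180323) q7356, e3 q9002 (flp_g L262105) q10927, e3 q9003 L180350 q7427, e3 q9004 L180359 q7358, e3 q9005 (flp_g L262152) q10931, e3 q9006 (flp_g L246881) q10105, e3 q9007 L180420 q7431, e3 q9008 L180429 q7361, e3 q9009 (flp_g L262241) q10935, e3 q9010 (flp_g L262253) q10936, e3 q9011 L180456 q7435, e3 q9012 L180470 q7364, e3 q9013 (flp_g L180472) q7365, e3 q9014 L612013 q10655, e3 q9015 (flp_g L246963) q10114, e3 q9016 L180497 q7440, e3 q9017 L180505 q7367, e3 q9018 (flp_g L262347) q10946, e3 q9019 (flp_g L262355) q10947, e3 q9020 L180524 q7444, e3 q9021 L180531 q7370, e3 q9022 L180542 q7371, e3 q9023 (flp_g L621650) q10649, trivial⟩ (by decide +kernel)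

theorem ce_g_141 : ∀ r, r < 64 → sm gg (Qf (9024 + r)) = Qf (tab Gen.g (9024 + r)) :=
  edges_tab (sm gg) Qf (tab Gen.g) 9024 [(9024, 10952), (9025, 10955), (9026, 9026), (9027, 10957), (9028, 10128), (9029, 7453), (9030, 7377), (9031, 7378), (9032, 10963), (9033, 10964), (9034, 7458), (9035, 7381), (9036, 10968), (9037, 10090), (9038, 10136), (9039, 7463), (9040, 7464), (9041, 7386), (9042, 7387), (9043, 10974), (9044, 10975), (9045, 10976), (9046, 10980), (9047, 7389), (9048, 10981), (9049, 7390), (9050, 10985), (9051, 7894), (9052, 7392), (9053, 10989), (9054, 10184), (9055, 10903), (9056, 7395), (9057, 10993), (9058, 10994), (9059, 10907), (9060, 7398), (9061, 7399), (9062, 10999), (9063, 10193), (9064, 10688), (9065, 7401), (9066, 11005), (9067, 11006), (9068, 10914), (9069, 7404), (9070, 7405), (9071, 11012), (9072, 11013), (9073, 11015), (9074, 10207), (9075, 9921), (9076, 7410), (9077, 7411), (9078, 11020), (9079, 11021), (9080, 10922), (9081, 7414), (9082, 10742), (9083, 10216), (9084, 10217), (9085, 9922), (9086,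 7420), (9087, 10279)]
    ⟨e3 q9024 (flp_g L262410) q10952, e3 q9025 L262440 q10955, e3 q9026 L180576 q9026, e3 q9027 L262466 q10957, e3 q9028 (flp_g L247075) q10128, e3 q9029 L180609 q7453, e3 q9030 L180617 q7377, e3 q9031 L180628 q7378, e3 q9032 (flp_g L262522) q10963, e3 q9033 (flp_g L262533) q10964, e3 q9034 L180654 q7458, e3 q9035 (flp_g L180658) q7381, e3 q9036 (flp_g L262567) q10968, e3 q9037 L637401 q10090, e3 q9038 (flp_g L247163) q10136, e3 q9039 L180688 q7463, e3 q9040 L180700 q7464, e3 q9041 L180709 q7386, e3 q9042 L180719 q7387, e3 q9043 (flp_g L262630) q10974, e3 q9044 (flp_g L262640) q10975, e3 q9045 (flp_g L262647) q10976, e3 q9046 L262684 q10980, e3 q9047 (flp_g L180752) q7389, e3 q9048 L262761 q10981, e3 q9049 (flp_g L180796) q7390, e3 q9050 (flp_g L262807) q10985, e3 q9051 (flp_g L622607) q7894, e3 q9052 L180834 q7392, e3 q9053 (flp_g L262852) q10989, e3 q9054 (flp_g L247682) q10184, e3 q9055 (flp_g L261637) q10903, e3 q9056 L180900 q7395, e3 q9057 (flp_g L262934) q10993, e3 q9058 (flp_g L262945) q10994,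 e3 q9059 (flp_g L261674) q10907, e3 q9060 L180936 q7398, e3 q9061 (flp_g L180940) q7399, e3 q9062 (flp_g L262996) q10999, e3 q9063 (flp_g L247764) q10193, e3 q9064 L622144 q10688, e3 q9065 L180976 q7401, e3 q9066 (flp_g L263037) q11005, e3 q9067 (flp_g L263045) q11006, e3 q9068 (flp_g L261750) q10914, e3 q9069 L181000 q7404, e3 q9070 L181011 q7405, e3 q9071 (flp_g L263083) q11012, e3 q9072 (flp_g L263094) q11013, e3 q9073 L263138 q11015, e3 q9074 (flp_g L247869) q10207, e3 q9075 L637678 q9921, e3 q9076 L181079 q7410, e3 q9077 L181089 q7411, e3 q9078 (flp_g L263195) q11020, e3 q9079 (flp_g L263205) q11021, e3 q9080 (flp_g L261878) q10922, e3 q9081 (flp_g L181115) q7414, e3 q9082 L641022 q10742, e3 q9083 (flp_g L247943) q10216, e3 q9084 (flp_g L247953) q10217, e3 q9085 L641243 q9922, e3 q9086 L181176 q7420, e3 q9087 L637104 q10279, trivial⟩ (by decide +kernel)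

theorem ce_g_142 : ∀ r, r < 64 → sm gg (Qf (9088 + r)) = Qf (tab Gen.g (9088 + r)) :=
  edges_tab (sm gg) Qf (tab Gen.g) 9088 [(9088, 10292), (9089, 11028), (9090, 10984), (9091, 7422), (9092, 7889), (9093, 7424), (9094, 11035), (9095, 10233), (9096, 10926), (9097, 7426), (9098, 11041), (9099, 11042), (9100, 10930), (9101, 7429), (9102, 11046), (9103, 10245), (9104, 10934), (9105, 7433), (9106, 7434), (9107, 11052), (9108, 11053), (9109, 10939), (9110, 10252), (9111, 7854), (9112, 7438), (9113, 11060), (9114, 11061), (9115, 11065), (9116, 10258), (9117, 10945), (9118, 7442), (9119, 7443), (9120, 11071), (9121, 11072), (9122, 11073), (9123, 7852), (9124, 10951), (9125, 7447), (9126, 7448), (9127, 11083), (9128, 11082), (9129, 7449), (9130, 11086), (9131, 7451), (9132, 11087), (9133, 10277), (9134, 10278), (9135, 10961), (9136, 10962), (9137, 7456), (9138, 7457), (9139, 11095), (9140, 11096), (9141, 11097), (9142, 7460), (9143, 11101), (9144, 11102), (9145, 10289), (9146, 10290), (9147, 10291), (9148, 10972), (9149, 10973),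 (9150, 7467), (9151, 7468)]
    ⟨e3 q9088 L644066 q10292, e3 q9089 (flp_g L263305) q11028, e3 q9090 L617621 q10984, e3 q9091 (flp_g L181201) q7422, e3 q9092 L622214 q7889, e3 q9093 (flp_g L181273) q7424, e3 q9094 (flp_g L263496) q11035, e3 q9095 (flp_g L248107) q10233, e3 q9096 (flp_g L262095) q10926, e3 q9097 L181313 q7426, e3 q9098 (flp_g L263545) q11041, e3 q9099 (flp_g L263555) q11042, e3 q9100 (flp_g L262130) q10930, e3 q9101 L181357 q7429, e3 q9102 L263677 q11046, e3 q9103 (flp_g L248234) q10245, e3 q9104 (flp_g L262232) q10934, e3 q9105 L181438 q7433, e3 q9106 L181450 q7434, e3 q9107 (flp_g L263738) q11052, e3 q9108 (flp_g L263750) q11053, e3 q9109 (flp_g L262283) q10939, e3 q9110 (flp_g L248296) q10252, e3 q9111 (flp_g L622097) q7854, e3 q9112 L181496 q7438, e3 q9113 (flp_g L263802) q11060, e3 q9114 (flp_g L263811) q11061, e3 q9115 L263828 q11065, e3 q9116 (flp_g L248338) q10258, e3 q9117 (flp_g L262341) q10945, e3 q9118 L181533 q7442, e3 q9119 L181541 q7443, e3 q9120 (flp_g L263870) q11071, e3 q9121 (flp_g L263876)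 q11072, e3 q9122 (flp_g L263884) q11073, e3 q9123 (flp_g L621720) q7852, e3 q9124 (flp_g L262391) q10951, e3 q9125 L181577 q7447, e3 q9126 L181589 q7448, e3 q9127 L263958 q11083, e3 q9128 (flp_g L263946) q11082, e3 q9129 (flp_g L181613) q7449, e3 q9130 (flp_g L263996) q11086, e3 q9131 (flp_g L181637) q7451, e3 q9132 (flp_g L264018) q11087, e3 q9133 (flp_g L248472) q10277, e3 q9134 (flp_g L248483) q10278, e3 q9135 (flp_g L262501) q10961, e3 q9136 (flp_g L262514) q10962, e3 q9137 L181690 q7456, e3 q9138 L181701 q7457, e3 q9139 (flp_g L264082) q11095, e3 q9140 (flp_g L264093) q11096, e3 q9141 (flp_g L264101) q11097, e3 q9142 L181728 q7460, e3 q9143 (flp_g L264129) q11101, e3 q9144 (flp_g L264137) q11102, e3 q9145 (flp_g L248570) q10289, e3 q9146 (flp_g L248576) q10290, e3 q9147 (flp_g L248589) q10291, e3 q9148 (flp_g L262610) q10972, e3 q9149 (flp_g L262622) q10973, e3 q9150 L181789 q7467, e3 q9151 L181799 q7468, trivial⟩ (by decide +kernel)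

theorem ce_g_143 : ∀ r, r < 64 → sm gg (Qf (9152 + r)) = Qf (tab Gen.g (9152 + r)) :=
  edges_tab (sm gg) Qf (tab Gen.g) 9152 [(9152, 7469), (9153, 11114), (9154, 11115), (9155, 11116), (9156, 7470), (9157, 9157), (9158, 10337), (9159, 9159), (9160, 7473), (9161, 11125), (9162, 11126), (9163, 9163), (9164, 7476), (9165, 11129), (9166, 10349), (9167, 9167), (9168, 7480), (9169, 9169), (9170, 10353), (9171, 9171), (9172, 7484), (9173, 11137), (9174, 11138), (9175, 11141), (9176, 10359), (9177, 9177), (9178, 7488), (9179, 7489), (9180, 11147), (9181, 11148), (9182, 11149), (9183, 9183), (9184, 9184), (9185, 7493), (9186, 7494), (9187, 11158), (9188, 7495), (9189, 11159), (9190, 10378), (9191, 10379), (9192, 9192), (9193, 9193), (9194, 7500), (9195, 7501), (9196, 11167), (9197, 11168), (9198, 7504), (9199, 11171), (9200, 11172), (9201, 10389), (9202, 10390), (9203, 10391), (9204, 9204), (9205, 9205), (9206, 7511), (9207, 7512), (9208, 7513), (9209, 11184), (9210, 11185), (9211, 11186), (9212, 7514), (9213, 11192), (9214, 10402),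 (9215, 9215)]
    ⟨e3 q9152 L181806 q7469, e3 q9153 (flp_g L264229) q11114, e3 q9154 (flp_g L264239) q11115, e3 q9155 (flp_g L264248) q11116, e3 q9156 (flp_g L181838) q7470, e3 q9157 L181864 q9157, e3 q9158 (flp_g L249254) q10337, e3 q9159 L181951 q9159, e3 q9160 L181960 q7473, e3 q9161 (flp_g L264509) q11125, e3 q9162 (flp_g L264519) q11126, e3 q9163 L181984 q9163, e3 q9164 L182002 q7476, e3 q9165 L264638 q11129, e3 q9166 (flp_g L249381) q10349, e3 q9167 L182075 q9167, e3 q9168 L182095 q7480, e3 q9169 L182122 q9169, e3 q9170 (flp_g L249450) q10353, e3 q9171 L182145 q9171, e3 q9172 L182152 q7484, e3 q9173 (flp_g L264778) q11137, e3 q9174 (flp_g L264788) q11138, e3 q9175 L264811 q11141, e3 q9176 (flp_g L249500) q10359, e3 q9177 L182188 q9177, e3 q9178 L182193 q7488, e3 q9179 L182201 q7489, e3 q9180 (flp_g L264856) q11147, e3 q9181 (flp_g L264862) q11148, e3 q9182 (flp_g L264870) q11149, e3 q9183 L182222 q9183, e3 q9184 L182232 q9184, e3 q9185 L182240 q7493, e3 q9186 L182249 q7494, e3 q9187 (flp_g L264933) q11158, e3 q9188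 (flp_g L182294) q7495, e3 q9189 (flp_g L264998) q11159, e3 q9190 (flp_g L249632) q10378, e3 q9191 (flp_g L249642) q10379, e3 q9192 L182331 q9192, e3 q9193 L182343 q9193, e3 q9194 L182351 q7500, e3 q9195 L182362 q7501, e3 q9196 (flp_g L265062) q11167, e3 q9197 (flp_g L265073) q11168, e3 q9198 L182392 q7504, e3 q9199 (flp_g L265114) q11171, e3 q9200 (flp_g L265122) q11172, e3 q9201 (flp_g L249738) q10389, e3 q9202 (flp_g L249745) q10390, e3 q9203 (flp_g L249756) q10391, e3 q9204 L182436 q9204, e3 q9205 L182447 q9205, e3 q9206 L182453 q7511, e3 q9207 L182463 q7512, e3 q9208 L182469 q7513, e3 q9209 (flp_g L265219) q11184, e3 q9210 (flp_g L265229) q11185, e3 q9211 (flp_g L265237) q11186, e3 q9212 (flp_g L182505) q7514, e3 q9213 (flp_g L265303) q11192, e3 q9214 (flp_g L249850) q10402, e3 q9215 L182532 q9215, trivial⟩ (by decide +kernel)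

theorem ce_g_144 : ∀ r, r < 64 → sm gg (Qf (9216 + r)) = Qf (tab Gen.g (9216 + r)) :=
  edges_tab (sm gg) Qf (tab Gen.g) 9216 [(9216, 10409), (9217, 9217), (9218, 7518), (9219, 11199), (9220, 11200), (9221, 11202), (9222, 10415), (9223, 9223), (9224, 7522), (9225, 7523), (9226, 11208), (9227, 11209), (9228, 9228), (9229, 7526), (9230, 11213), (9231, 10430), (9232, 10431), (9233, 9233), (9234, 9234), (9235, 7531), (9236, 7532), (9237, 11221), (9238, 11222), (9239, 10438), (9240, 11227), (9241, 10440), (9242, 9242), (9243, 7537), (9244, 7538), (9245, 11233), (9246, 11234), (9247, 11235), (9248, 7539), (9249, 11242), (9250, 10449), (9251, 10450), (9252, 9252), (9253, 9253), (9254, 7544), (9255, 7545), (9256, 7546), (9257, 11251), (9258, 11252), (9259, 11253), (9260, 11263), (9261, 11255), (9262, 11256), (9263, 9263), (9264, 9264), (9265, 11268), (9266, 7552), (9267, 7551), (9268, 11271), (9269, 9269), (9270, 7554), (9271, 7556), (9272, 11273), (9273, 11274), (9274, 10476), (9275, 10477), (9276, 10478), (9277, 9277), (9278,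 9278), (9279, 7563)]
    ⟨e3 q9216 (flp_g L249976) q10409, e3 q9217 L182660 q9217, e3 q9218 L182669 q7518, e3 q9219 (flp_g L265558) q11199, e3 q9220 (flp_g L265570) q11200, e3 q9221 L265597 q11202, e3 q9222 (flp_g L250032) q10415, e3 q9223 L182711 q9223, e3 q9224 L182718 q7522, e3 q9225 L182728 q7523, e3 q9226 (flp_g L265650) q11208, e3 q9227 (flp_g L265668) q11209, e3 q9228 L182768 q9228, e3 q9229 (flp_g L182850) q7526, e3 q9230 (flp_g L265837) q11213, e3 q9231 (flp_g L250200) q10430, e3 q9232 (flp_g L250211) q10431, e3 q9233 L182888 q9233, e3 q9234 L182902 q9234, e3 q9235 L182911 q7531, e3 q9236 L182924 q7532, e3 q9237 (flp_g L265912) q11221, e3 q9238 (flp_g L265925) q11222, e3 q9239 (flp_g L250287) q10438, e3 q9240 L265983 q11227, e3 q9241 (flp_g L250304) q10440, e3 q9242 L182979 q9242, e3 q9243 L182984 q7537, e3 q9244 L182994 q7538, e3 q9245 (flp_g L266028) q11233, e3 q9246 (flp_g L266036) q11234, e3 q9247 (flp_g L266046) q11235, e3 q9248 (flp_g L183015) q7539, e3 q9249 (flp_g L266094) q11242, e3 q9250 (flp_g L250368)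 q10449, e3 q9251 (flp_g L250376) q10450, e3 q9252 L183040 q9252, e3 q9253 L183049 q9253, e3 q9254 L183054 q7544, e3 q9255 L183060 q7545, e3 q9256 L183068 q7546, e3 q9257 (flp_g L266149) q11251, e3 q9258 (flp_g L266155) q11252, e3 q9259 (flp_g L266165) q11253, e3 q9260 L266223 q11263, e3 q9261 (flp_g L266177) q11255, e3 q9262 (flp_g L266181) q11256, e3 q9263 L183108 q9263, e3 q9264 L183119 q9264, e3 q9265 L266265 q11268, e3 q9266 L183134 q7552, e3 q9267 (flp_g L183144) q7551, e3 q9268 (flp_g L266304) q11271, e3 q9269 L183176 q9269, e3 q9270 L183181 q7554, e3 q9271 L183202 q7556, e3 q9272 (flp_g L266356) q11273, e3 q9273 (flp_g L266365) q11274, e3 q9274 (flp_g L250562) q10476, e3 q9275 (flp_g L250570) q10477, e3 q9276 (flp_g L250583) q10478, e3 q9277 L183248 q9277, e3 q9278 L183261 q9278, e3 q9279 L183268 q7563, trivial⟩ (by decide +kernel)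

theorem ce_g_145 : ∀ r, r < 64 → sm gg (Qf (9280 + r)) = Qf (tab Gen.g (9280 + r)) :=
  edges_tab (sm gg) Qf (tab Gen.g) 9280 [(9280, 7564), (9281, 7565), (9282, 11286), (9283, 11287), (9284, 11288), (9285, 7567), (9286, 7568), (9287, 10593), (9288, 10592), (9289, 11292), (9290, 10492), (9291, 10493), (9292, 10494), (9293, 10495), (9294, 10496), (9295, 9295), (9296, 9296), (9297, 9297), (9298, 7577), (9299, 7578), (9300, 7579), (9301, 11303), (9302, 11304), (9303, 11305), (9304, 7580), (9305, 10508), (9306, 11311), (9307, 10510), (9308, 9308), (9309, 7584), (9310, 7585), (9311, 7587), (9312, 11315), (9313, 10516), (9314, 10517), (9315, 9315), (9316, 7591), (9317, 11321), (9318, 7593), (9319, 7594), (9320, 11322), (9321, 11323), (9322, 11324), (9323, 10525), (9324, 10524), (9325, 10523), (9326, 10522), (9327, 10526), (9328, 9328), (9329, 9329), (9330, 9330), (9331, 7603), (9332, 7604), (9333, 7605), (9334, 11334), (9335, 11335), (9336, 11336), (9337, 10533), (9338, 11327), (9339, 10535), (9340, 9340), (9341, 7609), (9342,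 7610), (9343, 7612)]
    ⟨e3 q9280 L183280 q7564, e3 q9281 L183288 q7565, e3 q9282 (flp_g L266470) q11286, e3 q9283 (flp_g L266482) q11287, e3 q9284 (flp_g L266490) q11288, e3 q9285 L183323 q7567, e3 q9286 L183331 q7568, e3 q9287 (flp_g L628658) q10593, e3 q9288 (flp_g L646986) q10592, e3 q9289 (flp_g L266540) q11292, e3 q9290 (flp_g L250706) q10492, e3 q9291 (flp_g L250715) q10493, e3 q9292 (flp_g L250727) q10494, e3 q9293 (flp_g L250735) q10495, e3 q9294 (flp_g L250742) q10496, e3 q9295 L183400 q9295, e3 q9296 L183412 q9296, e3 q9297 L183420 q9297, e3 q9298 L183429 q7577, e3 q9299 L183440 q7578, e3 q9300 L183449 q7579, e3 q9301 (flp_g L266679) q11303, e3 q9302 (flp_g L266687) q11304, e3 q9303 (flp_g L266694) q11305, e3 q9304 (flp_g L183841) q7580, e3 q9305 (flp_g L252498) q10508, e3 q9306 L267411 q11311, e3 q9307 (flp_g L252518) q10510, e3 q9308 L183964 q9308, e3 q9309 L183979 q7584, e3 q9310 (flp_g L184002) q7585, e3 q9311 L184189 q7587, e3 q9312 (flp_g L267761) q11315, e3 q9313 (flp_g L252803) q10516, e3 q9314 (flp_g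 L252809) q10517, e3 q9315 L184231 q9315, e3 q9316 L184247 q7591, e3 q9317 (flp_g L267861) q11321, e3 q9318 L184291 q7593, e3 q9319 L184299 q7594, e3 q9320 (flp_g L267904) q11322, e3 q9321 (flp_g L267910) q11323, e3 q9322 (flp_g L267919) q11324, e3 q9323 (flp_g L252927) q10525, e3 q9324 (flp_g L615911) q10524, e3 q9325 L615567 q10523, e3 q9326 L615971 q10522, e3 q9327 (flp_g L252959) q10526, e3 q9328 L184364 q9328, e3 q9329 L184374 q9329, e3 q9330 L184381 q9330, e3 q9331 L184390 q7603, e3 q9332 L184399 q7604, e3 q9333 L184407 q7605, e3 q9334 (flp_g L268042) q11334, e3 q9335 (flp_g L268049) q11335, e3 q9336 (flp_g L268054) q11336, e3 q9337 (flp_g L253264) q10533, e3 q9338 L615750 q11327, e3 q9339 (flp_g L253282) q10535, e3 q9340 L184589 q9340, e3 q9341 L184607 q7609, e3 q9342 (flp_g L184625) q7610, e3 q9343 L184725 q7612, trivial⟩ (by decide +kernel)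

theorem ce_g_146 : ∀ r, r < 64 → sm gg (Qf (9344 + r)) = Qf (tab Gen.g (9344 + r)) :=
  edges_tab (sm gg) Qf (tab Gen.g) 9344 [(9344, 11344), (9345, 10541), (9346, 10542), (9347, 9347), (9348, 7616), (9349, 11350), (9350, 11326), (9351, 10547), (9352, 7618), (9353, 11354), (9354, 10550), (9355, 10551), (9356, 9356), (9357, 9357), (9358, 7623), (9359, 7624), (9360, 11362), (9361, 11363), (9362, 7626), (9363, 11366), (9364, 10560), (9365, 10561), (9366, 9366), (9367, 7630), (9368, 11372), (9369, 7632), (9370, 7633), (9371, 11373), (9372, 10591), (9373, 10590), (9374, 10570), (9375, 10571), (9376, 10572), (9377, 10573), (9378, 10574), (9379, 9379), (9380, 9380), (9381, 9381), (9382, 7642), (9383, 7643), (9384, 7644), (9385, 11382), (9386, 11383), (9387, 11384), (9388, 10589), (9389, 9389), (9390, 7657), (9391, 7658), (9392, 7659), (9393, 11388), (9394, 11389), (9395, 7735), (9396, 9721), (9397, 7662), (9398, 7664), (9399, 7665), (9400, 9836), (9401, 11390), (9402, 7706), (9403, 7670), (9404, 9825), (9405, 9829), (9406, 9830),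 (9407, 7716)]
    ⟨e3 q9344 (flp_g L268511) q11344, e3 q9345 (flp_g L253552) q10541, e3 q9346 (flp_g L253559) q10542, e3 q9347 L184775 q9347, e3 q9348 L184794 q7616, e3 q9349 (flp_g L268623) q11350, e3 q9350 L616080 q11326, e3 q9351 (flp_g L253657) q10547, e3 q9352 (flp_g L184856) q7618, e3 q9353 (flp_g L268701) q11354, e3 q9354 (flp_g L253679) q10550, e3 q9355 (flp_g L253688) q10551, e3 q9356 L184884 q9356, e3 q9357 L184895 q9357, e3 q9358 L184901 q7623, e3 q9359 L184911 q7624, e3 q9360 (flp_g L268758) q11362, e3 q9361 (flp_g L268768) q11363, e3 q9362 L184940 q7626, e3 q9363 (flp_g L268804) q11366, e3 q9364 (flp_g L253797) q10560, e3 q9365 (flp_g L253804) q10561, e3 q9366 L184980 q9366, e3 q9367 L184999 q7630, e3 q9368 (flp_g L268903) q11372, e3 q9369 L185044 q7632, e3 q9370 L185052 q7633, e3 q9371 (flp_g L268946) q11373, e3 q9372 L647039 q10591, e3 q9373 L646547 q10590, e3 q9374 (flp_g L254026) q10570, e3 q9375 (flp_g L254034) q10571, e3 q9376 (flp_g L254043) q10572, e3 q9377 (flp_g L254053) q10573, e3 q9378 (flp_g L254061)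 q10574, e3 q9379 L185116 q9379, e3 q9380 L185127 q9380, e3 q9381 L185136 q9381, e3 q9382 L185145 q7642, e3 q9383 L185155 q7643, e3 q9384 L185163 q7644, e3 q9385 (flp_g L269093) q11382, e3 q9386 (flp_g L269103) q11383, e3 q9387 (flp_g L269107) q11384, e3 q9388 (flp_g L254208) q10589, e3 q9389 L185304 q9389, e3 q9390 L185336 q7657, e3 q9391 L185344 q7658, e3 q9392 L185349 q7659, e3 q9393 (flp_g L269341) q11388, e3 q9394 (flp_g L269347) q11389, e3 q9395 (flp_g L645730) q7735, e3 q9396 (flp_g L647994) q9721, e3 q9397 L185573 q7662, e3 q9398 L185658 q7664, e3 q9399 L185668 q7665, e3 q9400 (flp_g L648156) q9836, e3 q9401 (flp_g L269875) q11390, e3 q9402 L185695 q7706, e3 q9403 L185786 q7670, e3 q9404 L635742 q9825, e3 q9405 (flp_g L642405) q9829, e3 q9406 (flp_g L645335) q9830, e3 q9407 L185815 q7716, trivial⟩ (by decide +kernel)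

theorem ce_g_147 : ∀ r, r < 64 → sm gg (Qf (9408 + r)) = Qf (tab Gen.g (9408 + r)) :=
  edges_tab (sm gg) Qf (tab Gen.g) 9408 [(9408, 7717), (9409, 7674), (9410, 7675), (9411, 11401), (9412, 11400), (9413, 7676), (9414, 11398), (9415, 9415), (9416, 9416), (9417, 7727), (9418, 7728), (9419, 7682), (9420, 7683), (9421, 11407), (9422, 11408), (9423, 11409), (9424, 9737), (9425, 9738), (9426, 9426), (9427, 9427), (9428, 9428), (9429, 7740), (9430, 7741), (9431, 7692), (9432, 7693), (9433, 7694), (9434, 11424), (9435, 11425), (9436, 11426), (9437, 7697), (9438, 9899), (9439, 9914), (9440, 9732), (9441, 9441), (9442, 9442), (9443, 9727), (9444, 9728), (9445, 7704), (9446, 7705), (9447, 10265), (9448, 11435), (9449, 11436), (9450, 9880), (9451, 9887), (9452, 7985), (9453, 9453), (9454, 9726), (9455, 7713), (9456, 7714), (9457, 7715), (9458, 11445), (9459, 11446), (9460, 11447), (9461, 11457), (9462, 11449), (9463, 11450), (9464, 9889), (9465, 11399), (9466, 11462), (9467, 7721), (9468, 7720), (9469, 11465), (9470, 11403), (9471,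 7723)]
    ⟨e3 q9408 L185827 q7717, e3 q9409 L185835 q7674, e3 q9410 L185845 q7675, e3 q9411 L270142 q11401, e3 q9412 (flp_g L270131) q11400, e3 q9413 (flp_g L185873) q7676, e3 q9414 (flp_g L648753) q11398, e3 q9415 L185923 q9415, e3 q9416 L185932 q9416, e3 q9417 L185938 q7727, e3 q9418 L185949 q7728, e3 q9419 L185956 q7682, e3 q9420 L185965 q7683, e3 q9421 (flp_g L270272) q11407, e3 q9422 (flp_g L270281) q11408, e3 q9423 (flp_g L270287) q11409, e3 q9424 L630602 q9737, e3 q9425 (flp_g L630634) q9738, e3 q9426 L186024 q9426, e3 q9427 L186030 q9427, e3 q9428 L186040 q9428, e3 q9429 L186044 q7740, e3 q9430 L186055 q7741, e3 q9431 L186062 q7692, e3 q9432 L186071 q7693, e3 q9433 L186076 q7694, e3 q9434 (flp_g L270429) q11424, e3 q9435 (flp_g L270438) q11425, e3 q9436 (flp_g L270445) q11426, e3 q9437 L186369 q7697, e3 q9438 (flp_g L642657) q9899, e3 q9439 (flp_g L633490) q9914, e3 q9440 L642964 q9732, e3 q9441 L186508 q9441, e3 q9442 L186519 q9442, e3 q9443 L627562 q9727, e3 q9444 (flp_g L627652) q9728, e3 q9445 L186543 q7704,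 e3 q9446 L186553 q7705, e3 q9447 (flp_g L642503) q10265, e3 q9448 (flp_g L271148) q11435, e3 q9449 (flp_g L271155) q11436, e3 q9450 (flp_g L642618) q9880, e3 q9451 (flp_g L642588) q9887, e3 q9452 L633571 q7985, e3 q9453 L186671 q9453, e3 q9454 (flp_g L630711) q9726, e3 q9455 L186690 q7713, e3 q9456 L186697 q7714, e3 q9457 L186706 q7715, e3 q9458 (flp_g L271369) q11445, e3 q9459 (flp_g L271376) q11446, e3 q9460 (flp_g L271384) q11447, e3 q9461 L271441 q11457, e3 q9462 (flp_g L271398) q11449, e3 q9463 (flp_g L271403) q11450, e3 q9464 L645192 q9889, e3 q9465 (flp_g L270116) q11399, e3 q9466 L271486 q11462, e3 q9467 L186771 q7721, e3 q9468 (flp_g L186783) q7720, e3 q9469 (flp_g L271523) q11465, e3 q9470 (flp_g L270174) q11403, e3 q9471 L186818 q7723, trivial⟩ (by decide +kernel)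

theorem ce_g_148 : ∀ r, r < 64 → sm gg (Qf (9472 + r)) = Qf (tab Gen.g (9472 + r)) :=
  edges_tab (sm gg) Qf (tab Gen.g) 9472 [(9472, 9739), (9473, 9740), (9474, 9474), (9475, 9475), (9476, 9476), (9477, 9882), (9478, 11406), (9479, 7731), (9480, 7732), (9481, 7733), (9482, 11475), (9483, 11476), (9484, 11477), (9485, 7736), (9486, 11339), (9487, 11308), (9488, 9488), (9489, 9489), (9490, 9490), (9491, 9491), (9492, 9492), (9493, 11421), (9494, 11422), (9495, 11423), (9496, 7745), (9497, 7746), (9498, 7747), (9499, 11493), (9500, 11494), (9501, 11495), (9502, 9502), (9503, 9503), (9504, 9504), (9505, 9505), (9506, 7752), (9507, 7753), (9508, 11503), (9509, 11504), (9510, 11505), (9511, 7833), (9512, 9746), (9513, 9513), (9514, 9514), (9515, 9515), (9516, 9516), (9517, 9517), (9518, 7762), (9519, 7763), (9520, 7764), (9521, 11519), (9522, 11520), (9523, 11521), (9524, 9743), (9525, 9744), (9526, 9526), (9527, 9527), (9528, 9528), (9529, 9529), (9530, 9530), (9531, 9531), (9532, 7773), (9533, 7774), (9534, 7775), (9535, 11545)]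
    ⟨e3 q9472 L648089 q9739, e3 q9473 L648032 q9740, e3 q9474 L186869 q9474, e3 q9475 L186875 q9475, e3 q9476 L186887 q9476, e3 q9477 (flp_g L635709) q9882, e3 q9478 (flp_g L270266) q11406, e3 q9479 L186903 q7731, e3 q9480 L186912 q7732, e3 q9481 L186918 q7733, e3 q9482 (flp_g L271681) q11475, e3 q9483 (flp_g L271690) q11476, e3 q9484 (flp_g L271696) q11477, e3 q9485 L186954 q7736, e3 q9486 L645437 q11339, e3 q9487 (flp_g L630567) q11308, e3 q9488 L186989 q9488, e3 q9489 L186996 q9489, e3 q9490 L187006 q9490, e3 q9491 L187014 q9491, e3 q9492 L187020 q9492, e3 q9493 (flp_g L270402) q11421, e3 q9494 (flp_g L270413) q11422, e3 q9495 (flp_g L270420) q11423, e3 q9496 L187047 q7745, e3 q9497 L187056 q7746, e3 q9498 L187063 q7747, e3 q9499 (flp_g L271869) q11493, e3 q9500 (flp_g L271875) q11494, e3 q9501 (flp_g L271881) q11495, e3 q9502 L187335 q9502, e3 q9503 L187345 q9503, e3 q9504 L187351 q9504, e3 q9505 L187363 q9505, e3 q9506 L187371 q7752, e3 q9507 L187391 q7753, e3 q9508 (flp_g L272359) q11503, e3 q9509 (flp_g L272379) q11504,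 e3 q9510 (flp_g L272402) q11505, e3 q9511 L646136 q7833, e3 q9512 L648025 q9746, e3 q9513 L187580 q9513, e3 q9514 L187588 q9514, e3 q9515 L187600 q9515, e3 q9516 L187605 q9516, e3 q9517 L187617 q9517, e3 q9518 L187622 q7762, e3 q9519 L187633 q7763, e3 q9520 L187640 q7764, e3 q9521 (flp_g L272731) q11519, e3 q9522 (flp_g L272742) q11520, e3 q9523 (flp_g L272750) q11521, e3 q9524 (flp_g L635504) q9743, e3 q9525 (flp_g L647779) q9744, e3 q9526 L187702 q9526, e3 q9527 L187709 q9527, e3 q9528 L187718 q9528, e3 q9529 L187721 q9529, e3 q9530 L187730 q9530, e3 q9531 L187741 q9531, e3 q9532 L187748 q7773, e3 q9533 L187756 q7774, e3 q9534 L187765 q7775, e3 q9535 L272964 q11545, trivial⟩ (by decide +kernel)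

theorem ce_g_149 : ∀ r, r < 64 → sm gg (Qf (9536 + r)) = Qf (tab Gen.g (9536 + r)) :=
  edges_tab (sm gg) Qf (tab Gen.g) 9536 [(9536, 7777), (9537, 7778), (9538, 11539), (9539, 11540), (9540, 11541), (9541, 11553), (9542, 11543), (9543, 11544), (9544, 7776), (9545, 11558), (9546, 11547), (9547, 11560), (9548, 9548), (9549, 7781), (9550, 11563), (9551, 9551), (9552, 7784), (9553, 9553), (9554, 7789), (9555, 7831), (9556, 7811), (9557, 9557), (9558, 9558), (9559, 9559), (9560, 9560), (9561, 9561), (9562, 9562), (9563, 9563), (9564, 9564), (9565, 7798), (9566, 7799), (9567, 7800), (9568, 11572), (9569, 11565), (9570, 11573), (9571, 9571), (9572, 9572), (9573, 7810), (9574, 11510), (9575, 7830), (9576, 9576), (9577, 9577), (9578, 9578), (9579, 9579), (9580, 9580), (9581, 7821), (9582, 7822), (9583, 7823), (9584, 11577), (9585, 11582), (9586, 11583), (9587, 9587), (9588, 7832), (9589, 11509), (9590, 11525), (9591, 11588), (9592, 9592), (9593, 11590), (9594, 10697), (9595, 10678), (9596, 11080), (9597, 11593), (9598, 7855), (9599,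 9599)]
    ⟨e3 q9536 L187780 q7777, e3 q9537 L187785 q7778, e3 q9538 (flp_g L272924) q11539, e3 q9539 (flp_g L272932) q11540, e3 q9540 (flp_g L272942) q11541, e3 q9541 L273027 q11553, e3 q9542 (flp_g L272955) q11543, e3 q9543 (flp_g L272961) q11544, e3 q9544 (flp_g L187834) q7776, e3 q9545 (flp_g L273071) q11558, e3 q9546 (flp_g L272984) q11547, e3 q9547 L273089 q11560, e3 q9548 L187869 q9548, e3 q9549 (flp_g L187881) q7781, e3 q9550 (flp_g L273124) q11563, e3 q9551 L187909 q9551, e3 q9552 L187915 q7784, e3 q9553 L187938 q9553, e3 q9554 L187979 q7789, e3 q9555 L646399 q7831, e3 q9556 (flp_g L647772) q7811, e3 q9557 L188013 q9557, e3 q9558 L188022 q9558, e3 q9559 L188031 q9559, e3 q9560 L188038 q9560, e3 q9561 L188045 q9561, e3 q9562 L188051 q9562, e3 q9563 L188062 q9563, e3 q9564 L188069 q9564, e3 q9565 L188079 q7798, e3 q9566 L188089 q7799, e3 q9567 L188095 q7800, e3 q9568 (flp_g L273372) q11572, e3 q9569 (flp_g L646409) q11565, e3 q9570 (flp_g L273386) q11573, e3 q9571 L188201 q9571, e3 q9572 L188254 q9572, e3 q9573 L188284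 q7810, e3 q9574 (flp_g L646145) q11510, e3 q9575 L646198 q7830, e3 q9576 L188383 q9576, e3 q9577 L188391 q9577, e3 q9578 L188401 q9578, e3 q9579 L188423 q9579, e3 q9580 L188434 q9580, e3 q9581 L188450 q7821, e3 q9582 L188460 q7822, e3 q9583 L188468 q7823, e3 q9584 (flp_g L646208) q11577, e3 q9585 (flp_g L273876) q11582, e3 q9586 (flp_g L273882) q11583, e3 q9587 L188589 q9587, e3 q9588 L188657 q7832, e3 q9589 (flp_g L646152) q11509, e3 q9590 (flp_g L646415) q11525, e3 q9591 (flp_g L274136) q11588, e3 q9592 L189322 q9592, e3 q9593 L281649 q11590, e3 q9594 (flp_g L622172) q10697, e3 q9595 L611693 q10678, e3 q9596 (flp_g L622065) q11080, e3 q9597 L284049 q11593, e3 q9598 (flp_g L195401) q7855, e3 q9599 L196732 q9599, trivial⟩ (by decide +kernel)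

theorem ce_g_150 : ∀ r, r < 64 → sm gg (Qf (9600 + r)) = Qf (tab Gen.g (9600 + r)) :=
  edges_tab (sm gg) Qf (tab Gen.g) 9600 [(9600, 9600), (9601, 7857), (9602, 11597), (9603, 7939), (9604, 7860), (9605, 11598), (9606, 7864), (9607, 11600), (9608, 11601), (9609, 7866), (9610, 9610), (9611, 9611), (9612, 9612), (9613, 7872), (9614, 7873), (9615, 7964), (9616, 11606), (9617, 11607), (9618, 7876), (9619, 9619), (9620, 11610), (9621, 7879), (9622, 9622), (9623, 10636), (9624, 10640), (9625, 10656), (9626, 11614), (9627, 7888), (9628, 11010), (9629, 7893), (9630, 10988), (9631, 11616), (9632, 7896), (9633, 11618), (9634, 7899), (9635, 10715), (9636, 10721), (9637, 11621), (9638, 11622), (9639, 7902), (9640, 11442), (9641, 9641), (9642, 9642), (9643, 7905), (9644, 11626), (9645, 9645), (9646, 9646), (9647, 9647), (9648, 7911), (9649, 7912), (9650, 11630), (9651, 11631), (9652, 7914), (9653, 9653), (9654, 9654), (9655, 9655), (9656, 7919), (9657, 9657), (9658, 9658), (9659, 9659), (9660, 7925), (9661, 7926), (9662, 11640), (9663,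 11639)]
    ⟨e3 q9600 L196742 q9600, e3 q9601 L196748 q7857, e3 q9602 (flp_g L286086) q11597, e3 q9603 (flp_g L616275) q7939, e3 q9604 (flp_g L197136) q7860, e3 q9605 (flp_g L286640) q11598, e3 q9606 L197325 q7864, e3 q9607 (flp_g L286931) q11600, e3 q9608 (flp_g L286940) q11601, e3 q9609 L197374 q7866, e3 q9610 L197601 q9610, e3 q9611 L197618 q9611, e3 q9612 L197624 q9612, e3 q9613 L197631 q7872, e3 q9614 L197640 q7873, e3 q9615 (flp_g L616173) q7964, e3 q9616 (flp_g L287390) q11606, e3 q9617 (flp_g L287400) q11607, e3 q9618 L197728 q7876, e3 q9619 L197784 q9619, e3 q9620 L287629 q11610, e3 q9621 (flp_g L197818) q7879, e3 q9622 L197849 q9622, e3 q9623 L621561 q10636, e3 q9624 L621551 q10640, e3 q9625 L621684 q10656, e3 q9626 L289313 q11614, e3 q9627 (flp_g L199011) q7888, e3 q9628 (flp_g L622180) q11010, e3 q9629 L199590 q7893, e3 q9630 (flp_g L622164) q10988, e3 q9631 (flp_g L290183) q11616, e3 q9632 L200103 q7896, e3 q9633 (flp_g L290948) q11618, e3 q9634 L200423 q7899, e3 q9635 L617543 q10715, e3 q9636 (flp_g L622059)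 q10721, e3 q9637 L291576 q11621, e3 q9638 L291616 q11622, e3 q9639 (flp_g L200571) q7902, e3 q9640 (flp_g L642546) q11442, e3 q9641 L201038 q9641, e3 q9642 L201049 q9642, e3 q9643 L201056 q7905, e3 q9644 (flp_g L292291) q11626, e3 q9645 L201344 q9645, e3 q9646 L201363 q9646, e3 q9647 L201368 q9647, e3 q9648 L201373 q7911, e3 q9649 L201381 q7912, e3 q9650 (flp_g L292743) q11630, e3 q9651 (flp_g L292759) q11631, e3 q9652 L201452 q7914, e3 q9653 L202070 q9653, e3 q9654 L202089 q9654, e3 q9655 L202096 q9655, e3 q9656 L202114 q7919, e3 q9657 L202369 q9657, e3 q9658 L202400 q9658, e3 q9659 L202413 q9659, e3 q9660 L202419 q7925, e3 q9661 L202428 q7926, e3 q9662 L294211 q11640, e3 q9663 (flp_g L294202) q11639, trivial⟩ (by decide +kernel)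

theorem ce_g_151 : ∀ r, r < 64 → sm gg (Qf (9664 + r)) = Qf (tab Gen.g (9664 + r)) :=
  edges_tab (sm gg) Qf (tab Gen.g) 9664 [(9664, 11642), (9665, 7928), (9666, 11644), (9667, 7930), (9668, 9668), (9669, 9669), (9670, 9670), (9671, 9671), (9672, 7936), (9673, 10530), (9674, 9674), (9675, 10309), (9676, 9676), (9677, 9677), (9678, 9678), (9679, 9679), (9680, 7944), (9681, 7945), (9682, 10323), (9683, 11655), (9684, 7951), (9685, 11657), (9686, 9686), (9687, 9687), (9688, 7955), (9689, 9689), (9690, 10330), (9691, 9691), (9692, 9692), (9693, 10397), (9694, 9694), (9695, 9695), (9696, 11608), (9697, 9778), (9698, 7996), (9699, 11668), (9700, 11669), (9701, 7971), (9702, 7977), (9703, 7978), (9704, 10616), (9705, 11673), (9706, 11671), (9707, 11674), (9708, 7981), (9709, 11675), (9710, 7983), (9711, 11444), (9712, 7986), (9713, 11677), (9714, 7993), (9715, 7994), (9716, 9772), (9717, 7997), (9718, 9718), (9719, 9719), (9720, 9720), (9721, 9396), (9722, 8747), (9723, 8014), (9724, 8031), (9725, 8032), (9726, 9454), (9727, 9443)]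
    ⟨e3 q9664 L294301 q11642, e3 q9665 (flp_g L202520) q7928, e3 q9666 L294349 q11644, e3 q9667 (flp_g L202563) q7930, e3 q9668 L202589 q9668, e3 q9669 L202843 q9669, e3 q9670 L202863 q9670, e3 q9671 L202868 q9671, e3 q9672 L202883 q7936, e3 q9673 L614559 q10530, e3 q9674 L203107 q9674, e3 q9675 L616315 q10309, e3 q9676 L203129 q9676, e3 q9677 L203137 q9677, e3 q9678 L203143 q9678, e3 q9679 L203151 q9679, e3 q9680 L203158 q7944, e3 q9681 L203174 q7945, e3 q9682 L616308 q10323, e3 q9683 (flp_g L295222) q11655, e3 q9684 L203489 q7951, e3 q9685 (flp_g L295634) q11657, e3 q9686 L203529 q9686, e3 q9687 L203536 q9687, e3 q9688 L203546 q7955, e3 q9689 L203572 q9689, e3 q9690 (flp_g L614474) q10330, e3 q9691 L203597 q9691, e3 q9692 L203603 q9692, e3 q9693 (flp_g L616177) q10397, e3 q9694 L203623 q9694, e3 q9695 L203631 q9695, e3 q9696 (flp_g L614500) q11608, e3 q9697 L644990 q9778, e3 q9698 L631150 q7996, e3 q9699 (flp_g L644860) q11668, e3 q9700 L296907 q11669, e3 q9701 (flp_g L204386) q7971, e3 q9702 L205293 q7977, e3 q9703 L205303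 q7978, e3 q9704 (flp_g L620713) q10616, e3 q9705 L298285 q11673, e3 q9706 (flp_g L298226) q11671, e3 q9707 L298398 q11674, e3 q9708 (flp_g L205452) q7981, e3 q9709 L298512 q11675, e3 q9710 (flp_g L205495) q7983, e3 q9711 (flp_g L642530) q11444, e3 q9712 (flp_g L206045) q7986, e3 q9713 (flp_g L299218) q11677, e3 q9714 L206790 q7993, e3 q9715 L206801 q7994, e3 q9716 L644895 q9772, e3 q9717 (flp_g L207792) q7997, e3 q9718 L241464 q9718, e3 q9719 L241509 q9719, e3 q9720 L241521 q9720, e3 q9721 L647994 q9396, e3 q9722 (flp_g L633395) q8747, e3 q9723 L241631 q8014, e3 q9724 L241681 q8031, e3 q9725 L241693 q8032, e3 q9726 L630711 q9454, e3 q9727 (flp_g L627562) q9443, trivial⟩ (by decide +kernel)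

theorem ce_g_152 : ∀ r, r < 64 → sm gg (Qf (9728 + r)) = Qf (tab Gen.g (9728 + r)) :=
  edges_tab (sm gg) Qf (tab Gen.g) 9728 [(9728, 9444), (9729, 8040), (9730, 8041), (9731, 8806), (9732, 9440), (9733, 8023), (9734, 8026), (9735, 8812), (9736, 8793), (9737, 9424), (9738, 9425), (9739, 9472), (9740, 9473), (9741, 11680), (9742, 11681), (9743, 9524), (9744, 9525), (9745, 8035), (9746, 9512), (9747, 8038), (9748, 8039), (9749, 11696), (9750, 11697), (9751, 11701), (9752, 11685), (9753, 11686), (9754, 8043), (9755, 8044), (9756, 11704), (9757, 11705), (9758, 9758), (9759, 9759), (9760, 9760), (9761, 9761), (9762, 9762), (9763, 8051), (9764, 8052), (9765, 11713), (9766, 11714), (9767, 11715), (9768, 8064), (9769, 8712), (9770, 8066), (9771, 8710), (9772, 9716), (9773, 11720), (9774, 8065), (9775, 8718), (9776, 8068), (9777, 8719), (9778, 9697), (9779, 11722), (9780, 8074), (9781, 8075), (9782, 8711), (9783, 11724), (9784, 8080), (9785, 8081), (9786, 11727), (9787, 8727), (9788, 8083), (9789, 8728), (9790, 8729), (9791, 8086)]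
    ⟨e3 q9728 L627652 q9444, e3 q9729 L241804 q8040, e3 q9730 L241815 q8041, e3 q9731 L645212 q8806, e3 q9732 (flp_g L642964) q9440, e3 q9733 L241873 q8023, e3 q9734 L241915 q8026, e3 q9735 (flp_g L642958) q8812, e3 q9736 L642942 q8793, e3 q9737 (flp_g L630602) q9424, e3 q9738 L630634 q9425, e3 q9739 (flp_g L648089) q9472, e3 q9740 (flp_g L648032) q9473, e3 q9741 (flp_g L351074) q11680, e3 q9742 (flp_g L351086) q11681, e3 q9743 L635504 q9524, e3 q9744 L647779 q9525, e3 q9745 L242133 q8035, e3 q9746 (flp_g L648025) q9512, e3 q9747 L242202 q8038, e3 q9748 L242212 q8039, e3 q9749 (flp_g L351856) q11696, e3 q9750 (flp_g L351866) q11697, e3 q9751 L351895 q11701, e3 q9752 (flp_g L351264) q11685, e3 q9753 (flp_g L351271) q11686, e3 q9754 L242285 q8043, e3 q9755 L242296 q8044, e3 q9756 (flp_g L351976) q11704, e3 q9757 (flp_g L351987) q11705, e3 q9758 L242322 q9758, e3 q9759 L242347 q9759, e3 q9760 L242355 q9760, e3 q9761 L242360 q9761, e3 q9762 L242372 q9762, e3 q9763 L242381 q8051, e3 q9764 L242392 q8052, e3 q9765 (flp_g L352089)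 q11713, e3 q9766 (flp_g L352100) q11714, e3 q9767 (flp_g L352107) q11715, e3 q9768 L242448 q8064, e3 q9769 L641563 q8712, e3 q9770 L242470 q8066, e3 q9771 (flp_g L644939) q8710, e3 q9772 (flp_g L644895) q9716, e3 q9773 L352652 q11720, e3 q9774 (flp_g L242746) q8065, e3 q9775 (flp_g L644742) q8718, e3 q9776 (flp_g L242786) q8068, e3 q9777 (flp_g L644352) q8719, e3 q9778 (flp_g L644990) q9697, e3 q9779 L352888 q11722, e3 q9780 (flp_g L242917) q8074, e3 q9781 (flp_g L242947) q8075, e3 q9782 L644980 q8711, e3 q9783 L353204 q11724, e3 q9784 (flp_g L243135) q8080, e3 q9785 (flp_g L243167) q8081, e3 q9786 (flp_g L353297) q11727, e3 q9787 L634437 q8727, e3 q9788 L243199 q8083, e3 q9789 L243220 q8728, e3 q9790 L631762 q8729, e3 q9791 L243238 q8086, trivial⟩ (by decide +kernel)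

theorem ce_g_153 : ∀ r, r < 64 → sm gg (Qf (9792 + r)) = Qf (tab Gen.g (9792 + r)) :=
  edges_tab (sm gg) Qf (tab Gen.g) 9792 [(9792, 11731), (9793, 8742), (9794, 8090), (9795, 11734), (9796, 8092), (9797, 8724), (9798, 8733), (9799, 8726), (9800, 8095), (9801, 8802), (9802, 11730), (9803, 8741), (9804, 11740), (9805, 8103), (9806, 11743), (9807, 9807), (9808, 9808), (9809, 8105), (9810, 11749), (9811, 8146), (9812, 8107), (9813, 11753), (9814, 8721), (9815, 8150), (9816, 8111), (9817, 8786), (9818, 11755), (9819, 8154), (9820, 8114), (9821, 11759), (9822, 9822), (9823, 11764), (9824, 8116), (9825, 9404), (9826, 9826), (9827, 9827), (9828, 8118), (9829, 9405), (9830, 9406), (9831, 11771), (9832, 8122), (9833, 11775), (9834, 8171), (9835, 8124), (9836, 9400), (9837, 11778), (9838, 9838), (9839, 9839), (9840, 8779), (9841, 8178), (9842, 8128), (9843, 8753), (9844, 11784), (9845, 8131), (9846, 8136), (9847, 8757), (9848, 8191), (9849, 11787), (9850, 8139), (9851, 11791), (9852, 11742), (9853, 8141), (9854, 11795), (9855, 11796)]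
    ⟨e3 q9792 (flp_g L353367) q11731, e3 q9793 (flp_g L644571) q8742, e3 q9794 (flp_g L243331) q8090, e3 q9795 L353585 q11734, e3 q9796 (flp_g L243380) q8092, e3 q9797 (flp_g L644931) q8724, e3 q9798 L243444 q8733, e3 q9799 (flp_g L644309) q8726, e3 q9800 L243460 q8095, e3 q9801 L645171 q8802, e3 q9802 (flp_g L631821) q11730, e3 q9803 L243508 q8741, e3 q9804 L353985 q11740, e3 q9805 (flp_g L243658) q8103, e3 q9806 (flp_g L354026) q11743, e3 q9807 L243682 q9807, e3 q9808 L243695 q9808, e3 q9809 (flp_g L243700) q8105, e3 q9810 (flp_g L354096) q11749, e3 q9811 L243727 q8146, e3 q9812 L243734 q8107, e3 q9813 (flp_g L354135) q11753, e3 q9814 (flp_g L640385) q8721, e3 q9815 L243767 q8150, e3 q9816 L243776 q8111, e3 q9817 (flp_g L644138) q8786, e3 q9818 (flp_g L354183) q11755, e3 q9819 L243805 q8154, e3 q9820 L243817 q8114, e3 q9821 L354231 q11759, e3 q9822 L243840 q9822, e3 q9823 L354282 q11764, e3 q9824 (flp_g L243853) q8116, e3 q9825 (flp_g L635742) q9404, e3 q9826 L243875 q9826, e3 q9827 L243887 q9827, e3 q9828 (flp_g L243890)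 q8118, e3 q9829 L642405 q9405, e3 q9830 L645335 q9406, e3 q9831 L354423 q11771, e3 q9832 (flp_g L243944) q8122, e3 q9833 (flp_g L354466) q11775, e3 q9834 L243972 q8171, e3 q9835 L243981 q8124, e3 q9836 L648156 q9400, e3 q9837 (flp_g L354514) q11778, e3 q9838 L244006 q9838, e3 q9839 L244018 q9839, e3 q9840 L244026 q8779, e3 q9841 L244034 q8178, e3 q9842 L244042 q8128, e3 q9843 (flp_g L641342) q8753, e3 q9844 (flp_g L354599) q11784, e3 q9845 L244076 q8131, e3 q9846 L244119 q8136, e3 q9847 L644173 q8757, e3 q9848 L244145 q8191, e3 q9849 L354932 q11787, e3 q9850 (flp_g L244277) q8139, e3 q9851 (flp_g L354978) q11791, e3 q9852 (flp_g L354017) q11742, e3 q9853 L244316 q8141, e3 q9854 (flp_g L355014) q11795, e3 q9855 (flp_g L355026) q11796, trivial⟩ (by decide +kernel)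

theorem ce_g_154 : ∀ r, r < 64 → sm gg (Qf (9856 + r)) = Qf (tab Gen.g (9856 + r)) :=
  edges_tab (sm gg) Qf (tab Gen.g) 9856 [(9856, 8199), (9857, 8801), (9858, 11748), (9859, 8145), (9860, 11803), (9861, 11804), (9862, 11752), (9863, 8148), (9864, 11808), (9865, 8809), (9866, 11754), (9867, 8152), (9868, 8153), (9869, 11814), (9870, 11815), (9871, 11757), (9872, 11820), (9873, 8156), (9874, 11823), (9875, 8218), (9876, 8219), (9877, 11828), (9878, 8158), (9879, 11831), (9880, 9450), (9881, 8160), (9882, 9477), (9883, 11834), (9884, 8227), (9885, 8228), (9886, 8825), (9887, 9451), (9888, 8164), (9889, 9464), (9890, 11842), (9891, 8167), (9892, 8168), (9893, 11846), (9894, 8834), (9895, 11774), (9896, 8170), (9897, 11852), (9898, 11853), (9899, 9438), (9900, 8173), (9901, 8174), (9902, 11858), (9903, 11859), (9904, 11863), (9905, 8249), (9906, 8250), (9907, 11866), (9908, 8847), (9909, 8804), (9910, 8180), (9911, 8181), (9912, 11871), (9913, 11872), (9914, 9439), (9915, 8184), (9916, 11810), (9917, 8856), (9918, 8857), (9919,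 8811)]
    ⟨e3 q9856 L244353 q8199, e3 q9857 L244363 q8801, e3 q9858 (flp_g L354088) q11748, e3 q9859 L244379 q8145, e3 q9860 (flp_g L355106) q11803, e3 q9861 (flp_g L355115) q11804, e3 q9862 (flp_g L354124) q11752, e3 q9863 L244414 q8148, e3 q9864 L355144 q11808, e3 q9865 L244438 q8809, e3 q9866 (flp_g L354166) q11754, e3 q9867 L244452 q8152, e3 q9868 L244462 q8153, e3 q9869 (flp_g L355207) q11814, e3 q9870 (flp_g L355217) q11815, e3 q9871 (flp_g L354214) q11757, e3 q9872 L355253 q11820, e3 q9873 (flp_g L244503) q8156, e3 q9874 (flp_g L355292) q11823, e3 q9875 L244528 q8218, e3 q9876 L244540 q8219, e3 q9877 L355341 q11828, e3 q9878 (flp_g L244549) q8158, e3 q9879 (flp_g L355381) q11831, e3 q9880 L642618 q9450, e3 q9881 L244584 q8160, e3 q9882 L635709 q9477, e3 q9883 (flp_g L355426) q11834, e3 q9884 L244605 q8227, e3 q9885 L244616 q8228, e3 q9886 L244625 q8825, e3 q9887 L642588 q9451, e3 q9888 L244641 q8164, e3 q9889 (flp_g L645192) q9464, e3 q9890 (flp_g L355508) q11842, e3 q9891 L244675 q8167, e3 q9892 (flp_g L244677) q8168,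 e3 q9893 (flp_g L355554) q11846, e3 q9894 L244699 q8834, e3 q9895 (flp_g L354456) q11774, e3 q9896 L244717 q8170, e3 q9897 (flp_g L355607) q11852, e3 q9898 (flp_g L355617) q11853, e3 q9899 L642657 q9438, e3 q9900 L244751 q8173, e3 q9901 L244762 q8174, e3 q9902 (flp_g L355662) q11858, e3 q9903 (flp_g L355673) q11859, e3 q9904 L355695 q11863, e3 q9905 L244792 q8249, e3 q9906 L244798 q8250, e3 q9907 L355721 q11866, e3 q9908 L244817 q8847, e3 q9909 L642635 q8804, e3 q9910 L244831 q8180, e3 q9911 L244839 q8181, e3 q9912 (flp_g L355773) q11871, e3 q9913 (flp_g L355781) q11872, e3 q9914 L633490 q9439, e3 q9915 (flp_g L244861) q8184, e3 q9916 (flp_g L644249) q11810, e3 q9917 L244886 q8856, e3 q9918 L244897 q8857, e3 q9919 (flp_g L644228) q8811, trivial⟩ (by decide +kernel)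

theorem ce_g_155 : ∀ r, r < 64 → sm gg (Qf (9920 + r)) = Qf (tab Gen.g (9920 + r)) :=
  edges_tab (sm gg) Qf (tab Gen.g) 9920 [(9920, 8190), (9921, 9075), (9922, 9085), (9923, 8859), (9924, 8192), (9925, 11882), (9926, 8872), (9927, 9927), (9928, 8194), (9929, 11888), (9930, 11889), (9931, 9931), (9932, 8197), (9933, 8198), (9934, 11895), (9935, 11896), (9936, 11799), (9937, 11899), (9938, 8880), (9939, 9939), (9940, 8203), (9941, 8204), (9942, 11905), (9943, 11906), (9944, 9944), (9945, 8207), (9946, 11910), (9947, 8889), (9948, 8890), (9949, 9949), (9950, 9950), (9951, 8212), (9952, 8213), (9953, 11918), (9954, 11919), (9955, 11920), (9956, 11924), (9957, 8215), (9958, 11928), (9959, 9959), (9960, 8217), (9961, 11932), (9962, 11933), (9963, 11826), (9964, 11827), (9965, 8220), (9966, 11941), (9967, 8906), (9968, 9968), (9969, 8222), (9970, 11947), (9971, 11948), (9972, 9972), (9973, 8225), (9974, 8226), (9975, 11953), (9976, 11954), (9977, 11958), (9978, 11838), (9979, 11839), (9980, 11961), (9981, 8917), (9982, 9982),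 (9983, 8232)]
    ⟨e3 q9920 L244925 q8190, e3 q9921 (flp_g L637678) q9075, e3 q9922 (flp_g L641243) q9085, e3 q9923 (flp_g L641218) q8859, e3 q9924 (flp_g L245157) q8192, e3 q9925 (flp_g L356265) q11882, e3 q9926 L245184 q8872, e3 q9927 L245196 q9927, e3 q9928 L245205 q8194, e3 q9929 (flp_g L356322) q11888, e3 q9930 (flp_g L356332) q11889, e3 q9931 L245233 q9931, e3 q9932 L245240 q8197, e3 q9933 L245250 q8198, e3 q9934 (flp_g L356384) q11895, e3 q9935 (flp_g L356394) q11896, e3 q9936 (flp_g L355069) q11799, e3 q9937 L356451 q11899, e3 q9938 L245314 q8880, e3 q9939 L245322 q9939, e3 q9940 L245329 q8203, e3 q9941 L245339 q8204, e3 q9942 (flp_g L356511) q11905, e3 q9943 (flp_g L356521) q11906, e3 q9944 L245365 q9944, e3 q9945 (flp_g L245370) q8207, e3 q9946 (flp_g L356557) q11910, e3 q9947 L245395 q8889, e3 q9948 L245405 q8890, e3 q9949 L245412 q9949, e3 q9950 L245424 q9950, e3 q9951 L245433 q8212, e3 q9952 L245444 q8213, e3 q9953 (flp_g L356630) q11918, e3 q9954 (flp_g L356641) q11919, e3 q9955 (flp_g L356647) q11920, e3 q9956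 L356692 q11924, e3 q9957 (flp_g L245486) q8215, e3 q9958 (flp_g L356739) q11928, e3 q9959 L245515 q9959, e3 q9960 L245523 q8217, e3 q9961 (flp_g L356778) q11932, e3 q9962 (flp_g L356788) q11933, e3 q9963 (flp_g L355316) q11826, e3 q9964 (flp_g L355339) q11827, e3 q9965 (flp_g L245571) q8220, e3 q9966 (flp_g L356887) q11941, e3 q9967 L245594 q8906, e3 q9968 L245604 q9968, e3 q9969 L245613 q8222, e3 q9970 (flp_g L356940) q11947, e3 q9971 (flp_g L356950) q11948, e3 q9972 L245639 q9972, e3 q9973 L245646 q8225, e3 q9974 L245655 q8226, e3 q9975 (flp_g L356998) q11953, e3 q9976 (flp_g L357007) q11954, e3 q9977 L357032 q11958, e3 q9978 (flp_g L355456) q11838, e3 q9979 (flp_g L355462) q11839, e3 q9980 L357056 q11961, e3 q9981 L245710 q8917, e3 q9982 L245719 q9982, e3 q9983 L245727 q8232, trivial⟩ (by decide +kernel)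

theorem ce_g_156 : ∀ r, r < 64 → sm gg (Qf (9984 + r)) = Qf (tab Gen.g (9984 + r)) :=
  edges_tab (sm gg) Qf (tab Gen.g) 9984 [(9984, 8233), (9985, 11966), (9986, 11967), (9987, 9987), (9988, 8924), (9989, 9989), (9990, 8237), (9991, 11974), (9992, 11975), (9993, 11979), (9994, 8930), (9995, 9995), (9996, 8241), (9997, 8242), (9998, 11985), (9999, 11986), (10000, 11987), (10001, 10001), (10002, 10002), (10003, 8246), (10004, 8247), (10005, 11999), (10006, 11997), (10007, 11998), (10008, 8248), (10009, 12003), (10010, 11865), (10011, 8251), (10012, 12005), (10013, 8947), (10014, 8948), (10015, 10015), (10016, 10016), (10017, 8256), (10018, 8257), (10019, 12013), (10020, 12014), (10021, 12015), (10022, 8260), (10023, 11914), (10024, 12019), (10025, 8959), (10026, 8960), (10027, 8961), (10028, 10028), (10029, 10029), (10030, 8267), (10031, 8268), (10032, 8269), (10033, 12030), (10034, 12031), (10035, 12032), (10036, 10036), (10037, 8276), (10038, 10038), (10039, 8274), (10040, 8271), (10041, 12041), (10042, 10042), (10043,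 8354), (10044, 12040), (10045, 10045), (10046, 10046), (10047, 12037)]
    ⟨e3 q9984 L245737 q8233, e3 q9985 (flp_g L357116) q11966, e3 q9986 (flp_g L357126) q11967, e3 q9987 L245762 q9987, e3 q9988 L245772 q8924, e3 q9989 L245782 q9989, e3 q9990 L245789 q8237, e3 q9991 (flp_g L357192) q11974, e3 q9992 (flp_g L357202) q11975, e3 q9993 L357229 q11979, e3 q9994 L245825 q8930, e3 q9995 L245835 q9995, e3 q9996 L245842 q8241, e3 q9997 L245852 q8242, e3 q9998 (flp_g L357286) q11985, e3 q9999 (flp_g L357294) q11986, e3 q10000 (flp_g L357304) q11987, e3 q10001 L245881 q10001, e3 q10002 L245891 q10002, e3 q10003 L245898 q8246, e3 q10004 L245907 q8247, e3 q10005 L357391 q11999, e3 q10006 (flp_g L357382) q11997, e3 q10007 (flp_g L357388) q11998, e3 q10008 (flp_g L245932) q8248, e3 q10009 (flp_g L357429) q12003, e3 q10010 (flp_g L355718) q11865, e3 q10011 (flp_g L245956) q8251, e3 q10012 (flp_g L357452) q12005, e3 q10013 L245978 q8947, e3 q10014 L245987 q8948, e3 q10015 L245993 q10015, e3 q10016 L246003 q10016, e3 q10017 L246008 q8256,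 e3 q10018 L246017 q8257, e3 q10019 (flp_g L357514) q12013, e3 q10020 (flp_g L357523) q12014, e3 q10021 (flp_g L357529) q12015, e3 q10022 L246048 q8260, e3 q10023 (flp_g L635230) q11914, e3 q10024 (flp_g L357572) q12019, e3 q10025 L246074 q8959, e3 q10026 L246082 q8960, e3 q10027 L246092 q8961, e3 q10028 L246097 q10028, e3 q10029 L246108 q10029, e3 q10030 L246115 q8267, e3 q10031 L246125 q8268, e3 q10032 L246130 q8269, e3 q10033 (flp_g L357673) q12030, e3 q10034 (flp_g L357683) q12031, e3 q10035 (flp_g L357690) q12032, e3 q10036 L246164 q10036, e3 q10037 (flp_g L614233) q8276, e3 q10038 L246187 q10038, e3 q10039 (flp_g L614220) q8274, e3 q10040 (flp_g L246200) q8271, e3 q10041 (flp_g L357826) q12041, e3 q10042 L246228 q10042, e3 q10043 L246243 q8354, e3 q10044 (flp_g L614097) q12040, e3 q10045 L246274 q10045, e3 q10046 L246286 q10046, e3 q10047 (flp_g L614129) q12037, trivial⟩ (by decide +kernel)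

theorem ce_g_157 : ∀ r, r < 64 → sm gg (Qf (10048 + r)) = Qf (tab Gen.g (10048 + r)) :=
  edges_tab (sm gg) Qf (tab Gen.g) 10048 [(10048, 8362), (10049, 8278), (10050, 12050), (10051, 8366), (10052, 8282), (10053, 12052), (10054, 12053), (10055, 8370), (10056, 8285), (10057, 12058), (10058, 10058), (10059, 12062), (10060, 8287), (10061, 12065), (10062, 10062), (10063, 10063), (10064, 8289), (10065, 12071), (10066, 8381), (10067, 8291), (10068, 12075), (10069, 12076), (10070, 8294), (10071, 12080), (10072, 8387), (10073, 8296), (10074, 12084), (10075, 12085), (10076, 10076), (10077, 10077), (10078, 8988), (10079, 8394), (10080, 8300), (10081, 12094), (10082, 12095), (10083, 8398), (10084, 8303), (10085, 12099), (10086, 8790), (10087, 8402), (10088, 8307), (10089, 8308), (10090, 9037), (10091, 12104), (10092, 8407), (10093, 12109), (10094, 8311), (10095, 12112), (10096, 10096), (10097, 12114), (10098, 8313), (10099, 12118), (10100, 8415), (10101, 8315), (10102, 12122), (10103, 12123), (10104, 10104), (10105, 9006), (10106,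 8421), (10107, 8319), (10108, 12130), (10109, 12131), (10110, 8425), (10111, 8322)]
    ⟨e3 q10048 L246315 q8362, e3 q10049 L246322 q8278, e3 q10050 (flp_g L357991) q12050, e3 q10051 L246353 q8366, e3 q10052 L246361 q8282, e3 q10053 (flp_g L358024) q12052, e3 q10054 (flp_g L358035) q12053, e3 q10055 L246387 q8370, e3 q10056 L246400 q8285, e3 q10057 L358081 q12058, e3 q10058 L246420 q10058, e3 q10059 L358131 q12062, e3 q10060 (flp_g L246435) q8287, e3 q10061 (flp_g L358172) q12065, e3 q10062 L246459 q10062, e3 q10063 L246471 q10063, e3 q10064 (flp_g L246476) q8289, e3 q10065 (flp_g L358244) q12071, e3 q10066 L246507 q8381, e3 q10067 L246515 q8291, e3 q10068 (flp_g L358285) q12075, e3 q10069 L358289 q12076, e3 q10070 (flp_g L246538) q8294, e3 q10071 (flp_g L358330) q12080, e3 q10072 L246564 q8387, e3 q10073 L246571 q8296, e3 q10074 (flp_g L358362) q12084, e3 q10075 (flp_g L358370) q12085, e3 q10076 L246592 q10076, e3 q10077 L246602 q10077, e3 q10078 L246613 q8988, e3 q10079 L246624 q8394, e3 q10080 L246632 q8300, e3 q10081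 (flp_g L358444) q12094, e3 q10082 (flp_g L358453) q12095, e3 q10083 L246660 q8398, e3 q10084 L246669 q8303, e3 q10085 L358485 q12099, e3 q10086 (flp_g L641312) q8790, e3 q10087 L246695 q8402, e3 q10088 L246702 q8307, e3 q10089 L246710 q8308, e3 q10090 (flp_g L637401) q9037, e3 q10091 (flp_g L358552) q12104, e3 q10092 L246735 q8407, e3 q10093 L358589 q12109, e3 q10094 (flp_g L246750) q8311, e3 q10095 (flp_g L358622) q12112, e3 q10096 L246781 q10096, e3 q10097 L358669 q12114, e3 q10098 (flp_g L246794) q8313, e3 q10099 (flp_g L358714) q12118, e3 q10100 L246822 q8415, e3 q10101 L246831 q8315, e3 q10102 (flp_g L358752) q12122, e3 q10103 (flp_g L358763) q12123, e3 q10104 L246871 q10104, e3 q10105 L246881 q9006, e3 q10106 L246891 q8421, e3 q10107 L246900 q8319, e3 q10108 (flp_g L358850) q12130, e3 q10109 (flp_g L358861) q12131, e3 q10110 L246930 q8425, e3 q10111 L246942 q8322, trivial⟩ (by decide +kernel)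

theorem ce_g_158 : ∀ r, r < 64 → sm gg (Qf (10112 + r)) = Qf (tab Gen.g (10112 + r)) :=
  edges_tab (sm gg) Qf (tab Gen.g) 10112 [(10112, 8323), (10113, 12137), (10114, 9015), (10115, 8430), (10116, 8325), (10117, 12143), (10118, 12144), (10119, 8434), (10120, 8328), (10121, 8329), (10122, 12149), (10123, 12150), (10124, 12154), (10125, 10125), (10126, 10126), (10127, 12157), (10128, 9028), (10129, 8444), (10130, 8335), (10131, 8336), (10132, 12160), (10133, 12161), (10134, 8449), (10135, 8339), (10136, 9038), (10137, 8455), (10138, 8345), (10139, 8991), (10140, 8996), (10141, 12165), (10142, 8462), (10143, 8348), (10144, 12171), (10145, 8465), (10146, 8466), (10147, 8350), (10148, 12175), (10149, 8355), (10150, 8352), (10151, 12179), (10152, 12178), (10153, 8357), (10154, 12181), (10155, 12182), (10156, 8476), (10157, 8477), (10158, 10158), (10159, 8361), (10160, 12189), (10161, 12190), (10162, 12049), (10163, 8364), (10164, 8461), (10165, 10165), (10166, 12051), (10167, 8368), (10168, 8369), (10169, 12199), (10170, 12200),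 (10171, 12056), (10172, 12205), (10173, 8372), (10174, 12208), (10175, 8495)]
    ⟨e3 q10112 (flp_g L246944) q8323, e3 q10113 (flp_g L358915) q12137, e3 q10114 L246963 q9015, e3 q10115 L246971 q8430, e3 q10116 L246979 q8325, e3 q10117 (flp_g L358961) q12143, e3 q10118 (flp_g L358969) q12144, e3 q10119 L247002 q8434, e3 q10120 L247009 q8328, e3 q10121 L247018 q8329, e3 q10122 (flp_g L359014) q12149, e3 q10123 (flp_g L359023) q12150, e3 q10124 L359048 q12154, e3 q10125 L247050 q10125, e3 q10126 L247056 q10126, e3 q10127 L359073 q12157, e3 q10128 L247075 q9028, e3 q10129 L247083 q8444, e3 q10130 L247091 q8335, e3 q10131 L247101 q8336, e3 q10132 (flp_g L359133) q12160, e3 q10133 (flp_g L359143) q12161, e3 q10134 L247128 q8449, e3 q10135 (flp_g L247132) q8339, e3 q10136 L247163 q9038, e3 q10137 L247179 q8455, e3 q10138 L247196 q8345, e3 q10139 (flp_g L637242) q8991, e3 q10140 L641283 q8996, e3 q10141 (flp_g L359262) q12165, e3 q10142 L247240 q8462, e3 q10143 (flp_g L247250) q8348, e3 q10144 (flp_g L359382) q12171, e3 q10145 L247272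 q8465, e3 q10146 L247284 q8466, e3 q10147 (flp_g L247287) q8350, e3 q10148 (flp_g L359448) q12175, e3 q10149 (flp_g L614033) q8355, e3 q10150 L247321 q8352, e3 q10151 (flp_g L359488) q12179, e3 q10152 (flp_g L614019) q12178, e3 q10153 L247374 q8357, e3 q10154 (flp_g L359558) q12181, e3 q10155 (flp_g L359570) q12182, e3 q10156 L247397 q8476, e3 q10157 L247408 q8477, e3 q10158 L247418 q10158, e3 q10159 L247433 q8361, e3 q10160 (flp_g L359645) q12189, e3 q10161 (flp_g L359656) q12190, e3 q10162 (flp_g L357978) q12049, e3 q10163 L247469 q8364, e3 q10164 (flp_g L614373) q8461, e3 q10165 L247490 q10165, e3 q10166 (flp_g L358017) q12051, e3 q10167 L247502 q8368, e3 q10168 L247513 q8369, e3 q10169 (flp_g L359743) q12199, e3 q10170 (flp_g L359754) q12200, e3 q10171 (flp_g L358065) q12056, e3 q10172 L359789 q12205, e3 q10173 (flp_g L247552) q8372, e3 q10174 (flp_g L359824) q12208, e3 q10175 L247583 q8495, trivial⟩ (by decide +kernel)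

theorem ce_g_159 : ∀ r, r < 64 → sm gg (Qf (10176 + r)) = Qf (tab Gen.g (10176 + r)) :=
  edges_tab (sm gg) Qf (tab Gen.g) 10176 [(10176, 12210), (10177, 8374), (10178, 12214), (10179, 12064), (10180, 8376), (10181, 12218), (10182, 12219), (10183, 8502), (10184, 9054), (10185, 12070), (10186, 8380), (10187, 12226), (10188, 12227), (10189, 12074), (10190, 8383), (10191, 8384), (10192, 12233), (10193, 9063), (10194, 12079), (10195, 8386), (10196, 12239), (10197, 12240), (10198, 12083), (10199, 8389), (10200, 8390), (10201, 12246), (10202, 12247), (10203, 12251), (10204, 8522), (10205, 8523), (10206, 12254), (10207, 9074), (10208, 12093), (10209, 8396), (10210, 8397), (10211, 12260), (10212, 12261), (10213, 12098), (10214, 8400), (10215, 12265), (10216, 9083), (10217, 9084), (10218, 12102), (10219, 12103), (10220, 8405), (10221, 8406), (10222, 12273), (10223, 12274), (10224, 12275), (10225, 12280), (10226, 8408), (10227, 12284), (10228, 12111), (10229, 8410), (10230, 12288), (10231, 8412), (10232, 12291), (10233, 9095), (10234,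 12117), (10235, 8414), (10236, 12297), (10237, 12298), (10238, 12121), (10239, 8417)]
    ⟨e3 q10176 L359865 q12210, e3 q10177 (flp_g L247597) q8374, e3 q10178 (flp_g L359913) q12214, e3 q10179 (flp_g L358163) q12064, e3 q10180 L247636 q8376, e3 q10181 (flp_g L359949) q12218, e3 q10182 (flp_g L359960) q12219, e3 q10183 L247670 q8502, e3 q10184 L247682 q9054, e3 q10185 (flp_g L358235) q12070, e3 q10186 L247701 q8380, e3 q10187 (flp_g L360040) q12226, e3 q10188 (flp_g L360050) q12227, e3 q10189 (flp_g L358275) q12074, e3 q10190 L247738 q8383, e3 q10191 (flp_g L247742) q8384, e3 q10192 (flp_g L360102) q12233, e3 q10193 L247764 q9063, e3 q10194 (flp_g L358322) q12079, e3 q10195 L247780 q8386, e3 q10196 (flp_g L360148) q12239, e3 q10197 (flp_g L360156) q12240, e3 q10198 (flp_g L358355) q12083, e3 q10199 L247808 q8389, e3 q10200 L247817 q8390, e3 q10201 (flp_g L360195) q12246, e3 q10202 (flp_g L360204) q12247, e3 q10203 L360222 q12251, e3 q10204 L247841 q8522, e3 q10205 L247845 q8523, e3 q10206 L360242 q12254, e3 q10207 L247869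 q9074, e3 q10208 (flp_g L358436) q12093, e3 q10209 L247883 q8396, e3 q10210 L247892 q8397, e3 q10211 (flp_g L360303) q12260, e3 q10212 (flp_g L360312) q12261, e3 q10213 (flp_g L358479) q12098, e3 q10214 (flp_g L247919) q8400, e3 q10215 (flp_g L360341) q12265, e3 q10216 L247943 q9083, e3 q10217 L247953 q9084, e3 q10218 (flp_g L358525) q12102, e3 q10219 (flp_g L358535) q12103, e3 q10220 L247975 q8405, e3 q10221 L247983 q8406, e3 q10222 (flp_g L360404) q12273, e3 q10223 (flp_g L360412) q12274, e3 q10224 (flp_g L360417) q12275, e3 q10225 L360449 q12280, e3 q10226 (flp_g L248012) q8408, e3 q10227 (flp_g L360486) q12284, e3 q10228 (flp_g L358614) q12111, e3 q10229 L248043 q8410, e3 q10230 (flp_g L360528) q12288, e3 q10231 (flp_g L248083) q8412, e3 q10232 (flp_g L360613) q12291, e3 q10233 L248107 q9095, e3 q10234 (flp_g L358704) q12117, e3 q10235 L248125 q8414, e3 q10236 (flp_g L360667) q12297, e3 q10237 (flp_g L360677) q12298, e3 q10238 (flp_g L358743) q12121, e3 q10239 L248159 q8417, trivial⟩ (by decide +kernel)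

theorem ce_g_160 : ∀ r, r < 64 → sm gg (Qf (10240 + r)) = Qf (tab Gen.g (10240 + r)) :=
  edges_tab (sm gg) Qf (tab Gen.g) 10240 [(10240, 8418), (10241, 12304), (10242, 12305), (10243, 8561), (10244, 12308), (10245, 9103), (10246, 12129), (10247, 8423), (10248, 8424), (10249, 12314), (10250, 12315), (10251, 12134), (10252, 9110), (10253, 12136), (10254, 8428), (10255, 12323), (10256, 12324), (10257, 12328), (10258, 9116), (10259, 12142), (10260, 8432), (10261, 8433), (10262, 12334), (10263, 12335), (10264, 12336), (10265, 9447), (10266, 12148), (10267, 8437), (10268, 8438), (10269, 12348), (10270, 12346), (10271, 12347), (10272, 8439), (10273, 12352), (10274, 8592), (10275, 8442), (10276, 12354), (10277, 9133), (10278, 9134), (10279, 9087), (10280, 12159), (10281, 8447), (10282, 8448), (10283, 12362), (10284, 12363), (10285, 12364), (10286, 8451), (10287, 12268), (10288, 12368), (10289, 9145), (10290, 9146), (10291, 9147), (10292, 9088), (10293, 8458), (10294, 8459), (10295, 8460), (10296, 12377), (10297, 12378), (10298,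 12379), (10299, 12194), (10300, 12169), (10301, 12170), (10302, 8464), (10303, 12386)]
    ⟨e3 q10240 L248171 q8418, e3 q10241 (flp_g L360726) q12304, e3 q10242 (flp_g L360738) q12305, e3 q10243 L248212 q8561, e3 q10244 L360792 q12308, e3 q10245 L248234 q9103, e3 q10246 (flp_g L358841) q12129, e3 q10247 L248250 q8423, e3 q10248 L248261 q8424, e3 q10249 (flp_g L360857) q12314, e3 q10250 (flp_g L360868) q12315, e3 q10251 (flp_g L358892) q12134, e3 q10252 L248296 q9110, e3 q10253 (flp_g L358909) q12136, e3 q10254 L248308 q8428, e3 q10255 (flp_g L360925) q12323, e3 q10256 (flp_g L360933) q12324, e3 q10257 L360953 q12328, e3 q10258 L248338 q9116, e3 q10259 (flp_g L358955) q12142, e3 q10260 L248350 q8432, e3 q10261 L248358 q8433, e3 q10262 (flp_g L361001) q12334, e3 q10263 (flp_g L361007) q12335, e3 q10264 (flp_g L361015) q12336, e3 q10265 L642503 q9447, e3 q10266 (flp_g L359007) q12148, e3 q10267 L248395 q8437, e3 q10268 L248405 q8438, e3 q10269 L361088 q12348, e3 q10270 (flp_g L361078) q12346, e3 q10271 (flp_g L361085) q12347,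 e3 q10272 (flp_g L248424) q8439, e3 q10273 (flp_g L361122) q12352, e3 q10274 L248444 q8592, e3 q10275 (flp_g L248447) q8442, e3 q10276 (flp_g L361143) q12354, e3 q10277 L248472 q9133, e3 q10278 L248483 q9134, e3 q10279 (flp_g L637104) q9087, e3 q10280 (flp_g L359126) q12159, e3 q10281 L248504 q8447, e3 q10282 L248514 q8448, e3 q10283 (flp_g L361211) q12362, e3 q10284 (flp_g L361221) q12363, e3 q10285 (flp_g L361228) q12364, e3 q10286 L248544 q8451, e3 q10287 (flp_g L637055) q12268, e3 q10288 (flp_g L361269) q12368, e3 q10289 L248570 q9145, e3 q10290 L248576 q9146, e3 q10291 L248589 q9147, e3 q10292 (flp_g L644066) q9088, e3 q10293 L248609 q8458, e3 q10294 L248618 q8459, e3 q10295 L248624 q8460, e3 q10296 (flp_g L361366) q12377, e3 q10297 (flp_g L361375) q12378, e3 q10298 (flp_g L361383) q12379, e3 q10299 (flp_g L614367) q12194, e3 q10300 (flp_g L359325) q12169, e3 q10301 (flp_g L359335) q12170, e3 q10302 L248736 q8464, e3 q10303 (flp_g L361573) q12386, trivial⟩ (by decide +kernel)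

theorem ce_g_161 : ∀ r, r < 64 → sm gg (Qf (10304 + r)) = Qf (tab Gen.g (10304 + r)) :=
  edges_tab (sm gg) Qf (tab Gen.g) 10304 [(10304, 12387), (10305, 12174), (10306, 10306), (10307, 8469), (10308, 8471), (10309, 9675), (10310, 12392), (10311, 10311), (10312, 8474), (10313, 8475), (10314, 12397), (10315, 12398), (10316, 12402), (10317, 12186), (10318, 12187), (10319, 10319), (10320, 10320), (10321, 8481), (10322, 10322), (10323, 9682), (10324, 10324), (10325, 10325), (10326, 10326), (10327, 10327), (10328, 8489), (10329, 8490), (10330, 9690), (10331, 12411), (10332, 8492), (10333, 12415), (10334, 10334), (10335, 8494), (10336, 12419), (10337, 9158), (10338, 10338), (10339, 8497), (10340, 12423), (10341, 12424), (10342, 10342), (10343, 8500), (10344, 8501), (10345, 12429), (10346, 12430), (10347, 12222), (10348, 12433), (10349, 9166), (10350, 10350), (10351, 8506), (10352, 10352), (10353, 9170), (10354, 10354), (10355, 8510), (10356, 12441), (10357, 12442), (10358, 12445), (10359, 9176), (10360, 10360), (10361, 8514),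 (10362, 8515), (10363, 12451), (10364, 12452), (10365, 12453), (10366, 10366), (10367, 10367)]
    ⟨e3 q10304 (flp_g L361584) q12387, e3 q10305 (flp_g L359420) q12174, e3 q10306 L248831 q10306, e3 q10307 L248843 q8469, e3 q10308 L248886 q8471, e3 q10309 (flp_g L616315) q9675, e3 q10310 (flp_g L361796) q12392, e3 q10311 L248908 q10311, e3 q10312 L248914 q8474, e3 q10313 L248924 q8475, e3 q10314 (flp_g L361841) q12397, e3 q10315 (flp_g L361851) q12398, e3 q10316 L361880 q12402, e3 q10317 (flp_g L359603) q12186, e3 q10318 (flp_g L359610) q12187, e3 q10319 L248984 q10319, e3 q10320 L248991 q10320, e3 q10321 L249010 q8481, e3 q10322 L249037 q10322, e3 q10323 (flp_g L616308) q9682, e3 q10324 L249063 q10324, e3 q10325 L249072 q10325, e3 q10326 L249077 q10326, e3 q10327 L249090 q10327, e3 q10328 L249099 q8489, e3 q10329 L249111 q8490, e3 q10330 L614474 q9690, e3 q10331 (flp_g L362096) q12411, e3 q10332 (flp_g L249152) q8492, e3 q10333 (flp_g L362192) q12415, e3 q10334 L249179 q10334, e3 q10335 L249185 q8494, e3 q10336 (flp_g L362233)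 q12419, e3 q10337 L249254 q9158, e3 q10338 L249266 q10338, e3 q10339 L249275 q8497, e3 q10340 (flp_g L362385) q12423, e3 q10341 (flp_g L362395) q12424, e3 q10342 L249303 q10342, e3 q10343 L249310 q8500, e3 q10344 L249319 q8501, e3 q10345 (flp_g L362447) q12429, e3 q10346 (flp_g L362456) q12430, e3 q10347 (flp_g L359998) q12222, e3 q10348 L362507 q12433, e3 q10349 L249381 q9166, e3 q10350 L249390 q10350, e3 q10351 L249409 q8506, e3 q10352 L249437 q10352, e3 q10353 L249450 q9170, e3 q10354 L249461 q10354, e3 q10355 L249467 q8510, e3 q10356 (flp_g L362655) q12441, e3 q10357 (flp_g L362664) q12442, e3 q10358 L362690 q12445, e3 q10359 L249500 q9176, e3 q10360 L249508 q10360, e3 q10361 L249513 q8514, e3 q10362 L249521 q8515, e3 q10363 (flp_g L362741) q12451, e3 q10364 (flp_g L362747) q12452, e3 q10365 (flp_g L362755) q12453, e3 q10366 L249546 q10366, e3 q10367 L249554 q10367, trivial⟩ (by decide +kernel)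

theorem ce_g_162 : ∀ r, r < 64 → sm gg (Qf (10368 + r)) = Qf (tab Gen.g (10368 + r)) :=
  edges_tab (sm gg) Qf (tab Gen.g) 10368 [(10368, 8519), (10369, 8520), (10370, 12465), (10371, 12463), (10372, 12464), (10373, 8521), (10374, 12469), (10375, 12253), (10376, 8524), (10377, 12471), (10378, 9190), (10379, 9191), (10380, 10380), (10381, 10381), (10382, 8529), (10383, 8530), (10384, 12479), (10385, 12480), (10386, 8533), (10387, 12482), (10388, 12483), (10389, 9201), (10390, 9202), (10391, 9203), (10392, 10392), (10393, 10393), (10394, 8540), (10395, 8541), (10396, 8542), (10397, 9693), (10398, 12494), (10399, 12495), (10400, 8543), (10401, 12501), (10402, 9214), (10403, 10403), (10404, 8545), (10405, 12507), (10406, 12508), (10407, 10407), (10408, 8548), (10409, 9216), (10410, 10410), (10411, 8550), (10412, 12516), (10413, 12517), (10414, 12520), (10415, 9222), (10416, 10416), (10417, 8554), (10418, 8555), (10419, 12526), (10420, 12527), (10421, 12528), (10422, 10422), (10423, 10423), (10424, 8559), (10425, 8560), (10426,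 12537), (10427, 12538), (10428, 8562), (10429, 12540), (10430, 9231), (10431, 9232)]
    ⟨e3 q10368 L249561 q8519, e3 q10369 L249568 q8520, e3 q10370 L362828 q12465, e3 q10371 (flp_g L362819) q12463, e3 q10372 (flp_g L362823) q12464, e3 q10373 (flp_g L249589) q8521, e3 q10374 (flp_g L362856) q12469, e3 q10375 (flp_g L360239) q12253, e3 q10376 (flp_g L249607) q8524, e3 q10377 (flp_g L362877) q12471, e3 q10378 L249632 q9190, e3 q10379 L249642 q9191, e3 q10380 L249650 q10380, e3 q10381 L249661 q10381, e3 q10382 L249668 q8529, e3 q10383 L249678 q8530, e3 q10384 (flp_g L362945) q12479, e3 q10385 (flp_g L362955) q12480, e3 q10386 L249711 q8533, e3 q10387 (flp_g L362998) q12482, e3 q10388 (flp_g L363008) q12483, e3 q10389 L249738 q9201, e3 q10390 L249745 q9202, e3 q10391 L249756 q9203, e3 q10392 L249761 q10392, e3 q10393 L249771 q10393, e3 q10394 L249776 q8540, e3 q10395 L249785 q8541, e3 q10396 L249790 q8542, e3 q10397 L616177 q9693, e3 q10398 (flp_g L363119) q12494, e3 q10399 (flp_g L363126) q12495, e3 q10400 (flp_g L249830) q8543,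 e3 q10401 (flp_g L363196) q12501, e3 q10402 L249850 q9214, e3 q10403 L249859 q10403, e3 q10404 L249867 q8545, e3 q10405 (flp_g L363245) q12507, e3 q10406 (flp_g L363254) q12508, e3 q10407 L249891 q10407, e3 q10408 L249906 q8548, e3 q10409 L249976 q9216, e3 q10410 L249987 q10410, e3 q10411 L249995 q8550, e3 q10412 (flp_g L363451) q12516, e3 q10413 (flp_g L363462) q12517, e3 q10414 L363492 q12520, e3 q10415 L250032 q9222, e3 q10416 L250042 q10416, e3 q10417 L250049 q8554, e3 q10418 L250059 q8555, e3 q10419 (flp_g L363551) q12526, e3 q10420 (flp_g L363559) q12527, e3 q10421 (flp_g L363569) q12528, e3 q10422 L250090 q10422, e3 q10423 L250101 q10423, e3 q10424 L250109 q8559, e3 q10425 L250119 q8560, e3 q10426 (flp_g L363654) q12537, e3 q10427 (flp_g L363661) q12538, e3 q10428 (flp_g L250174) q8562, e3 q10429 (flp_g L363732) q12540, e3 q10430 L250200 q9231, e3 q10431 L250211 q9232, trivial⟩ (by decide +kernel)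

theorem ce_g_163 : ∀ r, r < 64 → sm gg (Qf (10432 + r)) = Qf (tab Gen.g (10432 + r)) :=
  edges_tab (sm gg) Qf (tab Gen.g) 10432 [(10432, 10432), (10433, 10433), (10434, 8567), (10435, 8568), (10436, 12548), (10437, 12549), (10438, 9239), (10439, 12554), (10440, 9241), (10441, 10441), (10442, 8573), (10443, 8574), (10444, 12560), (10445, 12561), (10446, 12562), (10447, 8575), (10448, 12569), (10449, 9250), (10450, 9251), (10451, 10451), (10452, 10452), (10453, 8580), (10454, 8581), (10455, 8582), (10456, 12578), (10457, 12579), (10458, 12580), (10459, 12590), (10460, 12582), (10461, 12583), (10462, 10462), (10463, 10463), (10464, 12596), (10465, 8588), (10466, 8589), (10467, 8587), (10468, 12600), (10469, 12598), (10470, 10470), (10471, 8591), (10472, 12604), (10473, 8594), (10474, 12605), (10475, 12606), (10476, 9274), (10477, 9275), (10478, 9276), (10479, 10479), (10480, 10480), (10481, 8601), (10482, 8602), (10483, 8603), (10484, 12618), (10485, 12619), (10486, 12620), (10487, 8605), (10488, 8606), (10489, 12624), (10490,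 12625), (10491, 12626), (10492, 9290), (10493, 9291), (10494, 9292), (10495, 9293)]
    ⟨e3 q10432 L250218 q10432, e3 q10433 L250231 q10433, e3 q10434 L250239 q8567, e3 q10435 L250251 q8568, e3 q10436 (flp_g L363811) q12548, e3 q10437 (flp_g L363823) q12549, e3 q10438 L250287 q9239, e3 q10439 L363883 q12554, e3 q10440 L250304 q9241, e3 q10441 L250311 q10441, e3 q10442 L250316 q8573, e3 q10443 L250325 q8574, e3 q10444 (flp_g L363933) q12560, e3 q10445 (flp_g L363941) q12561, e3 q10446 (flp_g L363950) q12562, e3 q10447 (flp_g L250349) q8575, e3 q10448 (flp_g L364003) q12569, e3 q10449 L250368 q9250, e3 q10450 L250376 q9251, e3 q10451 L250380 q10451, e3 q10452 L250389 q10452, e3 q10453 L250394 q8580, e3 q10454 L250400 q8581, e3 q10455 L250408 q8582, e3 q10456 (flp_g L364066) q12578, e3 q10457 (flp_g L364072) q12579, e3 q10458 (flp_g L364081) q12580, e3 q10459 L364144 q12590, e3 q10460 (flp_g L364093) q12582, e3 q10461 (flp_g L364097) q12583, e3 q10462 L250454 q10462, e3 q10463 L250463 q10463, e3 q10464 L364185 q12596, e3 q10465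 L250475 q8588, e3 q10466 L250480 q8589, e3 q10467 (flp_g L250483) q8587, e3 q10468 (flp_g L364216) q12600, e3 q10469 (flp_g L364201) q12598, e3 q10470 L250510 q10470, e3 q10471 L250516 q8591, e3 q10472 (flp_g L364242) q12604, e3 q10473 L250536 q8594, e3 q10474 (flp_g L364265) q12605, e3 q10475 (flp_g L364276) q12606, e3 q10476 L250562 q9274, e3 q10477 L250570 q9275, e3 q10478 L250583 q9276, e3 q10479 L250588 q10479, e3 q10480 L250600 q10480, e3 q10481 L250606 q8601, e3 q10482 L250617 q8602, e3 q10483 L250624 q8603, e3 q10484 (flp_g L364386) q12618, e3 q10485 (flp_g L364397) q12619, e3 q10486 (flp_g L364404) q12620, e3 q10487 L250662 q8605, e3 q10488 L250672 q8606, e3 q10489 (flp_g L364441) q12624, e3 q10490 (flp_g L364450) q12625, e3 q10491 (flp_g L364462) q12626, e3 q10492 L250706 q9290, e3 q10493 L250715 q9291, e3 q10494 L250727 q9292, e3 q10495 L250735 q9293, trivial⟩ (by decide +kernel)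

theorem ce_g_164 : ∀ r, r < 64 → sm gg (Qf (10496 + r)) = Qf (tab Gen.g (10496 + r)) :=
  edges_tab (sm gg) Qf (tab Gen.g) 10496 [(10496, 9294), (10497, 10497), (10498, 10498), (10499, 10499), (10500, 8615), (10501, 8616), (10502, 8617), (10503, 12642), (10504, 12643), (10505, 12644), (10506, 10506), (10507, 8622), (10508, 9305), (10509, 12650), (10510, 9307), (10511, 10511), (10512, 8626), (10513, 8627), (10514, 8629), (10515, 12654), (10516, 9313), (10517, 9314), (10518, 10518), (10519, 8633), (10520, 8635), (10521, 8636), (10522, 9326), (10523, 9325), (10524, 9324), (10525, 9323), (10526, 9327), (10527, 10527), (10528, 8646), (10529, 8647), (10530, 9673), (10531, 12659), (10532, 12660), (10533, 9337), (10534, 12663), (10535, 9339), (10536, 10536), (10537, 8651), (10538, 8652), (10539, 8654), (10540, 12667), (10541, 9345), (10542, 9346), (10543, 10543), (10544, 8658), (10545, 12672), (10546, 12673), (10547, 9351), (10548, 8660), (10549, 12677), (10550, 9354), (10551, 9355), (10552, 10552), (10553, 10553), (10554, 8665),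 (10555, 8666), (10556, 12685), (10557, 12686), (10558, 8668), (10559, 12689)]
    ⟨e3 q10496 L250742 q9294, e3 q10497 L250749 q10497, e3 q10498 L250760 q10498, e3 q10499 L250767 q10499, e3 q10500 L250775 q8615, e3 q10501 L250785 q8616, e3 q10502 L250793 q8617, e3 q10503 (flp_g L364607) q12642, e3 q10504 (flp_g L364614) q12643, e3 q10505 (flp_g L364621) q12644, e3 q10506 L251922 q10506, e3 q10507 (flp_g L252393) q8622, e3 q10508 L252498 q9305, e3 q10509 L367138 q12650, e3 q10510 L252518 q9307, e3 q10511 L252524 q10511, e3 q10512 L252538 q8626, e3 q10513 (flp_g L252564) q8627, e3 q10514 L252776 q8629, e3 q10515 (flp_g L367543) q12654, e3 q10516 L252803 q9313, e3 q10517 L252809 q9314, e3 q10518 L252824 q10518, e3 q10519 L252838 q8633, e3 q10520 L252883 q8635, e3 q10521 L252893 q8636, e3 q10522 (flp_g L615971) q9326, e3 q10523 (flp_g L615567) q9325, e3 q10524 L615911 q9324, e3 q10525 L252927 q9323, e3 q10526 L252959 q9327, e3 q10527 L252981 q10527, e3 q10528 L252997 q8646, e3 q10529 L253004 q8647, e3 q10530 (flp_g L614559) q9673,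 e3 q10531 (flp_g L367849) q12659, e3 q10532 (flp_g L367854) q12660, e3 q10533 L253264 q9337, e3 q10534 L368267 q12663, e3 q10535 L253282 q9339, e3 q10536 L253289 q10536, e3 q10537 L253305 q8651, e3 q10538 (flp_g L253334) q8652, e3 q10539 L253523 q8654, e3 q10540 (flp_g L368635) q12667, e3 q10541 L253552 q9345, e3 q10542 L253559 q9346, e3 q10543 L253579 q10543, e3 q10544 L253596 q8658, e3 q10545 (flp_g L368754) q12672, e3 q10546 L368802 q12673, e3 q10547 L253657 q9351, e3 q10548 (flp_g L253659) q8660, e3 q10549 (flp_g L368837) q12677, e3 q10550 L253679 q9354, e3 q10551 L253688 q9355, e3 q10552 L253693 q10552, e3 q10553 L253702 q10553, e3 q10554 L253707 q8665, e3 q10555 L253724 q8666, e3 q10556 (flp_g L368907) q12685, e3 q10557 (flp_g L368924) q12686, e3 q10558 L253772 q8668, e3 q10559 (flp_g L369009) q12689, trivial⟩ (by decide +kernel)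

theorem ce_g_165 : ∀ r, r < 64 → sm gg (Qf (10560 + r)) = Qf (tab Gen.g (10560 + r)) :=
  edges_tab (sm gg) Qf (tab Gen.g) 10560 [(10560, 9364), (10561, 9365), (10562, 10562), (10563, 8672), (10564, 12694), (10565, 8674), (10566, 8675), (10567, 12695), (10568, 12696), (10569, 12697), (10570, 9374), (10571, 9375), (10572, 9376), (10573, 9377), (10574, 9378), (10575, 10575), (10576, 10576), (10577, 10577), (10578, 8684), (10579, 8685), (10580, 8686), (10581, 12713), (10582, 12714), (10583, 12715), (10584, 8689), (10585, 8690), (10586, 8691), (10587, 12701), (10588, 12628), (10589, 9388), (10590, 9373), (10591, 9372), (10592, 9288), (10593, 9287), (10594, 10594), (10595, 10595), (10596, 10596), (10597, 8703), (10598, 8704), (10599, 8705), (10600, 12727), (10601, 12728), (10602, 12729), (10603, 8713), (10604, 11721), (10605, 8716), (10606, 11747), (10607, 8826), (10608, 8722), (10609, 11736), (10610, 11725), (10611, 11726), (10612, 11733), (10613, 11735), (10614, 12733), (10615, 11738), (10616, 9704), (10617, 8736), (10618,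 8737), (10619, 12737), (10620, 8740), (10621, 11729), (10622, 8808), (10623, 11732)]
    ⟨e3 q10560 L253797 q9364, e3 q10561 L253804 q9365, e3 q10562 L253818 q10562, e3 q10563 L253843 q8672, e3 q10564 (flp_g L369147) q12694, e3 q10565 L253984 q8674, e3 q10566 L253994 q8675, e3 q10567 (flp_g L369311) q12695, e3 q10568 (flp_g L369319) q12696, e3 q10569 (flp_g L369331) q12697, e3 q10570 L254026 q9374, e3 q10571 L254034 q9375, e3 q10572 L254043 q9376, e3 q10573 L254053 q9377, e3 q10574 L254061 q9378, e3 q10575 L254066 q10575, e3 q10576 L254076 q10576, e3 q10577 L254084 q10577, e3 q10578 L254092 q8684, e3 q10579 L254101 q8685, e3 q10580 L254108 q8686, e3 q10581 (flp_g L369468) q12713, e3 q10582 (flp_g L369477) q12714, e3 q10583 (flp_g L369481) q12715, e3 q10584 L254139 q8689, e3 q10585 L254147 q8690, e3 q10586 L254158 q8691, e3 q10587 (flp_g L646864) q12701, e3 q10588 (flp_g L646509) q12628, e3 q10589 L254208 q9388, e3 q10590 (flp_g L646547) q9373, e3 q10591 (flp_g L647039) q9372, e3 q10592 L646986 q9288, e3 q10593 L628658 q9287,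 e3 q10594 L254266 q10594, e3 q10595 L254276 q10595, e3 q10596 L254285 q10596, e3 q10597 L254295 q8703, e3 q10598 L254302 q8704, e3 q10599 L254307 q8705, e3 q10600 (flp_g L369734) q12727, e3 q10601 (flp_g L369740) q12728, e3 q10602 (flp_g L369746) q12729, e3 q10603 (flp_g L620584) q8713, e3 q10604 (flp_g L636145) q11721, e3 q10605 L255604 q8716, e3 q10606 (flp_g L640367) q11747, e3 q10607 L621464 q8826, e3 q10608 (flp_g L256162) q8722, e3 q10609 (flp_g L641407) q11736, e3 q10610 (flp_g L353279) q11725, e3 q10611 (flp_g L644279) q11726, e3 q10612 (flp_g L353531) q11733, e3 q10613 (flp_g L353607) q11735, e3 q10614 L373225 q12733, e3 q10615 (flp_g L353708) q11738, e3 q10616 L620713 q9704, e3 q10617 L256651 q8736, e3 q10618 L256662 q8737, e3 q10619 (flp_g L373287) q12737, e3 q10620 (flp_g L256684) q8740, e3 q10621 (flp_g L635049) q11729, e3 q10622 (flp_g L635077) q8808, e3 q10623 (flp_g L636242) q11732, trivial⟩ (by decide +kernel)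

theorem ce_g_166 : ∀ r, r < 64 → sm gg (Qf (10624 + r)) = Qf (tab Gen.g (10624 + r)) :=
  edges_tab (sm gg) Qf (tab Gen.g) 10624 [(10624, 8745), (10625, 8746), (10626, 12739), (10627, 11812), (10628, 8761), (10629, 8748), (10630, 11785), (10631, 8750), (10632, 12743), (10633, 11786), (10634, 8756), (10635, 8980), (10636, 9623), (10637, 10637), (10638, 12740), (10639, 8763), (10640, 9624), (10641, 12748), (10642, 10642), (10643, 11769), (10644, 8767), (10645, 12752), (10646, 12753), (10647, 8830), (10648, 8770), (10649, 9023), (10650, 11773), (10651, 8773), (10652, 12759), (10653, 12760), (10654, 8776), (10655, 9014), (10656, 9625), (10657, 12766), (10658, 10658), (10659, 11750), (10660, 8848), (10661, 8782), (10662, 8783), (10663, 12770), (10664, 12771), (10665, 8853), (10666, 11756), (10667, 8858), (10668, 8791), (10669, 12092), (10670, 12101), (10671, 8795), (10672, 12777), (10673, 11789), (10674, 8817), (10675, 8797), (10676, 12782), (10677, 12783), (10678, 9595), (10679, 8800), (10680, 12735), (10681, 11801), (10682,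 8805), (10683, 11851), (10684, 11870), (10685, 11687), (10686, 11811), (10687, 11813)]
    ⟨e3 q10624 L256734 q8745, e3 q10625 L256745 q8746, e3 q10626 (flp_g L373376) q12739, e3 q10627 (flp_g L648985) q11812, e3 q10628 L621593 q8761, e3 q10629 (flp_g L257141) q8748, e3 q10630 (flp_g L640407) q11785, e3 q10631 L257181 q8750, e3 q10632 (flp_g L374076) q12743, e3 q10633 (flp_g L640353) q11786, e3 q10634 L257278 q8756, e3 q10635 L611944 q8980, e3 q10636 (flp_g L621561) q9623, e3 q10637 L257401 q10637, e3 q10638 (flp_g L621541) q12740, e3 q10639 L257448 q8763, e3 q10640 (flp_g L621551) q9624, e3 q10641 (flp_g L374477) q12748, e3 q10642 L257488 q10642, e3 q10643 (flp_g L354365) q11769, e3 q10644 L257513 q8767, e3 q10645 (flp_g L374560) q12752, e3 q10646 (flp_g L374570) q12753, e3 q10647 L257538 q8830, e3 q10648 L257550 q8770, e3 q10649 L621650 q9023, e3 q10650 (flp_g L354446) q11773, e3 q10651 L257593 q8773, e3 q10652 (flp_g L374674) q12759, e3 q10653 (flp_g L374684) q12760, e3 q10654 L257639 q8776, e3 q10655 (flp_g L612013) q9014,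 e3 q10656 (flp_g L621684) q9625, e3 q10657 L374781 q12766, e3 q10658 L257677 q10658, e3 q10659 (flp_g L644152) q11750, e3 q10660 L257710 q8848, e3 q10661 L257718 q8782, e3 q10662 L257727 q8783, e3 q10663 (flp_g L374861) q12770, e3 q10664 (flp_g L374870) q12771, e3 q10665 L257749 q8853, e3 q10666 (flp_g L631992) q11756, e3 q10667 L257787 q8858, e3 q10668 L257817 q8791, e3 q10669 (flp_g L637289) q12092, e3 q10670 L641274 q12101, e3 q10671 (flp_g L258354) q8795, e3 q10672 (flp_g L375817) q12777, e3 q10673 (flp_g L354958) q11789, e3 q10674 (flp_g L617614) q8817, e3 q10675 L258398 q8797, e3 q10676 (flp_g L375869) q12782, e3 q10677 (flp_g L375879) q12783, e3 q10678 (flp_g L611693) q9595, e3 q10679 L258442 q8800, e3 q10680 (flp_g L641004) q12735, e3 q10681 (flp_g L355092) q11801, e3 q10682 L258522 q8805, e3 q10683 (flp_g L642639) q11851, e3 q10684 (flp_g L644241) q11870, e3 q10685 (flp_g L636878) q11687, e3 q10686 (flp_g L355182) q11811, e3 q10687 (flp_g L631889) q11813, trivial⟩ (by decide +kernel)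

theorem ce_g_167 : ∀ r, r < 64 → sm gg (Qf (10688 + r)) = Qf (tab Gen.g (10688 + r)) :=
  edges_tab (sm gg) Qf (tab Gen.g) 10688 [(10688, 9064), (10689, 8813), (10690, 12791), (10691, 8815), (10692, 12794), (10693, 11829), (10694, 8819), (10695, 12796), (10696, 12797), (10697, 9594), (10698, 8822), (10699, 8823), (10700, 12801), (10701, 12802), (10702, 12804), (10703, 11841), (10704, 12730), (10705, 8828), (10706, 8829), (10707, 12810), (10708, 12755), (10709, 11844), (10710, 8833), (10711, 12813), (10712, 12814), (10713, 12817), (10714, 11850), (10715, 9635), (10716, 8837), (10717, 8838), (10718, 12823), (10719, 12824), (10720, 12825), (10721, 9636), (10722, 8842), (10723, 8843), (10724, 12834), (10725, 12833), (10726, 8844), (10727, 12837), (10728, 8846), (10729, 12838), (10730, 11868), (10731, 11869), (10732, 12769), (10733, 11875), (10734, 8851), (10735, 8852), (10736, 12846), (10737, 12847), (10738, 12848), (10739, 8855), (10740, 11809), (10741, 12851), (10742, 9082), (10743, 8888), (10744, 11877), (10745, 12100), (10746,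 11818), (10747, 8862), (10748, 8863), (10749, 8864), (10750, 12858), (10751, 12859)]
    ⟨e3 q10688 (flp_g L622144) q9064, e3 q10689 (flp_g L258634) q8813, e3 q10690 (flp_g L376215) q12791, e3 q10691 L258672 q8815, e3 q10692 (flp_g L376264) q12794, e3 q10693 (flp_g L355363) q11829, e3 q10694 L258761 q8819, e3 q10695 (flp_g L376411) q12796, e3 q10696 (flp_g L376421) q12797, e3 q10697 L622172 q9594, e3 q10698 L258791 q8822, e3 q10699 L258804 q8823, e3 q10700 (flp_g L376467) q12801, e3 q10701 (flp_g L376480) q12802, e3 q10702 L376534 q12804, e3 q10703 (flp_g L355483) q11841, e3 q10704 (flp_g L621484) q12730, e3 q10705 L258879 q8828, e3 q10706 L258889 q8829, e3 q10707 (flp_g L376600) q12810, e3 q10708 (flp_g L374596) q12755, e3 q10709 (flp_g L355540) q11844, e3 q10710 L258934 q8833, e3 q10711 (flp_g L376653) q12813, e3 q10712 (flp_g L376663) q12814, e3 q10713 L376683 q12817, e3 q10714 (flp_g L355591) q11850, e3 q10715 (flp_g L617543) q9635, e3 q10716 L258982 q8837, e3 q10717 L258992 q8838, e3 q10718 (flp_g L376737) q12823, e3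 q10719 (flp_g L376745) q12824, e3 q10720 (flp_g L376755) q12825, e3 q10721 L622059 q9636, e3 q10722 L259036 q8842, e3 q10723 L259049 q8843, e3 q10724 L376841 q12834, e3 q10725 (flp_g L376828) q12833, e3 q10726 (flp_g L259076) q8844, e3 q10727 (flp_g L376884) q12837, e3 q10728 (flp_g L259103) q8846, e3 q10729 (flp_g L376909) q12838, e3 q10730 (flp_g L355745) q11868, e3 q10731 (flp_g L355755) q11869, e3 q10732 (flp_g L374843) q12769, e3 q10733 (flp_g L641232) q11875, e3 q10734 L259151 q8851, e3 q10735 L259160 q8852, e3 q10736 (flp_g L376965) q12846, e3 q10737 (flp_g L376974) q12847, e3 q10738 (flp_g L376981) q12848, e3 q10739 L259184 q8855, e3 q10740 (flp_g L649036) q11809, e3 q10741 (flp_g L377012) q12851, e3 q10742 (flp_g L641022) q9082, e3 q10743 L635131 q8888, e3 q10744 (flp_g L355853) q11877, e3 q10745 (flp_g L640309) q12100, e3 q10746 (flp_g L641224) q11818, e3 q10747 L259245 q8862, e3 q10748 L259255 q8863, e3 q10749 L259261 q8864, e3 q10750 (flp_g L377102) q12858, e3 q10751 (flp_g L377112) q12859, trivial⟩ (by decide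 +kernel)

theorem ce_g_168 : ∀ r, r < 64 → sm gg (Qf (10752 + r)) = Qf (tab Gen.g (10752 + r)) :=
  edges_tab (sm gg) Qf (tab Gen.g) 10752 [(10752, 12860), (10753, 8867), (10754, 8868), (10755, 12864), (10756, 12865), (10757, 12866), (10758, 11880), (10759, 10759), (10760, 8871), (10761, 12874), (10762, 12875), (10763, 12877), (10764, 11886), (10765, 10765), (10766, 8875), (10767, 8876), (10768, 12883), (10769, 12884), (10770, 10770), (10771, 8879), (10772, 12842), (10773, 11901), (10774, 11902), (10775, 10775), (10776, 10776), (10777, 8884), (10778, 8885), (10779, 12893), (10780, 12894), (10781, 12895), (10782, 12855), (10783, 11913), (10784, 11915), (10785, 10785), (10786, 10786), (10787, 8895), (10788, 8896), (10789, 8897), (10790, 12905), (10791, 12906), (10792, 12907), (10793, 8898), (10794, 12912), (10795, 11926), (10796, 10796), (10797, 8900), (10798, 12917), (10799, 12918), (10800, 10800), (10801, 8903), (10802, 11939), (10803, 10803), (10804, 8905), (10805, 12923), (10806, 12924), (10807, 12927), (10808, 11945),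 (10809, 10809), (10810, 8909), (10811, 8910), (10812, 12933), (10813, 12934), (10814, 12935), (10815, 10815)]
    ⟨e3 q10752 (flp_g L377120) q12860, e3 q10753 L259731 q8867, e3 q10754 L259742 q8868, e3 q10755 (flp_g L377817) q12864, e3 q10756 (flp_g L377828) q12865, e3 q10757 (flp_g L377835) q12866, e3 q10758 (flp_g L356246) q11880, e3 q10759 L260093 q10759, e3 q10760 L260101 q8871, e3 q10761 (flp_g L378391) q12874, e3 q10762 (flp_g L378402) q12875, e3 q10763 L378428 q12877, e3 q10764 (flp_g L356305) q11886, e3 q10765 L260146 q10765, e3 q10766 L260153 q8875, e3 q10767 L260163 q8876, e3 q10768 (flp_g L378485) q12883, e3 q10769 (flp_g L378503) q12884, e3 q10770 L260201 q10770, e3 q10771 (flp_g L260271) q8879, e3 q10772 (flp_g L635162) q12842, e3 q10773 (flp_g L356475) q11901, e3 q10774 (flp_g L356484) q11902, e3 q10775 L260306 q10775, e3 q10776 L260316 q10776, e3 q10777 L260323 q8884, e3 q10778 L260332 q8885, e3 q10779 (flp_g L378707) q12893, e3 q10780 (flp_g L378716) q12894, e3 q10781 (flp_g L378722) q12895, e3 q10782 (flp_g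 L635145) q12855, e3 q10783 (flp_g L356585) q11913, e3 q10784 (flp_g L356604) q11915, e3 q10785 L260402 q10785, e3 q10786 L260413 q10786, e3 q10787 L260420 q8895, e3 q10788 L260430 q8896, e3 q10789 L260435 q8897, e3 q10790 (flp_g L378854) q12905, e3 q10791 (flp_g L378864) q12906, e3 q10792 (flp_g L378871) q12907, e3 q10793 (flp_g L260470) q8898, e3 q10794 (flp_g L378944) q12912, e3 q10795 (flp_g L356718) q11926, e3 q10796 L260505 q10796, e3 q10797 L260515 q8900, e3 q10798 (flp_g L379000) q12917, e3 q10799 (flp_g L379011) q12918, e3 q10800 L260541 q10800, e3 q10801 L260561 q8903, e3 q10802 (flp_g L356870) q11939, e3 q10803 L260656 q10803, e3 q10804 L260664 q8905, e3 q10805 (flp_g L379242) q12923, e3 q10806 (flp_g L379253) q12924, e3 q10807 L379279 q12927, e3 q10808 (flp_g L356923) q11945, e3 q10809 L260705 q10809, e3 q10810 L260712 q8909, e3 q10811 L260722 q8910, e3 q10812 (flp_g L379332) q12933, e3 q10813 (flp_g L379340) q12934, e3 q10814 (flp_g L379350) q12935, e3 q10815 L260749 q10815, trivial⟩ (by decide +kernel)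

theorem ce_g_169 : ∀ r, r < 64 → sm gg (Qf (10816 + r)) = Qf (tab Gen.g (10816 + r)) :=
  edges_tab (sm gg) Qf (tab Gen.g) 10816 [(10816, 10816), (10817, 8914), (10818, 8915), (10819, 12944), (10820, 8916), (10821, 12945), (10822, 11963), (10823, 11964), (10824, 10824), (10825, 10825), (10826, 8921), (10827, 8922), (10828, 12953), (10829, 12954), (10830, 12955), (10831, 11970), (10832, 12960), (10833, 11972), (10834, 10834), (10835, 8927), (10836, 8928), (10837, 12966), (10838, 12967), (10839, 12968), (10840, 8929), (10841, 12975), (10842, 11981), (10843, 11982), (10844, 10844), (10845, 10845), (10846, 8934), (10847, 8935), (10848, 8936), (10849, 12984), (10850, 12985), (10851, 12986), (10852, 12996), (10853, 12988), (10854, 12989), (10855, 10855), (10856, 10856), (10857, 13001), (10858, 8942), (10859, 8941), (10860, 13004), (10861, 10861), (10862, 8944), (10863, 8946), (10864, 13006), (10865, 13007), (10866, 12008), (10867, 12009), (10868, 12010), (10869, 10869), (10870, 10870), (10871, 8953), (10872, 8954), (10873, 8955),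 (10874, 13019), (10875, 13020), (10876, 13021), (10877, 8957), (10878, 8958), (10879, 12723)]
    ⟨e3 q10816 L260761 q10816, e3 q10817 L260769 q8914, e3 q10818 L260780 q8915, e3 q10819 (flp_g L379429) q12944, e3 q10820 (flp_g L260835) q8916, e3 q10821 (flp_g L379507) q12945, e3 q10822 (flp_g L357081) q11963, e3 q10823 (flp_g L357091) q11964, e3 q10824 L260871 q10824, e3 q10825 L260883 q10825, e3 q10826 L260891 q8921, e3 q10827 L260902 q8922, e3 q10828 (flp_g L379574) q12953, e3 q10829 (flp_g L379585) q12954, e3 q10830 (flp_g L379593) q12955, e3 q10831 (flp_g L357158) q11970, e3 q10832 L379638 q12960, e3 q10833 (flp_g L357177) q11972, e3 q10834 L260956 q10834, e3 q10835 L260963 q8927, e3 q10836 L260974 q8928, e3 q10837 (flp_g L379691) q12966, e3 q10838 (flp_g L379700) q12967, e3 q10839 (flp_g L379712) q12968, e3 q10840 (flp_g L260998) q8929, e3 q10841 (flp_g L379767) q12975, e3 q10842 (flp_g L357254) q11981, e3 q10843 (flp_g L357264) q11982, e3 q10844 L261033 q10844, e3 q10845 L261044 q10845, e3 q10846 L261049 q8934, e3 q10847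 L261057 q8935, e3 q10848 L261067 q8936, e3 q10849 (flp_g L379834) q12984, e3 q10850 (flp_g L379842) q12985, e3 q10851 (flp_g L379851) q12986, e3 q10852 L379918 q12996, e3 q10853 (flp_g L379867) q12988, e3 q10854 (flp_g L379873) q12989, e3 q10855 L261115 q10855, e3 q10856 L261127 q10856, e3 q10857 L379969 q13001, e3 q10858 L261144 q8942, e3 q10859 (flp_g L261155) q8941, e3 q10860 (flp_g L380013) q13004, e3 q10861 L261191 q10861, e3 q10862 L261197 q8944, e3 q10863 L261221 q8946, e3 q10864 (flp_g L380071) q13006, e3 q10865 (flp_g L380079) q13007, e3 q10866 (flp_g L357477) q12008, e3 q10867 (flp_g L357484) q12009, e3 q10868 (flp_g L357495) q12010, e3 q10869 L261262 q10869, e3 q10870 L261273 q10870, e3 q10871 L261279 q8953, e3 q10872 L261289 q8954, e3 q10873 L261296 q8955, e3 q10874 (flp_g L380170) q13019, e3 q10875 (flp_g L380180) q13020, e3 q10876 (flp_g L380187) q13021, e3 q10877 L261325 q8957, e3 q10878 L261334 q8958, e3 q10879 L646897 q12723, trivial⟩ (by decide +kernel)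

theorem ce_g_170 : ∀ r, r < 64 → sm gg (Qf (10880 + r)) = Qf (tab Gen.g (10880 + r)) :=
  edges_tab (sm gg) Qf (tab Gen.g) 10880 [(10880, 11911), (10881, 13025), (10882, 12022), (10883, 12023), (10884, 12024), (10885, 12025), (10886, 12026), (10887, 10887), (10888, 10888), (10889, 10889), (10890, 8967), (10891, 8968), (10892, 8969), (10893, 13041), (10894, 13042), (10895, 13043), (10896, 9000), (10897, 8998), (10898, 8971), (10899, 13048), (10900, 8973), (10901, 13051), (10902, 12069), (10903, 9055), (10904, 8976), (10905, 12166), (10906, 13052), (10907, 9059), (10908, 8979), (10909, 12744), (10910, 12078), (10911, 8982), (10912, 13058), (10913, 13059), (10914, 9068), (10915, 8985), (10916, 8986), (10917, 13047), (10918, 13064), (10919, 8992), (10920, 12162), (10921, 12167), (10922, 9080), (10923, 12168), (10924, 12749), (10925, 12116), (10926, 9096), (10927, 9002), (10928, 13072), (10929, 13073), (10930, 9100), (10931, 9005), (10932, 13077), (10933, 12128), (10934, 9104), (10935, 9009), (10936, 9010), (10937, 11779), (10938,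 13082), (10939, 9109), (10940, 12135), (10941, 12762), (10942, 12765), (10943, 13087)]
    ⟨e3 q10880 (flp_g L649088) q11911, e3 q10881 (flp_g L380232) q13025, e3 q10882 (flp_g L357607) q12022, e3 q10883 (flp_g L357615) q12023, e3 q10884 (flp_g L357627) q12024, e3 q10885 (flp_g L357634) q12025, e3 q10886 (flp_g L357641) q12026, e3 q10887 L261402 q10887, e3 q10888 L261414 q10888, e3 q10889 L261421 q10889, e3 q10890 L261430 q8967, e3 q10891 L261441 q8968, e3 q10892 L261449 q8969, e3 q10893 (flp_g L380368) q13041, e3 q10894 (flp_g L380375) q13042, e3 q10895 (flp_g L380381) q13043, e3 q10896 (flp_g L612428) q9000, e3 q10897 L611849 q8998, e3 q10898 (flp_g L261533) q8971, e3 q10899 (flp_g L380555) q13048, e3 q10900 L261573 q8973, e3 q10901 (flp_g L380603) q13051, e3 q10902 (flp_g L358223) q12069, e3 q10903 L261637 q9055, e3 q10904 L261646 q8976, e3 q10905 (flp_g L637419) q12166, e3 q10906 (flp_g L380704) q13052, e3 q10907 L261674 q9059, e3 q10908 L261686 q8979, e3 q10909 (flp_g L612338) q12744, e3 q10910 (flp_g L358312) q12078,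 e3 q10911 L261729 q8982, e3 q10912 (flp_g L380807) q13058, e3 q10913 (flp_g L380815) q13059, e3 q10914 L261750 q9068, e3 q10915 L261757 q8985, e3 q10916 L261767 q8986, e3 q10917 (flp_g L611861) q13047, e3 q10918 (flp_g L380871) q13064, e3 q10919 L261853 q8992, e3 q10920 (flp_g L637412) q12162, e3 q10921 (flp_g L637238) q12167, e3 q10922 L261878 q9080, e3 q10923 (flp_g L641293) q12168, e3 q10924 (flp_g L612171) q12749, e3 q10925 (flp_g L358694) q12116, e3 q10926 L262095 q9096, e3 q10927 L262105 q9002, e3 q10928 (flp_g L381374) q13072, e3 q10929 (flp_g L381384) q13073, e3 q10930 L262130 q9100, e3 q10931 L262152 q9005, e3 q10932 L381521 q13077, e3 q10933 (flp_g L358832) q12128, e3 q10934 L262232 q9104, e3 q10935 L262241 q9009, e3 q10936 L262253 q9010, e3 q10937 (flp_g L648163) q11779, e3 q10938 (flp_g L381597) q13082, e3 q10939 L262283 q9109, e3 q10940 (flp_g L358901) q12135, e3 q10941 (flp_g L612161) q12762, e3 q10942 (flp_g L612004) q12765, e3 q10943 L381688 q13087, trivial⟩ (by decide +kernel)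

theorem ce_g_171 : ∀ r, r < 64 → sm gg (Qf (10944 + r)) = Qf (tab Gen.g (10944 + r)) :=
  edges_tab (sm gg) Qf (tab Gen.g) 10944 [(10944, 12141), (10945, 9117), (10946, 9018), (10947, 9019), (10948, 13092), (10949, 12756), (10950, 13093), (10951, 9124), (10952, 9024), (10953, 13100), (10954, 12757), (10955, 9025), (10956, 13103), (10957, 9027), (10958, 13104), (10959, 12105), (10960, 12158), (10961, 9135), (10962, 9136), (10963, 9032), (10964, 9033), (10965, 13110), (10966, 13111), (10967, 13112), (10968, 9036), (10969, 12271), (10970, 12054), (10971, 12106), (10972, 9148), (10973, 9149), (10974, 9043), (10975, 9044), (10976, 9045), (10977, 13121), (10978, 13122), (10979, 13123), (10980, 9046), (10981, 9048), (10982, 13128), (10983, 12212), (10984, 9090), (10985, 9050), (10986, 13134), (10987, 13135), (10988, 9630), (10989, 9053), (10990, 13139), (10991, 12224), (10992, 11878), (10993, 9057), (10994, 9058), (10995, 13144), (10996, 13145), (10997, 13055), (10998, 12231), (10999, 9062), (11000, 13150), (11001, 13151), (11002,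 13155), (11003, 12237), (11004, 11873), (11005, 9066), (11006, 9067), (11007, 13161)]
    ⟨e3 q10944 (flp_g L358947) q12141, e3 q10945 L262341 q9117, e3 q10946 L262347 q9018, e3 q10947 L262355 q9019, e3 q10948 (flp_g L381733) q13092, e3 q10949 (flp_g L621655) q12756, e3 q10950 (flp_g L381747) q13093, e3 q10951 L262391 q9124, e3 q10952 L262410 q9024, e3 q10953 L381834 q13100, e3 q10954 (flp_g L621676) q12757, e3 q10955 (flp_g L262440) q9025, e3 q10956 (flp_g L381876) q13103, e3 q10957 (flp_g L262466) q9027, e3 q10958 (flp_g L381902) q13104, e3 q10959 (flp_g L637503) q12105, e3 q10960 (flp_g L359108) q12158, e3 q10961 L262501 q9135, e3 q10962 L262514 q9136, e3 q10963 L262522 q9032, e3 q10964 L262533 q9033, e3 q10965 (flp_g L381968) q13110, e3 q10966 (flp_g L381979) q13111, e3 q10967 (flp_g L381987) q13112, e3 q10968 L262567 q9036, e3 q10969 (flp_g L649154) q12271, e3 q10970 (flp_g L637386) q12054, e3 q10971 (flp_g L637488) q12106, e3 q10972 L262610 q9148, e3 q10973 L262622 q9149, e3 q10974 L262630 q9043, e3 q10975 L262640 q9044,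 e3 q10976 L262647 q9045, e3 q10977 (flp_g L382128) q13121, e3 q10978 (flp_g L382138) q13122, e3 q10979 (flp_g L382147) q13123, e3 q10980 (flp_g L262684) q9046, e3 q10981 (flp_g L262761) q9048, e3 q10982 (flp_g L382358) q13128, e3 q10983 (flp_g L359893) q12212, e3 q10984 (flp_g L617621) q9090, e3 q10985 L262807 q9050, e3 q10986 (flp_g L382411) q13134, e3 q10987 (flp_g L382421) q13135, e3 q10988 L622164 q9630, e3 q10989 L262852 q9053, e3 q10990 L382540 q13139, e3 q10991 (flp_g L360024) q12224, e3 q10992 (flp_g L637475) q11878, e3 q10993 L262934 q9057, e3 q10994 L262945 q9058, e3 q10995 (flp_g L382605) q13144, e3 q10996 (flp_g L382616) q13145, e3 q10997 (flp_g L380733) q13055, e3 q10998 (flp_g L360088) q12231, e3 q10999 L262996 q9062, e3 q11000 (flp_g L382671) q13150, e3 q11001 (flp_g L382680) q13151, e3 q11002 L382699 q13155, e3 q11003 (flp_g L360136) q12237, e3 q11004 (flp_g L640482) q11873, e3 q11005 L263037 q9066, e3 q11006 L263045 q9067, e3 q11007 (flp_g L382747) q13161, trivial⟩ (by decide +kernel)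

theorem ce_g_172 : ∀ r, r < 64 → sm gg (Qf (11008 + r)) = Qf (tab Gen.g (11008 + r)) :=
  edges_tab (sm gg) Qf (tab Gen.g) 11008 [(11008, 13162), (11009, 13163), (11010, 9628), (11011, 13063), (11012, 9071), (11013, 9072), (11014, 13171), (11015, 9073), (11016, 12853), (11017, 12256), (11018, 12257), (11019, 11879), (11020, 9078), (11021, 9079), (11022, 12360), (11023, 13176), (11024, 13177), (11025, 12854), (11026, 12269), (11027, 12270), (11028, 9089), (11029, 12312), (11030, 12361), (11031, 12376), (11032, 13133), (11033, 12282), (11034, 12289), (11035, 9094), (11036, 13189), (11037, 13190), (11038, 13193), (11039, 12295), (11040, 13071), (11041, 9098), (11042, 9099), (11043, 13199), (11044, 13200), (11045, 13076), (11046, 9102), (11047, 13204), (11048, 12310), (11049, 12311), (11050, 11682), (11051, 13081), (11052, 9107), (11053, 9108), (11054, 12343), (11055, 13211), (11056, 13212), (11057, 12319), (11058, 13216), (11059, 12321), (11060, 9113), (11061, 9114), (11062, 13219), (11063, 12821), (11064, 13220), (11065, 9115),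 (11066, 13227), (11067, 12330), (11068, 12331), (11069, 12815), (11070, 13091), (11071, 9120)]
    ⟨e3 q11008 (flp_g L382753) q13162, e3 q11009 (flp_g L382761) q13163, e3 q11010 L622180 q9628, e3 q11011 (flp_g L380852) q13063, e3 q11012 L263083 q9071, e3 q11013 L263094 q9072, e3 q11014 (flp_g L382820) q13171, e3 q11015 (flp_g L263138) q9073, e3 q11016 (flp_g L641035) q12853, e3 q11017 (flp_g L360269) q12256, e3 q11018 (flp_g L360280) q12257, e3 q11019 (flp_g L641264) q11879, e3 q11020 L263195 q9078, e3 q11021 L263205 q9079, e3 q11022 (flp_g L637602) q12360, e3 q11023 (flp_g L382961) q13176, e3 q11024 (flp_g L382968) q13177, e3 q11025 (flp_g L634920) q12854, e3 q11026 (flp_g L360375) q12269, e3 q11027 (flp_g L360387) q12270, e3 q11028 L263305 q9089, e3 q11029 (flp_g L637607) q12312, e3 q11030 (flp_g L637092) q12361, e3 q11031 (flp_g L637645) q12376, e3 q11032 (flp_g L612517) q13133, e3 q11033 (flp_g L360470) q12282, e3 q11034 (flp_g L360597) q12289, e3 q11035 L263496 q9094, e3 q11036 (flp_g L383422) q13189, e3 q11037 (flp_g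 L383433) q13190, e3 q11038 L383456 q13193, e3 q11039 (flp_g L360651) q12295, e3 q11040 (flp_g L381366) q13071, e3 q11041 L263545 q9098, e3 q11042 L263555 q9099, e3 q11043 (flp_g L383512) q13199, e3 q11044 (flp_g L383530) q13200, e3 q11045 (flp_g L381430) q13076, e3 q11046 (flp_g L263677) q9102, e3 q11047 (flp_g L383699) q13204, e3 q11048 (flp_g L360820) q12310, e3 q11049 (flp_g L360832) q12311, e3 q11050 (flp_g L648121) q11682, e3 q11051 (flp_g L381575) q13081, e3 q11052 L263738 q9107, e3 q11053 L263750 q9108, e3 q11054 (flp_g L642509) q12343, e3 q11055 (flp_g L383784) q13211, e3 q11056 (flp_g L383793) q13212, e3 q11057 (flp_g L360898) q12319, e3 q11058 L383836 q13216, e3 q11059 (flp_g L360915) q12321, e3 q11060 L263802 q9113, e3 q11061 L263811 q9114, e3 q11062 (flp_g L383874) q13219, e3 q11063 (flp_g L611617) q12821, e3 q11064 (flp_g L383891) q13220, e3 q11065 (flp_g L263828) q9115, e3 q11066 (flp_g L383931) q13227, e3 q11067 (flp_g L360975) q12330, e3 q11068 (flp_g L360985) q12331, e3 q11069 (flp_g L617533) q12815, e3 q11070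 (flp_g L381727) q13091, e3 q11071 L263870 q9120, trivial⟩ (by decide +kernel)

theorem ce_g_173 : ∀ r, r < 64 → sm gg (Qf (11072 + r)) = Qf (tab Gen.g (11072 + r)) :=
  edges_tab (sm gg) Qf (tab Gen.g) 11072 [(11072, 9121), (11073, 9122), (11074, 13235), (11075, 13236), (11076, 13237), (11077, 13247), (11078, 13239), (11079, 13240), (11080, 9596), (11081, 13250), (11082, 9128), (11083, 9127), (11084, 13253), (11085, 13102), (11086, 9130), (11087, 9132), (11088, 13255), (11089, 13256), (11090, 12357), (11091, 12358), (11092, 12359), (11093, 11835), (11094, 13109), (11095, 9139), (11096, 9140), (11097, 9141), (11098, 13268), (11099, 13269), (11100, 13270), (11101, 9143), (11102, 9144), (11103, 12266), (11104, 12722), (11105, 13274), (11106, 12371), (11107, 12372), (11108, 12373), (11109, 12374), (11110, 12375), (11111, 13119), (11112, 13120), (11113, 12382), (11114, 9153), (11115, 9154), (11116, 9155), (11117, 13290), (11118, 13291), (11119, 13292), (11120, 12413), (11121, 11121), (11122, 13296), (11123, 12421), (11124, 11124),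 (11125, 9161), (11126, 9162), (11127, 13302), (11128, 11128), (11129, 9165), (11130, 13304), (11131, 12435), (11132, 11132), (11133, 12437), (11134, 13307), (11135, 12439)]
    ⟨e3 q11072 L263876 q9121, e3 q11073 L263884 q9122, e3 q11074 (flp_g L383987) q13235, e3 q11075 (flp_g L383993) q13236, e3 q11076 (flp_g L384003) q13237, e3 q11077 L384055 q13247, e3 q11078 (flp_g L384015) q13239, e3 q11079 (flp_g L384019) q13240, e3 q11080 L622065 q9596, e3 q11081 L384097 q13250, e3 q11082 L263946 q9128, e3 q11083 (flp_g L263958) q9127, e3 q11084 (flp_g L384139) q13253, e3 q11085 (flp_g L381869) q13102, e3 q11086 L263996 q9130, e3 q11087 L264018 q9132, e3 q11088 (flp_g L384191) q13255, e3 q11089 (flp_g L384200) q13256, e3 q11090 (flp_g L361170) q12357, e3 q11091 (flp_g L361177) q12358, e3 q11092 (flp_g L361191) q12359, e3 q11093 (flp_g L635748) q11835, e3 q11094 (flp_g L381960) q13109, e3 q11095 L264082 q9139, e3 q11096 L264093 q9140, e3 q11097 L264101 q9141, e3 q11098 (flp_g L384299) q13268, e3 q11099 (flp_g L384310) q13269, e3 q11100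 (flp_g L384318) q13270, e3 q11101 L264129 q9143, e3 q11102 L264137 q9144, e3 q11103 (flp_g L649144) q12266, e3 q11104 L647002 q12722, e3 q11105 (flp_g L384360) q13274, e3 q11106 (flp_g L361303) q12371, e3 q11107 (flp_g L361311) q12372, e3 q11108 (flp_g L361322) q12373, e3 q11109 (flp_g L361332) q12374, e3 q11110 (flp_g L361339) q12375, e3 q11111 (flp_g L382098) q13119, e3 q11112 (flp_g L382110) q13120, e3 q11113 (flp_g L649067) q12382, e3 q11114 L264229 q9153, e3 q11115 L264239 q9154, e3 q11116 L264248 q9155, e3 q11117 (flp_g L384491) q13290, e3 q11118 (flp_g L384499) q13291, e3 q11119 (flp_g L384505) q13292, e3 q11120 (flp_g L362173) q12413, e3 q11121 L264312 q11121, e3 q11122 L384875 q13296, e3 q11123 (flp_g L362368) q12421, e3 q11124 L264502 q11124, e3 q11125 L264509 q9161, e3 q11126 L264519 q9162, e3 q11127 (flp_g L384952) q13302, e3 q11128 L264560 q11128, e3 q11129 (flp_g L264638) q9165, e3 q11130 (flp_g L385115) q13304, e3 q11131 (flp_g L362546) q12435, e3 q11132 L264693 q11132, e3 q11133 (flp_g L362622) q12437, e3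 q11134 L385258 q13307, e3 q11135 (flp_g L362643) q12439, trivial⟩ (by decide +kernel)

theorem ce_g_174 : ∀ r, r < 64 → sm gg (Qf (11136 + r)) = Qf (tab Gen.g (11136 + r)) :=
  edges_tab (sm gg) Qf (tab Gen.g) 11136 [(11136, 11136), (11137, 9173), (11138, 9174), (11139, 13313), (11140, 13314), (11141, 9175), (11142, 13317), (11143, 12447), (11144, 12448), (11145, 11145), (11146, 11146), (11147, 9180), (11148, 9181), (11149, 9182), (11150, 13326), (11151, 13327), (11152, 13328), (11153, 13330), (11154, 13331), (11155, 11155), (11156, 11156), (11157, 12505), (11158, 9187), (11159, 9189), (11160, 13340), (11161, 13341), (11162, 12474), (11163, 12475), (11164, 12476), (11165, 11165), (11166, 11166), (11167, 9196), (11168, 9197), (11169, 13351), (11170, 13352), (11171, 9199), (11172, 9200), (11173, 13034), (11174, 13283), (11175, 13354), (11176, 12487), (11177, 12488), (11178, 12489), (11179, 12490), (11180, 12491), (11181, 11181), (11182, 11182), (11183, 11183), (11184, 9209), (11185, 9210), (11186, 9211), (11187, 13368), (11188,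 13369), (11189, 13370), (11190, 12499), (11191, 11191), (11192, 9213), (11193, 13376), (11194, 13377), (11195, 12512), (11196, 13379), (11197, 12514), (11198, 11198), (11199, 9219)]
    ⟨e3 q11136 L264773 q11136, e3 q11137 L264778 q9173, e3 q11138 L264788 q9174, e3 q11139 (flp_g L385317) q13313, e3 q11140 (flp_g L385327) q13314, e3 q11141 (flp_g L264811) q9175, e3 q11142 (flp_g L385376) q13317, e3 q11143 (flp_g L362711) q12447, e3 q11144 (flp_g L362719) q12448, e3 q11145 L264840 q11145, e3 q11146 L264849 q11146, e3 q11147 L264856 q9180, e3 q11148 L264862 q9181, e3 q11149 L264870 q9182, e3 q11150 (flp_g L385433) q13326, e3 q11151 (flp_g L385439) q13327, e3 q11152 (flp_g L385448) q13328, e3 q11153 (flp_g L385460) q13330, e3 q11154 (flp_g L385464) q13331, e3 q11155 L264910 q11155, e3 q11156 L264920 q11156, e3 q11157 L552177 q12505, e3 q11158 L264933 q9187, e3 q11159 L264998 q9189, e3 q11160 (flp_g L385632) q13340, e3 q11161 (flp_g L385641) q13341, e3 q11162 (flp_g L362905) q12474, e3 q11163 (flp_g L362913) q12475, e3 q11164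 (flp_g L362925) q12476, e3 q11165 L265044 q11165, e3 q11166 L265056 q11166, e3 q11167 L265062 q9196, e3 q11168 L265073 q9197, e3 q11169 (flp_g L385745) q13351, e3 q11170 (flp_g L385756) q13352, e3 q11171 L265114 q9199, e3 q11172 L265122 q9200, e3 q11173 (flp_g L645641) q13034, e3 q11174 (flp_g L645483) q13283, e3 q11175 (flp_g L385813) q13354, e3 q11176 (flp_g L363043) q12487, e3 q11177 (flp_g L363052) q12488, e3 q11178 (flp_g L363063) q12489, e3 q11179 (flp_g L363070) q12490, e3 q11180 (flp_g L363077) q12491, e3 q11181 L265191 q11181, e3 q11182 L265202 q11182, e3 q11183 L265209 q11183, e3 q11184 L265219 q9209, e3 q11185 L265229 q9210, e3 q11186 L265237 q9211, e3 q11187 (flp_g L385944) q13368, e3 q11188 (flp_g L385951) q13369, e3 q11189 (flp_g L385958) q13370, e3 q11190 (flp_g L363181) q12499, e3 q11191 L265296 q11191, e3 q11192 L265303 q9213, e3 q11193 (flp_g L386074) q13376, e3 q11194 L386097 q13377, e3 q11195 (flp_g L363414) q12512, e3 q11196 L386441 q13379, e3 q11197 (flp_g L363435) q12514, e3 q11198 L265551 q11198, e3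 q11199 L265558 q9219, trivial⟩ (by decide +kernel)

theorem ce_g_175 : ∀ r, r < 64 → sm gg (Qf (11200 + r)) = Qf (tab Gen.g (11200 + r)) :=
  edges_tab (sm gg) Qf (tab Gen.g) 11200 [(11200, 9220), (11201, 13385), (11202, 9221), (11203, 13387), (11204, 12522), (11205, 12523), (11206, 11206), (11207, 11207), (11208, 9226), (11209, 9227), (11210, 13395), (11211, 13396), (11212, 13397), (11213, 9230), (11214, 13401), (11215, 13402), (11216, 12543), (11217, 12544), (11218, 12545), (11219, 11219), (11220, 11220), (11221, 9237), (11222, 9238), (11223, 13412), (11224, 13413), (11225, 13415), (11226, 12553), (11227, 9240), (11228, 13419), (11229, 12556), (11230, 12557), (11231, 11231), (11232, 11232), (11233, 9245), (11234, 9246), (11235, 9247), (11236, 13428), (11237, 13429), (11238, 13430), (11239, 13440), (11240, 13432), (11241, 13433), (11242, 9249), (11243, 13443), (11244, 13444), (11245, 12572), (11246, 12573), (11247, 12574), (11248, 11248), (11249, 11249), (11250, 11250), (11251, 9257), (11252, 9258), (11253, 9259), (11254,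 13466), (11255, 9261), (11256, 9262), (11257, 13460), (11258, 13461), (11259, 13462), (11260, 13474), (11261, 13464), (11262, 13465), (11263, 9260)]
    ⟨e3 q11200 L265570 q9220, e3 q11201 (flp_g L386522) q13385, e3 q11202 (flp_g L265597) q9221, e3 q11203 (flp_g L386582) q13387, e3 q11204 (flp_g L363517) q12522, e3 q11205 (flp_g L363527) q12523, e3 q11206 L265632 q11206, e3 q11207 L265643 q11207, e3 q11208 L265650 q9226, e3 q11209 L265668 q9227, e3 q11210 (flp_g L386653) q13395, e3 q11211 (flp_g L386673) q13396, e3 q11212 (flp_g L386695) q13397, e3 q11213 L265837 q9230, e3 q11214 (flp_g L386913) q13401, e3 q11215 (flp_g L386923) q13402, e3 q11216 (flp_g L363762) q12543, e3 q11217 (flp_g L363771) q12544, e3 q11218 (flp_g L363785) q12545, e3 q11219 L265891 q11219, e3 q11220 L265905 q11220, e3 q11221 L265912 q9237, e3 q11222 L265925 q9238, e3 q11223 (flp_g L387038) q13412, e3 q11224 (flp_g L387051) q13413, e3 q11225 L387092 q13415, e3 q11226 (flp_g L363881) q12553, e3 q11227 (flp_g L265983) q9240, e3 q11228 (flp_g L387125) q13419,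 e3 q11229 (flp_g L363904) q12556, e3 q11230 (flp_g L363914) q12557, e3 q11231 L266012 q11231, e3 q11232 L266023 q11232, e3 q11233 L266028 q9245, e3 q11234 L266036 q9246, e3 q11235 L266046 q9247, e3 q11236 (flp_g L387190) q13428, e3 q11237 (flp_g L387198) q13429, e3 q11238 (flp_g L387209) q13430, e3 q11239 L387276 q13440, e3 q11240 (flp_g L387223) q13432, e3 q11241 (flp_g L387227) q13433, e3 q11242 L266094 q9249, e3 q11243 (flp_g L387299) q13443, e3 q11244 (flp_g L387306) q13444, e3 q11245 (flp_g L364025) q12572, e3 q11246 (flp_g L364031) q12573, e3 q11247 (flp_g L364039) q12574, e3 q11248 L266126 q11248, e3 q11249 L266133 q11249, e3 q11250 L266142 q11250, e3 q11251 L266149 q9257, e3 q11252 L266155 q9258, e3 q11253 L266165 q9259, e3 q11254 L387447 q13466, e3 q11255 L266177 q9261, e3 q11256 L266181 q9262, e3 q11257 (flp_g L387407) q13460, e3 q11258 (flp_g L387413) q13461, e3 q11259 (flp_g L387423) q13462, e3 q11260 L387500 q13474, e3 q11261 (flp_g L387439) q13464, e3 q11262 (flp_g L387445) q13465, e3 q11263 (flp_g L266223)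 q9260, trivial⟩ (by decide +kernel)

theorem ce_g_176 : ∀ r, r < 64 → sm gg (Qf (11264 + r)) = Qf (tab Gen.g (11264 + r)) :=
  edges_tab (sm gg) Qf (tab Gen.g) 11264 [(11264, 13479), (11265, 13468), (11266, 13481), (11267, 11267), (11268, 9265), (11269, 13484), (11270, 11270), (11271, 9268), (11272, 11272), (11273, 9272), (11274, 9273), (11275, 13486), (11276, 12721), (11277, 13487), (11278, 12610), (11279, 12611), (11280, 12612), (11281, 12613), (11282, 12614), (11283, 11283), (11284, 11284), (11285, 11285), (11286, 9282), (11287, 9283), (11288, 9284), (11289, 13503), (11290, 13504), (11291, 13505), (11292, 9289), (11293, 12709), (11294, 12638), (11295, 12637), (11296, 12636), (11297, 12632), (11298, 12633), (11299, 12634), (11300, 12635), (11301, 11301), (11302, 11302), (11303, 9301), (11304, 9302), (11305, 9303), (11306, 13511), (11307, 13512), (11308, 9487), (11309, 13513), (11310, 12649), (11311, 9306), (11312, 13517), (11313, 12652), (11314, 11314), (11315, 9312), (11316, 13519), (11317, 13520), (11318, 12657), (11319,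 12658), (11320, 11320), (11321, 9317), (11322, 9320), (11323, 9321), (11324, 9322), (11325, 12661), (11326, 9350), (11327, 9338)]
    ⟨e3 q11264 (flp_g L387536) q13479, e3 q11265 (flp_g L387463) q13468, e3 q11266 L387548 q13481, e3 q11267 L266253 q11267, e3 q11268 (flp_g L266265) q9265, e3 q11269 (flp_g L387588) q13484, e3 q11270 L266297 q11270, e3 q11271 L266304 q9268, e3 q11272 L266326 q11272, e3 q11273 L266356 q9272, e3 q11274 L266365 q9273, e3 q11275 (flp_g L387676) q13486, e3 q11276 L647015 q12721, e3 q11277 (flp_g L387695) q13487, e3 q11278 (flp_g L364311) q12610, e3 q11279 (flp_g L364321) q12611, e3 q11280 (flp_g L364332) q12612, e3 q11281 (flp_g L364341) q12613, e3 q11282 (flp_g L364349) q12614, e3 q11283 L266437 q11283, e3 q11284 L266450 q11284, e3 q11285 L266459 q11285, e3 q11286 L266470 q9282, e3 q11287 L266482 q9283, e3 q11288 L266490 q9284, e3 q11289 (flp_g L387842) q13503, e3 q11290 (flp_g L387852) q13504, e3 q11291 (flp_g L387858) q13505, e3 q11292 L266540 q9289, e3 q11293 L646910 q12709, e3 q11294 (flp_g L646920)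 q12638, e3 q11295 (flp_g L646956) q12637, e3 q11296 L646940 q12636, e3 q11297 (flp_g L364514) q12632, e3 q11298 (flp_g L364523) q12633, e3 q11299 (flp_g L364534) q12634, e3 q11300 (flp_g L364540) q12635, e3 q11301 L266645 q11301, e3 q11302 L266657 q11302, e3 q11303 L266679 q9301, e3 q11304 L266687 q9302, e3 q11305 L266694 q9303, e3 q11306 (flp_g L388114) q13511, e3 q11307 (flp_g L388122) q13512, e3 q11308 L630567 q9487, e3 q11309 L389173 q13513, e3 q11310 (flp_g L367136) q12649, e3 q11311 (flp_g L267411) q9306, e3 q11312 (flp_g L389209) q13517, e3 q11313 (flp_g L367169) q12652, e3 q11314 L267453 q11314, e3 q11315 L267761 q9312, e3 q11316 (flp_g L389717) q13519, e3 q11317 (flp_g L389723) q13520, e3 q11318 (flp_g L367586) q12657, e3 q11319 (flp_g L367594) q12658, e3 q11320 L267833 q11320, e3 q11321 L267861 q9317, e3 q11322 L267904 q9320, e3 q11323 L267910 q9321, e3 q11324 L267919 q9322, e3 q11325 (flp_g L615633) q12661, e3 q11326 (flp_g L616080) q9350, e3 q11327 (flp_g L615750) q9338, trivial⟩ (by decide +kernel)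

theorem ce_g_177 : ∀ r, r < 64 → sm gg (Qf (11328 + r)) = Qf (tab Gen.g (11328 + r)) :=
  edges_tab (sm gg) Qf (tab Gen.g) 11328 [(11328, 12656), (11329, 12485), (11330, 12484), (11331, 11331), (11332, 11332), (11333, 11333), (11334, 9334), (11335, 9335), (11336, 9336), (11337, 13527), (11338, 13528), (11339, 9486), (11340, 12662), (11341, 13360), (11342, 12665), (11343, 11343), (11344, 9344), (11345, 13532), (11346, 12720), (11347, 12670), (11348, 12671), (11349, 11349), (11350, 9349), (11351, 13359), (11352, 12675), (11353, 12676), (11354, 9353), (11355, 13544), (11356, 13545), (11357, 12680), (11358, 12681), (11359, 12682), (11360, 11360), (11361, 11361), (11362, 9360), (11363, 9361), (11364, 13555), (11365, 13556), (11366, 9363), (11367, 13558), (11368, 12719), (11369, 12691), (11370, 12692), (11371, 11371), (11372, 9368), (11373, 9371), (11374, 12707), (11375, 12705), (11376, 12704), (11377, 12703), (11378, 12706), (11379, 12708), (11380, 11380), (11381, 11381), (11382, 9385), (11383, 9386), (11384, 9387), (11385, 13568),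 (11386, 13569), (11387, 13570), (11388, 9393), (11389, 9394), (11390, 9401), (11391, 11780)]
    ⟨e3 q11328 (flp_g L615896) q12656, e3 q11329 (flp_g L615560) q12485, e3 q11330 (flp_g L615498) q12484, e3 q11331 L268013 q11331, e3 q11332 L268023 q11332, e3 q11333 L268032 q11333, e3 q11334 L268042 q9334, e3 q11335 L268049 q9335, e3 q11336 L268054 q9336, e3 q11337 (flp_g L390098) q13527, e3 q11338 (flp_g L390104) q13528, e3 q11339 (flp_g L645437) q9486, e3 q11340 (flp_g L368265) q12662, e3 q11341 (flp_g L615745) q13360, e3 q11342 (flp_g L368300) q12665, e3 q11343 L268342 q11343, e3 q11344 L268511 q9344, e3 q11345 (flp_g L390760) q13532, e3 q11346 (flp_g L645869) q12720, e3 q11347 (flp_g L368682) q12670, e3 q11348 (flp_g L368691) q12671, e3 q11349 L268593 q11349, e3 q11350 L268623 q9349, e3 q11351 (flp_g L615789) q13359, e3 q11352 (flp_g L368822) q12675, e3 q11353 (flp_g L368831) q12676, e3 q11354 L268701 q9353, e3 q11355 (flp_g L391016) q13544, e3 q11356 (flp_g L391024) q13545, e3 q11357 (flp_g L368861) q12680, e3 q11358 (flp_g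 L368868) q12681, e3 q11359 (flp_g L368879) q12682, e3 q11360 L268741 q11360, e3 q11361 L268752 q11361, e3 q11362 L268758 q9360, e3 q11363 L268768 q9361, e3 q11364 (flp_g L391114) q13555, e3 q11365 (flp_g L391124) q13556, e3 q11366 L268804 q9363, e3 q11367 (flp_g L391159) q13558, e3 q11368 (flp_g L648700) q12719, e3 q11369 (flp_g L369053) q12691, e3 q11370 (flp_g L369060) q12692, e3 q11371 L268876 q11371, e3 q11372 L268903 q9368, e3 q11373 L268946 q9371, e3 q11374 (flp_g L646462) q12707, e3 q11375 (flp_g L646428) q12705, e3 q11376 L629257 q12704, e3 q11377 (flp_g L369382) q12703, e3 q11378 (flp_g L369406) q12706, e3 q11379 (flp_g L369424) q12708, e3 q11380 L269062 q11380, e3 q11381 L269082 q11381, e3 q11382 L269093 q9385, e3 q11383 L269103 q9386, e3 q11384 L269107 q9387, e3 q11385 (flp_g L391551) q13568, e3 q11386 (flp_g L391557) q13569, e3 q11387 (flp_g L391561) q13570, e3 q11388 L269341 q9393, e3 q11389 L269347 q9394, e3 q11390 L269875 q9401, e3 q11391 L649341 q11780, trivial⟩ (by decide +kernel)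

theorem ce_g_178 : ∀ r, r < 64 → sm gg (Qf (11392 + r)) = Qf (tab Gen.g (11392 + r)) :=
  edges_tab (sm gg) Qf (tab Gen.g) 11392 [(11392, 13571), (11393, 11760), (11394, 11765), (11395, 11766), (11396, 12751), (11397, 11770), (11398, 9414), (11399, 9465), (11400, 9412), (11401, 9411), (11402, 13578), (11403, 9470), (11404, 11404), (11405, 11405), (11406, 9478), (11407, 9421), (11408, 9422), (11409, 9423), (11410, 12088), (11411, 13583), (11412, 13584), (11413, 11688), (11414, 11689), (11415, 11690), (11416, 11416), (11417, 11417), (11418, 11418), (11419, 11419), (11420, 11420), (11421, 9493), (11422, 9494), (11423, 9495), (11424, 9434), (11425, 9435), (11426, 9436), (11427, 13597), (11428, 13598), (11429, 13599), (11430, 11857), (11431, 11807), (11432, 11432), (11433, 11433), (11434, 11683), (11435, 9448), (11436, 9449), (11437, 12302), (11438, 12344), (11439, 13607), (11440, 11822), (11441, 11830), (11442, 9640), (11443, 13616), (11444, 9711), (11445, 9458), (11446, 9459), (11447, 9460), (11448, 13621), (11449, 9462), (11450,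 9463), (11451, 12287), (11452, 13617), (11453, 13618), (11454, 13629), (11455, 13620)]
    ⟨e3 q11392 (flp_g L649412) q13571, e3 q11393 (flp_g L649127) q11760, e3 q11394 (flp_g L649129) q11765, e3 q11395 L648686 q11766, e3 q11396 L649207 q12751, e3 q11397 L649205 q11770, e3 q11398 L648753 q9414, e3 q11399 L270116 q9465, e3 q11400 L270131 q9412, e3 q11401 (flp_g L270142) q9411, e3 q11402 (flp_g L649473) q13578, e3 q11403 L270174 q9470, e3 q11404 L270241 q11404, e3 q11405 L270252 q11405, e3 q11406 L270266 q9478, e3 q11407 L270272 q9421, e3 q11408 L270281 q9422, e3 q11409 L270287 q9423, e3 q11410 (flp_g L649381) q12088, e3 q11411 (flp_g L649523) q13583, e3 q11412 (flp_g L649529) q13584, e3 q11413 L648552 q11688, e3 q11414 (flp_g L649023) q11689, e3 q11415 L648550 q11690, e3 q11416 L270366 q11416, e3 q11417 L270373 q11417, e3 q11418 L270383 q11418, e3 q11419 L270390 q11419, e3 q11420 L270396 q11420, e3 q11421 L270402 q9493, e3 q11422 L270413 q9494, e3 q11423 L270420 q9495, e3 q11424 L270429 q9434, e3 q11425 L270438 q9435, e3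 q11426 L270445 q9436, e3 q11427 (flp_g L649642) q13597, e3 q11428 (flp_g L649648) q13598, e3 q11429 (flp_g L649654) q13599, e3 q11430 L649052 q11857, e3 q11431 L649054 q11807, e3 q11432 L271106 q11432, e3 q11433 L271119 q11433, e3 q11434 (flp_g L648997) q11683, e3 q11435 L271148 q9448, e3 q11436 L271155 q9449, e3 q11437 L649231 q12302, e3 q11438 L649233 q12344, e3 q11439 (flp_g L649727) q13607, e3 q11440 L649249 q11822, e3 q11441 L649239 q11830, e3 q11442 L642546 q9640, e3 q11443 L649792 q13616, e3 q11444 L642530 q9711, e3 q11445 L271369 q9458, e3 q11446 L271376 q9459, e3 q11447 L271384 q9460, e3 q11448 L649828 q13621, e3 q11449 L271398 q9462, e3 q11450 L271403 q9463, e3 q11451 (flp_g L649395) q12287, e3 q11452 (flp_g L649805) q13617, e3 q11453 (flp_g L649814) q13618, e3 q11454 L649885 q13629, e3 q11455 (flp_g L649826) q13620, trivial⟩ (by decide +kernel)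

theorem ce_g_179 : ∀ r, r < 64 → sm gg (Qf (11456 + r)) = Qf (tab Gen.g (11456 + r)) :=
  edges_tab (sm gg) Qf (tab Gen.g) 11456 [(11456, 13254), (11457, 9461), (11458, 13634), (11459, 13623), (11460, 12806), (11461, 11843), (11462, 9466), (11463, 13638), (11464, 13579), (11465, 9469), (11466, 11691), (11467, 11467), (11468, 11468), (11469, 11469), (11470, 11470), (11471, 11471), (11472, 11824), (11473, 11836), (11474, 13582), (11475, 9482), (11476, 9483), (11477, 9484), (11478, 13648), (11479, 13649), (11480, 13650), (11481, 11934), (11482, 13373), (11483, 13046), (11484, 11484), (11485, 11485), (11486, 11486), (11487, 11487), (11488, 11488), (11489, 11489), (11490, 12185), (11491, 13595), (11492, 13596), (11493, 9499), (11494, 9500), (11495, 9501), (11496, 13665), (11497, 13666), (11498, 13667), (11499, 11499), (11500, 11500), (11501, 11501), (11502, 11502), (11503, 9508), (11504, 9509), (11505, 9510), (11506, 13678), (11507, 13679), (11508, 13680), (11509, 9589), (11510, 9574), (11511, 11511), (11512, 11512), (11513,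 11513), (11514, 11514), (11515, 11515), (11516, 11516), (11517, 11517), (11518, 11518), (11519, 9521)]
    ⟨e3 q11456 (flp_g L649349) q13254, e3 q11457 (flp_g L271441) q9461, e3 q11458 (flp_g L649921) q13634, e3 q11459 (flp_g L649847) q13623, e3 q11460 (flp_g L649275) q12806, e3 q11461 (flp_g L648797) q11843, e3 q11462 (flp_g L271486) q9466, e3 q11463 (flp_g L649954) q13638, e3 q11464 (flp_g L649488) q13579, e3 q11465 L271523 q9469, e3 q11466 L648632 q11691, e3 q11467 L271621 q11467, e3 q11468 L271629 q11468, e3 q11469 L271637 q11469, e3 q11470 L271646 q11470, e3 q11471 L271653 q11471, e3 q11472 (flp_g L648606) q11824, e3 q11473 L649119 q11836, e3 q11474 (flp_g L649511) q13582, e3 q11475 L271681 q9482, e3 q11476 L271690 q9483, e3 q11477 L271696 q9484, e3 q11478 (flp_g L650032) q13648, e3 q11479 (flp_g L650040) q13649, e3 q11480 (flp_g L650045) q13650, e3 q11481 L648648 q11934, e3 q11482 L649019 q13373, e3 q11483 L649021 q13046, e3 q11484 L271793 q11484, e3 q11485 L271800 q11485, e3 q11486 L271809 q11486, e3 q11487 L271824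 q11487, e3 q11488 L271832 q11488, e3 q11489 L271839 q11489, e3 q11490 (flp_g L649387) q12185, e3 q11491 (flp_g L649622) q13595, e3 q11492 (flp_g L649631) q13596, e3 q11493 L271869 q9499, e3 q11494 L271875 q9500, e3 q11495 L271881 q9501, e3 q11496 (flp_g L650163) q13665, e3 q11497 (flp_g L650170) q13666, e3 q11498 (flp_g L650178) q13667, e3 q11499 L272307 q11499, e3 q11500 L272325 q11500, e3 q11501 L272330 q11501, e3 q11502 L272352 q11502, e3 q11503 L272359 q9508, e3 q11504 L272379 q9509, e3 q11505 L272402 q9510, e3 q11506 (flp_g L650269) q13678, e3 q11507 (flp_g L650280) q13679, e3 q11508 (flp_g L650288) q13680, e3 q11509 L646152 q9589, e3 q11510 L646145 q9574, e3 q11511 L272659 q11511, e3 q11512 L272669 q11512, e3 q11513 L272680 q11513, e3 q11514 L272688 q11514, e3 q11515 L272696 q11515, e3 q11516 L272702 q11516, e3 q11517 L272714 q11517, e3 q11518 L272722 q11518, e3 q11519 L272731 q9521, trivial⟩ (by decide +kernel)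

theorem ce_g_180 : ∀ r, r < 64 → sm gg (Qf (11520 + r)) = Qf (tab Gen.g (11520 + r)) :=
  edges_tab (sm gg) Qf (tab Gen.g) 11520 [(11520, 9522), (11521, 9523), (11522, 13695), (11523, 13696), (11524, 13697), (11525, 9590), (11526, 11695), (11527, 11527), (11528, 11528), (11529, 11529), (11530, 13710), (11531, 11531), (11532, 11532), (11533, 11533), (11534, 11534), (11535, 11535), (11536, 12949), (11537, 11537), (11538, 11538), (11539, 9538), (11540, 9539), (11541, 9540), (11542, 13726), (11543, 9542), (11544, 9543), (11545, 9535), (11546, 13731), (11547, 9546), (11548, 13721), (11549, 13722), (11550, 13736), (11551, 13724), (11552, 13725), (11553, 9541), (11554, 13741), (11555, 13728), (11556, 13729), (11557, 11557), (11558, 9545), (11559, 13746), (11560, 9547), (11561, 13748), (11562, 13747), (11563, 9550), (11564, 11564), (11565, 9569), (11566, 11566), (11567, 11567), (11568, 11568), (11569, 11569), (11570, 11570), (11571, 11571), (11572, 9568), (11573, 9570), (11574, 13685), (11575, 13701), (11576, 13752), (11577, 9584),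 (11578, 11578), (11579, 11579), (11580, 11580), (11581, 11581), (11582, 9585), (11583, 9586)]
    ⟨e3 q11520 L272742 q9522, e3 q11521 L272750 q9523, e3 q11522 (flp_g L650440) q13695, e3 q11523 (flp_g L650447) q13696, e3 q11524 (flp_g L650455) q13697, e3 q11525 L646415 q9590, e3 q11526 L649097 q11695, e3 q11527 L272829 q11527, e3 q11528 L272836 q11528, e3 q11529 L272846 q11529, e3 q11530 L650569 q13710, e3 q11531 L272858 q11531, e3 q11532 L272864 q11532, e3 q11533 L272871 q11533, e3 q11534 L272880 q11534, e3 q11535 L272890 q11535, e3 q11536 L649365 q12949, e3 q11537 L272908 q11537, e3 q11538 L272914 q11538, e3 q11539 L272924 q9538, e3 q11540 L272932 q9539, e3 q11541 L272942 q9540, e3 q11542 L650704 q13726, e3 q11543 L272955 q9542, e3 q11544 L272961 q9543, e3 q11545 (flp_g L272964) q9535, e3 q11546 (flp_g L650749) q13731, e3 q11547 L272984 q9546, e3 q11548 (flp_g L650669) q13721, e3 q11549 (flp_g L650679) q13722, e3 q11550 L650781 q13736, e3 q11551 (flp_g L650694) q13724, e3 q11552 (flp_g L650701) q13725, e3 q11553 (flp_g L273027)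 q9541, e3 q11554 (flp_g L650827) q13741, e3 q11555 (flp_g L650723) q13728, e3 q11556 (flp_g L650728) q13729, e3 q11557 L273064 q11557, e3 q11558 L273071 q9545, e3 q11559 (flp_g L650862) q13746, e3 q11560 (flp_g L273089) q9547, e3 q11561 (flp_g L650877) q13748, e3 q11562 (flp_g L650871) q13747, e3 q11563 L273124 q9550, e3 q11564 L273146 q11564, e3 q11565 L646409 q9569, e3 q11566 L273290 q11566, e3 q11567 L273310 q11567, e3 q11568 L273313 q11568, e3 q11569 L273320 q11569, e3 q11570 L273327 q11570, e3 q11571 L273343 q11571, e3 q11572 L273372 q9568, e3 q11573 L273386 q9570, e3 q11574 (flp_g L650339) q13685, e3 q11575 (flp_g L650497) q13701, e3 q11576 (flp_g L650899) q13752, e3 q11577 L646208 q9584, e3 q11578 L273783 q11578, e3 q11579 L273791 q11579, e3 q11580 L273800 q11580, e3 q11581 L273805 q11581, e3 q11582 L273876 q9585, e3 q11583 L273882 q9586, trivial⟩ (by decide +kernel)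

theorem ce_g_181 : ∀ r, r < 64 → sm gg (Qf (11584 + r)) = Qf (tab Gen.g (11584 + r)) :=
  edges_tab (sm gg) Qf (tab Gen.g) 11584 [(11584, 13684), (11585, 13754), (11586, 13755), (11587, 11587), (11588, 9591), (11589, 11589), (11590, 9593), (11591, 12800), (11592, 12786), (11593, 9597), (11594, 13612), (11595, 11595), (11596, 11596), (11597, 9602), (11598, 9605), (11599, 13761), (11600, 9607), (11601, 9608), (11602, 13762), (11603, 11603), (11604, 11604), (11605, 11605), (11606, 9616), (11607, 9617), (11608, 9696), (11609, 13764), (11610, 9620), (11611, 11611), (11612, 12745), (11613, 12750), (11614, 9626), (11615, 13169), (11616, 9631), (11617, 13138), (11618, 9633), (11619, 13766), (11620, 12822), (11621, 9637), (11622, 9638), (11623, 13615), (11624, 11624), (11625, 11625), (11626, 9644), (11627, 11627), (11628, 11628), (11629, 11629), (11630, 9650), (11631, 9651), (11632, 13773), (11633, 11633), (11634, 11634), (11635, 11635), (11636, 11636), (11637, 11637), (11638, 13778), (11639, 9663), (11640, 9662), (11641, 13781),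 (11642, 9664), (11643, 11643), (11644, 9666), (11645, 13783), (11646, 11646), (11647, 11647)]
    ⟨e3 q11584 (flp_g L650322) q13684, e3 q11585 (flp_g L650914) q13754, e3 q11586 (flp_g L650922) q13755, e3 q11587 L274063 q11587, e3 q11588 L274136 q9591, e3 q11589 L275031 q11589, e3 q11590 (flp_g L281649) q9593, e3 q11591 L648736 q12800, e3 q11592 (flp_g L648224) q12786, e3 q11593 (flp_g L284049) q9597, e3 q11594 (flp_g L649766) q13612, e3 q11595 L286064 q11595, e3 q11596 L286070 q11596, e3 q11597 L286086 q9602, e3 q11598 L286640 q9605, e3 q11599 (flp_g L650985) q13761, e3 q11600 L286931 q9607, e3 q11601 L286940 q9608, e3 q11602 (flp_g L651003) q13762, e3 q11603 L287325 q11603, e3 q11604 L287360 q11604, e3 q11605 L287375 q11605, e3 q11606 L287390 q9616, e3 q11607 L287400 q9617, e3 q11608 L614500 q9696, e3 q11609 (flp_g L651027) q13764, e3 q11610 (flp_g L287629) q9620, e3 q11611 L287659 q11611, e3 q11612 L648608 q12745, e3 q11613 L648765 q12750, e3 q11614 (flp_g L289313) q9626, e3 q11615 L648640 q13169, e3 q11616 L290183 q9631,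 e3 q11617 L648973 q13138, e3 q11618 L290948 q9633, e3 q11619 L651038 q13766, e3 q11620 (flp_g L648933) q12822, e3 q11621 (flp_g L291576) q9637, e3 q11622 (flp_g L291616) q9638, e3 q11623 (flp_g L649788) q13615, e3 q11624 L292267 q11624, e3 q11625 L292274 q11625, e3 q11626 L292291 q9644, e3 q11627 L292690 q11627, e3 q11628 L292722 q11628, e3 q11629 L292736 q11629, e3 q11630 L292743 q9650, e3 q11631 L292759 q9651, e3 q11632 (flp_g L651114) q13773, e3 q11633 L293758 q11633, e3 q11634 L293797 q11634, e3 q11635 L293814 q11635, e3 q11636 L294129 q11636, e3 q11637 L294136 q11637, e3 q11638 L651144 q13778, e3 q11639 L294202 q9663, e3 q11640 (flp_g L294211) q9662, e3 q11641 (flp_g L651167) q13781, e3 q11642 (flp_g L294301) q9664, e3 q11643 L294328 q11643, e3 q11644 (flp_g L294349) q9666, e3 q11645 (flp_g L651181) q13783, e3 q11646 L294773 q11646, e3 q11647 L294807 q11647, trivial⟩ (by decide +kernel)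

theorem ce_g_182 : ∀ r, r < 64 → sm gg (Qf (11648 + r)) = Qf (tab Gen.g (11648 + r)) :=
  edges_tab (sm gg) Qf (tab Gen.g) 11648 [(11648, 11648), (11649, 12393), (11650, 11650), (11651, 11651), (11652, 12394), (11653, 11653), (11654, 11654), (11655, 9683), (11656, 12407), (11657, 9685), (11658, 11658), (11659, 11659), (11660, 11660), (11661, 11661), (11662, 12412), (11663, 11921), (11664, 12496), (11665, 11665), (11666, 11666), (11667, 11719), (11668, 9699), (11669, 9700), (11670, 13795), (11671, 9706), (11672, 12736), (11673, 9705), (11674, 9707), (11675, 9709), (11676, 13797), (11677, 9713), (11678, 11678), (11679, 11679), (11680, 9741), (11681, 9742), (11682, 11050), (11683, 11434), (11684, 13807), (11685, 9752), (11686, 9753), (11687, 10685), (11688, 11413), (11689, 11414), (11690, 11415), (11691, 11466), (11692, 13814), (11693, 13802), (11694, 13803), (11695, 11526), (11696, 9749), (11697, 9750), (11698, 13821), (11699, 13819), (11700, 13820), (11701, 9751), (11702, 13825), (11703, 13809), (11704, 9756), (11705, 9757),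 (11706, 13828), (11707, 13829), (11708, 13830), (11709, 11709), (11710, 11710), (11711, 11711)]
    ⟨e3 q11648 L294823 q11648, e3 q11649 L648455 q12393, e3 q11650 L295122 q11650, e3 q11651 L295129 q11651, e3 q11652 L648833 q12394, e3 q11653 L295177 q11653, e3 q11654 L295199 q11654, e3 q11655 L295222 q9683, e3 q11656 (flp_g L648897) q12407, e3 q11657 L295634 q9685, e3 q11658 L295694 q11658, e3 q11659 L295701 q11659, e3 q11660 L295724 q11660, e3 q11661 L295733 q11661, e3 q11662 L648829 q12412, e3 q11663 L648875 q11921, e3 q11664 L648831 q12496, e3 q11665 L295783 q11665, e3 q11666 L295791 q11666, e3 q11667 L648947 q11719, e3 q11668 L644860 q9699, e3 q11669 (flp_g L296907) q9700, e3 q11670 L651260 q13795, e3 q11671 L298226 q9706, e3 q11672 L648957 q12736, e3 q11673 (flp_g L298285) q9705, e3 q11674 (flp_g L298398) q9707, e3 q11675 (flp_g L298512) q9709, e3 q11676 (flp_g L651283) q13797, e3 q11677 L299218 q9713, e3 q11678 L350809 q11678, e3 q11679 L350821 q11679, e3 q11680 L351074 q9741, e3 q11681 L351086 q9742, e3 q11682 L648121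 q11050, e3 q11683 L648997 q11434, e3 q11684 L651414 q13807, e3 q11685 L351264 q9752, e3 q11686 L351271 q9753, e3 q11687 L636878 q10685, e3 q11688 (flp_g L648552) q11413, e3 q11689 L649023 q11414, e3 q11690 (flp_g L648550) q11415, e3 q11691 (flp_g L648632) q11466, e3 q11692 L651500 q13814, e3 q11693 (flp_g L651350) q13802, e3 q11694 (flp_g L651364) q13803, e3 q11695 (flp_g L649097) q11526, e3 q11696 L351856 q9749, e3 q11697 L351866 q9750, e3 q11698 L651595 q13821, e3 q11699 (flp_g L651576) q13819, e3 q11700 (flp_g L651589) q13820, e3 q11701 (flp_g L351895) q9751, e3 q11702 (flp_g L651648) q13825, e3 q11703 (flp_g L651438) q13809, e3 q11704 L351976 q9756, e3 q11705 L351987 q9757, e3 q11706 (flp_g L651674) q13828, e3 q11707 (flp_g L651695) q13829, e3 q11708 (flp_g L651709) q13830, e3 q11709 L352046 q11709, e3 q11710 L352063 q11710, e3 q11711 L352069 q11711, trivial⟩ (by decide +kernel)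

theorem ce_g_183 : ∀ r, r < 64 → sm gg (Qf (11712 + r)) = Qf (tab Gen.g (11712 + r)) :=
  edges_tab (sm gg) Qf (tab Gen.g) 11712 [(11712, 11712), (11713, 9765), (11714, 9766), (11715, 9767), (11716, 13839), (11717, 13840), (11718, 13841), (11719, 11667), (11720, 9773), (11721, 10604), (11722, 9779), (11723, 13845), (11724, 9783), (11725, 10610), (11726, 10611), (11727, 9786), (11728, 13850), (11729, 10621), (11730, 9802), (11731, 9792), (11732, 10623), (11733, 10612), (11734, 9795), (11735, 10613), (11736, 10609), (11737, 13849), (11738, 10615), (11739, 13854), (11740, 9804), (11741, 13858), (11742, 9852), (11743, 9806), (11744, 13862), (11745, 13863), (11746, 11746), (11747, 10606), (11748, 9858), (11749, 9810), (11750, 10659), (11751, 13868), (11752, 9862), (11753, 9813), (11754, 9866), (11755, 9818), (11756, 10666), (11757, 9871), (11758, 13871), (11759, 9821), (11760, 11393), (11761, 11761), (11762, 11762), (11763, 13856), (11764, 9823), (11765, 11394), (11766, 11395), (11767, 11767), (11768, 11768), (11769, 10643),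 (11770, 11397), (11771, 9831), (11772, 13881), (11773, 10650), (11774, 9895), (11775, 9833)]
    ⟨e3 q11712 L352081 q11712, e3 q11713 L352089 q9765, e3 q11714 L352100 q9766, e3 q11715 L352107 q9767, e3 q11716 (flp_g L651829) q13839, e3 q11717 (flp_g L651840) q13840, e3 q11718 (flp_g L651849) q13841, e3 q11719 (flp_g L648947) q11667, e3 q11720 (flp_g L352652) q9773, e3 q11721 L636145 q10604, e3 q11722 (flp_g L352888) q9779, e3 q11723 L651881 q13845, e3 q11724 (flp_g L353204) q9783, e3 q11725 L353279 q10610, e3 q11726 L644279 q10611, e3 q11727 L353297 q9786, e3 q11728 (flp_g L651981) q13850, e3 q11729 L635049 q10621, e3 q11730 L631821 q9802, e3 q11731 L353367 q9792, e3 q11732 L636242 q10623, e3 q11733 L353531 q10612, e3 q11734 (flp_g L353585) q9795, e3 q11735 L353607 q10613, e3 q11736 L641407 q10609, e3 q11737 (flp_g L651965) q13849, e3 q11738 L353708 q10615, e3 q11739 L652047 q13854, e3 q11740 (flp_g L353985) q9804, e3 q11741 (flp_g L652130) q13858, e3 q11742 L354017 q9852, e3 q11743 L354026 q9806, e3 q11744 (flp_g L652180)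 q13862, e3 q11745 (flp_g L652193) q13863, e3 q11746 L354068 q11746, e3 q11747 L640367 q10606, e3 q11748 L354088 q9858, e3 q11749 L354096 q9810, e3 q11750 L644152 q10659, e3 q11751 (flp_g L652269) q13868, e3 q11752 L354124 q9862, e3 q11753 L354135 q9813, e3 q11754 L354166 q9866, e3 q11755 L354183 q9818, e3 q11756 L631992 q10666, e3 q11757 L354214 q9871, e3 q11758 L652307 q13871, e3 q11759 (flp_g L354231) q9821, e3 q11760 L649127 q11393, e3 q11761 L354257 q11761, e3 q11762 L354270 q11762, e3 q11763 (flp_g L652094) q13856, e3 q11764 (flp_g L354282) q9823, e3 q11765 L649129 q11394, e3 q11766 (flp_g L648686) q11395, e3 q11767 L354344 q11767, e3 q11768 L354356 q11768, e3 q11769 L354365 q10643, e3 q11770 (flp_g L649205) q11397, e3 q11771 (flp_g L354423) q9831, e3 q11772 (flp_g L652479) q13881, e3 q11773 L354446 q10650, e3 q11774 L354456 q9895, e3 q11775 L354466 q9833, trivial⟩ (by decide +kernel)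

theorem ce_g_184 : ∀ r, r < 64 → sm gg (Qf (11776 + r)) = Qf (tab Gen.g (11776 + r)) :=
  edges_tab (sm gg) Qf (tab Gen.g) 11776 [(11776, 13884), (11777, 13885), (11778, 9837), (11779, 10937), (11780, 11391), (11781, 13892), (11782, 11782), (11783, 11783), (11784, 9844), (11785, 10630), (11786, 10633), (11787, 9849), (11788, 13898), (11789, 10673), (11790, 13857), (11791, 9851), (11792, 13904), (11793, 13905), (11794, 13861), (11795, 9854), (11796, 9855), (11797, 13911), (11798, 13912), (11799, 9936), (11800, 13915), (11801, 10681), (11802, 13867), (11803, 9860), (11804, 9861), (11805, 13921), (11806, 13922), (11807, 11431), (11808, 9864), (11809, 10740), (11810, 9916), (11811, 10686), (11812, 10627), (11813, 10687), (11814, 9869), (11815, 9870), (11816, 13928), (11817, 13929), (11818, 10746), (11819, 13933), (11820, 9872), (11821, 13936), (11822, 11440), (11823, 9874), (11824, 11472), (11825, 13939), (11826, 9963), (11827, 9964), (11828, 9877), (11829, 10693), (11830, 11441), (11831, 9879), (11832, 13948), (11833, 13949),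 (11834, 9883), (11835, 11093), (11836, 11473), (11837, 13955), (11838, 9978), (11839, 9979)]
    ⟨e3 q11776 (flp_g L652514) q13884, e3 q11777 (flp_g L652532) q13885, e3 q11778 L354514 q9837, e3 q11779 L648163 q10937, e3 q11780 (flp_g L649341) q11391, e3 q11781 L652620 q13892, e3 q11782 L354550 q11782, e3 q11783 L354557 q11783, e3 q11784 L354599 q9844, e3 q11785 L640407 q10630, e3 q11786 L640353 q10633, e3 q11787 (flp_g L354932) q9849, e3 q11788 (flp_g L652708) q13898, e3 q11789 L354958 q10673, e3 q11790 (flp_g L652116) q13857, e3 q11791 L354978 q9851, e3 q11792 (flp_g L652781) q13904, e3 q11793 (flp_g L652793) q13905, e3 q11794 (flp_g L652167) q13861, e3 q11795 L355014 q9854, e3 q11796 L355026 q9855, e3 q11797 (flp_g L652860) q13911, e3 q11798 (flp_g L652874) q13912, e3 q11799 L355069 q9936, e3 q11800 L652899 q13915, e3 q11801 L355092 q10681, e3 q11802 (flp_g L652249) q13867, e3 q11803 L355106 q9860, e3 q11804 L355115 q9861, e3 q11805 (flp_g L653003) q13921, e3 q11806 (flp_g L653018) q13922, e3 q11807 (flp_g L649054) q11431,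 e3 q11808 (flp_g L355144) q9864, e3 q11809 L649036 q10740, e3 q11810 L644249 q9916, e3 q11811 L355182 q10686, e3 q11812 L648985 q10627, e3 q11813 L631889 q10687, e3 q11814 L355207 q9869, e3 q11815 L355217 q9870, e3 q11816 (flp_g L653102) q13928, e3 q11817 (flp_g L653118) q13929, e3 q11818 L641224 q10746, e3 q11819 L653163 q13933, e3 q11820 (flp_g L355253) q9872, e3 q11821 (flp_g L653219) q13936, e3 q11822 (flp_g L649249) q11440, e3 q11823 L355292 q9874, e3 q11824 L648606 q11472, e3 q11825 (flp_g L653259) q13939, e3 q11826 L355316 q9963, e3 q11827 L355339 q9964, e3 q11828 (flp_g L355341) q9877, e3 q11829 L355363 q10693, e3 q11830 (flp_g L649239) q11441, e3 q11831 L355381 q9879, e3 q11832 (flp_g L653391) q13948, e3 q11833 (flp_g L653409) q13949, e3 q11834 L355426 q9883, e3 q11835 L635748 q11093, e3 q11836 (flp_g L649119) q11473, e3 q11837 L653479 q13955, e3 q11838 L355456 q9978, e3 q11839 L355462 q9979, trivial⟩ (by decide +kernel)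

theorem ce_g_185 : ∀ r, r < 64 → sm gg (Qf (11840 + r)) = Qf (tab Gen.g (11840 + r)) :=
  edges_tab (sm gg) Qf (tab Gen.g) 11840 [(11840, 13958), (11841, 10703), (11842, 9890), (11843, 11461), (11844, 10709), (11845, 13880), (11846, 9893), (11847, 13964), (11848, 13965), (11849, 13968), (11850, 10714), (11851, 10683), (11852, 9897), (11853, 9898), (11854, 13974), (11855, 13975), (11856, 13976), (11857, 11430), (11858, 9902), (11859, 9903), (11860, 13986), (11861, 13984), (11862, 13985), (11863, 9904), (11864, 13990), (11865, 10010), (11866, 9907), (11867, 13917), (11868, 10730), (11869, 10731), (11870, 10684), (11871, 9912), (11872, 9913), (11873, 11004), (11874, 13995), (11875, 10733), (11876, 13927), (11877, 10744), (11878, 10992), (11879, 11019), (11880, 10758), (11881, 11881), (11882, 9925), (11883, 14002), (11884, 14003), (11885, 14007), (11886, 10764), (11887, 11887), (11888, 9929), (11889, 9930), (11890, 14013), (11891, 14014), (11892, 14015), (11893, 11893), (11894, 11894), (11895, 9934), (11896, 9935), (11897, 14024),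 (11898, 14025), (11899, 9937), (11900, 14027), (11901, 10773), (11902, 10774), (11903, 11903)]
    ⟨e3 q11840 L653513 q13958, e3 q11841 L355483 q10703, e3 q11842 L355508 q9890, e3 q11843 L648797 q11461, e3 q11844 L355540 q10709, e3 q11845 (flp_g L652466) q13880, e3 q11846 L355554 q9893, e3 q11847 (flp_g L653611) q13964, e3 q11848 (flp_g L653626) q13965, e3 q11849 L653651 q13968, e3 q11850 L355591 q10714, e3 q11851 L642639 q10683, e3 q11852 L355607 q9897, e3 q11853 L355617 q9898, e3 q11854 (flp_g L653731) q13974, e3 q11855 (flp_g L653751) q13975, e3 q11856 (flp_g L653763) q13976, e3 q11857 (flp_g L649052) q11430, e3 q11858 L355662 q9902, e3 q11859 L355673 q9903, e3 q11860 L653873 q13986, e3 q11861 (flp_g L653854) q13984, e3 q11862 (flp_g L653868) q13985, e3 q11863 (flp_g L355695) q9904, e3 q11864 (flp_g L653912) q13990, e3 q11865 L355718 q10010, e3 q11866 (flp_g L355721) q9907, e3 q11867 (flp_g L652941) q13917, e3 q11868 L355745 q10730, e3 q11869 L355755 q10731, e3 q11870 L644241 q10684, e3 q11871 L355773 q9912, e3 q11872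 L355781 q9913, e3 q11873 L640482 q11004, e3 q11874 (flp_g L653979) q13995, e3 q11875 L641232 q10733, e3 q11876 (flp_g L653089) q13927, e3 q11877 L355853 q10744, e3 q11878 L637475 q10992, e3 q11879 L641264 q11019, e3 q11880 L356246 q10758, e3 q11881 L356258 q11881, e3 q11882 L356265 q9925, e3 q11883 (flp_g L654077) q14002, e3 q11884 (flp_g L654089) q14003, e3 q11885 L654132 q14007, e3 q11886 L356305 q10764, e3 q11887 L356315 q11887, e3 q11888 L356322 q9929, e3 q11889 L356332 q9930, e3 q11890 (flp_g L654209) q14013, e3 q11891 (flp_g L654219) q14014, e3 q11892 (flp_g L654231) q14015, e3 q11893 L356363 q11893, e3 q11894 L356374 q11894, e3 q11895 L356384 q9934, e3 q11896 L356394 q9935, e3 q11897 (flp_g L654339) q14024, e3 q11898 (flp_g L654348) q14025, e3 q11899 (flp_g L356451) q9937, e3 q11900 (flp_g L654375) q14027, e3 q11901 L356475 q10773, e3 q11902 L356484 q10774, e3 q11903 L356492 q11903, trivial⟩ (by decide +kernel)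

theorem ce_g_186 : ∀ r, r < 64 → sm gg (Qf (11904 + r)) = Qf (tab Gen.g (11904 + r)) :=
  edges_tab (sm gg) Qf (tab Gen.g) 11904 [(11904, 11904), (11905, 9942), (11906, 9943), (11907, 14035), (11908, 14036), (11909, 14037), (11910, 9946), (11911, 10880), (11912, 14041), (11913, 10783), (11914, 10023), (11915, 10784), (11916, 11916), (11917, 11917), (11918, 9953), (11919, 9954), (11920, 9955), (11921, 11663), (11922, 14051), (11923, 14052), (11924, 9956), (11925, 14058), (11926, 10795), (11927, 11927), (11928, 9958), (11929, 14064), (11930, 14065), (11931, 11931), (11932, 9961), (11933, 9962), (11934, 11481), (11935, 14070), (11936, 14071), (11937, 13942), (11938, 13943), (11939, 10802), (11940, 11940), (11941, 9966), (11942, 14080), (11943, 14081), (11944, 14085), (11945, 10808), (11946, 11946), (11947, 9970), (11948, 9971), (11949, 14091), (11950, 14092), (11951, 14093), (11952, 11952), (11953, 9975), (11954, 9976), (11955, 14101), (11956, 14099), (11957, 14100), (11958, 9977), (11959, 14105), (11960, 13957), (11961, 9980),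 (11962, 14107), (11963, 10822), (11964, 10823), (11965, 11965), (11966, 9985), (11967, 9986)]
    ⟨e3 q11904 L356503 q11904, e3 q11905 L356511 q9942, e3 q11906 L356521 q9943, e3 q11907 (flp_g L654469) q14035, e3 q11908 (flp_g L654485) q14036, e3 q11909 (flp_g L654494) q14037, e3 q11910 L356557 q9946, e3 q11911 L649088 q10880, e3 q11912 (flp_g L654545) q14041, e3 q11913 L356585 q10783, e3 q11914 L635230 q10023, e3 q11915 L356604 q10784, e3 q11916 L356610 q11916, e3 q11917 L356622 q11917, e3 q11918 L356630 q9953, e3 q11919 L356641 q9954, e3 q11920 L356647 q9955, e3 q11921 (flp_g L648875) q11663, e3 q11922 (flp_g L654671) q14051, e3 q11923 (flp_g L654681) q14052, e3 q11924 (flp_g L356692) q9956, e3 q11925 (flp_g L654756) q14058, e3 q11926 L356718 q10795, e3 q11927 L356729 q11927, e3 q11928 L356739 q9958, e3 q11929 (flp_g L654827) q14064, e3 q11930 (flp_g L654838) q14065, e3 q11931 L356769 q11931, e3 q11932 L356778 q9961, e3 q11933 L356788 q9962, e3 q11934 (flp_g L648648) q11481, e3 q11935 (flp_g L654906) q14070, e3 q11936 (flp_g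 L654923) q14071, e3 q11937 (flp_g L653309) q13942, e3 q11938 (flp_g L653321) q13943, e3 q11939 L356870 q10802, e3 q11940 L356880 q11940, e3 q11941 L356887 q9966, e3 q11942 (flp_g L655025) q14080, e3 q11943 (flp_g L655035) q14081, e3 q11944 L655076 q14085, e3 q11945 L356923 q10808, e3 q11946 L356933 q11946, e3 q11947 L356940 q9970, e3 q11948 L356950 q9971, e3 q11949 (flp_g L655147) q14091, e3 q11950 (flp_g L655163) q14092, e3 q11951 (flp_g L655175) q14093, e3 q11952 L356991 q11952, e3 q11953 L356998 q9975, e3 q11954 L357007 q9976, e3 q11955 L655265 q14101, e3 q11956 (flp_g L655246) q14099, e3 q11957 (flp_g L655258) q14100, e3 q11958 (flp_g L357032) q9977, e3 q11959 (flp_g L655317) q14105, e3 q11960 (flp_g L653508) q13957, e3 q11961 (flp_g L357056) q9980, e3 q11962 (flp_g L655339) q14107, e3 q11963 L357081 q10822, e3 q11964 L357091 q10823, e3 q11965 L357109 q11965, e3 q11966 L357116 q9985, e3 q11967 L357126 q9986, trivial⟩ (by decide +kernel)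

theorem ce_g_187 : ∀ r, r < 64 → sm gg (Qf (11968 + r)) = Qf (tab Gen.g (11968 + r)) :=
  edges_tab (sm gg) Qf (tab Gen.g) 11968 [(11968, 14111), (11969, 14112), (11970, 10831), (11971, 14116), (11972, 10833), (11973, 11973), (11974, 9991), (11975, 9992), (11976, 14122), (11977, 14123), (11978, 14124), (11979, 9993), (11980, 14131), (11981, 10842), (11982, 10843), (11983, 11983), (11984, 11984), (11985, 9998), (11986, 9999), (11987, 10000), (11988, 14140), (11989, 14141), (11990, 14142), (11991, 14152), (11992, 14144), (11993, 14145), (11994, 11994), (11995, 11995), (11996, 14158), (11997, 10006), (11998, 10007), (11999, 10005), (12000, 14162), (12001, 14160), (12002, 12002), (12003, 10009), (12004, 14166), (12005, 10012), (12006, 14031), (12007, 14167), (12008, 10866), (12009, 10867), (12010, 10868), (12011, 12011), (12012, 12012), (12013, 10019), (12014, 10020), (12015, 10021), (12016, 14178), (12017, 14179), (12018, 14180), (12019, 10024), (12020, 14045), (12021, 14047), (12022, 10882), (12023, 10883), (12024, 10884),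 (12025, 10885), (12026, 10886), (12027, 12027), (12028, 12028), (12029, 12029), (12030, 10033), (12031, 10034)]
    ⟨e3 q11968 (flp_g L655400) q14111, e3 q11969 (flp_g L655411) q14112, e3 q11970 L357158 q10831, e3 q11971 L655454 q14116, e3 q11972 L357177 q10833, e3 q11973 L357185 q11973, e3 q11974 L357192 q9991, e3 q11975 L357202 q9992, e3 q11976 (flp_g L655514) q14122, e3 q11977 (flp_g L655523) q14123, e3 q11978 (flp_g L655534) q14124, e3 q11979 (flp_g L357229) q9993, e3 q11980 (flp_g L655611) q14131, e3 q11981 L357254 q10842, e3 q11982 L357264 q10843, e3 q11983 L357270 q11983, e3 q11984 L357281 q11984, e3 q11985 L357286 q9998, e3 q11986 L357294 q9999, e3 q11987 L357304 q10000, e3 q11988 (flp_g L655694) q14140, e3 q11989 (flp_g L655704) q14141, e3 q11990 (flp_g L655716) q14142, e3 q11991 L655814 q14152, e3 q11992 (flp_g L655732) q14144, e3 q11993 (flp_g L655738) q14145, e3 q11994 L357358 q11994, e3 q11995 L357368 q11995, e3 q11996 L655880 q14158, e3 q11997 L357382 q10006, e3 q11998 L357388 q10007, e3 q11999 (flp_g L357391)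 q10005, e3 q12000 (flp_g L655916) q14162, e3 q12001 (flp_g L655899) q14160, e3 q12002 L357422 q12002, e3 q12003 L357429 q10009, e3 q12004 (flp_g L655947) q14166, e3 q12005 L357452 q10012, e3 q12006 (flp_g L654423) q14031, e3 q12007 (flp_g L655955) q14167, e3 q12008 L357477 q10866, e3 q12009 L357484 q10867, e3 q12010 L357495 q10868, e3 q12011 L357499 q12011, e3 q12012 L357509 q12012, e3 q12013 L357514 q10019, e3 q12014 L357523 q10020, e3 q12015 L357529 q10021, e3 q12016 (flp_g L656078) q14178, e3 q12017 (flp_g L656089) q14179, e3 q12018 (flp_g L656095) q14180, e3 q12019 L357572 q10024, e3 q12020 (flp_g L654598) q14045, e3 q12021 (flp_g L654625) q14047, e3 q12022 L357607 q10882, e3 q12023 L357615 q10883, e3 q12024 L357627 q10884, e3 q12025 L357634 q10885, e3 q12026 L357641 q10886, e3 q12027 L357648 q12027, e3 q12028 L357659 q12028, e3 q12029 L357665 q12029, e3 q12030 L357673 q10033, e3 q12031 L357683 q10034, trivial⟩ (by decide +kernel)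

theorem ce_g_188 : ∀ r, r < 64 → sm gg (Qf (12032 + r)) = Qf (tab Gen.g (12032 + r)) :=
  edges_tab (sm gg) Qf (tab Gen.g) 12032 [(12032, 10035), (12033, 14196), (12034, 14197), (12035, 14198), (12036, 12036), (12037, 10047), (12038, 12038), (12039, 12039), (12040, 10044), (12041, 10041), (12042, 14208), (12043, 14206), (12044, 14207), (12045, 12045), (12046, 12046), (12047, 14203), (12048, 14204), (12049, 10162), (12050, 10050), (12051, 10166), (12052, 10053), (12053, 10054), (12054, 10970), (12055, 14218), (12056, 10171), (12057, 14222), (12058, 10057), (12059, 14225), (12060, 12060), (12061, 14227), (12062, 10059), (12063, 14231), (12064, 10179), (12065, 10061), (12066, 14213), (12067, 14235), (12068, 12068), (12069, 10902), (12070, 10185), (12071, 10065), (12072, 14209), (12073, 14242), (12074, 10189), (12075, 10068), (12076, 10069), (12077, 14247), (12078, 10910), (12079, 10194), (12080, 10071), (12081, 14253), (12082, 14254), (12083, 10198), (12084, 10074), (12085, 10075), (12086, 14243), (12087, 14260), (12088, 11410),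 (12089, 12089), (12090, 12090), (12091, 14266), (12092, 10669), (12093, 10208), (12094, 10081), (12095, 10082)]
    ⟨e3 q12032 L357690 q10035, e3 q12033 (flp_g L656267) q14196, e3 q12034 (flp_g L656273) q14197, e3 q12035 (flp_g L656279) q14198, e3 q12036 L357737 q12036, e3 q12037 L614129 q10047, e3 q12038 L357773 q12038, e3 q12039 L357786 q12039, e3 q12040 L614097 q10044, e3 q12041 L357826 q10041, e3 q12042 (flp_g L656416) q14208, e3 q12043 (flp_g L656380) q14206, e3 q12044 (flp_g L656399) q14207, e3 q12045 L357912 q12045, e3 q12046 L357924 q12046, e3 q12047 (flp_g L656333) q14203, e3 q12048 (flp_g L656354) q14204, e3 q12049 L357978 q10162, e3 q12050 L357991 q10050, e3 q12051 L358017 q10166, e3 q12052 L358024 q10053, e3 q12053 L358035 q10054, e3 q12054 L637386 q10970, e3 q12055 (flp_g L656558) q14218, e3 q12056 L358065 q10171, e3 q12057 L656594 q14222, e3 q12058 (flp_g L358081) q10057, e3 q12059 (flp_g L656643) q14225, e3 q12060 L358114 q12060, e3 q12061 L656658 q14227, e3 q12062 (flp_g L358131) q10059, e3 q12063 (flp_g L656719)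 q14231, e3 q12064 L358163 q10179, e3 q12065 L358172 q10061, e3 q12066 (flp_g L656480) q14213, e3 q12067 (flp_g L656763) q14235, e3 q12068 L358211 q12068, e3 q12069 L358223 q10902, e3 q12070 L358235 q10185, e3 q12071 L358244 q10065, e3 q12072 (flp_g L656428) q14209, e3 q12073 (flp_g L656845) q14242, e3 q12074 L358275 q10189, e3 q12075 L358285 q10068, e3 q12076 (flp_g L358289) q10069, e3 q12077 (flp_g L656911) q14247, e3 q12078 L358312 q10910, e3 q12079 L358322 q10194, e3 q12080 L358330 q10071, e3 q12081 (flp_g L656969) q14253, e3 q12082 (flp_g L656977) q14254, e3 q12083 L358355 q10198, e3 q12084 L358362 q10074, e3 q12085 L358370 q10075, e3 q12086 (flp_g L656857) q14243, e3 q12087 (flp_g L657035) q14260, e3 q12088 L649381 q11410, e3 q12089 L358400 q12089, e3 q12090 L358405 q12090, e3 q12091 L657093 q14266, e3 q12092 L637289 q10669, e3 q12093 L358436 q10208, e3 q12094 L358444 q10081, e3 q12095 L358453 q10082, trivial⟩ (by decide +kernel)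

theorem ce_g_189 : ∀ r, r < 64 → sm gg (Qf (12096 + r)) = Qf (tab Gen.g (12096 + r)) :=
  edges_tab (sm gg) Qf (tab Gen.g) 12096 [(12096, 14236), (12097, 14271), (12098, 10213), (12099, 10085), (12100, 10745), (12101, 10670), (12102, 10218), (12103, 10219), (12104, 10091), (12105, 10959), (12106, 10971), (12107, 14276), (12108, 14229), (12109, 10093), (12110, 14282), (12111, 10228), (12112, 10095), (12113, 14285), (12114, 10097), (12115, 14287), (12116, 10925), (12117, 10234), (12118, 10099), (12119, 14293), (12120, 14294), (12121, 10238), (12122, 10102), (12123, 10103), (12124, 14299), (12125, 14300), (12126, 12126), (12127, 14303), (12128, 10933), (12129, 10246), (12130, 10108), (12131, 10109), (12132, 14306), (12133, 14307), (12134, 10251), (12135, 10940), (12136, 10253), (12137, 10113), (12138, 14314), (12139, 14315), (12140, 14319), (12141, 10944), (12142, 10259), (12143, 10117), (12144, 10118), (12145, 14324), (12146, 14325), (12147, 14326), (12148, 10266), (12149, 10122), (12150, 10123), (12151, 14335), (12152, 14333),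 (12153, 14334), (12154, 10124), (12155, 14339), (12156, 12156), (12157, 10127), (12158, 10960), (12159, 10280)]
    ⟨e3 q12096 (flp_g L656775) q14236, e3 q12097 (flp_g L657170) q14271, e3 q12098 L358479 q10213, e3 q12099 (flp_g L358485) q10085, e3 q12100 L640309 q10745, e3 q12101 (flp_g L641274) q10670, e3 q12102 L358525 q10218, e3 q12103 L358535 q10219, e3 q12104 L358552 q10091, e3 q12105 L637503 q10959, e3 q12106 L637488 q10971, e3 q12107 (flp_g L657224) q14276, e3 q12108 (flp_g L656697) q14229, e3 q12109 (flp_g L358589) q10093, e3 q12110 (flp_g L657304) q14282, e3 q12111 L358614 q10228, e3 q12112 L358622 q10095, e3 q12113 (flp_g L657337) q14285, e3 q12114 (flp_g L358669) q10097, e3 q12115 (flp_g L657357) q14287, e3 q12116 L358694 q10925, e3 q12117 L358704 q10234, e3 q12118 L358714 q10099, e3 q12119 (flp_g L657417) q14293, e3 q12120 (flp_g L657427) q14294, e3 q12121 L358743 q10238, e3 q12122 L358752 q10102, e3 q12123 L358763 q10103, e3 q12124 (flp_g L657479) q14299, e3 q12125 (flp_g L657494) q14300, e3 q12126 L358811 q12126,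 e3 q12127 L657517 q14303, e3 q12128 L358832 q10933, e3 q12129 L358841 q10246, e3 q12130 L358850 q10108, e3 q12131 L358861 q10109, e3 q12132 (flp_g L657556) q14306, e3 q12133 (flp_g L657569) q14307, e3 q12134 L358892 q10251, e3 q12135 L358901 q10940, e3 q12136 L358909 q10253, e3 q12137 L358915 q10113, e3 q12138 (flp_g L657640) q14314, e3 q12139 (flp_g L657648) q14315, e3 q12140 L657674 q14319, e3 q12141 L358947 q10944, e3 q12142 L358955 q10259, e3 q12143 L358961 q10117, e3 q12144 L358969 q10118, e3 q12145 (flp_g L657728) q14324, e3 q12146 (flp_g L657740) q14325, e3 q12147 (flp_g L657750) q14326, e3 q12148 L359007 q10266, e3 q12149 L359014 q10122, e3 q12150 L359023 q10123, e3 q12151 L657825 q14335, e3 q12152 (flp_g L657810) q14333, e3 q12153 (flp_g L657820) q14334, e3 q12154 (flp_g L359048) q10124, e3 q12155 (flp_g L657865) q14339, e3 q12156 L359069 q12156, e3 q12157 (flp_g L359073) q10127, e3 q12158 L359108 q10960, e3 q12159 L359126 q10280, trivial⟩ (by decide +kernel)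

theorem ce_g_190 : ∀ r, r < 64 → sm gg (Qf (12160 + r)) = Qf (tab Gen.g (12160 + r)) :=
  edges_tab (sm gg) Qf (tab Gen.g) 12160 [(12160, 10132), (12161, 10133), (12162, 10920), (12163, 14341), (12164, 14342), (12165, 10141), (12166, 10905), (12167, 10921), (12168, 10923), (12169, 10300), (12170, 10301), (12171, 10144), (12172, 14349), (12173, 14350), (12174, 10305), (12175, 10148), (12176, 14353), (12177, 14354), (12178, 10152), (12179, 10151), (12180, 14356), (12181, 10154), (12182, 10155), (12183, 14357), (12184, 14358), (12185, 11490), (12186, 10317), (12187, 10318), (12188, 12188), (12189, 10160), (12190, 10161), (12191, 14366), (12192, 14367), (12193, 14215), (12194, 10299), (12195, 12195), (12196, 12196), (12197, 14216), (12198, 14217), (12199, 10169), (12200, 10170), (12201, 14378), (12202, 14379), (12203, 14380), (12204, 14384), (12205, 10172), (12206, 14388), (12207, 14224), (12208, 10174), (12209, 14392), (12210, 10176), (12211, 14395), (12212, 10983), (12213, 14230), (12214, 10178), (12215, 14401), (12216, 14402),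 (12217, 14234), (12218, 10181), (12219, 10182), (12220, 14407), (12221, 14408), (12222, 10347), (12223, 14411)]
    ⟨e3 q12160 L359133 q10132, e3 q12161 L359143 q10133, e3 q12162 L637412 q10920, e3 q12163 (flp_g L657890) q14341, e3 q12164 (flp_g L657899) q14342, e3 q12165 L359262 q10141, e3 q12166 L637419 q10905, e3 q12167 L637238 q10921, e3 q12168 L641293 q10923, e3 q12169 L359325 q10300, e3 q12170 L359335 q10301, e3 q12171 L359382 q10144, e3 q12172 (flp_g L657990) q14349, e3 q12173 (flp_g L658011) q14350, e3 q12174 L359420 q10305, e3 q12175 L359448 q10148, e3 q12176 (flp_g L658043) q14353, e3 q12177 (flp_g L658063) q14354, e3 q12178 L614019 q10152, e3 q12179 L359488 q10151, e3 q12180 (flp_g L658091) q14356, e3 q12181 L359558 q10154, e3 q12182 L359570 q10155, e3 q12183 (flp_g L658103) q14357, e3 q12184 (flp_g L658119) q14358, e3 q12185 L649387 q11490, e3 q12186 L359603 q10317, e3 q12187 L359610 q10318, e3 q12188 L359632 q12188, e3 q12189 L359645 q10160, e3 q12190 L359656 q10161, e3 q12191 (flp_g L658215) q14366, e3 q12192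 (flp_g L658230) q14367, e3 q12193 (flp_g L656511) q14215, e3 q12194 L614367 q10299, e3 q12195 L359709 q12195, e3 q12196 L359719 q12196, e3 q12197 (flp_g L656523) q14216, e3 q12198 (flp_g L656542) q14217, e3 q12199 L359743 q10169, e3 q12200 L359754 q10170, e3 q12201 (flp_g L658349) q14378, e3 q12202 (flp_g L658360) q14379, e3 q12203 (flp_g L658367) q14380, e3 q12204 L658396 q14384, e3 q12205 (flp_g L359789) q10172, e3 q12206 (flp_g L658459) q14388, e3 q12207 (flp_g L656633) q14224, e3 q12208 L359824 q10174, e3 q12209 (flp_g L658502) q14392, e3 q12210 (flp_g L359865) q10176, e3 q12211 (flp_g L658537) q14395, e3 q12212 L359893 q10983, e3 q12213 (flp_g L656709) q14230, e3 q12214 L359913 q10178, e3 q12215 (flp_g L658595) q14401, e3 q12216 (flp_g L658605) q14402, e3 q12217 (flp_g L656750) q14234, e3 q12218 L359949 q10181, e3 q12219 L359960 q10182, e3 q12220 (flp_g L658649) q14407, e3 q12221 (flp_g L658662) q14408, e3 q12222 L359998 q10347, e3 q12223 L658679 q14411, trivial⟩ (by decide +kernel)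

theorem ce_g_191 : ∀ r, r < 64 → sm gg (Qf (12224 + r)) = Qf (tab Gen.g (12224 + r)) :=
  edges_tab (sm gg) Qf (tab Gen.g) 12224 [(12224, 10991), (12225, 14241), (12226, 10187), (12227, 10188), (12228, 14416), (12229, 14417), (12230, 14245), (12231, 10998), (12232, 14246), (12233, 10192), (12234, 14425), (12235, 14426), (12236, 14430), (12237, 11003), (12238, 14252), (12239, 10196), (12240, 10197), (12241, 14436), (12242, 14437), (12243, 14438), (12244, 14258), (12245, 14259), (12246, 10201), (12247, 10202), (12248, 14449), (12249, 14447), (12250, 14448), (12251, 10203), (12252, 14452), (12253, 10375), (12254, 10206), (12255, 14454), (12256, 11017), (12257, 11018), (12258, 14269), (12259, 14270), (12260, 10211), (12261, 10212), (12262, 14461), (12263, 14462), (12264, 14463), (12265, 10215), (12266, 11103), (12267, 14467), (12268, 10287), (12269, 11026), (12270, 11027), (12271, 10969), (12272, 14275), (12273, 10222), (12274, 10223), (12275, 10224), (12276, 14478), (12277, 14479), (12278, 14480), (12279, 14484), (12280, 10225),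 (12281, 14487), (12282, 11033), (12283, 14281), (12284, 10227), (12285, 14493), (12286, 14494), (12287, 11451)]
    ⟨e3 q12224 L360024 q10991, e3 q12225 (flp_g L656832) q14241, e3 q12226 L360040 q10187, e3 q12227 L360050 q10188, e3 q12228 (flp_g L658744) q14416, e3 q12229 (flp_g L658756) q14417, e3 q12230 (flp_g L656881) q14245, e3 q12231 L360088 q10998, e3 q12232 (flp_g L656899) q14246, e3 q12233 L360102 q10192, e3 q12234 (flp_g L658824) q14425, e3 q12235 (flp_g L658832) q14426, e3 q12236 L658854 q14430, e3 q12237 L360136 q11003, e3 q12238 (flp_g L656963) q14252, e3 q12239 L360148 q10196, e3 q12240 L360156 q10197, e3 q12241 (flp_g L658908) q14436, e3 q12242 (flp_g L658914) q14437, e3 q12243 (flp_g L658922) q14438, e3 q12244 (flp_g L657008) q14258, e3 q12245 (flp_g L657024) q14259, e3 q12246 L360195 q10201, e3 q12247 L360204 q10202, e3 q12248 L658990 q14449, e3 q12249 (flp_g L658979) q14447, e3 q12250 (flp_g L658985) q14448, e3 q12251 (flp_g L360222) q10203, e3 q12252 (flp_g L659028) q14452, e3 q12253 L360239 q10375, e3 q12254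 (flp_g L360242) q10206, e3 q12255 (flp_g L659047) q14454, e3 q12256 L360269 q11017, e3 q12257 L360280 q11018, e3 q12258 (flp_g L657141) q14269, e3 q12259 (flp_g L657156) q14270, e3 q12260 L360303 q10211, e3 q12261 L360312 q10212, e3 q12262 (flp_g L659116) q14461, e3 q12263 (flp_g L659125) q14462, e3 q12264 (flp_g L659131) q14463, e3 q12265 L360341 q10215, e3 q12266 L649144 q11103, e3 q12267 (flp_g L659169) q14467, e3 q12268 L637055 q10287, e3 q12269 L360375 q11026, e3 q12270 L360387 q11027, e3 q12271 L649154 q10969, e3 q12272 (flp_g L657211) q14275, e3 q12273 L360404 q10222, e3 q12274 L360412 q10223, e3 q12275 L360417 q10224, e3 q12276 (flp_g L659299) q14478, e3 q12277 (flp_g L659307) q14479, e3 q12278 (flp_g L659314) q14480, e3 q12279 L659351 q14484, e3 q12280 (flp_g L360449) q10225, e3 q12281 (flp_g L659398) q14487, e3 q12282 L360470 q11033, e3 q12283 (flp_g L657291) q14281, e3 q12284 L360486 q10227, e3 q12285 (flp_g L659460) q14493, e3 q12286 (flp_g L659469) q14494, e3 q12287 L649395 q11451, trivial⟩ (by decide +kernel)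

theorem ce_g_192 : ∀ r, r < 64 → sm gg (Qf (12288 + r)) = Qf (tab Gen.g (12288 + r)) :=
  edges_tab (sm gg) Qf (tab Gen.g) 12288 [(12288, 10230), (12289, 11034), (12290, 14286), (12291, 10232), (12292, 14502), (12293, 14503), (12294, 14507), (12295, 11039), (12296, 14292), (12297, 10236), (12298, 10237), (12299, 14513), (12300, 14514), (12301, 14515), (12302, 11437), (12303, 14298), (12304, 10241), (12305, 10242), (12306, 14524), (12307, 14525), (12308, 10244), (12309, 14527), (12310, 11048), (12311, 11049), (12312, 11029), (12313, 14305), (12314, 10249), (12315, 10250), (12316, 14535), (12317, 14536), (12318, 14537), (12319, 11057), (12320, 14543), (12321, 11059), (12322, 14313), (12323, 10255), (12324, 10256), (12325, 14549), (12326, 14550), (12327, 14551), (12328, 10257), (12329, 14558), (12330, 11067), (12331, 11068), (12332, 14322), (12333, 14323), (12334, 10262), (12335, 10263), (12336, 10264), (12337, 14567), (12338, 14568), (12339, 14569), (12340, 14579), (12341, 14571), (12342, 14572), (12343, 11054), (12344, 11438),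 (12345, 14585), (12346, 10270), (12347, 10271), (12348, 10269), (12349, 14589), (12350, 14587), (12351, 14338)]
    ⟨e3 q12288 L360528 q10230, e3 q12289 L360597 q11034, e3 q12290 (flp_g L657349) q14286, e3 q12291 L360613 q10232, e3 q12292 (flp_g L659547) q14502, e3 q12293 (flp_g L659557) q14503, e3 q12294 L659583 q14507, e3 q12295 L360651 q11039, e3 q12296 (flp_g L657409) q14292, e3 q12297 L360667 q10236, e3 q12298 L360677 q10237, e3 q12299 (flp_g L659645) q14513, e3 q12300 (flp_g L659653) q14514, e3 q12301 (flp_g L659663) q14515, e3 q12302 (flp_g L649231) q11437, e3 q12303 (flp_g L657468) q14298, e3 q12304 L360726 q10241, e3 q12305 L360738 q10242, e3 q12306 (flp_g L659744) q14524, e3 q12307 (flp_g L659753) q14525, e3 q12308 (flp_g L360792) q10244, e3 q12309 (flp_g L659771) q14527, e3 q12310 L360820 q11048, e3 q12311 L360832 q11049, e3 q12312 L637607 q11029, e3 q12313 (flp_g L657547) q14305, e3 q12314 L360857 q10249, e3 q12315 L360868 q10250, e3 q12316 (flp_g L659852) q14535, e3 q12317 (flp_g L659863) q14536, e3 q12318 (flp_g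 L659871) q14537, e3 q12319 L360898 q11057, e3 q12320 L659923 q14543, e3 q12321 L360915 q11059, e3 q12322 (flp_g L657634) q14313, e3 q12323 L360925 q10255, e3 q12324 L360933 q10256, e3 q12325 (flp_g L659972) q14549, e3 q12326 (flp_g L659979) q14550, e3 q12327 (flp_g L659988) q14551, e3 q12328 (flp_g L360953) q10257, e3 q12329 (flp_g L660044) q14558, e3 q12330 L360975 q11067, e3 q12331 L360985 q11068, e3 q12332 (flp_g L657706) q14322, e3 q12333 (flp_g L657722) q14323, e3 q12334 L361001 q10262, e3 q12335 L361007 q10263, e3 q12336 L361015 q10264, e3 q12337 (flp_g L660116) q14567, e3 q12338 (flp_g L660126) q14568, e3 q12339 (flp_g L660135) q14569, e3 q12340 L660204 q14579, e3 q12341 (flp_g L660147) q14571, e3 q12342 (flp_g L660151) q14572, e3 q12343 L642509 q11054, e3 q12344 (flp_g L649233) q11438, e3 q12345 L660255 q14585, e3 q12346 L361078 q10270, e3 q12347 L361085 q10271, e3 q12348 (flp_g L361088) q10269, e3 q12349 (flp_g L660289) q14589, e3 q12350 (flp_g L660275) q14587, e3 q12351 (flp_g L657855) q14338, trivial⟩ (by decide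 +kernel)

theorem ce_g_193 : ∀ r, r < 64 → sm gg (Qf (12352 + r)) = Qf (tab Gen.g (12352 + r)) :=
  edges_tab (sm gg) Qf (tab Gen.g) 12352 [(12352, 10273), (12353, 14593), (12354, 10276), (12355, 14470), (12356, 14594), (12357, 11090), (12358, 11091), (12359, 11092), (12360, 11022), (12361, 11030), (12362, 10283), (12363, 10284), (12364, 10285), (12365, 14605), (12366, 14606), (12367, 14607), (12368, 10288), (12369, 14471), (12370, 14472), (12371, 11106), (12372, 11107), (12373, 11108), (12374, 11109), (12375, 11110), (12376, 11031), (12377, 10296), (12378, 10297), (12379, 10298), (12380, 14619), (12381, 14620), (12382, 11113), (12383, 14371), (12384, 14372), (12385, 14348), (12386, 10303), (12387, 10304), (12388, 14625), (12389, 14626), (12390, 14352), (12391, 12391), (12392, 10310), (12393, 11649), (12394, 11652), (12395, 12395), (12396, 12396), (12397, 10314), (12398, 10315), (12399, 14634), (12400, 14632), (12401, 14633), (12402, 10316), (12403, 14637), (12404, 14363), (12405, 12405), (12406, 12406), (12407, 11656), (12408,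 12408), (12409, 12409), (12410, 12410), (12411, 10331), (12412, 11662), (12413, 11120), (12414, 12414), (12415, 10333)]
    ⟨e3 q12352 L361122 q10273, e3 q12353 (flp_g L660320) q14593, e3 q12354 L361143 q10276, e3 q12355 (flp_g L659208) q14470, e3 q12356 (flp_g L660333) q14594, e3 q12357 L361170 q11090, e3 q12358 L361177 q11091, e3 q12359 L361191 q11092, e3 q12360 L637602 q11022, e3 q12361 L637092 q11030, e3 q12362 L361211 q10283, e3 q12363 L361221 q10284, e3 q12364 L361228 q10285, e3 q12365 (flp_g L660439) q14605, e3 q12366 (flp_g L660451) q14606, e3 q12367 (flp_g L660460) q14607, e3 q12368 L361269 q10288, e3 q12369 (flp_g L659218) q14471, e3 q12370 (flp_g L659236) q14472, e3 q12371 L361303 q11106, e3 q12372 L361311 q11107, e3 q12373 L361322 q11108, e3 q12374 L361332 q11109, e3 q12375 L361339 q11110, e3 q12376 L637645 q11031, e3 q12377 L361366 q10296, e3 q12378 L361375 q10297, e3 q12379 L361383 q10298, e3 q12380 (flp_g L660590) q14619, e3 q12381 (flp_g L660599) q14620, e3 q12382 L649067 q11113, e3 q12383 (flp_g L658263)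 q14371, e3 q12384 (flp_g L658282) q14372, e3 q12385 (flp_g L657978) q14348, e3 q12386 L361573 q10303, e3 q12387 L361584 q10304, e3 q12388 (flp_g L660660) q14625, e3 q12389 (flp_g L660675) q14626, e3 q12390 (flp_g L658032) q14352, e3 q12391 L361711 q12391, e3 q12392 L361796 q10310, e3 q12393 (flp_g L648455) q11649, e3 q12394 (flp_g L648833) q11652, e3 q12395 L361821 q12395, e3 q12396 L361832 q12396, e3 q12397 L361841 q10314, e3 q12398 L361851 q10315, e3 q12399 L660765 q14634, e3 q12400 (flp_g L660752) q14632, e3 q12401 (flp_g L660761) q14633, e3 q12402 (flp_g L361880) q10316, e3 q12403 (flp_g L660812) q14637, e3 q12404 (flp_g L658172) q14363, e3 q12405 L361937 q12405, e3 q12406 L361956 q12406, e3 q12407 L648897 q11656, e3 q12408 L362045 q12408, e3 q12409 L362057 q12409, e3 q12410 L362076 q12410, e3 q12411 L362096 q10331, e3 q12412 (flp_g L648829) q11662, e3 q12413 L362173 q11120, e3 q12414 L362184 q12414, e3 q12415 L362192 q10333, trivial⟩ (by decide +kernel)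

theorem ce_g_194 : ∀ r, r < 64 → sm gg (Qf (12416 + r)) = Qf (tab Gen.g (12416 + r)) :=
  edges_tab (sm gg) Qf (tab Gen.g) 12416 [(12416, 14644), (12417, 14645), (12418, 12418), (12419, 10336), (12420, 14649), (12421, 11123), (12422, 12422), (12423, 10340), (12424, 10341), (12425, 14655), (12426, 14656), (12427, 12427), (12428, 12428), (12429, 10345), (12430, 10346), (12431, 14662), (12432, 14663), (12433, 10348), (12434, 14665), (12435, 11131), (12436, 12436), (12437, 11133), (12438, 14669), (12439, 11135), (12440, 12440), (12441, 10356), (12442, 10357), (12443, 14675), (12444, 14676), (12445, 10358), (12446, 14679), (12447, 11143), (12448, 11144), (12449, 12449), (12450, 12450), (12451, 10363), (12452, 10364), (12453, 10365), (12454, 14688), (12455, 14689), (12456, 14690), (12457, 14697), (12458, 14692), (12459, 14693), (12460, 12460), (12461, 12461), (12462, 14703), (12463, 10371), (12464, 10372), (12465, 10370), (12466, 14707), (12467, 14705), (12468, 12468), (12469, 10374), (12470, 14711), (12471, 10377), (12472, 14712),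 (12473, 14713), (12474, 11162), (12475, 11163), (12476, 11164), (12477, 12477), (12478, 12478), (12479, 10384)]
    ⟨e3 q12416 (flp_g L660890) q14644, e3 q12417 (flp_g L660903) q14645, e3 q12418 L362218 q12418, e3 q12419 L362233 q10336, e3 q12420 L660944 q14649, e3 q12421 L362368 q11123, e3 q12422 L362378 q12422, e3 q12423 L362385 q10340, e3 q12424 L362395 q10341, e3 q12425 (flp_g L661021) q14655, e3 q12426 (flp_g L661035) q14656, e3 q12427 L362428 q12427, e3 q12428 L362438 q12428, e3 q12429 L362447 q10345, e3 q12430 L362456 q10346, e3 q12431 (flp_g L661091) q14662, e3 q12432 (flp_g L661097) q14663, e3 q12433 (flp_g L362507) q10348, e3 q12434 (flp_g L661116) q14665, e3 q12435 L362546 q11131, e3 q12436 L362567 q12436, e3 q12437 L362622 q11133, e3 q12438 L661157 q14669, e3 q12439 L362643 q11135, e3 q12440 L362650 q12440, e3 q12441 L362655 q10356, e3 q12442 L362664 q10357, e3 q12443 (flp_g L661233) q14675, e3 q12444 (flp_g L661246) q14676, e3 q12445 (flp_g L362690) q10358, e3 q12446 (flp_g L661276) q14679, e3 q12447 L362711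 q11143, e3 q12448 L362719 q11144, e3 q12449 L362725 q12449, e3 q12450 L362734 q12450, e3 q12451 L362741 q10363, e3 q12452 L362747 q10364, e3 q12453 L362755 q10365, e3 q12454 (flp_g L661355) q14688, e3 q12455 (flp_g L661373) q14689, e3 q12456 (flp_g L661389) q14690, e3 q12457 L661448 q14697, e3 q12458 (flp_g L661401) q14692, e3 q12459 (flp_g L661405) q14693, e3 q12460 L362801 q12460, e3 q12461 L362809 q12461, e3 q12462 L661496 q14703, e3 q12463 L362819 q10371, e3 q12464 L362823 q10372, e3 q12465 (flp_g L362828) q10370, e3 q12466 (flp_g L661532) q14707, e3 q12467 (flp_g L661511) q14705, e3 q12468 L362851 q12468, e3 q12469 L362856 q10374, e3 q12470 (flp_g L661569) q14711, e3 q12471 L362877 q10377, e3 q12472 (flp_g L661579) q14712, e3 q12473 (flp_g L661592) q14713, e3 q12474 L362905 q11162, e3 q12475 L362913 q11163, e3 q12476 L362925 q11164, e3 q12477 L362929 q12477, e3 q12478 L362940 q12478, e3 q12479 L362945 q10384, trivial⟩ (by decide +kernel)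

theorem ce_g_195 : ∀ r, r < 64 → sm gg (Qf (12480 + r)) = Qf (tab Gen.g (12480 + r)) :=
  edges_tab (sm gg) Qf (tab Gen.g) 12480 [(12480, 10385), (12481, 14722), (12482, 10387), (12483, 10388), (12484, 11330), (12485, 11329), (12486, 14723), (12487, 11176), (12488, 11177), (12489, 11178), (12490, 11179), (12491, 11180), (12492, 12492), (12493, 12493), (12494, 10398), (12495, 10399), (12496, 11664), (12497, 14728), (12498, 14729), (12499, 11190), (12500, 12500), (12501, 10401), (12502, 14734), (12503, 14735), (12504, 14737), (12505, 11157), (12506, 12506), (12507, 10405), (12508, 10406), (12509, 14743), (12510, 14744), (12511, 12511), (12512, 11195), (12513, 14749), (12514, 11197), (12515, 12515), (12516, 10412), (12517, 10413), (12518, 14755), (12519, 14756), (12520, 10414), (12521, 14759), (12522, 11204), (12523, 11205), (12524, 12524), (12525, 12525), (12526, 10419), (12527, 10420), (12528, 10421), (12529, 14768), (12530, 14769), (12531, 14770), (12532, 14772), (12533, 14773), (12534, 12534), (12535, 12535), (12536, 14023),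 (12537, 10426), (12538, 10427), (12539, 14782), (12540, 10429), (12541, 14784), (12542, 14785), (12543, 11216)]
    ⟨e3 q12480 L362955 q10385, e3 q12481 (flp_g L661725) q14722, e3 q12482 L362998 q10387, e3 q12483 L363008 q10388, e3 q12484 L615498 q11330, e3 q12485 L615560 q11329, e3 q12486 (flp_g L661741) q14723, e3 q12487 L363043 q11176, e3 q12488 L363052 q11177, e3 q12489 L363063 q11178, e3 q12490 L363070 q11179, e3 q12491 L363077 q11180, e3 q12492 L363095 q12492, e3 q12493 L363101 q12493, e3 q12494 L363119 q10398, e3 q12495 L363126 q10399, e3 q12496 (flp_g L648831) q11664, e3 q12497 (flp_g L661822) q14728, e3 q12498 (flp_g L661831) q14729, e3 q12499 L363181 q11190, e3 q12500 L363190 q12500, e3 q12501 L363196 q10401, e3 q12502 (flp_g L661894) q14734, e3 q12503 (flp_g L661905) q14735, e3 q12504 L661918 q14737, e3 q12505 (flp_g L552177) q11157, e3 q12506 L363238 q12506, e3 q12507 L363245 q10405, e3 q12508 L363254 q10406, e3 q12509 (flp_g L661973) q14743, e3 q12510 (flp_g L661982) q14744, e3 q12511 L363291 q12511, e3 q12512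 L363414 q11195, e3 q12513 L662025 q14749, e3 q12514 L363435 q11197, e3 q12515 L363444 q12515, e3 q12516 L363451 q10412, e3 q12517 L363462 q10413, e3 q12518 (flp_g L662105) q14755, e3 q12519 (flp_g L662118) q14756, e3 q12520 (flp_g L363492) q10414, e3 q12521 (flp_g L662150) q14759, e3 q12522 L363517 q11204, e3 q12523 L363527 q11205, e3 q12524 L363533 q12524, e3 q12525 L363544 q12525, e3 q12526 L363551 q10419, e3 q12527 L363559 q10420, e3 q12528 L363569 q10421, e3 q12529 (flp_g L662235) q14768, e3 q12530 (flp_g L662247) q14769, e3 q12531 (flp_g L662260) q14770, e3 q12532 (flp_g L662276) q14772, e3 q12533 (flp_g L662282) q14773, e3 q12534 L363627 q12534, e3 q12535 L363638 q12535, e3 q12536 (flp_g L654328) q14023, e3 q12537 L363654 q10426, e3 q12538 L363661 q10427, e3 q12539 (flp_g L662364) q14782, e3 q12540 L363732 q10429, e3 q12541 (flp_g L662379) q14784, e3 q12542 (flp_g L662391) q14785, e3 q12543 L363762 q11216, trivial⟩ (by decide +kernel)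

theorem ce_g_196 : ∀ r, r < 64 → sm gg (Qf (12544 + r)) = Qf (tab Gen.g (12544 + r)) :=
  edges_tab (sm gg) Qf (tab Gen.g) 12544 [(12544, 11217), (12545, 11218), (12546, 12546), (12547, 12547), (12548, 10436), (12549, 10437), (12550, 14794), (12551, 14795), (12552, 14797), (12553, 11226), (12554, 10439), (12555, 14801), (12556, 11229), (12557, 11230), (12558, 12558), (12559, 12559), (12560, 10444), (12561, 10445), (12562, 10446), (12563, 14810), (12564, 14811), (12565, 14812), (12566, 14820), (12567, 14814), (12568, 14815), (12569, 10448), (12570, 14823), (12571, 14824), (12572, 11245), (12573, 11246), (12574, 11247), (12575, 12575), (12576, 12576), (12577, 12577), (12578, 10456), (12579, 10457), (12580, 10458), (12581, 14846), (12582, 10460), (12583, 10461), (12584, 14840), (12585, 14841), (12586, 14842), (12587, 14853), (12588, 14844), (12589, 14845), (12590, 10459), (12591, 14858), (12592, 14848), (12593, 14861), (12594, 12594), (12595, 12595), (12596, 10464), (12597, 14865), (12598, 10469), (12599, 12599), (12600, 10468),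 (12601, 14869), (12602, 14867), (12603, 12603), (12604, 10472), (12605, 10474), (12606, 10475), (12607, 14873)]
    ⟨e3 q12544 L363771 q11217, e3 q12545 L363785 q11218, e3 q12546 L363792 q12546, e3 q12547 L363805 q12547, e3 q12548 L363811 q10436, e3 q12549 L363823 q10437, e3 q12550 (flp_g L662494) q14794, e3 q12551 (flp_g L662508) q14795, e3 q12552 L662527 q14797, e3 q12553 L363881 q11226, e3 q12554 (flp_g L363883) q10439, e3 q12555 (flp_g L662571) q14801, e3 q12556 L363904 q11229, e3 q12557 L363914 q11230, e3 q12558 L363918 q12558, e3 q12559 L363928 q12559, e3 q12560 L363933 q10444, e3 q12561 L363941 q10445, e3 q12562 L363950 q10446, e3 q12563 (flp_g L662647) q14810, e3 q12564 (flp_g L662657) q14811, e3 q12565 (flp_g L662671) q14812, e3 q12566 L662739 q14820, e3 q12567 (flp_g L662683) q14814, e3 q12568 (flp_g L662687) q14815, e3 q12569 L364003 q10448, e3 q12570 (flp_g L662764) q14823, e3 q12571 (flp_g L662773) q14824, e3 q12572 L364025 q11245, e3 q12573 L364031 q11246, e3 q12574 L364039 q11247, e3 q12575 L364043 q12575,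 e3 q12576 L364050 q12576, e3 q12577 L364059 q12577, e3 q12578 L364066 q10456, e3 q12579 L364072 q10457, e3 q12580 L364081 q10458, e3 q12581 L662922 q14846, e3 q12582 L364093 q10460, e3 q12583 L364097 q10461, e3 q12584 (flp_g L662885) q14840, e3 q12585 (flp_g L662891) q14841, e3 q12586 (flp_g L662900) q14842, e3 q12587 L662978 q14853, e3 q12588 (flp_g L662914) q14844, e3 q12589 (flp_g L662920) q14845, e3 q12590 (flp_g L364144) q10459, e3 q12591 (flp_g L663028) q14858, e3 q12592 (flp_g L662938) q14848, e3 q12593 L663042 q14861, e3 q12594 L364175 q12594, e3 q12595 L364181 q12595, e3 q12596 (flp_g L364185) q10464, e3 q12597 (flp_g L663074) q14865, e3 q12598 L364201 q10469, e3 q12599 L364210 q12599, e3 q12600 L364216 q10468, e3 q12601 (flp_g L663100) q14869, e3 q12602 (flp_g L663084) q14867, e3 q12603 L364236 q12603, e3 q12604 L364242 q10472, e3 q12605 L364265 q10474, e3 q12606 L364276 q10475, e3 q12607 (flp_g L663128) q14873, trivial⟩ (by decide +kernel)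

theorem ce_g_197 : ∀ r, r < 64 → sm gg (Qf (12608 + r)) = Qf (tab Gen.g (12608 + r)) :=
  edges_tab (sm gg) Qf (tab Gen.g) 12608 [(12608, 14874), (12609, 14875), (12610, 11278), (12611, 11279), (12612, 11280), (12613, 11281), (12614, 11282), (12615, 12615), (12616, 12616), (12617, 12617), (12618, 10484), (12619, 10485), (12620, 10486), (12621, 14891), (12622, 14892), (12623, 14893), (12624, 10489), (12625, 10490), (12626, 10491), (12627, 14897), (12628, 10588), (12629, 14898), (12630, 14899), (12631, 14900), (12632, 11297), (12633, 11298), (12634, 11299), (12635, 11300), (12636, 11296), (12637, 11295), (12638, 11294), (12639, 12639), (12640, 12640), (12641, 12641), (12642, 10503), (12643, 10504), (12644, 10505), (12645, 14915), (12646, 14916), (12647, 14917), (12648, 14918), (12649, 11310), (12650, 10509), (12651, 14922), (12652, 11313), (12653, 12653), (12654, 10515), (12655, 14730), (12656, 11328), (12657, 11318), (12658, 11319), (12659, 10531), (12660, 10532), (12661, 11325), (12662, 11340), (12663, 10534), (12664, 14906),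 (12665, 11342), (12666, 12666), (12667, 10540), (12668, 14928), (12669, 14929), (12670, 11347), (12671, 11348)]
    ⟨e3 q12608 (flp_g L663138) q14874, e3 q12609 (flp_g L663153) q14875, e3 q12610 L364311 q11278, e3 q12611 L364321 q11279, e3 q12612 L364332 q11280, e3 q12613 L364341 q11281, e3 q12614 L364349 q11282, e3 q12615 L364356 q12615, e3 q12616 L364368 q12616, e3 q12617 L364376 q12617, e3 q12618 L364386 q10484, e3 q12619 L364397 q10485, e3 q12620 L364404 q10486, e3 q12621 (flp_g L663318) q14891, e3 q12622 (flp_g L663327) q14892, e3 q12623 (flp_g L663335) q14893, e3 q12624 L364441 q10489, e3 q12625 L364450 q10490, e3 q12626 L364462 q10491, e3 q12627 (flp_g L663379) q14897, e3 q12628 L646509 q10588, e3 q12629 (flp_g L663395) q14898, e3 q12630 (flp_g L663410) q14899, e3 q12631 (flp_g L663424) q14900, e3 q12632 L364514 q11297, e3 q12633 L364523 q11298, e3 q12634 L364534 q11299, e3 q12635 L364540 q11300, e3 q12636 (flp_g L646940) q11296, e3 q12637 L646956 q11295, e3 q12638 L646920 q11294, e3 q12639 L364576 q12639, e3 q12640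 L364587 q12640, e3 q12641 L364596 q12641, e3 q12642 L364607 q10503, e3 q12643 L364614 q10504, e3 q12644 L364621 q10505, e3 q12645 (flp_g L663599) q14915, e3 q12646 (flp_g L663607) q14916, e3 q12647 (flp_g L663614) q14917, e3 q12648 L663619 q14918, e3 q12649 L367136 q11310, e3 q12650 (flp_g L367138) q10509, e3 q12651 (flp_g L663672) q14922, e3 q12652 L367169 q11313, e3 q12653 L367185 q12653, e3 q12654 L367543 q10515, e3 q12655 (flp_g L661845) q14730, e3 q12656 L615896 q11328, e3 q12657 L367586 q11318, e3 q12658 L367594 q11319, e3 q12659 L367849 q10531, e3 q12660 L367854 q10532, e3 q12661 L615633 q11325, e3 q12662 L368265 q11340, e3 q12663 (flp_g L368267) q10534, e3 q12664 (flp_g L663498) q14906, e3 q12665 L368300 q11342, e3 q12666 L368316 q12666, e3 q12667 L368635 q10540, e3 q12668 (flp_g L663752) q14928, e3 q12669 (flp_g L663767) q14929, e3 q12670 L368682 q11347, e3 q12671 L368691 q11348, trivial⟩ (by decide +kernel)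

theorem ce_g_198 : ∀ r, r < 64 → sm gg (Qf (12672 + r)) = Qf (tab Gen.g (12672 + r)) :=
  edges_tab (sm gg) Qf (tab Gen.g) 12672 [(12672, 10545), (12673, 10546), (12674, 14934), (12675, 11352), (12676, 11353), (12677, 10549), (12678, 14904), (12679, 14940), (12680, 11357), (12681, 11358), (12682, 11359), (12683, 12683), (12684, 12684), (12685, 10556), (12686, 10557), (12687, 14949), (12688, 14950), (12689, 10559), (12690, 14952), (12691, 11369), (12692, 11370), (12693, 12693), (12694, 10564), (12695, 10567), (12696, 10568), (12697, 10569), (12698, 14957), (12699, 14958), (12700, 14959), (12701, 10587), (12702, 14902), (12703, 11377), (12704, 11376), (12705, 11375), (12706, 11378), (12707, 11374), (12708, 11379), (12709, 11293), (12710, 12710), (12711, 12711), (12712, 12712), (12713, 10581), (12714, 10582), (12715, 10583), (12716, 14973), (12717, 14974), (12718, 14975), (12719, 11368), (12720, 11346), (12721, 11276), (12722, 11104), (12723, 10879), (12724, 12724), (12725, 12725), (12726, 12726), (12727, 10600), (12728, 10601),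 (12729, 10602), (12730, 10704), (12731, 13847), (12732, 13852), (12733, 10614), (12734, 13848), (12735, 10680)]
    ⟨e3 q12672 L368754 q10545, e3 q12673 (flp_g L368802) q10546, e3 q12674 (flp_g L663845) q14934, e3 q12675 L368822 q11352, e3 q12676 L368831 q11353, e3 q12677 L368837 q10549, e3 q12678 (flp_g L663473) q14904, e3 q12679 (flp_g L663900) q14940, e3 q12680 L368861 q11357, e3 q12681 L368868 q11358, e3 q12682 L368879 q11359, e3 q12683 L368883 q12683, e3 q12684 L368902 q12684, e3 q12685 L368907 q10556, e3 q12686 L368924 q10557, e3 q12687 (flp_g L664011) q14949, e3 q12688 (flp_g L664026) q14950, e3 q12689 L369009 q10559, e3 q12690 (flp_g L664051) q14952, e3 q12691 L369053 q11369, e3 q12692 L369060 q11370, e3 q12693 L369098 q12693, e3 q12694 L369147 q10564, e3 q12695 L369311 q10567, e3 q12696 L369319 q10568, e3 q12697 L369331 q10569, e3 q12698 (flp_g L664124) q14957, e3 q12699 (flp_g L664142) q14958, e3 q12700 (flp_g L664165) q14959, e3 q12701 L646864 q10587, e3 q12702 (flp_g L663451) q14902, e3 q12703 L369382 q11377,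 e3 q12704 (flp_g L629257) q11376, e3 q12705 L646428 q11375, e3 q12706 L369406 q11378, e3 q12707 L646462 q11374, e3 q12708 L369424 q11379, e3 q12709 (flp_g L646910) q11293, e3 q12710 L369440 q12710, e3 q12711 L369450 q12711, e3 q12712 L369458 q12712, e3 q12713 L369468 q10581, e3 q12714 L369477 q10582, e3 q12715 L369481 q10583, e3 q12716 (flp_g L664338) q14973, e3 q12717 (flp_g L664344) q14974, e3 q12718 (flp_g L664354) q14975, e3 q12719 L648700 q11368, e3 q12720 L645869 q11346, e3 q12721 (flp_g L647015) q11276, e3 q12722 (flp_g L647002) q11104, e3 q12723 (flp_g L646897) q10879, e3 q12724 L369710 q12724, e3 q12725 L369718 q12725, e3 q12726 L369724 q12726, e3 q12727 L369734 q10600, e3 q12728 L369740 q10601, e3 q12729 L369746 q10602, e3 q12730 L621484 q10704, e3 q12731 (flp_g L651933) q13847, e3 q12732 (flp_g L652027) q13852, e3 q12733 (flp_g L373225) q10614, e3 q12734 (flp_g L651950) q13848, e3 q12735 L641004 q10680, trivial⟩ (by decide +kernel)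

theorem ce_g_199 : ∀ r, r < 64 → sm gg (Qf (12736 + r)) = Qf (tab Gen.g (12736 + r)) :=
  edges_tab (sm gg) Qf (tab Gen.g) 12736 [(12736, 11672), (12737, 10619), (12738, 13919), (12739, 10626), (12740, 10638), (12741, 13886), (12742, 13895), (12743, 10632), (12744, 10909), (12745, 11612), (12746, 14981), (12747, 14982), (12748, 10641), (12749, 10924), (12750, 11613), (12751, 11396), (12752, 10645), (12753, 10646), (12754, 14990), (12755, 10708), (12756, 10949), (12757, 10954), (12758, 13869), (12759, 10652), (12760, 10653), (12761, 14994), (12762, 10941), (12763, 14995), (12764, 14312), (12765, 10942), (12766, 10657), (12767, 15004), (12768, 13870), (12769, 10732), (12770, 10663), (12771, 10664), (12772, 14251), (12773, 15006), (12774, 14240), (12775, 14268), (12776, 13896), (12777, 10672), (12778, 15010), (12779, 15011), (12780, 13944), (12781, 13902), (12782, 10676), (12783, 10677), (12784, 13972), (12785, 15016), (12786, 11592), (12787, 13918), (12788, 13973), (12789, 13920), (12790, 13934), (12791, 10690), (12792, 15021),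 (12793, 15022), (12794, 10692), (12795, 13947), (12796, 10695), (12797, 10696), (12798, 15026), (12799, 15027)]
    ⟨e3 q12736 (flp_g L648957) q11672, e3 q12737 L373287 q10619, e3 q12738 (flp_g L652971) q13919, e3 q12739 L373376 q10626, e3 q12740 L621541 q10638, e3 q12741 (flp_g L652542) q13886, e3 q12742 (flp_g L652660) q13895, e3 q12743 L374076 q10632, e3 q12744 L612338 q10909, e3 q12745 (flp_g L648608) q11612, e3 q12746 (flp_g L664420) q14981, e3 q12747 (flp_g L664438) q14982, e3 q12748 L374477 q10641, e3 q12749 L612171 q10924, e3 q12750 (flp_g L648765) q11613, e3 q12751 (flp_g L649207) q11396, e3 q12752 L374560 q10645, e3 q12753 L374570 q10646, e3 q12754 (flp_g L664548) q14990, e3 q12755 L374596 q10708, e3 q12756 L621655 q10949, e3 q12757 L621676 q10954, e3 q12758 (flp_g L652282) q13869, e3 q12759 L374674 q10652, e3 q12760 L374684 q10653, e3 q12761 (flp_g L664593) q14994, e3 q12762 L612161 q10941, e3 q12763 (flp_g L664609) q14995, e3 q12764 (flp_g L657628) q14312, e3 q12765 L612004 q10942, e3 q12766 (flp_g L374781) q10657,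 e3 q12767 (flp_g L664699) q15004, e3 q12768 (flp_g L652301) q13870, e3 q12769 L374843 q10732, e3 q12770 L374861 q10663, e3 q12771 L374870 q10664, e3 q12772 (flp_g L656955) q14251, e3 q12773 (flp_g L664721) q15006, e3 q12774 (flp_g L656821) q14240, e3 q12775 (flp_g L657129) q14268, e3 q12776 (flp_g L652678) q13896, e3 q12777 L375817 q10672, e3 q12778 (flp_g L664770) q15010, e3 q12779 (flp_g L664788) q15011, e3 q12780 (flp_g L653340) q13944, e3 q12781 (flp_g L652761) q13902, e3 q12782 L375869 q10676, e3 q12783 L375879 q10677, e3 q12784 (flp_g L653705) q13972, e3 q12785 (flp_g L664844) q15016, e3 q12786 L648224 q11592, e3 q12787 (flp_g L652959) q13918, e3 q12788 (flp_g L653723) q13973, e3 q12789 (flp_g L652992) q13920, e3 q12790 (flp_g L653193) q13934, e3 q12791 L376215 q10690, e3 q12792 (flp_g L664893) q15021, e3 q12793 (flp_g L664910) q15022, e3 q12794 L376264 q10692, e3 q12795 (flp_g L653383) q13947, e3 q12796 L376411 q10695, e3 q12797 L376421 q10696, e3 q12798 (flp_g L664950) q15026, e3 q12799 (flp_g L664964) q15027, trivial⟩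 (by decide +kernel)

theorem ce_g_200 : ∀ r, r < 64 → sm gg (Qf (12800 + r)) = Qf (tab Gen.g (12800 + r)) :=
  edges_tab (sm gg) Qf (tab Gen.g) 12800 [(12800, 11591), (12801, 10700), (12802, 10701), (12803, 15031), (12804, 10702), (12805, 15032), (12806, 11460), (12807, 13959), (12808, 14980), (12809, 13960), (12810, 10707), (12811, 15037), (12812, 13962), (12813, 10711), (12814, 10712), (12815, 11069), (12816, 15040), (12817, 10713), (12818, 15044), (12819, 13970), (12820, 13971), (12821, 11063), (12822, 11620), (12823, 10718), (12824, 10719), (12825, 10720), (12826, 15052), (12827, 15053), (12828, 15054), (12829, 15063), (12830, 15056), (12831, 15057), (12832, 15066), (12833, 10725), (12834, 10724), (12835, 15069), (12836, 15003), (12837, 10727), (12838, 10729), (12839, 13916), (12840, 15071), (12841, 13993), (12842, 10772), (12843, 13994), (12844, 15005), (12845, 13925), (12846, 10736), (12847, 10737), (12848, 10738), (12849, 15080), (12850, 15081), (12851, 10741), (12852, 13926), (12853, 11016), (12854, 11025), (12855,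 10782), (12856, 14267), (12857, 13932), (12858, 10750), (12859, 10751), (12860, 10752), (12861, 15088), (12862, 15089), (12863, 14476)]
    ⟨e3 q12800 (flp_g L648736) q11591, e3 q12801 L376467 q10700, e3 q12802 L376480 q10701, e3 q12803 (flp_g L665004) q15031, e3 q12804 (flp_g L376534) q10702, e3 q12805 (flp_g L665019) q15032, e3 q12806 L649275 q11460, e3 q12807 (flp_g L653541) q13959, e3 q12808 (flp_g L664405) q14980, e3 q12809 (flp_g L653558) q13960, e3 q12810 L376600 q10707, e3 q12811 (flp_g L665086) q15037, e3 q12812 (flp_g L653592) q13962, e3 q12813 L376653 q10711, e3 q12814 L376663 q10712, e3 q12815 L617533 q11069, e3 q12816 (flp_g L665124) q15040, e3 q12817 (flp_g L376683) q10713, e3 q12818 (flp_g L665166) q15044, e3 q12819 (flp_g L653685) q13970, e3 q12820 (flp_g L653697) q13971, e3 q12821 L611617 q11063, e3 q12822 L648933 q11620, e3 q12823 L376737 q10718, e3 q12824 L376745 q10719, e3 q12825 L376755 q10720, e3 q12826 (flp_g L665238) q15052, e3 q12827 (flp_g L665246) q15053, e3 q12828 (flp_g L665259) q15054, e3 q12829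 L665320 q15063, e3 q12830 (flp_g L665279) q15056, e3 q12831 (flp_g L665287) q15057, e3 q12832 L665340 q15066, e3 q12833 L376828 q10725, e3 q12834 (flp_g L376841) q10724, e3 q12835 (flp_g L665378) q15069, e3 q12836 (flp_g L664689) q15003, e3 q12837 L376884 q10727, e3 q12838 L376909 q10729, e3 q12839 (flp_g L652927) q13916, e3 q12840 (flp_g L665401) q15071, e3 q12841 (flp_g L653943) q13993, e3 q12842 L635162 q10772, e3 q12843 (flp_g L653963) q13994, e3 q12844 (flp_g L664708) q15005, e3 q12845 (flp_g L653053) q13925, e3 q12846 L376965 q10736, e3 q12847 L376974 q10737, e3 q12848 L376981 q10738, e3 q12849 (flp_g L665488) q15080, e3 q12850 (flp_g L665495) q15081, e3 q12851 L377012 q10741, e3 q12852 (flp_g L653072) q13926, e3 q12853 L641035 q11016, e3 q12854 L634920 q11025, e3 q12855 L635145 q10782, e3 q12856 (flp_g L657114) q14267, e3 q12857 (flp_g L653155) q13932, e3 q12858 L377102 q10750, e3 q12859 L377112 q10751, e3 q12860 L377120 q10752, e3 q12861 (flp_g L665570) q15088, e3 q12862 (flp_g L665579) q15089, e3 q12863 (flp_g L659279)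 q14476, trivial⟩ (by decide +kernel)

theorem ce_g_201 : ∀ r, r < 64 → sm gg (Qf (12864 + r)) = Qf (tab Gen.g (12864 + r)) :=
  edges_tab (sm gg) Qf (tab Gen.g) 12864 [(12864, 10755), (12865, 10756), (12866, 10757), (12867, 15093), (12868, 15094), (12869, 15095), (12870, 13998), (12871, 14076), (12872, 14000), (12873, 12873), (12874, 10761), (12875, 10762), (12876, 15105), (12877, 10763), (12878, 15075), (12879, 14009), (12880, 14010), (12881, 12881), (12882, 12882), (12883, 10768), (12884, 10769), (12885, 15114), (12886, 15115), (12887, 15116), (12888, 15077), (12889, 14030), (12890, 14032), (12891, 12891), (12892, 12892), (12893, 10779), (12894, 10780), (12895, 10781), (12896, 15126), (12897, 15127), (12898, 15128), (12899, 14044), (12900, 14046), (12901, 14048), (12902, 12902), (12903, 12903), (12904, 12904), (12905, 10790), (12906, 10791), (12907, 10792), (12908, 15138), (12909, 15139), (12910, 15140), (12911, 14056), (12912, 10794), (12913, 15145), (12914, 14421), (12915, 14062), (12916, 12916), (12917, 10798), (12918,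 10799), (12919, 15151), (12920, 12920), (12921, 14078), (12922, 12922), (12923, 10805), (12924, 10806), (12925, 15157), (12926, 15158), (12927, 10807)]
    ⟨e3 q12864 L377817 q10755, e3 q12865 L377828 q10756, e3 q12866 L377835 q10757, e3 q12867 (flp_g L665626) q15093, e3 q12868 (flp_g L665639) q15094, e3 q12869 (flp_g L665648) q15095, e3 q12870 (flp_g L654029) q13998, e3 q12871 (flp_g L654985) q14076, e3 q12872 (flp_g L654058) q14000, e3 q12873 L378384 q12873, e3 q12874 L378391 q10761, e3 q12875 L378402 q10762, e3 q12876 (flp_g L665766) q15105, e3 q12877 (flp_g L378428) q10763, e3 q12878 (flp_g L665441) q15075, e3 q12879 (flp_g L654165) q14009, e3 q12880 (flp_g L654177) q14010, e3 q12881 L378467 q12881, e3 q12882 L378478 q12882, e3 q12883 L378485 q10768, e3 q12884 L378503 q10769, e3 q12885 (flp_g L665861) q15114, e3 q12886 (flp_g L665875) q15115, e3 q12887 (flp_g L665885) q15116, e3 q12888 (flp_g L665463) q15077, e3 q12889 (flp_g L654414) q14030, e3 q12890 (flp_g L654441) q14032, e3 q12891 L378692 q12891, e3 q12892 L378702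 q12892, e3 q12893 L378707 q10779, e3 q12894 L378716 q10780, e3 q12895 L378722 q10781, e3 q12896 (flp_g L665991) q15126, e3 q12897 (flp_g L666004) q15127, e3 q12898 (flp_g L666014) q15128, e3 q12899 (flp_g L654586) q14044, e3 q12900 (flp_g L654615) q14046, e3 q12901 (flp_g L654634) q14048, e3 q12902 L378827 q12902, e3 q12903 L378838 q12903, e3 q12904 L378844 q12904, e3 q12905 L378854 q10790, e3 q12906 L378864 q10791, e3 q12907 L378871 q10792, e3 q12908 (flp_g L666108) q15138, e3 q12909 (flp_g L666114) q15139, e3 q12910 (flp_g L666120) q15140, e3 q12911 (flp_g L654729) q14056, e3 q12912 L378944 q10794, e3 q12913 (flp_g L666181) q15145, e3 q12914 (flp_g L658789) q14421, e3 q12915 (flp_g L654807) q14062, e3 q12916 L378991 q12916, e3 q12917 L379000 q10798, e3 q12918 L379011 q10799, e3 q12919 (flp_g L666256) q15151, e3 q12920 L379055 q12920, e3 q12921 (flp_g L655010) q14078, e3 q12922 L379235 q12922, e3 q12923 L379242 q10805, e3 q12924 L379253 q10806, e3 q12925 (flp_g L666317) q15157, e3 q12926 (flp_g L666328) q15158, e3 q12927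 (flp_g L379279) q10807, trivial⟩ (by decide +kernel)

theorem ce_g_202 : ∀ r, r < 64 → sm gg (Qf (12928 + r)) = Qf (tab Gen.g (12928 + r)) :=
  edges_tab (sm gg) Qf (tab Gen.g) 12928 [(12928, 15161), (12929, 14087), (12930, 14088), (12931, 12931), (12932, 12932), (12933, 10812), (12934, 10813), (12935, 10814), (12936, 15170), (12937, 15171), (12938, 15172), (12939, 15174), (12940, 15175), (12941, 12941), (12942, 12942), (12943, 14642), (12944, 10819), (12945, 10821), (12946, 15183), (12947, 15184), (12948, 14109), (12949, 11536), (12950, 14110), (12951, 12951), (12952, 12952), (12953, 10828), (12954, 10829), (12955, 10830), (12956, 15196), (12957, 15197), (12958, 15198), (12959, 14115), (12960, 10832), (12961, 15204), (12962, 14118), (12963, 14119), (12964, 12964), (12965, 12965), (12966, 10837), (12967, 10838), (12968, 10839), (12969, 15212), (12970, 15213), (12971, 15214), (12972, 15222), (12973, 15216), (12974, 15217), (12975, 10841), (12976, 15225), (12977, 15226), (12978, 14134), (12979, 14135), (12980, 14136), (12981,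 12981), (12982, 12982), (12983, 12983), (12984, 10849), (12985, 10850), (12986, 10851), (12987, 15248), (12988, 10853), (12989, 10854), (12990, 15242), (12991, 15243)]
    ⟨e3 q12928 (flp_g L666354) q15161, e3 q12929 (flp_g L655105) q14087, e3 q12930 (flp_g L655115) q14088, e3 q12931 L379314 q12931, e3 q12932 L379325 q12932, e3 q12933 L379332 q10812, e3 q12934 L379340 q10813, e3 q12935 L379350 q10814, e3 q12936 (flp_g L666431) q15170, e3 q12937 (flp_g L666439) q15171, e3 q12938 (flp_g L666450) q15172, e3 q12939 (flp_g L666470) q15174, e3 q12940 (flp_g L666476) q15175, e3 q12941 L379400 q12941, e3 q12942 L379412 q12942, e3 q12943 (flp_g L660870) q14642, e3 q12944 L379429 q10819, e3 q12945 L379507 q10821, e3 q12946 (flp_g L666561) q15183, e3 q12947 (flp_g L666574) q15184, e3 q12948 (flp_g L655368) q14109, e3 q12949 (flp_g L649365) q11536, e3 q12950 (flp_g L655386) q14110, e3 q12951 L379556 q12951, e3 q12952 L379568 q12952, e3 q12953 L379574 q10828, e3 q12954 L379585 q10829, e3 q12955 L379593 q10830, e3 q12956 (flp_g L666693)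 q15196, e3 q12957 (flp_g L666704) q15197, e3 q12958 (flp_g L666713) q15198, e3 q12959 (flp_g L655452) q14115, e3 q12960 (flp_g L379638) q10832, e3 q12961 (flp_g L666774) q15204, e3 q12962 (flp_g L655481) q14118, e3 q12963 (flp_g L655492) q14119, e3 q12964 L379674 q12964, e3 q12965 L379686 q12965, e3 q12966 L379691 q10837, e3 q12967 L379700 q10838, e3 q12968 L379712 q10839, e3 q12969 (flp_g L666842) q15212, e3 q12970 (flp_g L666852) q15213, e3 q12971 (flp_g L666865) q15214, e3 q12972 L666934 q15222, e3 q12973 (flp_g L666885) q15216, e3 q12974 (flp_g L666893) q15217, e3 q12975 L379767 q10841, e3 q12976 (flp_g L666969) q15225, e3 q12977 (flp_g L666978) q15226, e3 q12978 (flp_g L655637) q14134, e3 q12979 (flp_g L655645) q14135, e3 q12980 (flp_g L655655) q14136, e3 q12981 L379807 q12981, e3 q12982 L379816 q12982, e3 q12983 L379827 q12983, e3 q12984 L379834 q10849, e3 q12985 L379842 q10850, e3 q12986 L379851 q10851, e3 q12987 L667145 q15248, e3 q12988 L379867 q10853, e3 q12989 L379873 q10854, e3 q12990 (flp_g L667104) q15242, e3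 q12991 (flp_g L667112) q15243, trivial⟩ (by decide +kernel)

theorem ce_g_203 : ∀ r, r < 64 → sm gg (Qf (12992 + r)) = Qf (tab Gen.g (12992 + r)) :=
  edges_tab (sm gg) Qf (tab Gen.g) 12992 [(12992, 15244), (12993, 15256), (12994, 15246), (12995, 15247), (12996, 10852), (12997, 15261), (12998, 15250), (12999, 14542), (13000, 13000), (13001, 10857), (13002, 15265), (13003, 13003), (13004, 10860), (13005, 13005), (13006, 10864), (13007, 10865), (13008, 15267), (13009, 14028), (13010, 15268), (13011, 14170), (13012, 14171), (13013, 14172), (13014, 14173), (13015, 14174), (13016, 13016), (13017, 13017), (13018, 13018), (13019, 10874), (13020, 10875), (13021, 10876), (13022, 15284), (13023, 15285), (13024, 15286), (13025, 10881), (13026, 14969), (13027, 14042), (13028, 14911), (13029, 14043), (13030, 15290), (13031, 14187), (13032, 14188), (13033, 14189), (13034, 11173), (13035, 14190), (13036, 14191), (13037, 14192), (13038, 13038), (13039, 13039), (13040, 13040), (13041, 10893), (13042, 10894), (13043, 10895), (13044, 15303),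 (13045, 15304), (13046, 11483), (13047, 10917), (13048, 10899), (13049, 15307), (13050, 15308), (13051, 10901), (13052, 10906), (13053, 14343), (13054, 14346), (13055, 10997)]
    ⟨e3 q12992 (flp_g L667123) q15244, e3 q12993 L667223 q15256, e3 q12994 (flp_g L667137) q15246, e3 q12995 (flp_g L667143) q15247, e3 q12996 (flp_g L379918) q10852, e3 q12997 (flp_g L667261) q15261, e3 q12998 (flp_g L667167) q15250, e3 q12999 (flp_g L659921) q14542, e3 q13000 L379956 q13000, e3 q13001 (flp_g L379969) q10857, e3 q13002 (flp_g L667297) q15265, e3 q13003 L380005 q13003, e3 q13004 L380013 q10860, e3 q13005 L380039 q13005, e3 q13006 L380071 q10864, e3 q13007 L380079 q10865, e3 q13008 (flp_g L667312) q15267, e3 q13009 (flp_g L654389) q14028, e3 q13010 (flp_g L667322) q15268, e3 q13011 (flp_g L655988) q14170, e3 q13012 (flp_g L655999) q14171, e3 q13013 (flp_g L656012) q14172, e3 q13014 (flp_g L656026) q14173, e3 q13015 (flp_g L656036) q14174, e3 q13016 L380142 q13016, e3 q13017 L380153 q13017, e3 q13018 L380161 q13018, e3 q13019 L380170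 q10874, e3 q13020 L380180 q10875, e3 q13021 L380187 q10876, e3 q13022 (flp_g L667450) q15284, e3 q13023 (flp_g L667459) q15285, e3 q13024 (flp_g L667464) q15286, e3 q13025 L380232 q10881, e3 q13026 (flp_g L664289) q14969, e3 q13027 (flp_g L654558) q14042, e3 q13028 (flp_g L663560) q14911, e3 q13029 (flp_g L654576) q14043, e3 q13030 (flp_g L667491) q15290, e3 q13031 (flp_g L656167) q14187, e3 q13032 (flp_g L656175) q14188, e3 q13033 (flp_g L656192) q14189, e3 q13034 L645641 q11173, e3 q13035 (flp_g L656205) q14190, e3 q13036 (flp_g L656216) q14191, e3 q13037 (flp_g L656226) q14192, e3 q13038 L380335 q13038, e3 q13039 L380347 q13039, e3 q13040 L380356 q13040, e3 q13041 L380368 q10893, e3 q13042 L380375 q10894, e3 q13043 L380381 q10895, e3 q13044 (flp_g L667627) q15303, e3 q13045 (flp_g L667634) q15304, e3 q13046 (flp_g L649021) q11483, e3 q13047 L611861 q10917, e3 q13048 L380555 q10899, e3 q13049 (flp_g L667678) q15307, e3 q13050 (flp_g L667696) q15308, e3 q13051 L380603 q10901, e3 q13052 L380704 q10906, e3 q13053 (flp_g L657911)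 q14343, e3 q13054 (flp_g L657949) q14346, e3 q13055 L380733 q10997, trivial⟩ (by decide +kernel)

theorem ce_g_204 : ∀ r, r < 64 → sm gg (Qf (13056 + r)) = Qf (tab Gen.g (13056 + r)) :=
  edges_tab (sm gg) Qf (tab Gen.g) 13056 [(13056, 14984), (13057, 14985), (13058, 10912), (13059, 10913), (13060, 14327), (13061, 15305), (13062, 15316), (13063, 11011), (13064, 10918), (13065, 15306), (13066, 14344), (13067, 14347), (13068, 14986), (13069, 14988), (13070, 14291), (13071, 11040), (13072, 10928), (13073, 10929), (13074, 13887), (13075, 15327), (13076, 11045), (13077, 10932), (13078, 15330), (13079, 14277), (13080, 14304), (13081, 11051), (13082, 10938), (13083, 13890), (13084, 15332), (13085, 14997), (13086, 15000), (13087, 10943), (13088, 15337), (13089, 14320), (13090, 14321), (13091, 11070), (13092, 10948), (13093, 10950), (13094, 15341), (13095, 13875), (13096, 15342), (13097, 15350), (13098, 14991), (13099, 15343), (13100, 10953), (13101, 15354), (13102, 11085), (13103, 10956), (13104, 10958), (13105, 14475), (13106, 14272),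 (13107, 14219), (13108, 14278), (13109, 11094), (13110, 10965), (13111, 10966), (13112, 10967), (13113, 14261), (13114, 15358), (13115, 15359), (13116, 14376), (13117, 14220), (13118, 14279), (13119, 11111)]
    ⟨e3 q13056 (flp_g L664462) q14984, e3 q13057 (flp_g L664479) q14985, e3 q13058 L380807 q10912, e3 q13059 L380815 q10913, e3 q13060 (flp_g L657758) q14327, e3 q13061 (flp_g L667649) q15305, e3 q13062 (flp_g L667762) q15316, e3 q13063 L380852 q11011, e3 q13064 L380871 q10918, e3 q13065 (flp_g L667666) q15306, e3 q13066 (flp_g L657925) q14344, e3 q13067 (flp_g L657960) q14347, e3 q13068 (flp_g L664491) q14986, e3 q13069 (flp_g L664516) q14988, e3 q13070 (flp_g L657397) q14291, e3 q13071 L381366 q11040, e3 q13072 L381374 q10928, e3 q13073 L381384 q10929, e3 q13074 (flp_g L652562) q13887, e3 q13075 (flp_g L667857) q15327, e3 q13076 L381430 q11045, e3 q13077 (flp_g L381521) q10932, e3 q13078 (flp_g L667883) q15330, e3 q13079 (flp_g L657237) q14277, e3 q13080 (flp_g L657536) q14304, e3 q13081 L381575 q11051, e3 q13082 L381597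 q10938, e3 q13083 (flp_g L652601) q13890, e3 q13084 (flp_g L667901) q15332, e3 q13085 (flp_g L664627) q14997, e3 q13086 (flp_g L664660) q15000, e3 q13087 (flp_g L381688) q10943, e3 q13088 (flp_g L667944) q15337, e3 q13089 (flp_g L657691) q14320, e3 q13090 (flp_g L657700) q14321, e3 q13091 L381727 q11070, e3 q13092 L381733 q10948, e3 q13093 L381747 q10950, e3 q13094 (flp_g L667965) q15341, e3 q13095 (flp_g L652381) q13875, e3 q13096 (flp_g L667973) q15342, e3 q13097 L668025 q15350, e3 q13098 (flp_g L664562) q14991, e3 q13099 (flp_g L667977) q15343, e3 q13100 (flp_g L381834) q10953, e3 q13101 (flp_g L668061) q15354, e3 q13102 L381869 q11085, e3 q13103 L381876 q10956, e3 q13104 L381902 q10958, e3 q13105 (flp_g L659265) q14475, e3 q13106 (flp_g L657176) q14272, e3 q13107 (flp_g L656566) q14219, e3 q13108 (flp_g L657251) q14278, e3 q13109 L381960 q11094, e3 q13110 L381968 q10965, e3 q13111 L381979 q10966, e3 q13112 L381987 q10967, e3 q13113 L657050 q14261, e3 q13114 (flp_g L668101) q15358, e3 q13115 (flp_g L668109) q15359, e3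 q13116 (flp_g L658329) q14376, e3 q13117 (flp_g L656580) q14220, e3 q13118 (flp_g L657262) q14279, e3 q13119 L382098 q11111, trivial⟩ (by decide +kernel)

theorem ce_g_205 : ∀ r, r < 64 → sm gg (Qf (13120 + r)) = Qf (tab Gen.g (13120 + r)) :=
  edges_tab (sm gg) Qf (tab Gen.g) 13120 [(13120, 11112), (13121, 10977), (13122, 10978), (13123, 10979), (13124, 15365), (13125, 15366), (13126, 14386), (13127, 14393), (13128, 10982), (13129, 15369), (13130, 15370), (13131, 14485), (13132, 14399), (13133, 11032), (13134, 10986), (13135, 10987), (13136, 15377), (13137, 15378), (13138, 11617), (13139, 10990), (13140, 15084), (13141, 14413), (13142, 14414), (13143, 13997), (13144, 10995), (13145, 10996), (13146, 15384), (13147, 15385), (13148, 15386), (13149, 14423), (13150, 11000), (13151, 11001), (13152, 15392), (13153, 15375), (13154, 15393), (13155, 11002), (13156, 15074), (13157, 14432), (13158, 14433), (13159, 13977), (13160, 13996), (13161, 11007), (13162, 11008), (13163, 11009), (13164, 14564), (13165, 15404), (13166, 15405),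 (13167, 15407), (13168, 15408), (13169, 11615), (13170, 14491), (13171, 11014), (13172, 15085), (13173, 14457), (13174, 14458), (13175, 14459), (13176, 11023), (13177, 11024), (13178, 14533), (13179, 14603), (13180, 15420), (13181, 14473), (13182, 14474), (13183, 14534)]
    ⟨e3 q13120 L382110 q11112, e3 q13121 L382128 q10977, e3 q13122 L382138 q10978, e3 q13123 L382147 q10979, e3 q13124 (flp_g L668167) q15365, e3 q13125 (flp_g L668175) q15366, e3 q13126 (flp_g L658437) q14386, e3 q13127 (flp_g L658517) q14393, e3 q13128 L382358 q10982, e3 q13129 (flp_g L668207) q15369, e3 q13130 (flp_g L668224) q15370, e3 q13131 (flp_g L659378) q14485, e3 q13132 (flp_g L658579) q14399, e3 q13133 L612517 q11032, e3 q13134 L382411 q10986, e3 q13135 L382421 q10987, e3 q13136 (flp_g L668302) q15377, e3 q13137 (flp_g L668312) q15378, e3 q13138 (flp_g L648973) q11617, e3 q13139 (flp_g L382540) q10990, e3 q13140 (flp_g L665526) q15084, e3 q13141 (flp_g L658709) q14413, e3 q13142 (flp_g L658723) q14414, e3 q13143 (flp_g L654016) q13997, e3 q13144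 L382605 q10995, e3 q13145 L382616 q10996, e3 q13146 (flp_g L668360) q15384, e3 q13147 (flp_g L668371) q15385, e3 q13148 (flp_g L668379) q15386, e3 q13149 (flp_g L658810) q14423, e3 q13150 L382671 q11000, e3 q13151 L382680 q11001, e3 q13152 (flp_g L668420) q15392, e3 q13153 (flp_g L668274) q15375, e3 q13154 (flp_g L668429) q15393, e3 q13155 (flp_g L382699) q11002, e3 q13156 (flp_g L665425) q15074, e3 q13157 (flp_g L658878) q14432, e3 q13158 (flp_g L658888) q14433, e3 q13159 (flp_g L653771) q13977, e3 q13160 (flp_g L653997) q13996, e3 q13161 L382747 q11007, e3 q13162 L382753 q11008, e3 q13163 L382761 q11009, e3 q13164 (flp_g L660088) q14564, e3 q13165 (flp_g L668499) q15404, e3 q13166 (flp_g L668508) q15405, e3 q13167 (flp_g L668524) q15407, e3 q13168 (flp_g L668528) q15408, e3 q13169 (flp_g L648640) q11615, e3 q13170 (flp_g L659441) q14491, e3 q13171 L382820 q11014, e3 q13172 (flp_g L665541) q15085, e3 q13173 (flp_g L659080) q14457, e3 q13174 (flp_g L659089) q14458, e3 q13175 (flp_g L659104) q14459, e3 q13176 L382961 q11023,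 e3 q13177 L382968 q11024, e3 q13178 (flp_g L659832) q14533, e3 q13179 (flp_g L660420) q14603, e3 q13180 (flp_g L668610) q15420, e3 q13181 (flp_g L659247) q14473, e3 q13182 (flp_g L659254) q14474, e3 q13183 (flp_g L659845) q14534, trivial⟩ (by decide +kernel)

theorem ce_g_206 : ∀ r, r < 64 → sm gg (Qf (13184 + r)) = Qf (tab Gen.g (13184 + r)) :=
  edges_tab (sm gg) Qf (tab Gen.g) 13184 [(13184, 14604), (13185, 14477), (13186, 15376), (13187, 14498), (13188, 14500), (13189, 11036), (13190, 11037), (13191, 15430), (13192, 15431), (13193, 11038), (13194, 15435), (13195, 14509), (13196, 14510), (13197, 13978), (13198, 15326), (13199, 11043), (13200, 11044), (13201, 14565), (13202, 15442), (13203, 15443), (13204, 11047), (13205, 15447), (13206, 15448), (13207, 14530), (13208, 14531), (13209, 14532), (13210, 13805), (13211, 11055), (13212, 11056), (13213, 14521), (13214, 14583), (13215, 15454), (13216, 11058), (13217, 14545), (13218, 14546), (13219, 11062), (13220, 11064), (13221, 15461), (13222, 15050), (13223, 15462), (13224,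 15469), (13225, 15051), (13226, 15463), (13227, 11066), (13228, 15471), (13229, 15472), (13230, 14561), (13231, 14562), (13232, 14563), (13233, 13950), (13234, 15042), (13235, 11074), (13236, 11075), (13237, 11076), (13238, 15491), (13239, 11078), (13240, 11079), (13241, 15485), (13242, 15486), (13243, 15487), (13244, 15499), (13245, 15489), (13246, 15490), (13247, 11077)]
    ⟨e3 q13184 (flp_g L660429) q14604, e3 q13185 (flp_g L659290) q14477, e3 q13186 (flp_g L668292) q15376, e3 q13187 (flp_g L659510) q14498, e3 q13188 (flp_g L659533) q14500, e3 q13189 L383422 q11036, e3 q13190 L383433 q11037, e3 q13191 (flp_g L668678) q15430, e3 q13192 (flp_g L668689) q15431, e3 q13193 (flp_g L383456) q11038, e3 q13194 (flp_g L668717) q15435, e3 q13195 (flp_g L659611) q14509, e3 q13196 (flp_g L659623) q14510, e3 q13197 (flp_g L653791) q13978, e3 q13198 (flp_g L667845) q15326, e3 q13199 L383512 q11043, e3 q13200 L383530 q11044, e3 q13201 (flp_g L660100) q14565, e3 q13202 (flp_g L668777) q15442, e3 q13203 (flp_g L668783) q15443, e3 q13204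 L383699 q11047, e3 q13205 (flp_g L668808) q15447, e3 q13206 (flp_g L668818) q15448, e3 q13207 (flp_g L659802) q14530, e3 q13208 (flp_g L659810) q14531, e3 q13209 (flp_g L659825) q14532, e3 q13210 (flp_g L651395) q13805, e3 q13211 L383784 q11055, e3 q13212 L383793 q11056, e3 q13213 (flp_g L659709) q14521, e3 q13214 (flp_g L660239) q14583, e3 q13215 (flp_g L668876) q15454, e3 q13216 (flp_g L383836) q11058, e3 q13217 (flp_g L659947) q14545, e3 q13218 (flp_g L659956) q14546, e3 q13219 L383874 q11062, e3 q13220 L383891 q11064, e3 q13221 (flp_g L668921) q15461, e3 q13222 (flp_g L665214) q15050, e3 q13223 (flp_g L668930) q15462, e3 q13224 L668967 q15469, e3 q13225 (flp_g L665230) q15051, e3 q13226 (flp_g L668934) q15463, e3 q13227 L383931 q11066, e3 q13228 (flp_g L668981) q15471, e3 q13229 (flp_g L668989) q15472, e3 q13230 (flp_g L660068) q14561, e3 q13231 (flp_g L660074) q14562, e3 q13232 (flp_g L660084) q14563, e3 q13233 (flp_g L653421) q13950, e3 q13234 (flp_g L665146) q15042, e3 q13235 L383987 q11074, e3 q13236 L383993 q11075,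 e3 q13237 L384003 q11076, e3 q13238 L669109 q15491, e3 q13239 L384015 q11078, e3 q13240 L384019 q11079, e3 q13241 (flp_g L669069) q15485, e3 q13242 (flp_g L669075) q15486, e3 q13243 (flp_g L669085) q15487, e3 q13244 L669157 q15499, e3 q13245 (flp_g L669101) q15489, e3 q13246 (flp_g L669107) q15490, e3 q13247 (flp_g L384055) q11077, trivial⟩ (by decide +kernel)

theorem ce_g_207 : ∀ r, r < 64 → sm gg (Qf (13248 + r)) = Qf (tab Gen.g (13248 + r)) :=
  edges_tab (sm gg) Qf (tab Gen.g) 13248 [(13248, 15504), (13249, 15493), (13250, 11081), (13251, 15507), (13252, 15353), (13253, 11084), (13254, 11456), (13255, 11088), (13256, 11089), (13257, 15509), (13258, 14977), (13259, 15510), (13260, 14598), (13261, 14599), (13262, 14600), (13263, 14601), (13264, 14602), (13265, 13940), (13266, 13953), (13267, 14622), (13268, 11098), (13269, 11099), (13270, 11100), (13271, 15524), (13272, 15525), (13273, 15526), (13274, 11105), (13275, 14455), (13276, 14468), (13277, 14469), (13278, 14910), (13279, 15530), (13280, 14613), (13281, 14614),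 (13282, 14615), (13283, 11174), (13284, 14616), (13285, 14617), (13286, 14618), (13287, 14359), (13288, 15364), (13289, 14483), (13290, 11117), (13291, 11118), (13292, 11119), (13293, 15545), (13294, 15546), (13295, 15547), (13296, 11122), (13297, 15552), (13298, 14651), (13299, 14652), (13300, 13300), (13301, 13301), (13302, 11127), (13303, 15558), (13304, 11130), (13305, 15559), (13306, 14668), (13307, 11134), (13308, 15562), (13309, 14671), (13310, 14672), (13311, 13311)]
    ⟨e3 q13248 (flp_g L669189) q15504, e3 q13249 (flp_g L669125) q15493, e3 q13250 (flp_g L384097) q11081, e3 q13251 (flp_g L669213) q15507, e3 q13252 (flp_g L668051) q15353, e3 q13253 L384139 q11084, e3 q13254 L649349 q11456, e3 q13255 L384191 q11088, e3 q13256 L384200 q11089, e3 q13257 (flp_g L669229) q15509, e3 q13258 (flp_g L664376) q14977, e3 q13259 (flp_g L669238) q15510, e3 q13260 (flp_g L660370) q14598, e3 q13261 (flp_g L660381) q14599, e3 q13262 (flp_g L660391) q14600, e3 q13263 (flp_g L660402) q14601, e3 q13264 (flp_g L660410) q14602, e3 q13265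 (flp_g L653273) q13940, e3 q13266 (flp_g L653460) q13953, e3 q13267 (flp_g L660621) q14622, e3 q13268 L384299 q11098, e3 q13269 L384310 q11099, e3 q13270 L384318 q11100, e3 q13271 (flp_g L669359) q15524, e3 q13272 (flp_g L669369) q15525, e3 q13273 (flp_g L669374) q15526, e3 q13274 L384360 q11105, e3 q13275 (flp_g L659059) q14455, e3 q13276 (flp_g L659180) q14468, e3 q13277 (flp_g L659198) q14469, e3 q13278 (flp_g L663550) q14910, e3 q13279 (flp_g L669401) q15530, e3 q13280 (flp_g L660515) q14613, e3 q13281 (flp_g L660525) q14614, e3 q13282 (flp_g L660541) q14615, e3 q13283 L645483 q11174, e3 q13284 (flp_g L660555) q14616, e3 q13285 (flp_g L660566) q14617, e3 q13286 (flp_g L660579) q14618, e3 q13287 L658133 q14359, e3 q13288 (flp_g L668156) q15364, e3 q13289 (flp_g L659340) q14483, e3 q13290 L384491 q11117, e3 q13291 L384499 q11118, e3 q13292 L384505 q11119, e3 q13293 (flp_g L669552) q15545, e3 q13294 (flp_g L669559) q15546, e3 q13295 (flp_g L669565) q15547, e3 q13296 (flp_g L384875) q11122, e3 q13297 (flp_g L669605) q15552,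 e3 q13298 (flp_g L660973) q14651, e3 q13299 (flp_g L660987) q14652, e3 q13300 L384914 q13300, e3 q13301 L384925 q13301, e3 q13302 L384952 q11127, e3 q13303 (flp_g L669652) q15558, e3 q13304 L385115 q11130, e3 q13305 (flp_g L669662) q15559, e3 q13306 (flp_g L661155) q14668, e3 q13307 (flp_g L385258) q11134, e3 q13308 (flp_g L669685) q15562, e3 q13309 (flp_g L661186) q14671, e3 q13310 (flp_g L661200) q14672, e3 q13311 L385291 q13311, trivial⟩ (by decide +kernel)

theorem ce_g_208 : ∀ r, r < 64 → sm gg (Qf (13312 + r)) = Qf (tab Gen.g (13312 + r)) :=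
  edges_tab (sm gg) Qf (tab Gen.g) 13312 [(13312, 13312), (13313, 11139), (13314, 11140), (13315, 15570), (13316, 15571), (13317, 11142), (13318, 15573), (13319, 15574), (13320, 14682), (13321, 14683), (13322, 14684), (13323, 13323), (13324, 13324), (13325, 13325), (13326, 11150), (13327, 11151), (13328, 11152), (13329, 14739), (13330, 11153), (13331, 11154), (13332, 15590), (13333, 15591), (13334, 15593), (13335, 15594), (13336, 15596), (13337, 15600), (13338, 13338), (13339, 14740), (13340, 11160), (13341, 11161), (13342, 15602), (13343, 15538), (13344, 15603), (13345, 14717), (13346, 14718), (13347, 14719), (13348, 14720), (13349, 13349), (13350, 13350), (13351, 11169), (13352, 11170), (13353, 15615), (13354, 11175), (13355, 14924), (13356, 15298), (13357, 15541), (13358, 14909), (13359, 11351), (13360, 11341), (13361, 14727), (13362, 14726), (13363, 14725), (13364, 14724), (13365, 13365), (13366, 13366), (13367, 13367), (13368, 11187), (13369, 11188), (13370, 11189), (13371, 15622), (13372, 15623), (13373, 11482), (13374,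 14732), (13375, 13375)]
    ⟨e3 q13312 L385302 q13312, e3 q13313 L385317 q11139, e3 q13314 L385327 q11140, e3 q13315 (flp_g L669751) q15570, e3 q13316 (flp_g L669755) q15571, e3 q13317 L385376 q11142, e3 q13318 (flp_g L669773) q15573, e3 q13319 (flp_g L669780) q15574, e3 q13320 (flp_g L661302) q14682, e3 q13321 (flp_g L661310) q14683, e3 q13322 (flp_g L661318) q14684, e3 q13323 L385410 q13323, e3 q13324 L385417 q13324, e3 q13325 L385426 q13325, e3 q13326 L385433 q11150, e3 q13327 L385439 q11151, e3 q13328 L385448 q11152, e3 q13329 (flp_g L661943) q14739, e3 q13330 L385460 q11153, e3 q13331 L385464 q11154, e3 q13332 (flp_g L669894) q15590, e3 q13333 (flp_g L669903) q15591, e3 q13334 (flp_g L669917) q15593, e3 q13335 (flp_g L669923) q15594, e3 q13336 (flp_g L669939) q15596, e3 q13337 L669963 q15600, e3 q13338 L385533 q13338, e3 q13339 (flp_g L661952) q14740, e3 q13340 L385632 q11160, e3 q13341 L385641 q11161, e3 q13342 (flp_g L669983) q15602, e3 q13343 (flp_g L669477) q15538, e3 q13344 (flp_g L669994) q15603, e3 q13345 (flp_g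 L661646) q14717, e3 q13346 (flp_g L661666) q14718, e3 q13347 (flp_g L661682) q14719, e3 q13348 (flp_g L661696) q14720, e3 q13349 L385713 q13349, e3 q13350 L385725 q13350, e3 q13351 L385745 q11169, e3 q13352 L385756 q11170, e3 q13353 (flp_g L670108) q15615, e3 q13354 L385813 q11175, e3 q13355 (flp_g L663700) q14924, e3 q13356 (flp_g L667572) q15298, e3 q13357 (flp_g L669511) q15541, e3 q13358 (flp_g L663539) q14909, e3 q13359 L615789 q11351, e3 q13360 L615745 q11341, e3 q13361 (flp_g L661808) q14727, e3 q13362 (flp_g L661790) q14726, e3 q13363 (flp_g L661773) q14725, e3 q13364 (flp_g L661758) q14724, e3 q13365 L385913 q13365, e3 q13366 L385924 q13366, e3 q13367 L385933 q13367, e3 q13368 L385944 q11187, e3 q13369 L385951 q11188, e3 q13370 L385958 q11189, e3 q13371 (flp_g L670175) q15622, e3 q13372 (flp_g L670183) q15623, e3 q13373 (flp_g L649019) q11482, e3 q13374 (flp_g L661878) q14732, e3 q13375 L386057 q13375, trivial⟩ (by decide +kernel)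

theorem ce_g_209 : ∀ r, r < 64 → sm gg (Qf (13376 + r)) = Qf (tab Gen.g (13376 + r)) :=
  edges_tab (sm gg) Qf (tab Gen.g) 13376 [(13376, 11193), (13377, 11194), (13378, 14748), (13379, 11196), (13380, 15609), (13381, 14751), (13382, 14752), (13383, 13383), (13384, 13384), (13385, 11201), (13386, 15633), (13387, 11203), (13388, 15634), (13389, 15635), (13390, 14762), (13391, 14763), (13392, 14764), (13393, 13393), (13394, 13394), (13395, 11210), (13396, 11211), (13397, 11212), (13398, 15647), (13399, 15648), (13400, 15649), (13401, 11214), (13402, 11215), (13403, 15652), (13404, 14976), (13405, 15653), (13406, 14789), (13407, 14790), (13408, 14791), (13409, 14792), (13410, 13410), (13411, 13411), (13412, 11223), (13413, 11224), (13414, 15665), (13415, 11225), (13416, 15608), (13417, 14799), (13418, 14800), (13419, 11228), (13420, 15670), (13421, 15671), (13422, 14804), (13423, 14805), (13424, 14806), (13425, 13425), (13426, 13426), (13427, 13427), (13428, 11236), (13429, 11237), (13430, 11238), (13431, 15692), (13432, 11240),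 (13433, 11241), (13434, 15686), (13435, 15687), (13436, 15688), (13437, 15698), (13438, 15690), (13439, 15691)]
    ⟨e3 q13376 L386074 q11193, e3 q13377 (flp_g L386097) q11194, e3 q13378 (flp_g L662023) q14748, e3 q13379 (flp_g L386441) q11196, e3 q13380 (flp_g L670054) q15609, e3 q13381 (flp_g L662058) q14751, e3 q13382 (flp_g L662072) q14752, e3 q13383 L386480 q13383, e3 q13384 L386493 q13384, e3 q13385 L386522 q11201, e3 q13386 (flp_g L670275) q15633, e3 q13387 L386582 q11203, e3 q13388 (flp_g L670284) q15634, e3 q13389 (flp_g L670293) q15635, e3 q13390 (flp_g L662178) q14762, e3 q13391 (flp_g L662188) q14763, e3 q13392 (flp_g L662198) q14764, e3 q13393 L386626 q13393, e3 q13394 L386646 q13394, e3 q13395 L386653 q11210, e3 q13396 L386673 q11211, e3 q13397 L386695 q11212, e3 q13398 (flp_g L670384) q15647, e3 q13399 (flp_g L670394) q15648, e3 q13400 (flp_g L670402) q15649, e3 q13401 L386913 q11214, e3 q13402 L386923 q11215, e3 q13403 (flp_g L670423) q15652, e3 q13404 (flp_g L664368) q14976, e3 q13405 (flp_g L670435) q15653,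 e3 q13406 (flp_g L662434) q14789, e3 q13407 (flp_g L662447) q14790, e3 q13408 (flp_g L662460) q14791, e3 q13409 (flp_g L662472) q14792, e3 q13410 L387004 q13410, e3 q13411 L387018 q13411, e3 q13412 L387038 q11223, e3 q13413 L387051 q11224, e3 q13414 (flp_g L670553) q15665, e3 q13415 (flp_g L387092) q11225, e3 q13416 (flp_g L670038) q15608, e3 q13417 (flp_g L662555) q14799, e3 q13418 (flp_g L662564) q14800, e3 q13419 L387125 q11228, e3 q13420 (flp_g L670586) q15670, e3 q13421 (flp_g L670595) q15671, e3 q13422 (flp_g L662597) q14804, e3 q13423 (flp_g L662605) q14805, e3 q13424 (flp_g L662615) q14806, e3 q13425 L387163 q13425, e3 q13426 L387172 q13426, e3 q13427 L387183 q13427, e3 q13428 L387190 q11236, e3 q13429 L387198 q11237, e3 q13430 L387209 q11238, e3 q13431 L670754 q15692, e3 q13432 L387223 q11240, e3 q13433 L387227 q11241, e3 q13434 (flp_g L670709) q15686, e3 q13435 (flp_g L670717) q15687, e3 q13436 (flp_g L670728) q15688, e3 q13437 L670798 q15698, e3 q13438 (flp_g L670744) q15690, e3 q13439 (flp_g L670750) q15691, trivial⟩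 (by decide +kernel)

theorem ce_g_210 : ∀ r, r < 64 → sm gg (Qf (13440 + r)) = Qf (tab Gen.g (13440 + r)) :=
  edges_tab (sm gg) Qf (tab Gen.g) 13440 [(13440, 11239), (13441, 15702), (13442, 15694), (13443, 11243), (13444, 11244), (13445, 15704), (13446, 15705), (13447, 15706), (13448, 14828), (13449, 14829), (13450, 14830), (13451, 15720), (13452, 14832), (13453, 14833), (13454, 13454), (13455, 13455), (13456, 13456), (13457, 15729), (13458, 13458), (13459, 13459), (13460, 11257), (13461, 11258), (13462, 11259), (13463, 15737), (13464, 11261), (13465, 11262), (13466, 11254), (13467, 15742), (13468, 11265), (13469, 15732), (13470, 15733), (13471, 15746), (13472, 15735), (13473, 15736), (13474, 11260), (13475, 15751), (13476, 15739), (13477, 15740), (13478, 13478), (13479, 11264), (13480, 15756), (13481, 11266), (13482, 15758), (13483, 15757), (13484, 11269), (13485, 13485), (13486, 11275), (13487, 11277), (13488, 14967), (13489, 14964), (13490, 15760), (13491, 14908), (13492, 14907), (13493, 14881), (13494, 14882), (13495,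 14883), (13496, 14884), (13497, 14885), (13498, 14886), (13499, 14887), (13500, 13500), (13501, 13501), (13502, 13502), (13503, 11289)]
    ⟨e3 q13440 (flp_g L387276) q11239, e3 q13441 (flp_g L670833) q15702, e3 q13442 (flp_g L670772) q15694, e3 q13443 L387299 q11243, e3 q13444 L387306 q11244, e3 q13445 (flp_g L670845) q15704, e3 q13446 (flp_g L670851) q15705, e3 q13447 (flp_g L670858) q15706, e3 q13448 (flp_g L662803) q14828, e3 q13449 (flp_g L662809) q14829, e3 q13450 (flp_g L662819) q14830, e3 q13451 L670942 q15720, e3 q13452 (flp_g L662829) q14832, e3 q13453 (flp_g L662835) q14833, e3 q13454 L387362 q13454, e3 q13455 L387369 q13455, e3 q13456 L387380 q13456, e3 q13457 L671007 q15729, e3 q13458 L387395 q13458, e3 q13459 L387400 q13459, e3 q13460 L387407 q11257, e3 q13461 L387413 q11258, e3 q13462 L387423 q11259, e3 q13463 L671065 q15737, e3 q13464 L387439 q11261, e3 q13465 L387445 q11262, e3 q13466 (flp_g L387447) q11254, e3 q13467 (flp_g L671107) q15742, e3 q13468 L387463 q11265, e3 q13469 (flp_g L671031) q15732, e3 q13470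 (flp_g L671041) q15733, e3 q13471 L671127 q15746, e3 q13472 (flp_g L671057) q15735, e3 q13473 (flp_g L671063) q15736, e3 q13474 (flp_g L387500) q11260, e3 q13475 (flp_g L671169) q15751, e3 q13476 (flp_g L671087) q15739, e3 q13477 (flp_g L671091) q15740, e3 q13478 L387531 q13478, e3 q13479 L387536 q11264, e3 q13480 (flp_g L671197) q15756, e3 q13481 (flp_g L387548) q11266, e3 q13482 (flp_g L671213) q15758, e3 q13483 (flp_g L671206) q15757, e3 q13484 L387588 q11269, e3 q13485 L387610 q13485, e3 q13486 L387676 q11275, e3 q13487 L387695 q11277, e3 q13488 (flp_g L664268) q14967, e3 q13489 (flp_g L664235) q14964, e3 q13490 (flp_g L671228) q15760, e3 q13491 (flp_g L663525) q14908, e3 q13492 (flp_g L663513) q14907, e3 q13493 (flp_g L663213) q14881, e3 q13494 (flp_g L663223) q14882, e3 q13495 (flp_g L663236) q14883, e3 q13496 (flp_g L663241) q14884, e3 q13497 (flp_g L663250) q14885, e3 q13498 (flp_g L663260) q14886, e3 q13499 (flp_g L663273) q14887, e3 q13500 L387807 q13500, e3 q13501 L387820 q13501, e3 q13502 L387829 q13502, e3 q13503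 L387842 q11289, trivial⟩ (by decide +kernel)

theorem ce_g_211 : ∀ r, r < 64 → sm gg (Qf (13504 + r)) = Qf (tab Gen.g (13504 + r)) :=
  edges_tab (sm gg) Qf (tab Gen.g) 13504 [(13504, 11290), (13505, 11291), (13506, 15772), (13507, 15773), (13508, 15774), (13509, 14905), (13510, 13510), (13511, 11306), (13512, 11307), (13513, 11309), (13514, 15775), (13515, 14920), (13516, 14921), (13517, 11312), (13518, 15778), (13519, 11316), (13520, 11317), (13521, 14747), (13522, 14731), (13523, 13523), (13524, 14715), (13525, 13525), (13526, 13526), (13527, 11337), (13528, 11338), (13529, 14925), (13530, 14926), (13531, 15618), (13532, 11345), (13533, 14961), (13534, 14963), (13535, 14931), (13536, 14932), (13537, 14933), (13538, 13538), (13539, 15132), (13540, 15617), (13541, 14937), (13542, 14938), (13543, 14939), (13544, 11355), (13545, 11356), (13546, 15791), (13547, 14901), (13548, 15792), (13549, 14943), (13550, 14944), (13551, 14945), (13552, 14946), (13553, 13553), (13554, 13554), (13555, 11364), (13556, 11365), (13557, 15804),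 (13558, 11367), (13559, 14966), (13560, 14960), (13561, 14954), (13562, 14955), (13563, 14956), (13564, 13564), (13565, 14965), (13566, 14968), (13567, 13567)]
    ⟨e3 q13504 L387852 q11290, e3 q13505 L387858 q11291, e3 q13506 (flp_g L671344) q15772, e3 q13507 (flp_g L671354) q15773, e3 q13508 (flp_g L671362) q15774, e3 q13509 (flp_g L663489) q14905, e3 q13510 L388085 q13510, e3 q13511 L388114 q11306, e3 q13512 L388122 q11307, e3 q13513 (flp_g L389173) q11309, e3 q13514 (flp_g L671377) q15775, e3 q13515 (flp_g L663649) q14920, e3 q13516 (flp_g L663662) q14921, e3 q13517 L389209 q11312, e3 q13518 (flp_g L671401) q15778, e3 q13519 L389717 q11316, e3 q13520 L389723 q11317, e3 q13521 (flp_g L662012) q14747, e3 q13522 (flp_g L661868) q14731, e3 q13523 L389828 q13523, e3 q13524 (flp_g L661620) q14715, e3 q13525 L390072 q13525, e3 q13526 L390080 q13526, e3 q13527 L390098 q11337, e3 q13528 L390104 q11338, e3 q13529 (flp_g L663713) q14925, e3 q13530 (flp_g L663729) q14926, e3 q13531 (flp_g L670138) q15618, e3 q13532 L390760 q11345,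 e3 q13533 (flp_g L664192) q14961, e3 q13534 (flp_g L664223) q14963, e3 q13535 (flp_g L663798) q14931, e3 q13536 (flp_g L663811) q14932, e3 q13537 (flp_g L663827) q14933, e3 q13538 L390888 q13538, e3 q13539 (flp_g L666052) q15132, e3 q13540 (flp_g L670127) q15617, e3 q13541 (flp_g L663871) q14937, e3 q13542 (flp_g L663879) q14938, e3 q13543 (flp_g L663894) q14939, e3 q13544 L391016 q11355, e3 q13545 L391024 q11356, e3 q13546 (flp_g L671498) q15791, e3 q13547 (flp_g L663436) q14901, e3 q13548 (flp_g L671508) q15792, e3 q13549 (flp_g L663935) q14943, e3 q13550 (flp_g L663946) q14944, e3 q13551 (flp_g L663962) q14945, e3 q13552 (flp_g L663975) q14946, e3 q13553 L391087 q13553, e3 q13554 L391098 q13554, e3 q13555 L391114 q11364, e3 q13556 L391124 q11365, e3 q13557 (flp_g L671602) q15804, e3 q13558 L391159 q11367, e3 q13559 (flp_g L664255) q14966, e3 q13560 (flp_g L664179) q14960, e3 q13561 (flp_g L664081) q14954, e3 q13562 (flp_g L664098) q14955, e3 q13563 (flp_g L664112) q14956, e3 q13564 L391272 q13564, e3 q13565 (flp_g L664241)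 q14965, e3 q13566 (flp_g L664276) q14968, e3 q13567 L391540 q13567, trivial⟩ (by decide +kernel)

theorem ce_g_212 : ∀ r, r < 64 → sm gg (Qf (13568 + r)) = Qf (tab Gen.g (13568 + r)) :=
  edges_tab (sm gg) Qf (tab Gen.g) 13568 [(13568, 11385), (13569, 11386), (13570, 11387), (13571, 11392), (13572, 13891), (13573, 13872), (13574, 13873), (13575, 13855), (13576, 13876), (13577, 14989), (13578, 11402), (13579, 11464), (13580, 13580), (13581, 13581), (13582, 11474), (13583, 11411), (13584, 11412), (13585, 14264), (13586, 15814), (13587, 14340), (13588, 13810), (13589, 13811), (13590, 13812), (13591, 13591), (13592, 13592), (13593, 13593), (13594, 13594), (13595, 11491), (13596, 11492), (13597, 11427), (13598, 11428), (13599, 11429), (13600, 15825), (13601, 15826), (13602, 15827), (13603, 13910), (13604, 13604), (13605, 13605), (13606, 13806), (13607, 11439), (13608, 14522), (13609, 14584), (13610, 15833), (13611, 13935), (13612, 11594), (13613, 13945), (13614, 13897), (13615, 11623), (13616, 11443), (13617, 11452), (13618, 11453),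 (13619, 15839), (13620, 11455), (13621, 11448), (13622, 15841), (13623, 11459), (13624, 14492), (13625, 14497), (13626, 14424), (13627, 15838), (13628, 15070), (13629, 11454), (13630, 15849), (13631, 15508)]
    ⟨e3 q13568 L391551 q11385, e3 q13569 L391557 q11386, e3 q13570 L391561 q11387, e3 q13571 L649412 q11392, e3 q13572 (flp_g L652615) q13891, e3 q13573 (flp_g L652337) q13872, e3 q13574 (flp_g L652352) q13873, e3 q13575 (flp_g L652077) q13855, e3 q13576 (flp_g L652401) q13876, e3 q13577 (flp_g L664532) q14989, e3 q13578 L649473 q11402, e3 q13579 L649488 q11464, e3 q13580 L649497 q13580, e3 q13581 L649504 q13581, e3 q13582 L649511 q11474, e3 q13583 L649523 q11411, e3 q13584 L649529 q11412, e3 q13585 (flp_g L657079) q14264, e3 q13586 (flp_g L671671) q15814, e3 q13587 (flp_g L657876) q14340, e3 q13588 (flp_g L651453) q13810, e3 q13589 (flp_g L651468) q13811, e3 q13590 (flp_g L651478) q13812, e3 q13591 L649592 q13591, e3 q13592 L649600 q13592, e3 q13593 L649608 q13593, e3 q13594 L649615 q13594, e3 q13595 L649622 q11491,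 e3 q13596 L649631 q11492, e3 q13597 L649642 q11427, e3 q13598 L649648 q11428, e3 q13599 L649654 q11429, e3 q13600 (flp_g L671772) q15825, e3 q13601 (flp_g L671779) q15826, e3 q13602 (flp_g L671787) q15827, e3 q13603 (flp_g L652847) q13910, e3 q13604 L649701 q13604, e3 q13605 L649709 q13605, e3 q13606 (flp_g L651408) q13806, e3 q13607 L649727 q11439, e3 q13608 (flp_g L659725) q14522, e3 q13609 (flp_g L660250) q14584, e3 q13610 (flp_g L671839) q15833, e3 q13611 (flp_g L653206) q13935, e3 q13612 L649766 q11594, e3 q13613 (flp_g L653357) q13945, e3 q13614 (flp_g L652695) q13897, e3 q13615 L649788 q11623, e3 q13616 (flp_g L649792) q11443, e3 q13617 L649805 q11452, e3 q13618 L649814 q11453, e3 q13619 L671878 q15839, e3 q13620 L649826 q11455, e3 q13621 (flp_g L649828) q11448, e3 q13622 (flp_g L671897) q15841, e3 q13623 L649847 q11459, e3 q13624 (flp_g L659452) q14492, e3 q13625 (flp_g L659499) q14497, e3 q13626 (flp_g L658818) q14424, e3 q13627 (flp_g L671876) q15838, e3 q13628 (flp_g L665387) q15070, e3 q13629 (flp_g L649885) q11454,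 e3 q13630 (flp_g L671956) q15849, e3 q13631 (flp_g L669221) q15508, trivial⟩ (by decide +kernel)

theorem ce_g_213 : ∀ r, r < 64 → sm gg (Qf (13632 + r)) = Qf (tab Gen.g (13632 + r)) :=
  edges_tab (sm gg) Qf (tab Gen.g) 13632 [(13632, 14592), (13633, 13846), (13634, 11458), (13635, 15036), (13636, 15035), (13637, 15033), (13638, 11463), (13639, 13813), (13640, 13640), (13641, 13641), (13642, 13642), (13643, 13643), (13644, 13644), (13645, 13645), (13646, 13941), (13647, 13954), (13648, 11478), (13649, 11479), (13650, 11480), (13651, 15860), (13652, 15861), (13653, 15862), (13654, 14072), (13655, 15143), (13656, 13656), (13657, 13657), (13658, 13658), (13659, 13659), (13660, 13660), (13661, 13661), (13662, 14362), (13663, 15823), (13664, 15824), (13665, 11496), (13666, 11497), (13667, 11498), (13668, 15877), (13669, 15878), (13670, 15879), (13671, 15885), (13672, 13672), (13673, 13673), (13674, 13674), (13675, 13675), (13676, 13676), (13677, 13677), (13678, 11506), (13679, 11507), (13680, 11508), (13681, 15892), (13682, 15893),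 (13683, 15894), (13684, 11584), (13685, 11574), (13686, 13686), (13687, 13687), (13688, 13688), (13689, 13689), (13690, 13690), (13691, 13691), (13692, 13692), (13693, 13693), (13694, 13694), (13695, 11522)]
    ⟨e3 q13632 (flp_g L660309) q14592, e3 q13633 (flp_g L651909) q13846, e3 q13634 L649921 q11458, e3 q13635 (flp_g L665074) q15036, e3 q13636 (flp_g L665064) q15035, e3 q13637 (flp_g L665032) q15033, e3 q13638 L649954 q11463, e3 q13639 (flp_g L651495) q13813, e3 q13640 L649972 q13640, e3 q13641 L649982 q13641, e3 q13642 L649985 q13642, e3 q13643 L649994 q13643, e3 q13644 L650001 q13644, e3 q13645 L650009 q13645, e3 q13646 (flp_g L653292) q13941, e3 q13647 (flp_g L653472) q13954, e3 q13648 L650032 q11478, e3 q13649 L650040 q11479, e3 q13650 L650045 q11480, e3 q13651 (flp_g L672032) q15860, e3 q13652 (flp_g L672039) q15861, e3 q13653 (flp_g L672045) q15862, e3 q13654 (flp_g L654940) q14072, e3 q13655 (flp_g L666151) q15143, e3 q13656 L650091 q13656, e3 q13657 L650101 q13657, e3 q13658 L650108 q13658, e3 q13659 L650115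 q13659, e3 q13660 L650124 q13660, e3 q13661 L650131 q13661, e3 q13662 (flp_g L658161) q14362, e3 q13663 (flp_g L671752) q15823, e3 q13664 (flp_g L671760) q15824, e3 q13665 L650163 q11496, e3 q13666 L650170 q11497, e3 q13667 L650178 q11498, e3 q13668 (flp_g L672160) q15877, e3 q13669 (flp_g L672166) q15878, e3 q13670 (flp_g L672175) q15879, e3 q13671 L672213 q15885, e3 q13672 L650215 q13672, e3 q13673 L650227 q13673, e3 q13674 L650234 q13674, e3 q13675 L650241 q13675, e3 q13676 L650253 q13676, e3 q13677 L650260 q13677, e3 q13678 L650269 q11506, e3 q13679 L650280 q11507, e3 q13680 L650288 q11508, e3 q13681 (flp_g L672291) q15892, e3 q13682 (flp_g L672297) q15893, e3 q13683 (flp_g L672304) q15894, e3 q13684 L650322 q11584, e3 q13685 L650339 q11574, e3 q13686 L650350 q13686, e3 q13687 L650362 q13687, e3 q13688 L650372 q13688, e3 q13689 L650377 q13689, e3 q13690 L650386 q13690, e3 q13691 L650395 q13691, e3 q13692 L650405 q13692, e3 q13693 L650417 q13693, e3 q13694 L650428 q13694, e3 q13695 L650440 q11522, trivial⟩ (by decide +kernel)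

theorem ce_g_214 : ∀ r, r < 64 → sm gg (Qf (13696 + r)) = Qf (tab Gen.g (13696 + r)) :=
  edges_tab (sm gg) Qf (tab Gen.g) 13696 [(13696, 11523), (13697, 11524), (13698, 15898), (13699, 15907), (13700, 15908), (13701, 11575), (13702, 13817), (13703, 13703), (13704, 13704), (13705, 13705), (13706, 13706), (13707, 15917), (13708, 13708), (13709, 13709), (13710, 11530), (13711, 15921), (13712, 13712), (13713, 13713), (13714, 13714), (13715, 13715), (13716, 15189), (13717, 13717), (13718, 13718), (13719, 15191), (13720, 13720), (13721, 11548), (13722, 11549), (13723, 15933), (13724, 11551), (13725, 11552), (13726, 11542), (13727, 15937), (13728, 11555), (13729, 11556), (13730, 15186), (13731, 11546), (13732, 15942), (13733, 15943), (13734, 15931), (13735, 15932), (13736, 11550), (13737, 15947), (13738, 15935), (13739, 15909), (13740, 13740), (13741, 11554), (13742, 15951), (13743, 15939), (13744, 15940), (13745, 13745), (13746, 11559), (13747, 11562), (13748, 11561), (13749, 15954), (13750, 13750), (13751, 13751), (13752, 11576),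 (13753, 13753), (13754, 11585), (13755, 11586), (13756, 13756), (13757, 15188), (13758, 14311), (13759, 13759)]
    ⟨e3 q13696 L650447 q11523, e3 q13697 L650455 q11524, e3 q13698 (flp_g L672346) q15898, e3 q13699 (flp_g L672435) q15907, e3 q13700 (flp_g L672444) q15908, e3 q13701 L650497 q11575, e3 q13702 (flp_g L651546) q13817, e3 q13703 L650517 q13703, e3 q13704 L650526 q13704, e3 q13705 L650539 q13705, e3 q13706 L650544 q13706, e3 q13707 L672522 q15917, e3 q13708 L650560 q13708, e3 q13709 L650567 q13709, e3 q13710 (flp_g L650569) q11530, e3 q13711 (flp_g L672565) q15921, e3 q13712 L650588 q13712, e3 q13713 L650597 q13713, e3 q13714 L650606 q13714, e3 q13715 L650619 q13715, e3 q13716 (flp_g L666625) q15189, e3 q13717 L650635 q13717, e3 q13718 L650642 q13718, e3 q13719 (flp_g L666647) q15191, e3 q13720 L650660 q13720, e3 q13721 L650669 q11548, e3 q13722 L650679 q11549, e3 q13723 L672663 q15933, e3 q13724 L650694 q11551, e3 q13725 L650701 q11552, e3 q13726 (flp_g L650704) q11542, e3 q13727 (flp_g L672701) q15937, e3 q13728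 L650723 q11555, e3 q13729 L650728 q11556, e3 q13730 (flp_g L666592) q15186, e3 q13731 L650749 q11546, e3 q13732 (flp_g L672737) q15942, e3 q13733 L672740 q15943, e3 q13734 (flp_g L672653) q15931, e3 q13735 (flp_g L672660) q15932, e3 q13736 (flp_g L650781) q11550, e3 q13737 (flp_g L672785) q15947, e3 q13738 (flp_g L672685) q15935, e3 q13739 (flp_g L672456) q15909, e3 q13740 L650821 q13740, e3 q13741 L650827 q11554, e3 q13742 (flp_g L672816) q15951, e3 q13743 (flp_g L672712) q15939, e3 q13744 (flp_g L672718) q15940, e3 q13745 L650855 q13745, e3 q13746 L650862 q11559, e3 q13747 L650871 q11562, e3 q13748 L650877 q11561, e3 q13749 (flp_g L672835) q15954, e3 q13750 L650888 q13750, e3 q13751 L650895 q13751, e3 q13752 L650899 q11576, e3 q13753 L650909 q13753, e3 q13754 L650914 q11585, e3 q13755 L650922 q11586, e3 q13756 L650929 q13756, e3 q13757 (flp_g L666615) q15188, e3 q13758 (flp_g L657617) q14311, e3 q13759 L650952 q13759, trivial⟩ (by decide +kernel)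

theorem ce_g_215 : ∀ r, r < 64 → sm gg (Qf (13760 + r)) = Qf (tab Gen.g (13760 + r)) :=
  edges_tab (sm gg) Qf (tab Gen.g) 13760 [(13760, 13760), (13761, 11599), (13762, 11602), (13763, 13763), (13764, 11609), (13765, 14541), (13766, 11619), (13767, 13851), (13768, 13961), (13769, 13769), (13770, 13770), (13771, 13771), (13772, 13772), (13773, 11632), (13774, 13774), (13775, 13775), (13776, 13776), (13777, 13777), (13778, 11638), (13779, 15967), (13780, 13780), (13781, 11641), (13782, 14114), (13783, 11645), (13784, 13784), (13785, 13785), (13786, 14629), (13787, 13787), (13788, 13788), (13789, 13789), (13790, 14038), (13791, 14053), (13792, 13792), (13793, 13793), (13794, 13794), (13795, 11670), (13796, 13853), (13797, 11676), (13798, 15977), (13799, 13799), (13800, 13800), (13801, 15980), (13802, 11693), (13803, 11694), (13804, 15983), (13805, 13210), (13806, 13606), (13807, 11684), (13808, 15987), (13809, 11703), (13810, 13588), (13811, 13589), (13812, 13590), (13813, 13639), (13814, 11692), (13815, 15993), (13816, 15982),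 (13817, 13702), (13818, 15996), (13819, 11699), (13820, 11700), (13821, 11698), (13822, 16000), (13823, 15998)]
    ⟨e3 q13760 L650968 q13760, e3 q13761 L650985 q11599, e3 q13762 L651003 q11602, e3 q13763 L651016 q13763, e3 q13764 L651027 q11609, e3 q13765 (flp_g L659911) q14541, e3 q13766 (flp_g L651038) q11619, e3 q13767 (flp_g L651999) q13851, e3 q13768 (flp_g L653578) q13961, e3 q13769 L651068 q13769, e3 q13770 L651085 q13770, e3 q13771 L651092 q13771, e3 q13772 L651099 q13772, e3 q13773 L651114 q11632, e3 q13774 L651124 q13774, e3 q13775 L651133 q13775, e3 q13776 L651136 q13776, e3 q13777 L651143 q13777, e3 q13778 (flp_g L651144) q11638, e3 q13779 (flp_g L672911) q15967, e3 q13780 L651162 q13780, e3 q13781 L651167 q11641, e3 q13782 (flp_g L655442) q14114, e3 q13783 L651181 q11645, e3 q13784 L651187 q13784, e3 q13785 L651195 q13785, e3 q13786 (flp_g L660716) q14629, e3 q13787 L651212 q13787, e3 q13788 L651218 q13788, e3 q13789 L651227 q13789, e3 q13790 (flp_g L654508) q14038, e3 q13791 (flp_g L654694) q14053, e3 q13792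 L651245 q13792, e3 q13793 L651253 q13793, e3 q13794 L651258 q13794, e3 q13795 (flp_g L651260) q11670, e3 q13796 (flp_g L652045) q13853, e3 q13797 L651283 q11676, e3 q13798 L672977 q15977, e3 q13799 L651308 q13799, e3 q13800 L651320 q13800, e3 q13801 L673018 q15980, e3 q13802 L651350 q11693, e3 q13803 L651364 q11694, e3 q13804 L673070 q15983, e3 q13805 L651395 q13210, e3 q13806 L651408 q13606, e3 q13807 (flp_g L651414) q11684, e3 q13808 (flp_g L673144) q15987, e3 q13809 L651438 q11703, e3 q13810 L651453 q13588, e3 q13811 L651468 q13589, e3 q13812 L651478 q13590, e3 q13813 L651495 q13639, e3 q13814 (flp_g L651500) q11692, e3 q13815 (flp_g L673230) q15993, e3 q13816 (flp_g L673063) q15982, e3 q13817 L651546 q13702, e3 q13818 L673260 q15996, e3 q13819 L651576 q11699, e3 q13820 L651589 q11700, e3 q13821 (flp_g L651595) q11698, e3 q13822 (flp_g L673329) q16000, e3 q13823 (flp_g L673298) q15998, trivial⟩ (by decide +kernel)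

theorem ce_g_216 : ∀ r, r < 64 → sm gg (Qf (13824 + r)) = Qf (tab Gen.g (13824 + r)) :=
  edges_tab (sm gg) Qf (tab Gen.g) 13824 [(13824, 13824), (13825, 11702), (13826, 16003), (13827, 15989), (13828, 11706), (13829, 11707), (13830, 11708), (13831, 16006), (13832, 16007), (13833, 13833), (13834, 13834), (13835, 13835), (13836, 13836), (13837, 13837), (13838, 13838), (13839, 11716), (13840, 11717), (13841, 11718), (13842, 16015), (13843, 16016), (13844, 16017), (13845, 11723), (13846, 13633), (13847, 12731), (13848, 12734), (13849, 11737), (13850, 11728), (13851, 13767), (13852, 12732), (13853, 13796), (13854, 11739), (13855, 13575), (13856, 11763), (13857, 11790), (13858, 11741), (13859, 16024), (13860, 16025), (13861, 11794), (13862, 11744), (13863, 11745), (13864, 16030), (13865, 16031), (13866, 13866), (13867, 11802), (13868, 11751), (13869, 12758), (13870, 12768), (13871, 11758), (13872, 13573), (13873, 13574), (13874, 13874), (13875, 13095), (13876, 13576), (13877, 16039), (13878, 13878), (13879, 13879), (13880, 11845),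 (13881, 11772), (13882, 16043), (13883, 16044), (13884, 11776), (13885, 11777), (13886, 12741), (13887, 13074)]
    ⟨e3 q13824 L651641 q13824, e3 q13825 L651648 q11702, e3 q13826 (flp_g L673360) q16003, e3 q13827 (flp_g L673167) q15989, e3 q13828 L651674 q11706, e3 q13829 L651695 q11707, e3 q13830 L651709 q11708, e3 q13831 (flp_g L673395) q16006, e3 q13832 (flp_g L673409) q16007, e3 q13833 L651749 q13833, e3 q13834 L651765 q13834, e3 q13835 L651777 q13835, e3 q13836 L651789 q13836, e3 q13837 L651805 q13837, e3 q13838 L651817 q13838, e3 q13839 L651829 q11716, e3 q13840 L651840 q11717, e3 q13841 L651849 q11718, e3 q13842 (flp_g L673525) q16015, e3 q13843 (flp_g L673533) q16016, e3 q13844 (flp_g L673541) q16017, e3 q13845 (flp_g L651881) q11723, e3 q13846 L651909 q13633, e3 q13847 L651933 q12731, e3 q13848 L651950 q12734, e3 q13849 L651965 q11737, e3 q13850 L651981 q11728, e3 q13851 L651999 q13767, e3 q13852 L652027 q12732, e3 q13853 L652045 q13796, e3 q13854 (flp_g L652047) q11739, e3 q13855 L652077 q13575, e3 q13856 L652094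 q11763, e3 q13857 L652116 q11790, e3 q13858 L652130 q11741, e3 q13859 (flp_g L673642) q16024, e3 q13860 (flp_g L673662) q16025, e3 q13861 L652167 q11794, e3 q13862 L652180 q11744, e3 q13863 L652193 q11745, e3 q13864 (flp_g L673732) q16030, e3 q13865 (flp_g L673749) q16031, e3 q13866 L652233 q13866, e3 q13867 L652249 q11802, e3 q13868 L652269 q11751, e3 q13869 L652282 q12758, e3 q13870 L652301 q12768, e3 q13871 (flp_g L652307) q11758, e3 q13872 L652337 q13573, e3 q13873 L652352 q13574, e3 q13874 L652372 q13874, e3 q13875 L652381 q13095, e3 q13876 L652401 q13576, e3 q13877 L673870 q16039, e3 q13878 L652434 q13878, e3 q13879 L652445 q13879, e3 q13880 L652466 q11845, e3 q13881 L652479 q11772, e3 q13882 (flp_g L673945) q16043, e3 q13883 (flp_g L673966) q16044, e3 q13884 L652514 q11776, e3 q13885 L652532 q11777, e3 q13886 L652542 q12741, e3 q13887 L652562 q13074, trivial⟩ (by decide +kernel)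

theorem ce_g_217 : ∀ r, r < 64 → sm gg (Qf (13888 + r)) = Qf (tab Gen.g (13888 + r)) :=
  edges_tab (sm gg) Qf (tab Gen.g) 13888 [(13888, 16047), (13889, 16052), (13890, 13083), (13891, 13572), (13892, 11781), (13893, 16056), (13894, 13894), (13895, 12742), (13896, 12776), (13897, 13614), (13898, 11788), (13899, 16060), (13900, 16061), (13901, 16065), (13902, 12781), (13903, 16023), (13904, 11792), (13905, 11793), (13906, 16071), (13907, 16072), (13908, 16073), (13909, 16029), (13910, 13603), (13911, 11797), (13912, 11798), (13913, 16082), (13914, 16083), (13915, 11800), (13916, 12839), (13917, 11867), (13918, 12787), (13919, 12738), (13920, 12789), (13921, 11805), (13922, 11806), (13923, 16088), (13924, 16089), (13925, 12845), (13926, 12852), (13927, 11876), (13928, 11816), (13929, 11817), (13930, 16093), (13931, 16094), (13932, 12857), (13933, 11819), (13934, 12790), (13935, 13611), (13936, 11821), (13937, 16100), (13938, 16101), (13939, 11825), (13940, 13265), (13941, 13646), (13942, 11937), (13943, 11938), (13944, 12780),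 (13945, 13613), (13946, 16058), (13947, 12795), (13948, 11832), (13949, 11833), (13950, 13233), (13951, 16109)]
    ⟨e3 q13888 (flp_g L674015) q16047, e3 q13889 L674077 q16052, e3 q13890 L652601 q13083, e3 q13891 L652615 q13572, e3 q13892 (flp_g L652620) q11781, e3 q13893 (flp_g L674146) q16056, e3 q13894 L652644 q13894, e3 q13895 L652660 q12742, e3 q13896 L652678 q12776, e3 q13897 L652695 q13614, e3 q13898 L652708 q11788, e3 q13899 (flp_g L674207) q16060, e3 q13900 (flp_g L674224) q16061, e3 q13901 L674269 q16065, e3 q13902 L652761 q12781, e3 q13903 (flp_g L673626) q16023, e3 q13904 L652781 q11792, e3 q13905 L652793 q11793, e3 q13906 (flp_g L674365) q16071, e3 q13907 (flp_g L674379) q16072, e3 q13908 (flp_g L674391) q16073, e3 q13909 (flp_g L673715) q16029, e3 q13910 L652847 q13603, e3 q13911 L652860 q11797, e3 q13912 L652874 q11798, e3 q13913 (flp_g L674494) q16082, e3 q13914 (flp_g L674505) q16083, e3 q13915 (flp_g L652899) q11800, e3 q13916 L652927 q12839, e3 q13917 L652941 q11867, e3 q13918 L652959 q12787, e3 q13919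 L652971 q12738, e3 q13920 L652992 q12789, e3 q13921 L653003 q11805, e3 q13922 L653018 q11806, e3 q13923 (flp_g L674581) q16088, e3 q13924 (flp_g L674596) q16089, e3 q13925 L653053 q12845, e3 q13926 L653072 q12852, e3 q13927 L653089 q11876, e3 q13928 L653102 q11816, e3 q13929 L653118 q11817, e3 q13930 (flp_g L674650) q16093, e3 q13931 (flp_g L674666) q16094, e3 q13932 L653155 q12857, e3 q13933 (flp_g L653163) q11819, e3 q13934 L653193 q12790, e3 q13935 L653206 q13611, e3 q13936 L653219 q11821, e3 q13937 (flp_g L674758) q16100, e3 q13938 (flp_g L674777) q16101, e3 q13939 L653259 q11825, e3 q13940 L653273 q13265, e3 q13941 L653292 q13646, e3 q13942 L653309 q11937, e3 q13943 L653321 q11938, e3 q13944 L653340 q12780, e3 q13945 L653357 q13613, e3 q13946 (flp_g L674181) q16058, e3 q13947 L653383 q12795, e3 q13948 L653391 q11832, e3 q13949 L653409 q11833, e3 q13950 L653421 q13233, e3 q13951 (flp_g L674903) q16109, trivial⟩ (by decide +kernel)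

theorem ce_g_218 : ∀ r, r < 64 → sm gg (Qf (13952 + r)) = Qf (tab Gen.g (13952 + r)) :=
  edges_tab (sm gg) Qf (tab Gen.g) 13952 [(13952, 16113), (13953, 13266), (13954, 13647), (13955, 11837), (13956, 16117), (13957, 11960), (13958, 11840), (13959, 12807), (13960, 12809), (13961, 13768), (13962, 12812), (13963, 16042), (13964, 11847), (13965, 11848), (13966, 16124), (13967, 16125), (13968, 11849), (13969, 16086), (13970, 12819), (13971, 12820), (13972, 12784), (13973, 12788), (13974, 11854), (13975, 11855), (13976, 11856), (13977, 13159), (13978, 13197), (13979, 16135), (13980, 16143), (13981, 16137), (13982, 16138), (13983, 16146), (13984, 11861), (13985, 11862), (13986, 11860), (13987, 16150), (13988, 16148), (13989, 16055), (13990, 11864), (13991, 16154), (13992, 16087), (13993, 12841), (13994, 12843), (13995, 11874), (13996, 13160), (13997, 13143), (13998, 12870), (13999, 16158), (14000, 12872), (14001, 14001), (14002, 11883), (14003, 11884), (14004, 16164), (14005, 16165), (14006, 16166), (14007, 11885), (14008, 16170),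 (14009, 12879), (14010, 12880), (14011, 14011), (14012, 14012), (14013, 11890), (14014, 11891), (14015, 11892)]
    ⟨e3 q13952 L674949 q16113, e3 q13953 L653460 q13266, e3 q13954 L653472 q13647, e3 q13955 (flp_g L653479) q11837, e3 q13956 (flp_g L675022) q16117, e3 q13957 L653508 q11960, e3 q13958 (flp_g L653513) q11840, e3 q13959 L653541 q12807, e3 q13960 L653558 q12809, e3 q13961 L653578 q13768, e3 q13962 L653592 q12812, e3 q13963 (flp_g L673929) q16042, e3 q13964 L653611 q11847, e3 q13965 L653626 q11848, e3 q13966 (flp_g L675122) q16124, e3 q13967 (flp_g L675139) q16125, e3 q13968 (flp_g L653651) q11849, e3 q13969 (flp_g L674550) q16086, e3 q13970 L653685 q12819, e3 q13971 L653697 q12820, e3 q13972 L653705 q12784, e3 q13973 L653723 q12788, e3 q13974 L653731 q11854, e3 q13975 L653751 q11855, e3 q13976 L653763 q11856, e3 q13977 L653771 q13159, e3 q13978 L653791 q13197, e3 q13979 (flp_g L675267) q16135, e3 q13980 L675367 q16143, e3 q13981 (flp_g L675295) q16137, e3 q13982 (flp_g L675303) q16138, e3 q13983 L675391 q16146,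 e3 q13984 L653854 q11861, e3 q13985 L653868 q11862, e3 q13986 (flp_g L653873) q11860, e3 q13987 (flp_g L675452) q16150, e3 q13988 (flp_g L675428) q16148, e3 q13989 (flp_g L674135) q16055, e3 q13990 L653912 q11864, e3 q13991 (flp_g L675492) q16154, e3 q13992 (flp_g L674570) q16087, e3 q13993 L653943 q12841, e3 q13994 L653963 q12843, e3 q13995 L653979 q11874, e3 q13996 L653997 q13160, e3 q13997 L654016 q13143, e3 q13998 L654029 q12870, e3 q13999 L675545 q16158, e3 q14000 L654058 q12872, e3 q14001 L654068 q14001, e3 q14002 L654077 q11883, e3 q14003 L654089 q11884, e3 q14004 (flp_g L675625) q16164, e3 q14005 (flp_g L675642) q16165, e3 q14006 (flp_g L675655) q16166, e3 q14007 (flp_g L654132) q11885, e3 q14008 (flp_g L675709) q16170, e3 q14009 L654165 q12879, e3 q14010 L654177 q12880, e3 q14011 L654187 q14011, e3 q14012 L654200 q14012, e3 q14013 L654209 q11890, e3 q14014 L654219 q11891, e3 q14015 L654231 q11892, trivial⟩ (by decide +kernel)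

theorem ce_g_219 : ∀ r, r < 64 → sm gg (Qf (14016 + r)) = Qf (tab Gen.g (14016 + r)) :=
  edges_tab (sm gg) Qf (tab Gen.g) 14016 [(14016, 16179), (14017, 16180), (14018, 16181), (14019, 16183), (14020, 16184), (14021, 14021), (14022, 14022), (14023, 12536), (14024, 11897), (14025, 11898), (14026, 16193), (14027, 11900), (14028, 13009), (14029, 16195), (14030, 12889), (14031, 12006), (14032, 12890), (14033, 14033), (14034, 14034), (14035, 11907), (14036, 11908), (14037, 11909), (14038, 13790), (14039, 16205), (14040, 16206), (14041, 11912), (14042, 13027), (14043, 13029), (14044, 12899), (14045, 12020), (14046, 12900), (14047, 12021), (14048, 12901), (14049, 14049), (14050, 14050), (14051, 11922), (14052, 11923), (14053, 13791), (14054, 16218), (14055, 16219), (14056, 12911), (14057, 14057), (14058, 11925), (14059, 16226), (14060, 16227), (14061, 16229), (14062, 12915), (14063, 14063), (14064, 11929), (14065, 11930), (14066, 16235), (14067, 16236), (14068, 16237), (14069, 14069), (14070, 11935), (14071, 11936), (14072, 13654),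 (14073, 16242), (14074, 16243), (14075, 16106), (14076, 12871), (14077, 16156), (14078, 12921), (14079, 14079)]
    ⟨e3 q14016 (flp_g L675804) q16179, e3 q14017 (flp_g L675824) q16180, e3 q14018 (flp_g L675837) q16181, e3 q14019 (flp_g L675859) q16183, e3 q14020 (flp_g L675867) q16184, e3 q14021 L654304 q14021, e3 q14022 L654317 q14022, e3 q14023 L654328 q12536, e3 q14024 L654339 q11897, e3 q14025 L654348 q11898, e3 q14026 (flp_g L675977) q16193, e3 q14027 L654375 q11900, e3 q14028 L654389 q13009, e3 q14029 (flp_g L676003) q16195, e3 q14030 L654414 q12889, e3 q14031 L654423 q12006, e3 q14032 L654441 q12890, e3 q14033 L654448 q14033, e3 q14034 L654463 q14034, e3 q14035 L654469 q11907, e3 q14036 L654485 q11908, e3 q14037 L654494 q11909, e3 q14038 L654508 q13790, e3 q14039 (flp_g L676137) q16205, e3 q14040 (flp_g L676148) q16206, e3 q14041 L654545 q11912, e3 q14042 L654558 q13027, e3 q14043 L654576 q13029, e3 q14044 L654586 q12899, e3 q14045 L654598 q12020, e3 q14046 L654615 q12900, e3 q14047 L654625 q12021, e3 q14048 L654634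 q12901, e3 q14049 L654649 q14049, e3 q14050 L654656 q14050, e3 q14051 L654671 q11922, e3 q14052 L654681 q11923, e3 q14053 L654694 q13791, e3 q14054 (flp_g L676303) q16218, e3 q14055 (flp_g L676311) q16219, e3 q14056 L654729 q12911, e3 q14057 L654746 q14057, e3 q14058 L654756 q11925, e3 q14059 (flp_g L676412) q16226, e3 q14060 (flp_g L676429) q16227, e3 q14061 L676448 q16229, e3 q14062 L654807 q12915, e3 q14063 L654818 q14063, e3 q14064 L654827 q11929, e3 q14065 L654838 q11930, e3 q14066 (flp_g L676529) q16235, e3 q14067 (flp_g L676546) q16236, e3 q14068 (flp_g L676562) q16237, e3 q14069 L654893 q14069, e3 q14070 L654906 q11935, e3 q14071 L654923 q11936, e3 q14072 L654940 q13654, e3 q14073 (flp_g L676629) q16242, e3 q14074 (flp_g L676643) q16243, e3 q14075 (flp_g L674858) q16106, e3 q14076 L654985 q12871, e3 q14077 (flp_g L675531) q16156, e3 q14078 L655010 q12921, e3 q14079 L655018 q14079, trivial⟩ (by decide +kernel)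

theorem ce_g_220 : ∀ r, r < 64 → sm gg (Qf (14080 + r)) = Qf (tab Gen.g (14080 + r)) :=
  edges_tab (sm gg) Qf (tab Gen.g) 14080 [(14080, 11942), (14081, 11943), (14082, 16252), (14083, 16253), (14084, 16254), (14085, 11944), (14086, 16258), (14087, 12929), (14088, 12930), (14089, 14089), (14090, 14090), (14091, 11949), (14092, 11950), (14093, 11951), (14094, 16265), (14095, 16270), (14096, 16267), (14097, 16268), (14098, 16273), (14099, 11956), (14100, 11957), (14101, 11955), (14102, 16277), (14103, 16275), (14104, 14104), (14105, 11959), (14106, 16281), (14107, 11962), (14108, 16282), (14109, 12948), (14110, 12950), (14111, 11968), (14112, 11969), (14113, 16285), (14114, 13782), (14115, 12959), (14116, 11971), (14117, 16290), (14118, 12962), (14119, 12963), (14120, 14120), (14121, 14121), (14122, 11976), (14123, 11977), (14124, 11978), (14125, 16299), (14126, 16300), (14127, 16301), (14128, 16308), (14129, 16303), (14130, 16304), (14131, 11980), (14132, 16311), (14133, 16312), (14134, 12978), (14135, 12979), (14136, 12980),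 (14137, 14137), (14138, 14138), (14139, 14139), (14140, 11988), (14141, 11989), (14142, 11990), (14143, 16333)]
    ⟨e3 q14080 L655025 q11942, e3 q14081 L655035 q11943, e3 q14082 (flp_g L676750) q16252, e3 q14083 (flp_g L676769) q16253, e3 q14084 (flp_g L676782) q16254, e3 q14085 (flp_g L655076) q11944, e3 q14086 (flp_g L676832) q16258, e3 q14087 L655105 q12929, e3 q14088 L655115 q12930, e3 q14089 L655123 q14089, e3 q14090 L655138 q14090, e3 q14091 L655147 q11949, e3 q14092 L655163 q11950, e3 q14093 L655175 q11951, e3 q14094 (flp_g L676915) q16265, e3 q14095 L676964 q16270, e3 q14096 (flp_g L676939) q16267, e3 q14097 (flp_g L676947) q16268, e3 q14098 L677002 q16273, e3 q14099 L655246 q11956, e3 q14100 L655258 q11957, e3 q14101 (flp_g L655265) q11955, e3 q14102 (flp_g L677062) q16277, e3 q14103 (flp_g L677035) q16275, e3 q14104 L655308 q14104, e3 q14105 L655317 q11959, e3 q14106 (flp_g L677105) q16281, e3 q14107 L655339 q11962, e3 q14108 (flp_g L677120) q16282, e3 q14109 L655368 q12948, e3 q14110 L655386 q12950, e3 q14111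 L655400 q11968, e3 q14112 L655411 q11969, e3 q14113 (flp_g L677168) q16285, e3 q14114 L655442 q13782, e3 q14115 L655452 q12959, e3 q14116 (flp_g L655454) q11971, e3 q14117 (flp_g L677226) q16290, e3 q14118 L655481 q12962, e3 q14119 L655492 q12963, e3 q14120 L655498 q14120, e3 q14121 L655509 q14121, e3 q14122 L655514 q11976, e3 q14123 L655523 q11977, e3 q14124 L655534 q11978, e3 q14125 (flp_g L677314) q16299, e3 q14126 (flp_g L677332) q16300, e3 q14127 (flp_g L677345) q16301, e3 q14128 L677409 q16308, e3 q14129 (flp_g L677361) q16303, e3 q14130 (flp_g L677367) q16304, e3 q14131 L655611 q11980, e3 q14132 (flp_g L677450) q16311, e3 q14133 (flp_g L677461) q16312, e3 q14134 L655637 q12978, e3 q14135 L655645 q12979, e3 q14136 L655655 q12980, e3 q14137 L655661 q14137, e3 q14138 L655676 q14138, e3 q14139 L655687 q14139, e3 q14140 L655694 q11988, e3 q14141 L655704 q11989, e3 q14142 L655716 q11990, e3 q14143 L677667 q16333, trivial⟩ (by decide +kernel)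

theorem ce_g_221 : ∀ r, r < 64 → sm gg (Qf (14144 + r)) = Qf (tab Gen.g (14144 + r)) :=
  edges_tab (sm gg) Qf (tab Gen.g) 14144 [(14144, 11992), (14145, 11993), (14146, 16327), (14147, 16328), (14148, 16329), (14149, 16339), (14150, 16331), (14151, 16332), (14152, 11991), (14153, 16344), (14154, 16335), (14155, 16347), (14156, 14156), (14157, 14157), (14158, 11996), (14159, 16351), (14160, 12001), (14161, 14161), (14162, 12000), (14163, 16355), (14164, 16353), (14165, 14165), (14166, 12004), (14167, 12007), (14168, 16199), (14169, 16201), (14170, 13011), (14171, 13012), (14172, 13013), (14173, 13014), (14174, 13015), (14175, 14175), (14176, 14176), (14177, 14177), (14178, 12016), (14179, 12017), (14180, 12018), (14181, 16372), (14182, 16373), (14183, 16374), (14184, 16212), (14185, 16214), (14186, 16216), (14187, 13031), (14188, 13032), (14189, 13033), (14190, 13035), (14191, 13036), (14192, 13037), (14193, 14193), (14194, 14194), (14195, 14195), (14196, 12033), (14197, 12034), (14198, 12035), (14199, 16390), (14200, 16391),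 (14201, 16392), (14202, 14202), (14203, 12047), (14204, 12048), (14205, 14205), (14206, 12043), (14207, 12044)]
    ⟨e3 q14144 L655732 q11992, e3 q14145 L655738 q11993, e3 q14146 (flp_g L677603) q16327, e3 q14147 (flp_g L677619) q16328, e3 q14148 (flp_g L677635) q16329, e3 q14149 L677730 q16339, e3 q14150 (flp_g L677657) q16331, e3 q14151 (flp_g L677665) q16332, e3 q14152 (flp_g L655814) q11991, e3 q14153 (flp_g L677794) q16344, e3 q14154 (flp_g L677689) q16335, e3 q14155 L677812 q16347, e3 q14156 L655863 q14156, e3 q14157 L655876 q14157, e3 q14158 (flp_g L655880) q11996, e3 q14159 (flp_g L677865) q16351, e3 q14160 L655899 q12001, e3 q14161 L655909 q14161, e3 q14162 L655916 q12000, e3 q14163 (flp_g L677896) q16355, e3 q14164 (flp_g L677878) q16353, e3 q14165 L655940 q14165, e3 q14166 L655947 q12004, e3 q14167 L655955 q12007, e3 q14168 (flp_g L676059) q16199, e3 q14169 (flp_g L676086) q16201, e3 q14170 L655988 q13011, e3 q14171 L655999 q13012, e3 q14172 L656012 q13013, e3 q14173 L656026 q13014, e3 q14174 L656036 q13015, e3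 q14175 L656043 q14175, e3 q14176 L656057 q14176, e3 q14177 L656068 q14177, e3 q14178 L656078 q12016, e3 q14179 L656089 q12017, e3 q14180 L656095 q12018, e3 q14181 (flp_g L678094) q16372, e3 q14182 (flp_g L678102) q16373, e3 q14183 (flp_g L678107) q16374, e3 q14184 (flp_g L676225) q16212, e3 q14185 (flp_g L676257) q16214, e3 q14186 (flp_g L676277) q16216, e3 q14187 L656167 q13031, e3 q14188 L656175 q13032, e3 q14189 L656192 q13033, e3 q14190 L656205 q13035, e3 q14191 L656216 q13036, e3 q14192 L656226 q13037, e3 q14193 L656237 q14193, e3 q14194 L656248 q14194, e3 q14195 L656256 q14195, e3 q14196 L656267 q12033, e3 q14197 L656273 q12034, e3 q14198 L656279 q12035, e3 q14199 (flp_g L678286) q16390, e3 q14200 (flp_g L678293) q16391, e3 q14201 (flp_g L678301) q16392, e3 q14202 L656321 q14202, e3 q14203 L656333 q12047, e3 q14204 L656354 q12048, e3 q14205 L656371 q14205, e3 q14206 L656380 q12043, e3 q14207 L656399 q12044, trivial⟩ (by decide +kernel)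

theorem ce_g_222 : ∀ r, r < 64 → sm gg (Qf (14208 + r)) = Qf (tab Gen.g (14208 + r)) :=
  edges_tab (sm gg) Qf (tab Gen.g) 14208 [(14208, 12042), (14209, 12072), (14210, 16395), (14211, 14211), (14212, 14212), (14213, 12066), (14214, 16393), (14215, 12193), (14216, 12197), (14217, 12198), (14218, 12055), (14219, 13107), (14220, 13117), (14221, 16402), (14222, 12057), (14223, 16406), (14224, 12207), (14225, 12059), (14226, 16410), (14227, 12061), (14228, 16412), (14229, 12108), (14230, 12213), (14231, 12063), (14232, 16418), (14233, 16419), (14234, 12217), (14235, 12067), (14236, 12096), (14237, 16399), (14238, 14238), (14239, 16426), (14240, 12774), (14241, 12225), (14242, 12073), (14243, 12086), (14244, 16396), (14245, 12230), (14246, 12232), (14247, 12077), (14248, 16432), (14249, 16433), (14250, 16097), (14251, 12772), (14252, 12238), (14253, 12081), (14254, 12082), (14255, 16421), (14256, 16420), (14257, 16442), (14258, 12244), (14259, 12245), (14260, 12087), (14261, 13113), (14262, 16430), (14263, 16449), (14264, 13585),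 (14265, 14265), (14266, 12091), (14267, 12856), (14268, 12775), (14269, 12258), (14270, 12259), (14271, 12097)]
    ⟨e3 q14208 L656416 q12042, e3 q14209 L656428 q12072, e3 q14210 (flp_g L678355) q16395, e3 q14211 L656460 q14211, e3 q14212 L656468 q14212, e3 q14213 L656480 q12066, e3 q14214 (flp_g L678324) q16393, e3 q14215 L656511 q12193, e3 q14216 L656523 q12197, e3 q14217 L656542 q12198, e3 q14218 L656558 q12055, e3 q14219 L656566 q13107, e3 q14220 L656580 q13117, e3 q14221 (flp_g L678456) q16402, e3 q14222 (flp_g L656594) q12057, e3 q14223 (flp_g L678517) q16406, e3 q14224 L656633 q12207, e3 q14225 L656643 q12059, e3 q14226 (flp_g L678574) q16410, e3 q14227 (flp_g L656658) q12061, e3 q14228 (flp_g L678608) q16412, e3 q14229 L656697 q12108, e3 q14230 L656709 q12213, e3 q14231 L656719 q12063, e3 q14232 (flp_g L678686) q16418, e3 q14233 (flp_g L678702) q16419, e3 q14234 L656750 q12217, e3 q14235 L656763 q12067, e3 q14236 L656775 q12096, e3 q14237 (flp_g L678413) q16399, e3 q14238 L656796 q14238, e3 q14239 L678790 q16426,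 e3 q14240 L656821 q12774, e3 q14241 L656832 q12225, e3 q14242 L656845 q12073, e3 q14243 L656857 q12086, e3 q14244 (flp_g L678372) q16396, e3 q14245 L656881 q12230, e3 q14246 L656899 q12232, e3 q14247 L656911 q12077, e3 q14248 (flp_g L678882) q16432, e3 q14249 (flp_g L678896) q16433, e3 q14250 (flp_g L674716) q16097, e3 q14251 L656955 q12772, e3 q14252 L656963 q12238, e3 q14253 L656969 q12081, e3 q14254 L656977 q12082, e3 q14255 (flp_g L678728) q16421, e3 q14256 (flp_g L678712) q16420, e3 q14257 (flp_g L679006) q16442, e3 q14258 L657008 q12244, e3 q14259 L657024 q12245, e3 q14260 L657035 q12087, e3 q14261 (flp_g L657050) q13113, e3 q14262 (flp_g L678860) q16430, e3 q14263 (flp_g L679084) q16449, e3 q14264 L657079 q13585, e3 q14265 L657089 q14265, e3 q14266 (flp_g L657093) q12091, e3 q14267 L657114 q12856, e3 q14268 L657129 q12775, e3 q14269 L657141 q12258, e3 q14270 L657156 q12259, e3 q14271 L657170 q12097, trivial⟩ (by decide +kernel)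

theorem ce_g_223 : ∀ r, r < 64 → sm gg (Qf (14272 + r)) = Qf (tab Gen.g (14272 + r)) :=
  edges_tab (sm gg) Qf (tab Gen.g) 14272 [(14272, 13106), (14273, 16424), (14274, 16454), (14275, 12272), (14276, 12107), (14277, 13079), (14278, 13108), (14279, 13118), (14280, 16416), (14281, 12283), (14282, 12110), (14283, 16461), (14284, 16462), (14285, 12113), (14286, 12290), (14287, 12115), (14288, 16466), (14289, 16467), (14290, 16471), (14291, 13070), (14292, 12296), (14293, 12119), (14294, 12120), (14295, 16476), (14296, 16477), (14297, 16478), (14298, 12303), (14299, 12124), (14300, 12125), (14301, 16485), (14302, 16486), (14303, 12127), (14304, 13080), (14305, 12313), (14306, 12132), (14307, 12133), (14308, 16488), (14309, 16489), (14310, 16490), (14311, 13758), (14312, 12764), (14313, 12322), (14314, 12138), (14315, 12139), (14316, 16498), (14317, 16499), (14318, 16500), (14319, 12140), (14320, 13089), (14321, 13090), (14322, 12332), (14323, 12333), (14324, 12145), (14325, 12146), (14326, 12147), (14327, 13060), (14328, 16510),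 (14329, 16511), (14330, 16520), (14331, 16512), (14332, 16513), (14333, 12152), (14334, 12153), (14335, 12151)]
    ⟨e3 q14272 L657176 q13106, e3 q14273 (flp_g L678775) q16424, e3 q14274 (flp_g L679155) q16454, e3 q14275 L657211 q12272, e3 q14276 L657224 q12107, e3 q14277 L657237 q13079, e3 q14278 L657251 q13108, e3 q14279 L657262 q13118, e3 q14280 (flp_g L678666) q16416, e3 q14281 L657291 q12283, e3 q14282 L657304 q12110, e3 q14283 (flp_g L679244) q16461, e3 q14284 (flp_g L679259) q16462, e3 q14285 L657337 q12113, e3 q14286 L657349 q12290, e3 q14287 L657357 q12115, e3 q14288 (flp_g L679298) q16466, e3 q14289 (flp_g L679308) q16467, e3 q14290 L679340 q16471, e3 q14291 L657397 q13070, e3 q14292 L657409 q12296, e3 q14293 L657417 q12119, e3 q14294 L657427 q12120, e3 q14295 (flp_g L679408) q16476, e3 q14296 (flp_g L679420) q16477, e3 q14297 (flp_g L679432) q16478, e3 q14298 L657468 q12303, e3 q14299 L657479 q12124, e3 q14300 L657494 q12125, e3 q14301 (flp_g L679503) q16485, e3 q14302 (flp_g L679515) q16486, e3 q14303 (flp_g L657517)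 q12127, e3 q14304 L657536 q13080, e3 q14305 L657547 q12313, e3 q14306 L657556 q12132, e3 q14307 L657569 q12133, e3 q14308 (flp_g L679535) q16488, e3 q14309 (flp_g L679550) q16489, e3 q14310 (flp_g L679560) q16490, e3 q14311 L657617 q13758, e3 q14312 L657628 q12764, e3 q14313 L657634 q12322, e3 q14314 L657640 q12138, e3 q14315 L657648 q12139, e3 q14316 (flp_g L679657) q16498, e3 q14317 (flp_g L679670) q16499, e3 q14318 (flp_g L679681) q16500, e3 q14319 (flp_g L657674) q12140, e3 q14320 L657691 q13089, e3 q14321 L657700 q13090, e3 q14322 L657706 q12332, e3 q14323 L657722 q12333, e3 q14324 L657728 q12145, e3 q14325 L657740 q12146, e3 q14326 L657750 q12147, e3 q14327 L657758 q13060, e3 q14328 (flp_g L679780) q16510, e3 q14329 (flp_g L679793) q16511, e3 q14330 L679884 q16520, e3 q14331 (flp_g L679805) q16512, e3 q14332 (flp_g L679811) q16513, e3 q14333 L657810 q12152, e3 q14334 L657820 q12153, e3 q14335 (flp_g L657825) q12151, trivial⟩ (by decide +kernel)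

theorem ce_g_224 : ∀ r, r < 64 → sm gg (Qf (14336 + r)) = Qf (tab Gen.g (14336 + r)) :=
  edges_tab (sm gg) Qf (tab Gen.g) 14336 [(14336, 16525), (14337, 16523), (14338, 12351), (14339, 12155), (14340, 13587), (14341, 12163), (14342, 12164), (14343, 13053), (14344, 13066), (14345, 16528), (14346, 13054), (14347, 13067), (14348, 12385), (14349, 12172), (14350, 12173), (14351, 16534), (14352, 12390), (14353, 12176), (14354, 12177), (14355, 16536), (14356, 12180), (14357, 12183), (14358, 12184), (14359, 13287), (14360, 16539), (14361, 16540), (14362, 13662), (14363, 12404), (14364, 14364), (14365, 14365), (14366, 12191), (14367, 12192), (14368, 16116), (14369, 16546), (14370, 16547), (14371, 12383), (14372, 12384), (14373, 14373), (14374, 14374), (14375, 14375), (14376, 13116), (14377, 16401), (14378, 12201), (14379, 12202), (14380, 12203), (14381, 15986), (14382, 16556), (14383, 16557), (14384, 12204), (14385, 16561), (14386, 13126), (14387, 16405), (14388, 12206), (14389, 16566), (14390, 16567), (14391, 16409), (14392, 12209),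 (14393, 13127), (14394, 16411), (14395, 12211), (14396, 16573), (14397, 16574), (14398, 16578), (14399, 13132)]
    ⟨e3 q14336 (flp_g L679939) q16525, e3 q14337 (flp_g L679913) q16523, e3 q14338 L657855 q12351, e3 q14339 L657865 q12155, e3 q14340 L657876 q13587, e3 q14341 L657890 q12163, e3 q14342 L657899 q12164, e3 q14343 L657911 q13053, e3 q14344 L657925 q13066, e3 q14345 (flp_g L679969) q16528, e3 q14346 L657949 q13054, e3 q14347 L657960 q13067, e3 q14348 L657978 q12385, e3 q14349 L657990 q12172, e3 q14350 L658011 q12173, e3 q14351 (flp_g L680054) q16534, e3 q14352 L658032 q12390, e3 q14353 L658043 q12176, e3 q14354 L658063 q12177, e3 q14355 (flp_g L680085) q16536, e3 q14356 L658091 q12180, e3 q14357 L658103 q12183, e3 q14358 L658119 q12184, e3 q14359 (flp_g L658133) q13287, e3 q14360 (flp_g L680128) q16539, e3 q14361 (flp_g L680139) q16540, e3 q14362 L658161 q13662, e3 q14363 L658172 q12404, e3 q14364 L658183 q14364, e3 q14365 L658203 q14365, e3 q14366 L658215 q12191, e3 q14367 L658230 q12192, e3 q14368 (flp_g L675010)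 q16116, e3 q14369 (flp_g L680227) q16546, e3 q14370 (flp_g L680237) q16547, e3 q14371 L658263 q12383, e3 q14372 L658282 q12384, e3 q14373 L658292 q14373, e3 q14374 L658306 q14374, e3 q14375 L658321 q14375, e3 q14376 L658329 q13116, e3 q14377 (flp_g L678441) q16401, e3 q14378 L658349 q12201, e3 q14379 L658360 q12202, e3 q14380 L658367 q12203, e3 q14381 (flp_g L673134) q15986, e3 q14382 (flp_g L680360) q16556, e3 q14383 (flp_g L680369) q16557, e3 q14384 (flp_g L658396) q12204, e3 q14385 (flp_g L680429) q16561, e3 q14386 L658437 q13126, e3 q14387 (flp_g L678504) q16405, e3 q14388 L658459 q12206, e3 q14389 (flp_g L680493) q16566, e3 q14390 (flp_g L680504) q16567, e3 q14391 (flp_g L678558) q16409, e3 q14392 L658502 q12209, e3 q14393 L658517 q13127, e3 q14394 (flp_g L678594) q16411, e3 q14395 L658537 q12211, e3 q14396 (flp_g L680577) q16573, e3 q14397 (flp_g L680587) q16574, e3 q14398 L680625 q16578, e3 q14399 L658579 q13132, trivial⟩ (by decide +kernel)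

theorem ce_g_225 : ∀ r, r < 64 → sm gg (Qf (14400 + r)) = Qf (tab Gen.g (14400 + r)) :=
  edges_tab (sm gg) Qf (tab Gen.g) 14400 [(14400, 16417), (14401, 12215), (14402, 12216), (14403, 16584), (14404, 16585), (14405, 16586), (14406, 16423), (14407, 12220), (14408, 12221), (14409, 16592), (14410, 16593), (14411, 12223), (14412, 16595), (14413, 13141), (14414, 13142), (14415, 16429), (14416, 12228), (14417, 12229), (14418, 16079), (14419, 16599), (14420, 16600), (14421, 12914), (14422, 16098), (14423, 13149), (14424, 13626), (14425, 12234), (14426, 12235), (14427, 16609), (14428, 16610), (14429, 16611), (14430, 12236), (14431, 16618), (14432, 13157), (14433, 13158), (14434, 16440), (14435, 16441), (14436, 12241), (14437, 12242), (14438, 12243), (14439, 16625), (14440, 16582), (14441, 16626), (14442, 16636), (14443, 16628), (14444, 16629), (14445, 16448), (14446, 16640), (14447, 12249), (14448, 12250), (14449, 12248), (14450, 16643), (14451, 16642), (14452, 12252), (14453, 16646), (14454, 12255), (14455, 13275), (14456, 16647),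 (14457, 13173), (14458, 13174), (14459, 13175), (14460, 16453), (14461, 12262), (14462, 12263), (14463, 12264)]
    ⟨e3 q14400 (flp_g L678676) q16417, e3 q14401 L658595 q12215, e3 q14402 L658605 q12216, e3 q14403 (flp_g L680705) q16584, e3 q14404 (flp_g L680719) q16585, e3 q14405 (flp_g L680731) q16586, e3 q14406 (flp_g L678757) q16423, e3 q14407 L658649 q12220, e3 q14408 L658662 q12221, e3 q14409 (flp_g L680794) q16592, e3 q14410 (flp_g L680804) q16593, e3 q14411 (flp_g L658679) q12223, e3 q14412 (flp_g L680829) q16595, e3 q14413 L658709 q13141, e3 q14414 L658723 q13142, e3 q14415 (flp_g L678844) q16429, e3 q14416 L658744 q12228, e3 q14417 L658756 q12229, e3 q14418 (flp_g L674451) q16079, e3 q14419 (flp_g L680882) q16599, e3 q14420 (flp_g L680891) q16600, e3 q14421 L658789 q12914, e3 q14422 (flp_g L674733) q16098, e3 q14423 L658810 q13149, e3 q14424 L658818 q13626, e3 q14425 L658824 q12234, e3 q14426 L658832 q12235, e3 q14427 (flp_g L680986) q16609, e3 q14428 (flp_g L680993) q16610, e3 q14429 (flp_g L681002) q16611, e3 q14430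 (flp_g L658854) q12236, e3 q14431 (flp_g L681066) q16618, e3 q14432 L658878 q13157, e3 q14433 L658888 q13158, e3 q14434 (flp_g L678978) q16440, e3 q14435 (flp_g L678996) q16441, e3 q14436 L658908 q12241, e3 q14437 L658914 q12242, e3 q14438 L658922 q12243, e3 q14439 (flp_g L681120) q16625, e3 q14440 (flp_g L680681) q16582, e3 q14441 (flp_g L681128) q16626, e3 q14442 L681188 q16636, e3 q14443 (flp_g L681140) q16628, e3 q14444 (flp_g L681144) q16629, e3 q14445 (flp_g L679073) q16448, e3 q14446 L681227 q16640, e3 q14447 L658979 q12249, e3 q14448 L658985 q12250, e3 q14449 (flp_g L658990) q12248, e3 q14450 (flp_g L681265) q16643, e3 q14451 (flp_g L681252) q16642, e3 q14452 L659028 q12252, e3 q14453 (flp_g L681293) q16646, e3 q14454 L659047 q12255, e3 q14455 L659059 q13275, e3 q14456 (flp_g L681308) q16647, e3 q14457 L659080 q13173, e3 q14458 L659089 q13174, e3 q14459 L659104 q13175, e3 q14460 (flp_g L679143) q16453, e3 q14461 L659116 q12262, e3 q14462 L659125 q12263, e3 q14463 L659131 q12264, trivial⟩ (by decide +kernel)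

theorem ce_g_226 : ∀ r, r < 64 → sm gg (Qf (14464 + r)) = Qf (tab Gen.g (14464 + r)) :=
  edges_tab (sm gg) Qf (tab Gen.g) 14464 [(14464, 16149), (14465, 16656), (14466, 16657), (14467, 12267), (14468, 13276), (14469, 13277), (14470, 12355), (14471, 12369), (14472, 12370), (14473, 13181), (14474, 13182), (14475, 13105), (14476, 12863), (14477, 13185), (14478, 12276), (14479, 12277), (14480, 12278), (14481, 16670), (14482, 16671), (14483, 13289), (14484, 12279), (14485, 13131), (14486, 16415), (14487, 12281), (14488, 16676), (14489, 16677), (14490, 16570), (14491, 13170), (14492, 13624), (14493, 12285), (14494, 12286), (14495, 16684), (14496, 16685), (14497, 13625), (14498, 13187), (14499, 16563), (14500, 13188), (14501, 16465), (14502, 12292), (14503, 12293), (14504, 16696), (14505, 16697), (14506, 16698), (14507, 12294), (14508, 16704), (14509, 13195), (14510, 13196), (14511, 16474), (14512, 16475), (14513, 12299), (14514, 12300), (14515, 12301), (14516, 16713), (14517, 16714), (14518, 16715), (14519, 16717), (14520, 16718),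 (14521, 13213), (14522, 13608), (14523, 16081), (14524, 12306), (14525, 12307), (14526, 16729), (14527, 12309)]
    ⟨e3 q14464 (flp_g L675444) q16149, e3 q14465 (flp_g L681417) q16656, e3 q14466 (flp_g L681423) q16657, e3 q14467 L659169 q12267, e3 q14468 L659180 q13276, e3 q14469 L659198 q13277, e3 q14470 L659208 q12355, e3 q14471 L659218 q12369, e3 q14472 L659236 q12370, e3 q14473 L659247 q13181, e3 q14474 L659254 q13182, e3 q14475 L659265 q13105, e3 q14476 L659279 q12863, e3 q14477 L659290 q13185, e3 q14478 L659299 q12276, e3 q14479 L659307 q12277, e3 q14480 L659314 q12278, e3 q14481 (flp_g L681582) q16670, e3 q14482 (flp_g L681588) q16671, e3 q14483 L659340 q13289, e3 q14484 (flp_g L659351) q12279, e3 q14485 L659378 q13131, e3 q14486 (flp_g L678653) q16415, e3 q14487 L659398 q12281, e3 q14488 (flp_g L681653) q16676, e3 q14489 (flp_g L681668) q16677, e3 q14490 (flp_g L680548) q16570, e3 q14491 L659441 q13170, e3 q14492 L659452 q13624, e3 q14493 L659460 q12285, e3 q14494 L659469 q12286, e3 q14495 (flp_g L681743) q16684,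 e3 q14496 (flp_g L681754) q16685, e3 q14497 L659499 q13625, e3 q14498 L659510 q13187, e3 q14499 (flp_g L680461) q16563, e3 q14500 L659533 q13188, e3 q14501 (flp_g L679290) q16465, e3 q14502 L659547 q12292, e3 q14503 L659557 q12293, e3 q14504 (flp_g L681858) q16696, e3 q14505 (flp_g L681867) q16697, e3 q14506 (flp_g L681878) q16698, e3 q14507 (flp_g L659583) q12294, e3 q14508 (flp_g L681937) q16704, e3 q14509 L659611 q13195, e3 q14510 L659623 q13196, e3 q14511 (flp_g L679382) q16474, e3 q14512 (flp_g L679400) q16475, e3 q14513 L659645 q12299, e3 q14514 L659653 q12300, e3 q14515 L659663 q12301, e3 q14516 (flp_g L682023) q16713, e3 q14517 (flp_g L682031) q16714, e3 q14518 (flp_g L682042) q16715, e3 q14519 (flp_g L682058) q16717, e3 q14520 (flp_g L682064) q16718, e3 q14521 L659709 q13213, e3 q14522 L659725 q13608, e3 q14523 (flp_g L674483) q16081, e3 q14524 L659744 q12306, e3 q14525 L659753 q12307, e3 q14526 (flp_g L682175) q16729, e3 q14527 L659771 q12309, trivial⟩ (by decide +kernel)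

theorem ce_g_227 : ∀ r, r < 64 → sm gg (Qf (14528 + r)) = Qf (tab Gen.g (14528 + r)) :=
  edges_tab (sm gg) Qf (tab Gen.g) 14528 [(14528, 16663), (14529, 16731), (14530, 13207), (14531, 13208), (14532, 13209), (14533, 13178), (14534, 13183), (14535, 12316), (14536, 12317), (14537, 12318), (14538, 16742), (14539, 16743), (14540, 16744), (14541, 13765), (14542, 12999), (14543, 12320), (14544, 16751), (14545, 13217), (14546, 13218), (14547, 16496), (14548, 16497), (14549, 12325), (14550, 12326), (14551, 12327), (14552, 16760), (14553, 16761), (14554, 16762), (14555, 16769), (14556, 16764), (14557, 16765), (14558, 12329), (14559, 16772), (14560, 16773), (14561, 13230), (14562, 13231), (14563, 13232), (14564, 13164), (14565, 13201), (14566, 16509), (14567, 12337), (14568, 12338), (14569, 12339), (14570, 16794), (14571, 12341), (14572, 12342), (14573, 16788), (14574, 16789), (14575, 16790), (14576, 16800), (14577, 16792), (14578, 16793), (14579, 12340), (14580, 16805), (14581, 16796), (14582, 16735), (14583, 13214), (14584, 13609),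 (14585, 12345), (14586, 16811), (14587, 12350), (14588, 16524), (14589, 12349), (14590, 16815), (14591, 16813)]
    ⟨e3 q14528 (flp_g L681495) q16663, e3 q14529 (flp_g L682190) q16731, e3 q14530 L659802 q13207, e3 q14531 L659810 q13208, e3 q14532 L659825 q13209, e3 q14533 L659832 q13178, e3 q14534 L659845 q13183, e3 q14535 L659852 q12316, e3 q14536 L659863 q12317, e3 q14537 L659871 q12318, e3 q14538 (flp_g L682304) q16742, e3 q14539 (flp_g L682317) q16743, e3 q14540 (flp_g L682326) q16744, e3 q14541 L659911 q13765, e3 q14542 L659921 q12999, e3 q14543 (flp_g L659923) q12320, e3 q14544 (flp_g L682395) q16751, e3 q14545 L659947 q13217, e3 q14546 L659956 q13218, e3 q14547 (flp_g L679631) q16496, e3 q14548 (flp_g L679649) q16497, e3 q14549 L659972 q12325, e3 q14550 L659979 q12326, e3 q14551 L659988 q12327, e3 q14552 (flp_g L682468) q16760, e3 q14553 (flp_g L682486) q16761, e3 q14554 (flp_g L682497) q16762, e3 q14555 L682548 q16769, e3 q14556 (flp_g L682509) q16764, e3 q14557 (flp_g L682513) q16765, e3 q14558 L660044 q12329, e3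 q14559 (flp_g L682570) q16772, e3 q14560 (flp_g L682580) q16773, e3 q14561 L660068 q13230, e3 q14562 L660074 q13231, e3 q14563 L660084 q13232, e3 q14564 L660088 q13164, e3 q14565 L660100 q13201, e3 q14566 (flp_g L679770) q16509, e3 q14567 L660116 q12337, e3 q14568 L660126 q12338, e3 q14569 L660135 q12339, e3 q14570 L682764 q16794, e3 q14571 L660147 q12341, e3 q14572 L660151 q12342, e3 q14573 (flp_g L682709) q16788, e3 q14574 (flp_g L682725) q16789, e3 q14575 (flp_g L682740) q16790, e3 q14576 L682811 q16800, e3 q14577 (flp_g L682756) q16792, e3 q14578 (flp_g L682762) q16793, e3 q14579 (flp_g L660204) q12340, e3 q14580 (flp_g L682851) q16805, e3 q14581 (flp_g L682780) q16796, e3 q14582 (flp_g L682231) q16735, e3 q14583 L660239 q13214, e3 q14584 L660250 q13609, e3 q14585 (flp_g L660255) q12345, e3 q14586 (flp_g L682901) q16811, e3 q14587 L660275 q12350, e3 q14588 (flp_g L679930) q16524, e3 q14589 L660289 q12349, e3 q14590 (flp_g L682932) q16815, e3 q14591 (flp_g L682913) q16813, trivial⟩ (by decide +kernel)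

theorem ce_g_228 : ∀ r, r < 64 → sm gg (Qf (14592 + r)) = Qf (tab Gen.g (14592 + r)) :=
  edges_tab (sm gg) Qf (tab Gen.g) 14592 [(14592, 13632), (14593, 12353), (14594, 12356), (14595, 16650), (14596, 16664), (14597, 16665), (14598, 13260), (14599, 13261), (14600, 13262), (14601, 13263), (14602, 13264), (14603, 13179), (14604, 13184), (14605, 12365), (14606, 12366), (14607, 12367), (14608, 16830), (14609, 16831), (14610, 16832), (14611, 16666), (14612, 16667), (14613, 13280), (14614, 13281), (14615, 13282), (14616, 13284), (14617, 13285), (14618, 13286), (14619, 12380), (14620, 12381), (14621, 16843), (14622, 13267), (14623, 16550), (14624, 16533), (14625, 12388), (14626, 12389), (14627, 16844), (14628, 16845), (14629, 13786), (14630, 14630), (14631, 16847), (14632, 12400), (14633, 12401), (14634, 12399), (14635, 16850), (14636, 16849), (14637, 12403), (14638, 16852), (14639, 16544), (14640, 14640), (14641, 16689), (14642, 12943), (14643, 14643), (14644, 12416), (14645, 12417), (14646, 16859), (14647, 16860), (14648, 14648),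 (14649, 12420), (14650, 16863), (14651, 13298), (14652, 13299), (14653, 14653), (14654, 14654), (14655, 12425)]
    ⟨e3 q14592 L660309 q13632, e3 q14593 L660320 q12353, e3 q14594 L660333 q12356, e3 q14595 (flp_g L681347) q16650, e3 q14596 (flp_g L681505) q16664, e3 q14597 (flp_g L681522) q16665, e3 q14598 L660370 q13260, e3 q14599 L660381 q13261, e3 q14600 L660391 q13262, e3 q14601 L660402 q13263, e3 q14602 L660410 q13264, e3 q14603 L660420 q13179, e3 q14604 L660429 q13184, e3 q14605 L660439 q12365, e3 q14606 L660451 q12366, e3 q14607 L660460 q12367, e3 q14608 (flp_g L683075) q16830, e3 q14609 (flp_g L683086) q16831, e3 q14610 (flp_g L683093) q16832, e3 q14611 (flp_g L681537) q16666, e3 q14612 (flp_g L681548) q16667, e3 q14613 L660515 q13280, e3 q14614 L660525 q13281, e3 q14615 L660541 q13282, e3 q14616 L660555 q13284, e3 q14617 L660566 q13285, e3 q14618 L660579 q13286, e3 q14619 L660590 q12380, e3 q14620 L660599 q12381, e3 q14621 (flp_g L683212) q16843, e3 q14622 L660621 q13267, e3 q14623 (flp_g L680283) q16550, e3 q14624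 (flp_g L680034) q16533, e3 q14625 L660660 q12388, e3 q14626 L660675 q12389, e3 q14627 (flp_g L683231) q16844, e3 q14628 (flp_g L683241) q16845, e3 q14629 L660716 q13786, e3 q14630 L660730 q14630, e3 q14631 L683257 q16847, e3 q14632 L660752 q12400, e3 q14633 L660761 q12401, e3 q14634 (flp_g L660765) q12399, e3 q14635 (flp_g L683309) q16850, e3 q14636 (flp_g L683291) q16849, e3 q14637 L660812 q12403, e3 q14638 (flp_g L683337) q16852, e3 q14639 (flp_g L680191) q16544, e3 q14640 L660843 q14640, e3 q14641 (flp_g L681796) q16689, e3 q14642 L660870 q12943, e3 q14643 L660881 q14643, e3 q14644 L660890 q12416, e3 q14645 L660903 q12417, e3 q14646 (flp_g L683417) q16859, e3 q14647 (flp_g L683432) q16860, e3 q14648 L660939 q14648, e3 q14649 (flp_g L660944) q12420, e3 q14650 (flp_g L683468) q16863, e3 q14651 L660973 q13298, e3 q14652 L660987 q13299, e3 q14653 L660995 q14653, e3 q14654 L661010 q14654, e3 q14655 L661021 q12425, trivial⟩ (by decide +kernel)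

theorem ce_g_229 : ∀ r, r < 64 → sm gg (Qf (14656 + r)) = Qf (tab Gen.g (14656 + r)) :=
  edges_tab (sm gg) Qf (tab Gen.g) 14656 [(14656, 12426), (14657, 16871), (14658, 16872), (14659, 14659), (14660, 14660), (14661, 16241), (14662, 12431), (14663, 12432), (14664, 16877), (14665, 12434), (14666, 16879), (14667, 16223), (14668, 13306), (14669, 12438), (14670, 16883), (14671, 13309), (14672, 13310), (14673, 14673), (14674, 14674), (14675, 12443), (14676, 12444), (14677, 16891), (14678, 16892), (14679, 12446), (14680, 16894), (14681, 16895), (14682, 13320), (14683, 13321), (14684, 13322), (14685, 14685), (14686, 14686), (14687, 14687), (14688, 12454), (14689, 12455), (14690, 12456), (14691, 16913), (14692, 12458), (14693, 12459), (14694, 16909), (14695, 16911), (14696, 16912), (14697, 12457), (14698, 16919), (14699, 16915), (14700, 16922), (14701, 14701), (14702, 14702), (14703, 12462), (14704, 16926), (14705, 12467), (14706, 14706), (14707, 12466), (14708, 16930), (14709, 16928), (14710, 14710), (14711, 12470), (14712, 12472),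 (14713, 12473), (14714, 16934), (14715, 13524), (14716, 16935), (14717, 13345), (14718, 13346), (14719, 13347)]
    ⟨e3 q14656 L661035 q12426, e3 q14657 (flp_g L683562) q16871, e3 q14658 (flp_g L683570) q16872, e3 q14659 L661067 q14659, e3 q14660 L661077 q14660, e3 q14661 (flp_g L676617) q16241, e3 q14662 L661091 q12431, e3 q14663 L661097 q12432, e3 q14664 (flp_g L683620) q16877, e3 q14665 L661116 q12434, e3 q14666 (flp_g L683639) q16879, e3 q14667 (flp_g L676378) q16223, e3 q14668 L661155 q13306, e3 q14669 (flp_g L661157) q12438, e3 q14670 (flp_g L683683) q16883, e3 q14671 L661186 q13309, e3 q14672 L661200 q13310, e3 q14673 L661208 q14673, e3 q14674 L661222 q14674, e3 q14675 L661233 q12443, e3 q14676 L661246 q12444, e3 q14677 (flp_g L683774) q16891, e3 q14678 (flp_g L683782) q16892, e3 q14679 L661276 q12446, e3 q14680 (flp_g L683802) q16894, e3 q14681 (flp_g L683811) q16895, e3 q14682 L661302 q13320, e3 q14683 L661310 q13321, e3 q14684 L661318 q13322, e3 q14685 L661324 q14685, e3 q14686 L661339 q14686, e3 q14687 L661348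 q14687, e3 q14688 L661355 q12454, e3 q14689 L661373 q12455, e3 q14690 L661389 q12456, e3 q14691 L683994 q16913, e3 q14692 L661401 q12458, e3 q14693 L661405 q12459, e3 q14694 (flp_g L683948) q16909, e3 q14695 (flp_g L683978) q16911, e3 q14696 (flp_g L683988) q16912, e3 q14697 (flp_g L661448) q12457, e3 q14698 (flp_g L684063) q16919, e3 q14699 (flp_g L684012) q16915, e3 q14700 L684081 q16922, e3 q14701 L661485 q14701, e3 q14702 L661490 q14702, e3 q14703 (flp_g L661496) q12462, e3 q14704 (flp_g L684128) q16926, e3 q14705 L661511 q12467, e3 q14706 L661525 q14706, e3 q14707 L661532 q12466, e3 q14708 (flp_g L684161) q16930, e3 q14709 (flp_g L684137) q16928, e3 q14710 L661562 q14710, e3 q14711 L661569 q12470, e3 q14712 L661579 q12472, e3 q14713 L661592 q12473, e3 q14714 (flp_g L684199) q16934, e3 q14715 L661620 q13524, e3 q14716 (flp_g L684218) q16935, e3 q14717 L661646 q13345, e3 q14718 L661666 q13346, e3 q14719 L661682 q13347, trivial⟩ (by decide +kernel)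

theorem ce_g_230 : ∀ r, r < 64 → sm gg (Qf (14720 + r)) = Qf (tab Gen.g (14720 + r)) :=
  edges_tab (sm gg) Qf (tab Gen.g) 14720 [(14720, 13348), (14721, 14721), (14722, 12481), (14723, 12486), (14724, 13364), (14725, 13363), (14726, 13362), (14727, 13361), (14728, 12497), (14729, 12498), (14730, 12655), (14731, 13522), (14732, 13374), (14733, 14733), (14734, 12502), (14735, 12503), (14736, 16946), (14737, 12504), (14738, 16948), (14739, 13329), (14740, 13339), (14741, 14741), (14742, 14742), (14743, 12509), (14744, 12510), (14745, 16956), (14746, 16957), (14747, 13521), (14748, 13378), (14749, 12513), (14750, 16962), (14751, 13381), (14752, 13382), (14753, 14753), (14754, 14754), (14755, 12518), (14756, 12519), (14757, 16970), (14758, 16971), (14759, 12521), (14760, 16973), (14761, 16974), (14762, 13390), (14763, 13391), (14764, 13392), (14765, 14765), (14766, 14766), (14767, 14767), (14768, 12529), (14769, 12530), (14770, 12531), (14771, 16182), (14772, 12532), (14773, 12533), (14774, 16989), (14775, 16991), (14776, 16992),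 (14777, 16994), (14778, 16998), (14779, 14779), (14780, 14780), (14781, 16192), (14782, 12539), (14783, 17002)]
    ⟨e3 q14720 L661696 q13348, e3 q14721 L661710 q14721, e3 q14722 L661725 q12481, e3 q14723 L661741 q12486, e3 q14724 L661758 q13364, e3 q14725 L661773 q13363, e3 q14726 L661790 q13362, e3 q14727 L661808 q13361, e3 q14728 L661822 q12497, e3 q14729 L661831 q12498, e3 q14730 L661845 q12655, e3 q14731 L661868 q13522, e3 q14732 L661878 q13374, e3 q14733 L661887 q14733, e3 q14734 L661894 q12502, e3 q14735 L661905 q12503, e3 q14736 (flp_g L684373) q16946, e3 q14737 (flp_g L661918) q12504, e3 q14738 (flp_g L684392) q16948, e3 q14739 L661943 q13329, e3 q14740 L661952 q13339, e3 q14741 L661958 q14741, e3 q14742 L661968 q14742, e3 q14743 L661973 q12509, e3 q14744 L661982 q12510, e3 q14745 (flp_g L684460) q16956, e3 q14746 (flp_g L684466) q16957, e3 q14747 L662012 q13521, e3 q14748 L662023 q13378, e3 q14749 (flp_g L662025) q12513, e3 q14750 (flp_g L684521) q16962, e3 q14751 L662058 q13381, e3 q14752 L662072 q13382, e3 q14753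 L662080 q14753, e3 q14754 L662094 q14754, e3 q14755 L662105 q12518, e3 q14756 L662118 q12519, e3 q14757 (flp_g L684612) q16970, e3 q14758 (flp_g L684620) q16971, e3 q14759 L662150 q12521, e3 q14760 (flp_g L684642) q16973, e3 q14761 (flp_g L684653) q16974, e3 q14762 L662178 q13390, e3 q14763 L662188 q13391, e3 q14764 L662198 q13392, e3 q14765 L662204 q14765, e3 q14766 L662217 q14766, e3 q14767 L662228 q14767, e3 q14768 L662235 q12529, e3 q14769 L662247 q12530, e3 q14770 L662260 q12531, e3 q14771 (flp_g L675847) q16182, e3 q14772 L662276 q12532, e3 q14773 L662282 q12533, e3 q14774 (flp_g L684802) q16989, e3 q14775 (flp_g L684824) q16991, e3 q14776 (flp_g L684832) q16992, e3 q14777 (flp_g L684852) q16994, e3 q14778 L684883 q16998, e3 q14779 L662338 q14779, e3 q14780 L662346 q14780, e3 q14781 (flp_g L675966) q16192, e3 q14782 L662364 q12539, e3 q14783 (flp_g L684922) q17002, trivial⟩ (by decide +kernel)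

theorem ce_g_231 : ∀ r, r < 64 → sm gg (Qf (14784 + r)) = Qf (tab Gen.g (14784 + r)) :=
  edges_tab (sm gg) Qf (tab Gen.g) 14784 [(14784, 12541), (14785, 12542), (14786, 17004), (14787, 17005), (14788, 17006), (14789, 13406), (14790, 13407), (14791, 13408), (14792, 13409), (14793, 14793), (14794, 12550), (14795, 12551), (14796, 17015), (14797, 12552), (14798, 17016), (14799, 13417), (14800, 13418), (14801, 12555), (14802, 17022), (14803, 17023), (14804, 13422), (14805, 13423), (14806, 13424), (14807, 14807), (14808, 14808), (14809, 14809), (14810, 12563), (14811, 12564), (14812, 12565), (14813, 17043), (14814, 12567), (14815, 12568), (14816, 17039), (14817, 17047), (14818, 17041), (14819, 17042), (14820, 12566), (14821, 17051), (14822, 17045), (14823, 12570), (14824, 12571), (14825, 17054), (14826, 17055), (14827, 17056), (14828, 13448), (14829, 13449), (14830, 13450), (14831, 17070), (14832, 13452), (14833, 13453), (14834, 14834), (14835, 14835), (14836, 14836), (14837, 17079), (14838, 14838), (14839, 14839), (14840, 12584),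 (14841, 12585), (14842, 12586), (14843, 17086), (14844, 12588), (14845, 12589), (14846, 12581), (14847, 17091)]
    ⟨e3 q14784 L662379 q12541, e3 q14785 L662391 q12542, e3 q14786 (flp_g L684937) q17004, e3 q14787 (flp_g L684950) q17005, e3 q14788 (flp_g L684966) q17006, e3 q14789 L662434 q13406, e3 q14790 L662447 q13407, e3 q14791 L662460 q13408, e3 q14792 L662472 q13409, e3 q14793 L662485 q14793, e3 q14794 L662494 q12550, e3 q14795 L662508 q12551, e3 q14796 (flp_g L685077) q17015, e3 q14797 (flp_g L662527) q12552, e3 q14798 (flp_g L685095) q17016, e3 q14799 L662555 q13417, e3 q14800 L662564 q13418, e3 q14801 L662571 q12555, e3 q14802 (flp_g L685136) q17022, e3 q14803 (flp_g L685147) q17023, e3 q14804 L662597 q13422, e3 q14805 L662605 q13423, e3 q14806 L662615 q13424, e3 q14807 L662621 q14807, e3 q14808 L662630 q14808, e3 q14809 L662640 q14809, e3 q14810 L662647 q12563, e3 q14811 L662657 q12564, e3 q14812 L662671 q12565, e3 q14813 L685328 q17043, e3 q14814 L662683 q12567, e3 q14815 L662687 q12568, e3 q14816 (flp_g L685292)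 q17039, e3 q14817 L685359 q17047, e3 q14818 (flp_g L685314) q17041, e3 q14819 (flp_g L685322) q17042, e3 q14820 (flp_g L662739) q12566, e3 q14821 (flp_g L685412) q17051, e3 q14822 (flp_g L685344) q17045, e3 q14823 L662764 q12570, e3 q14824 L662773 q12571, e3 q14825 (flp_g L685432) q17054, e3 q14826 (flp_g L685440) q17055, e3 q14827 (flp_g L685449) q17056, e3 q14828 L662803 q13448, e3 q14829 L662809 q13449, e3 q14830 L662819 q13450, e3 q14831 L685547 q17070, e3 q14832 L662829 q13452, e3 q14833 L662835 q13453, e3 q14834 L662841 q14834, e3 q14835 L662848 q14835, e3 q14836 L662858 q14836, e3 q14837 L685619 q17079, e3 q14838 L662873 q14838, e3 q14839 L662878 q14839, e3 q14840 L662885 q12584, e3 q14841 L662891 q12585, e3 q14842 L662900 q12586, e3 q14843 L685667 q17086, e3 q14844 L662914 q12588, e3 q14845 L662920 q12589, e3 q14846 (flp_g L662922) q12581, e3 q14847 (flp_g L685713) q17091, trivial⟩ (by decide +kernel)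

theorem ce_g_232 : ∀ r, r < 64 → sm gg (Qf (14848 + r)) = Qf (tab Gen.g (14848 + r)) :=
  edges_tab (sm gg) Qf (tab Gen.g) 14848 [(14848, 12592), (14849, 17082), (14850, 17095), (14851, 17084), (14852, 17085), (14853, 12587), (14854, 17100), (14855, 17088), (14856, 17089), (14857, 14857), (14858, 12591), (14859, 17105), (14860, 17093), (14861, 12593), (14862, 17109), (14863, 14863), (14864, 17108), (14865, 12597), (14866, 17113), (14867, 12602), (14868, 14868), (14869, 12601), (14870, 17117), (14871, 17115), (14872, 14872), (14873, 12607), (14874, 12608), (14875, 12609), (14876, 17120), (14877, 17121), (14878, 17122), (14879, 17123), (14880, 17124), (14881, 13493), (14882, 13494), (14883, 13495), (14884, 13496), (14885, 13497), (14886, 13498), (14887, 13499), (14888, 14888), (14889, 14889), (14890, 14890), (14891, 12621), (14892, 12622), (14893, 12623), (14894, 17145), (14895, 17146), (14896, 17147), (14897, 12627), (14898, 12629), (14899, 12630), (14900, 12631), (14901, 13547), (14902, 12702), (14903, 17131), (14904, 12678),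 (14905, 13509), (14906, 12664), (14907, 13492), (14908, 13491), (14909, 13358), (14910, 13278), (14911, 13028)]
    ⟨e3 q14848 L662938 q12592, e3 q14849 (flp_g L685645) q17082, e3 q14850 L685732 q17095, e3 q14851 (flp_g L685659) q17084, e3 q14852 (flp_g L685665) q17085, e3 q14853 (flp_g L662978) q12587, e3 q14854 (flp_g L685792) q17100, e3 q14855 (flp_g L685687) q17088, e3 q14856 (flp_g L685693) q17089, e3 q14857 L663021 q14857, e3 q14858 L663028 q12591, e3 q14859 (flp_g L685831) q17105, e3 q14860 (flp_g L685721) q17093, e3 q14861 (flp_g L663042) q12593, e3 q14862 (flp_g L685856) q17109, e3 q14863 L663059 q14863, e3 q14864 (flp_g L685850) q17108, e3 q14865 L663074 q12597, e3 q14866 (flp_g L685884) q17113, e3 q14867 L663084 q12602, e3 q14868 L663092 q14868, e3 q14869 L663100 q12601, e3 q14870 (flp_g L685909) q17117, e3 q14871 (flp_g L685894) q17115, e3 q14872 L663119 q14872, e3 q14873 L663128 q12607, e3 q14874 L663138 q12608, e3 q14875 L663153 q12609, e3 q14876 (flp_g L685933) q17120, e3 q14877 (flp_g L685951) q17121, e3 q14878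 (flp_g L685964) q17122, e3 q14879 (flp_g L685976) q17123, e3 q14880 (flp_g L685991) q17124, e3 q14881 L663213 q13493, e3 q14882 L663223 q13494, e3 q14883 L663236 q13495, e3 q14884 L663241 q13496, e3 q14885 L663250 q13497, e3 q14886 L663260 q13498, e3 q14887 L663273 q13499, e3 q14888 L663282 q14888, e3 q14889 L663296 q14889, e3 q14890 L663306 q14890, e3 q14891 L663318 q12621, e3 q14892 L663327 q12622, e3 q14893 L663335 q12623, e3 q14894 (flp_g L686236) q17145, e3 q14895 (flp_g L686244) q17146, e3 q14896 (flp_g L686254) q17147, e3 q14897 L663379 q12627, e3 q14898 L663395 q12629, e3 q14899 L663410 q12630, e3 q14900 L663424 q12631, e3 q14901 L663436 q13547, e3 q14902 L663451 q12702, e3 q14903 (flp_g L686075) q17131, e3 q14904 L663473 q12678, e3 q14905 L663489 q13509, e3 q14906 L663498 q12664, e3 q14907 L663513 q13492, e3 q14908 L663525 q13491, e3 q14909 L663539 q13358, e3 q14910 L663550 q13278, e3 q14911 L663560 q13028, trivial⟩ (by decide +kernel)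

theorem ce_g_233 : ∀ r, r < 64 → sm gg (Qf (14912 + r)) = Qf (tab Gen.g (14912 + r)) :=
  edges_tab (sm gg) Qf (tab Gen.g) 14912 [(14912, 14912), (14913, 14913), (14914, 14914), (14915, 12645), (14916, 12646), (14917, 12647), (14918, 12648), (14919, 17155), (14920, 13515), (14921, 13516), (14922, 12651), (14923, 17158), (14924, 13355), (14925, 13529), (14926, 13530), (14927, 17151), (14928, 12668), (14929, 12669), (14930, 17162), (14931, 13535), (14932, 13536), (14933, 13537), (14934, 12674), (14935, 16381), (14936, 17165), (14937, 13541), (14938, 13542), (14939, 13543), (14940, 12679), (14941, 17132), (14942, 17149), (14943, 13549), (14944, 13550), (14945, 13551), (14946, 13552), (14947, 14947), (14948, 14948), (14949, 12687), (14950, 12688), (14951, 17181), (14952, 12690), (14953, 17163), (14954, 13561), (14955, 13562), (14956, 13563), (14957, 12698), (14958, 12699), (14959, 12700), (14960, 13560), (14961, 13533), (14962, 17126), (14963, 13534), (14964, 13489), (14965, 13565), (14966, 13559), (14967, 13488), (14968, 13566),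 (14969, 13026), (14970, 14970), (14971, 14971), (14972, 14972), (14973, 12716), (14974, 12717), (14975, 12718)]
    ⟨e3 q14912 L663572 q14912, e3 q14913 L663580 q14913, e3 q14914 L663588 q14914, e3 q14915 L663599 q12645, e3 q14916 L663607 q12646, e3 q14917 L663614 q12647, e3 q14918 (flp_g L663619) q12648, e3 q14919 (flp_g L686359) q17155, e3 q14920 L663649 q13515, e3 q14921 L663662 q13516, e3 q14922 L663672 q12651, e3 q14923 (flp_g L686397) q17158, e3 q14924 L663700 q13355, e3 q14925 L663713 q13529, e3 q14926 L663729 q13530, e3 q14927 (flp_g L686312) q17151, e3 q14928 L663752 q12668, e3 q14929 L663767 q12669, e3 q14930 (flp_g L686457) q17162, e3 q14931 L663798 q13535, e3 q14932 L663811 q13536, e3 q14933 L663827 q13537, e3 q14934 L663845 q12674, e3 q14935 (flp_g L678183) q16381, e3 q14936 (flp_g L686506) q17165, e3 q14937 L663871 q13541, e3 q14938 L663879 q13542, e3 q14939 L663894 q13543, e3 q14940 L663900 q12679, e3 q14941 (flp_g L686087) q17132, e3 q14942 (flp_g L686282) q17149, e3 q14943 L663935 q13549, e3 q14944 L663946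 q13550, e3 q14945 L663962 q13551, e3 q14946 L663975 q13552, e3 q14947 L663985 q14947, e3 q14948 L664001 q14948, e3 q14949 L664011 q12687, e3 q14950 L664026 q12688, e3 q14951 (flp_g L686698) q17181, e3 q14952 L664051 q12690, e3 q14953 (flp_g L686474) q17163, e3 q14954 L664081 q13561, e3 q14955 L664098 q13562, e3 q14956 L664112 q13563, e3 q14957 L664124 q12698, e3 q14958 L664142 q12699, e3 q14959 L664165 q12700, e3 q14960 L664179 q13560, e3 q14961 L664192 q13533, e3 q14962 (flp_g L686023) q17126, e3 q14963 L664223 q13534, e3 q14964 L664235 q13489, e3 q14965 L664241 q13565, e3 q14966 L664255 q13559, e3 q14967 L664268 q13488, e3 q14968 L664276 q13566, e3 q14969 L664289 q13026, e3 q14970 L664305 q14970, e3 q14971 L664315 q14971, e3 q14972 L664322 q14972, e3 q14973 L664338 q12716, e3 q14974 L664344 q12717, e3 q14975 L664354 q12718, trivial⟩ (by decide +kernel)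

theorem ce_g_234 : ∀ r, r < 64 → sm gg (Qf (14976 + r)) = Qf (tab Gen.g (14976 + r)) :=
  edges_tab (sm gg) Qf (tab Gen.g) 14976 [(14976, 13404), (14977, 13258), (14978, 14978), (14979, 14979), (14980, 12808), (14981, 12746), (14982, 12747), (14983, 16048), (14984, 13056), (14985, 13057), (14986, 13068), (14987, 17196), (14988, 13069), (14989, 13577), (14990, 12754), (14991, 13098), (14992, 16026), (14993, 16034), (14994, 12761), (14995, 12763), (14996, 16438), (14997, 13085), (14998, 17203), (14999, 16494), (15000, 13086), (15001, 17204), (15002, 16495), (15003, 12836), (15004, 12767), (15005, 12844), (15006, 12773), (15007, 16439), (15008, 16428), (15009, 16059), (15010, 12778), (15011, 12779), (15012, 16122), (15013, 17214), (15014, 16067), (15015, 16068), (15016, 12785), (15017, 16134), (15018, 17219), (15019, 16070), (15020, 16099), (15021, 12792), (15022, 12793), (15023, 17224), (15024, 16107), (15025, 16108), (15026, 12798), (15027, 12799), (15028, 17229), (15029, 17230), (15030, 16564), (15031, 12803), (15032, 12805),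 (15033, 13637), (15034, 17233), (15035, 13636), (15036, 13635), (15037, 12811), (15038, 16120), (15039, 16121)]
    ⟨e3 q14976 L664368 q13404, e3 q14977 L664376 q13258, e3 q14978 L664387 q14978, e3 q14979 L664394 q14979, e3 q14980 L664405 q12808, e3 q14981 L664420 q12746, e3 q14982 L664438 q12747, e3 q14983 (flp_g L674033) q16048, e3 q14984 L664462 q13056, e3 q14985 L664479 q13057, e3 q14986 L664491 q13068, e3 q14987 (flp_g L686868) q17196, e3 q14988 L664516 q13069, e3 q14989 L664532 q13577, e3 q14990 L664548 q12754, e3 q14991 L664562 q13098, e3 q14992 (flp_g L673674) q16026, e3 q14993 (flp_g L673795) q16034, e3 q14994 L664593 q12761, e3 q14995 L664609 q12763, e3 q14996 (flp_g L678947) q16438, e3 q14997 L664627 q13085, e3 q14998 (flp_g L686950) q17203, e3 q14999 (flp_g L679608) q16494, e3 q15000 L664660 q13086, e3 q15001 (flp_g L686960) q17204, e3 q15002 (flp_g L679621) q16495, e3 q15003 L664689 q12836, e3 q15004 L664699 q12767, e3 q15005 L664708 q12844, e3 q15006 L664721 q12773, e3 q15007 (flp_g L678966) q16439, e3 q15008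 (flp_g L678831) q16428, e3 q15009 (flp_g L674197) q16059, e3 q15010 L664770 q12778, e3 q15011 L664788 q12779, e3 q15012 (flp_g L675089) q16122, e3 q15013 (flp_g L687081) q17214, e3 q15014 (flp_g L674313) q16067, e3 q15015 (flp_g L674327) q16068, e3 q15016 L664844 q12785, e3 q15017 (flp_g L675251) q16134, e3 q15018 (flp_g L687137) q17219, e3 q15019 (flp_g L674355) q16070, e3 q15020 (flp_g L674748) q16099, e3 q15021 L664893 q12792, e3 q15022 L664910 q12793, e3 q15023 (flp_g L687196) q17224, e3 q15024 (flp_g L674869) q16107, e3 q15025 (flp_g L674887) q16108, e3 q15026 L664950 q12798, e3 q15027 L664964 q12799, e3 q15028 (flp_g L687246) q17229, e3 q15029 (flp_g L687254) q17230, e3 q15030 (flp_g L680474) q16564, e3 q15031 L665004 q12803, e3 q15032 L665019 q12805, e3 q15033 L665032 q13637, e3 q15034 (flp_g L687294) q17233, e3 q15035 L665064 q13636, e3 q15036 L665074 q13635, e3 q15037 L665086 q12811, e3 q15038 (flp_g L675063) q16120, e3 q15039 (flp_g L675081) q16121, trivial⟩ (by decide +kernel)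

theorem ce_g_235 : ∀ r, r < 64 → sm gg (Qf (15040 + r)) = Qf (tab Gen.g (15040 + r)) :=
  edges_tab (sm gg) Qf (tab Gen.g) 15040 [(15040, 12816), (15041, 17238), (15042, 13234), (15043, 17237), (15044, 12818), (15045, 17241), (15046, 17242), (15047, 16131), (15048, 16132), (15049, 16133), (15050, 13222), (15051, 13225), (15052, 12826), (15053, 12827), (15054, 12828), (15055, 17260), (15056, 12830), (15057, 12831), (15058, 17255), (15059, 17256), (15060, 17265), (15061, 17258), (15062, 17259), (15063, 12829), (15064, 17270), (15065, 17262), (15066, 12832), (15067, 17272), (15068, 16493), (15069, 12835), (15070, 13628), (15071, 12840), (15072, 16066), (15073, 16085), (15074, 13156), (15075, 12878), (15076, 16155), (15077, 12888), (15078, 16437), (15079, 16092), (15080, 12849), (15081, 12850), (15082, 17279), (15083, 17280), (15084, 13140), (15085, 13172), (15086, 16427), (15087, 16096), (15088, 12861), (15089, 12862), (15090, 17283), (15091, 16669), (15092, 16554), (15093, 12867), (15094, 12868), (15095, 12869), (15096, 17284),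 (15097, 17285), (15098, 17286), (15099, 16157), (15100, 16246), (15101, 16160), (15102, 16161), (15103, 15103)]
    ⟨e3 q15040 L665124 q12816, e3 q15041 L687351 q17238, e3 q15042 L665146 q13234, e3 q15043 (flp_g L687345) q17237, e3 q15044 L665166 q12818, e3 q15045 (flp_g L687389) q17241, e3 q15046 (flp_g L687403) q17242, e3 q15047 (flp_g L675211) q16131, e3 q15048 (flp_g L675225) q16132, e3 q15049 (flp_g L675237) q16133, e3 q15050 L665214 q13222, e3 q15051 L665230 q13225, e3 q15052 L665238 q12826, e3 q15053 L665246 q12827, e3 q15054 L665259 q12828, e3 q15055 L687574 q17260, e3 q15056 L665279 q12830, e3 q15057 L665287 q12831, e3 q15058 (flp_g L687531) q17255, e3 q15059 (flp_g L687546) q17256, e3 q15060 L687621 q17265, e3 q15061 (flp_g L687564) q17258, e3 q15062 (flp_g L687572) q17259, e3 q15063 (flp_g L665320) q12829, e3 q15064 (flp_g L687659) q17270, e3 q15065 (flp_g L687600) q17262, e3 q15066 (flp_g L665340) q12832, e3 q15067 (flp_g L687676) q17272, e3 q15068 (flp_g L679596) q16493, e3 q15069 L665378 q12835, e3 q15070 L665387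 q13628, e3 q15071 L665401 q12840, e3 q15072 (flp_g L674301) q16066, e3 q15073 (flp_g L674536) q16085, e3 q15074 L665425 q13156, e3 q15075 L665441 q12878, e3 q15076 (flp_g L675511) q16155, e3 q15077 L665463 q12888, e3 q15078 (flp_g L678935) q16437, e3 q15079 (flp_g L674635) q16092, e3 q15080 L665488 q12849, e3 q15081 L665495 q12850, e3 q15082 (flp_g L687757) q17279, e3 q15083 (flp_g L687763) q17280, e3 q15084 L665526 q13140, e3 q15085 L665541 q13172, e3 q15086 (flp_g L678815) q16427, e3 q15087 (flp_g L674691) q16096, e3 q15088 L665570 q12861, e3 q15089 L665579 q12862, e3 q15090 (flp_g L687800) q17283, e3 q15091 (flp_g L681571) q16669, e3 q15092 (flp_g L680334) q16554, e3 q15093 L665626 q12867, e3 q15094 L665639 q12868, e3 q15095 L665648 q12869, e3 q15096 (flp_g L687814) q17284, e3 q15097 (flp_g L687824) q17285, e3 q15098 (flp_g L687830) q17286, e3 q15099 (flp_g L675543) q16157, e3 q15100 (flp_g L676690) q16246, e3 q15101 (flp_g L675580) q16160, e3 q15102 (flp_g L675593) q16161, e3 q15103 L665735 q15103, trivial⟩ (by decide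 +kernel)

theorem ce_g_236 : ∀ r, r < 64 → sm gg (Qf (15104 + r)) = Qf (tab Gen.g (15104 + r)) :=
  edges_tab (sm gg) Qf (tab Gen.g) 15104 [(15104, 15104), (15105, 12876), (15106, 17297), (15107, 17276), (15108, 17277), (15109, 16173), (15110, 16174), (15111, 16175), (15112, 15112), (15113, 15113), (15114, 12885), (15115, 12886), (15116, 12887), (15117, 17308), (15118, 17309), (15119, 17310), (15120, 16198), (15121, 16200), (15122, 16202), (15123, 15123), (15124, 15124), (15125, 15125), (15126, 12896), (15127, 12897), (15128, 12898), (15129, 17320), (15130, 17321), (15131, 17322), (15132, 13539), (15133, 16213), (15134, 16215), (15135, 15135), (15136, 15136), (15137, 15137), (15138, 12908), (15139, 12909), (15140, 12910), (15141, 17331), (15142, 17332), (15143, 13655), (15144, 16224), (15145, 12913), (15146, 16603), (15147, 16231), (15148, 16232), (15149, 15149), (15150, 15150), (15151, 12919), (15152, 17339), (15153, 16248), (15154, 16249), (15155, 15155), (15156, 15156), (15157, 12925), (15158, 12926), (15159, 17345), (15160,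 17346), (15161, 12928), (15162, 17348), (15163, 17349), (15164, 16261), (15165, 16262), (15166, 16263), (15167, 15167)]
    ⟨e3 q15104 L665751 q15104, e3 q15105 L665766 q12876, e3 q15106 (flp_g L687965) q17297, e3 q15107 (flp_g L687720) q17276, e3 q15108 (flp_g L687735) q17277, e3 q15109 (flp_g L675743) q16173, e3 q15110 (flp_g L675753) q16174, e3 q15111 (flp_g L675765) q16175, e3 q15112 L665837 q15112, e3 q15113 L665852 q15113, e3 q15114 L665861 q12885, e3 q15115 L665875 q12886, e3 q15116 L665885 q12887, e3 q15117 (flp_g L688084) q17308, e3 q15118 (flp_g L688100) q17309, e3 q15119 (flp_g L688110) q17310, e3 q15120 (flp_g L676044) q16198, e3 q15121 (flp_g L676073) q16200, e3 q15122 (flp_g L676098) q16202, e3 q15123 L665954 q15123, e3 q15124 L665968 q15124, e3 q15125 L665979 q15125, e3 q15126 L665991 q12896, e3 q15127 L666004 q12897, e3 q15128 L666014 q12898, e3 q15129 (flp_g L688218) q17320, e3 q15130 (flp_g L688228) q17321, e3 q15131 (flp_g L688235) q17322, e3 q15132 L666052 q13539, e3 q15133 (flp_g L676243) q16213, e3 q15134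 (flp_g L676268) q16215, e3 q15135 L666076 q15135, e3 q15136 L666087 q15136, e3 q15137 L666095 q15137, e3 q15138 L666108 q12908, e3 q15139 L666114 q12909, e3 q15140 L666120 q12910, e3 q15141 (flp_g L688325) q17331, e3 q15142 (flp_g L688332) q17332, e3 q15143 L666151 q13655, e3 q15144 (flp_g L676392) q16224, e3 q15145 L666181 q12913, e3 q15146 (flp_g L680932) q16603, e3 q15147 (flp_g L676485) q16231, e3 q15148 (flp_g L676496) q16232, e3 q15149 L666225 q15149, e3 q15150 L666241 q15150, e3 q15151 L666256 q12919, e3 q15152 (flp_g L688423) q17339, e3 q15153 (flp_g L676707) q16248, e3 q15154 (flp_g L676718) q16249, e3 q15155 L666292 q15155, e3 q15156 L666308 q15156, e3 q15157 L666317 q12925, e3 q15158 L666328 q12926, e3 q15159 (flp_g L688482) q17345, e3 q15160 (flp_g L688488) q17346, e3 q15161 L666354 q12928, e3 q15162 (flp_g L688508) q17348, e3 q15163 (flp_g L688517) q17349, e3 q15164 (flp_g L676866) q16261, e3 q15165 (flp_g L676878) q16262, e3 q15166 (flp_g L676888) q16263, e3 q15167 L666400 q15167, trivial⟩ (by decide +kernel)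

theorem ce_g_237 : ∀ r, r < 64 → sm gg (Qf (15168 + r)) = Qf (tab Gen.g (15168 + r)) :=
  edges_tab (sm gg) Qf (tab Gen.g) 15168 [(15168, 15168), (15169, 15169), (15170, 12936), (15171, 12937), (15172, 12938), (15173, 16855), (15174, 12939), (15175, 12940), (15176, 17365), (15177, 17367), (15178, 17368), (15179, 17370), (15180, 16690), (15181, 15181), (15182, 16856), (15183, 12946), (15184, 12947), (15185, 17375), (15186, 13730), (15187, 17376), (15188, 13757), (15189, 13716), (15190, 16283), (15191, 13719), (15192, 16284), (15193, 15193), (15194, 15194), (15195, 15195), (15196, 12956), (15197, 12957), (15198, 12958), (15199, 17392), (15200, 17393), (15201, 17394), (15202, 16288), (15203, 16289), (15204, 12961), (15205, 17401), (15206, 17402), (15207, 16293), (15208, 16294), (15209, 16295), (15210, 15210), (15211, 15211), (15212, 12969), (15213, 12970), (15214, 12971), (15215, 17420), (15216, 12973), (15217, 12974), (15218, 17415), (15219, 17416), (15220, 17418), (15221, 17419), (15222, 12972), (15223, 17428), (15224, 17422),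 (15225, 12976), (15226, 12977), (15227, 17430), (15228, 17431), (15229, 17432), (15230, 16316), (15231, 16317)]
    ⟨e3 q15168 L666411 q15168, e3 q15169 L666424 q15169, e3 q15170 L666431 q12936, e3 q15171 L666439 q12937, e3 q15172 L666450 q12938, e3 q15173 (flp_g L683369) q16855, e3 q15174 L666470 q12939, e3 q15175 L666476 q12940, e3 q15176 (flp_g L688663) q17365, e3 q15177 (flp_g L688681) q17367, e3 q15178 (flp_g L688689) q17368, e3 q15179 (flp_g L688709) q17370, e3 q15180 (flp_g L681808) q16690, e3 q15181 L666539 q15181, e3 q15182 (flp_g L683382) q16856, e3 q15183 L666561 q12946, e3 q15184 L666574 q12947, e3 q15185 (flp_g L688760) q17375, e3 q15186 L666592 q13730, e3 q15187 (flp_g L688775) q17376, e3 q15188 L666615 q13757, e3 q15189 L666625 q13716, e3 q15190 (flp_g L677138) q16283, e3 q15191 L666647 q13719, e3 q15192 (flp_g L677151) q16284, e3 q15193 L666662 q15193, e3 q15194 L666674 q15194, e3 q15195 L666683 q15195, e3 q15196 L666693 q12956, e3 q15197 L666704 q12957, e3 q15198 L666713 q12958, e3 q15199 (flp_g L688941)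 q17392, e3 q15200 (flp_g L688949) q17393, e3 q15201 (flp_g L688956) q17394, e3 q15202 (flp_g L677204) q16288, e3 q15203 (flp_g L677216) q16289, e3 q15204 L666774 q12961, e3 q15205 (flp_g L689026) q17401, e3 q15206 (flp_g L689038) q17402, e3 q15207 (flp_g L677253) q16293, e3 q15208 (flp_g L677262) q16294, e3 q15209 (flp_g L677274) q16295, e3 q15210 L666822 q15210, e3 q15211 L666836 q15211, e3 q15212 L666842 q12969, e3 q15213 L666852 q12970, e3 q15214 L666865 q12971, e3 q15215 L689207 q17420, e3 q15216 L666885 q12973, e3 q15217 L666893 q12974, e3 q15218 (flp_g L689160) q17415, e3 q15219 (flp_g L689175) q17416, e3 q15220 (flp_g L689195) q17418, e3 q15221 (flp_g L689203) q17419, e3 q15222 (flp_g L666934) q12972, e3 q15223 (flp_g L689299) q17428, e3 q15224 (flp_g L689235) q17422, e3 q15225 L666969 q12976, e3 q15226 L666978 q12977, e3 q15227 (flp_g L689315) q17430, e3 q15228 (flp_g L689323) q17431, e3 q15229 (flp_g L689332) q17432, e3 q15230 (flp_g L677497) q16316, e3 q15231 (flp_g L677505) q16317, trivial⟩ (by decide +kernel)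

theorem ce_g_238 : ∀ r, r < 64 → sm gg (Qf (15232 + r)) = Qf (tab Gen.g (15232 + r)) :=
  edges_tab (sm gg) Qf (tab Gen.g) 15232 [(15232, 16318), (15233, 17446), (15234, 16320), (15235, 16321), (15236, 15236), (15237, 15237), (15238, 15238), (15239, 16749), (15240, 15240), (15241, 15241), (15242, 12990), (15243, 12991), (15244, 12992), (15245, 17462), (15246, 12994), (15247, 12995), (15248, 12987), (15249, 17467), (15250, 12998), (15251, 17457), (15252, 17458), (15253, 17471), (15254, 17460), (15255, 17461), (15256, 12993), (15257, 17476), (15258, 17464), (15259, 17465), (15260, 15260), (15261, 12997), (15262, 17481), (15263, 16750), (15264, 16748), (15265, 13002), (15266, 15266), (15267, 13008), (15268, 13010), (15269, 17191), (15270, 16196), (15271, 17483), (15272, 16197), (15273, 17484), (15274, 16362), (15275, 16363), (15276, 16364), (15277, 16365), (15278, 16366), (15279, 16367), (15280, 16368), (15281, 15281), (15282, 15282), (15283, 15283), (15284, 13022), (15285, 13023), (15286, 13024), (15287, 17501), (15288, 17502),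 (15289, 17503), (15290, 13030), (15291, 17141), (15292, 16210), (15293, 16842), (15294, 16211), (15295, 16382)]
    ⟨e3 q15232 (flp_g L677515) q16318, e3 q15233 L689434 q17446, e3 q15234 (flp_g L677529) q16320, e3 q15235 (flp_g L677537) q16321, e3 q15236 L667046 q15236, e3 q15237 L667055 q15237, e3 q15238 L667067 q15238, e3 q15239 (flp_g L682372) q16749, e3 q15240 L667088 q15240, e3 q15241 L667095 q15241, e3 q15242 L667104 q12990, e3 q15243 L667112 q12991, e3 q15244 L667123 q12992, e3 q15245 L689582 q17462, e3 q15246 L667137 q12994, e3 q15247 L667143 q12995, e3 q15248 (flp_g L667145) q12987, e3 q15249 (flp_g L689626) q17467, e3 q15250 L667167 q12998, e3 q15251 (flp_g L689541) q17457, e3 q15252 (flp_g L689554) q17458, e3 q15253 L689655 q17471, e3 q15254 (flp_g L689572) q17460, e3 q15255 (flp_g L689580) q17461, e3 q15256 (flp_g L667223) q12993, e3 q15257 (flp_g L689709) q17476, e3 q15258 (flp_g L689602) q17464, e3 q15259 (flp_g L689606) q17465, e3 q15260 L667254 q15260, e3 q15261 L667261 q12997, e3 q15262 (flp_g L689740) q17481,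 e3 q15263 (flp_g L682384) q16750, e3 q15264 (flp_g L682363) q16748, e3 q15265 L667297 q13002, e3 q15266 L667306 q15266, e3 q15267 L667312 q13008, e3 q15268 L667322 q13010, e3 q15269 (flp_g L686811) q17191, e3 q15270 (flp_g L676017) q16196, e3 q15271 (flp_g L689756) q17483, e3 q15272 (flp_g L676036) q16197, e3 q15273 (flp_g L689763) q17484, e3 q15274 (flp_g L677969) q16362, e3 q15275 (flp_g L677980) q16363, e3 q15276 (flp_g L677995) q16364, e3 q15277 (flp_g L678003) q16365, e3 q15278 (flp_g L678019) q16366, e3 q15279 (flp_g L678029) q16367, e3 q15280 (flp_g L678042) q16368, e3 q15281 L667420 q15281, e3 q15282 L667431 q15282, e3 q15283 L667439 q15283, e3 q15284 L667450 q13022, e3 q15285 L667459 q13023, e3 q15286 L667464 q13024, e3 q15287 (flp_g L689898) q17501, e3 q15288 (flp_g L689905) q17502, e3 q15289 (flp_g L689910) q17503, e3 q15290 L667491 q13030, e3 q15291 (flp_g L686186) q17141, e3 q15292 (flp_g L676201) q16210, e3 q15293 (flp_g L683199) q16842, e3 q15294 (flp_g L676212) q16211, e3 q15295 (flp_g L678201) q16382, trivial⟩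 (by decide +kernel)

theorem ce_g_239 : ∀ r, r < 64 → sm gg (Qf (15296 + r)) = Qf (tab Gen.g (15296 + r)) :=
  edges_tab (sm gg) Qf (tab Gen.g) 15296 [(15296, 16383), (15297, 16384), (15298, 13356), (15299, 16385), (15300, 16386), (15301, 15301), (15302, 15302), (15303, 13044), (15304, 13045), (15305, 13061), (15306, 13065), (15307, 13049), (15308, 13050), (15309, 16514), (15310, 17511), (15311, 16484), (15312, 16529), (15313, 16532), (15314, 16501), (15315, 17198), (15316, 13062), (15317, 16515), (15318, 16516), (15319, 17510), (15320, 17518), (15321, 16530), (15322, 16045), (15323, 17199), (15324, 16472), (15325, 16473), (15326, 13198), (15327, 13075), (15328, 16050), (15329, 17526), (15330, 13078), (15331, 16457), (15332, 13084), (15333, 16054), (15334, 17205), (15335, 17208), (15336, 17211), (15337, 13088), (15338, 16443), (15339, 16507), (15340, 16508), (15341, 13094), (15342, 13096), (15343, 13099), (15344, 16445), (15345, 16035), (15346, 17535), (15347, 16021), (15348, 16038), (15349, 17536), (15350, 13097), (15351,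 17543), (15352, 17201), (15353, 13252), (15354, 13101), (15355, 16455), (15356, 16403), (15357, 16458), (15358, 13114), (15359, 13115)]
    ⟨e3 q15296 (flp_g L678213) q16383, e3 q15297 (flp_g L678223) q16384, e3 q15298 L667572 q13356, e3 q15299 (flp_g L678235) q16385, e3 q15300 (flp_g L678247) q16386, e3 q15301 L667607 q15301, e3 q15302 L667615 q15302, e3 q15303 L667627 q13044, e3 q15304 L667634 q13045, e3 q15305 L667649 q13061, e3 q15306 L667666 q13065, e3 q15307 L667678 q13049, e3 q15308 L667696 q13050, e3 q15309 (flp_g L679821) q16514, e3 q15310 (flp_g L690003) q17511, e3 q15311 (flp_g L679492) q16484, e3 q15312 (flp_g L679983) q16529, e3 q15313 (flp_g L680016) q16532, e3 q15314 (flp_g L679688) q16501, e3 q15315 (flp_g L686894) q17198, e3 q15316 L667762 q13062, e3 q15317 (flp_g L679837) q16515, e3 q15318 (flp_g L679854) q16516, e3 q15319 (flp_g L689989) q17510, e3 q15320 (flp_g L690060) q17518, e3 q15321 (flp_g L679996) q16530, e3 q15322 (flp_g L673980) q16045, e3 q15323 (flp_g L686908) q17199, e3 q15324 (flp_g L679363)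 q16472, e3 q15325 (flp_g L679374) q16473, e3 q15326 L667845 q13198, e3 q15327 L667857 q13075, e3 q15328 (flp_g L674065) q16050, e3 q15329 (flp_g L690123) q17526, e3 q15330 L667883 q13078, e3 q15331 (flp_g L679192) q16457, e3 q15332 L667901 q13084, e3 q15333 (flp_g L674116) q16054, e3 q15334 (flp_g L686972) q17205, e3 q15335 (flp_g L687011) q17208, e3 q15336 (flp_g L687037) q17211, e3 q15337 L667944 q13088, e3 q15338 (flp_g L679014) q16443, e3 q15339 (flp_g L679749) q16507, e3 q15340 (flp_g L679758) q16508, e3 q15341 L667965 q13094, e3 q15342 L667973 q13096, e3 q15343 L667977 q13099, e3 q15344 L679042 q16445, e3 q15345 (flp_g L673809) q16035, e3 q15346 (flp_g L690190) q17535, e3 q15347 (flp_g L673589) q16021, e3 q15348 (flp_g L673866) q16038, e3 q15349 (flp_g L690196) q17536, e3 q15350 (flp_g L668025) q13097, e3 q15351 (flp_g L690250) q17543, e3 q15352 (flp_g L686926) q17201, e3 q15353 L668051 q13252, e3 q15354 L668061 q13101, e3 q15355 (flp_g L679170) q16455, e3 q15356 (flp_g L678470) q16403, e3 q15357 (flp_g L679202) q16458,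 e3 q15358 L668101 q13114, e3 q15359 L668109 q13115, trivial⟩ (by decide +kernel)

theorem ce_g_240 : ∀ r, r < 64 → sm gg (Qf (15360 + r)) = Qf (tab Gen.g (15360 + r)) :=
  edges_tab (sm gg) Qf (tab Gen.g) 15360 [(15360, 16450), (15361, 17547), (15362, 17548), (15363, 16404), (15364, 13288), (15365, 13124), (15366, 13125), (15367, 17552), (15368, 16571), (15369, 13129), (15370, 13130), (15371, 17555), (15372, 16674), (15373, 16580), (15374, 16581), (15375, 13153), (15376, 13186), (15377, 13136), (15378, 13137), (15379, 17563), (15380, 17564), (15381, 17281), (15382, 16597), (15383, 16598), (15384, 13146), (15385, 13147), (15386, 13148), (15387, 16739), (15388, 17569), (15389, 17570), (15390, 16605), (15391, 16606), (15392, 13152), (15393, 13154), (15394, 16757), (15395, 17577), (15396, 17562), (15397, 17578), (15398, 17246), (15399, 17275), (15400, 16621), (15401, 16622), (15402, 16623), (15403, 16139), (15404, 13165), (15405, 13166), (15406, 16680), (15407, 13167), (15408, 13168), (15409, 16710), (15410, 16783), (15411, 16784),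 (15412, 17591), (15413, 17592), (15414, 17594), (15415, 16681), (15416, 16651), (15417, 16652), (15418, 16653), (15419, 16654), (15420, 13180), (15421, 16740), (15422, 16829), (15423, 17604)]
    ⟨e3 q15360 (flp_g L679103) q16450, e3 q15361 (flp_g L690290) q17547, e3 q15362 (flp_g L690295) q17548, e3 q15363 (flp_g L678482) q16404, e3 q15364 L668156 q13288, e3 q15365 L668167 q13124, e3 q15366 L668175 q13125, e3 q15367 (flp_g L690330) q17552, e3 q15368 (flp_g L680561) q16571, e3 q15369 L668207 q13129, e3 q15370 L668224 q13130, e3 q15371 (flp_g L690370) q17555, e3 q15372 (flp_g L681634) q16674, e3 q15373 (flp_g L680661) q16580, e3 q15374 (flp_g L680673) q16581, e3 q15375 L668274 q13153, e3 q15376 L668292 q13186, e3 q15377 L668302 q13136, e3 q15378 L668312 q13137, e3 q15379 (flp_g L690454) q17563, e3 q15380 (flp_g L690460) q17564, e3 q15381 (flp_g L687778) q17281, e3 q15382 (flp_g L680856) q16597, e3 q15383 (flp_g L680872) q16598, e3 q15384 L668360 q13146, e3 q15385 L668371 q13147, e3 q15386 L668379 q13148, e3 q15387 (flp_g L682270)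 q16739, e3 q15388 (flp_g L690500) q17569, e3 q15389 (flp_g L690509) q17570, e3 q15390 (flp_g L680949) q16605, e3 q15391 (flp_g L680958) q16606, e3 q15392 L668420 q13152, e3 q15393 L668429 q13154, e3 q15394 (flp_g L682439) q16757, e3 q15395 (flp_g L690564) q17577, e3 q15396 (flp_g L690442) q17562, e3 q15397 (flp_g L690568) q17578, e3 q15398 (flp_g L687445) q17246, e3 q15399 (flp_g L687709) q17275, e3 q15400 (flp_g L681092) q16621, e3 q15401 (flp_g L681098) q16622, e3 q15402 (flp_g L681108) q16623, e3 q15403 (flp_g L675319) q16139, e3 q15404 L668499 q13165, e3 q15405 L668508 q13166, e3 q15406 (flp_g L681701) q16680, e3 q15407 L668524 q13167, e3 q15408 L668528 q13168, e3 q15409 (flp_g L681993) q16710, e3 q15410 (flp_g L682662) q16783, e3 q15411 (flp_g L682675) q16784, e3 q15412 (flp_g L690657) q17591, e3 q15413 (flp_g L690663) q17592, e3 q15414 (flp_g L690679) q17594, e3 q15415 (flp_g L681712) q16681, e3 q15416 (flp_g L681360) q16651, e3 q15417 (flp_g L681373) q16652, e3 q15418 (flp_g L681387) q16653, e3 q15419 (flp_g L681395)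 q16654, e3 q15420 L668610 q13180, e3 q15421 (flp_g L682285) q16740, e3 q15422 (flp_g L683063) q16829, e3 q15423 (flp_g L690741) q17604, trivial⟩ (by decide +kernel)

theorem ce_g_241 : ∀ r, r < 64 → sm gg (Qf (15424 + r)) = Qf (tab Gen.g (15424 + r)) :=
  edges_tab (sm gg) Qf (tab Gen.g) 15424 [(15424, 16668), (15425, 16741), (15426, 16655), (15427, 16555), (15428, 16692), (15429, 16693), (15430, 13191), (15431, 13192), (15432, 16758), (15433, 17611), (15434, 17612), (15435, 13194), (15436, 17615), (15437, 17616), (15438, 16707), (15439, 16708), (15440, 16709), (15441, 16141), (15442, 13202), (15443, 13203), (15444, 16711), (15445, 16786), (15446, 17624), (15447, 13205), (15448, 13206), (15449, 17628), (15450, 16736), (15451, 16737), (15452, 16738), (15453, 15985), (15454, 13215), (15455, 16726), (15456, 16809), (15457, 17632), (15458, 16754), (15459, 16755), (15460, 16756), (15461, 13221), (15462, 13223), (15463, 13226), (15464, 17252), (15465, 17641), (15466, 16069), (15467, 17253), (15468, 17642), (15469, 13224), (15470,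 17254), (15471, 13228), (15472, 13229), (15473, 17647), (15474, 17648), (15475, 17649), (15476, 16777), (15477, 16778), (15478, 16779), (15479, 17662), (15480, 16781), (15481, 16782), (15482, 16102), (15483, 16111), (15484, 17240), (15485, 13241), (15486, 13242), (15487, 13243)]
    ⟨e3 q15424 (flp_g L681560) q16668, e3 q15425 (flp_g L682295) q16741, e3 q15426 (flp_g L681404) q16655, e3 q15427 (flp_g L680347) q16555, e3 q15428 (flp_g L681825) q16692, e3 q15429 (flp_g L681836) q16693, e3 q15430 L668678 q13191, e3 q15431 L668689 q13192, e3 q15432 (flp_g L682452) q16758, e3 q15433 (flp_g L690799) q17611, e3 q15434 (flp_g L690805) q17612, e3 q15435 L668717 q13194, e3 q15436 (flp_g L690826) q17615, e3 q15437 (flp_g L690836) q17616, e3 q15438 (flp_g L681967) q16707, e3 q15439 (flp_g L681975) q16708, e3 q15440 (flp_g L681987) q16709, e3 q15441 (flp_g L675351) q16141, e3 q15442 L668777 q13202, e3 q15443 L668783 q13203, e3 q15444 (flp_g L682005) q16711, e3 q15445 (flp_g L682695) q16786, e3 q15446 (flp_g L690898) q17624, e3 q15447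 L668808 q13205, e3 q15448 L668818 q13206, e3 q15449 (flp_g L690925) q17628, e3 q15450 (flp_g L682243) q16736, e3 q15451 (flp_g L682255) q16737, e3 q15452 (flp_g L682264) q16738, e3 q15453 (flp_g L673114) q15985, e3 q15454 L668876 q13215, e3 q15455 (flp_g L682141) q16726, e3 q15456 (flp_g L682881) q16809, e3 q15457 (flp_g L690960) q17632, e3 q15458 (flp_g L682418) q16754, e3 q15459 (flp_g L682425) q16755, e3 q15460 (flp_g L682435) q16756, e3 q15461 L668921 q13221, e3 q15462 L668930 q13223, e3 q15463 L668934 q13226, e3 q15464 (flp_g L687493) q17252, e3 q15465 (flp_g L691020) q17641, e3 q15466 (flp_g L674337) q16069, e3 q15467 (flp_g L687509) q17253, e3 q15468 (flp_g L691026) q17642, e3 q15469 (flp_g L668967) q13224, e3 q15470 (flp_g L687519) q17254, e3 q15471 L668981 q13228, e3 q15472 L668989 q13229, e3 q15473 (flp_g L691057) q17647, e3 q15474 (flp_g L691063) q17648, e3 q15475 (flp_g L691071) q17649, e3 q15476 (flp_g L682614) q16777, e3 q15477 (flp_g L682624) q16778, e3 q15478 (flp_g L682634) q16779, e3 q15479 L691153 q17662,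 e3 q15480 (flp_g L682648) q16781, e3 q15481 (flp_g L682654) q16782, e3 q15482 (flp_g L674791) q16102, e3 q15483 (flp_g L674933) q16111, e3 q15484 (flp_g L687377) q17240, e3 q15485 L669069 q13241, e3 q15486 L669075 q13242, e3 q15487 L669085 q13243, trivial⟩ (by decide +kernel)

theorem ce_g_242 : ∀ r, r < 64 → sm gg (Qf (15488 + r)) = Qf (tab Gen.g (15488 + r)) :=
  edges_tab (sm gg) Qf (tab Gen.g) 15488 [(15488, 17671), (15489, 13245), (15490, 13246), (15491, 13238), (15492, 17676), (15493, 13249), (15494, 16682), (15495, 17667), (15496, 16607), (15497, 17669), (15498, 17670), (15499, 13244), (15500, 17683), (15501, 17673), (15502, 17674), (15503, 16062), (15504, 13248), (15505, 17688), (15506, 16119), (15507, 13251), (15508, 13631), (15509, 13257), (15510, 13259), (15511, 16591), (15512, 17690), (15513, 17152), (15514, 17691), (15515, 16822), (15516, 16823), (15517, 16824), (15518, 16825), (15519, 16826), (15520, 16827), (15521, 16828), (15522, 16104), (15523, 16115), (15524, 13271), (15525, 13272), (15526, 13273), (15527,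 17704), (15528, 17705), (15529, 17706), (15530, 13279), (15531, 16538), (15532, 16648), (15533, 16649), (15534, 16661), (15535, 16662), (15536, 16837), (15537, 16838), (15538, 13343), (15539, 16839), (15540, 16840), (15541, 13357), (15542, 16841), (15543, 16541), (15544, 16673), (15545, 13293), (15546, 13294), (15547, 13295), (15548, 17719), (15549, 17720), (15550, 17721), (15551, 15991)]
    ⟨e3 q15488 L691215 q17671, e3 q15489 L669101 q13245, e3 q15490 L669107 q13246, e3 q15491 (flp_g L669109) q13238, e3 q15492 (flp_g L691257) q17676, e3 q15493 L669125 q13249, e3 q15494 (flp_g L681720) q16682, e3 q15495 (flp_g L691191) q17667, e3 q15496 (flp_g L680966) q16607, e3 q15497 (flp_g L691207) q17669, e3 q15498 (flp_g L691213) q17670, e3 q15499 (flp_g L669157) q13244, e3 q15500 (flp_g L691301) q17683, e3 q15501 (flp_g L691237) q17673, e3 q15502 (flp_g L691241) q17674, e3 q15503 (flp_g L674236) q16062, e3 q15504 L669189 q13248, e3 q15505 (flp_g L691327) q17688, e3 q15506 (flp_g L675051) q16119, e3 q15507 L669213 q13251, e3 q15508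 L669221 q13631, e3 q15509 L669229 q13257, e3 q15510 L669238 q13259, e3 q15511 (flp_g L680784) q16591, e3 q15512 (flp_g L691345) q17690, e3 q15513 (flp_g L686324) q17152, e3 q15514 (flp_g L691353) q17691, e3 q15515 (flp_g L682992) q16822, e3 q15516 (flp_g L683003) q16823, e3 q15517 (flp_g L683017) q16824, e3 q15518 (flp_g L683024) q16825, e3 q15519 (flp_g L683035) q16826, e3 q15520 (flp_g L683043) q16827, e3 q15521 (flp_g L683053) q16828, e3 q15522 (flp_g L674825) q16104, e3 q15523 (flp_g L674990) q16115, e3 q15524 L669359 q13271, e3 q15525 L669369 q13272, e3 q15526 L669374 q13273, e3 q15527 (flp_g L691463) q17704, e3 q15528 (flp_g L691470) q17705, e3 q15529 (flp_g L691475) q17706, e3 q15530 L669401 q13279, e3 q15531 (flp_g L680115) q16538, e3 q15532 (flp_g L681322) q16648, e3 q15533 (flp_g L681339) q16649, e3 q15534 (flp_g L681471) q16661, e3 q15535 (flp_g L681482) q16662, e3 q15536 (flp_g L683133) q16837, e3 q15537 (flp_g L683150) q16838, e3 q15538 L669477 q13343, e3 q15539 (flp_g L683163) q16839, e3 q15540 (flp_g L683173)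 q16840, e3 q15541 L669511 q13357, e3 q15542 (flp_g L683188) q16841, e3 q15543 (flp_g L680154) q16541, e3 q15544 (flp_g L681613) q16673, e3 q15545 L669552 q13293, e3 q15546 L669559 q13294, e3 q15547 L669565 q13295, e3 q15548 (flp_g L691589) q17719, e3 q15549 (flp_g L691594) q17720, e3 q15550 (flp_g L691601) q17721, e3 q15551 (flp_g L673198) q15991, trivial⟩ (by decide +kernel)

theorem ce_g_243 : ∀ r, r < 64 → sm gg (Qf (15552 + r)) = Qf (tab Gen.g (15552 + r)) :=
  edges_tab (sm gg) Qf (tab Gen.g) 15552 [(15552, 13297), (15553, 17722), (15554, 17723), (15555, 16866), (15556, 16867), (15557, 15557), (15558, 13303), (15559, 13305), (15560, 16881), (15561, 16882), (15562, 13308), (15563, 17731), (15564, 17732), (15565, 16886), (15566, 16887), (15567, 15567), (15568, 15568), (15569, 16942), (15570, 13315), (15571, 13316), (15572, 17741), (15573, 13318), (15574, 13319), (15575, 17742), (15576, 17743), (15577, 17744), (15578, 16899), (15579, 16900), (15580, 16901), (15581, 16952), (15582, 16903), (15583, 16904), (15584, 15584),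 (15585, 15585), (15586, 15586), (15587, 17764), (15588, 15588), (15589, 15589), (15590, 13332), (15591, 13333), (15592, 16951), (15593, 13334), (15594, 13335), (15595, 16953), (15596, 13336), (15597, 17768), (15598, 17769), (15599, 17771), (15600, 13337), (15601, 17775), (15602, 13342), (15603, 13344), (15604, 16959), (15605, 16941), (15606, 17776), (15607, 17716), (15608, 13416), (15609, 13380), (15610, 16938), (15611, 16939), (15612, 16940), (15613, 15613), (15614, 15614), (15615, 13353)]
    ⟨e3 q15552 L669605 q13297, e3 q15553 (flp_g L691611) q17722, e3 q15554 (flp_g L691620) q17723, e3 q15555 (flp_g L683502) q16866, e3 q15556 (flp_g L683516) q16867, e3 q15557 L669645 q15557, e3 q15558 L669652 q13303, e3 q15559 L669662 q13305, e3 q15560 (flp_g L683661) q16881, e3 q15561 (flp_g L683672) q16882, e3 q15562 L669685 q13308, e3 q15563 (flp_g L691676) q17731, e3 q15564 (flp_g L691685) q17732, e3 q15565 (flp_g L683717) q16886, e3 q15566 (flp_g L683731) q16887, e3 q15567 L669721 q15567, e3 q15568 L669732 q15568, e3 q15569 (flp_g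 L684328) q16942, e3 q15570 L669751 q13315, e3 q15571 L669755 q13316, e3 q15572 (flp_g L691759) q17741, e3 q15573 L669773 q13318, e3 q15574 L669780 q13319, e3 q15575 (flp_g L691766) q17742, e3 q15576 (flp_g L691772) q17743, e3 q15577 (flp_g L691779) q17744, e3 q15578 (flp_g L683849) q16899, e3 q15579 (flp_g L683863) q16900, e3 q15580 (flp_g L683877) q16901, e3 q15581 (flp_g L684424) q16952, e3 q15582 (flp_g L683887) q16903, e3 q15583 (flp_g L683893) q16904, e3 q15584 L669842 q15584, e3 q15585 L669849 q15585, e3 q15586 L669859 q15586, e3 q15587 L691916 q17764, e3 q15588 L669878 q15588, e3 q15589 L669883 q15589, e3 q15590 L669894 q13332, e3 q15591 L669903 q13333, e3 q15592 (flp_g L684417) q16951, e3 q15593 L669917 q13334, e3 q15594 L669923 q13335, e3 q15595 (flp_g L684434) q16953, e3 q15596 L669939 q13336, e3 q15597 (flp_g L691960) q17768, e3 q15598 (flp_g L691966) q17769, e3 q15599 (flp_g L691981) q17771, e3 q15600 (flp_g L669963) q13337, e3 q15601 (flp_g L692008) q17775, e3 q15602 L669983 q13342, e3 q15603 L669994 q13344,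 e3 q15604 (flp_g L684486) q16959, e3 q15605 (flp_g L684318) q16941, e3 q15606 (flp_g L692015) q17776, e3 q15607 (flp_g L691559) q17716, e3 q15608 L670038 q13416, e3 q15609 L670054 q13380, e3 q15610 (flp_g L684270) q16938, e3 q15611 (flp_g L684284) q16939, e3 q15612 (flp_g L684302) q16940, e3 q15613 L670082 q15613, e3 q15614 L670096 q15614, e3 q15615 L670108 q13353, trivial⟩ (by decide +kernel)

theorem ce_g_244 : ∀ r, r < 64 → sm gg (Qf (15616 + r)) = Qf (tab Gen.g (15616 + r)) :=
  edges_tab (sm gg) Qf (tab Gen.g) 15616 [(15616, 17159), (15617, 13540), (15618, 13531), (15619, 16937), (15620, 15620), (15621, 15621), (15622, 13371), (15623, 13372), (15624, 16943), (15625, 15625), (15626, 16960), (15627, 16961), (15628, 17781), (15629, 17782), (15630, 16965), (15631, 16966), (15632, 15632), (15633, 13386), (15634, 13388), (15635, 13389), (15636, 17795), (15637, 17796), (15638, 17797), (15639, 16978), (15640, 16979), (15641, 16980), (15642, 16982), (15643, 16983), (15644, 15644), (15645, 15645), (15646, 15646), (15647, 13398),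 (15648, 13399), (15649, 13400), (15650, 17813), (15651, 17814), (15652, 13403), (15653, 13405), (15654, 17183), (15655, 17185), (15656, 17816), (15657, 17150), (15658, 17010), (15659, 17011), (15660, 17012), (15661, 17013), (15662, 17014), (15663, 15663), (15664, 15664), (15665, 13414), (15666, 17780), (15667, 17019), (15668, 17020), (15669, 17021), (15670, 13420), (15671, 13421), (15672, 17830), (15673, 17831), (15674, 17832), (15675, 17027), (15676, 17028), (15677, 17029), (15678, 17845), (15679, 17031)]
    ⟨e3 q15616 (flp_g L686414) q17159, e3 q15617 L670127 q13540, e3 q15618 L670138 q13531, e3 q15619 (flp_g L684252) q16937, e3 q15620 L670154 q15620, e3 q15621 L670162 q15621, e3 q15622 L670175 q13371, e3 q15623 L670183 q13372, e3 q15624 (flp_g L684340) q16943, e3 q15625 L670207 q15625, e3 q15626 (flp_g L684495) q16960, e3 q15627 (flp_g L684506) q16961, e3 q15628 (flp_g L692062) q17781, e3 q15629 (flp_g L692077) q17782, e3 q15630 (flp_g L684555) q16965, e3 q15631 (flp_g L684569) q16966, e3 q15632 L670268 q15632, e3 q15633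 L670275 q13386, e3 q15634 L670284 q13388, e3 q15635 L670293 q13389, e3 q15636 (flp_g L692190) q17795, e3 q15637 (flp_g L692198) q17796, e3 q15638 (flp_g L692207) q17797, e3 q15639 (flp_g L684693) q16978, e3 q15640 (flp_g L684705) q16979, e3 q15641 (flp_g L684719) q16980, e3 q15642 (flp_g L684733) q16982, e3 q15643 (flp_g L684741) q16983, e3 q15644 L670359 q15644, e3 q15645 L670370 q15645, e3 q15646 L670377 q15646, e3 q15647 L670384 q13398, e3 q15648 L670394 q13399, e3 q15649 L670402 q13400, e3 q15650 (flp_g L692336) q17813, e3 q15651 (flp_g L692342) q17814, e3 q15652 L670423 q13403, e3 q15653 L670435 q13405, e3 q15654 (flp_g L686727) q17183, e3 q15655 (flp_g L686755) q17185, e3 q15656 (flp_g L692358) q17816, e3 q15657 (flp_g L686297) q17150, e3 q15658 (flp_g L685016) q17010, e3 q15659 (flp_g L685029) q17011, e3 q15660 (flp_g L685043) q17012, e3 q15661 (flp_g L685054) q17013, e3 q15662 (flp_g L685065) q17014, e3 q15663 L670527 q15663, e3 q15664 L670541 q15664, e3 q15665 L670553 q13414, e3 q15666 (flp_g L692053) q17780, e3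 q15667 (flp_g L685116) q17019, e3 q15668 (flp_g L685122) q17020, e3 q15669 (flp_g L685131) q17021, e3 q15670 L670586 q13420, e3 q15671 L670595 q13421, e3 q15672 (flp_g L692468) q17830, e3 q15673 (flp_g L692476) q17831, e3 q15674 (flp_g L692485) q17832, e3 q15675 (flp_g L685183) q17027, e3 q15676 (flp_g L685193) q17028, e3 q15677 (flp_g L685207) q17029, e3 q15678 L692577 q17845, e3 q15679 (flp_g L685219) q17031, trivial⟩ (by decide +kernel)

theorem ce_g_245 : ∀ r, r < 64 → sm gg (Qf (15680 + r)) = Qf (tab Gen.g (15680 + r)) :=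
  edges_tab (sm gg) Qf (tab Gen.g) 15680 [(15680, 17032), (15681, 15681), (15682, 15682), (15683, 15683), (15684, 15684), (15685, 15685), (15686, 13434), (15687, 13435), (15688, 13436), (15689, 17858), (15690, 13438), (15691, 13439), (15692, 13431), (15693, 17862), (15694, 13442), (15695, 17854), (15696, 17856), (15697, 17857), (15698, 13437), (15699, 17867), (15700, 17860), (15701, 15701), (15702, 13441), (15703, 17871), (15704, 13445), (15705, 13446), (15706, 13447), (15707, 17189), (15708, 17872), (15709, 17873), (15710, 17883), (15711, 17875), (15712, 17876), (15713, 17063), (15714, 17064), (15715, 17065), (15716, 17066), (15717, 17895), (15718, 17068), (15719, 17069), (15720, 13451), (15721, 17900), (15722, 17072), (15723, 15723), (15724, 15724), (15725, 15725), (15726, 17385), (15727, 15727), (15728, 15728), (15729, 13457), (15730, 17912), (15731, 15731), (15732, 13469), (15733, 13470), (15734, 17917), (15735, 13472), (15736, 13473), (15737, 13463), (15738, 17922), (15739, 13476), (15740, 13477), (15741, 17911), (15742,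 13467), (15743, 17927)]
    ⟨e3 q15680 (flp_g L685225) q17032, e3 q15681 L670663 q15681, e3 q15682 L670672 q15682, e3 q15683 L670684 q15683, e3 q15684 L670695 q15684, e3 q15685 L670700 q15685, e3 q15686 L670709 q13434, e3 q15687 L670717 q13435, e3 q15688 L670728 q13436, e3 q15689 L692687 q17858, e3 q15690 L670744 q13438, e3 q15691 L670750 q13439, e3 q15692 (flp_g L670754) q13431, e3 q15693 (flp_g L692727) q17862, e3 q15694 L670772 q13442, e3 q15695 (flp_g L692661) q17854, e3 q15696 (flp_g L692677) q17856, e3 q15697 (flp_g L692683) q17857, e3 q15698 (flp_g L670798) q13437, e3 q15699 (flp_g L692764) q17867, e3 q15700 (flp_g L692709) q17860, e3 q15701 L670828 q15701, e3 q15702 L670833 q13441, e3 q15703 (flp_g L692790) q17871, e3 q15704 L670845 q13445, e3 q15705 L670851 q13446, e3 q15706 L670858 q13447, e3 q15707 (flp_g L686792) q17189, e3 q15708 (flp_g L692798) q17872, e3 q15709 (flp_g L692807) q17873, e3 q15710 L692873 q17883, e3 q15711 (flp_g L692816) q17875, e3 q15712 (flp_g L692821) q17876, e3 q15713 (flp_g L685501) q17063,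 e3 q15714 (flp_g L685507) q17064, e3 q15715 (flp_g L685517) q17065, e3 q15716 (flp_g L685521) q17066, e3 q15717 L692945 q17895, e3 q15718 (flp_g L685537) q17068, e3 q15719 (flp_g L685545) q17069, e3 q15720 (flp_g L670942) q13451, e3 q15721 (flp_g L692979) q17900, e3 q15722 (flp_g L685563) q17072, e3 q15723 L670960 q15723, e3 q15724 L670967 q15724, e3 q15725 L670978 q15725, e3 q15726 (flp_g L688868) q17385, e3 q15727 L670997 q15727, e3 q15728 L671004 q15728, e3 q15729 (flp_g L671007) q13457, e3 q15730 (flp_g L693075) q17912, e3 q15731 L671024 q15731, e3 q15732 L671031 q13469, e3 q15733 L671041 q13470, e3 q15734 L693105 q17917, e3 q15735 L671057 q13472, e3 q15736 L671063 q13473, e3 q15737 (flp_g L671065) q13463, e3 q15738 (flp_g L693155) q17922, e3 q15739 L671087 q13476, e3 q15740 L671091 q13477, e3 q15741 (flp_g L693068) q17911, e3 q15742 L671107 q13467, e3 q15743 (flp_g L693187) q17927, trivial⟩ (by decide +kernel)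

theorem ce_g_246 : ∀ r, r < 64 → sm gg (Qf (15744 + r)) = Qf (tab Gen.g (15744 + r)) :=
  edges_tab (sm gg) Qf (tab Gen.g) 15744 [(15744, 17915), (15745, 17916), (15746, 13471), (15747, 17930), (15748, 17919), (15749, 17920), (15750, 15750), (15751, 13475), (15752, 17934), (15753, 17924), (15754, 17925), (15755, 15755), (15756, 13480), (15757, 13483), (15758, 13482), (15759, 17938), (15760, 13490), (15761, 17139), (15762, 17186), (15763, 17136), (15764, 17135), (15765, 17133), (15766, 17134), (15767, 17137), (15768, 17138), (15769, 17140), (15770, 15770), (15771, 15771), (15772, 13506), (15773, 13507), (15774, 13508), (15775, 13514), (15776, 17785), (15777, 17157), (15778, 13518), (15779, 15779), (15780, 17160), (15781, 17161), (15782, 17164), (15783, 17314), (15784, 16378), (15785, 17326), (15786, 17168), (15787, 17169), (15788, 17170), (15789, 17171), (15790, 17172), (15791, 13546), (15792, 13548), (15793, 17188), (15794, 17125), (15795, 17962), (15796, 17148), (15797, 17175), (15798, 17176), (15799, 17177), (15800, 17178),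 (15801, 17179), (15802, 15802), (15803, 15803), (15804, 13557), (15805, 17182), (15806, 17187), (15807, 17190)]
    ⟨e3 q15744 (flp_g L693097) q17915, e3 q15745 (flp_g L693103) q17916, e3 q15746 (flp_g L671127) q13471, e3 q15747 (flp_g L693211) q17930, e3 q15748 (flp_g L693127) q17919, e3 q15749 (flp_g L693133) q17920, e3 q15750 L671162 q15750, e3 q15751 L671169 q13475, e3 q15752 (flp_g L693240) q17934, e3 q15753 (flp_g L693165) q17924, e3 q15754 (flp_g L693171) q17925, e3 q15755 L671192 q15755, e3 q15756 L671197 q13480, e3 q15757 L671206 q13483, e3 q15758 L671213 q13482, e3 q15759 (flp_g L693266) q17938, e3 q15760 L671228 q13490, e3 q15761 (flp_g L686163) q17139, e3 q15762 (flp_g L686763) q17186, e3 q15763 (flp_g L686134) q17136, e3 q15764 (flp_g L686120) q17135, e3 q15765 (flp_g L686102) q17133, e3 q15766 (flp_g L686109) q17134, e3 q15767 (flp_g L686141) q17137, e3 q15768 (flp_g L686150) q17138, e3 q15769 (flp_g L686173) q17140, e3 q15770 L671322 q15770, e3 q15771 L671331 q15771, e3 q15772 L671344 q13506, e3 q15773 L671354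 q13507, e3 q15774 L671362 q13508, e3 q15775 L671377 q13514, e3 q15776 (flp_g L692105) q17785, e3 q15777 (flp_g L686387) q17157, e3 q15778 L671401 q13518, e3 q15779 L671411 q15779, e3 q15780 (flp_g L686427) q17160, e3 q15781 (flp_g L686445) q17161, e3 q15782 (flp_g L686493) q17164, e3 q15783 (flp_g L688151) q17314, e3 q15784 (flp_g L678148) q16378, e3 q15785 (flp_g L688277) q17326, e3 q15786 (flp_g L686535) q17168, e3 q15787 (flp_g L686545) q17169, e3 q15788 (flp_g L686557) q17170, e3 q15789 (flp_g L686570) q17171, e3 q15790 (flp_g L686578) q17172, e3 q15791 L671498 q13546, e3 q15792 L671508 q13548, e3 q15793 (flp_g L686783) q17188, e3 q15794 (flp_g L686005) q17125, e3 q15795 (flp_g L693452) q17962, e3 q15796 (flp_g L686268) q17148, e3 q15797 (flp_g L686613) q17175, e3 q15798 (flp_g L686630) q17176, e3 q15799 (flp_g L686645) q17177, e3 q15800 (flp_g L686655) q17178, e3 q15801 (flp_g L686669) q17179, e3 q15802 L671580 q15802, e3 q15803 L671591 q15803, e3 q15804 L671602 q13557, e3 q15805 (flp_g L686713) q17182, e3 q15806 (flp_g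 L686771) q17187, e3 q15807 (flp_g L686800) q17190, trivial⟩ (by decide +kernel)

theorem ce_g_247 : ∀ r, r < 64 → sm gg (Qf (15808 + r)) = Qf (tab Gen.g (15808 + r)) :=
  edges_tab (sm gg) Qf (tab Gen.g) 15808 [(15808, 15808), (15809, 17353), (15810, 16033), (15811, 16036), (15812, 16022), (15813, 15813), (15814, 13586), (15815, 16452), (15816, 16057), (15817, 16526), (15818, 15990), (15819, 15819), (15820, 15820), (15821, 15821), (15822, 15822), (15823, 13663), (15824, 13664), (15825, 13600), (15826, 13601), (15827, 13602), (15828, 17984), (15829, 17985), (15830, 17986), (15831, 16080), (15832, 15832), (15833, 13610), (15834, 16727), (15835, 16639), (15836, 17987), (15837, 16604), (15838, 13627), (15839, 13619), (15840, 17989), (15841, 13622), (15842, 17234), (15843, 16572), (15844, 16683), (15845, 16569), (15846, 16608), (15847, 17273), (15848, 16153), (15849, 13630), (15850, 16123), (15851, 17687), (15852, 16814), (15853, 15853), (15854, 15854), (15855, 15855), (15856, 15856), (15857, 15857), (15858, 15858), (15859, 16105),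 (15860, 13651), (15861, 13652), (15862, 13653), (15863, 17999), (15864, 18000), (15865, 18001), (15866, 18003), (15867, 16244), (15868, 17289), (15869, 15869), (15870, 15870), (15871, 15871)]
    ⟨e3 q15808 L671621 q15808, e3 q15809 (flp_g L688553) q17353, e3 q15810 (flp_g L673777) q16033, e3 q15811 (flp_g L673830) q16036, e3 q15812 (flp_g L673608) q16022, e3 q15813 L671663 q15813, e3 q15814 L671671 q13586, e3 q15815 (flp_g L679124) q16452, e3 q15816 (flp_g L674158) q16057, e3 q15817 (flp_g L679952) q16526, e3 q15818 (flp_g L673183) q15990, e3 q15819 L671714 q15819, e3 q15820 L671723 q15820, e3 q15821 L671731 q15821, e3 q15822 L671741 q15822, e3 q15823 L671752 q13663, e3 q15824 L671760 q13664, e3 q15825 L671772 q13600, e3 q15826 L671779 q13601, e3 q15827 L671787 q13602, e3 q15828 (flp_g L693631) q17984, e3 q15829 (flp_g L693645) q17985, e3 q15830 (flp_g L693662) q17986, e3 q15831 (flp_g L674467) q16080, e3 q15832 L671833 q15832, e3 q15833 L671839 q13610, e3 q15834 (flp_g L682154) q16727, e3 q15835 (flp_g L681220) q16639,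 e3 q15836 (flp_g L693674) q17987, e3 q15837 (flp_g L680941) q16604, e3 q15838 L671876 q13627, e3 q15839 (flp_g L671878) q13619, e3 q15840 (flp_g L693690) q17989, e3 q15841 L671897 q13622, e3 q15842 (flp_g L687311) q17234, e3 q15843 (flp_g L680569) q16572, e3 q15844 (flp_g L681735) q16683, e3 q15845 (flp_g L680527) q16569, e3 q15846 (flp_g L680978) q16608, e3 q15847 (flp_g L687685) q17273, e3 q15848 (flp_g L675480) q16153, e3 q15849 L671956 q13630, e3 q15850 (flp_g L675108) q16123, e3 q15851 (flp_g L691321) q17687, e3 q15852 (flp_g L682921) q16814, e3 q15853 L671976 q15853, e3 q15854 L671985 q15854, e3 q15855 L671994 q15855, e3 q15856 L672000 q15856, e3 q15857 L672008 q15857, e3 q15858 L672015 q15858, e3 q15859 (flp_g L674839) q16105, e3 q15860 L672032 q13651, e3 q15861 L672039 q13652, e3 q15862 L672045 q13653, e3 q15863 (flp_g L693751) q17999, e3 q15864 (flp_g L693756) q18000, e3 q15865 (flp_g L693766) q18001, e3 q15866 L693773 q18003, e3 q15867 (flp_g L676662) q16244, e3 q15868 (flp_g L687863) q17289, e3 q15869 L672097 q15869,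 e3 q15870 L672105 q15870, e3 q15871 L672113 q15871, trivial⟩ (by decide +kernel)

theorem ce_g_248 : ∀ r, r < 64 → sm gg (Qf (15872 + r)) = Qf (tab Gen.g (15872 + r)) :=
  edges_tab (sm gg) Qf (tab Gen.g) 15872 [(15872, 15872), (15873, 15873), (15874, 16543), (15875, 17983), (15876, 16560), (15877, 13668), (15878, 13669), (15879, 13670), (15880, 16020), (15881, 18011), (15882, 18010), (15883, 18009), (15884, 15995), (15885, 13671), (15886, 15886), (15887, 15887), (15888, 15888), (15889, 15889), (15890, 15890), (15891, 15891), (15892, 13681), (15893, 13682), (15894, 13683), (15895, 18020), (15896, 18021), (15897, 18022), (15898, 13698), (15899, 15899), (15900, 15900), (15901, 15901), (15902, 15902), (15903, 15903), (15904, 15904), (15905, 15905), (15906, 15906), (15907, 13699), (15908, 13700), (15909, 13739), (15910, 15910), (15911, 18030), (15912, 15912), (15913, 15913), (15914, 18033), (15915, 15915), (15916, 15916), (15917, 13707), (15918, 18038), (15919, 15919), (15920, 15920), (15921, 13711), (15922, 18042), (15923, 15923),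 (15924, 15924), (15925, 17383), (15926, 15926), (15927, 17386), (15928, 15928), (15929, 17388), (15930, 17950), (15931, 13734), (15932, 13735), (15933, 13723), (15934, 18051), (15935, 13738)]
    ⟨e3 q15872 L672121 q15872, e3 q15873 L672128 q15873, e3 q15874 (flp_g L680179) q16543, e3 q15875 (flp_g L693616) q17983, e3 q15876 (flp_g L680409) q16560, e3 q15877 L672160 q13668, e3 q15878 L672166 q13669, e3 q15879 L672175 q13670, e3 q15880 (flp_g L673572) q16020, e3 q15881 (flp_g L693858) q18011, e3 q15882 (flp_g L693841) q18010, e3 q15883 (flp_g L693827) q18009, e3 q15884 (flp_g L673252) q15995, e3 q15885 (flp_g L672213) q13671, e3 q15886 L672227 q15886, e3 q15887 L672241 q15887, e3 q15888 L672250 q15888, e3 q15889 L672258 q15889, e3 q15890 L672270 q15890, e3 q15891 L672279 q15891, e3 q15892 L672291 q13681, e3 q15893 L672297 q13682, e3 q15894 L672304 q13683, e3 q15895 (flp_g L693953) q18020, e3 q15896 (flp_g L693960) q18021, e3 q15897 (flp_g L693970) q18022, e3 q15898 L672346 q13698, e3 q15899 L672361 q15899, e3 q15900 L672370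 q15900, e3 q15901 L672378 q15901, e3 q15902 L672388 q15902, e3 q15903 L672397 q15903, e3 q15904 L672406 q15904, e3 q15905 L672413 q15905, e3 q15906 L672425 q15906, e3 q15907 L672435 q13699, e3 q15908 L672444 q13700, e3 q15909 L672456 q13739, e3 q15910 L672468 q15910, e3 q15911 L694031 q18030, e3 q15912 L672489 q15912, e3 q15913 L672499 q15913, e3 q15914 L694062 q18033, e3 q15915 L672513 q15915, e3 q15916 L672521 q15916, e3 q15917 (flp_g L672522) q13707, e3 q15918 (flp_g L694096) q18038, e3 q15919 L672544 q15919, e3 q15920 L672552 q15920, e3 q15921 L672565 q13711, e3 q15922 (flp_g L694128) q18042, e3 q15923 L672578 q15923, e3 q15924 L672590 q15924, e3 q15925 (flp_g L688850) q17383, e3 q15926 L672611 q15926, e3 q15927 (flp_g L688881) q17386, e3 q15928 L672628 q15928, e3 q15929 (flp_g L688900) q17388, e3 q15930 (flp_g L693355) q17950, e3 q15931 L672653 q13734, e3 q15932 L672660 q13735, e3 q15933 (flp_g L672663) q13723, e3 q15934 (flp_g L694210) q18051, e3 q15935 L672685 q13738, trivial⟩ (by decide +kernel)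

theorem ce_g_249 : ∀ r, r < 64 → sm gg (Qf (15936 + r)) = Qf (tab Gen.g (15936 + r)) :=
  edges_tab (sm gg) Qf (tab Gen.g) 15936 [(15936, 17378), (15937, 13727), (15938, 18055), (15939, 13743), (15940, 13744), (15941, 17380), (15942, 13732), (15943, 13733), (15944, 18059), (15945, 18050), (15946, 15946), (15947, 13737), (15948, 18062), (15949, 18053), (15950, 15950), (15951, 13742), (15952, 18065), (15953, 18057), (15954, 13749), (15955, 15955), (15956, 15956), (15957, 17384), (15958, 15958), (15959, 17382), (15960, 15960), (15961, 15961), (15962, 15962), (15963, 15963), (15964, 15964), (15965, 15965), (15966, 16287), (15967, 13779), (15968, 15968), (15969, 15969), (15970, 15970), (15971, 15971), (15972, 15972), (15973, 16207), (15974, 16220), (15975, 15975), (15976, 15976), (15977, 13798), (15978, 18078), (15979, 15979), (15980, 13801), (15981, 18081), (15982, 13816), (15983, 13804), (15984, 18082), (15985, 15453), (15986, 14381), (15987, 13808), (15988, 18084), (15989, 13827), (15990, 15818), (15991, 15551), (15992, 15992),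 (15993, 13815), (15994, 18088), (15995, 15884), (15996, 13818), (15997, 18091), (15998, 13823), (15999, 15999)]
    ⟨e3 q15936 (flp_g L688793) q17378, e3 q15937 L672701 q13727, e3 q15938 (flp_g L694241) q18055, e3 q15939 L672712 q13743, e3 q15940 L672718 q13744, e3 q15941 (flp_g L688819) q17380, e3 q15942 L672737 q13732, e3 q15943 (flp_g L672740) q13733, e3 q15944 (flp_g L694270) q18059, e3 q15945 (flp_g L694200) q18050, e3 q15946 L672778 q15946, e3 q15947 L672785 q13737, e3 q15948 (flp_g L694301) q18062, e3 q15949 (flp_g L694224) q18053, e3 q15950 L672808 q15950, e3 q15951 L672816 q13742, e3 q15952 (flp_g L694321) q18065, e3 q15953 (flp_g L694251) q18057, e3 q15954 L672835 q13749, e3 q15955 L672843 q15955, e3 q15956 L672846 q15956, e3 q15957 (flp_g L688861) q17384, e3 q15958 L672858 q15958, e3 q15959 (flp_g L688840) q17382, e3 q15960 L672869 q15960, e3 q15961 L672874 q15961, e3 q15962 L672883 q15962, e3 q15963 L672888 q15963, e3 q15964 L672895 q15964, e3 q15965 L672898 q15965, e3 q15966 (flp_g L677195) q16287, e3 q15967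 L672911 q13779, e3 q15968 L672917 q15968, e3 q15969 L672926 q15969, e3 q15970 L672930 q15970, e3 q15971 L672941 q15971, e3 q15972 L672947 q15972, e3 q15973 (flp_g L676164) q16207, e3 q15974 (flp_g L676326) q16220, e3 q15975 L672969 q15975, e3 q15976 L672975 q15976, e3 q15977 (flp_g L672977) q13798, e3 q15978 (flp_g L694415) q18078, e3 q15979 L673014 q15979, e3 q15980 (flp_g L673018) q13801, e3 q15981 (flp_g L694467) q18081, e3 q15982 L673063 q13816, e3 q15983 (flp_g L673070) q13804, e3 q15984 (flp_g L694486) q18082, e3 q15985 L673114 q15453, e3 q15986 L673134 q14381, e3 q15987 L673144 q13808, e3 q15988 (flp_g L694521) q18084, e3 q15989 L673167 q13827, e3 q15990 L673183 q15818, e3 q15991 L673198 q15551, e3 q15992 L673218 q15992, e3 q15993 L673230 q13815, e3 q15994 (flp_g L694587) q18088, e3 q15995 L673252 q15884, e3 q15996 (flp_g L673260) q13818, e3 q15997 (flp_g L694638) q18091, e3 q15998 L673298 q13823, e3 q15999 L673317 q15999, trivial⟩ (by decide +kernel)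

theorem ce_g_250 : ∀ r, r < 64 → sm gg (Qf (16000 + r)) = Qf (tab Gen.g (16000 + r)) :=
  edges_tab (sm gg) Qf (tab Gen.g) 16000 [(16000, 13822), (16001, 18094), (16002, 16002), (16003, 13826), (16004, 18096), (16005, 18085), (16006, 13831), (16007, 13832), (16008, 18099), (16009, 16009), (16010, 16010), (16011, 16011), (16012, 16012), (16013, 16013), (16014, 16014), (16015, 13842), (16016, 13843), (16017, 13844), (16018, 18105), (16019, 18106), (16020, 15880), (16021, 15347), (16022, 15812), (16023, 13903), (16024, 13859), (16025, 13860), (16026, 14992), (16027, 18110), (16028, 18111), (16029, 13909), (16030, 13864), (16031, 13865), (16032, 18116), (16033, 15810), (16034, 14993), (16035, 15345), (16036, 15811), (16037, 16037), (16038, 15348), (16039, 13877), (16040, 18120), (16041, 16041), (16042, 13963), (16043, 13882), (16044, 13883), (16045, 15322), (16046, 18122), (16047, 13888), (16048, 14983), (16049, 18127), (16050, 15328), (16051, 18125), (16052, 13889), (16053, 18130), (16054, 15333), (16055, 13989), (16056, 13893),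 (16057, 15816), (16058, 13946), (16059, 15009), (16060, 13899), (16061, 13900), (16062, 15503), (16063, 18135)]
    ⟨e3 q16000 L673329 q13822, e3 q16001 (flp_g L694679) q18094, e3 q16002 L673352 q16002, e3 q16003 L673360 q13826, e3 q16004 (flp_g L694704) q18096, e3 q16005 (flp_g L694535) q18085, e3 q16006 L673395 q13831, e3 q16007 L673409 q13832, e3 q16008 (flp_g L694754) q18099, e3 q16009 L673440 q16009, e3 q16010 L673456 q16010, e3 q16011 L673468 q16011, e3 q16012 L673483 q16012, e3 q16013 L673499 q16013, e3 q16014 L673511 q16014, e3 q16015 L673525 q13842, e3 q16016 L673533 q13843, e3 q16017 L673541 q13844, e3 q16018 (flp_g L694843) q18105, e3 q16019 (flp_g L694852) q18106, e3 q16020 L673572 q15880, e3 q16021 L673589 q15347, e3 q16022 L673608 q15812, e3 q16023 L673626 q13903, e3 q16024 L673642 q13859, e3 q16025 L673662 q13860, e3 q16026 L673674 q14992, e3 q16027 (flp_g L694912) q18110, e3 q16028 (flp_g L694934) q18111, e3 q16029 L673715 q13909, e3 q16030 L673732 q13864, e3 q16031 L673749 q13865, e3 q16032 (flp_g L695008)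 q18116, e3 q16033 L673777 q15810, e3 q16034 L673795 q14993, e3 q16035 L673809 q15345, e3 q16036 L673830 q15811, e3 q16037 L673848 q16037, e3 q16038 L673866 q15348, e3 q16039 (flp_g L673870) q13877, e3 q16040 (flp_g L695079) q18120, e3 q16041 L673912 q16041, e3 q16042 L673929 q13963, e3 q16043 L673945 q13882, e3 q16044 L673966 q13883, e3 q16045 L673980 q15322, e3 q16046 (flp_g L695118) q18122, e3 q16047 L674015 q13888, e3 q16048 L674033 q14983, e3 q16049 L695187 q18127, e3 q16050 L674065 q15328, e3 q16051 (flp_g L695163) q18125, e3 q16052 (flp_g L674077) q13889, e3 q16053 (flp_g L695247) q18130, e3 q16054 L674116 q15333, e3 q16055 L674135 q13989, e3 q16056 L674146 q13893, e3 q16057 L674158 q15816, e3 q16058 L674181 q13946, e3 q16059 L674197 q15009, e3 q16060 L674207 q13899, e3 q16061 L674224 q13900, e3 q16062 L674236 q15503, e3 q16063 (flp_g L695323) q18135, trivial⟩ (by decide +kernel)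

theorem ce_g_251 : ∀ r, r < 64 → sm gg (Qf (16064 + r)) = Qf (tab Gen.g (16064 + r)) :=
  edges_tab (sm gg) Qf (tab Gen.g) 16064 [(16064, 18136), (16065, 13901), (16066, 15072), (16067, 15014), (16068, 15015), (16069, 15466), (16070, 15019), (16071, 13906), (16072, 13907), (16073, 13908), (16074, 18148), (16075, 18149), (16076, 18150), (16077, 18152), (16078, 18153), (16079, 14418), (16080, 15831), (16081, 14523), (16082, 13913), (16083, 13914), (16084, 18163), (16085, 15073), (16086, 13969), (16087, 13992), (16088, 13923), (16089, 13924), (16090, 18166), (16091, 18167), (16092, 15079), (16093, 13930), (16094, 13931), (16095, 18170), (16096, 15087), (16097, 14250), (16098, 14422), (16099, 15020), (16100, 13937), (16101, 13938), (16102, 15482), (16103, 18174), (16104, 15522), (16105, 15859), (16106, 14075), (16107, 15024), (16108, 15025), (16109, 13951), (16110, 18181), (16111, 15483), (16112, 18180), (16113, 13952), (16114, 18184), (16115, 15523), (16116, 14368), (16117, 13956), (16118, 18187), (16119, 15506), (16120, 15038),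 (16121, 15039), (16122, 15012), (16123, 15850), (16124, 13966), (16125, 13967), (16126, 18196), (16127, 18194)]
    ⟨e3 q16064 (flp_g L695340) q18136, e3 q16065 (flp_g L674269) q13901, e3 q16066 L674301 q15072, e3 q16067 L674313 q15014, e3 q16068 L674327 q15015, e3 q16069 L674337 q15466, e3 q16070 L674355 q15019, e3 q16071 L674365 q13906, e3 q16072 L674379 q13907, e3 q16073 L674391 q13908, e3 q16074 (flp_g L695519) q18148, e3 q16075 (flp_g L695533) q18149, e3 q16076 (flp_g L695548) q18150, e3 q16077 (flp_g L695572) q18152, e3 q16078 (flp_g L695580) q18153, e3 q16079 L674451 q14418, e3 q16080 L674467 q15831, e3 q16081 L674483 q14523, e3 q16082 L674494 q13913, e3 q16083 L674505 q13914, e3 q16084 (flp_g L695711) q18163, e3 q16085 L674536 q15073, e3 q16086 L674550 q13969, e3 q16087 L674570 q13992, e3 q16088 L674581 q13923, e3 q16089 L674596 q13924, e3 q16090 (flp_g L695752) q18166, e3 q16091 (flp_g L695769) q18167, e3 q16092 L674635 q15079, e3 q16093 L674650 q13930, e3 q16094 L674666 q13931, e3 q16095 (flp_g L695815) q18170,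 e3 q16096 L674691 q15087, e3 q16097 L674716 q14250, e3 q16098 L674733 q14422, e3 q16099 L674748 q15020, e3 q16100 L674758 q13937, e3 q16101 L674777 q13938, e3 q16102 L674791 q15482, e3 q16103 (flp_g L695882) q18174, e3 q16104 L674825 q15522, e3 q16105 L674839 q15859, e3 q16106 L674858 q14075, e3 q16107 L674869 q15024, e3 q16108 L674887 q15025, e3 q16109 L674903 q13951, e3 q16110 L695981 q18181, e3 q16111 L674933 q15483, e3 q16112 (flp_g L695973) q18180, e3 q16113 (flp_g L674949) q13952, e3 q16114 (flp_g L696041) q18184, e3 q16115 L674990 q15523, e3 q16116 L675010 q14368, e3 q16117 L675022 q13956, e3 q16118 (flp_g L696094) q18187, e3 q16119 L675051 q15506, e3 q16120 L675063 q15038, e3 q16121 L675081 q15039, e3 q16122 L675089 q15012, e3 q16123 L675108 q15850, e3 q16124 L675122 q13966, e3 q16125 L675139 q13967, e3 q16126 L696219 q18196, e3 q16127 (flp_g L696203) q18194, trivial⟩ (by decide +kernel)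

theorem ce_g_252 : ∀ r, r < 64 → sm gg (Qf (16128 + r)) = Qf (tab Gen.g (16128 + r)) :=
  edges_tab (sm gg) Qf (tab Gen.g) 16128 [(16128, 18195), (16129, 18143), (16130, 18165), (16131, 15047), (16132, 15048), (16133, 15049), (16134, 15017), (16135, 13979), (16136, 18208), (16137, 13981), (16138, 13982), (16139, 15403), (16140, 18212), (16141, 15441), (16142, 18207), (16143, 13980), (16144, 18216), (16145, 18210), (16146, 13983), (16147, 18220), (16148, 13988), (16149, 14464), (16150, 13987), (16151, 18224), (16152, 18222), (16153, 15848), (16154, 13991), (16155, 15076), (16156, 14077), (16157, 15099), (16158, 13999), (16159, 18230), (16160, 15101), (16161, 15102), (16162, 16162), (16163, 16163), (16164, 14004), (16165, 14005), (16166, 14006), (16167, 18239), (16168, 18241), (16169, 18242), (16170, 14008), (16171, 18245), (16172, 18246), (16173, 15109), (16174, 15110), (16175, 15111), (16176, 16176), (16177, 16177), (16178, 16178), (16179, 14016), (16180, 14017), (16181, 14018), (16182, 14771), (16183, 14019), (16184, 14020),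 (16185, 18261), (16186, 18263), (16187, 18264), (16188, 18266), (16189, 18271), (16190, 16190), (16191, 16191)]
    ⟨e3 q16128 (flp_g L696215) q18195, e3 q16129 (flp_g L695451) q18143, e3 q16130 (flp_g L695739) q18165, e3 q16131 L675211 q15047, e3 q16132 L675225 q15048, e3 q16133 L675237 q15049, e3 q16134 L675251 q15017, e3 q16135 L675267 q13979, e3 q16136 L696385 q18208, e3 q16137 L675295 q13981, e3 q16138 L675303 q13982, e3 q16139 L675319 q15403, e3 q16140 L696445 q18212, e3 q16141 L675351 q15441, e3 q16142 (flp_g L696377) q18207, e3 q16143 (flp_g L675367) q13980, e3 q16144 (flp_g L696515) q18216, e3 q16145 (flp_g L696421) q18210, e3 q16146 (flp_g L675391) q13983, e3 q16147 (flp_g L696558) q18220, e3 q16148 L675428 q13988, e3 q16149 L675444 q14464, e3 q16150 L675452 q13987, e3 q16151 (flp_g L696612) q18224, e3 q16152 (flp_g L696581) q18222, e3 q16153 L675480 q15848, e3 q16154 L675492 q13991, e3 q16155 L675511 q15076, e3 q16156 L675531 q14077, e3 q16157 L675543 q15099, e3 q16158 (flp_g L675545) q13999, e3 q16159 (flp_g L696686)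 q18230, e3 q16160 L675580 q15101, e3 q16161 L675593 q15102, e3 q16162 L675603 q16162, e3 q16163 L675616 q16163, e3 q16164 L675625 q14004, e3 q16165 L675642 q14005, e3 q16166 L675655 q14006, e3 q16167 (flp_g L696800) q18239, e3 q16168 (flp_g L696826) q18241, e3 q16169 (flp_g L696834) q18242, e3 q16170 L675709 q14008, e3 q16171 (flp_g L696877) q18245, e3 q16172 (flp_g L696894) q18246, e3 q16173 L675743 q15109, e3 q16174 L675753 q15110, e3 q16175 L675765 q15111, e3 q16176 L675771 q16176, e3 q16177 L675784 q16177, e3 q16178 L675797 q16178, e3 q16179 L675804 q14016, e3 q16180 L675824 q14017, e3 q16181 L675837 q14018, e3 q16182 L675847 q14771, e3 q16183 L675859 q14019, e3 q16184 L675867 q14020, e3 q16185 (flp_g L697075) q18261, e3 q16186 (flp_g L697103) q18263, e3 q16187 (flp_g L697111) q18264, e3 q16188 (flp_g L697133) q18266, e3 q16189 L697189 q18271, e3 q16190 L675939 q16190, e3 q16191 L675951 q16191, trivial⟩ (by decide +kernel)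

theorem ce_g_253 : ∀ r, r < 64 → sm gg (Qf (16192 + r)) = Qf (tab Gen.g (16192 + r)) :=
  edges_tab (sm gg) Qf (tab Gen.g) 16192 [(16192, 14781), (16193, 14026), (16194, 18275), (16195, 14029), (16196, 15270), (16197, 15272), (16198, 15120), (16199, 14168), (16200, 15121), (16201, 14169), (16202, 15122), (16203, 16203), (16204, 16204), (16205, 14039), (16206, 14040), (16207, 15973), (16208, 18286), (16209, 18287), (16210, 15292), (16211, 15294), (16212, 14184), (16213, 15133), (16214, 14185), (16215, 15134), (16216, 14186), (16217, 16217), (16218, 14054), (16219, 14055), (16220, 15974), (16221, 18297), (16222, 18298), (16223, 14667), (16224, 15144), (16225, 16225), (16226, 14059), (16227, 14060), (16228, 18304), (16229, 14061), (16230, 18306), (16231, 15147), (16232, 15148), (16233, 16233), (16234, 16234), (16235, 14066), (16236, 14067), (16237, 14068), (16238, 18314), (16239, 18316), (16240, 18317), (16241, 14661), (16242, 14073), (16243, 14074), (16244, 15867), (16245, 18321), (16246, 15100), (16247, 18227), (16248, 15153),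 (16249, 15154), (16250, 16250), (16251, 16251), (16252, 14082), (16253, 14083), (16254, 14084), (16255, 18331)]
    ⟨e3 q16192 L675966 q14781, e3 q16193 L675977 q14026, e3 q16194 (flp_g L697244) q18275, e3 q16195 L676003 q14029, e3 q16196 L676017 q15270, e3 q16197 L676036 q15272, e3 q16198 L676044 q15120, e3 q16199 L676059 q14168, e3 q16200 L676073 q15121, e3 q16201 L676086 q14169, e3 q16202 L676098 q15122, e3 q16203 L676112 q16203, e3 q16204 L676122 q16204, e3 q16205 L676137 q14039, e3 q16206 L676148 q14040, e3 q16207 L676164 q15973, e3 q16208 (flp_g L697394) q18286, e3 q16209 (flp_g L697403) q18287, e3 q16210 L676201 q15292, e3 q16211 L676212 q15294, e3 q16212 L676225 q14184, e3 q16213 L676243 q15133, e3 q16214 L676257 q14185, e3 q16215 L676268 q15134, e3 q16216 L676277 q14186, e3 q16217 L676292 q16217, e3 q16218 L676303 q14054, e3 q16219 L676311 q14055, e3 q16220 L676326 q15974, e3 q16221 (flp_g L697550) q18297, e3 q16222 (flp_g L697568) q18298, e3 q16223 L676378 q14667, e3 q16224 L676392 q15144, e3 q16225 L676403 q16225,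 e3 q16226 L676412 q14059, e3 q16227 L676429 q14060, e3 q16228 (flp_g L697665) q18304, e3 q16229 (flp_g L676448) q14061, e3 q16230 (flp_g L697694) q18306, e3 q16231 L676485 q15147, e3 q16232 L676496 q15148, e3 q16233 L676506 q16233, e3 q16234 L676520 q16234, e3 q16235 L676529 q14066, e3 q16236 L676546 q14067, e3 q16237 L676562 q14068, e3 q16238 (flp_g L697794) q18314, e3 q16239 (flp_g L697824) q18316, e3 q16240 (flp_g L697834) q18317, e3 q16241 L676617 q14661, e3 q16242 L676629 q14073, e3 q16243 L676643 q14074, e3 q16244 L676662 q15867, e3 q16245 (flp_g L697894) q18321, e3 q16246 L676690 q15100, e3 q16247 (flp_g L696647) q18227, e3 q16248 L676707 q15153, e3 q16249 L676718 q15154, e3 q16250 L676726 q16250, e3 q16251 L676741 q16251, e3 q16252 L676750 q14082, e3 q16253 L676769 q14083, e3 q16254 L676782 q14084, e3 q16255 (flp_g L698020) q18331, trivial⟩ (by decide +kernel)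

theorem ce_g_254 : ∀ r, r < 64 → sm gg (Qf (16256 + r)) = Qf (tab Gen.g (16256 + r)) :=
  edges_tab (sm gg) Qf (tab Gen.g) 16256 [(16256, 18333), (16257, 18334), (16258, 14086), (16259, 18337), (16260, 18338), (16261, 15164), (16262, 15165), (16263, 15166), (16264, 16264), (16265, 14094), (16266, 18348), (16267, 14096), (16268, 14097), (16269, 18347), (16270, 14095), (16271, 18353), (16272, 18350), (16273, 14098), (16274, 18357), (16275, 14103), (16276, 16276), (16277, 14102), (16278, 18361), (16279, 18359), (16280, 16280), (16281, 14106), (16282, 14108), (16283, 15190), (16284, 15192), (16285, 14113), (16286, 18365), (16287, 15966), (16288, 15202), (16289, 15203), (16290, 14117), (16291, 18371), (16292, 18372), (16293, 15207), (16294, 15208), (16295, 15209), (16296, 16296), (16297, 16297), (16298, 16298), (16299, 14125), (16300, 14126), (16301, 14127), (16302, 18391), (16303, 14129), (16304, 14130), (16305, 18387), (16306, 18389), (16307, 18390), (16308, 14128), (16309, 18398), (16310, 18393), (16311, 14132), (16312, 14133),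 (16313, 18281), (16314, 18401), (16315, 18402), (16316, 15230), (16317, 15231), (16318, 15232), (16319, 18416)]
    ⟨e3 q16256 (flp_g L698050) q18333, e3 q16257 (flp_g L698058) q18334, e3 q16258 L676832 q14086, e3 q16259 (flp_g L698099) q18337, e3 q16260 (flp_g L698114) q18338, e3 q16261 L676866 q15164, e3 q16262 L676878 q15165, e3 q16263 L676888 q15166, e3 q16264 L676900 q16264, e3 q16265 L676915 q14094, e3 q16266 L698233 q18348, e3 q16267 L676939 q14096, e3 q16268 L676947 q14097, e3 q16269 (flp_g L698229) q18347, e3 q16270 (flp_g L676964) q14095, e3 q16271 (flp_g L698313) q18353, e3 q16272 (flp_g L698267) q18350, e3 q16273 (flp_g L677002) q14098, e3 q16274 (flp_g L698368) q18357, e3 q16275 L677035 q14103, e3 q16276 L677051 q16276, e3 q16277 L677062 q14102, e3 q16278 (flp_g L698419) q18361, e3 q16279 (flp_g L698387) q18359, e3 q16280 L677096 q16280, e3 q16281 L677105 q14106, e3 q16282 L677120 q14108, e3 q16283 L677138 q15190, e3 q16284 L677151 q15192, e3 q16285 L677168 q14113, e3 q16286 (flp_g L698473) q18365, e3 q16287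 L677195 q15966, e3 q16288 L677204 q15202, e3 q16289 L677216 q15203, e3 q16290 L677226 q14117, e3 q16291 (flp_g L698539) q18371, e3 q16292 (flp_g L698553) q18372, e3 q16293 L677253 q15207, e3 q16294 L677262 q15208, e3 q16295 L677274 q15209, e3 q16296 L677280 q16296, e3 q16297 L677296 q16297, e3 q16298 L677308 q16298, e3 q16299 L677314 q14125, e3 q16300 L677332 q14126, e3 q16301 L677345 q14127, e3 q16302 L698757 q18391, e3 q16303 L677361 q14129, e3 q16304 L677367 q14130, e3 q16305 (flp_g L698715) q18387, e3 q16306 (flp_g L698745) q18389, e3 q16307 (flp_g L698753) q18390, e3 q16308 (flp_g L677409) q14128, e3 q16309 (flp_g L698852) q18398, e3 q16310 (flp_g L698783) q18393, e3 q16311 L677450 q14132, e3 q16312 L677461 q14133, e3 q16313 (flp_g L697326) q18281, e3 q16314 (flp_g L698881) q18401, e3 q16315 (flp_g L698892) q18402, e3 q16316 L677497 q15230, e3 q16317 L677505 q15231, e3 q16318 L677515 q15232, e3 q16319 L699036 q18416, trivial⟩ (by decide +kernel)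

theorem ce_g_255 : ∀ r, r < 64 → sm gg (Qf (16320 + r)) = Qf (tab Gen.g (16320 + r)) :=
  edges_tab (sm gg) Qf (tab Gen.g) 16320 [(16320, 15234), (16321, 15235), (16322, 16322), (16323, 16323), (16324, 18422), (16325, 16325), (16326, 16326), (16327, 14146), (16328, 14147), (16329, 14148), (16330, 18429), (16331, 14150), (16332, 14151), (16333, 14143), (16334, 18434), (16335, 14154), (16336, 18425), (16337, 18427), (16338, 18428), (16339, 14149), (16340, 18441), (16341, 18431), (16342, 18432), (16343, 16343), (16344, 14153), (16345, 18445), (16346, 18436), (16347, 14155), (16348, 18449), (16349, 16349), (16350, 18448), (16351, 14159), (16352, 18453), (16353, 14164), (16354, 16354), (16355, 14163), (16356, 18457), (16357, 18455), (16358, 16358), (16359, 18279), (16360, 18282), (16361, 18284), (16362, 15274), (16363, 15275), (16364, 15276), (16365, 15277), (16366, 15278), (16367, 15279), (16368, 15280), (16369, 16369), (16370, 16370), (16371, 16371), (16372, 14181), (16373, 14182), (16374, 14183), (16375, 18475), (16376, 18476),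 (16377, 18477), (16378, 15784), (16379, 18292), (16380, 18294), (16381, 14935), (16382, 15295), (16383, 15296)]
    ⟨e3 q16320 L677529 q15234, e3 q16321 L677537 q15235, e3 q16322 L677545 q16322, e3 q16323 L677560 q16323, e3 q16324 L699099 q18422, e3 q16325 L677587 q16325, e3 q16326 L677594 q16326, e3 q16327 L677603 q14146, e3 q16328 L677619 q14147, e3 q16329 L677635 q14148, e3 q16330 L699191 q18429, e3 q16331 L677657 q14150, e3 q16332 L677665 q14151, e3 q16333 (flp_g L677667) q14143, e3 q16334 (flp_g L699253) q18434, e3 q16335 L677689 q14154, e3 q16336 (flp_g L699149) q18425, e3 q16337 (flp_g L699179) q18427, e3 q16338 (flp_g L699189) q18428, e3 q16339 (flp_g L677730) q14149, e3 q16340 (flp_g L699337) q18441, e3 q16341 (flp_g L699225) q18431, e3 q16342 (flp_g L699233) q18432, e3 q16343 L677785 q16343, e3 q16344 L677794 q14153, e3 q16345 (flp_g L699382) q18445, e3 q16346 (flp_g L699265) q18436, e3 q16347 (flp_g L677812) q14155, e3 q16348 (flp_g L699427) q18449, e3 q16349 L677848 q16349, e3 q16350 (flp_g L699414) q18448, e3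 q16351 L677865 q14159, e3 q16352 (flp_g L699468) q18453, e3 q16353 L677878 q14164, e3 q16354 L677887 q16354, e3 q16355 L677896 q14163, e3 q16356 (flp_g L699501) q18457, e3 q16357 (flp_g L699482) q18455, e3 q16358 L677921 q16358, e3 q16359 (flp_g L697301) q18279, e3 q16360 (flp_g L697341) q18282, e3 q16361 (flp_g L697365) q18284, e3 q16362 L677969 q15274, e3 q16363 L677980 q15275, e3 q16364 L677995 q15276, e3 q16365 L678003 q15277, e3 q16366 L678019 q15278, e3 q16367 L678029 q15279, e3 q16368 L678042 q15280, e3 q16369 L678055 q16369, e3 q16370 L678069 q16370, e3 q16371 L678080 q16371, e3 q16372 L678094 q14181, e3 q16373 L678102 q14182, e3 q16374 L678107 q14183, e3 q16375 (flp_g L699726) q18475, e3 q16376 (flp_g L699733) q18476, e3 q16377 (flp_g L699740) q18477, e3 q16378 L678148 q15784, e3 q16379 (flp_g L697479) q18292, e3 q16380 (flp_g L697504) q18294, e3 q16381 L678183 q14935, e3 q16382 L678201 q15295, e3 q16383 L678213 q15296, trivial⟩ (by decide +kernel)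

theorem ce_g_256 : ∀ r, r < 64 → sm gg (Qf (16384 + r)) = Qf (tab Gen.g (16384 + r)) :=
  edges_tab (sm gg) Qf (tab Gen.g) 16384 [(16384, 15297), (16385, 15299), (16386, 15300), (16387, 16387), (16388, 16388), (16389, 16389), (16390, 14199), (16391, 14200), (16392, 14201), (16393, 14214), (16394, 16394), (16395, 14210), (16396, 14244), (16397, 18491), (16398, 16398), (16399, 14237), (16400, 18490), (16401, 14377), (16402, 14221), (16403, 15356), (16404, 15363), (16405, 14387), (16406, 14223), (16407, 18497), (16408, 18498), (16409, 14391), (16410, 14226), (16411, 14394), (16412, 14228), (16413, 18500), (16414, 18501), (16415, 14486), (16416, 14280), (16417, 14400), (16418, 14232), (16419, 14233), (16420, 14256), (16421, 14255), (16422, 18509), (16423, 14406), (16424, 14273), (16425, 18494), (16426, 14239), (16427, 15086), (16428, 15008), (16429, 14415), (16430, 14262), (16431, 18492), (16432, 14248), (16433, 14249), (16434, 18503), (16435, 18502), (16436, 18515), (16437, 15078), (16438, 14996), (16439, 15007), (16440, 14434),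 (16441, 14435), (16442, 14257), (16443, 15338), (16444, 18511), (16445, 15344), (16446, 18510), (16447, 18523)]
    ⟨e3 q16384 L678223 q15297, e3 q16385 L678235 q15299, e3 q16386 L678247 q15300, e3 q16387 L678261 q16387, e3 q16388 L678268 q16388, e3 q16389 L678275 q16389, e3 q16390 L678286 q14199, e3 q16391 L678293 q14200, e3 q16392 L678301 q14201, e3 q16393 L678324 q14214, e3 q16394 L678338 q16394, e3 q16395 L678355 q14210, e3 q16396 L678372 q14244, e3 q16397 (flp_g L699928) q18491, e3 q16398 L678398 q16398, e3 q16399 L678413 q14237, e3 q16400 (flp_g L699912) q18490, e3 q16401 L678441 q14377, e3 q16402 L678456 q14221, e3 q16403 L678470 q15356, e3 q16404 L678482 q15363, e3 q16405 L678504 q14387, e3 q16406 L678517 q14223, e3 q16407 (flp_g L700030) q18497, e3 q16408 (flp_g L700051) q18498, e3 q16409 L678558 q14391, e3 q16410 L678574 q14226, e3 q16411 L678594 q14394, e3 q16412 L678608 q14228, e3 q16413 (flp_g L700081) q18500, e3 q16414 (flp_g L700101) q18501, e3 q16415 L678653 q14486, e3 q16416 L678666 q14280, e3 q16417 L678676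 q14400, e3 q16418 L678686 q14232, e3 q16419 L678702 q14233, e3 q16420 L678712 q14256, e3 q16421 L678728 q14255, e3 q16422 (flp_g L700231) q18509, e3 q16423 L678757 q14406, e3 q16424 L678775 q14273, e3 q16425 (flp_g L699978) q18494, e3 q16426 (flp_g L678790) q14239, e3 q16427 L678815 q15086, e3 q16428 L678831 q15008, e3 q16429 L678844 q14415, e3 q16430 L678860 q14262, e3 q16431 (flp_g L699945) q18492, e3 q16432 L678882 q14248, e3 q16433 L678896 q14249, e3 q16434 (flp_g L700132) q18503, e3 q16435 (flp_g L700113) q18502, e3 q16436 (flp_g L700321) q18515, e3 q16437 L678935 q15078, e3 q16438 L678947 q14996, e3 q16439 L678966 q15007, e3 q16440 L678978 q14434, e3 q16441 L678996 q14435, e3 q16442 L679006 q14257, e3 q16443 L679014 q15338, e3 q16444 (flp_g L700265) q18511, e3 q16445 (flp_g L679042) q15344, e3 q16446 (flp_g L700247) q18510, e3 q16447 (flp_g L700421) q18523, trivial⟩ (by decide +kernel)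

theorem ce_g_257 : ∀ r, r < 64 → sm gg (Qf (16448 + r)) = Qf (tab Gen.g (16448 + r)) :=
  edges_tab (sm gg) Qf (tab Gen.g) 16448 [(16448, 14445), (16449, 14263), (16450, 15360), (16451, 18514), (16452, 15815), (16453, 14460), (16454, 14274), (16455, 15355), (16456, 18513), (16457, 15331), (16458, 15357), (16459, 18506), (16460, 18507), (16461, 14283), (16462, 14284), (16463, 18518), (16464, 18534), (16465, 14501), (16466, 14288), (16467, 14289), (16468, 18540), (16469, 18535), (16470, 18541), (16471, 14290), (16472, 15324), (16473, 15325), (16474, 14511), (16475, 14512), (16476, 14295), (16477, 14296), (16478, 14297), (16479, 18543), (16480, 18542), (16481, 18549), (16482, 18551), (16483, 18552), (16484, 15311), (16485, 14301), (16486, 14302), (16487, 18558), (16488, 14308), (16489, 14309), (16490, 14310), (16491, 18560), (16492, 18561), (16493, 15068), (16494, 14999), (16495, 15002), (16496, 14547), (16497, 14548), (16498, 14316), (16499, 14317), (16500, 14318), (16501, 15314), (16502, 18550), (16503, 18566), (16504, 18112),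 (16505, 18567), (16506, 18568), (16507, 15339), (16508, 15340), (16509, 14566), (16510, 14328), (16511, 14329)]
    ⟨e3 q16448 L679073 q14445, e3 q16449 L679084 q14263, e3 q16450 L679103 q15360, e3 q16451 (flp_g L700308) q18514, e3 q16452 L679124 q15815, e3 q16453 L679143 q14460, e3 q16454 L679155 q14274, e3 q16455 L679170 q15355, e3 q16456 (flp_g L700291) q18513, e3 q16457 L679192 q15331, e3 q16458 L679202 q15357, e3 q16459 (flp_g L700178) q18506, e3 q16460 (flp_g L700199) q18507, e3 q16461 L679244 q14283, e3 q16462 L679259 q14284, e3 q16463 (flp_g L700366) q18518, e3 q16464 (flp_g L700561) q18534, e3 q16465 L679290 q14501, e3 q16466 L679298 q14288, e3 q16467 L679308 q14289, e3 q16468 (flp_g L700641) q18540, e3 q16469 (flp_g L700572) q18535, e3 q16470 (flp_g L700656) q18541, e3 q16471 (flp_g L679340) q14290, e3 q16472 L679363 q15324, e3 q16473 L679374 q15325, e3 q16474 L679382 q14511, e3 q16475 L679400 q14512, e3 q16476 L679408 q14295, e3 q16477 L679420 q14296, e3 q16478 L679432 q14297, e3 q16479 (flp_g L700683) q18543,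 e3 q16480 (flp_g L700663) q18542, e3 q16481 (flp_g L700757) q18549, e3 q16482 (flp_g L700789) q18551, e3 q16483 (flp_g L700797) q18552, e3 q16484 L679492 q15311, e3 q16485 L679503 q14301, e3 q16486 L679515 q14302, e3 q16487 (flp_g L700861) q18558, e3 q16488 L679535 q14308, e3 q16489 L679550 q14309, e3 q16490 L679560 q14310, e3 q16491 (flp_g L700883) q18560, e3 q16492 (flp_g L700900) q18561, e3 q16493 L679596 q15068, e3 q16494 L679608 q14999, e3 q16495 L679621 q15002, e3 q16496 L679631 q14547, e3 q16497 L679649 q14548, e3 q16498 L679657 q14316, e3 q16499 L679670 q14317, e3 q16500 L679681 q14318, e3 q16501 L679688 q15314, e3 q16502 (flp_g L700777) q18550, e3 q16503 (flp_g L700962) q18566, e3 q16504 (flp_g L694946) q18112, e3 q16505 (flp_g L700973) q18567, e3 q16506 (flp_g L700979) q18568, e3 q16507 L679749 q15339, e3 q16508 L679758 q15340, e3 q16509 L679770 q14566, e3 q16510 L679780 q14328, e3 q16511 L679793 q14329, trivial⟩ (by decide +kernel)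

theorem ce_g_258 : ∀ r, r < 64 → sm gg (Qf (16512 + r)) = Qf (tab Gen.g (16512 + r)) :=
  edges_tab (sm gg) Qf (tab Gen.g) 16512 [(16512, 14331), (16513, 14332), (16514, 15309), (16515, 15317), (16516, 15318), (16517, 18108), (16518, 18577), (16519, 18578), (16520, 14330), (16521, 18586), (16522, 18579), (16523, 14337), (16524, 14588), (16525, 14336), (16526, 15817), (16527, 18589), (16528, 14345), (16529, 15312), (16530, 15321), (16531, 18592), (16532, 15313), (16533, 14624), (16534, 14351), (16535, 18596), (16536, 14355), (16537, 18597), (16538, 15531), (16539, 14360), (16540, 14361), (16541, 15543), (16542, 18599), (16543, 15874), (16544, 14639), (16545, 16545), (16546, 14369), (16547, 14370), (16548, 18186), (16549, 18602), (16550, 14623), (16551, 16551), (16552, 16552), (16553, 16553), (16554, 15092), (16555, 15427), (16556, 14382), (16557, 14383), (16558, 18083), (16559, 18603), (16560, 15876), (16561, 14385), (16562, 18604), (16563, 14499), (16564, 15030), (16565, 18496), (16566, 14389), (16567, 14390), (16568, 18610),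 (16569, 15845), (16570, 14490), (16571, 15368), (16572, 15843), (16573, 14396), (16574, 14397), (16575, 18617)]
    ⟨e3 q16512 L679805 q14331, e3 q16513 L679811 q14332, e3 q16514 L679821 q15309, e3 q16515 L679837 q15317, e3 q16516 L679854 q15318, e3 q16517 (flp_g L694879) q18108, e3 q16518 (flp_g L701075) q18577, e3 q16519 (flp_g L701085) q18578, e3 q16520 (flp_g L679884) q14330, e3 q16521 (flp_g L701175) q18586, e3 q16522 (flp_g L701095) q18579, e3 q16523 L679913 q14337, e3 q16524 L679930 q14588, e3 q16525 L679939 q14336, e3 q16526 L679952 q15817, e3 q16527 (flp_g L701197) q18589, e3 q16528 L679969 q14345, e3 q16529 L679983 q15312, e3 q16530 L679996 q15321, e3 q16531 (flp_g L701223) q18592, e3 q16532 L680016 q15313, e3 q16533 L680034 q14624, e3 q16534 L680054 q14351, e3 q16535 (flp_g L701273) q18596, e3 q16536 L680085 q14355, e3 q16537 (flp_g L701290) q18597, e3 q16538 L680115 q15531, e3 q16539 L680128 q14360, e3 q16540 L680139 q14361, e3 q16541 L680154 q15543, e3 q16542 (flp_g L701322) q18599, e3 q16543 L680179 q15874,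 e3 q16544 L680191 q14639, e3 q16545 L680212 q16545, e3 q16546 L680227 q14369, e3 q16547 L680237 q14370, e3 q16548 (flp_g L696076) q18186, e3 q16549 (flp_g L701376) q18602, e3 q16550 L680283 q14623, e3 q16551 L680297 q16551, e3 q16552 L680313 q16552, e3 q16553 L680321 q16553, e3 q16554 L680334 q15092, e3 q16555 L680347 q15427, e3 q16556 L680360 q14382, e3 q16557 L680369 q14383, e3 q16558 (flp_g L694504) q18083, e3 q16559 (flp_g L701393) q18603, e3 q16560 L680409 q15876, e3 q16561 L680429 q14385, e3 q16562 (flp_g L701411) q18604, e3 q16563 L680461 q14499, e3 q16564 L680474 q15030, e3 q16565 (flp_g L700014) q18496, e3 q16566 L680493 q14389, e3 q16567 L680504 q14390, e3 q16568 (flp_g L701492) q18610, e3 q16569 L680527 q15845, e3 q16570 L680548 q14490, e3 q16571 L680561 q15368, e3 q16572 L680569 q15843, e3 q16573 L680577 q14396, e3 q16574 L680587 q14397, e3 q16575 (flp_g L701576) q18617, trivial⟩ (by decide +kernel)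

theorem ce_g_259 : ∀ r, r < 64 → sm gg (Qf (16576 + r)) = Qf (tab Gen.g (16576 + r)) :=
  edges_tab (sm gg) Qf (tab Gen.g) 16576 [(16576, 18618), (16577, 18619), (16578, 14398), (16579, 18623), (16580, 15373), (16581, 15374), (16582, 14440), (16583, 18508), (16584, 14403), (16585, 14404), (16586, 14405), (16587, 18146), (16588, 18630), (16589, 18632), (16590, 18633), (16591, 15511), (16592, 14409), (16593, 14410), (16594, 18638), (16595, 14412), (16596, 18640), (16597, 15382), (16598, 15383), (16599, 14419), (16600, 14420), (16601, 18161), (16602, 18643), (16603, 15146), (16604, 15837), (16605, 15390), (16606, 15391), (16607, 15496), (16608, 15846), (16609, 14427), (16610, 14428), (16611, 14429), (16612, 18653), (16613, 18615), (16614, 18654), (16615, 18661), (16616, 18656), (16617, 18657), (16618, 14431), (16619, 18664), (16620, 18665), (16621, 15400), (16622, 15401), (16623, 15402), (16624, 18522), (16625, 14439), (16626, 14441), (16627, 18677), (16628, 14443), (16629, 14444), (16630, 18215), (16631, 18608), (16632, 18675),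 (16633, 18683), (16634, 18629), (16635, 18676), (16636, 14442), (16637, 18687), (16638, 18679), (16639, 15835)]
    ⟨e3 q16576 (flp_g L701595) q18618, e3 q16577 (flp_g L701608) q18619, e3 q16578 (flp_g L680625) q14398, e3 q16579 (flp_g L701658) q18623, e3 q16580 L680661 q15373, e3 q16581 L680673 q15374, e3 q16582 L680681 q14440, e3 q16583 (flp_g L700215) q18508, e3 q16584 L680705 q14403, e3 q16585 L680719 q14404, e3 q16586 L680731 q14405, e3 q16587 (flp_g L695491) q18146, e3 q16588 (flp_g L701740) q18630, e3 q16589 (flp_g L701768) q18632, e3 q16590 (flp_g L701776) q18633, e3 q16591 L680784 q15511, e3 q16592 L680794 q14409, e3 q16593 L680804 q14410, e3 q16594 (flp_g L701834) q18638, e3 q16595 L680829 q14412, e3 q16596 (flp_g L701861) q18640, e3 q16597 L680856 q15382, e3 q16598 L680872 q15383, e3 q16599 L680882 q14419, e3 q16600 L680891 q14420, e3 q16601 (flp_g L695683) q18161, e3 q16602 (flp_g L701905) q18643, e3 q16603 L680932 q15146, e3 q16604 L680941 q15837, e3 q16605 L680949 q15390, e3 q16606 L680958 q15391, e3 q16607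 L680966 q15496, e3 q16608 L680978 q15846, e3 q16609 L680986 q14427, e3 q16610 L680993 q14428, e3 q16611 L681002 q14429, e3 q16612 (flp_g L702009) q18653, e3 q16613 (flp_g L701550) q18615, e3 q16614 (flp_g L702022) q18654, e3 q16615 L702073 q18661, e3 q16616 (flp_g L702034) q18656, e3 q16617 (flp_g L702038) q18657, e3 q16618 L681066 q14431, e3 q16619 (flp_g L702113) q18664, e3 q16620 (flp_g L702131) q18665, e3 q16621 L681092 q15400, e3 q16622 L681098 q15401, e3 q16623 L681108 q15402, e3 q16624 (flp_g L700415) q18522, e3 q16625 L681120 q14439, e3 q16626 L681128 q14441, e3 q16627 L702221 q18677, e3 q16628 L681140 q14443, e3 q16629 L681144 q14444, e3 q16630 (flp_g L696505) q18215, e3 q16631 (flp_g L701463) q18608, e3 q16632 (flp_g L702213) q18675, e3 q16633 L702273 q18683, e3 q16634 (flp_g L701726) q18629, e3 q16635 (flp_g L702219) q18676, e3 q16636 (flp_g L681188) q14442, e3 q16637 (flp_g L702323) q18687, e3 q16638 (flp_g L702243) q18679, e3 q16639 L681220 q15835, trivial⟩ (by decide +kernel)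

theorem ce_g_260 : ∀ r, r < 64 → sm gg (Qf (16640 + r)) = Qf (tab Gen.g (16640 + r)) :=
  edges_tab (sm gg) Qf (tab Gen.g) 16640 [(16640, 14446), (16641, 18690), (16642, 14451), (16643, 14450), (16644, 18693), (16645, 18692), (16646, 14453), (16647, 14456), (16648, 15532), (16649, 15533), (16650, 14595), (16651, 15416), (16652, 15417), (16653, 15418), (16654, 15419), (16655, 15426), (16656, 14465), (16657, 14466), (16658, 18223), (16659, 18703), (16660, 18704), (16661, 15534), (16662, 15535), (16663, 14528), (16664, 14596), (16665, 14597), (16666, 14611), (16667, 14612), (16668, 15424), (16669, 15091), (16670, 14481), (16671, 14482), (16672, 18710), (16673, 15544), (16674, 15372), (16675, 18505), (16676, 14488), (16677, 14489), (16678, 18714), (16679, 18612), (16680, 15406), (16681, 15415), (16682, 15494), (16683, 15844), (16684, 14495), (16685, 14496), (16686, 18722), (16687, 18723), (16688, 18724), (16689, 14641), (16690, 15180), (16691, 18605), (16692, 15428), (16693, 15429), (16694, 18538), (16695, 18539), (16696, 14504),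 (16697, 14505), (16698, 14506), (16699, 18737), (16700, 18738), (16701, 18739), (16702, 18741), (16703, 18742)]
    ⟨e3 q16640 (flp_g L681227) q14446, e3 q16641 (flp_g L702353) q18690, e3 q16642 L681252 q14451, e3 q16643 L681265 q14450, e3 q16644 (flp_g L702381) q18693, e3 q16645 (flp_g L702366) q18692, e3 q16646 L681293 q14453, e3 q16647 L681308 q14456, e3 q16648 L681322 q15532, e3 q16649 L681339 q15533, e3 q16650 L681347 q14595, e3 q16651 L681360 q15416, e3 q16652 L681373 q15417, e3 q16653 L681387 q15418, e3 q16654 L681395 q15419, e3 q16655 L681404 q15426, e3 q16656 L681417 q14465, e3 q16657 L681423 q14466, e3 q16658 (flp_g L696596) q18223, e3 q16659 (flp_g L702515) q18703, e3 q16660 (flp_g L702522) q18704, e3 q16661 L681471 q15534, e3 q16662 L681482 q15535, e3 q16663 L681495 q14528, e3 q16664 L681505 q14596, e3 q16665 L681522 q14597, e3 q16666 L681537 q14611, e3 q16667 L681548 q14612, e3 q16668 L681560 q15424, e3 q16669 L681571 q15091, e3 q16670 L681582 q14481, e3 q16671 L681588 q14482, e3 q16672 (flp_g L702598) q18710,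 e3 q16673 L681613 q15544, e3 q16674 L681634 q15372, e3 q16675 (flp_g L700164) q18505, e3 q16676 L681653 q14488, e3 q16677 L681668 q14489, e3 q16678 (flp_g L702656) q18714, e3 q16679 (flp_g L701515) q18612, e3 q16680 L681701 q15406, e3 q16681 L681712 q15415, e3 q16682 L681720 q15494, e3 q16683 L681735 q15844, e3 q16684 L681743 q14495, e3 q16685 L681754 q14496, e3 q16686 (flp_g L702741) q18722, e3 q16687 (flp_g L702758) q18723, e3 q16688 (flp_g L702764) q18724, e3 q16689 L681796 q14641, e3 q16690 L681808 q15180, e3 q16691 (flp_g L701426) q18605, e3 q16692 L681825 q15428, e3 q16693 L681836 q15429, e3 q16694 (flp_g L700609) q18538, e3 q16695 (flp_g L700627) q18539, e3 q16696 L681858 q14504, e3 q16697 L681867 q14505, e3 q16698 L681878 q14506, e3 q16699 (flp_g L702900) q18737, e3 q16700 (flp_g L702920) q18738, e3 q16701 (flp_g L702935) q18739, e3 q16702 (flp_g L702951) q18741, e3 q16703 (flp_g L702957) q18742, trivial⟩ (by decide +kernel)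

theorem ce_g_261 : ∀ r, r < 64 → sm gg (Qf (16704 + r)) = Qf (tab Gen.g (16704 + r)) :=
  edges_tab (sm gg) Qf (tab Gen.g) 16704 [(16704, 14508), (16705, 18747), (16706, 18748), (16707, 15438), (16708, 15439), (16709, 15440), (16710, 15409), (16711, 15444), (16712, 18548), (16713, 14516), (16714, 14517), (16715, 14518), (16716, 18151), (16717, 14519), (16718, 14520), (16719, 18762), (16720, 18735), (16721, 18763), (16722, 18765), (16723, 18766), (16724, 18768), (16725, 18775), (16726, 15455), (16727, 15834), (16728, 18162), (16729, 14526), (16730, 18779), (16731, 14529), (16732, 18219), (16733, 18090), (16734, 18707), (16735, 14582), (16736, 15450), (16737, 15451), (16738, 15452), (16739, 15387), (16740, 15421), (16741, 15425), (16742, 14538), (16743, 14539), (16744, 14540), (16745, 18790), (16746, 18791), (16747, 18792), (16748, 15264), (16749, 15239), (16750, 15263), (16751, 14544), (16752, 18801), (16753, 18802), (16754, 15458), (16755, 15459), (16756, 15460), (16757, 15394), (16758, 15432), (16759, 18565), (16760, 14552),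 (16761, 14553), (16762, 14554), (16763, 18820), (16764, 14556), (16765, 14557), (16766, 18816), (16767, 18818)]
    ⟨e3 q16704 L681937 q14508, e3 q16705 (flp_g L703010) q18747, e3 q16706 (flp_g L703022) q18748, e3 q16707 L681967 q15438, e3 q16708 L681975 q15439, e3 q16709 L681987 q15440, e3 q16710 L681993 q15409, e3 q16711 L682005 q15444, e3 q16712 (flp_g L700745) q18548, e3 q16713 L682023 q14516, e3 q16714 L682031 q14517, e3 q16715 L682042 q14518, e3 q16716 (flp_g L695560) q18151, e3 q16717 L682058 q14519, e3 q16718 L682064 q14520, e3 q16719 (flp_g L703158) q18762, e3 q16720 (flp_g L702880) q18735, e3 q16721 (flp_g L703172) q18763, e3 q16722 (flp_g L703190) q18765, e3 q16723 (flp_g L703198) q18766, e3 q16724 (flp_g L703214) q18768, e3 q16725 L703267 q18775, e3 q16726 L682141 q15455, e3 q16727 L682154 q15834, e3 q16728 (flp_g L695700) q18162, e3 q16729 L682175 q14526, e3 q16730 (flp_g L703322) q18779, e3 q16731 L682190 q14529, e3 q16732 (flp_g L696544) q18219, e3 q16733 (flp_g L694623) q18090, e3 q16734 (flp_g L702558) q18707,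 e3 q16735 L682231 q14582, e3 q16736 L682243 q15450, e3 q16737 L682255 q15451, e3 q16738 L682264 q15452, e3 q16739 L682270 q15387, e3 q16740 L682285 q15421, e3 q16741 L682295 q15425, e3 q16742 L682304 q14538, e3 q16743 L682317 q14539, e3 q16744 L682326 q14540, e3 q16745 (flp_g L703452) q18790, e3 q16746 (flp_g L703462) q18791, e3 q16747 (flp_g L703471) q18792, e3 q16748 L682363 q15264, e3 q16749 L682372 q15239, e3 q16750 L682384 q15263, e3 q16751 L682395 q14544, e3 q16752 (flp_g L703556) q18801, e3 q16753 (flp_g L703571) q18802, e3 q16754 L682418 q15458, e3 q16755 L682425 q15459, e3 q16756 L682435 q15460, e3 q16757 L682439 q15394, e3 q16758 L682452 q15432, e3 q16759 (flp_g L700951) q18565, e3 q16760 L682468 q14552, e3 q16761 L682486 q14553, e3 q16762 L682497 q14554, e3 q16763 L703736 q18820, e3 q16764 L682509 q14556, e3 q16765 L682513 q14557, e3 q16766 (flp_g L703702) q18816, e3 q16767 (flp_g L703726) q18818, trivial⟩ (by decide +kernel)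

theorem ce_g_262 : ∀ r, r < 64 → sm gg (Qf (16768 + r)) = Qf (tab Gen.g (16768 + r)) :=
  edges_tab (sm gg) Qf (tab Gen.g) 16768 [(16768, 18819), (16769, 14555), (16770, 18826), (16771, 18822), (16772, 14559), (16773, 14560), (16774, 18668), (16775, 18829), (16776, 18830), (16777, 15476), (16778, 15477), (16779, 15478), (16780, 18843), (16781, 15480), (16782, 15481), (16783, 15410), (16784, 15411), (16785, 18752), (16786, 15445), (16787, 18576), (16788, 14573), (16789, 14574), (16790, 14575), (16791, 18855), (16792, 14577), (16793, 14578), (16794, 14570), (16795, 18860), (16796, 14581), (16797, 18851), (16798, 18853), (16799, 18854), (16800, 14576), (16801, 18866), (16802, 18857), (16803, 18858), (16804, 18138), (16805, 14580), (16806, 18871), (16807, 18862), (16808, 18785), (16809, 15456), (16810, 18781), (16811, 14586), (16812, 18877), (16813, 14591), (16814, 15852), (16815, 14590), (16816, 18880), (16817, 18879), (16818, 18356), (16819, 18698), (16820, 18708), (16821, 18709), (16822, 15515), (16823, 15516), (16824, 15517),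 (16825, 15518), (16826, 15519), (16827, 15520), (16828, 15521), (16829, 15422), (16830, 14608), (16831, 14609)]
    ⟨e3 q16768 (flp_g L703732) q18819, e3 q16769 (flp_g L682548) q14555, e3 q16770 (flp_g L703792) q18826, e3 q16771 (flp_g L703752) q18822, e3 q16772 L682570 q14559, e3 q16773 L682580 q14560, e3 q16774 (flp_g L702157) q18668, e3 q16775 (flp_g L703809) q18829, e3 q16776 (flp_g L703819) q18830, e3 q16777 L682614 q15476, e3 q16778 L682624 q15477, e3 q16779 L682634 q15478, e3 q16780 L703935 q18843, e3 q16781 L682648 q15480, e3 q16782 L682654 q15481, e3 q16783 L682662 q15410, e3 q16784 L682675 q15411, e3 q16785 (flp_g L703060) q18752, e3 q16786 L682695 q15445, e3 q16787 (flp_g L701062) q18576, e3 q16788 L682709 q14573, e3 q16789 L682725 q14574, e3 q16790 L682740 q14575, e3 q16791 L704061 q18855, e3 q16792 L682756 q14577, e3 q16793 L682762 q14578, e3 q16794 (flp_g L682764) q14570, e3 q16795 (flp_g L704101) q18860, e3 q16796 L682780 q14581, e3 q16797 (flp_g L704019) q18851, e3 q16798 (flp_g L704047) q18853, e3 q16799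 (flp_g L704057) q18854, e3 q16800 (flp_g L682811) q14576, e3 q16801 (flp_g L704152) q18866, e3 q16802 (flp_g L704081) q18857, e3 q16803 (flp_g L704085) q18858, e3 q16804 (flp_g L695372) q18138, e3 q16805 L682851 q14580, e3 q16806 (flp_g L704183) q18871, e3 q16807 (flp_g L704109) q18862, e3 q16808 (flp_g L703390) q18785, e3 q16809 L682881 q15456, e3 q16810 (flp_g L703341) q18781, e3 q16811 L682901 q14586, e3 q16812 (flp_g L704234) q18877, e3 q16813 L682913 q14591, e3 q16814 L682921 q15852, e3 q16815 L682932 q14590, e3 q16816 (flp_g L704252) q18880, e3 q16817 (flp_g L704246) q18879, e3 q16818 (flp_g L698354) q18356, e3 q16819 (flp_g L702449) q18698, e3 q16820 (flp_g L702572) q18708, e3 q16821 (flp_g L702582) q18709, e3 q16822 L682992 q15515, e3 q16823 L683003 q15516, e3 q16824 L683017 q15517, e3 q16825 L683024 q15518, e3 q16826 L683035 q15519, e3 q16827 L683043 q15520, e3 q16828 L683053 q15521, e3 q16829 L683063 q15422, e3 q16830 L683075 q14608, e3 q16831 L683086 q14609, trivial⟩ (by decide +kernel)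

theorem ce_g_263 : ∀ r, r < 64 → sm gg (Qf (16832 + r)) = Qf (tab Gen.g (16832 + r)) :=
  edges_tab (sm gg) Qf (tab Gen.g) 16832 [(16832, 14610), (16833, 18898), (16834, 18899), (16835, 18900), (16836, 18482), (16837, 15536), (16838, 15537), (16839, 15539), (16840, 15540), (16841, 15542), (16842, 15293), (16843, 14621), (16844, 14627), (16845, 14628), (16846, 16846), (16847, 14631), (16848, 18904), (16849, 14636), (16850, 14635), (16851, 18906), (16852, 14638), (16853, 18907), (16854, 18727), (16855, 15173), (16856, 15182), (16857, 16857), (16858, 16858), (16859, 14646), (16860, 14647), (16861, 18915), (16862, 18916), (16863, 14650), (16864, 18918), (16865, 18919), (16866, 15555), (16867, 15556), (16868, 16868), (16869, 16869), (16870, 18315), (16871, 14657), (16872, 14658), (16873, 18928), (16874, 16874), (16875, 16875), (16876, 18320), (16877, 14664), (16878, 18932), (16879, 14666), (16880, 18299), (16881, 15560), (16882, 15561), (16883, 14670), (16884, 18938), (16885, 18939), (16886, 15565), (16887, 15566), (16888, 16888),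 (16889, 16889), (16890, 18309), (16891, 14677), (16892, 14678), (16893, 18949), (16894, 14680), (16895, 14681)]
    ⟨e3 q16832 L683093 q14610, e3 q16833 (flp_g L704445) q18898, e3 q16834 (flp_g L704454) q18899, e3 q16835 (flp_g L704463) q18900, e3 q16836 (flp_g L699802) q18482, e3 q16837 L683133 q15536, e3 q16838 L683150 q15537, e3 q16839 L683163 q15539, e3 q16840 L683173 q15540, e3 q16841 L683188 q15542, e3 q16842 L683199 q15293, e3 q16843 L683212 q14621, e3 q16844 L683231 q14627, e3 q16845 L683241 q14628, e3 q16846 L683252 q16846, e3 q16847 (flp_g L683257) q14631, e3 q16848 (flp_g L704522) q18904, e3 q16849 L683291 q14636, e3 q16850 L683309 q14635, e3 q16851 (flp_g L704547) q18906, e3 q16852 L683337 q14638, e3 q16853 (flp_g L704561) q18907, e3 q16854 (flp_g L702797) q18727, e3 q16855 L683369 q15173, e3 q16856 L683382 q15182, e3 q16857 L683392 q16857, e3 q16858 L683406 q16858, e3 q16859 L683417 q14646, e3 q16860 L683432 q14647, e3 q16861 (flp_g L704665) q18915, e3 q16862 (flp_g L704673) q18916, e3 q16863 L683468 q14650,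 e3 q16864 (flp_g L704699) q18918, e3 q16865 (flp_g L704714) q18919, e3 q16866 L683502 q15555, e3 q16867 L683516 q15556, e3 q16868 L683524 q16868, e3 q16869 L683539 q16869, e3 q16870 (flp_g L697810) q18315, e3 q16871 L683562 q14657, e3 q16872 L683570 q14658, e3 q16873 (flp_g L704820) q18928, e3 q16874 L683595 q16874, e3 q16875 L683602 q16875, e3 q16876 (flp_g L697880) q18320, e3 q16877 L683620 q14664, e3 q16878 (flp_g L704858) q18932, e3 q16879 L683639 q14666, e3 q16880 (flp_g L697590) q18299, e3 q16881 L683661 q15560, e3 q16882 L683672 q15561, e3 q16883 L683683 q14670, e3 q16884 (flp_g L704914) q18938, e3 q16885 (flp_g L704929) q18939, e3 q16886 L683717 q15565, e3 q16887 L683731 q15566, e3 q16888 L683739 q16888, e3 q16889 L683753 q16889, e3 q16890 (flp_g L697729) q18309, e3 q16891 L683774 q14677, e3 q16892 L683782 q14678, e3 q16893 (flp_g L705044) q18949, e3 q16894 L683802 q14680, e3 q16895 L683811 q14681, trivial⟩ (by decide +kernel)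

theorem ce_g_264 : ∀ r, r < 64 → sm gg (Qf (16896 + r)) = Qf (tab Gen.g (16896 + r)) :=
  edges_tab (sm gg) Qf (tab Gen.g) 16896 [(16896, 18951), (16897, 18952), (16898, 18953), (16899, 15578), (16900, 15579), (16901, 15580), (16902, 18965), (16903, 15582), (16904, 15583), (16905, 16905), (16906, 18935), (16907, 16907), (16908, 16908), (16909, 14694), (16910, 18300), (16911, 14695), (16912, 14696), (16913, 14691), (16914, 18975), (16915, 14699), (16916, 18971), (16917, 18973), (16918, 16918), (16919, 14698), (16920, 18979), (16921, 18977), (16922, 14700), (16923, 18982), (16924, 16924), (16925, 18887), (16926, 14704), (16927, 18986), (16928, 14709), (16929, 16929), (16930, 14708), (16931, 18990), (16932, 18988), (16933, 16933), (16934, 14714), (16935, 14716), (16936, 18991), (16937, 15619), (16938, 15610), (16939, 15611), (16940, 15612), (16941, 15605), (16942, 15569), (16943, 15624), (16944, 16944), (16945, 16945), (16946, 14736), (16947, 18998), (16948, 14738), (16949, 18999), (16950, 19000), (16951, 15592), (16952, 15581),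 (16953, 15595), (16954, 16954), (16955, 16955), (16956, 14745), (16957, 14746), (16958, 19010), (16959, 15604)]
    ⟨e3 q16896 (flp_g L705065) q18951, e3 q16897 (flp_g L705077) q18952, e3 q16898 (flp_g L705086) q18953, e3 q16899 L683849 q15578, e3 q16900 L683863 q15579, e3 q16901 L683877 q15580, e3 q16902 L705228 q18965, e3 q16903 L683887 q15582, e3 q16904 L683893 q15583, e3 q16905 L683909 q16905, e3 q16906 (flp_g L704888) q18935, e3 q16907 L683928 q16907, e3 q16908 L683933 q16908, e3 q16909 L683948 q14694, e3 q16910 (flp_g L697602) q18300, e3 q16911 L683978 q14695, e3 q16912 L683988 q14696, e3 q16913 (flp_g L683994) q14691, e3 q16914 (flp_g L705350) q18975, e3 q16915 L684012 q14699, e3 q16916 (flp_g L705292) q18971, e3 q16917 (flp_g L705324) q18973, e3 q16918 L684054 q16918, e3 q16919 L684063 q14698, e3 q16920 (flp_g L705383) q18979, e3 q16921 (flp_g L705358) q18977, e3 q16922 (flp_g L684081) q14700, e3 q16923 (flp_g L705414) q18982, e3 q16924 L684105 q16924, e3 q16925 (flp_g L704326) q18887, e3 q16926 L684128 q14704, e3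 q16927 (flp_g L705455) q18986, e3 q16928 L684137 q14709, e3 q16929 L684152 q16929, e3 q16930 L684161 q14708, e3 q16931 (flp_g L705492) q18990, e3 q16932 (flp_g L705467) q18988, e3 q16933 L684188 q16933, e3 q16934 L684199 q14714, e3 q16935 L684218 q14716, e3 q16936 (flp_g L705506) q18991, e3 q16937 L684252 q15619, e3 q16938 L684270 q15610, e3 q16939 L684284 q15611, e3 q16940 L684302 q15612, e3 q16941 L684318 q15605, e3 q16942 L684328 q15569, e3 q16943 L684340 q15624, e3 q16944 L684348 q16944, e3 q16945 L684362 q16945, e3 q16946 L684373 q14736, e3 q16947 (flp_g L705589) q18998, e3 q16948 L684392 q14738, e3 q16949 (flp_g L705600) q18999, e3 q16950 (flp_g L705612) q19000, e3 q16951 L684417 q15592, e3 q16952 L684424 q15581, e3 q16953 L684434 q15595, e3 q16954 L684438 q16954, e3 q16955 L684452 q16955, e3 q16956 L684460 q14745, e3 q16957 L684466 q14746, e3 q16958 (flp_g L705695) q19010, e3 q16959 L684486 q15604, trivial⟩ (by decide +kernel)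

theorem ce_g_265 : ∀ r, r < 64 → sm gg (Qf (16960 + r)) = Qf (tab Gen.g (16960 + r)) :=
  edges_tab (sm gg) Qf (tab Gen.g) 16960 [(16960, 15626), (16961, 15627), (16962, 14750), (16963, 19017), (16964, 19018), (16965, 15630), (16966, 15631), (16967, 16967), (16968, 16968), (16969, 18240), (16970, 14757), (16971, 14758), (16972, 19028), (16973, 14760), (16974, 14761), (16975, 19030), (16976, 19031), (16977, 19032), (16978, 15639), (16979, 15640), (16980, 15641), (16981, 18253), (16982, 15642), (16983, 15643), (16984, 16984), (16985, 16985), (16986, 19049), (16987, 16987), (16988, 16988), (16989, 14774), (16990, 18262), (16991, 14775), (16992, 14776), (16993, 18265), (16994, 14777), (16995, 19052), (16996, 19054), (16997, 19056), (16998, 14778), (16999, 19059), (17000, 17000), (17001, 18274), (17002, 14783), (17003, 19063), (17004, 14786), (17005, 14787), (17006, 14788), (17007, 19064), (17008, 19065), (17009, 19066), (17010, 15658), (17011, 15659), (17012, 15660), (17013, 15661), (17014, 15662), (17015, 14796), (17016, 14798),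 (17017, 19075), (17018, 19076), (17019, 15667), (17020, 15668), (17021, 15669), (17022, 14802), (17023, 14803)]
    ⟨e3 q16960 L684495 q15626, e3 q16961 L684506 q15627, e3 q16962 L684521 q14750, e3 q16963 (flp_g L705770) q19017, e3 q16964 (flp_g L705789) q19018, e3 q16965 L684555 q15630, e3 q16966 L684569 q15631, e3 q16967 L684577 q16967, e3 q16968 L684591 q16968, e3 q16969 (flp_g L696813) q18240, e3 q16970 L684612 q14757, e3 q16971 L684620 q14758, e3 q16972 (flp_g L705904) q19028, e3 q16973 L684642 q14760, e3 q16974 L684653 q14761, e3 q16975 (flp_g L705923) q19030, e3 q16976 (flp_g L705937) q19031, e3 q16977 (flp_g L705948) q19032, e3 q16978 L684693 q15639, e3 q16979 L684705 q15640, e3 q16980 L684719 q15641, e3 q16981 (flp_g L696978) q18253, e3 q16982 L684733 q15642, e3 q16983 L684741 q15643, e3 q16984 L684751 q16984, e3 q16985 L684767 q16985, e3 q16986 L706124 q19049, e3 q16987 L684786 q16987, e3 q16988 L684793 q16988, e3 q16989 L684802 q14774, e3 q16990 (flp_g L697090) q18262, e3 q16991 L684824 q14775, e3 q16992 L684832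 q14776, e3 q16993 (flp_g L697123) q18265, e3 q16994 L684852 q14777, e3 q16995 (flp_g L706154) q19052, e3 q16996 (flp_g L706179) q19054, e3 q16997 (flp_g L706193) q19056, e3 q16998 (flp_g L684883) q14778, e3 q16999 (flp_g L706220) q19059, e3 q17000 L684906 q17000, e3 q17001 (flp_g L697235) q18274, e3 q17002 L684922 q14783, e3 q17003 (flp_g L706251) q19063, e3 q17004 L684937 q14786, e3 q17005 L684950 q14787, e3 q17006 L684966 q14788, e3 q17007 (flp_g L706263) q19064, e3 q17008 (flp_g L706280) q19065, e3 q17009 (flp_g L706295) q19066, e3 q17010 L685016 q15658, e3 q17011 L685029 q15659, e3 q17012 L685043 q15660, e3 q17013 L685054 q15661, e3 q17014 L685065 q15662, e3 q17015 L685077 q14796, e3 q17016 L685095 q14798, e3 q17017 (flp_g L706411) q19075, e3 q17018 (flp_g L706429) q19076, e3 q17019 L685116 q15667, e3 q17020 L685122 q15668, e3 q17021 L685131 q15669, e3 q17022 L685136 q14802, e3 q17023 L685147 q14803, trivial⟩ (by decide +kernel)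

theorem ce_g_266 : ∀ r, r < 64 → sm gg (Qf (17024 + r)) = Qf (tab Gen.g (17024 + r)) :=
  edges_tab (sm gg) Qf (tab Gen.g) 17024 [(17024, 19086), (17025, 19087), (17026, 19088), (17027, 15675), (17028, 15676), (17029, 15677), (17030, 19101), (17031, 15679), (17032, 15680), (17033, 17033), (17034, 17034), (17035, 17035), (17036, 19108), (17037, 17037), (17038, 17038), (17039, 14816), (17040, 19112), (17041, 14818), (17042, 14819), (17043, 14813), (17044, 19116), (17045, 14822), (17046, 19111), (17047, 14817), (17048, 19120), (17049, 19114), (17050, 17050), (17051, 14821), (17052, 19124), (17053, 19118), (17054, 14825), (17055, 14826), (17056, 14827), (17057, 19127), (17058, 19128), (17059, 19129), (17060, 19140), (17061, 19131), (17062, 19132), (17063, 15713), (17064, 15714), (17065, 15715), (17066, 15716), (17067, 19152), (17068, 15718), (17069, 15719), (17070, 14831), (17071, 19157), (17072, 15722), (17073, 17073), (17074, 17074), (17075, 17075), (17076, 19164), (17077, 17077), (17078, 17078), (17079, 14837), (17080, 19169),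 (17081, 17081), (17082, 14849), (17083, 19173), (17084, 14851), (17085, 14852), (17086, 14843), (17087, 19178)]
    ⟨e3 q17024 (flp_g L706500) q19086, e3 q17025 (flp_g L706510) q19087, e3 q17026 (flp_g L706521) q19088, e3 q17027 L685183 q15675, e3 q17028 L685193 q15676, e3 q17029 L685207 q15677, e3 q17030 L706645 q19101, e3 q17031 L685219 q15679, e3 q17032 L685225 q15680, e3 q17033 L685233 q17033, e3 q17034 L685246 q17034, e3 q17035 L685261 q17035, e3 q17036 L706716 q19108, e3 q17037 L685276 q17037, e3 q17038 L685281 q17038, e3 q17039 L685292 q14816, e3 q17040 L706748 q19112, e3 q17041 L685314 q14818, e3 q17042 L685322 q14819, e3 q17043 (flp_g L685328) q14813, e3 q17044 (flp_g L706796) q19116, e3 q17045 L685344 q14822, e3 q17046 (flp_g L706742) q19111, e3 q17047 (flp_g L685359) q14817, e3 q17048 (flp_g L706838) q19120, e3 q17049 (flp_g L706780) q19114, e3 q17050 L685406 q17050, e3 q17051 L685412 q14821, e3 q17052 (flp_g L706880) q19124, e3 q17053 (flp_g L706806) q19118, e3 q17054 L685432 q14825, e3 q17055 L685440 q14826,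 e3 q17056 L685449 q14827, e3 q17057 (flp_g L706907) q19127, e3 q17058 (flp_g L706917) q19128, e3 q17059 (flp_g L706928) q19129, e3 q17060 L707012 q19140, e3 q17061 (flp_g L706941) q19131, e3 q17062 (flp_g L706948) q19132, e3 q17063 L685501 q15713, e3 q17064 L685507 q15714, e3 q17065 L685517 q15715, e3 q17066 L685521 q15716, e3 q17067 L707095 q19152, e3 q17068 L685537 q15718, e3 q17069 L685545 q15719, e3 q17070 (flp_g L685547) q14831, e3 q17071 (flp_g L707145) q19157, e3 q17072 L685563 q15722, e3 q17073 L685569 q17073, e3 q17074 L685582 q17074, e3 q17075 L685592 q17075, e3 q17076 L707196 q19164, e3 q17077 L685609 q17077, e3 q17078 L685616 q17078, e3 q17079 (flp_g L685619) q14837, e3 q17080 (flp_g L707245) q19169, e3 q17081 L685636 q17081, e3 q17082 L685645 q14849, e3 q17083 L707266 q19173, e3 q17084 L685659 q14851, e3 q17085 L685665 q14852, e3 q17086 (flp_g L685667) q14843, e3 q17087 (flp_g L707318) q19178, trivial⟩ (by decide +kernel)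

theorem ce_g_267 : ∀ r, r < 64 → sm gg (Qf (17088 + r)) = Qf (tab Gen.g (17088 + r)) :=
  edges_tab (sm gg) Qf (tab Gen.g) 17088 [(17088, 14855), (17089, 14856), (17090, 19168), (17091, 14847), (17092, 19183), (17093, 14860), (17094, 19172), (17095, 14850), (17096, 19187), (17097, 19175), (17098, 19176), (17099, 17099), (17100, 14854), (17101, 19191), (17102, 19180), (17103, 19181), (17104, 17104), (17105, 14859), (17106, 19196), (17107, 19185), (17108, 14864), (17109, 14862), (17110, 19200), (17111, 17111), (17112, 19199), (17113, 14866), (17114, 19204), (17115, 14871), (17116, 17116), (17117, 14870), (17118, 19209), (17119, 19207), (17120, 14876), (17121, 14877), (17122, 14878), (17123, 14879), (17124, 14880), (17125, 15794), (17126, 14962), (17127, 19211), (17128, 19212), (17129, 19213), (17130, 19214), (17131, 14903), (17132, 14941), (17133, 15765), (17134, 15766), (17135, 15764), (17136, 15763), (17137, 15767), (17138, 15768), (17139, 15761), (17140, 15769), (17141, 15291), (17142, 17142), (17143, 17143), (17144, 17144),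 (17145, 14894), (17146, 14895), (17147, 14896), (17148, 15796), (17149, 14942), (17150, 15657), (17151, 14927)]
    ⟨e3 q17088 L685687 q14855, e3 q17089 L685693 q14856, e3 q17090 (flp_g L707238) q19168, e3 q17091 L685713 q14847, e3 q17092 (flp_g L707355) q19183, e3 q17093 L685721 q14860, e3 q17094 (flp_g L707264) q19172, e3 q17095 (flp_g L685732) q14850, e3 q17096 (flp_g L707394) q19187, e3 q17097 (flp_g L707292) q19175, e3 q17098 (flp_g L707298) q19176, e3 q17099 L685784 q17099, e3 q17100 L685792 q14854, e3 q17101 (flp_g L707433) q19191, e3 q17102 (flp_g L707328) q19180, e3 q17103 (flp_g L707337) q19181, e3 q17104 L685824 q17104, e3 q17105 L685831 q14859, e3 q17106 (flp_g L707472) q19196, e3 q17107 (flp_g L707365) q19185, e3 q17108 L685850 q14864, e3 q17109 L685856 q14862, e3 q17110 (flp_g L707506) q19200, e3 q17111 L685868 q17111, e3 q17112 (flp_g L707498) q19199, e3 q17113 L685884 q14866, e3 q17114 (flp_g L707539) q19204, e3 q17115 L685894 q14871, e3 q17116 L685903 q17116, e3 q17117 L685909 q14870, e3 q17118 (flp_g L707569)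 q19209, e3 q17119 (flp_g L707554) q19207, e3 q17120 L685933 q14876, e3 q17121 L685951 q14877, e3 q17122 L685964 q14878, e3 q17123 L685976 q14879, e3 q17124 L685991 q14880, e3 q17125 L686005 q15794, e3 q17126 L686023 q14962, e3 q17127 (flp_g L707599) q19211, e3 q17128 (flp_g L707611) q19212, e3 q17129 (flp_g L707627) q19213, e3 q17130 (flp_g L707644) q19214, e3 q17131 L686075 q14903, e3 q17132 L686087 q14941, e3 q17133 L686102 q15765, e3 q17134 L686109 q15766, e3 q17135 L686120 q15764, e3 q17136 L686134 q15763, e3 q17137 L686141 q15767, e3 q17138 L686150 q15768, e3 q17139 L686163 q15761, e3 q17140 L686173 q15769, e3 q17141 L686186 q15291, e3 q17142 L686201 q17142, e3 q17143 L686211 q17143, e3 q17144 L686220 q17144, e3 q17145 L686236 q14894, e3 q17146 L686244 q14895, e3 q17147 L686254 q14896, e3 q17148 L686268 q15796, e3 q17149 L686282 q14942, e3 q17150 L686297 q15657, e3 q17151 L686312 q14927, trivial⟩ (by decide +kernel)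

theorem ce_g_268 : ∀ r, r < 64 → sm gg (Qf (17152 + r)) = Qf (tab Gen.g (17152 + r)) :=
  edges_tab (sm gg) Qf (tab Gen.g) 17152 [(17152, 15513), (17153, 17153), (17154, 17154), (17155, 14919), (17156, 19233), (17157, 15777), (17158, 14923), (17159, 15616), (17160, 15780), (17161, 15781), (17162, 14930), (17163, 14953), (17164, 15782), (17165, 14936), (17166, 18463), (17167, 18483), (17168, 15786), (17169, 15787), (17170, 15788), (17171, 15789), (17172, 15790), (17173, 19069), (17174, 19220), (17175, 15797), (17176, 15798), (17177, 15799), (17178, 15800), (17179, 15801), (17180, 17180), (17181, 14951), (17182, 15805), (17183, 15654), (17184, 19216), (17185, 15655), (17186, 15762), (17187, 15806), (17188, 15793), (17189, 15707), (17190, 15807), (17191, 15269), (17192, 17192), (17193, 17193), (17194, 17194), (17195, 18233), (17196, 14987), (17197, 18126), (17198, 15315), (17199, 15323), (17200, 19263), (17201, 15352), (17202, 18113), (17203, 14998), (17204, 15001), (17205, 15334), (17206, 18521), (17207, 18516), (17208, 15335),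 (17209, 19267), (17210, 18564), (17211, 15336), (17212, 18133), (17213, 18134), (17214, 15013), (17215, 18192)]
    ⟨e3 q17152 L686324 q15513, e3 q17153 L686336 q17153, e3 q17154 L686345 q17154, e3 q17155 L686359 q14919, e3 q17156 (flp_g L707864) q19233, e3 q17157 L686387 q15777, e3 q17158 L686397 q14923, e3 q17159 L686414 q15616, e3 q17160 L686427 q15780, e3 q17161 L686445 q15781, e3 q17162 L686457 q14930, e3 q17163 L686474 q14953, e3 q17164 L686493 q15782, e3 q17165 L686506 q14936, e3 q17166 (flp_g L699578) q18463, e3 q17167 (flp_g L699824) q18483, e3 q17168 L686535 q15786, e3 q17169 L686545 q15787, e3 q17170 L686557 q15788, e3 q17171 L686570 q15789, e3 q17172 L686578 q15790, e3 q17173 (flp_g L706334) q19069, e3 q17174 (flp_g L707722) q19220, e3 q17175 L686613 q15797, e3 q17176 L686630 q15798, e3 q17177 L686645 q15799, e3 q17178 L686655 q15800, e3 q17179 L686669 q15801, e3 q17180 L686684 q17180, e3 q17181 L686698 q14951, e3 q17182 L686713 q15805, e3 q17183 L686727 q15654, e3 q17184 (flp_g L707673) q19216, e3 q17185 L686755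 q15655, e3 q17186 L686763 q15762, e3 q17187 L686771 q15806, e3 q17188 L686783 q15793, e3 q17189 L686792 q15707, e3 q17190 L686800 q15807, e3 q17191 L686811 q15269, e3 q17192 L686825 q17192, e3 q17193 L686832 q17193, e3 q17194 L686843 q17194, e3 q17195 (flp_g L696721) q18233, e3 q17196 L686868 q14987, e3 q17197 (flp_g L695179) q18126, e3 q17198 L686894 q15315, e3 q17199 L686908 q15323, e3 q17200 (flp_g L708248) q19263, e3 q17201 L686926 q15352, e3 q17202 (flp_g L694967) q18113, e3 q17203 L686950 q14998, e3 q17204 L686960 q15001, e3 q17205 L686972 q15334, e3 q17206 (flp_g L700397) q18521, e3 q17207 (flp_g L700332) q18516, e3 q17208 L687011 q15335, e3 q17209 (flp_g L708306) q19267, e3 q17210 (flp_g L700935) q18564, e3 q17211 L687037 q15336, e3 q17212 (flp_g L695289) q18133, e3 q17213 (flp_g L695309) q18134, e3 q17214 L687081 q15013, e3 q17215 (flp_g L696175) q18192, trivial⟩ (by decide +kernel)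

theorem ce_g_269 : ∀ r, r < 64 → sm gg (Qf (17216 + r)) = Qf (tab Gen.g (17216 + r)) :=
  edges_tab (sm gg) Qf (tab Gen.g) 17216 [(17216, 19275), (17217, 18144), (17218, 18145), (17219, 15018), (17220, 18206), (17221, 18147), (17222, 18172), (17223, 18173), (17224, 15023), (17225, 19282), (17226, 18178), (17227, 18179), (17228, 18606), (17229, 15028), (17230, 15029), (17231, 19287), (17232, 18607), (17233, 15034), (17234, 15842), (17235, 18190), (17236, 18191), (17237, 15043), (17238, 15041), (17239, 19290), (17240, 15484), (17241, 15045), (17242, 15046), (17243, 18141), (17244, 19292), (17245, 19293), (17246, 15398), (17247, 18201), (17248, 18202), (17249, 19304), (17250, 18204), (17251, 18205), (17252, 15464), (17253, 15467), (17254, 15470), (17255, 15058), (17256, 15059), (17257, 19312), (17258, 15061), (17259, 15062), (17260, 15055), (17261, 19316), (17262, 15065), (17263, 19310), (17264, 19311), (17265, 15060), (17266, 19319), (17267, 19314), (17268, 19315), (17269, 18137), (17270, 15064), (17271, 19323), (17272, 15067),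 (17273, 15847), (17274, 18142), (17275, 15399), (17276, 15107), (17277, 15108), (17278, 18169), (17279, 15082)]
    ⟨e3 q17216 (flp_g L708406) q19275, e3 q17217 (flp_g L695467) q18144, e3 q17218 (flp_g L695481) q18145, e3 q17219 L687137 q15018, e3 q17220 (flp_g L696363) q18206, e3 q17221 (flp_g L695509) q18147, e3 q17222 (flp_g L695845) q18172, e3 q17223 (flp_g L695864) q18173, e3 q17224 L687196 q15023, e3 q17225 (flp_g L708496) q19282, e3 q17226 (flp_g L695941) q18178, e3 q17227 (flp_g L695961) q18179, e3 q17228 (flp_g L701438) q18606, e3 q17229 L687246 q15028, e3 q17230 L687254 q15029, e3 q17231 (flp_g L708554) q19287, e3 q17232 (flp_g L701453) q18607, e3 q17233 L687294 q15034, e3 q17234 L687311 q15842, e3 q17235 (flp_g L696143) q18190, e3 q17236 (flp_g L696161) q18191, e3 q17237 L687345 q15043, e3 q17238 (flp_g L687351) q15041, e3 q17239 (flp_g L708592) q19290, e3 q17240 L687377 q15484, e3 q17241 L687389 q15045, e3 q17242 L687403 q15046, e3 q17243 (flp_g L695419) q18141, e3 q17244 (flp_g L708610) q19292, e3 q17245 (flp_g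 L708624) q19293, e3 q17246 L687445 q15398, e3 q17247 (flp_g L696295) q18201, e3 q17248 (flp_g L696317) q18202, e3 q17249 L708724 q19304, e3 q17250 (flp_g L696343) q18204, e3 q17251 (flp_g L696351) q18205, e3 q17252 L687493 q15464, e3 q17253 L687509 q15467, e3 q17254 L687519 q15470, e3 q17255 L687531 q15058, e3 q17256 L687546 q15059, e3 q17257 L708810 q19312, e3 q17258 L687564 q15061, e3 q17259 L687572 q15062, e3 q17260 (flp_g L687574) q15055, e3 q17261 (flp_g L708856) q19316, e3 q17262 L687600 q15065, e3 q17263 (flp_g L708798) q19310, e3 q17264 (flp_g L708808) q19311, e3 q17265 (flp_g L687621) q15060, e3 q17266 (flp_g L708881) q19319, e3 q17267 (flp_g L708834) q19314, e3 q17268 (flp_g L708842) q19315, e3 q17269 (flp_g L695350) q18137, e3 q17270 L687659 q15064, e3 q17271 (flp_g L708906) q19323, e3 q17272 L687676 q15067, e3 q17273 L687685 q15847, e3 q17274 (flp_g L695439) q18142, e3 q17275 L687709 q15399, e3 q17276 L687720 q15107, e3 q17277 L687735 q15108, e3 q17278 (flp_g L695797) q18169, e3 q17279 L687757 q15082, trivial⟩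 (by decide +kernel)

theorem ce_g_270 : ∀ r, r < 64 → sm gg (Qf (17280 + r)) = Qf (tab Gen.g (17280 + r)) :=
  edges_tab (sm gg) Qf (tab Gen.g) 17280 [(17280, 15083), (17281, 15381), (17282, 18171), (17283, 15090), (17284, 15096), (17285, 15097), (17286, 15098), (17287, 19325), (17288, 19326), (17289, 15868), (17290, 18228), (17291, 18229), (17292, 18323), (17293, 18324), (17294, 18234), (17295, 18235), (17296, 17296), (17297, 15106), (17298, 19300), (17299, 19324), (17300, 18250), (17301, 18251), (17302, 18252), (17303, 18254), (17304, 18255), (17305, 17305), (17306, 17306), (17307, 17307), (17308, 15117), (17309, 15118), (17310, 15119), (17311, 19346), (17312, 19347), (17313, 19348), (17314, 15783), (17315, 18280), (17316, 18283), (17317, 17317), (17318, 17318), (17319, 17319), (17320, 15129), (17321, 15130), (17322, 15131), (17323, 19357), (17324, 19358), (17325, 19359), (17326, 15785), (17327, 18293), (17328, 18295), (17329, 17329), (17330, 17330), (17331, 15141), (17332, 15142), (17333, 18301), (17334, 18645), (17335,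 18646), (17336, 18310), (17337, 18311), (17338, 17338), (17339, 15152), (17340, 18327), (17341, 18328), (17342, 18329), (17343, 17343)]
    ⟨e3 q17280 L687763 q15083, e3 q17281 L687778 q15381, e3 q17282 (flp_g L695829) q18171, e3 q17283 L687800 q15090, e3 q17284 L687814 q15096, e3 q17285 L687824 q15097, e3 q17286 L687830 q15098, e3 q17287 (flp_g L708930) q19325, e3 q17288 (flp_g L708937) q19326, e3 q17289 L687863 q15868, e3 q17290 (flp_g L696658) q18228, e3 q17291 (flp_g L696672) q18229, e3 q17292 (flp_g L697920) q18323, e3 q17293 (flp_g L697936) q18324, e3 q17294 (flp_g L696734) q18234, e3 q17295 (flp_g L696748) q18235, e3 q17296 L687954 q17296, e3 q17297 L687965 q15106, e3 q17298 (flp_g L708696) q19300, e3 q17299 (flp_g L708919) q19324, e3 q17300 (flp_g L696940) q18250, e3 q17301 (flp_g L696956) q18251, e3 q17302 (flp_g L696968) q18252, e3 q17303 (flp_g L696988) q18254, e3 q17304 (flp_g L696998) q18255, e3 q17305 L688045 q17305, e3 q17306 L688060 q17306, e3 q17307 L688071 q17307, e3 q17308 L688084 q15117, e3 q17309 L688100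 q15118, e3 q17310 L688110 q15119, e3 q17311 (flp_g L709180) q19346, e3 q17312 (flp_g L709190) q19347, e3 q17313 (flp_g L709196) q19348, e3 q17314 L688151 q15783, e3 q17315 (flp_g L697317) q18280, e3 q17316 (flp_g L697353) q18283, e3 q17317 L688179 q17317, e3 q17318 L688193 q17318, e3 q17319 L688204 q17319, e3 q17320 L688218 q15129, e3 q17321 L688228 q15130, e3 q17322 L688235 q15131, e3 q17323 (flp_g L709299) q19357, e3 q17324 (flp_g L709306) q19358, e3 q17325 (flp_g L709315) q19359, e3 q17326 L688277 q15785, e3 q17327 (flp_g L697491) q18293, e3 q17328 (flp_g L697516) q18295, e3 q17329 L688307 q17329, e3 q17330 L688314 q17330, e3 q17331 L688325 q15141, e3 q17332 L688332 q15142, e3 q17333 (flp_g L697620) q18301, e3 q17334 (flp_g L701930) q18645, e3 q17335 (flp_g L701944) q18646, e3 q17336 (flp_g L697742) q18310, e3 q17337 (flp_g L697754) q18311, e3 q17338 L688412 q17338, e3 q17339 L688423 q15152, e3 q17340 (flp_g L697969) q18327, e3 q17341 (flp_g L697982) q18328, e3 q17342 (flp_g L697994) q18329, e3 q17343 L688456 q17343, trivial⟩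 (by decide +kernel)

theorem ce_g_271 : ∀ r, r < 64 → sm gg (Qf (17344 + r)) = Qf (tab Gen.g (17344 + r)) :=
  edges_tab (sm gg) Qf (tab Gen.g) 17344 [(17344, 17344), (17345, 15159), (17346, 15160), (17347, 19374), (17348, 15162), (17349, 15163), (17350, 19376), (17351, 19377), (17352, 19378), (17353, 15809), (17354, 18341), (17355, 18342), (17356, 18911), (17357, 18344), (17358, 18345), (17359, 17359), (17360, 17360), (17361, 17361), (17362, 18728), (17363, 17363), (17364, 17364), (17365, 15176), (17366, 18910), (17367, 15177), (17368, 15178), (17369, 18912), (17370, 15179), (17371, 19399), (17372, 19401), (17373, 19402), (17374, 18729), (17375, 15185), (17376, 15187), (17377, 19407), (17378, 15936), (17379, 19408), (17380, 15941), (17381, 19409), (17382, 15959), (17383, 15925), (17384, 15957), (17385, 15726), (17386, 15927), (17387, 18364), (17388, 15929), (17389, 17389), (17390, 17390), (17391, 17391), (17392, 15199), (17393, 15200), (17394, 15201), (17395, 19425), (17396, 19426), (17397, 19427), (17398, 18368), (17399,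 18369), (17400, 18370), (17401, 15205), (17402, 15206), (17403, 19434), (17404, 19435), (17405, 19436), (17406, 18376), (17407, 18377)]
    ⟨e3 q17344 L688472 q17344, e3 q17345 L688482 q15159, e3 q17346 L688488 q15160, e3 q17347 (flp_g L709481) q19374, e3 q17348 L688508 q15162, e3 q17349 L688517 q15163, e3 q17350 (flp_g L709500) q19376, e3 q17351 (flp_g L709510) q19377, e3 q17352 (flp_g L709519) q19378, e3 q17353 L688553 q15809, e3 q17354 (flp_g L698152) q18341, e3 q17355 (flp_g L698172) q18342, e3 q17356 (flp_g L704613) q18911, e3 q17357 (flp_g L698194) q18344, e3 q17358 (flp_g L698202) q18345, e3 q17359 L688597 q17359, e3 q17360 L688606 q17360, e3 q17361 L688620 q17361, e3 q17362 (flp_g L702808) q18728, e3 q17363 L688645 q17363, e3 q17364 L688652 q17364, e3 q17365 L688663 q15176, e3 q17366 (flp_g L704600) q18910, e3 q17367 L688681 q15177, e3 q17368 L688689 q15178, e3 q17369 (flp_g L704627) q18912, e3 q17370 L688709 q15179, e3 q17371 (flp_g L709719) q19399, e3 q17372 (flp_g L709738) q19401, e3 q17373 (flp_g L709744) q19402,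 e3 q17374 (flp_g L702822) q18729, e3 q17375 L688760 q15185, e3 q17376 L688775 q15187, e3 q17377 (flp_g L709791) q19407, e3 q17378 L688793 q15936, e3 q17379 (flp_g L709808) q19408, e3 q17380 L688819 q15941, e3 q17381 (flp_g L709820) q19409, e3 q17382 L688840 q15959, e3 q17383 L688850 q15925, e3 q17384 L688861 q15957, e3 q17385 L688868 q15726, e3 q17386 L688881 q15927, e3 q17387 (flp_g L698462) q18364, e3 q17388 L688900 q15929, e3 q17389 L688907 q17389, e3 q17390 L688919 q17390, e3 q17391 L688929 q17391, e3 q17392 L688941 q15199, e3 q17393 L688949 q15200, e3 q17394 L688956 q15201, e3 q17395 (flp_g L709995) q19425, e3 q17396 (flp_g L710002) q19426, e3 q17397 (flp_g L710011) q19427, e3 q17398 (flp_g L698510) q18368, e3 q17399 (flp_g L698519) q18369, e3 q17400 (flp_g L698532) q18370, e3 q17401 L689026 q15205, e3 q17402 L689038 q15206, e3 q17403 (flp_g L710081) q19434, e3 q17404 (flp_g L710090) q19435, e3 q17405 (flp_g L710103) q19436, e3 q17406 (flp_g L698591) q18376, e3 q17407 (flp_g L698603) q18377, trivial⟩ (by decide +kernel)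

theorem ce_g_272 : ∀ r, r < 64 → sm gg (Qf (17408 + r)) = Qf (tab Gen.g (17408 + r)) :=
  edges_tab (sm gg) Qf (tab Gen.g) 17408 [(17408, 18378), (17409, 19448), (17410, 18380), (17411, 18381), (17412, 17412), (17413, 17413), (17414, 17414), (17415, 15218), (17416, 15219), (17417, 19337), (17418, 15220), (17419, 15221), (17420, 15215), (17421, 19459), (17422, 15224), (17423, 19454), (17424, 19455), (17425, 19457), (17426, 19458), (17427, 17427), (17428, 15223), (17429, 19464), (17430, 15227), (17431, 15228), (17432, 15229), (17433, 19260), (17434, 19465), (17435, 19466), (17436, 18799), (17437, 19468), (17438, 19469), (17439, 18409), (17440, 18410), (17441, 18411), (17442, 18412), (17443, 19487), (17444, 18414), (17445, 18415), (17446, 15233), (17447, 19492), (17448, 18418), (17449, 17449), (17450, 17450), (17451, 17451), (17452, 18798), (17453, 17453), (17454, 17454), (17455, 18800), (17456, 17456), (17457, 15251), (17458, 15252), (17459, 19507), (17460, 15254), (17461, 15255), (17462, 15245), (17463, 19512), (17464, 15258),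 (17465, 15259), (17466, 18796), (17467, 15249), (17468, 19517), (17469, 19505), (17470, 19506), (17471, 15253)]
    ⟨e3 q17408 (flp_g L698614) q18378, e3 q17409 L710201 q19448, e3 q17410 (flp_g L698630) q18380, e3 q17411 (flp_g L698638) q18381, e3 q17412 L689124 q17412, e3 q17413 L689138 q17413, e3 q17414 L689147 q17414, e3 q17415 L689160 q15218, e3 q17416 L689175 q15219, e3 q17417 (flp_g L709077) q19337, e3 q17418 L689195 q15220, e3 q17419 L689203 q15221, e3 q17420 (flp_g L689207) q15215, e3 q17421 (flp_g L710337) q19459, e3 q17422 L689235 q15224, e3 q17423 (flp_g L710284) q19454, e3 q17424 (flp_g L710294) q19455, e3 q17425 (flp_g L710314) q19457, e3 q17426 (flp_g L710322) q19458, e3 q17427 L689290 q17427, e3 q17428 L689299 q15223, e3 q17429 (flp_g L710389) q19464, e3 q17430 L689315 q15227, e3 q17431 L689323 q15228, e3 q17432 L689332 q15229, e3 q17433 (flp_g L708214) q19260, e3 q17434 (flp_g L710397) q19465, e3 q17435 (flp_g L710406) q19466, e3 q17436 (flp_g L703535) q18799, e3 q17437 (flp_g L710419) q19468, e3 q17438 (flp_g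 L710426) q19469, e3 q17439 (flp_g L698968) q18409, e3 q17440 (flp_g L698980) q18410, e3 q17441 (flp_g L698992) q18411, e3 q17442 (flp_g L698998) q18412, e3 q17443 L710561 q19487, e3 q17444 (flp_g L699026) q18414, e3 q17445 (flp_g L699034) q18415, e3 q17446 (flp_g L689434) q15233, e3 q17447 (flp_g L710599) q19492, e3 q17448 (flp_g L699058) q18418, e3 q17449 L689460 q17449, e3 q17450 L689469 q17450, e3 q17451 L689483 q17451, e3 q17452 (flp_g L703526) q18798, e3 q17453 L689502 q17453, e3 q17454 L689509 q17454, e3 q17455 (flp_g L703548) q18800, e3 q17456 L689528 q17456, e3 q17457 L689541 q15251, e3 q17458 L689554 q15252, e3 q17459 L710741 q19507, e3 q17460 L689572 q15254, e3 q17461 L689580 q15255, e3 q17462 (flp_g L689582) q15245, e3 q17463 (flp_g L710795) q19512, e3 q17464 L689602 q15258, e3 q17465 L689606 q15259, e3 q17466 (flp_g L703505) q18796, e3 q17467 L689626 q15249, e3 q17468 (flp_g L710830) q19517, e3 q17469 (flp_g L710731) q19505, e3 q17470 (flp_g L710739) q19506, e3 q17471 (flp_g L689655) q15253, trivial⟩ (by decide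 +kernel)

theorem ce_g_273 : ∀ r, r < 64 → sm gg (Qf (17472 + r)) = Qf (tab Gen.g (17472 + r)) :=
  edges_tab (sm gg) Qf (tab Gen.g) 17472 [(17472, 19520), (17473, 19509), (17474, 19510), (17475, 17475), (17476, 15257), (17477, 19524), (17478, 19514), (17479, 19515), (17480, 17480), (17481, 15262), (17482, 18797), (17483, 15271), (17484, 15273), (17485, 19228), (17486, 18247), (17487, 18277), (17488, 19527), (17489, 18278), (17490, 18464), (17491, 18465), (17492, 18466), (17493, 18467), (17494, 18468), (17495, 18469), (17496, 18470), (17497, 18471), (17498, 17498), (17499, 17499), (17500, 17500), (17501, 15287), (17502, 15288), (17503, 15289), (17504, 18896), (17505, 18291), (17506, 18484), (17507, 18485), (17508, 18486), (17509, 17509), (17510, 15319), (17511, 15310), (17512, 18580), (17513, 19547), (17514, 18557), (17515, 18593), (17516, 18569), (17517, 19264), (17518, 15320), (17519, 18581), (17520, 18582), (17521, 19546), (17522, 18594), (17523, 18123), (17524, 19265), (17525, 18547), (17526, 15329), (17527, 18129), (17528,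 18532), (17529, 18132), (17530, 19268), (17531, 19271), (17532, 18524), (17533, 18574), (17534, 18575), (17535, 15346)]
    ⟨e3 q17472 (flp_g L710872) q19520, e3 q17473 (flp_g L710771) q19509, e3 q17474 (flp_g L710777) q19510, e3 q17475 L689703 q17475, e3 q17476 L689709 q15257, e3 q17477 (flp_g L710907) q19524, e3 q17478 (flp_g L710805) q19514, e3 q17479 (flp_g L710810) q19515, e3 q17480 L689733 q17480, e3 q17481 L689740 q15262, e3 q17482 (flp_g L703519) q18797, e3 q17483 L689756 q15271, e3 q17484 L689763 q15273, e3 q17485 (flp_g L707803) q19228, e3 q17486 (flp_g L696906) q18247, e3 q17487 (flp_g L697272) q18277, e3 q17488 (flp_g L710927) q19527, e3 q17489 (flp_g L697286) q18278, e3 q17490 (flp_g L699595) q18464, e3 q17491 (flp_g L699603) q18465, e3 q17492 (flp_g L699619) q18466, e3 q17493 (flp_g L699631) q18467, e3 q17494 (flp_g L699642) q18468, e3 q17495 (flp_g L699657) q18469, e3 q17496 (flp_g L699671) q18470, e3 q17497 (flp_g L699680) q18471, e3 q17498 L689871 q17498, e3 q17499 L689881 q17499, e3 q17500 L689887 q17500,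 e3 q17501 L689898 q15287, e3 q17502 L689905 q15288, e3 q17503 L689910 q15289, e3 q17504 (flp_g L704422) q18896, e3 q17505 (flp_g L697461) q18291, e3 q17506 (flp_g L699835) q18484, e3 q17507 (flp_g L699846) q18485, e3 q17508 (flp_g L699859) q18486, e3 q17509 L689973 q17509, e3 q17510 L689989 q15319, e3 q17511 L690003 q15310, e3 q17512 (flp_g L701111) q18580, e3 q17513 (flp_g L711080) q19547, e3 q17514 (flp_g L700848) q18557, e3 q17515 (flp_g L701237) q18593, e3 q17516 (flp_g L700996) q18569, e3 q17517 (flp_g L708264) q19264, e3 q17518 L690060 q15320, e3 q17519 (flp_g L701126) q18581, e3 q17520 (flp_g L701138) q18582, e3 q17521 (flp_g L711064) q19546, e3 q17522 (flp_g L701248) q18594, e3 q17523 (flp_g L695135) q18123, e3 q17524 (flp_g L708280) q19265, e3 q17525 (flp_g L700731) q18547, e3 q17526 L690123 q15329, e3 q17527 (flp_g L695231) q18129, e3 q17528 (flp_g L700530) q18532, e3 q17529 (flp_g L695276) q18132, e3 q17530 (flp_g L708321) q19268, e3 q17531 (flp_g L708356) q19271, e3 q17532 (flp_g L700435) q18524, e3 q17533 (flp_g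 L701046) q18574, e3 q17534 (flp_g L701052) q18575, e3 q17535 L690190 q15346, trivial⟩ (by decide +kernel)

theorem ce_g_274 : ∀ r, r < 64 → sm gg (Qf (17536 + r)) = Qf (tab Gen.g (17536 + r)) :=
  edges_tab (sm gg) Qf (tab Gen.g) 17536 [(17536, 15349), (17537, 18526), (17538, 18118), (17539, 19563), (17540, 18109), (17541, 18119), (17542, 19564), (17543, 15351), (17544, 19569), (17545, 18530), (17546, 18495), (17547, 15361), (17548, 15362), (17549, 18528), (17550, 19572), (17551, 18590), (17552, 15367), (17553, 18613), (17554, 18614), (17555, 15371), (17556, 19578), (17557, 18711), (17558, 18712), (17559, 18626), (17560, 18627), (17561, 18628), (17562, 15396), (17563, 15379), (17564, 15380), (17565, 19586), (17566, 18160), (17567, 18641), (17568, 18642), (17569, 15388), (17570, 15389), (17571, 18788), (17572, 19590), (17573, 19591), (17574, 18649), (17575, 18650), (17576, 18651), (17577, 15395), (17578, 15397), (17579, 18812), (17580, 19598), (17581, 19585), (17582, 19298), (17583, 19299), (17584, 18669), (17585, 18670),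 (17586, 18719), (17587, 18672), (17588, 18673), (17589, 18211), (17590, 18718), (17591, 15412), (17592, 15413), (17593, 18720), (17594, 15414), (17595, 18758), (17596, 18847), (17597, 18848), (17598, 19610), (17599, 19611)]
    ⟨e3 q17536 L690196 q15349, e3 q17537 (flp_g L700459) q18526, e3 q17538 (flp_g L695044) q18118, e3 q17539 (flp_g L711212) q19563, e3 q17540 (flp_g L694900) q18109, e3 q17541 (flp_g L695058) q18119, e3 q17542 (flp_g L711216) q19564, e3 q17543 L690250 q15351, e3 q17544 (flp_g L711252) q19569, e3 q17545 (flp_g L700505) q18530, e3 q17546 (flp_g L699996) q18495, e3 q17547 L690290 q15361, e3 q17548 L690295 q15362, e3 q17549 (flp_g L700481) q18528, e3 q17550 (flp_g L711277) q19572, e3 q17551 (flp_g L701206) q18590, e3 q17552 L690330 q15367, e3 q17553 (flp_g L701527) q18613, e3 q17554 (flp_g L701542) q18614, e3 q17555 L690370 q15371, e3 q17556 (flp_g L711337) q19578, e3 q17557 (flp_g L702613) q18711, e3 q17558 (flp_g L702631) q18712, e3 q17559 (flp_g L701692) q18626, e3 q17560 (flp_g L701702) q18627, e3 q17561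 (flp_g L701714) q18628, e3 q17562 L690442 q15396, e3 q17563 L690454 q15379, e3 q17564 L690460 q15380, e3 q17565 (flp_g L711425) q19586, e3 q17566 (flp_g L695672) q18160, e3 q17567 (flp_g L701877) q18641, e3 q17568 (flp_g L701890) q18642, e3 q17569 L690500 q15388, e3 q17570 L690509 q15389, e3 q17571 (flp_g L703424) q18788, e3 q17572 (flp_g L711459) q19590, e3 q17573 (flp_g L711466) q19591, e3 q17574 (flp_g L701977) q18649, e3 q17575 (flp_g L701984) q18650, e3 q17576 (flp_g L701994) q18651, e3 q17577 L690564 q15395, e3 q17578 L690568 q15397, e3 q17579 (flp_g L703661) q18812, e3 q17580 (flp_g L711517) q19598, e3 q17581 (flp_g L711411) q19585, e3 q17582 (flp_g L708674) q19298, e3 q17583 (flp_g L708688) q19299, e3 q17584 (flp_g L702167) q18669, e3 q17585 (flp_g L702177) q18670, e3 q17586 (flp_g L702708) q18719, e3 q17587 (flp_g L702191) q18672, e3 q17588 (flp_g L702197) q18673, e3 q17589 (flp_g L696437) q18211, e3 q17590 (flp_g L702699) q18718, e3 q17591 L690657 q15412, e3 q17592 L690663 q15413, e3 q17593 (flp_g L702720) q18720,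 e3 q17594 L690679 q15414, e3 q17595 (flp_g L703116) q18758, e3 q17596 (flp_g L703975) q18847, e3 q17597 (flp_g L703985) q18848, e3 q17598 (flp_g L711601) q19610, e3 q17599 (flp_g L711605) q19611, trivial⟩ (by decide +kernel)

theorem ce_g_275 : ∀ r, r < 64 → sm gg (Qf (17600 + r)) = Qf (tab Gen.g (17600 + r)) :=
  edges_tab (sm gg) Qf (tab Gen.g) 17600 [(17600, 18699), (17601, 18700), (17602, 18701), (17603, 18702), (17604, 15423), (17605, 18789), (17606, 18897), (17607, 19622), (17608, 18732), (17609, 18733), (17610, 18734), (17611, 15433), (17612, 15434), (17613, 18814), (17614, 19628), (17615, 15436), (17616, 15437), (17617, 19631), (17618, 19632), (17619, 18753), (17620, 18754), (17621, 18756), (17622, 18757), (17623, 18214), (17624, 15446), (17625, 18760), (17626, 18850), (17627, 19638), (17628, 15449), (17629, 19642), (17630, 18786), (17631, 18787), (17632, 15457), (17633, 18777), (17634, 18875), (17635, 19644), (17636, 18806), (17637, 18807), (17638, 18808), (17639, 18810), (17640, 18811), (17641, 15465), (17642, 15468),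 (17643, 19307), (17644, 19651), (17645, 19308), (17646, 19652), (17647, 15473), (17648, 15474), (17649, 15475), (17650, 18631), (17651, 19656), (17652, 19657), (17653, 19659), (17654, 19660), (17655, 18836), (17656, 18837), (17657, 18838), (17658, 18839), (17659, 19674), (17660, 18841), (17661, 18842), (17662, 15479), (17663, 19679)]
    ⟨e3 q17600 (flp_g L702459) q18699, e3 q17601 (flp_g L702477) q18700, e3 q17602 (flp_g L702487) q18701, e3 q17603 (flp_g L702500) q18702, e3 q17604 L690741 q15423, e3 q17605 (flp_g L703439) q18789, e3 q17606 (flp_g L704433) q18897, e3 q17607 (flp_g L711678) q19622, e3 q17608 (flp_g L702851) q18732, e3 q17609 (flp_g L702860) q18733, e3 q17610 (flp_g L702872) q18734, e3 q17611 L690799 q15433, e3 q17612 L690805 q15434, e3 q17613 (flp_g L703681) q18814, e3 q17614 (flp_g L711725) q19628, e3 q17615 L690826 q15436, e3 q17616 L690836 q15437, e3 q17617 (flp_g L711746) q19631, e3 q17618 (flp_g L711756) q19632, e3 q17619 (flp_g L703068) q18753, e3 q17620 (flp_g L703080) q18754, e3 q17621 (flp_g L703098)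 q18756, e3 q17622 (flp_g L703106) q18757, e3 q17623 (flp_g L696487) q18214, e3 q17624 L690898 q15446, e3 q17625 (flp_g L703140) q18760, e3 q17626 (flp_g L704005) q18850, e3 q17627 (flp_g L711802) q19638, e3 q17628 L690925 q15449, e3 q17629 (flp_g L711831) q19642, e3 q17630 (flp_g L703400) q18786, e3 q17631 (flp_g L703411) q18787, e3 q17632 L690960 q15457, e3 q17633 (flp_g L703303) q18777, e3 q17634 (flp_g L704211) q18875, e3 q17635 (flp_g L711847) q19644, e3 q17636 (flp_g L703607) q18806, e3 q17637 (flp_g L703621) q18807, e3 q17638 (flp_g L703632) q18808, e3 q17639 (flp_g L703644) q18810, e3 q17640 (flp_g L703650) q18811, e3 q17641 L691020 q15465, e3 q17642 L691026 q15468, e3 q17643 (flp_g L708762) q19307, e3 q17644 (flp_g L711892) q19651, e3 q17645 (flp_g L708772) q19308, e3 q17646 (flp_g L711898) q19652, e3 q17647 L691057 q15473, e3 q17648 L691063 q15474, e3 q17649 L691071 q15475, e3 q17650 (flp_g L701756) q18631, e3 q17651 (flp_g L711927) q19656, e3 q17652 (flp_g L711935) q19657, e3 q17653 (flp_g L711947) q19659, e3 q17654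 (flp_g L711951) q19660, e3 q17655 (flp_g L703875) q18836, e3 q17656 (flp_g L703887) q18837, e3 q17657 (flp_g L703901) q18838, e3 q17658 (flp_g L703907) q18839, e3 q17659 L712041 q19674, e3 q17660 (flp_g L703925) q18841, e3 q17661 (flp_g L703933) q18842, e3 q17662 (flp_g L691153) q15479, e3 q17663 (flp_g L712079) q19679, trivial⟩ (by decide +kernel)

theorem ce_g_276 : ∀ r, r < 64 → sm gg (Qf (17664 + r)) = Qf (tab Gen.g (17664 + r)) :=
  edges_tab (sm gg) Qf (tab Gen.g) 17664 [(17664, 18845), (17665, 18175), (17666, 18183), (17667, 15495), (17668, 18647), (17669, 15497), (17670, 15498), (17671, 15488), (17672, 19688), (17673, 15501), (17674, 15502), (17675, 18188), (17676, 15492), (17677, 19693), (17678, 18721), (17679, 19684), (17680, 18652), (17681, 19686), (17682, 19687), (17683, 15500), (17684, 19700), (17685, 19690), (17686, 19691), (17687, 15851), (17688, 15505), (17689, 18189), (17690, 15512), (17691, 15514), (17692, 18637), (17693, 19703), (17694, 18888), (17695, 18889), (17696, 18890), (17697, 18891), (17698, 18892),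 (17699, 18893), (17700, 18894), (17701, 18895), (17702, 18177), (17703, 18185), (17704, 15527), (17705, 15528), (17706, 15529), (17707, 19715), (17708, 19716), (17709, 19717), (17710, 19719), (17711, 18598), (17712, 18696), (17713, 18697), (17714, 18901), (17715, 18902), (17716, 15607), (17717, 18903), (17718, 18600), (17719, 15548), (17720, 15549), (17721, 15550), (17722, 15553), (17723, 15554), (17724, 19722), (17725, 19723), (17726, 18923), (17727, 18924)]
    ⟨e3 q17664 (flp_g L703955) q18845, e3 q17665 (flp_g L695900) q18175, e3 q17666 (flp_g L696023) q18183, e3 q17667 L691191 q15495, e3 q17668 (flp_g L701954) q18647, e3 q17669 L691207 q15497, e3 q17670 L691213 q15498, e3 q17671 (flp_g L691215) q15488, e3 q17672 (flp_g L712141) q19688, e3 q17673 L691237 q15501, e3 q17674 L691241 q15502, e3 q17675 (flp_g L696109) q18188, e3 q17676 L691257 q15492, e3 q17677 (flp_g L712175) q19693, e3 q17678 (flp_g L702732) q18721, e3 q17679 (flp_g L712107) q19684, e3 q17680 (flp_g L702002) q18652, e3 q17681 (flp_g L712123) q19686, e3 q17682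 (flp_g L712129) q19687, e3 q17683 L691301 q15500, e3 q17684 (flp_g L712215) q19700, e3 q17685 (flp_g L712151) q19690, e3 q17686 (flp_g L712159) q19691, e3 q17687 L691321 q15851, e3 q17688 L691327 q15505, e3 q17689 (flp_g L696129) q18189, e3 q17690 L691345 q15512, e3 q17691 L691353 q15514, e3 q17692 (flp_g L701820) q18637, e3 q17693 (flp_g L712233) q19703, e3 q17694 (flp_g L704340) q18888, e3 q17695 (flp_g L704349) q18889, e3 q17696 (flp_g L704364) q18890, e3 q17697 (flp_g L704376) q18891, e3 q17698 (flp_g L704386) q18892, e3 q17699 (flp_g L704396) q18893, e3 q17700 (flp_g L704405) q18894, e3 q17701 (flp_g L704412) q18895, e3 q17702 (flp_g L695930) q18177, e3 q17703 (flp_g L696053) q18185, e3 q17704 L691463 q15527, e3 q17705 L691470 q15528, e3 q17706 L691475 q15529, e3 q17707 (flp_g L712321) q19715, e3 q17708 (flp_g L712326) q19716, e3 q17709 (flp_g L712335) q19717, e3 q17710 L712345 q19719, e3 q17711 (flp_g L701309) q18598, e3 q17712 (flp_g L702424) q18696, e3 q17713 (flp_g L702434) q18697, e3 q17714 (flp_g L704477) q18901,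 e3 q17715 (flp_g L704488) q18902, e3 q17716 L691559 q15607, e3 q17717 (flp_g L704502) q18903, e3 q17718 (flp_g L701340) q18600, e3 q17719 L691589 q15548, e3 q17720 L691594 q15549, e3 q17721 L691601 q15550, e3 q17722 L691611 q15553, e3 q17723 L691620 q15554, e3 q17724 (flp_g L712374) q19722, e3 q17725 (flp_g L712383) q19723, e3 q17726 (flp_g L704760) q18923, e3 q17727 (flp_g L704770) q18924, trivial⟩ (by decide +kernel)

theorem ce_g_277 : ∀ r, r < 64 → sm gg (Qf (17728 + r)) = Qf (tab Gen.g (17728 + r)) :=
  edges_tab (sm gg) Qf (tab Gen.g) 17728 [(17728, 17728), (17729, 18936), (17730, 18937), (17731, 15563), (17732, 15564), (17733, 19729), (17734, 19730), (17735, 18995), (17736, 18943), (17737, 18944), (17738, 17738), (17739, 17739), (17740, 18996), (17741, 15572), (17742, 15575), (17743, 15576), (17744, 15577), (17745, 19012), (17746, 19737), (17747, 19738), (17748, 19748), (17749, 19740), (17750, 19741), (17751, 18959), (17752, 18960), (17753, 18961), (17754, 19004), (17755, 18963), (17756, 18964), (17757, 19006), (17758,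 18967), (17759, 17759), (17760, 17760), (17761, 19618), (17762, 17762), (17763, 17763), (17764, 15587), (17765, 19766), (17766, 17766), (17767, 18332), (17768, 15597), (17769, 15598), (17770, 19005), (17771, 15599), (17772, 19007), (17773, 19769), (17774, 19771), (17775, 15601), (17776, 15606), (17777, 19013), (17778, 18993), (17779, 18994), (17780, 15666), (17781, 15628), (17782, 15629), (17783, 18992), (17784, 17784), (17785, 15776), (17786, 17786), (17787, 19014), (17788, 19015), (17789, 19016), (17790, 19751), (17791, 19774)]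
    ⟨e3 q17728 L691658 q17728, e3 q17729 (flp_g L704896) q18936, e3 q17730 (flp_g L704907) q18937, e3 q17731 L691676 q15563, e3 q17732 L691685 q15564, e3 q17733 (flp_g L712423) q19729, e3 q17734 (flp_g L712432) q19730, e3 q17735 (flp_g L705560) q18995, e3 q17736 (flp_g L704975) q18943, e3 q17737 (flp_g L704985) q18944, e3 q17738 L691733 q17738, e3 q17739 L691738 q17739, e3 q17740 (flp_g L705572) q18996, e3 q17741 L691759 q15572, e3 q17742 L691766 q15575, e3 q17743 L691772 q15576, e3 q17744 L691779 q15577, e3 q17745 (flp_g L705710) q19012, e3 q17746 (flp_g L712491) q19737, e3 q17747 (flp_g L712500) q19738, e3 q17748 L712564 q19748, e3 q17749 (flp_g L712509) q19740, e3 q17750 (flp_g L712514) q19741, e3 q17751 (flp_g L705148) q18959, e3 q17752 (flp_g L705168) q18960, e3 q17753 (flp_g L705178) q18961, e3 q17754 (flp_g L705647) q19004, e3 q17755 (flp_g L705212) q18963, e3 q17756 (flp_g L705222) q18964, e3 q17757 (flp_g L705664) q19006, e3 q17758 (flp_g L705246) q18967, e3 q17759 L691879 q17759, e3 q17760 L691889 q17760, e3 q17761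 (flp_g L711649) q19618, e3 q17762 L691906 q17762, e3 q17763 L691913 q17763, e3 q17764 (flp_g L691916) q15587, e3 q17765 (flp_g L712710) q19766, e3 q17766 L691941 q17766, e3 q17767 (flp_g L698037) q18332, e3 q17768 L691960 q15597, e3 q17769 L691966 q15598, e3 q17770 (flp_g L705656) q19005, e3 q17771 L691981 q15599, e3 q17772 (flp_g L705672) q19007, e3 q17773 (flp_g L712737) q19769, e3 q17774 (flp_g L712747) q19771, e3 q17775 L692008 q15601, e3 q17776 L692015 q15606, e3 q17777 (flp_g L705727) q19013, e3 q17778 (flp_g L705532) q18993, e3 q17779 (flp_g L705550) q18994, e3 q17780 L692053 q15666, e3 q17781 L692062 q15628, e3 q17782 L692077 q15629, e3 q17783 (flp_g L705522) q18992, e3 q17784 L692093 q17784, e3 q17785 L692105 q15776, e3 q17786 L692115 q17786, e3 q17787 (flp_g L705738) q19014, e3 q17788 (flp_g L705750) q19015, e3 q17789 (flp_g L705761) q19016, e3 q17790 (flp_g L712594) q19751, e3 q17791 (flp_g L712772) q19774, trivial⟩ (by decide +kernel)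

theorem ce_g_278 : ∀ r, r < 64 → sm gg (Qf (17792 + r)) = Qf (tab Gen.g (17792 + r)) :=
  edges_tab (sm gg) Qf (tab Gen.g) 17792 [(17792, 19022), (17793, 19023), (17794, 17794), (17795, 15636), (17796, 15637), (17797, 15638), (17798, 19217), (17799, 19783), (17800, 19784), (17801, 19786), (17802, 19787), (17803, 18388), (17804, 19038), (17805, 19039), (17806, 19040), (17807, 19042), (17808, 19043), (17809, 19045), (17810, 17810), (17811, 17811), (17812, 17812), (17813, 15650), (17814, 15651), (17815, 19804), (17816, 15656), (17817, 19255), (17818, 19221), (17819, 19070), (17820, 19071), (17821, 19072), (17822, 19073), (17823, 19074), (17824, 17824), (17825, 19080), (17826, 19081), (17827, 19082), (17828, 19084), (17829, 19085), (17830, 15672), (17831, 15673), (17832, 15674), (17833, 19259), (17834, 19815), (17835, 19816), (17836, 19818), (17837, 19819), (17838, 18426), (17839, 19095), (17840, 19096), (17841, 19097), (17842, 19835), (17843, 19099), (17844, 19100), (17845, 15678), (17846, 19839), (17847, 19103), (17848, 17848),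 (17849, 17849), (17850, 17850), (17851, 17851), (17852, 17852), (17853, 17853), (17854, 15695), (17855, 19504)]
    ⟨e3 q17792 (flp_g L705835) q19022, e3 q17793 (flp_g L705845) q19023, e3 q17794 L692180 q17794, e3 q17795 L692190 q15636, e3 q17796 L692198 q15637, e3 q17797 L692207 q15638, e3 q17798 (flp_g L707688) q19217, e3 q17799 (flp_g L712839) q19783, e3 q17800 (flp_g L712850) q19784, e3 q17801 (flp_g L712863) q19786, e3 q17802 (flp_g L712870) q19787, e3 q17803 (flp_g L698731) q18388, e3 q17804 (flp_g L706006) q19038, e3 q17805 (flp_g L706020) q19039, e3 q17806 (flp_g L706028) q19040, e3 q17807 (flp_g L706050) q19042, e3 q17808 (flp_g L706060) q19043, e3 q17809 (flp_g L706080) q19045, e3 q17810 L692305 q17810, e3 q17811 L692316 q17811, e3 q17812 L692325 q17812, e3 q17813 L692336 q15650, e3 q17814 L692342 q15651, e3 q17815 (flp_g L713000) q19804, e3 q17816 L692358 q15656, e3 q17817 (flp_g L708160) q19255, e3 q17818 (flp_g L707740) q19221, e3 q17819 (flp_g L706350) q19070, e3 q17820 (flp_g L706361) q19071, e3 q17821 (flp_g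 L706375) q19072, e3 q17822 (flp_g L706388) q19073, e3 q17823 (flp_g L706401) q19074, e3 q17824 L692432 q17824, e3 q17825 (flp_g L706460) q19080, e3 q17826 (flp_g L706466) q19081, e3 q17827 (flp_g L706475) q19082, e3 q17828 (flp_g L706488) q19084, e3 q17829 (flp_g L706493) q19085, e3 q17830 L692468 q15672, e3 q17831 L692476 q15673, e3 q17832 L692485 q15674, e3 q17833 (flp_g L708205) q19259, e3 q17834 (flp_g L713072) q19815, e3 q17835 (flp_g L713083) q19816, e3 q17836 (flp_g L713094) q19818, e3 q17837 (flp_g L713099) q19819, e3 q17838 (flp_g L699165) q18426, e3 q17839 (flp_g L706587) q19095, e3 q17840 (flp_g L706599) q19096, e3 q17841 (flp_g L706605) q19097, e3 q17842 L713212 q19835, e3 q17843 (flp_g L706629) q19099, e3 q17844 (flp_g L706639) q19100, e3 q17845 (flp_g L692577) q15678, e3 q17846 (flp_g L713246) q19839, e3 q17847 (flp_g L706663) q19103, e3 q17848 L692599 q17848, e3 q17849 L692610 q17849, e3 q17850 L692622 q17850, e3 q17851 L692632 q17851, e3 q17852 L692639 q17852, e3 q17853 L692650 q17853, e3 q17854 L692661 q15695,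 e3 q17855 (flp_g L710718) q19504, trivial⟩ (by decide +kernel)

theorem ce_g_279 : ∀ r, r < 64 → sm gg (Qf (17856 + r)) = Qf (tab Gen.g (17856 + r)) :=
  edges_tab (sm gg) Qf (tab Gen.g) 17856 [(17856, 15696), (17857, 15697), (17858, 15689), (17859, 19850), (17860, 15700), (17861, 18366), (17862, 15693), (17863, 19854), (17864, 19846), (17865, 19848), (17866, 17866), (17867, 15699), (17868, 19857), (17869, 19852), (17870, 17870), (17871, 15703), (17872, 15708), (17873, 15709), (17874, 19863), (17875, 15711), (17876, 15712), (17877, 19261), (17878, 19226), (17879, 19257), (17880, 19387), (17881, 19861), (17882, 19862), (17883, 15710), (17884, 19874), (17885, 19865), (17886, 19143), (17887, 19144), (17888, 19145), (17889, 19882), (17890, 19147), (17891, 19148), (17892, 19886), (17893, 19150), (17894, 19151), (17895, 15717), (17896, 19892), (17897, 19154), (17898, 19155), (17899, 19873), (17900, 15721), (17901, 19897), (17902, 19159), (17903, 17903), (17904, 17904), (17905, 19416), (17906, 17906), (17907, 17907), (17908, 19419),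 (17909, 17909), (17910, 17910), (17911, 15741), (17912, 15730), (17913, 19909), (17914, 19453), (17915, 15744), (17916, 15745), (17917, 15734), (17918, 19912), (17919, 15748)]
    ⟨e3 q17856 L692677 q15696, e3 q17857 L692683 q15697, e3 q17858 (flp_g L692687) q15689, e3 q17859 (flp_g L713344) q19850, e3 q17860 L692709 q15700, e3 q17861 (flp_g L698487) q18366, e3 q17862 L692727 q15693, e3 q17863 (flp_g L713373) q19854, e3 q17864 (flp_g L713307) q19846, e3 q17865 (flp_g L713324) q19848, e3 q17866 L692758 q17866, e3 q17867 L692764 q15699, e3 q17868 (flp_g L713397) q19857, e3 q17869 (flp_g L713356) q19852, e3 q17870 L692785 q17870, e3 q17871 L692790 q15703, e3 q17872 L692798 q15708, e3 q17873 L692807 q15709, e3 q17874 L713436 q19863, e3 q17875 L692816 q15711, e3 q17876 L692821 q15712, e3 q17877 (flp_g L708226) q19261, e3 q17878 (flp_g L707782) q19226, e3 q17879 (flp_g L708178) q19257, e3 q17880 (flp_g L709601) q19387, e3 q17881 (flp_g L713427) q19861, e3 q17882 (flp_g L713434) q19862, e3 q17883 (flp_g L692873) q15710, e3 q17884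 (flp_g L713530) q19874, e3 q17885 (flp_g L713450) q19865, e3 q17886 (flp_g L707034) q19143, e3 q17887 (flp_g L707044) q19144, e3 q17888 (flp_g L707050) q19145, e3 q17889 L713582 q19882, e3 q17890 (flp_g L707066) q19147, e3 q17891 (flp_g L707074) q19148, e3 q17892 L713612 q19886, e3 q17893 (flp_g L707085) q19150, e3 q17894 (flp_g L707093) q19151, e3 q17895 (flp_g L692945) q15717, e3 q17896 (flp_g L713652) q19892, e3 q17897 (flp_g L707117) q19154, e3 q17898 (flp_g L707125) q19155, e3 q17899 (flp_g L713524) q19873, e3 q17900 L692979 q15721, e3 q17901 (flp_g L713678) q19897, e3 q17902 (flp_g L707155) q19159, e3 q17903 L692993 q17903, e3 q17904 L693004 q17904, e3 q17905 (flp_g L709902) q19416, e3 q17906 L693023 q17906, e3 q17907 L693030 q17907, e3 q17908 (flp_g L709933) q19419, e3 q17909 L693051 q17909, e3 q17910 L693058 q17910, e3 q17911 L693068 q15741, e3 q17912 L693075 q15730, e3 q17913 (flp_g L713769) q19909, e3 q17914 (flp_g L710270) q19453, e3 q17915 L693097 q15744, e3 q17916 L693103 q15745, e3 q17917 (flp_g L693105) q15734,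 e3 q17918 (flp_g L713795) q19912, e3 q17919 L693127 q15748, trivial⟩ (by decide +kernel)

theorem ce_g_280 : ∀ r, r < 64 → sm gg (Qf (17920 + r)) = Qf (tab Gen.g (17920 + r)) :=
  edges_tab (sm gg) Qf (tab Gen.g) 17920 [(17920, 15749), (17921, 19411), (17922, 15738), (17923, 19916), (17924, 15753), (17925, 15754), (17926, 19908), (17927, 15743), (17928, 19911), (17929, 17929), (17930, 15747), (17931, 19922), (17932, 19914), (17933, 17933), (17934, 15752), (17935, 19926), (17936, 19918), (17937, 17937), (17938, 15759), (17939, 19223), (17940, 19222), (17941, 19224), (17942, 19225), (17943, 19227), (17944, 17944), (17945, 19386), (17946, 19234), (17947, 19235), (17948, 19236), (17949, 19237), (17950, 15930), (17951, 18460), (17952, 19351), (17953, 18480), (17954, 19360), (17955, 19241), (17956, 19242), (17957, 19243), (17958, 19244), (17959, 19245), (17960, 19246), (17961, 19247), (17962, 15795), (17963, 19258), (17964, 19133), (17965, 19215), (17966, 19249), (17967, 19250), (17968, 19251), (17969, 19252), (17970, 19253), (17971,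 17971), (17972, 19254), (17973, 19385), (17974, 19950), (17975, 18117), (17976, 17976), (17977, 18121), (17978, 18079), (17979, 18131), (17980, 18562), (17981, 18086), (17982, 17982), (17983, 15875)]
    ⟨e3 q17920 L693133 q15749, e3 q17921 (flp_g L709841) q19411, e3 q17922 L693155 q15738, e3 q17923 (flp_g L713827) q19916, e3 q17924 L693165 q15753, e3 q17925 L693171 q15754, e3 q17926 (flp_g L713762) q19908, e3 q17927 L693187 q15743, e3 q17928 (flp_g L713785) q19911, e3 q17929 L693204 q17929, e3 q17930 L693211 q15747, e3 q17931 (flp_g L713868) q19922, e3 q17932 (flp_g L713807) q19914, e3 q17933 L693233 q17933, e3 q17934 L693240 q15752, e3 q17935 (flp_g L713895) q19926, e3 q17936 (flp_g L713837) q19918, e3 q17937 L693258 q17937, e3 q17938 L693266 q15759, e3 q17939 (flp_g L707759) q19223, e3 q17940 (flp_g L707751) q19222, e3 q17941 (flp_g L707768) q19224, e3 q17942 (flp_g L707773) q19225, e3 q17943 (flp_g L707792) q19227, e3 q17944 L693308 q17944, e3 q17945 (flp_g L709595) q19386, e3 q17946 (flp_g L707878) q19234, e3 q17947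 (flp_g L707894) q19235, e3 q17948 (flp_g L707907) q19236, e3 q17949 (flp_g L707924) q19237, e3 q17950 L693355 q15930, e3 q17951 (flp_g L699538) q18460, e3 q17952 (flp_g L709234) q19351, e3 q17953 (flp_g L699782) q18480, e3 q17954 (flp_g L709327) q19360, e3 q17955 (flp_g L707969) q19241, e3 q17956 (flp_g L707985) q19242, e3 q17957 (flp_g L707998) q19243, e3 q17958 (flp_g L708006) q19244, e3 q17959 (flp_g L708022) q19245, e3 q17960 (flp_g L708031) q19246, e3 q17961 (flp_g L708043) q19247, e3 q17962 L693452 q15795, e3 q17963 (flp_g L708194) q19258, e3 q17964 (flp_g L706958) q19133, e3 q17965 (flp_g L707662) q19215, e3 q17966 (flp_g L708076) q19249, e3 q17967 (flp_g L708090) q19250, e3 q17968 (flp_g L708105) q19251, e3 q17969 (flp_g L708117) q19252, e3 q17970 (flp_g L708131) q19253, e3 q17971 L693515 q17971, e3 q17972 (flp_g L708144) q19254, e3 q17973 (flp_g L709585) q19385, e3 q17974 L714074 q19950, e3 q17975 (flp_g L695025) q18117, e3 q17976 L693552 q17976, e3 q17977 (flp_g L695097) q18121, e3 q17978 (flp_g L694432) q18079,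 e3 q17979 (flp_g L695265) q18131, e3 q17980 (flp_g L700913) q18562, e3 q17981 (flp_g L694552) q18086, e3 q17982 L693606 q17982, e3 q17983 L693616 q15875, trivial⟩ (by decide +kernel)

theorem ce_g_281 : ∀ r, r < 64 → sm gg (Qf (17984 + r)) = Qf (tab Gen.g (17984 + r)) :=
  edges_tab (sm gg) Qf (tab Gen.g) 17984 [(17984, 15828), (17985, 15829), (17986, 15830), (17987, 15836), (17988, 18648), (17989, 15840), (17990, 18616), (17991, 18609), (17992, 19322), (17993, 18870), (17994, 17994), (17995, 17995), (17996, 17996), (17997, 17997), (17998, 17998), (17999, 15863), (18000, 15864), (18001, 15865), (18002, 19957), (18003, 15866), (18004, 18097), (18005, 18005), (18006, 18006), (18007, 18007), (18008, 18008), (18009, 15883), (18010, 15882), (18011, 15881), (18012, 18012), (18013, 18089), (18014, 18014), (18015, 18015), (18016, 18016), (18017, 18017), (18018, 18018), (18019, 18019), (18020, 15895), (18021, 15896), (18022, 15897), (18023, 18023), (18024, 18024), (18025, 18025), (18026, 18026), (18027, 18027), (18028, 19415), (18029,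 19931), (18030, 15911), (18031, 19970), (18032, 18032), (18033, 15914), (18034, 19973), (18035, 19974), (18036, 18036), (18037, 18037), (18038, 15918), (18039, 19979), (18040, 18040), (18041, 18041), (18042, 15922), (18043, 19414), (18044, 18044), (18045, 19238), (18046, 19417), (18047, 19420)]
    ⟨e3 q17984 L693631 q15828, e3 q17985 L693645 q15829, e3 q17986 L693662 q15830, e3 q17987 L693674 q15836, e3 q17988 (flp_g L701967) q18648, e3 q17989 L693690 q15840, e3 q17990 (flp_g L701566) q18616, e3 q17991 (flp_g L701478) q18609, e3 q17992 (flp_g L708898) q19322, e3 q17993 (flp_g L704175) q18870, e3 q17994 L693721 q17994, e3 q17995 L693730 q17995, e3 q17996 L693737 q17996, e3 q17997 L693742 q17997, e3 q17998 L693745 q17998, e3 q17999 L693751 q15863, e3 q18000 L693756 q15864, e3 q18001 L693766 q15865, e3 q18002 L714115 q19957, e3 q18003 (flp_g L693773) q15866, e3 q18004 (flp_g L694718) q18097, e3 q18005 L693795 q18005, e3 q18006 L693804 q18006, e3 q18007 L693811 q18007, e3 q18008 L693819 q18008, e3 q18009 L693827 q15883, e3 q18010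 L693841 q15882, e3 q18011 L693858 q15881, e3 q18012 L693872 q18012, e3 q18013 (flp_g L694600) q18089, e3 q18014 L693889 q18014, e3 q18015 L693898 q18015, e3 q18016 L693906 q18016, e3 q18017 L693923 q18017, e3 q18018 L693930 q18018, e3 q18019 L693940 q18019, e3 q18020 L693953 q15895, e3 q18021 L693960 q15896, e3 q18022 L693970 q15897, e3 q18023 L693981 q18023, e3 q18024 L693988 q18024, e3 q18025 L693993 q18025, e3 q18026 L693999 q18026, e3 q18027 L694009 q18027, e3 q18028 (flp_g L709895) q19415, e3 q18029 (flp_g L713937) q19931, e3 q18030 (flp_g L694031) q15911, e3 q18031 (flp_g L714250) q19970, e3 q18032 L694058 q18032, e3 q18033 (flp_g L694062) q15914, e3 q18034 (flp_g L714277) q19973, e3 q18035 (flp_g L714285) q19974, e3 q18036 L694083 q18036, e3 q18037 L694088 q18037, e3 q18038 L694096 q15918, e3 q18039 (flp_g L714315) q19979, e3 q18040 L694109 q18040, e3 q18041 L694116 q18041, e3 q18042 L694128 q15922, e3 q18043 (flp_g L709879) q19414, e3 q18044 L694144 q18044, e3 q18045 (flp_g L707935) q19238, e3 q18046 (flp_g L709912)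 q19417, e3 q18047 (flp_g L709944) q19420, trivial⟩ (by decide +kernel)

theorem ce_g_282 : ∀ r, r < 64 → sm gg (Qf (18048 + r)) = Qf (tab Gen.g (18048 + r)) :=
  edges_tab (sm gg) Qf (tab Gen.g) 18048 [(18048, 18048), (18049, 19932), (18050, 15945), (18051, 15934), (18052, 19988), (18053, 15949), (18054, 19412), (18055, 15938), (18056, 19991), (18057, 15953), (18058, 19418), (18059, 15944), (18060, 19994), (18061, 18061), (18062, 15948), (18063, 19995), (18064, 19990), (18065, 15952), (18066, 18066), (18067, 18067), (18068, 18068), (18069, 18069), (18070, 18070), (18071, 18071), (18072, 18367), (18073, 18073), (18074, 18074), (18075, 18288), (18076, 18076), (18077, 18077), (18078, 15978), (18079, 17978), (18080, 18080), (18081, 15981), (18082, 15984), (18083, 16558), (18084, 15988), (18085, 16005), (18086, 17981), (18087, 18087), (18088, 15994), (18089, 18013), (18090, 16733), (18091, 15997), (18092, 20003), (18093, 18093), (18094, 16001), (18095, 18095), (18096, 16004), (18097, 18004), (18098, 20005), (18099, 16008), (18100,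 18100), (18101, 18101), (18102, 18102), (18103, 18103), (18104, 18104), (18105, 16018), (18106, 16019), (18107, 20009), (18108, 16517), (18109, 17540), (18110, 16027), (18111, 16028)]
    ⟨e3 q18048 L694182 q18048, e3 q18049 (flp_g L713952) q19932, e3 q18050 L694200 q15945, e3 q18051 L694210 q15934, e3 q18052 (flp_g L714396) q19988, e3 q18053 L694224 q15949, e3 q18054 (flp_g L709856) q19412, e3 q18055 L694241 q15938, e3 q18056 (flp_g L714418) q19991, e3 q18057 L694251 q15953, e3 q18058 (flp_g L709921) q19418, e3 q18059 L694270 q15944, e3 q18060 (flp_g L714437) q19994, e3 q18061 L694292 q18061, e3 q18062 L694301 q15948, e3 q18063 (flp_g L714446) q19995, e3 q18064 (flp_g L714410) q19990, e3 q18065 L694321 q15952, e3 q18066 L694326 q18066, e3 q18067 L694331 q18067, e3 q18068 L694342 q18068, e3 q18069 L694347 q18069, e3 q18070 L694354 q18070, e3 q18071 L694359 q18071, e3 q18072 (flp_g L698501) q18367, e3 q18073 L694371 q18073, e3 q18074 L694382 q18074, e3 q18075 (flp_g L697419) q18288, e3 q18076 L694398 q18076, e3 q18077 L694402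 q18077, e3 q18078 L694415 q15978, e3 q18079 L694432 q17978, e3 q18080 L694446 q18080, e3 q18081 L694467 q15981, e3 q18082 L694486 q15984, e3 q18083 L694504 q16558, e3 q18084 L694521 q15988, e3 q18085 L694535 q16005, e3 q18086 L694552 q17981, e3 q18087 L694572 q18087, e3 q18088 L694587 q15994, e3 q18089 L694600 q18013, e3 q18090 L694623 q16733, e3 q18091 L694638 q15997, e3 q18092 (flp_g L714524) q20003, e3 q18093 L694667 q18093, e3 q18094 L694679 q16001, e3 q18095 L694691 q18095, e3 q18096 L694704 q16004, e3 q18097 L694718 q18004, e3 q18098 (flp_g L714551) q20005, e3 q18099 L694754 q16008, e3 q18100 L694773 q18100, e3 q18101 L694786 q18101, e3 q18102 L694804 q18102, e3 q18103 L694817 q18103, e3 q18104 L694826 q18104, e3 q18105 L694843 q16018, e3 q18106 L694852 q16019, e3 q18107 (flp_g L714620) q20009, e3 q18108 L694879 q16517, e3 q18109 L694900 q17540, e3 q18110 L694912 q16027, e3 q18111 L694934 q16028, trivial⟩ (by decide +kernel)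

theorem ce_g_283 : ∀ r, r < 64 → sm gg (Qf (18112 + r)) = Qf (tab Gen.g (18112 + r)) :=
  edges_tab (sm gg) Qf (tab Gen.g) 18112 [(18112, 16504), (18113, 17202), (18114, 20012), (18115, 20013), (18116, 16032), (18117, 17975), (18118, 17538), (18119, 17541), (18120, 16040), (18121, 17977), (18122, 16046), (18123, 17523), (18124, 20019), (18125, 16051), (18126, 17197), (18127, 16049), (18128, 20021), (18129, 17527), (18130, 16053), (18131, 17979), (18132, 17529), (18133, 17212), (18134, 17213), (18135, 16063), (18136, 16064), (18137, 17269), (18138, 16804), (18139, 20029), (18140, 20030), (18141, 17243), (18142, 17274), (18143, 16129), (18144, 17217), (18145, 17218), (18146, 16587), (18147, 17221), (18148, 16074), (18149, 16075), (18150, 16076), (18151, 16716), (18152, 16077), (18153, 16078), (18154, 20042), (18155, 20043), (18156, 20044), (18157, 20046), (18158, 20047), (18159, 20049), (18160, 17566), (18161, 16601), (18162, 16728), (18163, 16084), (18164, 20057), (18165, 16130), (18166, 16090), (18167, 16091), (18168, 20059),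 (18169, 17278), (18170, 16095), (18171, 17282), (18172, 17222), (18173, 17223), (18174, 16103), (18175, 17665)]
    ⟨e3 q18112 L694946 q16504, e3 q18113 L694967 q17202, e3 q18114 (flp_g L714678) q20012, e3 q18115 (flp_g L714692) q20013, e3 q18116 L695008 q16032, e3 q18117 L695025 q17975, e3 q18118 L695044 q17538, e3 q18119 L695058 q17541, e3 q18120 L695079 q16040, e3 q18121 L695097 q17977, e3 q18122 L695118 q16046, e3 q18123 L695135 q17523, e3 q18124 (flp_g L714794) q20019, e3 q18125 L695163 q16051, e3 q18126 L695179 q17197, e3 q18127 (flp_g L695187) q16049, e3 q18128 (flp_g L714834) q20021, e3 q18129 L695231 q17527, e3 q18130 L695247 q16053, e3 q18131 L695265 q17979, e3 q18132 L695276 q17529, e3 q18133 L695289 q17212, e3 q18134 L695309 q17213, e3 q18135 L695323 q16063, e3 q18136 L695340 q16064, e3 q18137 L695350 q17269, e3 q18138 L695372 q16804, e3 q18139 (flp_g L714954) q20029, e3 q18140 (flp_g L714966) q20030, e3 q18141 L695419 q17243, e3 q18142 L695439 q17274, e3 q18143 L695451 q16129, e3 q18144 L695467 q17217, e3 q18145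 L695481 q17218, e3 q18146 L695491 q16587, e3 q18147 L695509 q17221, e3 q18148 L695519 q16074, e3 q18149 L695533 q16075, e3 q18150 L695548 q16076, e3 q18151 L695560 q16716, e3 q18152 L695572 q16077, e3 q18153 L695580 q16078, e3 q18154 (flp_g L715144) q20042, e3 q18155 (flp_g L715162) q20043, e3 q18156 (flp_g L715179) q20044, e3 q18157 (flp_g L715205) q20046, e3 q18158 (flp_g L715215) q20047, e3 q18159 (flp_g L715243) q20049, e3 q18160 L695672 q17566, e3 q18161 L695683 q16601, e3 q18162 L695700 q16728, e3 q18163 L695711 q16084, e3 q18164 (flp_g L715355) q20057, e3 q18165 L695739 q16130, e3 q18166 L695752 q16090, e3 q18167 L695769 q16091, e3 q18168 (flp_g L715385) q20059, e3 q18169 L695797 q17278, e3 q18170 L695815 q16095, e3 q18171 L695829 q17282, e3 q18172 L695845 q17222, e3 q18173 L695864 q17223, e3 q18174 L695882 q16103, e3 q18175 L695900 q17665, trivial⟩ (by decide +kernel)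

theorem ce_g_284 : ∀ r, r < 64 → sm gg (Qf (18176 + r)) = Qf (tab Gen.g (18176 + r)) :=
  edges_tab (sm gg) Qf (tab Gen.g) 18176 [(18176, 20063), (18177, 17702), (18178, 17226), (18179, 17227), (18180, 16112), (18181, 16110), (18182, 20068), (18183, 17666), (18184, 16114), (18185, 17703), (18186, 16548), (18187, 16118), (18188, 17675), (18189, 17689), (18190, 17235), (18191, 17236), (18192, 17215), (18193, 20077), (18194, 16127), (18195, 16128), (18196, 16126), (18197, 20080), (18198, 20079), (18199, 20034), (18200, 20035), (18201, 17247), (18202, 17248), (18203, 20087), (18204, 17250), (18205, 17251), (18206, 17220), (18207, 16142), (18208, 16136), (18209, 20091), (18210, 16145), (18211, 17589), (18212, 16140), (18213, 20094), (18214, 17623), (18215, 16630), (18216, 16144), (18217, 20097), (18218, 20093), (18219, 16732), (18220, 16147), (18221, 20101), (18222, 16152), (18223, 16658), (18224, 16151), (18225, 20104), (18226, 20103), (18227, 16247), (18228, 17290), (18229, 17291), (18230, 16159), (18231, 20111), (18232, 20112),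 (18233, 17195), (18234, 17294), (18235, 17295), (18236, 18236), (18237, 18237), (18238, 18238), (18239, 16167)]
    ⟨e3 q18176 (flp_g L715454) q20063, e3 q18177 L695930 q17702, e3 q18178 L695941 q17226, e3 q18179 L695961 q17227, e3 q18180 L695973 q16112, e3 q18181 (flp_g L695981) q16110, e3 q18182 (flp_g L715543) q20068, e3 q18183 L696023 q17666, e3 q18184 L696041 q16114, e3 q18185 L696053 q17703, e3 q18186 L696076 q16548, e3 q18187 L696094 q16118, e3 q18188 L696109 q17675, e3 q18189 L696129 q17689, e3 q18190 L696143 q17235, e3 q18191 L696161 q17236, e3 q18192 L696175 q17215, e3 q18193 L715681 q20077, e3 q18194 L696203 q16127, e3 q18195 L696215 q16128, e3 q18196 (flp_g L696219) q16126, e3 q18197 (flp_g L715736) q20080, e3 q18198 (flp_g L715719) q20079, e3 q18199 (flp_g L715028) q20034, e3 q18200 (flp_g L715048) q20035, e3 q18201 L696295 q17247, e3 q18202 L696317 q17248, e3 q18203 L715829 q20087, e3 q18204 L696343 q17250, e3 q18205 L696351 q17251, e3 q18206 L696363 q17220, e3 q18207 L696377 q16142, e3 q18208 (flp_g L696385)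 q16136, e3 q18209 (flp_g L715895) q20091, e3 q18210 L696421 q16145, e3 q18211 L696437 q17589, e3 q18212 (flp_g L696445) q16140, e3 q18213 (flp_g L715935) q20094, e3 q18214 L696487 q17623, e3 q18215 L696505 q16630, e3 q18216 L696515 q16144, e3 q18217 (flp_g L715975) q20097, e3 q18218 (flp_g L715915) q20093, e3 q18219 L696544 q16732, e3 q18220 L696558 q16147, e3 q18221 (flp_g L716031) q20101, e3 q18222 L696581 q16152, e3 q18223 L696596 q16658, e3 q18224 L696612 q16151, e3 q18225 (flp_g L716064) q20104, e3 q18226 (flp_g L716051) q20103, e3 q18227 L696647 q16247, e3 q18228 L696658 q17290, e3 q18229 L696672 q17291, e3 q18230 L696686 q16159, e3 q18231 (flp_g L716159) q20111, e3 q18232 (flp_g L716177) q20112, e3 q18233 L696721 q17195, e3 q18234 L696734 q17294, e3 q18235 L696748 q17295, e3 q18236 L696754 q18236, e3 q18237 L696772 q18237, e3 q18238 L696786 q18238, e3 q18239 L696800 q16167, trivial⟩ (by decide +kernel)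

theorem ce_g_285 : ∀ r, r < 64 → sm gg (Qf (18240 + r)) = Qf (tab Gen.g (18240 + r)) :=
  edges_tab (sm gg) Qf (tab Gen.g) 18240 [(18240, 16969), (18241, 16168), (18242, 16169), (18243, 20125), (18244, 20127), (18245, 16171), (18246, 16172), (18247, 17486), (18248, 20130), (18249, 20131), (18250, 17300), (18251, 17301), (18252, 17302), (18253, 16981), (18254, 17303), (18255, 17304), (18256, 18256), (18257, 18257), (18258, 20148), (18259, 18259), (18260, 18260), (18261, 16185), (18262, 16990), (18263, 16186), (18264, 16187), (18265, 16993), (18266, 16188), (18267, 20151), (18268, 20153), (18269, 20154), (18270, 20156), (18271, 16189), (18272, 20161), (18273, 18273), (18274, 17001), (18275, 16194), (18276, 20165), (18277, 17487), (18278, 17489), (18279, 16359), (18280, 17315), (18281, 16313), (18282, 16360), (18283, 17316), (18284, 16361), (18285, 18285), (18286, 16208), (18287, 16209), (18288, 18075), (18289, 20176), (18290, 20177), (18291, 17505), (18292, 16379), (18293, 17327), (18294, 16380), (18295, 17328), (18296, 18296),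 (18297, 16221), (18298, 16222), (18299, 16880), (18300, 16910), (18301, 17333), (18302, 18302), (18303, 18303)]
    ⟨e3 q18240 L696813 q16969, e3 q18241 L696826 q16168, e3 q18242 L696834 q16169, e3 q18243 (flp_g L716349) q20125, e3 q18244 (flp_g L716376) q20127, e3 q18245 L696877 q16171, e3 q18246 L696894 q16172, e3 q18247 L696906 q17486, e3 q18248 (flp_g L716416) q20130, e3 q18249 (flp_g L716435) q20131, e3 q18250 L696940 q17300, e3 q18251 L696956 q17301, e3 q18252 L696968 q17302, e3 q18253 L696978 q16981, e3 q18254 L696988 q17303, e3 q18255 L696998 q17304, e3 q18256 L697010 q18256, e3 q18257 L697026 q18257, e3 q18258 L716639 q20148, e3 q18259 L697049 q18259, e3 q18260 L697058 q18260, e3 q18261 L697075 q16185, e3 q18262 L697090 q16990, e3 q18263 L697103 q16186, e3 q18264 L697111 q16187, e3 q18265 L697123 q16993, e3 q18266 L697133 q16188, e3 q18267 (flp_g L716683) q20151, e3 q18268 (flp_g L716712) q20153, e3 q18269 (flp_g L716720) q20154, e3 q18270 (flp_g L716742) q20156, e3 q18271 (flp_g L697189) q16189, e3 q18272 (flp_g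 L716809) q20161, e3 q18273 L697222 q18273, e3 q18274 L697235 q17001, e3 q18275 L697244 q16194, e3 q18276 (flp_g L716856) q20165, e3 q18277 L697272 q17487, e3 q18278 L697286 q17489, e3 q18279 L697301 q16359, e3 q18280 L697317 q17315, e3 q18281 L697326 q16313, e3 q18282 L697341 q16360, e3 q18283 L697353 q17316, e3 q18284 L697365 q16361, e3 q18285 L697381 q18285, e3 q18286 L697394 q16208, e3 q18287 L697403 q16209, e3 q18288 L697419 q18075, e3 q18289 (flp_g L717001) q20176, e3 q18290 (flp_g L717018) q20177, e3 q18291 L697461 q17505, e3 q18292 L697479 q16379, e3 q18293 L697491 q17327, e3 q18294 L697504 q16380, e3 q18295 L697516 q17328, e3 q18296 L697534 q18296, e3 q18297 L697550 q16221, e3 q18298 L697568 q16222, e3 q18299 L697590 q16880, e3 q18300 L697602 q16910, e3 q18301 L697620 q17333, e3 q18302 L697630 q18302, e3 q18303 L697648 q18303, trivial⟩ (by decide +kernel)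

theorem ce_g_286 : ∀ r, r < 64 → sm gg (Qf (18304 + r)) = Qf (tab Gen.g (18304 + r)) :=
  edges_tab (sm gg) Qf (tab Gen.g) 18304 [(18304, 16228), (18305, 20185), (18306, 16230), (18307, 20186), (18308, 20187), (18309, 16890), (18310, 17336), (18311, 17337), (18312, 18312), (18313, 18313), (18314, 16238), (18315, 16870), (18316, 16239), (18317, 16240), (18318, 20198), (18319, 20200), (18320, 16876), (18321, 16245), (18322, 20204), (18323, 17292), (18324, 17293), (18325, 20106), (18326, 20107), (18327, 17340), (18328, 17341), (18329, 17342), (18330, 18330), (18331, 16255), (18332, 17767), (18333, 16256), (18334, 16257), (18335, 20215), (18336, 20217), (18337, 16259), (18338, 16260), (18339, 20220), (18340, 20221), (18341, 17354), (18342, 17355), (18343, 20226), (18344, 17357), (18345, 17358), (18346, 18346), (18347, 16269), (18348, 16266), (18349, 20231), (18350, 16272), (18351, 20229), (18352, 18352), (18353, 16271), (18354, 20235), (18355, 20233), (18356, 16818), (18357, 16274), (18358, 20238), (18359, 16279), (18360, 18360),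 (18361, 16278), (18362, 20241), (18363, 18363), (18364, 17387), (18365, 16286), (18366, 17861), (18367, 18072)]
    ⟨e3 q18304 L697665 q16228, e3 q18305 (flp_g L717146) q20185, e3 q18306 L697694 q16230, e3 q18307 (flp_g L717159) q20186, e3 q18308 (flp_g L717175) q20187, e3 q18309 L697729 q16890, e3 q18310 L697742 q17336, e3 q18311 L697754 q17337, e3 q18312 L697762 q18312, e3 q18313 L697780 q18313, e3 q18314 L697794 q16238, e3 q18315 L697810 q16870, e3 q18316 L697824 q16239, e3 q18317 L697834 q16240, e3 q18318 (flp_g L717322) q20198, e3 q18319 (flp_g L717352) q20200, e3 q18320 L697880 q16876, e3 q18321 L697894 q16245, e3 q18322 (flp_g L717414) q20204, e3 q18323 L697920 q17292, e3 q18324 L697936 q17293, e3 q18325 (flp_g L716093) q20106, e3 q18326 (flp_g L716111) q20107, e3 q18327 L697969 q17340, e3 q18328 L697982 q17341, e3 q18329 L697994 q17342, e3 q18330 L698006 q18330, e3 q18331 L698020 q16255, e3 q18332 L698037 q17767, e3 q18333 L698050 q16256, e3 q18334 L698058 q16257, e3 q18335 (flp_g L717566) q20215, e3 q18336 (flp_g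 L717597) q20217, e3 q18337 L698099 q16259, e3 q18338 L698114 q16260, e3 q18339 (flp_g L717641) q20220, e3 q18340 (flp_g L717656) q20221, e3 q18341 L698152 q17354, e3 q18342 L698172 q17355, e3 q18343 L717718 q20226, e3 q18344 L698194 q17357, e3 q18345 L698202 q17358, e3 q18346 L698214 q18346, e3 q18347 L698229 q16269, e3 q18348 (flp_g L698233) q16266, e3 q18349 (flp_g L717800) q20231, e3 q18350 L698267 q16272, e3 q18351 (flp_g L717762) q20229, e3 q18352 L698300 q18352, e3 q18353 L698313 q16271, e3 q18354 (flp_g L717851) q20235, e3 q18355 (flp_g L717816) q20233, e3 q18356 L698354 q16818, e3 q18357 L698368 q16274, e3 q18358 (flp_g L717900) q20238, e3 q18359 L698387 q16279, e3 q18360 L698406 q18360, e3 q18361 L698419 q16278, e3 q18362 (flp_g L717934) q20241, e3 q18363 L698444 q18363, e3 q18364 L698462 q17387, e3 q18365 L698473 q16286, e3 q18366 L698487 q17861, e3 q18367 L698501 q18072, trivial⟩ (by decide +kernel)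

theorem ce_g_287 : ∀ r, r < 64 → sm gg (Qf (18368 + r)) = Qf (tab Gen.g (18368 + r)) :=
  edges_tab (sm gg) Qf (tab Gen.g) 18368 [(18368, 17398), (18369, 17399), (18370, 17400), (18371, 16291), (18372, 16292), (18373, 20171), (18374, 20252), (18375, 20253), (18376, 17406), (18377, 17407), (18378, 17408), (18379, 20266), (18380, 17410), (18381, 17411), (18382, 18382), (18383, 18383), (18384, 20271), (18385, 18385), (18386, 18386), (18387, 16305), (18388, 17803), (18389, 16306), (18390, 16307), (18391, 16302), (18392, 20279), (18393, 16310), (18394, 20274), (18395, 20276), (18396, 20277), (18397, 18397), (18398, 16309), (18399, 20285), (18400, 20281), (18401, 16314), (18402, 16315), (18403, 20168), (18404, 20139), (18405, 20172), (18406, 20296), (18407, 20289), (18408, 20290), (18409, 17439), (18410, 17440), (18411, 17441), (18412, 17442), (18413, 20307), (18414, 17444), (18415, 17445), (18416, 16319), (18417, 20312), (18418, 17448), (18419, 18419), (18420, 18420), (18421, 18421), (18422, 16324), (18423, 20319), (18424, 18424),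 (18425, 16336), (18426, 17838), (18427, 16337), (18428, 16338), (18429, 16330), (18430, 20327), (18431, 16341)]
    ⟨e3 q18368 L698510 q17398, e3 q18369 L698519 q17399, e3 q18370 L698532 q17400, e3 q18371 L698539 q16291, e3 q18372 L698553 q16292, e3 q18373 (flp_g L716940) q20171, e3 q18374 (flp_g L718055) q20252, e3 q18375 (flp_g L718070) q20253, e3 q18376 L698591 q17406, e3 q18377 L698603 q17407, e3 q18378 L698614 q17408, e3 q18379 L718208 q20266, e3 q18380 L698630 q17410, e3 q18381 L698638 q17411, e3 q18382 L698647 q18382, e3 q18383 L698665 q18383, e3 q18384 L718269 q20271, e3 q18385 L698692 q18385, e3 q18386 L698699 q18386, e3 q18387 L698715 q16305, e3 q18388 L698731 q17803, e3 q18389 L698745 q16306, e3 q18390 L698753 q16307, e3 q18391 (flp_g L698757) q16302, e3 q18392 (flp_g L718392) q20279, e3 q18393 L698783 q16310, e3 q18394 (flp_g L718321) q20274, e3 q18395 (flp_g L718351) q20276, e3 q18396 (flp_g L718361) q20277, e3 q18397 L698840 q18397, e3 q18398 L698852 q16309, e3 q18399 (flp_g L718465) q20285, e3 q18400 (flp_g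 L718406) q20281, e3 q18401 L698881 q16314, e3 q18402 L698892 q16315, e3 q18403 (flp_g L716897) q20168, e3 q18404 (flp_g L716537) q20139, e3 q18405 (flp_g L716954) q20172, e3 q18406 L718589 q20296, e3 q18407 (flp_g L718512) q20289, e3 q18408 (flp_g L718521) q20290, e3 q18409 L698968 q17439, e3 q18410 L698980 q17440, e3 q18411 L698992 q17441, e3 q18412 L698998 q17442, e3 q18413 L718735 q20307, e3 q18414 L699026 q17444, e3 q18415 L699034 q17445, e3 q18416 (flp_g L699036) q16319, e3 q18417 (flp_g L718797) q20312, e3 q18418 L699058 q17448, e3 q18419 L699068 q18419, e3 q18420 L699085 q18420, e3 q18421 L699096 q18421, e3 q18422 (flp_g L699099) q16324, e3 q18423 (flp_g L718874) q20319, e3 q18424 L699134 q18424, e3 q18425 L699149 q16336, e3 q18426 L699165 q17838, e3 q18427 L699179 q16337, e3 q18428 L699189 q16338, e3 q18429 (flp_g L699191) q16330, e3 q18430 (flp_g L718983) q20327, e3 q18431 L699225 q16341, trivial⟩ (by decide +kernel)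

theorem ce_g_288 : ∀ r, r < 64 → sm gg (Qf (18432 + r)) = Qf (tab Gen.g (18432 + r)) :=
  edges_tab (sm gg) Qf (tab Gen.g) 18432 [(18432, 16342), (18433, 20318), (18434, 16334), (18435, 20331), (18436, 16346), (18437, 20322), (18438, 20324), (18439, 20325), (18440, 18440), (18441, 16340), (18442, 20337), (18443, 20329), (18444, 18444), (18445, 16345), (18446, 20340), (18447, 20333), (18448, 16350), (18449, 16348), (18450, 20343), (18451, 18451), (18452, 20342), (18453, 16352), (18454, 20347), (18455, 16357), (18456, 18456), (18457, 16356), (18458, 20352), (18459, 20350), (18460, 17951), (18461, 20169), (18462, 20173), (18463, 17166), (18464, 17490), (18465, 17491), (18466, 17492), (18467, 17493), (18468, 17494), (18469, 17495), (18470, 17496), (18471, 17497), (18472, 18472), (18473, 18473), (18474, 18474), (18475, 16375), (18476, 16376), (18477, 16377), (18478, 20370), (18479, 20372), (18480, 17953), (18481, 20178), (18482, 16836), (18483, 17167), (18484, 17506), (18485, 17507), (18486, 17508), (18487, 18487), (18488, 18488),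 (18489, 18489), (18490, 16400), (18491, 16397), (18492, 16431), (18493, 18493), (18494, 16425), (18495, 17546)]
    ⟨e3 q18432 L699233 q16342, e3 q18433 (flp_g L718861) q20318, e3 q18434 L699253 q16334, e3 q18435 (flp_g L719023) q20331, e3 q18436 L699265 q16346, e3 q18437 (flp_g L718909) q20322, e3 q18438 (flp_g L718939) q20324, e3 q18439 (flp_g L718951) q20325, e3 q18440 L699324 q18440, e3 q18441 L699337 q16340, e3 q18442 (flp_g L719102) q20337, e3 q18443 (flp_g L719001) q20329, e3 q18444 L699373 q18444, e3 q18445 L699382 q16345, e3 q18446 (flp_g L719136) q20340, e3 q18447 (flp_g L719037) q20333, e3 q18448 L699414 q16350, e3 q18449 L699427 q16348, e3 q18450 (flp_g L719181) q20343, e3 q18451 L699450 q18451, e3 q18452 (flp_g L719166) q20342, e3 q18453 L699468 q16352, e3 q18454 (flp_g L719222) q20347, e3 q18455 L699482 q16357, e3 q18456 L699493 q18456, e3 q18457 L699501 q16356, e3 q18458 (flp_g L719266) q20352, e3 q18459 (flp_g L719243) q20350, e3 q18460 L699538 q17951, e3 q18461 (flp_g L716914) q20169, e3 q18462 (flp_g L716967)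 q20173, e3 q18463 L699578 q17166, e3 q18464 L699595 q17490, e3 q18465 L699603 q17491, e3 q18466 L699619 q17492, e3 q18467 L699631 q17493, e3 q18468 L699642 q17494, e3 q18469 L699657 q17495, e3 q18470 L699671 q17496, e3 q18471 L699680 q17497, e3 q18472 L699693 q18472, e3 q18473 L699704 q18473, e3 q18474 L699712 q18474, e3 q18475 L699726 q16375, e3 q18476 L699733 q16376, e3 q18477 L699740 q16377, e3 q18478 (flp_g L719492) q20370, e3 q18479 L719504 q20372, e3 q18480 L699782 q17953, e3 q18481 (flp_g L717031) q20178, e3 q18482 L699802 q16836, e3 q18483 L699824 q17167, e3 q18484 L699835 q17506, e3 q18485 L699846 q17507, e3 q18486 L699859 q17508, e3 q18487 L699871 q18487, e3 q18488 L699879 q18488, e3 q18489 L699890 q18489, e3 q18490 L699912 q16400, e3 q18491 L699928 q16397, e3 q18492 L699945 q16431, e3 q18493 L699959 q18493, e3 q18494 L699978 q16425, e3 q18495 L699996 q17546, trivial⟩ (by decide +kernel)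

theorem ce_g_289 : ∀ r, r < 64 → sm gg (Qf (18496 + r)) = Qf (tab Gen.g (18496 + r)) :=
  edges_tab (sm gg) Qf (tab Gen.g) 18496 [(18496, 16565), (18497, 16407), (18498, 16408), (18499, 20376), (18500, 16413), (18501, 16414), (18502, 16435), (18503, 16434), (18504, 20378), (18505, 16675), (18506, 16459), (18507, 16460), (18508, 16583), (18509, 16422), (18510, 16446), (18511, 16444), (18512, 20383), (18513, 16456), (18514, 16451), (18515, 16436), (18516, 17207), (18517, 20380), (18518, 16463), (18519, 20379), (18520, 20388), (18521, 17206), (18522, 16624), (18523, 16447), (18524, 17532), (18525, 20385), (18526, 17537), (18527, 20384), (18528, 17549), (18529, 20387), (18530, 17545), (18531, 20386), (18532, 17528), (18533, 20382), (18534, 16464), (18535, 16469), (18536, 20391), (18537, 20404), (18538, 16694), (18539, 16695), (18540, 16468), (18541, 16470), (18542, 16480), (18543, 16479), (18544, 20408), (18545, 20405), (18546, 20409), (18547, 17525), (18548, 16712), (18549, 16481), (18550, 16502), (18551, 16482), (18552, 16483),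 (18553, 20411), (18554, 20410), (18555, 20416), (18556, 20418), (18557, 17514), (18558, 16487), (18559, 20402)]
    ⟨e3 q18496 L700014 q16565, e3 q18497 L700030 q16407, e3 q18498 L700051 q16408, e3 q18499 (flp_g L719576) q20376, e3 q18500 L700081 q16413, e3 q18501 L700101 q16414, e3 q18502 L700113 q16435, e3 q18503 L700132 q16434, e3 q18504 (flp_g L719612) q20378, e3 q18505 L700164 q16675, e3 q18506 L700178 q16459, e3 q18507 L700199 q16460, e3 q18508 L700215 q16583, e3 q18509 L700231 q16422, e3 q18510 L700247 q16446, e3 q18511 L700265 q16444, e3 q18512 (flp_g L719690) q20383, e3 q18513 L700291 q16456, e3 q18514 L700308 q16451, e3 q18515 L700321 q16436, e3 q18516 L700332 q17207, e3 q18517 (flp_g L719646) q20380, e3 q18518 L700366 q16463, e3 q18519 (flp_g L719629) q20379, e3 q18520 (flp_g L719766) q20388, e3 q18521 L700397 q17206, e3 q18522 L700415 q16624, e3 q18523 L700421 q16447, e3 q18524 L700435 q17532, e3 q18525 (flp_g L719722) q20385, e3 q18526 L700459 q17537, e3 q18527 (flp_g L719706) q20384, e3 q18528 L700481 q17549,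 e3 q18529 (flp_g L719751) q20387, e3 q18530 L700505 q17545, e3 q18531 (flp_g L719734) q20386, e3 q18532 L700530 q17528, e3 q18533 (flp_g L719678) q20382, e3 q18534 L700561 q16464, e3 q18535 L700572 q16469, e3 q18536 (flp_g L719814) q20391, e3 q18537 (flp_g L719998) q20404, e3 q18538 L700609 q16694, e3 q18539 L700627 q16695, e3 q18540 L700641 q16468, e3 q18541 L700656 q16470, e3 q18542 L700663 q16480, e3 q18543 L700683 q16479, e3 q18544 (flp_g L720062) q20408, e3 q18545 (flp_g L720015) q20405, e3 q18546 (flp_g L720070) q20409, e3 q18547 L700731 q17525, e3 q18548 L700745 q16712, e3 q18549 L700757 q16481, e3 q18550 L700777 q16502, e3 q18551 L700789 q16482, e3 q18552 L700797 q16483, e3 q18553 (flp_g L720105) q20411, e3 q18554 (flp_g L720087) q20410, e3 q18555 (flp_g L720161) q20416, e3 q18556 (flp_g L720191) q20418, e3 q18557 L700848 q17514, e3 q18558 L700861 q16487, e3 q18559 (flp_g L719967) q20402, trivial⟩ (by decide +kernel)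

theorem ce_g_290 : ∀ r, r < 64 → sm gg (Qf (18560 + r)) = Qf (tab Gen.g (18560 + r)) :=
  edges_tab (sm gg) Qf (tab Gen.g) 18560 [(18560, 16491), (18561, 16492), (18562, 17980), (18563, 20400), (18564, 17210), (18565, 16759), (18566, 16503), (18567, 16505), (18568, 16506), (18569, 17516), (18570, 20417), (18571, 20429), (18572, 20014), (18573, 20430), (18574, 17533), (18575, 17534), (18576, 16787), (18577, 16518), (18578, 16519), (18579, 16522), (18580, 17512), (18581, 17519), (18582, 17520), (18583, 20010), (18584, 20437), (18585, 20438), (18586, 16521), (18587, 20446), (18588, 20439), (18589, 16527), (18590, 17551), (18591, 20426), (18592, 16531), (18593, 17515), (18594, 17522), (18595, 20424), (18596, 16535), (18597, 16537), (18598, 17711), (18599, 16542), (18600, 17718), (18601, 18601), (18602, 16549), (18603, 16559), (18604, 16562), (18605, 16691), (18606, 17228), (18607, 17232), (18608, 16631), (18609, 17991), (18610, 16568), (18611, 20457), (18612, 16679), (18613, 17553), (18614, 17554), (18615, 16613), (18616, 17990),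 (18617, 16575), (18618, 16576), (18619, 16577), (18620, 20464), (18621, 20466), (18622, 20467), (18623, 16579)]
    ⟨e3 q18560 L700883 q16491, e3 q18561 L700900 q16492, e3 q18562 L700913 q17980, e3 q18563 (flp_g L719933) q20400, e3 q18564 L700935 q17210, e3 q18565 L700951 q16759, e3 q18566 L700962 q16503, e3 q18567 L700973 q16505, e3 q18568 L700979 q16506, e3 q18569 L700996 q17516, e3 q18570 (flp_g L720179) q20417, e3 q18571 (flp_g L720321) q20429, e3 q18572 (flp_g L714713) q20014, e3 q18573 (flp_g L720333) q20430, e3 q18574 L701046 q17533, e3 q18575 L701052 q17534, e3 q18576 L701062 q16787, e3 q18577 L701075 q16518, e3 q18578 L701085 q16519, e3 q18579 L701095 q16522, e3 q18580 L701111 q17512, e3 q18581 L701126 q17519, e3 q18582 L701138 q17520, e3 q18583 (flp_g L714642) q20010, e3 q18584 (flp_g L720411) q20437, e3 q18585 (flp_g L720419) q20438, e3 q18586 L701175 q16521, e3 q18587 (flp_g L720506) q20446, e3 q18588 (flp_g L720429) q20439, e3 q18589 L701197 q16527, e3 q18590 L701206 q17551, e3 q18591 (flp_g L720277) q20426,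 e3 q18592 L701223 q16531, e3 q18593 L701237 q17515, e3 q18594 L701248 q17522, e3 q18595 (flp_g L720252) q20424, e3 q18596 L701273 q16535, e3 q18597 L701290 q16537, e3 q18598 L701309 q17711, e3 q18599 L701322 q16542, e3 q18600 L701340 q17718, e3 q18601 L701359 q18601, e3 q18602 L701376 q16549, e3 q18603 L701393 q16559, e3 q18604 L701411 q16562, e3 q18605 L701426 q16691, e3 q18606 L701438 q17228, e3 q18607 L701453 q17232, e3 q18608 L701463 q16631, e3 q18609 L701478 q17991, e3 q18610 L701492 q16568, e3 q18611 (flp_g L720651) q20457, e3 q18612 L701515 q16679, e3 q18613 L701527 q17553, e3 q18614 L701542 q17554, e3 q18615 L701550 q16613, e3 q18616 L701566 q17990, e3 q18617 L701576 q16575, e3 q18618 L701595 q16576, e3 q18619 L701608 q16577, e3 q18620 (flp_g L720752) q20464, e3 q18621 (flp_g L720782) q20466, e3 q18622 (flp_g L720790) q20467, e3 q18623 L701658 q16579, trivial⟩ (by decide +kernel)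

theorem ce_g_291 : ∀ r, r < 64 → sm gg (Qf (18624 + r)) = Qf (tab Gen.g (18624 + r)) :=
  edges_tab (sm gg) Qf (tab Gen.g) 18624 [(18624, 20470), (18625, 20471), (18626, 17559), (18627, 17560), (18628, 17561), (18629, 16634), (18630, 16588), (18631, 17650), (18632, 16589), (18633, 16590), (18634, 20040), (18635, 20480), (18636, 20482), (18637, 17692), (18638, 16594), (18639, 20487), (18640, 16596), (18641, 17567), (18642, 17568), (18643, 16602), (18644, 20489), (18645, 17334), (18646, 17335), (18647, 17668), (18648, 17988), (18649, 17574), (18650, 17575), (18651, 17576), (18652, 17680), (18653, 16612), (18654, 16614), (18655, 20504), (18656, 16616), (18657, 16617), (18658, 20502), (18659, 20463), (18660, 20503), (18661, 16615), (18662, 20510), (18663, 20506), (18664, 16619), (18665, 16620), (18666, 20513), (18667, 20514), (18668, 16774), (18669, 17584), (18670, 17585), (18671, 20522), (18672, 17587), (18673, 17588), (18674, 20394), (18675, 16632), (18676, 16635), (18677, 16627), (18678, 20527), (18679, 16638), (18680, 20096),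 (18681, 20456), (18682, 20525), (18683, 16633), (18684, 20533), (18685, 20479), (18686, 20526), (18687, 16637)]
    ⟨e3 q18624 (flp_g L720832) q20470, e3 q18625 (flp_g L720852) q20471, e3 q18626 L701692 q17559, e3 q18627 L701702 q17560, e3 q18628 L701714 q17561, e3 q18629 L701726 q16634, e3 q18630 L701740 q16588, e3 q18631 L701756 q17650, e3 q18632 L701768 q16589, e3 q18633 L701776 q16590, e3 q18634 (flp_g L715116) q20040, e3 q18635 (flp_g L720968) q20480, e3 q18636 (flp_g L720996) q20482, e3 q18637 L701820 q17692, e3 q18638 L701834 q16594, e3 q18639 (flp_g L721065) q20487, e3 q18640 L701861 q16596, e3 q18641 L701877 q17567, e3 q18642 L701890 q17568, e3 q18643 L701905 q16602, e3 q18644 (flp_g L721097) q20489, e3 q18645 L701930 q17334, e3 q18646 L701944 q17335, e3 q18647 L701954 q17668, e3 q18648 L701967 q17988, e3 q18649 L701977 q17574, e3 q18650 L701984 q17575, e3 q18651 L701994 q17576, e3 q18652 L702002 q17680, e3 q18653 L702009 q16612, e3 q18654 L702022 q16614, e3 q18655 L721244 q20504, e3 q18656 L702034 q16616, e3 q18657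 L702038 q16617, e3 q18658 (flp_g L721232) q20502, e3 q18659 (flp_g L720737) q20463, e3 q18660 (flp_g L721240) q20503, e3 q18661 (flp_g L702073) q16615, e3 q18662 (flp_g L721314) q20510, e3 q18663 (flp_g L721268) q20506, e3 q18664 L702113 q16619, e3 q18665 L702131 q16620, e3 q18666 (flp_g L721345) q20513, e3 q18667 (flp_g L721365) q20514, e3 q18668 L702157 q16774, e3 q18669 L702167 q17584, e3 q18670 L702177 q17585, e3 q18671 L721441 q20522, e3 q18672 L702191 q17587, e3 q18673 L702197 q17588, e3 q18674 (flp_g L719856) q20394, e3 q18675 L702213 q16632, e3 q18676 L702219 q16635, e3 q18677 (flp_g L702221) q16627, e3 q18678 (flp_g L721493) q20527, e3 q18679 L702243 q16638, e3 q18680 (flp_g L715965) q20096, e3 q18681 (flp_g L720641) q20456, e3 q18682 (flp_g L721473) q20525, e3 q18683 (flp_g L702273) q16633, e3 q18684 (flp_g L721555) q20533, e3 q18685 (flp_g L720954) q20479, e3 q18686 (flp_g L721477) q20526, e3 q18687 L702323 q16637, trivial⟩ (by decide +kernel)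

theorem ce_g_292 : ∀ r, r < 64 → sm gg (Qf (18688 + r)) = Qf (tab Gen.g (18688 + r)) :=
  edges_tab (sm gg) Qf (tab Gen.g) 18688 [(18688, 20536), (18689, 20529), (18690, 16641), (18691, 20539), (18692, 16645), (18693, 16644), (18694, 20542), (18695, 20541), (18696, 17712), (18697, 17713), (18698, 16819), (18699, 17600), (18700, 17601), (18701, 17602), (18702, 17603), (18703, 16659), (18704, 16660), (18705, 20547), (18706, 20548), (18707, 16734), (18708, 16820), (18709, 16821), (18710, 16672), (18711, 17557), (18712, 17558), (18713, 20060), (18714, 16678), (18715, 20552), (18716, 20458), (18717, 20459), (18718, 17590), (18719, 17586), (18720, 17593), (18721, 17678), (18722, 16686), (18723, 16687), (18724, 16688), (18725, 20561), (18726, 20562), (18727, 16854), (18728, 17362), (18729, 17374), (18730, 20452), (18731, 20453), (18732, 17608), (18733, 17609), (18734, 17610), (18735, 16720), (18736, 20407), (18737, 16699), (18738, 16700), (18739, 16701), (18740, 20028), (18741, 16702), (18742, 16703), (18743, 20581), (18744, 20583),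 (18745, 20584), (18746, 20586), (18747, 16705), (18748, 16706), (18749, 20090), (18750, 20591), (18751, 20592)]
    ⟨e3 q18688 (flp_g L721591) q20536, e3 q18689 (flp_g L721503) q20529, e3 q18690 L702353 q16641, e3 q18691 (flp_g L721633) q20539, e3 q18692 L702366 q16645, e3 q18693 L702381 q16644, e3 q18694 (flp_g L721664) q20542, e3 q18695 (flp_g L721649) q20541, e3 q18696 L702424 q17712, e3 q18697 L702434 q17713, e3 q18698 L702449 q16819, e3 q18699 L702459 q17600, e3 q18700 L702477 q17601, e3 q18701 L702487 q17602, e3 q18702 L702500 q17603, e3 q18703 L702515 q16659, e3 q18704 L702522 q16660, e3 q18705 (flp_g L721732) q20547, e3 q18706 (flp_g L721749) q20548, e3 q18707 L702558 q16734, e3 q18708 L702572 q16820, e3 q18709 L702582 q16821, e3 q18710 L702598 q16672, e3 q18711 L702613 q17557, e3 q18712 L702631 q17558, e3 q18713 (flp_g L715402) q20060, e3 q18714 L702656 q16678, e3 q18715 (flp_g L721808) q20552, e3 q18716 (flp_g L720663) q20458, e3 q18717 (flp_g L720682) q20459, e3 q18718 L702699 q17590, e3 q18719 L702708 q17586,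 e3 q18720 L702720 q17593, e3 q18721 L702732 q17678, e3 q18722 L702741 q16686, e3 q18723 L702758 q16687, e3 q18724 L702764 q16688, e3 q18725 (flp_g L721913) q20561, e3 q18726 (flp_g L721923) q20562, e3 q18727 L702797 q16854, e3 q18728 L702808 q17362, e3 q18729 L702822 q17374, e3 q18730 (flp_g L720580) q20452, e3 q18731 (flp_g L720597) q20453, e3 q18732 L702851 q17608, e3 q18733 L702860 q17609, e3 q18734 L702872 q17610, e3 q18735 L702880 q16720, e3 q18736 (flp_g L720045) q20407, e3 q18737 L702900 q16699, e3 q18738 L702920 q16700, e3 q18739 L702935 q16701, e3 q18740 (flp_g L714941) q20028, e3 q18741 L702951 q16702, e3 q18742 L702957 q16703, e3 q18743 (flp_g L722143) q20581, e3 q18744 (flp_g L722175) q20583, e3 q18745 (flp_g L722185) q20584, e3 q18746 (flp_g L722202) q20586, e3 q18747 L703010 q16705, e3 q18748 L703022 q16706, e3 q18749 (flp_g L715881) q20090, e3 q18750 (flp_g L722256) q20591, e3 q18751 (flp_g L722268) q20592, trivial⟩ (by decide +kernel)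

theorem ce_g_293 : ∀ r, r < 64 → sm gg (Qf (18752 + r)) = Qf (tab Gen.g (18752 + r)) :=
  edges_tab (sm gg) Qf (tab Gen.g) 18752 [(18752, 16785), (18753, 17619), (18754, 17620), (18755, 20036), (18756, 17621), (18757, 17622), (18758, 17595), (18759, 20598), (18760, 17625), (18761, 20415), (18762, 16719), (18763, 16721), (18764, 20045), (18765, 16722), (18766, 16723), (18767, 20048), (18768, 16724), (18769, 20609), (18770, 20579), (18771, 20610), (18772, 20612), (18773, 20613), (18774, 20615), (18775, 16725), (18776, 20622), (18777, 17633), (18778, 20056), (18779, 16730), (18780, 20625), (18781, 16810), (18782, 20100), (18783, 20002), (18784, 20549), (18785, 16808), (18786, 17630), (18787, 17631), (18788, 17571), (18789, 17605), (18790, 16745), (18791, 16746), (18792, 16747), (18793, 20631), (18794, 20632), (18795, 20633), (18796, 17466), (18797, 17482), (18798, 17452), (18799, 17436), (18800, 17455), (18801, 16752), (18802, 16753), (18803, 20495), (18804, 20645), (18805, 20646), (18806, 17636), (18807, 17637), (18808, 17638),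 (18809, 20658), (18810, 17639), (18811, 17640), (18812, 17579), (18813, 20573), (18814, 17613), (18815, 20428)]
    ⟨e3 q18752 L703060 q16785, e3 q18753 L703068 q17619, e3 q18754 L703080 q17620, e3 q18755 (flp_g L715062) q20036, e3 q18756 L703098 q17621, e3 q18757 L703106 q17622, e3 q18758 L703116 q17595, e3 q18759 (flp_g L722330) q20598, e3 q18760 L703140 q17625, e3 q18761 (flp_g L720149) q20415, e3 q18762 L703158 q16719, e3 q18763 L703172 q16721, e3 q18764 (flp_g L715194) q20045, e3 q18765 L703190 q16722, e3 q18766 L703198 q16723, e3 q18767 (flp_g L715233) q20048, e3 q18768 L703214 q16724, e3 q18769 (flp_g L722448) q20609, e3 q18770 (flp_g L722120) q20579, e3 q18771 (flp_g L722456) q20610, e3 q18772 (flp_g L722475) q20612, e3 q18773 (flp_g L722481) q20613, e3 q18774 (flp_g L722495) q20615, e3 q18775 (flp_g L703267) q16725, e3 q18776 (flp_g L722569) q20622, e3 q18777 L703303 q17633, e3 q18778 (flp_g L715344) q20056, e3 q18779 L703322 q16730, e3 q18780 (flp_g L722600) q20625, e3 q18781 L703341 q16810, e3 q18782 (flp_g L716013)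 q20100, e3 q18783 (flp_g L714509) q20002, e3 q18784 (flp_g L721765) q20549, e3 q18785 L703390 q16808, e3 q18786 L703400 q17630, e3 q18787 L703411 q17631, e3 q18788 L703424 q17571, e3 q18789 L703439 q17605, e3 q18790 L703452 q16745, e3 q18791 L703462 q16746, e3 q18792 L703471 q16747, e3 q18793 (flp_g L722684) q20631, e3 q18794 (flp_g L722693) q20632, e3 q18795 (flp_g L722704) q20633, e3 q18796 L703505 q17466, e3 q18797 L703519 q17482, e3 q18798 L703526 q17452, e3 q18799 L703535 q17436, e3 q18800 L703548 q17455, e3 q18801 L703556 q16752, e3 q18802 L703571 q16753, e3 q18803 (flp_g L721166) q20495, e3 q18804 (flp_g L722829) q20645, e3 q18805 (flp_g L722845) q20646, e3 q18806 L703607 q17636, e3 q18807 L703621 q17637, e3 q18808 L703632 q17638, e3 q18809 L722958 q20658, e3 q18810 L703644 q17639, e3 q18811 L703650 q17640, e3 q18812 L703661 q17579, e3 q18813 (flp_g L722052) q20573, e3 q18814 L703681 q17613, e3 q18815 (flp_g L720307) q20428, trivial⟩ (by decide +kernel)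

theorem ce_g_294 : ∀ r, r < 64 → sm gg (Qf (18816 + r)) = Qf (tab Gen.g (18816 + r)) :=
  edges_tab (sm gg) Qf (tab Gen.g) 18816 [(18816, 16766), (18817, 20039), (18818, 16767), (18819, 16768), (18820, 16763), (18821, 20668), (18822, 16771), (18823, 20664), (18824, 20666), (18825, 20667), (18826, 16770), (18827, 20674), (18828, 20670), (18829, 16775), (18830, 16776), (18831, 20517), (18832, 20518), (18833, 20599), (18834, 20678), (18835, 20679), (18836, 17655), (18837, 17656), (18838, 17657), (18839, 17658), (18840, 20695), (18841, 17660), (18842, 17661), (18843, 16780), (18844, 20700), (18845, 17664), (18846, 20555), (18847, 17596), (18848, 17597), (18849, 20600), (18850, 17626), (18851, 16797), (18852, 20460), (18853, 16798), (18854, 16799), (18855, 16791), (18856, 20712), (18857, 16802), (18858, 16803), (18859, 20582), (18860, 16795), (18861, 20717), (18862, 16807), (18863, 20708), (18864, 20710), (18865, 20711), (18866, 16801), (18867, 20722), (18868, 20714), (18869, 20715), (18870, 17993), (18871, 16806), (18872, 20728),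 (18873, 20719), (18874, 20629), (18875, 17634), (18876, 20626), (18877, 16812), (18878, 20730), (18879, 16817)]
    ⟨e3 q18816 L703702 q16766, e3 q18817 (flp_g L715102) q20039, e3 q18818 L703726 q16767, e3 q18819 L703732 q16768, e3 q18820 (flp_g L703736) q16763, e3 q18821 (flp_g L723067) q20668, e3 q18822 L703752 q16771, e3 q18823 (flp_g L723027) q20664, e3 q18824 (flp_g L723051) q20666, e3 q18825 (flp_g L723057) q20667, e3 q18826 L703792 q16770, e3 q18827 (flp_g L723116) q20674, e3 q18828 (flp_g L723077) q20670, e3 q18829 L703809 q16775, e3 q18830 L703819 q16776, e3 q18831 (flp_g L721391) q20517, e3 q18832 (flp_g L721405) q20518, e3 q18833 (flp_g L722342) q20599, e3 q18834 (flp_g L723146) q20678, e3 q18835 (flp_g L723152) q20679, e3 q18836 L703875 q17655, e3 q18837 L703887 q17656, e3 q18838 L703901 q17657, e3 q18839 L703907 q17658, e3 q18840 L723317 q20695, e3 q18841 L703925 q17660, e3 q18842 L703933 q17661, e3 q18843 (flp_g L703935) q16780, e3 q18844 (flp_g L723365) q20700, e3 q18845 L703955 q17664, e3 q18846 (flp_g L721841)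 q20555, e3 q18847 L703975 q17596, e3 q18848 L703985 q17597, e3 q18849 (flp_g L722354) q20600, e3 q18850 L704005 q17626, e3 q18851 L704019 q16797, e3 q18852 (flp_g L720694) q20460, e3 q18853 L704047 q16798, e3 q18854 L704057 q16799, e3 q18855 (flp_g L704061) q16791, e3 q18856 (flp_g L723492) q20712, e3 q18857 L704081 q16802, e3 q18858 L704085 q16803, e3 q18859 (flp_g L722161) q20582, e3 q18860 L704101 q16795, e3 q18861 (flp_g L723523) q20717, e3 q18862 L704109 q16807, e3 q18863 (flp_g L723438) q20708, e3 q18864 (flp_g L723467) q20710, e3 q18865 (flp_g L723477) q20711, e3 q18866 L704152 q16801, e3 q18867 (flp_g L723564) q20722, e3 q18868 (flp_g L723502) q20714, e3 q18869 (flp_g L723507) q20715, e3 q18870 L704175 q17993, e3 q18871 L704183 q16806, e3 q18872 (flp_g L723607) q20728, e3 q18873 (flp_g L723533) q20719, e3 q18874 (flp_g L722662) q20629, e3 q18875 L704211 q17634, e3 q18876 (flp_g L722619) q20626, e3 q18877 L704234 q16812, e3 q18878 (flp_g L723628) q20730, e3 q18879 L704246 q16817, trivial⟩ (by decide +kernel)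

theorem ce_g_295 : ∀ r, r < 64 → sm gg (Qf (18880 + r)) = Qf (tab Gen.g (18880 + r)) :=
  edges_tab (sm gg) Qf (tab Gen.g) 18880 [(18880, 16816), (18881, 20734), (18882, 20733), (18883, 20230), (18884, 20237), (18885, 20543), (18886, 20374), (18887, 16925), (18888, 17694), (18889, 17695), (18890, 17696), (18891, 17697), (18892, 17698), (18893, 17699), (18894, 17700), (18895, 17701), (18896, 17504), (18897, 17606), (18898, 16833), (18899, 16834), (18900, 16835), (18901, 17714), (18902, 17715), (18903, 17717), (18904, 16848), (18905, 20753), (18906, 16851), (18907, 16853), (18908, 20565), (18909, 20566), (18910, 17366), (18911, 17356), (18912, 17369), (18913, 18913), (18914, 18914), (18915, 16861), (18916, 16862), (18917, 20762), (18918, 16864), (18919, 16865), (18920, 20764), (18921, 20765), (18922, 20193), (18923, 17726), (18924, 17727), (18925, 18925), (18926, 18926), (18927, 20199), (18928, 16873), (18929, 20772), (18930, 18930), (18931, 20203), (18932, 16878), (18933, 20180), (18934, 20181), (18935, 16906), (18936, 17729),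 (18937, 17730), (18938, 16884), (18939, 16885), (18940, 20782), (18941, 20783), (18942, 20191), (18943, 17736)]
    ⟨e3 q18880 L704252 q16816, e3 q18881 (flp_g L723656) q20734, e3 q18882 (flp_g L723649) q20733, e3 q18883 (flp_g L717786) q20230, e3 q18884 (flp_g L717884) q20237, e3 q18885 (flp_g L721683) q20543, e3 q18886 (flp_g L719537) q20374, e3 q18887 L704326 q16925, e3 q18888 L704340 q17694, e3 q18889 L704349 q17695, e3 q18890 L704364 q17696, e3 q18891 L704376 q17697, e3 q18892 L704386 q17698, e3 q18893 L704396 q17699, e3 q18894 L704405 q17700, e3 q18895 L704412 q17701, e3 q18896 L704422 q17504, e3 q18897 L704433 q17606, e3 q18898 L704445 q16833, e3 q18899 L704454 q16834, e3 q18900 L704463 q16835, e3 q18901 L704477 q17714, e3 q18902 L704488 q17715, e3 q18903 L704502 q17717, e3 q18904 L704522 q16848, e3 q18905 (flp_g L723873) q20753, e3 q18906 L704547 q16851, e3 q18907 L704561 q16853, e3 q18908 (flp_g L721955) q20565, e3 q18909 (flp_g L721973) q20566, e3 q18910 L704600 q17366, e3 q18911 L704613 q17356, e3 q18912 L704627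 q17369, e3 q18913 L704635 q18913, e3 q18914 L704651 q18914, e3 q18915 L704665 q16861, e3 q18916 L704673 q16862, e3 q18917 (flp_g L723992) q20762, e3 q18918 L704699 q16864, e3 q18919 L704714 q16865, e3 q18920 (flp_g L724018) q20764, e3 q18921 (flp_g L724033) q20765, e3 q18922 (flp_g L717261) q20193, e3 q18923 L704760 q17726, e3 q18924 L704770 q17727, e3 q18925 L704786 q18925, e3 q18926 L704795 q18926, e3 q18927 (flp_g L717338) q20199, e3 q18928 L704820 q16873, e3 q18929 (flp_g L724110) q20772, e3 q18930 L704843 q18930, e3 q18931 (flp_g L717403) q20203, e3 q18932 L704858 q16878, e3 q18933 (flp_g L717065) q20180, e3 q18934 (flp_g L717085) q20181, e3 q18935 L704888 q16906, e3 q18936 L704896 q17729, e3 q18937 L704907 q17730, e3 q18938 L704914 q16884, e3 q18939 L704929 q16885, e3 q18940 (flp_g L724207) q20782, e3 q18941 (flp_g L724222) q20783, e3 q18942 (flp_g L717226) q20191, e3 q18943 L704975 q17736, trivial⟩ (by decide +kernel)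

theorem ce_g_296 : ∀ r, r < 64 → sm gg (Qf (18944 + r)) = Qf (tab Gen.g (18944 + r)) :=
  edges_tab (sm gg) Qf (tab Gen.g) 18944 [(18944, 17737), (18945, 20490), (18946, 18946), (18947, 18947), (18948, 20192), (18949, 16893), (18950, 20792), (18951, 16896), (18952, 16897), (18953, 16898), (18954, 20793), (18955, 20794), (18956, 20777), (18957, 20796), (18958, 20797), (18959, 17751), (18960, 17752), (18961, 17753), (18962, 20182), (18963, 17755), (18964, 17756), (18965, 16902), (18966, 20808), (18967, 17758), (18968, 18968), (18969, 20778), (18970, 18970), (18971, 16916), (18972, 20183), (18973, 16917), (18974, 20739), (18975, 16914), (18976, 20815), (18977, 16921), (18978, 18978), (18979, 16920), (18980, 20819), (18981, 20817), (18982, 16923), (18983, 20820), (18984, 18984), (18985, 20740), (18986, 16927), (18987, 20823), (18988, 16932), (18989, 18989), (18990, 16931), (18991, 16936), (18992, 17783), (18993, 17778), (18994, 17779), (18995, 17735), (18996, 17740), (18997, 18997), (18998, 16947), (18999, 16949), (19000, 16950),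 (19001, 20742), (19002, 20833), (19003, 20834), (19004, 17754), (19005, 17770), (19006, 17757), (19007, 17772)]
    ⟨e3 q18944 L704985 q17737, e3 q18945 (flp_g L721111) q20490, e3 q18946 L705011 q18946, e3 q18947 L705020 q18947, e3 q18948 (flp_g L717243) q20192, e3 q18949 L705044 q16893, e3 q18950 (flp_g L724322) q20792, e3 q18951 L705065 q16896, e3 q18952 L705077 q16897, e3 q18953 L705086 q16898, e3 q18954 (flp_g L724339) q20793, e3 q18955 (flp_g L724358) q20794, e3 q18956 (flp_g L724160) q20777, e3 q18957 (flp_g L724375) q20796, e3 q18958 (flp_g L724382) q20797, e3 q18959 L705148 q17751, e3 q18960 L705168 q17752, e3 q18961 L705178 q17753, e3 q18962 (flp_g L717099) q20182, e3 q18963 L705212 q17755, e3 q18964 L705222 q17756, e3 q18965 (flp_g L705228) q16902, e3 q18966 (flp_g L724532) q20808, e3 q18967 L705246 q17758, e3 q18968 L705258 q18968, e3 q18969 (flp_g L724173) q20778, e3 q18970 L705281 q18970, e3 q18971 L705292 q16916, e3 q18972 (flp_g L717119) q20183, e3 q18973 L705324 q16917, e3 q18974 (flp_g L723717) q20739, e3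 q18975 L705350 q16914, e3 q18976 (flp_g L724599) q20815, e3 q18977 L705358 q16921, e3 q18978 L705374 q18978, e3 q18979 L705383 q16920, e3 q18980 (flp_g L724636) q20819, e3 q18981 (flp_g L724611) q20817, e3 q18982 L705414 q16923, e3 q18983 (flp_g L724649) q20820, e3 q18984 L705427 q18984, e3 q18985 (flp_g L723734) q20740, e3 q18986 L705455 q16927, e3 q18987 (flp_g L724682) q20823, e3 q18988 L705467 q16932, e3 q18989 L705484 q18989, e3 q18990 L705492 q16931, e3 q18991 L705506 q16936, e3 q18992 L705522 q17783, e3 q18993 L705532 q17778, e3 q18994 L705550 q17779, e3 q18995 L705560 q17735, e3 q18996 L705572 q17740, e3 q18997 L705582 q18997, e3 q18998 L705589 q16947, e3 q18999 L705600 q16949, e3 q19000 L705612 q16950, e3 q19001 (flp_g L723758) q20742, e3 q19002 (flp_g L724790) q20833, e3 q19003 (flp_g L724803) q20834, e3 q19004 L705647 q17754, e3 q19005 L705656 q17770, e3 q19006 L705664 q17757, e3 q19007 L705672 q17772, trivial⟩ (by decide +kernel)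

theorem ce_g_297 : ∀ r, r < 64 → sm gg (Qf (19008 + r)) = Qf (tab Gen.g (19008 + r)) :=
  edges_tab (sm gg) Qf (tab Gen.g) 19008 [(19008, 19008), (19009, 19009), (19010, 16958), (19011, 20844), (19012, 17745), (19013, 17777), (19014, 17787), (19015, 17788), (19016, 17789), (19017, 16963), (19018, 16964), (19019, 20852), (19020, 20853), (19021, 20118), (19022, 17792), (19023, 17793), (19024, 20859), (19025, 19025), (19026, 19026), (19027, 20126), (19028, 16972), (19029, 20863), (19030, 16975), (19031, 16976), (19032, 16977), (19033, 20865), (19034, 20866), (19035, 20874), (19036, 20868), (19037, 20869), (19038, 17804), (19039, 17805), (19040, 17806), (19041, 20140), (19042, 17807), (19043, 17808), (19044, 20143), (19045, 17809), (19046, 20887), (19047, 19047), (19048, 19048), (19049, 16986), (19050, 20890), (19051, 19051), (19052, 16995), (19053, 20152), (19054, 16996), (19055, 20155), (19056, 16997), (19057, 20894), (19058, 20896), (19059, 16999), (19060, 20898), (19061, 19061), (19062, 20164), (19063, 17003), (19064, 17007),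 (19065, 17008), (19066, 17009), (19067, 20326), (19068, 20903), (19069, 17173), (19070, 17819), (19071, 17820)]
    ⟨e3 q19008 L705681 q19008, e3 q19009 L705688 q19009, e3 q19010 L705695 q16958, e3 q19011 (flp_g L724890) q20844, e3 q19012 L705710 q17745, e3 q19013 L705727 q17777, e3 q19014 L705738 q17787, e3 q19015 L705750 q17788, e3 q19016 L705761 q17789, e3 q19017 L705770 q16963, e3 q19018 L705789 q16964, e3 q19019 (flp_g L724985) q20852, e3 q19020 (flp_g L725004) q20853, e3 q19021 (flp_g L716259) q20118, e3 q19022 L705835 q17792, e3 q19023 L705845 q17793, e3 q19024 L725066 q20859, e3 q19025 L705871 q19025, e3 q19026 L705880 q19026, e3 q19027 (flp_g L716364) q20126, e3 q19028 L705904 q16972, e3 q19029 (flp_g L725114) q20863, e3 q19030 L705923 q16975, e3 q19031 L705937 q16976, e3 q19032 L705948 q16977, e3 q19033 (flp_g L725141) q20865, e3 q19034 (flp_g L725158) q20866, e3 q19035 L725242 q20874, e3 q19036 (flp_g L725175) q20868, e3 q19037 (flp_g L725184) q20869, e3 q19038 L706006 q17804, e3 q19039 L706020 q17805, e3 q19040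 L706028 q17806, e3 q19041 (flp_g L716557) q20140, e3 q19042 L706050 q17807, e3 q19043 L706060 q17808, e3 q19044 (flp_g L716589) q20143, e3 q19045 L706080 q17809, e3 q19046 L725369 q20887, e3 q19047 L706106 q19047, e3 q19048 L706117 q19048, e3 q19049 (flp_g L706124) q16986, e3 q19050 (flp_g L725416) q20890, e3 q19051 L706147 q19051, e3 q19052 L706154 q16995, e3 q19053 (flp_g L716700) q20152, e3 q19054 L706179 q16996, e3 q19055 (flp_g L716734) q20155, e3 q19056 L706193 q16997, e3 q19057 (flp_g L725449) q20894, e3 q19058 (flp_g L725468) q20896, e3 q19059 L706220 q16999, e3 q19060 (flp_g L725490) q20898, e3 q19061 L706236 q19061, e3 q19062 (flp_g L716847) q20164, e3 q19063 L706251 q17003, e3 q19064 L706263 q17007, e3 q19065 L706280 q17008, e3 q19066 L706295 q17009, e3 q19067 (flp_g L718969) q20326, e3 q19068 (flp_g L725538) q20903, e3 q19069 L706334 q17173, e3 q19070 L706350 q17819, e3 q19071 L706361 q17820, trivial⟩ (by decide +kernel)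

theorem ce_g_298 : ∀ r, r < 64 → sm gg (Qf (19072 + r)) = Qf (tab Gen.g (19072 + r)) :=
  edges_tab (sm gg) Qf (tab Gen.g) 19072 [(19072, 17821), (19073, 17822), (19074, 17823), (19075, 17017), (19076, 17018), (19077, 20356), (19078, 20911), (19079, 20912), (19080, 17825), (19081, 17826), (19082, 17827), (19083, 20926), (19084, 17828), (19085, 17829), (19086, 17024), (19087, 17025), (19088, 17026), (19089, 20905), (19090, 20929), (19091, 20930), (19092, 20939), (19093, 20932), (19094, 20933), (19095, 17839), (19096, 17840), (19097, 17841), (19098, 20948), (19099, 17843), (19100, 17844), (19101, 17030), (19102, 20952), (19103, 17847), (19104, 19104), (19105, 20956), (19106, 19106), (19107, 19107), (19108, 17036), (19109, 20960), (19110, 19110), (19111, 17046), (19112, 17040), (19113, 20964), (19114, 17049), (19115, 20959), (19116, 17044), (19117, 20968), (19118, 17053), (19119, 19119), (19120, 17048), (19121, 20972), (19122, 20966), (19123, 19123), (19124, 17052), (19125, 20974), (19126, 20970), (19127, 17057), (19128, 17058),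 (19129, 17059), (19130, 20983), (19131, 17061), (19132, 17062), (19133, 17964), (19134, 20977), (19135, 20978)]
    ⟨e3 q19072 L706375 q17821, e3 q19073 L706388 q17822, e3 q19074 L706401 q17823, e3 q19075 L706411 q17017, e3 q19076 L706429 q17018, e3 q19077 (flp_g L719319) q20356, e3 q19078 (flp_g L725635) q20911, e3 q19079 (flp_g L725653) q20912, e3 q19080 L706460 q17825, e3 q19081 L706466 q17826, e3 q19082 L706475 q17827, e3 q19083 L725767 q20926, e3 q19084 L706488 q17828, e3 q19085 L706493 q17829, e3 q19086 L706500 q17024, e3 q19087 L706510 q17025, e3 q19088 L706521 q17026, e3 q19089 (flp_g L725562) q20905, e3 q19090 (flp_g L725797) q20929, e3 q19091 (flp_g L725814) q20930, e3 q19092 L725906 q20939, e3 q19093 (flp_g L725829) q20932, e3 q19094 (flp_g L725836) q20933, e3 q19095 L706587 q17839, e3 q19096 L706599 q17840, e3 q19097 L706605 q17841, e3 q19098 L725994 q20948, e3 q19099 L706629 q17843, e3 q19100 L706639 q17844, e3 q19101 (flp_g L706645) q17030, e3 q19102 (flp_g L726044) q20952, e3 q19103 L706663 q17847, e3 q19104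 L706675 q19104, e3 q19105 L726073 q20956, e3 q19106 L706700 q19106, e3 q19107 L706709 q19107, e3 q19108 (flp_g L706716) q17036, e3 q19109 (flp_g L726129) q20960, e3 q19110 L706733 q19110, e3 q19111 L706742 q17046, e3 q19112 (flp_g L706748) q17040, e3 q19113 (flp_g L726175) q20964, e3 q19114 L706780 q17049, e3 q19115 (flp_g L726123) q20959, e3 q19116 L706796 q17044, e3 q19117 (flp_g L726212) q20968, e3 q19118 L706806 q17053, e3 q19119 L706825 q19119, e3 q19120 L706838 q17048, e3 q19121 (flp_g L726259) q20972, e3 q19122 (flp_g L726191) q20966, e3 q19123 L706873 q19123, e3 q19124 L706880 q17052, e3 q19125 (flp_g L726274) q20974, e3 q19126 (flp_g L726227) q20970, e3 q19127 L706907 q17057, e3 q19128 L706917 q17058, e3 q19129 L706928 q17059, e3 q19130 L726370 q20983, e3 q19131 L706941 q17061, e3 q19132 L706948 q17062, e3 q19133 L706958 q17964, e3 q19134 (flp_g L726313) q20977, e3 q19135 (flp_g L726328) q20978, trivial⟩ (by decide +kernel)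

theorem ce_g_299 : ∀ r, r < 64 → sm gg (Qf (19136 + r)) = Qf (tab Gen.g (19136 + r)) :=
  edges_tab (sm gg) Qf (tab Gen.g) 19136 [(19136, 20979), (19137, 20995), (19138, 20981), (19139, 20982), (19140, 17060), (19141, 21000), (19142, 20985), (19143, 17886), (19144, 17887), (19145, 17888), (19146, 21007), (19147, 17890), (19148, 17891), (19149, 21011), (19150, 17893), (19151, 17894), (19152, 17067), (19153, 21017), (19154, 17897), (19155, 17898), (19156, 20999), (19157, 17071), (19158, 21022), (19159, 17902), (19160, 19160), (19161, 20907), (19162, 19162), (19163, 19163), (19164, 17076), (19165, 21030), (19166, 19166), (19167, 19167), (19168, 17090), (19169, 17080), (19170, 21035), (19171, 19171), (19172, 17094), (19173, 17083), (19174, 21039), (19175, 17097), (19176, 17098), (19177, 21029), (19178, 17087), (19179, 21043), (19180, 17102), (19181, 17103), (19182, 21034), (19183, 17092), (19184, 21049), (19185, 17107), (19186, 19186), (19187, 17096), (19188, 21054), (19189, 21041), (19190, 19190), (19191, 17101), (19192, 21056),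 (19193, 21045), (19194, 21046), (19195, 19195), (19196, 17106), (19197, 21059), (19198, 21052), (19199, 17112)]
    ⟨e3 q19136 (flp_g L726336) q20979, e3 q19137 L726489 q20995, e3 q19138 (flp_g L726357) q20981, e3 q19139 (flp_g L726366) q20982, e3 q19140 (flp_g L707012) q17060, e3 q19141 (flp_g L726537) q21000, e3 q19142 (flp_g L726386) q20985, e3 q19143 L707034 q17886, e3 q19144 L707044 q17887, e3 q19145 L707050 q17888, e3 q19146 L726584 q21007, e3 q19147 L707066 q17890, e3 q19148 L707074 q17891, e3 q19149 L726626 q21011, e3 q19150 L707085 q17893, e3 q19151 L707093 q17894, e3 q19152 (flp_g L707095) q17067, e3 q19153 (flp_g L726673) q21017, e3 q19154 L707117 q17897, e3 q19155 L707125 q17898, e3 q19156 (flp_g L726531) q20999, e3 q19157 L707145 q17071, e3 q19158 (flp_g L726713) q21022, e3 q19159 L707155 q17902, e3 q19160 L707165 q19160, e3 q19161 (flp_g L725587) q20907, e3 q19162 L707186 q19162, e3 q19163 L707193 q19163, e3 q19164 (flp_g L707196) q17076, e3 q19165 (flp_g L726785) q21030, e3 q19166 L707217 q19166, e3 q19167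 L707224 q19167, e3 q19168 L707238 q17090, e3 q19169 L707245 q17080, e3 q19170 (flp_g L726826) q21035, e3 q19171 L707255 q19171, e3 q19172 L707264 q17094, e3 q19173 (flp_g L707266) q17083, e3 q19174 (flp_g L726871) q21039, e3 q19175 L707292 q17097, e3 q19176 L707298 q17098, e3 q19177 (flp_g L726777) q21029, e3 q19178 L707318 q17087, e3 q19179 (flp_g L726901) q21043, e3 q19180 L707328 q17102, e3 q19181 L707337 q17103, e3 q19182 (flp_g L726819) q21034, e3 q19183 L707355 q17092, e3 q19184 (flp_g L726952) q21049, e3 q19185 L707365 q17107, e3 q19186 L707382 q19186, e3 q19187 L707394 q17096, e3 q19188 (flp_g L726996) q21054, e3 q19189 (flp_g L726883) q21041, e3 q19190 L707424 q19190, e3 q19191 L707433 q17101, e3 q19192 (flp_g L727011) q21056, e3 q19193 (flp_g L726910) q21045, e3 q19194 (flp_g L726925) q21046, e3 q19195 L707467 q19195, e3 q19196 L707472 q17106, e3 q19197 (flp_g L727035) q21059, e3 q19198 (flp_g L726968) q21052, e3 q19199 L707498 q17112, trivial⟩ (by decide +kernel)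

theorem ce_g_300 : ∀ r, r < 64 → sm gg (Qf (19200 + r)) = Qf (tab Gen.g (19200 + r)) :=
  edges_tab (sm gg) Qf (tab Gen.g) 19200 [(19200, 17110), (19201, 21062), (19202, 19202), (19203, 21061), (19204, 17114), (19205, 21067), (19206, 21068), (19207, 17119), (19208, 19208), (19209, 17118), (19210, 21071), (19211, 17127), (19212, 17128), (19213, 17129), (19214, 17130), (19215, 17965), (19216, 17184), (19217, 17798), (19218, 21073), (19219, 21074), (19220, 17174), (19221, 17818), (19222, 17940), (19223, 17939), (19224, 17941), (19225, 17942), (19226, 17878), (19227, 17943), (19228, 17485), (19229, 19229), (19230, 19230), (19231, 19231), (19232, 20117), (19233, 17156), (19234, 17946), (19235, 17947), (19236, 17948), (19237, 17949), (19238, 18045), (19239, 20357), (19240, 20375), (19241, 17955), (19242, 17956), (19243, 17957), (19244, 17958), (19245, 17959), (19246, 17960), (19247, 17961), (19248, 20906), (19249, 17966), (19250, 17967), (19251, 17968), (19252, 17969), (19253, 17970), (19254, 17972), (19255, 17817), (19256, 20988),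 (19257, 17879), (19258, 17963), (19259, 17833), (19260, 17433), (19261, 17877), (19262, 20116), (19263, 17200)]
    ⟨e3 q19200 L707506 q17110, e3 q19201 (flp_g L727068) q21062, e3 q19202 L707520 q19202, e3 q19203 (flp_g L727060) q21061, e3 q19204 L707539 q17114, e3 q19205 (flp_g L727104) q21067, e3 q19206 (flp_g L727112) q21068, e3 q19207 L707554 q17119, e3 q19208 L707559 q19208, e3 q19209 L707569 q17118, e3 q19210 (flp_g L727135) q21071, e3 q19211 L707599 q17127, e3 q19212 L707611 q17128, e3 q19213 L707627 q17129, e3 q19214 L707644 q17130, e3 q19215 L707662 q17965, e3 q19216 L707673 q17184, e3 q19217 L707688 q17798, e3 q19218 (flp_g L727159) q21073, e3 q19219 (flp_g L727170) q21074, e3 q19220 L707722 q17174, e3 q19221 L707740 q17818, e3 q19222 L707751 q17940, e3 q19223 L707759 q17939, e3 q19224 L707768 q17941, e3 q19225 L707773 q17942, e3 q19226 L707782 q17878, e3 q19227 L707792 q17943, e3 q19228 L707803 q17485, e3 q19229 L707818 q19229, e3 q19230 L707827 q19230, e3 q19231 L707838 q19231, e3 q19232 (flp_g L716245) q20117,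 e3 q19233 L707864 q17156, e3 q19234 L707878 q17946, e3 q19235 L707894 q17947, e3 q19236 L707907 q17948, e3 q19237 L707924 q17949, e3 q19238 L707935 q18045, e3 q19239 (flp_g L719339) q20357, e3 q19240 (flp_g L719555) q20375, e3 q19241 L707969 q17955, e3 q19242 L707985 q17956, e3 q19243 L707998 q17957, e3 q19244 L708006 q17958, e3 q19245 L708022 q17959, e3 q19246 L708031 q17960, e3 q19247 L708043 q17961, e3 q19248 (flp_g L725578) q20906, e3 q19249 L708076 q17966, e3 q19250 L708090 q17967, e3 q19251 L708105 q17968, e3 q19252 L708117 q17969, e3 q19253 L708131 q17970, e3 q19254 L708144 q17972, e3 q19255 L708160 q17817, e3 q19256 (flp_g L726424) q20988, e3 q19257 L708178 q17879, e3 q19258 L708194 q17963, e3 q19259 L708205 q17833, e3 q19260 L708214 q17433, e3 q19261 L708226 q17877, e3 q19262 (flp_g L716228) q20116, e3 q19263 L708248 q17200, trivial⟩ (by decide +kernel)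

theorem ce_g_301 : ∀ r, r < 64 → sm gg (Qf (19264 + r)) = Qf (tab Gen.g (19264 + r)) :=
  edges_tab (sm gg) Qf (tab Gen.g) 19264 [(19264, 17517), (19265, 17524), (19266, 20015), (19267, 17209), (19268, 17530), (19269, 20393), (19270, 20389), (19271, 17531), (19272, 20427), (19273, 20026), (19274, 20027), (19275, 17216), (19276, 20076), (19277, 20037), (19278, 20038), (19279, 20041), (19280, 20061), (19281, 20062), (19282, 17225), (19283, 20454), (19284, 20066), (19285, 20067), (19286, 20455), (19287, 17231), (19288, 20074), (19289, 20075), (19290, 17239), (19291, 21114), (19292, 17244), (19293, 17245), (19294, 20032), (19295, 20033), (19296, 21115), (19297, 21116), (19298, 17582), (19299, 17583), (19300, 17298), (19301, 21125), (19302, 20085), (19303, 20086), (19304, 17249), (19305, 21128), (19306, 20089), (19307, 17643), (19308, 17645), (19309, 20465), (19310, 17263), (19311, 17264), (19312, 17257), (19313, 21134), (19314, 17267), (19315, 17268), (19316, 17261), (19317, 21137), (19318, 21133), (19319, 17266), (19320, 21139),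 (19321, 21136), (19322, 17992), (19323, 17271), (19324, 17299), (19325, 17287), (19326, 17288), (19327, 20108)]
    ⟨e3 q19264 L708264 q17517, e3 q19265 L708280 q17524, e3 q19266 (flp_g L714727) q20015, e3 q19267 L708306 q17209, e3 q19268 L708321 q17530, e3 q19269 (flp_g L719836) q20393, e3 q19270 (flp_g L719787) q20389, e3 q19271 L708356 q17531, e3 q19272 (flp_g L720289) q20427, e3 q19273 (flp_g L714904) q20026, e3 q19274 (flp_g L714924) q20027, e3 q19275 L708406 q17216, e3 q19276 (flp_g L715673) q20076, e3 q19277 (flp_g L715074) q20037, e3 q19278 (flp_g L715084) q20038, e3 q19279 (flp_g L715128) q20041, e3 q19280 (flp_g L715418) q20061, e3 q19281 (flp_g L715440) q20062, e3 q19282 L708496 q17225, e3 q19283 (flp_g L720611) q20454, e3 q19284 (flp_g L715509) q20066, e3 q19285 (flp_g L715521) q20067, e3 q19286 (flp_g L720629) q20455, e3 q19287 L708554 q17231, e3 q19288 (flp_g L715647) q20074, e3 q19289 (flp_g L715659) q20075, e3 q19290 L708592 q17239, e3 q19291 (flp_g L727642) q21114, e3 q19292 L708610 q17244, e3 q19293 L708624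 q17245, e3 q19294 (flp_g L714996) q20032, e3 q19295 (flp_g L715016) q20033, e3 q19296 (flp_g L727656) q21115, e3 q19297 (flp_g L727664) q21116, e3 q19298 L708674 q17582, e3 q19299 L708688 q17583, e3 q19300 L708696 q17298, e3 q19301 L727769 q21125, e3 q19302 (flp_g L715807) q20085, e3 q19303 (flp_g L715821) q20086, e3 q19304 (flp_g L708724) q17249, e3 q19305 (flp_g L727807) q21128, e3 q19306 (flp_g L715867) q20089, e3 q19307 L708762 q17643, e3 q19308 L708772 q17645, e3 q19309 (flp_g L720769) q20465, e3 q19310 L708798 q17263, e3 q19311 L708808 q17264, e3 q19312 (flp_g L708810) q17257, e3 q19313 (flp_g L727873) q21134, e3 q19314 L708834 q17267, e3 q19315 L708842 q17268, e3 q19316 L708856 q17261, e3 q19317 (flp_g L727900) q21137, e3 q19318 (flp_g L727860) q21133, e3 q19319 L708881 q17266, e3 q19320 (flp_g L727913) q21139, e3 q19321 (flp_g L727887) q21136, e3 q19322 L708898 q17992, e3 q19323 L708906 q17271, e3 q19324 L708919 q17299, e3 q19325 L708930 q17287, e3 q19326 L708937 q17288, e3 q19327 (flp_g L716122) q20108, trivial⟩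 (by decide +kernel)

theorem ce_g_302 : ∀ r, r < 64 → sm gg (Qf (19328 + r)) = Qf (tab Gen.g (19328 + r)) :=
  edges_tab (sm gg) Qf (tab Gen.g) 19328 [(19328, 20109), (19329, 20110), (19330, 20205), (19331, 20206), (19332, 20119), (19333, 20120), (19334, 19334), (19335, 21124), (19336, 21142), (19337, 17417), (19338, 20137), (19339, 20138), (19340, 20141), (19341, 20142), (19342, 20144), (19343, 19343), (19344, 19344), (19345, 19345), (19346, 17311), (19347, 17312), (19348, 17313), (19349, 21161), (19350, 21162), (19351, 17952), (19352, 20170), (19353, 20174), (19354, 19354), (19355, 19355), (19356, 19356), (19357, 17323), (19358, 17324), (19359, 17325), (19360, 17954), (19361, 20179), (19362, 19362), (19363, 20491), (19364, 20492), (19365, 20194), (19366, 20195), (19367, 19367), (19368, 20209), (19369, 20210), (19370, 20212), (19371, 20213), (19372, 19372), (19373, 19373), (19374, 17347), (19375, 21178), (19376, 17350), (19377, 17351), (19378, 17352), (19379, 21179), (19380, 21180), (19381, 21181), (19382, 20568), (19383,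 21183), (19384, 21184), (19385, 17973), (19386, 17945), (19387, 17880), (19388, 20756), (19389, 20224), (19390, 20225), (19391, 20758)]
    ⟨e3 q19328 (flp_g L716135) q20109, e3 q19329 (flp_g L716150) q20110, e3 q19330 (flp_g L717431) q20205, e3 q19331 (flp_g L717448) q20206, e3 q19332 (flp_g L716269) q20119, e3 q19333 (flp_g L716279) q20120, e3 q19334 L709038 q19334, e3 q19335 (flp_g L727767) q21124, e3 q19336 (flp_g L727943) q21142, e3 q19337 L709077 q17417, e3 q19338 (flp_g L716509) q20137, e3 q19339 (flp_g L716529) q20138, e3 q19340 (flp_g L716567) q20141, e3 q19341 (flp_g L716577) q20142, e3 q19342 (flp_g L716599) q20144, e3 q19343 L709137 q19343, e3 q19344 L709154 q19344, e3 q19345 L709165 q19345, e3 q19346 L709180 q17311, e3 q19347 L709190 q17312, e3 q19348 L709196 q17313, e3 q19349 (flp_g L728173) q21161, e3 q19350 (flp_g L728181) q21162, e3 q19351 L709234 q17952, e3 q19352 (flp_g L716928) q20170, e3 q19353 (flp_g L716978) q20174, e3 q19354 L709264 q19354, e3 q19355 L709275 q19355, e3 q19356 L709283 q19356, e3 q19357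 L709299 q17323, e3 q19358 L709306 q17324, e3 q19359 L709315 q17325, e3 q19360 L709327 q17954, e3 q19361 (flp_g L717046) q20179, e3 q19362 L709348 q19362, e3 q19363 (flp_g L721122) q20491, e3 q19364 (flp_g L721137) q20492, e3 q19365 (flp_g L717271) q20194, e3 q19366 (flp_g L717281) q20195, e3 q19367 L709408 q19367, e3 q19368 (flp_g L717482) q20209, e3 q19369 (flp_g L717501) q20210, e3 q19370 (flp_g L717527) q20212, e3 q19371 (flp_g L717535) q20213, e3 q19372 L709457 q19372, e3 q19373 L709468 q19373, e3 q19374 L709481 q17347, e3 q19375 (flp_g L728343) q21178, e3 q19376 L709500 q17350, e3 q19377 L709510 q17351, e3 q19378 L709519 q17352, e3 q19379 (flp_g L728355) q21179, e3 q19380 (flp_g L728367) q21180, e3 q19381 (flp_g L728382) q21181, e3 q19382 (flp_g L721999) q20568, e3 q19383 (flp_g L728397) q21183, e3 q19384 (flp_g L728404) q21184, e3 q19385 L709585 q17973, e3 q19386 L709595 q17945, e3 q19387 L709601 q17880, e3 q19388 (flp_g L723910) q20756, e3 q19389 (flp_g L717700) q20224, e3 q19390 (flp_g L717714) q20225, e3 q19391 (flp_g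 L723939) q20758, trivial⟩ (by decide +kernel)

theorem ce_g_303 : ∀ r, r < 64 → sm gg (Qf (19392 + r)) = Qf (tab Gen.g (19392 + r)) :=
  edges_tab (sm gg) Qf (tab Gen.g) 19392 [(19392, 20228), (19393, 19393), (19394, 20567), (19395, 19395), (19396, 19396), (19397, 20569), (19398, 19398), (19399, 17371), (19400, 20757), (19401, 17372), (19402, 17373), (19403, 20759), (19404, 21208), (19405, 21210), (19406, 21211), (19407, 17377), (19408, 17379), (19409, 17381), (19410, 21213), (19411, 17921), (19412, 18054), (19413, 21214), (19414, 18043), (19415, 18028), (19416, 17905), (19417, 18046), (19418, 18058), (19419, 17908), (19420, 18047), (19421, 20242), (19422, 19422), (19423, 19423), (19424, 19424), (19425, 17395), (19426, 17396), (19427, 17397), (19428, 21229), (19429, 20246), (19430, 20247), (19431, 20248), (19432, 20250), (19433, 20251), (19434, 17403), (19435, 17404), (19436, 17405), (19437, 21098), (19438, 21238), (19439, 21239), (19440, 21240), (19441, 21241), (19442, 20260), (19443, 20261), (19444, 20262), (19445, 21151),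 (19446, 20264), (19447, 20265), (19448, 17409), (19449, 21258), (19450, 20268), (19451, 19451), (19452, 19452), (19453, 17914), (19454, 17423), (19455, 17424)]
    ⟨e3 q19392 (flp_g L717754) q20228, e3 q19393 L709653 q19393, e3 q19394 (flp_g L721984) q20567, e3 q19395 L709676 q19395, e3 q19396 L709685 q19396, e3 q19397 (flp_g L722014) q20569, e3 q19398 L709708 q19398, e3 q19399 L709719 q17371, e3 q19400 (flp_g L723929) q20757, e3 q19401 L709738 q17372, e3 q19402 L709744 q17373, e3 q19403 (flp_g L723949) q20759, e3 q19404 (flp_g L728641) q21208, e3 q19405 (flp_g L728657) q21210, e3 q19406 (flp_g L728668) q21211, e3 q19407 L709791 q17377, e3 q19408 L709808 q17379, e3 q19409 L709820 q17381, e3 q19410 (flp_g L728693) q21213, e3 q19411 L709841 q17921, e3 q19412 L709856 q18054, e3 q19413 (flp_g L728706) q21214, e3 q19414 L709879 q18043, e3 q19415 L709895 q18028, e3 q19416 L709902 q17905, e3 q19417 L709912 q18046, e3 q19418 L709921 q18058, e3 q19419 L709933 q17908, e3 q19420 L709944 q18047, e3 q19421 (flp_g L717949) q20242, e3 q19422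 L709964 q19422, e3 q19423 L709973 q19423, e3 q19424 L709981 q19424, e3 q19425 L709995 q17395, e3 q19426 L710002 q17396, e3 q19427 L710011 q17397, e3 q19428 (flp_g L728861) q21229, e3 q19429 (flp_g L717995) q20246, e3 q19430 (flp_g L718007) q20247, e3 q19431 (flp_g L718019) q20248, e3 q19432 (flp_g L718040) q20250, e3 q19433 (flp_g L718047) q20251, e3 q19434 L710081 q17403, e3 q19435 L710090 q17404, e3 q19436 L710103 q17405, e3 q19437 (flp_g L727447) q21098, e3 q19438 (flp_g L728954) q21238, e3 q19439 (flp_g L728964) q21239, e3 q19440 (flp_g L728974) q21240, e3 q19441 (flp_g L728981) q21241, e3 q19442 (flp_g L718150) q20260, e3 q19443 (flp_g L718167) q20261, e3 q19444 (flp_g L718171) q20262, e3 q19445 (flp_g L728058) q21151, e3 q19446 (flp_g L718196) q20264, e3 q19447 (flp_g L718204) q20265, e3 q19448 (flp_g L710201) q17409, e3 q19449 (flp_g L729143) q21258, e3 q19450 (flp_g L718238) q20268, e3 q19451 L710242 q19451, e3 q19452 L710251 q19452, e3 q19453 L710270 q17914, e3 q19454 L710284 q17423, e3 q19455 L710294 q17424, trivial⟩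 (by decide +kernel)

theorem ce_g_304 : ∀ r, r < 64 → sm gg (Qf (19456 + r)) = Qf (tab Gen.g (19456 + r)) :=
  edges_tab (sm gg) Qf (tab Gen.g) 19456 [(19456, 21152), (19457, 17425), (19458, 17426), (19459, 17421), (19460, 21267), (19461, 21264), (19462, 21265), (19463, 19463), (19464, 17429), (19465, 17434), (19466, 17435), (19467, 20642), (19468, 17437), (19469, 17438), (19470, 21100), (19471, 21082), (19472, 20132), (19473, 20640), (19474, 21270), (19475, 21271), (19476, 20643), (19477, 21273), (19478, 20299), (19479, 20300), (19480, 20301), (19481, 21291), (19482, 20303), (19483, 20304), (19484, 21295), (19485, 20305), (19486, 20306), (19487, 17443), (19488, 21301), (19489, 20309), (19490, 20310), (19491, 20637), (19492, 17447), (19493, 21306), (19494, 20314), (19495, 19495), (19496, 19496), (19497, 20639), (19498, 19498), (19499, 19499), (19500, 20641), (19501, 19501), (19502, 19502), (19503, 20644), (19504, 17855), (19505, 17469), (19506, 17470), (19507, 17459), (19508, 21320), (19509, 17473), (19510, 17474), (19511,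 20636), (19512, 17463), (19513, 21324), (19514, 17478), (19515, 17479), (19516, 20638), (19517, 17468), (19518, 21319), (19519, 19519)]
    ⟨e3 q19456 (flp_g L728076) q21152, e3 q19457 L710314 q17425, e3 q19458 L710322 q17426, e3 q19459 L710337 q17421, e3 q19460 (flp_g L729243) q21267, e3 q19461 (flp_g L729210) q21264, e3 q19462 (flp_g L729220) q21265, e3 q19463 L710380 q19463, e3 q19464 L710389 q17429, e3 q19465 L710397 q17434, e3 q19466 L710406 q17435, e3 q19467 (flp_g L722804) q20642, e3 q19468 L710419 q17437, e3 q19469 L710426 q17438, e3 q19470 (flp_g L727474) q21100, e3 q19471 (flp_g L727248) q21082, e3 q19472 (flp_g L716447) q20132, e3 q19473 (flp_g L722783) q20640, e3 q19474 (flp_g L729269) q21270, e3 q19475 (flp_g L729276) q21271, e3 q19476 (flp_g L722814) q20643, e3 q19477 (flp_g L729291) q21273, e3 q19478 (flp_g L718633) q20299, e3 q19479 (flp_g L718651) q20300, e3 q19480 (flp_g L718657) q20301, e3 q19481 L729443 q21291, e3 q19482 (flp_g L718693) q20303, e3 q19483 (flp_g L718703) q20304, e3 q19484 L729483 q21295,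 e3 q19485 (flp_g L718715) q20305, e3 q19486 (flp_g L718731) q20306, e3 q19487 (flp_g L710561) q17443, e3 q19488 (flp_g L729526) q21301, e3 q19489 (flp_g L718771) q20309, e3 q19490 (flp_g L718777) q20310, e3 q19491 (flp_g L722750) q20637, e3 q19492 L710599 q17447, e3 q19493 (flp_g L729556) q21306, e3 q19494 (flp_g L718811) q20314, e3 q19495 L710621 q19495, e3 q19496 L710635 q19496, e3 q19497 (flp_g L722773) q20639, e3 q19498 L710658 q19498, e3 q19499 L710667 q19499, e3 q19500 (flp_g L722793) q20641, e3 q19501 L710685 q19501, e3 q19502 L710692 q19502, e3 q19503 (flp_g L722821) q20644, e3 q19504 L710718 q17855, e3 q19505 L710731 q17469, e3 q19506 L710739 q17470, e3 q19507 (flp_g L710741) q17459, e3 q19508 (flp_g L729700) q21320, e3 q19509 L710771 q17473, e3 q19510 L710777 q17474, e3 q19511 (flp_g L722739) q20636, e3 q19512 L710795 q17463, e3 q19513 (flp_g L729732) q21324, e3 q19514 L710805 q17478, e3 q19515 L710810 q17479, e3 q19516 (flp_g L722765) q20638, e3 q19517 L710830 q17468, e3 q19518 (flp_g L729685) q21319, e3 q19519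 L710860 q19519, trivial⟩ (by decide +kernel)

theorem ce_g_305 : ∀ r, r < 64 → sm gg (Qf (19520 + r)) = Qf (tab Gen.g (19520 + r)) :=
  edges_tab (sm gg) Qf (tab Gen.g) 19520 [(19520, 17472), (19521, 21330), (19522, 21322), (19523, 19523), (19524, 17477), (19525, 21332), (19526, 19526), (19527, 17488), (19528, 20750), (19529, 20113), (19530, 20133), (19531, 20167), (19532, 21333), (19533, 20358), (19534, 20359), (19535, 20360), (19536, 20361), (19537, 20362), (19538, 20363), (19539, 20364), (19540, 20365), (19541, 20366), (19542, 19542), (19543, 19543), (19544, 19544), (19545, 21069), (19546, 17521), (19547, 17513), (19548, 20440), (19549, 20423), (19550, 20025), (19551, 20431), (19552, 20441), (19553, 20442), (19554, 20449), (19555, 20020), (19556, 20414), (19557, 20023), (19558, 20017), (19559, 21102), (19560, 21104), (19561, 20395), (19562, 20436), (19563, 17539), (19564, 17542), (19565, 20397), (19566, 20018), (19567, 21361), (19568, 20011), (19569, 17544), (19570, 20447), (19571, 20401), (19572, 17550), (19573, 20399),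 (19574, 20024), (19575, 20425), (19576, 20461), (19577, 20462), (19578, 17556), (19579, 20550), (19580, 20551), (19581, 20474), (19582, 20475), (19583, 20477)]
    ⟨e3 q19520 L710872 q17472, e3 q19521 (flp_g L729787) q21330, e3 q19522 (flp_g L729714) q21322, e3 q19523 L710900 q19523, e3 q19524 L710907 q17477, e3 q19525 (flp_g L729800) q21332, e3 q19526 L710919 q19526, e3 q19527 L710927 q17488, e3 q19528 (flp_g L723836) q20750, e3 q19529 (flp_g L716189) q20113, e3 q19530 (flp_g L716465) q20133, e3 q19531 (flp_g L716885) q20167, e3 q19532 (flp_g L729806) q21333, e3 q19533 (flp_g L719353) q20358, e3 q19534 (flp_g L719366) q20359, e3 q19535 (flp_g L719381) q20360, e3 q19536 (flp_g L719395) q20361, e3 q19537 (flp_g L719406) q20362, e3 q19538 (flp_g L719418) q20363, e3 q19539 (flp_g L719430) q20364, e3 q19540 (flp_g L719440) q20365, e3 q19541 (flp_g L719449) q20366, e3 q19542 L711031 q19542, e3 q19543 L711039 q19543, e3 q19544 L711047 q19544, e3 q19545 (flp_g L727120) q21069, e3 q19546 L711064 q17521, e3 q19547 L711080 q17513,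 e3 q19548 (flp_g L720445) q20440, e3 q19549 (flp_g L720241) q20423, e3 q19550 (flp_g L714889) q20025, e3 q19551 (flp_g L720351) q20431, e3 q19552 (flp_g L720461) q20441, e3 q19553 (flp_g L720473) q20442, e3 q19554 (flp_g L720536) q20449, e3 q19555 (flp_g L714814) q20020, e3 q19556 (flp_g L720137) q20414, e3 q19557 (flp_g L714860) q20023, e3 q19558 (flp_g L714755) q20017, e3 q19559 (flp_g L727495) q21102, e3 q19560 (flp_g L727517) q21104, e3 q19561 (flp_g L719872) q20395, e3 q19562 (flp_g L720401) q20436, e3 q19563 L711212 q17539, e3 q19564 L711216 q17542, e3 q19565 (flp_g L719896) q20397, e3 q19566 (flp_g L714774) q20018, e3 q19567 (flp_g L730003) q21361, e3 q19568 (flp_g L714656) q20011, e3 q19569 L711252 q17544, e3 q19570 (flp_g L720516) q20447, e3 q19571 (flp_g L719950) q20401, e3 q19572 L711277 q17550, e3 q19573 (flp_g L719916) q20399, e3 q19574 (flp_g L714874) q20024, e3 q19575 (flp_g L720266) q20425, e3 q19576 (flp_g L720709) q20461, e3 q19577 (flp_g L720725) q20462, e3 q19578 L711337 q17556, e3 q19579 (flp_g L721780)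 q20550, e3 q19580 (flp_g L721798) q20551, e3 q19581 (flp_g L720888) q20474, e3 q19582 (flp_g L720906) q20475, e3 q19583 (flp_g L720934) q20477, trivial⟩ (by decide +kernel)

theorem ce_g_306 : ∀ r, r < 64 → sm gg (Qf (19584 + r)) = Qf (tab Gen.g (19584 + r)) :=
  edges_tab (sm gg) Qf (tab Gen.g) 19584 [(19584, 20478), (19585, 17581), (19586, 17565), (19587, 21372), (19588, 20055), (19589, 20488), (19590, 17572), (19591, 17573), (19592, 21376), (19593, 21377), (19594, 20496), (19595, 20497), (19596, 20499), (19597, 20500), (19598, 17580), (19599, 20661), (19600, 21382), (19601, 21121), (19602, 21122), (19603, 20519), (19604, 20556), (19605, 20520), (19606, 20521), (19607, 20558), (19608, 20524), (19609, 20557), (19610, 17598), (19611, 17599), (19612, 20559), (19613, 20606), (19614, 20704), (19615, 20705), (19616, 21395), (19617, 21396), (19618, 17761), (19619, 20544), (19620, 20545), (19621, 20546), (19622, 17607), (19623, 21405), (19624, 20574), (19625, 20575), (19626, 20577), (19627, 20578), (19628, 17614), (19629, 20663),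 (19630, 21410), (19631, 17617), (19632, 17618), (19633, 21412), (19634, 21413), (19635, 20602), (19636, 20603), (19637, 20605), (19638, 17627), (19639, 20608), (19640, 20707), (19641, 21418), (19642, 17629), (19643, 20630), (19644, 17635), (19645, 20652), (19646, 20653), (19647, 20654)]
    ⟨e3 q19584 (flp_g L720942) q20478, e3 q19585 L711411 q17581, e3 q19586 L711425 q17565, e3 q19587 (flp_g L730111) q21372, e3 q19588 (flp_g L715327) q20055, e3 q19589 (flp_g L721086) q20488, e3 q19590 L711459 q17572, e3 q19591 L711466 q17573, e3 q19592 (flp_g L730152) q21376, e3 q19593 (flp_g L730161) q21377, e3 q19594 (flp_g L721178) q20496, e3 q19595 (flp_g L721189) q20497, e3 q19596 (flp_g L721201) q20499, e3 q19597 (flp_g L721207) q20500, e3 q19598 L711517 q17580, e3 q19599 (flp_g L722990) q20661, e3 q19600 (flp_g L730190) q21382, e3 q19601 (flp_g L727726) q21121, e3 q19602 (flp_g L727736) q21122, e3 q19603 (flp_g L721415) q20519, e3 q19604 (flp_g L721857) q20556, e3 q19605 (flp_g L721431) q20520, e3 q19606 (flp_g L721439) q20521, e3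 q19607 (flp_g L721880) q20558, e3 q19608 (flp_g L721467) q20524, e3 q19609 (flp_g L721870) q20557, e3 q19610 L711601 q17598, e3 q19611 L711605 q17599, e3 q19612 (flp_g L721888) q20559, e3 q19613 (flp_g L722408) q20606, e3 q19614 (flp_g L723398) q20704, e3 q19615 (flp_g L723406) q20705, e3 q19616 (flp_g L730284) q21395, e3 q19617 (flp_g L730291) q21396, e3 q19618 L711649 q17761, e3 q19619 (flp_g L721698) q20544, e3 q19620 (flp_g L721712) q20545, e3 q19621 (flp_g L721721) q20546, e3 q19622 L711678 q17607, e3 q19623 L730339 q21405, e3 q19624 (flp_g L722068) q20574, e3 q19625 (flp_g L722081) q20575, e3 q19626 (flp_g L722097) q20577, e3 q19627 (flp_g L722105) q20578, e3 q19628 L711725 q17614, e3 q19629 (flp_g L723011) q20663, e3 q19630 (flp_g L730384) q21410, e3 q19631 L711746 q17617, e3 q19632 L711756 q17618, e3 q19633 (flp_g L730404) q21412, e3 q19634 (flp_g L730410) q21413, e3 q19635 (flp_g L722372) q20602, e3 q19636 (flp_g L722382) q20603, e3 q19637 (flp_g L722400) q20605, e3 q19638 L711802 q17627, e3 q19639 (flp_g L722432)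 q20608, e3 q19640 (flp_g L723424) q20707, e3 q19641 (flp_g L730446) q21418, e3 q19642 L711831 q17629, e3 q19643 (flp_g L722673) q20630, e3 q19644 L711847 q17635, e3 q19645 (flp_g L722902) q20652, e3 q19646 (flp_g L722921) q20653, e3 q19647 (flp_g L722927) q20654, trivial⟩ (by decide +kernel)

theorem ce_g_307 : ∀ r, r < 64 → sm gg (Qf (19648 + r)) = Qf (tab Gen.g (19648 + r)) :=
  edges_tab (sm gg) Qf (tab Gen.g) 19648 [(19648, 20656), (19649, 20657), (19650, 20660), (19651, 17644), (19652, 17646), (19653, 21131), (19654, 21428), (19655, 21429), (19656, 17651), (19657, 17652), (19658, 20073), (19659, 17653), (19660, 17654), (19661, 20476), (19662, 20481), (19663, 21431), (19664, 21432), (19665, 21434), (19666, 20686), (19667, 20687), (19668, 20688), (19669, 20493), (19670, 20690), (19671, 20691), (19672, 20693), (19673, 20694), (19674, 17659), (19675, 21448), (19676, 20697), (19677, 20698), (19678, 20071), (19679, 17663), (19680, 21453), (19681, 20702), (19682, 20064), (19683, 20070), (19684, 17679), (19685, 20494), (19686,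 17681), (19687, 17682), (19688, 17672), (19689, 21461), (19690, 17685), (19691, 17686), (19692, 20072), (19693, 17677), (19694, 20560), (19695, 21457), (19696, 20501), (19697, 21141), (19698, 21459), (19699, 21460), (19700, 17684), (19701, 20727), (19702, 21464), (19703, 17693), (19704, 20486), (19705, 21465), (19706, 20741), (19707, 20743), (19708, 20744), (19709, 20745), (19710, 20746), (19711, 20747)]
    ⟨e3 q19648 (flp_g L722946) q20656, e3 q19649 (flp_g L722954) q20657, e3 q19650 (flp_g L722980) q20660, e3 q19651 L711892 q17644, e3 q19652 L711898 q17646, e3 q19653 (flp_g L727835) q21131, e3 q19654 (flp_g L730509) q21428, e3 q19655 (flp_g L730516) q21429, e3 q19656 L711927 q17651, e3 q19657 L711935 q17652, e3 q19658 (flp_g L715633) q20073, e3 q19659 L711947 q17653, e3 q19660 L711951 q17654, e3 q19661 (flp_g L720924) q20476, e3 q19662 (flp_g L720984) q20481, e3 q19663 (flp_g L730534) q21431, e3 q19664 (flp_g L730540) q21432, e3 q19665 (flp_g L730552) q21434, e3 q19666 (flp_g L723220) q20686, e3 q19667 (flp_g L723238)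 q20687, e3 q19668 (flp_g L723246) q20688, e3 q19669 (flp_g L721143) q20493, e3 q19670 (flp_g L723276) q20690, e3 q19671 (flp_g L723288) q20691, e3 q19672 (flp_g L723305) q20693, e3 q19673 (flp_g L723315) q20694, e3 q19674 (flp_g L712041) q17659, e3 q19675 (flp_g L730652) q21448, e3 q19676 (flp_g L723339) q20697, e3 q19677 (flp_g L723345) q20698, e3 q19678 (flp_g L715591) q20071, e3 q19679 L712079 q17663, e3 q19680 (flp_g L730680) q21453, e3 q19681 (flp_g L723375) q20702, e3 q19682 (flp_g L715474) q20064, e3 q19683 (flp_g L715571) q20070, e3 q19684 L712107 q17679, e3 q19685 (flp_g L721157) q20494, e3 q19686 L712123 q17681, e3 q19687 L712129 q17682, e3 q19688 L712141 q17672, e3 q19689 (flp_g L730734) q21461, e3 q19690 L712151 q17685, e3 q19691 L712159 q17686, e3 q19692 (flp_g L715613) q20072, e3 q19693 L712175 q17677, e3 q19694 (flp_g L721898) q20560, e3 q19695 (flp_g L730704) q21457, e3 q19696 (flp_g L721217) q20501, e3 q19697 (flp_g L727928) q21141, e3 q19698 (flp_g L730716) q21459, e3 q19699 (flp_g L730724) q21460, e3 q19700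 L712215 q17684, e3 q19701 (flp_g L723599) q20727, e3 q19702 L730748 q21464, e3 q19703 L712233 q17693, e3 q19704 (flp_g L721054) q20486, e3 q19705 (flp_g L730756) q21465, e3 q19706 (flp_g L723746) q20741, e3 q19707 (flp_g L723772) q20743, e3 q19708 (flp_g L723785) q20744, e3 q19709 (flp_g L723796) q20745, e3 q19710 (flp_g L723809) q20746, e3 q19711 (flp_g L723816) q20747, trivial⟩ (by decide +kernel)

theorem ce_g_308 : ∀ r, r < 64 → sm gg (Qf (19712 + r)) = Qf (tab Gen.g (19712 + r)) :=
  edges_tab (sm gg) Qf (tab Gen.g) 19712 [(19712, 20748), (19713, 20749), (19714, 20065), (19715, 17707), (19716, 17708), (19717, 17709), (19718, 21477), (19719, 17710), (19720, 20451), (19721, 20752), (19722, 17724), (19723, 17725), (19724, 21479), (19725, 21480), (19726, 20769), (19727, 20780), (19728, 20781), (19729, 17733), (19730, 17734), (19731, 21484), (19732, 21485), (19733, 20830), (19734, 20788), (19735, 19735), (19736, 20831), (19737, 17746), (19738, 17747), (19739, 21492), (19740, 17749), (19741, 17750), (19742, 20845), (19743,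 20846), (19744, 20828), (19745, 21387), (19746, 21490), (19747, 21491), (19748, 17748), (19749, 21502), (19750, 21494), (19751, 17790), (19752, 20211), (19753, 20802), (19754, 20803), (19755, 20839), (19756, 20804), (19757, 20840), (19758, 20806), (19759, 20842), (19760, 20810), (19761, 20735), (19762, 19762), (19763, 19763), (19764, 21400), (19765, 19765), (19766, 17765), (19767, 21519), (19768, 20216), (19769, 17773), (19770, 20841), (19771, 17774), (19772, 21521), (19773, 20829), (19774, 17791), (19775, 20827)]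
    ⟨e3 q19712 (flp_g L723821) q20748, e3 q19713 (flp_g L723826) q20749, e3 q19714 (flp_g L715488) q20065, e3 q19715 L712321 q17707, e3 q19716 L712326 q17708, e3 q19717 L712335 q17709, e3 q19718 L730831 q21477, e3 q19719 (flp_g L712345) q17710, e3 q19720 (flp_g L720565) q20451, e3 q19721 (flp_g L723855) q20752, e3 q19722 L712374 q17724, e3 q19723 L712383 q17725, e3 q19724 (flp_g L730849) q21479, e3 q19725 (flp_g L730856) q21480, e3 q19726 (flp_g L724079) q20769, e3 q19727 (flp_g L724190) q20780, e3 q19728 (flp_g L724197) q20781, e3 q19729 L712423 q17733, e3 q19730 L712432 q17734, e3 q19731 (flp_g L730882) q21484, e3 q19732 (flp_g L730887) q21485, e3 q19733 (flp_g L724759) q20830, e3 q19734 (flp_g L724280) q20788, e3 q19735 L712472 q19735, e3 q19736 (flp_g L724767) q20831, e3 q19737 L712491 q17746, e3 q19738 L712500 q17747, e3 q19739 L730937 q21492, e3 q19740 L712509 q17749, e3 q19741 L712514 q17750, e3 q19742 (flp_g L724901) q20845, e3 q19743 (flp_g L724918) q20846, e3 q19744 (flp_g L724731) q20828, e3 q19745 (flp_g L730230)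 q21387, e3 q19746 (flp_g L730928) q21490, e3 q19747 (flp_g L730935) q21491, e3 q19748 (flp_g L712564) q17748, e3 q19749 (flp_g L731022) q21502, e3 q19750 (flp_g L730955) q21494, e3 q19751 L712594 q17790, e3 q19752 (flp_g L717519) q20211, e3 q19753 (flp_g L724448) q20802, e3 q19754 (flp_g L724460) q20803, e3 q19755 (flp_g L724848) q20839, e3 q19756 (flp_g L724480) q20804, e3 q19757 (flp_g L724859) q20840, e3 q19758 (flp_g L724508) q20806, e3 q19759 (flp_g L724875) q20842, e3 q19760 (flp_g L724542) q20810, e3 q19761 (flp_g L723673) q20735, e3 q19762 L712675 q19762, e3 q19763 L712682 q19763, e3 q19764 (flp_g L730317) q21400, e3 q19765 L712700 q19765, e3 q19766 L712710 q17765, e3 q19767 (flp_g L731151) q21519, e3 q19768 (flp_g L717583) q20216, e3 q19769 L712737 q17773, e3 q19770 (flp_g L724867) q20841, e3 q19771 L712747 q17774, e3 q19772 (flp_g L731167) q21521, e3 q19773 (flp_g L724749) q20829, e3 q19774 L712772 q17791, e3 q19775 (flp_g L724717) q20827, trivial⟩ (by decide +kernel)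

theorem ce_g_309 : ∀ r, r < 64 → sm gg (Qf (19776 + r)) = Qf (tab Gen.g (19776 + r)) :=
  edges_tab (sm gg) Qf (tab Gen.g) 19776 [(19776, 20847), (19777, 20848), (19778, 20850), (19779, 20851), (19780, 21506), (19781, 21524), (19782, 20858), (19783, 17799), (19784, 17800), (19785, 21123), (19786, 17801), (19787, 17802), (19788, 20993), (19789, 21075), (19790, 21530), (19791, 21531), (19792, 21533), (19793, 20263), (19794, 20275), (19795, 20877), (19796, 20878), (19797, 20879), (19798, 20881), (19799, 20882), (19800, 20884), (19801, 20886), (19802, 19802), (19803, 19803), (19804, 17815), (19805, 20908), (19806, 20909), (19807, 20910), (19808, 20919), (19809, 20920), (19810, 20921), (19811, 20922), (19812, 20924), (19813, 20925), (19814, 20928), (19815, 17834), (19816, 17835), (19817, 20249), (19818, 17836), (19819, 17837), (19820, 21099), (19821, 21097), (19822, 20986), (19823, 21560), (19824, 21561), (19825, 21563), (19826, 20302), (19827, 20323), (19828, 20942), (19829, 21285), (19830, 20943), (19831, 20944), (19832, 21576),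 (19833, 20946), (19834, 20947), (19835, 17842), (19836, 21582), (19837, 20950), (19838, 20244), (19839, 17846)]
    ⟨e3 q19776 (flp_g L724930) q20847, e3 q19777 (flp_g L724947) q20848, e3 q19778 (flp_g L724966) q20850, e3 q19779 (flp_g L724973) q20851, e3 q19780 (flp_g L731061) q21506, e3 q19781 (flp_g L731187) q21524, e3 q19782 (flp_g L725062) q20858, e3 q19783 L712839 q17799, e3 q19784 L712850 q17800, e3 q19785 (flp_g L727753) q21123, e3 q19786 L712863 q17801, e3 q19787 L712870 q17802, e3 q19788 (flp_g L726475) q20993, e3 q19789 (flp_g L727187) q21075, e3 q19790 (flp_g L731237) q21530, e3 q19791 (flp_g L731246) q21531, e3 q19792 (flp_g L731261) q21533, e3 q19793 L718188 q20263, e3 q19794 (flp_g L718337) q20275, e3 q19795 (flp_g L725270) q20877, e3 q19796 (flp_g L725284) q20878, e3 q19797 (flp_g L725294) q20879, e3 q19798 (flp_g L725317) q20881, e3 q19799 (flp_g L725331) q20882, e3 q19800 (flp_g L725351) q20884, e3 q19801 (flp_g L725367) q20886, e3 q19802 L712984 q19802, e3 q19803 L712991 q19803, e3 q19804 L713000 q17815,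 e3 q19805 (flp_g L725603) q20908, e3 q19806 (flp_g L725616) q20909, e3 q19807 (flp_g L725625) q20910, e3 q19808 (flp_g L725714) q20919, e3 q19809 (flp_g L725724) q20920, e3 q19810 (flp_g L725733) q20921, e3 q19811 (flp_g L725739) q20922, e3 q19812 (flp_g L725758) q20924, e3 q19813 (flp_g L725765) q20925, e3 q19814 (flp_g L725789) q20928, e3 q19815 L713072 q17834, e3 q19816 L713083 q17835, e3 q19817 (flp_g L718030) q20249, e3 q19818 L713094 q17836, e3 q19819 L713099 q17837, e3 q19820 (flp_g L727460) q21099, e3 q19821 (flp_g L727438) q21097, e3 q19822 (flp_g L726396) q20986, e3 q19823 (flp_g L731451) q21560, e3 q19824 (flp_g L731458) q21561, e3 q19825 (flp_g L731471) q21563, e3 q19826 L718683 q20302, e3 q19827 (flp_g L718925) q20323, e3 q19828 (flp_g L725934) q20942, e3 q19829 (flp_g L729404) q21285, e3 q19830 (flp_g L725946) q20943, e3 q19831 (flp_g L725954) q20944, e3 q19832 L731568 q21576, e3 q19833 (flp_g L725976) q20946, e3 q19834 (flp_g L725990) q20947, e3 q19835 (flp_g L713212) q17842, e3 q19836 (flp_g L731611) q21582,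 e3 q19837 (flp_g L726026) q20950, e3 q19838 (flp_g L717972) q20244, e3 q19839 L713246 q17846, trivial⟩ (by decide +kernel)

theorem ce_g_310 : ∀ r, r < 64 → sm gg (Qf (19840 + r)) = Qf (tab Gen.g (19840 + r)) :=
  edges_tab (sm gg) Qf (tab Gen.g) 19840 [(19840, 21586), (19841, 20954), (19842, 19842), (19843, 19843), (19844, 19844), (19845, 19845), (19846, 17864), (19847, 21318), (19848, 17865), (19849, 20243), (19850, 17859), (19851, 21595), (19852, 17869), (19853, 20245), (19854, 17863), (19855, 21593), (19856, 19856), (19857, 17868), (19858, 21600), (19859, 19859), (19860, 21196), (19861, 17881), (19862, 17882), (19863, 17874), (19864, 21603), (19865, 17885), (19866, 21193), (19867, 21083), (19868, 21081), (19869, 21079), (19870, 21197), (19871, 21602), (19872, 21078), (19873, 17899), (19874, 17884), (19875, 21613), (19876, 21605), (19877, 21249), (19878, 21003), (19879, 21004), (19880, 21618), (19881, 21006), (19882, 17889), (19883, 21620), (19884, 21009), (19885, 21010), (19886, 17892), (19887, 21623), (19888, 21624),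 (19889, 21014), (19890, 21015), (19891, 21187), (19892, 17896), (19893, 21630), (19894, 21019), (19895, 21020), (19896, 21612), (19897, 17901), (19898, 21636), (19899, 21024), (19900, 20913), (19901, 19901), (19902, 19902), (19903, 21220)]
    ⟨e3 q19840 (flp_g L731637) q21586, e3 q19841 (flp_g L726056) q20954, e3 q19842 L713266 q19842, e3 q19843 L713278 q19843, e3 q19844 L713285 q19844, e3 q19845 L713298 q19845, e3 q19846 L713307 q17864, e3 q19847 (flp_g L729673) q21318, e3 q19848 L713324 q17865, e3 q19849 (flp_g L717961) q20243, e3 q19850 L713344 q17859, e3 q19851 (flp_g L731715) q21595, e3 q19852 L713356 q17869, e3 q19853 (flp_g L717987) q20245, e3 q19854 L713373 q17863, e3 q19855 (flp_g L731695) q21593, e3 q19856 L713390 q19856, e3 q19857 L713397 q17868, e3 q19858 (flp_g L731753) q21600, e3 q19859 L713411 q19859, e3 q19860 (flp_g L728523) q21196, e3 q19861 L713427 q17881, e3 q19862 L713434 q17882, e3 q19863 (flp_g L713436) q17874, e3 q19864 (flp_g L731778) q21603, e3 q19865 L713450 q17885, e3 q19866 (flp_g L728494) q21193,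 e3 q19867 (flp_g L727262) q21083, e3 q19868 (flp_g L727239) q21081, e3 q19869 (flp_g L727219) q21079, e3 q19870 (flp_g L728535) q21197, e3 q19871 (flp_g L731771) q21602, e3 q19872 (flp_g L727211) q21078, e3 q19873 L713524 q17899, e3 q19874 L713530 q17884, e3 q19875 (flp_g L731851) q21613, e3 q19876 (flp_g L731787) q21605, e3 q19877 (flp_g L729068) q21249, e3 q19878 (flp_g L726557) q21003, e3 q19879 (flp_g L726565) q21004, e3 q19880 L731877 q21618, e3 q19881 (flp_g L726582) q21006, e3 q19882 (flp_g L713582) q17889, e3 q19883 (flp_g L731903) q21620, e3 q19884 (flp_g L726612) q21009, e3 q19885 (flp_g L726620) q21010, e3 q19886 (flp_g L713612) q17892, e3 q19887 (flp_g L731921) q21623, e3 q19888 (flp_g L731929) q21624, e3 q19889 (flp_g L726649) q21014, e3 q19890 (flp_g L726655) q21015, e3 q19891 (flp_g L728428) q21187, e3 q19892 L713652 q17896, e3 q19893 (flp_g L731967) q21630, e3 q19894 (flp_g L726685) q21019, e3 q19895 (flp_g L726693) q21020, e3 q19896 (flp_g L731843) q21612, e3 q19897 L713678 q17901, e3 q19898 (flp_g L731995)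 q21636, e3 q19899 (flp_g L726721) q21024, e3 q19900 (flp_g L725662) q20913, e3 q19901 L713702 q19901, e3 q19902 L713709 q19902, e3 q19903 (flp_g L728778) q21220, trivial⟩ (by decide +kernel)

theorem ce_g_311 : ∀ r, r < 64 → sm gg (Qf (19904 + r)) = Qf (tab Gen.g (19904 + r)) :=
  edges_tab (sm gg) Qf (tab Gen.g) 19904 [(19904, 19904), (19905, 21223), (19906, 19906), (19907, 19907), (19908, 17926), (19909, 17913), (19910, 21263), (19911, 17928), (19912, 17918), (19913, 21648), (19914, 17932), (19915, 21216), (19916, 17923), (19917, 21652), (19918, 17936), (19919, 21195), (19920, 21646), (19921, 19921), (19922, 17931), (19923, 21656), (19924, 21650), (19925, 19925), (19926, 17935), (19927, 21080), (19928, 21194), (19929, 21658), (19930, 21085), (19931, 18029), (19932, 18049), (19933, 20291), (19934, 20353), (19935, 21163), (19936, 20373), (19937, 21088), (19938, 20963), (19939, 21089), (19940, 21090), (19941, 21038), (19942, 21091), (19943, 21092), (19944, 21093), (19945, 20987), (19946, 20278), (19947, 21094), (19948, 21095),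 (19949, 21096), (19950, 17974), (19951, 21374), (19952, 19952), (19953, 19953), (19954, 19954), (19955, 19955), (19956, 20627), (19957, 18002), (19958, 19958), (19959, 19959), (19960, 19960), (19961, 19961), (19962, 19962), (19963, 19963), (19964, 19964), (19965, 21219), (19966, 19966), (19967, 19967)]
    ⟨e3 q19904 L713730 q19904, e3 q19905 (flp_g L728807) q21223, e3 q19906 L713743 q19906, e3 q19907 L713752 q19907, e3 q19908 L713762 q17926, e3 q19909 L713769 q17913, e3 q19910 (flp_g L729196) q21263, e3 q19911 L713785 q17928, e3 q19912 L713795 q17918, e3 q19913 (flp_g L732087) q21648, e3 q19914 L713807 q17932, e3 q19915 (flp_g L728730) q21216, e3 q19916 L713827 q17923, e3 q19917 (flp_g L732117) q21652, e3 q19918 L713837 q17936, e3 q19919 (flp_g L728512) q21195, e3 q19920 (flp_g L732071) q21646, e3 q19921 L713861 q19921, e3 q19922 L713868 q17931, e3 q19923 (flp_g L732144) q21656, e3 q19924 (flp_g L732101) q21650, e3 q19925 L713890 q19925, e3 q19926 L713895 q17935, e3 q19927 (flp_g L727228) q21080, e3 q19928 (flp_g L728504)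 q21194, e3 q19929 L732157 q21658, e3 q19930 (flp_g L727289) q21085, e3 q19931 L713937 q18029, e3 q19932 L713952 q18049, e3 q19933 (flp_g L718533) q20291, e3 q19934 (flp_g L719285) q20353, e3 q19935 (flp_g L728195) q21163, e3 q19936 (flp_g L719526) q20373, e3 q19937 (flp_g L727330) q21088, e3 q19938 (flp_g L726161) q20963, e3 q19939 (flp_g L727345) q21089, e3 q19940 (flp_g L727355) q21090, e3 q19941 (flp_g L726858) q21038, e3 q19942 (flp_g L727368) q21091, e3 q19943 (flp_g L727382) q21092, e3 q19944 (flp_g L727390) q21093, e3 q19945 (flp_g L726414) q20987, e3 q19946 (flp_g L718379) q20278, e3 q19947 (flp_g L727403) q21094, e3 q19948 (flp_g L727415) q21095, e3 q19949 (flp_g L727425) q21096, e3 q19950 (flp_g L714074) q17974, e3 q19951 (flp_g L730134) q21374, e3 q19952 L714091 q19952, e3 q19953 L714096 q19953, e3 q19954 L714102 q19954, e3 q19955 L714107 q19955, e3 q19956 (flp_g L722635) q20627, e3 q19957 (flp_g L714115) q18002, e3 q19958 L714127 q19958, e3 q19959 L714139 q19959, e3 q19960 L714147 q19960, e3 q19961 L714158 q19961,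 e3 q19962 L714172 q19962, e3 q19963 L714183 q19963, e3 q19964 L714194 q19964, e3 q19965 (flp_g L728768) q21219, e3 q19966 L714212 q19966, e3 q19967 L714217 q19967, trivial⟩ (by decide +kernel)

theorem ce_g_312 : ∀ r, r < 64 → sm gg (Qf (19968 + r)) = Qf (tab Gen.g (19968 + r)) :=
  edges_tab (sm gg) Qf (tab Gen.g) 19968 [(19968, 21086), (19969, 21660), (19970, 18031), (19971, 21680), (19972, 19972), (19973, 18034), (19974, 18035), (19975, 21682), (19976, 21683), (19977, 19977), (19978, 19978), (19979, 18039), (19980, 21687), (19981, 19981), (19982, 19982), (19983, 21221), (19984, 21217), (19985, 19985), (19986, 21224), (19987, 21661), (19988, 18052), (19989, 21694), (19990, 18064), (19991, 18056), (19992, 21697), (19993, 21222), (19994, 18060), (19995, 18063), (19996, 19996), (19997, 19997), (19998, 19998), (19999, 19999), (20000, 20000), (20001, 20001), (20002, 18783), (20003, 18092), (20004, 20004), (20005, 18098), (20006, 20006), (20007, 20007), (20008, 20008), (20009, 18107), (20010, 18583), (20011, 19568), (20012, 18114),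 (20013, 18115), (20014, 18572), (20015, 19266), (20016, 21704), (20017, 19558), (20018, 19566), (20019, 18124), (20020, 19555), (20021, 18128), (20022, 21709), (20023, 19557), (20024, 19574), (20025, 19550), (20026, 19273), (20027, 19274), (20028, 18740), (20029, 18139), (20030, 18140), (20031, 21717)]
    ⟨e3 q19968 (flp_g L727304) q21086, e3 q19969 (flp_g L732183) q21660, e3 q19970 L714250 q18031, e3 q19971 (flp_g L732339) q21680, e3 q19972 L714268 q19972, e3 q19973 L714277 q18034, e3 q19974 L714285 q18035, e3 q19975 (flp_g L732355) q21682, e3 q19976 (flp_g L732360) q21683, e3 q19977 L714300 q19977, e3 q19978 L714305 q19978, e3 q19979 L714315 q18039, e3 q19980 (flp_g L732383) q21687, e3 q19981 L714325 q19981, e3 q19982 L714335 q19982, e3 q19983 (flp_g L728788) q21221, e3 q19984 (flp_g L728743) q21217, e3 q19985 L714365 q19985, e3 q19986 (flp_g L728814) q21224, e3 q19987 (flp_g L732196) q21661, e3 q19988 L714396 q18052, e3 q19989 (flp_g L732439) q21694, e3 q19990 L714410 q18064, e3 q19991 L714418 q18056, e3 q19992 (flp_g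 L732455) q21697, e3 q19993 (flp_g L728797) q21222, e3 q19994 L714437 q18060, e3 q19995 L714446 q18063, e3 q19996 L714455 q19996, e3 q19997 L714460 q19997, e3 q19998 L714463 q19998, e3 q19999 L714470 q19999, e3 q20000 L714476 q20000, e3 q20001 L714490 q20001, e3 q20002 L714509 q18783, e3 q20003 L714524 q18092, e3 q20004 L714538 q20004, e3 q20005 L714551 q18098, e3 q20006 L714572 q20006, e3 q20007 L714589 q20007, e3 q20008 L714603 q20008, e3 q20009 L714620 q18107, e3 q20010 L714642 q18583, e3 q20011 L714656 q19568, e3 q20012 L714678 q18114, e3 q20013 L714692 q18115, e3 q20014 L714713 q18572, e3 q20015 L714727 q19266, e3 q20016 (flp_g L732530) q21704, e3 q20017 L714755 q19558, e3 q20018 L714774 q19566, e3 q20019 L714794 q18124, e3 q20020 L714814 q19555, e3 q20021 L714834 q18128, e3 q20022 (flp_g L732619) q21709, e3 q20023 L714860 q19557, e3 q20024 L714874 q19574, e3 q20025 L714889 q19550, e3 q20026 L714904 q19273, e3 q20027 L714924 q19274, e3 q20028 L714941 q18740, e3 q20029 L714954 q18139, e3 q20030 L714966 q18140, e3 q20031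 (flp_g L732757) q21717, trivial⟩ (by decide +kernel)

theorem ce_g_313 : ∀ r, r < 64 → sm gg (Qf (20032 + r)) = Qf (tab Gen.g (20032 + r)) :=
  edges_tab (sm gg) Qf (tab Gen.g) 20032 [(20032, 19294), (20033, 19295), (20034, 18199), (20035, 18200), (20036, 18755), (20037, 19277), (20038, 19278), (20039, 18817), (20040, 18634), (20041, 19279), (20042, 18154), (20043, 18155), (20044, 18156), (20045, 18764), (20046, 18157), (20047, 18158), (20048, 18767), (20049, 18159), (20050, 21729), (20051, 21731), (20052, 21732), (20053, 21734), (20054, 21736), (20055, 19588), (20056, 18778), (20057, 18164), (20058, 21741), (20059, 18168), (20060, 18713), (20061, 19280), (20062, 19281), (20063, 18176), (20064, 19682), (20065, 19714), (20066, 19284), (20067, 19285), (20068, 18182), (20069, 21746), (20070, 19683), (20071, 19678), (20072, 19692), (20073, 19658), (20074, 19288), (20075, 19289), (20076, 19276), (20077, 18193), (20078, 21751), (20079, 18198), (20080, 18197), (20081, 21754), (20082, 21753), (20083, 21723), (20084, 21724), (20085,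 19302), (20086, 19303), (20087, 18203), (20088, 21759), (20089, 19306), (20090, 18749), (20091, 18209), (20092, 21763), (20093, 18218), (20094, 18213), (20095, 21766)]
    ⟨e3 q20032 L714996 q19294, e3 q20033 L715016 q19295, e3 q20034 L715028 q18199, e3 q20035 L715048 q18200, e3 q20036 L715062 q18755, e3 q20037 L715074 q19277, e3 q20038 L715084 q19278, e3 q20039 L715102 q18817, e3 q20040 L715116 q18634, e3 q20041 L715128 q19279, e3 q20042 L715144 q18154, e3 q20043 L715162 q18155, e3 q20044 L715179 q18156, e3 q20045 L715194 q18764, e3 q20046 L715205 q18157, e3 q20047 L715215 q18158, e3 q20048 L715233 q18767, e3 q20049 L715243 q18159, e3 q20050 (flp_g L732954) q21729, e3 q20051 (flp_g L732986) q21731, e3 q20052 (flp_g L732998) q21732, e3 q20053 (flp_g L733027) q21734, e3 q20054 (flp_g L733051) q21736, e3 q20055 L715327 q19588, e3 q20056 L715344 q18778, e3 q20057 L715355 q18164, e3 q20058 (flp_g L733130) q21741, e3 q20059 L715385 q18168, e3 q20060 L715402 q18713, e3 q20061 L715418 q19280, e3 q20062 L715440 q19281, e3 q20063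 L715454 q18176, e3 q20064 L715474 q19682, e3 q20065 L715488 q19714, e3 q20066 L715509 q19284, e3 q20067 L715521 q19285, e3 q20068 L715543 q18182, e3 q20069 (flp_g L733222) q21746, e3 q20070 L715571 q19683, e3 q20071 L715591 q19678, e3 q20072 L715613 q19692, e3 q20073 L715633 q19658, e3 q20074 L715647 q19288, e3 q20075 L715659 q19289, e3 q20076 L715673 q19276, e3 q20077 (flp_g L715681) q18193, e3 q20078 (flp_g L733311) q21751, e3 q20079 L715719 q18198, e3 q20080 L715736 q18197, e3 q20081 (flp_g L733352) q21754, e3 q20082 (flp_g L733333) q21753, e3 q20083 (flp_g L732860) q21723, e3 q20084 (flp_g L732874) q21724, e3 q20085 L715807 q19302, e3 q20086 L715821 q19303, e3 q20087 (flp_g L715829) q18203, e3 q20088 (flp_g L733437) q21759, e3 q20089 L715867 q19306, e3 q20090 L715881 q18749, e3 q20091 L715895 q18209, e3 q20092 (flp_g L733487) q21763, e3 q20093 L715915 q18218, e3 q20094 L715935 q18213, e3 q20095 (flp_g L733527) q21766, trivial⟩ (by decide +kernel)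

theorem ce_g_314 : ∀ r, r < 64 → sm gg (Qf (20096 + r)) = Qf (tab Gen.g (20096 + r)) :=
  edges_tab (sm gg) Qf (tab Gen.g) 20096 [(20096, 18680), (20097, 18217), (20098, 21768), (20099, 21765), (20100, 18782), (20101, 18221), (20102, 21770), (20103, 18226), (20104, 18225), (20105, 21773), (20106, 18325), (20107, 18326), (20108, 19327), (20109, 19328), (20110, 19329), (20111, 18231), (20112, 18232), (20113, 19529), (20114, 21782), (20115, 21783), (20116, 19262), (20117, 19232), (20118, 19021), (20119, 19332), (20120, 19333), (20121, 20121), (20122, 21795), (20123, 20123), (20124, 20124), (20125, 18243), (20126, 19027), (20127, 18244), (20128, 21798), (20129, 21800), (20130, 18248), (20131, 18249), (20132, 19472), (20133, 19530), (20134, 21808), (20135, 21803), (20136, 21804), (20137, 19338), (20138, 19339), (20139, 18404), (20140, 19041), (20141, 19340), (20142, 19341), (20143, 19044), (20144, 19342), (20145, 21776), (20146, 20146), (20147, 20147), (20148, 18258), (20149, 21825), (20150, 20150), (20151, 18267), (20152, 19053),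 (20153, 18268), (20154, 18269), (20155, 19055), (20156, 18270), (20157, 21828), (20158, 21830), (20159, 21831)]
    ⟨e3 q20096 L715965 q18680, e3 q20097 L715975 q18217, e3 q20098 (flp_g L733553) q21768, e3 q20099 (flp_g L733505) q21765, e3 q20100 L716013 q18782, e3 q20101 L716031 q18221, e3 q20102 (flp_g L733587) q21770, e3 q20103 L716051 q18226, e3 q20104 L716064 q18225, e3 q20105 (flp_g L733624) q21773, e3 q20106 L716093 q18325, e3 q20107 L716111 q18326, e3 q20108 L716122 q19327, e3 q20109 L716135 q19328, e3 q20110 L716150 q19329, e3 q20111 L716159 q18231, e3 q20112 L716177 q18232, e3 q20113 L716189 q19529, e3 q20114 (flp_g L733748) q21782, e3 q20115 (flp_g L733769) q21783, e3 q20116 L716228 q19262, e3 q20117 L716245 q19232, e3 q20118 L716259 q19021, e3 q20119 L716269 q19332, e3 q20120 L716279 q19333, e3 q20121 L716296 q20121, e3 q20122 L733922 q21795, e3 q20123 L716323 q20123, e3 q20124 L716332 q20124, e3 q20125 L716349 q18243, e3 q20126 L716364 q19027, e3 q20127 L716376 q18244, e3 q20128 (flp_g L733970) q21798, e3 q20129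 (flp_g L733997) q21800, e3 q20130 L716416 q18248, e3 q20131 L716435 q18249, e3 q20132 L716447 q19472, e3 q20133 L716465 q19530, e3 q20134 L734115 q21808, e3 q20135 (flp_g L734050) q21803, e3 q20136 (flp_g L734063) q21804, e3 q20137 L716509 q19338, e3 q20138 L716529 q19339, e3 q20139 L716537 q18404, e3 q20140 L716557 q19041, e3 q20141 L716567 q19340, e3 q20142 L716577 q19341, e3 q20143 L716589 q19044, e3 q20144 L716599 q19342, e3 q20145 (flp_g L733668) q21776, e3 q20146 L716625 q20146, e3 q20147 L716636 q20147, e3 q20148 (flp_g L716639) q18258, e3 q20149 (flp_g L734348) q21825, e3 q20150 L716670 q20150, e3 q20151 L716683 q18267, e3 q20152 L716700 q19053, e3 q20153 L716712 q18268, e3 q20154 L716720 q18269, e3 q20155 L716734 q19055, e3 q20156 L716742 q18270, e3 q20157 (flp_g L734381) q21828, e3 q20158 (flp_g L734413) q21830, e3 q20159 (flp_g L734426) q21831, trivial⟩ (by decide +kernel)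

theorem ce_g_315 : ∀ r, r < 64 → sm gg (Qf (20160 + r)) = Qf (tab Gen.g (20160 + r)) :=
  edges_tab (sm gg) Qf (tab Gen.g) 20160 [(20160, 21833), (20161, 18272), (20162, 21837), (20163, 20163), (20164, 19062), (20165, 18276), (20166, 21842), (20167, 19531), (20168, 18403), (20169, 18461), (20170, 19352), (20171, 18373), (20172, 18405), (20173, 18462), (20174, 19353), (20175, 20175), (20176, 18289), (20177, 18290), (20178, 18481), (20179, 19361), (20180, 18933), (20181, 18934), (20182, 18962), (20183, 18972), (20184, 20184), (20185, 18305), (20186, 18307), (20187, 18308), (20188, 21859), (20189, 21860), (20190, 21861), (20191, 18942), (20192, 18948), (20193, 18922), (20194, 19365), (20195, 19366), (20196, 20196), (20197, 20197), (20198, 18318), (20199, 18927), (20200, 18319), (20201, 21872), (20202, 21874), (20203, 18931), (20204, 18322), (20205, 19330), (20206, 19331), (20207, 21774), (20208, 21775), (20209, 19368), (20210, 19369), (20211, 19752), (20212, 19370), (20213, 19371), (20214, 20214), (20215, 18335), (20216, 19768),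 (20217, 18336), (20218, 21886), (20219, 21888), (20220, 18339), (20221, 18340), (20222, 21890), (20223, 21891)]
    ⟨e3 q20160 (flp_g L734448) q21833, e3 q20161 L716809 q18272, e3 q20162 (flp_g L734511) q21837, e3 q20163 L716833 q20163, e3 q20164 L716847 q19062, e3 q20165 L716856 q18276, e3 q20166 (flp_g L734566) q21842, e3 q20167 L716885 q19531, e3 q20168 L716897 q18403, e3 q20169 L716914 q18461, e3 q20170 L716928 q19352, e3 q20171 L716940 q18373, e3 q20172 L716954 q18405, e3 q20173 L716967 q18462, e3 q20174 L716978 q19353, e3 q20175 L716989 q20175, e3 q20176 L717001 q18289, e3 q20177 L717018 q18290, e3 q20178 L717031 q18481, e3 q20179 L717046 q19361, e3 q20180 L717065 q18933, e3 q20181 L717085 q18934, e3 q20182 L717099 q18962, e3 q20183 L717119 q18972, e3 q20184 L717133 q20184, e3 q20185 L717146 q18305, e3 q20186 L717159 q18307, e3 q20187 L717175 q18308, e3 q20188 (flp_g L734805) q21859, e3 q20189 (flp_g L734820) q21860, e3 q20190 (flp_g L734837) q21861, e3 q20191 L717226 q18942, e3 q20192 L717243 q18948, e3 q20193 L717261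 q18922, e3 q20194 L717271 q19365, e3 q20195 L717281 q19366, e3 q20196 L717296 q20196, e3 q20197 L717307 q20197, e3 q20198 L717322 q18318, e3 q20199 L717338 q18927, e3 q20200 L717352 q18319, e3 q20201 (flp_g L734990) q21872, e3 q20202 (flp_g L735021) q21874, e3 q20203 L717403 q18931, e3 q20204 L717414 q18322, e3 q20205 L717431 q19330, e3 q20206 L717448 q19331, e3 q20207 (flp_g L733641) q21774, e3 q20208 (flp_g L733660) q21775, e3 q20209 L717482 q19368, e3 q20210 L717501 q19369, e3 q20211 L717519 q19752, e3 q20212 L717527 q19370, e3 q20213 L717535 q19371, e3 q20214 L717549 q20214, e3 q20215 L717566 q18335, e3 q20216 L717583 q19768, e3 q20217 L717597 q18336, e3 q20218 (flp_g L735201) q21886, e3 q20219 (flp_g L735234) q21888, e3 q20220 L717641 q18339, e3 q20221 L717656 q18340, e3 q20222 (flp_g L735268) q21890, e3 q20223 (flp_g L735279) q21891, trivial⟩ (by decide +kernel)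

theorem ce_g_316 : ∀ r, r < 64 → sm gg (Qf (20224 + r)) = Qf (tab Gen.g (20224 + r)) :=
  edges_tab (sm gg) Qf (tab Gen.g) 20224 [(20224, 19389), (20225, 19390), (20226, 18343), (20227, 21896), (20228, 19392), (20229, 18351), (20230, 18883), (20231, 18349), (20232, 21900), (20233, 18355), (20234, 20234), (20235, 18354), (20236, 21903), (20237, 18884), (20238, 18358), (20239, 21905), (20240, 20240), (20241, 18362), (20242, 19421), (20243, 19849), (20244, 19838), (20245, 19853), (20246, 19429), (20247, 19430), (20248, 19431), (20249, 19817), (20250, 19432), (20251, 19433), (20252, 18374), (20253, 18375), (20254, 21844), (20255, 21815), (20256, 21848), (20257, 21932), (20258, 21925), (20259, 21926), (20260, 19442), (20261, 19443), (20262, 19444), (20263, 19793), (20264, 19446), (20265, 19447), (20266, 18379), (20267, 21945), (20268, 19450), (20269, 20269), (20270, 20270), (20271, 18384), (20272, 21950), (20273, 20273), (20274, 18394), (20275, 19794), (20276, 18395), (20277, 18396), (20278, 19946), (20279, 18392), (20280, 21957),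 (20281, 18400), (20282, 21953), (20283, 21955), (20284, 20284), (20285, 18399), (20286, 21961), (20287, 21959)]
    ⟨e3 q20224 L717700 q19389, e3 q20225 L717714 q19390, e3 q20226 (flp_g L717718) q18343, e3 q20227 (flp_g L735361) q21896, e3 q20228 L717754 q19392, e3 q20229 L717762 q18351, e3 q20230 L717786 q18883, e3 q20231 L717800 q18349, e3 q20232 (flp_g L735409) q21900, e3 q20233 L717816 q18355, e3 q20234 L717838 q20234, e3 q20235 L717851 q18354, e3 q20236 (flp_g L735446) q21903, e3 q20237 L717884 q18884, e3 q20238 L717900 q18358, e3 q20239 (flp_g L735481) q21905, e3 q20240 L717924 q20240, e3 q20241 L717934 q18362, e3 q20242 L717949 q19421, e3 q20243 L717961 q19849, e3 q20244 L717972 q19838, e3 q20245 L717987 q19853, e3 q20246 L717995 q19429, e3 q20247 L718007 q19430, e3 q20248 L718019 q19431, e3 q20249 L718030 q19817, e3 q20250 L718040 q19432, e3 q20251 L718047 q19433, e3 q20252 L718055 q18374, e3 q20253 L718070 q18375, e3 q20254 (flp_g L734599) q21844, e3 q20255 (flp_g L734222) q21815, e3 q20256 (flp_g L734658) q21848,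 e3 q20257 L735802 q21932, e3 q20258 (flp_g L735721) q21925, e3 q20259 (flp_g L735730) q21926, e3 q20260 L718150 q19442, e3 q20261 L718167 q19443, e3 q20262 L718171 q19444, e3 q20263 (flp_g L718188) q19793, e3 q20264 L718196 q19446, e3 q20265 L718204 q19447, e3 q20266 (flp_g L718208) q18379, e3 q20267 (flp_g L735992) q21945, e3 q20268 L718238 q19450, e3 q20269 L718253 q20269, e3 q20270 L718264 q20270, e3 q20271 (flp_g L718269) q18384, e3 q20272 (flp_g L736047) q21950, e3 q20273 L718306 q20273, e3 q20274 L718321 q18394, e3 q20275 L718337 q19794, e3 q20276 L718351 q18395, e3 q20277 L718361 q18396, e3 q20278 L718379 q19946, e3 q20279 L718392 q18392, e3 q20280 (flp_g L736148) q21957, e3 q20281 L718406 q18400, e3 q20282 (flp_g L736083) q21953, e3 q20283 (flp_g L736116) q21955, e3 q20284 L718452 q20284, e3 q20285 L718465 q18399, e3 q20286 (flp_g L736195) q21961, e3 q20287 (flp_g L736165) q21959, trivial⟩ (by decide +kernel)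

theorem ce_g_317 : ∀ r, r < 64 → sm gg (Qf (20288 + r)) = Qf (tab Gen.g (20288 + r)) :=
  edges_tab (sm gg) Qf (tab Gen.g) 20288 [(20288, 21962), (20289, 18407), (20290, 18408), (20291, 19933), (20292, 21811), (20293, 21845), (20294, 21816), (20295, 21849), (20296, 18406), (20297, 21972), (20298, 21964), (20299, 19478), (20300, 19479), (20301, 19480), (20302, 19826), (20303, 19482), (20304, 19483), (20305, 19485), (20306, 19486), (20307, 18413), (20308, 21986), (20309, 19489), (20310, 19490), (20311, 21971), (20312, 18417), (20313, 21991), (20314, 19494), (20315, 20315), (20316, 20316), (20317, 20317), (20318, 18433), (20319, 18423), (20320, 21998), (20321, 20321), (20322, 18437), (20323, 19827), (20324, 18438), (20325, 18439), (20326, 19067), (20327, 18430), (20328, 22005), (20329, 18443), (20330, 21997), (20331, 18435), (20332, 22008), (20333, 18447), (20334, 22001), (20335, 22003), (20336, 20336), (20337, 18442), (20338, 22013), (20339, 20339), (20340, 18446), (20341, 22011), (20342, 18452), (20343, 18450), (20344, 22016),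 (20345, 20345), (20346, 22015), (20347, 18454), (20348, 22021), (20349, 22022), (20350, 18459), (20351, 20351)]
    ⟨e3 q20288 L736204 q21962, e3 q20289 L718512 q18407, e3 q20290 L718521 q18408, e3 q20291 L718533 q19933, e3 q20292 (flp_g L734159) q21811, e3 q20293 (flp_g L734615) q21845, e3 q20294 (flp_g L734236) q21816, e3 q20295 (flp_g L734669) q21849, e3 q20296 (flp_g L718589) q18406, e3 q20297 (flp_g L736344) q21972, e3 q20298 (flp_g L736232) q21964, e3 q20299 L718633 q19478, e3 q20300 L718651 q19479, e3 q20301 L718657 q19480, e3 q20302 (flp_g L718683) q19826, e3 q20303 L718693 q19482, e3 q20304 L718703 q19483, e3 q20305 L718715 q19485, e3 q20306 L718731 q19486, e3 q20307 (flp_g L718735) q18413, e3 q20308 (flp_g L736544) q21986, e3 q20309 L718771 q19489, e3 q20310 L718777 q19490, e3 q20311 (flp_g L736330) q21971, e3 q20312 L718797 q18417, e3 q20313 (flp_g L736586) q21991, e3 q20314 L718811 q19494, e3 q20315 L718825 q20315, e3 q20316 L718836 q20316, e3 q20317 L718843 q20317, e3 q20318 L718861 q18433, e3 q20319 L718874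 q18423, e3 q20320 (flp_g L736657) q21998, e3 q20321 L718894 q20321, e3 q20322 L718909 q18437, e3 q20323 L718925 q19827, e3 q20324 L718939 q18438, e3 q20325 L718951 q18439, e3 q20326 L718969 q19067, e3 q20327 L718983 q18430, e3 q20328 (flp_g L736758) q22005, e3 q20329 L719001 q18443, e3 q20330 (flp_g L736644) q21997, e3 q20331 L719023 q18435, e3 q20332 (flp_g L736786) q22008, e3 q20333 L719037 q18447, e3 q20334 (flp_g L736688) q22001, e3 q20335 (flp_g L736724) q22003, e3 q20336 L719089 q20336, e3 q20337 L719102 q18442, e3 q20338 L736837 q22013, e3 q20339 L719129 q20339, e3 q20340 L719136 q18446, e3 q20341 (flp_g L736810) q22011, e3 q20342 L719166 q18452, e3 q20343 L719181 q18450, e3 q20344 (flp_g L736887) q22016, e3 q20345 L719199 q20345, e3 q20346 (flp_g L736875) q22015, e3 q20347 L719222 q18454, e3 q20348 (flp_g L736945) q22021, e3 q20349 (flp_g L736956) q22022, e3 q20350 L719243 q18459, e3 q20351 L719254 q20351, trivial⟩ (by decide +kernel)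

theorem ce_g_318 : ∀ r, r < 64 → sm gg (Qf (20352 + r)) = Qf (tab Gen.g (20352 + r)) :=
  edges_tab (sm gg) Qf (tab Gen.g) 20352 [(20352, 18458), (20353, 19934), (20354, 21846), (20355, 21850), (20356, 19077), (20357, 19239), (20358, 19533), (20359, 19534), (20360, 19535), (20361, 19536), (20362, 19537), (20363, 19538), (20364, 19539), (20365, 19540), (20366, 19541), (20367, 20367), (20368, 20368), (20369, 20369), (20370, 18478), (20371, 22042), (20372, 18479), (20373, 19936), (20374, 18886), (20375, 19240), (20376, 18499), (20377, 22043), (20378, 18504), (20379, 18519), (20380, 18517), (20381, 22044), (20382, 18533), (20383, 18512), (20384, 18527), (20385, 18525), (20386, 18531), (20387, 18529), (20388, 18520), (20389, 19270), (20390, 22046), (20391, 18536), (20392, 22045), (20393, 19269), (20394, 18674), (20395, 19561), (20396, 22049), (20397, 19565), (20398, 22048), (20399, 19573), (20400, 18563), (20401, 19571), (20402, 18559), (20403, 22047), (20404, 18537), (20405, 18545), (20406, 22052), (20407, 18736), (20408, 18544),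 (20409, 18546), (20410, 18554), (20411, 18553), (20412, 22061), (20413, 22058), (20414, 19556), (20415, 18761)]
    ⟨e3 q20352 L719266 q18458, e3 q20353 L719285 q19934, e3 q20354 (flp_g L734630) q21846, e3 q20355 (flp_g L734678) q21850, e3 q20356 L719319 q19077, e3 q20357 L719339 q19239, e3 q20358 L719353 q19533, e3 q20359 L719366 q19534, e3 q20360 L719381 q19535, e3 q20361 L719395 q19536, e3 q20362 L719406 q19537, e3 q20363 L719418 q19538, e3 q20364 L719430 q19539, e3 q20365 L719440 q19540, e3 q20366 L719449 q19541, e3 q20367 L719462 q20367, e3 q20368 L719470 q20368, e3 q20369 L719478 q20369, e3 q20370 L719492 q18478, e3 q20371 L737192 q22042, e3 q20372 (flp_g L719504) q18479, e3 q20373 L719526 q19936, e3 q20374 L719537 q18886, e3 q20375 L719555 q19240, e3 q20376 L719576 q18499, e3 q20377 (flp_g L737217) q22043, e3 q20378 L719612 q18504, e3 q20379 L719629 q18519, e3 q20380 L719646 q18517, e3 q20381 (flp_g L737237) q22044, e3 q20382 L719678 q18533, e3 q20383 L719690 q18512, e3 q20384 L719706 q18527, e3 q20385 L719722 q18525,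 e3 q20386 L719734 q18531, e3 q20387 L719751 q18529, e3 q20388 L719766 q18520, e3 q20389 L719787 q19270, e3 q20390 (flp_g L737275) q22046, e3 q20391 L719814 q18536, e3 q20392 (flp_g L737257) q22045, e3 q20393 L719836 q19269, e3 q20394 L719856 q18674, e3 q20395 L719872 q19561, e3 q20396 (flp_g L737327) q22049, e3 q20397 L719896 q19565, e3 q20398 (flp_g L737309) q22048, e3 q20399 L719916 q19573, e3 q20400 L719933 q18563, e3 q20401 L719950 q19571, e3 q20402 L719967 q18559, e3 q20403 (flp_g L737293) q22047, e3 q20404 L719998 q18537, e3 q20405 L720015 q18545, e3 q20406 (flp_g L737378) q22052, e3 q20407 L720045 q18736, e3 q20408 L720062 q18544, e3 q20409 L720070 q18546, e3 q20410 L720087 q18554, e3 q20411 L720105 q18553, e3 q20412 (flp_g L737526) q22061, e3 q20413 (flp_g L737475) q22058, e3 q20414 L720137 q19556, e3 q20415 L720149 q18761, trivial⟩ (by decide +kernel)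

theorem ce_g_319 : ∀ r, r < 64 → sm gg (Qf (20416 + r)) = Qf (tab Gen.g (20416 + r)) :=
  edges_tab (sm gg) Qf (tab Gen.g) 20416 [(20416, 18555), (20417, 18570), (20418, 18556), (20419, 22063), (20420, 22062), (20421, 22057), (20422, 22055), (20423, 19549), (20424, 18595), (20425, 19575), (20426, 18591), (20427, 19272), (20428, 18815), (20429, 18571), (20430, 18573), (20431, 19551), (20432, 22066), (20433, 22073), (20434, 21705), (20435, 22074), (20436, 19562), (20437, 18584), (20438, 18585), (20439, 18588), (20440, 19548), (20441, 19552), (20442, 19553), (20443, 21703), (20444, 22081), (20445, 22070), (20446, 18587), (20447, 19570), (20448, 22069), (20449, 19554), (20450, 22072), (20451, 19720), (20452, 18730), (20453, 18731), (20454, 19283), (20455, 19286), (20456, 18681), (20457, 18611), (20458, 18716), (20459, 18717), (20460, 18852), (20461, 19576), (20462, 19577), (20463, 18659), (20464, 18620), (20465, 19309), (20466, 18621), (20467, 18622), (20468, 22101), (20469, 22103), (20470, 18624), (20471, 18625), (20472, 22106),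 (20473, 22107), (20474, 19581), (20475, 19582), (20476, 19661), (20477, 19583), (20478, 19584), (20479, 18685)]
    ⟨e3 q20416 L720161 q18555, e3 q20417 L720179 q18570, e3 q20418 L720191 q18556, e3 q20419 (flp_g L737562) q22063, e3 q20420 (flp_g L737544) q22062, e3 q20421 (flp_g L737453) q22057, e3 q20422 (flp_g L737419) q22055, e3 q20423 L720241 q19549, e3 q20424 L720252 q18595, e3 q20425 L720266 q19575, e3 q20426 L720277 q18591, e3 q20427 L720289 q19272, e3 q20428 L720307 q18815, e3 q20429 L720321 q18571, e3 q20430 L720333 q18573, e3 q20431 L720351 q19551, e3 q20432 (flp_g L737602) q22066, e3 q20433 (flp_g L737693) q22073, e3 q20434 (flp_g L732550) q21705, e3 q20435 (flp_g L737704) q22074, e3 q20436 L720401 q19562, e3 q20437 L720411 q18584, e3 q20438 L720419 q18585, e3 q20439 L720429 q18588, e3 q20440 L720445 q19548, e3 q20441 L720461 q19552, e3 q20442 L720473 q19553, e3 q20443 (flp_g L732512) q21703, e3 q20444 (flp_g L737788) q22081, e3 q20445 (flp_g L737649) q22070, e3 q20446 L720506 q18587, e3 q20447 L720516 q19570,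 e3 q20448 (flp_g L737637) q22069, e3 q20449 L720536 q19554, e3 q20450 (flp_g L737681) q22072, e3 q20451 L720565 q19720, e3 q20452 L720580 q18730, e3 q20453 L720597 q18731, e3 q20454 L720611 q19283, e3 q20455 L720629 q19286, e3 q20456 L720641 q18681, e3 q20457 L720651 q18611, e3 q20458 L720663 q18716, e3 q20459 L720682 q18717, e3 q20460 L720694 q18852, e3 q20461 L720709 q19576, e3 q20462 L720725 q19577, e3 q20463 L720737 q18659, e3 q20464 L720752 q18620, e3 q20465 L720769 q19309, e3 q20466 L720782 q18621, e3 q20467 L720790 q18622, e3 q20468 (flp_g L738070) q22101, e3 q20469 (flp_g L738101) q22103, e3 q20470 L720832 q18624, e3 q20471 L720852 q18625, e3 q20472 (flp_g L738145) q22106, e3 q20473 (flp_g L738167) q22107, e3 q20474 L720888 q19581, e3 q20475 L720906 q19582, e3 q20476 L720924 q19661, e3 q20477 L720934 q19583, e3 q20478 L720942 q19584, e3 q20479 L720954 q18685, trivial⟩ (by decide +kernel)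

theorem ce_g_320 : ∀ r, r < 64 → sm gg (Qf (20480 + r)) = Qf (tab Gen.g (20480 + r)) :=
  edges_tab (sm gg) Qf (tab Gen.g) 20480 [(20480, 18635), (20481, 19662), (20482, 18636), (20483, 21728), (20484, 22114), (20485, 22116), (20486, 19704), (20487, 18639), (20488, 19589), (20489, 18644), (20490, 18945), (20491, 19363), (20492, 19364), (20493, 19669), (20494, 19685), (20495, 18803), (20496, 19594), (20497, 19595), (20498, 22131), (20499, 19596), (20500, 19597), (20501, 19696), (20502, 18658), (20503, 18660), (20504, 18655), (20505, 22136), (20506, 18663), (20507, 22134), (20508, 22100), (20509, 22135), (20510, 18662), (20511, 22141), (20512, 22138), (20513, 18666), (20514, 18667), (20515, 22144), (20516, 22145), (20517, 18831), (20518, 18832), (20519, 19603), (20520, 19605), (20521, 19606), (20522, 18671), (20523, 22152), (20524, 19608), (20525, 18682), (20526, 18686), (20527, 18678), (20528, 22157), (20529, 18689), (20530, 21767), (20531, 22092), (20532, 22155), (20533, 18684), (20534, 22160), (20535, 22156), (20536, 18688),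 (20537, 22161), (20538, 22159), (20539, 18691), (20540, 22162), (20541, 18695), (20542, 18694), (20543, 18885)]
    ⟨e3 q20480 L720968 q18635, e3 q20481 L720984 q19662, e3 q20482 L720996 q18636, e3 q20483 (flp_g L732932) q21728, e3 q20484 (flp_g L738257) q22114, e3 q20485 (flp_g L738287) q22116, e3 q20486 L721054 q19704, e3 q20487 L721065 q18639, e3 q20488 L721086 q19589, e3 q20489 L721097 q18644, e3 q20490 L721111 q18945, e3 q20491 L721122 q19363, e3 q20492 L721137 q19364, e3 q20493 L721143 q19669, e3 q20494 L721157 q19685, e3 q20495 L721166 q18803, e3 q20496 L721178 q19594, e3 q20497 L721189 q19595, e3 q20498 L738471 q22131, e3 q20499 L721201 q19596, e3 q20500 L721207 q19597, e3 q20501 L721217 q19696, e3 q20502 L721232 q18658, e3 q20503 L721240 q18660, e3 q20504 (flp_g L721244) q18655, e3 q20505 (flp_g L738535) q22136, e3 q20506 L721268 q18663, e3 q20507 (flp_g L738509) q22134, e3 q20508 (flp_g L738052) q22100, e3 q20509 (flp_g L738517) q22135, e3 q20510 L721314 q18662, e3 q20511 (flp_g L738594) q22141, e3 q20512 (flp_g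 L738547) q22138, e3 q20513 L721345 q18666, e3 q20514 L721365 q18667, e3 q20515 (flp_g L738642) q22144, e3 q20516 (flp_g L738654) q22145, e3 q20517 L721391 q18831, e3 q20518 L721405 q18832, e3 q20519 L721415 q19603, e3 q20520 L721431 q19605, e3 q20521 L721439 q19606, e3 q20522 (flp_g L721441) q18671, e3 q20523 (flp_g L738738) q22152, e3 q20524 L721467 q19608, e3 q20525 L721473 q18682, e3 q20526 L721477 q18686, e3 q20527 L721493 q18678, e3 q20528 (flp_g L738796) q22157, e3 q20529 L721503 q18689, e3 q20530 (flp_g L733541) q21767, e3 q20531 (flp_g L737929) q22092, e3 q20532 (flp_g L738762) q22155, e3 q20533 L721555 q18684, e3 q20534 (flp_g L738832) q22160, e3 q20535 (flp_g L738780) q22156, e3 q20536 L721591 q18688, e3 q20537 (flp_g L738844) q22161, e3 q20538 (flp_g L738812) q22159, e3 q20539 L721633 q18691, e3 q20540 (flp_g L738862) q22162, e3 q20541 L721649 q18695, e3 q20542 L721664 q18694, e3 q20543 L721683 q18885, trivial⟩ (by decide +kernel)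

theorem ce_g_321 : ∀ r, r < 64 → sm gg (Qf (20544 + r)) = Qf (tab Gen.g (20544 + r)) :=
  edges_tab (sm gg) Qf (tab Gen.g) 20544 [(20544, 19619), (20545, 19620), (20546, 19621), (20547, 18705), (20548, 18706), (20549, 18784), (20550, 19579), (20551, 19580), (20552, 18715), (20553, 22093), (20554, 22094), (20555, 18846), (20556, 19604), (20557, 19609), (20558, 19607), (20559, 19612), (20560, 19694), (20561, 18725), (20562, 18726), (20563, 22180), (20564, 22181), (20565, 18908), (20566, 18909), (20567, 19394), (20568, 19382), (20569, 19397), (20570, 21730), (20571, 22088), (20572, 22089), (20573, 18813), (20574, 19624), (20575, 19625), (20576, 21713), (20577, 19626), (20578, 19627), (20579, 18770), (20580, 22060), (20581, 18743), (20582, 18859), (20583, 18744), (20584, 18745), (20585, 21716), (20586, 18746), (20587, 22202), (20588, 22204), (20589, 22205), (20590, 22207), (20591, 18750), (20592, 18751), (20593, 21758), (20594, 21762), (20595, 22215), (20596, 22211), (20597, 22212), (20598, 18759), (20599, 18833), (20600, 18849),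 (20601, 21722), (20602, 19635), (20603, 19636), (20604, 21725), (20605, 19637), (20606, 19613), (20607, 22218)]
    ⟨e3 q20544 L721698 q19619, e3 q20545 L721712 q19620, e3 q20546 L721721 q19621, e3 q20547 L721732 q18705, e3 q20548 L721749 q18706, e3 q20549 L721765 q18784, e3 q20550 L721780 q19579, e3 q20551 L721798 q19580, e3 q20552 L721808 q18715, e3 q20553 (flp_g L737943) q22093, e3 q20554 (flp_g L737965) q22094, e3 q20555 L721841 q18846, e3 q20556 L721857 q19604, e3 q20557 L721870 q19609, e3 q20558 L721880 q19607, e3 q20559 L721888 q19612, e3 q20560 L721898 q19694, e3 q20561 L721913 q18725, e3 q20562 L721923 q18726, e3 q20563 (flp_g L739093) q22180, e3 q20564 (flp_g L739103) q22181, e3 q20565 L721955 q18908, e3 q20566 L721973 q18909, e3 q20567 L721984 q19394, e3 q20568 L721999 q19382, e3 q20569 L722014 q19397, e3 q20570 (flp_g L732973) q21730, e3 q20571 (flp_g L737867) q22088, e3 q20572 (flp_g L737887) q22089, e3 q20573 L722052 q18813, e3 q20574 L722068 q19624, e3 q20575 L722081 q19625, e3 q20576 (flp_g L732696) q21713,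 e3 q20577 L722097 q19626, e3 q20578 L722105 q19627, e3 q20579 L722120 q18770, e3 q20580 (flp_g L737506) q22060, e3 q20581 L722143 q18743, e3 q20582 L722161 q18859, e3 q20583 L722175 q18744, e3 q20584 L722185 q18745, e3 q20585 (flp_g L732743) q21716, e3 q20586 L722202 q18746, e3 q20587 (flp_g L739380) q22202, e3 q20588 (flp_g L739412) q22204, e3 q20589 (flp_g L739424) q22205, e3 q20590 (flp_g L739441) q22207, e3 q20591 L722256 q18750, e3 q20592 L722268 q18751, e3 q20593 (flp_g L733421) q21758, e3 q20594 (flp_g L733473) q21762, e3 q20595 L739531 q22215, e3 q20596 (flp_g L739499) q22211, e3 q20597 (flp_g L739507) q22212, e3 q20598 L722330 q18759, e3 q20599 L722342 q18833, e3 q20600 L722354 q18849, e3 q20601 (flp_g L732846) q21722, e3 q20602 L722372 q19635, e3 q20603 L722382 q19636, e3 q20604 (flp_g L732894) q21725, e3 q20605 L722400 q19637, e3 q20606 L722408 q19613, e3 q20607 (flp_g L739583) q22218, trivial⟩ (by decide +kernel)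

theorem ce_g_322 : ∀ r, r < 64 → sm gg (Qf (20608 + r)) = Qf (tab Gen.g (20608 + r)) :=
  edges_tab (sm gg) Qf (tab Gen.g) 20608 [(20608, 19639), (20609, 18769), (20610, 18771), (20611, 21733), (20612, 18772), (20613, 18773), (20614, 21735), (20615, 18774), (20616, 22227), (20617, 22201), (20618, 22228), (20619, 22230), (20620, 22231), (20621, 22233), (20622, 18776), (20623, 22238), (20624, 21740), (20625, 18780), (20626, 18876), (20627, 19956), (20628, 21702), (20629, 18874), (20630, 19643), (20631, 18793), (20632, 18794), (20633, 18795), (20634, 22243), (20635, 22244), (20636, 19511), (20637, 19491), (20638, 19516), (20639, 19497), (20640, 19473), (20641, 19500), (20642, 19467), (20643, 19476), (20644, 19503), (20645, 18804), (20646, 18805), (20647, 22126), (20648, 22127), (20649, 22193), (20650, 22259), (20651, 22260), (20652, 19645), (20653, 19646), (20654, 19647), (20655, 21719), (20656, 19648), (20657, 19649), (20658, 18809), (20659, 22274), (20660, 19650), (20661, 19599), (20662, 22194), (20663, 19629), (20664, 18823),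 (20665, 21727), (20666, 18824), (20667, 18825), (20668, 18821), (20669, 22284), (20670, 18828), (20671, 22280)]
    ⟨e3 q20608 L722432 q19639, e3 q20609 L722448 q18769, e3 q20610 L722456 q18771, e3 q20611 (flp_g L733015) q21733, e3 q20612 L722475 q18772, e3 q20613 L722481 q18773, e3 q20614 (flp_g L733043) q21735, e3 q20615 L722495 q18774, e3 q20616 (flp_g L739671) q22227, e3 q20617 (flp_g L739364) q22201, e3 q20618 (flp_g L739681) q22228, e3 q20619 (flp_g L739699) q22230, e3 q20620 (flp_g L739710) q22231, e3 q20621 (flp_g L739730) q22233, e3 q20622 L722569 q18776, e3 q20623 (flp_g L739811) q22238, e3 q20624 (flp_g L733119) q21740, e3 q20625 L722600 q18780, e3 q20626 L722619 q18876, e3 q20627 L722635 q19956, e3 q20628 (flp_g L732493) q21702, e3 q20629 L722662 q18874, e3 q20630 L722673 q19643, e3 q20631 L722684 q18793, e3 q20632 L722693 q18794, e3 q20633 L722704 q18795, e3 q20634 (flp_g L739857) q22243, e3 q20635 (flp_g L739875) q22244, e3 q20636 L722739 q19511, e3 q20637 L722750 q19491, e3 q20638 L722765 q19516, e3 q20639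 L722773 q19497, e3 q20640 L722783 q19473, e3 q20641 L722793 q19500, e3 q20642 L722804 q19467, e3 q20643 L722814 q19476, e3 q20644 L722821 q19503, e3 q20645 L722829 q18804, e3 q20646 L722845 q18805, e3 q20647 (flp_g L738417) q22126, e3 q20648 (flp_g L738436) q22127, e3 q20649 (flp_g L739262) q22193, e3 q20650 (flp_g L740031) q22259, e3 q20651 (flp_g L740041) q22260, e3 q20652 L722902 q19645, e3 q20653 L722921 q19646, e3 q20654 L722927 q19647, e3 q20655 (flp_g L732794) q21719, e3 q20656 L722946 q19648, e3 q20657 L722954 q19649, e3 q20658 (flp_g L722958) q18809, e3 q20659 (flp_g L740202) q22274, e3 q20660 L722980 q19650, e3 q20661 L722990 q19599, e3 q20662 (flp_g L739281) q22194, e3 q20663 L723011 q19629, e3 q20664 L723027 q18823, e3 q20665 (flp_g L732918) q21727, e3 q20666 L723051 q18824, e3 q20667 L723057 q18825, e3 q20668 L723067 q18821, e3 q20669 (flp_g L740298) q22284, e3 q20670 L723077 q18828, e3 q20671 (flp_g L740256) q22280, trivial⟩ (by decide +kernel)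

theorem ce_g_323 : ∀ r, r < 64 → sm gg (Qf (20672 + r)) = Qf (tab Gen.g (20672 + r)) :=
  edges_tab (sm gg) Qf (tab Gen.g) 20672 [(20672, 22282), (20673, 22283), (20674, 18827), (20675, 22288), (20676, 22286), (20677, 22189), (20678, 18834), (20679, 18835), (20680, 21895), (20681, 22174), (20682, 22147), (20683, 22148), (20684, 22219), (20685, 22290), (20686, 19666), (20687, 19667), (20688, 19668), (20689, 22095), (20690, 19670), (20691, 19671), (20692, 21889), (20693, 19672), (20694, 19673), (20695, 18840), (20696, 22312), (20697, 19676), (20698, 19677), (20699, 22196), (20700, 18844), (20701, 22317), (20702, 19681), (20703, 22175), (20704, 19614), (20705, 19615), (20706, 22220), (20707, 19640), (20708, 18863), (20709, 22096), (20710, 18864), (20711, 18865), (20712, 18856), (20713, 22326), (20714, 18868), (20715, 18869), (20716, 22203), (20717, 18861), (20718, 22332), (20719, 18873), (20720, 22324), (20721, 22325), (20722, 18867), (20723, 22337), (20724, 22328), (20725, 22329), (20726, 22335), (20727, 19701), (20728, 18872),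 (20729, 22241), (20730, 18878), (20731, 22339), (20732, 22340), (20733, 18882), (20734, 18881), (20735, 19761)]
    ⟨e3 q20672 (flp_g L740281) q22282, e3 q20673 (flp_g L740289) q22283, e3 q20674 L723116 q18827, e3 q20675 (flp_g L740333) q22288, e3 q20676 (flp_g L740311) q22286, e3 q20677 (flp_g L739213) q22189, e3 q20678 L723146 q18834, e3 q20679 L723152 q18835, e3 q20680 (flp_g L735345) q21895, e3 q20681 (flp_g L739015) q22174, e3 q20682 (flp_g L738676) q22147, e3 q20683 (flp_g L738688) q22148, e3 q20684 (flp_g L739595) q22219, e3 q20685 (flp_g L740354) q22290, e3 q20686 L723220 q19666, e3 q20687 L723238 q19667, e3 q20688 L723246 q19668, e3 q20689 (flp_g L737977) q22095, e3 q20690 L723276 q19670, e3 q20691 L723288 q19671, e3 q20692 (flp_g L735256) q21889, e3 q20693 L723305 q19672, e3 q20694 L723315 q19673, e3 q20695 (flp_g L723317) q18840, e3 q20696 (flp_g L740606) q22312, e3 q20697 L723339 q19676, e3 q20698 L723345 q19677, e3 q20699 (flp_g L739312) q22196, e3 q20700 L723365 q18844, e3 q20701 (flp_g L740642) q22317, e3 q20702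 L723375 q19681, e3 q20703 (flp_g L739034) q22175, e3 q20704 L723398 q19614, e3 q20705 L723406 q19615, e3 q20706 (flp_g L739603) q22220, e3 q20707 L723424 q19640, e3 q20708 L723438 q18863, e3 q20709 (flp_g L737996) q22096, e3 q20710 L723467 q18864, e3 q20711 L723477 q18865, e3 q20712 L723492 q18856, e3 q20713 (flp_g L740732) q22326, e3 q20714 L723502 q18868, e3 q20715 L723507 q18869, e3 q20716 (flp_g L739398) q22203, e3 q20717 L723523 q18861, e3 q20718 (flp_g L740769) q22332, e3 q20719 L723533 q18873, e3 q20720 (flp_g L740705) q22324, e3 q20721 (flp_g L740720) q22325, e3 q20722 L723564 q18867, e3 q20723 (flp_g L740812) q22337, e3 q20724 (flp_g L740741) q22328, e3 q20725 (flp_g L740748) q22329, e3 q20726 (flp_g L740789) q22335, e3 q20727 L723599 q19701, e3 q20728 L723607 q18872, e3 q20729 (flp_g L739841) q22241, e3 q20730 L723628 q18878, e3 q20731 (flp_g L740832) q22339, e3 q20732 (flp_g L740842) q22340, e3 q20733 L723649 q18882, e3 q20734 L723656 q18881, e3 q20735 L723673 q19761, trivial⟩ (by decide +kernel)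

theorem ce_g_324 : ∀ r, r < 64 → sm gg (Qf (20736 + r)) = Qf (tab Gen.g (20736 + r)) :=
  edges_tab (sm gg) Qf (tab Gen.g) 20736 [(20736, 21899), (20737, 21904), (20738, 22165), (20739, 18974), (20740, 18985), (20741, 19706), (20742, 19001), (20743, 19707), (20744, 19708), (20745, 19709), (20746, 19710), (20747, 19711), (20748, 19712), (20749, 19713), (20750, 19528), (20751, 22341), (20752, 19721), (20753, 18905), (20754, 22182), (20755, 22183), (20756, 19388), (20757, 19400), (20758, 19391), (20759, 19403), (20760, 20760), (20761, 20761), (20762, 18917), (20763, 22364), (20764, 18920), (20765, 18921), (20766, 22365), (20767, 22366), (20768, 21869), (20769, 19726), (20770, 20770), (20771, 21873), (20772, 18929), (20773, 20773), (20774, 21875), (20775, 21854), (20776, 21855), (20777, 18956), (20778, 18969), (20779, 21866), (20780, 19727), (20781, 19728), (20782, 18940), (20783, 18941), (20784, 22119), (20785, 22381), (20786, 22382), (20787, 21867), (20788, 19734), (20789, 22120), (20790, 20790), (20791, 21868), (20792, 18950),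 (20793, 18954), (20794, 18955), (20795, 22266), (20796, 18957), (20797, 18958), (20798, 22390), (20799, 22391)]
    ⟨e3 q20736 (flp_g L735395) q21899, e3 q20737 (flp_g L735468) q21904, e3 q20738 (flp_g L738899) q22165, e3 q20739 L723717 q18974, e3 q20740 L723734 q18985, e3 q20741 L723746 q19706, e3 q20742 L723758 q19001, e3 q20743 L723772 q19707, e3 q20744 L723785 q19708, e3 q20745 L723796 q19709, e3 q20746 L723809 q19710, e3 q20747 L723816 q19711, e3 q20748 L723821 q19712, e3 q20749 L723826 q19713, e3 q20750 L723836 q19528, e3 q20751 (flp_g L740856) q22341, e3 q20752 L723855 q19721, e3 q20753 L723873 q18905, e3 q20754 (flp_g L739116) q22182, e3 q20755 (flp_g L739135) q22183, e3 q20756 L723910 q19388, e3 q20757 L723929 q19400, e3 q20758 L723939 q19391, e3 q20759 L723949 q19403, e3 q20760 L723966 q20760, e3 q20761 L723975 q20761, e3 q20762 L723992 q18917, e3 q20763 (flp_g L741106) q22364, e3 q20764 L724018 q18920, e3 q20765 L724033 q18921, e3 q20766 (flp_g L741123) q22365, e3 q20767 (flp_g L741134) q22366, e3 q20768 (flp_g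 L734955) q21869, e3 q20769 L724079 q19726, e3 q20770 L724091 q20770, e3 q20771 (flp_g L735009) q21873, e3 q20772 L724110 q18929, e3 q20773 L724122 q20773, e3 q20774 (flp_g L735041) q21875, e3 q20775 (flp_g L734725) q21854, e3 q20776 (flp_g L734747) q21855, e3 q20777 L724160 q18956, e3 q20778 L724173 q18969, e3 q20779 (flp_g L734904) q21866, e3 q20780 L724190 q19727, e3 q20781 L724197 q19728, e3 q20782 L724207 q18940, e3 q20783 L724222 q18941, e3 q20784 (flp_g L738333) q22119, e3 q20785 (flp_g L741299) q22381, e3 q20786 (flp_g L741310) q22382, e3 q20787 (flp_g L734925) q21867, e3 q20788 L724280 q19734, e3 q20789 (flp_g L738345) q22120, e3 q20790 L724303 q20790, e3 q20791 (flp_g L734937) q21868, e3 q20792 L724322 q18950, e3 q20793 L724339 q18954, e3 q20794 L724358 q18955, e3 q20795 (flp_g L740110) q22266, e3 q20796 L724375 q18957, e3 q20797 L724382 q18958, e3 q20798 (flp_g L741413) q22390, e3 q20799 (flp_g L741426) q22391, trivial⟩ (by decide +kernel)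

theorem ce_g_325 : ∀ r, r < 64 → sm gg (Qf (20800 + r)) = Qf (tab Gen.g (20800 + r)) :=
  edges_tab (sm gg) Qf (tab Gen.g) 20800 [(20800, 22376), (20801, 22393), (20802, 19753), (20803, 19754), (20804, 19756), (20805, 21856), (20806, 19758), (20807, 22299), (20808, 18966), (20809, 22402), (20810, 19760), (20811, 22377), (20812, 20812), (20813, 21857), (20814, 22347), (20815, 18976), (20816, 22407), (20817, 18981), (20818, 20818), (20819, 18980), (20820, 18983), (20821, 22411), (20822, 22348), (20823, 18987), (20824, 22041), (20825, 22414), (20826, 20826), (20827, 19775), (20828, 19744), (20829, 19773), (20830, 19733), (20831, 19736), (20832, 20832), (20833, 19002), (20834, 19003), (20835, 22303), (20836, 22349), (20837, 22419), (20838, 22420), (20839, 19755), (20840, 19757), (20841, 19770), (20842, 19759), (20843, 20843), (20844, 19011), (20845, 19742), (20846, 19743), (20847, 19776), (20848, 19777), (20849, 21779), (20850, 19778), (20851, 19779), (20852, 19019), (20853, 19020), (20854, 22440), (20855, 22438), (20856, 22439),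 (20857, 21792), (20858, 19782), (20859, 19024), (20860, 22445), (20861, 20861), (20862, 21799), (20863, 19029)]
    ⟨e3 q20800 (flp_g L741248) q22376, e3 q20801 (flp_g L741449) q22393, e3 q20802 L724448 q19753, e3 q20803 L724460 q19754, e3 q20804 L724480 q19756, e3 q20805 (flp_g L734765) q21856, e3 q20806 L724508 q19758, e3 q20807 (flp_g L740451) q22299, e3 q20808 L724532 q18966, e3 q20809 (flp_g L741565) q22402, e3 q20810 L724542 q19760, e3 q20811 (flp_g L741257) q22377, e3 q20812 L724556 q20812, e3 q20813 (flp_g L734777) q21857, e3 q20814 (flp_g L740913) q22347, e3 q20815 L724599 q18976, e3 q20816 (flp_g L741603) q22407, e3 q20817 L724611 q18981, e3 q20818 L724629 q20818, e3 q20819 L724636 q18980, e3 q20820 L724649 q18983, e3 q20821 (flp_g L741641) q22411, e3 q20822 (flp_g L740928) q22348, e3 q20823 L724682 q18987, e3 q20824 (flp_g L737190) q22041, e3 q20825 (flp_g L741670) q22414, e3 q20826 L724705 q20826, e3 q20827 L724717 q19775, e3 q20828 L724731 q19744, e3 q20829 L724749 q19773, e3 q20830 L724759 q19733, e3 q20831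 L724767 q19736, e3 q20832 L724779 q20832, e3 q20833 L724790 q19002, e3 q20834 L724803 q19003, e3 q20835 (flp_g L740508) q22303, e3 q20836 (flp_g L740941) q22349, e3 q20837 (flp_g L741728) q22419, e3 q20838 (flp_g L741737) q22420, e3 q20839 L724848 q19755, e3 q20840 L724859 q19757, e3 q20841 L724867 q19770, e3 q20842 L724875 q19759, e3 q20843 L724883 q20843, e3 q20844 L724890 q19011, e3 q20845 L724901 q19742, e3 q20846 L724918 q19743, e3 q20847 L724930 q19776, e3 q20848 L724947 q19777, e3 q20849 (flp_g L733713) q21779, e3 q20850 L724966 q19778, e3 q20851 L724973 q19779, e3 q20852 L724985 q19019, e3 q20853 L725004 q19020, e3 q20854 L741964 q22440, e3 q20855 (flp_g L741943) q22438, e3 q20856 (flp_g L741956) q22439, e3 q20857 (flp_g L733893) q21792, e3 q20858 L725062 q19782, e3 q20859 (flp_g L725066) q19024, e3 q20860 (flp_g L742028) q22445, e3 q20861 L725095 q20861, e3 q20862 (flp_g L733987) q21799, e3 q20863 L725114 q19029, trivial⟩ (by decide +kernel)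

theorem ce_g_326 : ∀ r, r < 64 → sm gg (Qf (20864 + r)) = Qf (tab Gen.g (20864 + r)) :=
  edges_tab (sm gg) Qf (tab Gen.g) 20864 [(20864, 22449), (20865, 19033), (20866, 19034), (20867, 22261), (20868, 19036), (20869, 19037), (20870, 21985), (20871, 22457), (20872, 22451), (20873, 22452), (20874, 19035), (20875, 22460), (20876, 22454), (20877, 19795), (20878, 19796), (20879, 19797), (20880, 21814), (20881, 19798), (20882, 19799), (20883, 21817), (20884, 19800), (20885, 21820), (20886, 19801), (20887, 19046), (20888, 22474), (20889, 20889), (20890, 19050), (20891, 22477), (20892, 20892), (20893, 21829), (20894, 19057), (20895, 21832), (20896, 19058), (20897, 22481), (20898, 19060), (20899, 22484), (20900, 20900), (20901, 21840), (20902, 21841), (20903, 19068), (20904, 22004), (20905, 19089), (20906, 19248), (20907, 19161), (20908, 19805), (20909, 19806), (20910, 19807), (20911, 19078), (20912, 19079), (20913, 19900), (20914, 21975), (20915, 22029), (20916, 22500), (20917, 22493), (20918, 22494), (20919, 19808), (20920, 19809),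 (20921, 19810), (20922, 19811), (20923, 22512), (20924, 19812), (20925, 19813), (20926, 19083), (20927, 22516)]
    ⟨e3 q20864 (flp_g L742069) q22449, e3 q20865 L725141 q19033, e3 q20866 L725158 q19034, e3 q20867 (flp_g L740057) q22261, e3 q20868 L725175 q19036, e3 q20869 L725184 q19037, e3 q20870 (flp_g L736528) q21985, e3 q20871 L742166 q22457, e3 q20872 (flp_g L742101) q22451, e3 q20873 (flp_g L742114) q22452, e3 q20874 (flp_g L725242) q19035, e3 q20875 (flp_g L742212) q22460, e3 q20876 (flp_g L742137) q22454, e3 q20877 L725270 q19795, e3 q20878 L725284 q19796, e3 q20879 L725294 q19797, e3 q20880 (flp_g L734212) q21814, e3 q20881 L725317 q19798, e3 q20882 L725331 q19799, e3 q20883 (flp_g L734252) q21817, e3 q20884 L725351 q19800, e3 q20885 (flp_g L734286) q21820, e3 q20886 L725367 q19801, e3 q20887 (flp_g L725369) q19046, e3 q20888 (flp_g L742358) q22474, e3 q20889 L725404 q20889, e3 q20890 L725416 q19050, e3 q20891 (flp_g L742393) q22477, e3 q20892 L725430 q20892, e3 q20893 (flp_g L734403) q21829, e3 q20894 L725449 q19057,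 e3 q20895 (flp_g L734438) q21832, e3 q20896 L725468 q19058, e3 q20897 (flp_g L742431) q22481, e3 q20898 L725490 q19060, e3 q20899 (flp_g L742457) q22484, e3 q20900 L725508 q20900, e3 q20901 (flp_g L734546) q21840, e3 q20902 (flp_g L734556) q21841, e3 q20903 L725538 q19068, e3 q20904 (flp_g L736744) q22004, e3 q20905 L725562 q19089, e3 q20906 L725578 q19248, e3 q20907 L725587 q19161, e3 q20908 L725603 q19805, e3 q20909 L725616 q19806, e3 q20910 L725625 q19807, e3 q20911 L725635 q19078, e3 q20912 L725653 q19079, e3 q20913 L725662 q19900, e3 q20914 (flp_g L736374) q21975, e3 q20915 (flp_g L737040) q22029, e3 q20916 L742641 q22500, e3 q20917 (flp_g L742560) q22493, e3 q20918 (flp_g L742572) q22494, e3 q20919 L725714 q19808, e3 q20920 L725724 q19809, e3 q20921 L725733 q19810, e3 q20922 L725739 q19811, e3 q20923 L742778 q22512, e3 q20924 L725758 q19812, e3 q20925 L725765 q19813, e3 q20926 (flp_g L725767) q19083, e3 q20927 (flp_g L742818) q22516, trivial⟩ (by decide +kernel)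

theorem ce_g_327 : ∀ r, r < 64 → sm gg (Qf (20928 + r)) = Qf (tab Gen.g (20928 + r)) :=
  edges_tab (sm gg) Qf (tab Gen.g) 20928 [(20928, 19814), (20929, 19090), (20930, 19091), (20931, 22521), (20932, 19093), (20933, 19094), (20934, 21938), (20935, 22489), (20936, 22526), (20937, 22519), (20938, 22520), (20939, 19092), (20940, 22530), (20941, 22523), (20942, 19828), (20943, 19830), (20944, 19831), (20945, 22495), (20946, 19833), (20947, 19834), (20948, 19098), (20949, 22539), (20950, 19837), (20951, 22529), (20952, 19102), (20953, 22543), (20954, 19841), (20955, 20955), (20956, 19105), (20957, 22546), (20958, 20958), (20959, 19115), (20960, 19109), (20961, 22550), (20962, 20962), (20963, 19938), (20964, 19113), (20965, 22554), (20966, 19122), (20967, 22549), (20968, 19117), (20969, 22557), (20970, 19126), (20971, 20971), (20972, 19121), (20973, 20973), (20974, 19125), (20975, 22563), (20976, 22560), (20977, 19134), (20978, 19135), (20979, 19136), (20980, 22567), (20981, 19138), (20982, 19139), (20983, 19130), (20984, 22571),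 (20985, 19142), (20986, 19822), (20987, 19945), (20988, 19256), (20989, 22463), (20990, 22564), (20991, 22565)]
    ⟨e3 q20928 L725789 q19814, e3 q20929 L725797 q19090, e3 q20930 L725814 q19091, e3 q20931 L742860 q22521, e3 q20932 L725829 q19093, e3 q20933 L725836 q19094, e3 q20934 L735897 q21938, e3 q20935 (flp_g L742506) q22489, e3 q20936 L742914 q22526, e3 q20937 (flp_g L742841) q22519, e3 q20938 (flp_g L742852) q22520, e3 q20939 (flp_g L725906) q19092, e3 q20940 (flp_g L742974) q22530, e3 q20941 (flp_g L742882) q22523, e3 q20942 L725934 q19828, e3 q20943 L725946 q19830, e3 q20944 L725954 q19831, e3 q20945 (flp_g L742584) q22495, e3 q20946 L725976 q19833, e3 q20947 L725990 q19834, e3 q20948 (flp_g L725994) q19098, e3 q20949 (flp_g L743078) q22539, e3 q20950 L726026 q19837, e3 q20951 (flp_g L742968) q22529, e3 q20952 L726044 q19102, e3 q20953 (flp_g L743116) q22543, e3 q20954 L726056 q19841, e3 q20955 L726066 q20955, e3 q20956 (flp_g L726073) q19105, e3 q20957 (flp_g L743143) q22546, e3 q20958 L726108 q20958, e3 q20959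 L726123 q19115, e3 q20960 L726129 q19109, e3 q20961 (flp_g L743189) q22550, e3 q20962 L726141 q20962, e3 q20963 L726161 q19938, e3 q20964 L726175 q19113, e3 q20965 (flp_g L743240) q22554, e3 q20966 L726191 q19122, e3 q20967 (flp_g L743182) q22549, e3 q20968 L726212 q19117, e3 q20969 (flp_g L743268) q22557, e3 q20970 L726227 q19126, e3 q20971 L726246 q20971, e3 q20972 L726259 q19121, e3 q20973 L726267 q20973, e3 q20974 L726274 q19125, e3 q20975 (flp_g L743329) q22563, e3 q20976 (flp_g L743293) q22560, e3 q20977 L726313 q19134, e3 q20978 L726328 q19135, e3 q20979 L726336 q19136, e3 q20980 L743377 q22567, e3 q20981 L726357 q19138, e3 q20982 L726366 q19139, e3 q20983 (flp_g L726370) q19130, e3 q20984 (flp_g L743431) q22571, e3 q20985 L726386 q19142, e3 q20986 L726396 q19822, e3 q20987 L726414 q19945, e3 q20988 L726424 q19256, e3 q20989 (flp_g L742236) q22463, e3 q20990 (flp_g L743348) q22564, e3 q20991 (flp_g L743359) q22565, trivial⟩ (by decide +kernel)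

theorem ce_g_328 : ∀ r, r < 64 → sm gg (Qf (20992 + r)) = Qf (tab Gen.g (20992 + r)) :=
  edges_tab (sm gg) Qf (tab Gen.g) 20992 [(20992, 22581), (20993, 19788), (20994, 22566), (20995, 19137), (20996, 22587), (20997, 22569), (20998, 22570), (20999, 19156), (21000, 19141), (21001, 22592), (21002, 22573), (21003, 19878), (21004, 19879), (21005, 22596), (21006, 19881), (21007, 19146), (21008, 22599), (21009, 19884), (21010, 19885), (21011, 19149), (21012, 22604), (21013, 22605), (21014, 19889), (21015, 19890), (21016, 22586), (21017, 19153), (21018, 22611), (21019, 19894), (21020, 19895), (21021, 22591), (21022, 19158), (21023, 22617), (21024, 19899), (21025, 21025), (21026, 22490), (21027, 21027), (21028, 21028), (21029, 19177), (21030, 19165), (21031, 22624), (21032, 21032), (21033, 21033), (21034, 19182), (21035, 19170), (21036, 22629), (21037, 21037), (21038, 19941), (21039, 19174), (21040, 22634), (21041, 19189), (21042, 22623), (21043, 19179), (21044, 22637), (21045, 19193), (21046, 19194), (21047, 21791), (21048, 22628),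 (21049, 19184), (21050, 22642), (21051, 22643), (21052, 19198), (21053, 21053), (21054, 19188), (21055, 21055)]
    ⟨e3 q20992 L743541 q22581, e3 q20993 L726475 q19788, e3 q20994 (flp_g L743373) q22566, e3 q20995 (flp_g L726489) q19137, e3 q20996 (flp_g L743614) q22587, e3 q20997 (flp_g L743405) q22569, e3 q20998 (flp_g L743416) q22570, e3 q20999 L726531 q19156, e3 q21000 L726537 q19141, e3 q21001 (flp_g L743654) q22592, e3 q21002 (flp_g L743442) q22573, e3 q21003 L726557 q19878, e3 q21004 L726565 q19879, e3 q21005 L743674 q22596, e3 q21006 L726582 q19881, e3 q21007 (flp_g L726584) q19146, e3 q21008 (flp_g L743714) q22599, e3 q21009 L726612 q19884, e3 q21010 L726620 q19885, e3 q21011 (flp_g L726626) q19149, e3 q21012 (flp_g L743756) q22604, e3 q21013 (flp_g L743765) q22605, e3 q21014 L726649 q19889, e3 q21015 L726655 q19890, e3 q21016 (flp_g L743606) q22586, e3 q21017 L726673 q19153, e3 q21018 (flp_g L743809) q22611, e3 q21019 L726685 q19894, e3 q21020 L726693 q19895, e3 q21021 (flp_g L743646) q22591, e3 q21022 L726713 q19158,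 e3 q21023 (flp_g L743855) q22617, e3 q21024 L726721 q19899, e3 q21025 L726729 q21025, e3 q21026 (flp_g L742518) q22490, e3 q21027 L726753 q21027, e3 q21028 L726760 q21028, e3 q21029 L726777 q19177, e3 q21030 L726785 q19165, e3 q21031 (flp_g L743904) q22624, e3 q21032 L726797 q21032, e3 q21033 L726807 q21033, e3 q21034 L726819 q19182, e3 q21035 L726826 q19170, e3 q21036 (flp_g L743949) q22629, e3 q21037 L726840 q21037, e3 q21038 L726858 q19941, e3 q21039 L726871 q19174, e3 q21040 (flp_g L744001) q22634, e3 q21041 L726883 q19189, e3 q21042 (flp_g L743895) q22623, e3 q21043 L726901 q19179, e3 q21044 (flp_g L744024) q22637, e3 q21045 L726910 q19193, e3 q21046 L726925 q19194, e3 q21047 (flp_g L733877) q21791, e3 q21048 (flp_g L743942) q22628, e3 q21049 L726952 q19184, e3 q21050 (flp_g L744062) q22642, e3 q21051 (flp_g L744070) q22643, e3 q21052 L726968 q19198, e3 q21053 L726983 q21053, e3 q21054 L726996 q19188, e3 q21055 L727006 q21055, trivial⟩ (by decide +kernel)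

theorem ce_g_329 : ∀ r, r < 64 → sm gg (Qf (21056 + r)) = Qf (tab Gen.g (21056 + r)) :=
  edges_tab (sm gg) Qf (tab Gen.g) 21056 [(21056, 19192), (21057, 22649), (21058, 21058), (21059, 19197), (21060, 22646), (21061, 19203), (21062, 19201), (21063, 22652), (21064, 22653), (21065, 21065), (21066, 22651), (21067, 19205), (21068, 19206), (21069, 19545), (21070, 22659), (21071, 19210), (21072, 21072), (21073, 19218), (21074, 19219), (21075, 19789), (21076, 22580), (21077, 22577), (21078, 19872), (21079, 19869), (21080, 19927), (21081, 19868), (21082, 19471), (21083, 19867), (21084, 21790), (21085, 19930), (21086, 19968), (21087, 22030), (21088, 19937), (21089, 19939), (21090, 19940), (21091, 19942), (21092, 19943), (21093, 19944), (21094, 19947), (21095, 19948), (21096, 19949), (21097, 19821), (21098, 19437), (21099, 19820), (21100, 19470), (21101, 21789), (21102, 19559), (21103, 22050), (21104, 19560), (21105, 21714), (21106, 21715), (21107, 21726), (21108, 21742), (21109, 21743), (21110, 22090), (21111, 21745), (21112, 22091),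 (21113, 21750), (21114, 19291), (21115, 19296), (21116, 19297), (21117, 21720), (21118, 21721), (21119, 22691)]
    ⟨e3 q21056 L727011 q19192, e3 q21057 (flp_g L744125) q22649, e3 q21058 L727024 q21058, e3 q21059 L727035 q19197, e3 q21060 (flp_g L744094) q22646, e3 q21061 L727060 q19203, e3 q21062 L727068 q19201, e3 q21063 (flp_g L744152) q22652, e3 q21064 (flp_g L744158) q22653, e3 q21065 L727089 q21065, e3 q21066 (flp_g L744144) q22651, e3 q21067 L727104 q19205, e3 q21068 L727112 q19206, e3 q21069 L727120 q19545, e3 q21070 (flp_g L744216) q22659, e3 q21071 L727135 q19210, e3 q21072 L727144 q21072, e3 q21073 L727159 q19218, e3 q21074 L727170 q19219, e3 q21075 L727187 q19789, e3 q21076 (flp_g L743533) q22580, e3 q21077 (flp_g L743503) q22577, e3 q21078 L727211 q19872, e3 q21079 L727219 q19869, e3 q21080 L727228 q19927, e3 q21081 L727239 q19868, e3 q21082 L727248 q19471, e3 q21083 L727262 q19867, e3 q21084 (flp_g L733865) q21790, e3 q21085 L727289 q19930, e3 q21086 L727304 q19968, e3 q21087 (flp_g L737056) q22030, e3 q21088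 L727330 q19937, e3 q21089 L727345 q19939, e3 q21090 L727355 q19940, e3 q21091 L727368 q19942, e3 q21092 L727382 q19943, e3 q21093 L727390 q19944, e3 q21094 L727403 q19947, e3 q21095 L727415 q19948, e3 q21096 L727425 q19949, e3 q21097 L727438 q19821, e3 q21098 L727447 q19437, e3 q21099 L727460 q19820, e3 q21100 L727474 q19470, e3 q21101 (flp_g L733850) q21789, e3 q21102 L727495 q19559, e3 q21103 (flp_g L737349) q22050, e3 q21104 L727517 q19560, e3 q21105 (flp_g L732710) q21714, e3 q21106 (flp_g L732724) q21715, e3 q21107 (flp_g L732904) q21726, e3 q21108 (flp_g L733152) q21742, e3 q21109 (flp_g L733166) q21743, e3 q21110 (flp_g L737905) q22090, e3 q21111 (flp_g L733204) q21745, e3 q21112 (flp_g L737915) q22091, e3 q21113 (flp_g L733294) q21750, e3 q21114 L727642 q19291, e3 q21115 L727656 q19296, e3 q21116 L727664 q19297, e3 q21117 (flp_g L732808) q21720, e3 q21118 (flp_g L732822) q21721, e3 q21119 (flp_g L744592) q22691, trivial⟩ (by decide +kernel)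

theorem ce_g_330 : ∀ r, r < 64 → sm gg (Qf (21120 + r)) = Qf (tab Gen.g (21120 + r)) :=
  edges_tab (sm gg) Qf (tab Gen.g) 21120 [(21120, 22097), (21121, 19601), (21122, 19602), (21123, 19785), (21124, 19335), (21125, 19301), (21126, 22698), (21127, 21757), (21128, 19305), (21129, 22701), (21130, 21761), (21131, 19653), (21132, 22102), (21133, 19318), (21134, 19313), (21135, 22706), (21136, 19321), (21137, 19317), (21138, 22705), (21139, 19320), (21140, 22708), (21141, 19697), (21142, 19336), (21143, 21777), (21144, 21778), (21145, 21780), (21146, 21781), (21147, 21877), (21148, 21878), (21149, 21793), (21150, 22697), (21151, 19445), (21152, 19456), (21153, 21812), (21154, 21813), (21155, 21818), (21156, 21819), (21157, 21821), (21158, 21158), (21159, 21159), (21160, 21160), (21161, 19349), (21162, 19350), (21163, 19935), (21164, 21847), (21165, 21851), (21166, 21166), (21167, 21167), (21168, 21168), (21169, 22023), (21170, 22122), (21171, 22123), (21172, 21870), (21173, 21881), (21174, 21882), (21175, 21883), (21176, 21885),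 (21177, 21177), (21178, 19375), (21179, 19379), (21180, 19380), (21181, 19381), (21182, 22186), (21183, 19383)]
    ⟨e3 q21120 (flp_g L738016) q22097, e3 q21121 L727726 q19601, e3 q21122 L727736 q19602, e3 q21123 L727753 q19785, e3 q21124 L727767 q19335, e3 q21125 (flp_g L727769) q19301, e3 q21126 (flp_g L744685) q22698, e3 q21127 (flp_g L733399) q21757, e3 q21128 L727807 q19305, e3 q21129 (flp_g L744707) q22701, e3 q21130 (flp_g L733457) q21761, e3 q21131 L727835 q19653, e3 q21132 (flp_g L738087) q22102, e3 q21133 L727860 q19318, e3 q21134 L727873 q19313, e3 q21135 (flp_g L744756) q22706, e3 q21136 L727887 q19321, e3 q21137 L727900 q19317, e3 q21138 (flp_g L744743) q22705, e3 q21139 L727913 q19320, e3 q21140 (flp_g L744771) q22708, e3 q21141 L727928 q19697, e3 q21142 L727943 q19336, e3 q21143 (flp_g L733684) q21777, e3 q21144 (flp_g L733698) q21778, e3 q21145 (flp_g L733725) q21780, e3 q21146 (flp_g L733734) q21781, e3 q21147 (flp_g L735077) q21877, e3 q21148 (flp_g L735088) q21878, e3 q21149 (flp_g L733903) q21793, e3 q21150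 (flp_g L744671) q22697, e3 q21151 L728058 q19445, e3 q21152 L728076 q19456, e3 q21153 (flp_g L734179) q21812, e3 q21154 (flp_g L734193) q21813, e3 q21155 (flp_g L734262) q21818, e3 q21156 (flp_g L734270) q21819, e3 q21157 (flp_g L734294) q21821, e3 q21158 L728138 q21158, e3 q21159 L728149 q21159, e3 q21160 L728156 q21160, e3 q21161 L728173 q19349, e3 q21162 L728181 q19350, e3 q21163 L728195 q19935, e3 q21164 (flp_g L734643) q21847, e3 q21165 (flp_g L734691) q21851, e3 q21166 L728222 q21166, e3 q21167 L728230 q21167, e3 q21168 L728242 q21168, e3 q21169 (flp_g L736965) q22023, e3 q21170 (flp_g L738370) q22122, e3 q21171 (flp_g L738379) q22123, e3 q21172 (flp_g L734967) q21870, e3 q21173 (flp_g L735128) q21881, e3 q21174 (flp_g L735149) q21882, e3 q21175 (flp_g L735163) q21883, e3 q21176 (flp_g L735191) q21885, e3 q21177 L728334 q21177, e3 q21178 L728343 q19375, e3 q21179 L728355 q19379, e3 q21180 L728367 q19380, e3 q21181 L728382 q19381, e3 q21182 (flp_g L739178) q22186, e3 q21183 L728397 q19383, trivial⟩ (by decide +kernel)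

theorem ce_g_331 : ∀ r, r < 64 → sm gg (Qf (21184 + r)) = Qf (tab Gen.g (21184 + r)) :=
  edges_tab (sm gg) Qf (tab Gen.g) 21184 [(21184, 19384), (21185, 22734), (21186, 22735), (21187, 19891), (21188, 22184), (21189, 22736), (21190, 22737), (21191, 22187), (21192, 22739), (21193, 19866), (21194, 19928), (21195, 19919), (21196, 19860), (21197, 19870), (21198, 22360), (21199, 21893), (21200, 21894), (21201, 22362), (21202, 21898), (21203, 21203), (21204, 22185), (21205, 21205), (21206, 21206), (21207, 22188), (21208, 19404), (21209, 22361), (21210, 19405), (21211, 19406), (21212, 22763), (21213, 19410), (21214, 19413), (21215, 22766), (21216, 19915), (21217, 19984), (21218, 22767), (21219, 19965), (21220, 19903), (21221, 19983), (21222, 19993), (21223, 19905), (21224, 19986), (21225, 21908), (21226, 21226), (21227, 21227), (21228, 21228), (21229, 19428), (21230, 22660), (21231, 21915), (21232, 21916), (21233, 21917), (21234, 21918), (21235, 21920), (21236, 21921), (21237, 21923), (21238, 19438), (21239, 19439), (21240, 19440),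 (21241, 19441), (21242, 22681), (21243, 22679), (21244, 22788), (21245, 22789), (21246, 22790), (21247, 22791)]
    ⟨e3 q21184 L728404 q19384, e3 q21185 (flp_g L745051) q22734, e3 q21186 (flp_g L745066) q22735, e3 q21187 L728428 q19891, e3 q21188 (flp_g L739147) q22184, e3 q21189 (flp_g L745080) q22736, e3 q21190 (flp_g L745091) q22737, e3 q21191 (flp_g L739190) q22187, e3 q21192 (flp_g L745108) q22739, e3 q21193 L728494 q19866, e3 q21194 L728504 q19928, e3 q21195 L728512 q19919, e3 q21196 L728523 q19860, e3 q21197 L728535 q19870, e3 q21198 (flp_g L741057) q22360, e3 q21199 (flp_g L735309) q21893, e3 q21200 (flp_g L735321) q21894, e3 q21201 (flp_g L741081) q22362, e3 q21202 (flp_g L735379) q21898, e3 q21203 L728585 q21203, e3 q21204 (flp_g L739163) q22185, e3 q21205 L728607 q21205, e3 q21206 L728616 q21206, e3 q21207 (flp_g L739199) q22188, e3 q21208 L728641 q19404, e3 q21209 (flp_g L741069) q22361, e3 q21210 L728657 q19405, e3 q21211 L728668 q19406, e3 q21212 (flp_g L745346) q22763, e3 q21213 L728693 q19410, e3 q21214 L728706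 q19413, e3 q21215 (flp_g L745377) q22766, e3 q21216 L728730 q19915, e3 q21217 L728743 q19984, e3 q21218 (flp_g L745387) q22767, e3 q21219 L728768 q19965, e3 q21220 L728778 q19903, e3 q21221 L728788 q19983, e3 q21222 L728797 q19993, e3 q21223 L728807 q19905, e3 q21224 L728814 q19986, e3 q21225 (flp_g L735521) q21908, e3 q21226 L728832 q21226, e3 q21227 L728840 q21227, e3 q21228 L728850 q21228, e3 q21229 L728861 q19428, e3 q21230 (flp_g L744228) q22660, e3 q21231 (flp_g L735610) q21915, e3 q21232 (flp_g L735624) q21916, e3 q21233 (flp_g L735636) q21917, e3 q21234 (flp_g L735642) q21918, e3 q21235 (flp_g L735668) q21920, e3 q21236 (flp_g L735677) q21921, e3 q21237 (flp_g L735698) q21923, e3 q21238 L728954 q19438, e3 q21239 L728964 q19439, e3 q21240 L728974 q19440, e3 q21241 L728981 q19441, e3 q21242 (flp_g L744469) q22681, e3 q21243 (flp_g L744442) q22679, e3 q21244 (flp_g L745600) q22788, e3 q21245 (flp_g L745611) q22789, e3 q21246 (flp_g L745618) q22790, e3 q21247 (flp_g L745628) q22791, trivial⟩ (by decide +kernel)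

theorem ce_g_332 : ∀ r, r < 64 → sm gg (Qf (21248 + r)) = Qf (tab Gen.g (21248 + r)) :=
  edges_tab (sm gg) Qf (tab Gen.g) 21248 [(21248, 21935), (21249, 19877), (21250, 21936), (21251, 21937), (21252, 21965), (21253, 21939), (21254, 21940), (21255, 22715), (21256, 21942), (21257, 21943), (21258, 19449), (21259, 22810), (21260, 21947), (21261, 21261), (21262, 21262), (21263, 19910), (21264, 19461), (21265, 19462), (21266, 22716), (21267, 19460), (21268, 21268), (21269, 22254), (21270, 19474), (21271, 19475), (21272, 22257), (21273, 19477), (21274, 22251), (21275, 22667), (21276, 22665), (21277, 22253), (21278, 21784), (21279, 21806), (21280, 22255), (21281, 22816), (21282, 22817), (21283, 22258), (21284, 22819), (21285, 19829), (21286, 21976), (21287, 21977), (21288, 22582), (21289, 21978), (21290, 21979), (21291, 19481), (21292, 22837), (21293, 21981), (21294, 21982), (21295, 19484), (21296, 22576), (21297, 22841), (21298, 21983), (21299, 21984), (21300, 22246), (21301, 19488), (21302, 22847), (21303, 21988), (21304, 21989),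 (21305, 22249), (21306, 19493), (21307, 22853), (21308, 21993), (21309, 21909), (21310, 21310), (21311, 21311)]
    ⟨e3 q21248 (flp_g L735848) q21935, e3 q21249 L729068 q19877, e3 q21250 (flp_g L735869) q21936, e3 q21251 (flp_g L735881) q21937, e3 q21252 (flp_g L736244) q21965, e3 q21253 (flp_g L735912) q21939, e3 q21254 (flp_g L735923) q21940, e3 q21255 (flp_g L744866) q22715, e3 q21256 (flp_g L735947) q21942, e3 q21257 (flp_g L735955) q21943, e3 q21258 L729143 q19449, e3 q21259 (flp_g L745811) q22810, e3 q21260 (flp_g L736008) q21947, e3 q21261 L729171 q21261, e3 q21262 L729178 q21262, e3 q21263 L729196 q19910, e3 q21264 L729210 q19461, e3 q21265 L729220 q19462, e3 q21266 (flp_g L744878) q22716, e3 q21267 L729243 q19460, e3 q21268 L729253 q21268, e3 q21269 (flp_g L739983) q22254, e3 q21270 L729269 q19474, e3 q21271 L729276 q19475, e3 q21272 (flp_g L740011) q22257, e3 q21273 L729291 q19477, e3 q21274 (flp_g L739955) q22251, e3 q21275 (flp_g L744299) q22667, e3 q21276 (flp_g L744275) q22665, e3 q21277 (flp_g L739971) q22253,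 e3 q21278 (flp_g L733781) q21784, e3 q21279 (flp_g L734097) q21806, e3 q21280 (flp_g L739991) q22255, e3 q21281 (flp_g L745872) q22816, e3 q21282 (flp_g L745877) q22817, e3 q21283 (flp_g L740019) q22258, e3 q21284 (flp_g L745894) q22819, e3 q21285 L729404 q19829, e3 q21286 (flp_g L736396) q21976, e3 q21287 (flp_g L736408) q21977, e3 q21288 (flp_g L743561) q22582, e3 q21289 (flp_g L736424) q21978, e3 q21290 (flp_g L736442) q21979, e3 q21291 (flp_g L729443) q19481, e3 q21292 (flp_g L746057) q22837, e3 q21293 (flp_g L736472) q21981, e3 q21294 (flp_g L736480) q21982, e3 q21295 (flp_g L729483) q19484, e3 q21296 (flp_g L743489) q22576, e3 q21297 (flp_g L746090) q22841, e3 q21298 (flp_g L736494) q21983, e3 q21299 (flp_g L736508) q21984, e3 q21300 (flp_g L739897) q22246, e3 q21301 L729526 q19488, e3 q21302 (flp_g L746126) q22847, e3 q21303 (flp_g L736560) q21988, e3 q21304 (flp_g L736564) q21989, e3 q21305 (flp_g L739934) q22249, e3 q21306 L729556 q19493, e3 q21307 (flp_g L746158) q22853, e3 q21308 (flp_g L736596) q21993, e3 q21309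 (flp_g L735534) q21909, e3 q21310 L729590 q21310, e3 q21311 L729599 q21311, trivial⟩ (by decide +kernel)

theorem ce_g_333 : ∀ r, r < 64 → sm gg (Qf (21312 + r)) = Qf (tab Gen.g (21312 + r)) :=
  edges_tab (sm gg) Qf (tab Gen.g) 21312 [(21312, 22252), (21313, 21313), (21314, 21314), (21315, 22256), (21316, 21316), (21317, 21317), (21318, 19847), (21319, 19518), (21320, 19508), (21321, 22864), (21322, 19522), (21323, 22247), (21324, 19513), (21325, 22867), (21326, 22644), (21327, 22250), (21328, 22863), (21329, 21329), (21330, 19521), (21331, 21331), (21332, 19525), (21333, 19532), (21334, 22355), (21335, 21785), (21336, 21807), (21337, 21843), (21338, 22871), (21339, 22031), (21340, 22032), (21341, 22033), (21342, 22034), (21343, 22035), (21344, 22036), (21345, 22037), (21346, 22661), (21347, 22883), (21348, 21711), (21349, 21712), (21350, 21707), (21351, 22075), (21352, 22082), (21353, 22083), (21354, 22071), (21355, 21708), (21356, 21706), (21357, 22683), (21358, 22078), (21359, 22054), (21360, 22080), (21361, 19567), (21362,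 22056), (21363, 21710), (21364, 22067), (21365, 22098), (21366, 22099), (21367, 22170), (21368, 22171), (21369, 22110), (21370, 22111), (21371, 22113), (21372, 19587), (21373, 22893), (21374, 19951), (21375, 22118)]
    ⟨e3 q21312 (flp_g L739967) q22252, e3 q21313 L729621 q21313, e3 q21314 L729630 q21314, e3 q21315 (flp_g L739998) q22256, e3 q21316 L729649 q21316, e3 q21317 L729657 q21317, e3 q21318 L729673 q19847, e3 q21319 L729685 q19518, e3 q21320 L729700 q19508, e3 q21321 (flp_g L746268) q22864, e3 q21322 L729714 q19522, e3 q21323 (flp_g L739911) q22247, e3 q21324 L729732 q19513, e3 q21325 (flp_g L746291) q22867, e3 q21326 (flp_g L744078) q22644, e3 q21327 (flp_g L739943) q22250, e3 q21328 (flp_g L746253) q22863, e3 q21329 L729774 q21329, e3 q21330 L729787 q19521, e3 q21331 L729795 q21331, e3 q21332 L729800 q19525, e3 q21333 L729806 q19532, e3 q21334 (flp_g L741000) q22355, e3 q21335 (flp_g L733800) q21785, e3 q21336 (flp_g L734111) q21807, e3 q21337 (flp_g L734583) q21843, e3 q21338 (flp_g L746322) q22871, e3 q21339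 (flp_g L737072) q22031, e3 q21340 (flp_g L737084) q22032, e3 q21341 (flp_g L737094) q22033, e3 q21342 (flp_g L737105) q22034, e3 q21343 (flp_g L737116) q22035, e3 q21344 (flp_g L737128) q22036, e3 q21345 (flp_g L737142) q22037, e3 q21346 (flp_g L744237) q22661, e3 q21347 L746399 q22883, e3 q21348 (flp_g L732653) q21711, e3 q21349 (flp_g L732671) q21712, e3 q21350 (flp_g L732582) q21707, e3 q21351 (flp_g L737719) q22075, e3 q21352 (flp_g L737799) q22082, e3 q21353 (flp_g L737814) q22083, e3 q21354 (flp_g L737663) q22071, e3 q21355 (flp_g L732598) q21708, e3 q21356 (flp_g L732566) q21706, e3 q21357 (flp_g L744490) q22683, e3 q21358 (flp_g L737755) q22078, e3 q21359 (flp_g L737401) q22054, e3 q21360 (flp_g L737775) q22080, e3 q21361 L730003 q19567, e3 q21362 (flp_g L737435) q22056, e3 q21363 (flp_g L732635) q21710, e3 q21364 (flp_g L737614) q22067, e3 q21365 (flp_g L738028) q22098, e3 q21366 (flp_g L738038) q22099, e3 q21367 (flp_g L738965) q22170, e3 q21368 (flp_g L738977) q22171, e3 q21369 (flp_g L738209) q22110, e3 q21370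 (flp_g L738221) q22111, e3 q21371 (flp_g L738249) q22113, e3 q21372 L730111 q19587, e3 q21373 (flp_g L746498) q22893, e3 q21374 L730134 q19951, e3 q21375 (flp_g L738320) q22118, trivial⟩ (by decide +kernel)

theorem ce_g_334 : ∀ r, r < 64 → sm gg (Qf (21376 + r)) = Qf (tab Gen.g (21376 + r)) :=
  edges_tab (sm gg) Qf (tab Gen.g) 21376 [(21376, 19592), (21377, 19593), (21378, 22128), (21379, 22129), (21380, 22130), (21381, 22133), (21382, 19600), (21383, 22277), (21384, 22902), (21385, 22695), (21386, 22176), (21387, 19745), (21388, 22149), (21389, 22177), (21390, 22150), (21391, 22151), (21392, 22179), (21393, 22154), (21394, 22178), (21395, 19616), (21396, 19617), (21397, 22321), (21398, 22914), (21399, 22916), (21400, 19764), (21401, 22166), (21402, 22167), (21403, 22168), (21404, 22921), (21405, 19623), (21406, 22195), (21407, 22197), (21408, 22198), (21409, 22200), (21410, 19630), (21411, 22279), (21412, 19633), (21413, 19634), (21414, 22926), (21415, 22222), (21416, 22223), (21417, 22225), (21418, 19641), (21419, 22242),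 (21420, 22894), (21421, 22267), (21422, 22268), (21423, 22269), (21424, 22270), (21425, 22272), (21426, 22273), (21427, 22276), (21428, 19654), (21429, 19655), (21430, 22940), (21431, 19663), (21432, 19664), (21433, 21749), (21434, 19665), (21435, 22112), (21436, 22115), (21437, 22942), (21438, 22943), (21439, 22945)]
    ⟨e3 q21376 L730152 q19592, e3 q21377 L730161 q19593, e3 q21378 (flp_g L738446) q22128, e3 q21379 (flp_g L738459) q22129, e3 q21380 (flp_g L738467) q22130, e3 q21381 (flp_g L738499) q22133, e3 q21382 L730190 q19600, e3 q21383 (flp_g L740222) q22277, e3 q21384 (flp_g L746567) q22902, e3 q21385 (flp_g L744642) q22695, e3 q21386 (flp_g L739044) q22176, e3 q21387 L730230 q19745, e3 q21388 (flp_g L738704) q22149, e3 q21389 (flp_g L739061) q22177, e3 q21390 (flp_g L738714) q22150, e3 q21391 (flp_g L738720) q22151, e3 q21392 (flp_g L739081) q22179, e3 q21393 (flp_g L738750) q22154, e3 q21394 (flp_g L739071) q22178, e3 q21395 L730284 q19616, e3 q21396 L730291 q19617, e3 q21397 (flp_g L740670) q22321, e3 q21398 (flp_g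 L746649) q22914, e3 q21399 L746660 q22916, e3 q21400 L730317 q19764, e3 q21401 (flp_g L738914) q22166, e3 q21402 (flp_g L738926) q22167, e3 q21403 (flp_g L738937) q22168, e3 q21404 L746692 q22921, e3 q21405 (flp_g L730339) q19623, e3 q21406 (flp_g L739289) q22195, e3 q21407 (flp_g L739322) q22197, e3 q21408 (flp_g L739332) q22198, e3 q21409 (flp_g L739350) q22200, e3 q21410 L730384 q19630, e3 q21411 (flp_g L740243) q22279, e3 q21412 L730404 q19633, e3 q21413 L730410 q19634, e3 q21414 (flp_g L746742) q22926, e3 q21415 (flp_g L739623) q22222, e3 q21416 (flp_g L739631) q22223, e3 q21417 (flp_g L739647) q22225, e3 q21418 L730446 q19641, e3 q21419 (flp_g L739850) q22242, e3 q21420 (flp_g L746510) q22894, e3 q21421 (flp_g L740129) q22267, e3 q21422 (flp_g L740143) q22268, e3 q21423 (flp_g L740152) q22269, e3 q21424 (flp_g L740161) q22270, e3 q21425 (flp_g L740179) q22272, e3 q21426 (flp_g L740187) q22273, e3 q21427 (flp_g L740214) q22276, e3 q21428 L730509 q19654, e3 q21429 L730516 q19655, e3 q21430 (flp_g L746823) q22940, e3 q21431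 L730534 q19663, e3 q21432 L730540 q19664, e3 q21433 (flp_g L733280) q21749, e3 q21434 L730552 q19665, e3 q21435 (flp_g L738239) q22112, e3 q21436 (flp_g L738277) q22115, e3 q21437 (flp_g L746839) q22942, e3 q21438 (flp_g L746845) q22943, e3 q21439 (flp_g L746857) q22945, trivial⟩ (by decide +kernel)

theorem ce_g_335 : ∀ r, r < 64 → sm gg (Qf (21440 + r)) = Qf (tab Gen.g (21440 + r)) :=
  edges_tab (sm gg) Qf (tab Gen.g) 21440 [(21440, 22300), (21441, 22301), (21442, 22304), (21443, 22124), (21444, 22306), (21445, 22307), (21446, 22310), (21447, 22311), (21448, 19675), (21449, 22959), (21450, 22314), (21451, 22315), (21452, 21747), (21453, 19680), (21454, 22965), (21455, 22319), (21456, 21744), (21457, 19695), (21458, 22125), (21459, 19698), (21460, 19699), (21461, 19689), (21462, 21748), (21463, 22969), (21464, 19702), (21465, 19705), (21466, 22117), (21467, 22970), (21468, 21771), (21469, 22350), (21470, 22351), (21471, 22352), (21472, 22353), (21473, 22354), (21474, 22356), (21475, 22978), (21476, 22163), (21477, 19718),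 (21478, 22121), (21479, 19724), (21480, 19725), (21481, 22980), (21482, 22369), (21483, 22379), (21484, 19731), (21485, 19732), (21486, 22984), (21487, 22418), (21488, 22386), (21489, 22904), (21490, 19746), (21491, 19747), (21492, 19739), (21493, 22990), (21494, 19750), (21495, 22292), (21496, 22430), (21497, 22431), (21498, 22897), (21499, 22416), (21500, 22906), (21501, 22989), (21502, 19749), (21503, 22999)]
    ⟨e3 q21440 (flp_g L740469) q22300, e3 q21441 (flp_g L740481) q22301, e3 q21442 (flp_g L740522) q22304, e3 q21443 (flp_g L738391) q22124, e3 q21444 (flp_g L740548) q22306, e3 q21445 (flp_g L740558) q22307, e3 q21446 (flp_g L740588) q22310, e3 q21447 (flp_g L740596) q22311, e3 q21448 L730652 q19675, e3 q21449 (flp_g L746951) q22959, e3 q21450 (flp_g L740618) q22314, e3 q21451 (flp_g L740622) q22315, e3 q21452 (flp_g L733244) q21747, e3 q21453 L730680 q19680, e3 q21454 (flp_g L746979) q22965, e3 q21455 (flp_g L740652) q22319, e3 q21456 (flp_g L733182) q21744, e3 q21457 L730704 q19695, e3 q21458 (flp_g L738401) q22125,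 e3 q21459 L730716 q19698, e3 q21460 L730724 q19699, e3 q21461 L730734 q19689, e3 q21462 (flp_g L733258) q21748, e3 q21463 L746999 q22969, e3 q21464 (flp_g L730748) q19702, e3 q21465 L730756 q19705, e3 q21466 (flp_g L738305) q22117, e3 q21467 (flp_g L747009) q22970, e3 q21468 (flp_g L733600) q21771, e3 q21469 (flp_g L740952) q22350, e3 q21470 (flp_g L740961) q22351, e3 q21471 (flp_g L740974) q22352, e3 q21472 (flp_g L740984) q22353, e3 q21473 (flp_g L740991) q22354, e3 q21474 (flp_g L741009) q22356, e3 q21475 L747057 q22978, e3 q21476 (flp_g L738875) q22163, e3 q21477 (flp_g L730831) q19718, e3 q21478 (flp_g L738358) q22121, e3 q21479 L730849 q19724, e3 q21480 L730856 q19725, e3 q21481 (flp_g L747075) q22980, e3 q21482 (flp_g L741170) q22369, e3 q21483 (flp_g L741274) q22379, e3 q21484 L730882 q19731, e3 q21485 L730887 q19732, e3 q21486 (flp_g L747101) q22984, e3 q21487 (flp_g L741718) q22418, e3 q21488 (flp_g L741358) q22386, e3 q21489 (flp_g L746587) q22904, e3 q21490 L730928 q19746, e3 q21491 L730935 q19747, e3 q21492 (flp_g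 L730937) q19739, e3 q21493 (flp_g L747149) q22990, e3 q21494 L730955 q19750, e3 q21495 (flp_g L740379) q22292, e3 q21496 (flp_g L741838) q22430, e3 q21497 (flp_g L741851) q22431, e3 q21498 (flp_g L746531) q22897, e3 q21499 (flp_g L741692) q22416, e3 q21500 (flp_g L746604) q22906, e3 q21501 (flp_g L747140) q22989, e3 q21502 L731022 q19749, e3 q21503 (flp_g L747217) q22999, trivial⟩ (by decide +kernel)

theorem ce_g_336 : ∀ r, r < 64 → sm gg (Qf (21504 + r)) = Qf (tab Gen.g (21504 + r)) :=
  edges_tab (sm gg) Qf (tab Gen.g) 21504 [(21504, 22992), (21505, 21876), (21506, 19780), (21507, 21884), (21508, 22397), (21509, 22424), (21510, 22398), (21511, 22425), (21512, 22400), (21513, 22427), (21514, 22404), (21515, 22343), (21516, 21516), (21517, 22917), (21518, 21518), (21519, 19767), (21520, 21887), (21521, 19772), (21522, 22426), (21523, 22417), (21524, 19781), (21525, 22433), (21526, 22434), (21527, 22436), (21528, 23003), (21529, 22444), (21530, 19790), (21531, 19791), (21532, 22696), (21533, 19792), (21534, 22584), (21535,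 22663), (21536, 23022), (21537, 23024), (21538, 21941), (21539, 21954), (21540, 22464), (21541, 22465), (21542, 22468), (21543, 22469), (21544, 22471), (21545, 22473), (21546, 21546), (21547, 22491), (21548, 22492), (21549, 22503), (21550, 22504), (21551, 22505), (21552, 22507), (21553, 22508), (21554, 22510), (21555, 22511), (21556, 22514), (21557, 22515), (21558, 22518), (21559, 21919), (21560, 19823), (21561, 19824), (21562, 21922), (21563, 19825), (21564, 22680), (21565, 22664), (21566, 22574), (21567, 23046)]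
    ⟨e3 q21504 (flp_g L747158) q22992, e3 q21505 (flp_g L735063) q21876, e3 q21506 L731061 q19780, e3 q21507 (flp_g L735181) q21884, e3 q21508 (flp_g L741495) q22397, e3 q21509 (flp_g L741780) q22424, e3 q21510 (flp_g L741511) q22398, e3 q21511 (flp_g L741788) q22425, e3 q21512 (flp_g L741537) q22400, e3 q21513 (flp_g L741801) q22427, e3 q21514 (flp_g L741575) q22404, e3 q21515 (flp_g L740874) q22343, e3 q21516 L731129 q21516, e3 q21517 (flp_g L746671) q22917, e3 q21518 L731142 q21518, e3 q21519 L731151 q19767, e3 q21520 (flp_g L735222) q21887, e3 q21521 L731167 q19772, e3 q21522 (flp_g L741794) q22426, e3 q21523 (flp_g L741704) q22417, e3 q21524 L731187 q19781, e3 q21525 (flp_g L741882) q22433, e3 q21526 (flp_g L741895) q22434, e3 q21527 (flp_g L741914) q22436, e3 q21528 (flp_g L747254) q23003, e3 q21529 (flp_g L742014) q22444, e3 q21530 L731237 q19790, e3 q21531 L731246 q19791, e3 q21532 (flp_g L744657) q22696, e3 q21533 L731261 q19792, e3 q21534 (flp_g L743586) q22584, e3 q21535 (flp_g L744251) q22663, e3 q21536 (flp_g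 L747376) q23022, e3 q21537 (flp_g L747389) q23024, e3 q21538 (flp_g L735937) q21941, e3 q21539 (flp_g L736102) q21954, e3 q21540 (flp_g L742254) q22464, e3 q21541 (flp_g L742264) q22465, e3 q21542 (flp_g L742302) q22468, e3 q21543 (flp_g L742312) q22469, e3 q21544 (flp_g L742330) q22471, e3 q21545 (flp_g L742346) q22473, e3 q21546 L731351 q21546, e3 q21547 (flp_g L742527) q22491, e3 q21548 (flp_g L742542) q22492, e3 q21549 (flp_g L742671) q22503, e3 q21550 (flp_g L742686) q22504, e3 q21551 (flp_g L742696) q22505, e3 q21552 (flp_g L742723) q22507, e3 q21553 (flp_g L742730) q22508, e3 q21554 (flp_g L742760) q22510, e3 q21555 (flp_g L742774) q22511, e3 q21556 (flp_g L742800) q22514, e3 q21557 (flp_g L742805) q22515, e3 q21558 (flp_g L742827) q22518, e3 q21559 (flp_g L735658) q21919, e3 q21560 L731451 q19823, e3 q21561 L731458 q19824, e3 q21562 (flp_g L735690) q21922, e3 q21563 L731471 q19825, e3 q21564 (flp_g L744455) q22680, e3 q21565 (flp_g L744264) q22664, e3 q21566 (flp_g L743456) q22574, e3 q21567 (flp_g L747528) q23046,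 trivial⟩ (by decide +kernel)

theorem ce_g_337 : ∀ r, r < 64 → sm gg (Qf (21568 + r)) = Qf (tab Gen.g (21568 + r)) :=
  edges_tab (sm gg) Qf (tab Gen.g) 21568 [(21568, 23048), (21569, 21980), (21570, 22002), (21571, 21944), (21572, 22497), (21573, 22533), (21574, 22832), (21575, 22534), (21576, 19832), (21577, 23059), (21578, 23060), (21579, 22537), (21580, 22538), (21581, 21910), (21582, 19836), (21583, 23066), (21584, 22541), (21585, 21913), (21586, 19840), (21587, 23070), (21588, 22545), (21589, 21589), (21590, 21590), (21591, 21591), (21592, 22862), (21593, 19855), (21594, 21911), (21595, 19851), (21596, 23077), (21597, 21914), (21598, 23075), (21599, 21599), (21600, 19858), (21601, 22752), (21602, 19871), (21603, 19864), (21604, 23082), (21605, 19876), (21606, 22749), (21607, 22666), (21608, 22602), (21609, 22753), (21610, 23081), (21611, 22598), (21612, 19896), (21613, 19875), (21614, 23093), (21615, 23084), (21616, 22801), (21617, 22595), (21618, 19880), (21619, 23098), (21620, 19883), (21621, 23099), (21622, 22601),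 (21623, 19887), (21624, 19888), (21625, 23102), (21626, 23103), (21627, 22608), (21628, 22609), (21629, 22743), (21630, 19893), (21631, 23109)]
    ⟨e3 q21568 (flp_g L747541) q23048, e3 q21569 (flp_g L736460) q21980, e3 q21570 (flp_g L736708) q22002, e3 q21571 (flp_g L735976) q21944, e3 q21572 (flp_g L742618) q22497, e3 q21573 (flp_g L743002) q22533, e3 q21574 (flp_g L746014) q22832, e3 q21575 (flp_g L743012) q22534, e3 q21576 (flp_g L731568) q19832, e3 q21577 (flp_g L747621) q23059, e3 q21578 (flp_g L747630) q23060, e3 q21579 (flp_g L743052) q22537, e3 q21580 (flp_g L743062) q22538, e3 q21581 (flp_g L735550) q21910, e3 q21582 L731611 q19836, e3 q21583 (flp_g L747668) q23066, e3 q21584 (flp_g L743096) q22541, e3 q21585 (flp_g L735589) q21913, e3 q21586 L731637 q19840, e3 q21587 (flp_g L747694) q23070, e3 q21588 (flp_g L743128) q22545, e3 q21589 L731655 q21589, e3 q21590 L731670 q21590, e3 q21591 L731677 q21591, e3 q21592 (flp_g L746243) q22862, e3 q21593 L731695 q19855, e3 q21594 (flp_g L735564) q21911, e3 q21595 L731715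 q19851, e3 q21596 (flp_g L747752) q23077, e3 q21597 (flp_g L735598) q21914, e3 q21598 (flp_g L747733) q23075, e3 q21599 L731746 q21599, e3 q21600 L731753 q19858, e3 q21601 (flp_g L745246) q22752, e3 q21602 L731771 q19871, e3 q21603 L731778 q19864, e3 q21604 (flp_g L747788) q23082, e3 q21605 L731787 q19876, e3 q21606 (flp_g L745215) q22749, e3 q21607 (flp_g L744287) q22666, e3 q21608 (flp_g L743734) q22602, e3 q21609 (flp_g L745256) q22753, e3 q21610 (flp_g L747781) q23081, e3 q21611 (flp_g L743700) q22598, e3 q21612 L731843 q19896, e3 q21613 L731851 q19875, e3 q21614 (flp_g L747870) q23093, e3 q21615 (flp_g L747796) q23084, e3 q21616 (flp_g L745739) q22801, e3 q21617 (flp_g L743672) q22595, e3 q21618 (flp_g L731877) q19880, e3 q21619 (flp_g L747902) q23098, e3 q21620 L731903 q19883, e3 q21621 (flp_g L747910) q23099, e3 q21622 (flp_g L743728) q22601, e3 q21623 L731921 q19887, e3 q21624 L731929 q19888, e3 q21625 (flp_g L747924) q23102, e3 q21626 (flp_g L747930) q23103, e3 q21627 (flp_g L743781) q22608, e3 q21628 (flp_g L743787)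 q22609, e3 q21629 (flp_g L745147) q22743, e3 q21630 L731967 q19893, e3 q21631 (flp_g L747964) q23109, trivial⟩ (by decide +kernel)

theorem ce_g_338 : ∀ r, r < 64 → sm gg (Qf (21632 + r)) = Qf (tab Gen.g (21632 + r)) :=
  edges_tab (sm gg) Qf (tab Gen.g) 21632 [(21632, 22613), (21633, 22614), (21634, 22750), (21635, 23092), (21636, 19898), (21637, 23116), (21638, 22620), (21639, 22496), (21640, 21640), (21641, 22772), (21642, 21642), (21643, 22775), (21644, 21644), (21645, 23124), (21646, 19920), (21647, 22814), (21648, 19913), (21649, 23125), (21650, 19924), (21651, 22769), (21652, 19917), (21653, 23129), (21654, 22751), (21655, 21655), (21656, 19923), (21657, 21657), (21658, 19929), (21659, 22669), (21660, 19969), (21661, 19987), (21662, 21966), (21663, 22026), (21664, 22672), (21665, 22553), (21666, 22673), (21667, 22674), (21668, 22633), (21669, 22675), (21670, 22017), (21671, 22676), (21672, 22575), (21673, 21956), (21674, 22677), (21675, 22678), (21676, 21676), (21677, 21677), (21678, 22670), (21679, 23133), (21680,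 19971), (21681, 23145), (21682, 19975), (21683, 19976), (21684, 23147), (21685, 23148), (21686, 21686), (21687, 19980), (21688, 22770), (21689, 23151), (21690, 21690), (21691, 21691), (21692, 22773), (21693, 22776), (21694, 19989), (21695, 22780)]
    ⟨e3 q21632 (flp_g L743817) q22613, e3 q21633 (flp_g L743825) q22614, e3 q21634 (flp_g L745223) q22750, e3 q21635 (flp_g L747864) q23092, e3 q21636 L731995 q19898, e3 q21637 (flp_g L747994) q23116, e3 q21638 (flp_g L743867) q22620, e3 q21639 (flp_g L742601) q22496, e3 q21640 L732019 q21640, e3 q21641 (flp_g L745440) q22772, e3 q21642 L732034 q21642, e3 q21643 (flp_g L745462) q22775, e3 q21644 L732053 q21644, e3 q21645 L748045 q23124, e3 q21646 L732071 q19920, e3 q21647 (flp_g L745853) q22814, e3 q21648 L732087 q19913, e3 q21649 (flp_g L748058) q23125, e3 q21650 L732101 q19924, e3 q21651 (flp_g L745410) q22769, e3 q21652 L732117 q19917, e3 q21653 (flp_g L748086) q23129, e3 q21654 (flp_g L745231) q22751, e3 q21655 L732137 q21655, e3 q21656 L732144 q19923, e3 q21657 L732150 q21657,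 e3 q21658 (flp_g L732157) q19929, e3 q21659 (flp_g L744323) q22669, e3 q21660 L732183 q19969, e3 q21661 L732196 q19987, e3 q21662 (flp_g L736266) q21966, e3 q21663 (flp_g L737005) q22026, e3 q21664 (flp_g L744363) q22672, e3 q21665 (flp_g L743226) q22553, e3 q21666 (flp_g L744379) q22673, e3 q21667 (flp_g L744389) q22674, e3 q21668 (flp_g L743987) q22633, e3 q21669 (flp_g L744400) q22675, e3 q21670 (flp_g L736898) q22017, e3 q21671 (flp_g L744406) q22676, e3 q21672 (flp_g L743468) q22575, e3 q21673 (flp_g L736134) q21956, e3 q21674 (flp_g L744417) q22677, e3 q21675 (flp_g L744429) q22678, e3 q21676 L732298 q21676, e3 q21677 L732303 q21677, e3 q21678 (flp_g L744340) q22670, e3 q21679 (flp_g L748122) q23133, e3 q21680 L732339 q19971, e3 q21681 (flp_g L748200) q23145, e3 q21682 L732355 q19975, e3 q21683 L732360 q19976, e3 q21684 (flp_g L748217) q23147, e3 q21685 (flp_g L748224) q23148, e3 q21686 L732376 q21686, e3 q21687 L732383 q19980, e3 q21688 (flp_g L745419) q22770, e3 q21689 (flp_g L748241) q23151, e3 q21690 L732404 q21690,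 e3 q21691 L732414 q21691, e3 q21692 (flp_g L745447) q22773, e3 q21693 (flp_g L745470) q22776, e3 q21694 L732439 q19989, e3 q21695 (flp_g L745515) q22780, trivial⟩ (by decide +kernel)

theorem ce_g_339 : ∀ r, r < 64 → sm gg (Qf (21696 + r)) = Qf (tab Gen.g (21696 + r)) :=
  edges_tab (sm gg) Qf (tab Gen.g) 21696 [(21696, 23155), (21697, 19992), (21698, 22774), (21699, 21699), (21700, 21700), (21701, 21701), (21702, 20628), (21703, 20443), (21704, 20016), (21705, 20434), (21706, 21356), (21707, 21350), (21708, 21355), (21709, 20022), (21710, 21363), (21711, 21348), (21712, 21349), (21713, 20576), (21714, 21105), (21715, 21106), (21716, 20585), (21717, 20031), (21718, 23164), (21719, 20655), (21720, 21117), (21721, 21118), (21722, 20601), (21723, 20083), (21724, 20084), (21725, 20604), (21726, 21107), (21727, 20665), (21728, 20483), (21729, 20050), (21730, 20570), (21731, 20051), (21732, 20052), (21733, 20611), (21734, 20053), (21735, 20614), (21736, 20054), (21737, 23172), (21738, 23174), (21739, 23177), (21740, 20624), (21741,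 20058), (21742, 21108), (21743, 21109), (21744, 21456), (21745, 21111), (21746, 20069), (21747, 21452), (21748, 21462), (21749, 21433), (21750, 21113), (21751, 20078), (21752, 23185), (21753, 20082), (21754, 20081), (21755, 23187), (21756, 23168), (21757, 21127), (21758, 20593), (21759, 20088)]
    ⟨e3 q21696 (flp_g L748276) q23155, e3 q21697 L732455 q19992, e3 q21698 (flp_g L745454) q22774, e3 q21699 L732467 q21699, e3 q21700 L732474 q21700, e3 q21701 L732479 q21701, e3 q21702 L732493 q20628, e3 q21703 L732512 q20443, e3 q21704 L732530 q20016, e3 q21705 L732550 q20434, e3 q21706 L732566 q21356, e3 q21707 L732582 q21350, e3 q21708 L732598 q21355, e3 q21709 L732619 q20022, e3 q21710 L732635 q21363, e3 q21711 L732653 q21348, e3 q21712 L732671 q21349, e3 q21713 L732696 q20576, e3 q21714 L732710 q21105, e3 q21715 L732724 q21106, e3 q21716 L732743 q20585, e3 q21717 L732757 q20031, e3 q21718 (flp_g L748406) q23164, e3 q21719 L732794 q20655, e3 q21720 L732808 q21117, e3 q21721 L732822 q21118, e3 q21722 L732846 q20601, e3 q21723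 L732860 q20083, e3 q21724 L732874 q20084, e3 q21725 L732894 q20604, e3 q21726 L732904 q21107, e3 q21727 L732918 q20665, e3 q21728 L732932 q20483, e3 q21729 L732954 q20050, e3 q21730 L732973 q20570, e3 q21731 L732986 q20051, e3 q21732 L732998 q20052, e3 q21733 L733015 q20611, e3 q21734 L733027 q20053, e3 q21735 L733043 q20614, e3 q21736 L733051 q20054, e3 q21737 (flp_g L748539) q23172, e3 q21738 (flp_g L748574) q23174, e3 q21739 (flp_g L748618) q23177, e3 q21740 L733119 q20624, e3 q21741 L733130 q20058, e3 q21742 L733152 q21108, e3 q21743 L733166 q21109, e3 q21744 L733182 q21456, e3 q21745 L733204 q21111, e3 q21746 L733222 q20069, e3 q21747 L733244 q21452, e3 q21748 L733258 q21462, e3 q21749 L733280 q21433, e3 q21750 L733294 q21113, e3 q21751 L733311 q20078, e3 q21752 (flp_g L748753) q23185, e3 q21753 L733333 q20082, e3 q21754 L733352 q20081, e3 q21755 (flp_g L748778) q23187, e3 q21756 (flp_g L748479) q23168, e3 q21757 L733399 q21127, e3 q21758 L733421 q20593, e3 q21759 L733437 q20088, trivial⟩ (by decide +kernel)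

theorem ce_g_340 : ∀ r, r < 64 → sm gg (Qf (21760 + r)) = Qf (tab Gen.g (21760 + r)) :=
  edges_tab (sm gg) Qf (tab Gen.g) 21760 [(21760, 23191), (21761, 21130), (21762, 20594), (21763, 20092), (21764, 23195), (21765, 20099), (21766, 20095), (21767, 20530), (21768, 20098), (21769, 23198), (21770, 20102), (21771, 21468), (21772, 23199), (21773, 20105), (21774, 20207), (21775, 20208), (21776, 20145), (21777, 21143), (21778, 21144), (21779, 20849), (21780, 21145), (21781, 21146), (21782, 20114), (21783, 20115), (21784, 21278), (21785, 21335), (21786, 23218), (21787, 23213), (21788, 23214), (21789, 21101), (21790, 21084), (21791, 21047), (21792, 20857), (21793, 21149), (21794, 21794), (21795, 20122), (21796, 23228), (21797, 21797), (21798, 20128), (21799, 20862), (21800, 20129), (21801, 23231), (21802, 23233), (21803, 20135), (21804, 20136), (21805, 23205), (21806, 21279), (21807, 21336), (21808, 20134), (21809, 23238), (21810, 23234), (21811, 20292), (21812, 21153), (21813, 21154), (21814, 20880), (21815, 20255), (21816, 20294),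 (21817, 20883), (21818, 21155), (21819, 21156), (21820, 20885), (21821, 21157), (21822, 23206), (21823, 21823)]
    ⟨e3 q21760 (flp_g L748849) q23191, e3 q21761 L733457 q21130, e3 q21762 L733473 q20594, e3 q21763 L733487 q20092, e3 q21764 (flp_g L748895) q23195, e3 q21765 L733505 q20099, e3 q21766 L733527 q20095, e3 q21767 L733541 q20530, e3 q21768 L733553 q20098, e3 q21769 (flp_g L748935) q23198, e3 q21770 L733587 q20102, e3 q21771 L733600 q21468, e3 q21772 (flp_g L748955) q23199, e3 q21773 L733624 q20105, e3 q21774 L733641 q20207, e3 q21775 L733660 q20208, e3 q21776 L733668 q20145, e3 q21777 L733684 q21143, e3 q21778 L733698 q21144, e3 q21779 L733713 q20849, e3 q21780 L733725 q21145, e3 q21781 L733734 q21146, e3 q21782 L733748 q20114, e3 q21783 L733769 q20115, e3 q21784 L733781 q21278, e3 q21785 L733800 q21335, e3 q21786 L749240 q23218, e3 q21787 (flp_g L749170) q23213, e3 q21788 (flp_g L749183) q23214, e3 q21789 L733850 q21101, e3 q21790 L733865 q21084, e3 q21791 L733877 q21047, e3 q21792 L733893 q20857, e3 q21793 L733903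 q21149, e3 q21794 L733917 q21794, e3 q21795 (flp_g L733922) q20122, e3 q21796 (flp_g L749397) q23228, e3 q21797 L733959 q21797, e3 q21798 L733970 q20128, e3 q21799 L733987 q20862, e3 q21800 L733997 q20129, e3 q21801 (flp_g L749437) q23231, e3 q21802 (flp_g L749463) q23233, e3 q21803 L734050 q20135, e3 q21804 L734063 q20136, e3 q21805 (flp_g L749048) q23205, e3 q21806 L734097 q21279, e3 q21807 L734111 q21336, e3 q21808 (flp_g L734115) q20134, e3 q21809 (flp_g L749546) q23238, e3 q21810 (flp_g L749484) q23234, e3 q21811 L734159 q20292, e3 q21812 L734179 q21153, e3 q21813 L734193 q21154, e3 q21814 L734212 q20880, e3 q21815 L734222 q20255, e3 q21816 L734236 q20294, e3 q21817 L734252 q20883, e3 q21818 L734262 q21155, e3 q21819 L734270 q21156, e3 q21820 L734286 q20885, e3 q21821 L734294 q21157, e3 q21822 (flp_g L749068) q23206, e3 q21823 L734321 q21823, trivial⟩ (by decide +kernel)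

theorem ce_g_341 : ∀ r, r < 64 → sm gg (Qf (21824 + r)) = Qf (tab Gen.g (21824 + r)) :=
  edges_tab (sm gg) Qf (tab Gen.g) 21824 [(21824, 21824), (21825, 20149), (21826, 23257), (21827, 21827), (21828, 20157), (21829, 20893), (21830, 20158), (21831, 20159), (21832, 20895), (21833, 20160), (21834, 23261), (21835, 23262), (21836, 23266), (21837, 20162), (21838, 23267), (21839, 21839), (21840, 20901), (21841, 20902), (21842, 20166), (21843, 21337), (21844, 20254), (21845, 20293), (21846, 20354), (21847, 21164), (21848, 20256), (21849, 20295), (21850, 20355), (21851, 21165), (21852, 21852), (21853, 23270), (21854, 20775), (21855, 20776), (21856, 20805), (21857, 20813), (21858, 21858), (21859, 20188), (21860, 20189), (21861, 20190), (21862, 23285), (21863, 23286), (21864, 23288), (21865, 23289), (21866, 20779), (21867, 20787), (21868, 20791), (21869, 20768), (21870, 21172), (21871, 21871), (21872, 20201), (21873, 20771), (21874, 20202), (21875, 20774), (21876, 21505), (21877, 21147), (21878, 21148), (21879, 23203), (21880, 23204),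 (21881, 21173), (21882, 21174), (21883, 21175), (21884, 21507), (21885, 21176), (21886, 20218), (21887, 21520)]
    ⟨e3 q21824 L734332 q21824, e3 q21825 L734348 q20149, e3 q21826 (flp_g L749798) q23257, e3 q21827 L734368 q21827, e3 q21828 L734381 q20157, e3 q21829 L734403 q20893, e3 q21830 L734413 q20158, e3 q21831 L734426 q20159, e3 q21832 L734438 q20895, e3 q21833 L734448 q20160, e3 q21834 (flp_g L749844) q23261, e3 q21835 (flp_g L749863) q23262, e3 q21836 (flp_g L749908) q23266, e3 q21837 L734511 q20162, e3 q21838 (flp_g L749927) q23267, e3 q21839 L734533 q21839, e3 q21840 L734546 q20901, e3 q21841 L734556 q20902, e3 q21842 L734566 q20166, e3 q21843 L734583 q21337, e3 q21844 L734599 q20254, e3 q21845 L734615 q20293, e3 q21846 L734630 q20354, e3 q21847 L734643 q21164, e3 q21848 L734658 q20256, e3 q21849 L734669 q20295, e3 q21850 L734678 q20355, e3 q21851 L734691 q21165, e3 q21852 L734702 q21852, e3 q21853 (flp_g L749962) q23270, e3 q21854 L734725 q20775, e3 q21855 L734747 q20776, e3 q21856 L734765 q20805, e3 q21857 L734777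 q20813, e3 q21858 L734793 q21858, e3 q21859 L734805 q20188, e3 q21860 L734820 q20189, e3 q21861 L734837 q20190, e3 q21862 (flp_g L750175) q23285, e3 q21863 (flp_g L750195) q23286, e3 q21864 (flp_g L750226) q23288, e3 q21865 (flp_g L750237) q23289, e3 q21866 L734904 q20779, e3 q21867 L734925 q20787, e3 q21868 L734937 q20791, e3 q21869 L734955 q20768, e3 q21870 L734967 q21172, e3 q21871 L734979 q21871, e3 q21872 L734990 q20201, e3 q21873 L735009 q20771, e3 q21874 L735021 q20202, e3 q21875 L735041 q20774, e3 q21876 L735063 q21505, e3 q21877 L735077 q21147, e3 q21878 L735088 q21148, e3 q21879 (flp_g L749019) q23203, e3 q21880 (flp_g L749032) q23204, e3 q21881 L735128 q21173, e3 q21882 L735149 q21174, e3 q21883 L735163 q21175, e3 q21884 L735181 q21507, e3 q21885 L735191 q21176, e3 q21886 L735201 q20218, e3 q21887 L735222 q21520, trivial⟩ (by decide +kernel)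

theorem ce_g_342 : ∀ r, r < 64 → sm gg (Qf (21888 + r)) = Qf (tab Gen.g (21888 + r)) :=
  edges_tab (sm gg) Qf (tab Gen.g) 21888 [(21888, 20219), (21889, 20692), (21890, 20222), (21891, 20223), (21892, 23311), (21893, 21199), (21894, 21200), (21895, 20680), (21896, 20227), (21897, 23316), (21898, 21202), (21899, 20736), (21900, 20232), (21901, 23320), (21902, 21902), (21903, 20236), (21904, 20737), (21905, 20239), (21906, 23324), (21907, 21907), (21908, 21225), (21909, 21309), (21910, 21581), (21911, 21594), (21912, 23331), (21913, 21585), (21914, 21597), (21915, 21231), (21916, 21232), (21917, 21233), (21918, 21234), (21919, 21559), (21920, 21235), (21921, 21236), (21922, 21562), (21923, 21237), (21924, 23344), (21925, 20258), (21926, 20259), (21927, 23241), (21928, 23273), (21929, 23221), (21930, 23247), (21931, 23277), (21932, 20257), (21933, 23352), (21934, 23346), (21935, 21248), (21936, 21250), (21937, 21251), (21938, 20934), (21939, 21253), (21940, 21254), (21941, 21538), (21942, 21256), (21943, 21257), (21944, 21571),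 (21945, 20267), (21946, 23365), (21947, 21260), (21948, 21948), (21949, 21949), (21950, 20272), (21951, 23370)]
    ⟨e3 q21888 L735234 q20219, e3 q21889 L735256 q20692, e3 q21890 L735268 q20222, e3 q21891 L735279 q20223, e3 q21892 (flp_g L750579) q23311, e3 q21893 L735309 q21199, e3 q21894 L735321 q21200, e3 q21895 L735345 q20680, e3 q21896 L735361 q20227, e3 q21897 (flp_g L750655) q23316, e3 q21898 L735379 q21202, e3 q21899 L735395 q20736, e3 q21900 L735409 q20232, e3 q21901 (flp_g L750701) q23320, e3 q21902 L735435 q21902, e3 q21903 L735446 q20236, e3 q21904 L735468 q20737, e3 q21905 L735481 q20239, e3 q21906 (flp_g L750761) q23324, e3 q21907 L735505 q21907, e3 q21908 L735521 q21225, e3 q21909 L735534 q21309, e3 q21910 L735550 q21581, e3 q21911 L735564 q21594, e3 q21912 L750859 q23331, e3 q21913 L735589 q21585, e3 q21914 L735598 q21597, e3 q21915 L735610 q21231, e3 q21916 L735624 q21232, e3 q21917 L735636 q21233, e3 q21918 L735642 q21234, e3 q21919 L735658 q21559, e3 q21920 L735668 q21235, e3 q21921 L735677 q21236, e3 q21922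 L735690 q21562, e3 q21923 L735698 q21237, e3 q21924 L751019 q23344, e3 q21925 L735721 q20258, e3 q21926 L735730 q20259, e3 q21927 (flp_g L749584) q23241, e3 q21928 (flp_g L750007) q23273, e3 q21929 (flp_g L749295) q23221, e3 q21930 (flp_g L749686) q23247, e3 q21931 (flp_g L750060) q23277, e3 q21932 (flp_g L735802) q20257, e3 q21933 (flp_g L751137) q23352, e3 q21934 (flp_g L751053) q23346, e3 q21935 L735848 q21248, e3 q21936 L735869 q21250, e3 q21937 L735881 q21251, e3 q21938 (flp_g L735897) q20934, e3 q21939 L735912 q21253, e3 q21940 L735923 q21254, e3 q21941 L735937 q21538, e3 q21942 L735947 q21256, e3 q21943 L735955 q21257, e3 q21944 L735976 q21571, e3 q21945 L735992 q20267, e3 q21946 (flp_g L751312) q23365, e3 q21947 L736008 q21260, e3 q21948 L736022 q21948, e3 q21949 L736031 q21949, e3 q21950 L736047 q20272, e3 q21951 (flp_g L751369) q23370, trivial⟩ (by decide +kernel)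

theorem ce_g_343 : ∀ r, r < 64 → sm gg (Qf (21952 + r)) = Qf (tab Gen.g (21952 + r)) :=
  edges_tab (sm gg) Qf (tab Gen.g) 21952 [(21952, 21952), (21953, 20282), (21954, 21539), (21955, 20283), (21956, 21673), (21957, 20280), (21958, 23375), (21959, 20287), (21960, 21960), (21961, 20286), (21962, 20288), (21963, 23380), (21964, 20298), (21965, 21252), (21966, 21662), (21967, 23242), (21968, 23274), (21969, 23248), (21970, 23278), (21971, 20311), (21972, 20297), (21973, 23390), (21974, 23382), (21975, 20914), (21976, 21286), (21977, 21287), (21978, 21289), (21979, 21290), (21980, 21569), (21981, 21293), (21982, 21294), (21983, 21298), (21984, 21299), (21985, 20870), (21986, 20308), (21987, 23404), (21988, 21303), (21989, 21304), (21990, 23389), (21991, 20313), (21992, 23410), (21993, 21308), (21994, 21994), (21995, 21995), (21996, 21996), (21997, 20330), (21998, 20320), (21999, 23418), (22000, 22000), (22001, 20334), (22002, 21570), (22003, 20335), (22004, 20904), (22005, 20328), (22006, 23424), (22007, 23417), (22008, 20332),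 (22009, 23395), (22010, 23426), (22011, 20341), (22012, 22012), (22013, 20338), (22014, 22014), (22015, 20346)]
    ⟨e3 q21952 L736071 q21952, e3 q21953 L736083 q20282, e3 q21954 L736102 q21539, e3 q21955 L736116 q20283, e3 q21956 L736134 q21673, e3 q21957 L736148 q20280, e3 q21958 (flp_g L751439) q23375, e3 q21959 L736165 q20287, e3 q21960 L736184 q21960, e3 q21961 L736195 q20286, e3 q21962 (flp_g L736204) q20288, e3 q21963 (flp_g L751514) q23380, e3 q21964 L736232 q20298, e3 q21965 L736244 q21252, e3 q21966 L736266 q21662, e3 q21967 (flp_g L749604) q23242, e3 q21968 (flp_g L750020) q23274, e3 q21969 (flp_g L749698) q23248, e3 q21970 (flp_g L750071) q23278, e3 q21971 L736330 q20311, e3 q21972 L736344 q20297, e3 q21973 (flp_g L751633) q23390, e3 q21974 (flp_g L751529) q23382, e3 q21975 L736374 q20914, e3 q21976 L736396 q21286, e3 q21977 L736408 q21287, e3 q21978 L736424 q21289, e3 q21979 L736442 q21290, e3 q21980 L736460 q21569, e3 q21981 L736472 q21293, e3 q21982 L736480 q21294, e3 q21983 L736494 q21298, e3 q21984 L736508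 q21299, e3 q21985 L736528 q20870, e3 q21986 L736544 q20308, e3 q21987 (flp_g L751823) q23404, e3 q21988 L736560 q21303, e3 q21989 L736564 q21304, e3 q21990 (flp_g L751619) q23389, e3 q21991 L736586 q20313, e3 q21992 (flp_g L751875) q23410, e3 q21993 L736596 q21308, e3 q21994 L736608 q21994, e3 q21995 L736617 q21995, e3 q21996 L736626 q21996, e3 q21997 L736644 q20330, e3 q21998 L736657 q20320, e3 q21999 (flp_g L751959) q23418, e3 q22000 L736675 q22000, e3 q22001 L736688 q20334, e3 q22002 L736708 q21570, e3 q22003 L736724 q20335, e3 q22004 L736744 q20904, e3 q22005 L736758 q20328, e3 q22006 L752040 q23424, e3 q22007 (flp_g L751946) q23417, e3 q22008 L736786 q20332, e3 q22009 (flp_g L751693) q23395, e3 q22010 (flp_g L752070) q23426, e3 q22011 L736810 q20341, e3 q22012 L736830 q22012, e3 q22013 (flp_g L736837) q20338, e3 q22014 L736857 q22014, e3 q22015 L736875 q20346, trivial⟩ (by decide +kernel)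

theorem ce_g_344 : ∀ r, r < 64 → sm gg (Qf (22016 + r)) = Qf (tab Gen.g (22016 + r)) :=
  edges_tab (sm gg) Qf (tab Gen.g) 22016 [(22016, 20344), (22017, 21670), (22018, 23430), (22019, 22019), (22020, 23429), (22021, 20348), (22022, 20349), (22023, 21169), (22024, 23435), (22025, 22025), (22026, 21663), (22027, 23275), (22028, 23279), (22029, 20915), (22030, 21087), (22031, 21339), (22032, 21340), (22033, 21341), (22034, 21342), (22035, 21343), (22036, 21344), (22037, 21345), (22038, 23449), (22039, 22039), (22040, 23450), (22041, 20824), (22042, 20371), (22043, 20377), (22044, 20381), (22045, 20392), (22046, 20390), (22047, 20403), (22048, 20398), (22049, 20396), (22050, 21103), (22051, 23452), (22052, 20406), (22053, 23451), (22054, 21359), (22055, 20422), (22056, 21362), (22057, 20421), (22058, 20413), (22059, 23455), (22060, 20580), (22061, 20412), (22062, 20420), (22063, 20419), (22064, 23456), (22065, 23454), (22066, 20432), (22067, 21364), (22068, 23457), (22069, 20448), (22070, 20445), (22071, 21354), (22072, 20450),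 (22073, 20433), (22074, 20435), (22075, 21351), (22076, 23160), (22077, 23459), (22078, 21358), (22079, 23458)]
    ⟨e3 q22016 L736887 q20344, e3 q22017 L736898 q21670, e3 q22018 (flp_g L752120) q23430, e3 q22019 L736922 q22019, e3 q22020 (flp_g L752105) q23429, e3 q22021 L736945 q20348, e3 q22022 L736956 q20349, e3 q22023 L736965 q21169, e3 q22024 (flp_g L752187) q23435, e3 q22025 L736985 q22025, e3 q22026 L737005 q21663, e3 q22027 (flp_g L750031) q23275, e3 q22028 (flp_g L750085) q23279, e3 q22029 L737040 q20915, e3 q22030 L737056 q21087, e3 q22031 L737072 q21339, e3 q22032 L737084 q21340, e3 q22033 L737094 q21341, e3 q22034 L737105 q21342, e3 q22035 L737116 q21343, e3 q22036 L737128 q21344, e3 q22037 L737142 q21345, e3 q22038 L752359 q23449, e3 q22039 L737164 q22039, e3 q22040 L752372 q23450, e3 q22041 L737190 q20824, e3 q22042 (flp_g L737192) q20371, e3 q22043 L737217 q20377, e3 q22044 L737237 q20381, e3 q22045 L737257 q20392, e3 q22046 L737275 q20390, e3 q22047 L737293 q20403, e3 q22048 L737309 q20398, e3 q22049 L737327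 q20396, e3 q22050 L737349 q21103, e3 q22051 (flp_g L752411) q23452, e3 q22052 L737378 q20406, e3 q22053 (flp_g L752392) q23451, e3 q22054 L737401 q21359, e3 q22055 L737419 q20422, e3 q22056 L737435 q21362, e3 q22057 L737453 q20421, e3 q22058 L737475 q20413, e3 q22059 (flp_g L752468) q23455, e3 q22060 L737506 q20580, e3 q22061 L737526 q20412, e3 q22062 L737544 q20420, e3 q22063 L737562 q20419, e3 q22064 (flp_g L752487) q23456, e3 q22065 (flp_g L752449) q23454, e3 q22066 L737602 q20432, e3 q22067 L737614 q21364, e3 q22068 (flp_g L752506) q23457, e3 q22069 L737637 q20448, e3 q22070 L737649 q20445, e3 q22071 L737663 q21354, e3 q22072 L737681 q20450, e3 q22073 L737693 q20433, e3 q22074 L737704 q20435, e3 q22075 L737719 q21351, e3 q22076 (flp_g L748338) q23160, e3 q22077 (flp_g L752544) q23459, e3 q22078 L737755 q21358, e3 q22079 (flp_g L752525) q23458, trivial⟩ (by decide +kernel)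

theorem ce_g_345 : ∀ r, r < 64 → sm gg (Qf (22080 + r)) = Qf (tab Gen.g (22080 + r)) :=
  edges_tab (sm gg) Qf (tab Gen.g) 22080 [(22080, 21360), (22081, 20444), (22082, 21352), (22083, 21353), (22084, 23158), (22085, 23463), (22086, 23462), (22087, 23461), (22088, 20571), (22089, 20572), (22090, 21110), (22091, 21112), (22092, 20531), (22093, 20553), (22094, 20554), (22095, 20689), (22096, 20709), (22097, 21120), (22098, 21365), (22099, 21366), (22100, 20508), (22101, 20468), (22102, 21132), (22103, 20469), (22104, 23475), (22105, 23477), (22106, 20472), (22107, 20473), (22108, 23478), (22109, 23479), (22110, 21369), (22111, 21370), (22112, 21435), (22113, 21371), (22114, 20484), (22115, 21436), (22116, 20485), (22117, 21466), (22118, 21375), (22119, 20784), (22120, 20789), (22121, 21478), (22122, 21170), (22123, 21171), (22124, 21443), (22125, 21458), (22126, 20647), (22127, 20648), (22128, 21378), (22129, 21379), (22130, 21380), (22131, 20498), (22132, 23500), (22133, 21381), (22134, 20507), (22135, 20509), (22136, 20505),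 (22137, 23505), (22138, 20512), (22139, 23503), (22140, 23504), (22141, 20511), (22142, 23508), (22143, 23507)]
    ⟨e3 q22080 L737775 q21360, e3 q22081 L737788 q20444, e3 q22082 L737799 q21352, e3 q22083 L737814 q21353, e3 q22084 (flp_g L748299) q23158, e3 q22085 (flp_g L752622) q23463, e3 q22086 (flp_g L752601) q23462, e3 q22087 (flp_g L752583) q23461, e3 q22088 L737867 q20571, e3 q22089 L737887 q20572, e3 q22090 L737905 q21110, e3 q22091 L737915 q21112, e3 q22092 L737929 q20531, e3 q22093 L737943 q20553, e3 q22094 L737965 q20554, e3 q22095 L737977 q20689, e3 q22096 L737996 q20709, e3 q22097 L738016 q21120, e3 q22098 L738028 q21365, e3 q22099 L738038 q21366, e3 q22100 L738052 q20508, e3 q22101 L738070 q20468, e3 q22102 L738087 q21132, e3 q22103 L738101 q20469, e3 q22104 (flp_g L752825) q23475, e3 q22105 (flp_g L752858) q23477, e3 q22106 L738145 q20472, e3 q22107 L738167 q20473, e3 q22108 (flp_g L752883) q23478, e3 q22109 (flp_g L752897) q23479, e3 q22110 L738209 q21369, e3 q22111 L738221 q21370, e3 q22112 L738239 q21435,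 e3 q22113 L738249 q21371, e3 q22114 L738257 q20484, e3 q22115 L738277 q21436, e3 q22116 L738287 q20485, e3 q22117 L738305 q21466, e3 q22118 L738320 q21375, e3 q22119 L738333 q20784, e3 q22120 L738345 q20789, e3 q22121 L738358 q21478, e3 q22122 L738370 q21170, e3 q22123 L738379 q21171, e3 q22124 L738391 q21443, e3 q22125 L738401 q21458, e3 q22126 L738417 q20647, e3 q22127 L738436 q20648, e3 q22128 L738446 q21378, e3 q22129 L738459 q21379, e3 q22130 L738467 q21380, e3 q22131 (flp_g L738471) q20498, e3 q22132 (flp_g L753195) q23500, e3 q22133 L738499 q21381, e3 q22134 L738509 q20507, e3 q22135 L738517 q20509, e3 q22136 L738535 q20505, e3 q22137 (flp_g L753259) q23505, e3 q22138 L738547 q20512, e3 q22139 (flp_g L753221) q23503, e3 q22140 (flp_g L753240) q23504, e3 q22141 L738594 q20511, e3 q22142 (flp_g L753295) q23508, e3 q22143 (flp_g L753278) q23507, trivial⟩ (by decide +kernel)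

theorem ce_g_346 : ∀ r, r < 64 → sm gg (Qf (22144 + r)) = Qf (tab Gen.g (22144 + r)) :=
  edges_tab (sm gg) Qf (tab Gen.g) 22144 [(22144, 20515), (22145, 20516), (22146, 23509), (22147, 20682), (22148, 20683), (22149, 21388), (22150, 21390), (22151, 21391), (22152, 20523), (22153, 23516), (22154, 21393), (22155, 20532), (22156, 20535), (22157, 20528), (22158, 23520), (22159, 20538), (22160, 20534), (22161, 20537), (22162, 20540), (22163, 21476), (22164, 23523), (22165, 20738), (22166, 21401), (22167, 21402), (22168, 21403), (22169, 23200), (22170, 21367), (22171, 21368), (22172, 23469), (22173, 23470), (22174, 20681), (22175, 20703), (22176, 21386), (22177, 21389), (22178, 21394), (22179, 21392), (22180, 20563), (22181, 20564), (22182, 20754), (22183, 20755), (22184, 21188), (22185, 21204), (22186, 21182), (22187, 21191), (22188, 21207), (22189, 20677), (22190, 23173), (22191, 23466), (22192, 23467), (22193, 20649), (22194, 20662), (22195, 21406), (22196, 20699), (22197, 21407), (22198, 21408), (22199, 23161), (22200, 21409),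 (22201, 20617), (22202, 20587), (22203, 20716), (22204, 20588), (22205, 20589), (22206, 23163), (22207, 20590)]
    ⟨e3 q22144 L738642 q20515, e3 q22145 L738654 q20516, e3 q22146 (flp_g L753316) q23509, e3 q22147 L738676 q20682, e3 q22148 L738688 q20683, e3 q22149 L738704 q21388, e3 q22150 L738714 q21390, e3 q22151 L738720 q21391, e3 q22152 L738738 q20523, e3 q22153 (flp_g L753396) q23516, e3 q22154 L738750 q21393, e3 q22155 L738762 q20532, e3 q22156 L738780 q20535, e3 q22157 L738796 q20528, e3 q22158 (flp_g L753436) q23520, e3 q22159 L738812 q20538, e3 q22160 L738832 q20534, e3 q22161 L738844 q20537, e3 q22162 L738862 q20540, e3 q22163 L738875 q21476, e3 q22164 (flp_g L753474) q23523, e3 q22165 L738899 q20738, e3 q22166 L738914 q21401, e3 q22167 L738926 q21402, e3 q22168 L738937 q21403, e3 q22169 (flp_g L748970) q23200, e3 q22170 L738965 q21367, e3 q22171 L738977 q21368, e3 q22172 (flp_g L752735) q23469, e3 q22173 (flp_g L752749) q23470, e3 q22174 L739015 q20681, e3 q22175 L739034 q20703, e3 q22176 L739044 q21386, e3 q22177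 L739061 q21389, e3 q22178 L739071 q21394, e3 q22179 L739081 q21392, e3 q22180 L739093 q20563, e3 q22181 L739103 q20564, e3 q22182 L739116 q20754, e3 q22183 L739135 q20755, e3 q22184 L739147 q21188, e3 q22185 L739163 q21204, e3 q22186 L739178 q21182, e3 q22187 L739190 q21191, e3 q22188 L739199 q21207, e3 q22189 L739213 q20677, e3 q22190 (flp_g L748560) q23173, e3 q22191 (flp_g L752685) q23466, e3 q22192 (flp_g L752697) q23467, e3 q22193 L739262 q20649, e3 q22194 L739281 q20662, e3 q22195 L739289 q21406, e3 q22196 L739312 q20699, e3 q22197 L739322 q21407, e3 q22198 L739332 q21408, e3 q22199 (flp_g L748364) q23161, e3 q22200 L739350 q21409, e3 q22201 L739364 q20617, e3 q22202 L739380 q20587, e3 q22203 L739398 q20716, e3 q22204 L739412 q20588, e3 q22205 L739424 q20589, e3 q22206 (flp_g L748394) q23163, e3 q22207 L739441 q20590, trivial⟩ (by decide +kernel)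

theorem ce_g_347 : ∀ r, r < 64 → sm gg (Qf (22208 + r)) = Qf (tab Gen.g (22208 + r)) :=
  edges_tab (sm gg) Qf (tab Gen.g) 22208 [(22208, 23557), (22209, 23559), (22210, 23561), (22211, 20596), (22212, 20597), (22213, 23190), (22214, 23194), (22215, 20595), (22216, 23564), (22217, 23562), (22218, 20607), (22219, 20684), (22220, 20706), (22221, 23167), (22222, 21415), (22223, 21416), (22224, 23169), (22225, 21417), (22226, 23567), (22227, 20616), (22228, 20618), (22229, 23175), (22230, 20619), (22231, 20620), (22232, 23176), (22233, 20621), (22234, 23575), (22235, 23576), (22236, 23578), (22237, 23579), (22238, 20623), (22239, 23178), (22240, 23179), (22241, 20729), (22242, 21419), (22243, 20634), (22244, 20635), (22245, 23584), (22246, 21300), (22247, 21323), (22248, 23379), (22249, 21305), (22250, 21327), (22251, 21274), (22252, 21312), (22253, 21277), (22254, 21269), (22255, 21280), (22256, 21315), (22257, 21272), (22258, 21283), (22259, 20650), (22260, 20651), (22261, 20867), (22262, 23495), (22263, 23496), (22264, 23549),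 (22265, 23603), (22266, 20795), (22267, 21421), (22268, 21422), (22269, 21423), (22270, 21424), (22271, 23165)]
    ⟨e3 q22208 (flp_g L753953) q23557, e3 q22209 (flp_g L753990) q23559, e3 q22210 (flp_g L754014) q23561, e3 q22211 L739499 q20596, e3 q22212 L739507 q20597, e3 q22213 (flp_g L748833) q23190, e3 q22214 (flp_g L748881) q23194, e3 q22215 (flp_g L739531) q20595, e3 q22216 (flp_g L754059) q23564, e3 q22217 (flp_g L754031) q23562, e3 q22218 L739583 q20607, e3 q22219 L739595 q20684, e3 q22220 L739603 q20706, e3 q22221 (flp_g L748465) q23167, e3 q22222 L739623 q21415, e3 q22223 L739631 q21416, e3 q22224 (flp_g L748495) q23169, e3 q22225 L739647 q21417, e3 q22226 (flp_g L754093) q23567, e3 q22227 L739671 q20616, e3 q22228 L739681 q20618, e3 q22229 (flp_g L748590) q23175, e3 q22230 L739699 q20619, e3 q22231 L739710 q20620, e3 q22232 (flp_g L748606) q23176, e3 q22233 L739730 q20621, e3 q22234 (flp_g L754163) q23575, e3 q22235 (flp_g L754185) q23576, e3 q22236 (flp_g L754210) q23578, e3 q22237 (flp_g L754231) q23579, e3 q22238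 L739811 q20623, e3 q22239 (flp_g L748636) q23178, e3 q22240 (flp_g L748650) q23179, e3 q22241 L739841 q20729, e3 q22242 L739850 q21419, e3 q22243 L739857 q20634, e3 q22244 L739875 q20635, e3 q22245 (flp_g L754287) q23584, e3 q22246 L739897 q21300, e3 q22247 L739911 q21323, e3 q22248 (flp_g L751499) q23379, e3 q22249 L739934 q21305, e3 q22250 L739943 q21327, e3 q22251 L739955 q21274, e3 q22252 L739967 q21312, e3 q22253 L739971 q21277, e3 q22254 L739983 q21269, e3 q22255 L739991 q21280, e3 q22256 L739998 q21315, e3 q22257 L740011 q21272, e3 q22258 L740019 q21283, e3 q22259 L740031 q20650, e3 q22260 L740041 q20651, e3 q22261 L740057 q20867, e3 q22262 (flp_g L753129) q23495, e3 q22263 (flp_g L753141) q23496, e3 q22264 (flp_g L753855) q23549, e3 q22265 (flp_g L754514) q23603, e3 q22266 L740110 q20795, e3 q22267 L740129 q21421, e3 q22268 L740143 q21422, e3 q22269 L740152 q21423, e3 q22270 L740161 q21424, e3 q22271 (flp_g L748431) q23165, trivial⟩ (by decide +kernel)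

theorem ce_g_348 : ∀ r, r < 64 → sm gg (Qf (22272 + r)) = Qf (tab Gen.g (22272 + r)) :=
  edges_tab (sm gg) Qf (tab Gen.g) 22272 [(22272, 21425), (22273, 21426), (22274, 20659), (22275, 23618), (22276, 21427), (22277, 21383), (22278, 23550), (22279, 21411), (22280, 20671), (22281, 23171), (22282, 20672), (22283, 20673), (22284, 20669), (22285, 23625), (22286, 20676), (22287, 23622), (22288, 20675), (22289, 23546), (22290, 20685), (22291, 23531), (22292, 21495), (22293, 23315), (22294, 23532), (22295, 23511), (22296, 23512), (22297, 23568), (22298, 23629), (22299, 20807), (22300, 21440), (22301, 21441), (22302, 23287), (22303, 20835), (22304, 21442), (22305, 23471), (22306, 21444), (22307, 21445), (22308, 23202), (22309, 23310), (22310, 21446), (22311, 21447), (22312, 20696), (22313, 23651), (22314, 21450), (22315, 21451), (22316, 23552), (22317, 20701), (22318, 23657), (22319, 21455), (22320, 23533), (22321, 21397), (22322, 23569), (22323, 23472), (22324, 20720), (22325, 20721), (22326, 20713), (22327, 23666), (22328, 20724),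 (22329, 20725), (22330, 23670), (22331, 23558), (22332, 20718), (22333, 23665), (22334, 23671), (22335, 20726)]
    ⟨e3 q22272 L740179 q21425, e3 q22273 L740187 q21426, e3 q22274 L740202 q20659, e3 q22275 (flp_g L754690) q23618, e3 q22276 L740214 q21427, e3 q22277 L740222 q21383, e3 q22278 (flp_g L753869) q23550, e3 q22279 L740243 q21411, e3 q22280 L740256 q20671, e3 q22281 (flp_g L748519) q23171, e3 q22282 L740281 q20672, e3 q22283 L740289 q20673, e3 q22284 L740298 q20669, e3 q22285 (flp_g L754757) q23625, e3 q22286 L740311 q20676, e3 q22287 (flp_g L754725) q23622, e3 q22288 L740333 q20675, e3 q22289 (flp_g L753815) q23546, e3 q22290 L740354 q20685, e3 q22291 (flp_g L753593) q23531, e3 q22292 L740379 q21495, e3 q22293 (flp_g L750639) q23315, e3 q22294 (flp_g L753614) q23532, e3 q22295 (flp_g L753338) q23511, e3 q22296 (flp_g L753350) q23512, e3 q22297 (flp_g L754105) q23568, e3 q22298 (flp_g L754784) q23629, e3 q22299 L740451 q20807, e3 q22300 L740469 q21440, e3 q22301 L740481 q21441, e3 q22302 (flp_g L750214) q23287, e3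 q22303 L740508 q20835, e3 q22304 L740522 q21442, e3 q22305 (flp_g L752769) q23471, e3 q22306 L740548 q21444, e3 q22307 L740558 q21445, e3 q22308 (flp_g L749005) q23202, e3 q22309 (flp_g L750567) q23310, e3 q22310 L740588 q21446, e3 q22311 L740596 q21447, e3 q22312 L740606 q20696, e3 q22313 (flp_g L755033) q23651, e3 q22314 L740618 q21450, e3 q22315 L740622 q21451, e3 q22316 (flp_g L753902) q23552, e3 q22317 L740642 q20701, e3 q22318 (flp_g L755069) q23657, e3 q22319 L740652 q21455, e3 q22320 (flp_g L753628) q23533, e3 q22321 L740670 q21397, e3 q22322 (flp_g L754113) q23569, e3 q22323 (flp_g L752783) q23472, e3 q22324 L740705 q20720, e3 q22325 L740720 q20721, e3 q22326 L740732 q20713, e3 q22327 (flp_g L755158) q23666, e3 q22328 L740741 q20724, e3 q22329 L740748 q20725, e3 q22330 L755178 q23670, e3 q22331 (flp_g L753974) q23558, e3 q22332 L740769 q20718, e3 q22333 (flp_g L755150) q23665, e3 q22334 (flp_g L755188) q23671, e3 q22335 L740789 q20726, trivial⟩ (by decide +kernel)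

theorem ce_g_349 : ∀ r, r < 64 → sm gg (Qf (22336 + r)) = Qf (tab Gen.g (22336 + r)) :=
  edges_tab (sm gg) Qf (tab Gen.g) 22336 [(22336, 23664), (22337, 20723), (22338, 23585), (22339, 20731), (22340, 20732), (22341, 20751), (22342, 23673), (22343, 21515), (22344, 23319), (22345, 23323), (22346, 23525), (22347, 20814), (22348, 20822), (22349, 20836), (22350, 21469), (22351, 21470), (22352, 21471), (22353, 21472), (22354, 21473), (22355, 21334), (22356, 21474), (22357, 23674), (22358, 23538), (22359, 23539), (22360, 21198), (22361, 21209), (22362, 21201), (22363, 22363), (22364, 20763), (22365, 20766), (22366, 20767), (22367, 23694), (22368, 23296), (22369, 21482), (22370, 22370), (22371, 23299), (22372, 23300), (22373, 23488), (22374, 23282), (22375, 23283), (22376, 20800), (22377, 20811), (22378, 23293), (22379, 21483), (22380, 23489), (22381, 20785), (22382, 20786), (22383, 23490), (22384, 23706), (22385, 23294), (22386, 21488), (22387, 23491), (22388, 22388), (22389, 23295), (22390, 20798), (22391, 20799), (22392, 23610),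 (22393, 20801), (22394, 23713), (22395, 23701), (22396, 23715), (22397, 21508), (22398, 21510), (22399, 23284)]
    ⟨e3 q22336 (flp_g L755131) q23664, e3 q22337 L740812 q20723, e3 q22338 (flp_g L754299) q23585, e3 q22339 L740832 q20731, e3 q22340 L740842 q20732, e3 q22341 L740856 q20751, e3 q22342 (flp_g L755208) q23673, e3 q22343 L740874 q21515, e3 q22344 (flp_g L750687) q23319, e3 q22345 (flp_g L750746) q23323, e3 q22346 (flp_g L753506) q23525, e3 q22347 L740913 q20814, e3 q22348 L740928 q20822, e3 q22349 L740941 q20836, e3 q22350 L740952 q21469, e3 q22351 L740961 q21470, e3 q22352 L740974 q21471, e3 q22353 L740984 q21472, e3 q22354 L740991 q21473, e3 q22355 L741000 q21334, e3 q22356 L741009 q21474, e3 q22357 (flp_g L755219) q23674, e3 q22358 (flp_g L753692) q23538, e3 q22359 (flp_g L753705) q23539, e3 q22360 L741057 q21198, e3 q22361 L741069 q21209, e3 q22362 L741081 q21201, e3 q22363 L741095 q22363, e3 q22364 L741106 q20763, e3 q22365 L741123 q20766, e3 q22366 L741134 q20767, e3 q22367 (flp_g L755454) q23694, e3 q22368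 (flp_g L750347) q23296, e3 q22369 L741170 q21482, e3 q22370 L741180 q22370, e3 q22371 (flp_g L750387) q23299, e3 q22372 (flp_g L750405) q23300, e3 q22373 (flp_g L753029) q23488, e3 q22374 (flp_g L750129) q23282, e3 q22375 (flp_g L750143) q23283, e3 q22376 L741248 q20800, e3 q22377 L741257 q20811, e3 q22378 (flp_g L750300) q23293, e3 q22379 L741274 q21483, e3 q22380 (flp_g L753055) q23489, e3 q22381 L741299 q20785, e3 q22382 L741310 q20786, e3 q22383 (flp_g L753065) q23490, e3 q22384 (flp_g L755582) q23706, e3 q22385 (flp_g L750316) q23294, e3 q22386 L741358 q21488, e3 q22387 (flp_g L753074) q23491, e3 q22388 L741380 q22388, e3 q22389 (flp_g L750328) q23295, e3 q22390 L741413 q20798, e3 q22391 L741426 q20799, e3 q22392 (flp_g L754606) q23610, e3 q22393 L741449 q20801, e3 q22394 (flp_g L755666) q23713, e3 q22395 (flp_g L755529) q23701, e3 q22396 (flp_g L755683) q23715, e3 q22397 L741495 q21508, e3 q22398 L741511 q21510, e3 q22399 (flp_g L750163) q23284, trivial⟩ (by decide +kernel)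

theorem ce_g_350 : ∀ r, r < 64 → sm gg (Qf (22400 + r)) = Qf (tab Gen.g (22400 + r)) :=
  edges_tab (sm gg) Qf (tab Gen.g) 22400 [(22400, 21512), (22401, 23639), (22402, 20809), (22403, 23724), (22404, 21514), (22405, 23702), (22406, 23679), (22407, 20816), (22408, 23422), (22409, 23730), (22410, 22410), (22411, 20821), (22412, 23732), (22413, 23680), (22414, 20825), (22415, 23445), (22416, 21499), (22417, 21523), (22418, 21487), (22419, 20837), (22420, 20838), (22421, 23642), (22422, 23681), (22423, 23737), (22424, 21509), (22425, 21511), (22426, 21522), (22427, 21513), (22428, 22428), (22429, 23630), (22430, 21496), (22431, 21497), (22432, 23208), (22433, 21525), (22434, 21526), (22435, 23211), (22436, 21527), (22437, 23604), (22438, 20855), (22439, 20856), (22440, 20854), (22441, 23754), (22442, 23753), (22443, 23225), (22444, 21529), (22445, 20860), (22446, 23759), (22447, 22447), (22448, 23232), (22449, 20864), (22450, 23588), (22451, 20872), (22452, 20873), (22453, 23605), (22454, 20876), (22455, 23589), (22456, 23403),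 (22457, 20871), (22458, 23770), (22459, 23765), (22460, 20875), (22461, 23773), (22462, 23767), (22463, 20989)]
    ⟨e3 q22400 L741537 q21512, e3 q22401 (flp_g L754900) q23639, e3 q22402 L741565 q20809, e3 q22403 (flp_g L755799) q23724, e3 q22404 L741575 q21514, e3 q22405 (flp_g L755536) q23702, e3 q22406 (flp_g L755272) q23679, e3 q22407 L741603 q20816, e3 q22408 (flp_g L752020) q23422, e3 q22409 (flp_g L755843) q23730, e3 q22410 L741631 q22410, e3 q22411 L741641 q20821, e3 q22412 (flp_g L755865) q23732, e3 q22413 (flp_g L755283) q23680, e3 q22414 L741670 q20825, e3 q22415 (flp_g L752317) q23445, e3 q22416 L741692 q21499, e3 q22417 L741704 q21523, e3 q22418 L741718 q21487, e3 q22419 L741728 q20837, e3 q22420 L741737 q20838, e3 q22421 (flp_g L754943) q23642, e3 q22422 (flp_g L755297) q23681, e3 q22423 (flp_g L755920) q23737, e3 q22424 L741780 q21509, e3 q22425 L741788 q21511, e3 q22426 L741794 q21522, e3 q22427 L741801 q21513, e3 q22428 L741807 q22428, e3 q22429 (flp_g L754801) q23630, e3 q22430 L741838 q21496, e3 q22431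 L741851 q21497, e3 q22432 (flp_g L749104) q23208, e3 q22433 L741882 q21525, e3 q22434 L741895 q21526, e3 q22435 (flp_g L749142) q23211, e3 q22436 L741914 q21527, e3 q22437 (flp_g L754531) q23604, e3 q22438 L741943 q20855, e3 q22439 L741956 q20856, e3 q22440 (flp_g L741964) q20854, e3 q22441 (flp_g L756106) q23754, e3 q22442 (flp_g L756092) q23753, e3 q22443 (flp_g L749357) q23225, e3 q22444 L742014 q21529, e3 q22445 L742028 q20860, e3 q22446 (flp_g L756159) q23759, e3 q22447 L742046 q22447, e3 q22448 (flp_g L749452) q23232, e3 q22449 L742069 q20864, e3 q22450 (flp_g L754337) q23588, e3 q22451 L742101 q20872, e3 q22452 L742114 q20873, e3 q22453 (flp_g L754548) q23605, e3 q22454 L742137 q20876, e3 q22455 (flp_g L754363) q23589, e3 q22456 (flp_g L751807) q23403, e3 q22457 (flp_g L742166) q20871, e3 q22458 (flp_g L756291) q23770, e3 q22459 (flp_g L756233) q23765, e3 q22460 L742212 q20875, e3 q22461 (flp_g L756327) q23773, e3 q22462 (flp_g L756252) q23767, e3 q22463 L742236 q20989, trivial⟩ (by decide +kernel)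

theorem ce_g_351 : ∀ r, r < 64 → sm gg (Qf (22464 + r)) = Qf (tab Gen.g (22464 + r)) :=
  edges_tab (sm gg) Qf (tab Gen.g) 22464 [(22464, 21540), (22465, 21541), (22466, 23245), (22467, 23246), (22468, 21542), (22469, 21543), (22470, 23249), (22471, 21544), (22472, 23252), (22473, 21545), (22474, 20888), (22475, 23788), (22476, 22476), (22477, 20891), (22478, 23791), (22479, 22479), (22480, 23260), (22481, 20897), (22482, 23264), (22483, 23265), (22484, 20899), (22485, 23797), (22486, 23798), (22487, 23271), (22488, 23423), (22489, 20935), (22490, 21026), (22491, 21547), (22492, 21548), (22493, 20917), (22494, 20918), (22495, 20945), (22496, 21639), (22497, 21572), (22498, 23393), (22499, 23440), (22500, 20916), (22501, 23809), (22502, 23803), (22503, 21549), (22504, 21550), (22505, 21551), (22506, 23327), (22507, 21552), (22508, 21553), (22509, 23325), (22510, 21554), (22511, 21555), (22512, 20923), (22513, 23821), (22514, 21556), (22515, 21557), (22516, 20927), (22517, 23825), (22518, 21558), (22519, 20937), (22520, 20938),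 (22521, 20931), (22522, 23829), (22523, 20941), (22524, 23358), (22525, 23801), (22526, 20936), (22527, 23833)]
    ⟨e3 q22464 L742254 q21540, e3 q22465 L742264 q21541, e3 q22466 (flp_g L749655) q23245, e3 q22467 (flp_g L749674) q23246, e3 q22468 L742302 q21542, e3 q22469 L742312 q21543, e3 q22470 (flp_g L749714) q23249, e3 q22471 L742330 q21544, e3 q22472 (flp_g L749742) q23252, e3 q22473 L742346 q21545, e3 q22474 L742358 q20888, e3 q22475 (flp_g L756472) q23788, e3 q22476 L742380 q22476, e3 q22477 L742393 q20891, e3 q22478 (flp_g L756508) q23791, e3 q22479 L742411 q22479, e3 q22480 (flp_g L749835) q23260, e3 q22481 L742431 q20897, e3 q22482 (flp_g L749886) q23264, e3 q22483 (flp_g L749896) q23265, e3 q22484 L742457 q20899, e3 q22485 (flp_g L756563) q23797, e3 q22486 (flp_g L756571) q23798, e3 q22487 (flp_g L749977) q23271, e3 q22488 (flp_g L752032) q23423, e3 q22489 L742506 q20935, e3 q22490 L742518 q21026, e3 q22491 L742527 q21547, e3 q22492 L742542 q21548, e3 q22493 L742560 q20917, e3 q22494 L742572 q20918, e3 q22495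 L742584 q20945, e3 q22496 L742601 q21639, e3 q22497 L742618 q21572, e3 q22498 (flp_g L751665) q23393, e3 q22499 (flp_g L752242) q23440, e3 q22500 (flp_g L742641) q20916, e3 q22501 (flp_g L756705) q23809, e3 q22502 (flp_g L756627) q23803, e3 q22503 L742671 q21549, e3 q22504 L742686 q21550, e3 q22505 L742696 q21551, e3 q22506 (flp_g L750806) q23327, e3 q22507 L742723 q21552, e3 q22508 L742730 q21553, e3 q22509 (flp_g L750776) q23325, e3 q22510 L742760 q21554, e3 q22511 L742774 q21555, e3 q22512 (flp_g L742778) q20923, e3 q22513 (flp_g L756842) q23821, e3 q22514 L742800 q21556, e3 q22515 L742805 q21557, e3 q22516 L742818 q20927, e3 q22517 (flp_g L756868) q23825, e3 q22518 L742827 q21558, e3 q22519 L742841 q20937, e3 q22520 L742852 q20938, e3 q22521 (flp_g L742860) q20931, e3 q22522 (flp_g L756907) q23829, e3 q22523 L742882 q20941, e3 q22524 (flp_g L751225) q23358, e3 q22525 (flp_g L756598) q23801, e3 q22526 (flp_g L742914) q20936, e3 q22527 (flp_g L756952) q23833, trivial⟩ (by decide +kernel)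

theorem ce_g_352 : ∀ r, r < 64 → sm gg (Qf (22528 + r)) = Qf (tab Gen.g (22528 + r)) :=
  edges_tab (sm gg) Qf (tab Gen.g) 22528 [(22528, 23828), (22529, 20951), (22530, 20940), (22531, 23837), (22532, 23831), (22533, 21573), (22534, 21575), (22535, 23334), (22536, 23804), (22537, 21579), (22538, 21580), (22539, 20949), (22540, 23846), (22541, 21584), (22542, 23836), (22543, 20953), (22544, 23850), (22545, 21588), (22546, 20957), (22547, 23854), (22548, 22548), (22549, 20967), (22550, 20961), (22551, 23857), (22552, 22552), (22553, 21665), (22554, 20965), (22555, 23427), (22556, 23856), (22557, 20969), (22558, 23864), (22559, 23865), (22560, 20976), (22561, 22561), (22562, 22562), (22563, 20975), (22564, 20990), (22565, 20991), (22566, 20994), (22567, 20980), (22568, 23871), (22569, 20997), (22570, 20998), (22571, 20984), (22572, 23875), (22573, 21002), (22574, 21566), (22575, 21672), (22576, 21296), (22577, 21077), (22578, 23776), (22579, 23869), (22580, 21076), (22581, 20992), (22582, 21288), (22583, 23882), (22584, 21534),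 (22585, 23870), (22586, 21016), (22587, 20996), (22588, 23888), (22589, 23873), (22590, 23874), (22591, 21021)]
    ⟨e3 q22528 (flp_g L756892) q23828, e3 q22529 L742968 q20951, e3 q22530 L742974 q20940, e3 q22531 (flp_g L756998) q23837, e3 q22532 (flp_g L756920) q23831, e3 q22533 L743002 q21573, e3 q22534 L743012 q21575, e3 q22535 (flp_g L750909) q23334, e3 q22536 (flp_g L756645) q23804, e3 q22537 L743052 q21579, e3 q22538 L743062 q21580, e3 q22539 L743078 q20949, e3 q22540 (flp_g L757100) q23846, e3 q22541 L743096 q21584, e3 q22542 (flp_g L756990) q23836, e3 q22543 L743116 q20953, e3 q22544 (flp_g L757138) q23850, e3 q22545 L743128 q21588, e3 q22546 L743143 q20957, e3 q22547 (flp_g L757169) q23854, e3 q22548 L743163 q22548, e3 q22549 L743182 q20967, e3 q22550 L743189 q20961, e3 q22551 (flp_g L757205) q23857, e3 q22552 L743206 q22552, e3 q22553 L743226 q21665, e3 q22554 L743240 q20965, e3 q22555 (flp_g L752080) q23427, e3 q22556 (flp_g L757196) q23856, e3 q22557 L743268 q20969, e3 q22558 (flp_g L757283) q23864, e3 q22559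 (flp_g L757294) q23865, e3 q22560 L743293 q20976, e3 q22561 L743310 q22561, e3 q22562 L743317 q22562, e3 q22563 L743329 q20975, e3 q22564 L743348 q20990, e3 q22565 L743359 q20991, e3 q22566 L743373 q20994, e3 q22567 (flp_g L743377) q20980, e3 q22568 (flp_g L757370) q23871, e3 q22569 L743405 q20997, e3 q22570 L743416 q20998, e3 q22571 L743431 q20984, e3 q22572 (flp_g L757408) q23875, e3 q22573 L743442 q21002, e3 q22574 L743456 q21566, e3 q22575 L743468 q21672, e3 q22576 L743489 q21296, e3 q22577 L743503 q21077, e3 q22578 (flp_g L756355) q23776, e3 q22579 (flp_g L757343) q23869, e3 q22580 L743533 q21076, e3 q22581 (flp_g L743541) q20992, e3 q22582 L743561 q21288, e3 q22583 (flp_g L757480) q23882, e3 q22584 L743586 q21534, e3 q22585 (flp_g L757353) q23870, e3 q22586 L743606 q21016, e3 q22587 L743614 q20996, e3 q22588 (flp_g L757542) q23888, e3 q22589 (flp_g L757383) q23873, e3 q22590 (flp_g L757395) q23874, e3 q22591 L743646 q21021, trivial⟩ (by decide +kernel)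

theorem ce_g_353 : ∀ r, r < 64 → sm gg (Qf (22592 + r)) = Qf (tab Gen.g (22592 + r)) :=
  edges_tab (sm gg) Qf (tab Gen.g) 22592 [(22592, 21001), (22593, 23893), (22594, 23877), (22595, 21617), (22596, 21005), (22597, 23898), (22598, 21611), (22599, 21008), (22600, 23901), (22601, 21622), (22602, 21608), (22603, 23541), (22604, 21012), (22605, 21013), (22606, 23906), (22607, 23907), (22608, 21627), (22609, 21628), (22610, 23887), (22611, 21018), (22612, 23914), (22613, 21632), (22614, 21633), (22615, 23223), (22616, 23892), (22617, 21023), (22618, 23921), (22619, 23922), (22620, 21638), (22621, 23802), (22622, 22622), (22623, 21042), (22624, 21031), (22625, 23928), (22626, 22626), (22627, 22627), (22628, 21048), (22629, 21036), (22630, 23932), (22631, 23933), (22632, 22632), (22633, 21668), (22634, 21040), (22635, 23376), (22636, 23927), (22637, 21044), (22638, 23866), (22639, 23940), (22640, 23224), (22641, 23931), (22642, 21050), (22643, 21051), (22644, 21326), (22645, 23945), (22646, 21060), (22647, 22647), (22648, 22648),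 (22649, 21057), (22650, 22650), (22651, 21066), (22652, 21063), (22653, 21064), (22654, 23953), (22655, 23954)]
    ⟨e3 q22592 L743654 q21001, e3 q22593 (flp_g L757576) q23893, e3 q22594 (flp_g L757418) q23877, e3 q22595 L743672 q21617, e3 q22596 (flp_g L743674) q21005, e3 q22597 (flp_g L757611) q23898, e3 q22598 L743700 q21611, e3 q22599 L743714 q21008, e3 q22600 (flp_g L757642) q23901, e3 q22601 L743728 q21622, e3 q22602 L743734 q21608, e3 q22603 (flp_g L753745) q23541, e3 q22604 L743756 q21012, e3 q22605 L743765 q21013, e3 q22606 (flp_g L757686) q23906, e3 q22607 (flp_g L757693) q23907, e3 q22608 L743781 q21627, e3 q22609 L743787 q21628, e3 q22610 (flp_g L757532) q23887, e3 q22611 L743809 q21018, e3 q22612 (flp_g L757746) q23914, e3 q22613 L743817 q21632, e3 q22614 L743825 q21633, e3 q22615 (flp_g L749326) q23223, e3 q22616 (flp_g L757570) q23892, e3 q22617 L743855 q21023, e3 q22618 (flp_g L757794) q23921, e3 q22619 (flp_g L757798) q23922, e3 q22620 L743867 q21638, e3 q22621 (flp_g L756613) q23802, e3 q22622 L743883 q22622,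 e3 q22623 L743895 q21042, e3 q22624 L743904 q21031, e3 q22625 (flp_g L757839) q23928, e3 q22626 L743915 q22626, e3 q22627 L743931 q22627, e3 q22628 L743942 q21048, e3 q22629 L743949 q21036, e3 q22630 (flp_g L757870) q23932, e3 q22631 (flp_g L757876) q23933, e3 q22632 L743971 q22632, e3 q22633 L743987 q21668, e3 q22634 L744001 q21040, e3 q22635 (flp_g L751452) q23376, e3 q22636 (flp_g L757830) q23927, e3 q22637 L744024 q21044, e3 q22638 (flp_g L757305) q23866, e3 q22639 (flp_g L757941) q23940, e3 q22640 (flp_g L749338) q23224, e3 q22641 (flp_g L757861) q23931, e3 q22642 L744062 q21050, e3 q22643 L744070 q21051, e3 q22644 L744078 q21326, e3 q22645 (flp_g L757988) q23945, e3 q22646 L744094 q21060, e3 q22647 L744110 q22647, e3 q22648 L744117 q22648, e3 q22649 L744125 q21057, e3 q22650 L744134 q22650, e3 q22651 L744144 q21066, e3 q22652 L744152 q21063, e3 q22653 L744158 q21064, e3 q22654 (flp_g L758059) q23953, e3 q22655 (flp_g L758070) q23954, trivial⟩ (by decide +kernel)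

theorem ce_g_354 : ∀ r, r < 64 → sm gg (Qf (22656 + r)) = Qf (tab Gen.g (22656 + r)) :=
  edges_tab (sm gg) Qf (tab Gen.g) 22656 [(22656, 22656), (22657, 23951), (22658, 23952), (22659, 21070), (22660, 21230), (22661, 21346), (22662, 23960), (22663, 21535), (22664, 21565), (22665, 21276), (22666, 21607), (22667, 21275), (22668, 23222), (22669, 21659), (22670, 21678), (22671, 23441), (22672, 21664), (22673, 21666), (22674, 21667), (22675, 21669), (22676, 21671), (22677, 21674), (22678, 21675), (22679, 21243), (22680, 21564), (22681, 21242), (22682, 23207), (22683, 21357), (22684, 23453), (22685, 23162), (22686, 23170), (22687, 23180), (22688, 23468), (22689, 23181), (22690, 23184), (22691, 21119), (22692, 23166), (22693, 23981), (22694, 23473), (22695, 21385), (22696, 21532), (22697, 21150), (22698, 21126), (22699, 23988), (22700, 23189), (22701, 21129), (22702, 23991), (22703, 23193), (22704, 23476), (22705, 21138), (22706, 21135), (22707, 23995), (22708, 21140), (22709, 23209), (22710, 23210), (22711, 23212), (22712, 23302),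 (22713, 23226), (22714, 23987), (22715, 21255), (22716, 21266), (22717, 23243), (22718, 23244), (22719, 23250)]
    ⟨e3 q22656 L744185 q22656, e3 q22657 (flp_g L758038) q23951, e3 q22658 (flp_g L758048) q23952, e3 q22659 L744216 q21070, e3 q22660 L744228 q21230, e3 q22661 L744237 q21346, e3 q22662 (flp_g L758123) q23960, e3 q22663 L744251 q21535, e3 q22664 L744264 q21565, e3 q22665 L744275 q21276, e3 q22666 L744287 q21607, e3 q22667 L744299 q21275, e3 q22668 (flp_g L749312) q23222, e3 q22669 L744323 q21659, e3 q22670 L744340 q21678, e3 q22671 (flp_g L752256) q23441, e3 q22672 L744363 q21664, e3 q22673 L744379 q21666, e3 q22674 L744389 q21667, e3 q22675 L744400 q21669, e3 q22676 L744406 q21671, e3 q22677 L744417 q21674, e3 q22678 L744429 q21675, e3 q22679 L744442 q21243, e3 q22680 L744455 q21564, e3 q22681 L744469 q21242, e3 q22682 (flp_g L749078) q23207, e3 q22683 L744490 q21357, e3 q22684 (flp_g L752430) q23453, e3 q22685 (flp_g L748378) q23162, e3 q22686 (flp_g L748503) q23170, e3 q22687 (flp_g L748671) q23180, e3 q22688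 (flp_g L752717) q23468, e3 q22689 (flp_g L748683) q23181, e3 q22690 (flp_g L748735) q23184, e3 q22691 L744592 q21119, e3 q22692 (flp_g L748445) q23166, e3 q22693 (flp_g L758349) q23981, e3 q22694 (flp_g L752803) q23473, e3 q22695 L744642 q21385, e3 q22696 L744657 q21532, e3 q22697 L744671 q21150, e3 q22698 L744685 q21126, e3 q22699 (flp_g L758436) q23988, e3 q22700 (flp_g L748809) q23189, e3 q22701 L744707 q21129, e3 q22702 (flp_g L758456) q23991, e3 q22703 (flp_g L748867) q23193, e3 q22704 (flp_g L752846) q23476, e3 q22705 L744743 q21138, e3 q22706 L744756 q21135, e3 q22707 (flp_g L758493) q23995, e3 q22708 L744771 q21140, e3 q22709 (flp_g L749114) q23209, e3 q22710 (flp_g L749125) q23210, e3 q22711 (flp_g L749152) q23212, e3 q22712 (flp_g L750441) q23302, e3 q22713 (flp_g L749367) q23226, e3 q22714 (flp_g L758420) q23987, e3 q22715 L744866 q21255, e3 q22716 L744878 q21266, e3 q22717 (flp_g L749620) q23243, e3 q22718 (flp_g L749634) q23244, e3 q22719 (flp_g L749722) q23250, trivial⟩ (by decide +kernel)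

theorem ce_g_355 : ∀ r, r < 64 → sm gg (Qf (22720 + r)) = Qf (tab Gen.g (22720 + r)) :=
  edges_tab (sm gg) Qf (tab Gen.g) 22720 [(22720, 23251), (22721, 23253), (22722, 22722), (22723, 22723), (22724, 23276), (22725, 23436), (22726, 24009), (22727, 23493), (22728, 23297), (22729, 23304), (22730, 23305), (22731, 23306), (22732, 23308), (22733, 22733), (22734, 21185), (22735, 21186), (22736, 21189), (22737, 21190), (22738, 23544), (22739, 21192), (22740, 24016), (22741, 24017), (22742, 23540), (22743, 21629), (22744, 23542), (22745, 24018), (22746, 24019), (22747, 23545), (22748, 24021), (22749, 21606), (22750, 21634), (22751, 21654), (22752, 21601), (22753, 21609), (22754, 23690), (22755, 23313), (22756, 23314), (22757, 23692), (22758, 23318), (22759, 22759), (22760, 23543), (22761, 22761), (22762, 22762), (22763, 21212), (22764, 23691), (22765, 23946), (22766, 21215), (22767, 21218), (22768, 24047), (22769, 21651), (22770, 21688), (22771, 24048), (22772, 21641), (22773, 21692), (22774, 21698), (22775, 21643), (22776, 21693),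 (22777, 23961), (22778, 22778), (22779, 24060), (22780, 21695), (22781, 23335), (22782, 23336), (22783, 23337)]
    ⟨e3 q22720 (flp_g L749730) q23251, e3 q22721 (flp_g L749750) q23253, e3 q22722 L744932 q22722, e3 q22723 L744941 q22723, e3 q22724 (flp_g L750046) q23276, e3 q22725 (flp_g L752200) q23436, e3 q22726 L758636 q24009, e3 q22727 (flp_g L753099) q23493, e3 q22728 (flp_g L750359) q23297, e3 q22729 (flp_g L750472) q23304, e3 q22730 (flp_g L750488) q23305, e3 q22731 (flp_g L750502) q23306, e3 q22732 (flp_g L750533) q23308, e3 q22733 L745037 q22733, e3 q22734 L745051 q21185, e3 q22735 L745066 q21186, e3 q22736 L745080 q21189, e3 q22737 L745091 q21190, e3 q22738 (flp_g L753787) q23544, e3 q22739 L745108 q21192, e3 q22740 (flp_g L758712) q24016, e3 q22741 (flp_g L758723) q24017, e3 q22742 (flp_g L753719) q23540, e3 q22743 L745147 q21629, e3 q22744 (flp_g L753757) q23542, e3 q22745 (flp_g L758735) q24018, e3 q22746 (flp_g L758744) q24019, e3 q22747 (flp_g L753797) q23545, e3 q22748 (flp_g L758763) q24021, e3 q22749 L745215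 q21606, e3 q22750 L745223 q21634, e3 q22751 L745231 q21654, e3 q22752 L745246 q21601, e3 q22753 L745256 q21609, e3 q22754 (flp_g L755399) q23690, e3 q22755 (flp_g L750603) q23313, e3 q22756 (flp_g L750617) q23314, e3 q22757 (flp_g L755424) q23692, e3 q22758 (flp_g L750675) q23318, e3 q22759 L745300 q22759, e3 q22760 (flp_g L753770) q23543, e3 q22761 L745321 q22761, e3 q22762 L745335 q22762, e3 q22763 L745346 q21212, e3 q22764 (flp_g L755411) q23691, e3 q22765 (flp_g L758000) q23946, e3 q22766 L745377 q21215, e3 q22767 L745387 q21218, e3 q22768 (flp_g L759005) q24047, e3 q22769 L745410 q21651, e3 q22770 L745419 q21688, e3 q22771 (flp_g L759016) q24048, e3 q22772 L745440 q21641, e3 q22773 L745447 q21692, e3 q22774 L745454 q21698, e3 q22775 L745462 q21643, e3 q22776 L745470 q21693, e3 q22777 (flp_g L758135) q23961, e3 q22778 L745492 q22778, e3 q22779 L759131 q24060, e3 q22780 L745515 q21695, e3 q22781 (flp_g L750929) q23335, e3 q22782 (flp_g L750941) q23336, e3 q22783 (flp_g L750950) q23337, trivial⟩ (by decide +kernel)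

theorem ce_g_356 : ∀ r, r < 64 → sm gg (Qf (22784 + r)) = Qf (tab Gen.g (22784 + r)) :=
  edges_tab (sm gg) Qf (tab Gen.g) 22784 [(22784, 23338), (22785, 23340), (22786, 23341), (22787, 23343), (22788, 21244), (22789, 21245), (22790, 21246), (22791, 21247), (22792, 23328), (22793, 23974), (22794, 23964), (22795, 23215), (22796, 24068), (22797, 24069), (22798, 24070), (22799, 24071), (22800, 23355), (22801, 21616), (22802, 23356), (22803, 23357), (22804, 23383), (22805, 23359), (22806, 23360), (22807, 24003), (22808, 23362), (22809, 23363), (22810, 21259), (22811, 24090), (22812, 23367), (22813, 22813), (22814, 21647), (22815, 23598), (22816, 21281), (22817, 21282), (22818, 23601), (22819, 21284), (22820, 23594), (22821, 23966), (22822, 23685), (22823, 23596), (22824, 23597), (22825, 23216), (22826, 23236), (22827, 23599), (22828, 24094), (22829, 24095), (22830, 23602), (22831, 24097), (22832, 21574), (22833, 23394), (22834, 23883), (22835, 23396), (22836, 23397), (22837, 21292), (22838, 24116), (22839, 23399), (22840, 23400),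 (22841, 21297), (22842, 23879), (22843, 24120), (22844, 23401), (22845, 23402), (22846, 23590), (22847, 21302)]
    ⟨e3 q22784 (flp_g L750963) q23338, e3 q22785 (flp_g L750984) q23340, e3 q22786 (flp_g L750993) q23341, e3 q22787 (flp_g L751013) q23343, e3 q22788 L745600 q21244, e3 q22789 L745611 q21245, e3 q22790 L745618 q21246, e3 q22791 L745628 q21247, e3 q22792 (flp_g L750832) q23328, e3 q22793 (flp_g L758265) q23974, e3 q22794 (flp_g L758156) q23964, e3 q22795 (flp_g L749199) q23215, e3 q22796 (flp_g L759220) q24068, e3 q22797 (flp_g L759228) q24069, e3 q22798 (flp_g L759235) q24070, e3 q22799 (flp_g L759246) q24071, e3 q22800 (flp_g L751178) q23355, e3 q22801 L745739 q21616, e3 q22802 (flp_g L751194) q23356, e3 q22803 (flp_g L751206) q23357, e3 q22804 (flp_g L751547) q23383, e3 q22805 (flp_g L751242) q23359, e3 q22806 (flp_g L751249) q23360, e3 q22807 (flp_g L758598) q24003, e3 q22808 (flp_g L751271) q23362, e3 q22809 (flp_g L751277) q23363, e3 q22810 L745811 q21259, e3 q22811 (flp_g L759416) q24090, e3 q22812 (flp_g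 L751326) q23367, e3 q22813 L745835 q22813, e3 q22814 L745853 q21647, e3 q22815 (flp_g L754467) q23598, e3 q22816 L745872 q21281, e3 q22817 L745877 q21282, e3 q22818 (flp_g L754494) q23601, e3 q22819 L745894 q21284, e3 q22820 (flp_g L754421) q23594, e3 q22821 (flp_g L758184) q23966, e3 q22822 (flp_g L755342) q23685, e3 q22823 (flp_g L754445) q23596, e3 q22824 (flp_g L754458) q23597, e3 q22825 (flp_g L749220) q23216, e3 q22826 (flp_g L749514) q23236, e3 q22827 (flp_g L754475) q23599, e3 q22828 (flp_g L759447) q24094, e3 q22829 (flp_g L759453) q24095, e3 q22830 (flp_g L754502) q23602, e3 q22831 (flp_g L759465) q24097, e3 q22832 L746014 q21574, e3 q22833 (flp_g L751681) q23394, e3 q22834 (flp_g L757493) q23883, e3 q22835 (flp_g L751715) q23396, e3 q22836 (flp_g L751729) q23397, e3 q22837 L746057 q21292, e3 q22838 (flp_g L759628) q24116, e3 q22839 (flp_g L751755) q23399, e3 q22840 (flp_g L751761) q23400, e3 q22841 L746090 q21297, e3 q22842 (flp_g L757449) q23879, e3 q22843 (flp_g L759657) q24120, e3 q22844 (flp_g L751775) q23401,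 e3 q22845 (flp_g L751787) q23402, e3 q22846 (flp_g L754373) q23590, e3 q22847 L746126 q21302, trivial⟩ (by decide +kernel)

theorem ce_g_357 : ∀ r, r < 64 → sm gg (Qf (22848 + r)) = Qf (tab Gen.g (22848 + r)) :=
  edges_tab (sm gg) Qf (tab Gen.g) 22848 [(22848, 24127), (22849, 23406), (22850, 23407), (22851, 23947), (22852, 23593), (22853, 21307), (22854, 24134), (22855, 23413), (22856, 23326), (22857, 22857), (22858, 23595), (22859, 22859), (22860, 23600), (22861, 24141), (22862, 21592), (22863, 21328), (22864, 21321), (22865, 23373), (22866, 23591), (22867, 21325), (22868, 24145), (22869, 22869), (22870, 22870), (22871, 21338), (22872, 23687), (22873, 23217), (22874, 23237), (22875, 23272), (22876, 24150), (22877, 23442), (22878, 23443), (22879, 23444), (22880, 23446), (22881, 23447), (22882, 23962), (22883, 21347), (22884, 23159), (22885, 23464), (22886, 23465), (22887, 23460), (22888, 23474), (22889, 23529), (22890, 23481), (22891, 23482), (22892, 23484), (22893, 21373), (22894, 21420), (22895, 23487), (22896, 23587),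 (22897, 21498), (22898, 23497), (22899, 23498), (22900, 23499), (22901, 23502), (22902, 21384), (22903, 23985), (22904, 21489), (22905, 23534), (22906, 21500), (22907, 23513), (22908, 23535), (22909, 23514), (22910, 23515), (22911, 23537)]
    ⟨e3 q22848 (flp_g L759696) q24127, e3 q22849 (flp_g L751841) q23406, e3 q22850 (flp_g L751847) q23407, e3 q22851 (flp_g L758010) q23947, e3 q22852 (flp_g L754407) q23593, e3 q22853 L746158 q21307, e3 q22854 (flp_g L759728) q24134, e3 q22855 (flp_g L751889) q23413, e3 q22856 (flp_g L750796) q23326, e3 q22857 L746191 q22857, e3 q22858 (flp_g L754430) q23595, e3 q22859 L746212 q22859, e3 q22860 (flp_g L754482) q23600, e3 q22861 L759784 q24141, e3 q22862 L746243 q21592, e3 q22863 L746253 q21328, e3 q22864 L746268 q21321, e3 q22865 (flp_g L751413) q23373, e3 q22866 (flp_g L754384) q23591, e3 q22867 L746291 q21325, e3 q22868 (flp_g L759816) q24145, e3 q22869 L746307 q22869, e3 q22870 L746314 q22870, e3 q22871 L746322 q21338, e3 q22872 (flp_g L755364) q23687, e3 q22873 (flp_g L749234) q23217,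 e3 q22874 (flp_g L749526) q23237, e3 q22875 (flp_g L749990) q23272, e3 q22876 L759847 q24150, e3 q22877 (flp_g L752273) q23442, e3 q22878 (flp_g L752285) q23443, e3 q22879 (flp_g L752299) q23444, e3 q22880 (flp_g L752325) q23446, e3 q22881 (flp_g L752340) q23447, e3 q22882 (flp_g L758144) q23962, e3 q22883 (flp_g L746399) q21347, e3 q22884 (flp_g L748318) q23159, e3 q22885 (flp_g L752641) q23464, e3 q22886 (flp_g L752660) q23465, e3 q22887 (flp_g L752561) q23460, e3 q22888 (flp_g L752815) q23474, e3 q22889 (flp_g L753569) q23529, e3 q22890 (flp_g L752927) q23481, e3 q22891 (flp_g L752939) q23482, e3 q22892 (flp_g L752967) q23484, e3 q22893 L746498 q21373, e3 q22894 L746510 q21420, e3 q22895 (flp_g L753014) q23487, e3 q22896 (flp_g L754329) q23587, e3 q22897 L746531 q21498, e3 q22898 (flp_g L753156) q23497, e3 q22899 (flp_g L753166) q23498, e3 q22900 (flp_g L753174) q23499, e3 q22901 (flp_g L753209) q23502, e3 q22902 L746567 q21384, e3 q22903 (flp_g L758393) q23985, e3 q22904 L746587 q21489, e3 q22905 (flp_g L753645) q23534,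 e3 q22906 L746604 q21500, e3 q22907 (flp_g L753368) q23513, e3 q22908 (flp_g L753657) q23535, e3 q22909 (flp_g L753376) q23514, e3 q22910 (flp_g L753382) q23515, e3 q22911 (flp_g L753676) q23537, trivial⟩ (by decide +kernel)

theorem ce_g_358 : ∀ r, r < 64 → sm gg (Qf (22912 + r)) = Qf (tab Gen.g (22912 + r)) :=
  edges_tab (sm gg) Qf (tab Gen.g) 22912 [(22912, 23518), (22913, 23536), (22914, 21398), (22915, 24182), (22916, 21399), (22917, 21517), (22918, 23526), (22919, 23527), (22920, 24186), (22921, 21404), (22922, 23551), (22923, 23553), (22924, 23554), (22925, 23556), (22926, 21414), (22927, 24191), (22928, 23571), (22929, 23572), (22930, 23574), (22931, 23623), (22932, 24161), (22933, 23611), (22934, 23612), (22935, 23613), (22936, 23614), (22937, 23616), (22938, 23617), (22939, 23620), (22940, 21430), (22941, 23577), (22942, 21437), (22943, 21438), (22944, 23183), (22945, 21439), (22946, 23483), (22947, 23485), (22948, 24206), (22949, 24207), (22950, 24209), (22951, 23640), (22952, 23196), (22953, 23643), (22954, 23494),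 (22955, 23645), (22956, 23646), (22957, 23649), (22958, 23650), (22959, 21449), (22960, 24225), (22961, 23653), (22962, 23654), (22963, 24231), (22964, 23182), (22965, 21454), (22966, 24232), (22967, 23660), (22968, 23521), (22969, 21463), (22970, 21467), (22971, 23486), (22972, 23201), (22973, 23682), (22974, 23683), (22975, 23524)]
    ⟨e3 q22912 (flp_g L753410) q23518, e3 q22913 (flp_g L753667) q23536, e3 q22914 L746649 q21398, e3 q22915 L760066 q24182, e3 q22916 (flp_g L746660) q21399, e3 q22917 L746671 q21517, e3 q22918 (flp_g L753519) q23526, e3 q22919 (flp_g L753535) q23527, e3 q22920 L760092 q24186, e3 q22921 (flp_g L746692) q21404, e3 q22922 (flp_g L753884) q23551, e3 q22923 (flp_g L753914) q23553, e3 q22924 (flp_g L753924) q23554, e3 q22925 (flp_g L753943) q23556, e3 q22926 L746742 q21414, e3 q22927 (flp_g L760131) q24191, e3 q22928 (flp_g L754133) q23571, e3 q22929 (flp_g L754139) q23572, e3 q22930 (flp_g L754155) q23574, e3 q22931 (flp_g L754742) q23623, e3 q22932 (flp_g L759942) q24161, e3 q22933 (flp_g L754622)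 q23611, e3 q22934 (flp_g L754636) q23612, e3 q22935 (flp_g L754650) q23613, e3 q22936 (flp_g L754655) q23614, e3 q22937 (flp_g L754671) q23616, e3 q22938 (flp_g L754677) q23617, e3 q22939 (flp_g L754702) q23620, e3 q22940 L746823 q21430, e3 q22941 (flp_g L754201) q23577, e3 q22942 L746839 q21437, e3 q22943 L746845 q21438, e3 q22944 (flp_g L748723) q23183, e3 q22945 L746857 q21439, e3 q22946 (flp_g L752959) q23483, e3 q22947 (flp_g L752981) q23485, e3 q22948 (flp_g L760221) q24206, e3 q22949 (flp_g L760227) q24207, e3 q22950 (flp_g L760239) q24209, e3 q22951 (flp_g L754914) q23640, e3 q22952 (flp_g L748909) q23196, e3 q22953 (flp_g L754955) q23643, e3 q22954 (flp_g L753109) q23494, e3 q22955 (flp_g L754979) q23645, e3 q22956 (flp_g L754989) q23646, e3 q22957 (flp_g L755015) q23649, e3 q22958 (flp_g L755021) q23650, e3 q22959 L746951 q21449, e3 q22960 (flp_g L760331) q24225, e3 q22961 (flp_g L755041) q23653, e3 q22962 (flp_g L755047) q23654, e3 q22963 L760359 q24231, e3 q22964 (flp_g L748705) q23182, e3 q22965 L746979 q21454,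 e3 q22966 (flp_g L760367) q24232, e3 q22967 (flp_g L755087) q23660, e3 q22968 (flp_g L753450) q23521, e3 q22969 (flp_g L746999) q21463, e3 q22970 L747009 q21467, e3 q22971 (flp_g L752997) q23486, e3 q22972 (flp_g L748985) q23201, e3 q22973 (flp_g L755308) q23682, e3 q22974 (flp_g L755322) q23683, e3 q22975 (flp_g L753491) q23524, trivial⟩ (by decide +kernel)

theorem ce_g_359 : ∀ r, r < 64 → sm gg (Qf (22976 + r)) = Qf (tab Gen.g (22976 + r)) :=
  edges_tab (sm gg) Qf (tab Gen.g) 22976 [(22976, 23684), (22977, 23686), (22978, 21475), (22979, 23492), (22980, 21481), (22981, 24238), (22982, 23697), (22983, 23704), (22984, 21486), (22985, 24242), (22986, 23736), (22987, 23710), (22988, 24170), (22989, 21501), (22990, 21493), (22991, 24248), (22992, 21504), (22993, 23632), (22994, 23746), (22995, 24163), (22996, 23735), (22997, 24172), (22998, 24247), (22999, 21503), (23000, 24257), (23001, 24250), (23002, 23301), (23003, 21528), (23004, 23307), (23005, 23719), (23006, 23741), (23007, 23720), (23008, 23742), (23009, 23722), (23010,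 23744), (23011, 23727), (23012, 23676), (23013, 23013), (23014, 24183), (23015, 23309), (23016, 23743), (23017, 23748), (23018, 23749), (23019, 23751), (23020, 24261), (23021, 23758), (23022, 21536), (23023, 23986), (23024, 21537), (23025, 23885), (23026, 24279), (23027, 24281), (23028, 23361), (23029, 23777), (23030, 23778), (23031, 23781), (23032, 23782), (23033, 23784), (23034, 23787), (23035, 23812), (23036, 23813), (23037, 23814), (23038, 23816), (23039, 23817)]
    ⟨e3 q22976 (flp_g L755332) q23684, e3 q22977 (flp_g L755352) q23686, e3 q22978 (flp_g L747057) q21475, e3 q22979 (flp_g L753089) q23492, e3 q22980 L747075 q21481, e3 q22981 (flp_g L760403) q24238, e3 q22982 (flp_g L755484) q23697, e3 q22983 (flp_g L755553) q23704, e3 q22984 L747101 q21486, e3 q22985 (flp_g L760427) q24242, e3 q22986 (flp_g L755908) q23736, e3 q22987 (flp_g L755626) q23710, e3 q22988 (flp_g L760003) q24170, e3 q22989 L747140 q21501, e3 q22990 L747149 q21493, e3 q22991 (flp_g L760471) q24248, e3 q22992 L747158 q21504, e3 q22993 (flp_g L754830)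 q23632, e3 q22994 (flp_g L756002) q23746, e3 q22995 (flp_g L759959) q24163, e3 q22996 (flp_g L755898) q23735, e3 q22997 (flp_g L760018) q24172, e3 q22998 (flp_g L760462) q24247, e3 q22999 L747217 q21503, e3 q23000 (flp_g L760532) q24257, e3 q23001 (flp_g L760483) q24250, e3 q23002 (flp_g L750427) q23301, e3 q23003 L747254 q21528, e3 q23004 (flp_g L750523) q23307, e3 q23005 (flp_g L755725) q23719, e3 q23006 (flp_g L755960) q23741, e3 q23007 (flp_g L755743) q23720, e3 q23008 (flp_g L755966) q23742, e3 q23009 (flp_g L755775) q23722, e3 q23010 (flp_g L755975) q23744, e3 q23011 (flp_g L755815) q23727, e3 q23012 (flp_g L755239) q23676, e3 q23013 L747311 q23013, e3 q23014 (flp_g L760077) q24183, e3 q23015 (flp_g L750547) q23309, e3 q23016 (flp_g L755970) q23743, e3 q23017 (flp_g L756031) q23748, e3 q23018 (flp_g L756042) q23749, e3 q23019 (flp_g L756061) q23751, e3 q23020 (flp_g L760565) q24261, e3 q23021 (flp_g L756146) q23758, e3 q23022 L747376 q21536, e3 q23023 (flp_g L758410) q23986, e3 q23024 L747389 q21537, e3 q23025 (flp_g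 L757512) q23885, e3 q23026 (flp_g L760664) q24279, e3 q23027 (flp_g L760676) q24281, e3 q23028 (flp_g L751263) q23361, e3 q23029 (flp_g L756365) q23777, e3 q23030 (flp_g L756375) q23778, e3 q23031 (flp_g L756411) q23781, e3 q23032 (flp_g L756421) q23782, e3 q23033 (flp_g L756441) q23784, e3 q23034 (flp_g L756461) q23787, e3 q23035 (flp_g L756730) q23812, e3 q23036 (flp_g L756741) q23813, e3 q23037 (flp_g L756759) q23814, e3 q23038 (flp_g L756780) q23816, e3 q23039 (flp_g L756787) q23817, trivial⟩ (by decide +kernel)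

theorem ce_g_360 : ∀ r, r < 64 → sm gg (Qf (23040 + r)) = Qf (tab Gen.g (23040 + r)) :=
  edges_tab (sm gg) Qf (tab Gen.g) 23040 [(23040, 23819), (23041, 23820), (23042, 23823), (23043, 23824), (23044, 23827), (23045, 23339), (23046, 21567), (23047, 23342), (23048, 21568), (23049, 23965), (23050, 23878), (23051, 24304), (23052, 24306), (23053, 23398), (23054, 23364), (23055, 23806), (23056, 23840), (23057, 24111), (23058, 23841), (23059, 21577), (23060, 21578), (23061, 24317), (23062, 24318), (23063, 23844), (23064, 23845), (23065, 23329), (23066, 21583), (23067, 24324), (23068, 23848), (23069, 23333), (23070, 21587), (23071, 24329), (23072, 23853), (23073, 23073), (23074, 24142), (23075, 21598), (23076, 23330), (23077, 21596), (23078, 24336), (23079, 23079), (23080, 24034), (23081, 21610), (23082, 21604), (23083, 24339), (23084, 21615), (23085, 24031), (23086, 23912), (23087, 23904), (23088, 24035), (23089, 24338), (23090, 23900), (23091, 24351), (23092, 21635), (23093, 21614), (23094, 24353), (23095, 24342), (23096, 24081),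 (23097, 23897), (23098, 21619), (23099, 21621), (23100, 24358), (23101, 23903), (23102, 21625), (23103, 21626)]
    ⟨e3 q23040 (flp_g L756819) q23819, e3 q23041 (flp_g L756831) q23820, e3 q23042 (flp_g L756853) q23823, e3 q23043 (flp_g L756857) q23824, e3 q23044 (flp_g L756880) q23827, e3 q23045 (flp_g L750974) q23339, e3 q23046 L747528 q21567, e3 q23047 (flp_g L751005) q23342, e3 q23048 L747541 q21568, e3 q23049 (flp_g L758170) q23965, e3 q23050 (flp_g L757430) q23878, e3 q23051 (flp_g L760809) q24304, e3 q23052 (flp_g L760821) q24306, e3 q23053 (flp_g L751745) q23398, e3 q23054 (flp_g L751296) q23364, e3 q23055 (flp_g L756673) q23806, e3 q23056 (flp_g L757024) q23840, e3 q23057 (flp_g L759587) q24111, e3 q23058 (flp_g L757032) q23841, e3 q23059 L747621 q21577, e3 q23060 L747630 q21578, e3 q23061 (flp_g L760897) q24317, e3 q23062 (flp_g L760902) q24318, e3 q23063 (flp_g L757070) q23844, e3 q23064 (flp_g L757080) q23845, e3 q23065 (flp_g L750842) q23329, e3 q23066 L747668 q21583, e3 q23067 (flp_g L760939) q24324, e3 q23068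 (flp_g L757118) q23848, e3 q23069 (flp_g L750895) q23333, e3 q23070 L747694 q21587, e3 q23071 (flp_g L760971) q24329, e3 q23072 (flp_g L757156) q23853, e3 q23073 L747712 q23073, e3 q23074 (flp_g L759797) q24142, e3 q23075 L747733 q21598, e3 q23076 (flp_g L750853) q23330, e3 q23077 L747752 q21596, e3 q23078 (flp_g L761024) q24336, e3 q23079 L747764 q23079, e3 q23080 (flp_g L758895) q24034, e3 q23081 L747781 q21610, e3 q23082 L747788 q21604, e3 q23083 (flp_g L761043) q24339, e3 q23084 L747796 q21615, e3 q23085 (flp_g L758870) q24031, e3 q23086 (flp_g L757726) q23912, e3 q23087 (flp_g L757660) q23904, e3 q23088 (flp_g L758901) q24035, e3 q23089 (flp_g L761035) q24338, e3 q23090 (flp_g L757624) q23900, e3 q23091 L761120 q24351, e3 q23092 L747864 q21635, e3 q23093 L747870 q21614, e3 q23094 (flp_g L761136) q24353, e3 q23095 (flp_g L761054) q24342, e3 q23096 (flp_g L759352) q24081, e3 q23097 (flp_g L757598) q23897, e3 q23098 L747902 q21619, e3 q23099 L747910 q21621, e3 q23100 (flp_g L761162) q24358, e3 q23101 (flp_g L757654) q23903,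 e3 q23102 L747924 q21625, e3 q23103 L747930 q21626, trivial⟩ (by decide +kernel)

theorem ce_g_361 : ∀ r, r < 64 → sm gg (Qf (23104 + r)) = Qf (tab Gen.g (23104 + r)) :=
  edges_tab (sm gg) Qf (tab Gen.g) 23104 [(23104, 24362), (23105, 24363), (23106, 23910), (23107, 23911), (23108, 24025), (23109, 21631), (23110, 24370), (23111, 24371), (23112, 23917), (23113, 23918), (23114, 24032), (23115, 24352), (23116, 21637), (23117, 24379), (23118, 23925), (23119, 23805), (23120, 24053), (23121, 23121), (23122, 24057), (23123, 24384), (23124, 21645), (23125, 21649), (23126, 24045), (23127, 24385), (23128, 24050), (23129, 21653), (23130, 24033), (23131, 23131), (23132, 23969), (23133, 21679), (23134, 23384), (23135, 23433), (23136, 23970), (23137, 23861), (23138, 23431), (23139, 23971), (23140, 23972), (23141, 23937), (23142, 23419), (23143, 23432), (23144, 23374), (23145, 21681), (23146, 24396), (23147, 21684), (23148, 21685), (23149, 24397), (23150, 24398), (23151, 21689), (23152, 24051), (23153, 24055), (23154, 24054), (23155, 21696),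 (23156, 24056), (23157, 23157), (23158, 22084), (23159, 22884), (23160, 22076), (23161, 22199), (23162, 22685), (23163, 22206), (23164, 21718), (23165, 22271), (23166, 22692), (23167, 22221)]
    ⟨e3 q23104 (flp_g L761182) q24362, e3 q23105 (flp_g L761188) q24363, e3 q23106 (flp_g L757710) q23910, e3 q23107 (flp_g L757716) q23911, e3 q23108 (flp_g L758806) q24025, e3 q23109 L747964 q21631, e3 q23110 (flp_g L761224) q24370, e3 q23111 (flp_g L761230) q24371, e3 q23112 (flp_g L757762) q23917, e3 q23113 (flp_g L757770) q23918, e3 q23114 (flp_g L758876) q24032, e3 q23115 (flp_g L761130) q24352, e3 q23116 L747994 q21637, e3 q23117 (flp_g L761268) q24379, e3 q23118 (flp_g L757812) q23925, e3 q23119 (flp_g L756656) q23805, e3 q23120 (flp_g L759072) q24053, e3 q23121 L748024 q23121, e3 q23122 (flp_g L759107) q24057, e3 q23123 L761302 q24384, e3 q23124 (flp_g L748045) q21645, e3 q23125 L748058 q21649, e3 q23126 (flp_g L758989) q24045, e3 q23127 (flp_g L761315) q24385, e3 q23128 (flp_g L759035) q24050, e3 q23129 L748086 q21653, e3 q23130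 (flp_g L758882) q24033, e3 q23131 L748102 q23131, e3 q23132 (flp_g L758220) q23969, e3 q23133 L748122 q21679, e3 q23134 (flp_g L751561) q23384, e3 q23135 (flp_g L752159) q23433, e3 q23136 (flp_g L758234) q23970, e3 q23137 (flp_g L757252) q23861, e3 q23138 (flp_g L752131) q23431, e3 q23139 (flp_g L758242) q23971, e3 q23140 (flp_g L758250) q23972, e3 q23141 (flp_g L757921) q23937, e3 q23142 (flp_g L751971) q23419, e3 q23143 (flp_g L752146) q23432, e3 q23144 (flp_g L751425) q23374, e3 q23145 L748200 q21681, e3 q23146 (flp_g L761388) q24396, e3 q23147 L748217 q21684, e3 q23148 L748224 q21685, e3 q23149 (flp_g L761396) q24397, e3 q23150 (flp_g L761403) q24398, e3 q23151 L748241 q21689, e3 q23152 (flp_g L759049) q24051, e3 q23153 (flp_g L759087) q24055, e3 q23154 (flp_g L759079) q24054, e3 q23155 L748276 q21696, e3 q23156 (flp_g L759101) q24056, e3 q23157 L748288 q23157, e3 q23158 L748299 q22084, e3 q23159 L748318 q22884, e3 q23160 L748338 q22076, e3 q23161 L748364 q22199, e3 q23162 L748378 q22685, e3 q23163 L748394 q22206, e3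 q23164 L748406 q21718, e3 q23165 L748431 q22271, e3 q23166 L748445 q22692, e3 q23167 L748465 q22221, trivial⟩ (by decide +kernel)

theorem ce_g_362 : ∀ r, r < 64 → sm gg (Qf (23168 + r)) = Qf (tab Gen.g (23168 + r)) :=
  edges_tab (sm gg) Qf (tab Gen.g) 23168 [(23168, 21756), (23169, 22224), (23170, 22686), (23171, 22281), (23172, 21737), (23173, 22190), (23174, 21738), (23175, 22229), (23176, 22232), (23177, 21739), (23178, 22239), (23179, 22240), (23180, 22687), (23181, 22689), (23182, 22964), (23183, 22944), (23184, 22690), (23185, 21752), (23186, 24420), (23187, 21755), (23188, 24408), (23189, 22700), (23190, 22213), (23191, 21760), (23192, 24425), (23193, 22703), (23194, 22214), (23195, 21764), (23196, 22952), (23197, 24429), (23198, 21769), (23199, 21772), (23200, 22169), (23201, 22972), (23202, 22308), (23203, 21879), (23204, 21880), (23205, 21805), (23206, 21822), (23207, 22682), (23208, 22432), (23209, 22709), (23210, 22710), (23211, 22435), (23212, 22711), (23213, 21787), (23214, 21788), (23215, 22795), (23216,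 22825), (23217, 22873), (23218, 21786), (23219, 24448), (23220, 24444), (23221, 21929), (23222, 22668), (23223, 22615), (23224, 22640), (23225, 22443), (23226, 22713), (23227, 23227), (23228, 21796), (23229, 24458), (23230, 23230), (23231, 21801)]
    ⟨e3 q23168 L748479 q21756, e3 q23169 L748495 q22224, e3 q23170 L748503 q22686, e3 q23171 L748519 q22281, e3 q23172 L748539 q21737, e3 q23173 L748560 q22190, e3 q23174 L748574 q21738, e3 q23175 L748590 q22229, e3 q23176 L748606 q22232, e3 q23177 L748618 q21739, e3 q23178 L748636 q22239, e3 q23179 L748650 q22240, e3 q23180 L748671 q22687, e3 q23181 L748683 q22689, e3 q23182 L748705 q22964, e3 q23183 L748723 q22944, e3 q23184 L748735 q22690, e3 q23185 L748753 q21752, e3 q23186 (flp_g L761725) q24420, e3 q23187 L748778 q21755, e3 q23188 (flp_g L761536) q24408, e3 q23189 L748809 q22700, e3 q23190 L748833 q22213, e3 q23191 L748849 q21760, e3 q23192 (flp_g L761803) q24425, e3 q23193 L748867 q22703, e3 q23194 L748881 q22214, e3 q23195 L748895 q21764, e3 q23196 L748909 q22952, e3 q23197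 (flp_g L761849) q24429, e3 q23198 L748935 q21769, e3 q23199 L748955 q21772, e3 q23200 L748970 q22169, e3 q23201 L748985 q22972, e3 q23202 L749005 q22308, e3 q23203 L749019 q21879, e3 q23204 L749032 q21880, e3 q23205 L749048 q21805, e3 q23206 L749068 q21822, e3 q23207 L749078 q22682, e3 q23208 L749104 q22432, e3 q23209 L749114 q22709, e3 q23210 L749125 q22710, e3 q23211 L749142 q22435, e3 q23212 L749152 q22711, e3 q23213 L749170 q21787, e3 q23214 L749183 q21788, e3 q23215 L749199 q22795, e3 q23216 L749220 q22825, e3 q23217 L749234 q22873, e3 q23218 (flp_g L749240) q21786, e3 q23219 (flp_g L762160) q24448, e3 q23220 (flp_g L762088) q24444, e3 q23221 L749295 q21929, e3 q23222 L749312 q22668, e3 q23223 L749326 q22615, e3 q23224 L749338 q22640, e3 q23225 L749357 q22443, e3 q23226 L749367 q22713, e3 q23227 L749379 q23227, e3 q23228 L749397 q21796, e3 q23229 (flp_g L762292) q24458, e3 q23230 L749421 q23230, e3 q23231 L749437 q21801, trivial⟩ (by decide +kernel)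

theorem ce_g_363 : ∀ r, r < 64 → sm gg (Qf (23232 + r)) = Qf (tab Gen.g (23232 + r)) :=
  edges_tab (sm gg) Qf (tab Gen.g) 23232 [(23232, 22448), (23233, 21802), (23234, 21810), (23235, 24436), (23236, 22826), (23237, 22874), (23238, 21809), (23239, 24468), (23240, 24464), (23241, 21927), (23242, 21967), (23243, 22717), (23244, 22718), (23245, 22466), (23246, 22467), (23247, 21930), (23248, 21969), (23249, 22470), (23250, 22719), (23251, 22720), (23252, 22472), (23253, 22721), (23254, 24437), (23255, 23255), (23256, 23256), (23257, 21826), (23258, 24490), (23259, 23259), (23260, 22480), (23261, 21834), (23262, 21835), (23263, 24496), (23264, 22482), (23265, 22483), (23266, 21836), (23267, 21838), (23268, 24498), (23269, 24499), (23270, 21853), (23271, 22487), (23272, 22875), (23273, 21928), (23274, 21968), (23275, 22027), (23276, 22724), (23277, 21931), (23278, 21970), (23279, 22028), (23280, 24501), (23281, 24510), (23282, 22374), (23283, 22375), (23284, 22399), (23285, 21862), (23286, 21863), (23287, 22302), (23288, 21864),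 (23289, 21865), (23290, 24513), (23291, 24514), (23292, 24516), (23293, 22378), (23294, 22385), (23295, 22389)]
    ⟨e3 q23232 L749452 q22448, e3 q23233 L749463 q21802, e3 q23234 L749484 q21810, e3 q23235 (flp_g L761968) q24436, e3 q23236 L749514 q22826, e3 q23237 L749526 q22874, e3 q23238 L749546 q21809, e3 q23239 (flp_g L762438) q24468, e3 q23240 (flp_g L762378) q24464, e3 q23241 L749584 q21927, e3 q23242 L749604 q21967, e3 q23243 L749620 q22717, e3 q23244 L749634 q22718, e3 q23245 L749655 q22466, e3 q23246 L749674 q22467, e3 q23247 L749686 q21930, e3 q23248 L749698 q21969, e3 q23249 L749714 q22470, e3 q23250 L749722 q22719, e3 q23251 L749730 q22720, e3 q23252 L749742 q22472, e3 q23253 L749750 q22721, e3 q23254 (flp_g L761981) q24437, e3 q23255 L749772 q23255, e3 q23256 L749786 q23256, e3 q23257 L749798 q21826, e3 q23258 (flp_g L762714) q24490, e3 q23259 L749820 q23259, e3 q23260 L749835 q22480, e3 q23261 L749844 q21834, e3 q23262 L749863 q21835, e3 q23263 L762785 q24496, e3 q23264 L749886 q22482, e3 q23265 L749896 q22483,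 e3 q23266 L749908 q21836, e3 q23267 L749927 q21838, e3 q23268 (flp_g L762820) q24498, e3 q23269 (flp_g L762834) q24499, e3 q23270 L749962 q21853, e3 q23271 L749977 q22487, e3 q23272 L749990 q22875, e3 q23273 L750007 q21928, e3 q23274 L750020 q21968, e3 q23275 L750031 q22027, e3 q23276 L750046 q22724, e3 q23277 L750060 q21931, e3 q23278 L750071 q21970, e3 q23279 L750085 q22028, e3 q23280 (flp_g L762864) q24501, e3 q23281 L762985 q24510, e3 q23282 L750129 q22374, e3 q23283 L750143 q22375, e3 q23284 L750163 q22399, e3 q23285 L750175 q21862, e3 q23286 L750195 q21863, e3 q23287 L750214 q22302, e3 q23288 L750226 q21864, e3 q23289 L750237 q21865, e3 q23290 (flp_g L763046) q24513, e3 q23291 (flp_g L763059) q24514, e3 q23292 (flp_g L763090) q24516, e3 q23293 L750300 q22378, e3 q23294 L750316 q22385, e3 q23295 L750328 q22389, trivial⟩ (by decide +kernel)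

theorem ce_g_364 : ∀ r, r < 64 → sm gg (Qf (23296 + r)) = Qf (tab Gen.g (23296 + r)) :=
  edges_tab (sm gg) Qf (tab Gen.g) 23296 [(23296, 22368), (23297, 22728), (23298, 23298), (23299, 22371), (23300, 22372), (23301, 23002), (23302, 22712), (23303, 24435), (23304, 22729), (23305, 22730), (23306, 22731), (23307, 23004), (23308, 22732), (23309, 23015), (23310, 22309), (23311, 21892), (23312, 24536), (23313, 22755), (23314, 22756), (23315, 22293), (23316, 21897), (23317, 24541), (23318, 22758), (23319, 22344), (23320, 21901), (23321, 24546), (23322, 23322), (23323, 22345), (23324, 21906), (23325, 22509), (23326, 22856), (23327, 22506), (23328, 22792), (23329, 23065), (23330, 23076), (23331, 21912), (23332, 24554), (23333, 23069), (23334, 22535), (23335, 22781), (23336, 22782), (23337, 22783), (23338, 22784), (23339, 23045), (23340, 22785), (23341, 22786), (23342, 23047), (23343, 22787), (23344, 21924), (23345, 24567), (23346, 21934), (23347, 24471), (23348, 24504), (23349, 24451), (23350, 24477), (23351, 24507), (23352, 21933),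 (23353, 24575), (23354, 24569), (23355, 22800), (23356, 22802), (23357, 22803), (23358, 22524), (23359, 22805)]
    ⟨e3 q23296 L750347 q22368, e3 q23297 L750359 q22728, e3 q23298 L750369 q23298, e3 q23299 L750387 q22371, e3 q23300 L750405 q22372, e3 q23301 L750427 q23002, e3 q23302 L750441 q22712, e3 q23303 (flp_g L761948) q24435, e3 q23304 L750472 q22729, e3 q23305 L750488 q22730, e3 q23306 L750502 q22731, e3 q23307 L750523 q23004, e3 q23308 L750533 q22732, e3 q23309 L750547 q23015, e3 q23310 L750567 q22309, e3 q23311 L750579 q21892, e3 q23312 (flp_g L763376) q24536, e3 q23313 L750603 q22755, e3 q23314 L750617 q22756, e3 q23315 L750639 q22293, e3 q23316 L750655 q21897, e3 q23317 (flp_g L763454) q24541, e3 q23318 L750675 q22758, e3 q23319 L750687 q22344, e3 q23320 L750701 q21901, e3 q23321 (flp_g L763516) q24546, e3 q23322 L750727 q23322, e3 q23323 L750746 q22345, e3 q23324 L750761 q21906, e3 q23325 L750776 q22509, e3 q23326 L750796 q22856, e3 q23327 L750806 q22506, e3 q23328 L750832 q22792, e3 q23329 L750842 q23065, e3 q23330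 L750853 q23076, e3 q23331 (flp_g L750859) q21912, e3 q23332 (flp_g L763649) q24554, e3 q23333 L750895 q23069, e3 q23334 L750909 q22535, e3 q23335 L750929 q22781, e3 q23336 L750941 q22782, e3 q23337 L750950 q22783, e3 q23338 L750963 q22784, e3 q23339 L750974 q23045, e3 q23340 L750984 q22785, e3 q23341 L750993 q22786, e3 q23342 L751005 q23047, e3 q23343 L751013 q22787, e3 q23344 (flp_g L751019) q21924, e3 q23345 (flp_g L763807) q24567, e3 q23346 L751053 q21934, e3 q23347 (flp_g L762474) q24471, e3 q23348 (flp_g L762907) q24504, e3 q23349 (flp_g L762205) q24451, e3 q23350 (flp_g L762566) q24477, e3 q23351 (flp_g L762950) q24507, e3 q23352 L751137 q21933, e3 q23353 (flp_g L763907) q24575, e3 q23354 (flp_g L763826) q24569, e3 q23355 L751178 q22800, e3 q23356 L751194 q22802, e3 q23357 L751206 q22803, e3 q23358 L751225 q22524, e3 q23359 L751242 q22805, trivial⟩ (by decide +kernel)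

theorem ce_g_365 : ∀ r, r < 64 → sm gg (Qf (23360 + r)) = Qf (tab Gen.g (23360 + r)) :=
  edges_tab (sm gg) Qf (tab Gen.g) 23360 [(23360, 22806), (23361, 23028), (23362, 22808), (23363, 22809), (23364, 23054), (23365, 21946), (23366, 24589), (23367, 22812), (23368, 23368), (23369, 23369), (23370, 21951), (23371, 24594), (23372, 23372), (23373, 22865), (23374, 23144), (23375, 21958), (23376, 22635), (23377, 24598), (23378, 23378), (23379, 22248), (23380, 21963), (23381, 24601), (23382, 21974), (23383, 22804), (23384, 23134), (23385, 24472), (23386, 24505), (23387, 24478), (23388, 24508), (23389, 21990), (23390, 21973), (23391, 24612), (23392, 24603), (23393, 22498), (23394, 22833), (23395, 22009), (23396, 22835), (23397, 22836), (23398, 23053), (23399, 22839), (23400, 22840), (23401, 22844), (23402, 22845), (23403, 22456), (23404, 21987), (23405, 24629), (23406, 22849), (23407, 22850), (23408, 24634), (23409, 24611), (23410, 21992), (23411, 24636), (23412, 24637), (23413, 22855), (23414, 23414), (23415, 23415), (23416, 24642),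 (23417, 22007), (23418, 21999), (23419, 23142), (23420, 24644), (23421, 23421), (23422, 22408), (23423, 22488)]
    ⟨e3 q23360 L751249 q22806, e3 q23361 L751263 q23028, e3 q23362 L751271 q22808, e3 q23363 L751277 q22809, e3 q23364 L751296 q23054, e3 q23365 L751312 q21946, e3 q23366 (flp_g L764085) q24589, e3 q23367 L751326 q22812, e3 q23368 L751336 q23368, e3 q23369 L751352 q23369, e3 q23370 L751369 q21951, e3 q23371 (flp_g L764133) q24594, e3 q23372 L751392 q23372, e3 q23373 L751413 q22865, e3 q23374 L751425 q23144, e3 q23375 L751439 q21958, e3 q23376 L751452 q22635, e3 q23377 (flp_g L764195) q24598, e3 q23378 L751474 q23378, e3 q23379 L751499 q22248, e3 q23380 L751514 q21963, e3 q23381 (flp_g L764243) q24601, e3 q23382 L751529 q21974, e3 q23383 L751547 q22804, e3 q23384 L751561 q23134, e3 q23385 (flp_g L762490) q24472, e3 q23386 (flp_g L762920) q24505, e3 q23387 (flp_g L762576) q24478, e3 q23388 (flp_g L762965) q24508, e3 q23389 L751619 q21990, e3 q23390 L751633 q21973, e3 q23391 (flp_g L764367) q24612, e3 q23392 (flp_g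 L764255) q24603, e3 q23393 L751665 q22498, e3 q23394 L751681 q22833, e3 q23395 L751693 q22009, e3 q23396 L751715 q22835, e3 q23397 L751729 q22836, e3 q23398 L751745 q23053, e3 q23399 L751755 q22839, e3 q23400 L751761 q22840, e3 q23401 L751775 q22844, e3 q23402 L751787 q22845, e3 q23403 L751807 q22456, e3 q23404 L751823 q21987, e3 q23405 (flp_g L764589) q24629, e3 q23406 L751841 q22849, e3 q23407 L751847 q22850, e3 q23408 L764631 q24634, e3 q23409 (flp_g L764355) q24611, e3 q23410 L751875 q21992, e3 q23411 (flp_g L764659) q24636, e3 q23412 (flp_g L764665) q24637, e3 q23413 L751889 q22855, e3 q23414 L751899 q23414, e3 q23415 L751918 q23415, e3 q23416 L764703 q24642, e3 q23417 L751946 q22007, e3 q23418 L751959 q21999, e3 q23419 L751971 q23142, e3 q23420 (flp_g L764741) q24644, e3 q23421 L751995 q23421, e3 q23422 L752020 q22408, e3 q23423 L752032 q22488, trivial⟩ (by decide +kernel)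

theorem ce_g_366 : ∀ r, r < 64 → sm gg (Qf (23424 + r)) = Qf (tab Gen.g (23424 + r)) :=
  edges_tab (sm gg) Qf (tab Gen.g) 23424 [(23424, 22006), (23425, 24643), (23426, 22010), (23427, 22555), (23428, 24618), (23429, 22020), (23430, 22018), (23431, 23138), (23432, 23143), (23433, 23135), (23434, 24650), (23435, 22024), (23436, 22725), (23437, 24654), (23438, 24506), (23439, 24655), (23440, 22499), (23441, 22671), (23442, 22877), (23443, 22878), (23444, 22879), (23445, 22415), (23446, 22880), (23447, 22881), (23448, 24661), (23449, 22038), (23450, 22040), (23451, 22053), (23452, 22051), (23453, 22684), (23454, 22065), (23455, 22059), (23456, 22064), (23457, 22068), (23458, 22079), (23459, 22077), (23460, 22887), (23461, 22087), (23462, 22086), (23463, 22085), (23464, 22885), (23465, 22886), (23466, 22191), (23467, 22192), (23468, 22688), (23469, 22172), (23470, 22173), (23471, 22305), (23472, 22323), (23473, 22694), (23474, 22888), (23475, 22104), (23476, 22704), (23477, 22105), (23478, 22108), (23479, 22109), (23480, 24670),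 (23481, 22890), (23482, 22891), (23483, 22946), (23484, 22892), (23485, 22947), (23486, 22971), (23487, 22895)]
    ⟨e3 q23424 (flp_g L752040) q22006, e3 q23425 (flp_g L764723) q24643, e3 q23426 L752070 q22010, e3 q23427 L752080 q22555, e3 q23428 (flp_g L764439) q24618, e3 q23429 L752105 q22020, e3 q23430 L752120 q22018, e3 q23431 L752131 q23138, e3 q23432 L752146 q23143, e3 q23433 L752159 q23135, e3 q23434 (flp_g L764813) q24650, e3 q23435 L752187 q22024, e3 q23436 L752200 q22725, e3 q23437 (flp_g L764878) q24654, e3 q23438 (flp_g L762936) q24506, e3 q23439 (flp_g L764893) q24655, e3 q23440 L752242 q22499, e3 q23441 L752256 q22671, e3 q23442 L752273 q22877, e3 q23443 L752285 q22878, e3 q23444 L752299 q22879, e3 q23445 L752317 q22415, e3 q23446 L752325 q22880, e3 q23447 L752340 q22881, e3 q23448 L764966 q24661, e3 q23449 (flp_g L752359) q22038, e3 q23450 (flp_g L752372) q22040, e3 q23451 L752392 q22053, e3 q23452 L752411 q22051, e3 q23453 L752430 q22684, e3 q23454 L752449 q22065, e3 q23455 L752468 q22059, e3 q23456 L752487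 q22064, e3 q23457 L752506 q22068, e3 q23458 L752525 q22079, e3 q23459 L752544 q22077, e3 q23460 L752561 q22887, e3 q23461 L752583 q22087, e3 q23462 L752601 q22086, e3 q23463 L752622 q22085, e3 q23464 L752641 q22885, e3 q23465 L752660 q22886, e3 q23466 L752685 q22191, e3 q23467 L752697 q22192, e3 q23468 L752717 q22688, e3 q23469 L752735 q22172, e3 q23470 L752749 q22173, e3 q23471 L752769 q22305, e3 q23472 L752783 q22323, e3 q23473 L752803 q22694, e3 q23474 L752815 q22888, e3 q23475 L752825 q22104, e3 q23476 L752846 q22704, e3 q23477 L752858 q22105, e3 q23478 L752883 q22108, e3 q23479 L752897 q22109, e3 q23480 (flp_g L765131) q24670, e3 q23481 L752927 q22890, e3 q23482 L752939 q22891, e3 q23483 L752959 q22946, e3 q23484 L752967 q22892, e3 q23485 L752981 q22947, e3 q23486 L752997 q22971, e3 q23487 L753014 q22895, trivial⟩ (by decide +kernel)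

theorem ce_g_367 : ∀ r, r < 64 → sm gg (Qf (23488 + r)) = Qf (tab Gen.g (23488 + r)) :=
  edges_tab (sm gg) Qf (tab Gen.g) 23488 [(23488, 22373), (23489, 22380), (23490, 22383), (23491, 22387), (23492, 22979), (23493, 22727), (23494, 22954), (23495, 22262), (23496, 22263), (23497, 22898), (23498, 22899), (23499, 22900), (23500, 22132), (23501, 24689), (23502, 22901), (23503, 22139), (23504, 22140), (23505, 22137), (23506, 24693), (23507, 22143), (23508, 22142), (23509, 22146), (23510, 24696), (23511, 22295), (23512, 22296), (23513, 22907), (23514, 22909), (23515, 22910), (23516, 22153), (23517, 24704), (23518, 22912), (23519, 24430), (23520, 22158), (23521, 22968), (23522, 24708), (23523, 22164), (23524, 22975), (23525, 22346), (23526, 22918), (23527, 22919), (23528, 24432), (23529, 22889), (23530, 24664), (23531, 22291), (23532, 22294), (23533, 22320), (23534, 22905), (23535, 22908), (23536, 22913), (23537, 22911), (23538, 22358), (23539, 22359), (23540, 22742), (23541, 22603), (23542, 22744), (23543, 22760), (23544, 22738),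 (23545, 22747), (23546, 22289), (23547, 24411), (23548, 24662), (23549, 22264), (23550, 22278), (23551, 22922)]
    ⟨e3 q23488 L753029 q22373, e3 q23489 L753055 q22380, e3 q23490 L753065 q22383, e3 q23491 L753074 q22387, e3 q23492 L753089 q22979, e3 q23493 L753099 q22727, e3 q23494 L753109 q22954, e3 q23495 L753129 q22262, e3 q23496 L753141 q22263, e3 q23497 L753156 q22898, e3 q23498 L753166 q22899, e3 q23499 L753174 q22900, e3 q23500 L753195 q22132, e3 q23501 (flp_g L765389) q24689, e3 q23502 L753209 q22901, e3 q23503 L753221 q22139, e3 q23504 L753240 q22140, e3 q23505 L753259 q22137, e3 q23506 (flp_g L765434) q24693, e3 q23507 L753278 q22143, e3 q23508 L753295 q22142, e3 q23509 L753316 q22146, e3 q23510 (flp_g L765473) q24696, e3 q23511 L753338 q22295, e3 q23512 L753350 q22296, e3 q23513 L753368 q22907, e3 q23514 L753376 q22909, e3 q23515 L753382 q22910, e3 q23516 L753396 q22153, e3 q23517 (flp_g L765563) q24704, e3 q23518 L753410 q22912, e3 q23519 (flp_g L761863) q24430, e3 q23520 L753436 q22158, e3 q23521 L753450 q22968,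 e3 q23522 (flp_g L765599) q24708, e3 q23523 L753474 q22164, e3 q23524 L753491 q22975, e3 q23525 L753506 q22346, e3 q23526 L753519 q22918, e3 q23527 L753535 q22919, e3 q23528 (flp_g L761897) q24432, e3 q23529 L753569 q22889, e3 q23530 (flp_g L765029) q24664, e3 q23531 L753593 q22291, e3 q23532 L753614 q22294, e3 q23533 L753628 q22320, e3 q23534 L753645 q22905, e3 q23535 L753657 q22908, e3 q23536 L753667 q22913, e3 q23537 L753676 q22911, e3 q23538 L753692 q22358, e3 q23539 L753705 q22359, e3 q23540 L753719 q22742, e3 q23541 L753745 q22603, e3 q23542 L753757 q22744, e3 q23543 L753770 q22760, e3 q23544 L753787 q22738, e3 q23545 L753797 q22747, e3 q23546 L753815 q22289, e3 q23547 (flp_g L761580) q24411, e3 q23548 (flp_g L764995) q24662, e3 q23549 L753855 q22264, e3 q23550 L753869 q22278, e3 q23551 L753884 q22922, trivial⟩ (by decide +kernel)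

theorem ce_g_368 : ∀ r, r < 64 → sm gg (Qf (23552 + r)) = Qf (tab Gen.g (23552 + r)) :=
  edges_tab (sm gg) Qf (tab Gen.g) 23552 [(23552, 22316), (23553, 22923), (23554, 22924), (23555, 24402), (23556, 22925), (23557, 22208), (23558, 22331), (23559, 22209), (23560, 24404), (23561, 22210), (23562, 22217), (23563, 24424), (23564, 22216), (23565, 24741), (23566, 24739), (23567, 22226), (23568, 22297), (23569, 22322), (23570, 24407), (23571, 22928), (23572, 22929), (23573, 24409), (23574, 22930), (23575, 22234), (23576, 22235), (23577, 22941), (23578, 22236), (23579, 22237), (23580, 24745), (23581, 24412), (23582, 24413), (23583, 24414), (23584, 22245), (23585, 22338), (23586, 24760), (23587, 22896), (23588, 22450), (23589, 22455), (23590, 22846), (23591, 22866), (23592, 24600), (23593, 22852), (23594, 22820), (23595, 22858), (23596, 22823), (23597, 22824), (23598, 22815), (23599, 22827), (23600, 22860), (23601, 22818), (23602, 22830), (23603, 22265), (23604, 22437), (23605, 22453), (23606, 24684), (23607, 24685), (23608, 24728),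 (23609, 24777), (23610, 22392), (23611, 22933), (23612, 22934), (23613, 22935), (23614, 22936), (23615, 24405)]
    ⟨e3 q23552 L753902 q22316, e3 q23553 L753914 q22923, e3 q23554 L753924 q22924, e3 q23555 (flp_g L761439) q24402, e3 q23556 L753943 q22925, e3 q23557 L753953 q22208, e3 q23558 L753974 q22331, e3 q23559 L753990 q22209, e3 q23560 (flp_g L761469) q24404, e3 q23561 L754014 q22210, e3 q23562 L754031 q22217, e3 q23563 (flp_g L761789) q24424, e3 q23564 L754059 q22216, e3 q23565 (flp_g L766039) q24741, e3 q23566 (flp_g L766015) q24739, e3 q23567 L754093 q22226, e3 q23568 L754105 q22297, e3 q23569 L754113 q22322, e3 q23570 (flp_g L761524) q24407, e3 q23571 L754133 q22928, e3 q23572 L754139 q22929, e3 q23573 (flp_g L761554) q24409, e3 q23574 L754155 q22930, e3 q23575 L754163 q22234, e3 q23576 L754185 q22235, e3 q23577 L754201 q22941, e3 q23578 L754210 q22236, e3 q23579 L754231 q22237, e3 q23580 (flp_g L766079) q24745, e3 q23581 (flp_g L761594) q24412, e3 q23582 (flp_g L761612) q24413, e3 q23583 (flp_g L761628) q24414,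 e3 q23584 L754287 q22245, e3 q23585 L754299 q22338, e3 q23586 (flp_g L766254) q24760, e3 q23587 L754329 q22896, e3 q23588 L754337 q22450, e3 q23589 L754363 q22455, e3 q23590 L754373 q22846, e3 q23591 L754384 q22866, e3 q23592 (flp_g L764228) q24600, e3 q23593 L754407 q22852, e3 q23594 L754421 q22820, e3 q23595 L754430 q22858, e3 q23596 L754445 q22823, e3 q23597 L754458 q22824, e3 q23598 L754467 q22815, e3 q23599 L754475 q22827, e3 q23600 L754482 q22860, e3 q23601 L754494 q22818, e3 q23602 L754502 q22830, e3 q23603 L754514 q22265, e3 q23604 L754531 q22437, e3 q23605 L754548 q22453, e3 q23606 (flp_g L765326) q24684, e3 q23607 (flp_g L765340) q24685, e3 q23608 (flp_g L765885) q24728, e3 q23609 (flp_g L766455) q24777, e3 q23610 L754606 q22392, e3 q23611 L754622 q22933, e3 q23612 L754636 q22934, e3 q23613 L754650 q22935, e3 q23614 L754655 q22936, e3 q23615 (flp_g L761490) q24405, trivial⟩ (by decide +kernel)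

theorem ce_g_369 : ∀ r, r < 64 → sm gg (Qf (23616 + r)) = Qf (tab Gen.g (23616 + r)) :=
  edges_tab (sm gg) Qf (tab Gen.g) 23616 [(23616, 22937), (23617, 22938), (23618, 22275), (23619, 24793), (23620, 22939), (23621, 24729), (23622, 22287), (23623, 22931), (23624, 24757), (23625, 22285), (23626, 24798), (23627, 24800), (23628, 24726), (23629, 22298), (23630, 22429), (23631, 24713), (23632, 22993), (23633, 24540), (23634, 24714), (23635, 24698), (23636, 24699), (23637, 24744), (23638, 24803), (23639, 22401), (23640, 22951), (23641, 24515), (23642, 22421), (23643, 22953), (23644, 24665), (23645, 22955), (23646, 22956), (23647, 24434), (23648, 24535), (23649, 22957), (23650, 22958), (23651, 22313), (23652, 24828), (23653, 22961), (23654, 22962), (23655, 24834), (23656, 24731), (23657, 22318), (23658, 24836), (23659, 24837), (23660, 22967), (23661, 24692), (23662, 24746), (23663, 24666), (23664, 22336), (23665, 22333), (23666, 22327), (23667, 24843), (23668, 24844), (23669, 24736), (23670, 22330), (23671, 22334), (23672, 24822),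 (23673, 22342), (23674, 22357), (23675, 24848), (23676, 23012), (23677, 24545), (23678, 24547), (23679, 22406)]
    ⟨e3 q23616 L754671 q22937, e3 q23617 L754677 q22938, e3 q23618 L754690 q22275, e3 q23619 (flp_g L766622) q24793, e3 q23620 L754702 q22939, e3 q23621 (flp_g L765899) q24729, e3 q23622 L754725 q22287, e3 q23623 L754742 q22931, e3 q23624 (flp_g L766216) q24757, e3 q23625 L754757 q22285, e3 q23626 (flp_g L766670) q24798, e3 q23627 (flp_g L766686) q24800, e3 q23628 (flp_g L765859) q24726, e3 q23629 L754784 q22298, e3 q23630 L754801 q22429, e3 q23631 (flp_g L765678) q24713, e3 q23632 L754830 q22993, e3 q23633 (flp_g L763440) q24540, e3 q23634 (flp_g L765694) q24714, e3 q23635 (flp_g L765495) q24698, e3 q23636 (flp_g L765507) q24699, e3 q23637 (flp_g L766069) q24744, e3 q23638 (flp_g L766712) q24803, e3 q23639 L754900 q22401, e3 q23640 L754914 q22951, e3 q23641 (flp_g L763078) q24515, e3 q23642 L754943 q22421, e3 q23643 L754955 q22953, e3 q23644 (flp_g L765047) q24665, e3 q23645 L754979 q22955, e3 q23646 L754989 q22956,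 e3 q23647 (flp_g L761934) q24434, e3 q23648 (flp_g L763368) q24535, e3 q23649 L755015 q22957, e3 q23650 L755021 q22958, e3 q23651 L755033 q22313, e3 q23652 (flp_g L766966) q24828, e3 q23653 L755041 q22961, e3 q23654 L755047 q22962, e3 q23655 L766994 q24834, e3 q23656 (flp_g L765931) q24731, e3 q23657 L755069 q22318, e3 q23658 (flp_g L767018) q24836, e3 q23659 (flp_g L767024) q24837, e3 q23660 L755087 q22967, e3 q23661 (flp_g L765424) q24692, e3 q23662 (flp_g L766095) q24746, e3 q23663 (flp_g L765061) q24666, e3 q23664 L755131 q22336, e3 q23665 L755150 q22333, e3 q23666 L755158 q22327, e3 q23667 (flp_g L767087) q24843, e3 q23668 (flp_g L767093) q24844, e3 q23669 (flp_g L765985) q24736, e3 q23670 (flp_g L755178) q22330, e3 q23671 L755188 q22334, e3 q23672 (flp_g L766923) q24822, e3 q23673 L755208 q22342, e3 q23674 L755219 q22357, e3 q23675 (flp_g L767118) q24848, e3 q23676 L755239 q23012, e3 q23677 (flp_g L763498) q24545, e3 q23678 (flp_g L763532) q24547, e3 q23679 L755272 q22406, trivial⟩ (by decide +kernel)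

theorem ce_g_370 : ∀ r, r < 64 → sm gg (Qf (23680 + r)) = Qf (tab Gen.g (23680 + r)) :=
  edges_tab (sm gg) Qf (tab Gen.g) 23680 [(23680, 22413), (23681, 22422), (23682, 22973), (23683, 22974), (23684, 22976), (23685, 22822), (23686, 22977), (23687, 22872), (23688, 24849), (23689, 24719), (23690, 22754), (23691, 22764), (23692, 22757), (23693, 23693), (23694, 22367), (23695, 24865), (23696, 24523), (23697, 22982), (23698, 24525), (23699, 24677), (23700, 24511), (23701, 22395), (23702, 22405), (23703, 24520), (23704, 22983), (23705, 24678), (23706, 22384), (23707, 24679), (23708, 24877), (23709, 24521), (23710, 22987), (23711, 24680), (23712, 24522), (23713, 22394), (23714, 24784), (23715, 22396), (23716, 24884), (23717, 24872), (23718, 24886), (23719, 23005), (23720, 23007), (23721, 24512), (23722, 23009), (23723, 24814), (23724, 22403), (23725, 24896), (23726, 24897), (23727, 23011), (23728, 24873), (23729, 24853), (23730, 22409), (23731, 24624), (23732, 22412), (23733, 24433), (23734, 24653), (23735, 22996), (23736, 22986),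 (23737, 22423), (23738, 24817), (23739, 24854), (23740, 24907), (23741, 23006), (23742, 23008), (23743, 23016)]
    ⟨e3 q23680 L755283 q22413, e3 q23681 L755297 q22422, e3 q23682 L755308 q22973, e3 q23683 L755322 q22974, e3 q23684 L755332 q22976, e3 q23685 L755342 q22822, e3 q23686 L755352 q22977, e3 q23687 L755364 q22872, e3 q23688 (flp_g L767132) q24849, e3 q23689 (flp_g L765748) q24719, e3 q23690 L755399 q22754, e3 q23691 L755411 q22764, e3 q23692 L755424 q22757, e3 q23693 L755436 q23693, e3 q23694 L755454 q22367, e3 q23695 (flp_g L767313) q24865, e3 q23696 (flp_g L763193) q24523, e3 q23697 L755484 q22982, e3 q23698 (flp_g L763217) q24525, e3 q23699 (flp_g L765230) q24677, e3 q23700 (flp_g L763010) q24511, e3 q23701 L755529 q22395, e3 q23702 L755536 q22405, e3 q23703 (flp_g L763152) q24520, e3 q23704 L755553 q22983, e3 q23705 (flp_g L765247) q24678, e3 q23706 L755582 q22384, e3 q23707 (flp_g L765259) q24679, e3 q23708 (flp_g L767439) q24877, e3 q23709 (flp_g L763166) q24521, e3 q23710 L755626 q22987, e3 q23711 (flp_g L765268)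 q24680, e3 q23712 (flp_g L763178) q24522, e3 q23713 L755666 q22394, e3 q23714 (flp_g L766539) q24784, e3 q23715 L755683 q22396, e3 q23716 (flp_g L767518) q24884, e3 q23717 (flp_g L767388) q24872, e3 q23718 (flp_g L767542) q24886, e3 q23719 L755725 q23005, e3 q23720 L755743 q23007, e3 q23721 (flp_g L763024) q24512, e3 q23722 L755775 q23009, e3 q23723 (flp_g L766828) q24814, e3 q23724 L755799 q22403, e3 q23725 (flp_g L767658) q24896, e3 q23726 (flp_g L767664) q24897, e3 q23727 L755815 q23011, e3 q23728 (flp_g L767398) q24873, e3 q23729 (flp_g L767172) q24853, e3 q23730 L755843 q22409, e3 q23731 (flp_g L764523) q24624, e3 q23732 L755865 q22412, e3 q23733 (flp_g L761912) q24433, e3 q23734 (flp_g L764861) q24653, e3 q23735 L755898 q22996, e3 q23736 L755908 q22986, e3 q23737 L755920 q22423, e3 q23738 (flp_g L766865) q24817, e3 q23739 (flp_g L767185) q24854, e3 q23740 (flp_g L767750) q24907, e3 q23741 L755960 q23006, e3 q23742 L755966 q23008, e3 q23743 L755970 q23016, trivial⟩ (by decide +kernel)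

theorem ce_g_371 : ∀ r, r < 64 → sm gg (Qf (23744 + r)) = Qf (tab Gen.g (23744 + r)) :=
  edges_tab (sm gg) Qf (tab Gen.g) 23744 [(23744, 23010), (23745, 24804), (23746, 22994), (23747, 24439), (23748, 23017), (23749, 23018), (23750, 24442), (23751, 23019), (23752, 24778), (23753, 22442), (23754, 22441), (23755, 24924), (23756, 24923), (23757, 24455), (23758, 23021), (23759, 22446), (23760, 24930), (23761, 23761), (23762, 24462), (23763, 24463), (23764, 24762), (23765, 22459), (23766, 24779), (23767, 22462), (23768, 24763), (23769, 24628), (23770, 22458), (23771, 24940), (23772, 24935), (23773, 22461), (23774, 24943), (23775, 24937), (23776, 22578), (23777, 23029), (23778, 23030), (23779, 24475), (23780, 24476), (23781, 23031), (23782, 23032), (23783, 24479), (23784, 23033), (23785, 24483), (23786, 24484), (23787, 23034), (23788, 22475), (23789, 24960), (23790, 23790), (23791, 22478), (23792, 24963), (23793, 24964), (23794, 24493), (23795, 24494), (23796, 24497), (23797, 22485), (23798, 22486), (23799, 24968), (23800, 24502),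 (23801, 22525), (23802, 22621), (23803, 22502), (23804, 22536), (23805, 23119), (23806, 23055), (23807, 24616)]
    ⟨e3 q23744 L755975 q23010, e3 q23745 (flp_g L766731) q24804, e3 q23746 L756002 q22994, e3 q23747 (flp_g L762017) q24439, e3 q23748 L756031 q23017, e3 q23749 L756042 q23018, e3 q23750 (flp_g L762058) q24442, e3 q23751 L756061 q23019, e3 q23752 (flp_g L766478) q24778, e3 q23753 L756092 q22442, e3 q23754 L756106 q22441, e3 q23755 (flp_g L767928) q24924, e3 q23756 (flp_g L767910) q24923, e3 q23757 (flp_g L762253) q24455, e3 q23758 L756146 q23021, e3 q23759 L756159 q22446, e3 q23760 (flp_g L767989) q24930, e3 q23761 L756180 q23761, e3 q23762 (flp_g L762348) q24462, e3 q23763 (flp_g L762363) q24463, e3 q23764 (flp_g L766291) q24762, e3 q23765 L756233 q22459, e3 q23766 (flp_g L766491) q24779, e3 q23767 L756252 q22462, e3 q23768 (flp_g L766308) q24763, e3 q23769 (flp_g L764575) q24628, e3 q23770 L756291 q22458, e3 q23771 (flp_g L768111) q24940, e3 q23772 (flp_g L768050) q24935, e3 q23773 L756327 q22461, e3 q23774 (flp_g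 L768143) q24943, e3 q23775 (flp_g L768070) q24937, e3 q23776 L756355 q22578, e3 q23777 L756365 q23029, e3 q23778 L756375 q23030, e3 q23779 (flp_g L762539) q24475, e3 q23780 (flp_g L762554) q24476, e3 q23781 L756411 q23031, e3 q23782 L756421 q23032, e3 q23783 (flp_g L762590) q24479, e3 q23784 L756441 q23033, e3 q23785 (flp_g L762628) q24483, e3 q23786 (flp_g L762636) q24484, e3 q23787 L756461 q23034, e3 q23788 L756472 q22475, e3 q23789 (flp_g L768305) q24960, e3 q23790 L756495 q23790, e3 q23791 L756508 q22478, e3 q23792 (flp_g L768341) q24963, e3 q23793 (flp_g L768349) q24964, e3 q23794 (flp_g L762750) q24493, e3 q23795 (flp_g L762765) q24494, e3 q23796 (flp_g L762809) q24497, e3 q23797 L756563 q22485, e3 q23798 L756571 q22486, e3 q23799 (flp_g L768386) q24968, e3 q23800 (flp_g L762877) q24502, e3 q23801 L756598 q22525, e3 q23802 L756613 q22621, e3 q23803 L756627 q22502, e3 q23804 L756645 q22536, e3 q23805 L756656 q23119, e3 q23806 L756673 q23055, e3 q23807 (flp_g L764413) q24616, trivial⟩ (by decide +kernel)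

theorem ce_g_372 : ∀ r, r < 64 → sm gg (Qf (23808 + r)) = Qf (tab Gen.g (23808 + r)) :=
  edges_tab (sm gg) Qf (tab Gen.g) 23808 [(23808, 24641), (23809, 22501), (23810, 24976), (23811, 24972), (23812, 23035), (23813, 23036), (23814, 23037), (23815, 24550), (23816, 23038), (23817, 23039), (23818, 24548), (23819, 23040), (23820, 23041), (23821, 22513), (23822, 24989), (23823, 23042), (23824, 23043), (23825, 22517), (23826, 24994), (23827, 23044), (23828, 22528), (23829, 22522), (23830, 24999), (23831, 22532), (23832, 24581), (23833, 22527), (23834, 25003), (23835, 24998), (23836, 22542), (23837, 22531), (23838, 25007), (23839, 25001), (23840, 23056), (23841, 23058), (23842, 24557), (23843, 24973), (23844, 23063), (23845, 23064), (23846, 22540), (23847, 25017), (23848, 23068), (23849, 25006), (23850, 22544), (23851, 25022), (23852, 25023), (23853, 23072), (23854, 22547), (23855, 25027), (23856, 22556), (23857, 22551), (23858, 25029), (23859, 25030), (23860, 23860), (23861, 23137), (23862, 24648), (23863, 25028), (23864, 22558),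 (23865, 22559), (23866, 22638), (23867, 25035), (23868, 23868), (23869, 22579), (23870, 22585), (23871, 22568)]
    ⟨e3 q23808 L764701 q24641, e3 q23809 L756705 q22501, e3 q23810 (flp_g L768476) q24976, e3 q23811 (flp_g L768424) q24972, e3 q23812 L756730 q23035, e3 q23813 L756741 q23036, e3 q23814 L756759 q23037, e3 q23815 (flp_g L763587) q24550, e3 q23816 L756780 q23038, e3 q23817 L756787 q23039, e3 q23818 (flp_g L763555) q24548, e3 q23819 L756819 q23040, e3 q23820 L756831 q23041, e3 q23821 L756842 q22513, e3 q23822 (flp_g L768616) q24989, e3 q23823 L756853 q23042, e3 q23824 L756857 q23043, e3 q23825 L756868 q22517, e3 q23826 (flp_g L768647) q24994, e3 q23827 L756880 q23044, e3 q23828 L756892 q22528, e3 q23829 L756907 q22522, e3 q23830 (flp_g L768691) q24999, e3 q23831 L756920 q22532, e3 q23832 (flp_g L763985) q24581, e3 q23833 L756952 q22527, e3 q23834 (flp_g L768737) q25003, e3 q23835 (flp_g L768674) q24998, e3 q23836 L756990 q22542, e3 q23837 L756998 q22531, e3 q23838 (flp_g L768785) q25007, e3 q23839 (flp_g L768705)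 q25001, e3 q23840 L757024 q23056, e3 q23841 L757032 q23058, e3 q23842 (flp_g L763692) q24557, e3 q23843 (flp_g L768442) q24973, e3 q23844 L757070 q23063, e3 q23845 L757080 q23064, e3 q23846 L757100 q22540, e3 q23847 (flp_g L768893) q25017, e3 q23848 L757118 q23068, e3 q23849 (flp_g L768777) q25006, e3 q23850 L757138 q22544, e3 q23851 (flp_g L768939) q25022, e3 q23852 (flp_g L768945) q25023, e3 q23853 L757156 q23072, e3 q23854 L757169 q22547, e3 q23855 (flp_g L768976) q25027, e3 q23856 L757196 q22556, e3 q23857 L757205 q22551, e3 q23858 (flp_g L769001) q25029, e3 q23859 (flp_g L769010) q25030, e3 q23860 L757234 q23860, e3 q23861 L757252 q23137, e3 q23862 (flp_g L764793) q24648, e3 q23863 (flp_g L768991) q25028, e3 q23864 L757283 q22558, e3 q23865 L757294 q22559, e3 q23866 L757305 q22638, e3 q23867 (flp_g L769067) q25035, e3 q23868 L757325 q23868, e3 q23869 L757343 q22579, e3 q23870 L757353 q22585, e3 q23871 L757370 q22568, trivial⟩ (by decide +kernel)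

theorem ce_g_373 : ∀ r, r < 64 → sm gg (Qf (23872 + r)) = Qf (tab Gen.g (23872 + r)) :=
  edges_tab (sm gg) Qf (tab Gen.g) 23872 [(23872, 25040), (23873, 22589), (23874, 22590), (23875, 22572), (23876, 25045), (23877, 22594), (23878, 23050), (23879, 22842), (23880, 24947), (23881, 25038), (23882, 22583), (23883, 22834), (23884, 25052), (23885, 23025), (23886, 25039), (23887, 22610), (23888, 22588), (23889, 25058), (23890, 25042), (23891, 25043), (23892, 22616), (23893, 22593), (23894, 25064), (23895, 25065), (23896, 25048), (23897, 23097), (23898, 22597), (23899, 25070), (23900, 23090), (23901, 22600), (23902, 25073), (23903, 23101), (23904, 23087), (23905, 24721), (23906, 22606), (23907, 22607), (23908, 25079), (23909, 25080), (23910, 23106), (23911, 23107), (23912, 23086), (23913, 25057), (23914, 22612), (23915, 25090), (23916, 25091), (23917, 23112), (23918, 23113), (23919, 24453), (23920, 25063), (23921, 22618), (23922, 22619), (23923, 25100), (23924, 25101), (23925, 23118), (23926, 24971), (23927, 22636), (23928, 22625),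 (23929, 25107), (23930, 25108), (23931, 22641), (23932, 22630), (23933, 22631), (23934, 25112), (23935, 25113)]
    ⟨e3 q23872 (flp_g L769132) q25040, e3 q23873 L757383 q22589, e3 q23874 L757395 q22590, e3 q23875 L757408 q22572, e3 q23876 (flp_g L769187) q25045, e3 q23877 L757418 q22594, e3 q23878 L757430 q23050, e3 q23879 L757449 q22842, e3 q23880 (flp_g L768175) q24947, e3 q23881 (flp_g L769101) q25038, e3 q23882 L757480 q22583, e3 q23883 L757493 q22834, e3 q23884 (flp_g L769239) q25052, e3 q23885 L757512 q23025, e3 q23886 (flp_g L769113) q25039, e3 q23887 L757532 q22610, e3 q23888 L757542 q22588, e3 q23889 (flp_g L769302) q25058, e3 q23890 (flp_g L769144) q25042, e3 q23891 (flp_g L769156) q25043, e3 q23892 L757570 q22616, e3 q23893 L757576 q22593, e3 q23894 (flp_g L769344) q25064, e3 q23895 (flp_g L769348) q25065, e3 q23896 (flp_g L769202) q25048, e3 q23897 L757598 q23097, e3 q23898 L757611 q22597, e3 q23899 (flp_g L769383) q25070, e3 q23900 L757624 q23090, e3 q23901 L757642 q22600, e3 q23902 (flp_g L769409) q25073, e3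 q23903 L757654 q23101, e3 q23904 L757660 q23087, e3 q23905 (flp_g L765784) q24721, e3 q23906 L757686 q22606, e3 q23907 L757693 q22607, e3 q23908 (flp_g L769455) q25079, e3 q23909 (flp_g L769463) q25080, e3 q23910 L757710 q23106, e3 q23911 L757716 q23107, e3 q23912 L757726 q23086, e3 q23913 (flp_g L769294) q25057, e3 q23914 L757746 q22612, e3 q23915 (flp_g L769540) q25090, e3 q23916 (flp_g L769546) q25091, e3 q23917 L757762 q23112, e3 q23918 L757770 q23113, e3 q23919 (flp_g L762228) q24453, e3 q23920 (flp_g L769338) q25063, e3 q23921 L757794 q22618, e3 q23922 L757798 q22619, e3 q23923 (flp_g L769616) q25100, e3 q23924 (flp_g L769622) q25101, e3 q23925 L757812 q23118, e3 q23926 (flp_g L768409) q24971, e3 q23927 L757830 q22636, e3 q23928 L757839 q22625, e3 q23929 (flp_g L769658) q25107, e3 q23930 (flp_g L769667) q25108, e3 q23931 L757861 q22641, e3 q23932 L757870 q22630, e3 q23933 L757876 q22631, e3 q23934 (flp_g L769703) q25112, e3 q23935 (flp_g L769715) q25113, trivial⟩ (by decide +kernel)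

theorem ce_g_374 : ∀ r, r < 64 → sm gg (Qf (23936 + r)) = Qf (tab Gen.g (23936 + r)) :=
  edges_tab (sm gg) Qf (tab Gen.g) 23936 [(23936, 23936), (23937, 23141), (23938, 24599), (23939, 25106), (23940, 22639), (23941, 25036), (23942, 24454), (23943, 25110), (23944, 25111), (23945, 22645), (23946, 22765), (23947, 22851), (23948, 25122), (23949, 23949), (23950, 24461), (23951, 22657), (23952, 22658), (23953, 22654), (23954, 22655), (23955, 24903), (23956, 25128), (23957, 25129), (23958, 25130), (23959, 25127), (23960, 22662), (23961, 22777), (23962, 22882), (23963, 25136), (23964, 22794), (23965, 23049), (23966, 22821), (23967, 24452), (23968, 24438), (23969, 23132), (23970, 23136), (23971, 23139), (23972, 23140), (23973, 25131), (23974, 22793), (23975, 24403), (23976, 24410), (23977, 24415), (23978, 24663), (23979, 24416), (23980, 24419), (23981, 22693), (23982, 24406), (23983, 25154), (23984, 24667), (23985, 22903), (23986, 23023), (23987, 22714), (23988, 22699), (23989, 25161), (23990, 24423), (23991, 22702), (23992, 25165),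 (23993, 24428), (23994, 24669), (23995, 22707), (23996, 25169), (23997, 24440), (23998, 24441), (23999, 24443)]
    ⟨e3 q23936 L757904 q23936, e3 q23937 L757921 q23141, e3 q23938 (flp_g L764210) q24599, e3 q23939 (flp_g L769648) q25106, e3 q23940 L757941 q22639, e3 q23941 (flp_g L769080) q25036, e3 q23942 (flp_g L762240) q24454, e3 q23943 (flp_g L769684) q25110, e3 q23944 (flp_g L769694) q25111, e3 q23945 L757988 q22645, e3 q23946 L758000 q22765, e3 q23947 L758010 q22851, e3 q23948 (flp_g L769790) q25122, e3 q23949 L758020 q23949, e3 q23950 (flp_g L762340) q24461, e3 q23951 L758038 q22657, e3 q23952 L758048 q22658, e3 q23953 L758059 q22654, e3 q23954 L758070 q22655, e3 q23955 (flp_g L767714) q24903, e3 q23956 (flp_g L769844) q25128, e3 q23957 (flp_g L769857) q25129, e3 q23958 (flp_g L769864) q25130, e3 q23959 (flp_g L769833) q25127, e3 q23960 L758123 q22662, e3 q23961 L758135 q22777, e3 q23962 L758144 q22882, e3 q23963 (flp_g L769927) q25136, e3 q23964 L758156 q22794, e3 q23965 L758170 q23049, e3 q23966 L758184 q22821, e3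 q23967 (flp_g L762218) q24452, e3 q23968 (flp_g L762000) q24438, e3 q23969 L758220 q23132, e3 q23970 L758234 q23136, e3 q23971 L758242 q23139, e3 q23972 L758250 q23140, e3 q23973 (flp_g L769874) q25131, e3 q23974 L758265 q22793, e3 q23975 (flp_g L761451) q24403, e3 q23976 (flp_g L761564) q24410, e3 q23977 (flp_g L761643) q24415, e3 q23978 (flp_g L765009) q24663, e3 q23979 (flp_g L761661) q24416, e3 q23980 (flp_g L761709) q24419, e3 q23981 L758349 q22693, e3 q23982 (flp_g L761502) q24406, e3 q23983 (flp_g L770112) q25154, e3 q23984 (flp_g L765082) q24667, e3 q23985 L758393 q22903, e3 q23986 L758410 q23023, e3 q23987 L758420 q22714, e3 q23988 L758436 q22699, e3 q23989 (flp_g L770194) q25161, e3 q23990 (flp_g L761767) q24423, e3 q23991 L758456 q22702, e3 q23992 (flp_g L770224) q25165, e3 q23993 (flp_g L761835) q24428, e3 q23994 (flp_g L765110) q24669, e3 q23995 L758493 q22707, e3 q23996 (flp_g L770261) q25169, e3 q23997 (flp_g L762029) q24440, e3 q23998 (flp_g L762040) q24441, e3 q23999 (flp_g L762068) q24443, trivial⟩ (by decide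 +kernel)

theorem ce_g_375 : ∀ r, r < 64 → sm gg (Qf (24000 + r)) = Qf (tab Gen.g (24000 + r)) :=
  edges_tab (sm gg) Qf (tab Gen.g) 24000 [(24000, 24527), (24001, 24456), (24002, 25160), (24003, 22807), (24004, 24473), (24005, 24474), (24006, 24480), (24007, 24481), (24008, 24485), (24009, 22726), (24010, 24682), (24011, 24524), (24012, 24529), (24013, 24530), (24014, 24531), (24015, 24533), (24016, 22740), (24017, 22741), (24018, 22745), (24019, 22746), (24020, 24724), (24021, 22748), (24022, 25188), (24023, 25189), (24024, 24720), (24025, 23108), (24026, 24722), (24027, 25190), (24028, 25191), (24029, 24725), (24030, 25193), (24031, 23085), (24032, 23114), (24033, 23130), (24034, 23080), (24035, 23088), (24036, 24862), (24037, 24538), (24038, 24539), (24039, 25123), (24040, 24864), (24041, 24544), (24042, 24042), (24043, 24723), (24044, 25220), (24045, 23126), (24046, 24863), (24047, 22768), (24048, 22771), (24049, 25221), (24050, 23128), (24051, 23152), (24052, 25226), (24053, 23120), (24054, 23154), (24055, 23153), (24056,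 23156), (24057, 23122), (24058, 25137), (24059, 25144), (24060, 22779), (24061, 24558), (24062, 24559), (24063, 24560)]
    ⟨e3 q24000 (flp_g L763250) q24527, e3 q24001 (flp_g L762263) q24456, e3 q24002 (flp_g L770182) q25160, e3 q24003 L758598 q22807, e3 q24004 (flp_g L762502) q24473, e3 q24005 (flp_g L762516) q24474, e3 q24006 (flp_g L762598) q24480, e3 q24007 (flp_g L762606) q24481, e3 q24008 (flp_g L762646) q24485, e3 q24009 (flp_g L758636) q22726, e3 q24010 (flp_g L765294) q24682, e3 q24011 (flp_g L763207) q24524, e3 q24012 (flp_g L763281) q24529, e3 q24013 (flp_g L763295) q24530, e3 q24014 (flp_g L763309) q24531, e3 q24015 (flp_g L763338) q24533, e3 q24016 L758712 q22740, e3 q24017 L758723 q22741, e3 q24018 L758735 q22745, e3 q24019 L758744 q22746, e3 q24020 (flp_g L765829) q24724, e3 q24021 L758763 q22748, e3 q24022 (flp_g L770441) q25188, e3 q24023 (flp_g L770452) q25189, e3 q24024 (flp_g L765767) q24720, e3 q24025 L758806 q23108, e3 q24026 (flp_g L765798) q24722, e3 q24027 (flp_g L770462) q25190, e3 q24028 (flp_g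 L770474) q25191, e3 q24029 (flp_g L765839) q24725, e3 q24030 (flp_g L770492) q25193, e3 q24031 L758870 q23085, e3 q24032 L758876 q23114, e3 q24033 L758882 q23130, e3 q24034 L758895 q23080, e3 q24035 L758901 q23088, e3 q24036 (flp_g L767278) q24862, e3 q24037 (flp_g L763404) q24538, e3 q24038 (flp_g L763418) q24539, e3 q24039 (flp_g L769800) q25123, e3 q24040 (flp_g L767305) q24864, e3 q24041 (flp_g L763488) q24544, e3 q24042 L758953 q24042, e3 q24043 (flp_g L765811) q24723, e3 q24044 L770718 q25220, e3 q24045 L758989 q23126, e3 q24046 (flp_g L767292) q24863, e3 q24047 L759005 q22768, e3 q24048 L759016 q22771, e3 q24049 (flp_g L770733) q25221, e3 q24050 L759035 q23128, e3 q24051 L759049 q23152, e3 q24052 L770789 q25226, e3 q24053 L759072 q23120, e3 q24054 L759079 q23154, e3 q24055 L759087 q23153, e3 q24056 L759101 q23156, e3 q24057 L759107 q23122, e3 q24058 (flp_g L769937) q25137, e3 q24059 (flp_g L770002) q25144, e3 q24060 (flp_g L759131) q22779, e3 q24061 (flp_g L763705) q24558, e3 q24062 (flp_g L763719) q24559, e3 q24063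 (flp_g L763728) q24560, trivial⟩ (by decide +kernel)

theorem ce_g_376 : ∀ r, r < 64 → sm gg (Qf (24064 + r)) = Qf (tab Gen.g (24064 + r)) :=
  edges_tab (sm gg) Qf (tab Gen.g) 24064 [(24064, 24561), (24065, 24563), (24066, 24564), (24067, 24566), (24068, 22796), (24069, 22797), (24070, 22798), (24071, 22799), (24072, 24551), (24073, 25141), (24074, 24856), (24075, 24445), (24076, 25239), (24077, 25240), (24078, 25241), (24079, 25242), (24080, 24578), (24081, 23096), (24082, 24579), (24083, 24580), (24084, 24604), (24085, 24582), (24086, 24583), (24087, 25176), (24088, 24585), (24089, 24586), (24090, 22811), (24091, 25262), (24092, 24592), (24093, 24772), (24094, 22828), (24095, 22829), (24096, 24775), (24097, 22831), (24098, 24768), (24099, 25142), (24100, 24858), (24101, 24770), (24102, 24771), (24103, 24446), (24104, 24466), (24105, 24773), (24106, 25266), (24107, 25267), (24108, 25285), (24109, 24776), (24110, 25271), (24111, 23057), (24112, 24617), (24113, 25053), (24114, 24619), (24115, 24620), (24116, 22838), (24117,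 25294), (24118, 24622), (24119, 24623), (24120, 22843), (24121, 25044), (24122, 25299), (24123, 24625), (24124, 24626), (24125, 24627), (24126, 24764), (24127, 22848)]
    ⟨e3 q24064 (flp_g L763740) q24561, e3 q24065 (flp_g L763761) q24563, e3 q24066 (flp_g L763769) q24564, e3 q24067 (flp_g L763788) q24566, e3 q24068 L759220 q22796, e3 q24069 L759228 q22797, e3 q24070 L759235 q22798, e3 q24071 L759246 q22799, e3 q24072 (flp_g L763604) q24551, e3 q24073 (flp_g L769968) q25141, e3 q24074 (flp_g L767211) q24856, e3 q24075 (flp_g L762107) q24445, e3 q24076 (flp_g L770912) q25239, e3 q24077 (flp_g L770916) q25240, e3 q24078 (flp_g L770924) q25241, e3 q24079 (flp_g L770931) q25242, e3 q24080 (flp_g L763942) q24578, e3 q24081 L759352 q23096, e3 q24082 (flp_g L763956) q24579, e3 q24083 (flp_g L763968) q24580, e3 q24084 (flp_g L764271) q24604, e3 q24085 (flp_g L764002) q24582, e3 q24086 (flp_g L764010) q24583, e3 q24087 (flp_g L770343) q25176, e3 q24088 (flp_g L764032) q24585, e3 q24089 (flp_g L764040) q24586, e3 q24090 L759416 q22811,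 e3 q24091 (flp_g L771099) q25262, e3 q24092 (flp_g L764107) q24592, e3 q24093 (flp_g L766414) q24772, e3 q24094 L759447 q22828, e3 q24095 L759453 q22829, e3 q24096 (flp_g L766437) q24775, e3 q24097 L759465 q22831, e3 q24098 (flp_g L766369) q24768, e3 q24099 (flp_g L769980) q25142, e3 q24100 (flp_g L767235) q24858, e3 q24101 (flp_g L766396) q24770, e3 q24102 (flp_g L766405) q24771, e3 q24103 (flp_g L762123) q24446, e3 q24104 (flp_g L762408) q24466, e3 q24105 (flp_g L766420) q24773, e3 q24106 (flp_g L771129) q25266, e3 q24107 (flp_g L771135) q25267, e3 q24108 L771260 q25285, e3 q24109 (flp_g L766445) q24776, e3 q24110 (flp_g L771157) q25271, e3 q24111 L759587 q23057, e3 q24112 (flp_g L764427) q24617, e3 q24113 (flp_g L769252) q25053, e3 q24114 (flp_g L764459) q24619, e3 q24115 (flp_g L764471) q24620, e3 q24116 L759628 q22838, e3 q24117 (flp_g L771336) q25294, e3 q24118 (flp_g L764497) q24622, e3 q24119 (flp_g L764505) q24623, e3 q24120 L759657 q22843, e3 q24121 (flp_g L769181) q25044, e3 q24122 (flp_g L771368) q25299, e3 q24123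 (flp_g L764531) q24625, e3 q24124 (flp_g L764543) q24626, e3 q24125 (flp_g L764555) q24627, e3 q24126 (flp_g L766320) q24764, e3 q24127 L759696 q22848, trivial⟩ (by decide +kernel)

theorem ce_g_377 : ∀ r, r < 64 → sm gg (Qf (24128 + r)) = Qf (tab Gen.g (24128 + r)) :=
  edges_tab (sm gg) Qf (tab Gen.g) 24128 [(24128, 25309), (24129, 25310), (24130, 24631), (24131, 24632), (24132, 25124), (24133, 24767), (24134, 22854), (24135, 25317), (24136, 24640), (24137, 24549), (24138, 24138), (24139, 24769), (24140, 24774), (24141, 22861), (24142, 23074), (24143, 24587), (24144, 24765), (24145, 22868), (24146, 25138), (24147, 24447), (24148, 24467), (24149, 25325), (24150, 22876), (24151, 24657), (24152, 24658), (24153, 24659), (24154, 25139), (24155, 24668), (24156, 24711), (24157, 24672), (24158, 24673), (24159, 24675), (24160, 24754), (24161, 22932), (24162, 24761), (24163, 22995), (24164, 24686), (24165, 24687), (24166, 24688), (24167, 24691), (24168, 24755), (24169, 25158), (24170, 22988), (24171, 24715), (24172, 22997), (24173,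 24700), (24174, 24716), (24175, 24701), (24176, 24702), (24177, 25351), (24178, 24718), (24179, 24707), (24180, 24717), (24181, 24737), (24182, 22915), (24183, 23014), (24184, 24710), (24185, 24969), (24186, 22920), (24187, 24730), (24188, 24732), (24189, 24733), (24190, 24735), (24191, 22927)]
    ⟨e3 q24128 (flp_g L771421) q25309, e3 q24129 (flp_g L771427) q25310, e3 q24130 (flp_g L764615) q24631, e3 q24131 (flp_g L764621) q24632, e3 q24132 (flp_g L769810) q25124, e3 q24133 (flp_g L766353) q24767, e3 q24134 L759728 q22854, e3 q24135 (flp_g L771459) q25317, e3 q24136 (flp_g L764683) q24640, e3 q24137 (flp_g L763568) q24549, e3 q24138 L759760 q24138, e3 q24139 (flp_g L766378) q24769, e3 q24140 (flp_g L766426) q24774, e3 q24141 (flp_g L759784) q22861, e3 q24142 L759797 q23074, e3 q24143 L764057 q24587, e3 q24144 (flp_g L766331) q24765, e3 q24145 L759816 q22868, e3 q24146 (flp_g L769946) q25138, e3 q24147 (flp_g L762137) q24447, e3 q24148 (flp_g L762422) q24467, e3 q24149 L771521 q25325, e3 q24150 (flp_g L759847) q22876, e3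 q24151 (flp_g L764916) q24657, e3 q24152 (flp_g L764931) q24658, e3 q24153 (flp_g L764943) q24659, e3 q24154 (flp_g L769954) q25139, e3 q24155 (flp_g L765094) q24668, e3 q24156 (flp_g L765645) q24711, e3 q24157 (flp_g L765155) q24672, e3 q24158 (flp_g L765169) q24673, e3 q24159 (flp_g L765197) q24675, e3 q24160 (flp_g L766173) q24754, e3 q24161 L759942 q22932, e3 q24162 (flp_g L766276) q24761, e3 q24163 L759959 q22995, e3 q24164 (flp_g L765356) q24686, e3 q24165 (flp_g L765364) q24687, e3 q24166 (flp_g L765372) q24688, e3 q24167 (flp_g L765405) q24691, e3 q24168 (flp_g L766181) q24755, e3 q24169 (flp_g L770156) q25158, e3 q24170 L760003 q22988, e3 q24171 (flp_g L765709) q24715, e3 q24172 L760018 q22997, e3 q24173 (flp_g L765521) q24700, e3 q24174 (flp_g L765719) q24716, e3 q24175 (flp_g L765531) q24701, e3 q24176 (flp_g L765537) q24702, e3 q24177 L771701 q25351, e3 q24178 (flp_g L765734) q24718, e3 q24179 (flp_g L765587) q24707, e3 q24180 (flp_g L765727) q24717, e3 q24181 (flp_g L765993) q24737, e3 q24182 (flp_g L760066)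 q22915, e3 q24183 L760077 q23014, e3 q24184 (flp_g L765629) q24710, e3 q24185 (flp_g L768397) q24969, e3 q24186 (flp_g L760092) q22920, e3 q24187 (flp_g L765915) q24730, e3 q24188 (flp_g L765941) q24732, e3 q24189 (flp_g L765949) q24733, e3 q24190 (flp_g L765966) q24735, e3 q24191 L760131 q22927, trivial⟩ (by decide +kernel)

theorem ce_g_378 : ∀ r, r < 64 → sm gg (Qf (24192 + r)) = Qf (tab Gen.g (24192 + r)) :=
  edges_tab (sm gg) Qf (tab Gen.g) 24192 [(24192, 25361), (24193, 24748), (24194, 24749), (24195, 24799), (24196, 24753), (24197, 24785), (24198, 24786), (24199, 24787), (24200, 24788), (24201, 24790), (24202, 24791), (24203, 24756), (24204, 24796), (24205, 24694), (24206, 22948), (24207, 22949), (24208, 24418), (24209, 22950), (24210, 24674), (24211, 24676), (24212, 25377), (24213, 25378), (24214, 25381), (24215, 24815), (24216, 24431), (24217, 24818), (24218, 24683), (24219, 24820), (24220, 24821), (24221, 24709), (24222, 24825), (24223, 24826), (24224, 24827), (24225, 22960), (24226, 25399), (24227, 24417), (24228,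 24831), (24229, 24832), (24230, 25405), (24231, 22963), (24232, 22966), (24233, 25406), (24234, 24840), (24235, 24855), (24236, 24857), (24237, 24681), (24238, 22981), (24239, 25409), (24240, 24869), (24241, 24875), (24242, 22985), (24243, 25413), (24244, 24906), (24245, 24882), (24246, 25341), (24247, 22998), (24248, 22991), (24249, 25419), (24250, 23001), (24251, 24806), (24252, 24916), (24253, 25334), (24254, 24905), (24255, 25343)]
    ⟨e3 q24192 (flp_g L771774) q25361, e3 q24193 (flp_g L766111) q24748, e3 q24194 (flp_g L766119) q24749, e3 q24195 (flp_g L766678) q24799, e3 q24196 (flp_g L766153) q24753, e3 q24197 (flp_g L766551) q24785, e3 q24198 (flp_g L766565) q24786, e3 q24199 (flp_g L766575) q24787, e3 q24200 (flp_g L766581) q24788, e3 q24201 (flp_g L766595) q24790, e3 q24202 (flp_g L766603) q24791, e3 q24203 (flp_g L766196) q24756, e3 q24204 (flp_g L766642) q24796, e3 q24205 (flp_g L765449) q24694, e3 q24206 L760221 q22948, e3 q24207 L760227 q22949, e3 q24208 (flp_g L761697) q24418, e3 q24209 L760239 q22950, e3 q24210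 (flp_g L765185) q24674, e3 q24211 (flp_g L765209) q24676, e3 q24212 (flp_g L771866) q25377, e3 q24213 (flp_g L771872) q25378, e3 q24214 (flp_g L771888) q25381, e3 q24215 (flp_g L766838) q24815, e3 q24216 (flp_g L761881) q24431, e3 q24217 (flp_g L766875) q24818, e3 q24218 (flp_g L765306) q24683, e3 q24219 (flp_g L766895) q24820, e3 q24220 (flp_g L766905) q24821, e3 q24221 (flp_g L765615) q24709, e3 q24222 (flp_g L766942) q24825, e3 q24223 (flp_g L766948) q24826, e3 q24224 (flp_g L766956) q24827, e3 q24225 L760331 q22960, e3 q24226 (flp_g L771988) q25399, e3 q24227 (flp_g L761679) q24417, e3 q24228 (flp_g L766982) q24831, e3 q24229 (flp_g L766988) q24832, e3 q24230 L772018 q25405, e3 q24231 (flp_g L760359) q22963, e3 q24232 L760367 q22966, e3 q24233 (flp_g L772024) q25406, e3 q24234 (flp_g L767048) q24840, e3 q24235 (flp_g L767200) q24855, e3 q24236 (flp_g L767222) q24857, e3 q24237 (flp_g L765284) q24681, e3 q24238 L760403 q22981, e3 q24239 (flp_g L772046) q25409, e3 q24240 (flp_g L767359) q24869, e3 q24241 (flp_g L767416)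 q24875, e3 q24242 L760427 q22985, e3 q24243 (flp_g L772070) q25413, e3 q24244 (flp_g L767742) q24906, e3 q24245 (flp_g L767495) q24882, e3 q24246 (flp_g L771649) q25341, e3 q24247 L760462 q22998, e3 q24248 L760471 q22991, e3 q24249 (flp_g L772112) q25419, e3 q24250 L760483 q23001, e3 q24251 (flp_g L766756) q24806, e3 q24252 (flp_g L767824) q24916, e3 q24253 (flp_g L771599) q25334, e3 q24254 (flp_g L767728) q24905, e3 q24255 (flp_g L771661) q25343, trivial⟩ (by decide +kernel)

theorem ce_g_379 : ∀ r, r < 64 → sm gg (Qf (24256 + r)) = Qf (tab Gen.g (24256 + r)) :=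
  edges_tab (sm gg) Qf (tab Gen.g) 24256 [(24256, 25418), (24257, 23000), (24258, 25430), (24259, 25422), (24260, 24526), (24261, 23020), (24262, 24532), (24263, 24891), (24264, 24911), (24265, 24892), (24266, 24912), (24267, 24913), (24268, 24894), (24269, 24914), (24270, 24900), (24271, 24851), (24272, 25355), (24273, 24534), (24274, 24918), (24275, 24919), (24276, 24921), (24277, 25434), (24278, 24929), (24279, 23026), (24280, 25159), (24281, 23027), (24282, 25055), (24283, 25451), (24284, 25454), (24285, 24584), (24286, 24948), (24287, 24949), (24288, 24952), (24289, 24953), (24290, 24956), (24291, 24959), (24292, 24979), (24293, 24980), (24294, 24981), (24295, 24983), (24296, 24984), (24297, 24985), (24298, 24987), (24299, 24988), (24300, 24991), (24301, 24992), (24302, 24997), (24303, 24562), (24304, 23051), (24305, 24565), (24306, 23052), (24307, 25085), (24308, 25049), (24309, 25477), (24310, 25480), (24311, 24621), (24312, 24588), (24313, 24974), (24314, 25011), (24315, 25288), (24316, 25012), (24317, 23061), (24318,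 23062), (24319, 25492)]
    ⟨e3 q24256 (flp_g L772102) q25418, e3 q24257 L760532 q23000, e3 q24258 (flp_g L772179) q25430, e3 q24259 (flp_g L772129) q25422, e3 q24260 (flp_g L763238) q24526, e3 q24261 L760565 q23020, e3 q24262 (flp_g L763326) q24532, e3 q24263 (flp_g L767592) q24891, e3 q24264 (flp_g L767781) q24911, e3 q24265 (flp_g L767608) q24892, e3 q24266 (flp_g L767789) q24912, e3 q24267 (flp_g L767795) q24913, e3 q24268 (flp_g L767638) q24894, e3 q24269 (flp_g L767801) q24914, e3 q24270 (flp_g L767682) q24900, e3 q24271 (flp_g L767150) q24851, e3 q24272 (flp_g L771730) q25355, e3 q24273 (flp_g L763350) q24534, e3 q24274 (flp_g L767851) q24918, e3 q24275 (flp_g L767865) q24919, e3 q24276 (flp_g L767885) q24921, e3 q24277 (flp_g L772213) q25434, e3 q24278 (flp_g L767980) q24929, e3 q24279 L760664 q23026, e3 q24280 (flp_g L770170) q25159, e3 q24281 L760676 q23027, e3 q24282 (flp_g L769272) q25055, e3 q24283 (flp_g L772309) q25451, e3 q24284 (flp_g L772326) q25454, e3 q24285 (flp_g L764022) q24584, e3 q24286 (flp_g L768185)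 q24948, e3 q24287 (flp_g L768199) q24949, e3 q24288 (flp_g L768232) q24952, e3 q24289 (flp_g L768248) q24953, e3 q24290 (flp_g L768278) q24956, e3 q24291 (flp_g L768294) q24959, e3 q24292 (flp_g L768500) q24979, e3 q24293 (flp_g L768511) q24980, e3 q24294 (flp_g L768529) q24981, e3 q24295 (flp_g L768548) q24983, e3 q24296 (flp_g L768553) q24984, e3 q24297 (flp_g L768561) q24985, e3 q24298 (flp_g L768593) q24987, e3 q24299 (flp_g L768603) q24988, e3 q24300 (flp_g L768626) q24991, e3 q24301 (flp_g L768632) q24992, e3 q24302 (flp_g L768666) q24997, e3 q24303 (flp_g L763753) q24562, e3 q24304 L760809 q23051, e3 q24305 (flp_g L763780) q24565, e3 q24306 L760821 q23052, e3 q24307 (flp_g L769496) q25085, e3 q24308 (flp_g L769212) q25049, e3 q24309 (flp_g L772446) q25477, e3 q24310 (flp_g L772465) q25480, e3 q24311 (flp_g L764485) q24621, e3 q24312 (flp_g L764071) q24588, e3 q24313 (flp_g L768457) q24974, e3 q24314 (flp_g L768817) q25011, e3 q24315 (flp_g L771292) q25288, e3 q24316 (flp_g L768829) q25012, e3 q24317 L760897 q23061,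 e3 q24318 L760902 q23062, e3 q24319 (flp_g L772540) q25492, trivial⟩ (by decide +kernel)

theorem ce_g_380 : ∀ r, r < 64 → sm gg (Qf (24320 + r)) = Qf (tab Gen.g (24320 + r)) :=
  edges_tab (sm gg) Qf (tab Gen.g) 24320 [(24320, 25493), (24321, 25015), (24322, 25016), (24323, 24552), (24324, 23067), (24325, 25500), (24326, 25501), (24327, 25020), (24328, 24556), (24329, 23071), (24330, 25506), (24331, 25026), (24332, 24332), (24333, 24495), (24334, 25321), (24335, 24553), (24336, 23078), (24337, 25208), (24338, 23089), (24339, 23083), (24340, 25513), (24341, 25514), (24342, 23095), (24343, 25204), (24344, 25087), (24345, 25077), (24346, 25209), (24347, 25210), (24348, 25512), (24349, 25072), (24350, 25528), (24351, 23091), (24352, 23115), (24353, 23094), (24354, 25530), (24355, 25517), (24356, 25252), (24357, 25069), (24358, 23100), (24359, 25534), (24360, 25535), (24361, 25076), (24362, 23104), (24363, 23105), (24364, 25539), (24365, 25540), (24366, 25541), (24367, 25084), (24368, 25086), (24369, 25197), (24370, 23110), (24371,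 23111), (24372, 25550), (24373, 25551), (24374, 25206), (24375, 25095), (24376, 25096), (24377, 25205), (24378, 25529), (24379, 23117), (24380, 25559), (24381, 25227), (24382, 25228), (24383, 25561)]
    ⟨e3 q24320 (flp_g L772546) q25493, e3 q24321 (flp_g L768863) q25015, e3 q24322 (flp_g L768879) q25016, e3 q24323 (flp_g L763616) q24552, e3 q24324 L760939 q23067, e3 q24325 (flp_g L772587) q25500, e3 q24326 (flp_g L772595) q25501, e3 q24327 (flp_g L768923) q25020, e3 q24328 (flp_g L763670) q24556, e3 q24329 L760971 q23071, e3 q24330 (flp_g L772629) q25506, e3 q24331 (flp_g L768965) q25026, e3 q24332 L760989 q24332, e3 q24333 (flp_g L762783) q24495, e3 q24334 (flp_g L771497) q25321, e3 q24335 (flp_g L763627) q24553, e3 q24336 L761024 q23078, e3 q24337 (flp_g L770625) q25208, e3 q24338 L761035 q23089, e3 q24339 L761043 q23083, e3 q24340 (flp_g L772676) q25513, e3 q24341 (flp_g L772680) q25514, e3 q24342 L761054 q23095, e3 q24343 (flp_g L770591) q25204, e3 q24344 (flp_g L769516) q25087, e3 q24345 (flp_g L769433) q25077, e3 q24346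 (flp_g L770633) q25209, e3 q24347 (flp_g L770643) q25210, e3 q24348 (flp_g L772670) q25512, e3 q24349 (flp_g L769397) q25072, e3 q24350 L772785 q25528, e3 q24351 (flp_g L761120) q23091, e3 q24352 L761130 q23115, e3 q24353 L761136 q23094, e3 q24354 (flp_g L772801) q25530, e3 q24355 (flp_g L772693) q25517, e3 q24356 (flp_g L771030) q25252, e3 q24357 (flp_g L769372) q25069, e3 q24358 L761162 q23100, e3 q24359 (flp_g L772819) q25534, e3 q24360 (flp_g L772825) q25535, e3 q24361 (flp_g L769425) q25076, e3 q24362 L761182 q23104, e3 q24363 L761188 q23105, e3 q24364 (flp_g L772845) q25539, e3 q24365 (flp_g L772851) q25540, e3 q24366 (flp_g L772857) q25541, e3 q24367 (flp_g L769486) q25084, e3 q24368 (flp_g L769506) q25086, e3 q24369 (flp_g L770523) q25197, e3 q24370 L761224 q23110, e3 q24371 L761230 q23111, e3 q24372 (flp_g L772911) q25550, e3 q24373 (flp_g L772917) q25551, e3 q24374 (flp_g L770603) q25206, e3 q24375 (flp_g L769574) q25095, e3 q24376 (flp_g L769580) q25096, e3 q24377 (flp_g L770597) q25205, e3 q24378 (flp_g L772795)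 q25529, e3 q24379 L761268 q23117, e3 q24380 (flp_g L772953) q25559, e3 q24381 (flp_g L770801) q25227, e3 q24382 (flp_g L770809) q25228, e3 q24383 L772965 q25561, trivial⟩ (by decide +kernel)

theorem ce_g_381 : ∀ r, r < 64 → sm gg (Qf (24384 + r)) = Qf (tab Gen.g (24384 + r)) :=
  edges_tab (sm gg) Qf (tab Gen.g) 24384 [(24384, 23123), (24385, 23127), (24386, 25207), (24387, 25224), (24388, 24605), (24389, 25145), (24390, 24645), (24391, 24652), (24392, 25146), (24393, 24595), (24394, 24646), (24395, 24597), (24396, 23146), (24397, 23149), (24398, 23150), (24399, 25565), (24400, 25230), (24401, 25229), (24402, 23555), (24403, 23975), (24404, 23560), (24405, 23615), (24406, 23982), (24407, 23570), (24408, 23188), (24409, 23573), (24410, 23976), (24411, 23547), (24412, 23581), (24413, 23582), (24414, 23583), (24415, 23977), (24416, 23979), (24417, 24227), (24418, 24208), (24419, 23980), (24420, 23186), (24421, 25585), (24422, 25573), (24423, 23990), (24424, 23563), (24425, 23192), (24426, 25589), (24427, 25590), (24428, 23993),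 (24429, 23197), (24430, 23519), (24431, 24216), (24432, 23528), (24433, 23733), (24434, 23647), (24435, 23303), (24436, 23235), (24437, 23254), (24438, 23968), (24439, 23747), (24440, 23997), (24441, 23998), (24442, 23750), (24443, 23999), (24444, 23220), (24445, 24075), (24446, 24103), (24447, 24147)]
    ⟨e3 q24384 (flp_g L761302) q23123, e3 q24385 L761315 q23127, e3 q24386 (flp_g L770617) q25207, e3 q24387 (flp_g L770771) q25224, e3 q24388 (flp_g L764285) q24605, e3 q24389 (flp_g L770016) q25145, e3 q24390 (flp_g L764751) q24645, e3 q24391 (flp_g L764844) q24652, e3 q24392 (flp_g L770027) q25146, e3 q24393 (flp_g L764148) q24595, e3 q24394 (flp_g L764769) q24646, e3 q24395 (flp_g L764178) q24597, e3 q24396 L761388 q23146, e3 q24397 L761396 q23149, e3 q24398 L761403 q23150, e3 q24399 (flp_g L772989) q25565, e3 q24400 (flp_g L770828) q25230, e3 q24401 (flp_g L770817) q25229, e3 q24402 L761439 q23555, e3 q24403 L761451 q23975, e3 q24404 L761469 q23560, e3 q24405 L761490 q23615, e3 q24406 L761502 q23982, e3 q24407 L761524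 q23570, e3 q24408 L761536 q23188, e3 q24409 L761554 q23573, e3 q24410 L761564 q23976, e3 q24411 L761580 q23547, e3 q24412 L761594 q23581, e3 q24413 L761612 q23582, e3 q24414 L761628 q23583, e3 q24415 L761643 q23977, e3 q24416 L761661 q23979, e3 q24417 L761679 q24227, e3 q24418 L761697 q24208, e3 q24419 L761709 q23980, e3 q24420 L761725 q23186, e3 q24421 (flp_g L773290) q25585, e3 q24422 (flp_g L773106) q25573, e3 q24423 L761767 q23990, e3 q24424 L761789 q23563, e3 q24425 L761803 q23192, e3 q24426 (flp_g L773355) q25589, e3 q24427 (flp_g L773369) q25590, e3 q24428 L761835 q23993, e3 q24429 L761849 q23197, e3 q24430 L761863 q23519, e3 q24431 L761881 q24216, e3 q24432 L761897 q23528, e3 q24433 L761912 q23733, e3 q24434 L761934 q23647, e3 q24435 L761948 q23303, e3 q24436 L761968 q23235, e3 q24437 L761981 q23254, e3 q24438 L762000 q23968, e3 q24439 L762017 q23747, e3 q24440 L762029 q23997, e3 q24441 L762040 q23998, e3 q24442 L762058 q23750, e3 q24443 L762068 q23999, e3 q24444 L762088 q23220, e3 q24445 L762107 q24075, e3 q24446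 L762123 q24103, e3 q24447 L762137 q24147, trivial⟩ (by decide +kernel)

theorem ce_g_382 : ∀ r, r < 64 → sm gg (Qf (24448 + r)) = Qf (tab Gen.g (24448 + r)) :=
  edges_tab (sm gg) Qf (tab Gen.g) 24448 [(24448, 23219), (24449, 25611), (24450, 25607), (24451, 23349), (24452, 23967), (24453, 23919), (24454, 23942), (24455, 23757), (24456, 24001), (24457, 24457), (24458, 23229), (24459, 25623), (24460, 24460), (24461, 23950), (24462, 23762), (24463, 23763), (24464, 23240), (24465, 25599), (24466, 24104), (24467, 24148), (24468, 23239), (24469, 25632), (24470, 25627), (24471, 23347), (24472, 23385), (24473, 24004), (24474, 24005), (24475, 23779), (24476, 23780), (24477, 23350), (24478, 23387), (24479, 23783), (24480, 24006), (24481, 24007), (24482, 25650), (24483, 23785), (24484, 23786), (24485, 24008), (24486, 25600), (24487, 24487), (24488, 24488), (24489, 25657), (24490, 23258), (24491, 25658), (24492, 25659), (24493, 23794), (24494, 23795), (24495, 24333), (24496, 23263), (24497, 23796), (24498, 23268), (24499, 23269), (24500,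 25664), (24501, 23280), (24502, 23800), (24503, 25668), (24504, 23348), (24505, 23386), (24506, 23438), (24507, 23351), (24508, 23388), (24509, 25666), (24510, 23281), (24511, 23700)]
    ⟨e3 q24448 L762160 q23219, e3 q24449 (flp_g L773679) q25611, e3 q24450 (flp_g L773611) q25607, e3 q24451 L762205 q23349, e3 q24452 L762218 q23967, e3 q24453 L762228 q23919, e3 q24454 L762240 q23942, e3 q24455 L762253 q23757, e3 q24456 L762263 q24001, e3 q24457 L762275 q24457, e3 q24458 L762292 q23229, e3 q24459 (flp_g L773833) q25623, e3 q24460 L762317 q24460, e3 q24461 L762340 q23950, e3 q24462 L762348 q23762, e3 q24463 L762363 q23763, e3 q24464 L762378 q23240, e3 q24465 (flp_g L773500) q25599, e3 q24466 L762408 q24104, e3 q24467 L762422 q24148, e3 q24468 L762438 q23239, e3 q24469 (flp_g L773961) q25632, e3 q24470 (flp_g L773891) q25627, e3 q24471 L762474 q23347, e3 q24472 L762490 q23385, e3 q24473 L762502 q24004, e3 q24474 L762516 q24005, e3 q24475 L762539 q23779, e3 q24476 L762554 q23780, e3 q24477 L762566 q23350, e3 q24478 L762576 q23387,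 e3 q24479 L762590 q23783, e3 q24480 L762598 q24006, e3 q24481 L762606 q24007, e3 q24482 L774172 q25650, e3 q24483 L762628 q23785, e3 q24484 L762636 q23786, e3 q24485 L762646 q24008, e3 q24486 (flp_g L773513) q25600, e3 q24487 L762667 q24487, e3 q24488 L762687 q24488, e3 q24489 L774259 q25657, e3 q24490 L762714 q23258, e3 q24491 (flp_g L774277) q25658, e3 q24492 (flp_g L774291) q25659, e3 q24493 L762750 q23794, e3 q24494 L762765 q23795, e3 q24495 L762783 q24333, e3 q24496 (flp_g L762785) q23263, e3 q24497 L762809 q23796, e3 q24498 L762820 q23268, e3 q24499 L762834 q23269, e3 q24500 (flp_g L774357) q25664, e3 q24501 L762864 q23280, e3 q24502 L762877 q23800, e3 q24503 L774409 q25668, e3 q24504 L762907 q23348, e3 q24505 L762920 q23386, e3 q24506 L762936 q23438, e3 q24507 L762950 q23351, e3 q24508 L762965 q23388, e3 q24509 (flp_g L774390) q25666, e3 q24510 (flp_g L762985) q23281, e3 q24511 L763010 q23700, trivial⟩ (by decide +kernel)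

theorem ce_g_383 : ∀ r, r < 64 → sm gg (Qf (24512 + r)) = Qf (tab Gen.g (24512 + r)) :=
  edges_tab (sm gg) Qf (tab Gen.g) 24512 [(24512, 23721), (24513, 23290), (24514, 23291), (24515, 23641), (24516, 23292), (24517, 25675), (24518, 25676), (24519, 25678), (24520, 23703), (24521, 23709), (24522, 23712), (24523, 23696), (24524, 24011), (24525, 23698), (24526, 24260), (24527, 24000), (24528, 25598), (24529, 24012), (24530, 24013), (24531, 24014), (24532, 24262), (24533, 24015), (24534, 24273), (24535, 23648), (24536, 23312), (24537, 25698), (24538, 24037), (24539, 24038), (24540, 23633), (24541, 23317), (24542, 25703), (24543, 25704), (24544, 24041), (24545, 23677), (24546, 23321), (24547, 23678), (24548, 23818), (24549, 24137), (24550, 23815), (24551, 24072), (24552, 24323), (24553, 24335), (24554, 23332), (24555, 25715), (24556, 24328), (24557, 23842), (24558, 24061), (24559, 24062), (24560, 24063), (24561, 24064), (24562, 24303), (24563, 24065), (24564, 24066), (24565, 24305), (24566, 24067), (24567, 23345), (24568, 25731),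 (24569, 23354), (24570, 25636), (24571, 25669), (24572, 25614), (24573, 25642), (24574, 25671), (24575, 23353)]
    ⟨e3 q24512 L763024 q23721, e3 q24513 L763046 q23290, e3 q24514 L763059 q23291, e3 q24515 L763078 q23641, e3 q24516 L763090 q23292, e3 q24517 (flp_g L774530) q25675, e3 q24518 (flp_g L774543) q25676, e3 q24519 (flp_g L774575) q25678, e3 q24520 L763152 q23703, e3 q24521 L763166 q23709, e3 q24522 L763178 q23712, e3 q24523 L763193 q23696, e3 q24524 L763207 q24011, e3 q24525 L763217 q23698, e3 q24526 L763238 q24260, e3 q24527 L763250 q24000, e3 q24528 (flp_g L773478) q25598, e3 q24529 L763281 q24012, e3 q24530 L763295 q24013, e3 q24531 L763309 q24014, e3 q24532 L763326 q24262, e3 q24533 L763338 q24015, e3 q24534 L763350 q24273, e3 q24535 L763368 q23648, e3 q24536 L763376 q23312, e3 q24537 (flp_g L774856) q25698, e3 q24538 L763404 q24037, e3 q24539 L763418 q24038, e3 q24540 L763440 q23633, e3 q24541 L763454 q23317, e3 q24542 (flp_g L774928) q25703, e3 q24543 (flp_g L774942) q25704, e3 q24544 L763488 q24041, e3 q24545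 L763498 q23677, e3 q24546 L763516 q23321, e3 q24547 L763532 q23678, e3 q24548 L763555 q23818, e3 q24549 L763568 q24137, e3 q24550 L763587 q23815, e3 q24551 L763604 q24072, e3 q24552 L763616 q24323, e3 q24553 L763627 q24335, e3 q24554 L763649 q23332, e3 q24555 (flp_g L775102) q25715, e3 q24556 L763670 q24328, e3 q24557 L763692 q23842, e3 q24558 L763705 q24061, e3 q24559 L763719 q24062, e3 q24560 L763728 q24063, e3 q24561 L763740 q24064, e3 q24562 L763753 q24303, e3 q24563 L763761 q24065, e3 q24564 L763769 q24066, e3 q24565 L763780 q24305, e3 q24566 L763788 q24067, e3 q24567 L763807 q23345, e3 q24568 (flp_g L775281) q25731, e3 q24569 L763826 q23354, e3 q24570 (flp_g L774009) q25636, e3 q24571 (flp_g L774433) q25669, e3 q24572 (flp_g L773718) q25614, e3 q24573 (flp_g L774094) q25642, e3 q24574 (flp_g L774464) q25671, e3 q24575 L763907 q23353, trivial⟩ (by decide +kernel)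

theorem ce_g_384 : ∀ r, r < 64 → sm gg (Qf (24576 + r)) = Qf (tab Gen.g (24576 + r)) :=
  edges_tab (sm gg) Qf (tab Gen.g) 24576 [(24576, 25740), (24577, 25733), (24578, 24080), (24579, 24082), (24580, 24083), (24581, 23832), (24582, 24085), (24583, 24086), (24584, 24285), (24585, 24088), (24586, 24089), (24587, 24143), (24588, 24312), (24589, 23366), (24590, 25756), (24591, 25757), (24592, 24092), (24593, 25719), (24594, 23371), (24595, 24393), (24596, 25761), (24597, 24395), (24598, 23377), (24599, 23938), (24600, 23592), (24601, 23381), (24602, 25766), (24603, 23392), (24604, 24084), (24605, 24388), (24606, 25637), (24607, 25670), (24608, 25643), (24609, 25644), (24610, 25778), (24611, 23409), (24612, 23391), (24613, 25780), (24614, 25781), (24615, 25769), (24616, 23807), (24617, 24112), (24618, 23428), (24619, 24114), (24620, 24115), (24621, 24311), (24622, 24118), (24623, 24119), (24624, 23731), (24625, 24123), (24626, 24124), (24627, 24125), (24628, 23769), (24629, 23405), (24630, 25801), (24631, 24130), (24632, 24131),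 (24633, 25806), (24634, 23408), (24635, 25779), (24636, 23411), (24637, 23412), (24638, 25809), (24639, 25810)]
    ⟨e3 q24576 (flp_g L775393) q25740, e3 q24577 (flp_g L775301) q25733, e3 q24578 L763942 q24080, e3 q24579 L763956 q24082, e3 q24580 L763968 q24083, e3 q24581 L763985 q23832, e3 q24582 L764002 q24085, e3 q24583 L764010 q24086, e3 q24584 L764022 q24285, e3 q24585 L764032 q24088, e3 q24586 L764040 q24089, e3 q24587 (flp_g L764057) q24143, e3 q24588 L764071 q24312, e3 q24589 L764085 q23366, e3 q24590 (flp_g L775588) q25756, e3 q24591 (flp_g L775602) q25757, e3 q24592 L764107 q24092, e3 q24593 (flp_g L775157) q25719, e3 q24594 L764133 q23371, e3 q24595 L764148 q24393, e3 q24596 (flp_g L775642) q25761, e3 q24597 L764178 q24395, e3 q24598 L764195 q23377, e3 q24599 L764210 q23938, e3 q24600 L764228 q23592, e3 q24601 L764243 q23381, e3 q24602 (flp_g L775718) q25766, e3 q24603 L764255 q23392, e3 q24604 L764271 q24084, e3 q24605 L764285 q24388, e3 q24606 (flp_g L774023) q25637, e3 q24607 (flp_g L774450) q25670, e3 q24608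 (flp_g L774104) q25643, e3 q24609 (flp_g L774116) q25644, e3 q24610 L775851 q25778, e3 q24611 L764355 q23409, e3 q24612 L764367 q23391, e3 q24613 (flp_g L775881) q25780, e3 q24614 (flp_g L775893) q25781, e3 q24615 (flp_g L775741) q25769, e3 q24616 L764413 q23807, e3 q24617 L764427 q24112, e3 q24618 L764439 q23428, e3 q24619 L764459 q24114, e3 q24620 L764471 q24115, e3 q24621 L764485 q24311, e3 q24622 L764497 q24118, e3 q24623 L764505 q24119, e3 q24624 L764523 q23731, e3 q24625 L764531 q24123, e3 q24626 L764543 q24124, e3 q24627 L764555 q24125, e3 q24628 L764575 q23769, e3 q24629 L764589 q23405, e3 q24630 (flp_g L776149) q25801, e3 q24631 L764615 q24130, e3 q24632 L764621 q24131, e3 q24633 L776189 q25806, e3 q24634 (flp_g L764631) q23408, e3 q24635 (flp_g L775869) q25779, e3 q24636 L764659 q23411, e3 q24637 L764665 q23412, e3 q24638 (flp_g L776227) q25809, e3 q24639 (flp_g L776235) q25810, trivial⟩ (by decide +kernel)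

theorem ce_g_385 : ∀ r, r < 64 → sm gg (Qf (24640 + r)) = Qf (tab Gen.g (24640 + r)) :=
  edges_tab (sm gg) Qf (tab Gen.g) 24640 [(24640, 24136), (24641, 23808), (24642, 23416), (24643, 23425), (24644, 23420), (24645, 24390), (24646, 24394), (24647, 25814), (24648, 23862), (24649, 25787), (24650, 23434), (24651, 25665), (24652, 24391), (24653, 23734), (24654, 23437), (24655, 23439), (24656, 25774), (24657, 24151), (24658, 24152), (24659, 24153), (24660, 25822), (24661, 23448), (24662, 23548), (24663, 23978), (24664, 23530), (24665, 23644), (24666, 23663), (24667, 23984), (24668, 24155), (24669, 23994), (24670, 23480), (24671, 25831), (24672, 24157), (24673, 24158), (24674, 24210), (24675, 24159), (24676, 24211), (24677, 23699), (24678, 23705), (24679, 23707), (24680, 23711), (24681, 24237), (24682, 24010), (24683, 24218), (24684, 23606), (24685, 23607), (24686, 24164), (24687, 24165), (24688, 24166), (24689, 23501), (24690, 25851), (24691, 24167), (24692, 23661), (24693, 23506), (24694, 24205), (24695, 25855), (24696, 23510),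 (24697, 25857), (24698, 23635), (24699, 23636), (24700, 24173), (24701, 24175), (24702, 24176), (24703, 25594)]
    ⟨e3 q24640 L764683 q24136, e3 q24641 (flp_g L764701) q23808, e3 q24642 (flp_g L764703) q23416, e3 q24643 L764723 q23425, e3 q24644 L764741 q23420, e3 q24645 L764751 q24390, e3 q24646 L764769 q24394, e3 q24647 (flp_g L776265) q25814, e3 q24648 L764793 q23862, e3 q24649 (flp_g L775961) q25787, e3 q24650 L764813 q23434, e3 q24651 (flp_g L774380) q25665, e3 q24652 L764844 q24391, e3 q24653 L764861 q23734, e3 q24654 L764878 q23437, e3 q24655 L764893 q23439, e3 q24656 (flp_g L775817) q25774, e3 q24657 L764916 q24151, e3 q24658 L764931 q24152, e3 q24659 L764943 q24153, e3 q24660 L776368 q25822, e3 q24661 (flp_g L764966) q23448, e3 q24662 L764995 q23548, e3 q24663 L765009 q23978, e3 q24664 L765029 q23530, e3 q24665 L765047 q23644, e3 q24666 L765061 q23663, e3 q24667 L765082 q23984, e3 q24668 L765094 q24155, e3 q24669 L765110 q23994, e3 q24670 L765131 q23480, e3 q24671 (flp_g L776522) q25831, e3 q24672 L765155 q24157,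 e3 q24673 L765169 q24158, e3 q24674 L765185 q24210, e3 q24675 L765197 q24159, e3 q24676 L765209 q24211, e3 q24677 L765230 q23699, e3 q24678 L765247 q23705, e3 q24679 L765259 q23707, e3 q24680 L765268 q23711, e3 q24681 L765284 q24237, e3 q24682 L765294 q24010, e3 q24683 L765306 q24218, e3 q24684 L765326 q23606, e3 q24685 L765340 q23607, e3 q24686 L765356 q24164, e3 q24687 L765364 q24165, e3 q24688 L765372 q24166, e3 q24689 L765389 q23501, e3 q24690 (flp_g L776791) q25851, e3 q24691 L765405 q24167, e3 q24692 L765424 q23661, e3 q24693 L765434 q23506, e3 q24694 L765449 q24205, e3 q24695 (flp_g L776829) q25855, e3 q24696 L765473 q23510, e3 q24697 (flp_g L776861) q25857, e3 q24698 L765495 q23635, e3 q24699 L765507 q23636, e3 q24700 L765521 q24173, e3 q24701 L765531 q24175, e3 q24702 L765537 q24176, e3 q24703 (flp_g L773419) q25594, trivial⟩ (by decide +kernel)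

theorem ce_g_386 : ∀ r, r < 64 → sm gg (Qf (24704 + r)) = Qf (tab Gen.g (24704 + r)) :=
  edges_tab (sm gg) Qf (tab Gen.g) 24704 [(24704, 23517), (24705, 25866), (24706, 25867), (24707, 24179), (24708, 23522), (24709, 24221), (24710, 24184), (24711, 24156), (24712, 25825), (24713, 23631), (24714, 23634), (24715, 24171), (24716, 24174), (24717, 24180), (24718, 24178), (24719, 23689), (24720, 24024), (24721, 23905), (24722, 24026), (24723, 24043), (24724, 24020), (24725, 24029), (24726, 23628), (24727, 25823), (24728, 23608), (24729, 23621), (24730, 24187), (24731, 23656), (24732, 24188), (24733, 24189), (24734, 25567), (24735, 24190), (24736, 23669), (24737, 24181), (24738, 25569), (24739, 23566), (24740, 25588), (24741, 23565), (24742, 25902), (24743, 25900), (24744, 23637), (24745, 23580), (24746, 23662), (24747, 25572), (24748, 24193), (24749, 24194), (24750, 25907), (24751, 25574), (24752, 25575), (24753, 24196), (24754, 24160), (24755, 24168), (24756, 24203), (24757, 23624), (24758, 25577), (24759, 25578), (24760, 23586),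 (24761, 24162), (24762, 23764), (24763, 23768), (24764, 24126), (24765, 24144), (24766, 25765), (24767, 24133)]
    ⟨e3 q24704 L765563 q23517, e3 q24705 (flp_g L776967) q25866, e3 q24706 (flp_g L776979) q25867, e3 q24707 L765587 q24179, e3 q24708 L765599 q23522, e3 q24709 L765615 q24221, e3 q24710 L765629 q24184, e3 q24711 L765645 q24156, e3 q24712 (flp_g L776428) q25825, e3 q24713 L765678 q23631, e3 q24714 L765694 q23634, e3 q24715 L765709 q24171, e3 q24716 L765719 q24174, e3 q24717 L765727 q24180, e3 q24718 L765734 q24178, e3 q24719 L765748 q23689, e3 q24720 L765767 q24024, e3 q24721 L765784 q23905, e3 q24722 L765798 q24026, e3 q24723 L765811 q24043, e3 q24724 L765829 q24020, e3 q24725 L765839 q24029, e3 q24726 L765859 q23628, e3 q24727 (flp_g L776394) q25823, e3 q24728 L765885 q23608, e3 q24729 L765899 q23621, e3 q24730 L765915 q24187, e3 q24731 L765931 q23656, e3 q24732 L765941 q24188, e3 q24733 L765949 q24189, e3 q24734 (flp_g L773007) q25567, e3 q24735 L765966 q24190, e3 q24736 L765985 q23669, e3 q24737 L765993 q24181,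 e3 q24738 (flp_g L773039) q25569, e3 q24739 L766015 q23566, e3 q24740 (flp_g L773339) q25588, e3 q24741 L766039 q23565, e3 q24742 (flp_g L777412) q25902, e3 q24743 (flp_g L777390) q25900, e3 q24744 L766069 q23637, e3 q24745 L766079 q23580, e3 q24746 L766095 q23662, e3 q24747 (flp_g L773090) q25572, e3 q24748 L766111 q24193, e3 q24749 L766119 q24194, e3 q24750 (flp_g L777462) q25907, e3 q24751 (flp_g L773122) q25574, e3 q24752 (flp_g L773132) q25575, e3 q24753 L766153 q24196, e3 q24754 L766173 q24160, e3 q24755 L766181 q24168, e3 q24756 L766196 q24203, e3 q24757 L766216 q23624, e3 q24758 (flp_g L773160) q25577, e3 q24759 (flp_g L773178) q25578, e3 q24760 L766254 q23586, e3 q24761 L766276 q24162, e3 q24762 L766291 q23764, e3 q24763 L766308 q23768, e3 q24764 L766320 q24126, e3 q24765 L766331 q24144, e3 q24766 (flp_g L775704) q25765, e3 q24767 L766353 q24133, trivial⟩ (by decide +kernel)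

theorem ce_g_387 : ∀ r, r < 64 → sm gg (Qf (24768 + r)) = Qf (tab Gen.g (24768 + r)) :=
  edges_tab (sm gg) Qf (tab Gen.g) 24768 [(24768, 24098), (24769, 24139), (24770, 24101), (24771, 24102), (24772, 24093), (24773, 24105), (24774, 24140), (24775, 24096), (24776, 24109), (24777, 23609), (24778, 23752), (24779, 23766), (24780, 25845), (24781, 25846), (24782, 25889), (24783, 25938), (24784, 23714), (24785, 24197), (24786, 24198), (24787, 24199), (24788, 24200), (24789, 25570), (24790, 24201), (24791, 24202), (24792, 25918), (24793, 23619), (24794, 25958), (24795, 25959), (24796, 24204), (24797, 25890), (24798, 23626), (24799, 24195), (24800, 23627), (24801, 25949), (24802, 25887), (24803, 23638), (24804, 23745), (24805, 25874), (24806, 24251), (24807, 25702), (24808, 25875), (24809, 25859), (24810, 25860), (24811, 25905), (24812, 25906), (24813, 25966), (24814, 23723), (24815, 24215), (24816, 25677), (24817, 23738), (24818, 24217), (24819, 25826), (24820, 24219), (24821, 24220), (24822, 23672), (24823, 25597), (24824, 25697),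 (24825, 24222), (24826, 24223), (24827, 24224), (24828, 23652), (24829, 25998), (24830, 25999), (24831, 24228)]
    ⟨e3 q24768 L766369 q24098, e3 q24769 L766378 q24139, e3 q24770 L766396 q24101, e3 q24771 L766405 q24102, e3 q24772 L766414 q24093, e3 q24773 L766420 q24105, e3 q24774 L766426 q24140, e3 q24775 L766437 q24096, e3 q24776 L766445 q24109, e3 q24777 L766455 q23609, e3 q24778 L766478 q23752, e3 q24779 L766491 q23766, e3 q24780 (flp_g L776711) q25845, e3 q24781 (flp_g L776727) q25846, e3 q24782 (flp_g L777257) q25889, e3 q24783 (flp_g L777790) q25938, e3 q24784 L766539 q23714, e3 q24785 L766551 q24197, e3 q24786 L766565 q24198, e3 q24787 L766575 q24199, e3 q24788 L766581 q24200, e3 q24789 (flp_g L773056) q25570, e3 q24790 L766595 q24201, e3 q24791 L766603 q24202, e3 q24792 (flp_g L777584) q25918, e3 q24793 L766622 q23619, e3 q24794 (flp_g L777997) q25958, e3 q24795 (flp_g L778007) q25959, e3 q24796 L766642 q24204, e3 q24797 (flp_g L777271) q25890, e3 q24798 L766670 q23626, e3 q24799 L766678 q24195, e3 q24800 L766686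 q23627, e3 q24801 (flp_g L777928) q25949, e3 q24802 (flp_g L777233) q25887, e3 q24803 L766712 q23638, e3 q24804 L766731 q23745, e3 q24805 (flp_g L777060) q25874, e3 q24806 L766756 q24251, e3 q24807 (flp_g L774914) q25702, e3 q24808 (flp_g L777074) q25875, e3 q24809 (flp_g L776881) q25859, e3 q24810 (flp_g L776893) q25860, e3 q24811 (flp_g L777438) q25905, e3 q24812 (flp_g L777446) q25906, e3 q24813 (flp_g L778065) q25966, e3 q24814 L766828 q23723, e3 q24815 L766838 q24215, e3 q24816 (flp_g L774563) q25677, e3 q24817 L766865 q23738, e3 q24818 L766875 q24217, e3 q24819 (flp_g L776446) q25826, e3 q24820 L766895 q24219, e3 q24821 L766905 q24220, e3 q24822 L766923 q23672, e3 q24823 (flp_g L773466) q25597, e3 q24824 (flp_g L774844) q25697, e3 q24825 L766942 q24222, e3 q24826 L766948 q24223, e3 q24827 L766956 q24224, e3 q24828 L766966 q23652, e3 q24829 (flp_g L778369) q25998, e3 q24830 (flp_g L778377) q25999, e3 q24831 L766982 q24228, trivial⟩ (by decide +kernel)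

theorem ce_g_388 : ∀ r, r < 64 → sm gg (Qf (24832 + r)) = Qf (tab Gen.g (24832 + r)) :=
  edges_tab (sm gg) Qf (tab Gen.g) 24832 [(24832, 24229), (24833, 26006), (24834, 23655), (24835, 25892), (24836, 23658), (24837, 23659), (24838, 26008), (24839, 26009), (24840, 24234), (24841, 25850), (24842, 25827), (24843, 23667), (24844, 23668), (24845, 26013), (24846, 25895), (24847, 25989), (24848, 23675), (24849, 23688), (24850, 26016), (24851, 24271), (24852, 25708), (24853, 23729), (24854, 23739), (24855, 24235), (24856, 24074), (24857, 24236), (24858, 24100), (24859, 26018), (24860, 26017), (24861, 25880), (24862, 24036), (24863, 24046), (24864, 24040), (24865, 23695), (24866, 26030), (24867, 25685), (24868, 25686), (24869, 24240), (24870, 25838), (24871, 25673), (24872, 23717), (24873, 23728), (24874, 25682), (24875, 24241), (24876, 25839), (24877, 23708), (24878, 25840), (24879, 26044), (24880, 25683), (24881, 25684), (24882, 24245), (24883, 25841), (24884, 23716), (24885, 25946), (24886, 23718), (24887, 26051), (24888, 26037),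 (24889, 26038), (24890, 26054), (24891, 24263), (24892, 24265), (24893, 25674), (24894, 24268), (24895, 25979)]
    ⟨e3 q24832 L766988 q24229, e3 q24833 L778417 q26006, e3 q24834 (flp_g L766994) q23655, e3 q24835 (flp_g L777300) q25892, e3 q24836 L767018 q23658, e3 q24837 L767024 q23659, e3 q24838 (flp_g L778439) q26008, e3 q24839 (flp_g L778447) q26009, e3 q24840 L767048 q24234, e3 q24841 L776781 q25850, e3 q24842 (flp_g L776460) q25827, e3 q24843 L767087 q23667, e3 q24844 L767093 q23668, e3 q24845 (flp_g L778486) q26013, e3 q24846 (flp_g L777345) q25895, e3 q24847 (flp_g L778306) q25989, e3 q24848 L767118 q23675, e3 q24849 L767132 q23688, e3 q24850 (flp_g L778505) q26016, e3 q24851 L767150 q24271, e3 q24852 (flp_g L774992) q25708, e3 q24853 L767172 q23729, e3 q24854 L767185 q23739, e3 q24855 L767200 q24235, e3 q24856 L767211 q24074, e3 q24857 L767222 q24236, e3 q24858 L767235 q24100, e3 q24859 (flp_g L778532) q26018, e3 q24860 (flp_g L778516) q26017, e3 q24861 (flp_g L777128) q25880, e3 q24862 L767278 q24036, e3 q24863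 L767292 q24046, e3 q24864 L767305 q24040, e3 q24865 L767313 q23695, e3 q24866 (flp_g L778670) q26030, e3 q24867 (flp_g L774674) q25685, e3 q24868 (flp_g L774690) q25686, e3 q24869 L767359 q24240, e3 q24870 (flp_g L776625) q25838, e3 q24871 (flp_g L774492) q25673, e3 q24872 L767388 q23717, e3 q24873 L767398 q23728, e3 q24874 (flp_g L774634) q25682, e3 q24875 L767416 q24241, e3 q24876 (flp_g L776642) q25839, e3 q24877 L767439 q23708, e3 q24878 (flp_g L776652) q25840, e3 q24879 (flp_g L778814) q26044, e3 q24880 (flp_g L774648) q25683, e3 q24881 (flp_g L774660) q25684, e3 q24882 L767495 q24245, e3 q24883 (flp_g L776662) q25841, e3 q24884 L767518 q23716, e3 q24885 (flp_g L777879) q25946, e3 q24886 L767542 q23718, e3 q24887 (flp_g L778894) q26051, e3 q24888 (flp_g L778742) q26037, e3 q24889 (flp_g L778752) q26038, e3 q24890 (flp_g L778927) q26054, e3 q24891 L767592 q24263, e3 q24892 L767608 q24265, e3 q24893 (flp_g L774510) q25674, e3 q24894 L767638 q24268, e3 q24895 (flp_g L778190) q25979, trivial⟩ (by decide +kernel)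

theorem ce_g_389 : ∀ r, r < 64 → sm gg (Qf (24896 + r)) = Qf (tab Gen.g (24896 + r)) :=
  edges_tab (sm gg) Qf (tab Gen.g) 24896 [(24896, 23725), (24897, 23726), (24898, 26065), (24899, 26066), (24900, 24270), (24901, 25596), (24902, 25794), (24903, 23955), (24904, 25771), (24905, 24254), (24906, 24244), (24907, 23740), (24908, 25982), (24909, 26021), (24910, 26074), (24911, 24264), (24912, 24266), (24913, 24267), (24914, 24269), (24915, 25967), (24916, 24252), (24917, 25602), (24918, 24274), (24919, 24275), (24920, 25605), (24921, 24276), (24922, 25939), (24923, 23756), (24924, 23755), (24925, 26094), (24926, 26093), (24927, 25619), (24928, 25620), (24929, 24278), (24930, 23760), (24931, 26101), (24932, 26102), (24933, 25626), (24934, 25921), (24935, 23772), (24936, 25940), (24937, 23775), (24938, 25922), (24939, 25800), (24940, 23771), (24941, 26112), (24942, 26106), (24943, 23774), (24944, 26116), (24945, 26117), (24946, 26109), (24947, 23880), (24948, 24286), (24949, 24287), (24950, 25640), (24951, 25641), (24952, 24288),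 (24953, 24289), (24954, 25645), (24955, 25646), (24956, 24290), (24957, 25651), (24958, 25652), (24959, 24291)]
    ⟨e3 q24896 L767658 q23725, e3 q24897 L767664 q23726, e3 q24898 (flp_g L779057) q26065, e3 q24899 (flp_g L779065) q26066, e3 q24900 L767682 q24270, e3 q24901 (flp_g L773451) q25596, e3 q24902 (flp_g L776053) q25794, e3 q24903 L767714 q23955, e3 q24904 (flp_g L775771) q25771, e3 q24905 L767728 q24254, e3 q24906 L767742 q24244, e3 q24907 L767750 q23740, e3 q24908 (flp_g L778226) q25982, e3 q24909 (flp_g L778563) q26021, e3 q24910 (flp_g L779140) q26074, e3 q24911 L767781 q24264, e3 q24912 L767789 q24266, e3 q24913 L767795 q24267, e3 q24914 L767801 q24269, e3 q24915 (flp_g L778082) q25967, e3 q24916 L767824 q24252, e3 q24917 (flp_g L773548) q25602, e3 q24918 L767851 q24274, e3 q24919 L767865 q24275, e3 q24920 (flp_g L773585) q25605, e3 q24921 L767885 q24276, e3 q24922 (flp_g L777809) q25939, e3 q24923 L767910 q23756, e3 q24924 L767928 q23755, e3 q24925 (flp_g L779345) q26094, e3 q24926 (flp_g L779331) q26093, e3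 q24927 (flp_g L773781) q25619, e3 q24928 (flp_g L773793) q25620, e3 q24929 L767980 q24278, e3 q24930 L767989 q23760, e3 q24931 (flp_g L779418) q26101, e3 q24932 (flp_g L779429) q26102, e3 q24933 (flp_g L773876) q25626, e3 q24934 (flp_g L777620) q25921, e3 q24935 L768050 q23772, e3 q24936 (flp_g L777823) q25940, e3 q24937 L768070 q23775, e3 q24938 (flp_g L777637) q25922, e3 q24939 (flp_g L776131) q25800, e3 q24940 L768111 q23771, e3 q24941 (flp_g L779538) q26112, e3 q24942 (flp_g L779477) q26106, e3 q24943 L768143 q23774, e3 q24944 (flp_g L779584) q26116, e3 q24945 (flp_g L779590) q26117, e3 q24946 (flp_g L779502) q26109, e3 q24947 L768175 q23880, e3 q24948 L768185 q24286, e3 q24949 L768199 q24287, e3 q24950 (flp_g L774070) q25640, e3 q24951 (flp_g L774084) q25641, e3 q24952 L768232 q24288, e3 q24953 L768248 q24289, e3 q24954 (flp_g L774130) q25645, e3 q24955 (flp_g L774142) q25646, e3 q24956 L768278 q24290, e3 q24957 (flp_g L774194) q25651, e3 q24958 (flp_g L774204) q25652, e3 q24959 L768294 q24291, trivial⟩ (by decide +kernel)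

theorem ce_g_390 : ∀ r, r < 64 → sm gg (Qf (24960 + r)) = Qf (tab Gen.g (24960 + r)) :=
  edges_tab (sm gg) Qf (tab Gen.g) 24960 [(24960, 23789), (24961, 26135), (24962, 26136), (24963, 23792), (24964, 23793), (24965, 26138), (24966, 25661), (24967, 25663), (24968, 23799), (24969, 24185), (24970, 25667), (24971, 23926), (24972, 23811), (24973, 23843), (24974, 24313), (24975, 25785), (24976, 23810), (24977, 26149), (24978, 26145), (24979, 24292), (24980, 24293), (24981, 24294), (24982, 25711), (24983, 24295), (24984, 24296), (24985, 24297), (24986, 25709), (24987, 24298), (24988, 24299), (24989, 23822), (24990, 26165), (24991, 24300), (24992, 24301), (24993, 26171), (24994, 23826), (24995, 26172), (24996, 26173), (24997, 24302), (24998, 23835), (24999, 23830), (25000, 26178), (25001, 23839), (25002, 25747), (25003, 23834), (25004, 26183), (25005, 26177), (25006, 23849), (25007, 23838), (25008, 26187), (25009, 26188), (25010, 26181), (25011, 24314), (25012, 24316), (25013, 25718), (25014, 26146), (25015, 24321), (25016, 24322),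 (25017, 23847), (25018, 26198), (25019, 25818), (25020, 24327), (25021, 26186), (25022, 23851), (25023, 23852)]
    ⟨e3 q24960 L768305 q23789, e3 q24961 (flp_g L779756) q26135, e3 q24962 (flp_g L779769) q26136, e3 q24963 L768341 q23792, e3 q24964 L768349 q23793, e3 q24965 (flp_g L779793) q26138, e3 q24966 (flp_g L774319) q25661, e3 q24967 (flp_g L774347) q25663, e3 q24968 L768386 q23799, e3 q24969 L768397 q24185, e3 q24970 (flp_g L774405) q25667, e3 q24971 L768409 q23926, e3 q24972 L768424 q23811, e3 q24973 L768442 q23843, e3 q24974 L768457 q24313, e3 q24975 (flp_g L775935) q25785, e3 q24976 L768476 q23810, e3 q24977 (flp_g L779906) q26149, e3 q24978 (flp_g L779856) q26145, e3 q24979 L768500 q24292, e3 q24980 L768511 q24293, e3 q24981 L768529 q24294, e3 q24982 (flp_g L775045) q25711, e3 q24983 L768548 q24295, e3 q24984 L768553 q24296, e3 q24985 L768561 q24297, e3 q24986 (flp_g L775014) q25709, e3 q24987 L768593 q24298, e3 q24988 L768603 q24299, e3 q24989 L768616 q23822, e3 q24990 (flp_g L780065) q26165, e3 q24991 L768626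 q24300, e3 q24992 L768632 q24301, e3 q24993 L780094 q26171, e3 q24994 L768647 q23826, e3 q24995 (flp_g L780107) q26172, e3 q24996 (flp_g L780117) q26173, e3 q24997 L768666 q24302, e3 q24998 L768674 q23835, e3 q24999 L768691 q23830, e3 q25000 (flp_g L780162) q26178, e3 q25001 L768705 q23839, e3 q25002 (flp_g L775481) q25747, e3 q25003 L768737 q23834, e3 q25004 (flp_g L780211) q26183, e3 q25005 (flp_g L780148) q26177, e3 q25006 L768777 q23849, e3 q25007 L768785 q23838, e3 q25008 (flp_g L780257) q26187, e3 q25009 (flp_g L780263) q26188, e3 q25010 (flp_g L780185) q26181, e3 q25011 L768817 q24314, e3 q25012 L768829 q24316, e3 q25013 (flp_g L775144) q25718, e3 q25014 (flp_g L779872) q26146, e3 q25015 L768863 q24321, e3 q25016 L768879 q24322, e3 q25017 L768893 q23847, e3 q25018 (flp_g L780367) q26198, e3 q25019 (flp_g L776324) q25818, e3 q25020 L768923 q24327, e3 q25021 (flp_g L780249) q26186, e3 q25022 L768939 q23851, e3 q25023 L768945 q23852, trivial⟩ (by decide +kernel)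

theorem ce_g_391 : ∀ r, r < 64 → sm gg (Qf (25024 + r)) = Qf (tab Gen.g (25024 + r)) :=
  edges_tab (sm gg) Qf (tab Gen.g) 25024 [(25024, 26204), (25025, 26205), (25026, 24331), (25027, 23855), (25028, 23863), (25029, 23858), (25030, 23859), (25031, 26211), (25032, 26212), (25033, 26209), (25034, 26210), (25035, 23867), (25036, 23941), (25037, 26217), (25038, 23881), (25039, 23886), (25040, 23872), (25041, 26222), (25042, 23890), (25043, 23891), (25044, 24121), (25045, 23876), (25046, 26228), (25047, 26229), (25048, 23896), (25049, 24308), (25050, 26121), (25051, 26220), (25052, 23884), (25053, 24113), (25054, 26237), (25055, 24282), (25056, 26221), (25057, 23913), (25058, 23889), (25059, 26244), (25060, 26245), (25061, 26225), (25062, 26226), (25063, 23920), (25064, 23894), (25065, 23895), (25066, 26252), (25067, 26253), (25068, 26232), (25069, 24357), (25070, 23899), (25071, 26259), (25072, 24349), (25073, 23902), (25074, 26263), (25075, 25764), (25076, 24361), (25077, 24345), (25078, 25882), (25079, 23908), (25080, 23909),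 (25081, 26269), (25082, 26270), (25083, 26271), (25084, 24367), (25085, 24307), (25086, 24368), (25087, 24344)]
    ⟨e3 q25024 (flp_g L780427) q26204, e3 q25025 (flp_g L780435) q26205, e3 q25026 L768965 q24331, e3 q25027 L768976 q23855, e3 q25028 L768991 q23863, e3 q25029 L769001 q23858, e3 q25030 L769010 q23859, e3 q25031 (flp_g L780491) q26211, e3 q25032 (flp_g L780504) q26212, e3 q25033 (flp_g L780464) q26209, e3 q25034 (flp_g L780479) q26210, e3 q25035 L769067 q23867, e3 q25036 L769080 q23941, e3 q25037 (flp_g L780557) q26217, e3 q25038 L769101 q23881, e3 q25039 L769113 q23886, e3 q25040 L769132 q23872, e3 q25041 (flp_g L780612) q26222, e3 q25042 L769144 q23890, e3 q25043 L769156 q23891, e3 q25044 L769181 q24121, e3 q25045 L769187 q23876, e3 q25046 (flp_g L780675) q26228, e3 q25047 (flp_g L780679) q26229, e3 q25048 L769202 q23896, e3 q25049 L769212 q24308, e3 q25050 (flp_g L779620) q26121, e3 q25051 (flp_g L780588) q26220, e3 q25052 L769239 q23884, e3 q25053 L769252 q24113, e3 q25054 (flp_g L780740) q26237, e3 q25055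 L769272 q24282, e3 q25056 (flp_g L780598) q26221, e3 q25057 L769294 q23913, e3 q25058 L769302 q23889, e3 q25059 (flp_g L780807) q26244, e3 q25060 (flp_g L780813) q26245, e3 q25061 (flp_g L780635) q26225, e3 q25062 (flp_g L780645) q26226, e3 q25063 L769338 q23920, e3 q25064 L769344 q23894, e3 q25065 L769348 q23895, e3 q25066 (flp_g L780865) q26252, e3 q25067 (flp_g L780871) q26253, e3 q25068 (flp_g L780696) q26232, e3 q25069 L769372 q24357, e3 q25070 L769383 q23899, e3 q25071 (flp_g L780909) q26259, e3 q25072 L769397 q24349, e3 q25073 L769409 q23902, e3 q25074 (flp_g L780944) q26263, e3 q25075 (flp_g L775687) q25764, e3 q25076 L769425 q24361, e3 q25077 L769433 q24345, e3 q25078 (flp_g L777166) q25882, e3 q25079 L769455 q23908, e3 q25080 L769463 q23909, e3 q25081 (flp_g L780992) q26269, e3 q25082 (flp_g L781000) q26270, e3 q25083 (flp_g L781006) q26271, e3 q25084 L769486 q24367, e3 q25085 L769496 q24307, e3 q25086 L769506 q24368, e3 q25087 L769516 q24344, trivial⟩ (by decide +kernel)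

theorem ce_g_392 : ∀ r, r < 64 → sm gg (Qf (25088 + r)) = Qf (tab Gen.g (25088 + r)) :=
  edges_tab (sm gg) Qf (tab Gen.g) 25088 [(25088, 25615), (25089, 26243), (25090, 23915), (25091, 23916), (25092, 26285), (25093, 26286), (25094, 25617), (25095, 24375), (25096, 24376), (25097, 25616), (25098, 26250), (25099, 26251), (25100, 23923), (25101, 23924), (25102, 26296), (25103, 26297), (25104, 26298), (25105, 26071), (25106, 23939), (25107, 23929), (25108, 23930), (25109, 26303), (25110, 23943), (25111, 23944), (25112, 23934), (25113, 23935), (25114, 26039), (25115, 26307), (25116, 26308), (25117, 26309), (25118, 26302), (25119, 25618), (25120, 26218), (25121, 26306), (25122, 23948), (25123, 24039), (25124, 24132), (25125, 26316), (25126, 25927), (25127, 23959), (25128, 23956), (25129, 23957), (25130, 23958), (25131, 23973), (25132, 26321), (25133, 26322), (25134, 26324), (25135, 26143), (25136, 23963), (25137, 24058), (25138, 24146), (25139, 24154), (25140, 26328), (25141, 24073), (25142, 24099), (25143, 25601), (25144, 24059),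 (25145, 24389), (25146, 24392), (25147, 26323), (25148, 25568), (25149, 25576), (25150, 25579), (25151, 25824)]
    ⟨e3 q25088 (flp_g L773732) q25615, e3 q25089 (flp_g L780799) q26243, e3 q25090 L769540 q23915, e3 q25091 L769546 q23916, e3 q25092 (flp_g L781117) q26285, e3 q25093 (flp_g L781123) q26286, e3 q25094 (flp_g L773754) q25617, e3 q25095 L769574 q24375, e3 q25096 L769580 q24376, e3 q25097 (flp_g L773742) q25616, e3 q25098 (flp_g L780849) q26250, e3 q25099 (flp_g L780855) q26251, e3 q25100 L769616 q23923, e3 q25101 L769622 q23924, e3 q25102 (flp_g L781203) q26296, e3 q25103 (flp_g L781209) q26297, e3 q25104 (flp_g L781215) q26298, e3 q25105 (flp_g L779109) q26071, e3 q25106 L769648 q23939, e3 q25107 L769658 q23929, e3 q25108 L769667 q23930, e3 q25109 (flp_g L781246) q26303, e3 q25110 L769684 q23943, e3 q25111 L769694 q23944, e3 q25112 L769703 q23934, e3 q25113 L769715 q23935, e3 q25114 (flp_g L778767) q26039, e3 q25115 (flp_g L781288) q26307, e3 q25116 (flp_g L781302) q26308, e3 q25117 (flp_g L781310) q26309, e3 q25118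 (flp_g L781235) q26302, e3 q25119 (flp_g L773773) q25618, e3 q25120 (flp_g L780569) q26218, e3 q25121 (flp_g L781277) q26306, e3 q25122 L769790 q23948, e3 q25123 L769800 q24039, e3 q25124 L769810 q24132, e3 q25125 (flp_g L781374) q26316, e3 q25126 (flp_g L777686) q25927, e3 q25127 L769833 q23959, e3 q25128 L769844 q23956, e3 q25129 L769857 q23957, e3 q25130 L769864 q23958, e3 q25131 L769874 q23973, e3 q25132 (flp_g L781412) q26321, e3 q25133 (flp_g L781421) q26322, e3 q25134 (flp_g L781448) q26324, e3 q25135 (flp_g L779844) q26143, e3 q25136 L769927 q23963, e3 q25137 L769937 q24058, e3 q25138 L769946 q24146, e3 q25139 L769954 q24154, e3 q25140 (flp_g L781486) q26328, e3 q25141 L769968 q24073, e3 q25142 L769980 q24099, e3 q25143 (flp_g L773531) q25601, e3 q25144 L770002 q24059, e3 q25145 L770016 q24389, e3 q25146 L770027 q24392, e3 q25147 (flp_g L781443) q26323, e3 q25148 (flp_g L773021) q25568, e3 q25149 (flp_g L773146) q25576, e3 q25150 (flp_g L773194) q25579, e3 q25151 (flp_g L776412) q25824, trivial⟩ (by decide +kernel)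

theorem ce_g_393 : ∀ r, r < 64 → sm gg (Qf (25152 + r)) = Qf (tab Gen.g (25152 + r)) :=
  edges_tab (sm gg) Qf (tab Gen.g) 25152 [(25152, 25580), (25153, 25584), (25154, 23983), (25155, 25571), (25156, 26342), (25157, 25828), (25158, 24169), (25159, 24280), (25160, 24002), (25161, 23989), (25162, 26351), (25163, 26352), (25164, 25587), (25165, 23992), (25166, 26356), (25167, 25593), (25168, 25830), (25169, 23996), (25170, 25603), (25171, 25604), (25172, 25606), (25173, 25689), (25174, 25621), (25175, 26350), (25176, 24087), (25177, 25638), (25178, 25639), (25179, 25647), (25180, 25648), (25181, 25653), (25182, 25843), (25183, 25687), (25184, 25691), (25185, 25692), (25186, 25693), (25187, 25696), (25188, 24022), (25189, 24023), (25190, 24027), (25191, 24028), (25192, 25885), (25193, 24030), (25194, 26376), (25195, 26377), (25196, 25881), (25197, 24369), (25198, 25883), (25199, 26378), (25200, 26379), (25201, 26395), (25202, 25886), (25203, 26383), (25204, 24343), (25205, 24377), (25206, 24374), (25207, 24386), (25208, 24337),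 (25209, 24346), (25210, 24347), (25211, 26027), (25212, 26028), (25213, 25700), (25214, 25701), (25215, 26317)]
    ⟨e3 q25152 (flp_g L773212) q25580, e3 q25153 (flp_g L773274) q25584, e3 q25154 L770112 q23983, e3 q25155 (flp_g L773072) q25571, e3 q25156 (flp_g L781646) q26342, e3 q25157 (flp_g L776477) q25828, e3 q25158 L770156 q24169, e3 q25159 L770170 q24280, e3 q25160 L770182 q24002, e3 q25161 L770194 q23989, e3 q25162 (flp_g L781761) q26351, e3 q25163 (flp_g L781773) q26352, e3 q25164 (flp_g L773321) q25587, e3 q25165 L770224 q23992, e3 q25166 (flp_g L781805) q26356, e3 q25167 (flp_g L773407) q25593, e3 q25168 (flp_g L776505) q25830, e3 q25169 L770261 q23996, e3 q25170 (flp_g L773558) q25603, e3 q25171 (flp_g L773570) q25604, e3 q25172 (flp_g L773597) q25606, e3 q25173 (flp_g L774732) q25689, e3 q25174 (flp_g L773805) q25621, e3 q25175 (flp_g L781749) q26350, e3 q25176 L770343 q24087, e3 q25177 (flp_g L774035) q25638, e3 q25178 (flp_g L774049) q25639, e3 q25179 (flp_g L774152) q25647, e3 q25180 (flp_g L774160) q25648,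 e3 q25181 (flp_g L774214) q25653, e3 q25182 (flp_g L776687) q25843, e3 q25183 (flp_g L774706) q25687, e3 q25184 (flp_g L774762) q25691, e3 q25185 (flp_g L774776) q25692, e3 q25186 (flp_g L774790) q25693, e3 q25187 (flp_g L774834) q25696, e3 q25188 L770441 q24022, e3 q25189 L770452 q24023, e3 q25190 L770462 q24027, e3 q25191 L770474 q24028, e3 q25192 (flp_g L777207) q25885, e3 q25193 L770492 q24030, e3 q25194 (flp_g L782004) q26376, e3 q25195 (flp_g L782016) q26377, e3 q25196 (flp_g L777149) q25881, e3 q25197 L770523 q24369, e3 q25198 (flp_g L777178) q25883, e3 q25199 (flp_g L782026) q26378, e3 q25200 (flp_g L782038) q26379, e3 q25201 L782182 q26395, e3 q25202 (flp_g L777219) q25886, e3 q25203 (flp_g L782074) q26383, e3 q25204 L770591 q24343, e3 q25205 L770597 q24377, e3 q25206 L770603 q24374, e3 q25207 L770617 q24386, e3 q25208 L770625 q24337, e3 q25209 L770633 q24346, e3 q25210 L770643 q24347, e3 q25211 (flp_g L778630) q26027, e3 q25212 (flp_g L778644) q26028, e3 q25213 (flp_g L774882) q25700, e3 q25214 (flp_g L774896) q25701,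 e3 q25215 (flp_g L781386) q26317, trivial⟩ (by decide +kernel)

theorem ce_g_394 : ∀ r, r < 64 → sm gg (Qf (25216 + r)) = Qf (tab Gen.g (25216 + r)) :=
  edges_tab (sm gg) Qf (tab Gen.g) 25216 [(25216, 26029), (25217, 25707), (25218, 26154), (25219, 25884), (25220, 24044), (25221, 24049), (25222, 26329), (25223, 26334), (25224, 24387), (25225, 26415), (25226, 24052), (25227, 24381), (25228, 24382), (25229, 24401), (25230, 24400), (25231, 26330), (25232, 25720), (25233, 25721), (25234, 25722), (25235, 25723), (25236, 25725), (25237, 25726), (25238, 25730), (25239, 24076), (25240, 24077), (25241, 24078), (25242, 24079), (25243, 25712), (25244, 26332), (25245, 26022), (25246, 25608), (25247, 26426), (25248, 26427), (25249, 26428), (25250, 26430), (25251, 25744), (25252, 24356), (25253, 25745), (25254, 25746), (25255, 25770), (25256, 25748), (25257, 25749), (25258, 25750), (25259, 26364), (25260, 25752), (25261, 25753), (25262, 24091), (25263, 26453), (25264, 25760), (25265, 25931), (25266, 24106), (25267, 24107), (25268, 26331),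 (25269, 25935), (25270, 25936), (25271, 24110), (25272, 25926), (25273, 26281), (25274, 26024), (25275, 25929), (25276, 25930), (25277, 25609), (25278, 25629), (25279, 25630)]
    ⟨e3 q25216 (flp_g L778658) q26029, e3 q25217 (flp_g L774980) q25707, e3 q25218 (flp_g L779948) q26154, e3 q25219 (flp_g L777192) q25884, e3 q25220 (flp_g L770718) q24044, e3 q25221 L770733 q24049, e3 q25222 (flp_g L781496) q26329, e3 q25223 (flp_g L781551) q26334, e3 q25224 L770771 q24387, e3 q25225 L782352 q26415, e3 q25226 (flp_g L770789) q24052, e3 q25227 L770801 q24381, e3 q25228 L770809 q24382, e3 q25229 L770817 q24401, e3 q25230 L770828 q24400, e3 q25231 (flp_g L781510) q26330, e3 q25232 (flp_g L775168) q25720, e3 q25233 (flp_g L775175) q25721, e3 q25234 (flp_g L775186) q25722, e3 q25235 (flp_g L775195) q25723, e3 q25236 (flp_g L775215) q25725, e3 q25237 (flp_g L775225) q25726, e3 q25238 (flp_g L775262) q25730, e3 q25239 L770912 q24076, e3 q25240 L770916 q24077, e3 q25241 L770924 q24078, e3 q25242 L770931 q24079, e3 q25243 (flp_g L775062)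 q25712, e3 q25244 (flp_g L781527) q26332, e3 q25245 (flp_g L778578) q26022, e3 q25246 (flp_g L773632) q25608, e3 q25247 (flp_g L782463) q26426, e3 q25248 (flp_g L782469) q26427, e3 q25249 (flp_g L782477) q26428, e3 q25250 (flp_g L782493) q26430, e3 q25251 (flp_g L775439) q25744, e3 q25252 L771030 q24356, e3 q25253 (flp_g L775453) q25745, e3 q25254 (flp_g L775465) q25746, e3 q25255 (flp_g L775755) q25770, e3 q25256 (flp_g L775499) q25748, e3 q25257 (flp_g L775509) q25749, e3 q25258 (flp_g L775515) q25750, e3 q25259 (flp_g L781905) q26364, e3 q25260 (flp_g L775540) q25752, e3 q25261 (flp_g L775548) q25753, e3 q25262 L771099 q24091, e3 q25263 (flp_g L782684) q26453, e3 q25264 (flp_g L775630) q25760, e3 q25265 (flp_g L777729) q25931, e3 q25266 L771129 q24106, e3 q25267 L771135 q24107, e3 q25268 (flp_g L781519) q26331, e3 q25269 (flp_g L777759) q25935, e3 q25270 (flp_g L777769) q25936, e3 q25271 L771157 q24110, e3 q25272 (flp_g L777679) q25926, e3 q25273 (flp_g L781083) q26281, e3 q25274 (flp_g L778595) q26024, e3 q25275 (flp_g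 L777713) q25929, e3 q25276 (flp_g L777721) q25930, e3 q25277 (flp_g L773646) q25609, e3 q25278 (flp_g L773917) q25629, e3 q25279 (flp_g L773931) q25630, trivial⟩ (by decide +kernel)

theorem ce_g_395 : ∀ r, r < 64 → sm gg (Qf (25280 + r)) = Qf (tab Gen.g (25280 + r)) :=
  edges_tab (sm gg) Qf (tab Gen.g) 25280 [(25280, 25932), (25281, 25933), (25282, 26457), (25283, 26458), (25284, 26480), (25285, 24108), (25286, 25937), (25287, 26462), (25288, 24315), (25289, 25786), (25290, 26238), (25291, 25788), (25292, 25789), (25293, 25790), (25294, 24117), (25295, 26491), (25296, 25754), (25297, 25792), (25298, 25793), (25299, 24122), (25300, 26227), (25301, 26496), (25302, 26497), (25303, 25795), (25304, 25796), (25305, 25797), (25306, 25798), (25307, 26319), (25308, 25923), (25309, 24128), (25310, 24129), (25311, 26510), (25312, 26511), (25313, 25803), (25314, 25804), (25315, 26318), (25316, 25925), (25317, 24135), (25318, 26517), (25319, 25710), (25320, 25928), (25321, 24334), (25322, 25820), (25323, 25610), (25324, 26520), (25325,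 24149), (25326, 25821), (25327, 26304), (25328, 25829), (25329, 25872), (25330, 25833), (25331, 25834), (25332, 25908), (25333, 25837), (25334, 24253), (25335, 25847), (25336, 25848), (25337, 25849), (25338, 25917), (25339, 25854), (25340, 26347), (25341, 24246), (25342, 25876), (25343, 24255)]
    ⟨e3 q25280 (flp_g L777735) q25932, e3 q25281 (flp_g L777743) q25933, e3 q25282 (flp_g L782717) q26457, e3 q25283 (flp_g L782723) q26458, e3 q25284 L782882 q26480, e3 q25285 (flp_g L771260) q24108, e3 q25286 (flp_g L777778) q25937, e3 q25287 (flp_g L782745) q26462, e3 q25288 L771292 q24315, e3 q25289 (flp_g L775949) q25786, e3 q25290 (flp_g L780754) q26238, e3 q25291 (flp_g L775977) q25788, e3 q25292 (flp_g L775989) q25789, e3 q25293 (flp_g L776001) q25790, e3 q25294 L771336 q24117, e3 q25295 (flp_g L782969) q26491, e3 q25296 L775564 q25754, e3 q25297 (flp_g L776031) q25792, e3 q25298 (flp_g L776039) q25793, e3 q25299 L771368 q24122, e3 q25300 (flp_g L780669) q26227, e3 q25301 (flp_g L783005) q26496, e3 q25302 (flp_g L783015) q26497,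 e3 q25303 (flp_g L776061) q25795, e3 q25304 (flp_g L776073) q25796, e3 q25305 (flp_g L776089) q25797, e3 q25306 (flp_g L776101) q25798, e3 q25307 (flp_g L781396) q26319, e3 q25308 (flp_g L777647) q25923, e3 q25309 L771421 q24128, e3 q25310 L771427 q24129, e3 q25311 (flp_g L783091) q26510, e3 q25312 (flp_g L783097) q26511, e3 q25313 (flp_g L776173) q25803, e3 q25314 (flp_g L776179) q25804, e3 q25315 (flp_g L781390) q26318, e3 q25316 (flp_g L777667) q25925, e3 q25317 L771459 q24135, e3 q25318 (flp_g L783127) q26517, e3 q25319 (flp_g L775027) q25710, e3 q25320 (flp_g L777697) q25928, e3 q25321 L771497 q24334, e3 q25322 (flp_g L776346) q25820, e3 q25323 (flp_g L773660) q25610, e3 q25324 L783148 q26520, e3 q25325 (flp_g L771521) q24149, e3 q25326 (flp_g L776359) q25821, e3 q25327 (flp_g L781259) q26304, e3 q25328 (flp_g L776491) q25829, e3 q25329 (flp_g L777031) q25872, e3 q25330 (flp_g L776552) q25833, e3 q25331 (flp_g L776566) q25834, e3 q25332 (flp_g L777488) q25908, e3 q25333 (flp_g L776610) q25837, e3 q25334 L771599 q24253,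 e3 q25335 (flp_g L776742) q25847, e3 q25336 (flp_g L776752) q25848, e3 q25337 (flp_g L776760) q25849, e3 q25338 (flp_g L777560) q25917, e3 q25339 (flp_g L776817) q25854, e3 q25340 (flp_g L781708) q26347, e3 q25341 L771649 q24246, e3 q25342 (flp_g L777086) q25876, e3 q25343 L771661 q24255, trivial⟩ (by decide +kernel)

theorem ce_g_396 : ∀ r, r < 64 → sm gg (Qf (25344 + r)) = Qf (tab Gen.g (25344 + r)) :=
  edges_tab (sm gg) Qf (tab Gen.g) 25344 [(25344, 25861), (25345, 25862), (25346, 25877), (25347, 25878), (25348, 25863), (25349, 25864), (25350, 26549), (25351, 24177), (25352, 25879), (25353, 25870), (25354, 25899), (25355, 24272), (25356, 26139), (25357, 25891), (25358, 25893), (25359, 25894), (25360, 25898), (25361, 24192), (25362, 26557), (25363, 25911), (25364, 25912), (25365, 25954), (25366, 25916), (25367, 25947), (25368, 25948), (25369, 25856), (25370, 25950), (25371, 25951), (25372, 25952), (25373, 25955), (25374, 25956), (25375, 25910), (25376, 25962), (25377, 24212), (25378, 24213), (25379, 25582), (25380, 25583),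 (25381, 24214), (25382, 25835), (25383, 25836), (25384, 26571), (25385, 26572), (25386, 26575), (25387, 25980), (25388, 25595), (25389, 25983), (25390, 25984), (25391, 25844), (25392, 25987), (25393, 25988), (25394, 25871), (25395, 25993), (25396, 25994), (25397, 25995), (25398, 25996), (25399, 24226), (25400, 26592), (25401, 25581), (25402, 26003), (25403, 26004), (25404, 26597), (25405, 24230), (25406, 24233), (25407, 26598)]
    ⟨e3 q25344 (flp_g L776907) q25861, e3 q25345 (flp_g L776921) q25862, e3 q25346 (flp_g L777098) q25877, e3 q25347 (flp_g L777108) q25878, e3 q25348 (flp_g L776937) q25863, e3 q25349 (flp_g L776943) q25864, e3 q25350 L783345 q26549, e3 q25351 (flp_g L771701) q24177, e3 q25352 (flp_g L777116) q25879, e3 q25353 (flp_g L777007) q25870, e3 q25354 (flp_g L777377) q25899, e3 q25355 L771730 q24272, e3 q25356 (flp_g L779804) q26139, e3 q25357 (flp_g L777286) q25891, e3 q25358 (flp_g L777314) q25893, e3 q25359 (flp_g L777324) q25894, e3 q25360 (flp_g L777365) q25898, e3 q25361 L771774 q24192, e3 q25362 (flp_g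 L783404) q26557, e3 q25363 (flp_g L777512) q25911, e3 q25364 (flp_g L777520) q25912, e3 q25365 (flp_g L777965) q25954, e3 q25366 (flp_g L777546) q25916, e3 q25367 (flp_g L777891) q25947, e3 q25368 (flp_g L777905) q25948, e3 q25369 (flp_g L776846) q25856, e3 q25370 (flp_g L777932) q25950, e3 q25371 (flp_g L777940) q25951, e3 q25372 (flp_g L777946) q25952, e3 q25373 (flp_g L777975) q25955, e3 q25374 (flp_g L777983) q25956, e3 q25375 (flp_g L777502) q25910, e3 q25376 (flp_g L778033) q25962, e3 q25377 L771866 q24212, e3 q25378 L771872 q24213, e3 q25379 (flp_g L773244) q25582, e3 q25380 (flp_g L773260) q25583, e3 q25381 L771888 q24214, e3 q25382 (flp_g L776582) q25835, e3 q25383 (flp_g L776596) q25836, e3 q25384 (flp_g L783489) q26571, e3 q25385 (flp_g L783495) q26572, e3 q25386 (flp_g L783513) q26575, e3 q25387 (flp_g L778202) q25980, e3 q25388 (flp_g L773433) q25595, e3 q25389 (flp_g L778234) q25983, e3 q25390 (flp_g L778246) q25984, e3 q25391 (flp_g L776697) q25844, e3 q25392 (flp_g L778282) q25987, e3 q25393 (flp_g L778292)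 q25988, e3 q25394 (flp_g L777019) q25871, e3 q25395 (flp_g L778329) q25993, e3 q25396 (flp_g L778337) q25994, e3 q25397 (flp_g L778347) q25995, e3 q25398 (flp_g L778355) q25996, e3 q25399 L771988 q24226, e3 q25400 (flp_g L783609) q26592, e3 q25401 (flp_g L773228) q25581, e3 q25402 (flp_g L778405) q26003, e3 q25403 (flp_g L778411) q26004, e3 q25404 L783633 q26597, e3 q25405 (flp_g L772018) q24230, e3 q25406 L772024 q24233, e3 q25407 (flp_g L783639) q26598, trivial⟩ (by decide +kernel)

theorem ce_g_397 : ∀ r, r < 64 → sm gg (Qf (25408 + r)) = Qf (tab Gen.g (25408 + r)) :=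
  edges_tab (sm gg) Qf (tab Gen.g) 25408 [(25408, 25842), (25409, 24239), (25410, 26601), (25411, 26034), (25412, 26042), (25413, 24243), (25414, 26604), (25415, 26073), (25416, 26050), (25417, 26535), (25418, 24256), (25419, 24249), (25420, 26610), (25421, 26611), (25422, 24259), (25423, 25969), (25424, 26084), (25425, 26527), (25426, 26072), (25427, 26538), (25428, 26539), (25429, 26609), (25430, 24258), (25431, 26624), (25432, 26614), (25433, 25688), (25434, 24277), (25435, 25694), (25436, 25695), (25437, 26059), (25438, 26078), (25439, 26079), (25440, 26060), (25441, 26080), (25442, 26081), (25443, 26062), (25444, 26082), (25445, 26020), (25446, 26086), (25447, 26087), (25448, 26091), (25449, 26628), (25450, 26100), (25451, 24283), (25452, 26348), (25453, 26349), (25454, 24284), (25455, 26241), (25456, 26641), (25457, 26644), (25458, 25751), (25459, 26122), (25460, 26123), (25461, 26127), (25462, 26128), (25463, 26131), (25464, 26153), (25465, 26155), (25466, 26156), (25467, 26158), (25468, 26159), (25469, 26160), (25470,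 26163), (25471, 26164)]
    ⟨e3 q25408 (flp_g L776675) q25842, e3 q25409 L772046 q24239, e3 q25410 (flp_g L783660) q26601, e3 q25411 (flp_g L778712) q26034, e3 q25412 (flp_g L778790) q26042, e3 q25413 L772070 q24243, e3 q25414 (flp_g L783680) q26604, e3 q25415 (flp_g L779132) q26073, e3 q25416 (flp_g L778882) q26050, e3 q25417 (flp_g L783262) q26535, e3 q25418 L772102 q24256, e3 q25419 L772112 q24249, e3 q25420 (flp_g L783719) q26610, e3 q25421 (flp_g L783727) q26611, e3 q25422 L772129 q24259, e3 q25423 (flp_g L778104) q25969, e3 q25424 (flp_g L779227) q26084, e3 q25425 (flp_g L783209) q26527, e3 q25426 (flp_g L779118) q26072, e3 q25427 (flp_g L783281) q26538, e3 q25428 (flp_g L783289) q26539, e3 q25429 (flp_g L783713) q26609, e3 q25430 L772179 q24258, e3 q25431 (flp_g L783813) q26624, e3 q25432 (flp_g L783746) q26614, e3 q25433 (flp_g L774718) q25688, e3 q25434 L772213 q24277, e3 q25435 (flp_g L774806) q25694, e3 q25436 (flp_g L774820) q25695, e3 q25437 (flp_g L778977) q26059, e3 q25438 (flp_g L779174) q26078, e3 q25439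 (flp_g L779182) q26079, e3 q25440 (flp_g L778993) q26060, e3 q25441 (flp_g L779195) q26080, e3 q25442 (flp_g L779201) q26081, e3 q25443 (flp_g L779025) q26062, e3 q25444 (flp_g L779207) q26082, e3 q25445 (flp_g L778550) q26020, e3 q25446 (flp_g L779251) q26086, e3 q25447 (flp_g L779265) q26087, e3 q25448 (flp_g L779307) q26091, e3 q25449 (flp_g L783850) q26628, e3 q25450 (flp_g L779407) q26100, e3 q25451 L772309 q24283, e3 q25452 (flp_g L781720) q26348, e3 q25453 (flp_g L781734) q26349, e3 q25454 L772326 q24284, e3 q25455 (flp_g L780781) q26241, e3 q25456 (flp_g L783928) q26641, e3 q25457 (flp_g L783942) q26644, e3 q25458 (flp_g L775528) q25751, e3 q25459 (flp_g L779632) q26122, e3 q25460 (flp_g L779644) q26123, e3 q25461 (flp_g L779689) q26127, e3 q25462 (flp_g L779701) q26128, e3 q25463 (flp_g L779729) q26131, e3 q25464 (flp_g L779937) q26153, e3 q25465 (flp_g L779962) q26155, e3 q25466 (flp_g L779976) q26156, e3 q25467 (flp_g L779996) q26158, e3 q25468 (flp_g L780002) q26159, e3 q25469 (flp_g L780010) q26160, e3 q25470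 (flp_g L780043) q26163, e3 q25471 (flp_g L780053) q26164, trivial⟩ (by decide +kernel)

theorem ce_g_398 : ∀ r, r < 64 → sm gg (Qf (25472 + r)) = Qf (tab Gen.g (25472 + r)) :=
  edges_tab (sm gg) Qf (tab Gen.g) 25472 [(25472, 25817), (25473, 26168), (25474, 26169), (25475, 26176), (25476, 25724), (25477, 24309), (25478, 25728), (25479, 25729), (25480, 24310), (25481, 26278), (25482, 26233), (25483, 26667), (25484, 26670), (25485, 25791), (25486, 25755), (25487, 26147), (25488, 26192), (25489, 26482), (25490, 26483), (25491, 26193), (25492, 24319), (25493, 24320), (25494, 26683), (25495, 26684), (25496, 26685), (25497, 26196), (25498, 26197), (25499, 25713), (25500, 24325), (25501, 24326), (25502, 26694), (25503, 26695), (25504, 26201), (25505, 25717), (25506, 24330), (25507, 26700), (25508, 25662), (25509, 25714), (25510, 26403), (25511, 26404), (25512, 24348), (25513, 24340), (25514, 24341), (25515, 26704), (25516, 26705), (25517, 24355), (25518, 26398), (25519, 26399), (25520, 26280), (25521, 26267), (25522, 26405), (25523,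 26406), (25524, 26716), (25525, 26703), (25526, 26262), (25527, 26719), (25528, 24350), (25529, 24378), (25530, 24354), (25531, 26721), (25532, 26442), (25533, 26258), (25534, 24359), (25535, 24360)]
    ⟨e3 q25472 (flp_g L776310) q25817, e3 q25473 (flp_g L780082) q26168, e3 q25474 (flp_g L780088) q26169, e3 q25475 (flp_g L780138) q26176, e3 q25476 (flp_g L775207) q25724, e3 q25477 L772446 q24309, e3 q25478 (flp_g L775243) q25728, e3 q25479 (flp_g L775253) q25729, e3 q25480 L772465 q24310, e3 q25481 (flp_g L781057) q26278, e3 q25482 (flp_g L780704) q26233, e3 q25483 (flp_g L784071) q26667, e3 q25484 (flp_g L784089) q26670, e3 q25485 (flp_g L776017) q25791, e3 q25486 (flp_g L775574) q25755, e3 q25487 (flp_g L779886) q26147, e3 q25488 (flp_g L780297) q26192, e3 q25489 (flp_g L782904) q26482, e3 q25490 (flp_g L782916) q26483, e3 q25491 (flp_g L780307) q26193, e3 q25492 L772540 q24319, e3 q25493 L772546 q24320, e3 q25494 (flp_g L784170) q26683, e3 q25495 (flp_g L784178) q26684, e3 q25496 (flp_g L784184) q26685, e3 q25497 (flp_g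 L780343) q26196, e3 q25498 (flp_g L780355) q26197, e3 q25499 (flp_g L775072) q25713, e3 q25500 L772587 q24325, e3 q25501 L772595 q24326, e3 q25502 (flp_g L784246) q26694, e3 q25503 (flp_g L784254) q26695, e3 q25504 (flp_g L780399) q26201, e3 q25505 (flp_g L775124) q25717, e3 q25506 L772629 q24330, e3 q25507 (flp_g L784286) q26700, e3 q25508 (flp_g L774339) q25662, e3 q25509 (flp_g L775084) q25714, e3 q25510 (flp_g L782256) q26403, e3 q25511 (flp_g L782266) q26404, e3 q25512 L772670 q24348, e3 q25513 L772676 q24340, e3 q25514 L772680 q24341, e3 q25515 (flp_g L784310) q26704, e3 q25516 (flp_g L784316) q26705, e3 q25517 L772693 q24355, e3 q25518 (flp_g L782216) q26398, e3 q25519 (flp_g L782224) q26399, e3 q25520 (flp_g L781075) q26280, e3 q25521 (flp_g L780972) q26267, e3 q25522 (flp_g L782275) q26405, e3 q25523 (flp_g L782285) q26406, e3 q25524 L784393 q26716, e3 q25525 (flp_g L784304) q26703, e3 q25526 (flp_g L780932) q26262, e3 q25527 L784423 q26719, e3 q25528 (flp_g L772785) q24350, e3 q25529 L772795 q24378, e3 q25530 L772801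 q24354, e3 q25531 (flp_g L784437) q26721, e3 q25532 (flp_g L782605) q26442, e3 q25533 (flp_g L780899) q26258, e3 q25534 L772819 q24359, e3 q25535 L772825 q24360, trivial⟩ (by decide +kernel)

theorem ce_g_399 : ∀ r, r < 64 → sm gg (Qf (25536 + r)) = Qf (tab Gen.g (25536 + r)) :=
  edges_tab (sm gg) Qf (tab Gen.g) 25536 [(25536, 26724), (25537, 26725), (25538, 26266), (25539, 24364), (25540, 24365), (25541, 24366), (25542, 26729), (25543, 26730), (25544, 26731), (25545, 26732), (25546, 26277), (25547, 26279), (25548, 26388), (25549, 26389), (25550, 24372), (25551, 24373), (25552, 26402), (25553, 26742), (25554, 26743), (25555, 26401), (25556, 26292), (25557, 26400), (25558, 26720), (25559, 24380), (25560, 26416), (25561, 24383), (25562, 25816), (25563, 25762), (25564, 25763), (25565, 24399), (25566, 26417), (25567, 24734), (25568, 25148), (25569, 24738), (25570, 24789), (25571, 25155), (25572, 24747), (25573, 24422), (25574, 24751), (25575, 24752), (25576, 25149), (25577, 24758), (25578, 24759), (25579, 25150), (25580, 25152),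 (25581, 25401), (25582, 25379), (25583, 25380), (25584, 25153), (25585, 24421), (25586, 26755), (25587, 25164), (25588, 24740), (25589, 24426), (25590, 24427), (25591, 26770), (25592, 26771), (25593, 25167), (25594, 24703), (25595, 25388), (25596, 24901), (25597, 24823), (25598, 24528), (25599, 24465)]
    ⟨e3 q25536 (flp_g L784449) q26724, e3 q25537 (flp_g L784457) q26725, e3 q25538 (flp_g L780964) q26266, e3 q25539 L772845 q24364, e3 q25540 L772851 q24365, e3 q25541 L772857 q24366, e3 q25542 (flp_g L784479) q26729, e3 q25543 (flp_g L784485) q26730, e3 q25544 (flp_g L784493) q26731, e3 q25545 (flp_g L784501) q26732, e3 q25546 (flp_g L781047) q26277, e3 q25547 (flp_g L781065) q26279, e3 q25548 (flp_g L782116) q26388, e3 q25549 (flp_g L782128) q26389, e3 q25550 L772911 q24372, e3 q25551 L772917 q24373, e3 q25552 (flp_g L782248) q26402, e3 q25553 (flp_g L784563) q26742, e3 q25554 (flp_g L784569) q26743, e3 q25555 (flp_g L782240) q26401, e3 q25556 (flp_g L781169) q26292, e3 q25557 (flp_g L782232) q26400, e3 q25558 (flp_g L784431)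 q26720, e3 q25559 L772953 q24380, e3 q25560 (flp_g L782368) q26416, e3 q25561 (flp_g L772965) q24383, e3 q25562 (flp_g L776296) q25816, e3 q25563 (flp_g L775657) q25762, e3 q25564 (flp_g L775672) q25763, e3 q25565 L772989 q24399, e3 q25566 (flp_g L782379) q26417, e3 q25567 L773007 q24734, e3 q25568 L773021 q25148, e3 q25569 L773039 q24738, e3 q25570 L773056 q24789, e3 q25571 L773072 q25155, e3 q25572 L773090 q24747, e3 q25573 L773106 q24422, e3 q25574 L773122 q24751, e3 q25575 L773132 q24752, e3 q25576 L773146 q25149, e3 q25577 L773160 q24758, e3 q25578 L773178 q24759, e3 q25579 L773194 q25150, e3 q25580 L773212 q25152, e3 q25581 L773228 q25401, e3 q25582 L773244 q25379, e3 q25583 L773260 q25380, e3 q25584 L773274 q25153, e3 q25585 L773290 q24421, e3 q25586 (flp_g L784703) q26755, e3 q25587 L773321 q25164, e3 q25588 L773339 q24740, e3 q25589 L773355 q24426, e3 q25590 L773369 q24427, e3 q25591 (flp_g L784938) q26770, e3 q25592 (flp_g L784952) q26771, e3 q25593 L773407 q25167, e3 q25594 L773419 q24703, e3 q25595 L773433 q25388,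 e3 q25596 L773451 q24901, e3 q25597 L773466 q24823, e3 q25598 L773478 q24528, e3 q25599 L773500 q24465, trivial⟩ (by decide +kernel)

theorem ce_g_400 : ∀ r, r < 64 → sm gg (Qf (25600 + r)) = Qf (tab Gen.g (25600 + r)) :=
  edges_tab (sm gg) Qf (tab Gen.g) 25600 [(25600, 24486), (25601, 25143), (25602, 24917), (25603, 25170), (25604, 25171), (25605, 24920), (25606, 25172), (25607, 24450), (25608, 25246), (25609, 25277), (25610, 25323), (25611, 24449), (25612, 26796), (25613, 26791), (25614, 24572), (25615, 25088), (25616, 25097), (25617, 25094), (25618, 25119), (25619, 24927), (25620, 24928), (25621, 25174), (25622, 26809), (25623, 24459), (25624, 26810), (25625, 26811), (25626, 24933), (25627, 24470), (25628, 26780), (25629, 25278), (25630, 25279), (25631, 26820), (25632, 24469), (25633, 26821), (25634, 26822), (25635, 26814), (25636, 24570), (25637, 24606), (25638, 25177), (25639, 25178), (25640, 24950), (25641, 24951), (25642, 24573), (25643, 24608), (25644, 24609), (25645, 24954), (25646, 24955), (25647, 25179), (25648,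 25180), (25649, 26845), (25650, 24482), (25651, 24957), (25652, 24958), (25653, 25181), (25654, 26781), (25655, 26782), (25656, 26851), (25657, 24489), (25658, 24491), (25659, 24492), (25660, 26852), (25661, 24966), (25662, 25508), (25663, 24967)]
    ⟨e3 q25600 L773513 q24486, e3 q25601 L773531 q25143, e3 q25602 L773548 q24917, e3 q25603 L773558 q25170, e3 q25604 L773570 q25171, e3 q25605 L773585 q24920, e3 q25606 L773597 q25172, e3 q25607 L773611 q24450, e3 q25608 L773632 q25246, e3 q25609 L773646 q25277, e3 q25610 L773660 q25323, e3 q25611 L773679 q24449, e3 q25612 (flp_g L785318) q26796, e3 q25613 (flp_g L785241) q26791, e3 q25614 L773718 q24572, e3 q25615 L773732 q25088, e3 q25616 L773742 q25097, e3 q25617 L773754 q25094, e3 q25618 L773773 q25119, e3 q25619 L773781 q24927, e3 q25620 L773793 q24928, e3 q25621 L773805 q25174, e3 q25622 L785473 q26809, e3 q25623 L773833 q24459, e3 q25624 (flp_g L785494) q26810, e3 q25625 (flp_g L785511) q26811, e3 q25626 L773876 q24933, e3 q25627 L773891 q24470, e3 q25628 (flp_g L785089)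 q26780, e3 q25629 L773917 q25278, e3 q25630 L773931 q25279, e3 q25631 L785629 q26820, e3 q25632 L773961 q24469, e3 q25633 (flp_g L785651) q26821, e3 q25634 (flp_g L785663) q26822, e3 q25635 (flp_g L785555) q26814, e3 q25636 L774009 q24570, e3 q25637 L774023 q24606, e3 q25638 L774035 q25177, e3 q25639 L774049 q25178, e3 q25640 L774070 q24950, e3 q25641 L774084 q24951, e3 q25642 L774094 q24573, e3 q25643 L774104 q24608, e3 q25644 L774116 q24609, e3 q25645 L774130 q24954, e3 q25646 L774142 q24955, e3 q25647 L774152 q25179, e3 q25648 L774160 q25180, e3 q25649 L785940 q26845, e3 q25650 (flp_g L774172) q24482, e3 q25651 L774194 q24957, e3 q25652 L774204 q24958, e3 q25653 L774214 q25181, e3 q25654 (flp_g L785102) q26781, e3 q25655 (flp_g L785119) q26782, e3 q25656 L786016 q26851, e3 q25657 (flp_g L774259) q24489, e3 q25658 L774277 q24491, e3 q25659 L774291 q24492, e3 q25660 (flp_g L786040) q26852, e3 q25661 L774319 q24966, e3 q25662 L774339 q25508, e3 q25663 L774347 q24967, trivial⟩ (by decide +kernel)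

theorem ce_g_401 : ∀ r, r < 64 → sm gg (Qf (25664 + r)) = Qf (tab Gen.g (25664 + r)) :=
  edges_tab (sm gg) Qf (tab Gen.g) 25664 [(25664, 24500), (25665, 24651), (25666, 24509), (25667, 24970), (25668, 24503), (25669, 24571), (25670, 24607), (25671, 24574), (25672, 26857), (25673, 24871), (25674, 24893), (25675, 24517), (25676, 24518), (25677, 24816), (25678, 24519), (25679, 26863), (25680, 26777), (25681, 26865), (25682, 24874), (25683, 24880), (25684, 24881), (25685, 24867), (25686, 24868), (25687, 25183), (25688, 25433), (25689, 25173), (25690, 26779), (25691, 25184), (25692, 25185), (25693, 25186), (25694, 25435), (25695, 25436), (25696, 25187), (25697, 24824), (25698, 24537), (25699, 26889), (25700, 25213), (25701, 25214), (25702, 24807), (25703, 24542), (25704, 24543), (25705, 26895), (25706, 26896), (25707, 25217), (25708, 24852), (25709, 24986), (25710, 25319), (25711, 24982), (25712, 25243), (25713, 25499), (25714, 25509), (25715, 24555), (25716, 26906), (25717, 25505), (25718, 25013), (25719, 24593), (25720, 25232),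 (25721, 25233), (25722, 25234), (25723, 25235), (25724, 25476), (25725, 25236), (25726, 25237), (25727, 26923)]
    ⟨e3 q25664 L774357 q24500, e3 q25665 L774380 q24651, e3 q25666 L774390 q24509, e3 q25667 L774405 q24970, e3 q25668 (flp_g L774409) q24503, e3 q25669 L774433 q24571, e3 q25670 L774450 q24607, e3 q25671 L774464 q24574, e3 q25672 (flp_g L786112) q26857, e3 q25673 L774492 q24871, e3 q25674 L774510 q24893, e3 q25675 L774530 q24517, e3 q25676 L774543 q24518, e3 q25677 L774563 q24816, e3 q25678 L774575 q24519, e3 q25679 (flp_g L786201) q26863, e3 q25680 (flp_g L785044) q26777, e3 q25681 (flp_g L786231) q26865, e3 q25682 L774634 q24874, e3 q25683 L774648 q24880, e3 q25684 L774660 q24881, e3 q25685 L774674 q24867, e3 q25686 L774690 q24868, e3 q25687 L774706 q25183, e3 q25688 L774718 q25433, e3 q25689 L774732 q25173, e3 q25690 (flp_g L785071) q26779, e3 q25691 L774762 q25184, e3 q25692 L774776 q25185, e3 q25693 L774790 q25186, e3 q25694 L774806 q25435, e3 q25695 L774820 q25436, e3 q25696 L774834 q25187, e3 q25697 L774844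 q24824, e3 q25698 L774856 q24537, e3 q25699 (flp_g L786579) q26889, e3 q25700 L774882 q25213, e3 q25701 L774896 q25214, e3 q25702 L774914 q24807, e3 q25703 L774928 q24542, e3 q25704 L774942 q24543, e3 q25705 (flp_g L786671) q26895, e3 q25706 (flp_g L786685) q26896, e3 q25707 L774980 q25217, e3 q25708 L774992 q24852, e3 q25709 L775014 q24986, e3 q25710 L775027 q25319, e3 q25711 L775045 q24982, e3 q25712 L775062 q25243, e3 q25713 L775072 q25499, e3 q25714 L775084 q25509, e3 q25715 L775102 q24555, e3 q25716 (flp_g L786824) q26906, e3 q25717 L775124 q25505, e3 q25718 L775144 q25013, e3 q25719 L775157 q24593, e3 q25720 L775168 q25232, e3 q25721 L775175 q25233, e3 q25722 L775186 q25234, e3 q25723 L775195 q25235, e3 q25724 L775207 q25476, e3 q25725 L775215 q25236, e3 q25726 L775225 q25237, e3 q25727 L787005 q26923, trivial⟩ (by decide +kernel)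

theorem ce_g_402 : ∀ r, r < 64 → sm gg (Qf (25728 + r)) = Qf (tab Gen.g (25728 + r)) :=
  edges_tab (sm gg) Qf (tab Gen.g) 25728 [(25728, 25478), (25729, 25479), (25730, 25238), (25731, 24568), (25732, 26927), (25733, 24577), (25734, 26826), (25735, 26859), (25736, 26800), (25737, 26834), (25738, 26835), (25739, 26911), (25740, 24576), (25741, 26938), (25742, 26939), (25743, 26930), (25744, 25251), (25745, 25253), (25746, 25254), (25747, 25002), (25748, 25256), (25749, 25257), (25750, 25258), (25751, 25458), (25752, 25260), (25753, 25261), (25754, 25296), (25755, 25486), (25756, 24590), (25757, 24591), (25758, 26959), (25759, 26960), (25760, 25264), (25761, 24596), (25762, 25563), (25763, 25564), (25764, 25075), (25765, 24766), (25766, 24602), (25767, 26968), (25768, 26969), (25769, 24615), (25770, 25255), (25771, 24904), (25772, 26827), (25773, 26828), (25774, 24656), (25775, 26836), (25776, 26837), (25777, 26981), (25778, 24610), (25779, 24635), (25780, 24613), (25781, 24614), (25782, 26984), (25783, 26985), (25784, 26972),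 (25785, 24975), (25786, 25289), (25787, 24649), (25788, 25291), (25789, 25292), (25790, 25293), (25791, 25485)]
    ⟨e3 q25728 L775243 q25478, e3 q25729 L775253 q25479, e3 q25730 L775262 q25238, e3 q25731 L775281 q24568, e3 q25732 (flp_g L787057) q26927, e3 q25733 L775301 q24577, e3 q25734 (flp_g L785709) q26826, e3 q25735 (flp_g L786136) q26859, e3 q25736 (flp_g L785370) q26800, e3 q25737 (flp_g L785824) q26834, e3 q25738 (flp_g L785836) q26835, e3 q25739 (flp_g L786891) q26911, e3 q25740 L775393 q24576, e3 q25741 (flp_g L787197) q26938, e3 q25742 (flp_g L787211) q26939, e3 q25743 (flp_g L787090) q26930, e3 q25744 L775439 q25251, e3 q25745 L775453 q25253, e3 q25746 L775465 q25254, e3 q25747 L775481 q25002, e3 q25748 L775499 q25256, e3 q25749 L775509 q25257, e3 q25750 L775515 q25258, e3 q25751 L775528 q25458, e3 q25752 L775540 q25260, e3 q25753 L775548 q25261, e3 q25754 (flp_g L775564) q25296, e3 q25755 L775574 q25486, e3 q25756 L775588 q24590, e3 q25757 L775602 q24591, e3 q25758 (flp_g L787472) q26959, e3 q25759 (flp_g L787486)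 q26960, e3 q25760 L775630 q25264, e3 q25761 L775642 q24596, e3 q25762 L775657 q25563, e3 q25763 L775672 q25564, e3 q25764 L775687 q25075, e3 q25765 L775704 q24766, e3 q25766 L775718 q24602, e3 q25767 (flp_g L787585) q26968, e3 q25768 (flp_g L787597) q26969, e3 q25769 L775741 q24615, e3 q25770 L775755 q25255, e3 q25771 L775771 q24904, e3 q25772 (flp_g L785723) q26827, e3 q25773 (flp_g L785737) q26828, e3 q25774 L775817 q24656, e3 q25775 (flp_g L785848) q26836, e3 q25776 (flp_g L785860) q26837, e3 q25777 L787732 q26981, e3 q25778 (flp_g L775851) q24610, e3 q25779 L775869 q24635, e3 q25780 L775881 q24613, e3 q25781 L775893 q24614, e3 q25782 (flp_g L787782) q26984, e3 q25783 (flp_g L787794) q26985, e3 q25784 (flp_g L787624) q26972, e3 q25785 L775935 q24975, e3 q25786 L775949 q25289, e3 q25787 L775961 q24649, e3 q25788 L775977 q25291, e3 q25789 L775989 q25292, e3 q25790 L776001 q25293, e3 q25791 L776017 q25485, trivial⟩ (by decide +kernel)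

theorem ce_g_403 : ∀ r, r < 64 → sm gg (Qf (25792 + r)) = Qf (tab Gen.g (25792 + r)) :=
  edges_tab (sm gg) Qf (tab Gen.g) 25792 [(25792, 25297), (25793, 25298), (25794, 24902), (25795, 25303), (25796, 25304), (25797, 25305), (25798, 25306), (25799, 27006), (25800, 24939), (25801, 24630), (25802, 27008), (25803, 25313), (25804, 25314), (25805, 27012), (25806, 24633), (25807, 26982), (25808, 26983), (25809, 24638), (25810, 24639), (25811, 27015), (25812, 27016), (25813, 26992), (25814, 24647), (25815, 26853), (25816, 25562), (25817, 25472), (25818, 25019), (25819, 26977), (25820, 25322), (25821, 25326), (25822, 24660), (25823, 24727), (25824, 25151), (25825, 24712), (25826, 24819), (25827, 24842), (25828, 25157), (25829, 25328), (25830, 25168), (25831, 24671), (25832, 27031), (25833, 25330), (25834, 25331), (25835, 25382), (25836, 25383), (25837, 25333), (25838, 24870), (25839, 24876), (25840, 24878), (25841, 24883), (25842, 25408), (25843, 25182), (25844, 25391), (25845, 24780), (25846, 24781), (25847, 25335), (25848, 25336),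 (25849, 25337), (25850, 24841), (25851, 24690), (25852, 27054), (25853, 27055), (25854, 25339), (25855, 24695)]
    ⟨e3 q25792 L776031 q25297, e3 q25793 L776039 q25298, e3 q25794 L776053 q24902, e3 q25795 L776061 q25303, e3 q25796 L776073 q25304, e3 q25797 L776089 q25305, e3 q25798 L776101 q25306, e3 q25799 L788070 q27006, e3 q25800 L776131 q24939, e3 q25801 L776149 q24630, e3 q25802 (flp_g L788114) q27008, e3 q25803 L776173 q25313, e3 q25804 L776179 q25314, e3 q25805 L788148 q27012, e3 q25806 (flp_g L776189) q24633, e3 q25807 (flp_g L787750) q26982, e3 q25808 (flp_g L787766) q26983, e3 q25809 L776227 q24638, e3 q25810 L776235 q24639, e3 q25811 (flp_g L788186) q27015, e3 q25812 (flp_g L788194) q27016, e3 q25813 (flp_g L787884) q26992, e3 q25814 L776265 q24647, e3 q25815 (flp_g L786061) q26853, e3 q25816 L776296 q25562, e3 q25817 L776310 q25472, e3 q25818 L776324 q25019, e3 q25819 (flp_g L787698) q26977, e3 q25820 L776346 q25322, e3 q25821 L776359 q25326, e3 q25822 (flp_g L776368) q24660, e3 q25823 L776394 q24727, e3 q25824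 L776412 q25151, e3 q25825 L776428 q24712, e3 q25826 L776446 q24819, e3 q25827 L776460 q24842, e3 q25828 L776477 q25157, e3 q25829 L776491 q25328, e3 q25830 L776505 q25168, e3 q25831 L776522 q24671, e3 q25832 (flp_g L788396) q27031, e3 q25833 L776552 q25330, e3 q25834 L776566 q25331, e3 q25835 L776582 q25382, e3 q25836 L776596 q25383, e3 q25837 L776610 q25333, e3 q25838 L776625 q24870, e3 q25839 L776642 q24876, e3 q25840 L776652 q24878, e3 q25841 L776662 q24883, e3 q25842 L776675 q25408, e3 q25843 L776687 q25182, e3 q25844 L776697 q25391, e3 q25845 L776711 q24780, e3 q25846 L776727 q24781, e3 q25847 L776742 q25335, e3 q25848 L776752 q25336, e3 q25849 L776760 q25337, e3 q25850 (flp_g L776781) q24841, e3 q25851 L776791 q24690, e3 q25852 (flp_g L788700) q27054, e3 q25853 (flp_g L788716) q27055, e3 q25854 L776817 q25339, e3 q25855 L776829 q24695, trivial⟩ (by decide +kernel)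

theorem ce_g_404 : ∀ r, r < 64 → sm gg (Qf (25856 + r)) = Qf (tab Gen.g (25856 + r)) :=
  edges_tab (sm gg) Qf (tab Gen.g) 25856 [(25856, 25369), (25857, 24697), (25858, 27060), (25859, 24809), (25860, 24810), (25861, 25344), (25862, 25345), (25863, 25348), (25864, 25349), (25865, 26775), (25866, 24705), (25867, 24706), (25868, 27069), (25869, 27070), (25870, 25353), (25871, 25394), (25872, 25329), (25873, 27025), (25874, 24805), (25875, 24808), (25876, 25342), (25877, 25346), (25878, 25347), (25879, 25352), (25880, 24861), (25881, 25196), (25882, 25078), (25883, 25198), (25884, 25219), (25885, 25192), (25886, 25202), (25887, 24802), (25888, 27023), (25889, 24782), (25890, 24797), (25891, 25357), (25892, 24835), (25893, 25358), (25894, 25359), (25895, 24846), (25896, 26749), (25897, 26750), (25898, 25360), (25899, 25354), (25900, 24743), (25901, 26769), (25902, 24742), (25903, 27108), (25904, 27106), (25905, 24811), (25906, 24812), (25907, 24750), (25908, 25332), (25909, 26754), (25910, 25375), (25911, 25363), (25912, 25364),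 (25913, 27114), (25914, 26756), (25915, 26757), (25916, 25366), (25917, 25338), (25918, 24792), (25919, 26759)]
    ⟨e3 q25856 L776846 q25369, e3 q25857 L776861 q24697, e3 q25858 (flp_g L788776) q27060, e3 q25859 L776881 q24809, e3 q25860 L776893 q24810, e3 q25861 L776907 q25344, e3 q25862 L776921 q25345, e3 q25863 L776937 q25348, e3 q25864 L776943 q25349, e3 q25865 (flp_g L785010) q26775, e3 q25866 L776967 q24705, e3 q25867 L776979 q24706, e3 q25868 (flp_g L788882) q27069, e3 q25869 (flp_g L788896) q27070, e3 q25870 L777007 q25353, e3 q25871 L777019 q25394, e3 q25872 L777031 q25329, e3 q25873 (flp_g L788302) q27025, e3 q25874 L777060 q24805, e3 q25875 L777074 q24808, e3 q25876 L777086 q25342, e3 q25877 L777098 q25346, e3 q25878 L777108 q25347, e3 q25879 L777116 q25352, e3 q25880 L777128 q24861, e3 q25881 L777149 q25196, e3 q25882 L777166 q25078, e3 q25883 L777178 q25198, e3 q25884 L777192 q25219, e3 q25885 L777207 q25192, e3 q25886 L777219 q25202, e3 q25887 L777233 q24802, e3 q25888 (flp_g L788268) q27023, e3 q25889 L777257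 q24782, e3 q25890 L777271 q24797, e3 q25891 L777286 q25357, e3 q25892 L777300 q24835, e3 q25893 L777314 q25358, e3 q25894 L777324 q25359, e3 q25895 L777345 q24846, e3 q25896 (flp_g L784601) q26749, e3 q25897 (flp_g L784617) q26750, e3 q25898 L777365 q25360, e3 q25899 L777377 q25354, e3 q25900 L777390 q24743, e3 q25901 (flp_g L784922) q26769, e3 q25902 L777412 q24742, e3 q25903 (flp_g L789359) q27108, e3 q25904 (flp_g L789341) q27106, e3 q25905 L777438 q24811, e3 q25906 L777446 q24812, e3 q25907 L777462 q24750, e3 q25908 L777488 q25332, e3 q25909 (flp_g L784687) q26754, e3 q25910 L777502 q25375, e3 q25911 L777512 q25363, e3 q25912 L777520 q25364, e3 q25913 (flp_g L789431) q27114, e3 q25914 (flp_g L784717) q26756, e3 q25915 (flp_g L784729) q26757, e3 q25916 L777546 q25366, e3 q25917 L777560 q25338, e3 q25918 L777584 q24792, e3 q25919 (flp_g L784757) q26759, trivial⟩ (by decide +kernel)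

theorem ce_g_405 : ∀ r, r < 64 → sm gg (Qf (25920 + r)) = Qf (tab Gen.g (25920 + r)) :=
  edges_tab (sm gg) Qf (tab Gen.g) 25920 [(25920, 26760), (25921, 24934), (25922, 24938), (25923, 25308), (25924, 26967), (25925, 25316), (25926, 25272), (25927, 25126), (25928, 25320), (25929, 25275), (25930, 25276), (25931, 25265), (25932, 25280), (25933, 25281), (25934, 27145), (25935, 25269), (25936, 25270), (25937, 25286), (25938, 24783), (25939, 24922), (25940, 24936), (25941, 27047), (25942, 27048), (25943, 27094), (25944, 27095), (25945, 27149), (25946, 24885), (25947, 25367), (25948, 25368), (25949, 24801), (25950, 25370), (25951, 25371), (25952, 25372), (25953, 26752), (25954, 25365), (25955, 25373), (25956, 25374), (25957, 27117), (25958, 24794), (25959, 24795), (25960, 27173), (25961, 27174), (25962, 25376), (25963, 27162), (25964, 27092), (25965, 27059), (25966, 24813), (25967, 24915), (25968, 27076), (25969, 25423), (25970, 26893), (25971, 26894), (25972, 27077), (25973, 27053), (25974, 27062), (25975, 27063), (25976, 27111),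 (25977, 27112), (25978, 27181), (25979, 24895), (25980, 25387), (25981, 26864), (25982, 24908), (25983, 25389)]
    ⟨e3 q25920 (flp_g L784776) q26760, e3 q25921 L777620 q24934, e3 q25922 L777637 q24938, e3 q25923 L777647 q25308, e3 q25924 (flp_g L787571) q26967, e3 q25925 L777667 q25316, e3 q25926 L777679 q25272, e3 q25927 L777686 q25126, e3 q25928 L777697 q25320, e3 q25929 L777713 q25275, e3 q25930 L777721 q25276, e3 q25931 L777729 q25265, e3 q25932 L777735 q25280, e3 q25933 L777743 q25281, e3 q25934 L789743 q27145, e3 q25935 L777759 q25269, e3 q25936 L777769 q25270, e3 q25937 L777778 q25286, e3 q25938 L777790 q24783, e3 q25939 L777809 q24922, e3 q25940 L777823 q24936, e3 q25941 (flp_g L788607) q27047, e3 q25942 (flp_g L788623) q27048, e3 q25943 (flp_g L789202) q27094, e3 q25944 (flp_g L789216) q27095, e3 q25945 (flp_g L789789) q27149, e3 q25946 L777879 q24885, e3 q25947 L777891 q25367, e3 q25948 L777905 q25368, e3 q25949 L777928 q24801, e3 q25950 L777932 q25370, e3 q25951 L777940 q25371, e3 q25952 L777946 q25372, e3 q25953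 (flp_g L784653) q26752, e3 q25954 L777965 q25365, e3 q25955 L777975 q25373, e3 q25956 L777983 q25374, e3 q25957 (flp_g L789469) q27117, e3 q25958 L777997 q24794, e3 q25959 L778007 q24795, e3 q25960 (flp_g L790035) q27173, e3 q25961 (flp_g L790047) q27174, e3 q25962 L778033 q25376, e3 q25963 (flp_g L789951) q27162, e3 q25964 (flp_g L789180) q27092, e3 q25965 (flp_g L788758) q27059, e3 q25966 L778065 q24813, e3 q25967 L778082 q24915, e3 q25968 (flp_g L788966) q27076, e3 q25969 L778104 q25423, e3 q25970 (flp_g L786637) q26893, e3 q25971 (flp_g L786653) q26894, e3 q25972 (flp_g L788980) q27077, e3 q25973 L788692 q27053, e3 q25974 (flp_g L788798) q27062, e3 q25975 (flp_g L788810) q27063, e3 q25976 (flp_g L789389) q27111, e3 q25977 (flp_g L789399) q27112, e3 q25978 (flp_g L790104) q27181, e3 q25979 L778190 q24895, e3 q25980 L778202 q25387, e3 q25981 (flp_g L786217) q26864, e3 q25982 L778226 q24908, e3 q25983 L778234 q25389, trivial⟩ (by decide +kernel)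

theorem ce_g_406 : ∀ r, r < 64 → sm gg (Qf (25984 + r)) = Qf (tab Gen.g (25984 + r)) :=
  edges_tab (sm gg) Qf (tab Gen.g) 25984 [(25984, 25390), (25985, 27026), (25986, 27027), (25987, 25392), (25988, 25393), (25989, 24847), (25990, 26778), (25991, 26887), (25992, 26888), (25993, 25395), (25994, 25396), (25995, 25397), (25996, 25398), (25997, 27222), (25998, 24829), (25999, 24830), (26000, 27223), (26001, 27224), (26002, 27101), (26003, 25402), (26004, 25403), (26005, 27231), (26006, 24833), (26007, 27098), (26008, 24838), (26009, 24839), (26010, 27233), (26011, 27234), (26012, 27209), (26013, 24845), (26014, 27206), (26015, 27203), (26016, 24850), (26017, 24860), (26018, 24859), (26019, 27240), (26020, 25445), (26021, 24909), (26022, 25245), (26023, 27242), (26024, 25274), (26025, 27241), (26026, 27083), (26027, 25211), (26028, 25212), (26029, 25216), (26030, 24866), (26031, 27250), (26032, 26873), (26033, 26874), (26034, 25411), (26035, 27038), (26036, 26861), (26037, 24888), (26038, 24889), (26039, 25114), (26040, 26869),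 (26041, 26870), (26042, 25412), (26043, 27039), (26044, 24879), (26045, 27040), (26046, 27041), (26047, 27265)]
    ⟨e3 q25984 L778246 q25390, e3 q25985 (flp_g L788318) q27026, e3 q25986 (flp_g L788332) q27027, e3 q25987 L778282 q25392, e3 q25988 L778292 q25393, e3 q25989 L778306 q24847, e3 q25990 (flp_g L785057) q26778, e3 q25991 (flp_g L786552) q26887, e3 q25992 (flp_g L786564) q26888, e3 q25993 L778329 q25395, e3 q25994 L778337 q25396, e3 q25995 L778347 q25397, e3 q25996 L778355 q25398, e3 q25997 L790510 q27222, e3 q25998 L778369 q24829, e3 q25999 L778377 q24830, e3 q26000 (flp_g L790528) q27223, e3 q26001 (flp_g L790536) q27224, e3 q26002 (flp_g L789299) q27101, e3 q26003 L778405 q25402, e3 q26004 L778411 q25403, e3 q26005 L790574 q27231, e3 q26006 (flp_g L778417) q24833, e3 q26007 (flp_g L789257) q27098, e3 q26008 L778439 q24838, e3 q26009 L778447 q24839, e3 q26010 (flp_g L790594) q27233, e3 q26011 (flp_g L790602) q27234, e3 q26012 (flp_g L790418) q27209, e3 q26013 L778486 q24845, e3 q26014 (flp_g L790386) q27206, e3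 q26015 (flp_g L790346) q27203, e3 q26016 L778505 q24850, e3 q26017 L778516 q24860, e3 q26018 L778532 q24859, e3 q26019 (flp_g L790646) q27240, e3 q26020 L778550 q25445, e3 q26021 L778563 q24909, e3 q26022 L778578 q25245, e3 q26023 (flp_g L790673) q27242, e3 q26024 L778595 q25274, e3 q26025 (flp_g L790662) q27241, e3 q26026 (flp_g L789053) q27083, e3 q26027 L778630 q25211, e3 q26028 L778644 q25212, e3 q26029 L778658 q25216, e3 q26030 L778670 q24866, e3 q26031 (flp_g L790774) q27250, e3 q26032 (flp_g L786346) q26873, e3 q26033 (flp_g L786362) q26874, e3 q26034 L778712 q25411, e3 q26035 (flp_g L788494) q27038, e3 q26036 (flp_g L786167) q26861, e3 q26037 L778742 q24888, e3 q26038 L778752 q24889, e3 q26039 L778767 q25114, e3 q26040 (flp_g L786287) q26869, e3 q26041 (flp_g L786303) q26870, e3 q26042 L778790 q25412, e3 q26043 (flp_g L788510) q27039, e3 q26044 L778814 q24879, e3 q26045 (flp_g L788522) q27040, e3 q26046 (flp_g L788532) q27041, e3 q26047 (flp_g L790932) q27265, trivial⟩ (by decide +kernel)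

theorem ce_g_407 : ∀ r, r < 64 → sm gg (Qf (26048 + r)) = Qf (tab Gen.g (26048 + r)) :=
  edges_tab (sm gg) Qf (tab Gen.g) 26048 [(26048, 26871), (26049, 26872), (26050, 25416), (26051, 24887), (26052, 27158), (26053, 27159), (26054, 24890), (26055, 27271), (26056, 27257), (26057, 27258), (26058, 27274), (26059, 25437), (26060, 25440), (26061, 26862), (26062, 25443), (26063, 27195), (26064, 26776), (26065, 24898), (26066, 24899), (26067, 27283), (26068, 27284), (26069, 27000), (26070, 26974), (26071, 25105), (26072, 25426), (26073, 25415), (26074, 24910), (26075, 27199), (26076, 27200), (26077, 27291), (26078, 25438), (26079, 25439), (26080, 25441), (26081, 25442), (26082, 25444), (26083, 27182), (26084, 25424), (26085, 26784), (26086, 25446), (26087, 25447), (26088, 27307), (26089, 26788), (26090, 26789), (26091, 25448), (26092, 27150), (26093, 24926), (26094, 24925), (26095, 27314), (26096, 27315), (26097, 27313), (26098, 26806), (26099, 26807), (26100, 25450), (26101, 24931), (26102, 24932), (26103, 27322), (26104, 26813),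 (26105, 27127), (26106, 24942), (26107, 27151), (26108, 27152), (26109, 24946), (26110, 27128), (26111, 27007)]
    ⟨e3 q26048 (flp_g L786320) q26871, e3 q26049 (flp_g L786332) q26872, e3 q26050 L778882 q25416, e3 q26051 L778894 q24887, e3 q26052 (flp_g L789888) q27158, e3 q26053 (flp_g L789902) q27159, e3 q26054 L778927 q24890, e3 q26055 (flp_g L791000) q27271, e3 q26056 (flp_g L790845) q27257, e3 q26057 (flp_g L790855) q27258, e3 q26058 (flp_g L791034) q27274, e3 q26059 L778977 q25437, e3 q26060 L778993 q25440, e3 q26061 (flp_g L786185) q26862, e3 q26062 L779025 q25443, e3 q26063 (flp_g L790247) q27195, e3 q26064 (flp_g L785028) q26776, e3 q26065 L779057 q24898, e3 q26066 L779065 q24899, e3 q26067 (flp_g L791154) q27283, e3 q26068 (flp_g L791162) q27284, e3 q26069 (flp_g L787998) q27000, e3 q26070 (flp_g L787650) q26974, e3 q26071 L779109 q25105, e3 q26072 L779118 q25426, e3 q26073 L779132 q25415, e3 q26074 L779140 q24910, e3 q26075 (flp_g L790292) q27199, e3 q26076 (flp_g L790304) q27200, e3 q26077 (flp_g L791236) q27291,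 e3 q26078 L779174 q25438, e3 q26079 L779182 q25439, e3 q26080 L779195 q25441, e3 q26081 L779201 q25442, e3 q26082 L779207 q25444, e3 q26083 (flp_g L790118) q27182, e3 q26084 L779227 q25424, e3 q26085 (flp_g L785150) q26784, e3 q26086 L779251 q25446, e3 q26087 L779265 q25447, e3 q26088 L791402 q27307, e3 q26089 (flp_g L785200) q26788, e3 q26090 (flp_g L785212) q26789, e3 q26091 L779307 q25448, e3 q26092 (flp_g L789807) q27150, e3 q26093 L779331 q24926, e3 q26094 L779345 q24925, e3 q26095 (flp_g L791492) q27314, e3 q26096 (flp_g L791502) q27315, e3 q26097 (flp_g L791478) q27313, e3 q26098 (flp_g L785443) q26806, e3 q26099 (flp_g L785455) q26807, e3 q26100 L779407 q25450, e3 q26101 L779418 q24931, e3 q26102 L779429 q24932, e3 q26103 (flp_g L791578) q27322, e3 q26104 (flp_g L785541) q26813, e3 q26105 (flp_g L789569) q27127, e3 q26106 L779477 q24942, e3 q26107 (flp_g L789821) q27151, e3 q26108 (flp_g L789833) q27152, e3 q26109 L779502 q24946, e3 q26110 (flp_g L789585) q27128, e3 q26111 (flp_g L788096) q27007, trivial⟩ (by decide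 +kernel)

theorem ce_g_408 : ∀ r, r < 64 → sm gg (Qf (26112 + r)) = Qf (tab Gen.g (26112 + r)) :=
  edges_tab (sm gg) Qf (tab Gen.g) 26112 [(26112, 24941), (26113, 27335), (26114, 27336), (26115, 27328), (26116, 24944), (26117, 24945), (26118, 27340), (26119, 27341), (26120, 27331), (26121, 25050), (26122, 25459), (26123, 25460), (26124, 26831), (26125, 26832), (26126, 26833), (26127, 25461), (26128, 25462), (26129, 26839), (26130, 26840), (26131, 25463), (26132, 26846), (26133, 26847), (26134, 26848), (26135, 24961), (26136, 24962), (26137, 27361), (26138, 24965), (26139, 25356), (26140, 27363), (26141, 26855), (26142, 26856), (26143, 25135), (26144, 26858), (26145, 24978), (26146, 25014), (26147, 25487), (26148, 26990), (26149, 24977), (26150, 27371), (26151, 27372), (26152, 27366), (26153, 25464), (26154, 25218), (26155, 25465), (26156, 25466), (26157, 26901), (26158, 25467), (26159, 25468), (26160, 25469), (26161, 27388), (26162, 26899), (26163, 25470), (26164, 25471), (26165, 24990), (26166, 27393), (26167, 27394), (26168,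 25473), (26169, 25474), (26170, 27401), (26171, 24993), (26172, 24995), (26173, 24996), (26174, 27402), (26175, 27403)]
    ⟨e3 q26112 L779538 q24941, e3 q26113 (flp_g L791722) q27335, e3 q26114 (flp_g L791734) q27336, e3 q26115 (flp_g L791649) q27328, e3 q26116 L779584 q24944, e3 q26117 L779590 q24945, e3 q26118 (flp_g L791780) q27340, e3 q26119 (flp_g L791788) q27341, e3 q26120 (flp_g L791673) q27331, e3 q26121 L779620 q25050, e3 q26122 L779632 q25459, e3 q26123 L779644 q25460, e3 q26124 (flp_g L785785) q26831, e3 q26125 (flp_g L785799) q26832, e3 q26126 (flp_g L785813) q26833, e3 q26127 L779689 q25461, e3 q26128 L779701 q25462, e3 q26129 (flp_g L785886) q26839, e3 q26130 (flp_g L785898) q26840, e3 q26131 L779729 q25463, e3 q26132 (flp_g L785962) q26846, e3 q26133 (flp_g L785972) q26847, e3 q26134 (flp_g L785982) q26848, e3 q26135 L779756 q24961, e3 q26136 L779769 q24962, e3 q26137 (flp_g L791983) q27361, e3 q26138 L779793 q24965, e3 q26139 L779804 q25356, e3 q26140 (flp_g L792004) q27363, e3 q26141 (flp_g L786083) q26855,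 e3 q26142 (flp_g L786095) q26856, e3 q26143 L779844 q25135, e3 q26144 (flp_g L786123) q26858, e3 q26145 L779856 q24978, e3 q26146 L779872 q25014, e3 q26147 L779886 q25487, e3 q26148 (flp_g L787856) q26990, e3 q26149 L779906 q24977, e3 q26150 (flp_g L792084) q27371, e3 q26151 (flp_g L792092) q27372, e3 q26152 (flp_g L792023) q27366, e3 q26153 L779937 q25464, e3 q26154 L779948 q25218, e3 q26155 L779962 q25465, e3 q26156 L779976 q25466, e3 q26157 (flp_g L786756) q26901, e3 q26158 L779996 q25467, e3 q26159 L780002 q25468, e3 q26160 L780010 q25469, e3 q26161 L792238 q27388, e3 q26162 (flp_g L786727) q26899, e3 q26163 L780043 q25470, e3 q26164 L780053 q25471, e3 q26165 L780065 q24990, e3 q26166 (flp_g L792307) q27393, e3 q26167 (flp_g L792315) q27394, e3 q26168 L780082 q25473, e3 q26169 L780088 q25474, e3 q26170 L792351 q27401, e3 q26171 (flp_g L780094) q24993, e3 q26172 L780107 q24995, e3 q26173 L780117 q24996, e3 q26174 (flp_g L792361) q27402, e3 q26175 (flp_g L792373) q27403, trivial⟩ (by decide +kernel)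

theorem ce_g_409 : ∀ r, r < 64 → sm gg (Qf (26176 + r)) = Qf (tab Gen.g (26176 + r)) :=
  edges_tab (sm gg) Qf (tab Gen.g) 26176 [(26176, 25475), (26177, 25005), (26178, 25000), (26179, 27408), (26180, 27409), (26181, 25010), (26182, 26947), (26183, 25004), (26184, 27414), (26185, 27407), (26186, 25021), (26187, 25008), (26188, 25009), (26189, 27419), (26190, 27420), (26191, 27412), (26192, 25488), (26193, 25491), (26194, 26910), (26195, 27367), (26196, 25497), (26197, 25498), (26198, 25018), (26199, 27431), (26200, 27021), (26201, 25504), (26202, 27417), (26203, 27418), (26204, 25024), (26205, 25025), (26206, 27436), (26207, 27437), (26208, 27438), (26209, 25033), (26210, 25034), (26211, 25031), (26212, 25032), (26213, 27042), (26214, 27443), (26215, 27444), (26216, 27442), (26217, 25037), (26218, 25120), (26219, 27448), (26220, 25051), (26221, 25056), (26222, 25041), (26223, 27454), (26224, 27455), (26225, 25061), (26226, 25062), (26227, 25300), (26228, 25046), (26229, 25047), (26230, 27462), (26231, 27463), (26232, 25068),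 (26233, 25482), (26234, 27346), (26235, 27288), (26236, 27452), (26237, 25054), (26238, 25290), (26239, 27471)]
    ⟨e3 q26176 L780138 q25475, e3 q26177 L780148 q25005, e3 q26178 L780162 q25000, e3 q26179 (flp_g L792412) q27408, e3 q26180 (flp_g L792422) q27409, e3 q26181 L780185 q25010, e3 q26182 (flp_g L787316) q26947, e3 q26183 L780211 q25004, e3 q26184 (flp_g L792471) q27414, e3 q26185 (flp_g L792400) q27407, e3 q26186 L780249 q25021, e3 q26187 L780257 q25008, e3 q26188 L780263 q25009, e3 q26189 (flp_g L792531) q27419, e3 q26190 (flp_g L792539) q27420, e3 q26191 (flp_g L792447) q27412, e3 q26192 L780297 q25488, e3 q26193 L780307 q25491, e3 q26194 (flp_g L786877) q26910, e3 q26195 (flp_g L792039) q27367, e3 q26196 L780343 q25497, e3 q26197 L780355 q25498, e3 q26198 L780367 q25018, e3 q26199 (flp_g L792651) q27431, e3 q26200 (flp_g L788242) q27021, e3 q26201 L780399 q25504, e3 q26202 (flp_g L792509) q27417, e3 q26203 (flp_g L792521) q27418, e3 q26204 L780427 q25024, e3 q26205 L780435 q25025, e3 q26206 (flp_g L792699) q27436,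 e3 q26207 (flp_g L792707) q27437, e3 q26208 (flp_g L792715) q27438, e3 q26209 L780464 q25033, e3 q26210 L780479 q25034, e3 q26211 L780491 q25031, e3 q26212 L780504 q25032, e3 q26213 (flp_g L788548) q27042, e3 q26214 (flp_g L792766) q27443, e3 q26215 (flp_g L792775) q27444, e3 q26216 (flp_g L792753) q27442, e3 q26217 L780557 q25037, e3 q26218 L780569 q25120, e3 q26219 (flp_g L792822) q27448, e3 q26220 L780588 q25051, e3 q26221 L780598 q25056, e3 q26222 L780612 q25041, e3 q26223 (flp_g L792887) q27454, e3 q26224 (flp_g L792899) q27455, e3 q26225 L780635 q25061, e3 q26226 L780645 q25062, e3 q26227 L780669 q25300, e3 q26228 L780675 q25046, e3 q26229 L780679 q25047, e3 q26230 (flp_g L792981) q27462, e3 q26231 (flp_g L792987) q27463, e3 q26232 L780696 q25068, e3 q26233 L780704 q25482, e3 q26234 (flp_g L791828) q27346, e3 q26235 (flp_g L791202) q27288, e3 q26236 (flp_g L792861) q27452, e3 q26237 L780740 q25054, e3 q26238 L780754 q25290, e3 q26239 (flp_g L793044) q27471, trivial⟩ (by decide +kernel)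

theorem ce_g_410 : ∀ r, r < 64 → sm gg (Qf (26240 + r)) = Qf (tab Gen.g (26240 + r)) :=
  edges_tab (sm gg) Qf (tab Gen.g) 26240 [(26240, 27472), (26241, 25455), (26242, 27453), (26243, 25089), (26244, 25059), (26245, 25060), (26246, 27480), (26247, 27481), (26248, 27459), (26249, 27460), (26250, 25098), (26251, 25099), (26252, 25066), (26253, 25067), (26254, 27259), (26255, 27489), (26256, 27490), (26257, 27491), (26258, 25533), (26259, 25071), (26260, 27497), (26261, 26966), (26262, 25526), (26263, 25074), (26264, 27501), (26265, 26963), (26266, 25538), (26267, 25521), (26268, 27085), (26269, 25081), (26270, 25082), (26271, 25083), (26272, 27507), (26273, 27508), (26274, 27509), (26275, 27510), (26276, 26802), (26277, 25546), (26278, 25481), (26279, 25547), (26280, 25520), (26281, 25273), (26282, 26801), (26283, 27478), (26284, 27479), (26285, 25092), (26286, 25093), (26287, 26805), (26288, 27528), (26289, 27529), (26290, 27449), (26291, 26804), (26292, 25556), (26293, 26803), (26294, 27487), (26295, 27488), (26296, 25102),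 (26297, 25103), (26298, 25104), (26299, 27539), (26300, 27540), (26301, 27541), (26302, 25118), (26303, 25109)]
    ⟨e3 q26240 (flp_g L793054) q27472, e3 q26241 L780781 q25455, e3 q26242 (flp_g L792873) q27453, e3 q26243 L780799 q25089, e3 q26244 L780807 q25059, e3 q26245 L780813 q25060, e3 q26246 (flp_g L793135) q27480, e3 q26247 (flp_g L793141) q27481, e3 q26248 (flp_g L792941) q27459, e3 q26249 (flp_g L792951) q27460, e3 q26250 L780849 q25098, e3 q26251 L780855 q25099, e3 q26252 L780865 q25066, e3 q26253 L780871 q25067, e3 q26254 (flp_g L790869) q27259, e3 q26255 (flp_g L793209) q27489, e3 q26256 (flp_g L793215) q27490, e3 q26257 (flp_g L793219) q27491, e3 q26258 L780899 q25533, e3 q26259 L780909 q25071, e3 q26260 (flp_g L793261) q27497, e3 q26261 (flp_g L787560) q26966, e3 q26262 L780932 q25526, e3 q26263 L780944 q25074, e3 q26264 (flp_g L793297) q27501, e3 q26265 (flp_g L787516) q26963, e3 q26266 L780964 q25538, e3 q26267 L780972 q25521, e3 q26268 (flp_g L789087) q27085, e3 q26269 L780992 q25081, e3 q26270 L781000 q25082,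 e3 q26271 L781006 q25083, e3 q26272 (flp_g L793352) q27507, e3 q26273 (flp_g L793358) q27508, e3 q26274 (flp_g L793367) q27509, e3 q26275 (flp_g L793375) q27510, e3 q26276 (flp_g L785394) q26802, e3 q26277 L781047 q25546, e3 q26278 L781057 q25481, e3 q26279 L781065 q25547, e3 q26280 L781075 q25520, e3 q26281 L781083 q25273, e3 q26282 (flp_g L785384) q26801, e3 q26283 (flp_g L793111) q27478, e3 q26284 (flp_g L793123) q27479, e3 q26285 L781117 q25092, e3 q26286 L781123 q25093, e3 q26287 (flp_g L785435) q26805, e3 q26288 (flp_g L793523) q27528, e3 q26289 (flp_g L793529) q27529, e3 q26290 (flp_g L792831) q27449, e3 q26291 (flp_g L785417) q26804, e3 q26292 L781169 q25556, e3 q26293 (flp_g L785405) q26803, e3 q26294 (flp_g L793193) q27487, e3 q26295 (flp_g L793201) q27488, e3 q26296 L781203 q25102, e3 q26297 L781209 q25103, e3 q26298 L781215 q25104, e3 q26299 (flp_g L793609) q27539, e3 q26300 (flp_g L793617) q27540, e3 q26301 (flp_g L793627) q27541, e3 q26302 L781235 q25118, e3 q26303 L781246 q25109, trivial⟩ (by decide +kernel)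

theorem ce_g_411 : ∀ r, r < 64 → sm gg (Qf (26304 + r)) = Qf (tab Gen.g (26304 + r)) :=
  edges_tab (sm gg) Qf (tab Gen.g) 26304 [(26304, 25327), (26305, 27547), (26306, 25121), (26307, 25115), (26308, 25116), (26309, 25117), (26310, 27551), (26311, 27552), (26312, 27553), (26313, 27135), (26314, 27450), (26315, 27550), (26316, 25125), (26317, 25215), (26318, 25315), (26319, 25307), (26320, 27559), (26321, 25132), (26322, 25133), (26323, 25147), (26324, 25134), (26325, 27563), (26326, 27387), (26327, 27565), (26328, 25140), (26329, 25222), (26330, 25231), (26331, 25268), (26332, 25244), (26333, 26783), (26334, 25223), (26335, 27564), (26336, 26751), (26337, 26758), (26338, 26761), (26339, 27024), (26340, 26762), (26341, 26766), (26342, 25156), (26343, 26753), (26344, 27573), (26345, 27028), (26346, 27029), (26347, 25340), (26348, 25452), (26349, 25453), (26350, 25175), (26351, 25162), (26352, 25163), (26353, 27581), (26354, 27582), (26355, 26768), (26356, 25166), (26357, 27585), (26358, 26785), (26359, 26786), (26360, 26790),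 (26361, 26878), (26362, 26808), (26363, 27580), (26364, 25259), (26365, 26829), (26366, 26830), (26367, 26842)]
    ⟨e3 q26304 L781259 q25327, e3 q26305 (flp_g L793659) q27547, e3 q26306 L781277 q25121, e3 q26307 L781288 q25115, e3 q26308 L781302 q25116, e3 q26309 L781310 q25117, e3 q26310 (flp_g L793700) q27551, e3 q26311 (flp_g L793710) q27552, e3 q26312 (flp_g L793716) q27553, e3 q26313 (flp_g L789660) q27135, e3 q26314 (flp_g L792845) q27450, e3 q26315 (flp_g L793688) q27550, e3 q26316 L781374 q25125, e3 q26317 L781386 q25215, e3 q26318 L781390 q25315, e3 q26319 L781396 q25307, e3 q26320 (flp_g L793771) q27559, e3 q26321 L781412 q25132, e3 q26322 L781421 q25133, e3 q26323 L781443 q25147, e3 q26324 L781448 q25134, e3 q26325 (flp_g L793807) q27563, e3 q26326 (flp_g L792236) q27387, e3 q26327 (flp_g L793836) q27565, e3 q26328 L781486 q25140, e3 q26329 L781496 q25222, e3 q26330 L781510 q25231, e3 q26331 L781519 q25268, e3 q26332 L781527 q25244, e3 q26333 (flp_g L785134) q26783, e3 q26334 L781551 q25223, e3 q26335 (flp_g L793831)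 q27564, e3 q26336 (flp_g L784635) q26751, e3 q26337 (flp_g L784743) q26758, e3 q26338 (flp_g L784788) q26761, e3 q26339 (flp_g L788286) q27024, e3 q26340 (flp_g L784806) q26762, e3 q26341 (flp_g L784872) q26766, e3 q26342 L781646 q25156, e3 q26343 (flp_g L784669) q26753, e3 q26344 (flp_g L793932) q27573, e3 q26345 (flp_g L788348) q27028, e3 q26346 (flp_g L788364) q27029, e3 q26347 L781708 q25340, e3 q26348 L781720 q25452, e3 q26349 L781734 q25453, e3 q26350 L781749 q25175, e3 q26351 L781761 q25162, e3 q26352 L781773 q25163, e3 q26353 (flp_g L794034) q27581, e3 q26354 (flp_g L794046) q27582, e3 q26355 (flp_g L784904) q26768, e3 q26356 L781805 q25166, e3 q26357 (flp_g L794076) q27585, e3 q26358 (flp_g L785162) q26785, e3 q26359 (flp_g L785174) q26786, e3 q26360 (flp_g L785225) q26790, e3 q26361 (flp_g L786423) q26878, e3 q26362 (flp_g L785467) q26808, e3 q26363 (flp_g L794022) q27580, e3 q26364 L781905 q25259, e3 q26365 (flp_g L785753) q26829, e3 q26366 (flp_g L785767) q26830, e3 q26367 (flp_g L785920) q26842, trivial⟩ (by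 decide +kernel)

theorem ce_g_412 : ∀ r, r < 64 → sm gg (Qf (26368 + r)) = Qf (tab Gen.g (26368 + r)) :=
  edges_tab (sm gg) Qf (tab Gen.g) 26368 [(26368, 26843), (26369, 27045), (26370, 26875), (26371, 26880), (26372, 26881), (26373, 26882), (26374, 26883), (26375, 26886), (26376, 25194), (26377, 25195), (26378, 25199), (26379, 25200), (26380, 27567), (26381, 27089), (26382, 27090), (26383, 25203), (26384, 27599), (26385, 27600), (26386, 27378), (26387, 27084), (26388, 25548), (26389, 25549), (26390, 27086), (26391, 27087), (26392, 27601), (26393, 27602), (26394, 27620), (26395, 25201), (26396, 27091), (26397, 27606), (26398, 25518), (26399, 25519), (26400, 25557), (26401, 25555), (26402, 25552), (26403, 25510), (26404, 25511), (26405, 25522), (26406, 25523), (26407, 27561), (26408, 27247), (26409, 27248), (26410, 26891), (26411, 26892), (26412, 27560), (26413, 27249), (26414, 27637), (26415, 25225), (26416, 25560), (26417, 25566), (26418, 26912), (26419, 26913), (26420, 26914), (26421, 26916), (26422, 26917), (26423, 26920),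 (26424, 26921), (26425, 26926), (26426, 25247), (26427, 25248), (26428, 25249), (26429, 27548), (26430, 25250), (26431, 26902)]
    ⟨e3 q26368 (flp_g L785928) q26843, e3 q26369 (flp_g L788581) q27045, e3 q26370 (flp_g L786380) q26875, e3 q26371 (flp_g L786449) q26880, e3 q26372 (flp_g L786465) q26881, e3 q26373 (flp_g L786482) q26882, e3 q26374 (flp_g L786496) q26883, e3 q26375 (flp_g L786540) q26886, e3 q26376 L782004 q25194, e3 q26377 L782016 q25195, e3 q26378 L782026 q25199, e3 q26379 L782038 q25200, e3 q26380 (flp_g L793859) q27567, e3 q26381 (flp_g L789141) q27089, e3 q26382 (flp_g L789153) q27090, e3 q26383 L782074 q25203, e3 q26384 (flp_g L794218) q27599, e3 q26385 (flp_g L794230) q27600, e3 q26386 (flp_g L792151) q27378, e3 q26387 (flp_g L789071) q27084, e3 q26388 L782116 q25548, e3 q26389 L782128 q25549, e3 q26390 (flp_g L789099) q27086, e3 q26391 (flp_g L789113) q27087, e3 q26392 (flp_g L794242) q27601, e3 q26393 (flp_g L794254) q27602, e3 q26394 L794417 q27620, e3 q26395 (flp_g L782182) q25201, e3 q26396 (flp_g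 L789166) q27091, e3 q26397 (flp_g L794288) q27606, e3 q26398 L782216 q25518, e3 q26399 L782224 q25519, e3 q26400 L782232 q25557, e3 q26401 L782240 q25555, e3 q26402 L782248 q25552, e3 q26403 L782256 q25510, e3 q26404 L782266 q25511, e3 q26405 L782275 q25522, e3 q26406 L782285 q25523, e3 q26407 (flp_g L793791) q27561, e3 q26408 (flp_g L790732) q27247, e3 q26409 (flp_g L790746) q27248, e3 q26410 (flp_g L786607) q26891, e3 q26411 (flp_g L786621) q26892, e3 q26412 (flp_g L793779) q27560, e3 q26413 (flp_g L790762) q27249, e3 q26414 L794561 q27637, e3 q26415 (flp_g L782352) q25225, e3 q26416 L782368 q25560, e3 q26417 L782379 q25566, e3 q26418 (flp_g L786900) q26912, e3 q26419 (flp_g L786910) q26913, e3 q26420 (flp_g L786920) q26914, e3 q26421 (flp_g L786939) q26916, e3 q26422 (flp_g L786951) q26917, e3 q26423 (flp_g L786983) q26920, e3 q26424 (flp_g L786993) q26921, e3 q26425 (flp_g L787043) q26926, e3 q26426 L782463 q25247, e3 q26427 L782469 q25248, e3 q26428 L782477 q25249, e3 q26429 (flp_g L793673) q27548, e3 q26430 L782493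 q25250, e3 q26431 (flp_g L786772) q26902, trivial⟩ (by decide +kernel)

theorem ce_g_413 : ∀ r, r < 64 → sm gg (Qf (26432 + r)) = Qf (tab Gen.g (26432 + r)) :=
  edges_tab (sm gg) Qf (tab Gen.g) 26432 [(26432, 27520), (26433, 27243), (26434, 26792), (26435, 27646), (26436, 27647), (26437, 27648), (26438, 27649), (26439, 27651), (26440, 26943), (26441, 26944), (26442, 25532), (26443, 26945), (26444, 26946), (26445, 26973), (26446, 26948), (26447, 26949), (26448, 26950), (26449, 26951), (26450, 27590), (26451, 26954), (26452, 26955), (26453, 25263), (26454, 27675), (26455, 27140), (26456, 27141), (26457, 25282), (26458, 25283), (26459, 27568), (26460, 27146), (26461, 27147), (26462, 25287), (26463, 27133), (26464, 27134), (26465, 27522), (26466, 27220), (26467, 27137), (26468, 27138), (26469, 27139), (26470, 26793), (26471, 26794), (26472, 26817), (26473, 26818), (26474, 27699), (26475, 27142), (26476, 27143), (26477, 27679), (26478, 27680), (26479, 27704), (26480, 25284), (26481, 27148), (26482, 25489), (26483, 25490), (26484,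 26991), (26485, 27473), (26486, 26952), (26487, 26993), (26488, 26994), (26489, 26995), (26490, 26996), (26491, 25295), (26492, 27714), (26493, 26956), (26494, 26998), (26495, 26999)]
    ⟨e3 q26432 (flp_g L793445) q27520, e3 q26433 (flp_g L790684) q27243, e3 q26434 (flp_g L785259) q26792, e3 q26435 (flp_g L794646) q27646, e3 q26436 (flp_g L794654) q27647, e3 q26437 (flp_g L794663) q27648, e3 q26438 (flp_g L794671) q27649, e3 q26439 (flp_g L794687) q27651, e3 q26440 (flp_g L787255) q26943, e3 q26441 (flp_g L787271) q26944, e3 q26442 L782605 q25532, e3 q26443 (flp_g L787288) q26945, e3 q26444 (flp_g L787300) q26946, e3 q26445 (flp_g L787634) q26973, e3 q26446 (flp_g L787330) q26948, e3 q26447 (flp_g L787346) q26949, e3 q26448 (flp_g L787359) q26950, e3 q26449 (flp_g L787367) q26951, e3 q26450 (flp_g L794142) q27590, e3 q26451 (flp_g L787408) q26954, e3 q26452 (flp_g L787416) q26955, e3 q26453 L782684 q25263, e3 q26454 (flp_g L794888) q27675, e3 q26455 (flp_g L789708) q27140, e3 q26456 (flp_g L789716) q27141, e3 q26457 L782717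 q25282, e3 q26458 L782723 q25283, e3 q26459 (flp_g L793865) q27568, e3 q26460 (flp_g L789757) q27146, e3 q26461 (flp_g L789769) q27147, e3 q26462 L782745 q25287, e3 q26463 (flp_g L789640) q27133, e3 q26464 (flp_g L789650) q27134, e3 q26465 (flp_g L793467) q27522, e3 q26466 (flp_g L790496) q27220, e3 q26467 (flp_g L789681) q27137, e3 q26468 (flp_g L789691) q27138, e3 q26469 (flp_g L789699) q27139, e3 q26470 (flp_g L785273) q26793, e3 q26471 (flp_g L785287) q26794, e3 q26472 (flp_g L785595) q26817, e3 q26473 (flp_g L785609) q26818, e3 q26474 L795067 q27699, e3 q26475 (flp_g L789725) q27142, e3 q26476 (flp_g L789733) q27143, e3 q26477 (flp_g L794915) q27679, e3 q26478 (flp_g L794921) q27680, e3 q26479 L795103 q27704, e3 q26480 (flp_g L782882) q25284, e3 q26481 (flp_g L789779) q27148, e3 q26482 L782904 q25489, e3 q26483 L782916 q25490, e3 q26484 (flp_g L787872) q26991, e3 q26485 (flp_g L793067) q27473, e3 q26486 L787386 q26952, e3 q26487 (flp_g L787898) q26993, e3 q26488 (flp_g L787914) q26994, e3 q26489 (flp_g L787932) q26995,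 e3 q26490 (flp_g L787944) q26996, e3 q26491 L782969 q25295, e3 q26492 (flp_g L795181) q27714, e3 q26493 L787430 q26956, e3 q26494 (flp_g L787976) q26998, e3 q26495 (flp_g L787984) q26999, trivial⟩ (by decide +kernel)

theorem ce_g_414 : ∀ r, r < 64 → sm gg (Qf (26496 + r)) = Qf (tab Gen.g (26496 + r)) :=
  edges_tab (sm gg) Qf (tab Gen.g) 26496 [(26496, 25301), (26497, 25302), (26498, 27461), (26499, 27458), (26500, 27718), (26501, 27719), (26502, 27001), (26503, 27002), (26504, 27482), (26505, 27003), (26506, 27004), (26507, 27562), (26508, 27129), (26509, 27022), (26510, 25311), (26511, 25312), (26512, 27732), (26513, 27733), (26514, 27010), (26515, 27543), (26516, 27132), (26517, 25318), (26518, 26900), (26519, 27737), (26520, 25324), (26521, 27030), (26522, 27074), (26523, 27033), (26524, 27034), (26525, 27113), (26526, 27037), (26527, 25425), (26528, 27049), (26529, 27050), (26530, 27051), (26531, 27052), (26532, 27124), (26533, 27058), (26534, 27577), (26535, 25417), (26536, 27078), (26537, 27079), (26538, 25427), (26539,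 25428), (26540, 27064), (26541, 27065), (26542, 27342), (26543, 27080), (26544, 27081), (26545, 27105), (26546, 27066), (26547, 27067), (26548, 27767), (26549, 25350), (26550, 27082), (26551, 27323), (26552, 27096), (26553, 27097), (26554, 27099), (26555, 27100), (26556, 27104), (26557, 25362), (26558, 27772), (26559, 27118)]
    ⟨e3 q26496 L783005 q25301, e3 q26497 L783015 q25302, e3 q26498 (flp_g L792975) q27461, e3 q26499 L792935 q27458, e3 q26500 (flp_g L795213) q27718, e3 q26501 (flp_g L795223) q27719, e3 q26502 (flp_g L788006) q27001, e3 q26503 (flp_g L788018) q27002, e3 q26504 (flp_g L793151) q27482, e3 q26505 (flp_g L788034) q27003, e3 q26506 (flp_g L788046) q27004, e3 q26507 (flp_g L793799) q27562, e3 q26508 (flp_g L789597) q27129, e3 q26509 (flp_g L788256) q27022, e3 q26510 L783091 q25311, e3 q26511 L783097 q25312, e3 q26512 (flp_g L795298) q27732, e3 q26513 (flp_g L795304) q27733, e3 q26514 (flp_g L788140) q27010, e3 q26515 (flp_g L793635) q27543, e3 q26516 (flp_g L789628) q27132, e3 q26517 L783127 q25318, e3 q26518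 (flp_g L786741) q26900, e3 q26519 L795320 q27737, e3 q26520 (flp_g L783148) q25324, e3 q26521 (flp_g L788380) q27030, e3 q26522 (flp_g L788940) q27074, e3 q26523 (flp_g L788424) q27033, e3 q26524 (flp_g L788436) q27034, e3 q26525 (flp_g L789421) q27113, e3 q26526 (flp_g L788480) q27037, e3 q26527 L783209 q25425, e3 q26528 (flp_g L788639) q27049, e3 q26529 (flp_g L788651) q27050, e3 q26530 (flp_g L788664) q27051, e3 q26531 (flp_g L788672) q27052, e3 q26532 (flp_g L789527) q27124, e3 q26533 (flp_g L788746) q27058, e3 q26534 (flp_g L793982) q27577, e3 q26535 L783262 q25417, e3 q26536 (flp_g L788994) q27078, e3 q26537 (flp_g L789008) q27079, e3 q26538 L783281 q25427, e3 q26539 L783289 q25428, e3 q26540 (flp_g L788824) q27064, e3 q26541 (flp_g L788838) q27065, e3 q26542 (flp_g L791798) q27342, e3 q26543 (flp_g L789023) q27080, e3 q26544 (flp_g L789033) q27081, e3 q26545 (flp_g L789331) q27105, e3 q26546 (flp_g L788854) q27066, e3 q26547 (flp_g L788860) q27067, e3 q26548 L795538 q27767, e3 q26549 (flp_g L783345) q25350, e3 q26550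 (flp_g L789043) q27082, e3 q26551 (flp_g L791591) q27323, e3 q26552 (flp_g L789232) q27096, e3 q26553 (flp_g L789242) q27097, e3 q26554 (flp_g L789271) q27099, e3 q26555 (flp_g L789281) q27100, e3 q26556 (flp_g L789317) q27104, e3 q26557 L783404 q25362, e3 q26558 (flp_g L795578) q27772, e3 q26559 (flp_g L789475) q27118, trivial⟩ (by decide +kernel)

theorem ce_g_415 : ∀ r, r < 64 → sm gg (Qf (26560 + r)) = Qf (tab Gen.g (26560 + r)) :=
  edges_tab (sm gg) Qf (tab Gen.g) 26560 [(26560, 27119), (26561, 27169), (26562, 27160), (26563, 27161), (26564, 27163), (26565, 27164), (26566, 27165), (26567, 27166), (26568, 27170), (26569, 27171), (26570, 27116), (26571, 25384), (26572, 25385), (26573, 26764), (26574, 26765), (26575, 25386), (26576, 27035), (26577, 27036), (26578, 27784), (26579, 27785), (26580, 27196), (26581, 26774), (26582, 27201), (26583, 27202), (26584, 27046), (26585, 27207), (26586, 27208), (26587, 27073), (26588, 27215), (26589, 27216), (26590, 27218), (26591, 27219), (26592, 25400), (26593, 27801), (26594, 26763),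 (26595, 27229), (26596, 27804), (26597, 25404), (26598, 25407), (26599, 27043), (26600, 27044), (26601, 25410), (26602, 27807), (26603, 27262), (26604, 25414), (26605, 27808), (26606, 27290), (26607, 27751), (26608, 27752), (26609, 25429), (26610, 25420), (26611, 25421), (26612, 27812), (26613, 27813), (26614, 25432), (26615, 27185), (26616, 27186), (26617, 27301), (26618, 27743), (26619, 27744), (26620, 27289), (26621, 27756), (26622, 27757), (26623, 27811)]
    ⟨e3 q26560 (flp_g L789483) q27119, e3 q26561 (flp_g L790005) q27169, e3 q26562 (flp_g L789915) q27160, e3 q26563 (flp_g L789929) q27161, e3 q26564 (flp_g L789955) q27163, e3 q26565 (flp_g L789963) q27164, e3 q26566 (flp_g L789972) q27165, e3 q26567 (flp_g L789980) q27166, e3 q26568 (flp_g L790013) q27170, e3 q26569 (flp_g L790021) q27171, e3 q26570 (flp_g L789451) q27116, e3 q26571 L783489 q25384, e3 q26572 L783495 q25385, e3 q26573 (flp_g L784840) q26764, e3 q26574 (flp_g L784856) q26765, e3 q26575 L783513 q25386, e3 q26576 (flp_g L788452) q27035, e3 q26577 (flp_g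 L788466) q27036, e3 q26578 (flp_g L795651) q27784, e3 q26579 (flp_g L795657) q27785, e3 q26580 (flp_g L790261) q27196, e3 q26581 (flp_g L784992) q26774, e3 q26582 (flp_g L790316) q27201, e3 q26583 (flp_g L790328) q27202, e3 q26584 (flp_g L788593) q27046, e3 q26585 (flp_g L790394) q27207, e3 q26586 (flp_g L790404) q27208, e3 q26587 (flp_g L788926) q27073, e3 q26588 (flp_g L790458) q27215, e3 q26589 (flp_g L790466) q27216, e3 q26590 (flp_g L790480) q27218, e3 q26591 (flp_g L790488) q27219, e3 q26592 L783609 q25400, e3 q26593 (flp_g L795755) q27801, e3 q26594 (flp_g L784824) q26763, e3 q26595 (flp_g L790568) q27229, e3 q26596 L795769 q27804, e3 q26597 (flp_g L783633) q25404, e3 q26598 L783639 q25407, e3 q26599 (flp_g L788556) q27043, e3 q26600 (flp_g L788568) q27044, e3 q26601 L783660 q25410, e3 q26602 (flp_g L795789) q27807, e3 q26603 (flp_g L790891) q27262, e3 q26604 L783680 q25414, e3 q26605 (flp_g L795797) q27808, e3 q26606 (flp_g L791230) q27290, e3 q26607 (flp_g L795436) q27751, e3 q26608 (flp_g L795444) q27752, e3 q26609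 L783713 q25429, e3 q26610 L783719 q25420, e3 q26611 L783727 q25421, e3 q26612 (flp_g L795821) q27812, e3 q26613 (flp_g L795831) q27813, e3 q26614 L783746 q25432, e3 q26615 (flp_g L790149) q27185, e3 q26616 (flp_g L790163) q27186, e3 q26617 (flp_g L791333) q27301, e3 q26618 (flp_g L795380) q27743, e3 q26619 (flp_g L795388) q27744, e3 q26620 (flp_g L791214) q27289, e3 q26621 (flp_g L795474) q27756, e3 q26622 (flp_g L795482) q27757, e3 q26623 (flp_g L795815) q27811, trivial⟩ (by decide +kernel)

theorem ce_g_416 : ∀ r, r < 64 → sm gg (Qf (26624 + r)) = Qf (tab Gen.g (26624 + r)) :=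
  edges_tab (sm gg) Qf (tab Gen.g) 26624 [(26624, 25431), (26625, 27825), (26626, 26876), (26627, 26877), (26628, 25449), (26629, 26884), (26630, 26885), (26631, 27278), (26632, 27295), (26633, 27296), (26634, 27279), (26635, 27297), (26636, 27298), (26637, 27304), (26638, 27305), (26639, 27310), (26640, 27828), (26641, 25456), (26642, 27578), (26643, 27579), (26644, 25457), (26645, 27476), (26646, 27837), (26647, 26953), (26648, 27347), (26649, 27348), (26650, 27353), (26651, 27354), (26652, 27376), (26653, 27377), (26654, 27380), (26655, 27020), (26656, 27383), (26657, 27384), (26658, 27386), (26659, 27391), (26660, 26965), (26661, 27392), (26662, 26989), (26663, 27398), (26664, 27399), (26665, 26918), (26666, 26919), (26667, 25483), (26668, 26924), (26669, 26925), (26670, 25484), (26671, 27519), (26672, 27467), (26673, 27859), (26674, 26997), (26675, 26957), (26676, 26958), (26677, 27368), (26678, 27369), (26679, 27425), (26680, 27705), (26681, 27706), (26682, 27426), (26683, 25494), (26684, 25495), (26685, 25496), (26686,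 27874), (26687, 27875)]
    ⟨e3 q26624 L783813 q25431, e3 q26625 (flp_g L795912) q27825, e3 q26626 (flp_g L786390) q26876, e3 q26627 (flp_g L786406) q26877, e3 q26628 L783850 q25449, e3 q26629 (flp_g L786512) q26884, e3 q26630 (flp_g L786526) q26885, e3 q26631 (flp_g L791082) q27278, e3 q26632 (flp_g L791272) q27295, e3 q26633 (flp_g L791282) q27296, e3 q26634 (flp_g L791100) q27279, e3 q26635 (flp_g L791294) q27297, e3 q26636 (flp_g L791300) q27298, e3 q26637 (flp_g L791368) q27304, e3 q26638 (flp_g L791382) q27305, e3 q26639 (flp_g L791437) q27310, e3 q26640 (flp_g L795940) q27828, e3 q26641 L783928 q25456, e3 q26642 (flp_g L793992) q27578, e3 q26643 (flp_g L794006) q27579, e3 q26644 L783942 q25457, e3 q26645 (flp_g L793093) q27476, e3 q26646 (flp_g L795995) q27837, e3 q26647 (flp_g L787396) q26953, e3 q26648 (flp_g L791842) q27347, e3 q26649 (flp_g L791858) q27348, e3 q26650 (flp_g L791911) q27353, e3 q26651 (flp_g L791925) q27354, e3 q26652 (flp_g L792123) q27376, e3 q26653 (flp_g L792135) q27377, e3 q26654 (flp_g L792174)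 q27380, e3 q26655 (flp_g L788226) q27020, e3 q26656 (flp_g L792203) q27383, e3 q26657 (flp_g L792211) q27384, e3 q26658 (flp_g L792223) q27386, e3 q26659 (flp_g L792285) q27391, e3 q26660 (flp_g L787544) q26965, e3 q26661 (flp_g L792297) q27392, e3 q26662 (flp_g L787840) q26989, e3 q26663 (flp_g L792339) q27398, e3 q26664 (flp_g L792345) q27399, e3 q26665 (flp_g L786964) q26918, e3 q26666 (flp_g L786974) q26919, e3 q26667 L784071 q25483, e3 q26668 (flp_g L787021) q26924, e3 q26669 (flp_g L787033) q26925, e3 q26670 L784089 q25484, e3 q26671 (flp_g L793435) q27519, e3 q26672 (flp_g L793008) q27467, e3 q26673 (flp_g L796124) q27859, e3 q26674 (flp_g L787960) q26997, e3 q26675 (flp_g L787438) q26957, e3 q26676 (flp_g L787454) q26958, e3 q26677 (flp_g L792051) q27368, e3 q26678 (flp_g L792065) q27369, e3 q26679 (flp_g L792581) q27425, e3 q26680 (flp_g L795113) q27705, e3 q26681 (flp_g L795125) q27706, e3 q26682 (flp_g L792595) q27426, e3 q26683 L784170 q25494, e3 q26684 L784178 q25495, e3 q26685 L784184 q25496, e3 q26686 (flp_g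 L796221) q27874, e3 q26687 (flp_g L796229) q27875, trivial⟩ (by decide +kernel)

theorem ce_g_417 : ∀ r, r < 64 → sm gg (Qf (26688 + r)) = Qf (tab Gen.g (26688 + r)) :=
  edges_tab (sm gg) Qf (tab Gen.g) 26688 [(26688, 27876), (26689, 27877), (26690, 27429), (26691, 27430), (26692, 26903), (26693, 26904), (26694, 25502), (26695, 25503), (26696, 26841), (26697, 27887), (26698, 27888), (26699, 26909), (26700, 25507), (26701, 27628), (26702, 27629), (26703, 25525), (26704, 25515), (26705, 25516), (26706, 27894), (26707, 27895), (26708, 27896), (26709, 27622), (26710, 27623), (26711, 27521), (26712, 27504), (26713, 27630), (26714, 27631), (26715, 27905), (26716, 25524), (26717, 27500), (26718, 27907), (26719, 25527), (26720, 25558), (26721, 25531), (26722, 27664), (26723, 27496), (26724, 25536), (26725, 25537), (26726, 27910), (26727, 27911), (26728, 27627), (26729, 25542), (26730, 25543), (26731, 25544), (26732, 25545), (26733, 27624), (26734, 27915), (26735, 27916), (26736, 27918), (26737, 27919), (26738, 27613), (26739, 27518),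 (26740, 27612), (26741, 27638), (26742, 25553), (26743, 25554), (26744, 27925), (26745, 27626), (26746, 27625), (26747, 27908), (26748, 26915), (26749, 25896), (26750, 25897), (26751, 26336)]
    ⟨e3 q26688 (flp_g L796238) q27876, e3 q26689 (flp_g L796246) q27877, e3 q26690 (flp_g L792625) q27429, e3 q26691 (flp_g L792637) q27430, e3 q26692 (flp_g L786784) q26903, e3 q26693 (flp_g L786796) q26904, e3 q26694 L784246 q25502, e3 q26695 L784254 q25503, e3 q26696 (flp_g L785914) q26841, e3 q26697 (flp_g L796314) q27887, e3 q26698 (flp_g L796322) q27888, e3 q26699 (flp_g L786859) q26909, e3 q26700 L784286 q25507, e3 q26701 (flp_g L794493) q27628, e3 q26702 (flp_g L794503) q27629, e3 q26703 L784304 q25525, e3 q26704 L784310 q25515, e3 q26705 L784316 q25516, e3 q26706 (flp_g L796357) q27894, e3 q26707 (flp_g L796363) q27895, e3 q26708 (flp_g L796367) q27896, e3 q26709 (flp_g L794441) q27622, e3 q26710 (flp_g L794451) q27623, e3 q26711 (flp_g L793459) q27521, e3 q26712 (flp_g L793321) q27504, e3 q26713 (flp_g L794511) q27630, e3 q26714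 (flp_g L794521) q27631, e3 q26715 L796429 q27905, e3 q26716 (flp_g L784393) q25524, e3 q26717 (flp_g L793287) q27500, e3 q26718 L796447 q27907, e3 q26719 (flp_g L784423) q25527, e3 q26720 L784431 q25558, e3 q26721 L784437 q25531, e3 q26722 (flp_g L794807) q27664, e3 q26723 (flp_g L793251) q27496, e3 q26724 L784449 q25536, e3 q26725 L784457 q25537, e3 q26726 (flp_g L796471) q27910, e3 q26727 (flp_g L796479) q27911, e3 q26728 (flp_g L794485) q27627, e3 q26729 L784479 q25542, e3 q26730 L784485 q25543, e3 q26731 L784493 q25544, e3 q26732 L784501 q25545, e3 q26733 (flp_g L794463) q27624, e3 q26734 (flp_g L796501) q27915, e3 q26735 (flp_g L796509) q27916, e3 q26736 (flp_g L796521) q27918, e3 q26737 (flp_g L796529) q27919, e3 q26738 (flp_g L794351) q27613, e3 q26739 (flp_g L793425) q27518, e3 q26740 (flp_g L794339) q27612, e3 q26741 (flp_g L794574) q27638, e3 q26742 L784563 q25553, e3 q26743 L784569 q25554, e3 q26744 (flp_g L796569) q27925, e3 q26745 (flp_g L794477) q27626, e3 q26746 (flp_g L794469) q27625, e3 q26747 (flp_g L796457)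 q27908, e3 q26748 (flp_g L786933) q26915, e3 q26749 L784601 q25896, e3 q26750 L784617 q25897, e3 q26751 L784635 q26336, trivial⟩ (by decide +kernel)

theorem ce_g_418 : ∀ r, r < 64 → sm gg (Qf (26752 + r)) = Qf (tab Gen.g (26752 + r)) :=
  edges_tab (sm gg) Qf (tab Gen.g) 26752 [(26752, 25953), (26753, 26343), (26754, 25909), (26755, 25586), (26756, 25914), (26757, 25915), (26758, 26337), (26759, 25919), (26760, 25920), (26761, 26338), (26762, 26340), (26763, 26594), (26764, 26573), (26765, 26574), (26766, 26341), (26767, 27933), (26768, 26355), (26769, 25901), (26770, 25591), (26771, 25592), (26772, 27944), (26773, 27945), (26774, 26581), (26775, 25865), (26776, 26064), (26777, 25680), (26778, 25990), (26779, 25690), (26780, 25628), (26781, 25654), (26782, 25655), (26783, 26333), (26784, 26085), (26785, 26358), (26786, 26359), (26787, 27965), (26788, 26089), (26789, 26090), (26790, 26360), (26791, 25613), (26792, 26434), (26793, 26470), (26794, 26471), (26795, 27975), (26796, 25612), (26797, 27976), (26798, 27977), (26799,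 27969), (26800, 25736), (26801, 26282), (26802, 26276), (26803, 26293), (26804, 26291), (26805, 26287), (26806, 26098), (26807, 26099), (26808, 26362), (26809, 25622), (26810, 25624), (26811, 25625), (26812, 27992), (26813, 26104), (26814, 25635), (26815, 27954)]
    ⟨e3 q26752 L784653 q25953, e3 q26753 L784669 q26343, e3 q26754 L784687 q25909, e3 q26755 L784703 q25586, e3 q26756 L784717 q25914, e3 q26757 L784729 q25915, e3 q26758 L784743 q26337, e3 q26759 L784757 q25919, e3 q26760 L784776 q25920, e3 q26761 L784788 q26338, e3 q26762 L784806 q26340, e3 q26763 L784824 q26594, e3 q26764 L784840 q26573, e3 q26765 L784856 q26574, e3 q26766 L784872 q26341, e3 q26767 (flp_g L796691) q27933, e3 q26768 L784904 q26355, e3 q26769 L784922 q25901, e3 q26770 L784938 q25591, e3 q26771 L784952 q25592, e3 q26772 (flp_g L796875) q27944, e3 q26773 (flp_g L796889) q27945, e3 q26774 L784992 q26581, e3 q26775 L785010 q25865, e3 q26776 L785028 q26064, e3 q26777 L785044 q25680, e3 q26778 L785057 q25990, e3 q26779 L785071 q25690, e3 q26780 L785089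 q25628, e3 q26781 L785102 q25654, e3 q26782 L785119 q25655, e3 q26783 L785134 q26333, e3 q26784 L785150 q26085, e3 q26785 L785162 q26358, e3 q26786 L785174 q26359, e3 q26787 L797177 q27965, e3 q26788 L785200 q26089, e3 q26789 L785212 q26090, e3 q26790 L785225 q26360, e3 q26791 L785241 q25613, e3 q26792 L785259 q26434, e3 q26793 L785273 q26470, e3 q26794 L785287 q26471, e3 q26795 L797320 q27975, e3 q26796 L785318 q25612, e3 q26797 (flp_g L797343) q27976, e3 q26798 (flp_g L797359) q27977, e3 q26799 (flp_g L797237) q27969, e3 q26800 L785370 q25736, e3 q26801 L785384 q26282, e3 q26802 L785394 q26276, e3 q26803 L785405 q26293, e3 q26804 L785417 q26291, e3 q26805 L785435 q26287, e3 q26806 L785443 q26098, e3 q26807 L785455 q26099, e3 q26808 L785467 q26362, e3 q26809 (flp_g L785473) q25622, e3 q26810 L785494 q25624, e3 q26811 L785511 q25625, e3 q26812 (flp_g L797557) q27992, e3 q26813 L785541 q26104, e3 q26814 L785555 q25635, e3 q26815 (flp_g L797028) q27954, trivial⟩ (by decide +kernel)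

theorem ce_g_419 : ∀ r, r < 64 → sm gg (Qf (26816 + r)) = Qf (tab Gen.g (26816 + r)) :=
  edges_tab (sm gg) Qf (tab Gen.g) 26816 [(26816, 27955), (26817, 26472), (26818, 26473), (26819, 28003), (26820, 25631), (26821, 25633), (26822, 25634), (26823, 28004), (26824, 28005), (26825, 27996), (26826, 25734), (26827, 25772), (26828, 25773), (26829, 26365), (26830, 26366), (26831, 26124), (26832, 26125), (26833, 26126), (26834, 25737), (26835, 25738), (26836, 25775), (26837, 25776), (26838, 28027), (26839, 26129), (26840, 26130), (26841, 26696), (26842, 26367), (26843, 26368), (26844, 28034), (26845, 25649), (26846, 26132), (26847, 26133), (26848, 26134), (26849, 27956), (26850, 28039), (26851, 25656), (26852, 25660), (26853, 25815), (26854, 28040), (26855, 26141), (26856, 26142), (26857, 25672), (26858, 26144), (26859, 25735), (26860, 28043), (26861, 26036), (26862, 26061), (26863, 25679), (26864, 25981), (26865, 25681), (26866, 28046), (26867, 27950), (26868, 28049), (26869, 26040), (26870, 26041), (26871, 26048), (26872, 26049),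 (26873, 26032), (26874, 26033), (26875, 26370), (26876, 26626), (26877, 26627), (26878, 26361), (26879, 27953)]
    ⟨e3 q26816 (flp_g L797044) q27955, e3 q26817 L785595 q26472, e3 q26818 L785609 q26473, e3 q26819 L797709 q28003, e3 q26820 (flp_g L785629) q25631, e3 q26821 L785651 q25633, e3 q26822 L785663 q25634, e3 q26823 (flp_g L797727) q28004, e3 q26824 (flp_g L797741) q28005, e3 q26825 (flp_g L797619) q27996, e3 q26826 L785709 q25734, e3 q26827 L785723 q25772, e3 q26828 L785737 q25773, e3 q26829 L785753 q26365, e3 q26830 L785767 q26366, e3 q26831 L785785 q26124, e3 q26832 L785799 q26125, e3 q26833 L785813 q26126, e3 q26834 L785824 q25737, e3 q26835 L785836 q25738, e3 q26836 L785848 q25775, e3 q26837 L785860 q25776, e3 q26838 L798037 q28027, e3 q26839 L785886 q26129, e3 q26840 L785898 q26130, e3 q26841 L785914 q26696, e3 q26842 L785920 q26367, e3 q26843 L785928 q26368, e3 q26844 L798123 q28034, e3 q26845 (flp_g L785940) q25649, e3 q26846 L785962 q26132, e3 q26847 L785972 q26133, e3 q26848 L785982 q26134, e3 q26849 (flp_g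 L797062) q27956, e3 q26850 L798187 q28039, e3 q26851 (flp_g L786016) q25656, e3 q26852 L786040 q25660, e3 q26853 L786061 q25815, e3 q26854 (flp_g L798210) q28040, e3 q26855 L786083 q26141, e3 q26856 L786095 q26142, e3 q26857 L786112 q25672, e3 q26858 L786123 q26144, e3 q26859 L786136 q25735, e3 q26860 (flp_g L798254) q28043, e3 q26861 L786167 q26036, e3 q26862 L786185 q26061, e3 q26863 L786201 q25679, e3 q26864 L786217 q25981, e3 q26865 L786231 q25681, e3 q26866 (flp_g L798301) q28046, e3 q26867 (flp_g L796967) q27950, e3 q26868 (flp_g L798348) q28049, e3 q26869 L786287 q26040, e3 q26870 L786303 q26041, e3 q26871 L786320 q26048, e3 q26872 L786332 q26049, e3 q26873 L786346 q26032, e3 q26874 L786362 q26033, e3 q26875 L786380 q26370, e3 q26876 L786390 q26626, e3 q26877 L786406 q26627, e3 q26878 L786423 q26361, e3 q26879 (flp_g L797012) q27953, trivial⟩ (by decide +kernel)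

theorem ce_g_420 : ∀ r, r < 64 → sm gg (Qf (26880 + r)) = Qf (tab Gen.g (26880 + r)) :=
  edges_tab (sm gg) Qf (tab Gen.g) 26880 [(26880, 26371), (26881, 26372), (26882, 26373), (26883, 26374), (26884, 26629), (26885, 26630), (26886, 26375), (26887, 25991), (26888, 25992), (26889, 25699), (26890, 28071), (26891, 26410), (26892, 26411), (26893, 25970), (26894, 25971), (26895, 25705), (26896, 25706), (26897, 28075), (26898, 28076), (26899, 26162), (26900, 26518), (26901, 26157), (26902, 26431), (26903, 26692), (26904, 26693), (26905, 28088), (26906, 25716), (26907, 28089), (26908, 28090), (26909, 26699), (26910, 26194), (26911, 25739), (26912, 26418), (26913, 26419), (26914, 26420), (26915, 26748), (26916, 26421), (26917, 26422), (26918, 26665), (26919, 26666), (26920, 26423), (26921, 26424), (26922, 28109), (26923, 25727), (26924, 26668), (26925, 26669), (26926, 26425), (26927, 25732), (26928, 28113), (26929, 28114), (26930, 25743), (26931, 28010), (26932, 28011), (26933, 27981), (26934, 27982), (26935, 28021), (26936, 28022),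 (26937, 28095), (26938, 25741), (26939, 25742), (26940, 28125), (26941, 28126), (26942, 28117), (26943, 26440)]
    ⟨e3 q26880 L786449 q26371, e3 q26881 L786465 q26372, e3 q26882 L786482 q26373, e3 q26883 L786496 q26374, e3 q26884 L786512 q26629, e3 q26885 L786526 q26630, e3 q26886 L786540 q26375, e3 q26887 L786552 q25991, e3 q26888 L786564 q25992, e3 q26889 L786579 q25699, e3 q26890 (flp_g L798688) q28071, e3 q26891 L786607 q26410, e3 q26892 L786621 q26411, e3 q26893 L786637 q25970, e3 q26894 L786653 q25971, e3 q26895 L786671 q25705, e3 q26896 L786685 q25706, e3 q26897 (flp_g L798756) q28075, e3 q26898 (flp_g L798770) q28076, e3 q26899 L786727 q26162, e3 q26900 L786741 q26518, e3 q26901 L786756 q26157, e3 q26902 L786772 q26431, e3 q26903 L786784 q26692, e3 q26904 L786796 q26693, e3 q26905 L798934 q28088, e3 q26906 L786824 q25716, e3 q26907 (flp_g L798952) q28089, e3 q26908 (flp_g L798968) q28090, e3 q26909 L786859 q26699, e3 q26910 L786877 q26194, e3 q26911 L786891 q25739, e3 q26912 L786900 q26418, e3 q26913 L786910 q26419,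 e3 q26914 L786920 q26420, e3 q26915 L786933 q26748, e3 q26916 L786939 q26421, e3 q26917 L786951 q26422, e3 q26918 L786964 q26665, e3 q26919 L786974 q26666, e3 q26920 L786983 q26423, e3 q26921 L786993 q26424, e3 q26922 L799171 q28109, e3 q26923 (flp_g L787005) q25727, e3 q26924 L787021 q26668, e3 q26925 L787033 q26669, e3 q26926 L787043 q26425, e3 q26927 L787057 q25732, e3 q26928 (flp_g L799220) q28113, e3 q26929 (flp_g L799236) q28114, e3 q26930 L787090 q25743, e3 q26931 (flp_g L797803) q28010, e3 q26932 (flp_g L797819) q28011, e3 q26933 (flp_g L797411) q27981, e3 q26934 (flp_g L797427) q27982, e3 q26935 (flp_g L797969) q28021, e3 q26936 (flp_g L797981) q28022, e3 q26937 (flp_g L799035) q28095, e3 q26938 L787197 q25741, e3 q26939 L787211 q25742, e3 q26940 (flp_g L799375) q28125, e3 q26941 (flp_g L799389) q28126, e3 q26942 (flp_g L799273) q28117, e3 q26943 L787255 q26440, trivial⟩ (by decide +kernel)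

theorem ce_g_421 : ∀ r, r < 64 → sm gg (Qf (26944 + r)) = Qf (tab Gen.g (26944 + r)) :=
  edges_tab (sm gg) Qf (tab Gen.g) 26944 [(26944, 26441), (26945, 26443), (26946, 26444), (26947, 26182), (26948, 26446), (26949, 26447), (26950, 26448), (26951, 26449), (26952, 26486), (26953, 26647), (26954, 26451), (26955, 26452), (26956, 26493), (26957, 26675), (26958, 26676), (26959, 25758), (26960, 25759), (26961, 28147), (26962, 28148), (26963, 26265), (26964, 27993), (26965, 26660), (26966, 26261), (26967, 25924), (26968, 25767), (26969, 25768), (26970, 28156), (26971, 28157), (26972, 25784), (26973, 26445), (26974, 26070), (26975, 28012), (26976, 28013), (26977, 25819), (26978, 28024), (26979, 28025), (26980, 28169), (26981, 25777), (26982, 25807), (26983, 25808), (26984, 25782), (26985, 25783), (26986, 28006), (26987, 28172), (26988, 28173), (26989, 26662), (26990, 26148), (26991, 26484), (26992, 25813), (26993, 26487), (26994, 26488), (26995, 26489), (26996, 26490), (26997, 26674), (26998, 26494), (26999, 26495), (27000, 26069),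 (27001, 26502), (27002, 26503), (27003, 26505), (27004, 26506), (27005, 28191), (27006, 25799), (27007, 26111)]
    ⟨e3 q26944 L787271 q26441, e3 q26945 L787288 q26443, e3 q26946 L787300 q26444, e3 q26947 L787316 q26182, e3 q26948 L787330 q26446, e3 q26949 L787346 q26447, e3 q26950 L787359 q26448, e3 q26951 L787367 q26449, e3 q26952 (flp_g L787386) q26486, e3 q26953 L787396 q26647, e3 q26954 L787408 q26451, e3 q26955 L787416 q26452, e3 q26956 (flp_g L787430) q26493, e3 q26957 L787438 q26675, e3 q26958 L787454 q26676, e3 q26959 L787472 q25758, e3 q26960 L787486 q25759, e3 q26961 (flp_g L799670) q28147, e3 q26962 (flp_g L799684) q28148, e3 q26963 L787516 q26265, e3 q26964 (flp_g L797580) q27993, e3 q26965 L787544 q26660, e3 q26966 L787560 q26261, e3 q26967 L787571 q25924, e3 q26968 L787585 q25767, e3 q26969 L787597 q25768, e3 q26970 (flp_g L799793) q28156, e3 q26971 (flp_g L799805) q28157, e3 q26972 L787624 q25784, e3 q26973 L787634 q26445, e3 q26974 L787650 q26070, e3 q26975 (flp_g L797837) q28012, e3 q26976 (flp_g L797851)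 q28013, e3 q26977 L787698 q25819, e3 q26978 (flp_g L798005) q28024, e3 q26979 (flp_g L798017) q28025, e3 q26980 L799945 q28169, e3 q26981 (flp_g L787732) q25777, e3 q26982 L787750 q25807, e3 q26983 L787766 q25808, e3 q26984 L787782 q25782, e3 q26985 L787794 q25783, e3 q26986 (flp_g L797761) q28006, e3 q26987 (flp_g L799995) q28172, e3 q26988 (flp_g L800007) q28173, e3 q26989 L787840 q26662, e3 q26990 L787856 q26148, e3 q26991 L787872 q26484, e3 q26992 L787884 q25813, e3 q26993 L787898 q26487, e3 q26994 L787914 q26488, e3 q26995 L787932 q26489, e3 q26996 L787944 q26490, e3 q26997 L787960 q26674, e3 q26998 L787976 q26494, e3 q26999 L787984 q26495, e3 q27000 L787998 q26069, e3 q27001 L788006 q26502, e3 q27002 L788018 q26503, e3 q27003 L788034 q26505, e3 q27004 L788046 q26506, e3 q27005 L800253 q28191, e3 q27006 (flp_g L788070) q25799, e3 q27007 L788096 q26111, trivial⟩ (by decide +kernel)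

theorem ce_g_422 : ∀ r, r < 64 → sm gg (Qf (27008 + r)) = Qf (tab Gen.g (27008 + r)) :=
  edges_tab (sm gg) Qf (tab Gen.g) 27008 [(27008, 25802), (27009, 28193), (27010, 26514), (27011, 28195), (27012, 25805), (27013, 28170), (27014, 28171), (27015, 25811), (27016, 25812), (27017, 28198), (27018, 28179), (27019, 28166), (27020, 26655), (27021, 26200), (27022, 26509), (27023, 25888), (27024, 26339), (27025, 25873), (27026, 25985), (27027, 25986), (27028, 26345), (27029, 26346), (27030, 26521), (27031, 25832), (27032, 28212), (27033, 26523), (27034, 26524), (27035, 26576), (27036, 26577), (27037, 26526), (27038, 26035), (27039, 26043), (27040, 26045), (27041, 26046), (27042, 26213), (27043, 26599), (27044, 26600), (27045, 26369), (27046, 26584), (27047, 25941), (27048, 25942), (27049, 26528), (27050, 26529), (27051, 26530), (27052, 26531), (27053, 25973), (27054, 25852), (27055, 25853), (27056, 28237), (27057, 28238), (27058, 26533), (27059, 25965), (27060, 25858), (27061, 28242), (27062, 25974), (27063, 25975), (27064, 26540),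 (27065, 26541), (27066, 26546), (27067, 26547), (27068, 27949), (27069, 25868), (27070, 25869), (27071, 28249)]
    ⟨e3 q27008 L788114 q25802, e3 q27009 (flp_g L800299) q28193, e3 q27010 L788140 q26514, e3 q27011 L800315 q28195, e3 q27012 (flp_g L788148) q25805, e3 q27013 (flp_g L799961) q28170, e3 q27014 (flp_g L799977) q28171, e3 q27015 L788186 q25811, e3 q27016 L788194 q25812, e3 q27017 (flp_g L800355) q28198, e3 q27018 (flp_g L800085) q28179, e3 q27019 (flp_g L799923) q28166, e3 q27020 L788226 q26655, e3 q27021 L788242 q26200, e3 q27022 L788256 q26509, e3 q27023 L788268 q25888, e3 q27024 L788286 q26339, e3 q27025 L788302 q25873, e3 q27026 L788318 q25985, e3 q27027 L788332 q25986, e3 q27028 L788348 q26345, e3 q27029 L788364 q26346, e3 q27030 L788380 q26521, e3 q27031 L788396 q25832, e3 q27032 (flp_g L800555) q28212, e3 q27033 L788424 q26523, e3 q27034 L788436 q26524, e3 q27035 L788452 q26576, e3 q27036 L788466 q26577, e3 q27037 L788480 q26526, e3 q27038 L788494 q26035, e3 q27039 L788510 q26043, e3 q27040 L788522 q26045,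 e3 q27041 L788532 q26046, e3 q27042 L788548 q26213, e3 q27043 L788556 q26599, e3 q27044 L788568 q26600, e3 q27045 L788581 q26369, e3 q27046 L788593 q26584, e3 q27047 L788607 q25941, e3 q27048 L788623 q25942, e3 q27049 L788639 q26528, e3 q27050 L788651 q26529, e3 q27051 L788664 q26530, e3 q27052 L788672 q26531, e3 q27053 (flp_g L788692) q25973, e3 q27054 L788700 q25852, e3 q27055 L788716 q25853, e3 q27056 (flp_g L800902) q28237, e3 q27057 (flp_g L800918) q28238, e3 q27058 L788746 q26533, e3 q27059 L788758 q25965, e3 q27060 L788776 q25858, e3 q27061 (flp_g L800972) q28242, e3 q27062 L788798 q25974, e3 q27063 L788810 q25975, e3 q27064 L788824 q26540, e3 q27065 L788838 q26541, e3 q27066 L788854 q26546, e3 q27067 L788860 q26547, e3 q27068 (flp_g L796947) q27949, e3 q27069 L788882 q25868, e3 q27070 L788896 q25869, e3 q27071 (flp_g L801064) q28249, trivial⟩ (by decide +kernel)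

theorem ce_g_423 : ∀ r, r < 64 → sm gg (Qf (27072 + r)) = Qf (tab Gen.g (27072 + r)) :=
  edges_tab (sm gg) Qf (tab Gen.g) 27072 [(27072, 28250), (27073, 26587), (27074, 26522), (27075, 28206), (27076, 25968), (27077, 25972), (27078, 26536), (27079, 26537), (27080, 26543), (27081, 26544), (27082, 26550), (27083, 26026), (27084, 26387), (27085, 26268), (27086, 26390), (27087, 26391), (27088, 28269), (27089, 26381), (27090, 26382), (27091, 26396), (27092, 25964), (27093, 28204), (27094, 25943), (27095, 25944), (27096, 26552), (27097, 26553), (27098, 26007), (27099, 26554), (27100, 26555), (27101, 26002), (27102, 27927), (27103, 27928), (27104, 26556), (27105, 26545), (27106, 25904), (27107, 27943), (27108, 25903), (27109, 28290), (27110, 28288), (27111, 25976), (27112, 25977), (27113, 26525), (27114, 25913), (27115, 27932), (27116, 26570), (27117, 25957), (27118, 26559), (27119, 26560), (27120, 28294), (27121, 27934), (27122, 27935), (27123, 27936), (27124, 26532), (27125, 27937), (27126, 27938), (27127, 26105), (27128, 26110),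 (27129, 26508), (27130, 28154), (27131, 28155), (27132, 26516), (27133, 26463), (27134, 26464), (27135, 26313)]
    ⟨e3 q27072 (flp_g L801078) q28250, e3 q27073 L788926 q26587, e3 q27074 L788940 q26522, e3 q27075 (flp_g L800459) q28206, e3 q27076 L788966 q25968, e3 q27077 L788980 q25972, e3 q27078 L788994 q26536, e3 q27079 L789008 q26537, e3 q27080 L789023 q26543, e3 q27081 L789033 q26544, e3 q27082 L789043 q26550, e3 q27083 L789053 q26026, e3 q27084 L789071 q26387, e3 q27085 L789087 q26268, e3 q27086 L789099 q26390, e3 q27087 L789113 q26391, e3 q27088 L801336 q28269, e3 q27089 L789141 q26381, e3 q27090 L789153 q26382, e3 q27091 L789166 q26396, e3 q27092 L789180 q25964, e3 q27093 (flp_g L800423) q28204, e3 q27094 L789202 q25943, e3 q27095 L789216 q25944, e3 q27096 L789232 q26552, e3 q27097 L789242 q26553, e3 q27098 L789257 q26007, e3 q27099 L789271 q26554, e3 q27100 L789281 q26555, e3 q27101 L789299 q26002, e3 q27102 (flp_g L796583) q27927, e3 q27103 (flp_g L796599) q27928, e3 q27104 L789317 q26556, e3 q27105 L789331 q26545,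 e3 q27106 L789341 q25904, e3 q27107 (flp_g L796857) q27943, e3 q27108 L789359 q25903, e3 q27109 (flp_g L801604) q28290, e3 q27110 (flp_g L801582) q28288, e3 q27111 L789389 q25976, e3 q27112 L789399 q25977, e3 q27113 L789421 q26525, e3 q27114 L789431 q25913, e3 q27115 (flp_g L796673) q27932, e3 q27116 L789451 q26570, e3 q27117 L789469 q25957, e3 q27118 L789475 q26559, e3 q27119 L789483 q26560, e3 q27120 (flp_g L801650) q28294, e3 q27121 (flp_g L796707) q27934, e3 q27122 (flp_g L796719) q27935, e3 q27123 (flp_g L796733) q27936, e3 q27124 L789527 q26532, e3 q27125 (flp_g L796753) q27937, e3 q27126 (flp_g L796770) q27938, e3 q27127 L789569 q26105, e3 q27128 L789585 q26110, e3 q27129 L789597 q26508, e3 q27130 (flp_g L799760) q28154, e3 q27131 (flp_g L799776) q28155, e3 q27132 L789628 q26516, e3 q27133 L789640 q26463, e3 q27134 L789650 q26464, e3 q27135 L789660 q26313, trivial⟩ (by decide +kernel)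

theorem ce_g_424 : ∀ r, r < 64 → sm gg (Qf (27136 + r)) = Qf (tab Gen.g (27136 + r)) :=
  edges_tab (sm gg) Qf (tab Gen.g) 27136 [(27136, 28319), (27137, 26467), (27138, 26468), (27139, 26469), (27140, 26455), (27141, 26456), (27142, 26475), (27143, 26476), (27144, 28330), (27145, 25934), (27146, 26460), (27147, 26461), (27148, 26481), (27149, 25945), (27150, 26092), (27151, 26107), (27152, 26108), (27153, 28229), (27154, 28230), (27155, 28275), (27156, 28276), (27157, 28335), (27158, 26052), (27159, 26053), (27160, 26562), (27161, 26563), (27162, 25963), (27163, 26564), (27164, 26565), (27165, 26566), (27166, 26567), (27167, 28158), (27168, 27930), (27169, 26561), (27170, 26568), (27171, 26569), (27172, 28299), (27173, 25960), (27174, 25961), (27175, 28361), (27176, 28362), (27177, 28349), (27178, 28346), (27179, 28273), (27180, 28241), (27181, 25978), (27182, 26083), (27183, 28255), (27184, 28233), (27185, 26615), (27186, 26616), (27187, 28073), (27188, 28074), (27189, 28256), (27190, 28236), (27191, 28243), (27192, 28244),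 (27193, 28292), (27194, 28293), (27195, 26063), (27196, 26580), (27197, 28047), (27198, 28048), (27199, 26075)]
    ⟨e3 q27136 L801940 q28319, e3 q27137 L789681 q26467, e3 q27138 L789691 q26468, e3 q27139 L789699 q26469, e3 q27140 L789708 q26455, e3 q27141 L789716 q26456, e3 q27142 L789725 q26475, e3 q27143 L789733 q26476, e3 q27144 L802038 q28330, e3 q27145 (flp_g L789743) q25934, e3 q27146 L789757 q26460, e3 q27147 L789769 q26461, e3 q27148 L789779 q26481, e3 q27149 L789789 q25945, e3 q27150 L789807 q26092, e3 q27151 L789821 q26107, e3 q27152 L789833 q26108, e3 q27153 (flp_g L800791) q28229, e3 q27154 (flp_g L800807) q28230, e3 q27155 (flp_g L801422) q28275, e3 q27156 (flp_g L801436) q28276, e3 q27157 (flp_g L802099) q28335, e3 q27158 L789888 q26052, e3 q27159 L789902 q26053, e3 q27160 L789915 q26562, e3 q27161 L789929 q26563, e3 q27162 L789951 q25963, e3 q27163 L789955 q26564, e3 q27164 L789963 q26565, e3 q27165 L789972 q26566, e3 q27166 L789980 q26567, e3 q27167 (flp_g L799822) q28158, e3 q27168 (flp_g L796637) q27930,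 e3 q27169 L790005 q26561, e3 q27170 L790013 q26568, e3 q27171 L790021 q26569, e3 q27172 (flp_g L801726) q28299, e3 q27173 L790035 q25960, e3 q27174 L790047 q25961, e3 q27175 (flp_g L802379) q28361, e3 q27176 (flp_g L802391) q28362, e3 q27177 (flp_g L802287) q28349, e3 q27178 (flp_g L802241) q28346, e3 q27179 (flp_g L801398) q28273, e3 q27180 (flp_g L800950) q28241, e3 q27181 L790104 q25978, e3 q27182 L790118 q26083, e3 q27183 (flp_g L801144) q28255, e3 q27184 L800860 q28233, e3 q27185 L790149 q26615, e3 q27186 L790163 q26616, e3 q27187 (flp_g L798720) q28073, e3 q27188 (flp_g L798736) q28074, e3 q27189 (flp_g L801160) q28256, e3 q27190 L800894 q28236, e3 q27191 (flp_g L800986) q28243, e3 q27192 (flp_g L800996) q28244, e3 q27193 (flp_g L801630) q28292, e3 q27194 (flp_g L801640) q28293, e3 q27195 L790247 q26063, e3 q27196 L790261 q26580, e3 q27197 (flp_g L798317) q28047, e3 q27198 (flp_g L798333) q28048, e3 q27199 L790292 q26075, trivial⟩ (by decide +kernel)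

theorem ce_g_425 : ∀ r, r < 64 → sm gg (Qf (27200 + r)) = Qf (tab Gen.g (27200 + r)) :=
  edges_tab (sm gg) Qf (tab Gen.g) 27200 [(27200, 26076), (27201, 26582), (27202, 26583), (27203, 26015), (27204, 28207), (27205, 28208), (27206, 26014), (27207, 26585), (27208, 26586), (27209, 26012), (27210, 27951), (27211, 27952), (27212, 28069), (27213, 28070), (27214, 28279), (27215, 26588), (27216, 26589), (27217, 28408), (27218, 26590), (27219, 26591), (27220, 26466), (27221, 28413), (27222, 25997), (27223, 26000), (27224, 26001), (27225, 28414), (27226, 28415), (27227, 28394), (27228, 28283), (27229, 26595), (27230, 28421), (27231, 26005), (27232, 28280), (27233, 26010), (27234, 26011), (27235, 28423), (27236, 28396), (27237, 28391), (27238, 28385), (27239, 28388), (27240, 26019), (27241, 26025), (27242, 26023), (27243, 26433), (27244, 28331), (27245, 28428), (27246, 28261), (27247, 26408), (27248, 26409), (27249, 26413), (27250, 26031), (27251, 28434), (27252, 28057), (27253, 28058), (27254, 28218), (27255, 28219), (27256, 28044),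 (27257, 26056), (27258, 26057), (27259, 26254), (27260, 28053), (27261, 28054), (27262, 26603), (27263, 28220)]
    ⟨e3 q27200 L790304 q26076, e3 q27201 L790316 q26582, e3 q27202 L790328 q26583, e3 q27203 L790346 q26015, e3 q27204 (flp_g L800475) q28207, e3 q27205 (flp_g L800489) q28208, e3 q27206 L790386 q26014, e3 q27207 L790394 q26585, e3 q27208 L790404 q26586, e3 q27209 L790418 q26012, e3 q27210 (flp_g L796979) q27951, e3 q27211 (flp_g L796995) q27952, e3 q27212 (flp_g L798662) q28069, e3 q27213 (flp_g L798674) q28070, e3 q27214 (flp_g L801481) q28279, e3 q27215 L790458 q26588, e3 q27216 L790466 q26589, e3 q27217 L802870 q28408, e3 q27218 L790480 q26590, e3 q27219 L790488 q26591, e3 q27220 L790496 q26466, e3 q27221 L802920 q28413, e3 q27222 (flp_g L790510) q25997, e3 q27223 L790528 q26000, e3 q27224 L790536 q26001, e3 q27225 (flp_g L802936) q28414, e3 q27226 (flp_g L802942) q28415, e3 q27227 (flp_g L802762) q28394, e3 q27228 (flp_g L801533) q28283, e3 q27229 L790568 q26595, e3 q27230 L802974 q28421, e3 q27231 (flp_g L790574)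 q26005, e3 q27232 (flp_g L801491) q28280, e3 q27233 L790594 q26010, e3 q27234 L790602 q26011, e3 q27235 (flp_g L802996) q28423, e3 q27236 (flp_g L802786) q28396, e3 q27237 (flp_g L802720) q28391, e3 q27238 (flp_g L802646) q28385, e3 q27239 (flp_g L802682) q28388, e3 q27240 L790646 q26019, e3 q27241 L790662 q26025, e3 q27242 L790673 q26023, e3 q27243 L790684 q26433, e3 q27244 (flp_g L802060) q28331, e3 q27245 (flp_g L803039) q28428, e3 q27246 (flp_g L801226) q28261, e3 q27247 L790732 q26408, e3 q27248 L790746 q26409, e3 q27249 L790762 q26413, e3 q27250 L790774 q26031, e3 q27251 (flp_g L803120) q28434, e3 q27252 (flp_g L798470) q28057, e3 q27253 (flp_g L798486) q28058, e3 q27254 (flp_g L800647) q28218, e3 q27255 (flp_g L800663) q28219, e3 q27256 (flp_g L798267) q28044, e3 q27257 L790845 q26056, e3 q27258 L790855 q26057, e3 q27259 L790869 q26254, e3 q27260 (flp_g L798408) q28053, e3 q27261 (flp_g L798424) q28054, e3 q27262 L790891 q26603, e3 q27263 (flp_g L800678) q28220, trivial⟩ (by decide +kernel)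

theorem ce_g_426 : ∀ r, r < 64 → sm gg (Qf (27264 + r)) = Qf (tab Gen.g (27264 + r)) :=
  edges_tab (sm gg) Qf (tab Gen.g) 27264 [(27264, 28221), (27265, 26047), (27266, 28222), (27267, 28223), (27268, 28447), (27269, 28055), (27270, 28056), (27271, 26055), (27272, 28344), (27273, 28345), (27274, 26058), (27275, 28451), (27276, 28439), (27277, 28440), (27278, 26631), (27279, 26634), (27280, 28045), (27281, 28381), (27282, 27948), (27283, 26067), (27284, 26068), (27285, 28458), (27286, 28186), (27287, 28163), (27288, 26235), (27289, 26620), (27290, 26606), (27291, 26077), (27292, 28386), (27293, 28387), (27294, 28463), (27295, 26632), (27296, 26633), (27297, 26635), (27298, 26636), (27299, 28369), (27300, 28370), (27301, 26617), (27302, 27960), (27303, 27961), (27304, 26637), (27305, 26638), (27306, 28479), (27307, 26088), (27308, 27966), (27309, 27967), (27310, 26639), (27311, 28336), (27312, 28337), (27313, 26097), (27314, 26095), (27315, 26096), (27316, 28486), (27317, 28487), (27318, 28485), (27319, 27989), (27320, 27990),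 (27321, 27991), (27322, 26103), (27323, 26551), (27324, 28495), (27325, 27995), (27326, 28307), (27327, 28153)]
    ⟨e3 q27264 (flp_g L800694) q28221, e3 q27265 L790932 q26047, e3 q27266 (flp_g L800707) q28222, e3 q27267 (flp_g L800717) q28223, e3 q27268 (flp_g L803261) q28447, e3 q27269 (flp_g L798442) q28055, e3 q27270 (flp_g L798454) q28056, e3 q27271 L791000 q26055, e3 q27272 (flp_g L802208) q28344, e3 q27273 (flp_g L802222) q28345, e3 q27274 L791034 q26058, e3 q27275 (flp_g L803313) q28451, e3 q27276 (flp_g L803174) q28439, e3 q27277 (flp_g L803184) q28440, e3 q27278 L791082 q26631, e3 q27279 L791100 q26634, e3 q27280 (flp_g L798287) q28045, e3 q27281 (flp_g L802589) q28381, e3 q27282 (flp_g L796933) q27948, e3 q27283 L791154 q26067, e3 q27284 L791162 q26068, e3 q27285 (flp_g L803394) q28458, e3 q27286 (flp_g L800195) q28186, e3 q27287 (flp_g L799873) q28163, e3 q27288 L791202 q26235, e3 q27289 L791214 q26620, e3 q27290 L791230 q26606, e3 q27291 L791236 q26077, e3 q27292 (flp_g L802652) q28386, e3 q27293 (flp_g L802664)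 q28387, e3 q27294 (flp_g L803454) q28463, e3 q27295 L791272 q26632, e3 q27296 L791282 q26633, e3 q27297 L791294 q26635, e3 q27298 L791300 q26636, e3 q27299 (flp_g L802458) q28369, e3 q27300 (flp_g L802474) q28370, e3 q27301 L791333 q26617, e3 q27302 (flp_g L797118) q27960, e3 q27303 (flp_g L797134) q27961, e3 q27304 L791368 q26637, e3 q27305 L791382 q26638, e3 q27306 L803636 q28479, e3 q27307 (flp_g L791402) q26088, e3 q27308 (flp_g L797193) q27966, e3 q27309 (flp_g L797207) q27967, e3 q27310 L791437 q26639, e3 q27311 (flp_g L802113) q28336, e3 q27312 (flp_g L802129) q28337, e3 q27313 L791478 q26097, e3 q27314 L791492 q26095, e3 q27315 L791502 q26096, e3 q27316 (flp_g L803723) q28486, e3 q27317 (flp_g L803733) q28487, e3 q27318 (flp_g L803709) q28485, e3 q27319 (flp_g L797517) q27989, e3 q27320 (flp_g L797529) q27990, e3 q27321 (flp_g L797541) q27991, e3 q27322 L791578 q26103, e3 q27323 L791591 q26551, e3 q27324 (flp_g L803817) q28495, e3 q27325 (flp_g L797606) q27995, e3 q27326 (flp_g L801807) q28307, e3 q27327 (flp_g L799748)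 q28153, trivial⟩ (by decide +kernel)

theorem ce_g_427 : ∀ r, r < 64 → sm gg (Qf (27328 + r)) = Qf (tab Gen.g (27328 + r)) :=
  edges_tab (sm gg) Qf (tab Gen.g) 27328 [(27328, 26115), (27329, 28338), (27330, 28339), (27331, 26120), (27332, 28308), (27333, 28309), (27334, 28192), (27335, 26113), (27336, 26114), (27337, 28506), (27338, 28507), (27339, 28499), (27340, 26118), (27341, 26119), (27342, 26542), (27343, 28511), (27344, 28512), (27345, 28513), (27346, 26234), (27347, 26648), (27348, 26649), (27349, 28016), (27350, 28017), (27351, 28018), (27352, 28019), (27353, 26650), (27354, 26651), (27355, 28028), (27356, 28029), (27357, 28030), (27358, 28035), (27359, 28036), (27360, 28037), (27361, 26137), (27362, 28531), (27363, 26140), (27364, 28041), (27365, 28042), (27366, 26152), (27367, 26195), (27368, 26677), (27369, 26678), (27370, 28177), (27371, 26150), (27372, 26151), (27373, 28537), (27374, 28538), (27375, 28532), (27376, 26652), (27377, 26653), (27378, 26386), (27379, 28547), (27380, 26654), (27381, 28081), (27382,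 28082), (27383, 26656), (27384, 26657), (27385, 28556), (27386, 26658), (27387, 26326), (27388, 26161), (27389, 28078), (27390, 28079), (27391, 26659)]
    ⟨e3 q27328 L791649 q26115, e3 q27329 (flp_g L802142) q28338, e3 q27330 (flp_g L802156) q28339, e3 q27331 L791673 q26120, e3 q27332 (flp_g L801823) q28308, e3 q27333 (flp_g L801839) q28309, e3 q27334 (flp_g L800279) q28192, e3 q27335 L791722 q26113, e3 q27336 L791734 q26114, e3 q27337 (flp_g L803947) q28506, e3 q27338 (flp_g L803959) q28507, e3 q27339 (flp_g L803870) q28499, e3 q27340 L791780 q26118, e3 q27341 L791788 q26119, e3 q27342 L791798 q26542, e3 q27343 (flp_g L804005) q28511, e3 q27344 (flp_g L804013) q28512, e3 q27345 (flp_g L804019) q28513, e3 q27346 L791828 q26234, e3 q27347 L791842 q26648, e3 q27348 L791858 q26649, e3 q27349 (flp_g L797899) q28016, e3 q27350 (flp_g L797915) q28017, e3 q27351 (flp_g L797930) q28018, e3 q27352 (flp_g L797944) q28019, e3 q27353 L791911 q26650, e3 q27354 L791925 q26651, e3 q27355 (flp_g L798061) q28028, e3 q27356 (flp_g L798073)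 q28029, e3 q27357 (flp_g L798081) q28030, e3 q27358 (flp_g L798147) q28035, e3 q27359 (flp_g L798157) q28036, e3 q27360 (flp_g L798167) q28037, e3 q27361 L791983 q26137, e3 q27362 (flp_g L804194) q28531, e3 q27363 L792004 q26140, e3 q27364 (flp_g L798226) q28041, e3 q27365 (flp_g L798239) q28042, e3 q27366 L792023 q26152, e3 q27367 L792039 q26195, e3 q27368 L792051 q26677, e3 q27369 L792065 q26678, e3 q27370 (flp_g L800055) q28177, e3 q27371 L792084 q26150, e3 q27372 L792092 q26151, e3 q27373 (flp_g L804268) q28537, e3 q27374 (flp_g L804276) q28538, e3 q27375 (flp_g L804204) q28532, e3 q27376 L792123 q26652, e3 q27377 L792135 q26653, e3 q27378 L792151 q26386, e3 q27379 L804360 q28547, e3 q27380 L792174 q26654, e3 q27381 (flp_g L798844) q28081, e3 q27382 (flp_g L798860) q28082, e3 q27383 L792203 q26656, e3 q27384 L792211 q26657, e3 q27385 L804446 q28556, e3 q27386 L792223 q26658, e3 q27387 L792236 q26326, e3 q27388 (flp_g L792238) q26161, e3 q27389 (flp_g L798800) q28078, e3 q27390 (flp_g L798816) q28079, e3 q27391 L792285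 q26659, trivial⟩ (by decide +kernel)

theorem ce_g_428 : ∀ r, r < 64 → sm gg (Qf (27392 + r)) = Qf (tab Gen.g (27392 + r)) :=
  edges_tab (sm gg) Qf (tab Gen.g) 27392 [(27392, 26661), (27393, 26166), (27394, 26167), (27395, 28562), (27396, 28563), (27397, 28569), (27398, 26663), (27399, 26664), (27400, 28572), (27401, 26170), (27402, 26174), (27403, 26175), (27404, 28573), (27405, 28574), (27406, 28575), (27407, 26185), (27408, 26179), (27409, 26180), (27410, 28580), (27411, 28581), (27412, 26191), (27413, 28135), (27414, 26184), (27415, 28586), (27416, 28579), (27417, 26202), (27418, 26203), (27419, 26189), (27420, 26190), (27421, 28224), (27422, 28590), (27423, 28591), (27424, 28592), (27425, 26679), (27426, 26682), (27427, 28094), (27428, 28533), (27429, 26690), (27430, 26691), (27431, 26199), (27432, 28601), (27433, 28200), (27434, 28588), (27435, 28589), (27436, 26206), (27437, 26207), (27438, 26208), (27439, 28606), (27440, 28607), (27441, 28608), (27442, 26216), (27443, 26214), (27444, 26215), (27445, 28614), (27446,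 28615), (27447, 28613), (27448, 26219), (27449, 26290), (27450, 26314), (27451, 28619), (27452, 26236), (27453, 26242), (27454, 26223), (27455, 26224)]
    ⟨e3 q27392 L792297 q26661, e3 q27393 L792307 q26166, e3 q27394 L792315 q26167, e3 q27395 (flp_g L804528) q28562, e3 q27396 (flp_g L804536) q28563, e3 q27397 L804568 q28569, e3 q27398 L792339 q26663, e3 q27399 L792345 q26664, e3 q27400 L804583 q28572, e3 q27401 (flp_g L792351) q26170, e3 q27402 L792361 q26174, e3 q27403 L792373 q26175, e3 q27404 (flp_g L804597) q28573, e3 q27405 (flp_g L804609) q28574, e3 q27406 (flp_g L804617) q28575, e3 q27407 L792400 q26185, e3 q27408 L792412 q26179, e3 q27409 L792422 q26180, e3 q27410 (flp_g L804661) q28580, e3 q27411 (flp_g L804671) q28581, e3 q27412 L792447 q26191, e3 q27413 (flp_g L799513) q28135, e3 q27414 L792471 q26184, e3 q27415 (flp_g L804720) q28586, e3 q27416 (flp_g L804645) q28579, e3 q27417 L792509 q26202, e3 q27418 L792521 q26203, e3 q27419 L792531 q26189, e3 q27420 L792539 q26190, e3 q27421 (flp_g L800731) q28224, e3 q27422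 (flp_g L804768) q28590, e3 q27423 (flp_g L804776) q28591, e3 q27424 (flp_g L804782) q28592, e3 q27425 L792581 q26679, e3 q27426 L792595 q26682, e3 q27427 (flp_g L799019) q28094, e3 q27428 (flp_g L804218) q28533, e3 q27429 L792625 q26690, e3 q27430 L792637 q26691, e3 q27431 L792651 q26199, e3 q27432 (flp_g L804886) q28601, e3 q27433 (flp_g L800369) q28200, e3 q27434 (flp_g L804748) q28588, e3 q27435 (flp_g L804760) q28589, e3 q27436 L792699 q26206, e3 q27437 L792707 q26207, e3 q27438 L792715 q26208, e3 q27439 (flp_g L804938) q28606, e3 q27440 (flp_g L804948) q28607, e3 q27441 (flp_g L804964) q28608, e3 q27442 L792753 q26216, e3 q27443 L792766 q26214, e3 q27444 L792775 q26215, e3 q27445 (flp_g L805024) q28614, e3 q27446 (flp_g L805036) q28615, e3 q27447 (flp_g L805012) q28613, e3 q27448 L792822 q26219, e3 q27449 L792831 q26290, e3 q27450 L792845 q26314, e3 q27451 (flp_g L805082) q28619, e3 q27452 L792861 q26236, e3 q27453 L792873 q26242, e3 q27454 L792887 q26223, e3 q27455 L792899 q26224, trivial⟩ (by decide +kernel)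

theorem ce_g_429 : ∀ r, r < 64 → sm gg (Qf (27456 + r)) = Qf (tab Gen.g (27456 + r)) :=
  edges_tab (sm gg) Qf (tab Gen.g) 27456 [(27456, 28624), (27457, 28625), (27458, 26499), (27459, 26248), (27460, 26249), (27461, 26498), (27462, 26230), (27463, 26231), (27464, 28632), (27465, 28633), (27466, 28634), (27467, 26672), (27468, 28517), (27469, 28461), (27470, 28622), (27471, 26239), (27472, 26240), (27473, 26485), (27474, 28641), (27475, 28642), (27476, 26645), (27477, 28623), (27478, 26283), (27479, 26284), (27480, 26246), (27481, 26247), (27482, 26504), (27483, 28651), (27484, 28652), (27485, 28653), (27486, 28630), (27487, 26294), (27488, 26295), (27489, 26255), (27490, 26256), (27491, 26257), (27492, 28441), (27493, 28661), (27494, 28662), (27495, 28664), (27496, 26723), (27497, 26260), (27498, 28669), (27499, 28151), (27500, 26717), (27501, 26264), (27502, 28673), (27503, 28150), (27504, 26712), (27505, 28264), (27506, 28265), (27507, 26272), (27508, 26273), (27509, 26274), (27510, 26275), (27511, 27985), (27512, 28678),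 (27513, 28679), (27514, 28681), (27515, 28682), (27516, 28683), (27517, 27984), (27518, 26739), (27519, 26671)]
    ⟨e3 q27456 (flp_g L805143) q28624, e3 q27457 (flp_g L805155) q28625, e3 q27458 (flp_g L792935) q26499, e3 q27459 L792941 q26248, e3 q27460 L792951 q26249, e3 q27461 L792975 q26498, e3 q27462 L792981 q26230, e3 q27463 L792987 q26231, e3 q27464 (flp_g L805236) q28632, e3 q27465 (flp_g L805242) q28633, e3 q27466 (flp_g L805246) q28634, e3 q27467 L793008 q26672, e3 q27468 (flp_g L804055) q28517, e3 q27469 (flp_g L803428) q28461, e3 q27470 (flp_g L805115) q28622, e3 q27471 L793044 q26239, e3 q27472 L793054 q26240, e3 q27473 L793067 q26485, e3 q27474 (flp_g L805308) q28641, e3 q27475 (flp_g L805320) q28642, e3 q27476 L793093 q26645, e3 q27477 (flp_g L805129) q28623, e3 q27478 L793111 q26283, e3 q27479 L793123 q26284, e3 q27480 L793135 q26246, e3 q27481 L793141 q26247, e3 q27482 L793151 q26504, e3 q27483 (flp_g L805411) q28651, e3 q27484 (flp_g L805417) q28652, e3 q27485 (flp_g L805421) q28653, e3 q27486 (flp_g L805206)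 q28630, e3 q27487 L793193 q26294, e3 q27488 L793201 q26295, e3 q27489 L793209 q26255, e3 q27490 L793215 q26256, e3 q27491 L793219 q26257, e3 q27492 (flp_g L803200) q28441, e3 q27493 (flp_g L805493) q28661, e3 q27494 (flp_g L805499) q28662, e3 q27495 (flp_g L805509) q28664, e3 q27496 L793251 q26723, e3 q27497 L793261 q26260, e3 q27498 (flp_g L805547) q28669, e3 q27499 (flp_g L799722) q28151, e3 q27500 L793287 q26717, e3 q27501 L793297 q26264, e3 q27502 (flp_g L805586) q28673, e3 q27503 (flp_g L799706) q28150, e3 q27504 L793321 q26712, e3 q27505 (flp_g L801273) q28264, e3 q27506 (flp_g L801289) q28265, e3 q27507 L793352 q26272, e3 q27508 L793358 q26273, e3 q27509 L793367 q26274, e3 q27510 L793375 q26275, e3 q27511 (flp_g L797467) q27985, e3 q27512 (flp_g L805633) q28678, e3 q27513 (flp_g L805641) q28679, e3 q27514 (flp_g L805656) q28681, e3 q27515 (flp_g L805664) q28682, e3 q27516 (flp_g L805670) q28683, e3 q27517 (flp_g L797452) q27984, e3 q27518 L793425 q26739, e3 q27519 L793435 q26671, trivial⟩ (by decide +kernel)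

theorem ce_g_430 : ∀ r, r < 64 → sm gg (Qf (27520 + r)) = Qf (tab Gen.g (27520 + r)) :=
  edges_tab (sm gg) Qf (tab Gen.g) 27520 [(27520, 26432), (27521, 26711), (27522, 26465), (27523, 27983), (27524, 27958), (27525, 28648), (27526, 28649), (27527, 28317), (27528, 26288), (27529, 26289), (27530, 27988), (27531, 28702), (27532, 28610), (27533, 27987), (27534, 28620), (27535, 27986), (27536, 28658), (27537, 28659), (27538, 28660), (27539, 26299), (27540, 26300), (27541, 26301), (27542, 28710), (27543, 26515), (27544, 28711), (27545, 28712), (27546, 28318), (27547, 26305), (27548, 26429), (27549, 28718), (27550, 26315), (27551, 26310), (27552, 26311), (27553, 26312), (27554, 28720), (27555, 28721), (27556, 28557), (27557, 28722), (27558, 28621), (27559, 26320), (27560, 26412), (27561, 26407), (27562, 26507), (27563, 26325), (27564, 26335), (27565, 26327), (27566, 28546), (27567, 26380), (27568, 26459), (27569, 27959), (27570, 27929), (27571, 27939), (27572, 28205), (27573, 26344), (27574, 27931), (27575, 28209), (27576, 28210),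 (27577, 26534), (27578, 26642), (27579, 26643), (27580, 26363), (27581, 26353), (27582, 26354), (27583, 28736)]
    ⟨e3 q27520 L793445 q26432, e3 q27521 L793459 q26711, e3 q27522 L793467 q26465, e3 q27523 (flp_g L797440) q27983, e3 q27524 (flp_g L797087) q27958, e3 q27525 (flp_g L805379) q28648, e3 q27526 (flp_g L805391) q28649, e3 q27527 (flp_g L801920) q28317, e3 q27528 L793523 q26288, e3 q27529 L793529 q26289, e3 q27530 (flp_g L797507) q27988, e3 q27531 (flp_g L805832) q28702, e3 q27532 (flp_g L804982) q28610, e3 q27533 (flp_g L797489) q27987, e3 q27534 (flp_g L805094) q28620, e3 q27535 (flp_g L797477) q27986, e3 q27536 (flp_g L805467) q28658, e3 q27537 (flp_g L805475) q28659, e3 q27538 (flp_g L805483) q28660, e3 q27539 L793609 q26299, e3 q27540 L793617 q26300, e3 q27541 L793627 q26301, e3 q27542 (flp_g L805908) q28710, e3 q27543 L793635 q26515, e3 q27544 (flp_g L805920) q28711, e3 q27545 (flp_g L805928) q28712, e3 q27546 (flp_g L801938) q28318, e3 q27547 L793659 q26305, e3 q27548 L793673 q26429, e3 q27549 (flp_g L805964)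 q28718, e3 q27550 L793688 q26315, e3 q27551 L793700 q26310, e3 q27552 L793710 q26311, e3 q27553 L793716 q26312, e3 q27554 (flp_g L805984) q28720, e3 q27555 (flp_g L805990) q28721, e3 q27556 (flp_g L804468) q28557, e3 q27557 (flp_g L806000) q28722, e3 q27558 (flp_g L805105) q28621, e3 q27559 L793771 q26320, e3 q27560 L793779 q26412, e3 q27561 L793791 q26407, e3 q27562 L793799 q26507, e3 q27563 L793807 q26325, e3 q27564 L793831 q26335, e3 q27565 L793836 q26327, e3 q27566 (flp_g L804358) q28546, e3 q27567 L793859 q26380, e3 q27568 L793865 q26459, e3 q27569 (flp_g L797103) q27959, e3 q27570 (flp_g L796619) q27929, e3 q27571 (flp_g L796785) q27939, e3 q27572 (flp_g L800443) q28205, e3 q27573 L793932 q26344, e3 q27574 (flp_g L796655) q27931, e3 q27575 (flp_g L800505) q28209, e3 q27576 (flp_g L800521) q28210, e3 q27577 L793982 q26534, e3 q27578 L793992 q26642, e3 q27579 L794006 q26643, e3 q27580 L794022 q26363, e3 q27581 L794034 q26353, e3 q27582 L794046 q26354, e3 q27583 (flp_g L806152) q28736, trivial⟩ (by decide +kernel)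

theorem ce_g_431 : ∀ r, r < 64 → sm gg (Qf (27584 + r)) = Qf (tab Gen.g (27584 + r)) :=
  edges_tab (sm gg) Qf (tab Gen.g) 27584 [(27584, 28737), (27585, 26357), (27586, 27962), (27587, 27963), (27588, 27968), (27589, 28061), (27590, 26450), (27591, 28014), (27592, 28015), (27593, 28032), (27594, 28227), (27595, 28063), (27596, 28064), (27597, 28065), (27598, 28066), (27599, 26384), (27600, 26385), (27601, 26392), (27602, 26393), (27603, 28729), (27604, 28270), (27605, 28271), (27606, 26397), (27607, 28747), (27608, 28748), (27609, 28545), (27610, 28262), (27611, 28263), (27612, 26740), (27613, 26738), (27614, 28763), (27615, 28266), (27616, 28267), (27617, 28749), (27618, 28750), (27619, 28768), (27620, 26394), (27621, 28272), (27622, 26709), (27623, 26710), (27624, 26733), (27625, 26746), (27626, 26745), (27627, 26728), (27628, 26701), (27629, 26702), (27630, 26713), (27631, 26714), (27632, 28727), (27633, 28432), (27634, 28433), (27635, 28072), (27636, 28726), (27637, 26414), (27638, 26741), (27639, 28096), (27640, 28097),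 (27641, 28099), (27642, 28100), (27643, 28101), (27644, 28106), (27645, 28107), (27646, 26435), (27647, 26436)]
    ⟨e3 q27584 (flp_g L806164) q28737, e3 q27585 L794076 q26357, e3 q27586 (flp_g L797147) q27962, e3 q27587 (flp_g L797159) q27963, e3 q27588 (flp_g L797221) q27968, e3 q27589 (flp_g L798538) q28061, e3 q27590 L794142 q26450, e3 q27591 (flp_g L797869) q28014, e3 q27592 (flp_g L797883) q28015, e3 q27593 (flp_g L798111) q28032, e3 q27594 (flp_g L800765) q28227, e3 q27595 (flp_g L798566) q28063, e3 q27596 (flp_g L798582) q28064, e3 q27597 (flp_g L798600) q28065, e3 q27598 (flp_g L798614) q28066, e3 q27599 L794218 q26384, e3 q27600 L794230 q26385, e3 q27601 L794242 q26392, e3 q27602 L794254 q26393, e3 q27603 (flp_g L806066) q28729, e3 q27604 (flp_g L801356) q28270, e3 q27605 (flp_g L801370) q28271, e3 q27606 L794288 q26397, e3 q27607 (flp_g L806253) q28747, e3 q27608 (flp_g L806267) q28748, e3 q27609 (flp_g L804341) q28545, e3 q27610 (flp_g L801242) q28262, e3 q27611 (flp_g L801258) q28263, e3 q27612 L794339 q26740,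 e3 q27613 L794351 q26738, e3 q27614 L806408 q28763, e3 q27615 (flp_g L801302) q28266, e3 q27616 (flp_g L801316) q28267, e3 q27617 (flp_g L806277) q28749, e3 q27618 (flp_g L806289) q28750, e3 q27619 L806458 q28768, e3 q27620 (flp_g L794417) q26394, e3 q27621 (flp_g L801384) q28272, e3 q27622 L794441 q26709, e3 q27623 L794451 q26710, e3 q27624 L794463 q26733, e3 q27625 L794469 q26746, e3 q27626 L794477 q26745, e3 q27627 L794485 q26728, e3 q27628 L794493 q26701, e3 q27629 L794503 q26702, e3 q27630 L794511 q26713, e3 q27631 L794521 q26714, e3 q27632 (flp_g L806050) q28727, e3 q27633 (flp_g L803090) q28432, e3 q27634 (flp_g L803104) q28433, e3 q27635 (flp_g L798704) q28072, e3 q27636 (flp_g L806038) q28726, e3 q27637 (flp_g L794561) q26414, e3 q27638 L794574 q26741, e3 q27639 (flp_g L799049) q28096, e3 q27640 (flp_g L799059) q28097, e3 q27641 (flp_g L799075) q28099, e3 q27642 (flp_g L799085) q28100, e3 q27643 (flp_g L799097) q28101, e3 q27644 (flp_g L799149) q28106, e3 q27645 (flp_g L799159) q28107, e3 q27646 L794646 q26435, e3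 q27647 L794654 q26436, trivial⟩ (by decide +kernel)

theorem ce_g_432 : ∀ r, r < 64 → sm gg (Qf (27648 + r)) = Qf (tab Gen.g (27648 + r)) :=
  edges_tab (sm gg) Qf (tab Gen.g) 27648 [(27648, 26437), (27649, 26438), (27650, 28717), (27651, 26439), (27652, 28083), (27653, 28084), (27654, 28694), (27655, 28406), (27656, 27970), (27657, 27971), (27658, 28789), (27659, 28790), (27660, 28792), (27661, 28793), (27662, 28131), (27663, 28132), (27664, 26722), (27665, 28133), (27666, 28134), (27667, 28162), (27668, 28136), (27669, 28137), (27670, 28138), (27671, 28139), (27672, 28140), (27673, 28741), (27674, 28143), (27675, 26454), (27676, 28324), (27677, 28325), (27678, 28730), (27679, 26477), (27680, 26478), (27681, 28728), (27682, 28332), (27683, 28333), (27684, 28334), (27685, 28314), (27686, 28315), (27687, 28695), (27688, 28410), (27689, 28320), (27690, 28152), (27691, 28321), (27692, 28322), (27693, 27972), (27694, 27973), (27695, 28836), (27696, 28000), (27697, 28001), (27698, 28839), (27699, 26474), (27700, 28327), (27701,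 28328), (27702, 28820), (27703, 28842), (27704, 26479), (27705, 26680), (27706, 26681), (27707, 28178), (27708, 28643), (27709, 28141), (27710, 28180), (27711, 28181)]
    ⟨e3 q27648 L794663 q26437, e3 q27649 L794671 q26438, e3 q27650 (flp_g L805958) q28717, e3 q27651 L794687 q26439, e3 q27652 (flp_g L798875) q28083, e3 q27653 (flp_g L798891) q28084, e3 q27654 (flp_g L805752) q28694, e3 q27655 (flp_g L802856) q28406, e3 q27656 (flp_g L797253) q27970, e3 q27657 (flp_g L797269) q27971, e3 q27658 (flp_g L806652) q28789, e3 q27659 (flp_g L806660) q28790, e3 q27660 (flp_g L806673) q28792, e3 q27661 (flp_g L806681) q28793, e3 q27662 (flp_g L799453) q28131, e3 q27663 (flp_g L799469) q28132, e3 q27664 L794807 q26722, e3 q27665 (flp_g L799487) q28133, e3 q27666 (flp_g L799499) q28134, e3 q27667 (flp_g L799857) q28162, e3 q27668 (flp_g L799529) q28136, e3 q27669 (flp_g L799545) q28137, e3 q27670 (flp_g L799557) q28138, e3 q27671 (flp_g L799565) q28139, e3 q27672 (flp_g L799571) q28140, e3 q27673 (flp_g L806210) q28741, e3 q27674 (flp_g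 L799612) q28143, e3 q27675 L794888 q26454, e3 q27676 (flp_g L801997) q28324, e3 q27677 (flp_g L802005) q28325, e3 q27678 (flp_g L806072) q28730, e3 q27679 L794915 q26477, e3 q27680 L794921 q26478, e3 q27681 (flp_g L806056) q28728, e3 q27682 (flp_g L802068) q28332, e3 q27683 (flp_g L802080) q28333, e3 q27684 (flp_g L802088) q28334, e3 q27685 (flp_g L801896) q28314, e3 q27686 (flp_g L801906) q28315, e3 q27687 (flp_g L805764) q28695, e3 q27688 (flp_g L802894) q28410, e3 q27689 (flp_g L801960) q28320, e3 q27690 (flp_g L799732) q28152, e3 q27691 (flp_g L801974) q28321, e3 q27692 (flp_g L801982) q28322, e3 q27693 (flp_g L797284) q27972, e3 q27694 (flp_g L797298) q27973, e3 q27695 L807021 q28836, e3 q27696 (flp_g L797675) q28000, e3 q27697 (flp_g L797689) q28001, e3 q27698 L807043 q28839, e3 q27699 (flp_g L795067) q26474, e3 q27700 (flp_g L802020) q28327, e3 q27701 (flp_g L802028) q28328, e3 q27702 (flp_g L806897) q28820, e3 q27703 L807063 q28842, e3 q27704 (flp_g L795103) q26479, e3 q27705 L795113 q26680, e3 q27706 L795125 q26681,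 e3 q27707 (flp_g L800073) q28178, e3 q27708 (flp_g L805330) q28643, e3 q27709 L799588 q28141, e3 q27710 (flp_g L800099) q28180, e3 q27711 (flp_g L800115) q28181, trivial⟩ (by decide +kernel)

theorem ce_g_433 : ∀ r, r < 64 → sm gg (Qf (27712 + r)) = Qf (tab Gen.g (27712 + r)) :=
  edges_tab (sm gg) Qf (tab Gen.g) 27712 [(27712, 28182), (27713, 28183), (27714, 26492), (27715, 28851), (27716, 28144), (27717, 28185), (27718, 26500), (27719, 26501), (27720, 28631), (27721, 28629), (27722, 28853), (27723, 28854), (27724, 28855), (27725, 28187), (27726, 28188), (27727, 28654), (27728, 28189), (27729, 28715), (27730, 28310), (27731, 28202), (27732, 26512), (27733, 26513), (27734, 28866), (27735, 28713), (27736, 28313), (27737, 26519), (27738, 28211), (27739, 28253), (27740, 28214), (27741, 28215), (27742, 28295), (27743, 26618), (27744, 26619), (27745, 28231), (27746, 28232), (27747, 28305), (27748, 28234), (27749, 28235), (27750, 28298), (27751, 26607), (27752, 26608), (27753, 28257), (27754, 28258), (27755, 28287), (27756, 26621),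 (27757, 26622), (27758, 28488), (27759, 28245), (27760, 28246), (27761, 28514), (27762, 28259), (27763, 28260), (27764, 28286), (27765, 28247), (27766, 28893), (27767, 26548), (27768, 28277), (27769, 28278), (27770, 28281), (27771, 28282), (27772, 26558), (27773, 28300), (27774, 28358), (27775, 28347)]
    ⟨e3 q27712 (flp_g L800135) q28182, e3 q27713 (flp_g L800147) q28183, e3 q27714 L795181 q26492, e3 q27715 (flp_g L807140) q28851, e3 q27716 L799626 q28144, e3 q27717 (flp_g L800181) q28185, e3 q27718 L795213 q26500, e3 q27719 L795223 q26501, e3 q27720 (flp_g L805230) q28631, e3 q27721 L805196 q28629, e3 q27722 (flp_g L807158) q28853, e3 q27723 (flp_g L807168) q28854, e3 q27724 (flp_g L807176) q28855, e3 q27725 (flp_g L800203) q28187, e3 q27726 (flp_g L800215) q28188, e3 q27727 (flp_g L805435) q28654, e3 q27728 (flp_g L800231) q28189, e3 q27729 (flp_g L805946) q28715, e3 q27730 (flp_g L801852) q28310, e3 q27731 (flp_g L800393) q28202, e3 q27732 L795298 q26512, e3 q27733 L795304 q26513, e3 q27734 (flp_g L807242) q28866, e3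 q27735 (flp_g L805934) q28713, e3 q27736 (flp_g L801884) q28313, e3 q27737 (flp_g L795320) q26519, e3 q27738 (flp_g L800539) q28211, e3 q27739 (flp_g L801118) q28253, e3 q27740 (flp_g L800585) q28214, e3 q27741 (flp_g L800599) q28215, e3 q27742 (flp_g L801678) q28295, e3 q27743 L795380 q26618, e3 q27744 L795388 q26619, e3 q27745 (flp_g L800823) q28231, e3 q27746 (flp_g L800837) q28232, e3 q27747 (flp_g L801784) q28305, e3 q27748 (flp_g L800866) q28234, e3 q27749 (flp_g L800874) q28235, e3 q27750 (flp_g L801700) q28298, e3 q27751 L795436 q26607, e3 q27752 L795444 q26608, e3 q27753 (flp_g L801174) q28257, e3 q27754 (flp_g L801188) q28258, e3 q27755 (flp_g L801575) q28287, e3 q27756 L795474 q26621, e3 q27757 L795482 q26622, e3 q27758 (flp_g L803745) q28488, e3 q27759 (flp_g L801010) q28245, e3 q27760 (flp_g L801024) q28246, e3 q27761 (flp_g L804031) q28514, e3 q27762 (flp_g L801204) q28259, e3 q27763 (flp_g L801214) q28260, e3 q27764 (flp_g L801555) q28286, e3 q27765 (flp_g L801040) q28247, e3 q27766 L807426 q28893, e3 q27767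 (flp_g L795538) q26548, e3 q27768 (flp_g L801450) q28277, e3 q27769 (flp_g L801462) q28278, e3 q27770 (flp_g L801505) q28281, e3 q27771 (flp_g L801515) q28282, e3 q27772 L795578 q26558, e3 q27773 (flp_g L801734) q28300, e3 q27774 (flp_g L802355) q28358, e3 q27775 (flp_g L802251) q28347, trivial⟩ (by decide +kernel)

theorem ce_g_434 : ∀ r, r < 64 → sm gg (Qf (27776 + r)) = Qf (tab Gen.g (27776 + r)) :=
  edges_tab (sm gg) Qf (tab Gen.g) 27776 [(27776, 28348), (27777, 28350), (27778, 28351), (27779, 28353), (27780, 28354), (27781, 28355), (27782, 28359), (27783, 28297), (27784, 26578), (27785, 26579), (27786, 27941), (27787, 27942), (27788, 28216), (27789, 28217), (27790, 28906), (27791, 28382), (27792, 27947), (27793, 28389), (27794, 28390), (27795, 28228), (27796, 28395), (27797, 28252), (27798, 28404), (27799, 28405), (27800, 28409), (27801, 26593), (27802, 27940), (27803, 28913), (27804, 26596), (27805, 28225), (27806, 28226), (27807, 26602), (27808, 26605), (27809, 28878), (27810, 28879), (27811, 26623), (27812, 26612),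 (27813, 26613), (27814, 28919), (27815, 28920), (27816, 28921), (27817, 28373), (27818, 28374), (27819, 28472), (27820, 28869), (27821, 28870), (27822, 28462), (27823, 28885), (27824, 28886), (27825, 26625), (27826, 28059), (27827, 28060), (27828, 26640), (27829, 28067), (27830, 28068), (27831, 28466), (27832, 28467), (27833, 28468), (27834, 28469), (27835, 28476), (27836, 28477), (27837, 26646), (27838, 28733), (27839, 28734)]
    ⟨e3 q27776 (flp_g L802265) q28348, e3 q27777 (flp_g L802291) q28350, e3 q27778 (flp_g L802301) q28351, e3 q27779 (flp_g L802316) q28353, e3 q27780 (flp_g L802324) q28354, e3 q27781 (flp_g L802330) q28355, e3 q27782 (flp_g L802363) q28359, e3 q27783 (flp_g L801692) q28297, e3 q27784 L795651 q26578, e3 q27785 L795657 q26579, e3 q27786 (flp_g L796823) q27941, e3 q27787 (flp_g L796839) q27942, e3 q27788 (flp_g L800617) q28216, e3 q27789 (flp_g L800631) q28217, e3 q27790 (flp_g L807518) q28906, e3 q27791 (flp_g L802603) q28382, e3 q27792 (flp_g L796917) q27947, e3 q27793 (flp_g L802690) q28389, e3 q27794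 (flp_g L802702) q28390, e3 q27795 (flp_g L800779) q28228, e3 q27796 (flp_g L802770) q28395, e3 q27797 (flp_g L801102) q28252, e3 q27798 (flp_g L802840) q28404, e3 q27799 (flp_g L802848) q28405, e3 q27800 (flp_g L802886) q28409, e3 q27801 L795755 q26593, e3 q27802 (flp_g L796805) q27940, e3 q27803 L807562 q28913, e3 q27804 (flp_g L795769) q26596, e3 q27805 (flp_g L800737) q28225, e3 q27806 (flp_g L800751) q28226, e3 q27807 L795789 q26602, e3 q27808 L795797 q26605, e3 q27809 (flp_g L807326) q28878, e3 q27810 (flp_g L807334) q28879, e3 q27811 L795815 q26623, e3 q27812 L795821 q26612, e3 q27813 L795831 q26613, e3 q27814 (flp_g L807601) q28919, e3 q27815 (flp_g L807611) q28920, e3 q27816 (flp_g L807617) q28921, e3 q27817 (flp_g L802507) q28373, e3 q27818 (flp_g L802521) q28374, e3 q27819 (flp_g L803553) q28472, e3 q27820 (flp_g L807260) q28869, e3 q27821 (flp_g L807270) q28870, e3 q27822 (flp_g L803442) q28462, e3 q27823 (flp_g L807380) q28885, e3 q27824 (flp_g L807388) q28886, e3 q27825 L795912 q26625, e3 q27826 (flp_g L798504)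 q28059, e3 q27827 (flp_g L798520) q28060, e3 q27828 L795940 q26640, e3 q27829 (flp_g L798632) q28067, e3 q27830 (flp_g L798646) q28068, e3 q27831 (flp_g L803484) q28466, e3 q27832 (flp_g L803494) q28467, e3 q27833 (flp_g L803506) q28468, e3 q27834 (flp_g L803519) q28469, e3 q27835 (flp_g L803602) q28476, e3 q27836 (flp_g L803616) q28477, e3 q27837 L795995 q26646, e3 q27838 (flp_g L806111) q28733, e3 q27839 (flp_g L806125) q28734, trivial⟩ (by decide +kernel)

theorem ce_g_435 : ∀ r, r < 64 → sm gg (Qf (27840 + r)) = Qf (tab Gen.g (27840 + r)) :=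
  edges_tab (sm gg) Qf (tab Gen.g) 27840 [(27840, 28735), (27841, 28647), (27842, 28142), (27843, 28518), (27844, 28524), (27845, 28542), (27846, 28543), (27847, 28548), (27848, 28203), (27849, 28552), (27850, 28553), (27851, 28554), (27852, 28560), (27853, 28130), (27854, 28561), (27855, 28176), (27856, 28570), (27857, 28103), (27858, 28104), (27859, 26673), (27860, 28110), (27861, 28111), (27862, 28112), (27863, 28693), (27864, 28638), (27865, 28184), (27866, 28145), (27867, 28146), (27868, 28534), (27869, 28535), (27870, 28597), (27871, 28843), (27872, 28844), (27873, 28031), (27874, 26686), (27875, 26687), (27876, 26688), (27877, 26689), (27878, 28020), (27879, 28961), (27880, 28962), (27881, 28964), (27882, 28965), (27883, 28966), (27884, 28600), (27885, 28085), (27886, 28086), (27887, 26697), (27888, 26698), (27889, 28974), (27890, 28093), (27891, 28775), (27892, 28776), (27893, 28777), (27894, 26706), (27895, 26707), (27896, 26708), (27897, 28977), (27898, 28978), (27899, 28883), (27900, 28769), (27901, 28770), (27902,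 28771), (27903, 28778)]
    ⟨e3 q27840 (flp_g L806139) q28735, e3 q27841 (flp_g L805365) q28647, e3 q27842 (flp_g L799600) q28142, e3 q27843 (flp_g L804071) q28518, e3 q27844 (flp_g L804134) q28524, e3 q27845 (flp_g L804303) q28542, e3 q27846 (flp_g L804317) q28543, e3 q27847 (flp_g L804381) q28548, e3 q27848 (flp_g L800405) q28203, e3 q27849 (flp_g L804424) q28552, e3 q27850 (flp_g L804432) q28553, e3 q27851 (flp_g L804436) q28554, e3 q27852 (flp_g L804502) q28560, e3 q27853 (flp_g L799437) q28130, e3 q27854 (flp_g L804514) q28561, e3 q27855 (flp_g L800041) q28176, e3 q27856 (flp_g L804577) q28570, e3 q27857 (flp_g L799120) q28103, e3 q27858 (flp_g L799130) q28104, e3 q27859 L796124 q26673, e3 q27860 (flp_g L799189) q28110, e3 q27861 (flp_g L799201) q28111, e3 q27862 (flp_g L799209) q28112, e3 q27863 (flp_g L805742) q28693, e3 q27864 (flp_g L805276) q28638, e3 q27865 (flp_g L800165) q28184, e3 q27866 (flp_g L799634) q28145, e3 q27867 (flp_g L799650) q28146, e3 q27868 (flp_g L804232) q28534, e3 q27869 (flp_g L804246) q28535,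 e3 q27870 (flp_g L804832) q28597, e3 q27871 (flp_g L807075) q28843, e3 q27872 (flp_g L807087) q28844, e3 q27873 (flp_g L798103) q28031, e3 q27874 L796221 q26686, e3 q27875 L796229 q26687, e3 q27876 L796238 q26688, e3 q27877 L796246 q26689, e3 q27878 (flp_g L797963) q28020, e3 q27879 (flp_g L807882) q28961, e3 q27880 (flp_g L807892) q28962, e3 q27881 (flp_g L807907) q28964, e3 q27882 (flp_g L807915) q28965, e3 q27883 (flp_g L807921) q28966, e3 q27884 (flp_g L804868) q28600, e3 q27885 (flp_g L798904) q28085, e3 q27886 (flp_g L798916) q28086, e3 q27887 L796314 q26697, e3 q27888 L796322 q26698, e3 q27889 (flp_g L807977) q28974, e3 q27890 (flp_g L799005) q28093, e3 q27891 (flp_g L806522) q28775, e3 q27892 (flp_g L806532) q28776, e3 q27893 (flp_g L806540) q28777, e3 q27894 L796357 q26706, e3 q27895 L796363 q26707, e3 q27896 L796367 q26708, e3 q27897 (flp_g L807995) q28977, e3 q27898 (flp_g L808001) q28978, e3 q27899 (flp_g L807361) q28883, e3 q27900 (flp_g L806470) q28769, e3 q27901 (flp_g L806480) q28770, e3 q27902 (flp_g L806486)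 q28771, e3 q27903 (flp_g L806553) q28778, trivial⟩ (by decide +kernel)

theorem ce_g_436 : ∀ r, r < 64 → sm gg (Qf (27904 + r)) = Qf (tab Gen.g (27904 + r)) :=
  edges_tab (sm gg) Qf (tab Gen.g) 27904 [(27904, 28985), (27905, 26715), (27906, 28986), (27907, 26718), (27908, 26747), (27909, 28808), (27910, 26726), (27911, 26727), (27912, 28987), (27913, 28774), (27914, 28772), (27915, 26734), (27916, 26735), (27917, 28098), (27918, 26736), (27919, 26737), (27920, 28991), (27921, 28992), (27922, 28993), (27923, 28761), (27924, 28760), (27925, 26744), (27926, 28773), (27927, 27102), (27928, 27103), (27929, 27570), (27930, 27168), (27931, 27574), (27932, 27115), (27933, 26767), (27934, 27121), (27935, 27122), (27936, 27123), (27937, 27125), (27938, 27126), (27939, 27571), (27940, 27802), (27941, 27786), (27942, 27787), (27943, 27107), (27944, 26772), (27945, 26773), (27946, 29006), (27947, 27792), (27948, 27282), (27949, 27068), (27950, 26867), (27951, 27210), (27952, 27211), (27953, 26879), (27954, 26815), (27955, 26816), (27956,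 26849), (27957, 29019), (27958, 27524), (27959, 27569), (27960, 27302), (27961, 27303), (27962, 27586), (27963, 27587), (27964, 29029), (27965, 26787), (27966, 27308), (27967, 27309)]
    ⟨e3 q27904 L808046 q28985, e3 q27905 (flp_g L796429) q26715, e3 q27906 L808056 q28986, e3 q27907 (flp_g L796447) q26718, e3 q27908 L796457 q26747, e3 q27909 (flp_g L806817) q28808, e3 q27910 L796471 q26726, e3 q27911 L796479 q26727, e3 q27912 (flp_g L808070) q28987, e3 q27913 (flp_g L806514) q28774, e3 q27914 (flp_g L806496) q28772, e3 q27915 L796501 q26734, e3 q27916 L796509 q26735, e3 q27917 (flp_g L799071) q28098, e3 q27918 L796521 q26736, e3 q27919 L796529 q26737, e3 q27920 (flp_g L808092) q28991, e3 q27921 (flp_g L808100) q28992, e3 q27922 (flp_g L808108) q28993, e3 q27923 (flp_g L806388) q28761, e3 q27924 (flp_g L806376) q28760, e3 q27925 L796569 q26744, e3 q27926 (flp_g L806504) q28773, e3 q27927 L796583 q27102, e3 q27928 L796599 q27103, e3 q27929 L796619 q27570, e3 q27930 L796637 q27168, e3 q27931 L796655 q27574, e3 q27932 L796673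 q27115, e3 q27933 L796691 q26767, e3 q27934 L796707 q27121, e3 q27935 L796719 q27122, e3 q27936 L796733 q27123, e3 q27937 L796753 q27125, e3 q27938 L796770 q27126, e3 q27939 L796785 q27571, e3 q27940 L796805 q27802, e3 q27941 L796823 q27786, e3 q27942 L796839 q27787, e3 q27943 L796857 q27107, e3 q27944 L796875 q26772, e3 q27945 L796889 q26773, e3 q27946 (flp_g L808314) q29006, e3 q27947 L796917 q27792, e3 q27948 L796933 q27282, e3 q27949 L796947 q27068, e3 q27950 L796967 q26867, e3 q27951 L796979 q27210, e3 q27952 L796995 q27211, e3 q27953 L797012 q26879, e3 q27954 L797028 q26815, e3 q27955 L797044 q26816, e3 q27956 L797062 q26849, e3 q27957 L808516 q29019, e3 q27958 L797087 q27524, e3 q27959 L797103 q27569, e3 q27960 L797118 q27302, e3 q27961 L797134 q27303, e3 q27962 L797147 q27586, e3 q27963 L797159 q27587, e3 q27964 L808658 q29029, e3 q27965 (flp_g L797177) q26787, e3 q27966 L797193 q27308, e3 q27967 L797207 q27309, trivial⟩ (by decide +kernel)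

theorem ce_g_437 : ∀ r, r < 64 → sm gg (Qf (27968 + r)) = Qf (tab Gen.g (27968 + r)) :=
  edges_tab (sm gg) Qf (tab Gen.g) 27968 [(27968, 27588), (27969, 26799), (27970, 27656), (27971, 27657), (27972, 27693), (27973, 27694), (27974, 29040), (27975, 26795), (27976, 26797), (27977, 26798), (27978, 29041), (27979, 29042), (27980, 29033), (27981, 26933), (27982, 26934), (27983, 27523), (27984, 27517), (27985, 27511), (27986, 27535), (27987, 27533), (27988, 27530), (27989, 27319), (27990, 27320), (27991, 27321), (27992, 26812), (27993, 26964), (27994, 29059), (27995, 27325), (27996, 26825), (27997, 29014), (27998, 29015), (27999, 29066), (28000, 27696), (28001, 27697), (28002, 29069), (28003, 26819), (28004, 26823), (28005, 26824), (28006, 26986), (28007, 29070), (28008, 29071), (28009, 29072), (28010, 26931), (28011, 26932), (28012, 26975), (28013, 26976), (28014, 27591), (28015, 27592), (28016, 27349), (28017, 27350), (28018, 27351), (28019, 27352), (28020, 27878), (28021, 26935), (28022, 26936), (28023, 29091), (28024, 26978),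 (28025, 26979), (28026, 29094), (28027, 26838), (28028, 27355), (28029, 27356), (28030, 27357), (28031, 27873)]
    ⟨e3 q27968 L797221 q27588, e3 q27969 L797237 q26799, e3 q27970 L797253 q27656, e3 q27971 L797269 q27657, e3 q27972 L797284 q27693, e3 q27973 L797298 q27694, e3 q27974 L808816 q29040, e3 q27975 (flp_g L797320) q26795, e3 q27976 L797343 q26797, e3 q27977 L797359 q26798, e3 q27978 (flp_g L808838) q29041, e3 q27979 (flp_g L808854) q29042, e3 q27980 (flp_g L808717) q29033, e3 q27981 L797411 q26933, e3 q27982 L797427 q26934, e3 q27983 L797440 q27523, e3 q27984 L797452 q27517, e3 q27985 L797467 q27511, e3 q27986 L797477 q27535, e3 q27987 L797489 q27533, e3 q27988 L797507 q27530, e3 q27989 L797517 q27319, e3 q27990 L797529 q27320, e3 q27991 L797541 q27321, e3 q27992 L797557 q26812, e3 q27993 L797580 q26964, e3 q27994 (flp_g L809086) q29059, e3 q27995 L797606 q27325, e3 q27996 L797619 q26825, e3 q27997 (flp_g L808444) q29014, e3 q27998 (flp_g L808460) q29015, e3 q27999 L809186 q29066, e3 q28000 L797675 q27696, e3 q28001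 L797689 q27697, e3 q28002 L809230 q29069, e3 q28003 (flp_g L797709) q26819, e3 q28004 L797727 q26823, e3 q28005 L797741 q26824, e3 q28006 L797761 q26986, e3 q28007 (flp_g L809250) q29070, e3 q28008 (flp_g L809264) q29071, e3 q28009 (flp_g L809274) q29072, e3 q28010 L797803 q26931, e3 q28011 L797819 q26932, e3 q28012 L797837 q26975, e3 q28013 L797851 q26976, e3 q28014 L797869 q27591, e3 q28015 L797883 q27592, e3 q28016 L797899 q27349, e3 q28017 L797915 q27350, e3 q28018 L797930 q27351, e3 q28019 L797944 q27352, e3 q28020 L797963 q27878, e3 q28021 L797969 q26935, e3 q28022 L797981 q26936, e3 q28023 L809546 q29091, e3 q28024 L798005 q26978, e3 q28025 L798017 q26979, e3 q28026 L809590 q29094, e3 q28027 (flp_g L798037) q26838, e3 q28028 L798061 q27355, e3 q28029 L798073 q27356, e3 q28030 L798081 q27357, e3 q28031 L798103 q27873, trivial⟩ (by decide +kernel)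

theorem ce_g_438 : ∀ r, r < 64 → sm gg (Qf (28032 + r)) = Qf (tab Gen.g (28032 + r)) :=
  edges_tab (sm gg) Qf (tab Gen.g) 28032 [(28032, 27593), (28033, 29100), (28034, 26844), (28035, 27358), (28036, 27359), (28037, 27360), (28038, 29017), (28039, 26850), (28040, 26854), (28041, 27364), (28042, 27365), (28043, 26860), (28044, 27256), (28045, 27280), (28046, 26866), (28047, 27197), (28048, 27198), (28049, 26868), (28050, 29106), (28051, 29010), (28052, 29109), (28053, 27260), (28054, 27261), (28055, 27269), (28056, 27270), (28057, 27252), (28058, 27253), (28059, 27826), (28060, 27827), (28061, 27589), (28062, 29013), (28063, 27595), (28064, 27596), (28065, 27597), (28066, 27598), (28067, 27829), (28068, 27830), (28069, 27212), (28070, 27213), (28071, 26890), (28072, 27635), (28073, 27187), (28074, 27188), (28075, 26897), (28076, 26898), (28077, 29130), (28078, 27389), (28079, 27390), (28080, 29018), (28081, 27381), (28082, 27382), (28083, 27652), (28084, 27653), (28085, 27885), (28086, 27886), (28087, 29143), (28088, 26905),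 (28089, 26907), (28090, 26908), (28091, 29144), (28092, 29145), (28093, 27890), (28094, 27427), (28095, 26937)]
    ⟨e3 q28032 L798111 q27593, e3 q28033 L809670 q29100, e3 q28034 (flp_g L798123) q26844, e3 q28035 L798147 q27358, e3 q28036 L798157 q27359, e3 q28037 L798167 q27360, e3 q28038 (flp_g L808490) q29017, e3 q28039 (flp_g L798187) q26850, e3 q28040 L798210 q26854, e3 q28041 L798226 q27364, e3 q28042 L798239 q27365, e3 q28043 L798254 q26860, e3 q28044 L798267 q27256, e3 q28045 L798287 q27280, e3 q28046 L798301 q26866, e3 q28047 L798317 q27197, e3 q28048 L798333 q27198, e3 q28049 L798348 q26868, e3 q28050 (flp_g L809761) q29106, e3 q28051 (flp_g L808382) q29010, e3 q28052 (flp_g L809809) q29109, e3 q28053 L798408 q27260, e3 q28054 L798424 q27261, e3 q28055 L798442 q27269, e3 q28056 L798454 q27270, e3 q28057 L798470 q27252, e3 q28058 L798486 q27253, e3 q28059 L798504 q27826, e3 q28060 L798520 q27827, e3 q28061 L798538 q27589, e3 q28062 (flp_g L808428) q29013, e3 q28063 L798566 q27595, e3 q28064 L798582 q27596, e3 q28065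 L798600 q27597, e3 q28066 L798614 q27598, e3 q28067 L798632 q27829, e3 q28068 L798646 q27830, e3 q28069 L798662 q27212, e3 q28070 L798674 q27213, e3 q28071 L798688 q26890, e3 q28072 L798704 q27635, e3 q28073 L798720 q27187, e3 q28074 L798736 q27188, e3 q28075 L798756 q26897, e3 q28076 L798770 q26898, e3 q28077 (flp_g L810159) q29130, e3 q28078 L798800 q27389, e3 q28079 L798816 q27390, e3 q28080 (flp_g L808514) q29018, e3 q28081 L798844 q27381, e3 q28082 L798860 q27382, e3 q28083 L798875 q27652, e3 q28084 L798891 q27653, e3 q28085 L798904 q27885, e3 q28086 L798916 q27886, e3 q28087 L810341 q29143, e3 q28088 (flp_g L798934) q26905, e3 q28089 L798952 q26907, e3 q28090 L798968 q26908, e3 q28091 (flp_g L810357) q29144, e3 q28092 (flp_g L810373) q29145, e3 q28093 L799005 q27890, e3 q28094 L799019 q27427, e3 q28095 L799035 q26937, trivial⟩ (by decide +kernel)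

theorem ce_g_439 : ∀ r, r < 64 → sm gg (Qf (28096 + r)) = Qf (tab Gen.g (28096 + r)) :=
  edges_tab (sm gg) Qf (tab Gen.g) 28096 [(28096, 27639), (28097, 27640), (28098, 27917), (28099, 27641), (28100, 27642), (28101, 27643), (28102, 29104), (28103, 27857), (28104, 27858), (28105, 29061), (28106, 27644), (28107, 27645), (28108, 29167), (28109, 26922), (28110, 27860), (28111, 27861), (28112, 27862), (28113, 26928), (28114, 26929), (28115, 29171), (28116, 29172), (28117, 26942), (28118, 29076), (28119, 29077), (28120, 29047), (28121, 29048), (28122, 29088), (28123, 29089), (28124, 29151), (28125, 26940), (28126, 26941), (28127, 29043), (28128, 29184), (28129, 29185), (28130, 27853), (28131, 27662), (28132, 27663), (28133, 27665), (28134, 27666), (28135, 27413), (28136, 27668), (28137, 27669), (28138, 27670), (28139, 27671), (28140, 27672), (28141, 27709), (28142, 27842), (28143, 27674), (28144, 27716), (28145, 27866), (28146, 27867), (28147, 26961), (28148, 26962), (28149, 29205), (28150, 27503), (28151, 27499), (28152, 27690),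 (28153, 27327), (28154, 27130), (28155, 27131), (28156, 26970), (28157, 26971), (28158, 27167), (28159, 29211)]
    ⟨e3 q28096 L799049 q27639, e3 q28097 L799059 q27640, e3 q28098 L799071 q27917, e3 q28099 L799075 q27641, e3 q28100 L799085 q27642, e3 q28101 L799097 q27643, e3 q28102 (flp_g L809729) q29104, e3 q28103 L799120 q27857, e3 q28104 L799130 q27858, e3 q28105 (flp_g L809120) q29061, e3 q28106 L799149 q27644, e3 q28107 L799159 q27645, e3 q28108 L810616 q29167, e3 q28109 (flp_g L799171) q26922, e3 q28110 L799189 q27860, e3 q28111 L799201 q27861, e3 q28112 L799209 q27862, e3 q28113 L799220 q26928, e3 q28114 L799236 q26929, e3 q28115 (flp_g L810661) q29171, e3 q28116 (flp_g L810677) q29172, e3 q28117 L799273 q26942, e3 q28118 (flp_g L809332) q29076, e3 q28119 (flp_g L809348) q29077, e3 q28120 (flp_g L808926) q29047, e3 q28121 (flp_g L808942) q29048, e3 q28122 (flp_g L809514) q29088, e3 q28123 (flp_g L809526) q29089, e3 q28124 (flp_g L810455) q29151, e3 q28125 L799375 q26940, e3 q28126 L799389 q26941, e3 q28127 (flp_g L808878)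 q29043, e3 q28128 (flp_g L810838) q29184, e3 q28129 (flp_g L810852) q29185, e3 q28130 L799437 q27853, e3 q28131 L799453 q27662, e3 q28132 L799469 q27663, e3 q28133 L799487 q27665, e3 q28134 L799499 q27666, e3 q28135 L799513 q27413, e3 q28136 L799529 q27668, e3 q28137 L799545 q27669, e3 q28138 L799557 q27670, e3 q28139 L799565 q27671, e3 q28140 L799571 q27672, e3 q28141 (flp_g L799588) q27709, e3 q28142 L799600 q27842, e3 q28143 L799612 q27674, e3 q28144 (flp_g L799626) q27716, e3 q28145 L799634 q27866, e3 q28146 L799650 q27867, e3 q28147 L799670 q26961, e3 q28148 L799684 q26962, e3 q28149 (flp_g L811149) q29205, e3 q28150 L799706 q27503, e3 q28151 L799722 q27499, e3 q28152 L799732 q27690, e3 q28153 L799748 q27327, e3 q28154 L799760 q27130, e3 q28155 L799776 q27131, e3 q28156 L799793 q26970, e3 q28157 L799805 q26971, e3 q28158 L799822 q27167, e3 q28159 (flp_g L811237) q29211, trivial⟩ (by decide +kernel)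

theorem ce_g_440 : ∀ r, r < 64 → sm gg (Qf (28160 + r)) = Qf (tab Gen.g (28160 + r)) :=
  edges_tab (sm gg) Qf (tab Gen.g) 28160 [(28160, 29212), (28161, 29213), (28162, 27667), (28163, 27287), (28164, 29078), (28165, 29079), (28166, 27019), (28167, 29092), (28168, 29223), (28169, 26980), (28170, 27013), (28171, 27014), (28172, 26987), (28173, 26988), (28174, 29073), (28175, 29226), (28176, 27855), (28177, 27370), (28178, 27707), (28179, 27018), (28180, 27710), (28181, 27711), (28182, 27712), (28183, 27713), (28184, 27865), (28185, 27717), (28186, 27286), (28187, 27725), (28188, 27726), (28189, 27728), (28190, 29238), (28191, 27005), (28192, 27334), (28193, 27009), (28194, 29240), (28195, 27011), (28196, 29224), (28197, 29225), (28198, 27017), (28199, 29231), (28200, 27433), (28201, 29221), (28202, 27731), (28203, 27848), (28204, 27093), (28205, 27572), (28206, 27075), (28207, 27204), (28208, 27205), (28209, 27575), (28210, 27576), (28211, 27738), (28212, 27032), (28213, 29251), (28214, 27740), (28215, 27741), (28216, 27788),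 (28217, 27789), (28218, 27254), (28219, 27255), (28220, 27263), (28221, 27264), (28222, 27266), (28223, 27267)]
    ⟨e3 q28160 (flp_g L811249) q29212, e3 q28161 (flp_g L811257) q29213, e3 q28162 L799857 q27667, e3 q28163 L799873 q27287, e3 q28164 (flp_g L809368) q29078, e3 q28165 (flp_g L809382) q29079, e3 q28166 L799923 q27019, e3 q28167 (flp_g L809570) q29092, e3 q28168 L811381 q29223, e3 q28169 (flp_g L799945) q26980, e3 q28170 L799961 q27013, e3 q28171 L799977 q27014, e3 q28172 L799995 q26987, e3 q28173 L800007 q26988, e3 q28174 (flp_g L809298) q29073, e3 q28175 (flp_g L811435) q29226, e3 q28176 L800041 q27855, e3 q28177 L800055 q27370, e3 q28178 L800073 q27707, e3 q28179 L800085 q27018, e3 q28180 L800099 q27710, e3 q28181 L800115 q27711, e3 q28182 L800135 q27712, e3 q28183 L800147 q27713, e3 q28184 L800165 q27865, e3 q28185 L800181 q27717, e3 q28186 L800195 q27286, e3 q28187 L800203 q27725, e3 q28188 L800215 q27726, e3 q28189 L800231 q27728, e3 q28190 L811617 q29238, e3 q28191 (flp_g L800253) q27005, e3 q28192 L800279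 q27334, e3 q28193 L800299 q27009, e3 q28194 L811655 q29240, e3 q28195 (flp_g L800315) q27011, e3 q28196 (flp_g L811399) q29224, e3 q28197 (flp_g L811415) q29225, e3 q28198 L800355 q27017, e3 q28199 (flp_g L811511) q29231, e3 q28200 L800369 q27433, e3 q28201 (flp_g L811367) q29221, e3 q28202 L800393 q27731, e3 q28203 L800405 q27848, e3 q28204 L800423 q27093, e3 q28205 L800443 q27572, e3 q28206 L800459 q27075, e3 q28207 L800475 q27204, e3 q28208 L800489 q27205, e3 q28209 L800505 q27575, e3 q28210 L800521 q27576, e3 q28211 L800539 q27738, e3 q28212 L800555 q27032, e3 q28213 (flp_g L811835) q29251, e3 q28214 L800585 q27740, e3 q28215 L800599 q27741, e3 q28216 L800617 q27788, e3 q28217 L800631 q27789, e3 q28218 L800647 q27254, e3 q28219 L800663 q27255, e3 q28220 L800678 q27263, e3 q28221 L800694 q27264, e3 q28222 L800707 q27266, e3 q28223 L800717 q27267, trivial⟩ (by decide +kernel)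

theorem ce_g_441 : ∀ r, r < 64 → sm gg (Qf (28224 + r)) = Qf (tab Gen.g (28224 + r)) :=
  edges_tab (sm gg) Qf (tab Gen.g) 28224 [(28224, 27421), (28225, 27805), (28226, 27806), (28227, 27594), (28228, 27795), (28229, 27153), (28230, 27154), (28231, 27745), (28232, 27746), (28233, 27184), (28234, 27748), (28235, 27749), (28236, 27190), (28237, 27056), (28238, 27057), (28239, 29274), (28240, 29275), (28241, 27180), (28242, 27061), (28243, 27191), (28244, 27192), (28245, 27759), (28246, 27760), (28247, 27765), (28248, 29008), (28249, 27071), (28250, 27072), (28251, 29281), (28252, 27797), (28253, 27739), (28254, 29246), (28255, 27183), (28256, 27189), (28257, 27753), (28258, 27754), (28259, 27762), (28260, 27763), (28261, 27246), (28262, 27610), (28263, 27611), (28264, 27505), (28265, 27506), (28266, 27615), (28267, 27616), (28268, 29298), (28269, 27088), (28270, 27604), (28271, 27605), (28272, 27621), (28273, 27179), (28274, 29245), (28275, 27155), (28276, 27156), (28277, 27768), (28278, 27769), (28279, 27214), (28280, 27232),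 (28281, 27770), (28282, 27771), (28283, 27228), (28284, 28996), (28285, 28997), (28286, 27764), (28287, 27755)]
    ⟨e3 q28224 L800731 q27421, e3 q28225 L800737 q27805, e3 q28226 L800751 q27806, e3 q28227 L800765 q27594, e3 q28228 L800779 q27795, e3 q28229 L800791 q27153, e3 q28230 L800807 q27154, e3 q28231 L800823 q27745, e3 q28232 L800837 q27746, e3 q28233 (flp_g L800860) q27184, e3 q28234 L800866 q27748, e3 q28235 L800874 q27749, e3 q28236 (flp_g L800894) q27190, e3 q28237 L800902 q27056, e3 q28238 L800918 q27057, e3 q28239 (flp_g L812173) q29274, e3 q28240 (flp_g L812189) q29275, e3 q28241 L800950 q27180, e3 q28242 L800972 q27061, e3 q28243 L800986 q27191, e3 q28244 L800996 q27192, e3 q28245 L801010 q27759, e3 q28246 L801024 q27760, e3 q28247 L801040 q27765, e3 q28248 (flp_g L808346) q29008, e3 q28249 L801064 q27071, e3 q28250 L801078 q27072, e3 q28251 (flp_g L812285) q29281, e3 q28252 L801102 q27797, e3 q28253 L801118 q27739, e3 q28254 (flp_g L811747) q29246, e3 q28255 L801144 q27183, e3 q28256 L801160 q27189, e3 q28257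 L801174 q27753, e3 q28258 L801188 q27754, e3 q28259 L801204 q27762, e3 q28260 L801214 q27763, e3 q28261 L801226 q27246, e3 q28262 L801242 q27610, e3 q28263 L801258 q27611, e3 q28264 L801273 q27505, e3 q28265 L801289 q27506, e3 q28266 L801302 q27615, e3 q28267 L801316 q27616, e3 q28268 L812535 q29298, e3 q28269 (flp_g L801336) q27088, e3 q28270 L801356 q27604, e3 q28271 L801370 q27605, e3 q28272 L801384 q27621, e3 q28273 L801398 q27179, e3 q28274 (flp_g L811727) q29245, e3 q28275 L801422 q27155, e3 q28276 L801436 q27156, e3 q28277 L801450 q27768, e3 q28278 L801462 q27769, e3 q28279 L801481 q27214, e3 q28280 L801491 q27232, e3 q28281 L801505 q27770, e3 q28282 L801515 q27771, e3 q28283 L801533 q27228, e3 q28284 (flp_g L808134) q28996, e3 q28285 (flp_g L808150) q28997, e3 q28286 L801555 q27764, e3 q28287 L801575 q27755, trivial⟩ (by decide +kernel)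

theorem ce_g_442 : ∀ r, r < 64 → sm gg (Qf (28288 + r)) = Qf (tab Gen.g (28288 + r)) :=
  edges_tab (sm gg) Qf (tab Gen.g) 28288 [(28288, 27110), (28289, 29005), (28290, 27109), (28291, 29316), (28292, 27193), (28293, 27194), (28294, 27120), (28295, 27742), (28296, 28999), (28297, 27783), (28298, 27750), (28299, 27172), (28300, 27773), (28301, 29318), (28302, 29000), (28303, 29001), (28304, 29002), (28305, 27747), (28306, 29003), (28307, 27326), (28308, 27332), (28309, 27333), (28310, 27730), (28311, 29209), (28312, 29210), (28313, 27736), (28314, 27685), (28315, 27686), (28316, 29340), (28317, 27527), (28318, 27546), (28319, 27136), (28320, 27689), (28321, 27691), (28322, 27692), (28323, 29348), (28324, 27676), (28325, 27677), (28326, 29353), (28327, 27700), (28328, 27701), (28329, 29356), (28330, 27144), (28331, 27244), (28332, 27682), (28333, 27683), (28334, 27684), (28335, 27157), (28336, 27311), (28337, 27312), (28338, 27329), (28339, 27330), (28340, 29266), (28341, 29267), (28342, 29303), (28343, 29304), (28344, 27272),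 (28345, 27273), (28346, 27178), (28347, 27775), (28348, 27776), (28349, 27177), (28350, 27777), (28351, 27778)]
    ⟨e3 q28288 L801582 q27110, e3 q28289 (flp_g L808296) q29005, e3 q28290 L801604 q27109, e3 q28291 (flp_g L812792) q29316, e3 q28292 L801630 q27193, e3 q28293 L801640 q27194, e3 q28294 L801650 q27120, e3 q28295 L801678 q27742, e3 q28296 (flp_g L808192) q28999, e3 q28297 L801692 q27783, e3 q28298 L801700 q27750, e3 q28299 L801726 q27172, e3 q28300 L801734 q27773, e3 q28301 (flp_g L812818) q29318, e3 q28302 (flp_g L808210) q29000, e3 q28303 (flp_g L808224) q29001, e3 q28304 (flp_g L808244) q29002, e3 q28305 L801784 q27747, e3 q28306 (flp_g L808262) q29003, e3 q28307 L801807 q27326, e3 q28308 L801823 q27332, e3 q28309 L801839 q27333, e3 q28310 L801852 q27730, e3 q28311 (flp_g L811203) q29209, e3 q28312 (flp_g L811219) q29210, e3 q28313 L801884 q27736, e3 q28314 L801896 q27685, e3 q28315 L801906 q27686, e3 q28316 L813092 q29340, e3 q28317 L801920 q27527, e3 q28318 L801938 q27546, e3 q28319 (flp_g L801940) q27136,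 e3 q28320 L801960 q27689, e3 q28321 L801974 q27691, e3 q28322 L801982 q27692, e3 q28323 L813170 q29348, e3 q28324 L801997 q27676, e3 q28325 L802005 q27677, e3 q28326 L813212 q29353, e3 q28327 L802020 q27700, e3 q28328 L802028 q27701, e3 q28329 L813235 q29356, e3 q28330 (flp_g L802038) q27144, e3 q28331 L802060 q27244, e3 q28332 L802068 q27682, e3 q28333 L802080 q27683, e3 q28334 L802088 q27684, e3 q28335 L802099 q27157, e3 q28336 L802113 q27311, e3 q28337 L802129 q27312, e3 q28338 L802142 q27329, e3 q28339 L802156 q27330, e3 q28340 (flp_g L812056) q29266, e3 q28341 (flp_g L812072) q29267, e3 q28342 (flp_g L812614) q29303, e3 q28343 (flp_g L812628) q29304, e3 q28344 L802208 q27272, e3 q28345 L802222 q27273, e3 q28346 L802241 q27178, e3 q28347 L802251 q27775, e3 q28348 L802265 q27776, e3 q28349 L802287 q27177, e3 q28350 L802291 q27777, e3 q28351 L802301 q27778, trivial⟩ (by decide +kernel)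

theorem ce_g_443 : ∀ r, r < 64 → sm gg (Qf (28352 + r)) = Qf (tab Gen.g (28352 + r)) :=
  edges_tab (sm gg) Qf (tab Gen.g) 28352 [(28352, 29173), (28353, 27779), (28354, 27780), (28355, 27781), (28356, 29214), (28357, 28998), (28358, 27774), (28359, 27782), (28360, 29322), (28361, 27175), (28362, 27176), (28363, 29384), (28364, 29373), (28365, 29371), (28366, 29259), (28367, 29302), (28368, 29277), (28369, 27299), (28370, 27300), (28371, 29283), (28372, 29271), (28373, 27817), (28374, 27818), (28375, 29128), (28376, 29129), (28377, 29284), (28378, 29273), (28379, 29278), (28380, 29317), (28381, 27281), (28382, 27791), (28383, 29107), (28384, 29108), (28385, 27238), (28386, 27292), (28387, 27293), (28388, 27239), (28389, 27793), (28390, 27794), (28391, 27237), (28392, 29247), (28393, 29248), (28394, 27227), (28395, 27796), (28396, 27236), (28397, 29011), (28398, 29012), (28399, 29146), (28400, 29125), (28401, 29126), (28402, 29127), (28403, 29308), (28404, 27798), (28405, 27799), (28406, 27655), (28407, 29424), (28408, 27217),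 (28409, 27800), (28410, 27688), (28411, 29428), (28412, 29430), (28413, 27221), (28414, 27225), (28415, 27226)]
    ⟨e3 q28352 (flp_g L810700) q29173, e3 q28353 L802316 q27779, e3 q28354 L802324 q27780, e3 q28355 L802330 q27781, e3 q28356 (flp_g L811274) q29214, e3 q28357 (flp_g L808172) q28998, e3 q28358 L802355 q27774, e3 q28359 L802363 q27782, e3 q28360 (flp_g L812888) q29322, e3 q28361 L802379 q27175, e3 q28362 L802391 q27176, e3 q28363 (flp_g L813548) q29384, e3 q28364 (flp_g L813464) q29373, e3 q28365 (flp_g L813432) q29371, e3 q28366 (flp_g L811973) q29259, e3 q28367 (flp_g L812596) q29302, e3 q28368 (flp_g L812215) q29277, e3 q28369 L802458 q27299, e3 q28370 L802474 q27300, e3 q28371 (flp_g L812317) q29283, e3 q28372 L812137 q29271, e3 q28373 L802507 q27817, e3 q28374 L802521 q27818, e3 q28375 (flp_g L810123) q29128, e3 q28376 (flp_g L810139) q29129, e3 q28377 (flp_g L812335) q29284, e3 q28378 L812163 q29273, e3 q28379 (flp_g L812235) q29278, e3 q28380 (flp_g L812808) q29317, e3 q28381 L802589 q27281, e3 q28382 L802603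 q27791, e3 q28383 (flp_g L809777) q29107, e3 q28384 (flp_g L809793) q29108, e3 q28385 L802646 q27238, e3 q28386 L802652 q27292, e3 q28387 L802664 q27293, e3 q28388 L802682 q27239, e3 q28389 L802690 q27793, e3 q28390 L802702 q27794, e3 q28391 L802720 q27237, e3 q28392 (flp_g L811765) q29247, e3 q28393 (flp_g L811779) q29248, e3 q28394 L802762 q27227, e3 q28395 L802770 q27796, e3 q28396 L802786 q27236, e3 q28397 (flp_g L808394) q29011, e3 q28398 (flp_g L808410) q29012, e3 q28399 (flp_g L810396) q29146, e3 q28400 (flp_g L810082) q29125, e3 q28401 (flp_g L810094) q29126, e3 q28402 (flp_g L810108) q29127, e3 q28403 (flp_g L812681) q29308, e3 q28404 L802840 q27798, e3 q28405 L802848 q27799, e3 q28406 L802856 q27655, e3 q28407 L813971 q29424, e3 q28408 (flp_g L802870) q27217, e3 q28409 L802886 q27800, e3 q28410 L802894 q27688, e3 q28411 L814013 q29428, e3 q28412 L814037 q29430, e3 q28413 (flp_g L802920) q27221, e3 q28414 L802936 q27225, e3 q28415 L802942 q27226, trivial⟩ (by decide +kernel)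

theorem ce_g_444 : ∀ r, r < 64 → sm gg (Qf (28416 + r)) = Qf (tab Gen.g (28416 + r)) :=
  edges_tab (sm gg) Qf (tab Gen.g) 28416 [(28416, 29431), (28417, 29409), (28418, 29311), (28419, 29402), (28420, 29436), (28421, 27230), (28422, 29309), (28423, 27235), (28424, 29410), (28425, 29407), (28426, 29405), (28427, 29256), (28428, 27245), (28429, 29357), (28430, 29439), (28431, 29288), (28432, 27633), (28433, 27634), (28434, 27251), (28435, 29116), (28436, 29254), (28437, 29255), (28438, 29105), (28439, 27276), (28440, 27277), (28441, 27492), (28442, 29112), (28443, 29113), (28444, 29114), (28445, 29257), (28446, 29258), (28447, 27268), (28448, 29260), (28449, 29261), (28450, 29115), (28451, 27275), (28452, 29368), (28453, 29369), (28454, 29370), (28455, 29444), (28456, 29398), (28457, 29009), (28458, 27285), (28459, 29235), (28460, 29219), (28461, 27469), (28462, 27822), (28463, 27294), (28464, 29403), (28465, 29404), (28466, 27831), (28467, 27832), (28468, 27833), (28469, 27834), (28470, 29389), (28471, 29390), (28472, 27819),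 (28473, 29023), (28474, 29024), (28475, 29467), (28476, 27835), (28477, 27836), (28478, 29470), (28479, 27306)]
    ⟨e3 q28416 (flp_g L814057) q29431, e3 q28417 (flp_g L813858) q29409, e3 q28418 (flp_g L812727) q29311, e3 q28419 (flp_g L813762) q29402, e3 q28420 L814091 q29436, e3 q28421 (flp_g L802974) q27230, e3 q28422 (flp_g L812693) q29309, e3 q28423 L802996 q27235, e3 q28424 (flp_g L813870) q29410, e3 q28425 (flp_g L813828) q29407, e3 q28426 (flp_g L813800) q29405, e3 q28427 (flp_g L811926) q29256, e3 q28428 L803039 q27245, e3 q28429 (flp_g L813257) q29357, e3 q28430 (flp_g L814119) q29439, e3 q28431 (flp_g L812395) q29288, e3 q28432 L803090 q27633, e3 q28433 L803104 q27634, e3 q28434 L803120 q27251, e3 q28435 (flp_g L809926) q29116, e3 q28436 (flp_g L811887) q29254, e3 q28437 (flp_g L811903) q29255, e3 q28438 (flp_g L809745) q29105, e3 q28439 L803174 q27276, e3 q28440 L803184 q27277, e3 q28441 L803200 q27492, e3 q28442 (flp_g L809859) q29112, e3 q28443 (flp_g L809875) q29113, e3 q28444 (flp_g L809891) q29114, e3 q28445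 (flp_g L811934) q29257, e3 q28446 (flp_g L811950) q29258, e3 q28447 L803261 q27268, e3 q28448 (flp_g L811979) q29260, e3 q28449 (flp_g L811989) q29261, e3 q28450 (flp_g L809910) q29115, e3 q28451 L803313 q27275, e3 q28452 (flp_g L813383) q29368, e3 q28453 (flp_g L813397) q29369, e3 q28454 (flp_g L813407) q29370, e3 q28455 (flp_g L814185) q29444, e3 q28456 (flp_g L813707) q29398, e3 q28457 (flp_g L808366) q29009, e3 q28458 L803394 q27285, e3 q28459 (flp_g L811583) q29235, e3 q28460 (flp_g L811329) q29219, e3 q28461 L803428 q27469, e3 q28462 L803442 q27822, e3 q28463 L803454 q27294, e3 q28464 (flp_g L813770) q29403, e3 q28465 (flp_g L813782) q29404, e3 q28466 L803484 q27831, e3 q28467 L803494 q27832, e3 q28468 L803506 q27833, e3 q28469 L803519 q27834, e3 q28470 (flp_g L813602) q29389, e3 q28471 (flp_g L813618) q29390, e3 q28472 L803553 q27819, e3 q28473 (flp_g L808583) q29023, e3 q28474 (flp_g L808599) q29024, e3 q28475 L814458 q29467, e3 q28476 L803602 q27835, e3 q28477 L803616 q27836, e3 q28478 L814499 q29470, e3 q28479 (flp_g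 L803636) q27306, trivial⟩ (by decide +kernel)

theorem ce_g_445 : ∀ r, r < 64 → sm gg (Qf (28480 + r)) = Qf (tab Gen.g (28480 + r)) :=
  edges_tab (sm gg) Qf (tab Gen.g) 28480 [(28480, 29030), (28481, 29031), (28482, 29032), (28483, 29361), (28484, 29362), (28485, 27318), (28486, 27316), (28487, 27317), (28488, 27758), (28489, 29477), (28490, 29478), (28491, 29479), (28492, 29056), (28493, 29057), (28494, 29058), (28495, 27324), (28496, 29486), (28497, 29329), (28498, 29208), (28499, 27339), (28500, 29363), (28501, 29364), (28502, 29365), (28503, 29330), (28504, 29331), (28505, 29239), (28506, 27337), (28507, 27338), (28508, 29495), (28509, 29496), (28510, 29497), (28511, 27343), (28512, 27344), (28513, 27345), (28514, 27761), (28515, 29500), (28516, 29501), (28517, 27468), (28518, 27843), (28519, 29081), (28520, 29082), (28521, 29084), (28522, 29085), (28523, 29086), (28524, 27844), (28525, 29095), (28526, 29096), (28527, 29098), (28528, 29101), (28529, 29102), (28530, 29103), (28531, 27362), (28532, 27375), (28533, 27428),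 (28534, 27868), (28535, 27869), (28536, 29230), (28537, 27373), (28538, 27374), (28539, 29519), (28540, 29520), (28541, 29521), (28542, 27845), (28543, 27846)]
    ⟨e3 q28480 (flp_g L808674) q29030, e3 q28481 (flp_g L808688) q29031, e3 q28482 (flp_g L808702) q29032, e3 q28483 (flp_g L813294) q29361, e3 q28484 (flp_g L813310) q29362, e3 q28485 L803709 q27318, e3 q28486 L803723 q27316, e3 q28487 L803733 q27317, e3 q28488 L803745 q27758, e3 q28489 (flp_g L814587) q29477, e3 q28490 (flp_g L814597) q29478, e3 q28491 (flp_g L814605) q29479, e3 q28492 (flp_g L809046) q29056, e3 q28493 (flp_g L809058) q29057, e3 q28494 (flp_g L809076) q29058, e3 q28495 L803817 q27324, e3 q28496 (flp_g L814685) q29486, e3 q28497 (flp_g L812973) q29329, e3 q28498 (flp_g L811191) q29208, e3 q28499 L803870 q27339, e3 q28500 (flp_g L813324) q29363, e3 q28501 (flp_g L813338) q29364, e3 q28502 (flp_g L813348) q29365, e3 q28503 (flp_g L812989) q29330, e3 q28504 (flp_g L813005) q29331, e3 q28505 (flp_g L811645) q29239, e3 q28506 L803947 q27337, e3 q28507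 L803959 q27338, e3 q28508 (flp_g L814796) q29495, e3 q28509 (flp_g L814808) q29496, e3 q28510 (flp_g L814816) q29497, e3 q28511 L804005 q27343, e3 q28512 L804013 q27344, e3 q28513 L804019 q27345, e3 q28514 L804031 q27761, e3 q28515 (flp_g L814856) q29500, e3 q28516 (flp_g L814862) q29501, e3 q28517 L804055 q27468, e3 q28518 L804071 q27843, e3 q28519 (flp_g L809416) q29081, e3 q28520 (flp_g L809432) q29082, e3 q28521 (flp_g L809465) q29084, e3 q28522 (flp_g L809479) q29085, e3 q28523 (flp_g L809489) q29086, e3 q28524 L804134 q27844, e3 q28525 (flp_g L809614) q29095, e3 q28526 (flp_g L809622) q29096, e3 q28527 (flp_g L809656) q29098, e3 q28528 (flp_g L809694) q29101, e3 q28529 (flp_g L809702) q29102, e3 q28530 (flp_g L809714) q29103, e3 q28531 L804194 q27362, e3 q28532 L804204 q27375, e3 q28533 L804218 q27428, e3 q28534 L804232 q27868, e3 q28535 L804246 q27869, e3 q28536 (flp_g L811493) q29230, e3 q28537 L804268 q27373, e3 q28538 L804276 q27374, e3 q28539 (flp_g L815051) q29519, e3 q28540 (flp_g L815059) q29520, e3 q28541 (flp_g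 L815065) q29521, e3 q28542 L804303 q27845, e3 q28543 L804317 q27846, trivial⟩ (by decide +kernel)

theorem ce_g_446 : ∀ r, r < 64 → sm gg (Qf (28544 + r)) = Qf (tab Gen.g (28544 + r)) :=
  edges_tab (sm gg) Qf (tab Gen.g) 28544 [(28544, 29529), (28545, 27609), (28546, 27566), (28547, 27379), (28548, 27847), (28549, 29134), (28550, 29135), (28551, 29156), (28552, 27849), (28553, 27850), (28554, 27851), (28555, 29540), (28556, 27385), (28557, 27556), (28558, 29131), (28559, 29132), (28560, 27852), (28561, 27854), (28562, 27395), (28563, 27396), (28564, 29549), (28565, 29545), (28566, 29546), (28567, 29547), (28568, 29555), (28569, 27397), (28570, 27856), (28571, 29557), (28572, 27400), (28573, 27404), (28574, 27405), (28575, 27406), (28576, 29558), (28577, 29559), (28578, 29560), (28579, 27416), (28580, 27410), (28581, 27411), (28582, 29565), (28583, 29566), (28584, 29567), (28585, 29194), (28586, 27415), (28587, 29571), (28588, 27434), (28589, 27435), (28590, 27422), (28591, 27423), (28592, 27424), (28593, 29262), (28594,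 29575), (28595, 29576), (28596, 29578), (28597, 27870), (28598, 29150), (28599, 29515), (28600, 27884), (28601, 27432), (28602, 29242), (28603, 29572), (28604, 29573), (28605, 29574), (28606, 27439), (28607, 27440)]
    ⟨e3 q28544 L815137 q29529, e3 q28545 L804341 q27609, e3 q28546 L804358 q27566, e3 q28547 (flp_g L804360) q27379, e3 q28548 L804381 q27847, e3 q28549 (flp_g L810221) q29134, e3 q28550 (flp_g L810237) q29135, e3 q28551 (flp_g L810507) q29156, e3 q28552 L804424 q27849, e3 q28553 L804432 q27850, e3 q28554 L804436 q27851, e3 q28555 (flp_g L815260) q29540, e3 q28556 (flp_g L804446) q27385, e3 q28557 L804468 q27556, e3 q28558 (flp_g L810175) q29131, e3 q28559 (flp_g L810191) q29132, e3 q28560 L804502 q27852, e3 q28561 L804514 q27854, e3 q28562 L804528 q27395, e3 q28563 L804536 q27396, e3 q28564 L815356 q29549, e3 q28565 (flp_g L815327) q29545, e3 q28566 (flp_g L815335) q29546, e3 q28567 (flp_g L815341) q29547, e3 q28568 L815399 q29555, e3 q28569 (flp_g L804568) q27397, e3 q28570 L804577 q27856, e3 q28571 L815409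 q29557, e3 q28572 (flp_g L804583) q27400, e3 q28573 L804597 q27404, e3 q28574 L804609 q27405, e3 q28575 L804617 q27406, e3 q28576 (flp_g L815423) q29558, e3 q28577 (flp_g L815433) q29559, e3 q28578 (flp_g L815442) q29560, e3 q28579 L804645 q27416, e3 q28580 L804661 q27410, e3 q28581 L804671 q27411, e3 q28582 (flp_g L815474) q29565, e3 q28583 (flp_g L815484) q29566, e3 q28584 (flp_g L815492) q29567, e3 q28585 (flp_g L810987) q29194, e3 q28586 L804720 q27415, e3 q28587 (flp_g L815542) q29571, e3 q28588 L804748 q27434, e3 q28589 L804760 q27435, e3 q28590 L804768 q27422, e3 q28591 L804776 q27423, e3 q28592 L804782 q27424, e3 q28593 (flp_g L812005) q29262, e3 q28594 (flp_g L815592) q29575, e3 q28595 (flp_g L815600) q29576, e3 q28596 (flp_g L815618) q29578, e3 q28597 L804832 q27870, e3 q28598 (flp_g L810439) q29150, e3 q28599 (flp_g L814998) q29515, e3 q28600 L804868 q27884, e3 q28601 L804886 q27432, e3 q28602 (flp_g L811689) q29242, e3 q28603 (flp_g L815558) q29572, e3 q28604 (flp_g L815570) q29573, e3 q28605 (flp_g L815578) q29574,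 e3 q28606 L804938 q27439, e3 q28607 L804948 q27440, trivial⟩ (by decide +kernel)

theorem ce_g_447 : ∀ r, r < 64 → sm gg (Qf (28608 + r)) = Qf (tab Gen.g (28608 + r)) :=
  edges_tab (sm gg) Qf (tab Gen.g) 28608 [(28608, 27441), (28609, 29587), (28610, 27532), (28611, 29588), (28612, 29589), (28613, 27447), (28614, 27445), (28615, 27446), (28616, 29594), (28617, 29595), (28618, 29541), (28619, 27451), (28620, 27534), (28621, 27558), (28622, 27470), (28623, 27477), (28624, 27456), (28625, 27457), (28626, 29598), (28627, 29599), (28628, 29600), (28629, 27721), (28630, 27486), (28631, 27720), (28632, 27464), (28633, 27465), (28634, 27466), (28635, 29605), (28636, 29606), (28637, 29265), (28638, 27864), (28639, 29504), (28640, 29456), (28641, 27474), (28642, 27475), (28643, 27708), (28644, 29611), (28645, 29612), (28646, 29613), (28647, 27841), (28648, 27525), (28649, 27526), (28650, 29341), (28651, 27483), (28652, 27484), (28653, 27485), (28654, 27727), (28655, 29621), (28656, 29622), (28657, 29625), (28658, 27536), (28659, 27537),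 (28660, 27538), (28661, 27493), (28662, 27494), (28663, 29445), (28664, 27495), (28665, 29631), (28666, 29633), (28667, 29634), (28668, 29635), (28669, 27498), (28670, 29640), (28671, 29207)]
    ⟨e3 q28608 L804964 q27441, e3 q28609 (flp_g L815724) q29587, e3 q28610 L804982 q27532, e3 q28611 (flp_g L815742) q29588, e3 q28612 (flp_g L815752) q29589, e3 q28613 L805012 q27447, e3 q28614 L805024 q27445, e3 q28615 L805036 q27446, e3 q28616 (flp_g L815804) q29594, e3 q28617 (flp_g L815817) q29595, e3 q28618 (flp_g L815270) q29541, e3 q28619 L805082 q27451, e3 q28620 L805094 q27534, e3 q28621 L805105 q27558, e3 q28622 L805115 q27470, e3 q28623 L805129 q27477, e3 q28624 L805143 q27456, e3 q28625 L805155 q27457, e3 q28626 (flp_g L815850) q29598, e3 q28627 (flp_g L815862) q29599, e3 q28628 (flp_g L815870) q29600, e3 q28629 (flp_g L805196) q27721, e3 q28630 L805206 q27486, e3 q28631 L805230 q27720, e3 q28632 L805236 q27464, e3 q28633 L805242 q27465, e3 q28634 L805246 q27466, e3 q28635 (flp_g L815929) q29605, e3 q28636 (flp_g L815935)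 q29606, e3 q28637 (flp_g L812041) q29265, e3 q28638 L805276 q27864, e3 q28639 (flp_g L814890) q29504, e3 q28640 (flp_g L814334) q29456, e3 q28641 L805308 q27474, e3 q28642 L805320 q27475, e3 q28643 L805330 q27708, e3 q28644 (flp_g L815972) q29611, e3 q28645 (flp_g L815984) q29612, e3 q28646 (flp_g L815992) q29613, e3 q28647 L805365 q27841, e3 q28648 L805379 q27525, e3 q28649 L805391 q27526, e3 q28650 (flp_g L813114) q29341, e3 q28651 L805411 q27483, e3 q28652 L805417 q27484, e3 q28653 L805421 q27485, e3 q28654 L805435 q27727, e3 q28655 (flp_g L816072) q29621, e3 q28656 (flp_g L816078) q29622, e3 q28657 (flp_g L816110) q29625, e3 q28658 L805467 q27536, e3 q28659 L805475 q27537, e3 q28660 L805483 q27538, e3 q28661 L805493 q27493, e3 q28662 L805499 q27494, e3 q28663 (flp_g L814199) q29445, e3 q28664 L805509 q27495, e3 q28665 (flp_g L816170) q29631, e3 q28666 (flp_g L816178) q29633, e3 q28667 (flp_g L816190) q29634, e3 q28668 (flp_g L816196) q29635, e3 q28669 L805547 q27498, e3 q28670 (flp_g L816238) q29640, e3 q28671 (flp_g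 L811181) q29207, trivial⟩ (by decide +kernel)

theorem ce_g_448 : ∀ r, r < 64 → sm gg (Qf (28672 + r)) = Qf (tab Gen.g (28672 + r)) :=
  edges_tab (sm gg) Qf (tab Gen.g) 28672 [(28672, 29170), (28673, 27502), (28674, 29206), (28675, 29292), (28676, 29293), (28677, 29342), (28678, 27512), (28679, 27513), (28680, 29049), (28681, 27514), (28682, 27515), (28683, 27516), (28684, 29053), (28685, 29647), (28686, 29648), (28687, 29649), (28688, 29651), (28689, 29652), (28690, 29051), (28691, 29052), (28692, 29596), (28693, 27863), (28694, 27654), (28695, 27687), (28696, 29050), (28697, 29020), (28698, 29021), (28699, 29618), (28700, 29619), (28701, 29338), (28702, 27531), (28703, 29055), (28704, 29590), (28705, 29054), (28706, 29592), (28707, 29597), (28708, 29629), (28709, 29630), (28710, 27542), (28711, 27544), (28712, 27545), (28713, 27735), (28714, 29674), (28715, 27729), (28716, 29675), (28717, 27650), (28718, 27549), (28719, 29681), (28720, 27554), (28721, 27555), (28722, 27557), (28723, 29682), (28724, 29530), (28725, 29539),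 (28726, 27636), (28727, 27632), (28728, 27681), (28729, 27603), (28730, 27678), (28731, 29249), (28732, 29250), (28733, 27838), (28734, 27839), (28735, 27840)]
    ⟨e3 q28672 (flp_g L810651) q29170, e3 q28673 L805586 q27502, e3 q28674 (flp_g L811165) q29206, e3 q28675 (flp_g L812456) q29292, e3 q28676 (flp_g L812472) q29293, e3 q28677 (flp_g L813122) q29342, e3 q28678 L805633 q27512, e3 q28679 L805641 q27513, e3 q28680 (flp_g L808965) q29049, e3 q28681 L805656 q27514, e3 q28682 L805664 q27515, e3 q28683 L805670 q27516, e3 q28684 (flp_g L809008) q29053, e3 q28685 (flp_g L816307) q29647, e3 q28686 (flp_g L816315) q29648, e3 q28687 (flp_g L816321) q29649, e3 q28688 (flp_g L816338) q29651, e3 q28689 (flp_g L816346) q29652, e3 q28690 (flp_g L808985) q29051, e3 q28691 (flp_g L808993) q29052, e3 q28692 (flp_g L815825) q29596, e3 q28693 L805742 q27863, e3 q28694 L805752 q27654, e3 q28695 L805764 q27687, e3 q28696 (flp_g L808973) q29050, e3 q28697 (flp_g L808538) q29020, e3 q28698 (flp_g L808554) q29021, e3 q28699 (flp_g L816042)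 q29618, e3 q28700 (flp_g L816054) q29619, e3 q28701 (flp_g L813078) q29338, e3 q28702 L805832 q27531, e3 q28703 (flp_g L809036) q29055, e3 q28704 (flp_g L815764) q29590, e3 q28705 (flp_g L809018) q29054, e3 q28706 (flp_g L815788) q29592, e3 q28707 (flp_g L815838) q29597, e3 q28708 (flp_g L816150) q29629, e3 q28709 (flp_g L816160) q29630, e3 q28710 L805908 q27542, e3 q28711 L805920 q27544, e3 q28712 L805928 q27545, e3 q28713 L805934 q27735, e3 q28714 (flp_g L816529) q29674, e3 q28715 L805946 q27729, e3 q28716 (flp_g L816539) q29675, e3 q28717 L805958 q27650, e3 q28718 L805964 q27549, e3 q28719 (flp_g L816585) q29681, e3 q28720 L805984 q27554, e3 q28721 L805990 q27555, e3 q28722 L806000 q27557, e3 q28723 (flp_g L816593) q29682, e3 q28724 (flp_g L815163) q29530, e3 q28725 (flp_g L815250) q29539, e3 q28726 L806038 q27636, e3 q28727 L806050 q27632, e3 q28728 L806056 q27681, e3 q28729 L806066 q27603, e3 q28730 L806072 q27678, e3 q28731 (flp_g L811797) q29249, e3 q28732 (flp_g L811813) q29250, e3 q28733 L806111 q27838, e3 q28734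 L806125 q27839, e3 q28735 L806139 q27840, trivial⟩ (by decide +kernel)

theorem ce_g_449 : ∀ r, r < 64 → sm gg (Qf (28736 + r)) = Qf (tab Gen.g (28736 + r)) :=
  edges_tab (sm gg) Qf (tab Gen.g) 28736 [(28736, 27583), (28737, 27584), (28738, 29691), (28739, 29026), (28740, 29027), (28741, 27673), (28742, 29080), (28743, 29120), (28744, 29121), (28745, 29122), (28746, 29123), (28747, 27607), (28748, 27608), (28749, 27617), (28750, 27618), (28751, 29686), (28752, 29299), (28753, 29300), (28754, 29301), (28755, 29695), (28756, 29696), (28757, 29527), (28758, 29289), (28759, 29290), (28760, 27924), (28761, 27923), (28762, 29709), (28763, 27614), (28764, 29295), (28765, 29296), (28766, 29697), (28767, 29712), (28768, 27619), (28769, 27900), (28770, 27901), (28771, 27902), (28772, 27914), (28773, 27926), (28774, 27913), (28775, 27891), (28776, 27892), (28777, 27893), (28778, 27903), (28779, 29685), (28780, 29440), (28781, 29676), (28782, 29152), (28783, 29153), (28784, 29154), (28785, 29157), (28786, 29158), (28787, 29159), (28788,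 29165), (28789, 27658), (28790, 27659), (28791, 29680), (28792, 27660), (28793, 27661), (28794, 29624), (28795, 29137), (28796, 29138), (28797, 29665), (28798, 29421), (28799, 29034)]
    ⟨e3 q28736 L806152 q27583, e3 q28737 L806164 q27584, e3 q28738 (flp_g L816695) q29691, e3 q28739 (flp_g L808626) q29026, e3 q28740 (flp_g L808638) q29027, e3 q28741 L806210 q27673, e3 q28742 (flp_g L809400) q29080, e3 q28743 (flp_g L809997) q29120, e3 q28744 (flp_g L810013) q29121, e3 q28745 (flp_g L810029) q29122, e3 q28746 (flp_g L810048) q29123, e3 q28747 L806253 q27607, e3 q28748 L806267 q27608, e3 q28749 L806277 q27617, e3 q28750 L806289 q27618, e3 q28751 (flp_g L816635) q29686, e3 q28752 (flp_g L812555) q29299, e3 q28753 (flp_g L812569) q29300, e3 q28754 (flp_g L812583) q29301, e3 q28755 (flp_g L816733) q29695, e3 q28756 (flp_g L816747) q29696, e3 q28757 (flp_g L815121) q29527, e3 q28758 (flp_g L812411) q29289, e3 q28759 (flp_g L812427) q29290, e3 q28760 L806376 q27924, e3 q28761 L806388 q27923, e3 q28762 L816873 q29709, e3 q28763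 (flp_g L806408) q27614, e3 q28764 (flp_g L812501) q29295, e3 q28765 (flp_g L812515) q29296, e3 q28766 (flp_g L816759) q29697, e3 q28767 L816907 q29712, e3 q28768 (flp_g L806458) q27619, e3 q28769 L806470 q27900, e3 q28770 L806480 q27901, e3 q28771 L806486 q27902, e3 q28772 L806496 q27914, e3 q28773 L806504 q27926, e3 q28774 L806514 q27913, e3 q28775 L806522 q27891, e3 q28776 L806532 q27892, e3 q28777 L806540 q27893, e3 q28778 L806553 q27903, e3 q28779 (flp_g L816627) q29685, e3 q28780 (flp_g L814134) q29440, e3 q28781 (flp_g L816547) q29676, e3 q28782 (flp_g L810469) q29152, e3 q28783 (flp_g L810479) q29153, e3 q28784 (flp_g L810485) q29154, e3 q28785 (flp_g L810516) q29157, e3 q28786 (flp_g L810528) q29158, e3 q28787 (flp_g L810538) q29159, e3 q28788 (flp_g L810606) q29165, e3 q28789 L806652 q27658, e3 q28790 L806660 q27659, e3 q28791 (flp_g L816577) q29680, e3 q28792 L806673 q27660, e3 q28793 L806681 q27661, e3 q28794 (flp_g L816102) q29624, e3 q28795 (flp_g L810266) q29137, e3 q28796 (flp_g L810282) q29138, e3 q28797 (flp_g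 L816437) q29665, e3 q28798 (flp_g L813945) q29421, e3 q28799 (flp_g L808733) q29034, trivial⟩ (by decide +kernel)

theorem ce_g_450 : ∀ r, r < 64 → sm gg (Qf (28800 + r)) = Qf (tab Gen.g (28800 + r)) :=
  edges_tab (sm gg) Qf (tab Gen.g) 28800 [(28800, 29035), (28801, 29724), (28802, 29725), (28803, 29726), (28804, 29728), (28805, 29190), (28806, 29191), (28807, 29192), (28808, 27909), (28809, 29193), (28810, 29218), (28811, 29195), (28812, 29196), (28813, 29197), (28814, 29198), (28815, 29199), (28816, 29349), (28817, 29350), (28818, 29351), (28819, 29687), (28820, 27702), (28821, 29679), (28822, 29358), (28823, 29359), (28824, 29360), (28825, 29336), (28826, 29337), (28827, 29425), (28828, 29343), (28829, 29189), (28830, 29344), (28831, 29345), (28832, 29346), (28833, 29037), (28834, 29038), (28835, 29761), (28836, 27695), (28837, 29067), (28838, 29763), (28839, 27698), (28840, 29354), (28841, 29764), (28842, 27703), (28843, 27871), (28844, 27872), (28845, 29614), (28846, 29200), (28847, 29201), (28848, 29232), (28849,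 29233), (28850, 29234), (28851, 27715), (28852, 29202), (28853, 27722), (28854, 27723), (28855, 27724), (28856, 29604), (28857, 29603), (28858, 29570), (28859, 29769), (28860, 29770), (28861, 29236), (28862, 29623), (28863, 29677)]
    ⟨e3 q28800 (flp_g L808749) q29035, e3 q28801 (flp_g L817021) q29724, e3 q28802 (flp_g L817029) q29725, e3 q28803 (flp_g L817035) q29726, e3 q28804 (flp_g L817052) q29728, e3 q28805 (flp_g L810920) q29190, e3 q28806 (flp_g L810936) q29191, e3 q28807 (flp_g L810952) q29192, e3 q28808 L806817 q27909, e3 q28809 (flp_g L810971) q29193, e3 q28810 (flp_g L811313) q29218, e3 q28811 (flp_g L811005) q29195, e3 q28812 (flp_g L811021) q29196, e3 q28813 (flp_g L811037) q29197, e3 q28814 (flp_g L811052) q29198, e3 q28815 (flp_g L811060) q29199, e3 q28816 (flp_g L813183) q29349, e3 q28817 (flp_g L813191) q29350, e3 q28818 (flp_g L813197) q29351, e3 q28819 (flp_g L816645) q29687, e3 q28820 L806897 q27702, e3 q28821 (flp_g L816571) q29679, e3 q28822 (flp_g L813265) q29358, e3 q28823 (flp_g L813275) q29359,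 e3 q28824 (flp_g L813284) q29360, e3 q28825 (flp_g L813062) q29336, e3 q28826 (flp_g L813072) q29337, e3 q28827 (flp_g L813987) q29425, e3 q28828 (flp_g L813131) q29343, e3 q28829 (flp_g L810906) q29189, e3 q28830 (flp_g L813145) q29344, e3 q28831 (flp_g L813153) q29345, e3 q28832 (flp_g L813159) q29346, e3 q28833 (flp_g L808780) q29037, e3 q28834 (flp_g L808794) q29038, e3 q28835 L817296 q29761, e3 q28836 (flp_g L807021) q27695, e3 q28837 (flp_g L809210) q29067, e3 q28838 L817310 q29763, e3 q28839 (flp_g L807043) q27698, e3 q28840 (flp_g L813225) q29354, e3 q28841 L817316 q29764, e3 q28842 (flp_g L807063) q27703, e3 q28843 L807075 q27871, e3 q28844 L807087 q27872, e3 q28845 (flp_g L816003) q29614, e3 q28846 L811076 q29200, e3 q28847 L811089 q29201, e3 q28848 (flp_g L811527) q29232, e3 q28849 (flp_g L811543) q29233, e3 q28850 (flp_g L811561) q29234, e3 q28851 L807140 q27715, e3 q28852 L811103 q29202, e3 q28853 L807158 q27722, e3 q28854 L807168 q27723, e3 q28855 L807176 q27724, e3 q28856 (flp_g L815923) q29604, e3 q28857 L815905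 q29603, e3 q28858 (flp_g L815526) q29570, e3 q28859 (flp_g L817358) q29769, e3 q28860 (flp_g L817366) q29770, e3 q28861 (flp_g L811591) q29236, e3 q28862 (flp_g L816092) q29623, e3 q28863 (flp_g L816559) q29677, trivial⟩ (by decide +kernel)

theorem ce_g_451 : ∀ r, r < 64 → sm gg (Qf (28864 + r)) = Qf (tab Gen.g (28864 + r)) :=
  edges_tab (sm gg) Qf (tab Gen.g) 28864 [(28864, 29332), (28865, 29244), (28866, 27734), (28867, 29252), (28868, 29319), (28869, 27820), (28870, 27821), (28871, 29328), (28872, 29268), (28873, 29269), (28874, 29270), (28875, 29323), (28876, 29272), (28877, 29321), (28878, 27809), (28879, 27810), (28880, 29315), (28881, 29285), (28882, 29286), (28883, 27899), (28884, 29314), (28885, 27823), (28886, 27824), (28887, 29480), (28888, 29279), (28889, 29502), (28890, 29287), (28891, 29313), (28892, 29797), (28893, 27766), (28894, 29305), (28895, 29306), (28896, 29307), (28897, 29310), (28898, 29382), (28899, 29372), (28900, 29374), (28901, 29375), (28902, 29376), (28903, 29378), (28904, 29379), (28905, 29320),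 (28906, 27790), (28907, 29004), (28908, 29253), (28909, 29007), (28910, 29406), (28911, 29282), (28912, 29420), (28913, 27803), (28914, 29263), (28915, 29264), (28916, 29786), (28917, 29787), (28918, 29788), (28919, 27814), (28920, 27815), (28921, 27816), (28922, 29807), (28923, 29808), (28924, 29394), (28925, 29395), (28926, 29778), (28927, 29779)]
    ⟨e3 q28864 (flp_g L813017) q29332, e3 q28865 (flp_g L811713) q29244, e3 q28866 L807242 q27734, e3 q28867 (flp_g L811853) q29252, e3 q28868 (flp_g L812846) q29319, e3 q28869 L807260 q27820, e3 q28870 L807270 q27821, e3 q28871 (flp_g L812961) q29328, e3 q28872 (flp_g L812090) q29268, e3 q28873 (flp_g L812104) q29269, e3 q28874 (flp_g L812114) q29270, e3 q28875 (flp_g L812900) q29323, e3 q28876 (flp_g L812143) q29272, e3 q28877 (flp_g L812862) q29321, e3 q28878 L807326 q27809, e3 q28879 L807334 q27810, e3 q28880 (flp_g L812778) q29315, e3 q28881 (flp_g L812349) q29285, e3 q28882 (flp_g L812363) q29286, e3 q28883 L807361 q27899, e3 q28884 (flp_g L812763) q29314, e3 q28885 L807380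 q27823, e3 q28886 L807388 q27824, e3 q28887 (flp_g L814621) q29480, e3 q28888 (flp_g L812249) q29279, e3 q28889 (flp_g L814870) q29502, e3 q28890 (flp_g L812381) q29287, e3 q28891 (flp_g L812743) q29313, e3 q28892 L817553 q29797, e3 q28893 (flp_g L807426) q27766, e3 q28894 (flp_g L812642) q29305, e3 q28895 (flp_g L812654) q29306, e3 q28896 (flp_g L812664) q29307, e3 q28897 (flp_g L812709) q29310, e3 q28898 (flp_g L813532) q29382, e3 q28899 (flp_g L813442) q29372, e3 q28900 (flp_g L813468) q29374, e3 q28901 (flp_g L813478) q29375, e3 q28902 (flp_g L813486) q29376, e3 q28903 (flp_g L813503) q29378, e3 q28904 (flp_g L813511) q29379, e3 q28905 (flp_g L812854) q29320, e3 q28906 L807518 q27790, e3 q28907 (flp_g L808276) q29004, e3 q28908 (flp_g L811871) q29253, e3 q28909 (flp_g L808332) q29007, e3 q28910 (flp_g L813808) q29406, e3 q28911 (flp_g L812303) q29282, e3 q28912 (flp_g L813937) q29420, e3 q28913 (flp_g L807562) q27803, e3 q28914 (flp_g L812013) q29263, e3 q28915 (flp_g L812027) q29264, e3 q28916 (flp_g L817474) q29786,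 e3 q28917 (flp_g L817482) q29787, e3 q28918 (flp_g L817488) q29788, e3 q28919 L807601 q27814, e3 q28920 L807611 q27815, e3 q28921 L807617 q27816, e3 q28922 (flp_g L817622) q29807, e3 q28923 (flp_g L817630) q29808, e3 q28924 (flp_g L813661) q29394, e3 q28925 (flp_g L813675) q29395, e3 q28926 (flp_g L817411) q29778, e3 q28927 (flp_g L817421) q29779, trivial⟩ (by decide +kernel)

theorem ce_g_452 : ∀ r, r < 64 → sm gg (Qf (28928 + r)) = Qf (tab Gen.g (28928 + r)) :=
  edges_tab (sm gg) Qf (tab Gen.g) 28928 [(28928, 29780), (28929, 29793), (28930, 29117), (28931, 29118), (28932, 29119), (28933, 29124), (28934, 29458), (28935, 29459), (28936, 29468), (28937, 29689), (28938, 29690), (28939, 29525), (28940, 29526), (28941, 29531), (28942, 29229), (28943, 29536), (28944, 29537), (28945, 29544), (28946, 29188), (28947, 29228), (28948, 29161), (28949, 29162), (28950, 29163), (28951, 29168), (28952, 29169), (28953, 29203), (28954, 29204), (28955, 29516), (28956, 29517), (28957, 29518), (28958, 29765), (28959, 29097), (28960, 29087),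 (28961, 27879), (28962, 27880), (28963, 29083), (28964, 27881), (28965, 27882), (28966, 27883), (28967, 29835), (28968, 29836), (28969, 29837), (28970, 29838), (28971, 29839), (28972, 29140), (28973, 29141), (28974, 27889), (28975, 29717), (28976, 29718), (28977, 27897), (28978, 27898), (28979, 29847), (28980, 29848), (28981, 29791), (28982, 29713), (28983, 29714), (28984, 29853), (28985, 27904), (28986, 27906), (28987, 27912), (28988, 29716), (28989, 29715), (28990, 29155), (28991, 27920)]
    ⟨e3 q28928 (flp_g L817429) q29780, e3 q28929 (flp_g L817531) q29793, e3 q28930 (flp_g L809946) q29117, e3 q28931 (flp_g L809962) q29118, e3 q28932 (flp_g L809978) q29119, e3 q28933 (flp_g L810066) q29124, e3 q28934 (flp_g L814354) q29458, e3 q28935 (flp_g L814368) q29459, e3 q28936 (flp_g L814479) q29468, e3 q28937 (flp_g L816669) q29689, e3 q28938 (flp_g L816683) q29690, e3 q28939 (flp_g L815097) q29525, e3 q28940 (flp_g L815111) q29526, e3 q28941 (flp_g L815173) q29531, e3 q28942 (flp_g L811473) q29229, e3 q28943 (flp_g L815226)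 q29536, e3 q28944 (flp_g L815232) q29537, e3 q28945 (flp_g L815313) q29544, e3 q28946 (flp_g L810888) q29188, e3 q28947 (flp_g L811459) q29228, e3 q28948 (flp_g L810563) q29161, e3 q28949 (flp_g L810573) q29162, e3 q28950 (flp_g L810581) q29163, e3 q28951 (flp_g L810632) q29168, e3 q28952 (flp_g L810642) q29169, e3 q28953 (flp_g L811113) q29203, e3 q28954 (flp_g L811129) q29204, e3 q28955 (flp_g L815014) q29516, e3 q28956 (flp_g L815028) q29517, e3 q28957 (flp_g L815038) q29518, e3 q28958 (flp_g L817328) q29765, e3 q28959 (flp_g L809644) q29097, e3 q28960 (flp_g L809508) q29087, e3 q28961 L807882 q27879, e3 q28962 L807892 q27880, e3 q28963 (flp_g L809455) q29083, e3 q28964 L807907 q27881, e3 q28965 L807915 q27882, e3 q28966 L807921 q27883, e3 q28967 (flp_g L817801) q29835, e3 q28968 (flp_g L817811) q29836, e3 q28969 (flp_g L817819) q29837, e3 q28970 (flp_g L817828) q29838, e3 q28971 (flp_g L817836) q29839, e3 q28972 (flp_g L810309) q29140, e3 q28973 (flp_g L810321) q29141, e3 q28974 L807977 q27889, e3 q28975 (flp_g L816955)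 q29717, e3 q28976 (flp_g L816963) q29718, e3 q28977 L807995 q27897, e3 q28978 L808001 q27898, e3 q28979 (flp_g L817884) q29847, e3 q28980 (flp_g L817888) q29848, e3 q28981 (flp_g L817513) q29791, e3 q28982 (flp_g L816919) q29713, e3 q28983 (flp_g L816927) q29714, e3 q28984 L817912 q29853, e3 q28985 (flp_g L808046) q27904, e3 q28986 (flp_g L808056) q27906, e3 q28987 L808070 q27912, e3 q28988 (flp_g L816947) q29716, e3 q28989 (flp_g L816937) q29715, e3 q28990 (flp_g L810499) q29155, e3 q28991 L808092 q27920, trivial⟩ (by decide +kernel)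

theorem ce_g_453 : ∀ r, r < 64 → sm gg (Qf (28992 + r)) = Qf (tab Gen.g (28992 + r)) :=
  edges_tab (sm gg) Qf (tab Gen.g) 28992 [(28992, 27921), (28993, 27922), (28994, 29856), (28995, 29707), (28996, 28284), (28997, 28285), (28998, 28357), (28999, 28296), (29000, 28302), (29001, 28303), (29002, 28304), (29003, 28306), (29004, 28907), (29005, 28289), (29006, 27946), (29007, 28909), (29008, 28248), (29009, 28457), (29010, 28051), (29011, 28397), (29012, 28398), (29013, 28062), (29014, 27997), (29015, 27998), (29016, 29871), (29017, 28038), (29018, 28080), (29019, 27957), (29020, 28697), (29021, 28698), (29022, 29877), (29023, 28473), (29024, 28474), (29025, 29882), (29026, 28739), (29027, 28740), (29028, 29885), (29029, 27964), (29030, 28480), (29031, 28481), (29032, 28482), (29033, 27980), (29034, 28799), (29035, 28800), (29036, 29893), (29037, 28833), (29038, 28834), (29039, 29896), (29040, 27974), (29041, 27978), (29042, 27979), (29043, 28127), (29044, 29897), (29045, 29898), (29046, 29899), (29047, 28120), (29048, 28121),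 (29049, 28680), (29050, 28696), (29051, 28690), (29052, 28691), (29053, 28684), (29054, 28705), (29055, 28703)]
    ⟨e3 q28992 L808100 q27921, e3 q28993 L808108 q27922, e3 q28994 (flp_g L817938) q29856, e3 q28995 (flp_g L816855) q29707, e3 q28996 L808134 q28284, e3 q28997 L808150 q28285, e3 q28998 L808172 q28357, e3 q28999 L808192 q28296, e3 q29000 L808210 q28302, e3 q29001 L808224 q28303, e3 q29002 L808244 q28304, e3 q29003 L808262 q28306, e3 q29004 L808276 q28907, e3 q29005 L808296 q28289, e3 q29006 L808314 q27946, e3 q29007 L808332 q28909, e3 q29008 L808346 q28248, e3 q29009 L808366 q28457, e3 q29010 L808382 q28051, e3 q29011 L808394 q28397, e3 q29012 L808410 q28398, e3 q29013 L808428 q28062, e3 q29014 L808444 q27997, e3 q29015 L808460 q27998, e3 q29016 L818177 q29871, e3 q29017 L808490 q28038, e3 q29018 L808514 q28080, e3 q29019 (flp_g L808516) q27957, e3 q29020 L808538 q28697, e3 q29021 L808554 q28698, e3 q29022 L818274 q29877, e3 q29023 L808583 q28473, e3 q29024 L808599 q28474, e3 q29025 L818350 q29882, e3 q29026 L808626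 q28739, e3 q29027 L808638 q28740, e3 q29028 L818391 q29885, e3 q29029 (flp_g L808658) q27964, e3 q29030 L808674 q28480, e3 q29031 L808688 q28481, e3 q29032 L808702 q28482, e3 q29033 L808717 q27980, e3 q29034 L808733 q28799, e3 q29035 L808749 q28800, e3 q29036 L818505 q29893, e3 q29037 L808780 q28833, e3 q29038 L808794 q28834, e3 q29039 L818552 q29896, e3 q29040 (flp_g L808816) q27974, e3 q29041 L808838 q27978, e3 q29042 L808854 q27979, e3 q29043 L808878 q28127, e3 q29044 (flp_g L818576) q29897, e3 q29045 (flp_g L818592) q29898, e3 q29046 (flp_g L818604) q29899, e3 q29047 L808926 q28120, e3 q29048 L808942 q28121, e3 q29049 L808965 q28680, e3 q29050 L808973 q28696, e3 q29051 L808985 q28690, e3 q29052 L808993 q28691, e3 q29053 L809008 q28684, e3 q29054 L809018 q28705, e3 q29055 L809036 q28703, trivial⟩ (by decide +kernel)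

theorem ce_g_454 : ∀ r, r < 64 → sm gg (Qf (29056 + r)) = Qf (tab Gen.g (29056 + r)) :=
  edges_tab (sm gg) Qf (tab Gen.g) 29056 [(29056, 28492), (29057, 28493), (29058, 28494), (29059, 27994), (29060, 29916), (29061, 28105), (29062, 29867), (29063, 29868), (29064, 29869), (29065, 29920), (29066, 27999), (29067, 28837), (29068, 29922), (29069, 28002), (29070, 28007), (29071, 28008), (29072, 28009), (29073, 28174), (29074, 29923), (29075, 29924), (29076, 28118), (29077, 28119), (29078, 28164), (29079, 28165), (29080, 28742), (29081, 28519), (29082, 28520), (29083, 28963), (29084, 28521), (29085, 28522), (29086, 28523), (29087, 28960), (29088, 28122), (29089, 28123), (29090, 29941), (29091, 28023), (29092, 28167), (29093, 29943), (29094, 28026), (29095, 28525), (29096, 28526), (29097, 28959), (29098, 28527), (29099, 29948), (29100, 28033), (29101, 28528), (29102, 28529), (29103, 28530), (29104, 28102), (29105, 28438), (29106, 28050), (29107, 28383), (29108, 28384), (29109, 28052), (29110, 29951), (29111, 29863), (29112, 28442),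 (29113, 28443), (29114, 28444), (29115, 28450), (29116, 28435), (29117, 28930), (29118, 28931), (29119, 28932)]
    ⟨e3 q29056 L809046 q28492, e3 q29057 L809058 q28493, e3 q29058 L809076 q28494, e3 q29059 L809086 q27994, e3 q29060 (flp_g L818854) q29916, e3 q29061 L809120 q28105, e3 q29062 (flp_g L818123) q29867, e3 q29063 (flp_g L818139) q29868, e3 q29064 (flp_g L818151) q29869, e3 q29065 L818907 q29920, e3 q29066 (flp_g L809186) q27999, e3 q29067 L809210 q28837, e3 q29068 L818937 q29922, e3 q29069 (flp_g L809230) q28002, e3 q29070 L809250 q28007, e3 q29071 L809264 q28008, e3 q29072 L809274 q28009, e3 q29073 L809298 q28174, e3 q29074 (flp_g L818959) q29923, e3 q29075 (flp_g L818969) q29924, e3 q29076 L809332 q28118, e3 q29077 L809348 q28119, e3 q29078 L809368 q28164, e3 q29079 L809382 q28165, e3 q29080 L809400 q28742, e3 q29081 L809416 q28519, e3 q29082 L809432 q28520, e3 q29083 L809455 q28963, e3 q29084 L809465 q28521, e3 q29085 L809479 q28522, e3 q29086 L809489 q28523, e3 q29087 L809508 q28960, e3 q29088 L809514 q28122,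 e3 q29089 L809526 q28123, e3 q29090 L819218 q29941, e3 q29091 (flp_g L809546) q28023, e3 q29092 L809570 q28167, e3 q29093 L819250 q29943, e3 q29094 (flp_g L809590) q28026, e3 q29095 L809614 q28525, e3 q29096 L809622 q28526, e3 q29097 L809644 q28959, e3 q29098 L809656 q28527, e3 q29099 L819328 q29948, e3 q29100 (flp_g L809670) q28033, e3 q29101 L809694 q28528, e3 q29102 L809702 q28529, e3 q29103 L809714 q28530, e3 q29104 L809729 q28102, e3 q29105 L809745 q28438, e3 q29106 L809761 q28050, e3 q29107 L809777 q28383, e3 q29108 L809793 q28384, e3 q29109 L809809 q28052, e3 q29110 (flp_g L819376) q29951, e3 q29111 (flp_g L818060) q29863, e3 q29112 L809859 q28442, e3 q29113 L809875 q28443, e3 q29114 L809891 q28444, e3 q29115 L809910 q28450, e3 q29116 L809926 q28435, e3 q29117 L809946 q28930, e3 q29118 L809962 q28931, e3 q29119 L809978 q28932, trivial⟩ (by decide +kernel)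

theorem ce_g_455 : ∀ r, r < 64 → sm gg (Qf (29120 + r)) = Qf (tab Gen.g (29120 + r)) :=
  edges_tab (sm gg) Qf (tab Gen.g) 29120 [(29120, 28743), (29121, 28744), (29122, 28745), (29123, 28746), (29124, 28933), (29125, 28400), (29126, 28401), (29127, 28402), (29128, 28375), (29129, 28376), (29130, 28077), (29131, 28558), (29132, 28559), (29133, 29872), (29134, 28549), (29135, 28550), (29136, 29973), (29137, 28795), (29138, 28796), (29139, 29978), (29140, 28972), (29141, 28973), (29142, 29981), (29143, 28087), (29144, 28091), (29145, 28092), (29146, 28399), (29147, 29982), (29148, 29983), (29149, 29984), (29150, 28598), (29151, 28124), (29152, 28782), (29153, 28783), (29154, 28784), (29155, 28990), (29156, 28551), (29157, 28785), (29158, 28786), (29159, 28787), (29160, 29947), (29161, 28948), (29162, 28949), (29163, 28950), (29164, 29915), (29165, 28788), (29166, 30005), (29167, 28108), (29168, 28951), (29169, 28952), (29170, 28672), (29171, 28115), (29172, 28116), (29173, 28352), (29174, 30010), (29175, 30011), (29176, 30012),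 (29177, 29927), (29178, 29928), (29179, 29904), (29180, 29905), (29181, 29906), (29182, 29939), (29183, 29990)]
    ⟨e3 q29120 L809997 q28743, e3 q29121 L810013 q28744, e3 q29122 L810029 q28745, e3 q29123 L810048 q28746, e3 q29124 L810066 q28933, e3 q29125 L810082 q28400, e3 q29126 L810094 q28401, e3 q29127 L810108 q28402, e3 q29128 L810123 q28375, e3 q29129 L810139 q28376, e3 q29130 L810159 q28077, e3 q29131 L810175 q28558, e3 q29132 L810191 q28559, e3 q29133 (flp_g L818211) q29872, e3 q29134 L810221 q28549, e3 q29135 L810237 q28550, e3 q29136 L819725 q29973, e3 q29137 L810266 q28795, e3 q29138 L810282 q28796, e3 q29139 L819803 q29978, e3 q29140 L810309 q28972, e3 q29141 L810321 q28973, e3 q29142 L819844 q29981, e3 q29143 (flp_g L810341) q28087, e3 q29144 L810357 q28091, e3 q29145 L810373 q28092, e3 q29146 L810396 q28399, e3 q29147 (flp_g L819864) q29982, e3 q29148 (flp_g L819880) q29983, e3 q29149 (flp_g L819892) q29984, e3 q29150 L810439 q28598, e3 q29151 L810455 q28124, e3 q29152 L810469 q28782, e3 q29153 L810479 q28783,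 e3 q29154 L810485 q28784, e3 q29155 L810499 q28990, e3 q29156 L810507 q28551, e3 q29157 L810516 q28785, e3 q29158 L810528 q28786, e3 q29159 L810538 q28787, e3 q29160 (flp_g L819322) q29947, e3 q29161 L810563 q28948, e3 q29162 L810573 q28949, e3 q29163 L810581 q28950, e3 q29164 (flp_g L818838) q29915, e3 q29165 L810606 q28788, e3 q29166 L820131 q30005, e3 q29167 (flp_g L810616) q28108, e3 q29168 L810632 q28951, e3 q29169 L810642 q28952, e3 q29170 L810651 q28672, e3 q29171 L810661 q28115, e3 q29172 L810677 q28116, e3 q29173 L810700 q28352, e3 q29174 (flp_g L820189) q30010, e3 q29175 (flp_g L820205) q30011, e3 q29176 (flp_g L820217) q30012, e3 q29177 (flp_g L819017) q29927, e3 q29178 (flp_g L819033) q29928, e3 q29179 (flp_g L818684) q29904, e3 q29180 (flp_g L818700) q29905, e3 q29181 (flp_g L818712) q29906, e3 q29182 (flp_g L819198) q29939, e3 q29183 (flp_g L819980) q29990, trivial⟩ (by decide +kernel)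

theorem ce_g_456 : ∀ r, r < 64 → sm gg (Qf (29184 + r)) = Qf (tab Gen.g (29184 + r)) :=
  edges_tab (sm gg) Qf (tab Gen.g) 29184 [(29184, 28128), (29185, 28129), (29186, 29900), (29187, 30021), (29188, 28946), (29189, 28829), (29190, 28805), (29191, 28806), (29192, 28807), (29193, 28809), (29194, 28585), (29195, 28811), (29196, 28812), (29197, 28813), (29198, 28814), (29199, 28815), (29200, 28846), (29201, 28847), (29202, 28852), (29203, 28953), (29204, 28954), (29205, 28149), (29206, 28674), (29207, 28671), (29208, 28498), (29209, 28311), (29210, 28312), (29211, 28159), (29212, 28160), (29213, 28161), (29214, 28356), (29215, 30040), (29216, 30041), (29217, 30044), (29218, 28810), (29219, 28460), (29220, 29929), (29221, 28201), (29222, 30051), (29223, 28168), (29224, 28196), (29225, 28197), (29226, 28175), (29227, 29925), (29228, 28947), (29229, 28942), (29230, 28536), (29231, 28199), (29232, 28848), (29233, 28849), (29234, 28850), (29235, 28459), (29236, 28861), (29237, 30056), (29238, 28190), (29239, 28505), (29240, 28194),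 (29241, 30052), (29242, 28602), (29243, 30050), (29244, 28865), (29245, 28274), (29246, 28254), (29247, 28392)]
    ⟨e3 q29184 L810838 q28128, e3 q29185 L810852 q28129, e3 q29186 (flp_g L818632) q29900, e3 q29187 (flp_g L820343) q30021, e3 q29188 L810888 q28946, e3 q29189 L810906 q28829, e3 q29190 L810920 q28805, e3 q29191 L810936 q28806, e3 q29192 L810952 q28807, e3 q29193 L810971 q28809, e3 q29194 L810987 q28585, e3 q29195 L811005 q28811, e3 q29196 L811021 q28812, e3 q29197 L811037 q28813, e3 q29198 L811052 q28814, e3 q29199 L811060 q28815, e3 q29200 (flp_g L811076) q28846, e3 q29201 (flp_g L811089) q28847, e3 q29202 (flp_g L811103) q28852, e3 q29203 L811113 q28953, e3 q29204 L811129 q28954, e3 q29205 L811149 q28149, e3 q29206 L811165 q28674, e3 q29207 L811181 q28671, e3 q29208 L811191 q28498, e3 q29209 L811203 q28311, e3 q29210 L811219 q28312, e3 q29211 L811237 q28159, e3 q29212 L811249 q28160, e3 q29213 L811257 q28161, e3 q29214 L811274 q28356, e3 q29215 (flp_g L820620) q30040, e3 q29216 (flp_g L820628) q30041, e3 q29217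 (flp_g L820670) q30044, e3 q29218 L811313 q28810, e3 q29219 L811329 q28460, e3 q29220 (flp_g L819053) q29929, e3 q29221 L811367 q28201, e3 q29222 L820752 q30051, e3 q29223 (flp_g L811381) q28168, e3 q29224 L811399 q28196, e3 q29225 L811415 q28197, e3 q29226 L811435 q28175, e3 q29227 (flp_g L818993) q29925, e3 q29228 L811459 q28947, e3 q29229 L811473 q28942, e3 q29230 L811493 q28536, e3 q29231 L811511 q28199, e3 q29232 L811527 q28848, e3 q29233 L811543 q28849, e3 q29234 L811561 q28850, e3 q29235 L811583 q28459, e3 q29236 L811591 q28861, e3 q29237 L820840 q30056, e3 q29238 (flp_g L811617) q28190, e3 q29239 L811645 q28505, e3 q29240 (flp_g L811655) q28194, e3 q29241 (flp_g L820774) q30052, e3 q29242 L811689 q28602, e3 q29243 (flp_g L820750) q30050, e3 q29244 L811713 q28865, e3 q29245 L811727 q28274, e3 q29246 L811747 q28254, e3 q29247 L811765 q28392, trivial⟩ (by decide +kernel)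

theorem ce_g_457 : ∀ r, r < 64 → sm gg (Qf (29248 + r)) = Qf (tab Gen.g (29248 + r)) :=
  edges_tab (sm gg) Qf (tab Gen.g) 29248 [(29248, 28393), (29249, 28731), (29250, 28732), (29251, 28213), (29252, 28867), (29253, 28908), (29254, 28436), (29255, 28437), (29256, 28427), (29257, 28445), (29258, 28446), (29259, 28366), (29260, 28448), (29261, 28449), (29262, 28593), (29263, 28914), (29264, 28915), (29265, 28637), (29266, 28340), (29267, 28341), (29268, 28872), (29269, 28873), (29270, 28874), (29271, 28372), (29272, 28876), (29273, 28378), (29274, 28239), (29275, 28240), (29276, 30078), (29277, 28368), (29278, 28379), (29279, 28888), (29280, 29861), (29281, 28251), (29282, 28911), (29283, 28371), (29284, 28377), (29285, 28881), (29286, 28882), (29287, 28890), (29288, 28431), (29289, 28758), (29290, 28759), (29291, 30086), (29292, 28675), (29293, 28676), (29294, 30091), (29295, 28764), (29296, 28765), (29297, 30094), (29298, 28268), (29299, 28752), (29300, 28753), (29301, 28754), (29302, 28367), (29303, 28342), (29304, 28343),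 (29305, 28894), (29306, 28895), (29307, 28896), (29308, 28403), (29309, 28422), (29310, 28897), (29311, 28418)]
    ⟨e3 q29248 L811779 q28393, e3 q29249 L811797 q28731, e3 q29250 L811813 q28732, e3 q29251 L811835 q28213, e3 q29252 L811853 q28867, e3 q29253 L811871 q28908, e3 q29254 L811887 q28436, e3 q29255 L811903 q28437, e3 q29256 L811926 q28427, e3 q29257 L811934 q28445, e3 q29258 L811950 q28446, e3 q29259 L811973 q28366, e3 q29260 L811979 q28448, e3 q29261 L811989 q28449, e3 q29262 L812005 q28593, e3 q29263 L812013 q28914, e3 q29264 L812027 q28915, e3 q29265 L812041 q28637, e3 q29266 L812056 q28340, e3 q29267 L812072 q28341, e3 q29268 L812090 q28872, e3 q29269 L812104 q28873, e3 q29270 L812114 q28874, e3 q29271 (flp_g L812137) q28372, e3 q29272 L812143 q28876, e3 q29273 (flp_g L812163) q28378, e3 q29274 L812173 q28239, e3 q29275 L812189 q28240, e3 q29276 (flp_g L821195) q30078, e3 q29277 L812215 q28368, e3 q29278 L812235 q28379, e3 q29279 L812249 q28888, e3 q29280 (flp_g L818022) q29861, e3 q29281 L812285 q28251, e3 q29282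 L812303 q28911, e3 q29283 L812317 q28371, e3 q29284 L812335 q28377, e3 q29285 L812349 q28881, e3 q29286 L812363 q28882, e3 q29287 L812381 q28890, e3 q29288 L812395 q28431, e3 q29289 L812411 q28758, e3 q29290 L812427 q28759, e3 q29291 L821324 q30086, e3 q29292 L812456 q28675, e3 q29293 L812472 q28676, e3 q29294 L821400 q30091, e3 q29295 L812501 q28764, e3 q29296 L812515 q28765, e3 q29297 L821445 q30094, e3 q29298 (flp_g L812535) q28268, e3 q29299 L812555 q28752, e3 q29300 L812569 q28753, e3 q29301 L812583 q28754, e3 q29302 L812596 q28367, e3 q29303 L812614 q28342, e3 q29304 L812628 q28343, e3 q29305 L812642 q28894, e3 q29306 L812654 q28895, e3 q29307 L812664 q28896, e3 q29308 L812681 q28403, e3 q29309 L812693 q28422, e3 q29310 L812709 q28897, e3 q29311 L812727 q28418, trivial⟩ (by decide +kernel)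

theorem ce_g_458 : ∀ r, r < 64 → sm gg (Qf (29312 + r)) = Qf (tab Gen.g (29312 + r)) :=
  edges_tab (sm gg) Qf (tab Gen.g) 29312 [(29312, 29857), (29313, 28891), (29314, 28884), (29315, 28880), (29316, 28291), (29317, 28380), (29318, 28301), (29319, 28868), (29320, 28905), (29321, 28877), (29322, 28360), (29323, 28875), (29324, 30107), (29325, 29858), (29326, 29859), (29327, 29860), (29328, 28871), (29329, 28497), (29330, 28503), (29331, 28504), (29332, 28864), (29333, 30037), (29334, 30038), (29335, 30039), (29336, 28825), (29337, 28826), (29338, 28701), (29339, 30126), (29340, 28316), (29341, 28650), (29342, 28677), (29343, 28828), (29344, 28830), (29345, 28831), (29346, 28832), (29347, 30132), (29348, 28323), (29349, 28816), (29350, 28817), (29351, 28818), (29352, 30138), (29353, 28326), (29354, 28840), (29355, 30140), (29356, 28329), (29357, 28429), (29358, 28822), (29359, 28823), (29360, 28824), (29361, 28483), (29362, 28484), (29363, 28500), (29364, 28501), (29365, 28502), (29366, 30072), (29367, 30098), (29368, 28452),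 (29369, 28453), (29370, 28454), (29371, 28365), (29372, 28899), (29373, 28364), (29374, 28900), (29375, 28901)]
    ⟨e3 q29312 (flp_g L817950) q29857, e3 q29313 L812743 q28891, e3 q29314 L812763 q28884, e3 q29315 L812778 q28880, e3 q29316 L812792 q28291, e3 q29317 L812808 q28380, e3 q29318 L812818 q28301, e3 q29319 L812846 q28868, e3 q29320 L812854 q28905, e3 q29321 L812862 q28877, e3 q29322 L812888 q28360, e3 q29323 L812900 q28875, e3 q29324 (flp_g L821635) q30107, e3 q29325 (flp_g L817970) q29858, e3 q29326 (flp_g L817990) q29859, e3 q29327 (flp_g L818008) q29860, e3 q29328 L812961 q28871, e3 q29329 L812973 q28497, e3 q29330 L812989 q28503, e3 q29331 L813005 q28504, e3 q29332 L813017 q28864, e3 q29333 (flp_g L820569) q30037, e3 q29334 (flp_g L820585) q30038, e3 q29335 (flp_g L820601) q30039, e3 q29336 L813062 q28825, e3 q29337 L813072 q28826, e3 q29338 L813078 q28701, e3 q29339 L821892 q30126, e3 q29340 (flp_g L813092) q28316, e3 q29341 L813114 q28650, e3 q29342 L813122 q28677, e3 q29343 L813131 q28828, e3 q29344 L813145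 q28830, e3 q29345 L813153 q28831, e3 q29346 L813159 q28832, e3 q29347 L821949 q30132, e3 q29348 (flp_g L813170) q28323, e3 q29349 L813183 q28816, e3 q29350 L813191 q28817, e3 q29351 L813197 q28818, e3 q29352 L822001 q30138, e3 q29353 (flp_g L813212) q28326, e3 q29354 L813225 q28840, e3 q29355 L822017 q30140, e3 q29356 (flp_g L813235) q28329, e3 q29357 L813257 q28429, e3 q29358 L813265 q28822, e3 q29359 L813275 q28823, e3 q29360 L813284 q28824, e3 q29361 L813294 q28483, e3 q29362 L813310 q28484, e3 q29363 L813324 q28500, e3 q29364 L813338 q28501, e3 q29365 L813348 q28502, e3 q29366 (flp_g L821098) q30072, e3 q29367 (flp_g L821506) q30098, e3 q29368 L813383 q28452, e3 q29369 L813397 q28453, e3 q29370 L813407 q28454, e3 q29371 L813432 q28365, e3 q29372 L813442 q28899, e3 q29373 L813464 q28364, e3 q29374 L813468 q28900, e3 q29375 L813478 q28901, trivial⟩ (by decide +kernel)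

theorem ce_g_459 : ∀ r, r < 64 → sm gg (Qf (29376 + r)) = Qf (tab Gen.g (29376 + r)) :=
  edges_tab (sm gg) Qf (tab Gen.g) 29376 [(29376, 28902), (29377, 30013), (29378, 28903), (29379, 28904), (29380, 30042), (29381, 30043), (29382, 28898), (29383, 30110), (29384, 28363), (29385, 30153), (29386, 30152), (29387, 30067), (29388, 30079), (29389, 28470), (29390, 28471), (29391, 30080), (29392, 30075), (29393, 30076), (29394, 28924), (29395, 28925), (29396, 29965), (29397, 30077), (29398, 28456), (29399, 29952), (29400, 29953), (29401, 29954), (29402, 28419), (29403, 28464), (29404, 28465), (29405, 28426), (29406, 28910), (29407, 28425), (29408, 30058), (29409, 28417), (29410, 28424), (29411, 29864), (29412, 29865), (29413, 29866), (29414, 29985), (29415, 29962), (29416, 29963), (29417, 30101), (29418, 30102), (29419, 29964), (29420, 28912), (29421, 28798), (29422, 30192), (29423, 30141), (29424, 28407), (29425, 28827), (29426, 30194), (29427, 30196), (29428, 28411), (29429, 30197), (29430, 28412), (29431, 28416), (29432, 30176),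 (29433, 30103), (29434, 30172), (29435, 30063), (29436, 28420), (29437, 30175), (29438, 30174), (29439, 28430)]
    ⟨e3 q29376 L813486 q28902, e3 q29377 (flp_g L820240) q30013, e3 q29378 L813503 q28903, e3 q29379 L813511 q28904, e3 q29380 (flp_g L820644) q30042, e3 q29381 (flp_g L820657) q30043, e3 q29382 L813532 q28898, e3 q29383 (flp_g L821701) q30110, e3 q29384 L813548 q28363, e3 q29385 (flp_g L822195) q30153, e3 q29386 (flp_g L822177) q30152, e3 q29387 (flp_g L821038) q30067, e3 q29388 (flp_g L821215) q30079, e3 q29389 L813602 q28470, e3 q29390 L813618 q28471, e3 q29391 (flp_g L821235) q30080, e3 q29392 L821150 q30075, e3 q29393 (flp_g L821165) q30076, e3 q29394 L813661 q28924, e3 q29395 L813675 q28925, e3 q29396 (flp_g L819606) q29965, e3 q29397 L821185 q30077, e3 q29398 L813707 q28456, e3 q29399 (flp_g L819394) q29952, e3 q29400 (flp_g L819410) q29953, e3 q29401 (flp_g L819426) q29954, e3 q29402 L813762 q28419, e3 q29403 L813770 q28464, e3 q29404 L813782 q28465, e3 q29405 L813800 q28426, e3 q29406 L813808 q28910, e3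 q29407 L813828 q28425, e3 q29408 (flp_g L820880) q30058, e3 q29409 L813858 q28417, e3 q29410 L813870 q28424, e3 q29411 (flp_g L818074) q29864, e3 q29412 (flp_g L818090) q29865, e3 q29413 (flp_g L818106) q29866, e3 q29414 (flp_g L819917) q29985, e3 q29415 (flp_g L819563) q29962, e3 q29416 (flp_g L819577) q29963, e3 q29417 (flp_g L821548) q30101, e3 q29418 (flp_g L821561) q30102, e3 q29419 (flp_g L819592) q29964, e3 q29420 L813937 q28912, e3 q29421 L813945 q28798, e3 q29422 L822561 q30192, e3 q29423 (flp_g L822039) q30141, e3 q29424 (flp_g L813971) q28407, e3 q29425 L813987 q28827, e3 q29426 L822587 q30194, e3 q29427 L822611 q30196, e3 q29428 (flp_g L814013) q28411, e3 q29429 L822625 q30197, e3 q29430 (flp_g L814037) q28412, e3 q29431 L814057 q28416, e3 q29432 (flp_g L822438) q30176, e3 q29433 (flp_g L821579) q30103, e3 q29434 (flp_g L822378) q30172, e3 q29435 (flp_g L820971) q30063, e3 q29436 (flp_g L814091) q28420, e3 q29437 (flp_g L822420) q30175, e3 q29438 (flp_g L822406) q30174, e3 q29439 L814119 q28430, trivial⟩ (by decide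 +kernel)

theorem ce_g_460 : ∀ r, r < 64 → sm gg (Qf (29440 + r)) = Qf (tab Gen.g (29440 + r)) :=
  edges_tab (sm gg) Qf (tab Gen.g) 29440 [(29440, 28780), (29441, 30060), (29442, 30061), (29443, 30062), (29444, 28455), (29445, 28663), (29446, 29956), (29447, 29957), (29448, 30064), (29449, 30065), (29450, 30066), (29451, 30068), (29452, 30150), (29453, 30151), (29454, 29862), (29455, 30049), (29456, 28640), (29457, 30173), (29458, 28934), (29459, 28935), (29460, 30165), (29461, 30166), (29462, 30033), (29463, 29878), (29464, 29879), (29465, 29880), (29466, 30221), (29467, 28475), (29468, 28936), (29469, 30223), (29470, 28478), (29471, 29886), (29472, 29887), (29473, 29888), (29474, 30146), (29475, 30147), (29476, 30003), (29477, 28489), (29478, 28490), (29479, 28491), (29480, 28887), (29481, 30229), (29482, 30230), (29483, 30232), (29484, 29913), (29485, 29914), (29486, 28496), (29487, 30115), (29488, 30036), (29489, 30009), (29490, 30148), (29491, 30149), (29492, 30116), (29493, 30117), (29494, 30118), (29495, 28508), (29496,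 28509), (29497, 28510), (29498, 30242), (29499, 30243), (29500, 28515), (29501, 28516), (29502, 28889), (29503, 30245)]
    ⟨e3 q29440 L814134 q28780, e3 q29441 (flp_g L820918) q30060, e3 q29442 (flp_g L820934) q30061, e3 q29443 (flp_g L820946) q30062, e3 q29444 L814185 q28455, e3 q29445 L814199 q28663, e3 q29446 (flp_g L819463) q29956, e3 q29447 (flp_g L819479) q29957, e3 q29448 (flp_g L820981) q30064, e3 q29449 (flp_g L820997) q30065, e3 q29450 (flp_g L821009) q30066, e3 q29451 (flp_g L821046) q30068, e3 q29452 (flp_g L822143) q30150, e3 q29453 (flp_g L822153) q30151, e3 q29454 (flp_g L818044) q29862, e3 q29455 (flp_g L820720) q30049, e3 q29456 L814334 q28640, e3 q29457 (flp_g L822386) q30173, e3 q29458 L814354 q28934, e3 q29459 L814368 q28935, e3 q29460 (flp_g L822288) q30165, e3 q29461 (flp_g L822304) q30166, e3 q29462 (flp_g L820507) q30033, e3 q29463 (flp_g L818299) q29878, e3 q29464 (flp_g L818315) q29879, e3 q29465 (flp_g L818327) q29880, e3 q29466 L822907 q30221, e3 q29467 (flp_g L814458) q28475, e3 q29468 L814479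 q28936, e3 q29469 L822933 q30223, e3 q29470 (flp_g L814499) q28478, e3 q29471 (flp_g L818411) q29886, e3 q29472 (flp_g L818425) q29887, e3 q29473 (flp_g L818436) q29888, e3 q29474 (flp_g L822087) q30146, e3 q29475 (flp_g L822103) q30147, e3 q29476 (flp_g L820115) q30003, e3 q29477 L814587 q28489, e3 q29478 L814597 q28490, e3 q29479 L814605 q28491, e3 q29480 L814621 q28887, e3 q29481 (flp_g L823004) q30229, e3 q29482 (flp_g L823012) q30230, e3 q29483 (flp_g L823034) q30232, e3 q29484 (flp_g L818808) q29913, e3 q29485 (flp_g L818826) q29914, e3 q29486 L814685 q28496, e3 q29487 (flp_g L821767) q30115, e3 q29488 (flp_g L820555) q30036, e3 q29489 (flp_g L820175) q30009, e3 q29490 (flp_g L822119) q30148, e3 q29491 (flp_g L822129) q30149, e3 q29492 (flp_g L821785) q30116, e3 q29493 (flp_g L821801) q30117, e3 q29494 (flp_g L821813) q30118, e3 q29495 L814796 q28508, e3 q29496 L814808 q28509, e3 q29497 L814816 q28510, e3 q29498 (flp_g L823155) q30242, e3 q29499 (flp_g L823163) q30243, e3 q29500 L814856 q28515, e3 q29501 L814862 q28516,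 e3 q29502 L814870 q28889, e3 q29503 (flp_g L823189) q30245, trivial⟩ (by decide +kernel)

theorem ce_g_461 : ∀ r, r < 64 → sm gg (Qf (29504 + r)) = Qf (tab Gen.g (29504 + r)) :=
  edges_tab (sm gg) Qf (tab Gen.g) 29504 [(29504, 28639), (29505, 29930), (29506, 29931), (29507, 29932), (29508, 29934), (29509, 29935), (29510, 29938), (29511, 29944), (29512, 29946), (29513, 29949), (29514, 29950), (29515, 28599), (29516, 28955), (29517, 28956), (29518, 28957), (29519, 28539), (29520, 28540), (29521, 28541), (29522, 30257), (29523, 30258), (29524, 30259), (29525, 28939), (29526, 28940), (29527, 28757), (29528, 30268), (29529, 28544), (29530, 28724), (29531, 28941), (29532, 29969), (29533, 29970), (29534, 29971), (29535, 29994), (29536, 28943), (29537, 28944), (29538, 30275), (29539, 28725), (29540, 28555), (29541, 28618), (29542, 29966), (29543, 29967), (29544, 28945), (29545, 28565), (29546, 28566), (29547, 28567), (29548, 30283), (29549, 28564), (29550, 30278), (29551, 30279), (29552, 30289), (29553, 30137), (29554, 30282), (29555,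 28568), (29556, 30290), (29557, 28571), (29558, 28576), (29559, 28577), (29560, 28578), (29561, 30291), (29562, 30292), (29563, 30293), (29564, 30294), (29565, 28582), (29566, 28583), (29567, 28584)]
    ⟨e3 q29504 L814890 q28639, e3 q29505 (flp_g L819071) q29930, e3 q29506 (flp_g L819087) q29931, e3 q29507 (flp_g L819099) q29932, e3 q29508 (flp_g L819132) q29934, e3 q29509 (flp_g L819142) q29935, e3 q29510 (flp_g L819186) q29938, e3 q29511 (flp_g L819272) q29944, e3 q29512 (flp_g L819308) q29946, e3 q29513 (flp_g L819354) q29949, e3 q29514 (flp_g L819364) q29950, e3 q29515 L814998 q28599, e3 q29516 L815014 q28955, e3 q29517 L815028 q28956, e3 q29518 L815038 q28957, e3 q29519 L815051 q28539, e3 q29520 L815059 q28540, e3 q29521 L815065 q28541, e3 q29522 (flp_g L823303) q30257, e3 q29523 (flp_g L823311) q30258, e3 q29524 (flp_g L823320) q30259, e3 q29525 L815097 q28939, e3 q29526 L815111 q28940, e3 q29527 L815121 q28757, e3 q29528 (flp_g L823410) q30268, e3 q29529 (flp_g L815137) q28544, e3 q29530 L815163 q28724, e3 q29531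 L815173 q28941, e3 q29532 (flp_g L819672) q29969, e3 q29533 (flp_g L819688) q29970, e3 q29534 (flp_g L819700) q29971, e3 q29535 (flp_g L820024) q29994, e3 q29536 L815226 q28943, e3 q29537 L815232 q28944, e3 q29538 (flp_g L823482) q30275, e3 q29539 L815250 q28725, e3 q29540 L815260 q28555, e3 q29541 L815270 q28618, e3 q29542 (flp_g L819626) q29966, e3 q29543 (flp_g L819642) q29967, e3 q29544 L815313 q28945, e3 q29545 L815327 q28565, e3 q29546 L815335 q28566, e3 q29547 L815341 q28567, e3 q29548 L823556 q30283, e3 q29549 (flp_g L815356) q28564, e3 q29550 (flp_g L823516) q30278, e3 q29551 (flp_g L823524) q30279, e3 q29552 L823603 q30289, e3 q29553 (flp_g L821997) q30137, e3 q29554 (flp_g L823552) q30282, e3 q29555 (flp_g L815399) q28568, e3 q29556 L823609 q30290, e3 q29557 (flp_g L815409) q28571, e3 q29558 L815423 q28576, e3 q29559 L815433 q28577, e3 q29560 L815442 q28578, e3 q29561 (flp_g L823621) q30291, e3 q29562 (flp_g L823627) q30292, e3 q29563 (flp_g L823640) q30293, e3 q29564 (flp_g L823651) q30294, e3 q29565 L815474 q28582,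 e3 q29566 L815484 q28583, e3 q29567 L815492 q28584, trivial⟩ (by decide +kernel)

theorem ce_g_462 : ∀ r, r < 64 → sm gg (Qf (29568 + r)) = Qf (tab Gen.g (29568 + r)) :=
  edges_tab (sm gg) Qf (tab Gen.g) 29568 [(29568, 30299), (29569, 30300), (29570, 28858), (29571, 28587), (29572, 28603), (29573, 28604), (29574, 28605), (29575, 28594), (29576, 28595), (29577, 30069), (29578, 28596), (29579, 30306), (29580, 30308), (29581, 30309), (29582, 30310), (29583, 29989), (29584, 30304), (29585, 30305), (29586, 30276), (29587, 28609), (29588, 28611), (29589, 28612), (29590, 28704), (29591, 30316), (29592, 28706), (29593, 30317), (29594, 28616), (29595, 28617), (29596, 28692), (29597, 28707), (29598, 28626), (29599, 28627), (29600, 28628), (29601, 30323), (29602, 30324), (29603, 28857), (29604, 28856), (29605, 28635), (29606, 28636), (29607, 30328), (29608, 30329), (29609, 30071), (29610, 30210), (29611, 28644), (29612, 28645), (29613, 28646), (29614, 28845), (29615, 30333), (29616, 30334), (29617, 30162), (29618, 28699), (29619, 28700),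 (29620, 30124), (29621, 28655), (29622, 28656), (29623, 28862), (29624, 28794), (29625, 28657), (29626, 30341), (29627, 30344), (29628, 30346), (29629, 28708), (29630, 28709), (29631, 28665)]
    ⟨e3 q29568 (flp_g L823686) q30299, e3 q29569 (flp_g L823696) q30300, e3 q29570 L815526 q28858, e3 q29571 L815542 q28587, e3 q29572 L815558 q28603, e3 q29573 L815570 q28604, e3 q29574 L815578 q28605, e3 q29575 L815592 q28594, e3 q29576 L815600 q28595, e3 q29577 (flp_g L821060) q30069, e3 q29578 L815618 q28596, e3 q29579 (flp_g L823765) q30306, e3 q29580 (flp_g L823781) q30308, e3 q29581 (flp_g L823797) q30309, e3 q29582 (flp_g L823805) q30310, e3 q29583 (flp_g L819964) q29989, e3 q29584 (flp_g L823741) q30304, e3 q29585 (flp_g L823751) q30305, e3 q29586 (flp_g L823492) q30276, e3 q29587 L815724 q28609, e3 q29588 L815742 q28611, e3 q29589 L815752 q28612, e3 q29590 L815764 q28704, e3 q29591 (flp_g L823881) q30316, e3 q29592 L815788 q28706, e3 q29593 (flp_g L823893) q30317, e3 q29594 L815804 q28616, e3 q29595 L815817 q28617, e3 q29596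 L815825 q28692, e3 q29597 L815838 q28707, e3 q29598 L815850 q28626, e3 q29599 L815862 q28627, e3 q29600 L815870 q28628, e3 q29601 (flp_g L823958) q30323, e3 q29602 (flp_g L823968) q30324, e3 q29603 (flp_g L815905) q28857, e3 q29604 L815923 q28856, e3 q29605 L815929 q28635, e3 q29606 L815935 q28636, e3 q29607 (flp_g L824011) q30328, e3 q29608 (flp_g L824015) q30329, e3 q29609 (flp_g L821084) q30071, e3 q29610 (flp_g L822779) q30210, e3 q29611 L815972 q28644, e3 q29612 L815984 q28645, e3 q29613 L815992 q28646, e3 q29614 L816003 q28845, e3 q29615 (flp_g L824051) q30333, e3 q29616 (flp_g L824061) q30334, e3 q29617 (flp_g L822256) q30162, e3 q29618 L816042 q28699, e3 q29619 L816054 q28700, e3 q29620 (flp_g L821880) q30124, e3 q29621 L816072 q28655, e3 q29622 L816078 q28656, e3 q29623 L816092 q28862, e3 q29624 L816102 q28794, e3 q29625 L816110 q28657, e3 q29626 (flp_g L824121) q30341, e3 q29627 (flp_g L824153) q30344, e3 q29628 (flp_g L824169) q30346, e3 q29629 L816150 q28708, e3 q29630 L816160 q28709, e3 q29631 L816170 q28665,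 trivial⟩ (by decide +kernel)

theorem ce_g_463 : ∀ r, r < 64 → sm gg (Qf (29632 + r)) = Qf (tab Gen.g (29632 + r)) :=
  edges_tab (sm gg) Qf (tab Gen.g) 29632 [(29632, 30203), (29633, 28666), (29634, 28667), (29635, 28668), (29636, 30350), (29637, 30351), (29638, 30274), (29639, 30352), (29640, 28670), (29641, 30035), (29642, 30008), (29643, 30087), (29644, 30088), (29645, 30089), (29646, 30125), (29647, 28685), (29648, 28686), (29649, 28687), (29650, 29907), (29651, 28688), (29652, 28689), (29653, 29910), (29654, 29911), (29655, 30361), (29656, 30362), (29657, 30365), (29658, 30366), (29659, 29908), (29660, 30368), (29661, 29909), (29662, 30320), (29663, 29875), (29664, 30322), (29665, 28797), (29666, 29873), (29667, 29874), (29668, 30339), (29669, 30122), (29670, 29912), (29671, 30318), (29672, 30321), (29673, 30349), (29674, 28714), (29675, 28716), (29676, 28781), (29677, 28863), (29678, 30384), (29679, 28821), (29680, 28791), (29681, 28719), (29682, 28723), (29683, 30388), (29684, 30267), (29685, 28779), (29686, 28751),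 (29687, 28819), (29688, 30059), (29689, 28937), (29690, 28938), (29691, 28738), (29692, 29883), (29693, 29960), (29694, 29961), (29695, 28755)]
    ⟨e3 q29632 (flp_g L822695) q30203, e3 q29633 L816178 q28666, e3 q29634 L816190 q28667, e3 q29635 L816196 q28668, e3 q29636 (flp_g L824209) q30350, e3 q29637 (flp_g L824219) q30351, e3 q29638 (flp_g L823470) q30274, e3 q29639 (flp_g L824225) q30352, e3 q29640 L816238 q28670, e3 q29641 (flp_g L820545) q30035, e3 q29642 (flp_g L820162) q30008, e3 q29643 (flp_g L821349) q30087, e3 q29644 (flp_g L821365) q30088, e3 q29645 (flp_g L821377) q30089, e3 q29646 (flp_g L821890) q30125, e3 q29647 L816307 q28685, e3 q29648 L816315 q28686, e3 q29649 L816321 q28687, e3 q29650 (flp_g L818737) q29907, e3 q29651 L816338 q28688, e3 q29652 L816346 q28689, e3 q29653 (flp_g L818769) q29910, e3 q29654 (flp_g L818782) q29911, e3 q29655 (flp_g L824306) q30361, e3 q29656 (flp_g L824314) q30362, e3 q29657 (flp_g L824336) q30365, e3 q29658 (flp_g L824342) q30366, e3 q29659 (flp_g L818747) q29908, e3 q29660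 (flp_g L824354) q30368, e3 q29661 (flp_g L818755) q29909, e3 q29662 (flp_g L823925) q30320, e3 q29663 (flp_g L818249) q29875, e3 q29664 (flp_g L823950) q30322, e3 q29665 L816437 q28797, e3 q29666 (flp_g L818221) q29873, e3 q29667 (flp_g L818237) q29874, e3 q29668 (flp_g L824101) q30339, e3 q29669 (flp_g L821856) q30122, e3 q29670 (flp_g L818798) q29912, e3 q29671 (flp_g L823907) q30318, e3 q29672 (flp_g L823939) q30321, e3 q29673 (flp_g L824199) q30349, e3 q29674 L816529 q28714, e3 q29675 L816539 q28716, e3 q29676 L816547 q28781, e3 q29677 L816559 q28863, e3 q29678 (flp_g L824487) q30384, e3 q29679 L816571 q28821, e3 q29680 L816577 q28791, e3 q29681 L816585 q28719, e3 q29682 L816593 q28723, e3 q29683 (flp_g L824519) q30388, e3 q29684 (flp_g L823398) q30267, e3 q29685 L816627 q28779, e3 q29686 L816635 q28751, e3 q29687 L816645 q28819, e3 q29688 (flp_g L820898) q30059, e3 q29689 L816669 q28937, e3 q29690 L816683 q28938, e3 q29691 L816695 q28738, e3 q29692 (flp_g L818373) q29883, e3 q29693 (flp_g L819531) q29960, e3 q29694 (flp_g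 L819547) q29961, e3 q29695 L816733 q28755, trivial⟩ (by decide +kernel)

theorem ce_g_464 : ∀ r, r < 64 → sm gg (Qf (29696 + r)) = Qf (tab Gen.g (29696 + r)) :=
  edges_tab (sm gg) Qf (tab Gen.g) 29696 [(29696, 28756), (29697, 28766), (29698, 30390), (29699, 30095), (29700, 30096), (29701, 30097), (29702, 30395), (29703, 30265), (29704, 30082), (29705, 30083), (29706, 30084), (29707, 28995), (29708, 30405), (29709, 28762), (29710, 30092), (29711, 30406), (29712, 28767), (29713, 28982), (29714, 28983), (29715, 28989), (29716, 28988), (29717, 28975), (29718, 28976), (29719, 30385), (29720, 29991), (29721, 29992), (29722, 29995), (29723, 29996), (29724, 28801), (29725, 28802), (29726, 28803), (29727, 30345), (29728, 28804), (29729, 30343), (29730, 29974), (29731, 29975), (29732, 29976), (29733, 30189), (29734, 29889), (29735, 29890), (29736, 29891), (29737, 30414), (29738, 30415), (29739, 30025), (29740, 30026), (29741, 30027), (29742, 30028), (29743, 30029), (29744, 30031), (29745, 30133), (29746, 30134), (29747, 30387), (29748,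 30386), (29749, 30142), (29750, 30143), (29751, 30144), (29752, 30145), (29753, 30121), (29754, 30127), (29755, 30024), (29756, 29988), (29757, 30128), (29758, 30129), (29759, 29894)]
    ⟨e3 q29696 L816747 q28756, e3 q29697 L816759 q28766, e3 q29698 (flp_g L824541) q30390, e3 q29699 (flp_g L821467) q30095, e3 q29700 (flp_g L821481) q30096, e3 q29701 (flp_g L821492) q30097, e3 q29702 (flp_g L824593) q30395, e3 q29703 (flp_g L823372) q30265, e3 q29704 (flp_g L821271) q30082, e3 q29705 (flp_g L821287) q30083, e3 q29706 (flp_g L821299) q30084, e3 q29707 L816855 q28995, e3 q29708 L824685 q30405, e3 q29709 (flp_g L816873) q28762, e3 q29710 (flp_g L821425) q30092, e3 q29711 L824695 q30406, e3 q29712 (flp_g L816907) q28767, e3 q29713 L816919 q28982, e3 q29714 L816927 q28983, e3 q29715 L816937 q28989, e3 q29716 L816947 q28988, e3 q29717 L816955 q28975, e3 q29718 L816963 q28976, e3 q29719 (flp_g L824499) q30385, e3 q29720 (flp_g L819994) q29991, e3 q29721 (flp_g L820002) q29992, e3 q29722 (flp_g L820034) q29995, e3 q29723 (flp_g L820044)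 q29996, e3 q29724 L817021 q28801, e3 q29725 L817029 q28802, e3 q29726 L817035 q28803, e3 q29727 (flp_g L824161) q30345, e3 q29728 L817052 q28804, e3 q29729 (flp_g L824145) q30343, e3 q29730 (flp_g L819750) q29974, e3 q29731 (flp_g L819766) q29975, e3 q29732 (flp_g L819778) q29976, e3 q29733 (flp_g L822535) q30189, e3 q29734 (flp_g L818448) q29889, e3 q29735 (flp_g L818464) q29890, e3 q29736 (flp_g L818476) q29891, e3 q29737 (flp_g L824771) q30414, e3 q29738 (flp_g L824779) q30415, e3 q29739 (flp_g L820401) q30025, e3 q29740 (flp_g L820417) q30026, e3 q29741 (flp_g L820435) q30027, e3 q29742 (flp_g L820451) q30028, e3 q29743 (flp_g L820465) q30029, e3 q29744 (flp_g L820487) q30031, e3 q29745 (flp_g L821961) q30133, e3 q29746 (flp_g L821969) q30134, e3 q29747 (flp_g L824513) q30387, e3 q29748 (flp_g L824507) q30386, e3 q29749 (flp_g L822045) q30142, e3 q29750 (flp_g L822051) q30143, e3 q29751 (flp_g L822064) q30144, e3 q29752 (flp_g L822075) q30145, e3 q29753 (flp_g L821848) q30121, e3 q29754 (flp_g L821912) q30127, e3 q29755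 (flp_g L820387) q30024, e3 q29756 (flp_g L819948) q29988, e3 q29757 (flp_g L821926) q30128, e3 q29758 (flp_g L821934) q30129, e3 q29759 (flp_g L818530) q29894, trivial⟩ (by decide +kernel)

theorem ce_g_465 : ∀ r, r < 64 → sm gg (Qf (29760 + r)) = Qf (tab Gen.g (29760 + r)) :=
  edges_tab (sm gg) Qf (tab Gen.g) 29760 [(29760, 30441), (29761, 28835), (29762, 30442), (29763, 28838), (29764, 28841), (29765, 28958), (29766, 30030), (29767, 30032), (29768, 30055), (29769, 28859), (29770, 28860), (29771, 30326), (29772, 30303), (29773, 30445), (29774, 30446), (29775, 30342), (29776, 30057), (29777, 30108), (29778, 28926), (29779, 28927), (29780, 28928), (29781, 30112), (29782, 30073), (29783, 30074), (29784, 30111), (29785, 30109), (29786, 28916), (29787, 28917), (29788, 28918), (29789, 30106), (29790, 30081), (29791, 28981), (29792, 30105), (29793, 28929), (29794, 30231), (29795, 30246), (29796, 30104), (29797, 28892), (29798, 30099), (29799, 30100), (29800, 30154), (29801, 30155), (29802, 30158), (29803, 30160), (29804, 30070),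 (29805, 30456), (29806, 30457), (29807, 28922), (29808, 28923), (29809, 30470), (29810, 30471), (29811, 30169), (29812, 30450), (29813, 30451), (29814, 29958), (29815, 29959), (29816, 30211), (29817, 30212), (29818, 30391), (29819, 30392), (29820, 30264), (29821, 30054), (29822, 30272), (29823, 30023)]
    ⟨e3 q29760 L824955 q30441, e3 q29761 (flp_g L817296) q28835, e3 q29762 L824961 q30442, e3 q29763 (flp_g L817310) q28838, e3 q29764 (flp_g L817316) q28841, e3 q29765 L817328 q28958, e3 q29766 L820483 q30030, e3 q29767 L820500 q30032, e3 q29768 (flp_g L820828) q30055, e3 q29769 L817358 q28859, e3 q29770 L817366 q28860, e3 q29771 L823998 q30326, e3 q29772 (flp_g L823727) q30303, e3 q29773 (flp_g L824982) q30445, e3 q29774 (flp_g L824990) q30446, e3 q29775 (flp_g L824135) q30342, e3 q29776 (flp_g L820868) q30057, e3 q29777 (flp_g L821665) q30108, e3 q29778 L817411 q28926, e3 q29779 L817421 q28927, e3 q29780 L817429 q28928, e3 q29781 (flp_g L821727) q30112, e3 q29782 (flp_g L821116) q30073, e3 q29783 (flp_g L821128) q30074,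 e3 q29784 (flp_g L821713) q30111, e3 q29785 (flp_g L821673) q30109, e3 q29786 L817474 q28916, e3 q29787 L817482 q28917, e3 q29788 L817488 q28918, e3 q29789 (flp_g L821623) q30106, e3 q29790 (flp_g L821251) q30081, e3 q29791 L817513 q28981, e3 q29792 (flp_g L821609) q30105, e3 q29793 L817531 q28929, e3 q29794 (flp_g L823024) q30231, e3 q29795 (flp_g L823199) q30246, e3 q29796 (flp_g L821589) q30104, e3 q29797 (flp_g L817553) q28892, e3 q29798 (flp_g L821522) q30099, e3 q29799 (flp_g L821532) q30100, e3 q29800 (flp_g L822201) q30154, e3 q29801 (flp_g L822211) q30155, e3 q29802 (flp_g L822234) q30158, e3 q29803 (flp_g L822244) q30160, e3 q29804 (flp_g L821070) q30070, e3 q29805 (flp_g L825055) q30456, e3 q29806 (flp_g L825063) q30457, e3 q29807 L817622 q28922, e3 q29808 L817630 q28923, e3 q29809 (flp_g L825157) q30470, e3 q29810 (flp_g L825163) q30471, e3 q29811 (flp_g L822338) q30169, e3 q29812 (flp_g L825012) q30450, e3 q29813 (flp_g L825022) q30451, e3 q29814 (flp_g L819497) q29958, e3 q29815 (flp_g L819513) q29959, e3 q29816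 (flp_g L822791) q30211, e3 q29817 (flp_g L822805) q30212, e3 q29818 (flp_g L824553) q30391, e3 q29819 (flp_g L824565) q30392, e3 q29820 (flp_g L823362) q30264, e3 q29821 (flp_g L820808) q30054, e3 q29822 (flp_g L823450) q30272, e3 q29823 (flp_g L820369) q30023, trivial⟩ (by decide +kernel)

theorem ce_g_466 : ∀ r, r < 64 → sm gg (Qf (29824 + r)) = Qf (tab Gen.g (29824 + r)) :=
  edges_tab (sm gg) Qf (tab Gen.g) 29824 [(29824, 29999), (29825, 30000), (29826, 30006), (29827, 30007), (29828, 30034), (29829, 30255), (29830, 30256), (29831, 29937), (29832, 29945), (29833, 29936), (29834, 29933), (29835, 28967), (29836, 28968), (29837, 28969), (29838, 28970), (29839, 28971), (29840, 30488), (29841, 30489), (29842, 30490), (29843, 30491), (29844, 29979), (29845, 30409), (29846, 30410), (29847, 28979), (29848, 28980), (29849, 30496), (29850, 30459), (29851, 30461), (29852, 30407), (29853, 28984), (29854, 30408), (29855, 29993), (29856, 28994), (29857, 29312), (29858, 29325), (29859, 29326), (29860, 29327), (29861, 29280), (29862,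 29454), (29863, 29111), (29864, 29411), (29865, 29412), (29866, 29413), (29867, 29062), (29868, 29063), (29869, 29064), (29870, 30511), (29871, 29016), (29872, 29133), (29873, 29666), (29874, 29667), (29875, 29663), (29876, 30516), (29877, 29022), (29878, 29463), (29879, 29464), (29880, 29465), (29881, 30522), (29882, 29025), (29883, 29692), (29884, 30524), (29885, 29028), (29886, 29471), (29887, 29472)]
    ⟨e3 q29824 (flp_g L820075) q29999, e3 q29825 (flp_g L820083) q30000, e3 q29826 (flp_g L820145) q30006, e3 q29827 (flp_g L820151) q30007, e3 q29828 (flp_g L820523) q30034, e3 q29829 (flp_g L823283) q30255, e3 q29830 (flp_g L823293) q30256, e3 q29831 (flp_g L819173) q29937, e3 q29832 (flp_g L819296) q29945, e3 q29833 (flp_g L819160) q29936, e3 q29834 (flp_g L819122) q29933, e3 q29835 L817801 q28967, e3 q29836 L817811 q28968, e3 q29837 L817819 q28969, e3 q29838 L817828 q28970, e3 q29839 L817836 q28971, e3 q29840 (flp_g L825273) q30488, e3 q29841 (flp_g L825283) q30489, e3 q29842 (flp_g L825291) q30490, e3 q29843 (flp_g L825295)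 q30491, e3 q29844 (flp_g L819826) q29979, e3 q29845 (flp_g L824725) q30409, e3 q29846 (flp_g L824735) q30410, e3 q29847 L817884 q28979, e3 q29848 L817888 q28980, e3 q29849 (flp_g L825323) q30496, e3 q29850 (flp_g L825081) q30459, e3 q29851 (flp_g L825099) q30461, e3 q29852 (flp_g L824707) q30407, e3 q29853 (flp_g L817912) q28984, e3 q29854 (flp_g L824717) q30408, e3 q29855 (flp_g L820016) q29993, e3 q29856 L817938 q28994, e3 q29857 L817950 q29312, e3 q29858 L817970 q29325, e3 q29859 L817990 q29326, e3 q29860 L818008 q29327, e3 q29861 L818022 q29280, e3 q29862 L818044 q29454, e3 q29863 L818060 q29111, e3 q29864 L818074 q29411, e3 q29865 L818090 q29412, e3 q29866 L818106 q29413, e3 q29867 L818123 q29062, e3 q29868 L818139 q29063, e3 q29869 L818151 q29064, e3 q29870 L825510 q30511, e3 q29871 (flp_g L818177) q29016, e3 q29872 L818211 q29133, e3 q29873 L818221 q29666, e3 q29874 L818237 q29667, e3 q29875 L818249 q29663, e3 q29876 L825585 q30516, e3 q29877 (flp_g L818274) q29022, e3 q29878 L818299 q29463, e3 q29879 L818315 q29464,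 e3 q29880 L818327 q29465, e3 q29881 L825669 q30522, e3 q29882 (flp_g L818350) q29025, e3 q29883 L818373 q29692, e3 q29884 L825697 q30524, e3 q29885 (flp_g L818391) q29028, e3 q29886 L818411 q29471, e3 q29887 L818425 q29472, trivial⟩ (by decide +kernel)

theorem ce_g_467 : ∀ r, r < 64 → sm gg (Qf (29888 + r)) = Qf (tab Gen.g (29888 + r)) :=
  edges_tab (sm gg) Qf (tab Gen.g) 29888 [(29888, 29473), (29889, 29734), (29890, 29735), (29891, 29736), (29892, 30532), (29893, 29036), (29894, 29759), (29895, 30534), (29896, 29039), (29897, 29044), (29898, 29045), (29899, 29046), (29900, 29186), (29901, 30535), (29902, 30536), (29903, 30538), (29904, 29179), (29905, 29180), (29906, 29181), (29907, 29650), (29908, 29659), (29909, 29661), (29910, 29653), (29911, 29654), (29912, 29670), (29913, 29484), (29914, 29485), (29915, 29164), (29916, 29060), (29917, 30507), (29918, 30508), (29919, 30554), (29920, 29065), (29921, 30555), (29922, 29068), (29923, 29074), (29924, 29075), (29925, 29227), (29926, 30556), (29927, 29177), (29928, 29178),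 (29929, 29220), (29930, 29505), (29931, 29506), (29932, 29507), (29933, 29834), (29934, 29508), (29935, 29509), (29936, 29833), (29937, 29831), (29938, 29510), (29939, 29182), (29940, 30571), (29941, 29090), (29942, 30572), (29943, 29093), (29944, 29511), (29945, 29832), (29946, 29512), (29947, 29160), (29948, 29099), (29949, 29513), (29950, 29514), (29951, 29110)]
    ⟨e3 q29888 L818436 q29473, e3 q29889 L818448 q29734, e3 q29890 L818464 q29735, e3 q29891 L818476 q29736, e3 q29892 L825803 q30532, e3 q29893 (flp_g L818505) q29036, e3 q29894 L818530 q29759, e3 q29895 L825837 q30534, e3 q29896 (flp_g L818552) q29039, e3 q29897 L818576 q29044, e3 q29898 L818592 q29045, e3 q29899 L818604 q29046, e3 q29900 L818632 q29186, e3 q29901 (flp_g L825861) q30535, e3 q29902 (flp_g L825873) q30536, e3 q29903 (flp_g L825913) q30538, e3 q29904 L818684 q29179, e3 q29905 L818700 q29180, e3 q29906 L818712 q29181, e3 q29907 L818737 q29650, e3 q29908 L818747 q29659, e3 q29909 L818755 q29661, e3 q29910 L818769 q29653, e3 q29911 L818782 q29654,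 e3 q29912 L818798 q29670, e3 q29913 L818808 q29484, e3 q29914 L818826 q29485, e3 q29915 L818838 q29164, e3 q29916 L818854 q29060, e3 q29917 (flp_g L825454) q30507, e3 q29918 (flp_g L825466) q30508, e3 q29919 L826136 q30554, e3 q29920 (flp_g L818907) q29065, e3 q29921 L826152 q30555, e3 q29922 (flp_g L818937) q29068, e3 q29923 L818959 q29074, e3 q29924 L818969 q29075, e3 q29925 L818993 q29227, e3 q29926 (flp_g L826174) q30556, e3 q29927 L819017 q29177, e3 q29928 L819033 q29178, e3 q29929 L819053 q29220, e3 q29930 L819071 q29505, e3 q29931 L819087 q29506, e3 q29932 L819099 q29507, e3 q29933 L819122 q29834, e3 q29934 L819132 q29508, e3 q29935 L819142 q29509, e3 q29936 L819160 q29833, e3 q29937 L819173 q29831, e3 q29938 L819186 q29510, e3 q29939 L819198 q29182, e3 q29940 L826390 q30571, e3 q29941 (flp_g L819218) q29090, e3 q29942 L826408 q30572, e3 q29943 (flp_g L819250) q29093, e3 q29944 L819272 q29511, e3 q29945 L819296 q29832, e3 q29946 L819308 q29512, e3 q29947 L819322 q29160, e3 q29948 (flp_g L819328) q29099, e3 q29949 L819354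 q29513, e3 q29950 L819364 q29514, e3 q29951 L819376 q29110, trivial⟩ (by decide +kernel)

theorem ce_g_468 : ∀ r, r < 64 → sm gg (Qf (29952 + r)) = Qf (tab Gen.g (29952 + r)) :=
  edges_tab (sm gg) Qf (tab Gen.g) 29952 [(29952, 29399), (29953, 29400), (29954, 29401), (29955, 30503), (29956, 29446), (29957, 29447), (29958, 29814), (29959, 29815), (29960, 29693), (29961, 29694), (29962, 29415), (29963, 29416), (29964, 29419), (29965, 29396), (29966, 29542), (29967, 29543), (29968, 30510), (29969, 29532), (29970, 29533), (29971, 29534), (29972, 30594), (29973, 29136), (29974, 29730), (29975, 29731), (29976, 29732), (29977, 30599), (29978, 29139), (29979, 29844), (29980, 30601), (29981, 29142), (29982, 29147), (29983, 29148), (29984, 29149), (29985, 29414), (29986, 30602), (29987, 30603), (29988, 29756), (29989, 29583), (29990, 29183), (29991, 29720), (29992, 29721), (29993, 29855), (29994, 29535), (29995, 29722), (29996, 29723), (29997, 30574), (29998, 30569), (29999, 29824), (30000, 29825), (30001, 30551), (30002, 30528), (30003,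 29476), (30004, 30624), (30005, 29166), (30006, 29826), (30007, 29827), (30008, 29642), (30009, 29489), (30010, 29174), (30011, 29175), (30012, 29176), (30013, 29377), (30014, 30629), (30015, 30630)]
    ⟨e3 q29952 L819394 q29399, e3 q29953 L819410 q29400, e3 q29954 L819426 q29401, e3 q29955 (flp_g L825391) q30503, e3 q29956 L819463 q29446, e3 q29957 L819479 q29447, e3 q29958 L819497 q29814, e3 q29959 L819513 q29815, e3 q29960 L819531 q29693, e3 q29961 L819547 q29694, e3 q29962 L819563 q29415, e3 q29963 L819577 q29416, e3 q29964 L819592 q29419, e3 q29965 L819606 q29396, e3 q29966 L819626 q29542, e3 q29967 L819642 q29543, e3 q29968 (flp_g L825508) q30510, e3 q29969 L819672 q29532, e3 q29970 L819688 q29533, e3 q29971 L819700 q29534, e3 q29972 L826754 q30594, e3 q29973 (flp_g L819725) q29136, e3 q29974 L819750 q29730, e3 q29975 L819766 q29731, e3 q29976 L819778 q29732, e3 q29977 L826829 q30599, e3 q29978 (flp_g L819803) q29139, e3 q29979 L819826 q29844, e3 q29980 L826857 q30601, e3 q29981 (flp_g L819844) q29142, e3 q29982 L819864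 q29147, e3 q29983 L819880 q29148, e3 q29984 L819892 q29149, e3 q29985 L819917 q29414, e3 q29986 (flp_g L826875) q30602, e3 q29987 (flp_g L826887) q30603, e3 q29988 L819948 q29756, e3 q29989 L819964 q29583, e3 q29990 L819980 q29183, e3 q29991 L819994 q29720, e3 q29992 L820002 q29721, e3 q29993 L820016 q29855, e3 q29994 L820024 q29535, e3 q29995 L820034 q29722, e3 q29996 L820044 q29723, e3 q29997 (flp_g L826452) q30574, e3 q29998 (flp_g L826372) q30569, e3 q29999 L820075 q29824, e3 q30000 L820083 q29825, e3 q30001 (flp_g L826094) q30551, e3 q30002 (flp_g L825749) q30528, e3 q30003 L820115 q29476, e3 q30004 L827135 q30624, e3 q30005 (flp_g L820131) q29166, e3 q30006 L820145 q29826, e3 q30007 L820151 q29827, e3 q30008 L820162 q29642, e3 q30009 L820175 q29489, e3 q30010 L820189 q29174, e3 q30011 L820205 q29175, e3 q30012 L820217 q29176, e3 q30013 L820240 q29377, e3 q30014 (flp_g L827198) q30629, e3 q30015 (flp_g L827210) q30630, trivial⟩ (by decide +kernel)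

theorem ce_g_469 : ∀ r, r < 64 → sm gg (Qf (30016 + r)) = Qf (tab Gen.g (30016 + r)) :=
  edges_tab (sm gg) Qf (tab Gen.g) 30016 [(30016, 30633), (30017, 30558), (30018, 30541), (30019, 30542), (30020, 30609), (30021, 29187), (30022, 30537), (30023, 29823), (30024, 29755), (30025, 29739), (30026, 29740), (30027, 29741), (30028, 29742), (30029, 29743), (30030, 29766), (30031, 29744), (30032, 29767), (30033, 29462), (30034, 29828), (30035, 29641), (30036, 29488), (30037, 29333), (30038, 29334), (30039, 29335), (30040, 29215), (30041, 29216), (30042, 29380), (30043, 29381), (30044, 29217), (30045, 30653), (30046, 30655), (30047, 30657), (30048, 30617), (30049, 29455), (30050, 29243), (30051, 29222), (30052, 29241), (30053, 30557), (30054, 29821), (30055, 29768), (30056, 29237), (30057, 29776), (30058, 29408), (30059, 29688), (30060, 29441), (30061, 29442), (30062, 29443), (30063, 29435), (30064, 29448), (30065, 29449), (30066, 29450), (30067, 29387), (30068, 29451), (30069, 29577), (30070, 29804), (30071, 29609), (30072, 29366),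 (30073, 29782), (30074, 29783), (30075, 29392), (30076, 29393), (30077, 29397), (30078, 29276), (30079, 29388)]
    ⟨e3 q30016 (flp_g L827256) q30633, e3 q30017 (flp_g L826210) q30558, e3 q30018 (flp_g L825959) q30541, e3 q30019 (flp_g L825971) q30542, e3 q30020 (flp_g L826969) q30609, e3 q30021 L820343 q29187, e3 q30022 (flp_g L825901) q30537, e3 q30023 L820369 q29823, e3 q30024 L820387 q29755, e3 q30025 L820401 q29739, e3 q30026 L820417 q29740, e3 q30027 L820435 q29741, e3 q30028 L820451 q29742, e3 q30029 L820465 q29743, e3 q30030 (flp_g L820483) q29766, e3 q30031 L820487 q29744, e3 q30032 (flp_g L820500) q29767, e3 q30033 L820507 q29462, e3 q30034 L820523 q29828, e3 q30035 L820545 q29641, e3 q30036 L820555 q29488, e3 q30037 L820569 q29333, e3 q30038 L820585 q29334, e3 q30039 L820601 q29335, e3 q30040 L820620 q29215, e3 q30041 L820628 q29216, e3 q30042 L820644 q29380, e3 q30043 L820657 q29381, e3 q30044 L820670 q29217, e3 q30045 (flp_g L827530) q30653, e3 q30046 (flp_g L827554) q30655, e3 q30047 (flp_g L827581) q30657,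 e3 q30048 (flp_g L827055) q30617, e3 q30049 L820720 q29455, e3 q30050 L820750 q29243, e3 q30051 (flp_g L820752) q29222, e3 q30052 L820774 q29241, e3 q30053 (flp_g L826200) q30557, e3 q30054 L820808 q29821, e3 q30055 L820828 q29768, e3 q30056 (flp_g L820840) q29237, e3 q30057 L820868 q29776, e3 q30058 L820880 q29408, e3 q30059 L820898 q29688, e3 q30060 L820918 q29441, e3 q30061 L820934 q29442, e3 q30062 L820946 q29443, e3 q30063 L820971 q29435, e3 q30064 L820981 q29448, e3 q30065 L820997 q29449, e3 q30066 L821009 q29450, e3 q30067 L821038 q29387, e3 q30068 L821046 q29451, e3 q30069 L821060 q29577, e3 q30070 L821070 q29804, e3 q30071 L821084 q29609, e3 q30072 L821098 q29366, e3 q30073 L821116 q29782, e3 q30074 L821128 q29783, e3 q30075 (flp_g L821150) q29392, e3 q30076 L821165 q29393, e3 q30077 (flp_g L821185) q29397, e3 q30078 L821195 q29276, e3 q30079 L821215 q29388, trivial⟩ (by decide +kernel)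

theorem ce_g_470 : ∀ r, r < 64 → sm gg (Qf (30080 + r)) = Qf (tab Gen.g (30080 + r)) :=
  edges_tab (sm gg) Qf (tab Gen.g) 30080 [(30080, 29391), (30081, 29790), (30082, 29704), (30083, 29705), (30084, 29706), (30085, 30678), (30086, 29291), (30087, 29643), (30088, 29644), (30089, 29645), (30090, 30684), (30091, 29294), (30092, 29710), (30093, 30686), (30094, 29297), (30095, 29699), (30096, 29700), (30097, 29701), (30098, 29367), (30099, 29798), (30100, 29799), (30101, 29417), (30102, 29418), (30103, 29433), (30104, 29796), (30105, 29792), (30106, 29789), (30107, 29324), (30108, 29777), (30109, 29785), (30110, 29383), (30111, 29784), (30112, 29781), (30113, 30501), (30114, 30502), (30115, 29487), (30116, 29492), (30117, 29493), (30118, 29494), (30119, 30651), (30120, 30652), (30121, 29753), (30122, 29669), (30123, 30708), (30124, 29620), (30125, 29646), (30126, 29339), (30127, 29754), (30128, 29757), (30129, 29758), (30130, 30713), (30131, 30715), (30132, 29347), (30133, 29745), (30134, 29746), (30135, 30721), (30136, 30722),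 (30137, 29553), (30138, 29352), (30139, 30724), (30140, 29355), (30141, 29423), (30142, 29749), (30143, 29750)]
    ⟨e3 q30080 L821235 q29391, e3 q30081 L821251 q29790, e3 q30082 L821271 q29704, e3 q30083 L821287 q29705, e3 q30084 L821299 q29706, e3 q30085 L827868 q30678, e3 q30086 (flp_g L821324) q29291, e3 q30087 L821349 q29643, e3 q30088 L821365 q29644, e3 q30089 L821377 q29645, e3 q30090 L827952 q30684, e3 q30091 (flp_g L821400) q29294, e3 q30092 L821425 q29710, e3 q30093 L827982 q30686, e3 q30094 (flp_g L821445) q29297, e3 q30095 L821467 q29699, e3 q30096 L821481 q29700, e3 q30097 L821492 q29701, e3 q30098 L821506 q29367, e3 q30099 L821522 q29798, e3 q30100 L821532 q29799, e3 q30101 L821548 q29417, e3 q30102 L821561 q29418, e3 q30103 L821579 q29433, e3 q30104 L821589 q29796, e3 q30105 L821609 q29792, e3 q30106 L821623 q29789, e3 q30107 L821635 q29324, e3 q30108 L821665 q29777, e3 q30109 L821673 q29785, e3 q30110 L821701 q29383, e3 q30111 L821713 q29784, e3 q30112 L821727 q29781, e3 q30113 (flp_g L825355) q30501, e3 q30114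 (flp_g L825373) q30502, e3 q30115 L821767 q29487, e3 q30116 L821785 q29492, e3 q30117 L821801 q29493, e3 q30118 L821813 q29494, e3 q30119 (flp_g L827498) q30651, e3 q30120 (flp_g L827514) q30652, e3 q30121 L821848 q29753, e3 q30122 L821856 q29669, e3 q30123 L828254 q30708, e3 q30124 L821880 q29620, e3 q30125 L821890 q29646, e3 q30126 (flp_g L821892) q29339, e3 q30127 L821912 q29754, e3 q30128 L821926 q29757, e3 q30129 L821934 q29758, e3 q30130 L828295 q30713, e3 q30131 L828316 q30715, e3 q30132 (flp_g L821949) q29347, e3 q30133 L821961 q29745, e3 q30134 L821969 q29746, e3 q30135 L828376 q30721, e3 q30136 L828386 q30722, e3 q30137 L821997 q29553, e3 q30138 (flp_g L822001) q29352, e3 q30139 L828412 q30724, e3 q30140 (flp_g L822017) q29355, e3 q30141 L822039 q29423, e3 q30142 L822045 q29749, e3 q30143 L822051 q29750, trivial⟩ (by decide +kernel)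

theorem ce_g_471 : ∀ r, r < 64 → sm gg (Qf (30144 + r)) = Qf (tab Gen.g (30144 + r)) :=
  edges_tab (sm gg) Qf (tab Gen.g) 30144 [(30144, 29751), (30145, 29752), (30146, 29474), (30147, 29475), (30148, 29490), (30149, 29491), (30150, 29452), (30151, 29453), (30152, 29386), (30153, 29385), (30154, 29800), (30155, 29801), (30156, 30631), (30157, 30632), (30158, 29802), (30159, 30654), (30160, 29803), (30161, 30656), (30162, 29617), (30163, 30734), (30164, 30667), (30165, 29460), (30166, 29461), (30167, 30672), (30168, 30674), (30169, 29811), (30170, 30576), (30171, 30577), (30172, 29434), (30173, 29457), (30174, 29438), (30175, 29437), (30176, 29432), (30177, 30504), (30178, 30505), (30179, 30604), (30180, 30605), (30181, 30506), (30182, 30584), (30183, 30691), (30184, 30585), (30185, 30693), (30186, 30586), (30187, 30694), (30188, 30587), (30189, 29733), (30190, 30767), (30191, 30725), (30192, 29422), (30193, 30769), (30194, 29426), (30195, 30770), (30196, 29427), (30197, 29429), (30198, 30750), (30199, 30664), (30200, 30752),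 (30201, 30662), (30202, 30663), (30203, 29632), (30204, 30578), (30205, 30579), (30206, 30665), (30207, 30666)]
    ⟨e3 q30144 L822064 q29751, e3 q30145 L822075 q29752, e3 q30146 L822087 q29474, e3 q30147 L822103 q29475, e3 q30148 L822119 q29490, e3 q30149 L822129 q29491, e3 q30150 L822143 q29452, e3 q30151 L822153 q29453, e3 q30152 L822177 q29386, e3 q30153 L822195 q29385, e3 q30154 L822201 q29800, e3 q30155 L822211 q29801, e3 q30156 (flp_g L827232) q30631, e3 q30157 (flp_g L827247) q30632, e3 q30158 L822234 q29802, e3 q30159 (flp_g L827548) q30654, e3 q30160 L822244 q29803, e3 q30161 (flp_g L827569) q30656, e3 q30162 L822256 q29617, e3 q30163 (flp_g L828548) q30734, e3 q30164 (flp_g L827720) q30667, e3 q30165 L822288 q29460, e3 q30166 L822304 q29461, e3 q30167 L827789 q30672, e3 q30168 (flp_g L827820) q30674, e3 q30169 L822338 q29811, e3 q30170 (flp_g L826478) q30576, e3 q30171 (flp_g L826494) q30577, e3 q30172 L822378 q29434, e3 q30173 L822386 q29457, e3 q30174 L822406 q29438, e3 q30175 L822420 q29437, e3 q30176 L822438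 q29432, e3 q30177 (flp_g L825405) q30504, e3 q30178 (flp_g L825421) q30505, e3 q30179 (flp_g L826911) q30604, e3 q30180 (flp_g L826926) q30605, e3 q30181 (flp_g L825438) q30506, e3 q30182 (flp_g L826617) q30584, e3 q30183 (flp_g L828057) q30691, e3 q30184 (flp_g L826629) q30585, e3 q30185 (flp_g L828076) q30693, e3 q30186 (flp_g L826642) q30586, e3 q30187 (flp_g L828083) q30694, e3 q30188 (flp_g L826659) q30587, e3 q30189 L822535 q29733, e3 q30190 L828856 q30767, e3 q30191 (flp_g L828434) q30725, e3 q30192 (flp_g L822561) q29422, e3 q30193 L828882 q30769, e3 q30194 (flp_g L822587) q29426, e3 q30195 L828898 q30770, e3 q30196 (flp_g L822611) q29427, e3 q30197 (flp_g L822625) q29429, e3 q30198 (flp_g L828711) q30750, e3 q30199 (flp_g L827670) q30664, e3 q30200 (flp_g L828736) q30752, e3 q30201 (flp_g L827634) q30662, e3 q30202 (flp_g L827646) q30663, e3 q30203 L822695 q29632, e3 q30204 (flp_g L826512) q30578, e3 q30205 (flp_g L826528) q30579, e3 q30206 (flp_g L827680) q30665, e3 q30207 (flp_g L827692) q30666, trivial⟩ (by decide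 +kernel)

theorem ce_g_472 : ∀ r, r < 64 → sm gg (Qf (30208 + r)) = Qf (tab Gen.g (30208 + r)) :=
  edges_tab (sm gg) Qf (tab Gen.g) 30208 [(30208, 30733), (30209, 30735), (30210, 29610), (30211, 29816), (30212, 29817), (30213, 30746), (30214, 30649), (30215, 30549), (30216, 30517), (30217, 30518), (30218, 30787), (30219, 30683), (30220, 30521), (30221, 29466), (30222, 30788), (30223, 29469), (30224, 30525), (30225, 30526), (30226, 30527), (30227, 30730), (30228, 30622), (30229, 29481), (30230, 29482), (30231, 29794), (30232, 29483), (30233, 30794), (30234, 30796), (30235, 30550), (30236, 30650), (30237, 30628), (30238, 30731), (30239, 30732), (30240, 30700), (30241, 30701), (30242, 29498), (30243, 29499), (30244, 30803), (30245, 29503), (30246, 29795), (30247, 30559), (30248, 30560), (30249, 30563), (30250, 30564), (30251, 30566), (30252, 30568), (30253, 30573), (30254, 30575), (30255, 29829), (30256, 29830), (30257, 29522), (30258, 29523), (30259, 29524), (30260, 30812), (30261, 30813), (30262, 30814), (30263, 30758), (30264,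 29820), (30265, 29703), (30266, 30822), (30267, 29684), (30268, 29528), (30269, 30590), (30270, 30591), (30271, 30612)]
    ⟨e3 q30208 (flp_g L828522) q30733, e3 q30209 (flp_g L828556) q30735, e3 q30210 L822779 q29610, e3 q30211 L822791 q29816, e3 q30212 L822805 q29817, e3 q30213 (flp_g L828658) q30746, e3 q30214 (flp_g L827466) q30649, e3 q30215 (flp_g L826062) q30549, e3 q30216 (flp_g L825609) q30517, e3 q30217 (flp_g L825621) q30518, e3 q30218 L829104 q30787, e3 q30219 (flp_g L827946) q30683, e3 q30220 (flp_g L825663) q30521, e3 q30221 (flp_g L822907) q29466, e3 q30222 L829116 q30788, e3 q30223 (flp_g L822933) q29469, e3 q30224 (flp_g L825715) q30525, e3 q30225 (flp_g L825723) q30526, e3 q30226 (flp_g L825736) q30527, e3 q30227 (flp_g L828485) q30730, e3 q30228 (flp_g L827112) q30622, e3 q30229 L823004 q29481, e3 q30230 L823012 q29482, e3 q30231 L823024 q29794, e3 q30232 L823034 q29483, e3 q30233 (flp_g L829192) q30794, e3 q30234 (flp_g L829214) q30796, e3 q30235 (flp_g L826082) q30550, e3 q30236 (flp_g L827484) q30650,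 e3 q30237 (flp_g L827184) q30628, e3 q30238 (flp_g L828499) q30731, e3 q30239 (flp_g L828507) q30732, e3 q30240 (flp_g L828177) q30700, e3 q30241 (flp_g L828189) q30701, e3 q30242 L823155 q29498, e3 q30243 L823163 q29499, e3 q30244 (flp_g L829298) q30803, e3 q30245 L823189 q29503, e3 q30246 L823199 q29795, e3 q30247 (flp_g L826230) q30559, e3 q30248 (flp_g L826242) q30560, e3 q30249 (flp_g L826288) q30563, e3 q30250 (flp_g L826300) q30564, e3 q30251 (flp_g L826326) q30566, e3 q30252 (flp_g L826355) q30568, e3 q30253 (flp_g L826438) q30573, e3 q30254 (flp_g L826466) q30575, e3 q30255 L823283 q29829, e3 q30256 L823293 q29830, e3 q30257 L823303 q29522, e3 q30258 L823311 q29523, e3 q30259 L823320 q29524, e3 q30260 (flp_g L829387) q30812, e3 q30261 (flp_g L829395) q30813, e3 q30262 (flp_g L829404) q30814, e3 q30263 (flp_g L828782) q30758, e3 q30264 L823362 q29820, e3 q30265 L823372 q29703, e3 q30266 (flp_g L829489) q30822, e3 q30267 L823398 q29684, e3 q30268 L823410 q29528, e3 q30269 (flp_g L826703) q30590, e3 q30270 (flp_g L826715)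 q30591, e3 q30271 (flp_g L827005) q30612, trivial⟩ (by decide +kernel)

theorem ce_g_473 : ∀ r, r < 64 → sm gg (Qf (30272 + r)) = Qf (tab Gen.g (30272 + r)) :=
  edges_tab (sm gg) Qf (tab Gen.g) 30272 [(30272, 29822), (30273, 30827), (30274, 29638), (30275, 29538), (30276, 29586), (30277, 30588), (30278, 29550), (30279, 29551), (30280, 30834), (30281, 30723), (30282, 29554), (30283, 29548), (30284, 30829), (30285, 30838), (30286, 30831), (30287, 30720), (30288, 30833), (30289, 29552), (30290, 29556), (30291, 29561), (30292, 29562), (30293, 29563), (30294, 29564), (30295, 30841), (30296, 30842), (30297, 30843), (30298, 30844), (30299, 29568), (30300, 29569), (30301, 30850), (30302, 30851), (30303, 29772), (30304, 29584), (30305, 29585), (30306, 29579), (30307, 30668), (30308, 29580), (30309, 29581), (30310, 29582), (30311, 30856), (30312, 30857), (30313, 30858), (30314, 30855), (30315, 30828), (30316, 29591), (30317, 29593), (30318, 29671), (30319, 30861), (30320, 29662), (30321, 29672), (30322, 29664), (30323, 29601), (30324,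 29602), (30325, 30865), (30326, 29771), (30327, 30866), (30328, 29607), (30329, 29608), (30330, 30868), (30331, 30669), (30332, 30670), (30333, 29615), (30334, 29616), (30335, 30871)]
    ⟨e3 q30272 L823450 q29822, e3 q30273 (flp_g L829546) q30827, e3 q30274 L823470 q29638, e3 q30275 L823482 q29538, e3 q30276 L823492 q29586, e3 q30277 (flp_g L826673) q30588, e3 q30278 L823516 q29550, e3 q30279 L823524 q29551, e3 q30280 L829611 q30834, e3 q30281 (flp_g L828406) q30723, e3 q30282 L823552 q29554, e3 q30283 (flp_g L823556) q29548, e3 q30284 (flp_g L829568) q30829, e3 q30285 L829647 q30838, e3 q30286 (flp_g L829586) q30831, e3 q30287 (flp_g L828372) q30720, e3 q30288 (flp_g L829607) q30833, e3 q30289 (flp_g L823603) q29552, e3 q30290 (flp_g L823609) q29556, e3 q30291 L823621 q29561, e3 q30292 L823627 q29562, e3 q30293 L823640 q29563, e3 q30294 L823651 q29564, e3 q30295 (flp_g L829675) q30841, e3 q30296 (flp_g L829687) q30842, e3 q30297 (flp_g L829698) q30843, e3 q30298 (flp_g L829710) q30844, e3 q30299 L823686 q29568, e3 q30300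 L823696 q29569, e3 q30301 (flp_g L829755) q30850, e3 q30302 (flp_g L829767) q30851, e3 q30303 L823727 q29772, e3 q30304 L823741 q29584, e3 q30305 L823751 q29585, e3 q30306 L823765 q29579, e3 q30307 (flp_g L827732) q30668, e3 q30308 L823781 q29580, e3 q30309 L823797 q29581, e3 q30310 L823805 q29582, e3 q30311 (flp_g L829837) q30856, e3 q30312 (flp_g L829851) q30857, e3 q30313 (flp_g L829859) q30858, e3 q30314 (flp_g L829821) q30855, e3 q30315 (flp_g L829558) q30828, e3 q30316 L823881 q29591, e3 q30317 L823893 q29593, e3 q30318 L823907 q29671, e3 q30319 (flp_g L829897) q30861, e3 q30320 L823925 q29662, e3 q30321 L823939 q29672, e3 q30322 L823950 q29664, e3 q30323 L823958 q29601, e3 q30324 L823968 q29602, e3 q30325 (flp_g L829939) q30865, e3 q30326 (flp_g L823998) q29771, e3 q30327 (flp_g L829949) q30866, e3 q30328 L824011 q29607, e3 q30329 L824015 q29608, e3 q30330 (flp_g L829968) q30868, e3 q30331 (flp_g L827742) q30669, e3 q30332 (flp_g L827752) q30670, e3 q30333 L824051 q29615, e3 q30334 L824061 q29616, e3 q30335 (flp_g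 L829989) q30871, trivial⟩ (by decide +kernel)

theorem ce_g_474 : ∀ r, r < 64 → sm gg (Qf (30336 + r)) = Qf (tab Gen.g (30336 + r)) :=
  edges_tab (sm gg) Qf (tab Gen.g) 30336 [(30336, 30872), (30337, 30744), (30338, 30740), (30339, 29668), (30340, 30706), (30341, 29626), (30342, 29775), (30343, 29729), (30344, 29627), (30345, 29727), (30346, 29628), (30347, 30879), (30348, 30881), (30349, 29673), (30350, 29636), (30351, 29637), (30352, 29639), (30353, 30883), (30354, 30826), (30355, 30884), (30356, 30626), (30357, 30627), (30358, 30679), (30359, 30680), (30360, 30707), (30361, 29655), (30362, 29656), (30363, 30543), (30364, 30544), (30365, 29657), (30366, 29658), (30367, 30546), (30368, 29660), (30369, 30548), (30370, 30890), (30371, 30892), (30372, 30894), (30373, 30714), (30374, 30895), (30375, 30545), (30376, 30862), (30377, 30547), (30378, 30848), (30379, 30513), (30380, 30864), (30381, 30512), (30382, 30704), (30383, 30863), (30384, 29678), (30385, 29719), (30386, 29748), (30387, 29747), (30388, 29683), (30389, 30821),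 (30390, 29698), (30391, 29818), (30392, 29819), (30393, 30582), (30394, 30583), (30395, 29702), (30396, 30909), (30397, 30687), (30398, 30688), (30399, 30689)]
    ⟨e3 q30336 (flp_g L829997) q30872, e3 q30337 (flp_g L828634) q30744, e3 q30338 (flp_g L828599) q30740, e3 q30339 L824101 q29668, e3 q30340 (flp_g L828244) q30706, e3 q30341 L824121 q29626, e3 q30342 L824135 q29775, e3 q30343 L824145 q29729, e3 q30344 L824153 q29627, e3 q30345 L824161 q29727, e3 q30346 L824169 q29628, e3 q30347 (flp_g L830065) q30879, e3 q30348 (flp_g L830081) q30881, e3 q30349 L824199 q29673, e3 q30350 L824209 q29636, e3 q30351 L824219 q29637, e3 q30352 L824225 q29639, e3 q30353 (flp_g L830101) q30883, e3 q30354 (flp_g L829534) q30826, e3 q30355 (flp_g L830113) q30884, e3 q30356 (flp_g L827163) q30626, e3 q30357 (flp_g L827172) q30627, e3 q30358 (flp_g L827892) q30679, e3 q30359 (flp_g L827904) q30680, e3 q30360 (flp_g L828252) q30707, e3 q30361 L824306 q29655, e3 q30362 L824314 q29656, e3 q30363 (flp_g L825995) q30543, e3 q30364 (flp_g L826010)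 q30544, e3 q30365 L824336 q29657, e3 q30366 L824342 q29658, e3 q30367 (flp_g L826034) q30546, e3 q30368 L824354 q29660, e3 q30369 (flp_g L826055) q30548, e3 q30370 (flp_g L830170) q30890, e3 q30371 (flp_g L830184) q30892, e3 q30372 (flp_g L830201) q30894, e3 q30373 L828314 q30714, e3 q30374 (flp_g L830207) q30895, e3 q30375 (flp_g L826018) q30545, e3 q30376 (flp_g L829907) q30862, e3 q30377 (flp_g L826038) q30547, e3 q30378 (flp_g L829738) q30848, e3 q30379 (flp_g L825548) q30513, e3 q30380 (flp_g L829933) q30864, e3 q30381 (flp_g L825536) q30512, e3 q30382 (flp_g L828218) q30704, e3 q30383 (flp_g L829921) q30863, e3 q30384 L824487 q29678, e3 q30385 L824499 q29719, e3 q30386 L824507 q29748, e3 q30387 L824513 q29747, e3 q30388 L824519 q29683, e3 q30389 (flp_g L829477) q30821, e3 q30390 L824541 q29698, e3 q30391 L824553 q29818, e3 q30392 L824565 q29819, e3 q30393 (flp_g L826582) q30582, e3 q30394 (flp_g L826598) q30583, e3 q30395 L824593 q29702, e3 q30396 (flp_g L830316) q30909, e3 q30397 (flp_g L828004) q30687, e3 q30398 (flp_g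 L828012) q30688, e3 q30399 (flp_g L828027) q30689, trivial⟩ (by decide +kernel)

theorem ce_g_475 : ∀ r, r < 64 → sm gg (Qf (30400 + r)) = Qf (tab Gen.g (30400 + r)) :=
  edges_tab (sm gg) Qf (tab Gen.g) 30400 [(30400, 30623), (30401, 30819), (30402, 30675), (30403, 30676), (30404, 30919), (30405, 29708), (30406, 29711), (30407, 29852), (30408, 29854), (30409, 29845), (30410, 29846), (30411, 30610), (30412, 30613), (30413, 30615), (30414, 29737), (30415, 29738), (30416, 30880), (30417, 30878), (30418, 30595), (30419, 30596), (30420, 30529), (30421, 30530), (30422, 30922), (30423, 30924), (30424, 30642), (30425, 30643), (30426, 30644), (30427, 30645), (30428, 30646), (30429, 30716), (30430, 30910), (30431, 30718), (30432, 30726), (30433, 30727), (30434, 30728), (30435, 30729), (30436, 30641), (30437, 30608), (30438, 30709), (30439, 30711), (30440, 30941), (30441, 29760), (30442, 29762), (30443, 30647), (30444, 30648), (30445, 29773), (30446, 29774), (30447, 30853), (30448, 30854), (30449, 30943), (30450, 29812), (30451, 29813),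 (30452, 30698), (30453, 30671), (30454, 30697), (30455, 30673), (30456, 29805), (30457, 29806), (30458, 30696), (30459, 29850), (30460, 30695), (30461, 29851), (30462, 30795), (30463, 30690)]
    ⟨e3 q30400 (flp_g L827127) q30623, e3 q30401 (flp_g L829449) q30819, e3 q30402 (flp_g L827832) q30675, e3 q30403 (flp_g L827844) q30676, e3 q30404 L830398 q30919, e3 q30405 (flp_g L824685) q29708, e3 q30406 (flp_g L824695) q29711, e3 q30407 L824707 q29852, e3 q30408 L824717 q29854, e3 q30409 L824725 q29845, e3 q30410 L824735 q29846, e3 q30411 (flp_g L826981) q30610, e3 q30412 (flp_g L827015) q30613, e3 q30413 (flp_g L827037) q30615, e3 q30414 L824771 q29737, e3 q30415 L824779 q29738, e3 q30416 (flp_g L830073) q30880, e3 q30417 (flp_g L830057) q30878, e3 q30418 (flp_g L826778) q30595, e3 q30419 (flp_g L826790) q30596, e3 q30420 (flp_g L825763) q30529, e3 q30421 (flp_g L825775) q30530, e3 q30422 (flp_g L830432) q30922, e3 q30423 (flp_g L830448) q30924, e3 q30424 (flp_g L827367) q30642, e3 q30425 (flp_g L827383) q30643, e3 q30426 (flp_g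 L827402) q30644, e3 q30427 (flp_g L827418) q30645, e3 q30428 (flp_g L827433) q30646, e3 q30429 (flp_g L828333) q30716, e3 q30430 (flp_g L830324) q30910, e3 q30431 (flp_g L828351) q30718, e3 q30432 (flp_g L828440) q30726, e3 q30433 (flp_g L828452) q30727, e3 q30434 (flp_g L828463) q30728, e3 q30435 (flp_g L828473) q30729, e3 q30436 (flp_g L827353) q30641, e3 q30437 (flp_g L826953) q30608, e3 q30438 (flp_g L828272) q30709, e3 q30439 (flp_g L828286) q30711, e3 q30440 L830565 q30941, e3 q30441 (flp_g L824955) q29760, e3 q30442 (flp_g L824961) q29762, e3 q30443 L827447 q30647, e3 q30444 L827460 q30648, e3 q30445 L824982 q29773, e3 q30446 L824990 q29774, e3 q30447 (flp_g L829792) q30853, e3 q30448 (flp_g L829809) q30854, e3 q30449 (flp_g L830583) q30943, e3 q30450 L825012 q29812, e3 q30451 L825022 q29813, e3 q30452 (flp_g L828149) q30698, e3 q30453 (flp_g L827765) q30671, e3 q30454 (flp_g L828135) q30697, e3 q30455 (flp_g L827793) q30673, e3 q30456 L825055 q29805, e3 q30457 L825063 q29806, e3 q30458 (flp_g L828117) q30696, e3 q30459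 L825081 q29850, e3 q30460 (flp_g L828103) q30695, e3 q30461 L825099 q29851, e3 q30462 (flp_g L829206) q30795, e3 q30463 (flp_g L828039) q30690, trivial⟩ (by decide +kernel)

theorem ce_g_476 : ∀ r, r < 64 → sm gg (Qf (30464 + r)) = Qf (tab Gen.g (30464 + r)) :=
  edges_tab (sm gg) Qf (tab Gen.g) 30464 [(30464, 30692), (30465, 30736), (30466, 30738), (30467, 30741), (30468, 30950), (30469, 30952), (30470, 29809), (30471, 29810), (30472, 30958), (30473, 30946), (30474, 30948), (30475, 30580), (30476, 30581), (30477, 30778), (30478, 30911), (30479, 30618), (30480, 30620), (30481, 30625), (30482, 30810), (30483, 30811), (30484, 30567), (30485, 30562), (30486, 30565), (30487, 30561), (30488, 29840), (30489, 29841), (30490, 29842), (30491, 29843), (30492, 30971), (30493, 30972), (30494, 30973), (30495, 30920), (30496, 29849), (30497, 30977), (30498, 30953), (30499, 30748), (30500, 30611), (30501, 30113), (30502, 30114), (30503, 29955), (30504, 30177), (30505, 30178), (30506, 30181), (30507, 29917), (30508, 29918), (30509, 30987),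 (30510, 29968), (30511, 29870), (30512, 30381), (30513, 30379), (30514, 30992), (30515, 30994), (30516, 29876), (30517, 30216), (30518, 30217), (30519, 31000), (30520, 31001), (30521, 30220), (30522, 29881), (30523, 31003), (30524, 29884), (30525, 30224), (30526, 30225), (30527, 30226)]
    ⟨e3 q30464 (flp_g L828061) q30692, e3 q30465 (flp_g L828569) q30736, e3 q30466 (flp_g L828583) q30738, e3 q30467 (flp_g L828613) q30741, e3 q30468 (flp_g L830627) q30950, e3 q30469 (flp_g L830645) q30952, e3 q30470 L825157 q29809, e3 q30471 L825163 q29810, e3 q30472 (flp_g L830687) q30958, e3 q30473 (flp_g L830598) q30946, e3 q30474 (flp_g L830612) q30948, e3 q30475 (flp_g L826547) q30580, e3 q30476 (flp_g L826563) q30581, e3 q30477 (flp_g L829004) q30778, e3 q30478 (flp_g L830334) q30911, e3 q30479 (flp_g L827071) q30618, e3 q30480 (flp_g L827093) q30620, e3 q30481 (flp_g L827151) q30625, e3 q30482 (flp_g L829366) q30810, e3 q30483 (flp_g L829376) q30811, e3 q30484 (flp_g L826343) q30567, e3 q30485 (flp_g L826279) q30562, e3 q30486 (flp_g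 L826320) q30565, e3 q30487 (flp_g L826264) q30561, e3 q30488 L825273 q29840, e3 q30489 L825283 q29841, e3 q30490 L825291 q29842, e3 q30491 L825295 q29843, e3 q30492 (flp_g L830774) q30971, e3 q30493 (flp_g L830780) q30972, e3 q30494 (flp_g L830789) q30973, e3 q30495 (flp_g L830416) q30920, e3 q30496 L825323 q29849, e3 q30497 (flp_g L830807) q30977, e3 q30498 (flp_g L830656) q30953, e3 q30499 (flp_g L828678) q30748, e3 q30500 (flp_g L826995) q30611, e3 q30501 L825355 q30113, e3 q30502 L825373 q30114, e3 q30503 L825391 q29955, e3 q30504 L825405 q30177, e3 q30505 L825421 q30178, e3 q30506 L825438 q30181, e3 q30507 L825454 q29917, e3 q30508 L825466 q29918, e3 q30509 L830938 q30987, e3 q30510 L825508 q29968, e3 q30511 (flp_g L825510) q29870, e3 q30512 L825536 q30381, e3 q30513 L825548 q30379, e3 q30514 L831015 q30992, e3 q30515 L831048 q30994, e3 q30516 (flp_g L825585) q29876, e3 q30517 L825609 q30216, e3 q30518 L825621 q30217, e3 q30519 L831132 q31000, e3 q30520 L831148 q31001, e3 q30521 L825663 q30220, e3 q30522 (flp_g L825669)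 q29881, e3 q30523 L831182 q31003, e3 q30524 (flp_g L825697) q29884, e3 q30525 L825715 q30224, e3 q30526 L825723 q30225, e3 q30527 L825736 q30226, trivial⟩ (by decide +kernel)

theorem ce_g_477 : ∀ r, r < 64 → sm gg (Qf (30528 + r)) = Qf (tab Gen.g (30528 + r)) :=
  edges_tab (sm gg) Qf (tab Gen.g) 30528 [(30528, 30002), (30529, 30420), (30530, 30421), (30531, 31011), (30532, 29892), (30533, 31012), (30534, 29895), (30535, 29901), (30536, 29902), (30537, 30022), (30538, 29903), (30539, 31013), (30540, 31015), (30541, 30018), (30542, 30019), (30543, 30363), (30544, 30364), (30545, 30375), (30546, 30367), (30547, 30377), (30548, 30369), (30549, 30215), (30550, 30235), (30551, 30001), (30552, 30984), (30553, 31027), (30554, 29919), (30555, 29921), (30556, 29926), (30557, 30053), (30558, 30017), (30559, 30247), (30560, 30248), (30561, 30487), (30562, 30485), (30563, 30249), (30564, 30250), (30565, 30486), (30566, 30251), (30567, 30484), (30568, 30252), (30569, 29998), (30570, 31040), (30571, 29940), (30572, 29942), (30573, 30253),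 (30574, 29997), (30575, 30254), (30576, 30170), (30577, 30171), (30578, 30204), (30579, 30205), (30580, 30475), (30581, 30476), (30582, 30393), (30583, 30394), (30584, 30182), (30585, 30184), (30586, 30186), (30587, 30188), (30588, 30277), (30589, 30986), (30590, 30269), (30591, 30270)]
    ⟨e3 q30528 L825749 q30002, e3 q30529 L825763 q30420, e3 q30530 L825775 q30421, e3 q30531 L831296 q31011, e3 q30532 (flp_g L825803) q29892, e3 q30533 L831314 q31012, e3 q30534 (flp_g L825837) q29895, e3 q30535 L825861 q29901, e3 q30536 L825873 q29902, e3 q30537 L825901 q30022, e3 q30538 L825913 q29903, e3 q30539 (flp_g L831338) q31013, e3 q30540 (flp_g L831380) q31015, e3 q30541 L825959 q30018, e3 q30542 L825971 q30019, e3 q30543 L825995 q30363, e3 q30544 L826010 q30364, e3 q30545 L826018 q30375, e3 q30546 L826034 q30367, e3 q30547 L826038 q30377, e3 q30548 L826055 q30369, e3 q30549 L826062 q30215, e3 q30550 L826082 q30235, e3 q30551 L826094 q30001, e3 q30552 (flp_g L830892) q30984, e3 q30553 L831551 q31027, e3 q30554 (flp_g L826136) q29919,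 e3 q30555 (flp_g L826152) q29921, e3 q30556 L826174 q29926, e3 q30557 L826200 q30053, e3 q30558 L826210 q30017, e3 q30559 L826230 q30247, e3 q30560 L826242 q30248, e3 q30561 L826264 q30487, e3 q30562 L826279 q30485, e3 q30563 L826288 q30249, e3 q30564 L826300 q30250, e3 q30565 L826320 q30486, e3 q30566 L826326 q30251, e3 q30567 L826343 q30484, e3 q30568 L826355 q30252, e3 q30569 L826372 q29998, e3 q30570 L831745 q31040, e3 q30571 (flp_g L826390) q29940, e3 q30572 (flp_g L826408) q29942, e3 q30573 L826438 q30253, e3 q30574 L826452 q29997, e3 q30575 L826466 q30254, e3 q30576 L826478 q30170, e3 q30577 L826494 q30171, e3 q30578 L826512 q30204, e3 q30579 L826528 q30205, e3 q30580 L826547 q30475, e3 q30581 L826563 q30476, e3 q30582 L826582 q30393, e3 q30583 L826598 q30394, e3 q30584 L826617 q30182, e3 q30585 L826629 q30184, e3 q30586 L826642 q30186, e3 q30587 L826659 q30188, e3 q30588 L826673 q30277, e3 q30589 (flp_g L830936) q30986, e3 q30590 L826703 q30269, e3 q30591 L826715 q30270, trivial⟩ (by decide +kernel)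

theorem ce_g_478 : ∀ r, r < 64 → sm gg (Qf (30592 + r)) = Qf (tab Gen.g (30592 + r)) :=
  edges_tab (sm gg) Qf (tab Gen.g) 30592 [(30592, 31056), (30593, 31033), (30594, 29972), (30595, 30418), (30596, 30419), (30597, 31061), (30598, 31021), (30599, 29977), (30600, 31062), (30601, 29980), (30602, 29986), (30603, 29987), (30604, 30179), (30605, 30180), (30606, 31063), (30607, 31065), (30608, 30437), (30609, 30020), (30610, 30411), (30611, 30500), (30612, 30271), (30613, 30412), (30614, 31041), (30615, 30413), (30616, 31039), (30617, 30048), (30618, 30479), (30619, 31026), (30620, 30480), (30621, 31007), (30622, 30228), (30623, 30400), (30624, 30004), (30625, 30481), (30626, 30356), (30627, 30357), (30628, 30237), (30629, 30014), (30630, 30015), (30631, 30156), (30632, 30157), (30633, 30016), (30634, 31085), (30635, 31087), (30636, 31089), (30637, 30993), (30638, 31017), (30639, 31019), (30640, 31014), (30641, 30436), (30642, 30424), (30643, 30425), (30644, 30426), (30645, 30427), (30646, 30428), (30647, 30443), (30648, 30444),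 (30649, 30214), (30650, 30236), (30651, 30119), (30652, 30120), (30653, 30045), (30654, 30159), (30655, 30046)]
    ⟨e3 q30592 L832008 q31056, e3 q30593 (flp_g L831649) q31033, e3 q30594 (flp_g L826754) q29972, e3 q30595 L826778 q30418, e3 q30596 L826790 q30419, e3 q30597 L832085 q31061, e3 q30598 (flp_g L831472) q31021, e3 q30599 (flp_g L826829) q29977, e3 q30600 L832101 q31062, e3 q30601 (flp_g L826857) q29980, e3 q30602 L826875 q29986, e3 q30603 L826887 q29987, e3 q30604 L826911 q30179, e3 q30605 L826926 q30180, e3 q30606 (flp_g L832119) q31063, e3 q30607 (flp_g L832151) q31065, e3 q30608 L826953 q30437, e3 q30609 L826969 q30020, e3 q30610 L826981 q30411, e3 q30611 L826995 q30500, e3 q30612 L827005 q30271, e3 q30613 L827015 q30412, e3 q30614 (flp_g L831777) q31041, e3 q30615 L827037 q30413, e3 q30616 (flp_g L831741) q31039, e3 q30617 L827055 q30048, e3 q30618 L827071 q30479, e3 q30619 (flp_g L831545) q31026, e3 q30620 L827093 q30480, e3 q30621 (flp_g L831237) q31007, e3 q30622 L827112 q30228, e3 q30623 L827127 q30400,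 e3 q30624 (flp_g L827135) q30004, e3 q30625 L827151 q30481, e3 q30626 L827163 q30356, e3 q30627 L827172 q30357, e3 q30628 L827184 q30237, e3 q30629 L827198 q30014, e3 q30630 L827210 q30015, e3 q30631 L827232 q30156, e3 q30632 L827247 q30157, e3 q30633 L827256 q30016, e3 q30634 (flp_g L832398) q31085, e3 q30635 (flp_g L832428) q31087, e3 q30636 (flp_g L832457) q31089, e3 q30637 L831046 q30993, e3 q30638 (flp_g L831410) q31017, e3 q30639 (flp_g L831442) q31019, e3 q30640 (flp_g L831368) q31014, e3 q30641 L827353 q30436, e3 q30642 L827367 q30424, e3 q30643 L827383 q30425, e3 q30644 L827402 q30426, e3 q30645 L827418 q30427, e3 q30646 L827433 q30428, e3 q30647 (flp_g L827447) q30443, e3 q30648 (flp_g L827460) q30444, e3 q30649 L827466 q30214, e3 q30650 L827484 q30236, e3 q30651 L827498 q30119, e3 q30652 L827514 q30120, e3 q30653 L827530 q30045, e3 q30654 L827548 q30159, e3 q30655 L827554 q30046, trivial⟩ (by decide +kernel)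

theorem ce_g_479 : ∀ r, r < 64 → sm gg (Qf (30656 + r)) = Qf (tab Gen.g (30656 + r)) :=
  edges_tab (sm gg) Qf (tab Gen.g) 30656 [(30656, 30161), (30657, 30047), (30658, 31103), (30659, 31105), (30660, 31107), (30661, 31074), (30662, 30201), (30663, 30202), (30664, 30199), (30665, 30206), (30666, 30207), (30667, 30164), (30668, 30307), (30669, 30331), (30670, 30332), (30671, 30453), (30672, 30167), (30673, 30455), (30674, 30168), (30675, 30402), (30676, 30403), (30677, 31125), (30678, 30085), (30679, 30358), (30680, 30359), (30681, 31131), (30682, 31002), (30683, 30219), (30684, 30090), (30685, 31132), (30686, 30093), (30687, 30397), (30688, 30398), (30689, 30399), (30690, 30463), (30691, 30183), (30692, 30464), (30693, 30185), (30694, 30187), (30695, 30460), (30696, 30458), (30697, 30454), (30698, 30452), (30699, 30980), (30700, 30240), (30701, 30241), (30702, 31101), (30703, 31102), (30704, 30382), (30705, 31146), (30706, 30340), (30707, 30360), (30708, 30123), (30709, 30438), (30710, 31149), (30711, 30439), (30712, 31152),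 (30713, 30130), (30714, 30373), (30715, 30131), (30716, 30429), (30717, 31156), (30718, 30431), (30719, 31159)]
    ⟨e3 q30656 L827569 q30161, e3 q30657 L827581 q30047, e3 q30658 (flp_g L832643) q31103, e3 q30659 (flp_g L832673) q31105, e3 q30660 (flp_g L832703) q31107, e3 q30661 (flp_g L832260) q31074, e3 q30662 L827634 q30201, e3 q30663 L827646 q30202, e3 q30664 L827670 q30199, e3 q30665 L827680 q30206, e3 q30666 L827692 q30207, e3 q30667 L827720 q30164, e3 q30668 L827732 q30307, e3 q30669 L827742 q30331, e3 q30670 L827752 q30332, e3 q30671 L827765 q30453, e3 q30672 (flp_g L827789) q30167, e3 q30673 L827793 q30455, e3 q30674 L827820 q30168, e3 q30675 L827832 q30402, e3 q30676 L827844 q30403, e3 q30677 L832961 q31125, e3 q30678 (flp_g L827868) q30085, e3 q30679 L827892 q30358, e3 q30680 L827904 q30359, e3 q30681 L833044 q31131, e3 q30682 (flp_g L831174) q31002, e3 q30683 L827946 q30219, e3 q30684 (flp_g L827952) q30090, e3 q30685 L833060 q31132, e3 q30686 (flp_g L827982) q30093, e3 q30687 L828004 q30397, e3 q30688 L828012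 q30398, e3 q30689 L828027 q30399, e3 q30690 L828039 q30463, e3 q30691 L828057 q30183, e3 q30692 L828061 q30464, e3 q30693 L828076 q30185, e3 q30694 L828083 q30187, e3 q30695 L828103 q30460, e3 q30696 L828117 q30458, e3 q30697 L828135 q30454, e3 q30698 L828149 q30452, e3 q30699 (flp_g L830833) q30980, e3 q30700 L828177 q30240, e3 q30701 L828189 q30241, e3 q30702 (flp_g L832610) q31101, e3 q30703 (flp_g L832626) q31102, e3 q30704 L828218 q30382, e3 q30705 L833248 q31146, e3 q30706 L828244 q30340, e3 q30707 L828252 q30360, e3 q30708 (flp_g L828254) q30123, e3 q30709 L828272 q30438, e3 q30710 L833276 q31149, e3 q30711 L828286 q30439, e3 q30712 L833303 q31152, e3 q30713 (flp_g L828295) q30130, e3 q30714 (flp_g L828314) q30373, e3 q30715 (flp_g L828316) q30131, e3 q30716 L828333 q30429, e3 q30717 L833347 q31156, e3 q30718 L828351 q30431, e3 q30719 L833375 q31159, trivial⟩ (by decide +kernel)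

theorem ce_g_480 : ∀ r, r < 64 → sm gg (Qf (30720 + r)) = Qf (tab Gen.g (30720 + r)) :=
  edges_tab (sm gg) Qf (tab Gen.g) 30720 [(30720, 30287), (30721, 30135), (30722, 30136), (30723, 30281), (30724, 30139), (30725, 30191), (30726, 30432), (30727, 30433), (30728, 30434), (30729, 30435), (30730, 30227), (30731, 30238), (30732, 30239), (30733, 30208), (30734, 30163), (30735, 30209), (30736, 30465), (30737, 31086), (30738, 30466), (30739, 31088), (30740, 30338), (30741, 30467), (30742, 31104), (30743, 31106), (30744, 30337), (30745, 31117), (30746, 30213), (30747, 31121), (30748, 30499), (30749, 31042), (30750, 30198), (30751, 31043), (30752, 30200), (30753, 30981), (30754, 31064), (30755, 30982), (30756, 31066), (30757, 30983), (30758, 30263), (30759, 31047), (30760, 31136), (30761, 31048), (30762, 31137), (30763, 31049), (30764, 31138), (30765, 31050), (30766, 31161), (30767, 30190), (30768, 31191), (30769, 30193), (30770, 30195), (30771, 31114), (30772, 31113), (30773, 31115), (30774, 31044), (30775, 31116), (30776, 31118),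 (30777, 31167), (30778, 30477), (30779, 31099), (30780, 31100), (30781, 31025), (30782, 30995), (30783, 31203)]
    ⟨e3 q30720 L828372 q30287, e3 q30721 (flp_g L828376) q30135, e3 q30722 (flp_g L828386) q30136, e3 q30723 L828406 q30281, e3 q30724 (flp_g L828412) q30139, e3 q30725 L828434 q30191, e3 q30726 L828440 q30432, e3 q30727 L828452 q30433, e3 q30728 L828463 q30434, e3 q30729 L828473 q30435, e3 q30730 L828485 q30227, e3 q30731 L828499 q30238, e3 q30732 L828507 q30239, e3 q30733 L828522 q30208, e3 q30734 L828548 q30163, e3 q30735 L828556 q30209, e3 q30736 L828569 q30465, e3 q30737 (flp_g L832422) q31086, e3 q30738 L828583 q30466, e3 q30739 (flp_g L832449) q31088, e3 q30740 L828599 q30338, e3 q30741 L828613 q30467, e3 q30742 (flp_g L832659) q31104, e3 q30743 (flp_g L832690) q31106, e3 q30744 L828634 q30337, e3 q30745 (flp_g L832845) q31117, e3 q30746 L828658 q30213, e3 q30747 (flp_g L832910) q31121, e3 q30748 L828678 q30499, e3 q30749 (flp_g L831791) q31042, e3 q30750 L828711 q30198, e3 q30751 (flp_g L831807) q31043,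 e3 q30752 L828736 q30200, e3 q30753 (flp_g L830847) q30981, e3 q30754 (flp_g L832145) q31064, e3 q30755 (flp_g L830861) q30982, e3 q30756 (flp_g L832174) q31066, e3 q30757 (flp_g L830878) q30983, e3 q30758 L828782 q30263, e3 q30759 (flp_g L831880) q31047, e3 q30760 (flp_g L833124) q31136, e3 q30761 (flp_g L831894) q31048, e3 q30762 (flp_g L833137) q31137, e3 q30763 (flp_g L831909) q31049, e3 q30764 (flp_g L833143) q31138, e3 q30765 (flp_g L831925) q31050, e3 q30766 (flp_g L833417) q31161, e3 q30767 (flp_g L828856) q30190, e3 q30768 L833701 q31191, e3 q30769 (flp_g L828882) q30193, e3 q30770 (flp_g L828898) q30195, e3 q30771 (flp_g L832792) q31114, e3 q30772 (flp_g L832766) q31113, e3 q30773 (flp_g L832798) q31115, e3 q30774 (flp_g L831826) q31044, e3 q30775 (flp_g L832815) q31116, e3 q30776 (flp_g L832853) q31118, e3 q30777 (flp_g L833481) q31167, e3 q30778 L829004 q30477, e3 q30779 (flp_g L832581) q31099, e3 q30780 (flp_g L832594) q31100, e3 q30781 (flp_g L831525) q31025, e3 q30782 (flp_g L831071) q30995, e3 q30783 L833857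 q31203, trivial⟩ (by decide +kernel)

theorem ce_g_481 : ∀ r, r < 64 → sm gg (Qf (30784 + r)) = Qf (tab Gen.g (30784 + r)) :=
  edges_tab (sm gg) Qf (tab Gen.g) 30784 [(30784, 30997), (30785, 31130), (30786, 30999), (30787, 30218), (30788, 30222), (30789, 31004), (30790, 31005), (30791, 31006), (30792, 31077), (30793, 31079), (30794, 30233), (30795, 30462), (30796, 30234), (30797, 31209), (30798, 31083), (30799, 31084), (30800, 31166), (30801, 31141), (30802, 31142), (30803, 30244), (30804, 31028), (30805, 31030), (30806, 31032), (30807, 31034), (30808, 31036), (30809, 31038), (30810, 30482), (30811, 30483), (30812, 30260), (30813, 30261), (30814, 30262), (30815, 31219), (30816, 31220), (30817, 31221), (30818, 31183), (30819, 30401), (30820, 31227), (30821, 30389), (30822, 30266), (30823, 31052), (30824, 31070), (30825, 31054), (30826, 30354), (30827, 30273), (30828, 30315), (30829, 30284), (30830, 31233), (30831, 30286), (30832, 31160), (30833, 30288), (30834, 30280), (30835, 31230), (30836, 31155), (30837, 31232), (30838,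 30285), (30839, 31158), (30840, 31235), (30841, 30295), (30842, 30296), (30843, 30297), (30844, 30298), (30845, 31239), (30846, 31240), (30847, 31241)]
    ⟨e3 q30784 (flp_g L831099) q30997, e3 q30785 (flp_g L833038) q31130, e3 q30786 (flp_g L831126) q30999, e3 q30787 (flp_g L829104) q30218, e3 q30788 (flp_g L829116) q30222, e3 q30789 (flp_g L831200) q31004, e3 q30790 (flp_g L831214) q31005, e3 q30791 (flp_g L831225) q31006, e3 q30792 (flp_g L832298) q31077, e3 q30793 (flp_g L832320) q31079, e3 q30794 L829192 q30233, e3 q30795 L829206 q30462, e3 q30796 L829214 q30234, e3 q30797 (flp_g L833934) q31209, e3 q30798 (flp_g L832371) q31083, e3 q30799 (flp_g L832386) q31084, e3 q30800 (flp_g L833465) q31166, e3 q30801 (flp_g L833193) q31141, e3 q30802 (flp_g L833205) q31142, e3 q30803 L829298 q30244, e3 q30804 (flp_g L831575) q31028, e3 q30805 (flp_g L831605) q31030, e3 q30806 (flp_g L831634) q31032, e3 q30807 (flp_g L831663) q31034, e3 q30808 (flp_g L831695) q31036, e3 q30809 (flp_g L831725) q31038, e3 q30810 L829366 q30482, e3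 q30811 L829376 q30483, e3 q30812 L829387 q30260, e3 q30813 L829395 q30261, e3 q30814 L829404 q30262, e3 q30815 (flp_g L834043) q31219, e3 q30816 (flp_g L834051) q31220, e3 q30817 (flp_g L834062) q31221, e3 q30818 (flp_g L833630) q31183, e3 q30819 L829449 q30401, e3 q30820 (flp_g L834124) q31227, e3 q30821 L829477 q30389, e3 q30822 L829489 q30266, e3 q30823 (flp_g L831953) q31052, e3 q30824 (flp_g L832225) q31070, e3 q30825 (flp_g L831983) q31054, e3 q30826 L829534 q30354, e3 q30827 L829546 q30273, e3 q30828 L829558 q30315, e3 q30829 L829568 q30284, e3 q30830 L834182 q31233, e3 q30831 L829586 q30286, e3 q30832 (flp_g L833397) q31160, e3 q30833 L829607 q30288, e3 q30834 (flp_g L829611) q30280, e3 q30835 (flp_g L834158) q31230, e3 q30836 (flp_g L833343) q31155, e3 q30837 (flp_g L834178) q31232, e3 q30838 (flp_g L829647) q30285, e3 q30839 (flp_g L833373) q31158, e3 q30840 (flp_g L834208) q31235, e3 q30841 L829675 q30295, e3 q30842 L829687 q30296, e3 q30843 L829698 q30297, e3 q30844 L829710 q30298, e3 q30845 (flp_g L834239) q31239,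 e3 q30846 (flp_g L834252) q31240, e3 q30847 (flp_g L834264) q31241, trivial⟩ (by decide +kernel)

theorem ce_g_482 : ∀ r, r < 64 → sm gg (Qf (30848 + r)) = Qf (tab Gen.g (30848 + r)) :=
  edges_tab (sm gg) Qf (tab Gen.g) 30848 [(30848, 30378), (30849, 31242), (30850, 30301), (30851, 30302), (30852, 31247), (30853, 30447), (30854, 30448), (30855, 30314), (30856, 30311), (30857, 30312), (30858, 30313), (30859, 31250), (30860, 31229), (30861, 30319), (30862, 30376), (30863, 30383), (30864, 30380), (30865, 30325), (30866, 30327), (30867, 31252), (30868, 30330), (30869, 31254), (30870, 31119), (30871, 30335), (30872, 30336), (30873, 31256), (30874, 31174), (30875, 31175), (30876, 31171), (30877, 31144), (30878, 30417), (30879, 30347), (30880, 30416), (30881, 30348), (30882, 31262), (30883, 30353), (30884, 30355), (30885, 31226), (30886, 31082), (30887, 31126), (30888, 31145), (30889, 31128), (30890, 30370), (30891, 31018), (30892, 30371), (30893, 31020), (30894, 30372), (30895, 30374), (30896, 31023), (30897, 31024), (30898, 31265),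 (30899, 31267), (30900, 31269), (30901, 31151), (30902, 31270), (30903, 31022), (30904, 31244), (30905, 30988), (30906, 31251), (30907, 30990), (30908, 31246), (30909, 30396), (30910, 30430), (30911, 30478)]
    ⟨e3 q30848 L829738 q30378, e3 q30849 (flp_g L834277) q31242, e3 q30850 L829755 q30301, e3 q30851 L829767 q30302, e3 q30852 (flp_g L834325) q31247, e3 q30853 L829792 q30447, e3 q30854 L829809 q30448, e3 q30855 L829821 q30314, e3 q30856 L829837 q30311, e3 q30857 L829851 q30312, e3 q30858 L829859 q30313, e3 q30859 (flp_g L834362) q31250, e3 q30860 (flp_g L834146) q31229, e3 q30861 L829897 q30319, e3 q30862 L829907 q30376, e3 q30863 L829921 q30383, e3 q30864 L829933 q30380, e3 q30865 L829939 q30325, e3 q30866 L829949 q30327, e3 q30867 (flp_g L834382) q31252, e3 q30868 L829968 q30330, e3 q30869 (flp_g L834397) q31254, e3 q30870 (flp_g L832870) q31119, e3 q30871 L829989 q30335, e3 q30872 L829997 q30336, e3 q30873 (flp_g L834417) q31256, e3 q30874 (flp_g L833547) q31174, e3 q30875 (flp_g L833558) q31175, e3 q30876 (flp_g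 L833518) q31171, e3 q30877 (flp_g L833236) q31144, e3 q30878 L830057 q30417, e3 q30879 L830065 q30347, e3 q30880 L830073 q30416, e3 q30881 L830081 q30348, e3 q30882 (flp_g L834471) q31262, e3 q30883 L830101 q30353, e3 q30884 L830113 q30355, e3 q30885 (flp_g L834110) q31226, e3 q30886 (flp_g L832357) q31082, e3 q30887 (flp_g L832983) q31126, e3 q30888 (flp_g L833246) q31145, e3 q30889 (flp_g L833011) q31128, e3 q30890 L830170 q30370, e3 q30891 (flp_g L831436) q31018, e3 q30892 L830184 q30371, e3 q30893 (flp_g L831465) q31020, e3 q30894 L830201 q30372, e3 q30895 L830207 q30374, e3 q30896 (flp_g L831506) q31023, e3 q30897 (flp_g L831519) q31024, e3 q30898 (flp_g L834496) q31265, e3 q30899 (flp_g L834512) q31267, e3 q30900 (flp_g L834526) q31269, e3 q30901 L833301 q31151, e3 q30902 (flp_g L834530) q31270, e3 q30903 (flp_g L831488) q31022, e3 q30904 (flp_g L834294) q31244, e3 q30905 (flp_g L830962) q30988, e3 q30906 (flp_g L834374) q31251, e3 q30907 (flp_g L830992) q30990, e3 q30908 (flp_g L834317) q31246, e3 q30909 L830316 q30396,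 e3 q30910 L830324 q30430, e3 q30911 L830334 q30478, trivial⟩ (by decide +kernel)

theorem ce_g_483 : ∀ r, r < 64 → sm gg (Qf (30912 + r)) = Qf (tab Gen.g (30912 + r)) :=
  edges_tab (sm gg) Qf (tab Gen.g) 30912 [(30912, 31046), (30913, 31133), (30914, 31134), (30915, 31111), (30916, 31080), (30917, 31122), (30918, 31124), (30919, 30404), (30920, 30495), (30921, 31071), (30922, 30422), (30923, 31261), (30924, 30423), (30925, 31057), (30926, 31059), (30927, 31008), (30928, 31010), (30929, 31289), (30930, 31095), (30931, 31096), (30932, 31097), (30933, 31153), (30934, 31162), (30935, 31163), (30936, 31164), (30937, 31165), (30938, 31068), (30939, 31069), (30940, 31147), (30941, 30440), (30942, 31098), (30943, 30449), (30944, 31249), (30945, 31301), (30946, 30473), (30947, 31140), (30948, 30474), (30949, 31120), (30950, 30468), (30951, 31139), (30952, 30469), (30953, 30498), (30954, 31135), (30955, 31168), (30956, 31172), (30957, 31305), (30958, 30472), (30959, 31310), (30960, 31303), (30961, 31045), (30962, 31196), (30963, 31280),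 (30964, 31075), (30965, 31081), (30966, 31218), (30967, 31035), (30968, 31037), (30969, 31031), (30970, 31029), (30971, 30492), (30972, 30493), (30973, 30494), (30974, 31318), (30975, 31319)]
    ⟨e3 q30912 (flp_g L831862) q31046, e3 q30913 (flp_g L833082) q31133, e3 q30914 (flp_g L833098) q31134, e3 q30915 (flp_g L832743) q31111, e3 q30916 (flp_g L832334) q31080, e3 q30917 (flp_g L832920) q31122, e3 q30918 (flp_g L832950) q31124, e3 q30919 (flp_g L830398) q30404, e3 q30920 L830416 q30495, e3 q30921 (flp_g L832235) q31071, e3 q30922 L830432 q30422, e3 q30923 (flp_g L834463) q31261, e3 q30924 L830448 q30423, e3 q30925 (flp_g L832030) q31057, e3 q30926 (flp_g L832060) q31059, e3 q30927 (flp_g L831249) q31008, e3 q30928 (flp_g L831285) q31010, e3 q30929 (flp_g L834697) q31289, e3 q30930 (flp_g L832528) q31095, e3 q30931 (flp_g L832546) q31096, e3 q30932 (flp_g L832558) q31097, e3 q30933 (flp_g L833323) q31153, e3 q30934 (flp_g L833423) q31162, e3 q30935 (flp_g L833436) q31163, e3 q30936 (flp_g L833446) q31164, e3 q30937 (flp_g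 L833457) q31165, e3 q30938 (flp_g L832194) q31068, e3 q30939 (flp_g L832209) q31069, e3 q30940 (flp_g L833268) q31147, e3 q30941 (flp_g L830565) q30440, e3 q30942 L832573 q31098, e3 q30943 L830583 q30449, e3 q30944 (flp_g L834348) q31249, e3 q30945 (flp_g L834780) q31301, e3 q30946 L830598 q30473, e3 q30947 (flp_g L833181) q31140, e3 q30948 L830612 q30474, e3 q30949 (flp_g L832882) q31120, e3 q30950 L830627 q30468, e3 q30951 (flp_g L833163) q31139, e3 q30952 L830645 q30469, e3 q30953 L830656 q30498, e3 q30954 (flp_g L833108) q31135, e3 q30955 (flp_g L833493) q31168, e3 q30956 (flp_g L833530) q31172, e3 q30957 (flp_g L834809) q31305, e3 q30958 L830687 q30472, e3 q30959 (flp_g L834845) q31310, e3 q30960 (flp_g L834794) q31303, e3 q30961 (flp_g L831844) q31045, e3 q30962 (flp_g L833771) q31196, e3 q30963 (flp_g L834617) q31280, e3 q30964 (flp_g L832276) q31075, e3 q30965 (flp_g L832346) q31081, e3 q30966 (flp_g L834031) q31218, e3 q30967 (flp_g L831681) q31035, e3 q30968 (flp_g L831712) q31037, e3 q30969 (flp_g L831626) q31031,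 e3 q30970 (flp_g L831599) q31029, e3 q30971 L830774 q30492, e3 q30972 L830780 q30493, e3 q30973 L830789 q30494, e3 q30974 (flp_g L834903) q31318, e3 q30975 (flp_g L834909) q31319, trivial⟩ (by decide +kernel)

theorem ce_g_484 : ∀ r, r < 64 → sm gg (Qf (30976 + r)) = Qf (tab Gen.g (30976 + r)) :=
  edges_tab (sm gg) Qf (tab Gen.g) 30976 [(30976, 31287), (30977, 30497), (30978, 31306), (30979, 31176), (30980, 30699), (30981, 30753), (30982, 30755), (30983, 30757), (30984, 30552), (30985, 31326), (30986, 30589), (30987, 30509), (30988, 30905), (30989, 31329), (30990, 30907), (30991, 31332), (30992, 30514), (30993, 30637), (30994, 30515), (30995, 30782), (30996, 31336), (30997, 30784), (30998, 31339), (30999, 30786), (31000, 30519), (31001, 30520), (31002, 30682), (31003, 30523), (31004, 30789), (31005, 30790), (31006, 30791), (31007, 30621), (31008, 30927), (31009, 31346), (31010, 30928), (31011, 30531), (31012, 30533), (31013, 30539), (31014, 30640), (31015, 30540), (31016, 31347), (31017, 30638), (31018, 30891), (31019, 30639),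 (31020, 30893), (31021, 30598), (31022, 30903), (31023, 30896), (31024, 30897), (31025, 30781), (31026, 30619), (31027, 30553), (31028, 30804), (31029, 30970), (31030, 30805), (31031, 30969), (31032, 30806), (31033, 30593), (31034, 30807), (31035, 30967), (31036, 30808), (31037, 30968), (31038, 30809), (31039, 30616)]
    ⟨e3 q30976 (flp_g L834677) q31287, e3 q30977 L830807 q30497, e3 q30978 (flp_g L834817) q31306, e3 q30979 (flp_g L833568) q31176, e3 q30980 L830833 q30699, e3 q30981 L830847 q30753, e3 q30982 L830861 q30755, e3 q30983 L830878 q30757, e3 q30984 L830892 q30552, e3 q30985 L834993 q31326, e3 q30986 L830936 q30589, e3 q30987 (flp_g L830938) q30509, e3 q30988 L830962 q30905, e3 q30989 L835043 q31329, e3 q30990 L830992 q30907, e3 q30991 L835090 q31332, e3 q30992 (flp_g L831015) q30514, e3 q30993 (flp_g L831046) q30637, e3 q30994 (flp_g L831048) q30515, e3 q30995 L831071 q30782, e3 q30996 L835148 q31336, e3 q30997 L831099 q30784, e3 q30998 L835192 q31339, e3 q30999 L831126 q30786, e3 q31000 (flp_g L831132) q30519,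 e3 q31001 (flp_g L831148) q30520, e3 q31002 L831174 q30682, e3 q31003 (flp_g L831182) q30523, e3 q31004 L831200 q30789, e3 q31005 L831214 q30790, e3 q31006 L831225 q30791, e3 q31007 L831237 q30621, e3 q31008 L831249 q30927, e3 q31009 L835298 q31346, e3 q31010 L831285 q30928, e3 q31011 (flp_g L831296) q30531, e3 q31012 (flp_g L831314) q30533, e3 q31013 L831338 q30539, e3 q31014 L831368 q30640, e3 q31015 L831380 q30540, e3 q31016 (flp_g L835330) q31347, e3 q31017 L831410 q30638, e3 q31018 L831436 q30891, e3 q31019 L831442 q30639, e3 q31020 L831465 q30893, e3 q31021 L831472 q30598, e3 q31022 L831488 q30903, e3 q31023 L831506 q30896, e3 q31024 L831519 q30897, e3 q31025 L831525 q30781, e3 q31026 L831545 q30619, e3 q31027 (flp_g L831551) q30553, e3 q31028 L831575 q30804, e3 q31029 L831599 q30970, e3 q31030 L831605 q30805, e3 q31031 L831626 q30969, e3 q31032 L831634 q30806, e3 q31033 L831649 q30593, e3 q31034 L831663 q30807, e3 q31035 L831681 q30967, e3 q31036 L831695 q30808, e3 q31037 L831712 q30968, e3 q31038 L831725 q30809, e3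 q31039 L831741 q30616, trivial⟩ (by decide +kernel)

theorem ce_g_485 : ∀ r, r < 64 → sm gg (Qf (31040 + r)) = Qf (tab Gen.g (31040 + r)) :=
  edges_tab (sm gg) Qf (tab Gen.g) 31040 [(31040, 30570), (31041, 30614), (31042, 30749), (31043, 30751), (31044, 30774), (31045, 30961), (31046, 30912), (31047, 30759), (31048, 30761), (31049, 30763), (31050, 30765), (31051, 31325), (31052, 30823), (31053, 31377), (31054, 30825), (31055, 31361), (31056, 30592), (31057, 30925), (31058, 31381), (31059, 30926), (31060, 31351), (31061, 30597), (31062, 30600), (31063, 30606), (31064, 30754), (31065, 30607), (31066, 30756), (31067, 31383), (31068, 30938), (31069, 30939), (31070, 30824), (31071, 30921), (31072, 31365), (31073, 31366), (31074, 30661), (31075, 30964), (31076, 31343), (31077, 30792), (31078, 31344), (31079, 30793), (31080, 30916), (31081, 30965), (31082, 30886), (31083, 30798), (31084, 30799), (31085, 30634), (31086, 30737), (31087, 30635), (31088, 30739), (31089, 30636), (31090, 31399), (31091, 31401), (31092, 31403), (31093,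 31331), (31094, 31348), (31095, 30930), (31096, 30931), (31097, 30932), (31098, 30942), (31099, 30779), (31100, 30780), (31101, 30702), (31102, 30703), (31103, 30658)]
    ⟨e3 q31040 (flp_g L831745) q30570, e3 q31041 L831777 q30614, e3 q31042 L831791 q30749, e3 q31043 L831807 q30751, e3 q31044 L831826 q30774, e3 q31045 L831844 q30961, e3 q31046 L831862 q30912, e3 q31047 L831880 q30759, e3 q31048 L831894 q30761, e3 q31049 L831909 q30763, e3 q31050 L831925 q30765, e3 q31051 (flp_g L834991) q31325, e3 q31052 L831953 q30823, e3 q31053 L835788 q31377, e3 q31054 L831983 q30825, e3 q31055 (flp_g L835533) q31361, e3 q31056 (flp_g L832008) q30592, e3 q31057 L832030 q30925, e3 q31058 L835853 q31381, e3 q31059 L832060 q30926, e3 q31060 (flp_g L835389) q31351, e3 q31061 (flp_g L832085) q30597, e3 q31062 (flp_g L832101) q30600, e3 q31063 L832119 q30606, e3 q31064 L832145 q30754, e3 q31065 L832151 q30607, e3 q31066 L832174 q30756, e3 q31067 (flp_g L835892) q31383, e3 q31068 L832194 q30938, e3 q31069 L832209 q30939, e3 q31070 L832225 q30824,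 e3 q31071 L832235 q30921, e3 q31072 (flp_g L835598) q31365, e3 q31073 (flp_g L835613) q31366, e3 q31074 L832260 q30661, e3 q31075 L832276 q30964, e3 q31076 (flp_g L835259) q31343, e3 q31077 L832298 q30792, e3 q31078 (flp_g L835274) q31344, e3 q31079 L832320 q30793, e3 q31080 L832334 q30916, e3 q31081 L832346 q30965, e3 q31082 L832357 q30886, e3 q31083 L832371 q30798, e3 q31084 L832386 q30799, e3 q31085 L832398 q30634, e3 q31086 L832422 q30737, e3 q31087 L832428 q30635, e3 q31088 L832449 q30739, e3 q31089 L832457 q30636, e3 q31090 (flp_g L836109) q31399, e3 q31091 (flp_g L836141) q31401, e3 q31092 (flp_g L836169) q31403, e3 q31093 L835088 q31331, e3 q31094 (flp_g L835344) q31348, e3 q31095 L832528 q30930, e3 q31096 L832546 q30931, e3 q31097 L832558 q30932, e3 q31098 (flp_g L832573) q30942, e3 q31099 L832581 q30779, e3 q31100 L832594 q30780, e3 q31101 L832610 q30702, e3 q31102 L832626 q30703, e3 q31103 L832643 q30658, trivial⟩ (by decide +kernel)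

theorem ce_g_486 : ∀ r, r < 64 → sm gg (Qf (31104 + r)) = Qf (tab Gen.g (31104 + r)) :=
  edges_tab (sm gg) Qf (tab Gen.g) 31104 [(31104, 30742), (31105, 30659), (31106, 30743), (31107, 30660), (31108, 31414), (31109, 31416), (31110, 31390), (31111, 30915), (31112, 31391), (31113, 30772), (31114, 30771), (31115, 30773), (31116, 30775), (31117, 30745), (31118, 30776), (31119, 30870), (31120, 30949), (31121, 30747), (31122, 30917), (31123, 31426), (31124, 30918), (31125, 30677), (31126, 30887), (31127, 31430), (31128, 30889), (31129, 31340), (31130, 30785), (31131, 30681), (31132, 30685), (31133, 30913), (31134, 30914), (31135, 30954), (31136, 30760), (31137, 30762), (31138, 30764), (31139, 30951), (31140, 30947), (31141, 30801), (31142, 30802), (31143, 31413), (31144, 30877), (31145, 30888), (31146, 30705), (31147, 30940), (31148, 31442), (31149, 30710), (31150, 31444), (31151, 30901), (31152, 30712), (31153, 30933), (31154, 31448), (31155, 30836), (31156, 30717), (31157, 31450), (31158, 30839), (31159, 30719), (31160, 30832),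 (31161, 30766), (31162, 30934), (31163, 30935), (31164, 30936), (31165, 30937), (31166, 30800), (31167, 30777)]
    ⟨e3 q31104 L832659 q30742, e3 q31105 L832673 q30659, e3 q31106 L832690 q30743, e3 q31107 L832703 q30660, e3 q31108 (flp_g L836329) q31414, e3 q31109 (flp_g L836360) q31416, e3 q31110 (flp_g L835985) q31390, e3 q31111 L832743 q30915, e3 q31112 (flp_g L836000) q31391, e3 q31113 L832766 q30772, e3 q31114 L832792 q30771, e3 q31115 L832798 q30773, e3 q31116 L832815 q30775, e3 q31117 L832845 q30745, e3 q31118 L832853 q30776, e3 q31119 L832870 q30870, e3 q31120 L832882 q30949, e3 q31121 L832910 q30747, e3 q31122 L832920 q30917, e3 q31123 L836492 q31426, e3 q31124 L832950 q30918, e3 q31125 (flp_g L832961) q30677, e3 q31126 L832983 q30887, e3 q31127 L836552 q31430, e3 q31128 L833011 q30889, e3 q31129 (flp_g L835216) q31340, e3 q31130 L833038 q30785, e3 q31131 (flp_g L833044) q30681, e3 q31132 (flp_g L833060) q30685, e3 q31133 L833082 q30913, e3 q31134 L833098 q30914, e3 q31135 L833108 q30954, e3 q31136 L833124 q30760,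 e3 q31137 L833137 q30762, e3 q31138 L833143 q30764, e3 q31139 L833163 q30951, e3 q31140 L833181 q30947, e3 q31141 L833193 q30801, e3 q31142 L833205 q30802, e3 q31143 (flp_g L836313) q31413, e3 q31144 L833236 q30877, e3 q31145 L833246 q30888, e3 q31146 (flp_g L833248) q30705, e3 q31147 L833268 q30940, e3 q31148 L836700 q31442, e3 q31149 (flp_g L833276) q30710, e3 q31150 L836727 q31444, e3 q31151 (flp_g L833301) q30901, e3 q31152 (flp_g L833303) q30712, e3 q31153 L833323 q30933, e3 q31154 L836769 q31448, e3 q31155 L833343 q30836, e3 q31156 (flp_g L833347) q30717, e3 q31157 L836797 q31450, e3 q31158 L833373 q30839, e3 q31159 (flp_g L833375) q30719, e3 q31160 L833397 q30832, e3 q31161 L833417 q30766, e3 q31162 L833423 q30934, e3 q31163 L833436 q30935, e3 q31164 L833446 q30936, e3 q31165 L833457 q30937, e3 q31166 L833465 q30800, e3 q31167 L833481 q30777, trivial⟩ (by decide +kernel)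

theorem ce_g_487 : ∀ r, r < 64 → sm gg (Qf (31168 + r)) = Qf (tab Gen.g (31168 + r)) :=
  edges_tab (sm gg) Qf (tab Gen.g) 31168 [(31168, 30955), (31169, 31400), (31170, 31402), (31171, 30876), (31172, 30956), (31173, 31415), (31174, 30874), (31175, 30875), (31176, 30979), (31177, 31367), (31178, 31322), (31179, 31384), (31180, 31323), (31181, 31385), (31182, 31324), (31183, 30818), (31184, 31371), (31185, 31434), (31186, 31372), (31187, 31435), (31188, 31373), (31189, 31436), (31190, 31374), (31191, 30768), (31192, 31421), (31193, 31368), (31194, 31422), (31195, 31455), (31196, 30962), (31197, 31412), (31198, 31354), (31199, 31355), (31200, 31333), (31201, 31429), (31202, 31335), (31203, 30783), (31204, 31420), (31205, 31338), (31206, 31341), (31207, 31342), (31208, 31394), (31209, 30797), (31210, 31398), (31211, 31454), (31212, 31437), (31213, 31356), (31214, 31358), (31215, 31360), (31216, 31362), (31217, 31364), (31218, 30966), (31219, 30815), (31220, 30816), (31221, 30817), (31222, 31488), (31223, 31489), (31224, 31467),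 (31225, 31468), (31226, 30885), (31227, 30820), (31228, 31375), (31229, 30860), (31230, 30835), (31231, 31449)]
    ⟨e3 q31168 L833493 q30955, e3 q31169 (flp_g L836131) q31400, e3 q31170 (flp_g L836160) q31402, e3 q31171 L833518 q30876, e3 q31172 L833530 q30956, e3 q31173 (flp_g L836346) q31415, e3 q31174 L833547 q30874, e3 q31175 L833558 q30875, e3 q31176 L833568 q30979, e3 q31177 (flp_g L835625) q31367, e3 q31178 (flp_g L834930) q31322, e3 q31179 (flp_g L835916) q31384, e3 q31180 (flp_g L834948) q31323, e3 q31181 (flp_g L835931) q31385, e3 q31182 (flp_g L834965) q31324, e3 q31183 L833630 q30818, e3 q31184 (flp_g L835698) q31371, e3 q31185 (flp_g L836619) q31434, e3 q31186 (flp_g L835715) q31372, e3 q31187 (flp_g L836627) q31435, e3 q31188 (flp_g L835733) q31373, e3 q31189 (flp_g L836640) q31436, e3 q31190 (flp_g L835750) q31374, e3 q31191 (flp_g L833701) q30768, e3 q31192 (flp_g L836418) q31421, e3 q31193 (flp_g L835643) q31368, e3 q31194 (flp_g L836436) q31422, e3 q31195 (flp_g L836865) q31455, e3 q31196 L833771 q30962,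 e3 q31197 (flp_g L836297) q31412, e3 q31198 (flp_g L835432) q31354, e3 q31199 (flp_g L835445) q31355, e3 q31200 (flp_g L835112) q31333, e3 q31201 (flp_g L836546) q31429, e3 q31202 (flp_g L835142) q31335, e3 q31203 (flp_g L833857) q30783, e3 q31204 (flp_g L836404) q31420, e3 q31205 (flp_g L835186) q31338, e3 q31206 (flp_g L835230) q31341, e3 q31207 (flp_g L835245) q31342, e3 q31208 (flp_g L836037) q31394, e3 q31209 L833934 q30797, e3 q31210 (flp_g L836097) q31398, e3 q31211 (flp_g L836848) q31454, e3 q31212 (flp_g L836654) q31437, e3 q31213 (flp_g L835459) q31356, e3 q31214 (flp_g L835491) q31358, e3 q31215 (flp_g L835519) q31360, e3 q31216 (flp_g L835547) q31362, e3 q31217 (flp_g L835580) q31364, e3 q31218 L834031 q30966, e3 q31219 L834043 q30815, e3 q31220 L834051 q30816, e3 q31221 L834062 q30817, e3 q31222 (flp_g L837250) q31488, e3 q31223 (flp_g L837261) q31489, e3 q31224 (flp_g L836992) q31467, e3 q31225 (flp_g L837007) q31468, e3 q31226 L834110 q30885, e3 q31227 L834124 q30820, e3 q31228 (flp_g L835762) q31375, e3 q31229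 L834146 q30860, e3 q31230 L834158 q30835, e3 q31231 (flp_g L836791) q31449, trivial⟩ (by decide +kernel)

theorem ce_g_488 : ∀ r, r < 64 → sm gg (Qf (31232 + r)) = Qf (tab Gen.g (31232 + r)) :=
  edges_tab (sm gg) Qf (tab Gen.g) 31232 [(31232, 30837), (31233, 30830), (31234, 31451), (31235, 30840), (31236, 31493), (31237, 31447), (31238, 31495), (31239, 30845), (31240, 30846), (31241, 30847), (31242, 30849), (31243, 31498), (31244, 30904), (31245, 31499), (31246, 30908), (31247, 30852), (31248, 31503), (31249, 30944), (31250, 30859), (31251, 30906), (31252, 30867), (31253, 31505), (31254, 30869), (31255, 31423), (31256, 30873), (31257, 31506), (31258, 31461), (31259, 31458), (31260, 31459), (31261, 30923), (31262, 30882), (31263, 31397), (31264, 31427), (31265, 30898), (31266, 31349), (31267, 30899), (31268, 31350), (31269, 30900), (31270, 30902), (31271, 31353), (31272, 31510), (31273, 31512), (31274, 31441), (31275, 31443), (31276, 31352), (31277, 31500), (31278, 31327), (31279, 31502), (31280, 30963), (31281, 31370), (31282,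 31432), (31283, 31418), (31284, 31395), (31285, 31396), (31286, 31425), (31287, 30976), (31288, 31388), (31289, 30929), (31290, 31379), (31291, 31345), (31292, 31521), (31293, 31409), (31294, 31410), (31295, 31445)]
    ⟨e3 q31232 L834178 q30837, e3 q31233 (flp_g L834182) q30830, e3 q31234 (flp_g L836819) q31451, e3 q31235 L834208 q30840, e3 q31236 (flp_g L837295) q31493, e3 q31237 (flp_g L836767) q31447, e3 q31238 (flp_g L837318) q31495, e3 q31239 L834239 q30845, e3 q31240 L834252 q30846, e3 q31241 L834264 q30847, e3 q31242 L834277 q30849, e3 q31243 (flp_g L837345) q31498, e3 q31244 L834294 q30904, e3 q31245 (flp_g L837359) q31499, e3 q31246 L834317 q30908, e3 q31247 L834325 q30852, e3 q31248 (flp_g L837397) q31503, e3 q31249 L834348 q30944, e3 q31250 L834362 q30859, e3 q31251 L834374 q30906, e3 q31252 L834382 q30867, e3 q31253 (flp_g L837429) q31505, e3 q31254 L834397 q30869, e3 q31255 (flp_g L836452) q31423, e3 q31256 L834417 q30873, e3 q31257 (flp_g L837440) q31506, e3 q31258 (flp_g L836933) q31461, e3 q31259 (flp_g L836895)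 q31458, e3 q31260 (flp_g L836910) q31459, e3 q31261 L834463 q30923, e3 q31262 L834471 q30882, e3 q31263 (flp_g L836083) q31397, e3 q31264 (flp_g L836516) q31427, e3 q31265 L834496 q30898, e3 q31266 (flp_g L835368) q31349, e3 q31267 L834512 q30899, e3 q31268 (flp_g L835383) q31350, e3 q31269 L834526 q30900, e3 q31270 L834530 q30902, e3 q31271 (flp_g L835424) q31353, e3 q31272 (flp_g L837475) q31510, e3 q31273 (flp_g L837494) q31512, e3 q31274 L836698 q31441, e3 q31275 L836725 q31443, e3 q31276 (flp_g L835405) q31352, e3 q31277 (flp_g L837370) q31500, e3 q31278 (flp_g L835019) q31327, e3 q31279 (flp_g L837391) q31502, e3 q31280 L834617 q30963, e3 q31281 (flp_g L835681) q31370, e3 q31282 (flp_g L836589) q31432, e3 q31283 (flp_g L836381) q31418, e3 q31284 (flp_g L836053) q31395, e3 q31285 (flp_g L836068) q31396, e3 q31286 (flp_g L836482) q31425, e3 q31287 L834677 q30976, e3 q31288 (flp_g L835964) q31388, e3 q31289 L834697 q30929, e3 q31290 (flp_g L835827) q31379, e3 q31291 (flp_g L835288) q31345, e3 q31292 (flp_g L837570) q31521,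 e3 q31293 (flp_g L836246) q31409, e3 q31294 (flp_g L836265) q31410, e3 q31295 (flp_g L836744) q31445, trivial⟩ (by decide +kernel)

theorem ce_g_489 : ∀ r, r < 64 → sm gg (Qf (31296 + r)) = Qf (tab Gen.g (31296 + r)) :=
  edges_tab (sm gg) Qf (tab Gen.g) 31296 [(31296, 31452), (31297, 31453), (31298, 31387), (31299, 31439), (31300, 31411), (31301, 30945), (31302, 31504), (31303, 30960), (31304, 31424), (31305, 30957), (31306, 30978), (31307, 31433), (31308, 31456), (31309, 31527), (31310, 30959), (31311, 31526), (31312, 31369), (31313, 31392), (31314, 31487), (31315, 31363), (31316, 31357), (31317, 31359), (31318, 30974), (31319, 30975), (31320, 31530), (31321, 31462), (31322, 31178), (31323, 31180), (31324, 31182), (31325, 31051), (31326, 30985), (31327, 31278), (31328, 31536), (31329, 30989), (31330, 31538), (31331, 31093), (31332, 30991), (31333, 31200), (31334, 31542), (31335, 31202), (31336, 30996), (31337, 31544), (31338, 31205), (31339, 30998), (31340, 31129), (31341, 31206), (31342, 31207), (31343, 31076), (31344,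 31078), (31345, 31291), (31346, 31009), (31347, 31016), (31348, 31094), (31349, 31266), (31350, 31268), (31351, 31060), (31352, 31276), (31353, 31271), (31354, 31198), (31355, 31199), (31356, 31213), (31357, 31316), (31358, 31214), (31359, 31317)]
    ⟨e3 q31296 (flp_g L836830) q31452, e3 q31297 (flp_g L836840) q31453, e3 q31298 (flp_g L835952) q31387, e3 q31299 (flp_g L836677) q31439, e3 q31300 L836289 q31411, e3 q31301 L834780 q30945, e3 q31302 (flp_g L837415) q31504, e3 q31303 L834794 q30960, e3 q31304 (flp_g L836467) q31424, e3 q31305 L834809 q30957, e3 q31306 L834817 q30978, e3 q31307 (flp_g L836600) q31433, e3 q31308 (flp_g L836876) q31456, e3 q31309 (flp_g L837618) q31527, e3 q31310 L834845 q30959, e3 q31311 (flp_g L837609) q31526, e3 q31312 (flp_g L835662) q31369, e3 q31313 (flp_g L836014) q31392, e3 q31314 (flp_g L837239) q31487, e3 q31315 (flp_g L835566) q31363, e3 q31316 (flp_g L835481) q31357, e3 q31317 (flp_g L835510) q31359, e3 q31318 L834903 q30974, e3 q31319 L834909 q30975, e3 q31320 (flp_g L837640) q31530,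 e3 q31321 (flp_g L836943) q31462, e3 q31322 L834930 q31178, e3 q31323 L834948 q31180, e3 q31324 L834965 q31182, e3 q31325 L834991 q31051, e3 q31326 (flp_g L834993) q30985, e3 q31327 L835019 q31278, e3 q31328 L837729 q31536, e3 q31329 (flp_g L835043) q30989, e3 q31330 L837764 q31538, e3 q31331 (flp_g L835088) q31093, e3 q31332 (flp_g L835090) q30991, e3 q31333 L835112 q31200, e3 q31334 L837824 q31542, e3 q31335 L835142 q31202, e3 q31336 (flp_g L835148) q30996, e3 q31337 L837860 q31544, e3 q31338 L835186 q31205, e3 q31339 (flp_g L835192) q30998, e3 q31340 L835216 q31129, e3 q31341 L835230 q31206, e3 q31342 L835245 q31207, e3 q31343 L835259 q31076, e3 q31344 L835274 q31078, e3 q31345 L835288 q31291, e3 q31346 (flp_g L835298) q31009, e3 q31347 L835330 q31016, e3 q31348 L835344 q31094, e3 q31349 L835368 q31266, e3 q31350 L835383 q31268, e3 q31351 L835389 q31060, e3 q31352 L835405 q31276, e3 q31353 L835424 q31271, e3 q31354 L835432 q31198, e3 q31355 L835445 q31199, e3 q31356 L835459 q31213, e3 q31357 L835481 q31316, e3 q31358 L835491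 q31214, e3 q31359 L835510 q31317, trivial⟩ (by decide +kernel)

theorem ce_g_490 : ∀ r, r < 64 → sm gg (Qf (31360 + r)) = Qf (tab Gen.g (31360 + r)) :=
  edges_tab (sm gg) Qf (tab Gen.g) 31360 [(31360, 31215), (31361, 31055), (31362, 31216), (31363, 31315), (31364, 31217), (31365, 31072), (31366, 31073), (31367, 31177), (31368, 31193), (31369, 31312), (31370, 31281), (31371, 31184), (31372, 31186), (31373, 31188), (31374, 31190), (31375, 31228), (31376, 31558), (31377, 31053), (31378, 31559), (31379, 31290), (31380, 31551), (31381, 31058), (31382, 31552), (31383, 31067), (31384, 31179), (31385, 31181), (31386, 31570), (31387, 31298), (31388, 31288), (31389, 31562), (31390, 31110), (31391, 31112), (31392, 31313), (31393, 31547), (31394, 31208), (31395, 31284), (31396, 31285), (31397, 31263), (31398, 31210), (31399, 31090), (31400, 31169), (31401, 31091), (31402, 31170), (31403, 31092), (31404, 31579), (31405, 31581), (31406, 31535), (31407, 31537), (31408, 31549), (31409, 31293), (31410, 31294), (31411, 31300), (31412, 31197),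 (31413, 31143), (31414, 31108), (31415, 31173), (31416, 31109), (31417, 31587), (31418, 31283), (31419, 31574), (31420, 31204), (31421, 31192), (31422, 31194), (31423, 31255)]
    ⟨e3 q31360 L835519 q31215, e3 q31361 L835533 q31055, e3 q31362 L835547 q31216, e3 q31363 L835566 q31315, e3 q31364 L835580 q31217, e3 q31365 L835598 q31072, e3 q31366 L835613 q31073, e3 q31367 L835625 q31177, e3 q31368 L835643 q31193, e3 q31369 L835662 q31312, e3 q31370 L835681 q31281, e3 q31371 L835698 q31184, e3 q31372 L835715 q31186, e3 q31373 L835733 q31188, e3 q31374 L835750 q31190, e3 q31375 L835762 q31228, e3 q31376 (flp_g L838094) q31558, e3 q31377 (flp_g L835788) q31053, e3 q31378 (flp_g L838111) q31559, e3 q31379 L835827 q31290, e3 q31380 (flp_g L837981) q31551, e3 q31381 (flp_g L835853) q31058, e3 q31382 (flp_g L837998) q31552, e3 q31383 L835892 q31067, e3 q31384 L835916 q31179, e3 q31385 L835931 q31181, e3 q31386 (flp_g L838295) q31570, e3 q31387 L835952 q31298, e3 q31388 L835964 q31288, e3 q31389 (flp_g L838165) q31562, e3 q31390 L835985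 q31110, e3 q31391 L836000 q31112, e3 q31392 L836014 q31313, e3 q31393 (flp_g L837917) q31547, e3 q31394 L836037 q31208, e3 q31395 L836053 q31284, e3 q31396 L836068 q31285, e3 q31397 L836083 q31263, e3 q31398 L836097 q31210, e3 q31399 L836109 q31090, e3 q31400 L836131 q31169, e3 q31401 L836141 q31091, e3 q31402 L836160 q31170, e3 q31403 L836169 q31092, e3 q31404 (flp_g L838429) q31579, e3 q31405 (flp_g L838462) q31581, e3 q31406 L837727 q31535, e3 q31407 L837762 q31537, e3 q31408 (flp_g L837948) q31549, e3 q31409 L836246 q31293, e3 q31410 L836265 q31294, e3 q31411 (flp_g L836289) q31300, e3 q31412 L836297 q31197, e3 q31413 L836313 q31143, e3 q31414 L836329 q31108, e3 q31415 L836346 q31173, e3 q31416 L836360 q31109, e3 q31417 (flp_g L838555) q31587, e3 q31418 L836381 q31283, e3 q31419 (flp_g L838354) q31574, e3 q31420 L836404 q31204, e3 q31421 L836418 q31192, e3 q31422 L836436 q31194, e3 q31423 L836452 q31255, trivial⟩ (by decide +kernel)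

theorem ce_g_491 : ∀ r, r < 64 → sm gg (Qf (31424 + r)) = Qf (tab Gen.g (31424 + r)) :=
  edges_tab (sm gg) Qf (tab Gen.g) 31424 [(31424, 31304), (31425, 31286), (31426, 31123), (31427, 31264), (31428, 31543), (31429, 31201), (31430, 31127), (31431, 31545), (31432, 31282), (31433, 31307), (31434, 31185), (31435, 31187), (31436, 31189), (31437, 31212), (31438, 31585), (31439, 31299), (31440, 31601), (31441, 31274), (31442, 31148), (31443, 31275), (31444, 31150), (31445, 31295), (31446, 31604), (31447, 31237), (31448, 31154), (31449, 31231), (31450, 31157), (31451, 31234), (31452, 31296), (31453, 31297), (31454, 31211), (31455, 31195), (31456, 31308), (31457, 31580), (31458, 31259), (31459, 31260), (31460, 31586), (31461, 31258), (31462, 31321), (31463, 31563), (31464, 31531), (31465, 31571), (31466, 31532), (31467, 31224), (31468, 31225), (31469, 31596), (31470, 31564), (31471, 31597), (31472, 31565), (31473, 31591), (31474, 31592), (31475, 31584), (31476, 31554), (31477, 31539), (31478, 31590), (31479, 31541), (31480, 31546),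 (31481, 31576), (31482, 31578), (31483, 31598), (31484, 31555), (31485, 31557), (31486, 31561), (31487, 31314)]
    ⟨e3 q31424 L836467 q31304, e3 q31425 L836482 q31286, e3 q31426 (flp_g L836492) q31123, e3 q31427 L836516 q31264, e3 q31428 (flp_g L837852) q31543, e3 q31429 L836546 q31201, e3 q31430 (flp_g L836552) q31127, e3 q31431 (flp_g L837886) q31545, e3 q31432 L836589 q31282, e3 q31433 L836600 q31307, e3 q31434 L836619 q31185, e3 q31435 L836627 q31187, e3 q31436 L836640 q31189, e3 q31437 L836654 q31212, e3 q31438 (flp_g L838516) q31585, e3 q31439 L836677 q31299, e3 q31440 L838744 q31601, e3 q31441 (flp_g L836698) q31274, e3 q31442 (flp_g L836700) q31148, e3 q31443 (flp_g L836725) q31275, e3 q31444 (flp_g L836727) q31150, e3 q31445 L836744 q31295, e3 q31446 L838776 q31604, e3 q31447 L836767 q31237, e3 q31448 (flp_g L836769) q31154, e3 q31449 L836791 q31231, e3 q31450 (flp_g L836797) q31157, e3 q31451 L836819 q31234, e3 q31452 L836830 q31296, e3 q31453 L836840 q31297, e3 q31454 L836848 q31211, e3 q31455 L836865 q31195,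 e3 q31456 L836876 q31308, e3 q31457 (flp_g L838452) q31580, e3 q31458 L836895 q31259, e3 q31459 L836910 q31260, e3 q31460 (flp_g L838540) q31586, e3 q31461 L836933 q31258, e3 q31462 L836943 q31321, e3 q31463 (flp_g L838177) q31563, e3 q31464 (flp_g L837653) q31531, e3 q31465 (flp_g L838320) q31571, e3 q31466 (flp_g L837672) q31532, e3 q31467 L836992 q31224, e3 q31468 L837007 q31225, e3 q31469 (flp_g L838694) q31596, e3 q31470 (flp_g L838199) q31564, e3 q31471 (flp_g L838702) q31597, e3 q31472 (flp_g L838217) q31565, e3 q31473 (flp_g L838605) q31591, e3 q31474 (flp_g L838624) q31592, e3 q31475 (flp_g L838500) q31584, e3 q31476 (flp_g L838031) q31554, e3 q31477 (flp_g L837787) q31539, e3 q31478 (flp_g L838591) q31590, e3 q31479 (flp_g L837818) q31541, e3 q31480 (flp_g L837903) q31546, e3 q31481 (flp_g L838382) q31576, e3 q31482 (flp_g L838417) q31578, e3 q31483 (flp_g L838716) q31598, e3 q31484 (flp_g L838045) q31555, e3 q31485 (flp_g L838078) q31557, e3 q31486 (flp_g L838147) q31561, e3 q31487 L837239 q31314, trivial⟩ (by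 decide +kernel)

theorem ce_g_492 : ∀ r, r < 64 → sm gg (Qf (31488 + r)) = Qf (tab Gen.g (31488 + r)) :=
  edges_tab (sm gg) Qf (tab Gen.g) 31488 [(31488, 31222), (31489, 31223), (31490, 31619), (31491, 31612), (31492, 31566), (31493, 31236), (31494, 31605), (31495, 31238), (31496, 31603), (31497, 31622), (31498, 31243), (31499, 31245), (31500, 31277), (31501, 31623), (31502, 31279), (31503, 31248), (31504, 31302), (31505, 31253), (31506, 31257), (31507, 31609), (31508, 31608), (31509, 31594), (31510, 31272), (31511, 31550), (31512, 31273), (31513, 31553), (31514, 31627), (31515, 31600), (31516, 31533), (31517, 31624), (31518, 31588), (31519, 31577), (31520, 31593), (31521, 31292), (31522, 31568), (31523, 31548), (31524, 31606), (31525, 31572), (31526, 31311), (31527, 31309), (31528, 31560), (31529, 31556), (31530, 31320), (31531, 31464), (31532, 31466), (31533, 31516), (31534, 31634), (31535, 31406), (31536, 31328), (31537, 31407), (31538, 31330), (31539, 31477), (31540, 31637), (31541, 31479), (31542, 31334), (31543, 31428),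 (31544, 31337), (31545, 31431), (31546, 31480), (31547, 31393), (31548, 31523), (31549, 31408), (31550, 31511), (31551, 31380)]
    ⟨e3 q31488 L837250 q31222, e3 q31489 L837261 q31223, e3 q31490 (flp_g L838962) q31619, e3 q31491 (flp_g L838871) q31612, e3 q31492 (flp_g L838229) q31566, e3 q31493 L837295 q31236, e3 q31494 (flp_g L838800) q31605, e3 q31495 L837318 q31238, e3 q31496 (flp_g L838774) q31603, e3 q31497 (flp_g L838989) q31622, e3 q31498 L837345 q31243, e3 q31499 L837359 q31245, e3 q31500 L837370 q31277, e3 q31501 (flp_g L839000) q31623, e3 q31502 L837391 q31279, e3 q31503 L837397 q31248, e3 q31504 L837415 q31302, e3 q31505 L837429 q31253, e3 q31506 L837440 q31257, e3 q31507 (flp_g L838843) q31609, e3 q31508 (flp_g L838830) q31608, e3 q31509 (flp_g L838658) q31594, e3 q31510 L837475 q31272, e3 q31511 (flp_g L837973) q31550, e3 q31512 L837494 q31273, e3 q31513 (flp_g L838023) q31553, e3 q31514 (flp_g L839036) q31627, e3 q31515 L838742 q31600, e3 q31516 (flp_g L837686) q31533, e3 q31517 (flp_g L839013) q31624, e3 q31518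 (flp_g L838568) q31588, e3 q31519 (flp_g L838398) q31577, e3 q31520 (flp_g L838641) q31593, e3 q31521 L837570 q31292, e3 q31522 (flp_g L838262) q31568, e3 q31523 (flp_g L837931) q31548, e3 q31524 (flp_g L838811) q31606, e3 q31525 (flp_g L838331) q31572, e3 q31526 L837609 q31311, e3 q31527 L837618 q31309, e3 q31528 (flp_g L838132) q31560, e3 q31529 (flp_g L838068) q31556, e3 q31530 L837640 q31320, e3 q31531 L837653 q31464, e3 q31532 L837672 q31466, e3 q31533 L837686 q31516, e3 q31534 L839115 q31634, e3 q31535 (flp_g L837727) q31406, e3 q31536 (flp_g L837729) q31328, e3 q31537 (flp_g L837762) q31407, e3 q31538 (flp_g L837764) q31330, e3 q31539 L837787 q31477, e3 q31540 L839163 q31637, e3 q31541 L837818 q31479, e3 q31542 (flp_g L837824) q31334, e3 q31543 L837852 q31428, e3 q31544 (flp_g L837860) q31337, e3 q31545 L837886 q31431, e3 q31546 L837903 q31480, e3 q31547 L837917 q31393, e3 q31548 L837931 q31523, e3 q31549 L837948 q31408, e3 q31550 L837973 q31511, e3 q31551 L837981 q31380, trivial⟩ (by decide +kernel)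

theorem ce_g_493 : ∀ r, r < 64 → sm gg (Qf (31552 + r)) = Qf (tab Gen.g (31552 + r)) :=
  edges_tab (sm gg) Qf (tab Gen.g) 31552 [(31552, 31382), (31553, 31513), (31554, 31476), (31555, 31484), (31556, 31529), (31557, 31485), (31558, 31376), (31559, 31378), (31560, 31528), (31561, 31486), (31562, 31389), (31563, 31463), (31564, 31470), (31565, 31472), (31566, 31492), (31567, 31645), (31568, 31522), (31569, 31641), (31570, 31386), (31571, 31465), (31572, 31525), (31573, 31646), (31574, 31419), (31575, 31639), (31576, 31481), (31577, 31519), (31578, 31482), (31579, 31404), (31580, 31457), (31581, 31405), (31582, 31654), (31583, 31633), (31584, 31475), (31585, 31438), (31586, 31460), (31587, 31417), (31588, 31518), (31589, 31651), (31590, 31478), (31591, 31473), (31592, 31474), (31593, 31520), (31594, 31509), (31595, 31638), (31596, 31469), (31597, 31471), (31598, 31483), (31599, 31660), (31600, 31515), (31601, 31440), (31602, 31661), (31603, 31496), (31604, 31446), (31605, 31494), (31606, 31524), (31607, 31653), (31608, 31508),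 (31609, 31507), (31610, 31650), (31611, 31631), (31612, 31491), (31613, 31658), (31614, 31647), (31615, 31642)]
    ⟨e3 q31552 L837998 q31382, e3 q31553 L838023 q31513, e3 q31554 L838031 q31476, e3 q31555 L838045 q31484, e3 q31556 L838068 q31529, e3 q31557 L838078 q31485, e3 q31558 L838094 q31376, e3 q31559 L838111 q31378, e3 q31560 L838132 q31528, e3 q31561 L838147 q31486, e3 q31562 L838165 q31389, e3 q31563 L838177 q31463, e3 q31564 L838199 q31470, e3 q31565 L838217 q31472, e3 q31566 L838229 q31492, e3 q31567 (flp_g L839308) q31645, e3 q31568 L838262 q31522, e3 q31569 (flp_g L839239) q31641, e3 q31570 L838295 q31386, e3 q31571 L838320 q31465, e3 q31572 L838331 q31525, e3 q31573 (flp_g L839329) q31646, e3 q31574 L838354 q31419, e3 q31575 (flp_g L839210) q31639, e3 q31576 L838382 q31481, e3 q31577 L838398 q31519, e3 q31578 L838417 q31482, e3 q31579 L838429 q31404, e3 q31580 L838452 q31457, e3 q31581 L838462 q31405, e3 q31582 (flp_g L839463) q31654, e3 q31583 L839113 q31633, e3 q31584 L838500 q31475, e3 q31585 L838516 q31438,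 e3 q31586 L838540 q31460, e3 q31587 L838555 q31417, e3 q31588 L838568 q31518, e3 q31589 (flp_g L839410) q31651, e3 q31590 L838591 q31478, e3 q31591 L838605 q31473, e3 q31592 L838624 q31474, e3 q31593 L838641 q31520, e3 q31594 L838658 q31509, e3 q31595 (flp_g L839191) q31638, e3 q31596 L838694 q31469, e3 q31597 L838702 q31471, e3 q31598 L838716 q31483, e3 q31599 L839542 q31660, e3 q31600 (flp_g L838742) q31515, e3 q31601 (flp_g L838744) q31440, e3 q31602 L839555 q31661, e3 q31603 L838774 q31496, e3 q31604 (flp_g L838776) q31446, e3 q31605 L838800 q31494, e3 q31606 L838811 q31524, e3 q31607 (flp_g L839452) q31653, e3 q31608 L838830 q31508, e3 q31609 L838843 q31507, e3 q31610 (flp_g L839401) q31650, e3 q31611 (flp_g L839074) q31631, e3 q31612 L838871 q31491, e3 q31613 (flp_g L839521) q31658, e3 q31614 (flp_g L839346) q31647, e3 q31615 (flp_g L839258) q31642, trivial⟩ (by decide +kernel)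

theorem ce_g_494 : ∀ r, r < 55 → sm gg (Qf (31616 + r)) = Qf (tab Gen.g (31616 + r)) :=
  edges_tab (sm gg) Qf (tab Gen.g) 31616 [(31616, 31656), (31617, 31636), (31618, 31644), (31619, 31490), (31620, 31664), (31621, 31662), (31622, 31497), (31623, 31501), (31624, 31517), (31625, 31663), (31626, 31640), (31627, 31514), (31628, 31659), (31629, 31652), (31630, 31643), (31631, 31611), (31632, 31666), (31633, 31583), (31634, 31534), (31635, 31667), (31636, 31617), (31637, 31540), (31638, 31595), (31639, 31575), (31640, 31626), (31641, 31569), (31642, 31615), (31643, 31630), (31644, 31618), (31645, 31567), (31646, 31573), (31647, 31614), (31648, 31670), (31649, 31669), (31650, 31610), (31651, 31589), (31652, 31629), (31653, 31607), (31654, 31582), (31655, 31665), (31656, 31616), (31657, 31668), (31658, 31613), (31659, 31628), (31660, 31599), (31661, 31602), (31662, 31621), (31663, 31625), (31664, 31620), (31665, 31655), (31666, 31632), (31667, 31635), (31668, 31657), (31669, 31649), (31670, 31648)]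
    ⟨e3 q31616 (flp_g L839491) q31656, e3 q31617 (flp_g L839157) q31636, e3 q31618 (flp_g L839292) q31644, e3 q31619 L838962 q31490, e3 q31620 (flp_g L839603) q31664, e3 q31621 (flp_g L839577) q31662, e3 q31622 L838989 q31497, e3 q31623 L839000 q31501, e3 q31624 L839013 q31517, e3 q31625 (flp_g L839586) q31663, e3 q31626 (flp_g L839231) q31640, e3 q31627 L839036 q31514, e3 q31628 L839540 q31659, e3 q31629 (flp_g L839429) q31652, e3 q31630 (flp_g L839281) q31643, e3 q31631 L839074 q31611, e3 q31632 L839626 q31666, e3 q31633 (flp_g L839113) q31583, e3 q31634 (flp_g L839115) q31534, e3 q31635 L839645 q31667, e3 q31636 L839157 q31617, e3 q31637 (flp_g L839163) q31540, e3 q31638 L839191 q31595, e3 q31639 L839210 q31575, e3 q31640 L839231 q31626, e3 q31641 L839239 q31569, e3 q31642 L839258 q31615, e3 q31643 L839281 q31630, e3 q31644 L839292 q31618, e3 q31645 L839308 q31567, e3 q31646 L839329 q31573, e3 q31647 L839346 q31614, e3 q31648 (flp_g L839713) q31670, e3 q31649 (flp_g L839690) q31669, e3 q31650 L839401 q31610, e3 q31651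 L839410 q31589, e3 q31652 L839429 q31629, e3 q31653 L839452 q31607, e3 q31654 L839463 q31582, e3 q31655 L839624 q31665, e3 q31656 L839491 q31616, e3 q31657 (flp_g L839675) q31668, e3 q31658 L839521 q31613, e3 q31659 (flp_g L839540) q31628, e3 q31660 (flp_g L839542) q31599, e3 q31661 (flp_g L839555) q31602, e3 q31662 L839577 q31621, e3 q31663 L839586 q31625, e3 q31664 L839603 q31620, e3 q31665 (flp_g L839624) q31655, e3 q31666 (flp_g L839626) q31632, e3 q31667 (flp_g L839645) q31635, e3 q31668 L839675 q31657, e3 q31669 L839690 q31649, e3 q31670 L839713 q31648, trivial⟩ (by decide +kernel)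

theorem cl_g : ∀ i, i < 31671 → sm gg (Qf i) = Qf (tab Gen.g i) :=
  all_of_chunks (fun i => sm gg (Qf i) = Qf (tab Gen.g i)) 494 55
    ⟨ce_g_0, ce_g_1, ce_g_2, ce_g_3, ce_g_4, ce_g_5, ce_g_6, ce_g_7, ce_g_8, ce_g_9, ce_g_10, ce_g_11, ce_g_12, ce_g_13, ce_g_14, ce_g_15, ce_g_16, ce_g_17, ce_g_18, ce_g_19, ce_g_20, ce_g_21, ce_g_22, ce_g_23, ce_g_24, ce_g_25, ce_g_26, ce_g_27, ce_g_28, ce_g_29, ce_g_30, ce_g_31, ce_g_32, ce_g_33, ce_g_34, ce_g_35, ce_g_36, ce_g_37, ce_g_38, ce_g_39, ce_g_40, ce_g_41, ce_g_42, ce_g_43, ce_g_44, ce_g_45, ce_g_46, ce_g_47, ce_g_48, ce_g_49, ce_g_50, ce_g_51, ce_g_52, ce_g_53, ce_g_54, ce_g_55, ce_g_56, ce_g_57, ce_g_58, ce_g_59, ce_g_60, ce_g_61, ce_g_62, ce_g_63, ce_g_64, ce_g_65, ce_g_66, ce_g_67, ce_g_68, ce_g_69, ce_g_70, ce_g_71, ce_g_72, ce_g_73, ce_g_74, ce_g_75, ce_g_76, ce_g_77, ce_g_78, ce_g_79, ce_g_80, ce_g_81, ce_g_82, ce_g_83, ce_g_84, ce_g_85, ce_g_86, ce_g_87, ce_g_88, ce_g_89, ce_g_90, ce_g_91, ce_g_92, ce_g_93, ce_g_94, ce_g_95, ce_g_96, ce_g_97, ce_g_98, ce_g_99, ce_g_100,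 ce_g_101, ce_g_102, ce_g_103, ce_g_104, ce_g_105, ce_g_106, ce_g_107, ce_g_108, ce_g_109, ce_g_110, ce_g_111, ce_g_112, ce_g_113, ce_g_114, ce_g_115, ce_g_116, ce_g_117, ce_g_118, ce_g_119, ce_g_120, ce_g_121, ce_g_122, ce_g_123, ce_g_124, ce_g_125, ce_g_126, ce_g_127, ce_g_128, ce_g_129, ce_g_130, ce_g_131, ce_g_132, ce_g_133, ce_g_134, ce_g_135, ce_g_136, ce_g_137, ce_g_138, ce_g_139, ce_g_140, ce_g_141, ce_g_142, ce_g_143, ce_g_144, ce_g_145, ce_g_146, ce_g_147, ce_g_148, ce_g_149, ce_g_150, ce_g_151, ce_g_152, ce_g_153, ce_g_154, ce_g_155, ce_g_156, ce_g_157, ce_g_158, ce_g_159, ce_g_160, ce_g_161, ce_g_162, ce_g_163, ce_g_164, ce_g_165, ce_g_166, ce_g_167, ce_g_168, ce_g_169, ce_g_170, ce_g_171, ce_g_172, ce_g_173, ce_g_174, ce_g_175, ce_g_176, ce_g_177, ce_g_178, ce_g_179, ce_g_180, ce_g_181, ce_g_182, ce_g_183, ce_g_184, ce_g_185, ce_g_186, ce_g_187, ce_g_188, ce_g_189, ce_g_190, ce_g_191, ce_g_192, ce_g_193, ce_g_194, ce_g_195, ce_g_196, ce_g_197, ce_g_198, ce_g_199, ce_g_200, ce_g_201, ce_g_202, ce_g_203, ce_g_204,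 ce_g_205, ce_g_206, ce_g_207, ce_g_208, ce_g_209, ce_g_210, ce_g_211, ce_g_212, ce_g_213, ce_g_214, ce_g_215, ce_g_216, ce_g_217, ce_g_218, ce_g_219, ce_g_220, ce_g_221, ce_g_222, ce_g_223, ce_g_224, ce_g_225, ce_g_226, ce_g_227, ce_g_228, ce_g_229, ce_g_230, ce_g_231, ce_g_232, ce_g_233, ce_g_234, ce_g_235, ce_g_236, ce_g_237, ce_g_238, ce_g_239, ce_g_240, ce_g_241, ce_g_242, ce_g_243, ce_g_244, ce_g_245, ce_g_246, ce_g_247, ce_g_248, ce_g_249, ce_g_250, ce_g_251, ce_g_252, ce_g_253, ce_g_254, ce_g_255, ce_g_256, ce_g_257, ce_g_258, ce_g_259, ce_g_260, ce_g_261, ce_g_262, ce_g_263, ce_g_264, ce_g_265, ce_g_266, ce_g_267, ce_g_268, ce_g_269, ce_g_270, ce_g_271, ce_g_272, ce_g_273, ce_g_274, ce_g_275, ce_g_276, ce_g_277, ce_g_278, ce_g_279, ce_g_280, ce_g_281, ce_g_282, ce_g_283, ce_g_284, ce_g_285, ce_g_286, ce_g_287, ce_g_288, ce_g_289, ce_g_290, ce_g_291, ce_g_292, ce_g_293, ce_g_294, ce_g_295, ce_g_296, ce_g_297, ce_g_298, ce_g_299, ce_g_300, ce_g_301, ce_g_302, ce_g_303, ce_g_304, ce_g_305, ce_g_306, ce_g_307, ce_g_308,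 ce_g_309, ce_g_310, ce_g_311, ce_g_312, ce_g_313, ce_g_314, ce_g_315, ce_g_316, ce_g_317, ce_g_318, ce_g_319, ce_g_320, ce_g_321, ce_g_322, ce_g_323, ce_g_324, ce_g_325, ce_g_326, ce_g_327, ce_g_328, ce_g_329, ce_g_330, ce_g_331, ce_g_332, ce_g_333, ce_g_334, ce_g_335, ce_g_336, ce_g_337, ce_g_338, ce_g_339, ce_g_340, ce_g_341, ce_g_342, ce_g_343, ce_g_344, ce_g_345, ce_g_346, ce_g_347, ce_g_348, ce_g_349, ce_g_350, ce_g_351, ce_g_352, ce_g_353, ce_g_354, ce_g_355, ce_g_356, ce_g_357, ce_g_358, ce_g_359, ce_g_360, ce_g_361, ce_g_362, ce_g_363, ce_g_364, ce_g_365, ce_g_366, ce_g_367, ce_g_368, ce_g_369, ce_g_370, ce_g_371, ce_g_372, ce_g_373, ce_g_374, ce_g_375, ce_g_376, ce_g_377, ce_g_378, ce_g_379, ce_g_380, ce_g_381, ce_g_382, ce_g_383, ce_g_384, ce_g_385, ce_g_386, ce_g_387, ce_g_388, ce_g_389, ce_g_390, ce_g_391, ce_g_392, ce_g_393, ce_g_394, ce_g_395, ce_g_396, ce_g_397, ce_g_398, ce_g_399, ce_g_400, ce_g_401, ce_g_402, ce_g_403, ce_g_404, ce_g_405, ce_g_406, ce_g_407, ce_g_408, ce_g_409, ce_g_410, ce_g_411, ce_g_412,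 ce_g_413, ce_g_414, ce_g_415, ce_g_416, ce_g_417, ce_g_418, ce_g_419, ce_g_420, ce_g_421, ce_g_422, ce_g_423, ce_g_424, ce_g_425, ce_g_426, ce_g_427, ce_g_428, ce_g_429, ce_g_430, ce_g_431, ce_g_432, ce_g_433, ce_g_434, ce_g_435, ce_g_436, ce_g_437, ce_g_438, ce_g_439, ce_g_440, ce_g_441, ce_g_442, ce_g_443, ce_g_444, ce_g_445, ce_g_446, ce_g_447, ce_g_448, ce_g_449, ce_g_450, ce_g_451, ce_g_452, ce_g_453, ce_g_454, ce_g_455, ce_g_456, ce_g_457, ce_g_458, ce_g_459, ce_g_460, ce_g_461, ce_g_462, ce_g_463, ce_g_464, ce_g_465, ce_g_466, ce_g_467, ce_g_468, ce_g_469, ce_g_470, ce_g_471, ce_g_472, ce_g_473, ce_g_474, ce_g_475, ce_g_476, ce_g_477, ce_g_478, ce_g_479, ce_g_480, ce_g_481, ce_g_482, ce_g_483, ce_g_484, ce_g_485, ce_g_486, ce_g_487, ce_g_488, ce_g_489, ce_g_490, ce_g_491, ce_g_492, ce_g_493, trivial⟩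
    ce_g_494


end Cfsg.Agent.Helper28.FicA
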