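import Cfsg.Agent.Helper28.FicC0

/-!
# The Fi₂₃ presentation, cosets of the subgroup generated by a, …, i: the action of the generator h (helper28; generated)
-/

set_option autoImplicit false
set_option maxRecDepth 100000
set_option linter.unusedSimpArgs false
set_option linter.constructorNameAsVariable false

noncomputable section

namespace Cfsg.Agent.Helper28.FicA

open Cfsg.Spor Cfsg.Spor.Fi23 Cfsg.Agent.Helper28.CosetTable

theorem ce_h_0 : ∀ r, r < 64 → sm gh (Qf (0 + r)) = Qf (tab Gen.h (0 + r)) :=
  edges_tab (sm gh) Qf (tab Gen.h) 0 [(0, 0), (1, 1), (2, 2), (3, 3), (4, 4), (5, 7), (6, 9), (7, 5), (8, 12), (9, 6), (10, 10), (11, 15), (12, 8), (13, 13), (14, 14), (15, 11), (16, 16), (17, 17), (18, 18), (19, 27), (20, 20), (21, 21), (22, 22), (23, 23), (24, 35), (25, 25), (26, 38), (27, 19), (28, 28), (29, 29), (30, 44), (31, 31), (32, 48), (33, 33), (34, 51), (35, 24), (36, 36), (37, 54), (38, 26), (39, 39), (40, 40), (41, 61), (42, 42), (43, 64), (44, 30), (45, 66), (46, 46), (47, 70), (48, 32), (49, 49), (50, 74),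 (51, 34), (52, 52), (53, 77), (54, 37), (55, 55), (56, 56), (57, 83), (58, 85), (59, 59), (60, 89), (61, 41), (62, 62), (63, 93)]
    ⟨e3 q0 L7 q0, e3 q1 L17 q1, e3 q2 L26 q2, e3 q3 L36 q3, e3 q4 L46 q4, e3 q5 L67 q7, e3 q6 L85 q9, e3 q7 (flp_h L67) q5, e3 q8 L114 q12, e3 q9 (flp_h L85) q6, e3 q10 L103 q10, e3 q11 L141 q15, e3 q12 (flp_h L114) q8, e3 q13 L130 q13, e3 q14 L140 q14, e3 q15 (flp_h L141) q11, e3 q16 L158 q16, e3 q17 L168 q17, e3 q18 L175 q18, e3 q19 L248 q27, e3 q20 L194 q20, e3 q21 L205 q21, e3 q22 L211 q22, e3 q23 L220 q23, e3 q24 L319 q35, e3 q25 L237 q25, e3 q26 L345 q38, e3 q27 (flp_h L248) q19, e3 q28 L264 q28, e3 q29 L273 q29, e3 q30 L401 q44, e3 q31 L292 q31, e3 q32 L435 q48, e3 q33 L308 q33, e3 q34 L461 q51, e3 q35 (flp_h L319) q24, e3 q36 L334 q36, e3 q37 L488 q54, e3 q38 (flp_h L345) q26, e3 q39 L360 q39, e3 q40 L371 q40, e3 q41 L551 q61, e3 q42 L389 q42, e3 q43 L580 q64, e3 q44 (flp_h L401) q30, e3 q45 L597 q66, e3 q46 L424 q46, e3 q47 L631 q70, e3 q48 (flp_h L435) q32, e3 q49 L450 q49, e3 q50 L668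 q74, e3 q51 (flp_h L461) q34, e3 q52 L477 q52, e3 q53 L696 q77, e3 q54 (flp_h L488) q37, e3 q55 L504 q55, e3 q56 L513 q56, e3 q57 L749 q83, e3 q58 L767 q85, e3 q59 L539 q59, e3 q60 L805 q89, e3 q61 (flp_h L551) q41, e3 q62 L568 q62, e3 q63 L846 q93, trivial⟩ (by decide +kernel)

theorem ce_h_1 : ∀ r, r < 64 → sm gh (Qf (64 + r)) = Qf (tab Gen.h (64 + r)) :=
  edges_tab (sm gh) Qf (tab Gen.h) 64 [(64, 43), (65, 97), (66, 45), (67, 100), (68, 68), (69, 103), (70, 47), (71, 71), (72, 72), (73, 107), (74, 50), (75, 75), (76, 110), (77, 53), (78, 78), (79, 79), (80, 117), (81, 81), (82, 121), (83, 57), (84, 125), (85, 58), (86, 128), (87, 87), (88, 131), (89, 60), (90, 90), (91, 91), (92, 135), (93, 63), (94, 94), (95, 139), (96, 142), (97, 65), (98, 145), (99, 146), (100, 67), (101, 101), (102, 149), (103, 69), (104, 147), (105, 105), (106, 154), (107, 73), (108, 108), (109, 109), (110, 76), (111, 111), (112, 112), (113, 113), (114, 114), (115, 166), (116, 170), (117, 80), (118, 173), (119, 119), (120, 176), (121, 82), (122, 122),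 (123, 181), (124, 184), (125, 84), (126, 187), (127, 188)]
    ⟨e3 q64 (flp_h L580) q43, e3 q65 L880 q97, e3 q66 (flp_h L597) q45, e3 q67 L905 q100, e3 q68 L620 q68, e3 q69 L930 q103, e3 q70 (flp_h L631) q47, e3 q71 L649 q71, e3 q72 L657 q72, e3 q73 L964 q107, e3 q74 (flp_h L668) q50, e3 q75 L685 q75, e3 q76 L989 q110, e3 q77 (flp_h L696) q53, e3 q78 L712 q78, e3 q79 L719 q79, e3 q80 L1048 q117, e3 q81 L737 q81, e3 q82 L1086 q121, e3 q83 (flp_h L749) q57, e3 q84 L1123 q125, e3 q85 (flp_h L767) q58, e3 q86 L1151 q128, e3 q87 L793 q87, e3 q88 L1179 q131, e3 q89 (flp_h L805) q60, e3 q90 L825 q90, e3 q91 L834 q91, e3 q92 L1217 q135, e3 q93 (flp_h L846) q63, e3 q94 L865 q94, e3 q95 L1253 q139, e3 q96 L1278 q142, e3 q97 (flp_h L880) q65, e3 q98 L1303 q145, e3 q99 L1310 q146, e3 q100 (flp_h L905) q67, e3 q101 L919 q101, e3 q102 L1336 q149, e3 q103 (flp_h L930) q69, e3 q104 (flp_h L1324) q147, e3 q105 L952 q105, e3 q106 L1376 q154, e3 q107 (flp_h L964) q73, e3 q108 L981 q108, e3 q109 L987 q109, e3 q110 (flp_h L989) q76, e3 q111 L1006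 q111, e3 q112 L1013 q112, e3 q113 L1020 q113, e3 q114 L1030 q114, e3 q115 L1480 q166, e3 q116 L1515 q170, e3 q117 (flp_h L1048) q80, e3 q118 L1543 q173, e3 q119 L1074 q119, e3 q120 L1571 q176, e3 q121 (flp_h L1086) q82, e3 q122 L1106 q122, e3 q123 L1617 q181, e3 q124 L1645 q184, e3 q125 (flp_h L1123) q84, e3 q126 L1673 q187, e3 q127 L1681 q188, trivial⟩ (by decide +kernel)

theorem ce_h_2 : ∀ r, r < 64 → sm gh (Qf (128 + r)) = Qf (tab Gen.h (128 + r)) :=
  edges_tab (sm gh) Qf (tab Gen.h) 128 [(128, 86), (129, 129), (130, 191), (131, 88), (132, 189), (133, 133), (134, 196), (135, 92), (136, 136), (137, 137), (138, 203), (139, 95), (140, 207), (141, 208), (142, 96), (143, 211), (144, 212), (145, 98), (146, 99), (147, 104), (148, 217), (149, 102), (150, 213), (151, 215), (152, 216), (153, 153), (154, 106), (155, 155), (156, 156), (157, 157), (158, 158), (159, 159), (160, 160), (161, 161), (162, 162), (163, 163), (164, 164), (165, 241), (166, 115), (167, 245), (168, 247), (169, 250), (170, 116), (171, 253), (172, 254), (173,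 118), (174, 174), (175, 257), (176, 120), (177, 255), (178, 178), (179, 179), (180, 265), (181, 123), (182, 269), (183, 270), (184, 124), (185, 273), (186, 274), (187, 126), (188, 127), (189, 132), (190, 279), (191, 130)]
    ⟨e3 q128 (flp_h L1151) q86, e3 q129 L1167 q129, e3 q130 L1710 q191, e3 q131 (flp_h L1179) q88, e3 q132 (flp_h L1697) q189, e3 q133 L1204 q133, e3 q134 L1756 q196, e3 q135 (flp_h L1217) q92, e3 q136 L1236 q136, e3 q137 L1244 q137, e3 q138 L1819 q203, e3 q139 (flp_h L1253) q95, e3 q140 L1851 q207, e3 q141 L1859 q208, e3 q142 (flp_h L1278) q96, e3 q143 L1886 q211, e3 q144 L1893 q212, e3 q145 (flp_h L1303) q98, e3 q146 (flp_h L1310) q99, e3 q147 L1324 q104, e3 q148 L1933 q217, e3 q149 (flp_h L1336) q102, e3 q150 (flp_h L1908) q213, e3 q151 (flp_h L1922) q215, e3 q152 (flp_h L1930) q216, e3 q153 L1373 q153, e3 q154 (flp_h L1376) q106, e3 q155 L1394 q155, e3 q156 L1400 q156, e3 q157 L1407 q157, e3 q158 L1416 q158, e3 q159 L1428 q159, e3 q160 L1435 q160, e3 q161 L1443 q161, e3 q162 L1452 q162, e3 q163 L1460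 q163, e3 q164 L1469 q164, e3 q165 L2133 q241, e3 q166 (flp_h L1480) q115, e3 q167 L2169 q245, e3 q168 L2186 q247, e3 q169 L2214 q250, e3 q170 (flp_h L1515) q116, e3 q171 L2242 q253, e3 q172 L2250 q254, e3 q173 (flp_h L1543) q118, e3 q174 L1559 q174, e3 q175 L2280 q257, e3 q176 (flp_h L1571) q120, e3 q177 (flp_h L2267) q255, e3 q178 L1596 q178, e3 q179 L1607 q179, e3 q180 L2353 q265, e3 q181 (flp_h L1617) q123, e3 q182 L2389 q269, e3 q183 L2398 q270, e3 q184 (flp_h L1645) q124, e3 q185 L2428 q273, e3 q186 L2436 q274, e3 q187 (flp_h L1673) q126, e3 q188 (flp_h L1681) q127, e3 q189 L1697 q132, e3 q190 L2482 q279, e3 q191 (flp_h L1710) q130, trivial⟩ (by decide +kernel)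

theorem ce_h_3 : ∀ r, r < 64 → sm gh (Qf (192 + r)) = Qf (tab Gen.h (192 + r)) :=
  edges_tab (sm gh) Qf (tab Gen.h) 192 [(192, 275), (193, 277), (194, 278), (195, 195), (196, 134), (197, 197), (198, 198), (199, 199), (200, 200), (201, 294), (202, 296), (203, 138), (204, 300), (205, 205), (206, 303), (207, 140), (208, 141), (209, 306), (210, 307), (211, 143), (212, 144), (213, 150), (214, 214), (215, 151), (216, 152), (217, 148), (218, 308), (219, 310), (220, 311), (221, 314), (222, 315), (223, 316), (224, 224), (225, 225), (226, 226), (227, 227), (228, 228), (229, 229), (230, 230), (231, 231), (232, 232), (233, 233), (234, 234), (235, 235), (236, 236), (237, 237), (238, 345), (239, 348), (240, 351), (241, 165), (242, 355), (243, 243), (244, 358), (245, 167), (246, 362), (247, 168), (248, 366), (249, 367), (250, 169), (251, 370), (252, 371), (253, 171), (254, 172), (255, 177)]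
    ⟨e3 q192 (flp_h L2453) q275, e3 q193 (flp_h L2470) q277, e3 q194 (flp_h L2479) q278, e3 q195 L1753 q195, e3 q196 (flp_h L1756) q134, e3 q197 L1776 q197, e3 q198 L1784 q198, e3 q199 L1792 q199, e3 q200 L1801 q200, e3 q201 L2619 q294, e3 q202 L2636 q296, e3 q203 (flp_h L1819) q138, e3 q204 L2670 q300, e3 q205 L1842 q205, e3 q206 L2693 q303, e3 q207 (flp_h L1851) q140, e3 q208 (flp_h L1859) q141, e3 q209 L2718 q306, e3 q210 L2726 q307, e3 q211 (flp_h L1886) q143, e3 q212 (flp_h L1893) q144, e3 q213 L1908 q150, e3 q214 L1917 q214, e3 q215 L1922 q151, e3 q216 L1930 q152, e3 q217 (flp_h L1933) q148, e3 q218 (flp_h L2741) q308, e3 q219 (flp_h L2757) q310, e3 q220 (flp_h L2764) q311, e3 q221 (flp_h L2788) q314, e3 q222 (flp_h L2797) q315, e3 q223 (flp_h L2804) q316, e3 q224 L1993 q224, e3 q225 L2005 q225, e3 q226 L2011 q226, e3 q227 L2019 q227, e3 q228 L2027 q228, e3 q229 L2036 q229, e3 q230 L2046 q230, e3 q231 L2055 q231, e3 q232 L2064 q232, e3 q233 L2073 q233, e3 q234 L2082 q234, e3 q235 L2088 q235, e3 q236 L2098 q236, e3 q237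 L2106 q237, e3 q238 L3040 q345, e3 q239 L3065 q348, e3 q240 L3095 q351, e3 q241 (flp_h L2133) q165, e3 q242 L3133 q355, e3 q243 L2159 q243, e3 q244 L3161 q358, e3 q245 (flp_h L2169) q167, e3 q246 L3196 q362, e3 q247 (flp_h L2186) q168, e3 q248 L3234 q366, e3 q249 L3243 q367, e3 q250 (flp_h L2214) q169, e3 q251 L3273 q370, e3 q252 L3281 q371, e3 q253 (flp_h L2242) q171, e3 q254 (flp_h L2250) q172, e3 q255 L2267 q177, trivial⟩ (by decide +kernel)

theorem ce_h_4 : ∀ r, r < 64 → sm gh (Qf (256 + r)) = Qf (tab Gen.h (256 + r)) :=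
  edges_tab (sm gh) Qf (tab Gen.h) 256 [(256, 376), (257, 175), (258, 372), (259, 374), (260, 375), (261, 261), (262, 262), (263, 387), (264, 389), (265, 180), (266, 393), (267, 267), (268, 396), (269, 182), (270, 183), (271, 399), (272, 400), (273, 185), (274, 186), (275, 192), (276, 276), (277, 193), (278, 194), (279, 190), (280, 401), (281, 403), (282, 404), (283, 407), (284, 408), (285, 409), (286, 286), (287, 287), (288, 288), (289, 289), (290, 290), (291, 291), (292, 292), (293, 430), (294, 201), (295, 434), (296, 202), (297, 437), (298, 298), (299, 440), (300, 204), (301, 301), (302, 444), (303, 206), (304, 304), (305, 448), (306, 209), (307, 210), (308, 218), (309, 309), (310, 219), (311, 220), (312, 312), (313, 313), (314, 221), (315, 222), (316, 223), (317, 449), (318, 451), (319, 452)]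
    ⟨e3 q256 L3328 q376, e3 q257 (flp_h L2280) q175, e3 q258 (flp_h L3299) q372, e3 q259 (flp_h L3316) q374, e3 q260 (flp_h L3325) q375, e3 q261 L2325 q261, e3 q262 L2333 q262, e3 q263 L3426 q387, e3 q264 L3445 q389, e3 q265 (flp_h L2353) q180, e3 q266 L3483 q393, e3 q267 L2379 q267, e3 q268 L3511 q396, e3 q269 (flp_h L2389) q182, e3 q270 (flp_h L2398) q183, e3 q271 L3539 q399, e3 q272 L3548 q400, e3 q273 (flp_h L2428) q185, e3 q274 (flp_h L2436) q186, e3 q275 L2453 q192, e3 q276 L2463 q276, e3 q277 L2470 q193, e3 q278 L2479 q194, e3 q279 (flp_h L2482) q190, e3 q280 (flp_h L3565) q401, e3 q281 (flp_h L3584) q403, e3 q282 (flp_h L3592) q404, e3 q283 (flp_h L3619) q407, e3 q284 (flp_h L3629) q408, e3 q285 (flp_h L3637) q409, e3 q286 L2550 q286, e3 q287 L2563 q287, e3 q288 L2571 q288, e3 q289 L2580 q289, e3 q290 L2588 q290, e3 q291 L2598 q291, e3 q292 L2607 q292, e3 q293 L3819 q430, e3 q294 (flp_h L2619) q201, e3 q295 L3853 q434, e3 q296 (flp_h L2636) q202, e3 q297 L3878 q437, e3 q298 L2661 q298, e3 q299 L3902 q440, e3 q300 (flp_h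 L2670) q204, e3 q301 L2683 q301, e3 q302 L3935 q444, e3 q303 (flp_h L2693) q206, e3 q304 L2708 q304, e3 q305 L3962 q448, e3 q306 (flp_h L2718) q209, e3 q307 (flp_h L2726) q210, e3 q308 L2741 q218, e3 q309 L2751 q309, e3 q310 L2757 q219, e3 q311 L2764 q220, e3 q312 L2770 q312, e3 q313 L2779 q313, e3 q314 L2788 q221, e3 q315 L2797 q222, e3 q316 L2804 q223, e3 q317 (flp_h L3979) q449, e3 q318 (flp_h L3995) q451, e3 q319 (flp_h L4003) q452, trivial⟩ (by decide +kernel)

theorem ce_h_5 : ∀ r, r < 64 → sm gh (Qf (320 + r)) = Qf (tab Gen.h (320 + r)) :=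
  edges_tab (sm gh) Qf (tab Gen.h) 320 [(320, 455), (321, 456), (322, 457), (323, 461), (324, 462), (325, 464), (326, 465), (327, 327), (328, 328), (329, 329), (330, 330), (331, 331), (332, 332), (333, 333), (334, 334), (335, 489), (336, 336), (337, 337), (338, 338), (339, 339), (340, 340), (341, 499), (342, 342), (343, 343), (344, 443), (345, 238), (346, 346), (347, 505), (348, 239), (349, 508), (350, 509), (351, 240), (352, 513), (353, 353), (354, 515), (355, 242), (356, 356), (357, 518), (358, 244), (359, 359), (360, 523), (361, 525), (362, 246), (363, 529), (364, 364), (365, 531), (366, 248), (367, 249), (368, 534), (369, 535), (370, 251), (371, 252), (372, 258), (373, 373), (374, 259), (375, 260), (376, 256), (377, 536), (378, 538), (379, 539), (380, 542), (381, 543), (382, 544), (383, 557)]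
    ⟨e3 q320 (flp_h L4027) q455, e3 q321 (flp_h L4035) q456, e3 q322 (flp_h L4041) q457, e3 q323 (flp_h L4077) q461, e3 q324 (flp_h L4086) q462, e3 q325 (flp_h L4100) q464, e3 q326 (flp_h L4106) q465, e3 q327 L2889 q327, e3 q328 L2898 q328, e3 q329 L2907 q329, e3 q330 L2915 q330, e3 q331 L2925 q331, e3 q332 L2932 q332, e3 q333 L2943 q333, e3 q334 L2952 q334, e3 q335 L4297 q489, e3 q336 L2968 q336, e3 q337 L2978 q337, e3 q338 L2986 q338, e3 q339 L2995 q339, e3 q340 L3004 q340, e3 q341 L4383 q499, e3 q342 L3019 q342, e3 q343 L3029 q343, e3 q344 (flp_h L494727) q443, e3 q345 (flp_h L3040) q238, e3 q346 L3056 q346, e3 q347 L4460 q505, e3 q348 (flp_h L3065) q239, e3 q349 L4492 q508, e3 q350 L4502 q509, e3 q351 (flp_h L3095) q240, e3 q352 L4542 q513, e3 q353 L3123 q353, e3 q354 L4562 q515, e3 q355 (flp_h L3133) q242, e3 q356 L3149 q356, e3 q357 L4592 q518, e3 q358 (flp_h L3161) q244, e3 q359 L3178 q359, e3 q360 L4633 q523, e3 q361 L4652 q525, e3 q362 (flp_h L3196) q246, e3 q363 L4692 q529, e3 q364 L3224 q364, e3 q365 L4712 q531,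 e3 q366 (flp_h L3234) q248, e3 q367 (flp_h L3243) q249, e3 q368 L4741 q534, e3 q369 L4750 q535, e3 q370 (flp_h L3273) q251, e3 q371 (flp_h L3281) q252, e3 q372 L3299 q258, e3 q373 L3310 q373, e3 q374 L3316 q259, e3 q375 L3325 q260, e3 q376 (flp_h L3328) q256, e3 q377 (flp_h L4768) q536, e3 q378 (flp_h L4787) q538, e3 q379 (flp_h L4795) q539, e3 q380 (flp_h L4820) q542, e3 q381 (flp_h L4831) q543, e3 q382 (flp_h L4840) q544, e3 q383 L4946 q557, trivial⟩ (by decide +kernel)

theorem ce_h_6 : ∀ r, r < 64 → sm gh (Qf (384 + r)) = Qf (tab Gen.h (384 + r)) :=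
  edges_tab (sm gh) Qf (tab Gen.h) 384 [(384, 384), (385, 385), (386, 561), (387, 263), (388, 565), (389, 264), (390, 568), (391, 391), (392, 571), (393, 266), (394, 394), (395, 574), (396, 268), (397, 397), (398, 578), (399, 271), (400, 272), (401, 280), (402, 402), (403, 281), (404, 282), (405, 405), (406, 406), (407, 283), (408, 284), (409, 285), (410, 579), (411, 581), (412, 582), (413, 585), (414, 586), (415, 587), (416, 591), (417, 592), (418, 594), (419, 595), (420, 420), (421, 421), (422, 422), (423, 423), (424, 424), (425, 425), (426, 426), (427, 427), (428, 619), (429, 620), (430, 293), (431, 624), (432, 432), (433, 628), (434, 295), (435, 435), (436, 632), (437, 297), (438, 438), (439, 636), (440, 299), (441, 441), (442, 442), (443, 344), (444, 302), (445, 640), (446, 446), (447, 447)]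
    ⟨e3 q384 L3405 q384, e3 q385 L3414 q385, e3 q386 L4983 q561, e3 q387 (flp_h L3426) q263, e3 q388 L5021 q565, e3 q389 (flp_h L3445) q264, e3 q390 L5049 q568, e3 q391 L3473 q391, e3 q392 L5078 q571, e3 q393 (flp_h L3483) q266, e3 q394 L3499 q394, e3 q395 L5107 q574, e3 q396 (flp_h L3511) q268, e3 q397 L3528 q397, e3 q398 L5139 q578, e3 q399 (flp_h L3539) q271, e3 q400 (flp_h L3548) q272, e3 q401 L3565 q280, e3 q402 L3576 q402, e3 q403 L3584 q281, e3 q404 L3592 q282, e3 q405 L3600 q405, e3 q406 L3610 q406, e3 q407 L3619 q283, e3 q408 L3629 q284, e3 q409 L3637 q285, e3 q410 (flp_h L5158) q579, e3 q411 (flp_h L5177) q581, e3 q412 (flp_h L5186) q582, e3 q413 (flp_h L5213) q585, e3 q414 (flp_h L5222) q586, e3 q415 (flp_h L5229) q587, e3 q416 (flp_h L5266) q591, e3 q417 (flp_h L5276) q592, e3 q418 (flp_h L5294) q594, e3 q419 (flp_h L5301) q595, e3 q420 L3732 q420, e3 q421 L3743 q421, e3 q422 L3753 q422, e3 q423 L3761 q423, e3 q424 L3772 q424, e3 q425 L3780 q425, e3 q426 L3790 q426, e3 q427 L3800 q427, e3 q428 L5512 q619, e3 q429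 L5520 q620, e3 q430 (flp_h L3819) q293, e3 q431 L5556 q624, e3 q432 L3844 q432, e3 q433 L5587 q628, e3 q434 (flp_h L3853) q295, e3 q435 L3868 q435, e3 q436 L5621 q632, e3 q437 (flp_h L3878) q297, e3 q438 L3892 q438, e3 q439 L5656 q636, e3 q440 (flp_h L3902) q299, e3 q441 L3917 q441, e3 q442 L3924 q442, e3 q443 L494727 q344, e3 q444 (flp_h L3935) q302, e3 q445 (flp_h L5708) q640, e3 q446 L3953 q446, e3 q447 L3959 q447, trivial⟩ (by decide +kernel)

theorem ce_h_7 : ∀ r, r < 64 → sm gh (Qf (448 + r)) = Qf (tab Gen.h (448 + r)) :=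
  edges_tab (sm gh) Qf (tab Gen.h) 448 [(448, 305), (449, 317), (450, 450), (451, 318), (452, 319), (453, 453), (454, 454), (455, 320), (456, 321), (457, 322), (458, 458), (459, 459), (460, 460), (461, 323), (462, 324), (463, 463), (464, 325), (465, 326), (466, 647), (467, 648), (468, 651), (469, 652), (470, 653), (471, 657), (472, 658), (473, 685), (474, 660), (475, 661), (476, 667), (477, 669), (478, 671), (479, 672), (480, 480), (481, 481), (482, 482), (483, 483), (484, 484), (485, 700), (486, 486), (487, 487), (488, 641), (489, 335), (490, 490), (491, 491), (492, 706), (493, 493), (494, 494), (495, 495), (496, 635), (497, 497), (498, 712), (499, 341), (500, 573), (501, 501), (502, 716), (503, 718), (504, 720), (505, 347), (506, 723), (507, 724), (508, 349), (509, 350), (510, 728), (511, 511)]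
    ⟨e3 q448 (flp_h L3962) q305, e3 q449 L3979 q317, e3 q450 L3989 q450, e3 q451 L3995 q318, e3 q452 L4003 q319, e3 q453 L4010 q453, e3 q454 L4018 q454, e3 q455 L4027 q320, e3 q456 L4035 q321, e3 q457 L4041 q322, e3 q458 L4050 q458, e3 q459 L4060 q459, e3 q460 L4068 q460, e3 q461 L4077 q323, e3 q462 L4086 q324, e3 q463 L4094 q463, e3 q464 L4100 q325, e3 q465 L4106 q326, e3 q466 (flp_h L5762) q647, e3 q467 (flp_h L5771) q648, e3 q468 (flp_h L5796) q651, e3 q469 (flp_h L5805) q652, e3 q470 (flp_h L5810) q653, e3 q471 (flp_h L5847) q657, e3 q472 (flp_h L5855) q658, e3 q473 L6064 q685, e3 q474 (flp_h L5866) q660, e3 q475 (flp_h L5875) q661, e3 q476 (flp_h L5927) q667, e3 q477 (flp_h L5943) q669, e3 q478 (flp_h L5956) q671, e3 q479 (flp_h L5964) q672, e3 q480 L4224 q480, e3 q481 L4235 q481, e3 q482 L4244 q482, e3 q483 L4254 q483, e3 q484 L4264 q484, e3 q485 L6190 q700, e3 q486 L4276 q486, e3 q487 L4287 q487, e3 q488 L487737 q641, e3 q489 (flp_h L4297) q335, e3 q490 L4310 q490, e3 q491 L4320 q491, e3 q492 L6262 q706, e3 q493 L4338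 q493, e3 q494 L4346 q494, e3 q495 L4357 q495, e3 q496 L564419 q635, e3 q497 L4371 q497, e3 q498 L6330 q712, e3 q499 (flp_h L4383) q341, e3 q500 L572368 q573, e3 q501 L4432 q501, e3 q502 L6410 q716, e3 q503 L6428 q718, e3 q504 L6449 q720, e3 q505 (flp_h L4460) q347, e3 q506 L6483 q723, e3 q507 L6493 q724, e3 q508 (flp_h L4492) q349, e3 q509 (flp_h L4502) q350, e3 q510 L6532 q728, e3 q511 L4532 q511, trivial⟩ (by decide +kernel)

theorem ce_h_8 : ∀ r, r < 64 → sm gh (Qf (512 + r)) = Qf (tab Gen.h (512 + r)) :=
  edges_tab (sm gh) Qf (tab Gen.h) 512 [(512, 730), (513, 352), (514, 732), (515, 354), (516, 516), (517, 736), (518, 357), (519, 737), (520, 520), (521, 521), (522, 744), (523, 360), (524, 748), (525, 361), (526, 751), (527, 527), (528, 753), (529, 363), (530, 755), (531, 365), (532, 532), (533, 759), (534, 368), (535, 369), (536, 377), (537, 537), (538, 378), (539, 379), (540, 540), (541, 541), (542, 380), (543, 381), (544, 382), (545, 760), (546, 762), (547, 763), (548, 766), (549, 767), (550, 768), (551, 772), (552,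 773), (553, 791), (554, 775), (555, 776), (556, 796), (557, 383), (558, 558), (559, 559), (560, 799), (561, 386), (562, 803), (563, 563), (564, 807), (565, 388), (566, 566), (567, 811), (568, 390), (569, 569), (570, 814), (571, 392), (572, 572), (573, 500), (574, 395), (575, 818)]
    ⟨e3 q512 L6553 q730, e3 q513 (flp_h L4542) q352, e3 q514 L6572 q732, e3 q515 (flp_h L4562) q354, e3 q516 L4580 q516, e3 q517 L6606 q736, e3 q518 (flp_h L4592) q357, e3 q519 (flp_h L6624) q737, e3 q520 L4613 q520, e3 q521 L4622 q521, e3 q522 L6676 q744, e3 q523 (flp_h L4633) q360, e3 q524 L6716 q748, e3 q525 (flp_h L4652) q361, e3 q526 L6746 q751, e3 q527 L4682 q527, e3 q528 L6767 q753, e3 q529 (flp_h L4692) q363, e3 q530 L6786 q755, e3 q531 (flp_h L4712) q365, e3 q532 L4730 q532, e3 q533 L6820 q759, e3 q534 (flp_h L4741) q368, e3 q535 (flp_h L4750) q369, e3 q536 L4768 q377, e3 q537 L4780 q537, e3 q538 L4787 q378, e3 q539 L4795 q379, e3 q540 L4802 q540, e3 q541 L4812 q541, e3 q542 L4820 q380, e3 q543 L4831 q381, e3 q544 L4840 q382, e3 q545 (flp_h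 L6840) q760, e3 q546 (flp_h L6859) q762, e3 q547 (flp_h L6868) q763, e3 q548 (flp_h L6893) q766, e3 q549 (flp_h L6903) q767, e3 q550 (flp_h L6911) q768, e3 q551 (flp_h L6950) q772, e3 q552 (flp_h L6961) q773, e3 q553 L7109 q791, e3 q554 (flp_h L6975) q775, e3 q555 (flp_h L6983) q776, e3 q556 L7150 q796, e3 q557 (flp_h L4946) q383, e3 q558 L4961 q558, e3 q559 L4971 q559, e3 q560 L7178 q799, e3 q561 (flp_h L4983) q386, e3 q562 L7218 q803, e3 q563 L5011 q563, e3 q564 L7255 q807, e3 q565 (flp_h L5021) q388, e3 q566 L5038 q566, e3 q567 L7295 q811, e3 q568 (flp_h L5049) q390, e3 q569 L5066 q569, e3 q570 L7326 q814, e3 q571 (flp_h L5078) q392, e3 q572 L5095 q572, e3 q573 (flp_h L572368) q500, e3 q574 (flp_h L5107) q395, e3 q575 (flp_h L7377) q818, trivial⟩ (by decide +kernel)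

theorem ce_h_9 : ∀ r, r < 64 → sm gh (Qf (576 + r)) = Qf (tab Gen.h (576 + r)) :=
  edges_tab (sm gh) Qf (tab Gen.h) 576 [(576, 576), (577, 577), (578, 398), (579, 410), (580, 580), (581, 411), (582, 412), (583, 583), (584, 584), (585, 413), (586, 414), (587, 415), (588, 588), (589, 589), (590, 590), (591, 416), (592, 417), (593, 593), (594, 418), (595, 419), (596, 825), (597, 826), (598, 829), (599, 830), (600, 831), (601, 835), (602, 836), (603, 863), (604, 838), (605, 839), (606, 845), (607, 847), (608, 849), (609, 850), (610, 610), (611, 611), (612, 612), (613, 613), (614, 614), (615, 878), (616, 616), (617, 617), (618, 881), (619, 428), (620, 429), (621, 885), (622, 622), (623, 889), (624, 431), (625, 625), (626, 626), (627, 895), (628, 433), (629, 629), (630, 630), (631, 901), (632, 436), (633, 633), (634, 634), (635, 496), (636, 439), (637, 905), (638, 638), (639, 639)]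
    ⟨e3 q576 L5129 q576, e3 q577 L5136 q577, e3 q578 (flp_h L5139) q398, e3 q579 L5158 q410, e3 q580 L5169 q580, e3 q581 L5177 q411, e3 q582 L5186 q412, e3 q583 L5195 q583, e3 q584 L5204 q584, e3 q585 L5213 q413, e3 q586 L5222 q414, e3 q587 L5229 q415, e3 q588 L5238 q588, e3 q589 L5249 q589, e3 q590 L5258 q590, e3 q591 L5266 q416, e3 q592 L5276 q417, e3 q593 L5286 q593, e3 q594 L5294 q418, e3 q595 L5301 q419, e3 q596 (flp_h L7439) q825, e3 q597 (flp_h L7449) q826, e3 q598 (flp_h L7477) q829, e3 q599 (flp_h L7487) q830, e3 q600 (flp_h L7493) q831, e3 q601 (flp_h L7531) q835, e3 q602 (flp_h L7540) q836, e3 q603 L7773 q863, e3 q604 (flp_h L7555) q838, e3 q605 (flp_h L7565) q839, e3 q606 (flp_h L7623) q845, e3 q607 (flp_h L7638) q847, e3 q608 (flp_h L7655) q849, e3 q609 (flp_h L7664) q850, e3 q610 L5432 q610, e3 q611 L5444 q611, e3 q612 L5454 q612, e3 q613 L5463 q613, e3 q614 L5474 q614, e3 q615 L7913 q878, e3 q616 L5490 q616, e3 q617 L5502 q617, e3 q618 L7937 q881, e3 q619 (flp_h L5512) q428, e3 q620 (flp_h L5520) q429, e3 q621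 L7970 q885, e3 q622 L5546 q622, e3 q623 L8004 q889, e3 q624 (flp_h L5556) q431, e3 q625 L5570 q625, e3 q626 L5576 q626, e3 q627 L8055 q895, e3 q628 (flp_h L5587) q433, e3 q629 L5603 q629, e3 q630 L5610 q630, e3 q631 L8102 q901, e3 q632 (flp_h L5621) q436, e3 q633 L5638 q633, e3 q634 L5645 q634, e3 q635 (flp_h L564419) q496, e3 q636 (flp_h L5656) q439, e3 q637 (flp_h L8158) q905, e3 q638 L5674 q638, e3 q639 L5681 q639, trivial⟩ (by decide +kernel)

theorem ce_h_10 : ∀ r, r < 64 → sm gh (Qf (640 + r)) = Qf (tab Gen.h (640 + r)) :=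
  edges_tab (sm gh) Qf (tab Gen.h) 640 [(640, 445), (641, 488), (642, 911), (643, 643), (644, 644), (645, 645), (646, 646), (647, 466), (648, 467), (649, 649), (650, 650), (651, 468), (652, 469), (653, 470), (654, 654), (655, 655), (656, 656), (657, 471), (658, 472), (659, 940), (660, 474), (661, 475), (662, 662), (663, 663), (664, 947), (665, 665), (666, 666), (667, 476), (668, 668), (669, 477), (670, 670), (671, 478), (672, 479), (673, 920), (674, 921), (675, 922), (676, 926), (677, 927), (678, 967), (679, 929), (680, 930), (681, 936), (682, 912), (683, 938), (684, 975), (685, 473), (686, 941), (687, 942), (688, 951), (689, 954), (690, 957), (691, 691), (692, 692), (693, 983), (694, 694), (695, 695), (696, 696), (697, 906), (698, 698), (699, 989), (700, 485), (701, 819), (702, 702), (703, 900)]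
    ⟨e3 q640 L5708 q445, e3 q641 (flp_h L487737) q488, e3 q642 (flp_h L8223) q911, e3 q643 L5730 q643, e3 q644 L5737 q644, e3 q645 L5744 q645, e3 q646 L5755 q646, e3 q647 L5762 q466, e3 q648 L5771 q467, e3 q649 L5778 q649, e3 q650 L5787 q650, e3 q651 L5796 q468, e3 q652 L5805 q469, e3 q653 L5810 q470, e3 q654 L5819 q654, e3 q655 L5828 q655, e3 q656 L5835 q656, e3 q657 L5847 q471, e3 q658 L5855 q472, e3 q659 L8467 q940, e3 q660 L5866 q474, e3 q661 L5875 q475, e3 q662 L5883 q662, e3 q663 L5893 q663, e3 q664 L8525 q947, e3 q665 L5909 q665, e3 q666 L5916 q666, e3 q667 L5927 q476, e3 q668 L5936 q668, e3 q669 L5943 q477, e3 q670 L5951 q670, e3 q671 L5956 q478, e3 q672 L5964 q479, e3 q673 (flp_h L8311) q920, e3 q674 (flp_h L8321) q921, e3 q675 (flp_h L8328) q922, e3 q676 (flp_h L8364) q926, e3 q677 (flp_h L8373) q927, e3 q678 L8684 q967, e3 q679 (flp_h L8384) q929, e3 q680 (flp_h L8391) q930, e3 q681 (flp_h L8444) q936, e3 q682 (flp_h L583221) q912, e3 q683 (flp_h L8458) q938, e3 q684 L8763 q975, e3 q685 (flp_h L6064) q473, e3 q686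 (flp_h L8479) q941, e3 q687 (flp_h L8486) q942, e3 q688 (flp_h L8564) q951, e3 q689 (flp_h L8587) q954, e3 q690 (flp_h L8608) q957, e3 q691 L6117 q691, e3 q692 L6128 q692, e3 q693 L8840 q983, e3 q694 L6143 q694, e3 q695 L6152 q695, e3 q696 L6164 q696, e3 q697 L583152 q906, e3 q698 L6179 q698, e3 q699 L8902 q989, e3 q700 (flp_h L6190) q485, e3 q701 (flp_h L571912) q819, e3 q702 L6233 q702, e3 q703 (flp_h L572433) q900, trivial⟩ (by decide +kernel)

theorem ce_h_11 : ∀ r, r < 64 → sm gh (Qf (704 + r)) = Qf (tab Gen.h (704 + r)) :=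
  edges_tab (sm gh) Qf (tab Gen.h) 704 [(704, 704), (705, 996), (706, 492), (707, 707), (708, 813), (709, 709), (710, 893), (711, 999), (712, 498), (713, 713), (714, 714), (715, 1004), (716, 502), (717, 1007), (718, 503), (719, 1010), (720, 504), (721, 1012), (722, 1013), (723, 506), (724, 507), (725, 1005), (726, 726), (727, 1019), (728, 510), (729, 1021), (730, 512), (731, 731), (732, 514), (733, 1025), (734, 734), (735, 735), (736, 517), (737, 519), (738, 1032), (739, 1033), (740, 740), (741, 741), (742, 742), (743, 1042), (744, 522), (745, 1046), (746, 746), (747, 1049), (748, 524), (749, 749), (750, 1052), (751, 526), (752, 1054), (753, 528), (754, 754), (755, 530), (756, 1058), (757, 757), (758, 758), (759, 533), (760, 545), (761, 761), (762, 546), (763, 547), (764, 764), (765, 765), (766, 548), (767, 549)]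
    ⟨e3 q704 L6250 q704, e3 q705 L9020 q996, e3 q706 (flp_h L6262) q492, e3 q707 L6277 q707, e3 q708 L572482 q813, e3 q709 L6295 q709, e3 q710 L572499 q893, e3 q711 L9105 q999, e3 q712 (flp_h L6330) q498, e3 q713 L6388 q713, e3 q714 L6398 q714, e3 q715 L9204 q1004, e3 q716 (flp_h L6410) q502, e3 q717 L9231 q1007, e3 q718 (flp_h L6428) q503, e3 q719 L9265 q1010, e3 q720 (flp_h L6449) q504, e3 q721 L9287 q1012, e3 q722 L9298 q1013, e3 q723 (flp_h L6483) q506, e3 q724 (flp_h L6493) q507, e3 q725 (flp_h L9220) q1005, e3 q726 L6521 q726, e3 q727 L9351 q1019, e3 q728 (flp_h L6532) q510, e3 q729 L9372 q1021, e3 q730 (flp_h L6553) q512, e3 q731 L6571 q731, e3 q732 (flp_h L6572) q514, e3 q733 (flp_h L9415) q1025, e3 q734 L6597 q734, e3 q735 L6605 q735, e3 q736 (flp_h L6606) q517, e3 q737 L6624 q519, e3 q738 (flp_h L9472) q1032, e3 q739 (flp_h L9482) q1033, e3 q740 L6650 q740, e3 q741 L6659 q741, e3 q742 L6666 q742, e3 q743 L9550 q1042, e3 q744 (flp_h L6676) q522, e3 q745 L9592 q1046, e3 q746 L6706 q746, e3 q747 L9623 q1049, e3 q748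 (flp_h L6716) q524, e3 q749 L6735 q749, e3 q750 L9655 q1052, e3 q751 (flp_h L6746) q526, e3 q752 L9676 q1054, e3 q753 (flp_h L6767) q528, e3 q754 L6785 q754, e3 q755 (flp_h L6786) q530, e3 q756 (flp_h L9719) q1058, e3 q757 L6810 q757, e3 q758 L6817 q758, e3 q759 (flp_h L6820) q533, e3 q760 L6840 q545, e3 q761 L6852 q761, e3 q762 L6859 q546, e3 q763 L6868 q547, e3 q764 L6876 q764, e3 q765 L6885 q765, e3 q766 L6893 q548, e3 q767 L6903 q549, trivial⟩ (by decide +kernel)

theorem ce_h_12 : ∀ r, r < 64 → sm gh (Qf (768 + r)) = Qf (tab Gen.h (768 + r)) :=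
  edges_tab (sm gh) Qf (tab Gen.h) 768 [(768, 550), (769, 769), (770, 770), (771, 771), (772, 551), (773, 552), (774, 1089), (775, 554), (776, 555), (777, 1065), (778, 1066), (779, 1069), (780, 1070), (781, 1071), (782, 1075), (783, 1076), (784, 1104), (785, 1078), (786, 1079), (787, 1085), (788, 1110), (789, 1087), (790, 1114), (791, 553), (792, 1090), (793, 1091), (794, 1118), (795, 1120), (796, 556), (797, 797), (798, 798), (799, 560), (800, 1124), (801, 801), (802, 1128), (803, 562), (804, 804), (805, 805), (806, 1133), (807, 564), (808, 808), (809, 809), (810, 1138), (811, 567), (812, 812), (813, 708), (814, 570), (815, 1142), (816, 816), (817, 817), (818, 575), (819, 701), (820, 1148), (821, 821), (822, 822), (823, 823), (824, 824), (825, 596), (826, 597), (827, 827), (828, 828), (829, 598), (830, 599), (831, 600)]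
    ⟨e3 q768 L6911 q550, e3 q769 L6919 q769, e3 q770 L6931 q770, e3 q771 L6941 q771, e3 q772 L6950 q551, e3 q773 L6961 q552, e3 q774 L9991 q1089, e3 q775 L6975 q554, e3 q776 L6983 q555, e3 q777 (flp_h L9781) q1065, e3 q778 (flp_h L9791) q1066, e3 q779 (flp_h L9817) q1069, e3 q780 (flp_h L9828) q1070, e3 q781 (flp_h L9835) q1071, e3 q782 (flp_h L9875) q1075, e3 q783 (flp_h L9885) q1076, e3 q784 L10124 q1104, e3 q785 (flp_h L9897) q1078, e3 q786 (flp_h L9908) q1079, e3 q787 (flp_h L9967) q1085, e3 q788 L10176 q1110, e3 q789 (flp_h L9982) q1087, e3 q790 L10209 q1114, e3 q791 (flp_h L7109) q553, e3 q792 (flp_h L10004) q1090, e3 q793 (flp_h L10014) q1091, e3 q794 L10242 q1118, e3 q795 L10259 q1120, e3 q796 (flp_h L7150) q556, e3 q797 L7166 q797, e3 q798 L7175 q798, e3 q799 (flp_h L7178) q560, e3 q800 L10295 q1124, e3 q801 L7207 q801, e3 q802 L10335 q1128, e3 q803 (flp_h L7218) q562, e3 q804 L7235 q804, e3 q805 L7243 q805, e3 q806 L10386 q1133, e3 q807 (flp_h L7255) q564, e3 q808 L7273 q808, e3 q809 L7282 q809, e3 q810 L10431 q1138,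 e3 q811 (flp_h L7295) q567, e3 q812 L7314 q812, e3 q813 (flp_h L572482) q708, e3 q814 (flp_h L7326) q570, e3 q815 (flp_h L10486) q1142, e3 q816 L7348 q816, e3 q817 L7356 q817, e3 q818 L7377 q575, e3 q819 L571912 q701, e3 q820 (flp_h L10552) q1148, e3 q821 L7402 q821, e3 q822 L7410 q822, e3 q823 L7418 q823, e3 q824 L7430 q824, e3 q825 L7439 q596, e3 q826 L7449 q597, e3 q827 L7458 q827, e3 q828 L7468 q828, e3 q829 L7477 q598, e3 q830 L7487 q599, e3 q831 L7493 q600, trivial⟩ (by decide +kernel)

theorem ce_h_13 : ∀ r, r < 64 → sm gh (Qf (832 + r)) = Qf (tab Gen.h (832 + r)) :=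
  edges_tab (sm gh) Qf (tab Gen.h) 832 [(832, 832), (833, 833), (834, 834), (835, 601), (836, 602), (837, 1179), (838, 604), (839, 605), (840, 840), (841, 841), (842, 1186), (843, 843), (844, 844), (845, 606), (846, 846), (847, 607), (848, 848), (849, 608), (850, 609), (851, 1159), (852, 1160), (853, 1161), (854, 1165), (855, 1166), (856, 1206), (857, 1168), (858, 1169), (859, 1175), (860, 1213), (861, 1177), (862, 1216), (863, 603), (864, 1180), (865, 1181), (866, 1190), (867, 1193), (868, 1196), (869, 869), (870, 870), (871, 1225), (872, 872), (873, 873), (874, 874), (875, 1231), (876, 876), (877, 1233), (878, 615), (879, 1149), (880, 1236), (881, 618), (882, 882), (883, 883), (884, 1240), (885, 621), (886, 886), (887, 887), (888, 1246), (889, 623), (890, 890), (891, 891), (892, 892), (893, 710), (894, 1253), (895, 627)]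
    ⟨e3 q832 L7502 q832, e3 q833 L7512 q833, e3 q834 L7520 q834, e3 q835 L7531 q601, e3 q836 L7540 q602, e3 q837 L10822 q1179, e3 q838 L7555 q604, e3 q839 L7565 q605, e3 q840 L7572 q840, e3 q841 L7583 q841, e3 q842 L10887 q1186, e3 q843 L7603 q843, e3 q844 L7611 q844, e3 q845 L7623 q606, e3 q846 L7632 q846, e3 q847 L7638 q607, e3 q848 L7648 q848, e3 q849 L7655 q608, e3 q850 L7664 q609, e3 q851 (flp_h L10650) q1159, e3 q852 (flp_h L10661) q1160, e3 q853 (flp_h L10669) q1161, e3 q854 (flp_h L10706) q1165, e3 q855 (flp_h L10716) q1166, e3 q856 L11065 q1206, e3 q857 (flp_h L10731) q1168, e3 q858 (flp_h L10739) q1169, e3 q859 (flp_h L10798) q1175, e3 q860 L11129 q1213, e3 q861 (flp_h L10811) q1177, e3 q862 L11152 q1216, e3 q863 (flp_h L7773) q603, e3 q864 (flp_h L10838) q1180, e3 q865 (flp_h L10846) q1181, e3 q866 (flp_h L10934) q1190, e3 q867 (flp_h L10955) q1193, e3 q868 (flp_h L10982) q1196, e3 q869 L7832 q869, e3 q870 L7844 q870, e3 q871 L11237 q1225, e3 q872 L7863 q872, e3 q873 L7873 q873, e3 q874 L7886 q874, e3 q875 L11292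 q1231, e3 q876 L7900 q876, e3 q877 L11307 q1233, e3 q878 (flp_h L7913) q615, e3 q879 L492864 q1149, e3 q880 L11342 q1236, e3 q881 (flp_h L7937) q618, e3 q882 L7952 q882, e3 q883 L7960 q883, e3 q884 L11382 q1240, e3 q885 (flp_h L7970) q621, e3 q886 L7985 q886, e3 q887 L7992 q887, e3 q888 L11437 q1246, e3 q889 (flp_h L8004) q623, e3 q890 L8022 q890, e3 q891 L8029 q891, e3 q892 L8037 q892, e3 q893 (flp_h L572499) q710, e3 q894 L11510 q1253, e3 q895 (flp_h L8055) q627, trivial⟩ (by decide +kernel)

theorem ce_h_14 : ∀ r, r < 64 → sm gh (Qf (896 + r)) = Qf (tab Gen.h (896 + r)) :=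
  edges_tab (sm gh) Qf (tab Gen.h) 896 [(896, 1254), (897, 897), (898, 898), (899, 899), (900, 703), (901, 631), (902, 1260), (903, 903), (904, 904), (905, 637), (906, 697), (907, 1266), (908, 908), (909, 909), (910, 910), (911, 642), (912, 682), (913, 1273), (914, 914), (915, 1280), (916, 916), (917, 917), (918, 918), (919, 919), (920, 673), (921, 674), (922, 675), (923, 923), (924, 924), (925, 925), (926, 676), (927, 677), (928, 1300), (929, 679), (930, 680), (931, 931), (932, 932), (933, 1307), (934, 934), (935, 935), (936, 681), (937, 1274), (938, 683), (939, 1316), (940, 659), (941, 686), (942, 687), (943, 943), (944, 1322), (945, 945), (946, 1326), (947, 664), (948, 948), (949, 949), (950, 950), (951, 688), (952, 952), (953, 953), (954, 689), (955, 955), (956, 956), (957, 690), (958, 1286), (959, 1287)]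
    ⟨e3 q896 (flp_h L11525) q1254, e3 q897 L8075 q897, e3 q898 L8081 q898, e3 q899 L8090 q899, e3 q900 L572433 q703, e3 q901 (flp_h L8102) q631, e3 q902 (flp_h L11590) q1260, e3 q903 L8123 q903, e3 q904 L8131 q904, e3 q905 L8158 q637, e3 q906 (flp_h L583152) q697, e3 q907 (flp_h L11662) q1266, e3 q908 L8181 q908, e3 q909 L8189 q909, e3 q910 L8195 q910, e3 q911 L8223 q642, e3 q912 L583221 q682, e3 q913 (flp_h L11768) q1273, e3 q914 L8264 q914, e3 q915 L11840 q1280, e3 q916 L8276 q916, e3 q917 L8284 q917, e3 q918 L8291 q918, e3 q919 L8301 q919, e3 q920 L8311 q673, e3 q921 L8321 q674, e3 q922 L8328 q675, e3 q923 L8337 q923, e3 q924 L8347 q924, e3 q925 L8353 q925, e3 q926 L8364 q676, e3 q927 L8373 q677, e3 q928 L12005 q1300, e3 q929 L8384 q679, e3 q930 L8391 q680, e3 q931 L8402 q931, e3 q932 L8411 q932, e3 q933 L12064 q1307, e3 q934 L8425 q934, e3 q935 L8435 q935, e3 q936 L8444 q681, e3 q937 (flp_h L598197) q1274, e3 q938 L8458 q683, e3 q939 L12142 q1316, e3 q940 (flp_h L8467) q659, e3 q941 L8479 q686, e3 q942 L8486 q687, e3 q943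 L8496 q943, e3 q944 L12200 q1322, e3 q945 L8514 q945, e3 q946 L12233 q1326, e3 q947 (flp_h L8525) q664, e3 q948 L8537 q948, e3 q949 L8546 q949, e3 q950 L8557 q950, e3 q951 L8564 q688, e3 q952 L8571 q952, e3 q953 L8581 q953, e3 q954 L8587 q689, e3 q955 L8594 q955, e3 q956 L8601 q956, e3 q957 L8608 q690, e3 q958 (flp_h L11899) q1286, e3 q959 (flp_h L11909) q1287, trivial⟩ (by decide +kernel)

theorem ce_h_15 : ∀ r, r < 64 → sm gh (Qf (960 + r)) = Qf (tab Gen.h (960 + r)) :=
  edges_tab (sm gh) Qf (tab Gen.h) 960 [(960, 1341), (961, 1289), (962, 1290), (963, 1296), (964, 1267), (965, 1298), (966, 1350), (967, 678), (968, 1301), (969, 1302), (970, 1150), (971, 1311), (972, 1275), (973, 1313), (974, 1357), (975, 684), (976, 1317), (977, 1330), (978, 1334), (979, 979), (980, 1261), (981, 981), (982, 1365), (983, 693), (984, 984), (985, 1143), (986, 986), (987, 1255), (988, 1368), (989, 699), (990, 1137), (991, 991), (992, 1244), (993, 993), (994, 1374), (995, 1375), (996, 705), (997, 1131), (998, 1252), (999, 711), (1000, 1000),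 (1001, 1001), (1002, 1382), (1003, 1383), (1004, 715), (1005, 725), (1006, 1387), (1007, 717), (1008, 1390), (1009, 1391), (1010, 719), (1011, 1393), (1012, 721), (1013, 722), (1014, 1384), (1015, 1015), (1016, 1385), (1017, 1386), (1018, 1403), (1019, 727), (1020, 1020), (1021, 729), (1022, 1407), (1023, 1023)]
    ⟨e3 q960 L12357 q1341, e3 q961 (flp_h L11923) q1289, e3 q962 (flp_h L11930) q1290, e3 q963 (flp_h L11984) q1296, e3 q964 (flp_h L598161) q1267, e3 q965 (flp_h L11998) q1298, e3 q966 L12445 q1350, e3 q967 (flp_h L8684) q678, e3 q968 (flp_h L12017) q1301, e3 q969 (flp_h L12027) q1302, e3 q970 (flp_h L589526) q1150, e3 q971 (flp_h L12099) q1311, e3 q972 L559388 q1275, e3 q973 (flp_h L12130) q1313, e3 q974 L12557 q1357, e3 q975 (flp_h L8763) q684, e3 q976 (flp_h L12161) q1317, e3 q977 (flp_h L12272) q1330, e3 q978 (flp_h L12304) q1334, e3 q979 L8811 q979, e3 q980 (flp_h L487676) q1261, e3 q981 L8829 q981, e3 q982 L12651 q1365, e3 q983 (flp_h L8840) q693, e3 q984 L8852 q984, e3 q985 L572177 q1143, e3 q986 L8869 q986,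 e3 q987 (flp_h L583115) q1255, e3 q988 L12730 q1368, e3 q989 (flp_h L8902) q699, e3 q990 L478895 q1137, e3 q991 L8964 q991, e3 q992 (flp_h L487833) q1244, e3 q993 L8998 q993, e3 q994 L12886 q1374, e3 q995 L12895 q1375, e3 q996 (flp_h L9020) q705, e3 q997 (flp_h L478814) q1131, e3 q998 L572508 q1252, e3 q999 (flp_h L9105) q711, e3 q1000 L9170 q1000, e3 q1001 L9182 q1001, e3 q1002 L13112 q1382, e3 q1003 L13121 q1383, e3 q1004 (flp_h L9204) q715, e3 q1005 L9220 q725, e3 q1006 L13158 q1387, e3 q1007 (flp_h L9231) q717, e3 q1008 L13193 q1390, e3 q1009 L13204 q1391, e3 q1010 (flp_h L9265) q719, e3 q1011 L13223 q1393, e3 q1012 (flp_h L9287) q721, e3 q1013 (flp_h L9298) q722, e3 q1014 (flp_h L13138) q1384, e3 q1015 L9324 q1015, e3 q1016 (flp_h L13145) q1385, e3 q1017 (flp_h L13154) q1386, e3 q1018 L13308 q1403, e3 q1019 (flp_h L9351) q727, e3 q1020 L9371 q1020, e3 q1021 (flp_h L9372) q729, e3 q1022 (flp_h L13355) q1407, e3 q1023 L9397 q1023, trivial⟩ (by decide +kernel)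

theorem ce_h_16 : ∀ r, r < 64 → sm gh (Qf (1024 + r)) = Qf (tab Gen.h (1024 + r)) :=
  edges_tab (sm gh) Qf (tab Gen.h) 1024 [(1024, 1024), (1025, 733), (1026, 1413), (1027, 1414), (1028, 1028), (1029, 1029), (1030, 1030), (1031, 1031), (1032, 738), (1033, 739), (1034, 1425), (1035, 1426), (1036, 1427), (1037, 1037), (1038, 1038), (1039, 1437), (1040, 1040), (1041, 1041), (1042, 743), (1043, 1442), (1044, 1044), (1045, 1445), (1046, 745), (1047, 1047), (1048, 1448), (1049, 747), (1050, 1050), (1051, 1452), (1052, 750), (1053, 1053), (1054, 752), (1055, 1456), (1056, 1056), (1057, 1057), (1058, 756), (1059, 1462), (1060, 1463), (1061, 1061), (1062, 1062), (1063, 1063), (1064, 1064), (1065, 777), (1066, 778), (1067, 1067), (1068, 1068), (1069, 779), (1070, 780), (1071, 781), (1072, 1072), (1073, 1073), (1074, 1074), (1075, 782), (1076, 783), (1077, 1494), (1078, 785), (1079, 786), (1080, 1080), (1081, 1081), (1082, 1501), (1083, 1083), (1084, 1084), (1085, 787), (1086, 1508), (1087, 789)]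
    ⟨e3 q1024 L9406 q1024, e3 q1025 L9415 q733, e3 q1026 (flp_h L13404) q1413, e3 q1027 (flp_h L13413) q1414, e3 q1028 L9441 q1028, e3 q1029 L9449 q1029, e3 q1030 L9455 q1030, e3 q1031 L9466 q1031, e3 q1032 L9472 q738, e3 q1033 L9482 q739, e3 q1034 (flp_h L13507) q1425, e3 q1035 (flp_h L13518) q1426, e3 q1036 (flp_h L13526) q1427, e3 q1037 L9518 q1037, e3 q1038 L9527 q1038, e3 q1039 L13605 q1437, e3 q1040 L9542 q1040, e3 q1041 L9548 q1041, e3 q1042 (flp_h L9550) q743, e3 q1043 L13650 q1442, e3 q1044 L9581 q1044, e3 q1045 L13683 q1445, e3 q1046 (flp_h L9592) q745, e3 q1047 L9609 q1047, e3 q1048 L13716 q1448, e3 q1049 (flp_h L9623) q747, e3 q1050 L9642 q1050, e3 q1051 L13751 q1452, e3 q1052 (flp_h L9655) q750, e3 q1053 L9675 q1053, e3 q1054 (flp_h L9676) q752, e3 q1055 (flp_h L13798) q1456, e3 q1056 L9700 q1056, e3 q1057 L9708 q1057, e3 q1058 L9719 q756, e3 q1059 (flp_h L13846) q1462, e3 q1060 (flp_h L13856) q1463, e3 q1061 L9742 q1061, e3 q1062 L9751 q1062, e3 q1063 L9760 q1063, e3 q1064 L9773 q1064, e3 q1065 L9781 q777, e3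 q1066 L9791 q778, e3 q1067 L9799 q1067, e3 q1068 L9809 q1068, e3 q1069 L9817 q779, e3 q1070 L9828 q780, e3 q1071 L9835 q781, e3 q1072 L9843 q1072, e3 q1073 L9854 q1073, e3 q1074 L9863 q1074, e3 q1075 L9875 q782, e3 q1076 L9885 q783, e3 q1077 L14129 q1494, e3 q1078 L9897 q785, e3 q1079 L9908 q786, e3 q1080 L9916 q1080, e3 q1081 L9928 q1081, e3 q1082 L14193 q1501, e3 q1083 L9945 q1083, e3 q1084 L9954 q1084, e3 q1085 L9967 q787, e3 q1086 L14251 q1508, e3 q1087 L9982 q789, trivial⟩ (by decide +kernel)

theorem ce_h_17 : ∀ r, r < 64 → sm gh (Qf (1088 + r)) = Qf (tab Gen.h (1088 + r)) :=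
  edges_tab (sm gh) Qf (tab Gen.h) 1088 [(1088, 1512), (1089, 774), (1090, 792), (1091, 793), (1092, 1474), (1093, 1475), (1094, 1476), (1095, 1480), (1096, 1481), (1097, 1524), (1098, 1483), (1099, 1484), (1100, 1490), (1101, 1531), (1102, 1492), (1103, 1535), (1104, 784), (1105, 1495), (1106, 1496), (1107, 1539), (1108, 1505), (1109, 1543), (1110, 788), (1111, 1509), (1112, 1547), (1113, 1549), (1114, 790), (1115, 1115), (1116, 1514), (1117, 1553), (1118, 794), (1119, 1556), (1120, 795), (1121, 1121), (1122, 1122), (1123, 1561), (1124, 800), (1125, 1125), (1126, 1126), (1127, 1566), (1128, 802), (1129, 1129), (1130, 1130), (1131, 997), (1132, 1572), (1133, 806), (1134, 1573), (1135, 1135), (1136, 1136), (1137, 990), (1138, 810), (1139, 1579), (1140, 1140), (1141, 1141), (1142, 815), (1143, 985), (1144, 1585), (1145, 1145), (1146, 1146), (1147, 1147), (1148, 820), (1149, 879), (1150, 970), (1151, 1594)]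
    ⟨e3 q1088 L14280 q1512, e3 q1089 (flp_h L9991) q774, e3 q1090 L10004 q792, e3 q1091 L10014 q793, e3 q1092 (flp_h L13953) q1474, e3 q1093 (flp_h L13965) q1475, e3 q1094 (flp_h L13974) q1476, e3 q1095 (flp_h L14013) q1480, e3 q1096 (flp_h L14024) q1481, e3 q1097 L14387 q1524, e3 q1098 (flp_h L14036) q1483, e3 q1099 (flp_h L14045) q1484, e3 q1100 (flp_h L14105) q1490, e3 q1101 L14448 q1531, e3 q1102 (flp_h L14119) q1492, e3 q1103 L14479 q1535, e3 q1104 (flp_h L10124) q784, e3 q1105 (flp_h L14142) q1495, e3 q1106 (flp_h L14151) q1496, e3 q1107 L14512 q1539, e3 q1108 (flp_h L14235) q1505, e3 q1109 L14547 q1543, e3 q1110 (flp_h L10176) q788, e3 q1111 (flp_h L14265) q1509, e3 q1112 L14581 q1547, e3 q1113 L14600 q1549, e3 q1114 (flp_h L10209) q790, e3 q1115 L10225 q1115, e3 q1116 (flp_h L14303) q1514, e3 q1117 L14634 q1553, e3 q1118 (flp_h L10242) q794, e3 q1119 L14659 q1556, e3 q1120 (flp_h L10259) q795, e3 q1121 L10275 q1121, e3 q1122 L10284 q1122, e3 q1123 L14707 q1561, e3 q1124 (flp_h L10295) q800, e3 q1125 L10313 q1125, e3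 q1126 L10322 q1126, e3 q1127 L14761 q1566, e3 q1128 (flp_h L10335) q802, e3 q1129 L10355 q1129, e3 q1130 L10364 q1130, e3 q1131 L478814 q997, e3 q1132 L14829 q1572, e3 q1133 (flp_h L10386) q806, e3 q1134 (flp_h L14846) q1573, e3 q1135 L10410 q1135, e3 q1136 L10417 q1136, e3 q1137 (flp_h L478895) q990, e3 q1138 (flp_h L10431) q810, e3 q1139 (flp_h L14909) q1579, e3 q1140 L10456 q1140, e3 q1141 L10465 q1141, e3 q1142 L10486 q815, e3 q1143 (flp_h L572177) q985, e3 q1144 (flp_h L14982) q1585, e3 q1145 L10512 q1145, e3 q1146 L10521 q1146, e3 q1147 L10528 q1147, e3 q1148 L10552 q820, e3 q1149 (flp_h L492864) q879, e3 q1150 L589526 q970, e3 q1151 (flp_h L15093) q1594, trivial⟩ (by decide +kernel)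

theorem ce_h_18 : ∀ r, r < 64 → sm gh (Qf (1152 + r)) = Qf (tab Gen.h (1152 + r)) :=
  edges_tab (sm gh) Qf (tab Gen.h) 1152 [(1152, 1152), (1153, 1153), (1154, 1603), (1155, 1155), (1156, 1156), (1157, 1157), (1158, 1158), (1159, 851), (1160, 852), (1161, 853), (1162, 1162), (1163, 1163), (1164, 1164), (1165, 854), (1166, 855), (1167, 1623), (1168, 857), (1169, 858), (1170, 1170), (1171, 1171), (1172, 1630), (1173, 1173), (1174, 1174), (1175, 859), (1176, 1637), (1177, 861), (1178, 1641), (1179, 837), (1180, 864), (1181, 865), (1182, 1182), (1183, 1648), (1184, 1184), (1185, 1652), (1186, 842), (1187, 1187), (1188, 1188), (1189, 1189), (1190, 866), (1191, 1191), (1192, 1192), (1193, 867), (1194, 1194), (1195, 1195), (1196, 868), (1197, 1609), (1198, 1610), (1199, 1667), (1200, 1612), (1201, 1613), (1202, 1619), (1203, 1674), (1204, 1621), (1205, 1678), (1206, 856), (1207, 1624), (1208, 1625), (1209, 1595), (1210, 1634), (1211, 1685), (1212, 1687), (1213, 860), (1214, 1638), (1215, 1690)]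
    ⟨e3 q1152 L10587 q1152, e3 q1153 L10595 q1153, e3 q1154 L15172 q1603, e3 q1155 L10611 q1155, e3 q1156 L10620 q1156, e3 q1157 L10629 q1157, e3 q1158 L10640 q1158, e3 q1159 L10650 q851, e3 q1160 L10661 q852, e3 q1161 L10669 q853, e3 q1162 L10678 q1162, e3 q1163 L10689 q1163, e3 q1164 L10696 q1164, e3 q1165 L10706 q854, e3 q1166 L10716 q855, e3 q1167 L15356 q1623, e3 q1168 L10731 q857, e3 q1169 L10739 q858, e3 q1170 L10749 q1170, e3 q1171 L10759 q1171, e3 q1172 L15422 q1630, e3 q1173 L10777 q1173, e3 q1174 L10788 q1174, e3 q1175 L10798 q859, e3 q1176 L15480 q1637, e3 q1177 L10811 q861, e3 q1178 L15510 q1641, e3 q1179 (flp_h L10822) q837, e3 q1180 L10838 q864, e3 q1181 L10846 q865, e3 q1182 L10857 q1182, e3 q1183 L15576 q1648, e3 q1184 L10874 q1184, e3 q1185 L15612 q1652, e3 q1186 (flp_h L10887) q842, e3 q1187 L10903 q1187, e3 q1188 L10913 q1188, e3 q1189 L10926 q1189, e3 q1190 L10934 q866, e3 q1191 L10941 q1191, e3 q1192 L10950 q1192, e3 q1193 L10955 q867, e3 q1194 L10964 q1194, e3 q1195 L10973 q1195, e3 q1196 L10982 q868,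 e3 q1197 (flp_h L15237) q1609, e3 q1198 (flp_h L15248) q1610, e3 q1199 L15746 q1667, e3 q1200 (flp_h L15266) q1612, e3 q1201 (flp_h L15274) q1613, e3 q1202 (flp_h L15334) q1619, e3 q1203 L15809 q1674, e3 q1204 (flp_h L15347) q1621, e3 q1205 L15844 q1678, e3 q1206 (flp_h L11065) q856, e3 q1207 (flp_h L15372) q1624, e3 q1208 (flp_h L15383) q1625, e3 q1209 L559431 q1595, e3 q1210 (flp_h L15465) q1634, e3 q1211 L15916 q1685, e3 q1212 L15932 q1687, e3 q1213 (flp_h L11129) q860, e3 q1214 (flp_h L15494) q1638, e3 q1215 L15966 q1690, trivial⟩ (by decide +kernel)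

theorem ce_h_19 : ∀ r, r < 64 → sm gh (Qf (1216 + r)) = Qf (tab Gen.h (1216 + r)) :=
  edges_tab (sm gh) Qf (tab Gen.h) 1216 [(1216, 862), (1217, 1217), (1218, 1643), (1219, 1656), (1220, 1660), (1221, 1221), (1222, 1697), (1223, 1223), (1224, 1701), (1225, 871), (1226, 1226), (1227, 1586), (1228, 1228), (1229, 1706), (1230, 1708), (1231, 875), (1232, 1709), (1233, 877), (1234, 1234), (1235, 1464), (1236, 880), (1237, 1237), (1238, 1238), (1239, 1717), (1240, 884), (1241, 1241), (1242, 1242), (1243, 1243), (1244, 992), (1245, 1724), (1246, 888), (1247, 1725), (1248, 1248), (1249, 1249), (1250, 1250), (1251, 1732), (1252, 998), (1253, 894), (1254, 896), (1255, 987), (1256, 1735), (1257, 1257), (1258, 1258), (1259, 1259), (1260, 902), (1261, 980), (1262, 1742), (1263, 1263), (1264, 1264), (1265, 1265), (1266, 907), (1267, 964), (1268, 1749), (1269, 1269), (1270, 1756), (1271, 1271), (1272, 1272), (1273, 913), (1274, 937), (1275, 972), (1276, 1759), (1277, 1765), (1278, 1278), (1279, 1769)]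
    ⟨e3 q1216 (flp_h L11152) q862, e3 q1217 L11169 q1217, e3 q1218 (flp_h L15535) q1643, e3 q1219 (flp_h L15657) q1656, e3 q1220 (flp_h L15687) q1660, e3 q1221 L11207 q1221, e3 q1222 L16033 q1697, e3 q1223 L11224 q1223, e3 q1224 L16070 q1701, e3 q1225 (flp_h L11237) q871, e3 q1226 L11253 q1226, e3 q1227 L593255 q1586, e3 q1228 L11273 q1228, e3 q1229 L16125 q1706, e3 q1230 L16139 q1708, e3 q1231 (flp_h L11292) q875, e3 q1232 L16155 q1709, e3 q1233 (flp_h L11307) q877, e3 q1234 L11324 q1234, e3 q1235 (flp_h L593292) q1464, e3 q1236 (flp_h L11342) q880, e3 q1237 L11363 q1237, e3 q1238 L11371 q1238, e3 q1239 L16259 q1717, e3 q1240 (flp_h L11382) q884, e3 q1241 L11400 q1241, e3 q1242 L11408 q1242, e3 q1243 L11417 q1243, e3 q1244 L487833 q992, e3 q1245 L16338 q1724, e3 q1246 (flp_h L11437) q888, e3 q1247 (flp_h L16355) q1725, e3 q1248 L11460 q1248, e3 q1249 L11467 q1249, e3 q1250 L11476 q1250, e3 q1251 L16427 q1732, e3 q1252 (flp_h L572508) q998, e3 q1253 (flp_h L11510) q894, e3 q1254 L11525 q896, e3 q1255 L583115 q987, e3 q1256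 (flp_h L16477) q1735, e3 q1257 L11548 q1257, e3 q1258 L11555 q1258, e3 q1259 L11560 q1259, e3 q1260 L11590 q902, e3 q1261 L487676 q980, e3 q1262 (flp_h L16571) q1742, e3 q1263 L11616 q1263, e3 q1264 L11625 q1264, e3 q1265 L11633 q1265, e3 q1266 L11662 q907, e3 q1267 L598161 q964, e3 q1268 (flp_h L16686) q1749, e3 q1269 L11703 q1269, e3 q1270 L16757 q1756, e3 q1271 L11715 q1271, e3 q1272 L11721 q1272, e3 q1273 L11768 q913, e3 q1274 L598197 q937, e3 q1275 (flp_h L559388) q972, e3 q1276 (flp_h L16855) q1759, e3 q1277 L16942 q1765, e3 q1278 L11831 q1278, e3 q1279 L16969 q1769, trivial⟩ (by decide +kernel)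

theorem ce_h_20 : ∀ r, r < 64 → sm gh (Qf (1280 + r)) = Qf (tab Gen.h (1280 + r)) :=
  edges_tab (sm gh) Qf (tab Gen.h) 1280 [(1280, 915), (1281, 1281), (1282, 1282), (1283, 1283), (1284, 1284), (1285, 1285), (1286, 958), (1287, 959), (1288, 1780), (1289, 961), (1290, 962), (1291, 1291), (1292, 1292), (1293, 1787), (1294, 1294), (1295, 1295), (1296, 963), (1297, 1750), (1298, 965), (1299, 1796), (1300, 928), (1301, 968), (1302, 969), (1303, 1303), (1304, 1763), (1305, 1305), (1306, 1804), (1307, 933), (1308, 1308), (1309, 1309), (1310, 1596), (1311, 971), (1312, 1760), (1313, 973), (1314, 1812), (1315, 1814), (1316, 939), (1317, 976), (1318, 1817), (1319, 1319), (1320, 1820), (1321, 1823), (1322, 944), (1323, 1323), (1324, 1826), (1325, 1828), (1326, 946), (1327, 1327), (1328, 1328), (1329, 1329), (1330, 977), (1331, 1331), (1332, 1332), (1333, 1333), (1334, 978), (1335, 1335), (1336, 1336), (1337, 1776), (1338, 1743), (1339, 1778), (1340, 1846), (1341, 960), (1342, 1781), (1343, 1782)]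
    ⟨e3 q1280 (flp_h L11840) q915, e3 q1281 L11852 q1281, e3 q1282 L11859 q1282, e3 q1283 L11868 q1283, e3 q1284 L11879 q1284, e3 q1285 L11887 q1285, e3 q1286 L11899 q958, e3 q1287 L11909 q959, e3 q1288 L17073 q1780, e3 q1289 L11923 q961, e3 q1290 L11930 q962, e3 q1291 L11940 q1291, e3 q1292 L11950 q1292, e3 q1293 L17132 q1787, e3 q1294 L11964 q1294, e3 q1295 L11972 q1295, e3 q1296 L11984 q963, e3 q1297 (flp_h L598178) q1750, e3 q1298 L11998 q965, e3 q1299 L17213 q1796, e3 q1300 (flp_h L12005) q928, e3 q1301 L12017 q968, e3 q1302 L12027 q969, e3 q1303 L12035 q1303, e3 q1304 (flp_h L589592) q1763, e3 q1305 L12052 q1305, e3 q1306 L17301 q1804, e3 q1307 (flp_h L12064) q933, e3 q1308 L12075 q1308, e3 q1309 L12083 q1309, e3 q1310 L589651 q1596, e3 q1311 L12099 q971, e3 q1312 L598367 q1760, e3 q1313 L12130 q973, e3 q1314 L17414 q1812, e3 q1315 L17426 q1814, e3 q1316 (flp_h L12142) q939, e3 q1317 L12161 q976, e3 q1318 L17458 q1817, e3 q1319 L12179 q1319, e3 q1320 L17485 q1820, e3 q1321 L17511 q1823, e3 q1322 (flp_h L12200) q944,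 e3 q1323 L12214 q1323, e3 q1324 L17537 q1826, e3 q1325 L17554 q1828, e3 q1326 (flp_h L12233) q946, e3 q1327 L12246 q1327, e3 q1328 L12257 q1328, e3 q1329 L12266 q1329, e3 q1330 L12272 q977, e3 q1331 L12282 q1331, e3 q1332 L12288 q1332, e3 q1333 L12296 q1333, e3 q1334 L12304 q978, e3 q1335 L12312 q1335, e3 q1336 L12319 q1336, e3 q1337 (flp_h L17047) q1776, e3 q1338 (flp_h L583303) q1743, e3 q1339 (flp_h L17064) q1778, e3 q1340 L17719 q1846, e3 q1341 (flp_h L12357) q960, e3 q1342 (flp_h L17086) q1781, e3 q1343 (flp_h L17094) q1782, trivial⟩ (by decide +kernel)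

theorem ce_h_21 : ∀ r, r < 64 → sm gh (Qf (1344 + r)) = Qf (tab Gen.h (1344 + r)) :=
  edges_tab (sm gh) Qf (tab Gen.h) 1344 [(1344, 1587), (1345, 1791), (1346, 1751), (1347, 1793), (1348, 1854), (1349, 1856), (1350, 966), (1351, 1797), (1352, 1597), (1353, 1807), (1354, 1761), (1355, 1810), (1356, 1860), (1357, 974), (1358, 1833), (1359, 1580), (1360, 1360), (1361, 1726), (1362, 1362), (1363, 1866), (1364, 1867), (1365, 982), (1366, 1574), (1367, 1736), (1368, 988), (1369, 1564), (1370, 1370), (1371, 1723), (1372, 1714), (1373, 1874), (1374, 994), (1375, 995), (1376, 1571), (1377, 1377), (1378, 1378), (1379, 1879), (1380, 1380), (1381, 1881), (1382, 1002), (1383, 1003), (1384, 1014), (1385, 1016), (1386, 1017), (1387, 1006), (1388, 1890), (1389, 1891), (1390, 1008), (1391, 1009), (1392, 1882), (1393, 1011), (1394, 1883), (1395, 1395), (1396, 1884), (1397, 1885), (1398, 1398), (1399, 1399), (1400, 1886), (1401, 1887), (1402, 1888), (1403, 1018), (1404, 1912), (1405, 1405), (1406, 1406), (1407, 1022)]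
    ⟨e3 q1344 (flp_h L589512) q1587, e3 q1345 (flp_h L17169) q1791, e3 q1346 (flp_h L583549) q1751, e3 q1347 (flp_h L17199) q1793, e3 q1348 L17843 q1854, e3 q1349 L17858 q1856, e3 q1350 (flp_h L12445) q966, e3 q1351 (flp_h L17233) q1797, e3 q1352 L559448 q1597, e3 q1353 (flp_h L17353) q1807, e3 q1354 (flp_h L583507) q1761, e3 q1355 (flp_h L17405) q1810, e3 q1356 L17987 q1860, e3 q1357 (flp_h L12557) q974, e3 q1358 (flp_h L17600) q1833, e3 q1359 (flp_h L571957) q1580, e3 q1360 L12596 q1360, e3 q1361 L597633 q1726, e3 q1362 L12632 q1362, e3 q1363 L18100 q1866, e3 q1364 L18107 q1867, e3 q1365 (flp_h L12651) q982, e3 q1366 (flp_h L479148) q1574, e3 q1367 (flp_h L597545) q1736, e3 q1368 (flp_h L12730) q988, e3 q1369 (flp_h L572541) q1564, e3 q1370 L12819 q1370, e3 q1371 (flp_h L572554) q1723, e3 q1372 L572062 q1714, e3 q1373 L18430 q1874, e3 q1374 (flp_h L12886) q994, e3 q1375 (flp_h L12895) q995, e3 q1376 (flp_h L572536) q1571, e3 q1377 L13021 q1377, e3 q1378 L13080 q1378, e3 q1379 L18694 q1879, e3 q1380 L13098 q1380, e3 q1381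 L18715 q1881, e3 q1382 (flp_h L13112) q1002, e3 q1383 (flp_h L13121) q1003, e3 q1384 L13138 q1014, e3 q1385 L13145 q1016, e3 q1386 L13154 q1017, e3 q1387 (flp_h L13158) q1006, e3 q1388 L18804 q1890, e3 q1389 L18815 q1891, e3 q1390 (flp_h L13193) q1008, e3 q1391 (flp_h L13204) q1009, e3 q1392 (flp_h L18733) q1882, e3 q1393 (flp_h L13223) q1011, e3 q1394 (flp_h L18743) q1883, e3 q1395 L13251 q1395, e3 q1396 (flp_h L18750) q1884, e3 q1397 (flp_h L18760) q1885, e3 q1398 L13272 q1398, e3 q1399 L13282 q1399, e3 q1400 (flp_h L18769) q1886, e3 q1401 (flp_h L18779) q1887, e3 q1402 (flp_h L18788) q1888, e3 q1403 (flp_h L13308) q1018, e3 q1404 (flp_h L19003) q1912, e3 q1405 L13336 q1405, e3 q1406 L13346 q1406, e3 q1407 L13355 q1022, trivial⟩ (by decide +kernel)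

theorem ce_h_22 : ∀ r, r < 64 → sm gh (Qf (1408 + r)) = Qf (tab Gen.h (1408 + r)) :=
  edges_tab (sm gh) Qf (tab Gen.h) 1408 [(1408, 1918), (1409, 1919), (1410, 1410), (1411, 1411), (1412, 1412), (1413, 1026), (1414, 1027), (1415, 1928), (1416, 1929), (1417, 1930), (1418, 1418), (1419, 1419), (1420, 1940), (1421, 1421), (1422, 1422), (1423, 1423), (1424, 1424), (1425, 1034), (1426, 1035), (1427, 1036), (1428, 1946), (1429, 1947), (1430, 1955), (1431, 1949), (1432, 1950), (1433, 1433), (1434, 1962), (1435, 1435), (1436, 1966), (1437, 1039), (1438, 1438), (1439, 1439), (1440, 1440), (1441, 1971), (1442, 1043), (1443, 1443), (1444, 1974), (1445, 1045), (1446, 1446), (1447, 1978), (1448, 1048), (1449, 1979), (1450, 1450), (1451, 1451), (1452, 1051), (1453, 1985), (1454, 1454), (1455, 1455), (1456, 1055), (1457, 1991), (1458, 1992), (1459, 1459), (1460, 1460), (1461, 1461), (1462, 1059), (1463, 1060), (1464, 1235), (1465, 2001), (1466, 2002), (1467, 1467), (1468, 1468), (1469, 2011), (1470, 1470), (1471, 1471)]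
    ⟨e3 q1408 (flp_h L19058) q1918, e3 q1409 (flp_h L19068) q1919, e3 q1410 L13382 q1410, e3 q1411 L13391 q1411, e3 q1412 L13396 q1412, e3 q1413 L13404 q1026, e3 q1414 L13413 q1027, e3 q1415 (flp_h L19144) q1928, e3 q1416 (flp_h L19154) q1929, e3 q1417 (flp_h L19163) q1930, e3 q1418 L13452 q1418, e3 q1419 L13460 q1419, e3 q1420 L19243 q1940, e3 q1421 L13473 q1421, e3 q1422 L13482 q1422, e3 q1423 L13489 q1423, e3 q1424 L13498 q1424, e3 q1425 L13507 q1034, e3 q1426 L13518 q1035, e3 q1427 L13526 q1036, e3 q1428 (flp_h L19300) q1946, e3 q1429 (flp_h L19311) q1947, e3 q1430 L19375 q1955, e3 q1431 (flp_h L19327) q1949, e3 q1432 (flp_h L19334) q1950, e3 q1433 L13582 q1433, e3 q1434 L19432 q1962, e3 q1435 L13597 q1435, e3 q1436 L19462 q1966, e3 q1437 (flp_h L13605) q1039, e3 q1438 L13619 q1438, e3 q1439 L13627 q1439, e3 q1440 L13639 q1440, e3 q1441 L19510 q1971, e3 q1442 (flp_h L13650) q1043, e3 q1443 L13668 q1443, e3 q1444 L19544 q1974, e3 q1445 (flp_h L13683) q1045, e3 q1446 L13704 q1446, e3 q1447 L19583 q1978, e3 q1448 (flp_h L13716)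 q1048, e3 q1449 (flp_h L19603) q1979, e3 q1450 L13742 q1450, e3 q1451 L13749 q1451, e3 q1452 (flp_h L13751) q1051, e3 q1453 (flp_h L19655) q1985, e3 q1454 L13778 q1454, e3 q1455 L13787 q1455, e3 q1456 L13798 q1055, e3 q1457 (flp_h L19709) q1991, e3 q1458 (flp_h L19720) q1992, e3 q1459 L13822 q1459, e3 q1460 L13832 q1460, e3 q1461 L13840 q1461, e3 q1462 L13846 q1059, e3 q1463 L13856 q1060, e3 q1464 L593292 q1235, e3 q1465 (flp_h L19806) q2001, e3 q1466 (flp_h L19816) q2002, e3 q1467 L13893 q1467, e3 q1468 L13902 q1468, e3 q1469 L19896 q2011, e3 q1470 L13915 q1470, e3 q1471 L13925 q1471, trivial⟩ (by decide +kernel)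

theorem ce_h_23 : ∀ r, r < 64 → sm gh (Qf (1472 + r)) = Qf (tab Gen.h (1472 + r)) :=
  edges_tab (sm gh) Qf (tab Gen.h) 1472 [(1472, 1472), (1473, 1473), (1474, 1092), (1475, 1093), (1476, 1094), (1477, 1477), (1478, 1478), (1479, 1479), (1480, 1095), (1481, 1096), (1482, 2031), (1483, 1098), (1484, 1099), (1485, 1485), (1486, 1486), (1487, 2038), (1488, 1488), (1489, 1489), (1490, 1100), (1491, 2045), (1492, 1102), (1493, 2049), (1494, 1077), (1495, 1105), (1496, 1106), (1497, 1497), (1498, 2056), (1499, 1499), (1500, 2060), (1501, 1082), (1502, 1502), (1503, 1503), (1504, 2065), (1505, 1108), (1506, 2068), (1507, 2071), (1508, 1086), (1509, 1111), (1510, 2075), (1511, 2077), (1512, 1088), (1513, 2061), (1514, 1116), (1515, 2017), (1516, 2018), (1517, 2083), (1518, 2020), (1519, 2021), (1520, 2027), (1521, 2090), (1522, 2029), (1523, 2094), (1524, 1097), (1525, 2032), (1526, 2033), (1527, 2099), (1528, 2042), (1529, 2102), (1530, 2105), (1531, 1101), (1532, 2046), (1533, 2109), (1534, 2111), (1535, 1103)]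
    ⟨e3 q1472 L13933 q1472, e3 q1473 L13944 q1473, e3 q1474 L13953 q1092, e3 q1475 L13965 q1093, e3 q1476 L13974 q1094, e3 q1477 L13982 q1477, e3 q1478 L13994 q1478, e3 q1479 L14002 q1479, e3 q1480 L14013 q1095, e3 q1481 L14024 q1096, e3 q1482 L20080 q2031, e3 q1483 L14036 q1098, e3 q1484 L14045 q1099, e3 q1485 L14056 q1485, e3 q1486 L14067 q1486, e3 q1487 L20145 q2038, e3 q1488 L14082 q1488, e3 q1489 L14094 q1489, e3 q1490 L14105 q1100, e3 q1491 L20201 q2045, e3 q1492 L14119 q1102, e3 q1493 L20229 q2049, e3 q1494 (flp_h L14129) q1077, e3 q1495 L14142 q1105, e3 q1496 L14151 q1106, e3 q1497 L14163 q1497, e3 q1498 L20291 q2056, e3 q1499 L14181 q1499, e3 q1500 L20324 q2060, e3 q1501 (flp_h L14193) q1082, e3 q1502 L14205 q1502, e3 q1503 L14216 q1503, e3 q1504 L20367 q2065, e3 q1505 L14235 q1108, e3 q1506 L20394 q2068, e3 q1507 L20414 q2071, e3 q1508 (flp_h L14251) q1086, e3 q1509 L14265 q1111, e3 q1510 L20447 q2075, e3 q1511 L20462 q2077, e3 q1512 (flp_h L14280) q1088, e3 q1513 (flp_h L20339) q2061, e3 q1514 L14303 q1116, e3 q1515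 (flp_h L19961) q2017, e3 q1516 (flp_h L19973) q2018, e3 q1517 L20519 q2083, e3 q1518 (flp_h L19988) q2020, e3 q1519 (flp_h L19997) q2021, e3 q1520 (flp_h L20058) q2027, e3 q1521 L20580 q2090, e3 q1522 (flp_h L20072) q2029, e3 q1523 L20613 q2094, e3 q1524 (flp_h L14387) q1097, e3 q1525 (flp_h L20093) q2032, e3 q1526 (flp_h L20105) q2033, e3 q1527 L20654 q2099, e3 q1528 (flp_h L20185) q2042, e3 q1529 L20680 q2102, e3 q1530 L20703 q2105, e3 q1531 (flp_h L14448) q1101, e3 q1532 (flp_h L20216) q2046, e3 q1533 L20736 q2109, e3 q1534 L20752 q2111, e3 q1535 (flp_h L14479) q1103, trivial⟩ (by decide +kernel)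

theorem ce_h_24 : ∀ r, r < 64 → sm gh (Qf (1536 + r)) = Qf (tab Gen.h (1536 + r)) :=
  edges_tab (sm gh) Qf (tab Gen.h) 1536 [(1536, 1536), (1537, 2051), (1538, 2115), (1539, 1107), (1540, 2066), (1541, 2119), (1542, 2121), (1543, 1109), (1544, 1544), (1545, 2073), (1546, 2125), (1547, 1112), (1548, 2128), (1549, 1113), (1550, 1550), (1551, 2131), (1552, 2132), (1553, 1117), (1554, 1554), (1555, 1555), (1556, 1119), (1557, 1557), (1558, 1558), (1559, 1559), (1560, 2142), (1561, 1123), (1562, 1562), (1563, 1563), (1564, 1369), (1565, 2148), (1566, 1127), (1567, 2149), (1568, 1568), (1569, 1569), (1570, 2155), (1571, 1376), (1572, 1132), (1573, 1134), (1574, 1366), (1575, 2158), (1576, 1576), (1577, 1577), (1578, 1578), (1579, 1139), (1580, 1359), (1581, 2167), (1582, 1582), (1583, 1583), (1584, 1584), (1585, 1144), (1586, 1227), (1587, 1344), (1588, 2176), (1589, 1589), (1590, 1590), (1591, 2185), (1592, 1592), (1593, 1593), (1594, 1151), (1595, 1209), (1596, 1310), (1597, 1352), (1598, 2188), (1599, 1599)]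
    ⟨e3 q1536 L14492 q1536, e3 q1537 (flp_h L20250) q2051, e3 q1538 L20785 q2115, e3 q1539 (flp_h L14512) q1107, e3 q1540 (flp_h L20383) q2066, e3 q1541 L20822 q2119, e3 q1542 L20841 q2121, e3 q1543 (flp_h L14547) q1109, e3 q1544 L14563 q1544, e3 q1545 (flp_h L20438) q2073, e3 q1546 L20875 q2125, e3 q1547 (flp_h L14581) q1112, e3 q1548 L20899 q2128, e3 q1549 (flp_h L14600) q1113, e3 q1550 L14616 q1550, e3 q1551 L20926 q2131, e3 q1552 L20934 q2132, e3 q1553 (flp_h L14634) q1117, e3 q1554 L14649 q1554, e3 q1555 L14658 q1555, e3 q1556 (flp_h L14659) q1119, e3 q1557 L14676 q1557, e3 q1558 L14685 q1558, e3 q1559 L14695 q1559, e3 q1560 L21028 q2142, e3 q1561 (flp_h L14707) q1123, e3 q1562 L14727 q1562, e3 q1563 L14737 q1563, e3 q1564 L572541 q1369, e3 q1565 L21100 q2148, e3 q1566 (flp_h L14761) q1127, e3 q1567 (flp_h L21119) q2149, e3 q1568 L14788 q1568, e3 q1569 L14796 q1569, e3 q1570 L21168 q2155, e3 q1571 L572536 q1376, e3 q1572 (flp_h L14829) q1132, e3 q1573 L14846 q1134, e3 q1574 L479148 q1366, e3 q1575 (flp_h L21234) q2158,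 e3 q1576 L14872 q1576, e3 q1577 L14880 q1577, e3 q1578 L14886 q1578, e3 q1579 L14909 q1139, e3 q1580 L571957 q1359, e3 q1581 (flp_h L21330) q2167, e3 q1582 L14938 q1582, e3 q1583 L14948 q1583, e3 q1584 L14957 q1584, e3 q1585 L14982 q1144, e3 q1586 (flp_h L593255) q1227, e3 q1587 L589512 q1344, e3 q1588 (flp_h L21450) q2176, e3 q1589 L15016 q1589, e3 q1590 L15025 q1590, e3 q1591 L21528 q2185, e3 q1592 L15041 q1592, e3 q1593 L15048 q1593, e3 q1594 L15093 q1151, e3 q1595 (flp_h L559431) q1209, e3 q1596 (flp_h L589651) q1310, e3 q1597 (flp_h L559448) q1352, e3 q1598 (flp_h L21625) q2188, e3 q1599 L15149 q1599, trivial⟩ (by decide +kernel)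

theorem ce_h_25 : ∀ r, r < 64 → sm gh (Qf (1600 + r)) = Qf (tab Gen.h (1600 + r)) :=
  edges_tab (sm gh) Qf (tab Gen.h) 1600 [(1600, 2198), (1601, 1601), (1602, 2202), (1603, 1154), (1604, 1604), (1605, 1605), (1606, 1606), (1607, 1607), (1608, 1608), (1609, 1197), (1610, 1198), (1611, 2214), (1612, 1200), (1613, 1201), (1614, 1614), (1615, 1615), (1616, 2221), (1617, 1617), (1618, 1618), (1619, 1202), (1620, 2228), (1621, 1204), (1622, 2232), (1623, 1167), (1624, 1207), (1625, 1208), (1626, 1626), (1627, 2239), (1628, 1628), (1629, 2243), (1630, 1172), (1631, 1631), (1632, 1632), (1633, 2189), (1634, 1210), (1635, 2250), (1636, 2253), (1637, 1176), (1638, 1214), (1639, 2256), (1640, 2258), (1641, 1178), (1642, 2244), (1643, 1218), (1644, 2262), (1645, 1645), (1646, 2265), (1647, 2268), (1648, 1183), (1649, 1649), (1650, 2271), (1651, 2273), (1652, 1185), (1653, 1653), (1654, 1654), (1655, 1655), (1656, 1219), (1657, 1657), (1658, 1658), (1659, 1659), (1660, 1220), (1661, 1661), (1662, 1662), (1663, 2210)]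
    ⟨e3 q1600 L21721 q2198, e3 q1601 L15161 q1601, e3 q1602 L21751 q2202, e3 q1603 (flp_h L15172) q1154, e3 q1604 L15188 q1604, e3 q1605 L15196 q1605, e3 q1606 L15205 q1606, e3 q1607 L15217 q1607, e3 q1608 L15226 q1608, e3 q1609 L15237 q1197, e3 q1610 L15248 q1198, e3 q1611 L21868 q2214, e3 q1612 L15266 q1200, e3 q1613 L15274 q1201, e3 q1614 L15283 q1614, e3 q1615 L15294 q1615, e3 q1616 L21934 q2221, e3 q1617 L15312 q1617, e3 q1618 L15321 q1618, e3 q1619 L15334 q1202, e3 q1620 L21993 q2228, e3 q1621 L15347 q1204, e3 q1622 L22025 q2232, e3 q1623 (flp_h L15356) q1167, e3 q1624 L15372 q1207, e3 q1625 L15383 q1208, e3 q1626 L15392 q1626, e3 q1627 L22090 q2239, e3 q1628 L15408 q1628, e3 q1629 L22124 q2243, e3 q1630 (flp_h L15422) q1172, e3 q1631 L15437 q1631, e3 q1632 L15446 q1632, e3 q1633 (flp_h L589537) q2189, e3 q1634 L15465 q1210, e3 q1635 L22193 q2250, e3 q1636 L22213 q2253, e3 q1637 (flp_h L15480) q1176, e3 q1638 L15494 q1214, e3 q1639 L22247 q2256, e3 q1640 L22263 q2258, e3 q1641 (flp_h L15510) q1178, e3 q1642 (flp_h L22139)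 q2244, e3 q1643 L15535 q1218, e3 q1644 L22300 q2262, e3 q1645 L15556 q1645, e3 q1646 L22329 q2265, e3 q1647 L22355 q2268, e3 q1648 (flp_h L15576) q1183, e3 q1649 L15589 q1649, e3 q1650 L22382 q2271, e3 q1651 L22403 q2273, e3 q1652 (flp_h L15612) q1185, e3 q1653 L15629 q1653, e3 q1654 L15640 q1654, e3 q1655 L15650 q1655, e3 q1656 L15657 q1219, e3 q1657 L15666 q1657, e3 q1658 L15672 q1658, e3 q1659 L15680 q1659, e3 q1660 L15687 q1220, e3 q1661 L15697 q1661, e3 q1662 L15706 q1662, e3 q1663 (flp_h L21841) q2210, trivial⟩ (by decide +kernel)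

theorem ce_h_26 : ∀ r, r < 64 → sm gh (Qf (1664 + r)) = Qf (tab Gen.h (1664 + r)) :=
  edges_tab (sm gh) Qf (tab Gen.h) 1664 [(1664, 2289), (1665, 2212), (1666, 2293), (1667, 1199), (1668, 2215), (1669, 2216), (1670, 2177), (1671, 2225), (1672, 2300), (1673, 2303), (1674, 1203), (1675, 2229), (1676, 2306), (1677, 2308), (1678, 1205), (1679, 1679), (1680, 2234), (1681, 2003), (1682, 2190), (1683, 2248), (1684, 2314), (1685, 1211), (1686, 2317), (1687, 1212), (1688, 2254), (1689, 2318), (1690, 1215), (1691, 1691), (1692, 2278), (1693, 2168), (1694, 1694), (1695, 2324), (1696, 2327), (1697, 1222), (1698, 1698), (1699, 2329), (1700, 2330), (1701, 1224), (1702, 1702), (1703, 1993), (1704, 2159), (1705, 2335), (1706, 1229), (1707, 2337), (1708, 1230), (1709, 1232), (1710, 1710), (1711, 1711), (1712, 1712), (1713, 1713), (1714, 1372), (1715, 1715), (1716, 2346), (1717, 1239), (1718, 2347), (1719, 1719), (1720, 1720), (1721, 1721), (1722, 2354), (1723, 1371), (1724, 1245), (1725, 1247), (1726, 1361), (1727, 2357)]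
    ⟨e3 q1664 L22547 q2289, e3 q1665 (flp_h L21857) q2212, e3 q1666 L22583 q2293, e3 q1667 (flp_h L15746) q1199, e3 q1668 (flp_h L21885) q2215, e3 q1669 (flp_h L21894) q2216, e3 q1670 L594192 q2177, e3 q1671 (flp_h L21979) q2225, e3 q1672 L22658 q2300, e3 q1673 L22684 q2303, e3 q1674 (flp_h L15809) q1203, e3 q1675 (flp_h L22007) q2229, e3 q1676 L22717 q2306, e3 q1677 L22736 q2308, e3 q1678 (flp_h L15844) q1205, e3 q1679 L15860 q1679, e3 q1680 (flp_h L22051) q2234, e3 q1681 (flp_h L592268) q2003, e3 q1682 (flp_h L492802) q2190, e3 q1683 (flp_h L22186) q2248, e3 q1684 L22827 q2314, e3 q1685 (flp_h L15916) q1211, e3 q1686 L22858 q2317, e3 q1687 (flp_h L15932) q1212, e3 q1688 (flp_h L22236) q2254, e3 q1689 L22874 q2318, e3 q1690 (flp_h L15966) q1215, e3 q1691 L15983 q1691, e3 q1692 (flp_h L22456) q2278, e3 q1693 L594219 q2168, e3 q1694 L16013 q1694, e3 q1695 L22943 q2324, e3 q1696 L22968 q2327, e3 q1697 (flp_h L16033) q1222, e3 q1698 L16047 q1698, e3 q1699 L22996 q2329, e3 q1700 L23005 q2330, e3 q1701 (flp_h L16070) q1224, e3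 q1702 L16089 q1702, e3 q1703 (flp_h L453729) q1993, e3 q1704 (flp_h L594381) q2159, e3 q1705 L23088 q2335, e3 q1706 (flp_h L16125) q1229, e3 q1707 L23111 q2337, e3 q1708 (flp_h L16139) q1230, e3 q1709 (flp_h L16155) q1232, e3 q1710 L16172 q1710, e3 q1711 L16206 q1711, e3 q1712 L16222 q1712, e3 q1713 L16232 q1713, e3 q1714 (flp_h L572062) q1372, e3 q1715 L16247 q1715, e3 q1716 L23246 q2346, e3 q1717 (flp_h L16259) q1239, e3 q1718 (flp_h L23263) q2347, e3 q1719 L16282 q1719, e3 q1720 L16290 q1720, e3 q1721 L16300 q1721, e3 q1722 L23338 q2354, e3 q1723 L572554 q1371, e3 q1724 (flp_h L16338) q1245, e3 q1725 L16355 q1247, e3 q1726 (flp_h L597633) q1361, e3 q1727 (flp_h L23395) q2357, trivial⟩ (by decide +kernel)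

theorem ce_h_27 : ∀ r, r < 64 → sm gh (Qf (1728 + r)) = Qf (tab Gen.h (1728 + r)) :=
  edges_tab (sm gh) Qf (tab Gen.h) 1728 [(1728, 1728), (1729, 1729), (1730, 1730), (1731, 2365), (1732, 1251), (1733, 1733), (1734, 1734), (1735, 1256), (1736, 1367), (1737, 2367), (1738, 1738), (1739, 2374), (1740, 1740), (1741, 1741), (1742, 1262), (1743, 1338), (1744, 2377), (1745, 1745), (1746, 2384), (1747, 1747), (1748, 1748), (1749, 1268), (1750, 1297), (1751, 1346), (1752, 2387), (1753, 2393), (1754, 1754), (1755, 2397), (1756, 1270), (1757, 1757), (1758, 1758), (1759, 1276), (1760, 1312), (1761, 1354), (1762, 2399), (1763, 1304), (1764, 2406), (1765, 1277), (1766, 1766), (1767, 2409), (1768, 2411), (1769, 1279), (1770, 1770), (1771, 1771), (1772, 1772), (1773, 2416), (1774, 1774), (1775, 1775), (1776, 1337), (1777, 2378), (1778, 1339), (1779, 2425), (1780, 1288), (1781, 1342), (1782, 1343), (1783, 1783), (1784, 2391), (1785, 1785), (1786, 2433), (1787, 1293), (1788, 1788), (1789, 1789), (1790, 2178), (1791, 1345)]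
    ⟨e3 q1728 L16381 q1728, e3 q1729 L16389 q1729, e3 q1730 L16396 q1730, e3 q1731 L23473 q2365, e3 q1732 (flp_h L16427) q1251, e3 q1733 L434250 q1733, e3 q1734 L16464 q1734, e3 q1735 L16477 q1256, e3 q1736 L597545 q1367, e3 q1737 (flp_h L23579) q2367, e3 q1738 L16518 q1738, e3 q1739 L23651 q2374, e3 q1740 L16528 q1740, e3 q1741 L16537 q1741, e3 q1742 L16571 q1262, e3 q1743 L583303 q1338, e3 q1744 (flp_h L23725) q2377, e3 q1745 L16618 q1745, e3 q1746 L23806 q2384, e3 q1747 L16633 q1747, e3 q1748 L16639 q1748, e3 q1749 L16686 q1268, e3 q1750 L598178 q1297, e3 q1751 L583549 q1346, e3 q1752 (flp_h L23904) q2387, e3 q1753 L23993 q2393, e3 q1754 L16750 q1754, e3 q1755 L24022 q2397, e3 q1756 (flp_h L16757) q1270, e3 q1757 L16769 q1757, e3 q1758 L16779 q1758, e3 q1759 L16855 q1276, e3 q1760 (flp_h L598367) q1312, e3 q1761 L583507 q1354, e3 q1762 (flp_h L24158) q2399, e3 q1763 L589592 q1304, e3 q1764 L24308 q2406, e3 q1765 (flp_h L16942) q1277, e3 q1766 L16955 q1766, e3 q1767 L24338 q2409, e3 q1768 L24353 q2411, e3 q1769 (flp_h L16969)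 q1279, e3 q1770 L16989 q1770, e3 q1771 L16999 q1771, e3 q1772 L17010 q1772, e3 q1773 L24408 q2416, e3 q1774 L17027 q1774, e3 q1775 L17035 q1775, e3 q1776 L17047 q1337, e3 q1777 L589475 q2378, e3 q1778 L17064 q1339, e3 q1779 L24497 q2425, e3 q1780 (flp_h L17073) q1288, e3 q1781 L17086 q1342, e3 q1782 L17094 q1343, e3 q1783 L17105 q1783, e3 q1784 L587271 q2391, e3 q1785 L17122 q1785, e3 q1786 L24590 q2433, e3 q1787 (flp_h L17132) q1293, e3 q1788 L17143 q1788, e3 q1789 L17154 q1789, e3 q1790 L457578 q2178, e3 q1791 L17169 q1345, trivial⟩ (by decide +kernel)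

theorem ce_h_28 : ∀ r, r < 64 → sm gh (Qf (1792 + r)) = Qf (tab Gen.h (1792 + r)) :=
  edges_tab (sm gh) Qf (tab Gen.h) 1792 [(1792, 2388), (1793, 1347), (1794, 2441), (1795, 2443), (1796, 1299), (1797, 1351), (1798, 2203), (1799, 1799), (1800, 2403), (1801, 1801), (1802, 2450), (1803, 2452), (1804, 1306), (1805, 1805), (1806, 2191), (1807, 1353), (1808, 2400), (1809, 2401), (1810, 1355), (1811, 2460), (1812, 1314), (1813, 2461), (1814, 1315), (1815, 2464), (1816, 2467), (1817, 1318), (1818, 1818), (1819, 2471), (1820, 1320), (1821, 2474), (1822, 2476), (1823, 1321), (1824, 1824), (1825, 2479), (1826, 1324), (1827, 2481), (1828, 1325), (1829, 1829), (1830, 1830), (1831, 1831), (1832, 1832), (1833, 1358), (1834, 1834), (1835, 1835), (1836, 1836), (1837, 1837), (1838, 1838), (1839, 1839), (1840, 2169), (1841, 2420), (1842, 2379), (1843, 2422), (1844, 2499), (1845, 2501), (1846, 1340), (1847, 2426), (1848, 2179), (1849, 2436), (1850, 2369), (1851, 2389), (1852, 2439), (1853, 2508), (1854, 1348), (1855, 2510)]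
    ⟨e3 q1792 L598641 q2388, e3 q1793 L17199 q1347, e3 q1794 L24704 q2441, e3 q1795 L24715 q2443, e3 q1796 (flp_h L17213) q1299, e3 q1797 L17233 q1351, e3 q1798 (flp_h L457476) q2203, e3 q1799 L17249 q1799, e3 q1800 (flp_h L598322) q2403, e3 q1801 L17284 q1801, e3 q1802 L24832 q2450, e3 q1803 L24845 q2452, e3 q1804 (flp_h L17301) q1306, e3 q1805 L17320 q1805, e3 q1806 (flp_h L589686) q2191, e3 q1807 L17353 q1353, e3 q1808 (flp_h L589705) q2400, e3 q1809 (flp_h L598387) q2401, e3 q1810 L17405 q1355, e3 q1811 L25003 q2460, e3 q1812 (flp_h L17414) q1314, e3 q1813 L25017 q2461, e3 q1814 (flp_h L17426) q1315, e3 q1815 L25049 q2464, e3 q1816 L25076 q2467, e3 q1817 (flp_h L17458) q1318, e3 q1818 L17472 q1818, e3 q1819 L25113 q2471, e3 q1820 (flp_h L17485) q1320, e3 q1821 L25138 q2474, e3 q1822 L25157 q2476, e3 q1823 (flp_h L17511) q1321, e3 q1824 L17526 q1824, e3 q1825 L25181 q2479, e3 q1826 (flp_h L17537) q1324, e3 q1827 L25195 q2481, e3 q1828 (flp_h L17554) q1325, e3 q1829 L17568 q1829, e3 q1830 L17578 q1830, e3 q1831 L17584 q1831,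 e3 q1832 L17592 q1832, e3 q1833 L17600 q1358, e3 q1834 L17609 q1834, e3 q1835 L17617 q1835, e3 q1836 L17625 q1836, e3 q1837 L17633 q1837, e3 q1838 L17638 q1838, e3 q1839 L17646 q1839, e3 q1840 L511643 q2169, e3 q1841 (flp_h L24449) q2420, e3 q1842 (flp_h L583328) q2379, e3 q1843 (flp_h L24483) q2422, e3 q1844 L25400 q2499, e3 q1845 L25418 q2501, e3 q1846 (flp_h L17719) q1340, e3 q1847 (flp_h L24519) q2426, e3 q1848 L585867 q2179, e3 q1849 (flp_h L24642) q2436, e3 q1850 L597982 q2369, e3 q1851 L465003 q2389, e3 q1852 (flp_h L24697) q2439, e3 q1853 L25589 q2508, e3 q1854 (flp_h L17843) q1348, e3 q1855 L25610 q2510, trivial⟩ (by decide +kernel)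

theorem ce_h_29 : ∀ r, r < 64 → sm gh (Qf (1856 + r)) = Qf (tab Gen.h (1856 + r)) :=
  edges_tab (sm gh) Qf (tab Gen.h) 1856 [(1856, 1349), (1857, 2192), (1858, 2455), (1859, 2402), (1860, 1356), (1861, 2150), (1862, 1862), (1863, 2358), (1864, 2348), (1865, 2516), (1866, 1363), (1867, 1364), (1868, 2160), (1869, 1869), (1870, 2147), (1871, 2139), (1872, 2344), (1873, 2521), (1874, 1373), (1875, 1875), (1876, 1876), (1877, 1877), (1878, 2526), (1879, 1379), (1880, 2528), (1881, 1381), (1882, 1392), (1883, 1394), (1884, 1396), (1885, 1397), (1886, 1400), (1887, 1401), (1888, 1402), (1889, 2542), (1890, 1388), (1891, 1389), (1892, 2529), (1893, 1893), (1894, 2530), (1895, 2531), (1896, 1896), (1897, 2532), (1898, 2533), (1899, 1899), (1900, 1900), (1901, 2534), (1902, 2535), (1903, 2536), (1904, 1904), (1905, 1905), (1906, 1906), (1907, 2537), (1908, 2538), (1909, 2573), (1910, 2540), (1911, 2541), (1912, 1404), (1913, 2576), (1914, 2577), (1915, 1915), (1916, 1916), (1917, 1917), (1918, 1408), (1919, 1409)]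
    ⟨e3 q1856 (flp_h L17858) q1349, e3 q1857 L559484 q2192, e3 q1858 (flp_h L24917) q2455, e3 q1859 L583410 q2402, e3 q1860 (flp_h L17987) q1356, e3 q1861 L572169 q2150, e3 q1862 L18035 q1862, e3 q1863 L582988 q2358, e3 q1864 L597649 q2348, e3 q1865 L25925 q2516, e3 q1866 (flp_h L18100) q1363, e3 q1867 (flp_h L18107) q1364, e3 q1868 L572190 q2160, e3 q1869 L18224 q1869, e3 q1870 L478763 q2147, e3 q1871 (flp_h L479271) q2139, e3 q1872 L558251 q2344, e3 q1873 L26384 q2521, e3 q1874 (flp_h L18430) q1373, e3 q1875 L18446 q1875, e3 q1876 L18608 q1876, e3 q1877 L18681 q1877, e3 q1878 L26722 q2526, e3 q1879 (flp_h L18694) q1379, e3 q1880 L26741 q2528, e3 q1881 (flp_h L18715) q1381, e3 q1882 L18733 q1392, e3 q1883 L18743 q1394, e3 q1884 L18750 q1396, e3 q1885 L18760 q1397, e3 q1886 L18769 q1400, e3 q1887 L18779 q1401, e3 q1888 L18788 q1402, e3 q1889 L26873 q2542, e3 q1890 (flp_h L18804) q1388, e3 q1891 (flp_h L18815) q1389, e3 q1892 (flp_h L26760) q2529, e3 q1893 L18845 q1893, e3 q1894 (flp_h L26768) q2530, e3 q1895 (flp_h L26777)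 q2531, e3 q1896 L18869 q1896, e3 q1897 (flp_h L26786) q2532, e3 q1898 (flp_h L26797) q2533, e3 q1899 L18892 q1899, e3 q1900 L18903 q1900, e3 q1901 (flp_h L26806) q2534, e3 q1902 (flp_h L26817) q2535, e3 q1903 (flp_h L26825) q2536, e3 q1904 L18934 q1904, e3 q1905 L18944 q1905, e3 q1906 L18954 q1906, e3 q1907 (flp_h L26834) q2537, e3 q1908 (flp_h L26844) q2538, e3 q1909 L27154 q2573, e3 q1910 (flp_h L26860) q2540, e3 q1911 (flp_h L26870) q2541, e3 q1912 L19003 q1404, e3 q1913 (flp_h L27183) q2576, e3 q1914 (flp_h L27194) q2577, e3 q1915 L19033 q1915, e3 q1916 L19043 q1916, e3 q1917 L19050 q1917, e3 q1918 L19058 q1408, e3 q1919 L19068 q1409, trivial⟩ (by decide +kernel)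

theorem ce_h_30 : ∀ r, r < 64 → sm gh (Qf (1920 + r)) = Qf (tab Gen.h (1920 + r)) :=
  edges_tab (sm gh) Qf (tab Gen.h) 1920 [(1920, 2586), (1921, 2587), (1922, 2588), (1923, 1923), (1924, 1924), (1925, 2598), (1926, 1926), (1927, 1927), (1928, 1415), (1929, 1416), (1930, 1417), (1931, 2601), (1932, 2602), (1933, 2610), (1934, 2604), (1935, 2605), (1936, 1936), (1937, 2617), (1938, 1938), (1939, 2621), (1940, 1420), (1941, 1941), (1942, 1942), (1943, 1943), (1944, 1944), (1945, 1945), (1946, 1428), (1947, 1429), (1948, 2633), (1949, 1431), (1950, 1432), (1951, 2629), (1952, 2640), (1953, 2631), (1954, 2644), (1955, 1430), (1956, 2634), (1957, 2635), (1958, 2649), (1959, 1959), (1960, 2652), (1961, 2655), (1962, 1434), (1963, 1963), (1964, 2659), (1965, 2661), (1966, 1436), (1967, 2645), (1968, 1968), (1969, 1969), (1970, 2665), (1971, 1441), (1972, 1972), (1973, 2669), (1974, 1444), (1975, 2670), (1976, 1976), (1977, 1977), (1978, 1447), (1979, 1449), (1980, 2677), (1981, 2678), (1982, 1982), (1983, 1983)]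
    ⟨e3 q1920 (flp_h L27278) q2586, e3 q1921 (flp_h L27289) q2587, e3 q1922 (flp_h L27297) q2588, e3 q1923 L19106 q1923, e3 q1924 L19115 q1924, e3 q1925 L27376 q2598, e3 q1926 L19128 q1926, e3 q1927 L19135 q1927, e3 q1928 L19144 q1415, e3 q1929 L19154 q1416, e3 q1930 L19163 q1417, e3 q1931 (flp_h L27408) q2601, e3 q1932 (flp_h L27418) q2602, e3 q1933 L27485 q2610, e3 q1934 (flp_h L27434) q2604, e3 q1935 (flp_h L27446) q2605, e3 q1936 L19220 q1936, e3 q1937 L27540 q2617, e3 q1938 L19234 q1938, e3 q1939 L27569 q2621, e3 q1940 (flp_h L19243) q1420, e3 q1941 L19257 q1941, e3 q1942 L19264 q1942, e3 q1943 L19272 q1943, e3 q1944 L19282 q1944, e3 q1945 L19291 q1945, e3 q1946 L19300 q1428, e3 q1947 L19311 q1429, e3 q1948 L27674 q2633, e3 q1949 L19327 q1431, e3 q1950 L19334 q1432, e3 q1951 (flp_h L27647) q2629, e3 q1952 L27739 q2640, e3 q1953 (flp_h L27664) q2631, e3 q1954 L27773 q2644, e3 q1955 (flp_h L19375) q1430, e3 q1956 (flp_h L27687) q2634, e3 q1957 (flp_h L27696) q2635, e3 q1958 L27816 q2649, e3 q1959 L19416 q1959, e3 q1960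 L27841 q2652, e3 q1961 L27864 q2655, e3 q1962 (flp_h L19432) q1434, e3 q1963 L19446 q1963, e3 q1964 L27895 q2659, e3 q1965 L27912 q2661, e3 q1966 (flp_h L19462) q1436, e3 q1967 (flp_h L27788) q2645, e3 q1968 L19485 q1968, e3 q1969 L19496 q1969, e3 q1970 L27951 q2665, e3 q1971 (flp_h L19510) q1441, e3 q1972 L19531 q1972, e3 q1973 L27991 q2669, e3 q1974 (flp_h L19544) q1444, e3 q1975 (flp_h L28013) q2670, e3 q1976 L19573 q1976, e3 q1977 L19581 q1977, e3 q1978 (flp_h L19583) q1447, e3 q1979 L19603 q1449, e3 q1980 (flp_h L28077) q2677, e3 q1981 (flp_h L28087) q2678, e3 q1982 L19627 q1982, e3 q1983 L19636 q1983, trivial⟩ (by decide +kernel)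

theorem ce_h_31 : ∀ r, r < 64 → sm gh (Qf (1984 + r)) = Qf (tab Gen.h (1984 + r)) :=
  edges_tab (sm gh) Qf (tab Gen.h) 1984 [(1984, 1984), (1985, 1453), (1986, 2687), (1987, 2688), (1988, 1988), (1989, 1989), (1990, 1990), (1991, 1457), (1992, 1458), (1993, 1703), (1994, 2697), (1995, 2698), (1996, 1996), (1997, 1997), (1998, 2707), (1999, 1999), (2000, 2000), (2001, 1465), (2002, 1466), (2003, 1681), (2004, 2716), (2005, 2711), (2006, 2712), (2007, 2007), (2008, 2723), (2009, 2009), (2010, 2727), (2011, 1469), (2012, 2012), (2013, 2013), (2014, 2014), (2015, 2015), (2016, 2016), (2017, 1515), (2018, 1516), (2019, 2739), (2020, 1518), (2021, 1519), (2022, 2022), (2023, 2023), (2024, 2746), (2025, 2025), (2026, 2026), (2027, 1520), (2028, 2753), (2029, 1522), (2030, 2757), (2031, 1482), (2032, 1525), (2033, 1526), (2034, 2034), (2035, 2764), (2036, 2036), (2037, 2768), (2038, 1487), (2039, 2039), (2040, 2040), (2041, 2773), (2042, 1528), (2043, 2776), (2044, 2779), (2045, 1491), (2046, 1532), (2047, 2783)]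
    ⟨e3 q1984 L19643 q1984, e3 q1985 L19655 q1453, e3 q1986 (flp_h L28163) q2687, e3 q1987 (flp_h L28175) q2688, e3 q1988 L19682 q1988, e3 q1989 L19693 q1989, e3 q1990 L19703 q1990, e3 q1991 L19709 q1457, e3 q1992 L19720 q1458, e3 q1993 L453729 q1703, e3 q1994 (flp_h L28270) q2697, e3 q1995 (flp_h L28279) q2698, e3 q1996 L19756 q1996, e3 q1997 L19766 q1997, e3 q1998 L28358 q2707, e3 q1999 L19779 q1999, e3 q2000 L19787 q2000, e3 q2001 L19806 q1465, e3 q2002 L19816 q1466, e3 q2003 L592268 q1681, e3 q2004 L28469 q2716, e3 q2005 (flp_h L28418) q2711, e3 q2006 (flp_h L28429) q2712, e3 q2007 L19873 q2007, e3 q2008 L28524 q2723, e3 q2009 L19886 q2009, e3 q2010 L28552 q2727, e3 q2011 (flp_h L19896) q1469, e3 q2012 L19909 q2012, e3 q2013 L19918 q2013, e3 q2014 L19926 q2014, e3 q2015 L19939 q2015, e3 q2016 L19949 q2016, e3 q2017 L19961 q1515, e3 q2018 L19973 q1516, e3 q2019 L28666 q2739, e3 q2020 L19988 q1518, e3 q2021 L19997 q1519, e3 q2022 L20007 q2022, e3 q2023 L20019 q2023, e3 q2024 L28731 q2746, e3 q2025 L20034 q2025, e3 q2026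 L20044 q2026, e3 q2027 L20058 q1520, e3 q2028 L28788 q2753, e3 q2029 L20072 q1522, e3 q2030 L28818 q2757, e3 q2031 (flp_h L20080) q1482, e3 q2032 L20093 q1525, e3 q2033 L20105 q1526, e3 q2034 L20115 q2034, e3 q2035 L28879 q2764, e3 q2036 L20132 q2036, e3 q2037 L28911 q2768, e3 q2038 (flp_h L20145) q1487, e3 q2039 L20157 q2039, e3 q2040 L20167 q2040, e3 q2041 L28951 q2773, e3 q2042 L20185 q1528, e3 q2043 L28977 q2776, e3 q2044 L28995 q2779, e3 q2045 (flp_h L20201) q1491, e3 q2046 L20216 q1532, e3 q2047 L29029 q2783, trivial⟩ (by decide +kernel)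

theorem ce_h_32 : ∀ r, r < 64 → sm gh (Qf (2048 + r)) = Qf (tab Gen.h (2048 + r)) :=
  edges_tab (sm gh) Qf (tab Gen.h) 2048 [(2048, 2785), (2049, 1493), (2050, 2769), (2051, 1537), (2052, 2638), (2053, 2053), (2054, 2636), (2055, 2792), (2056, 1498), (2057, 2057), (2058, 2795), (2059, 2797), (2060, 1500), (2061, 1513), (2062, 2062), (2063, 2656), (2064, 2802), (2065, 1504), (2066, 1540), (2067, 2806), (2068, 1506), (2069, 2808), (2070, 2810), (2071, 1507), (2072, 2647), (2073, 1545), (2074, 2814), (2075, 1510), (2076, 2817), (2077, 1511), (2078, 2798), (2079, 2735), (2080, 2823), (2081, 2737), (2082, 2827), (2083, 1517), (2084, 2740), (2085, 2741), (2086, 2832), (2087, 2750), (2088, 2835), (2089, 2838), (2090, 1521), (2091, 2754), (2092, 2842), (2093, 2844), (2094, 1523), (2095, 2095), (2096, 2759), (2097, 2847), (2098, 2850), (2099, 1527), (2100, 2774), (2101, 2855), (2102, 1529), (2103, 2859), (2104, 2861), (2105, 1530), (2106, 2106), (2107, 2781), (2108, 2865), (2109, 1533), (2110, 2868), (2111, 1534)]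
    ⟨e3 q2048 L29041 q2785, e3 q2049 (flp_h L20229) q1493, e3 q2050 (flp_h L28923) q2769, e3 q2051 L20250 q1537, e3 q2052 L545857 q2638, e3 q2053 L20270 q2053, e3 q2054 (flp_h L536713) q2636, e3 q2055 L29128 q2792, e3 q2056 (flp_h L20291) q1498, e3 q2057 L20304 q2057, e3 q2058 L29164 q2795, e3 q2059 L29181 q2797, e3 q2060 (flp_h L20324) q1500, e3 q2061 L20339 q1513, e3 q2062 L20347 q2062, e3 q2063 (flp_h L563437) q2656, e3 q2064 L29239 q2802, e3 q2065 (flp_h L20367) q1504, e3 q2066 L20383 q1540, e3 q2067 L29283 q2806, e3 q2068 (flp_h L20394) q1506, e3 q2069 L29306 q2808, e3 q2070 L29321 q2810, e3 q2071 (flp_h L20414) q1507, e3 q2072 L563445 q2647, e3 q2073 L20438 q1545, e3 q2074 L29351 q2814, e3 q2075 (flp_h L20447) q1510, e3 q2076 L29372 q2817, e3 q2077 (flp_h L20462) q1511, e3 q2078 (flp_h L29197) q2798, e3 q2079 (flp_h L28639) q2735, e3 q2080 L29431 q2823, e3 q2081 (flp_h L28656) q2737, e3 q2082 L29465 q2827, e3 q2083 (flp_h L20519) q1517, e3 q2084 (flp_h L28680) q2740, e3 q2085 (flp_h L28690) q2741, e3 q2086 L29510 q2832,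 e3 q2087 (flp_h L28773) q2750, e3 q2088 L29537 q2835, e3 q2089 L29561 q2838, e3 q2090 (flp_h L20580) q1521, e3 q2091 (flp_h L28803) q2754, e3 q2092 L29593 q2842, e3 q2093 L29609 q2844, e3 q2094 (flp_h L20613) q1523, e3 q2095 L20626 q2095, e3 q2096 (flp_h L28840) q2759, e3 q2097 L29643 q2847, e3 q2098 L29669 q2850, e3 q2099 (flp_h L20654) q1527, e3 q2100 (flp_h L28968) q2774, e3 q2101 L29713 q2855, e3 q2102 (flp_h L20680) q1529, e3 q2103 L29744 q2859, e3 q2104 L29760 q2861, e3 q2105 (flp_h L20703) q1530, e3 q2106 L20716 q2106, e3 q2107 (flp_h L29019) q2781, e3 q2108 L29792 q2865, e3 q2109 (flp_h L20736) q1533, e3 q2110 L29816 q2868, e3 q2111 (flp_h L20752) q1534, trivial⟩ (by decide +kernel)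

theorem ce_h_33 : ∀ r, r < 64 → sm gh (Qf (2112 + r)) = Qf (tab Gen.h (2112 + r)) :=
  edges_tab (sm gh) Qf (tab Gen.h) 2112 [(2112, 2112), (2113, 2871), (2114, 2873), (2115, 1538), (2116, 2116), (2117, 2803), (2118, 2877), (2119, 1541), (2120, 2880), (2121, 1542), (2122, 2122), (2123, 2883), (2124, 2884), (2125, 1546), (2126, 2866), (2127, 2127), (2128, 1548), (2129, 2129), (2130, 2891), (2131, 1551), (2132, 1552), (2133, 2133), (2134, 2134), (2135, 2135), (2136, 2890), (2137, 2137), (2138, 2138), (2139, 1871), (2140, 2140), (2141, 2901), (2142, 1560), (2143, 2902), (2144, 2144), (2145, 2145), (2146, 2908), (2147, 1870), (2148, 1565), (2149, 1567), (2150, 1861), (2151, 2911), (2152, 2152), (2153, 2153), (2154, 2154), (2155, 1570), (2156, 2156), (2157, 2157), (2158, 1575), (2159, 1704), (2160, 1868), (2161, 2921), (2162, 2162), (2163, 2163), (2164, 2930), (2165, 2165), (2166, 2166), (2167, 1581), (2168, 1693), (2169, 1840), (2170, 2933), (2171, 2171), (2172, 2172), (2173, 2942), (2174, 2174), (2175, 2175)]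
    ⟨e3 q2112 L20765 q2112, e3 q2113 L29839 q2871, e3 q2114 L29860 q2873, e3 q2115 (flp_h L20785) q1538, e3 q2116 L20803 q2116, e3 q2117 (flp_h L29266) q2803, e3 q2118 L29896 q2877, e3 q2119 (flp_h L20822) q1541, e3 q2120 L29921 q2880, e3 q2121 (flp_h L20841) q1542, e3 q2122 L20857 q2122, e3 q2123 L29948 q2883, e3 q2124 L29957 q2884, e3 q2125 (flp_h L20875) q1546, e3 q2126 (flp_h L29805) q2866, e3 q2127 L20898 q2127, e3 q2128 (flp_h L20899) q1548, e3 q2129 L20916 q2129, e3 q2130 L30015 q2891, e3 q2131 (flp_h L20926) q1551, e3 q2132 (flp_h L20934) q1552, e3 q2133 L20950 q2133, e3 q2134 L20959 q2134, e3 q2135 L20966 q2135, e3 q2136 (flp_h L647477) q2890, e3 q2137 L20985 q2137, e3 q2138 L20996 q2138, e3 q2139 L479271 q1871, e3 q2140 L21015 q2140, e3 q2141 L30155 q2901, e3 q2142 (flp_h L21028) q1560, e3 q2143 (flp_h L30174) q2902, e3 q2144 L21055 q2144, e3 q2145 L21064 q2145, e3 q2146 L30223 q2908, e3 q2147 (flp_h L478763) q1870, e3 q2148 (flp_h L21100) q1565, e3 q2149 L21119 q1567, e3 q2150 (flp_h L572169) q1861, e3 q2151 (flp_h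 L30296) q2911, e3 q2152 L21148 q2152, e3 q2153 L21157 q2153, e3 q2154 L21165 q2154, e3 q2155 (flp_h L21168) q1570, e3 q2156 L410305 q2156, e3 q2157 L21218 q2157, e3 q2158 L21234 q1575, e3 q2159 L594381 q1704, e3 q2160 (flp_h L572190) q1868, e3 q2161 (flp_h L30458) q2921, e3 q2162 L21269 q2162, e3 q2163 L21277 q2163, e3 q2164 L30537 q2930, e3 q2165 L21291 q2165, e3 q2166 L21301 q2166, e3 q2167 L21330 q1581, e3 q2168 (flp_h L594219) q1693, e3 q2169 (flp_h L511643) q1840, e3 q2170 (flp_h L30613) q2933, e3 q2171 L21369 q2171, e3 q2172 L21379 q2172, e3 q2173 L30701 q2942, e3 q2174 L21398 q2174, e3 q2175 L21405 q2175, trivial⟩ (by decide +kernel)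

theorem ce_h_34 : ∀ r, r < 64 → sm gh (Qf (2176 + r)) = Qf (tab Gen.h (2176 + r)) :=
  edges_tab (sm gh) Qf (tab Gen.h) 2176 [(2176, 1588), (2177, 1670), (2178, 1790), (2179, 1848), (2180, 2945), (2181, 2181), (2182, 2955), (2183, 2183), (2184, 2959), (2185, 1591), (2186, 2186), (2187, 2187), (2188, 1598), (2189, 1633), (2190, 1682), (2191, 1806), (2192, 1857), (2193, 2962), (2194, 2971), (2195, 2195), (2196, 2974), (2197, 2977), (2198, 1600), (2199, 2199), (2200, 2981), (2201, 2983), (2202, 1602), (2203, 1798), (2204, 2204), (2205, 2205), (2206, 2206), (2207, 2989), (2208, 2208), (2209, 2209), (2210, 1663), (2211, 2996), (2212, 1665), (2213, 3000), (2214, 1611), (2215, 1668), (2216, 1669), (2217, 2217), (2218, 3007), (2219, 2219), (2220, 3011), (2221, 1616), (2222, 2222), (2223, 2223), (2224, 2946), (2225, 1671), (2226, 3018), (2227, 3021), (2228, 1620), (2229, 1675), (2230, 3024), (2231, 3026), (2232, 1622), (2233, 3012), (2234, 1680), (2235, 2978), (2236, 2236), (2237, 3032), (2238, 3035), (2239, 1627)]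
    ⟨e3 q2176 L21450 q1588, e3 q2177 (flp_h L594192) q1670, e3 q2178 (flp_h L457578) q1790, e3 q2179 (flp_h L585867) q1848, e3 q2180 (flp_h L30797) q2945, e3 q2181 L21507 q2181, e3 q2182 L30895 q2955, e3 q2183 L21519 q2183, e3 q2184 L30927 q2959, e3 q2185 (flp_h L21528) q1591, e3 q2186 L21544 q2186, e3 q2187 L21555 q2187, e3 q2188 L21625 q1598, e3 q2189 L589537 q1633, e3 q2190 L492802 q1682, e3 q2191 L589686 q1806, e3 q2192 (flp_h L559484) q1857, e3 q2193 (flp_h L31060) q2962, e3 q2194 L31179 q2971, e3 q2195 L21706 q2195, e3 q2196 L31203 q2974, e3 q2197 L31224 q2977, e3 q2198 (flp_h L21721) q1600, e3 q2199 L21733 q2199, e3 q2200 L31255 q2981, e3 q2201 L31274 q2983, e3 q2202 (flp_h L21751) q1602, e3 q2203 L457476 q1798, e3 q2204 L21777 q2204, e3 q2205 L21786 q2205, e3 q2206 L21798 q2206, e3 q2207 L31335 q2989, e3 q2208 L21819 q2208, e3 q2209 L21828 q2209, e3 q2210 L21841 q1663, e3 q2211 L31401 q2996, e3 q2212 L21857 q1665, e3 q2213 L31434 q3000, e3 q2214 (flp_h L21868) q1611, e3 q2215 L21885 q1668, e3 q2216 L21894 q1669, e3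 q2217 L21906 q2217, e3 q2218 L31502 q3007, e3 q2219 L21922 q2219, e3 q2220 L31538 q3011, e3 q2221 (flp_h L21934) q1616, e3 q2222 L21949 q2222, e3 q2223 L21961 q2223, e3 q2224 (flp_h L589523) q2946, e3 q2225 L21979 q1671, e3 q2226 L31608 q3018, e3 q2227 L31629 q3021, e3 q2228 (flp_h L21993) q1620, e3 q2229 L22007 q1675, e3 q2230 L31662 q3024, e3 q2231 L31677 q3026, e3 q2232 (flp_h L22025) q1622, e3 q2233 (flp_h L31553) q3012, e3 q2234 L22051 q1680, e3 q2235 L589615 q2978, e3 q2236 L22070 q2236, e3 q2237 L31741 q3032, e3 q2238 L31765 q3035, e3 q2239 (flp_h L22090) q1627, trivial⟩ (by decide +kernel)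

theorem ce_h_35 : ∀ r, r < 64 → sm gh (Qf (2240 + r)) = Qf (tab Gen.h (2240 + r)) :=
  edges_tab (sm gh) Qf (tab Gen.h) 2240 [(2240, 2240), (2241, 3038), (2242, 3040), (2243, 1629), (2244, 1642), (2245, 2245), (2246, 2963), (2247, 2964), (2248, 1683), (2249, 3048), (2250, 1635), (2251, 3051), (2252, 3053), (2253, 1636), (2254, 1688), (2255, 3056), (2256, 1639), (2257, 3058), (2258, 1640), (2259, 3041), (2260, 2630), (2261, 3063), (2262, 1644), (2263, 2263), (2264, 3067), (2265, 1646), (2266, 3069), (2267, 3071), (2268, 1647), (2269, 2269), (2270, 3074), (2271, 1650), (2272, 3076), (2273, 1651), (2274, 2274), (2275, 2275), (2276, 2276), (2277, 2277), (2278, 1692), (2279, 2279), (2280, 2280), (2281, 2281), (2282, 2282), (2283, 2283), (2284, 2284), (2285, 2934), (2286, 2993), (2287, 3092), (2288, 3095), (2289, 1664), (2290, 2997), (2291, 3098), (2292, 3100), (2293, 1666), (2294, 2294), (2295, 3002), (2296, 2699), (2297, 2947), (2298, 3016), (2299, 3108), (2300, 1672), (2301, 3111), (2302, 3113), (2303, 1673)]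
    ⟨e3 q2240 L22103 q2240, e3 q2241 L31802 q3038, e3 q2242 L31819 q3040, e3 q2243 (flp_h L22124) q1629, e3 q2244 L22139 q1642, e3 q2245 L22149 q2245, e3 q2246 (flp_h L591041) q2963, e3 q2247 L589663 q2964, e3 q2248 L22186 q1683, e3 q2249 L31917 q3048, e3 q2250 (flp_h L22193) q1635, e3 q2251 L31943 q3051, e3 q2252 L31959 q3053, e3 q2253 (flp_h L22213) q1636, e3 q2254 L22236 q1688, e3 q2255 L31992 q3056, e3 q2256 (flp_h L22247) q1639, e3 q2257 L32010 q3058, e3 q2258 (flp_h L22263) q1640, e3 q2259 (flp_h L31834) q3041, e3 q2260 L536466 q2630, e3 q2261 L32077 q3063, e3 q2262 (flp_h L22300) q1644, e3 q2263 L22317 q2263, e3 q2264 L32116 q3067, e3 q2265 (flp_h L22329) q1646, e3 q2266 L32140 q3069, e3 q2267 L32159 q3071, e3 q2268 (flp_h L22355) q1647, e3 q2269 L22369 q2269, e3 q2270 L32187 q3074, e3 q2271 (flp_h L22382) q1650, e3 q2272 L32205 q3076, e3 q2273 (flp_h L22403) q1651, e3 q2274 L22418 q2274, e3 q2275 L22429 q2275, e3 q2276 L22437 q2276, e3 q2277 L22447 q2277, e3 q2278 L22456 q1692, e3 q2279 L22465 q2279, e3 q2280 L22472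 q2280, e3 q2281 L22480 q2281, e3 q2282 L22488 q2282, e3 q2283 L22495 q2283, e3 q2284 L22505 q2284, e3 q2285 L594204 q2934, e3 q2286 (flp_h L31384) q2993, e3 q2287 L32356 q3092, e3 q2288 L32384 q3095, e3 q2289 (flp_h L22547) q1664, e3 q2290 (flp_h L31416) q2997, e3 q2291 L32420 q3098, e3 q2292 L32442 q3100, e3 q2293 (flp_h L22583) q1666, e3 q2294 L22602 q2294, e3 q2295 (flp_h L31462) q3002, e3 q2296 L593249 q2699, e3 q2297 L538163 q2947, e3 q2298 (flp_h L31600) q3016, e3 q2299 L32553 q3108, e3 q2300 (flp_h L22658) q1672, e3 q2301 L32584 q3111, e3 q2302 L32601 q3113, e3 q2303 (flp_h L22684) q1673, trivial⟩ (by decide +kernel)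

theorem ce_h_36 : ∀ r, r < 64 → sm gh (Qf (2304 + r)) = Qf (tab Gen.h (2304 + r)) :=
  edges_tab (sm gh) Qf (tab Gen.h) 2304 [(2304, 3022), (2305, 3115), (2306, 1676), (2307, 3118), (2308, 1677), (2309, 2309), (2310, 2714), (2311, 2965), (2312, 3045), (2313, 3123), (2314, 1684), (2315, 2856), (2316, 3126), (2317, 1686), (2318, 1689), (2319, 2319), (2320, 2689), (2321, 2912), (2322, 2322), (2323, 3133), (2324, 1695), (2325, 3136), (2326, 3137), (2327, 1696), (2328, 3139), (2329, 1699), (2330, 1700), (2331, 2331), (2332, 2679), (2333, 2922), (2334, 3145), (2335, 1705), (2336, 2336), (2337, 1707), (2338, 2338), (2339, 2339), (2340, 2340), (2341, 2341), (2342, 3155), (2343, 2343), (2344, 1872), (2345, 3158), (2346, 1716), (2347, 1718), (2348, 1864), (2349, 3160), (2350, 2350), (2351, 2351), (2352, 2352), (2353, 3168), (2354, 1722), (2355, 2355), (2356, 2356), (2357, 1727), (2358, 1863), (2359, 3170), (2360, 2360), (2361, 3177), (2362, 2362), (2363, 2363), (2364, 3180), (2365, 1731), (2366, 2366), (2367, 1737)]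
    ⟨e3 q2304 (flp_h L31653) q3022, e3 q2305 L32626 q3115, e3 q2306 (flp_h L22717) q1676, e3 q2307 L32653 q3118, e3 q2308 (flp_h L22736) q1677, e3 q2309 L22752 q2309, e3 q2310 L593384 q2714, e3 q2311 (flp_h L559516) q2965, e3 q2312 (flp_h L31904) q3045, e3 q2313 L32764 q3123, e3 q2314 (flp_h L22827) q1684, e3 q2315 (flp_h L29725) q2856, e3 q2316 L32800 q3126, e3 q2317 (flp_h L22858) q1686, e3 q2318 (flp_h L22874) q1689, e3 q2319 L22891 q2319, e3 q2320 L593233 q2689, e3 q2321 L594235 q2912, e3 q2322 L22930 q2322, e3 q2323 L32915 q3133, e3 q2324 (flp_h L22943) q1695, e3 q2325 L32950 q3136, e3 q2326 L32958 q3137, e3 q2327 (flp_h L22968) q1696, e3 q2328 L32986 q3139, e3 q2329 (flp_h L22996) q1699, e3 q2330 (flp_h L23005) q1700, e3 q2331 L23025 q2331, e3 q2332 L593242 q2679, e3 q2333 L593821 q2922, e3 q2334 L33105 q3145, e3 q2335 (flp_h L23088) q1705, e3 q2336 L23102 q2336, e3 q2337 (flp_h L23111) q1707, e3 q2338 L23133 q2338, e3 q2339 L23142 q2339, e3 q2340 L23174 q2340, e3 q2341 L23192 q2341, e3 q2342 L33280 q3155, e3 q2343 L23216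 q2343, e3 q2344 (flp_h L558251) q1872, e3 q2345 L33324 q3158, e3 q2346 (flp_h L23246) q1716, e3 q2347 L23263 q1718, e3 q2348 (flp_h L597649) q1864, e3 q2349 (flp_h L33356) q3160, e3 q2350 L23290 q2350, e3 q2351 L23299 q2351, e3 q2352 L23305 q2352, e3 q2353 L33435 q3168, e3 q2354 (flp_h L23338) q1722, e3 q2355 L411936 q2355, e3 q2356 L23380 q2356, e3 q2357 L23395 q1727, e3 q2358 (flp_h L582988) q1863, e3 q2359 (flp_h L33556) q3170, e3 q2360 L23442 q2360, e3 q2361 L33638 q3177, e3 q2362 L23455 q2362, e3 q2363 L23464 q2363, e3 q2364 L33661 q3180, e3 q2365 (flp_h L23473) q1731, e3 q2366 L23555 q2366, e3 q2367 L23579 q1737, trivial⟩ (by decide +kernel)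

theorem ce_h_37 : ∀ r, r < 64 → sm gh (Qf (2368 + r)) = Qf (tab Gen.h (2368 + r)) :=
  edges_tab (sm gh) Qf (tab Gen.h) 2368 [(2368, 2368), (2369, 1850), (2370, 3182), (2371, 3188), (2372, 2372), (2373, 3192), (2374, 1739), (2375, 2375), (2376, 2376), (2377, 1744), (2378, 1777), (2379, 1842), (2380, 3194), (2381, 3200), (2382, 2382), (2383, 3204), (2384, 1746), (2385, 2385), (2386, 2386), (2387, 1752), (2388, 1792), (2389, 1851), (2390, 3206), (2391, 1784), (2392, 3213), (2393, 1753), (2394, 2394), (2395, 3216), (2396, 3218), (2397, 1755), (2398, 2398), (2399, 1762), (2400, 1808), (2401, 1809), (2402, 1859), (2403, 1800), (2404, 3224), (2405, 3226), (2406, 1764), (2407, 2407), (2408, 3229), (2409, 1767), (2410, 3231), (2411, 1768), (2412, 2412), (2413, 3198), (2414, 2414), (2415, 3238), (2416, 1773), (2417, 2417), (2418, 2418), (2419, 2935), (2420, 1841), (2421, 3195), (2422, 1843), (2423, 3203), (2424, 3202), (2425, 1779), (2426, 1847), (2427, 2960), (2428, 2428), (2429, 3210), (2430, 2430), (2431, 3251)]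
    ⟨e3 q2368 L412677 q2368, e3 q2369 (flp_h L597982) q1850, e3 q2370 (flp_h L33829) q3182, e3 q2371 L33914 q3188, e3 q2372 L23643 q2372, e3 q2373 L33942 q3192, e3 q2374 (flp_h L23651) q1739, e3 q2375 L23663 q2375, e3 q2376 L23672 q2376, e3 q2377 L23725 q1744, e3 q2378 (flp_h L589475) q1777, e3 q2379 L583328 q1842, e3 q2380 (flp_h L34047) q3194, e3 q2381 L34148 q3200, e3 q2382 L23797 q2382, e3 q2383 L34178 q3204, e3 q2384 (flp_h L23806) q1746, e3 q2385 L23819 q2385, e3 q2386 L23827 q2386, e3 q2387 L23904 q1752, e3 q2388 (flp_h L598641) q1792, e3 q2389 (flp_h L465003) q1851, e3 q2390 (flp_h L34320) q3206, e3 q2391 (flp_h L587271) q1784, e3 q2392 L34472 q3213, e3 q2393 (flp_h L23993) q1753, e3 q2394 L24006 q2394, e3 q2395 L34501 q3216, e3 q2396 L34516 q3218, e3 q2397 (flp_h L24022) q1755, e3 q2398 L24043 q2398, e3 q2399 L24158 q1762, e3 q2400 L589705 q1808, e3 q2401 L598387 q1809, e3 q2402 (flp_h L583410) q1859, e3 q2403 L598322 q1800, e3 q2404 L34946 q3224, e3 q2405 L34961 q3226, e3 q2406 (flp_h L24308) q1764, e3 q2407 L24329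 q2407, e3 q2408 L34990 q3229, e3 q2409 (flp_h L24338) q1767, e3 q2410 L35013 q3231, e3 q2411 (flp_h L24353) q1768, e3 q2412 L24376 q2412, e3 q2413 (flp_h L589411) q3198, e3 q2414 L24396 q2414, e3 q2415 L35102 q3238, e3 q2416 (flp_h L24408) q1773, e3 q2417 L24420 q2417, e3 q2418 L24429 q2418, e3 q2419 (flp_h L589503) q2935, e3 q2420 L24449 q1841, e3 q2421 L600605 q3195, e3 q2422 L24483 q1843, e3 q2423 L626180 q3203, e3 q2424 L626188 q3202, e3 q2425 (flp_h L24497) q1779, e3 q2426 L24519 q1847, e3 q2427 L589597 q2960, e3 q2428 L24537 q2428, e3 q2429 (flp_h L600552) q3210, e3 q2430 L24571 q2430, e3 q2431 L35364 q3251, trivial⟩ (by decide +kernel)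

theorem ce_h_38 : ∀ r, r < 64 → sm gh (Qf (2432 + r)) = Qf (tab Gen.h (2432 + r)) :=
  edges_tab (sm gh) Qf (tab Gen.h) 2432 [(2432, 3253), (2433, 1786), (2434, 2434), (2435, 2948), (2436, 1849), (2437, 3207), (2438, 3208), (2439, 1852), (2440, 3217), (2441, 1794), (2442, 3215), (2443, 1795), (2444, 2984), (2445, 2445), (2446, 3221), (2447, 3222), (2448, 2448), (2449, 3266), (2450, 1802), (2451, 3268), (2452, 1803), (2453, 2966), (2454, 2967), (2455, 1858), (2456, 3219), (2457, 3220), (2458, 3228), (2459, 3227), (2460, 1811), (2461, 1813), (2462, 2626), (2463, 3276), (2464, 1815), (2465, 3278), (2466, 3280), (2467, 1816), (2468, 2468), (2469, 3283), (2470, 3285), (2471, 1819), (2472, 2472), (2473, 3289), (2474, 1821), (2475, 3291), (2476, 1822), (2477, 3293), (2478, 3294), (2479, 1825), (2480, 3267), (2481, 1827), (2482, 2482), (2483, 2483), (2484, 2484), (2485, 2485), (2486, 2486), (2487, 3296), (2488, 2488), (2489, 2489), (2490, 2490), (2491, 2491), (2492, 2492), (2493, 2936), (2494, 3241), (2495, 3172)]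
    ⟨e3 q2432 L35377 q3253, e3 q2433 (flp_h L24590) q1786, e3 q2434 L24610 q2434, e3 q2435 (flp_h L589507) q2948, e3 q2436 L24642 q1849, e3 q2437 L599272 q3207, e3 q2438 L600476 q3208, e3 q2439 L24697 q1852, e3 q2440 (flp_h L626641) q3217, e3 q2441 (flp_h L24704) q1794, e3 q2442 (flp_h L603442) q3215, e3 q2443 (flp_h L24715) q1795, e3 q2444 (flp_h L589751) q2984, e3 q2445 L24761 q2445, e3 q2446 (flp_h L589777) q3221, e3 q2447 (flp_h L600437) q3222, e3 q2448 L24820 q2448, e3 q2449 L35736 q3266, e3 q2450 (flp_h L24832) q1802, e3 q2451 L35757 q3268, e3 q2452 (flp_h L24845) q1803, e3 q2453 L457396 q2966, e3 q2454 L589644 q2967, e3 q2455 L24917 q1858, e3 q2456 L541983 q3219, e3 q2457 L600353 q3220, e3 q2458 (flp_h L626649) q3228, e3 q2459 L623878 q3227, e3 q2460 (flp_h L25003) q1811, e3 q2461 (flp_h L25017) q1813, e3 q2462 L527990 q2626, e3 q2463 L36048 q3276, e3 q2464 (flp_h L25049) q1815, e3 q2465 L36075 q3278, e3 q2466 L36094 q3280, e3 q2467 (flp_h L25076) q1816, e3 q2468 L25091 q2468, e3 q2469 L36120 q3283, e3 q2470 L36140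 q3285, e3 q2471 (flp_h L25113) q1819, e3 q2472 L25129 q2472, e3 q2473 L36184 q3289, e3 q2474 (flp_h L25138) q1821, e3 q2475 L36201 q3291, e3 q2476 (flp_h L25157) q1822, e3 q2477 L36219 q3293, e3 q2478 L36227 q3294, e3 q2479 (flp_h L25181) q1825, e3 q2480 (flp_h L35747) q3267, e3 q2481 (flp_h L25195) q1827, e3 q2482 L25211 q2482, e3 q2483 L25219 q2483, e3 q2484 L25228 q2484, e3 q2485 L25236 q2485, e3 q2486 L25244 q2486, e3 q2487 (flp_h L491607) q3296, e3 q2488 L25259 q2488, e3 q2489 L25267 q2489, e3 q2490 L25273 q2490, e3 q2491 L25282 q2491, e3 q2492 L25290 q2492, e3 q2493 (flp_h L589310) q2936, e3 q2494 (flp_h L35162) q3241, e3 q2495 (flp_h L598034) q3172, trivial⟩ (by decide +kernel)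

theorem ce_h_39 : ∀ r, r < 64 → sm gh (Qf (2496 + r)) = Qf (tab Gen.h (2496 + r)) :=
  edges_tab (sm gh) Qf (tab Gen.h) 2496 [(2496, 3196), (2497, 3244), (2498, 3176), (2499, 1844), (2500, 3190), (2501, 1845), (2502, 2924), (2503, 2949), (2504, 3256), (2505, 3184), (2506, 3209), (2507, 3191), (2508, 1853), (2509, 2509), (2510, 1855), (2511, 2968), (2512, 2913), (2513, 2903), (2514, 3161), (2515, 3164), (2516, 1865), (2517, 2517), (2518, 2518), (2519, 2899), (2520, 3157), (2521, 1873), (2522, 2522), (2523, 2523), (2524, 2524), (2525, 3322), (2526, 1878), (2527, 2527), (2528, 1880), (2529, 1892), (2530, 1894), (2531, 1895), (2532, 1897), (2533, 1898), (2534, 1901), (2535, 1902), (2536, 1903), (2537, 1907), (2538, 1908), (2539, 3344), (2540, 1910), (2541, 1911), (2542, 1889), (2543, 3326), (2544, 2544), (2545, 3327), (2546, 3328), (2547, 2547), (2548, 2548), (2549, 3329), (2550, 3330), (2551, 3331), (2552, 2552), (2553, 2553), (2554, 3332), (2555, 3333), (2556, 3334), (2557, 2557), (2558, 2558), (2559, 2559)]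
    ⟨e3 q2496 L583394 q3196, e3 q2497 (flp_h L35222) q3244, e3 q2498 (flp_h L625732) q3176, e3 q2499 (flp_h L25400) q1844, e3 q2500 (flp_h L625824) q3190, e3 q2501 (flp_h L25418) q1845, e3 q2502 (flp_h L583558) q2924, e3 q2503 (flp_h L583514) q2949, e3 q2504 (flp_h L35452) q3256, e3 q2505 L597960 q3184, e3 q2506 (flp_h L583500) q3209, e3 q2507 (flp_h L625843) q3191, e3 q2508 (flp_h L25589) q1853, e3 q2509 L25601 q2509, e3 q2510 (flp_h L25610) q1855, e3 q2511 (flp_h L559533) q2968, e3 q2512 L578495 q2913, e3 q2513 L479217 q2903, e3 q2514 (flp_h L597687) q3161, e3 q2515 L603710 q3164, e3 q2516 (flp_h L25925) q1865, e3 q2517 L25938 q2517, e3 q2518 L26092 q2518, e3 q2519 (flp_h L572592) q2899, e3 q2520 (flp_h L557905) q3157, e3 q2521 (flp_h L26384) q1873, e3 q2522 L26400 q2522, e3 q2523 L26418 q2523, e3 q2524 L26708 q2524, e3 q2525 L38311 q3322, e3 q2526 (flp_h L26722) q1878, e3 q2527 L26740 q2527, e3 q2528 (flp_h L26741) q1880, e3 q2529 L26760 q1892, e3 q2530 L26768 q1894, e3 q2531 L26777 q1895, e3 q2532 L26786 q1897, e3 q2533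 L26797 q1898, e3 q2534 L26806 q1901, e3 q2535 L26817 q1902, e3 q2536 L26825 q1903, e3 q2537 L26834 q1907, e3 q2538 L26844 q1908, e3 q2539 L38519 q3344, e3 q2540 L26860 q1910, e3 q2541 L26870 q1911, e3 q2542 (flp_h L26873) q1889, e3 q2543 (flp_h L38357) q3326, e3 q2544 L26904 q2544, e3 q2545 (flp_h L38366) q3327, e3 q2546 (flp_h L38376) q3328, e3 q2547 L26927 q2547, e3 q2548 L26937 q2548, e3 q2549 (flp_h L38385) q3329, e3 q2550 (flp_h L38395) q3330, e3 q2551 (flp_h L38402) q3331, e3 q2552 L26968 q2552, e3 q2553 L26980 q2553, e3 q2554 (flp_h L38413) q3332, e3 q2555 (flp_h L38425) q3333, e3 q2556 (flp_h L38435) q3334, e3 q2557 L27015 q2557, e3 q2558 L27026 q2558, e3 q2559 L27035 q2559, trivial⟩ (by decide +kernel)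

theorem ce_h_40 : ∀ r, r < 64 → sm gh (Qf (2560 + r)) = Qf (tab Gen.h (2560 + r)) :=
  edges_tab (sm gh) Qf (tab Gen.h) 2560 [(2560, 3335), (2561, 3336), (2562, 3379), (2563, 3338), (2564, 3339), (2565, 2565), (2566, 3385), (2567, 2567), (2568, 2568), (2569, 3340), (2570, 3392), (2571, 3342), (2572, 3396), (2573, 1909), (2574, 3345), (2575, 3346), (2576, 1913), (2577, 1914), (2578, 3399), (2579, 3400), (2580, 3401), (2581, 2581), (2582, 2582), (2583, 3411), (2584, 2584), (2585, 2585), (2586, 1920), (2587, 1921), (2588, 1922), (2589, 3414), (2590, 3415), (2591, 3423), (2592, 3417), (2593, 3418), (2594, 2594), (2595, 3430), (2596, 2596), (2597, 3434), (2598, 1925), (2599, 2599), (2600, 2600), (2601, 1931), (2602, 1932), (2603, 3441), (2604, 1934), (2605, 1935), (2606, 3437), (2607, 3448), (2608, 3439), (2609, 3452), (2610, 1933), (2611, 3442), (2612, 3443), (2613, 3457), (2614, 2614), (2615, 3460), (2616, 3463), (2617, 1937), (2618, 2618), (2619, 3467), (2620, 3469), (2621, 1939), (2622, 3453), (2623, 2623)]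
    ⟨e3 q2560 (flp_h L38444) q3335, e3 q2561 (flp_h L38455) q3336, e3 q2562 L38841 q3379, e3 q2563 (flp_h L38471) q3338, e3 q2564 (flp_h L38479) q3339, e3 q2565 L27092 q2565, e3 q2566 L38904 q3385, e3 q2567 L27111 q2567, e3 q2568 L27122 q2568, e3 q2569 (flp_h L38491) q3340, e3 q2570 L38964 q3392, e3 q2571 (flp_h L38507) q3342, e3 q2572 L38993 q3396, e3 q2573 (flp_h L27154) q1909, e3 q2574 (flp_h L38533) q3345, e3 q2575 (flp_h L38542) q3346, e3 q2576 L27183 q1913, e3 q2577 L27194 q1914, e3 q2578 (flp_h L39023) q3399, e3 q2579 (flp_h L39035) q3400, e3 q2580 (flp_h L39045) q3401, e3 q2581 L27237 q2581, e3 q2582 L27247 q2582, e3 q2583 L39134 q3411, e3 q2584 L27263 q2584, e3 q2585 L27270 q2585, e3 q2586 L27278 q1920, e3 q2587 L27289 q1921, e3 q2588 L27297 q1922, e3 q2589 (flp_h L39167) q3414, e3 q2590 (flp_h L39178) q3415, e3 q2591 L39244 q3423, e3 q2592 (flp_h L39194) q3417, e3 q2593 (flp_h L39204) q3418, e3 q2594 L27355 q2594, e3 q2595 L39300 q3430, e3 q2596 L27369 q2596, e3 q2597 L39331 q3434, e3 q2598 (flp_h L27376) q1925,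 e3 q2599 L27390 q2599, e3 q2600 L27400 q2600, e3 q2601 L27408 q1931, e3 q2602 L27418 q1932, e3 q2603 L39390 q3441, e3 q2604 L27434 q1934, e3 q2605 L27446 q1935, e3 q2606 (flp_h L39361) q3437, e3 q2607 L39457 q3448, e3 q2608 (flp_h L39377) q3439, e3 q2609 L39490 q3452, e3 q2610 (flp_h L27485) q1933, e3 q2611 (flp_h L39405) q3442, e3 q2612 (flp_h L39415) q3443, e3 q2613 L39530 q3457, e3 q2614 L27524 q2614, e3 q2615 L39554 q3460, e3 q2616 L39576 q3463, e3 q2617 (flp_h L27540) q1937, e3 q2618 L27555 q2618, e3 q2619 L39608 q3467, e3 q2620 L39622 q3469, e3 q2621 (flp_h L27569) q1939, e3 q2622 (flp_h L39502) q3453, e3 q2623 L27590 q2623, trivial⟩ (by decide +kernel)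

theorem ce_h_41 : ∀ r, r < 64 → sm gh (Qf (2624 + r)) = Qf (tab Gen.h (2624 + r)) :=
  edges_tab (sm gh) Qf (tab Gen.h) 2624 [(2624, 2624), (2625, 2625), (2626, 2462), (2627, 2627), (2628, 2628), (2629, 1951), (2630, 2260), (2631, 1953), (2632, 3480), (2633, 1948), (2634, 1956), (2635, 1957), (2636, 2054), (2637, 3475), (2638, 2052), (2639, 3487), (2640, 1952), (2641, 3477), (2642, 3490), (2643, 3492), (2644, 1954), (2645, 1967), (2646, 3481), (2647, 2072), (2648, 3497), (2649, 1958), (2650, 2650), (2651, 3501), (2652, 1960), (2653, 3503), (2654, 3505), (2655, 1961), (2656, 2063), (2657, 2657), (2658, 3509), (2659, 1964), (2660, 3512), (2661, 1965), (2662, 3493), (2663, 2663), (2664, 3515), (2665, 1970), (2666, 3516), (2667, 2667), (2668, 2668), (2669, 1973), (2670, 1975), (2671, 3523), (2672, 3524), (2673, 2673), (2674, 2674), (2675, 2675), (2676, 2676), (2677, 1980), (2678, 1981), (2679, 2332), (2680, 3535), (2681, 3536), (2682, 2682), (2683, 2683), (2684, 3545), (2685, 2685), (2686, 2686), (2687, 1986)]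
    ⟨e3 q2624 L27599 q2624, e3 q2625 L27609 q2625, e3 q2626 (flp_h L527990) q2462, e3 q2627 L27626 q2627, e3 q2628 L27636 q2628, e3 q2629 L27647 q1951, e3 q2630 (flp_h L536466) q2260, e3 q2631 L27664 q1953, e3 q2632 L39765 q3480, e3 q2633 (flp_h L27674) q1948, e3 q2634 L27687 q1956, e3 q2635 L27696 q1957, e3 q2636 L536713 q2054, e3 q2637 (flp_h L39716) q3475, e3 q2638 (flp_h L545857) q2052, e3 q2639 L39867 q3487, e3 q2640 (flp_h L27739) q1952, e3 q2641 (flp_h L39748) q3477, e3 q2642 L39901 q3490, e3 q2643 L39920 q3492, e3 q2644 (flp_h L27773) q1954, e3 q2645 L27788 q1967, e3 q2646 (flp_h L39788) q3481, e3 q2647 (flp_h L563445) q2072, e3 q2648 L39979 q3497, e3 q2649 (flp_h L27816) q1958, e3 q2650 L27832 q2650, e3 q2651 L40022 q3501, e3 q2652 (flp_h L27841) q1960, e3 q2653 L40053 q3503, e3 q2654 L40070 q3505, e3 q2655 (flp_h L27864) q1961, e3 q2656 L563437 q2063, e3 q2657 L27887 q2657, e3 q2658 L40100 q3509, e3 q2659 (flp_h L27895) q1964, e3 q2660 L40124 q3512, e3 q2661 (flp_h L27912) q1965, e3 q2662 (flp_h L39934) q3493, e3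 q2663 L27936 q2663, e3 q2664 L40153 q3515, e3 q2665 (flp_h L27951) q1970, e3 q2666 (flp_h L40175) q3516, e3 q2667 L27980 q2667, e3 q2668 L27989 q2668, e3 q2669 (flp_h L27991) q1973, e3 q2670 L28013 q1975, e3 q2671 (flp_h L40241) q3523, e3 q2672 (flp_h L40252) q3524, e3 q2673 L28040 q2673, e3 q2674 L28050 q2674, e3 q2675 L28059 q2675, e3 q2676 L28070 q2676, e3 q2677 L28077 q1980, e3 q2678 L28087 q1981, e3 q2679 (flp_h L593242) q2332, e3 q2680 (flp_h L40365) q3535, e3 q2681 (flp_h L40373) q3536, e3 q2682 L28124 q2682, e3 q2683 L28133 q2683, e3 q2684 L40453 q3545, e3 q2685 L28144 q2685, e3 q2686 L28155 q2686, e3 q2687 L28163 q1986, trivial⟩ (by decide +kernel)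

theorem ce_h_42 : ∀ r, r < 64 → sm gh (Qf (2688 + r)) = Qf (tab Gen.h (2688 + r)) :=
  edges_tab (sm gh) Qf (tab Gen.h) 2688 [(2688, 1987), (2689, 2320), (2690, 3548), (2691, 3549), (2692, 2692), (2693, 2693), (2694, 3558), (2695, 2695), (2696, 2696), (2697, 1994), (2698, 1995), (2699, 2296), (2700, 3567), (2701, 3562), (2702, 3563), (2703, 2703), (2704, 3574), (2705, 2705), (2706, 3578), (2707, 1998), (2708, 2708), (2709, 2709), (2710, 3582), (2711, 2005), (2712, 2006), (2713, 3587), (2714, 2310), (2715, 3591), (2716, 2004), (2717, 3583), (2718, 3584), (2719, 3596), (2720, 2720), (2721, 3599), (2722, 3602), (2723, 2008), (2724, 2724), (2725, 3606), (2726, 3608), (2727, 2010), (2728, 3592), (2729, 2729), (2730, 2730), (2731, 2731), (2732, 3614), (2733, 2733), (2734, 2734), (2735, 2079), (2736, 3621), (2737, 2081), (2738, 3625), (2739, 2019), (2740, 2084), (2741, 2085), (2742, 2742), (2743, 3632), (2744, 2744), (2745, 3636), (2746, 2024), (2747, 2747), (2748, 2748), (2749, 3641), (2750, 2087), (2751, 3644)]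
    ⟨e3 q2688 L28175 q1987, e3 q2689 (flp_h L593233) q2320, e3 q2690 (flp_h L40497) q3548, e3 q2691 (flp_h L40508) q3549, e3 q2692 L28216 q2692, e3 q2693 L28227 q2693, e3 q2694 L40597 q3558, e3 q2695 L28243 q2695, e3 q2696 L28251 q2696, e3 q2697 L28270 q1994, e3 q2698 L28279 q1995, e3 q2699 (flp_h L593249) q2296, e3 q2700 L40709 q3567, e3 q2701 (flp_h L40659) q3562, e3 q2702 (flp_h L40668) q3563, e3 q2703 L28337 q2703, e3 q2704 L40765 q3574, e3 q2705 L28350 q2705, e3 q2706 L40795 q3578, e3 q2707 (flp_h L28358) q1998, e3 q2708 L28371 q2708, e3 q2709 L28383 q2709, e3 q2710 L40856 q3582, e3 q2711 L28418 q2005, e3 q2712 L28429 q2006, e3 q2713 L40921 q3587, e3 q2714 (flp_h L593384) q2310, e3 q2715 L40953 q3591, e3 q2716 (flp_h L28469) q2004, e3 q2717 (flp_h L40870) q3583, e3 q2718 (flp_h L40880) q3584, e3 q2719 L40993 q3596, e3 q2720 L28508 q2720, e3 q2721 L41018 q3599, e3 q2722 L41037 q3602, e3 q2723 (flp_h L28524) q2008, e3 q2724 L28537 q2724, e3 q2725 L41068 q3606, e3 q2726 L41084 q3608, e3 q2727 (flp_h L28552) q2010, e3 q2728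 (flp_h L40967) q3592, e3 q2729 L28574 q2729, e3 q2730 L28584 q2730, e3 q2731 L28597 q2731, e3 q2732 L41144 q3614, e3 q2733 L28615 q2733, e3 q2734 L28625 q2734, e3 q2735 L28639 q2079, e3 q2736 L41208 q3621, e3 q2737 L28656 q2081, e3 q2738 L41239 q3625, e3 q2739 (flp_h L28666) q2019, e3 q2740 L28680 q2084, e3 q2741 L28690 q2085, e3 q2742 L28703 q2742, e3 q2743 L41303 q3632, e3 q2744 L28720 q2744, e3 q2745 L41337 q3636, e3 q2746 (flp_h L28731) q2024, e3 q2747 L28743 q2747, e3 q2748 L28756 q2748, e3 q2749 L41377 q3641, e3 q2750 L28773 q2087, e3 q2751 L41404 q3644, trivial⟩ (by decide +kernel)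

theorem ce_h_43 : ∀ r, r < 64 → sm gh (Qf (2752 + r)) = Qf (tab Gen.h (2752 + r)) :=
  edges_tab (sm gh) Qf (tab Gen.h) 2752 [(2752, 3647), (2753, 2028), (2754, 2091), (2755, 3651), (2756, 3653), (2757, 2030), (2758, 3637), (2759, 2096), (2760, 3657), (2761, 2761), (2762, 3660), (2763, 3663), (2764, 2035), (2765, 2765), (2766, 3667), (2767, 3669), (2768, 2037), (2769, 2050), (2770, 2770), (2771, 3673), (2772, 3676), (2773, 2041), (2774, 2100), (2775, 3681), (2776, 2043), (2777, 3685), (2778, 3687), (2779, 2044), (2780, 3664), (2781, 2107), (2782, 3691), (2783, 2047), (2784, 3694), (2785, 2048), (2786, 3670), (2787, 3484), (2788, 2788), (2789, 3482), (2790, 3702), (2791, 3704), (2792, 2055), (2793, 2793), (2794, 3707), (2795, 2058), (2796, 3710), (2797, 2059), (2798, 2078), (2799, 3506), (2800, 3715), (2801, 3717), (2802, 2064), (2803, 2117), (2804, 3720), (2805, 3722), (2806, 2067), (2807, 3725), (2808, 2069), (2809, 3728), (2810, 2070), (2811, 3494), (2812, 3731), (2813, 3732), (2814, 2074), (2815, 3692)]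
    ⟨e3 q2752 L41423 q3647, e3 q2753 (flp_h L28788) q2028, e3 q2754 L28803 q2091, e3 q2755 L41456 q3651, e3 q2756 L41468 q3653, e3 q2757 (flp_h L28818) q2030, e3 q2758 (flp_h L41349) q3637, e3 q2759 L28840 q2096, e3 q2760 L41503 q3657, e3 q2761 L28858 q2761, e3 q2762 L41531 q3660, e3 q2763 L41553 q3663, e3 q2764 (flp_h L28879) q2035, e3 q2765 L28893 q2765, e3 q2766 L41590 q3667, e3 q2767 L41604 q3669, e3 q2768 (flp_h L28911) q2037, e3 q2769 L28923 q2050, e3 q2770 L28932 q2770, e3 q2771 L41634 q3673, e3 q2772 L41656 q3676, e3 q2773 (flp_h L28951) q2041, e3 q2774 L28968 q2100, e3 q2775 L41697 q3681, e3 q2776 (flp_h L28977) q2043, e3 q2777 L41724 q3685, e3 q2778 L41738 q3687, e3 q2779 (flp_h L28995) q2044, e3 q2780 (flp_h L41567) q3664, e3 q2781 L29019 q2107, e3 q2782 L41768 q3691, e3 q2783 (flp_h L29029) q2047, e3 q2784 L41789 q3694, e3 q2785 (flp_h L29041) q2048, e3 q2786 (flp_h L41617) q3670, e3 q2787 L545833 q3484, e3 q2788 L29091 q2788, e3 q2789 (flp_h L536629) q3482, e3 q2790 L41933 q3702, e3 q2791 L41950 q3704, e3 q2792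 (flp_h L29128) q2055, e3 q2793 L29152 q2793, e3 q2794 L41984 q3707, e3 q2795 (flp_h L29164) q2058, e3 q2796 L42006 q3710, e3 q2797 (flp_h L29181) q2059, e3 q2798 L29197 q2078, e3 q2799 L562562 q3506, e3 q2800 L42085 q3715, e3 q2801 L42102 q3717, e3 q2802 (flp_h L29239) q2064, e3 q2803 L29266 q2117, e3 q2804 L42135 q3720, e3 q2805 L42152 q3722, e3 q2806 (flp_h L29283) q2067, e3 q2807 L42182 q3725, e3 q2808 (flp_h L29306) q2069, e3 q2809 L42204 q3728, e3 q2810 (flp_h L29321) q2070, e3 q2811 (flp_h L563515) q3494, e3 q2812 L42230 q3731, e3 q2813 L42237 q3732, e3 q2814 (flp_h L29351) q2074, e3 q2815 (flp_h L41781) q3692, trivial⟩ (by decide +kernel)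

theorem ce_h_44 : ∀ r, r < 64 → sm gh (Qf (2816 + r)) = Qf (tab Gen.h (2816 + r)) :=
  edges_tab (sm gh) Qf (tab Gen.h) 2816 [(2816, 3709), (2817, 2076), (2818, 3711), (2819, 3740), (2820, 3618), (2821, 3743), (2822, 3746), (2823, 2080), (2824, 3622), (2825, 3750), (2826, 3752), (2827, 2082), (2828, 2828), (2829, 3627), (2830, 3755), (2831, 3758), (2832, 2086), (2833, 3642), (2834, 3763), (2835, 2088), (2836, 3767), (2837, 3769), (2838, 2089), (2839, 2839), (2840, 3649), (2841, 3773), (2842, 2092), (2843, 3776), (2844, 2093), (2845, 2845), (2846, 3780), (2847, 2097), (2848, 3783), (2849, 3785), (2850, 2098), (2851, 2851), (2852, 3678), (2853, 3788), (2854, 3790), (2855, 2101), (2856, 2315), (2857, 2857), (2858, 3797), (2859, 2103), (2860, 3800), (2861, 2104), (2862, 2862), (2863, 3803), (2864, 3804), (2865, 2108), (2866, 2126), (2867, 2867), (2868, 2110), (2869, 2869), (2870, 3812), (2871, 2113), (2872, 3815), (2873, 2114), (2874, 2874), (2875, 3818), (2876, 3819), (2877, 2118), (2878, 3798), (2879, 2879)]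
    ⟨e3 q2816 (flp_h L42004) q3709, e3 q2817 (flp_h L29372) q2076, e3 q2818 (flp_h L42023) q3711, e3 q2819 L42307 q3740, e3 q2820 (flp_h L41190) q3618, e3 q2821 L42336 q3743, e3 q2822 L42362 q3746, e3 q2823 (flp_h L29431) q2080, e3 q2824 (flp_h L41224) q3622, e3 q2825 L42398 q3750, e3 q2826 L42417 q3752, e3 q2827 (flp_h L29465) q2082, e3 q2828 L29481 q2828, e3 q2829 (flp_h L41263) q3627, e3 q2830 L42452 q3755, e3 q2831 L42479 q3758, e3 q2832 (flp_h L29510) q2086, e3 q2833 (flp_h L41394) q3642, e3 q2834 L42523 q3763, e3 q2835 (flp_h L29537) q2088, e3 q2836 L42554 q3767, e3 q2837 L42570 q3769, e3 q2838 (flp_h L29561) q2089, e3 q2839 L29574 q2839, e3 q2840 (flp_h L41448) q3649, e3 q2841 L42602 q3773, e3 q2842 (flp_h L29593) q2092, e3 q2843 L42623 q3776, e3 q2844 (flp_h L29609) q2093, e3 q2845 L29623 q2845, e3 q2846 L42677 q3780, e3 q2847 (flp_h L29643) q2097, e3 q2848 L42712 q3783, e3 q2849 L42730 q3785, e3 q2850 (flp_h L29669) q2098, e3 q2851 L29684 q2851, e3 q2852 (flp_h L41683) q3678, e3 q2853 L42755 q3788, e3 q2854 L42773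 q3790, e3 q2855 (flp_h L29713) q2101, e3 q2856 L29725 q2315, e3 q2857 L29734 q2857, e3 q2858 L42828 q3797, e3 q2859 (flp_h L29744) q2103, e3 q2860 L42853 q3800, e3 q2861 (flp_h L29760) q2104, e3 q2862 L29773 q2862, e3 q2863 L42876 q3803, e3 q2864 L42883 q3804, e3 q2865 (flp_h L29792) q2108, e3 q2866 L29805 q2126, e3 q2867 L29815 q2867, e3 q2868 (flp_h L29816) q2110, e3 q2869 L29829 q2869, e3 q2870 L42950 q3812, e3 q2871 (flp_h L29839) q2113, e3 q2872 L42978 q3815, e3 q2873 (flp_h L29860) q2114, e3 q2874 L29878 q2874, e3 q2875 L43007 q3818, e3 q2876 L43016 q3819, e3 q2877 (flp_h L29896) q2118, e3 q2878 (flp_h L42842) q3798, e3 q2879 L29920 q2879, trivial⟩ (by decide +kernel)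

theorem ce_h_45 : ∀ r, r < 64 → sm gh (Qf (2880 + r)) = Qf (tab Gen.h (2880 + r)) :=
  edges_tab (sm gh) Qf (tab Gen.h) 2880 [(2880, 2120), (2881, 2881), (2882, 3826), (2883, 2123), (2884, 2124), (2885, 3805), (2886, 2886), (2887, 3807), (2888, 3835), (2889, 2889), (2890, 2136), (2891, 2130), (2892, 2892), (2893, 2893), (2894, 2894), (2895, 2895), (2896, 3825), (2897, 3840), (2898, 2898), (2899, 2519), (2900, 3843), (2901, 2141), (2902, 2143), (2903, 2513), (2904, 3845), (2905, 2905), (2906, 2906), (2907, 2907), (2908, 2146), (2909, 2909), (2910, 2910), (2911, 2151), (2912, 2321), (2913, 2512), (2914, 3855), (2915, 2915), (2916, 2916), (2917, 3864), (2918, 2918), (2919, 2919), (2920, 2920), (2921, 2161), (2922, 2333), (2923, 2923), (2924, 2502), (2925, 3868), (2926, 2926), (2927, 3878), (2928, 2928), (2929, 3882), (2930, 2164), (2931, 2931), (2932, 2932), (2933, 2170), (2934, 2285), (2935, 2419), (2936, 2493), (2937, 3884), (2938, 2938), (2939, 3894), (2940, 2940), (2941, 3898), (2942, 2173), (2943, 2943)]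
    ⟨e3 q2880 (flp_h L29921) q2120, e3 q2881 L29938 q2881, e3 q2882 L43074 q3826, e3 q2883 (flp_h L29948) q2123, e3 q2884 (flp_h L29957) q2124, e3 q2885 (flp_h L42897) q3805, e3 q2886 L29981 q2886, e3 q2887 (flp_h L42913) q3807, e3 q2888 L43146 q3835, e3 q2889 L30005 q2889, e3 q2890 L647477 q2136, e3 q2891 (flp_h L30015) q2130, e3 q2892 L30031 q2892, e3 q2893 L30040 q2893, e3 q2894 L30066 q2894, e3 q2895 L30081 q2895, e3 q2896 L647500 q3825, e3 q2897 L43281 q3840, e3 q2898 L30118 q2898, e3 q2899 L572592 q2519, e3 q2900 L43340 q3843, e3 q2901 (flp_h L30155) q2141, e3 q2902 L30174 q2143, e3 q2903 (flp_h L479217) q2513, e3 q2904 (flp_h L43377) q3845, e3 q2905 L30204 q2905, e3 q2906 L30214 q2906, e3 q2907 L30221 q2907, e3 q2908 (flp_h L30223) q2146, e3 q2909 L434299 q2909, e3 q2910 L30278 q2910, e3 q2911 L30296 q2151, e3 q2912 (flp_h L594235) q2321, e3 q2913 (flp_h L578495) q2512, e3 q2914 (flp_h L43550) q3855, e3 q2915 L30336 q2915, e3 q2916 L30345 q2916, e3 q2917 L43639 q3864, e3 q2918 L30362 q2918, e3 q2919 L30372 q2919, e3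 q2920 L30432 q2920, e3 q2921 L30458 q2161, e3 q2922 (flp_h L593821) q2333, e3 q2923 L438765 q2923, e3 q2924 L583558 q2502, e3 q2925 (flp_h L43798) q3868, e3 q2926 L30516 q2926, e3 q2927 L43892 q3878, e3 q2928 L30527 q2928, e3 q2929 L43923 q3882, e3 q2930 (flp_h L30537) q2164, e3 q2931 L30553 q2931, e3 q2932 L30563 q2932, e3 q2933 L30613 q2170, e3 q2934 (flp_h L594204) q2285, e3 q2935 L589503 q2419, e3 q2936 L589310 q2493, e3 q2937 (flp_h L44025) q3884, e3 q2938 L30675 q2938, e3 q2939 L44135 q3894, e3 q2940 L30690 q2940, e3 q2941 L44168 q3898, e3 q2942 (flp_h L30701) q2173, e3 q2943 L30718 q2943, trivial⟩ (by decide +kernel)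

theorem ce_h_46 : ∀ r, r < 64 → sm gh (Qf (2944 + r)) = Qf (tab Gen.h (2944 + r)) :=
  edges_tab (sm gh) Qf (tab Gen.h) 2944 [(2944, 2944), (2945, 2180), (2946, 2224), (2947, 2297), (2948, 2435), (2949, 2503), (2950, 3901), (2951, 3910), (2952, 2952), (2953, 3913), (2954, 3916), (2955, 2182), (2956, 2956), (2957, 3920), (2958, 3922), (2959, 2184), (2960, 2427), (2961, 2961), (2962, 2193), (2963, 2246), (2964, 2247), (2965, 2311), (2966, 2453), (2967, 2454), (2968, 2511), (2969, 3932), (2970, 3935), (2971, 2194), (2972, 2972), (2973, 3939), (2974, 2196), (2975, 3942), (2976, 3944), (2977, 2197), (2978, 2235), (2979, 2979), (2980, 3948), (2981, 2200), (2982, 3951), (2983, 2201), (2984, 2444), (2985, 2985), (2986, 3957), (2987, 2987), (2988, 3961), (2989, 2207), (2990, 2990), (2991, 2991), (2992, 3885), (2993, 2286), (2994, 3968), (2995, 3971), (2996, 2211), (2997, 2290), (2998, 3897), (2999, 3896), (3000, 2213), (3001, 3962), (3002, 2295), (3003, 3917), (3004, 3004), (3005, 3978), (3006, 3981), (3007, 2218)]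
    ⟨e3 q2944 L30727 q2944, e3 q2945 L30797 q2180, e3 q2946 L589523 q2224, e3 q2947 (flp_h L538163) q2297, e3 q2948 L589507 q2435, e3 q2949 L583514 q2503, e3 q2950 (flp_h L44308) q3901, e3 q2951 L44427 q3910, e3 q2952 L30881 q2952, e3 q2953 L44452 q3913, e3 q2954 L44474 q3916, e3 q2955 (flp_h L30895) q2182, e3 q2956 L30907 q2956, e3 q2957 L44504 q3920, e3 q2958 L44523 q3922, e3 q2959 (flp_h L30927) q2184, e3 q2960 (flp_h L589597) q2427, e3 q2961 L30954 q2961, e3 q2962 L31060 q2193, e3 q2963 L591041 q2246, e3 q2964 (flp_h L589663) q2247, e3 q2965 L559516 q2311, e3 q2966 (flp_h L457396) q2453, e3 q2967 (flp_h L589644) q2454, e3 q2968 L559533 q2511, e3 q2969 L44859 q3932, e3 q2970 L44884 q3935, e3 q2971 (flp_h L31179) q2194, e3 q2972 L31195 q2972, e3 q2973 L44926 q3939, e3 q2974 (flp_h L31203) q2196, e3 q2975 L44956 q3942, e3 q2976 L44971 q3944, e3 q2977 (flp_h L31224) q2197, e3 q2978 (flp_h L589615) q2235, e3 q2979 L31244 q2979, e3 q2980 L45004 q3948, e3 q2981 (flp_h L31255) q2200, e3 q2982 L45033 q3951, e3 q2983 (flp_h L31274)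 q2201, e3 q2984 L589751 q2444, e3 q2985 L31302 q2985, e3 q2986 L45094 q3957, e3 q2987 L31321 q2987, e3 q2988 L45131 q3961, e3 q2989 (flp_h L31335) q2207, e3 q2990 L31351 q2990, e3 q2991 L31361 q2991, e3 q2992 L589465 q3885, e3 q2993 L31384 q2286, e3 q2994 L45210 q3968, e3 q2995 L45233 q3971, e3 q2996 (flp_h L31401) q2211, e3 q2997 L31416 q2290, e3 q2998 (flp_h L605894) q3897, e3 q2999 (flp_h L623344) q3896, e3 q3000 (flp_h L31434) q2213, e3 q3001 (flp_h L45149) q3962, e3 q3002 L31462 q2295, e3 q3003 L551712 q3917, e3 q3004 L31483 q3004, e3 q3005 L45354 q3978, e3 q3006 L45379 q3981, e3 q3007 (flp_h L31502) q2218, trivial⟩ (by decide +kernel)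

theorem ce_h_47 : ∀ r, r < 64 → sm gh (Qf (3008 + r)) = Qf (tab Gen.h (3008 + r)) :=
  edges_tab (sm gh) Qf (tab Gen.h) 3008 [(3008, 3008), (3009, 3984), (3010, 3986), (3011, 2220), (3012, 2233), (3013, 3013), (3014, 3902), (3015, 3903), (3016, 2298), (3017, 3994), (3018, 2226), (3019, 3997), (3020, 3999), (3021, 2227), (3022, 2304), (3023, 3921), (3024, 2230), (3025, 3919), (3026, 2231), (3027, 3987), (3028, 3930), (3029, 3945), (3030, 3030), (3031, 4008), (3032, 2237), (3033, 4010), (3034, 4012), (3035, 2238), (3036, 3036), (3037, 4015), (3038, 2241), (3039, 4018), (3040, 2242), (3041, 2259), (3042, 3924), (3043, 3925), (3044, 3926), (3045, 2312), (3046, 4026), (3047, 4028), (3048, 2249), (3049, 3682), (3050, 4033), (3051, 2251), (3052, 4034), (3053, 2252), (3054, 3947), (3055, 3946), (3056, 2255), (3057, 4017), (3058, 2257), (3059, 4019), (3060, 3476), (3061, 4040), (3062, 4042), (3063, 2261), (3064, 3064), (3065, 4045), (3066, 4047), (3067, 2264), (3068, 4050), (3069, 2266), (3070, 4052), (3071, 2267)]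
    ⟨e3 q3008 L31515 q3008, e3 q3009 L45415 q3984, e3 q3010 L45432 q3986, e3 q3011 (flp_h L31538) q2220, e3 q3012 L31553 q2233, e3 q3013 L31564 q3013, e3 q3014 (flp_h L551733) q3902, e3 q3015 (flp_h L577732) q3903, e3 q3016 L31600 q2298, e3 q3017 L45533 q3994, e3 q3018 (flp_h L31608) q2226, e3 q3019 L45559 q3997, e3 q3020 L45574 q3999, e3 q3021 (flp_h L31629) q2227, e3 q3022 L31653 q2304, e3 q3023 (flp_h L626768) q3921, e3 q3024 (flp_h L31662) q2230, e3 q3025 L625869 q3919, e3 q3026 (flp_h L31677) q2231, e3 q3027 (flp_h L45448) q3987, e3 q3028 L591094 q3930, e3 q3029 L589637 q3945, e3 q3030 L31731 q3030, e3 q3031 L45744 q4008, e3 q3032 (flp_h L31741) q2237, e3 q3033 L45773 q4010, e3 q3034 L45790 q4012, e3 q3035 (flp_h L31765) q2238, e3 q3036 L31788 q3036, e3 q3037 L45827 q4015, e3 q3038 (flp_h L31802) q2241, e3 q3039 L45854 q4018, e3 q3040 (flp_h L31819) q2242, e3 q3041 L31834 q2259, e3 q3042 (flp_h L590964) q3924, e3 q3043 (flp_h L589697) q3925, e3 q3044 (flp_h L580530) q3926, e3 q3045 L31904 q2312, e3 q3046 L45987 q4026,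 e3 q3047 L46000 q4028, e3 q3048 (flp_h L31917) q2249, e3 q3049 (flp_h L41709) q3682, e3 q3050 L46049 q4033, e3 q3051 (flp_h L31943) q2251, e3 q3052 L46067 q4034, e3 q3053 (flp_h L31959) q2252, e3 q3054 L624133 q3947, e3 q3055 (flp_h L624853) q3946, e3 q3056 (flp_h L31992) q2255, e3 q3057 (flp_h L45852) q4017, e3 q3058 (flp_h L32010) q2257, e3 q3059 (flp_h L45869) q4019, e3 q3060 L543977 q3476, e3 q3061 L46196 q4040, e3 q3062 L46219 q4042, e3 q3063 (flp_h L32077) q2261, e3 q3064 L32095 q3064, e3 q3065 L46246 q4045, e3 q3066 L46265 q4047, e3 q3067 (flp_h L32116) q2264, e3 q3068 L46307 q4050, e3 q3069 (flp_h L32140) q2266, e3 q3070 L46324 q4052, e3 q3071 (flp_h L32159) q2267, trivial⟩ (by decide +kernel)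

theorem ce_h_48 : ∀ r, r < 64 → sm gh (Qf (3072 + r)) = Qf (tab Gen.h (3072 + r)) :=
  edges_tab (sm gh) Qf (tab Gen.h) 3072 [(3072, 4054), (3073, 4055), (3074, 2270), (3075, 4016), (3076, 2272), (3077, 3077), (3078, 3078), (3079, 3079), (3080, 3080), (3081, 3081), (3082, 4066), (3083, 3083), (3084, 3084), (3085, 3085), (3086, 3086), (3087, 3087), (3088, 3550), (3089, 3886), (3090, 3966), (3091, 4076), (3092, 2287), (3093, 4079), (3094, 4081), (3095, 2288), (3096, 3972), (3097, 3863), (3098, 2291), (3099, 3880), (3100, 2292), (3101, 3101), (3102, 3565), (3103, 3870), (3104, 3904), (3105, 3991), (3106, 4090), (3107, 4092), (3108, 2299), (3109, 3764), (3110, 4096), (3111, 2301), (3112, 4098), (3113, 2302), (3114, 3881), (3115, 2305), (3116, 3116), (3117, 3117), (3118, 2307), (3119, 3119), (3120, 3588), (3121, 3927), (3122, 4103), (3123, 2313), (3124, 3791), (3125, 3793), (3126, 2316), (3127, 3127), (3128, 3525), (3129, 3856), (3130, 3846), (3131, 4112), (3132, 4113), (3133, 2323), (3134, 3134), (3135, 4117)]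
    ⟨e3 q3072 L46344 q4054, e3 q3073 L46354 q4055, e3 q3074 (flp_h L32187) q2270, e3 q3075 (flp_h L45842) q4016, e3 q3076 (flp_h L32205) q2272, e3 q3077 L32224 q3077, e3 q3078 L32232 q3078, e3 q3079 L32240 q3079, e3 q3080 L32250 q3080, e3 q3081 L32260 q3081, e3 q3082 L46449 q4066, e3 q3083 L32274 q3083, e3 q3084 L32281 q3084, e3 q3085 L32287 q3085, e3 q3086 L32296 q3086, e3 q3087 L32306 q3087, e3 q3088 L549606 q3550, e3 q3089 (flp_h L538245) q3886, e3 q3090 (flp_h L45201) q3966, e3 q3091 L46592 q4076, e3 q3092 (flp_h L32356) q2287, e3 q3093 L46626 q4079, e3 q3094 L46646 q4081, e3 q3095 (flp_h L32384) q2288, e3 q3096 (flp_h L45259) q3972, e3 q3097 (flp_h L626949) q3863, e3 q3098 (flp_h L32420) q2291, e3 q3099 L625693 q3880, e3 q3100 (flp_h L32442) q2292, e3 q3101 L32459 q3101, e3 q3102 (flp_h L593528) q3565, e3 q3103 (flp_h L593851) q3870, e3 q3104 L559466 q3904, e3 q3105 (flp_h L45520) q3991, e3 q3106 L46861 q4090, e3 q3107 L46878 q4092, e3 q3108 (flp_h L32553) q2299, e3 q3109 (flp_h L42535) q3764, e3 q3110 L46923 q4096, e3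 q3111 (flp_h L32584) q2301, e3 q3112 L46948 q4098, e3 q3113 (flp_h L32601) q2302, e3 q3114 (flp_h L626795) q3881, e3 q3115 (flp_h L32626) q2305, e3 q3116 L32642 q3116, e3 q3117 L32652 q3117, e3 q3118 (flp_h L32653) q2307, e3 q3119 L32671 q3119, e3 q3120 L593405 q3588, e3 q3121 L492749 q3927, e3 q3122 L47127 q4103, e3 q3123 (flp_h L32764) q2313, e3 q3124 (flp_h L42786) q3791, e3 q3125 (flp_h L42801) q3793, e3 q3126 (flp_h L32800) q2316, e3 q3127 L32825 q3127, e3 q3128 L453830 q3525, e3 q3129 (flp_h L471675) q3856, e3 q3130 (flp_h L594287) q3846, e3 q3131 L47321 q4112, e3 q3132 L47330 q4113, e3 q3133 (flp_h L32915) q2323, e3 q3134 L32931 q3134, e3 q3135 L47383 q4117, trivial⟩ (by decide +kernel)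

theorem ce_h_49 : ∀ r, r < 64 → sm gh (Qf (3136 + r)) = Qf (tab Gen.h (3136 + r)) :=
  edges_tab (sm gh) Qf (tab Gen.h) 3136 [(3136, 2325), (3137, 2326), (3138, 3851), (3139, 2328), (3140, 3140), (3141, 3141), (3142, 3142), (3143, 3537), (3144, 4122), (3145, 2334), (3146, 3146), (3147, 3147), (3148, 3148), (3149, 3149), (3150, 4129), (3151, 3151), (3152, 4133), (3153, 3153), (3154, 4135), (3155, 2342), (3156, 3156), (3157, 2520), (3158, 2345), (3159, 3159), (3160, 2349), (3161, 2514), (3162, 4139), (3163, 3163), (3164, 2515), (3165, 3165), (3166, 3166), (3167, 4143), (3168, 2353), (3169, 3169), (3170, 2359), (3171, 3171), (3172, 2495), (3173, 4145), (3174, 4149), (3175, 3175), (3176, 2498), (3177, 2361), (3178, 3178), (3179, 3179), (3180, 2364), (3181, 3181), (3182, 2370), (3183, 3183), (3184, 2505), (3185, 4152), (3186, 4156), (3187, 4158), (3188, 2371), (3189, 3189), (3190, 2500), (3191, 2507), (3192, 2373), (3193, 3193), (3194, 2380), (3195, 2421), (3196, 2496), (3197, 4159), (3198, 2413), (3199, 4163)]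
    ⟨e3 q3136 (flp_h L32950) q2325, e3 q3137 (flp_h L32958) q2326, e3 q3138 (flp_h L625561) q3851, e3 q3139 (flp_h L32986) q2328, e3 q3140 L33003 q3140, e3 q3141 L33013 q3141, e3 q3142 L33024 q3142, e3 q3143 L593815 q3537, e3 q3144 L47575 q4122, e3 q3145 (flp_h L33105) q2334, e3 q3146 L33120 q3146, e3 q3147 L33136 q3147, e3 q3148 L33151 q3148, e3 q3149 L33166 q3149, e3 q3150 L47658 q4129, e3 q3151 L33215 q3151, e3 q3152 L47756 q4133, e3 q3153 L33248 q3153, e3 q3154 L47818 q4135, e3 q3155 (flp_h L33280) q2342, e3 q3156 L411906 q3156, e3 q3157 L557905 q2520, e3 q3158 (flp_h L33324) q2345, e3 q3159 L33340 q3159, e3 q3160 L33356 q2349, e3 q3161 L597687 q2514, e3 q3162 (flp_h L47933) q4139, e3 q3163 L33403 q3163, e3 q3164 (flp_h L603710) q2515, e3 q3165 L33416 q3165, e3 q3166 L33423 q3166, e3 q3167 L48039 q4143, e3 q3168 (flp_h L33435) q2353, e3 q3169 L33528 q3169, e3 q3170 L33556 q2359, e3 q3171 L412668 q3171, e3 q3172 L598034 q2495, e3 q3173 (flp_h L48231) q4145, e3 q3174 L48328 q4149, e3 q3175 L33628 q3175, e3 q3176 L625732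 q2498, e3 q3177 (flp_h L33638) q2361, e3 q3178 L33651 q3178, e3 q3179 L33658 q3179, e3 q3180 (flp_h L33661) q2364, e3 q3181 L33790 q3181, e3 q3182 L33829 q2370, e3 q3183 L441674 q3183, e3 q3184 (flp_h L597960) q2505, e3 q3185 (flp_h L48633) q4152, e3 q3186 L48757 q4156, e3 q3187 L48778 q4158, e3 q3188 (flp_h L33914) q2371, e3 q3189 L33928 q3189, e3 q3190 L625824 q2500, e3 q3191 L625843 q2507, e3 q3192 (flp_h L33942) q2373, e3 q3193 L33961 q3193, e3 q3194 L34047 q2380, e3 q3195 (flp_h L600605) q2421, e3 q3196 (flp_h L583394) q2496, e3 q3197 (flp_h L48962) q4159, e3 q3198 L589411 q2413, e3 q3199 L49134 q4163, trivial⟩ (by decide +kernel)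

theorem ce_h_50 : ∀ r, r < 64 → sm gh (Qf (3200 + r)) = Qf (tab Gen.h (3200 + r)) :=
  edges_tab (sm gh) Qf (tab Gen.h) 3200 [(3200, 2381), (3201, 3201), (3202, 2424), (3203, 2423), (3204, 2383), (3205, 3205), (3206, 2390), (3207, 2437), (3208, 2438), (3209, 2506), (3210, 2429), (3211, 4168), (3212, 4169), (3213, 2392), (3214, 3214), (3215, 2442), (3216, 2395), (3217, 2440), (3218, 2396), (3219, 2456), (3220, 2457), (3221, 2446), (3222, 2447), (3223, 4175), (3224, 2404), (3225, 4177), (3226, 2405), (3227, 2459), (3228, 2458), (3229, 2408), (3230, 3230), (3231, 2410), (3232, 3899), (3233, 3233), (3234, 4162), (3235, 3235), (3236, 4181), (3237, 4180), (3238, 2415), (3239, 3239), (3240, 3887), (3241, 2494), (3242, 4160), (3243, 4161), (3244, 2497), (3245, 3923), (3246, 3246), (3247, 4166), (3248, 4167), (3249, 3249), (3250, 4190), (3251, 2431), (3252, 4189), (3253, 2432), (3254, 3905), (3255, 3906), (3256, 2504), (3257, 4164), (3258, 4165), (3259, 3950), (3260, 3952), (3261, 3261), (3262, 4173), (3263, 4174)]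
    ⟨e3 q3200 (flp_h L34148) q2381, e3 q3201 L34162 q3201, e3 q3202 (flp_h L626188) q2424, e3 q3203 (flp_h L626180) q2423, e3 q3204 (flp_h L34178) q2383, e3 q3205 L34201 q3205, e3 q3206 L34320 q2390, e3 q3207 (flp_h L599272) q2437, e3 q3208 (flp_h L600476) q2438, e3 q3209 L583500 q2506, e3 q3210 L600552 q2429, e3 q3211 L49623 q4168, e3 q3212 L49638 q4169, e3 q3213 (flp_h L34472) q2392, e3 q3214 L34494 q3214, e3 q3215 L603442 q2442, e3 q3216 (flp_h L34501) q2395, e3 q3217 L626641 q2440, e3 q3218 (flp_h L34516) q2396, e3 q3219 (flp_h L541983) q2456, e3 q3220 (flp_h L600353) q2457, e3 q3221 L589777 q2446, e3 q3222 L600437 q2447, e3 q3223 L50360 q4175, e3 q3224 (flp_h L34946) q2404, e3 q3225 L50384 q4177, e3 q3226 (flp_h L34961) q2405, e3 q3227 (flp_h L623878) q2459, e3 q3228 L626649 q2458, e3 q3229 (flp_h L34990) q2408, e3 q3230 L35004 q3230, e3 q3231 (flp_h L35013) q2410, e3 q3232 (flp_h L457640) q3899, e3 q3233 L35045 q3233, e3 q3234 L600618 q4162, e3 q3235 L35083 q3235, e3 q3236 (flp_h L626251) q4181, e3 q3237 (flp_h L626261)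 q4180, e3 q3238 (flp_h L35102) q2415, e3 q3239 L35124 q3239, e3 q3240 L589450 q3887, e3 q3241 L35162 q2494, e3 q3242 (flp_h L446690) q4160, e3 q3243 (flp_h L598766) q4161, e3 q3244 L35222 q2497, e3 q3245 (flp_h L589048) q3923, e3 q3246 L35292 q3246, e3 q3247 (flp_h L599501) q4166, e3 q3248 L600513 q4167, e3 q3249 L35354 q3249, e3 q3250 (flp_h L626544) q4190, e3 q3251 (flp_h L35364) q2431, e3 q3252 (flp_h L625918) q4189, e3 q3253 (flp_h L35377) q2432, e3 q3254 (flp_h L577747) q3905, e3 q3255 (flp_h L589166) q3906, e3 q3256 L35452 q2504, e3 q3257 L599612 q4164, e3 q3258 L599625 q4165, e3 q3259 L589813 q3950, e3 q3260 L589817 q3952, e3 q3261 L35637 q3261, e3 q3262 (flp_h L589801) q4173, e3 q3263 (flp_h L600417) q4174, trivial⟩ (by decide +kernel)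

theorem ce_h_51 : ∀ r, r < 64 → sm gh (Qf (3264 + r)) = Qf (tab Gen.h (3264 + r)) :=
  edges_tab (sm gh) Qf (tab Gen.h) 3264 [(3264, 4196), (3265, 4195), (3266, 2449), (3267, 2480), (3268, 2451), (3269, 3928), (3270, 3929), (3271, 4170), (3272, 4171), (3273, 3472), (3274, 4204), (3275, 4206), (3276, 2463), (3277, 4209), (3278, 2465), (3279, 4211), (3280, 2466), (3281, 3281), (3282, 4215), (3283, 2469), (3284, 4216), (3285, 2470), (3286, 3286), (3287, 4218), (3288, 4219), (3289, 2473), (3290, 4172), (3291, 2475), (3292, 4220), (3293, 2477), (3294, 2478), (3295, 4197), (3296, 2487), (3297, 3297), (3298, 3298), (3299, 4057), (3300, 3300), (3301, 3301), (3302, 3302), (3303, 3303), (3304, 4221), (3305, 3305), (3306, 3306), (3307, 3307), (3308, 3858), (3309, 3888), (3310, 4185), (3311, 4147), (3312, 4157), (3313, 3872), (3314, 3907), (3315, 4155), (3316, 3847), (3317, 4141), (3318, 3842), (3319, 3319), (3320, 3320), (3321, 4235), (3322, 2525), (3323, 3323), (3324, 3324), (3325, 3325), (3326, 2543), (3327, 2545)]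
    ⟨e3 q3264 (flp_h L626554) q4196, e3 q3265 L623904 q4195, e3 q3266 (flp_h L35736) q2449, e3 q3267 L35747 q2480, e3 q3268 (flp_h L35757) q2451, e3 q3269 (flp_h L589887) q3928, e3 q3270 (flp_h L589172) q3929, e3 q3271 (flp_h L589908) q4170, e3 q3272 L587524 q4171, e3 q3273 (flp_h L527324) q3472, e3 q3274 L51953 q4204, e3 q3275 L51975 q4206, e3 q3276 (flp_h L36048) q2463, e3 q3277 L52022 q4209, e3 q3278 (flp_h L36075) q2465, e3 q3279 L52039 q4211, e3 q3280 (flp_h L36094) q2466, e3 q3281 L429665 q3281, e3 q3282 L52082 q4215, e3 q3283 (flp_h L36120) q2469, e3 q3284 L52098 q4216, e3 q3285 (flp_h L36140) q2470, e3 q3286 L36157 q3286, e3 q3287 L52141 q4218, e3 q3288 L52150 q4219, e3 q3289 (flp_h L36184) q2473, e3 q3290 L514099 q4172, e3 q3291 (flp_h L36201) q2475, e3 q3292 L605184 q4220, e3 q3293 (flp_h L36219) q2477, e3 q3294 (flp_h L36227) q2478, e3 q3295 (flp_h L51530) q4197, e3 q3296 L491607 q2487, e3 q3297 L36255 q3297, e3 q3298 L36263 q3298, e3 q3299 L560723 q4057, e3 q3300 L36280 q3300, e3 q3301 L36289 q3301, e3 q3302 L36295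 q3302, e3 q3303 L36304 q3303, e3 q3304 L560787 q4221, e3 q3305 L36324 q3305, e3 q3306 L36334 q3306, e3 q3307 L36343 q3307, e3 q3308 L578528 q3858, e3 q3309 (flp_h L589301) q3888, e3 q3310 (flp_h L50667) q4185, e3 q3311 (flp_h L583650) q4147, e3 q3312 (flp_h L625684) q4157, e3 q3313 L585724 q3872, e3 q3314 (flp_h L589175) q3907, e3 q3315 L583421 q4155, e3 q3316 L578269 q3847, e3 q3317 (flp_h L464570) q4141, e3 q3318 L557413 q3842, e3 q3319 L37882 q3319, e3 q3320 L37900 q3320, e3 q3321 L55038 q4235, e3 q3322 (flp_h L38311) q2525, e3 q3323 L38330 q3323, e3 q3324 L38336 q3324, e3 q3325 L38344 q3325, e3 q3326 L38357 q2543, e3 q3327 L38366 q2545, trivial⟩ (by decide +kernel)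

theorem ce_h_52 : ∀ r, r < 64 → sm gh (Qf (3328 + r)) = Qf (tab Gen.h (3328 + r)) :=
  edges_tab (sm gh) Qf (tab Gen.h) 3328 [(3328, 2546), (3329, 2549), (3330, 2550), (3331, 2551), (3332, 2554), (3333, 2555), (3334, 2556), (3335, 2560), (3336, 2561), (3337, 4261), (3338, 2563), (3339, 2564), (3340, 2569), (3341, 4268), (3342, 2571), (3343, 4272), (3344, 2539), (3345, 2574), (3346, 2575), (3347, 3347), (3348, 4242), (3349, 4243), (3350, 3350), (3351, 3351), (3352, 4244), (3353, 4245), (3354, 4246), (3355, 3355), (3356, 3356), (3357, 3357), (3358, 4247), (3359, 4248), (3360, 4296), (3361, 4250), (3362, 4251), (3363, 3363), (3364, 3364), (3365, 3365), (3366, 4252), (3367, 4253), (3368, 4307), (3369, 4255), (3370, 4256), (3371, 3371), (3372, 4313), (3373, 3373), (3374, 3374), (3375, 4257), (3376, 4320), (3377, 4259), (3378, 4324), (3379, 2562), (3380, 4262), (3381, 4263), (3382, 4329), (3383, 3383), (3384, 4333), (3385, 2566), (3386, 3386), (3387, 3387), (3388, 4338), (3389, 4265), (3390, 4341), (3391, 4344)]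
    ⟨e3 q3328 L38376 q2546, e3 q3329 L38385 q2549, e3 q3330 L38395 q2550, e3 q3331 L38402 q2551, e3 q3332 L38413 q2554, e3 q3333 L38425 q2555, e3 q3334 L38435 q2556, e3 q3335 L38444 q2560, e3 q3336 L38455 q2561, e3 q3337 L55285 q4261, e3 q3338 L38471 q2563, e3 q3339 L38479 q2564, e3 q3340 L38491 q2569, e3 q3341 L55348 q4268, e3 q3342 L38507 q2571, e3 q3343 L55380 q4272, e3 q3344 (flp_h L38519) q2539, e3 q3345 L38533 q2574, e3 q3346 L38542 q2575, e3 q3347 L38556 q3347, e3 q3348 (flp_h L55109) q4242, e3 q3349 (flp_h L55120) q4243, e3 q3350 L38581 q3350, e3 q3351 L38592 q3351, e3 q3352 (flp_h L55130) q4244, e3 q3353 (flp_h L55141) q4245, e3 q3354 (flp_h L55150) q4246, e3 q3355 L38628 q3355, e3 q3356 L38638 q3356, e3 q3357 L38646 q3357, e3 q3358 (flp_h L55162) q4247, e3 q3359 (flp_h L55172) q4248, e3 q3360 L55608 q4296, e3 q3361 (flp_h L55186) q4250, e3 q3362 (flp_h L55197) q4251, e3 q3363 L38695 q3363, e3 q3364 L38707 q3364, e3 q3365 L38718 q3365, e3 q3366 (flp_h L55208) q4252, e3 q3367 (flp_h L55220) q4253, e3 q3368 L55720 q4307,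 e3 q3369 (flp_h L55239) q4255, e3 q3370 (flp_h L55247) q4256, e3 q3371 L38780 q3371, e3 q3372 L55783 q4313, e3 q3373 L38799 q3373, e3 q3374 L38808 q3374, e3 q3375 (flp_h L55259) q4257, e3 q3376 L55844 q4320, e3 q3377 (flp_h L55275) q4259, e3 q3378 L55875 q4324, e3 q3379 (flp_h L38841) q2562, e3 q3380 (flp_h L55299) q4262, e3 q3381 (flp_h L55311) q4263, e3 q3382 L55938 q4329, e3 q3383 L38890 q3383, e3 q3384 L55975 q4333, e3 q3385 (flp_h L38904) q2566, e3 q3386 L38919 q3386, e3 q3387 L38929 q3387, e3 q3388 L56021 q4338, e3 q3389 (flp_h L55329) q4265, e3 q3390 L56044 q4341, e3 q3391 L56067 q4344, trivial⟩ (by decide +kernel)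

theorem ce_h_53 : ∀ r, r < 64 → sm gh (Qf (3392 + r)) = Qf (tab Gen.h (3392 + r)) :=
  edges_tab (sm gh) Qf (tab Gen.h) 3392 [(3392, 2570), (3393, 4269), (3394, 4348), (3395, 4350), (3396, 2572), (3397, 4334), (3398, 4274), (3399, 2578), (3400, 2579), (3401, 2580), (3402, 4352), (3403, 4353), (3404, 4361), (3405, 4355), (3406, 4356), (3407, 3407), (3408, 4368), (3409, 3409), (3410, 4372), (3411, 2583), (3412, 3412), (3413, 3413), (3414, 2589), (3415, 2590), (3416, 4379), (3417, 2592), (3418, 2593), (3419, 4375), (3420, 4386), (3421, 4377), (3422, 4390), (3423, 2591), (3424, 4380), (3425, 4381), (3426, 4395), (3427, 3427), (3428, 4398), (3429, 4401), (3430, 2595), (3431, 3431), (3432, 4405), (3433, 4407), (3434, 2597), (3435, 4391), (3436, 3436), (3437, 2606), (3438, 4413), (3439, 2608), (3440, 4417), (3441, 2603), (3442, 2611), (3443, 2612), (3444, 4422), (3445, 4410), (3446, 4425), (3447, 4428), (3448, 2607), (3449, 4414), (3450, 4432), (3451, 4434), (3452, 2609), (3453, 2622), (3454, 4419), (3455, 4438)]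
    ⟨e3 q3392 (flp_h L38964) q2570, e3 q3393 (flp_h L55362) q4269, e3 q3394 L56096 q4348, e3 q3395 L56114 q4350, e3 q3396 (flp_h L38993) q2572, e3 q3397 (flp_h L55993) q4334, e3 q3398 (flp_h L55404) q4274, e3 q3399 L39023 q2578, e3 q3400 L39035 q2579, e3 q3401 L39045 q2580, e3 q3402 (flp_h L56137) q4352, e3 q3403 (flp_h L56149) q4353, e3 q3404 L56223 q4361, e3 q3405 (flp_h L56168) q4355, e3 q3406 (flp_h L56178) q4356, e3 q3407 L39108 q3407, e3 q3408 L56286 q4368, e3 q3409 L39125 q3409, e3 q3410 L56318 q4372, e3 q3411 (flp_h L39134) q2583, e3 q3412 L39149 q3412, e3 q3413 L39157 q3413, e3 q3414 L39167 q2589, e3 q3415 L39178 q2590, e3 q3416 L56380 q4379, e3 q3417 L39194 q2592, e3 q3418 L39204 q2593, e3 q3419 (flp_h L56353) q4375, e3 q3420 L56448 q4386, e3 q3421 (flp_h L56369) q4377, e3 q3422 L56483 q4390, e3 q3423 (flp_h L39244) q2591, e3 q3424 (flp_h L56395) q4380, e3 q3425 (flp_h L56408) q4381, e3 q3426 L56523 q4395, e3 q3427 L39285 q3427, e3 q3428 L56548 q4398, e3 q3429 L56571 q4401, e3 q3430 (flp_h L39300) q2595, e3 q3431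 L39315 q3431, e3 q3432 L56602 q4405, e3 q3433 L56616 q4407, e3 q3434 (flp_h L39331) q2597, e3 q3435 (flp_h L56495) q4391, e3 q3436 L39353 q3436, e3 q3437 L39361 q2606, e3 q3438 L56665 q4413, e3 q3439 L39377 q2608, e3 q3440 L56699 q4417, e3 q3441 (flp_h L39390) q2603, e3 q3442 L39405 q2611, e3 q3443 L39415 q2612, e3 q3444 L56748 q4422, e3 q3445 (flp_h L56645) q4410, e3 q3446 L56774 q4425, e3 q3447 L56800 q4428, e3 q3448 (flp_h L39457) q2607, e3 q3449 (flp_h L56680) q4414, e3 q3450 L56835 q4432, e3 q3451 L56851 q4434, e3 q3452 (flp_h L39490) q2609, e3 q3453 L39502 q2622, e3 q3454 (flp_h L56724) q4419, e3 q3455 L56879 q4438, trivial⟩ (by decide +kernel)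

theorem ce_h_54 : ∀ r, r < 64 → sm gh (Qf (3456 + r)) = Qf (tab Gen.h (3456 + r)) :=
  edges_tab (sm gh) Qf (tab Gen.h) 3456 [(3456, 4441), (3457, 2613), (3458, 3458), (3459, 4446), (3460, 2615), (3461, 4450), (3462, 4452), (3463, 2616), (3464, 4429), (3465, 3465), (3466, 4456), (3467, 2619), (3468, 4459), (3469, 2620), (3470, 4435), (3471, 3471), (3472, 3273), (3473, 3473), (3474, 3474), (3475, 2637), (3476, 3060), (3477, 2641), (3478, 4470), (3479, 4472), (3480, 2632), (3481, 2646), (3482, 2789), (3483, 4465), (3484, 2787), (3485, 4479), (3486, 4481), (3487, 2639), (3488, 4468), (3489, 4484), (3490, 2642), (3491, 4487), (3492, 2643), (3493, 2662), (3494, 2811), (3495, 4492), (3496, 4494), (3497, 2648), (3498, 3498), (3499, 4497), (3500, 4499), (3501, 2651), (3502, 4502), (3503, 2653), (3504, 4505), (3505, 2654), (3506, 2799), (3507, 4508), (3508, 4509), (3509, 2658), (3510, 4457), (3511, 4486), (3512, 2660), (3513, 4488), (3514, 4515), (3515, 2664), (3516, 2666), (3517, 4517), (3518, 4518), (3519, 3519)]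
    ⟨e3 q3456 L56905 q4441, e3 q3457 (flp_h L39530) q2613, e3 q3458 L39547 q3458, e3 q3459 L56945 q4446, e3 q3460 (flp_h L39554) q2615, e3 q3461 L56972 q4450, e3 q3462 L56988 q4452, e3 q3463 (flp_h L39576) q2616, e3 q3464 (flp_h L56814) q4429, e3 q3465 L39599 q3465, e3 q3466 L57018 q4456, e3 q3467 (flp_h L39608) q2619, e3 q3468 L57042 q4459, e3 q3469 (flp_h L39622) q2620, e3 q3470 (flp_h L56862) q4435, e3 q3471 L39659 q3471, e3 q3472 L527324 q3273, e3 q3473 L39686 q3473, e3 q3474 L39697 q3474, e3 q3475 L39716 q2637, e3 q3476 (flp_h L543977) q3060, e3 q3477 L39748 q2641, e3 q3478 L57257 q4470, e3 q3479 L57272 q4472, e3 q3480 (flp_h L39765) q2632, e3 q3481 L39788 q2646, e3 q3482 L536629 q2789, e3 q3483 (flp_h L57189) q4465, e3 q3484 (flp_h L545833) q2787, e3 q3485 L57421 q4479, e3 q3486 L57440 q4481, e3 q3487 (flp_h L39867) q2639, e3 q3488 (flp_h L57247) q4468, e3 q3489 L57474 q4484, e3 q3490 (flp_h L39901) q2642, e3 q3491 L57499 q4487, e3 q3492 (flp_h L39920) q2643, e3 q3493 L39934 q2662, e3 q3494 L563515 q2811, e3 q3495 L57586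 q4492, e3 q3496 L57605 q4494, e3 q3497 (flp_h L39979) q2648, e3 q3498 L40005 q3498, e3 q3499 L57637 q4497, e3 q3500 L57655 q4499, e3 q3501 (flp_h L40022) q2651, e3 q3502 L57702 q4502, e3 q3503 (flp_h L40053) q2653, e3 q3504 L57727 q4505, e3 q3505 (flp_h L40070) q2654, e3 q3506 (flp_h L562562) q2799, e3 q3507 L57751 q4508, e3 q3508 L57760 q4509, e3 q3509 (flp_h L40100) q2658, e3 q3510 (flp_h L57032) q4457, e3 q3511 (flp_h L57497) q4486, e3 q3512 (flp_h L40124) q2660, e3 q3513 (flp_h L57514) q4488, e3 q3514 L57809 q4515, e3 q3515 (flp_h L40153) q2664, e3 q3516 L40175 q2666, e3 q3517 (flp_h L57838) q4517, e3 q3518 (flp_h L57850) q4518, e3 q3519 L40203 q3519, trivial⟩ (by decide +kernel)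

theorem ce_h_55 : ∀ r, r < 64 → sm gh (Qf (3520 + r)) = Qf (tab Gen.h (3520 + r)) :=
  edges_tab (sm gh) Qf (tab Gen.h) 3520 [(3520, 3520), (3521, 3521), (3522, 3522), (3523, 2671), (3524, 2672), (3525, 3128), (3526, 4529), (3527, 4530), (3528, 3528), (3529, 3529), (3530, 4539), (3531, 3531), (3532, 3532), (3533, 3533), (3534, 3534), (3535, 2680), (3536, 2681), (3537, 3143), (3538, 4550), (3539, 4545), (3540, 4546), (3541, 3541), (3542, 4557), (3543, 3543), (3544, 4561), (3545, 2684), (3546, 3546), (3547, 3547), (3548, 2690), (3549, 2691), (3550, 3088), (3551, 4570), (3552, 4565), (3553, 4566), (3554, 3554), (3555, 4577), (3556, 3556), (3557, 4581), (3558, 2694), (3559, 3559), (3560, 3560), (3561, 4585), (3562, 2701), (3563, 2702), (3564, 4590), (3565, 3102), (3566, 4594), (3567, 2700), (3568, 4586), (3569, 4587), (3570, 4599), (3571, 3571), (3572, 4602), (3573, 4605), (3574, 2704), (3575, 3575), (3576, 4609), (3577, 4611), (3578, 2706), (3579, 4595), (3580, 3580), (3581, 4615), (3582, 2710), (3583, 2717)]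
    ⟨e3 q3520 L40214 q3520, e3 q3521 L40222 q3521, e3 q3522 L40233 q3522, e3 q3523 L40241 q2671, e3 q3524 L40252 q2672, e3 q3525 (flp_h L453830) q3128, e3 q3526 (flp_h L57967) q4529, e3 q3527 (flp_h L57977) q4530, e3 q3528 L40294 q3528, e3 q3529 L40304 q3529, e3 q3530 L58067 q4539, e3 q3531 L40318 q3531, e3 q3532 L40329 q3532, e3 q3533 L40335 q3533, e3 q3534 L40344 q3534, e3 q3535 L40365 q2680, e3 q3536 L40373 q2681, e3 q3537 (flp_h L593815) q3143, e3 q3538 L58204 q4550, e3 q3539 (flp_h L58153) q4545, e3 q3540 (flp_h L58165) q4546, e3 q3541 L40432 q3541, e3 q3542 L58258 q4557, e3 q3543 L40444 q3543, e3 q3544 L58287 q4561, e3 q3545 (flp_h L40453) q2684, e3 q3546 L40466 q3546, e3 q3547 L40477 q3547, e3 q3548 L40497 q2690, e3 q3549 L40508 q2691, e3 q3550 (flp_h L549606) q3088, e3 q3551 L58404 q4570, e3 q3552 (flp_h L58349) q4565, e3 q3553 (flp_h L58358) q4566, e3 q3554 L40571 q3554, e3 q3555 L58467 q4577, e3 q3556 L40587 q3556, e3 q3557 L58498 q4581, e3 q3558 (flp_h L40597) q2694, e3 q3559 L40611 q3559, e3 q3560 L40621 q3560,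 e3 q3561 L58562 q4585, e3 q3562 L40659 q2701, e3 q3563 L40668 q2702, e3 q3564 L58628 q4590, e3 q3565 L593528 q3102, e3 q3566 L58662 q4594, e3 q3567 (flp_h L40709) q2700, e3 q3568 (flp_h L58576) q4586, e3 q3569 (flp_h L58589) q4587, e3 q3570 L58702 q4599, e3 q3571 L40750 q3571, e3 q3572 L58728 q4602, e3 q3573 L58748 q4605, e3 q3574 (flp_h L40765) q2704, e3 q3575 L40778 q3575, e3 q3576 L58778 q4609, e3 q3577 L58794 q4611, e3 q3578 (flp_h L40795) q2706, e3 q3579 (flp_h L58676) q4595, e3 q3580 L40818 q3580, e3 q3581 L58881 q4615, e3 q3582 (flp_h L40856) q2710, e3 q3583 L40870 q2717, trivial⟩ (by decide +kernel)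

theorem ce_h_56 : ∀ r, r < 64 → sm gh (Qf (3584 + r)) = Qf (tab Gen.h (3584 + r)) :=
  edges_tab (sm gh) Qf (tab Gen.h) 3584 [(3584, 2718), (3585, 4619), (3586, 4622), (3587, 2713), (3588, 3120), (3589, 4626), (3590, 4628), (3591, 2715), (3592, 2728), (3593, 4617), (3594, 4632), (3595, 4635), (3596, 2719), (3597, 3597), (3598, 4640), (3599, 2721), (3600, 4644), (3601, 4646), (3602, 2722), (3603, 4623), (3604, 3604), (3605, 4650), (3606, 2725), (3607, 4653), (3608, 2726), (3609, 4629), (3610, 3610), (3611, 4659), (3612, 3612), (3613, 4663), (3614, 2732), (3615, 3615), (3616, 3616), (3617, 4668), (3618, 2820), (3619, 4671), (3620, 4674), (3621, 2736), (3622, 2824), (3623, 4678), (3624, 4680), (3625, 2738), (3626, 4664), (3627, 2829), (3628, 4684), (3629, 3629), (3630, 4687), (3631, 4690), (3632, 2743), (3633, 3633), (3634, 4694), (3635, 4696), (3636, 2745), (3637, 2758), (3638, 3638), (3639, 4700), (3640, 4703), (3641, 2749), (3642, 2833), (3643, 4708), (3644, 2751), (3645, 4712), (3646, 4714), (3647, 2752)]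
    ⟨e3 q3584 L40880 q2718, e3 q3585 L58955 q4619, e3 q3586 L58978 q4622, e3 q3587 (flp_h L40921) q2713, e3 q3588 (flp_h L593405) q3120, e3 q3589 L59012 q4626, e3 q3590 L59030 q4628, e3 q3591 (flp_h L40953) q2715, e3 q3592 L40967 q2728, e3 q3593 (flp_h L58905) q4617, e3 q3594 L59064 q4632, e3 q3595 L59085 q4635, e3 q3596 (flp_h L40993) q2719, e3 q3597 L41008 q3597, e3 q3598 L59126 q4640, e3 q3599 (flp_h L41018) q2721, e3 q3600 L59157 q4644, e3 q3601 L59171 q4646, e3 q3602 (flp_h L41037) q2722, e3 q3603 (flp_h L58990) q4623, e3 q3604 L41058 q3604, e3 q3605 L59201 q4650, e3 q3606 (flp_h L41068) q2725, e3 q3607 L59224 q4653, e3 q3608 (flp_h L41084) q2726, e3 q3609 (flp_h L59045) q4629, e3 q3610 L41111 q3610, e3 q3611 L59283 q4659, e3 q3612 L41131 q3612, e3 q3613 L59318 q4663, e3 q3614 (flp_h L41144) q2732, e3 q3615 L41157 q3615, e3 q3616 L41168 q3616, e3 q3617 L59365 q4668, e3 q3618 L41190 q2820, e3 q3619 L59394 q4671, e3 q3620 L59415 q4674, e3 q3621 (flp_h L41208) q2736, e3 q3622 L41224 q2824, e3 q3623 L59452 q4678, e3 q3624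 L59467 q4680, e3 q3625 (flp_h L41239) q2738, e3 q3626 (flp_h L59333) q4664, e3 q3627 L41263 q2829, e3 q3628 L59503 q4684, e3 q3629 L41283 q3629, e3 q3630 L59532 q4687, e3 q3631 L59555 q4690, e3 q3632 (flp_h L41303) q2743, e3 q3633 L41317 q3633, e3 q3634 L59591 q4694, e3 q3635 L59605 q4696, e3 q3636 (flp_h L41337) q2745, e3 q3637 L41349 q2758, e3 q3638 L41359 q3638, e3 q3639 L59636 q4700, e3 q3640 L59659 q4703, e3 q3641 (flp_h L41377) q2749, e3 q3642 L41394 q2833, e3 q3643 L59701 q4708, e3 q3644 (flp_h L41404) q2751, e3 q3645 L59728 q4712, e3 q3646 L59742 q4714, e3 q3647 (flp_h L41423) q2752, trivial⟩ (by decide +kernel)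

theorem ce_h_57 : ∀ r, r < 64 → sm gh (Qf (3648 + r)) = Qf (tab Gen.h (3648 + r)) :=
  edges_tab (sm gh) Qf (tab Gen.h) 3648 [(3648, 4691), (3649, 2840), (3650, 4718), (3651, 2755), (3652, 4721), (3653, 2756), (3654, 4697), (3655, 4725), (3656, 4728), (3657, 2760), (3658, 3658), (3659, 4733), (3660, 2762), (3661, 4737), (3662, 4739), (3663, 2763), (3664, 2780), (3665, 3665), (3666, 4743), (3667, 2766), (3668, 4746), (3669, 2767), (3670, 2786), (3671, 4734), (3672, 4751), (3673, 2771), (3674, 4754), (3675, 4756), (3676, 2772), (3677, 4729), (3678, 2852), (3679, 4760), (3680, 4762), (3681, 2775), (3682, 3049), (3683, 4735), (3684, 4769), (3685, 2777), (3686, 4772), (3687, 2778), (3688, 4740), (3689, 4775), (3690, 4776), (3691, 2782), (3692, 2815), (3693, 4745), (3694, 2784), (3695, 4747), (3696, 4476), (3697, 4477), (3698, 3698), (3699, 4473), (3700, 4474), (3701, 4789), (3702, 2790), (3703, 4791), (3704, 2791), (3705, 4793), (3706, 4794), (3707, 2794), (3708, 4744), (3709, 2816), (3710, 2796), (3711, 2818)]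
    ⟨e3 q3648 (flp_h L59569) q4691, e3 q3649 L41448 q2840, e3 q3650 L59772 q4718, e3 q3651 (flp_h L41456) q2755, e3 q3652 L59790 q4721, e3 q3653 (flp_h L41468) q2756, e3 q3654 (flp_h L59619) q4697, e3 q3655 L59827 q4725, e3 q3656 L59853 q4728, e3 q3657 (flp_h L41503) q2760, e3 q3658 L41519 q3658, e3 q3659 L59899 q4733, e3 q3660 (flp_h L41531) q2762, e3 q3661 L59929 q4737, e3 q3662 L59945 q4739, e3 q3663 (flp_h L41553) q2763, e3 q3664 L41567 q2780, e3 q3665 L41577 q3665, e3 q3666 L59979 q4743, e3 q3667 (flp_h L41590) q2766, e3 q3668 L60001 q4746, e3 q3669 (flp_h L41604) q2767, e3 q3670 L41617 q2786, e3 q3671 L576316 q4734, e3 q3672 L60045 q4751, e3 q3673 (flp_h L41634) q2771, e3 q3674 L60079 q4754, e3 q3675 L60095 q4756, e3 q3676 (flp_h L41656) q2772, e3 q3677 (flp_h L59869) q4729, e3 q3678 L41683 q2852, e3 q3679 L60127 q4760, e3 q3680 L60141 q4762, e3 q3681 (flp_h L41697) q2775, e3 q3682 L41709 q3049, e3 q3683 (flp_h L59917) q4735, e3 q3684 L60192 q4769, e3 q3685 (flp_h L41724) q2777, e3 q3686 L60216 q4772, e3 q3687 (flp_h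 L41738) q2778, e3 q3688 (flp_h L59960) q4740, e3 q3689 L60240 q4775, e3 q3690 L60245 q4776, e3 q3691 (flp_h L41768) q2782, e3 q3692 L41781 q2815, e3 q3693 (flp_h L59999) q4745, e3 q3694 (flp_h L41789) q2784, e3 q3695 (flp_h L60014) q4747, e3 q3696 (flp_h L562626) q4476, e3 q3697 L545809 q4477, e3 q3698 L41878 q3698, e3 q3699 (flp_h L562634) q4473, e3 q3700 L524139 q4474, e3 q3701 L60504 q4789, e3 q3702 (flp_h L41933) q2790, e3 q3703 L60527 q4791, e3 q3704 (flp_h L41950) q2791, e3 q3705 L60555 q4793, e3 q3706 L60562 q4794, e3 q3707 (flp_h L41984) q2794, e3 q3708 (flp_h L59991) q4744, e3 q3709 L42004 q2816, e3 q3710 (flp_h L42006) q2796, e3 q3711 L42023 q2818, trivial⟩ (by decide +kernel)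

theorem ce_h_58 : ∀ r, r < 64 → sm gh (Qf (3712 + r)) = Qf (tab Gen.h (3712 + r)) :=
  edges_tab (sm gh) Qf (tab Gen.h) 3712 [(3712, 4504), (3713, 4506), (3714, 4805), (3715, 2800), (3716, 4807), (3717, 2801), (3718, 4809), (3719, 4812), (3720, 2804), (3721, 4814), (3722, 2805), (3723, 4816), (3724, 4817), (3725, 2807), (3726, 4770), (3727, 4489), (3728, 2809), (3729, 4490), (3730, 4824), (3731, 2812), (3732, 2813), (3733, 4777), (3734, 4796), (3735, 4779), (3736, 4833), (3737, 4799), (3738, 4835), (3739, 4838), (3740, 2819), (3741, 4669), (3742, 4843), (3743, 2821), (3744, 4847), (3745, 4849), (3746, 2822), (3747, 3747), (3748, 4676), (3749, 4853), (3750, 2825), (3751, 4856), (3752, 2826), (3753, 3753), (3754, 4860), (3755, 2830), (3756, 4863), (3757, 4865), (3758, 2831), (3759, 3759), (3760, 4705), (3761, 4869), (3762, 4871), (3763, 2834), (3764, 3109), (3765, 3765), (3766, 4878), (3767, 2836), (3768, 4881), (3769, 2837), (3770, 3770), (3771, 4884), (3772, 4885), (3773, 2841), (3774, 3774), (3775, 3775)]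
    ⟨e3 q3712 (flp_h L562725) q4504, e3 q3713 (flp_h L563306) q4506, e3 q3714 L60714 q4805, e3 q3715 (flp_h L42085) q2800, e3 q3716 L60739 q4807, e3 q3717 (flp_h L42102) q2801, e3 q3718 L60767 q4809, e3 q3719 L60787 q4812, e3 q3720 (flp_h L42135) q2804, e3 q3721 L60809 q4814, e3 q3722 (flp_h L42152) q2805, e3 q3723 L60835 q4816, e3 q3724 L60842 q4817, e3 q3725 (flp_h L42182) q2807, e3 q3726 (flp_h L60207) q4770, e3 q3727 (flp_h L562789) q4489, e3 q3728 (flp_h L42204) q2809, e3 q3729 (flp_h L563529) q4490, e3 q3730 L60897 q4824, e3 q3731 (flp_h L42230) q2812, e3 q3732 (flp_h L42237) q2813, e3 q3733 (flp_h L60260) q4777, e3 q3734 (flp_h L60585) q4796, e3 q3735 (flp_h L60275) q4779, e3 q3736 L60967 q4833, e3 q3737 (flp_h L60609) q4799, e3 q3738 L60995 q4835, e3 q3739 L61024 q4838, e3 q3740 (flp_h L42307) q2819, e3 q3741 (flp_h L59383) q4669, e3 q3742 L61073 q4843, e3 q3743 (flp_h L42336) q2821, e3 q3744 L61108 q4847, e3 q3745 L61127 q4849, e3 q3746 (flp_h L42362) q2822, e3 q3747 L42378 q3747, e3 q3748 (flp_h L59442) q4676, e3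 q3749 L61161 q4853, e3 q3750 (flp_h L42398) q2825, e3 q3751 L61186 q4856, e3 q3752 (flp_h L42417) q2826, e3 q3753 L42432 q3753, e3 q3754 L61240 q4860, e3 q3755 (flp_h L42452) q2830, e3 q3756 L61275 q4863, e3 q3757 L61293 q4865, e3 q3758 (flp_h L42479) q2831, e3 q3759 L42494 q3759, e3 q3760 (flp_h L59687) q4705, e3 q3761 L61326 q4869, e3 q3762 L61344 q4871, e3 q3763 (flp_h L42523) q2834, e3 q3764 L42535 q3109, e3 q3765 L42545 q3765, e3 q3766 L61400 q4878, e3 q3767 (flp_h L42554) q2836, e3 q3768 L61422 q4881, e3 q3769 (flp_h L42570) q2837, e3 q3770 L42584 q3770, e3 q3771 L61449 q4884, e3 q3772 L61458 q4885, e3 q3773 (flp_h L42602) q2841, e3 q3774 L42614 q3774, e3 q3775 L42622 q3775, trivial⟩ (by decide +kernel)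

theorem ce_h_59 : ∀ r, r < 64 → sm gh (Qf (3776 + r)) = Qf (tab Gen.h (3776 + r)) :=
  edges_tab (sm gh) Qf (tab Gen.h) 3776 [(3776, 2843), (3777, 3777), (3778, 4892), (3779, 4894), (3780, 2846), (3781, 3781), (3782, 4898), (3783, 2848), (3784, 4901), (3785, 2849), (3786, 3786), (3787, 4905), (3788, 2853), (3789, 4908), (3790, 2854), (3791, 3124), (3792, 3792), (3793, 3125), (3794, 4636), (3795, 4916), (3796, 4917), (3797, 2858), (3798, 2878), (3799, 3799), (3800, 2860), (3801, 3801), (3802, 4924), (3803, 2863), (3804, 2864), (3805, 2885), (3806, 3806), (3807, 2887), (3808, 4933), (3809, 3809), (3810, 4935), (3811, 4936), (3812, 2870), (3813, 4899), (3814, 3814), (3815, 2872), (3816, 3816), (3817, 4943), (3818, 2875), (3819, 2876), (3820, 4918), (3821, 3821), (3822, 4920), (3823, 4952), (3824, 3824), (3825, 2896), (3826, 2882), (3827, 4925), (3828, 3828), (3829, 4927), (3830, 3830), (3831, 4929), (3832, 4958), (3833, 4931), (3834, 4961), (3835, 2888), (3836, 3836), (3837, 3837), (3838, 4942), (3839, 4965)]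
    ⟨e3 q3776 (flp_h L42623) q2843, e3 q3777 L42639 q3777, e3 q3778 L61557 q4892, e3 q3779 L61577 q4894, e3 q3780 (flp_h L42677) q2846, e3 q3781 L42701 q3781, e3 q3782 L61639 q4898, e3 q3783 (flp_h L42712) q2848, e3 q3784 L61667 q4901, e3 q3785 (flp_h L42730) q2849, e3 q3786 L42745 q3786, e3 q3787 L61701 q4905, e3 q3788 (flp_h L42755) q2853, e3 q3789 L61726 q4908, e3 q3790 (flp_h L42773) q2854, e3 q3791 L42786 q3124, e3 q3792 L42796 q3792, e3 q3793 L42801 q3125, e3 q3794 (flp_h L574974) q4636, e3 q3795 L61793 q4916, e3 q3796 L61800 q4917, e3 q3797 (flp_h L42828) q2858, e3 q3798 L42842 q2878, e3 q3799 L42852 q3799, e3 q3800 (flp_h L42853) q2860, e3 q3801 L42866 q3801, e3 q3802 L61857 q4924, e3 q3803 (flp_h L42876) q2863, e3 q3804 (flp_h L42883) q2864, e3 q3805 L42897 q2885, e3 q3806 L42907 q3806, e3 q3807 L42913 q2887, e3 q3808 L61929 q4933, e3 q3809 L42930 q3809, e3 q3810 L61947 q4935, e3 q3811 L61957 q4936, e3 q3812 (flp_h L42950) q2870, e3 q3813 (flp_h L61655) q4899, e3 q3814 L42977 q3814, e3 q3815 (flp_h L42978) q2872,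 e3 q3816 L42997 q3816, e3 q3817 L62022 q4943, e3 q3818 (flp_h L43007) q2875, e3 q3819 (flp_h L43016) q2876, e3 q3820 (flp_h L61815) q4918, e3 q3821 L43041 q3821, e3 q3822 (flp_h L61830) q4920, e3 q3823 L62094 q4952, e3 q3824 L43064 q3824, e3 q3825 (flp_h L647500) q2896, e3 q3826 (flp_h L43074) q2882, e3 q3827 (flp_h L61871) q4925, e3 q3828 L43099 q3828, e3 q3829 (flp_h L61887) q4927, e3 q3830 L43116 q3830, e3 q3831 (flp_h L61904) q4929, e3 q3832 L62181 q4958, e3 q3833 (flp_h L61919) q4931, e3 q3834 L62202 q4961, e3 q3835 (flp_h L43146) q2888, e3 q3836 L43227 q3836, e3 q3837 L43252 q3837, e3 q3838 (flp_h L628083) q4942, e3 q3839 L62383 q4965, trivial⟩ (by decide +kernel)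

theorem ce_h_60 : ∀ r, r < 64 → sm gh (Qf (3840 + r)) = Qf (tab Gen.h (3840 + r)) :=
  edges_tab (sm gh) Qf (tab Gen.h) 3840 [(3840, 2897), (3841, 3841), (3842, 3318), (3843, 2900), (3844, 3844), (3845, 2904), (3846, 3130), (3847, 3316), (3848, 4969), (3849, 3849), (3850, 3850), (3851, 3138), (3852, 3852), (3853, 3853), (3854, 3854), (3855, 2914), (3856, 3129), (3857, 3857), (3858, 3308), (3859, 4978), (3860, 3860), (3861, 4988), (3862, 3862), (3863, 3097), (3864, 2917), (3865, 3865), (3866, 3866), (3867, 3867), (3868, 2925), (3869, 3869), (3870, 3103), (3871, 3871), (3872, 3313), (3873, 4991), (3874, 5000), (3875, 3875), (3876, 5003), (3877, 5006), (3878, 2927), (3879, 3879), (3880, 3099), (3881, 3114), (3882, 2929), (3883, 3883), (3884, 2937), (3885, 2992), (3886, 3089), (3887, 3240), (3888, 3309), (3889, 5008), (3890, 5017), (3891, 3891), (3892, 5020), (3893, 5023), (3894, 2939), (3895, 3895), (3896, 2999), (3897, 2998), (3898, 2941), (3899, 3232), (3900, 3900), (3901, 2950), (3902, 3014), (3903, 3015)]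
    ⟨e3 q3840 (flp_h L43281) q2897, e3 q3841 L411606 q3841, e3 q3842 (flp_h L557413) q3318, e3 q3843 (flp_h L43340) q2900, e3 q3844 L43358 q3844, e3 q3845 L43377 q2904, e3 q3846 L594287 q3130, e3 q3847 (flp_h L578269) q3316, e3 q3848 (flp_h L62527) q4969, e3 q3849 L43416 q3849, e3 q3850 L43426 q3850, e3 q3851 L625561 q3138, e3 q3852 L43443 q3852, e3 q3853 L43451 q3853, e3 q3854 L43520 q3854, e3 q3855 L43550 q2914, e3 q3856 L471675 q3129, e3 q3857 L438781 q3857, e3 q3858 (flp_h L578528) q3308, e3 q3859 (flp_h L62793) q4978, e3 q3860 L43613 q3860, e3 q3861 L62899 q4988, e3 q3862 L43627 q3862, e3 q3863 L626949 q3097, e3 q3864 (flp_h L43639) q2917, e3 q3865 L43656 q3865, e3 q3866 L43664 q3866, e3 q3867 L43754 q3867, e3 q3868 L43798 q2925, e3 q3869 L400354 q3869, e3 q3870 L593851 q3103, e3 q3871 L438751 q3871, e3 q3872 (flp_h L585724) q3313, e3 q3873 (flp_h L63162) q4991, e3 q3874 L63276 q5000, e3 q3875 L43878 q3875, e3 q3876 L63300 q5003, e3 q3877 L63321 q5006, e3 q3878 (flp_h L43892) q2927, e3 q3879 L43905 q3879, e3 q3880 (flp_h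 L625693) q3099, e3 q3881 L626795 q3114, e3 q3882 (flp_h L43923) q2929, e3 q3883 L43948 q3883, e3 q3884 L44025 q2937, e3 q3885 (flp_h L589465) q2992, e3 q3886 L538245 q3089, e3 q3887 (flp_h L589450) q3240, e3 q3888 L589301 q3309, e3 q3889 (flp_h L63502) q5008, e3 q3890 L63637 q5017, e3 q3891 L44118 q3891, e3 q3892 L63664 q5020, e3 q3893 L63688 q5023, e3 q3894 (flp_h L44135) q2939, e3 q3895 L44148 q3895, e3 q3896 L623344 q2999, e3 q3897 L605894 q2998, e3 q3898 (flp_h L44168) q2941, e3 q3899 L457640 q3232, e3 q3900 L44197 q3900, e3 q3901 L44308 q2950, e3 q3902 L551733 q3014, e3 q3903 L577732 q3015, trivial⟩ (by decide +kernel)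

theorem ce_h_61 : ∀ r, r < 64 → sm gh (Qf (3904 + r)) = Qf (tab Gen.h (3904 + r)) :=
  edges_tab (sm gh) Qf (tab Gen.h) 3904 [(3904, 3104), (3905, 3254), (3906, 3255), (3907, 3314), (3908, 5035), (3909, 5038), (3910, 2951), (3911, 3911), (3912, 5042), (3913, 2953), (3914, 5045), (3915, 5047), (3916, 2954), (3917, 3003), (3918, 3918), (3919, 3025), (3920, 2957), (3921, 3023), (3922, 2958), (3923, 3245), (3924, 3042), (3925, 3043), (3926, 3044), (3927, 3121), (3928, 3269), (3929, 3270), (3930, 3028), (3931, 5060), (3932, 2969), (3933, 5062), (3934, 5064), (3935, 2970), (3936, 3936), (3937, 5067), (3938, 5069), (3939, 2973), (3940, 4641), (3941, 5074), (3942, 2975), (3943, 5077), (3944, 2976), (3945, 3029), (3946, 3055), (3947, 3054), (3948, 2980), (3949, 3949), (3950, 3259), (3951, 2982), (3952, 3260), (3953, 5024), (3954, 3954), (3955, 5086), (3956, 5089), (3957, 2986), (3958, 3958), (3959, 5091), (3960, 5092), (3961, 2988), (3962, 3001), (3963, 3963), (3964, 5009), (3965, 5010), (3966, 3090), (3967, 5100)]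
    ⟨e3 q3904 (flp_h L559466) q3104, e3 q3905 L577747 q3254, e3 q3906 L589166 q3255, e3 q3907 L589175 q3314, e3 q3908 L64085 q5035, e3 q3909 L64111 q5038, e3 q3910 (flp_h L44427) q2951, e3 q3911 L44443 q3911, e3 q3912 L64154 q5042, e3 q3913 (flp_h L44452) q2953, e3 q3914 L64184 q5045, e3 q3915 L64199 q5047, e3 q3916 (flp_h L44474) q2954, e3 q3917 (flp_h L551712) q3003, e3 q3918 L44495 q3918, e3 q3919 (flp_h L625869) q3025, e3 q3920 (flp_h L44504) q2957, e3 q3921 L626768 q3023, e3 q3922 (flp_h L44523) q2958, e3 q3923 L589048 q3245, e3 q3924 L590964 q3042, e3 q3925 L589697 q3043, e3 q3926 L580530 q3044, e3 q3927 (flp_h L492749) q3121, e3 q3928 L589887 q3269, e3 q3929 L589172 q3270, e3 q3930 (flp_h L591094) q3028, e3 q3931 L64776 q5060, e3 q3932 (flp_h L44859) q2969, e3 q3933 L64808 q5062, e3 q3934 L64827 q5064, e3 q3935 (flp_h L44884) q2970, e3 q3936 L44910 q3936, e3 q3937 L64861 q5067, e3 q3938 L64878 q5069, e3 q3939 (flp_h L44926) q2973, e3 q3940 (flp_h L59141) q4641, e3 q3941 L64932 q5074, e3 q3942 (flp_h L44956) q2975, e3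 q3943 L64956 q5077, e3 q3944 (flp_h L44971) q2976, e3 q3945 (flp_h L589637) q3029, e3 q3946 L624853 q3055, e3 q3947 (flp_h L624133) q3054, e3 q3948 (flp_h L45004) q2980, e3 q3949 L45022 q3949, e3 q3950 (flp_h L589813) q3259, e3 q3951 (flp_h L45033) q2982, e3 q3952 (flp_h L589817) q3260, e3 q3953 L589436 q5024, e3 q3954 L45072 q3954, e3 q3955 L65091 q5086, e3 q3956 L65118 q5089, e3 q3957 (flp_h L45094) q2986, e3 q3958 L45108 q3958, e3 q3959 L65158 q5091, e3 q3960 L65178 q5092, e3 q3961 (flp_h L45131) q2988, e3 q3962 L45149 q3001, e3 q3963 L45159 q3963, e3 q3964 L505556 q5009, e3 q3965 (flp_h L589321) q5010, e3 q3966 L45201 q3090, e3 q3967 L65290 q5100, trivial⟩ (by decide +kernel)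

theorem ce_h_62 : ∀ r, r < 64 → sm gh (Qf (3968 + r)) = Qf (tab Gen.h (3968 + r)) :=
  edges_tab (sm gh) Qf (tab Gen.h) 3968 [(3968, 2994), (3969, 5022), (3970, 5021), (3971, 2995), (3972, 3096), (3973, 5093), (3974, 5033), (3975, 5048), (3976, 3976), (3977, 5108), (3978, 3005), (3979, 5110), (3980, 5112), (3981, 3006), (3982, 3982), (3983, 5113), (3984, 3009), (3985, 5116), (3986, 3010), (3987, 3027), (3988, 5027), (3989, 5028), (3990, 5029), (3991, 3105), (3992, 5124), (3993, 5126), (3994, 3017), (3995, 4709), (3996, 5046), (3997, 3019), (3998, 5044), (3999, 3020), (4000, 5115), (4001, 5117), (4002, 5057), (4003, 5076), (4004, 5078), (4005, 4005), (4006, 5135), (4007, 5137), (4008, 3031), (4009, 5140), (4010, 3033), (4011, 5142), (4012, 3034), (4013, 5143), (4014, 5144), (4015, 3037), (4016, 3075), (4017, 3057), (4018, 3039), (4019, 3059), (4020, 5051), (4021, 5052), (4022, 5053), (4023, 5054), (4024, 5155), (4025, 5158), (4026, 3046), (4027, 5160), (4028, 3047), (4029, 4763), (4030, 4765), (4031, 5073)]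
    ⟨e3 q3968 (flp_h L45210) q2994, e3 q3969 L623351 q5022, e3 q3970 (flp_h L607422) q5021, e3 q3971 (flp_h L45233) q2995, e3 q3972 L45259 q3096, e3 q3973 (flp_h L65195) q5093, e3 q3974 (flp_h L591138) q5033, e3 q3975 L577667 q5048, e3 q3976 L45343 q3976, e3 q3977 L65516 q5108, e3 q3978 (flp_h L45354) q3005, e3 q3979 L65545 q5110, e3 q3980 L65562 q5112, e3 q3981 (flp_h L45379) q3006, e3 q3982 L45403 q3982, e3 q3983 L65599 q5113, e3 q3984 (flp_h L45415) q3009, e3 q3985 L65623 q5116, e3 q3986 (flp_h L45432) q3010, e3 q3987 L45448 q3027, e3 q3988 (flp_h L591334) q5027, e3 q3989 L472225 q5028, e3 q3990 (flp_h L577774) q5029, e3 q3991 L45520 q3105, e3 q3992 L65758 q5124, e3 q3993 L65771 q5126, e3 q3994 (flp_h L45533) q3017, e3 q3995 (flp_h L59713) q4709, e3 q3996 (flp_h L622879) q5046, e3 q3997 (flp_h L45559) q3019, e3 q3998 (flp_h L625070) q5044, e3 q3999 (flp_h L45574) q3020, e3 q4000 (flp_h L65621) q5115, e3 q4001 (flp_h L65641) q5117, e3 q4002 L590971 q5057, e3 q4003 (flp_h L589769) q5076, e3 q4004 (flp_h L559582) q5078, e3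 q4005 L45726 q4005, e3 q4006 L66064 q5135, e3 q4007 L66079 q5137, e3 q4008 (flp_h L45744) q3031, e3 q4009 L66131 q5140, e3 q4010 (flp_h L45773) q3033, e3 q4011 L66158 q5142, e3 q4012 (flp_h L45790) q3034, e3 q4013 L66185 q5143, e3 q4014 L66192 q5144, e3 q4015 (flp_h L45827) q3037, e3 q4016 L45842 q3075, e3 q4017 L45852 q3057, e3 q4018 (flp_h L45854) q3039, e3 q4019 L45869 q3059, e3 q4020 L551443 q5051, e3 q4021 L553087 q5052, e3 q4022 (flp_h L509654) q5053, e3 q4023 L580560 q5054, e3 q4024 L66430 q5155, e3 q4025 L66448 q5158, e3 q4026 (flp_h L45987) q3046, e3 q4027 L66469 q5160, e3 q4028 (flp_h L46000) q3047, e3 q4029 (flp_h L60154) q4763, e3 q4030 (flp_h L60168) q4765, e3 q4031 (flp_h L624826) q5073, trivial⟩ (by decide +kernel)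

theorem ce_h_63 : ∀ r, r < 64 → sm gh (Qf (4032 + r)) = Qf (tab Gen.h (4032 + r)) :=
  edges_tab (sm gh) Qf (tab Gen.h) 4032 [(4032, 5072), (4033, 3050), (4034, 3052), (4035, 5146), (4036, 5148), (4037, 4466), (4038, 4467), (4039, 5169), (4040, 3061), (4041, 5171), (4042, 3062), (4043, 5173), (4044, 5176), (4045, 3065), (4046, 5178), (4047, 3066), (4048, 5180), (4049, 5181), (4050, 3068), (4051, 5141), (4052, 3070), (4053, 5184), (4054, 3072), (4055, 3073), (4056, 5145), (4057, 3299), (4058, 4058), (4059, 4059), (4060, 5193), (4061, 4061), (4062, 4062), (4063, 4063), (4064, 4064), (4065, 5199), (4066, 3082), (4067, 4067), (4068, 4068), (4069, 4069), (4070, 4568), (4071, 4980), (4072, 5011), (4073, 5097), (4074, 5208), (4075, 5210), (4076, 3091), (4077, 4844), (4078, 4987), (4079, 3093), (4080, 5004), (4081, 3094), (4082, 4082), (4083, 4083), (4084, 4548), (4085, 4591), (4086, 4994), (4087, 5030), (4088, 5218), (4089, 5220), (4090, 3106), (4091, 5222), (4092, 3107), (4093, 4872), (4094, 4874), (4095, 5005)]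
    ⟨e3 q4032 L624891 q5072, e3 q4033 (flp_h L46049) q3050, e3 q4034 (flp_h L46067) q3052, e3 q4035 (flp_h L66218) q5146, e3 q4036 (flp_h L66247) q5148, e3 q4037 L543962 q4466, e3 q4038 (flp_h L543922) q4467, e3 q4039 L66728 q5169, e3 q4040 (flp_h L46196) q3061, e3 q4041 L66749 q5171, e3 q4042 (flp_h L46219) q3062, e3 q4043 L66768 q5173, e3 q4044 L66792 q5176, e3 q4045 (flp_h L46246) q3065, e3 q4046 L66808 q5178, e3 q4047 (flp_h L46265) q3066, e3 q4048 L66848 q5180, e3 q4049 L66857 q5181, e3 q4050 (flp_h L46307) q3068, e3 q4051 (flp_h L66146) q5141, e3 q4052 (flp_h L46324) q3070, e3 q4053 L66891 q5184, e3 q4054 (flp_h L46344) q3072, e3 q4055 (flp_h L46354) q3073, e3 q4056 (flp_h L66208) q5145, e3 q4057 (flp_h L560723) q3299, e3 q4058 L46390 q4058, e3 q4059 L46399 q4059, e3 q4060 L66968 q5193, e3 q4061 L46415 q4061, e3 q4062 L46423 q4062, e3 q4063 L46431 q4063, e3 q4064 L46442 q4064, e3 q4065 L67016 q5199, e3 q4066 (flp_h L46449) q3082, e3 q4067 L46460 q4067, e3 q4068 L46470 q4068, e3 q4069 L46479 q4069, e3 q4070 L593575 q4568,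 e3 q4071 (flp_h L578484) q4980, e3 q4072 (flp_h L594063) q5011, e3 q4073 (flp_h L65274) q5097, e3 q4074 L67186 q5208, e3 q4075 L67206 q5210, e3 q4076 (flp_h L46592) q3091, e3 q4077 (flp_h L61088) q4844, e3 q4078 (flp_h L625462) q4987, e3 q4079 (flp_h L46626) q3093, e3 q4080 (flp_h L625330) q5004, e3 q4081 (flp_h L46646) q3094, e3 q4082 L46712 q4082, e3 q4083 L46731 q4083, e3 q4084 L592983 q4548, e3 q4085 (flp_h L520345) q4591, e3 q4086 L520301 q4994, e3 q4087 (flp_h L559525) q5030, e3 q4088 L67588 q5218, e3 q4089 L67603 q5220, e3 q4090 (flp_h L46861) q3106, e3 q4091 L67628 q5222, e3 q4092 (flp_h L46878) q3107, e3 q4093 (flp_h L61358) q4872, e3 q4094 (flp_h L61373) q4874, e3 q4095 (flp_h L625322) q5005, trivial⟩ (by decide +kernel)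

theorem ce_h_64 : ∀ r, r < 64 → sm gh (Qf (4096 + r)) = Qf (tab Gen.h (4096 + r)) :=
  edges_tab (sm gh) Qf (tab Gen.h) 4096 [(4096, 3110), (4097, 4097), (4098, 3112), (4099, 4099), (4100, 5227), (4101, 4101), (4102, 4624), (4103, 3122), (4104, 4909), (4105, 4911), (4106, 4913), (4107, 4531), (4108, 4519), (4109, 4970), (4110, 5236), (4111, 5238), (4112, 3131), (4113, 3132), (4114, 4114), (4115, 4115), (4116, 4975), (4117, 3135), (4118, 4118), (4119, 4119), (4120, 5244), (4121, 5245), (4122, 3144), (4123, 5246), (4124, 4124), (4125, 4125), (4126, 4126), (4127, 4127), (4128, 5254), (4129, 3150), (4130, 4130), (4131, 5257), (4132, 5259), (4133, 3152), (4134, 5260), (4135, 3154), (4136, 4136), (4137, 4137), (4138, 4138), (4139, 3162), (4140, 4140), (4141, 3317), (4142, 5264), (4143, 3167), (4144, 4144), (4145, 3173), (4146, 4146), (4147, 3311), (4148, 5267), (4149, 3174), (4150, 4150), (4151, 4151), (4152, 3185), (4153, 4153), (4154, 4154), (4155, 3315), (4156, 3186), (4157, 3312), (4158, 3187), (4159, 3197)]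
    ⟨e3 q4096 (flp_h L46923) q3110, e3 q4097 L46938 q4097, e3 q4098 (flp_h L46948) q3112, e3 q4099 L46993 q4099, e3 q4100 L67785 q5227, e3 q4101 L47019 q4101, e3 q4102 (flp_h L593470) q4624, e3 q4103 (flp_h L47127) q3122, e3 q4104 (flp_h L61739) q4909, e3 q4105 (flp_h L61753) q4911, e3 q4106 (flp_h L61768) q4913, e3 q4107 (flp_h L593106) q4531, e3 q4108 (flp_h L593099) q4519, e3 q4109 (flp_h L578277) q4970, e3 q4110 L68192 q5236, e3 q4111 L68207 q5238, e3 q4112 (flp_h L47321) q3131, e3 q4113 (flp_h L47330) q3132, e3 q4114 L47347 q4114, e3 q4115 L47365 q4115, e3 q4116 (flp_h L625452) q4975, e3 q4117 (flp_h L47383) q3135, e3 q4118 L47399 q4118, e3 q4119 L47447 q4119, e3 q4120 L68390 q5244, e3 q4121 L68463 q5245, e3 q4122 (flp_h L47575) q3144, e3 q4123 (flp_h L68547) q5246, e3 q4124 L47599 q4124, e3 q4125 L47613 q4125, e3 q4126 L47634 q4126, e3 q4127 L47648 q4127, e3 q4128 L68654 q5254, e3 q4129 (flp_h L47658) q3150, e3 q4130 L47721 q4130, e3 q4131 L68769 q5257, e3 q4132 L68799 q5259, e3 q4133 (flp_h L47756) q3152, e3 q4134 L68880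 q5260, e3 q4135 (flp_h L47818) q3154, e3 q4136 L433743 q4136, e3 q4137 L47891 q4137, e3 q4138 L47905 q4138, e3 q4139 L47933 q3162, e3 q4140 L412658 q4140, e3 q4141 L464570 q3317, e3 q4142 (flp_h L69057) q5264, e3 q4143 (flp_h L48039) q3167, e3 q4144 L48187 q4144, e3 q4145 L48231 q3173, e3 q4146 L439848 q4146, e3 q4147 L583650 q3311, e3 q4148 (flp_h L69494) q5267, e3 q4149 (flp_h L48328) q3174, e3 q4150 L48388 q4150, e3 q4151 L48579 q4151, e3 q4152 L48633 q3185, e3 q4153 L396379 q4153, e3 q4154 L441667 q4154, e3 q4155 (flp_h L583421) q3315, e3 q4156 (flp_h L48757) q3186, e3 q4157 L625684 q3312, e3 q4158 (flp_h L48778) q3187, e3 q4159 L48962 q3197, trivial⟩ (by decide +kernel)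

theorem ce_h_65 : ∀ r, r < 64 → sm gh (Qf (4160 + r)) = Qf (tab Gen.h (4160 + r)) :=
  edges_tab (sm gh) Qf (tab Gen.h) 4160 [(4160, 3242), (4161, 3243), (4162, 3234), (4163, 3199), (4164, 3257), (4165, 3258), (4166, 3247), (4167, 3248), (4168, 3211), (4169, 3212), (4170, 3271), (4171, 3272), (4172, 3290), (4173, 3262), (4174, 3263), (4175, 3223), (4176, 4176), (4177, 3225), (4178, 5026), (4179, 4179), (4180, 3237), (4181, 3236), (4182, 4182), (4183, 5012), (4184, 5013), (4185, 3310), (4186, 5049), (4187, 5050), (4188, 4188), (4189, 3252), (4190, 3250), (4191, 5031), (4192, 5032), (4193, 5079), (4194, 5081), (4195, 3265), (4196, 3264), (4197, 3295), (4198, 5055), (4199, 5056), (4200, 4462), (4201, 4463), (4202, 4202), (4203, 5277), (4204, 3274), (4205, 5278), (4206, 3275), (4207, 5186), (4208, 5185), (4209, 3277), (4210, 5080), (4211, 3279), (4212, 4212), (4213, 5279), (4214, 5280), (4215, 3282), (4216, 3284), (4217, 4217), (4218, 3287), (4219, 3288), (4220, 3292), (4221, 3304), (4222, 5188), (4223, 4223)]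
    ⟨e3 q4160 L446690 q3242, e3 q4161 L598766 q3243, e3 q4162 (flp_h L600618) q3234, e3 q4163 (flp_h L49134) q3199, e3 q4164 (flp_h L599612) q3257, e3 q4165 (flp_h L599625) q3258, e3 q4166 L599501 q3247, e3 q4167 (flp_h L600513) q3248, e3 q4168 (flp_h L49623) q3211, e3 q4169 (flp_h L49638) q3212, e3 q4170 L589908 q3271, e3 q4171 (flp_h L587524) q3272, e3 q4172 (flp_h L514099) q3290, e3 q4173 L589801 q3262, e3 q4174 L600417 q3263, e3 q4175 (flp_h L50360) q3223, e3 q4176 L50375 q4176, e3 q4177 (flp_h L50384) q3225, e3 q4178 L589417 q5026, e3 q4179 L50489 q4179, e3 q4180 L626261 q3237, e3 q4181 L626251 q3236, e3 q4182 L50556 q4182, e3 q4183 L599300 q5012, e3 q4184 L457757 q5013, e3 q4185 L50667 q3310, e3 q4186 (flp_h L600893) q5049, e3 q4187 L589106 q5050, e3 q4188 L50870 q4188, e3 q4189 L625918 q3252, e3 q4190 L626544 q3250, e3 q4191 (flp_h L577795) q5031, e3 q4192 L457912 q5032, e3 q4193 (flp_h L457294) q5079, e3 q4194 L589115 q5081, e3 q4195 (flp_h L623904) q3265, e3 q4196 L626554 q3264, e3 q4197 L51530 q3295, e3 q4198 L457224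 q5055, e3 q4199 L579671 q5056, e3 q4200 L561085 q4462, e3 q4201 L561094 q4463, e3 q4202 L425852 q4202, e3 q4203 L75087 q5277, e3 q4204 (flp_h L51953) q3274, e3 q4205 L75105 q5278, e3 q4206 (flp_h L51975) q3275, e3 q4207 (flp_h L604799) q5186, e3 q4208 (flp_h L624510) q5185, e3 q4209 (flp_h L52022) q3277, e3 q4210 (flp_h L589758) q5080, e3 q4211 (flp_h L52039) q3279, e3 q4212 L429782 q4212, e3 q4213 L75235 q5279, e3 q4214 L75245 q5280, e3 q4215 (flp_h L52082) q3282, e3 q4216 (flp_h L52098) q3284, e3 q4217 L52116 q4217, e3 q4218 (flp_h L52141) q3287, e3 q4219 (flp_h L52150) q3288, e3 q4220 (flp_h L605184) q3292, e3 q4221 (flp_h L560787) q3304, e3 q4222 (flp_h L510005) q5188, e3 q4223 L52233 q4223, trivial⟩ (by decide +kernel)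

theorem ce_h_66 : ∀ r, r < 64 → sm gh (Qf (4224 + r)) = Qf (tab Gen.h (4224 + r)) :=
  edges_tab (sm gh) Qf (tab Gen.h) 4224 [(4224, 4224), (4225, 5187), (4226, 4226), (4227, 4227), (4228, 4228), (4229, 4982), (4230, 5014), (4231, 4997), (4232, 4972), (4233, 4233), (4234, 4234), (4235, 3321), (4236, 4236), (4237, 4237), (4238, 4238), (4239, 4239), (4240, 4240), (4241, 4241), (4242, 3348), (4243, 3349), (4244, 3352), (4245, 3353), (4246, 3354), (4247, 3358), (4248, 3359), (4249, 5310), (4250, 3361), (4251, 3362), (4252, 3366), (4253, 3367), (4254, 5317), (4255, 3369), (4256, 3370), (4257, 3375), (4258, 5324), (4259, 3377), (4260, 5328), (4261, 3337), (4262, 3380), (4263, 3381), (4264, 5333), (4265, 3389), (4266, 5336), (4267, 5339), (4268, 3341), (4269, 3393), (4270, 5343), (4271, 5345), (4272, 3343), (4273, 4273), (4274, 3398), (4275, 4275), (4276, 4276), (4277, 5298), (4278, 5299), (4279, 5300), (4280, 4280), (4281, 4281), (4282, 4282), (4283, 5301), (4284, 5302), (4285, 5363), (4286, 5304), (4287, 5305)]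
    ⟨e3 q4224 L52241 q4224, e3 q4225 (flp_h L560676) q5187, e3 q4226 L52264 q4226, e3 q4227 L52275 q4227, e3 q4228 L52284 q4228, e3 q4229 L582516 q4982, e3 q4230 (flp_h L585975) q5014, e3 q4231 (flp_h L585766) q4997, e3 q4232 L583797 q4972, e3 q4233 L54471 q4233, e3 q4234 L54478 q4234, e3 q4235 (flp_h L55038) q3321, e3 q4236 L55057 q4236, e3 q4237 L55064 q4237, e3 q4238 L55073 q4238, e3 q4239 L55082 q4239, e3 q4240 L55091 q4240, e3 q4241 L55099 q4241, e3 q4242 L55109 q3348, e3 q4243 L55120 q3349, e3 q4244 L55130 q3352, e3 q4245 L55141 q3353, e3 q4246 L55150 q3354, e3 q4247 L55162 q3358, e3 q4248 L55172 q3359, e3 q4249 L79552 q5310, e3 q4250 L55186 q3361, e3 q4251 L55197 q3362, e3 q4252 L55208 q3366, e3 q4253 L55220 q3367, e3 q4254 L79620 q5317, e3 q4255 L55239 q3369, e3 q4256 L55247 q3370, e3 q4257 L55259 q3375, e3 q4258 L79683 q5324, e3 q4259 L55275 q3377, e3 q4260 L79717 q5328, e3 q4261 (flp_h L55285) q3337, e3 q4262 L55299 q3380, e3 q4263 L55311 q3381, e3 q4264 L79762 q5333, e3 q4265 L55329 q3389, e3 q4266 L79789 q5336,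 e3 q4267 L79811 q5339, e3 q4268 (flp_h L55348) q3341, e3 q4269 L55362 q3393, e3 q4270 L79847 q5343, e3 q4271 L79863 q5345, e3 q4272 (flp_h L55380) q3343, e3 q4273 L55397 q4273, e3 q4274 L55404 q3398, e3 q4275 L55415 q4275, e3 q4276 L55427 q4276, e3 q4277 (flp_h L79445) q5298, e3 q4278 (flp_h L79457) q5299, e3 q4279 (flp_h L79465) q5300, e3 q4280 L55463 q4280, e3 q4281 L55474 q4281, e3 q4282 L55484 q4282, e3 q4283 (flp_h L79477) q5301, e3 q4284 (flp_h L79488) q5302, e3 q4285 L80044 q5363, e3 q4286 (flp_h L79505) q5304, e3 q4287 (flp_h L79516) q5305, trivial⟩ (by decide +kernel)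

theorem ce_h_67 : ∀ r, r < 64 → sm gh (Qf (4288 + r)) = Qf (tab Gen.h (4288 + r)) :=
  edges_tab (sm gh) Qf (tab Gen.h) 4288 [(4288, 4288), (4289, 5369), (4290, 4290), (4291, 4291), (4292, 5306), (4293, 5376), (4294, 5308), (4295, 5380), (4296, 3360), (4297, 5311), (4298, 5312), (4299, 4299), (4300, 5386), (4301, 4301), (4302, 4302), (4303, 5313), (4304, 5393), (4305, 5315), (4306, 5397), (4307, 3368), (4308, 5318), (4309, 5319), (4310, 5402), (4311, 4311), (4312, 5406), (4313, 3372), (4314, 4314), (4315, 4315), (4316, 5411), (4317, 5321), (4318, 5414), (4319, 5417), (4320, 3376), (4321, 5325), (4322, 5421), (4323, 5423), (4324, 3378), (4325, 5407), (4326, 5330), (4327, 5426), (4328, 5429), (4329, 3382), (4330, 4330), (4331, 5433), (4332, 5435), (4333, 3384), (4334, 3397), (4335, 4335), (4336, 5439), (4337, 5442), (4338, 3388), (4339, 5334), (4340, 5447), (4341, 3390), (4342, 5451), (4343, 5453), (4344, 3391), (4345, 5430), (4346, 5341), (4347, 5457), (4348, 3394), (4349, 5460), (4350, 3395), (4351, 5436)]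
    ⟨e3 q4288 L55548 q4288, e3 q4289 L80105 q5369, e3 q4290 L55565 q4290, e3 q4291 L55577 q4291, e3 q4292 (flp_h L79526) q5306, e3 q4293 L80164 q5376, e3 q4294 (flp_h L79541) q5308, e3 q4295 L80194 q5380, e3 q4296 (flp_h L55608) q3360, e3 q4297 (flp_h L79566) q5311, e3 q4298 (flp_h L79577) q5312, e3 q4299 L55651 q4299, e3 q4300 L80259 q5386, e3 q4301 L55673 q4301, e3 q4302 L55682 q4302, e3 q4303 (flp_h L79589) q5313, e3 q4304 L80327 q5393, e3 q4305 (flp_h L79608) q5315, e3 q4306 L80359 q5397, e3 q4307 (flp_h L55720) q3368, e3 q4308 (flp_h L79635) q5318, e3 q4309 (flp_h L79645) q5319, e3 q4310 L80425 q5402, e3 q4311 L55771 q4311, e3 q4312 L80464 q5406, e3 q4313 (flp_h L55783) q3372, e3 q4314 L55798 q4314, e3 q4315 L55811 q4315, e3 q4316 L80510 q5411, e3 q4317 (flp_h L79665) q5321, e3 q4318 L80534 q5414, e3 q4319 L80558 q5417, e3 q4320 (flp_h L55844) q3376, e3 q4321 (flp_h L79697) q5325, e3 q4322 L80586 q5421, e3 q4323 L80604 q5423, e3 q4324 (flp_h L55875) q3378, e3 q4325 (flp_h L80482) q5407, e3 q4326 (flp_h L79742) q5330,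 e3 q4327 L80669 q5426, e3 q4328 L80696 q5429, e3 q4329 (flp_h L55938) q3382, e3 q4330 L55952 q4330, e3 q4331 L80734 q5433, e3 q4332 L80754 q5435, e3 q4333 (flp_h L55975) q3384, e3 q4334 L55993 q3397, e3 q4335 L56001 q4335, e3 q4336 L80790 q5439, e3 q4337 L80815 q5442, e3 q4338 (flp_h L56021) q3388, e3 q4339 (flp_h L79778) q5334, e3 q4340 L80855 q5447, e3 q4341 (flp_h L56044) q3390, e3 q4342 L80886 q5451, e3 q4343 L80902 q5453, e3 q4344 (flp_h L56067) q3391, e3 q4345 (flp_h L80712) q5430, e3 q4346 (flp_h L79835) q5341, e3 q4347 L80932 q5457, e3 q4348 (flp_h L56096) q3394, e3 q4349 L80958 q5460, e3 q4350 (flp_h L56114) q3395, e3 q4351 (flp_h L80771) q5436, trivial⟩ (by decide +kernel)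

theorem ce_h_68 : ∀ r, r < 64 → sm gh (Qf (4352 + r)) = Qf (tab Gen.h (4352 + r)) :=
  edges_tab (sm gh) Qf (tab Gen.h) 4352 [(4352, 3402), (4353, 3403), (4354, 5466), (4355, 3405), (4356, 3406), (4357, 5462), (4358, 5473), (4359, 5464), (4360, 5477), (4361, 3404), (4362, 5467), (4363, 5468), (4364, 5482), (4365, 4365), (4366, 5485), (4367, 5488), (4368, 3408), (4369, 4369), (4370, 5492), (4371, 5494), (4372, 3410), (4373, 5478), (4374, 4374), (4375, 3419), (4376, 5500), (4377, 3421), (4378, 5504), (4379, 3416), (4380, 3424), (4381, 3425), (4382, 5509), (4383, 5497), (4384, 5512), (4385, 5515), (4386, 3420), (4387, 5501), (4388, 5519), (4389, 5521), (4390, 3422), (4391, 3435), (4392, 5506), (4393, 5525), (4394, 5528), (4395, 3426), (4396, 4396), (4397, 5533), (4398, 3428), (4399, 5537), (4400, 5539), (4401, 3429), (4402, 5516), (4403, 4403), (4404, 5543), (4405, 3432), (4406, 5546), (4407, 3433), (4408, 5522), (4409, 5550), (4410, 3445), (4411, 5553), (4412, 5556), (4413, 3438), (4414, 3449), (4415, 5560)]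
    ⟨e3 q4352 L56137 q3402, e3 q4353 L56149 q3403, e3 q4354 L81014 q5466, e3 q4355 L56168 q3405, e3 q4356 L56178 q3406, e3 q4357 (flp_h L80982) q5462, e3 q4358 L81089 q5473, e3 q4359 (flp_h L81001) q5464, e3 q4360 L81125 q5477, e3 q4361 (flp_h L56223) q3404, e3 q4362 (flp_h L81030) q5467, e3 q4363 (flp_h L81041) q5468, e3 q4364 L81172 q5482, e3 q4365 L56268 q4365, e3 q4366 L81199 q5485, e3 q4367 L81224 q5488, e3 q4368 (flp_h L56286) q3408, e3 q4369 L56302 q4369, e3 q4370 L81259 q5492, e3 q4371 L81276 q5494, e3 q4372 (flp_h L56318) q3410, e3 q4373 (flp_h L81140) q5478, e3 q4374 L56342 q4374, e3 q4375 L56353 q3419, e3 q4376 L81325 q5500, e3 q4377 L56369 q3421, e3 q4378 L81361 q5504, e3 q4379 (flp_h L56380) q3416, e3 q4380 L56395 q3424, e3 q4381 L56408 q3425, e3 q4382 L81410 q5509, e3 q4383 (flp_h L81306) q5497, e3 q4384 L81437 q5512, e3 q4385 L81464 q5515, e3 q4386 (flp_h L56448) q3420, e3 q4387 (flp_h L81340) q5501, e3 q4388 L81498 q5519, e3 q4389 L81514 q5521, e3 q4390 (flp_h L56483) q3422, e3 q4391 L56495 q3435, e3 q4392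 (flp_h L81387) q5506, e3 q4393 L81543 q5525, e3 q4394 L81570 q5528, e3 q4395 (flp_h L56523) q3426, e3 q4396 L56540 q4396, e3 q4397 L81611 q5533, e3 q4398 (flp_h L56548) q3428, e3 q4399 L81638 q5537, e3 q4400 L81654 q5539, e3 q4401 (flp_h L56571) q3429, e3 q4402 (flp_h L81478) q5516, e3 q4403 L56595 q4403, e3 q4404 L81684 q5543, e3 q4405 (flp_h L56602) q3432, e3 q4406 L81705 q5546, e3 q4407 (flp_h L56616) q3433, e3 q4408 (flp_h L81526) q5522, e3 q4409 L81738 q5550, e3 q4410 L56645 q3445, e3 q4411 L81766 q5553, e3 q4412 L81789 q5556, e3 q4413 (flp_h L56665) q3438, e3 q4414 L56680 q3449, e3 q4415 L81827 q5560, trivial⟩ (by decide +kernel)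

theorem ce_h_69 : ∀ r, r < 64 → sm gh (Qf (4416 + r)) = Qf (tab Gen.h (4416 + r)) :=
  edges_tab (sm gh) Qf (tab Gen.h) 4416 [(4416, 5562), (4417, 3440), (4418, 4418), (4419, 3454), (4420, 5566), (4421, 5569), (4422, 3444), (4423, 5551), (4424, 5574), (4425, 3446), (4426, 5578), (4427, 5580), (4428, 3447), (4429, 3464), (4430, 5558), (4431, 5584), (4432, 3450), (4433, 5587), (4434, 3451), (4435, 3470), (4436, 5590), (4437, 5593), (4438, 3455), (4439, 5597), (4440, 5599), (4441, 3456), (4442, 5570), (4443, 4443), (4444, 5603), (4445, 5605), (4446, 3459), (4447, 4447), (4448, 5576), (4449, 5612), (4450, 3461), (4451, 5615), (4452, 3462), (4453, 5581), (4454, 5618), (4455, 5619), (4456, 3466), (4457, 3510), (4458, 5586), (4459, 3468), (4460, 5588), (4461, 4461), (4462, 4200), (4463, 4201), (4464, 4464), (4465, 3483), (4466, 4037), (4467, 4038), (4468, 3488), (4469, 5633), (4470, 3478), (4471, 5635), (4472, 3479), (4473, 3699), (4474, 3700), (4475, 5628), (4476, 3696), (4477, 3697), (4478, 5643), (4479, 3485)]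
    ⟨e3 q4416 L81843 q5562, e3 q4417 (flp_h L56699) q3440, e3 q4418 L56716 q4418, e3 q4419 L56724 q3454, e3 q4420 L81880 q5566, e3 q4421 L81910 q5569, e3 q4422 (flp_h L56748) q3444, e3 q4423 (flp_h L81755) q5551, e3 q4424 L81955 q5574, e3 q4425 (flp_h L56774) q3446, e3 q4426 L81985 q5578, e3 q4427 L82003 q5580, e3 q4428 (flp_h L56800) q3447, e3 q4429 L56814 q3464, e3 q4430 (flp_h L81814) q5558, e3 q4431 L82037 q5584, e3 q4432 (flp_h L56835) q3450, e3 q4433 L82062 q5587, e3 q4434 (flp_h L56851) q3451, e3 q4435 L56862 q3470, e3 q4436 L82082 q5590, e3 q4437 L82106 q5593, e3 q4438 (flp_h L56879) q3455, e3 q4439 L82140 q5597, e3 q4440 L82158 q5599, e3 q4441 (flp_h L56905) q3456, e3 q4442 (flp_h L81926) q5570, e3 q4443 L56931 q4443, e3 q4444 L82189 q5603, e3 q4445 L82204 q5605, e3 q4446 (flp_h L56945) q3459, e3 q4447 L56956 q4447, e3 q4448 (flp_h L81973) q5576, e3 q4449 L82254 q5612, e3 q4450 (flp_h L56972) q3461, e3 q4451 L82281 q5615, e3 q4452 (flp_h L56988) q3462, e3 q4453 (flp_h L82016) q5581, e3 q4454 L82303 q5618, e3 q4455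 L82310 q5619, e3 q4456 (flp_h L57018) q3466, e3 q4457 L57032 q3510, e3 q4458 (flp_h L82060) q5586, e3 q4459 (flp_h L57042) q3468, e3 q4460 (flp_h L82073) q5588, e3 q4461 L57105 q4461, e3 q4462 (flp_h L561085) q4200, e3 q4463 (flp_h L561094) q4201, e3 q4464 L57152 q4464, e3 q4465 L57189 q3483, e3 q4466 (flp_h L543962) q4037, e3 q4467 L543922 q4038, e3 q4468 L57247 q3488, e3 q4469 L82670 q5633, e3 q4470 (flp_h L57257) q3478, e3 q4471 L82692 q5635, e3 q4472 (flp_h L57272) q3479, e3 q4473 L562634 q3699, e3 q4474 (flp_h L524139) q3700, e3 q4475 (flp_h L82574) q5628, e3 q4476 L562626 q3696, e3 q4477 (flp_h L545809) q3697, e3 q4478 L82923 q5643, e3 q4479 (flp_h L57421) q3485, trivial⟩ (by decide +kernel)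

theorem ce_h_70 : ∀ r, r < 64 → sm gh (Qf (4480 + r)) = Qf (tab Gen.h (4480 + r)) :=
  edges_tab (sm gh) Qf (tab Gen.h) 4480 [(4480, 5645), (4481, 3486), (4482, 5647), (4483, 5648), (4484, 3489), (4485, 5585), (4486, 3511), (4487, 3491), (4488, 3513), (4489, 3727), (4490, 3729), (4491, 5659), (4492, 3495), (4493, 5661), (4494, 3496), (4495, 5663), (4496, 5666), (4497, 3499), (4498, 5668), (4499, 3500), (4500, 5670), (4501, 5671), (4502, 3502), (4503, 5613), (4504, 3712), (4505, 3504), (4506, 3713), (4507, 5678), (4508, 3507), (4509, 3508), (4510, 5620), (4511, 5650), (4512, 5622), (4513, 5687), (4514, 5653), (4515, 3514), (4516, 4516), (4517, 3517), (4518, 3518), (4519, 4108), (4520, 5691), (4521, 5692), (4522, 4522), (4523, 4523), (4524, 5701), (4525, 4525), (4526, 4526), (4527, 4527), (4528, 4528), (4529, 3526), (4530, 3527), (4531, 4107), (4532, 5711), (4533, 5706), (4534, 5707), (4535, 4535), (4536, 5718), (4537, 4537), (4538, 5722), (4539, 3530), (4540, 4540), (4541, 4541), (4542, 4542), (4543, 4543)]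
    ⟨e3 q4480 L82949 q5645, e3 q4481 (flp_h L57440) q3486, e3 q4482 L82975 q5647, e3 q4483 L82984 q5648, e3 q4484 (flp_h L57474) q3489, e3 q4485 (flp_h L82050) q5585, e3 q4486 L57497 q3511, e3 q4487 (flp_h L57499) q3491, e3 q4488 L57514 q3513, e3 q4489 L562789 q3727, e3 q4490 L563529 q3729, e3 q4491 L83167 q5659, e3 q4492 (flp_h L57586) q3495, e3 q4493 L83195 q5661, e3 q4494 (flp_h L57605) q3496, e3 q4495 L83220 q5663, e3 q4496 L83243 q5666, e3 q4497 (flp_h L57637) q3499, e3 q4498 L83268 q5668, e3 q4499 (flp_h L57655) q3500, e3 q4500 L83324 q5670, e3 q4501 L83333 q5671, e3 q4502 (flp_h L57702) q3502, e3 q4503 (flp_h L82270) q5613, e3 q4504 L562725 q3712, e3 q4505 (flp_h L57727) q3504, e3 q4506 L563306 q3713, e3 q4507 L83390 q5678, e3 q4508 (flp_h L57751) q3507, e3 q4509 (flp_h L57760) q3508, e3 q4510 (flp_h L82324) q5620, e3 q4511 (flp_h L83006) q5650, e3 q4512 (flp_h L82340) q5622, e3 q4513 L83463 q5687, e3 q4514 (flp_h L83031) q5653, e3 q4515 (flp_h L57809) q3514, e3 q4516 L57830 q4516, e3 q4517 L57838 q3517, e3 q4518 L57850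 q3518, e3 q4519 L593099 q4108, e3 q4520 (flp_h L83522) q5691, e3 q4521 (flp_h L83531) q5692, e3 q4522 L57891 q4522, e3 q4523 L57902 q4523, e3 q4524 L83620 q5701, e3 q4525 L57916 q4525, e3 q4526 L57925 q4526, e3 q4527 L57934 q4527, e3 q4528 L57944 q4528, e3 q4529 L57967 q3526, e3 q4530 L57977 q3527, e3 q4531 L593106 q4107, e3 q4532 L83773 q5711, e3 q4533 (flp_h L83717) q5706, e3 q4534 (flp_h L83729) q5707, e3 q4535 L58041 q4535, e3 q4536 L83834 q5718, e3 q4537 L58056 q4537, e3 q4538 L83864 q5722, e3 q4539 (flp_h L58067) q3530, e3 q4540 L58081 q4540, e3 q4541 L58090 q4541, e3 q4542 L58108 q4542, e3 q4543 L58117 q4543, trivial⟩ (by decide +kernel)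

theorem ce_h_71 : ∀ r, r < 64 → sm gh (Qf (4544 + r)) = Qf (tab Gen.h (4544 + r)) :=
  edges_tab (sm gh) Qf (tab Gen.h) 4544 [(4544, 5729), (4545, 3539), (4546, 3540), (4547, 5734), (4548, 4084), (4549, 5738), (4550, 3538), (4551, 5730), (4552, 5731), (4553, 5374), (4554, 4554), (4555, 5372), (4556, 5746), (4557, 3542), (4558, 4558), (4559, 5750), (4560, 5752), (4561, 3544), (4562, 5739), (4563, 4563), (4564, 5755), (4565, 3552), (4566, 3553), (4567, 5760), (4568, 4070), (4569, 5764), (4570, 3551), (4571, 5756), (4572, 5757), (4573, 5769), (4574, 4574), (4575, 5772), (4576, 5775), (4577, 3555), (4578, 4578), (4579, 5779), (4580, 5781), (4581, 3557), (4582, 5765), (4583, 4583), (4584, 5785), (4585, 3561), (4586, 3568), (4587, 3569), (4588, 5789), (4589, 5792), (4590, 3564), (4591, 4085), (4592, 5796), (4593, 5798), (4594, 3566), (4595, 3579), (4596, 5787), (4597, 5802), (4598, 5805), (4599, 3570), (4600, 4600), (4601, 5810), (4602, 3572), (4603, 5814), (4604, 5816), (4605, 3573), (4606, 5793), (4607, 4607)]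
    ⟨e3 q4544 L83971 q5729, e3 q4545 L58153 q3539, e3 q4546 L58165 q3540, e3 q4547 L84035 q5734, e3 q4548 (flp_h L592983) q4084, e3 q4549 L84068 q5738, e3 q4550 (flp_h L58204) q3538, e3 q4551 (flp_h L83985) q5730, e3 q4552 (flp_h L83997) q5731, e3 q4553 (flp_h L638369) q5374, e3 q4554 L58243 q4554, e3 q4555 (flp_h L638254) q5372, e3 q4556 L84149 q5746, e3 q4557 (flp_h L58258) q3542, e3 q4558 L58272 q4558, e3 q4559 L84180 q5750, e3 q4560 L84193 q5752, e3 q4561 (flp_h L58287) q3544, e3 q4562 (flp_h L84079) q5739, e3 q4563 L58308 q4563, e3 q4564 L84250 q5755, e3 q4565 L58349 q3552, e3 q4566 L58358 q3553, e3 q4567 L84323 q5760, e3 q4568 (flp_h L593575) q4070, e3 q4569 L84358 q5764, e3 q4570 (flp_h L58404) q3551, e3 q4571 (flp_h L84265) q5756, e3 q4572 (flp_h L84276) q5757, e3 q4573 L84405 q5769, e3 q4574 L58449 q4574, e3 q4575 L84433 q5772, e3 q4576 L84455 q5775, e3 q4577 (flp_h L58467) q3555, e3 q4578 L58481 q4578, e3 q4579 L84489 q5779, e3 q4580 L84508 q5781, e3 q4581 (flp_h L58498) q3557, e3 q4582 (flp_h L84375) q5765, e3 q4583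 L58523 q4583, e3 q4584 L84597 q5785, e3 q4585 (flp_h L58562) q3561, e3 q4586 L58576 q3568, e3 q4587 L58589 q3569, e3 q4588 L84672 q5789, e3 q4589 L84696 q5792, e3 q4590 (flp_h L58628) q3564, e3 q4591 L520345 q4085, e3 q4592 L84729 q5796, e3 q4593 L84747 q5798, e3 q4594 (flp_h L58662) q3566, e3 q4595 L58676 q3579, e3 q4596 (flp_h L84622) q5787, e3 q4597 L84782 q5802, e3 q4598 L84804 q5805, e3 q4599 (flp_h L58702) q3570, e3 q4600 L58717 q4600, e3 q4601 L84846 q5810, e3 q4602 (flp_h L58728) q3572, e3 q4603 L84877 q5814, e3 q4604 L84891 q5816, e3 q4605 (flp_h L58748) q3573, e3 q4606 (flp_h L84708) q5793, e3 q4607 L58770 q4607, trivial⟩ (by decide +kernel)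

theorem ce_h_72 : ∀ r, r < 64 → sm gh (Qf (4608 + r)) = Qf (tab Gen.h (4608 + r)) :=
  edges_tab (sm gh) Qf (tab Gen.h) 4608 [(4608, 5820), (4609, 3576), (4610, 5823), (4611, 3577), (4612, 5799), (4613, 5826), (4614, 5828), (4615, 3581), (4616, 4616), (4617, 3593), (4618, 5832), (4619, 3585), (4620, 5835), (4621, 5837), (4622, 3586), (4623, 3603), (4624, 4102), (4625, 5841), (4626, 3589), (4627, 5844), (4628, 3590), (4629, 3609), (4630, 5847), (4631, 5850), (4632, 3594), (4633, 5854), (4634, 5856), (4635, 3595), (4636, 3794), (4637, 4637), (4638, 5860), (4639, 5862), (4640, 3598), (4641, 3940), (4642, 5833), (4643, 5869), (4644, 3600), (4645, 5872), (4646, 3601), (4647, 5838), (4648, 5875), (4649, 5876), (4650, 3605), (4651, 4651), (4652, 5843), (4653, 3607), (4654, 5845), (4655, 5884), (4656, 4656), (4657, 5887), (4658, 5890), (4659, 3611), (4660, 4660), (4661, 5894), (4662, 5896), (4663, 3613), (4664, 3626), (4665, 4665), (4666, 5900), (4667, 5903), (4668, 3617), (4669, 3741), (4670, 5908), (4671, 3619)]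
    ⟨e3 q4608 L84921 q5820, e3 q4609 (flp_h L58778) q3576, e3 q4610 L84941 q5823, e3 q4611 (flp_h L58794) q3577, e3 q4612 (flp_h L84763) q5799, e3 q4613 L85067 q5826, e3 q4614 L85083 q5828, e3 q4615 (flp_h L58881) q3581, e3 q4616 L58898 q4616, e3 q4617 L58905 q3593, e3 q4618 L85193 q5832, e3 q4619 (flp_h L58955) q3585, e3 q4620 L85227 q5835, e3 q4621 L85243 q5837, e3 q4622 (flp_h L58978) q3586, e3 q4623 L58990 q3603, e3 q4624 L593470 q4102, e3 q4625 L85277 q5841, e3 q4626 (flp_h L59012) q3589, e3 q4627 L85301 q5844, e3 q4628 (flp_h L59030) q3590, e3 q4629 L59045 q3609, e3 q4630 L85328 q5847, e3 q4631 L85351 q5850, e3 q4632 (flp_h L59064) q3594, e3 q4633 L85383 q5854, e3 q4634 L85399 q5856, e3 q4635 (flp_h L59085) q3595, e3 q4636 L574974 q3794, e3 q4637 L59109 q4637, e3 q4638 L85432 q5860, e3 q4639 L85450 q5862, e3 q4640 (flp_h L59126) q3598, e3 q4641 L59141 q3940, e3 q4642 (flp_h L85216) q5833, e3 q4643 L85506 q5869, e3 q4644 (flp_h L59157) q3600, e3 q4645 L85528 q5872, e3 q4646 (flp_h L59171) q3601, e3 q4647 (flp_h L85256)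 q5838, e3 q4648 L85551 q5875, e3 q4649 L85558 q5876, e3 q4650 (flp_h L59201) q3605, e3 q4651 L59215 q4651, e3 q4652 (flp_h L85299) q5843, e3 q4653 (flp_h L59224) q3607, e3 q4654 (flp_h L85316) q5845, e3 q4655 L85630 q5884, e3 q4656 L59260 q4656, e3 q4657 L85661 q5887, e3 q4658 L85686 q5890, e3 q4659 (flp_h L59283) q3611, e3 q4660 L59298 q4660, e3 q4661 L85726 q5894, e3 q4662 L85743 q5896, e3 q4663 (flp_h L59318) q3613, e3 q4664 L59333 q3626, e3 q4665 L59342 q4665, e3 q4666 L85778 q5900, e3 q4667 L85803 q5903, e3 q4668 (flp_h L59365) q3617, e3 q4669 L59383 q3741, e3 q4670 L85850 q5908, e3 q4671 (flp_h L59394) q3619, trivial⟩ (by decide +kernel)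

theorem ce_h_73 : ∀ r, r < 64 → sm gh (Qf (4672 + r)) = Qf (tab Gen.h (4672 + r)) :=
  edges_tab (sm gh) Qf (tab Gen.h) 4672 [(4672, 5912), (4673, 5914), (4674, 3620), (4675, 5891), (4676, 3748), (4677, 5918), (4678, 3623), (4679, 5921), (4680, 3624), (4681, 5897), (4682, 5925), (4683, 5928), (4684, 3628), (4685, 4685), (4686, 5933), (4687, 3630), (4688, 5937), (4689, 5939), (4690, 3631), (4691, 3648), (4692, 4692), (4693, 5943), (4694, 3634), (4695, 5946), (4696, 3635), (4697, 3654), (4698, 5934), (4699, 5951), (4700, 3639), (4701, 5954), (4702, 5956), (4703, 3640), (4704, 5929), (4705, 3760), (4706, 5960), (4707, 5962), (4708, 3643), (4709, 3995), (4710, 5935), (4711, 5969), (4712, 3645), (4713, 5972), (4714, 3646), (4715, 5940), (4716, 5975), (4717, 5976), (4718, 3650), (4719, 4719), (4720, 5945), (4721, 3652), (4722, 5947), (4723, 5851), (4724, 5985), (4725, 3655), (4726, 5988), (4727, 5990), (4728, 3656), (4729, 3677), (4730, 4730), (4731, 5994), (4732, 5996), (4733, 3659), (4734, 3671), (4735, 3683)]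
    ⟨e3 q4672 L85881 q5912, e3 q4673 L85898 q5914, e3 q4674 (flp_h L59415) q3620, e3 q4675 (flp_h L85703) q5891, e3 q4676 L59442 q3748, e3 q4677 L85930 q5918, e3 q4678 (flp_h L59452) q3623, e3 q4679 L85952 q5921, e3 q4680 (flp_h L59467) q3624, e3 q4681 (flp_h L85758) q5897, e3 q4682 L85989 q5925, e3 q4683 L86016 q5928, e3 q4684 (flp_h L59503) q3628, e3 q4685 L59519 q4685, e3 q4686 L86063 q5933, e3 q4687 (flp_h L59532) q3630, e3 q4688 L86093 q5937, e3 q4689 L86109 q5939, e3 q4690 (flp_h L59555) q3631, e3 q4691 L59569 q3648, e3 q4692 L59580 q4692, e3 q4693 L86143 q5943, e3 q4694 (flp_h L59591) q3634, e3 q4695 L86162 q5946, e3 q4696 (flp_h L59605) q3635, e3 q4697 L59619 q3654, e3 q4698 (flp_h L576569) q5934, e3 q4699 L86210 q5951, e3 q4700 (flp_h L59636) q3639, e3 q4701 L86244 q5954, e3 q4702 L86260 q5956, e3 q4703 (flp_h L59659) q3640, e3 q4704 (flp_h L86032) q5929, e3 q4705 L59687 q3760, e3 q4706 L86291 q5960, e3 q4707 L86305 q5962, e3 q4708 (flp_h L59701) q3643, e3 q4709 L59713 q3995, e3 q4710 (flp_h L86082) q5935, e3 q4711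 L86357 q5969, e3 q4712 (flp_h L59728) q3645, e3 q4713 L86378 q5972, e3 q4714 (flp_h L59742) q3646, e3 q4715 (flp_h L86125) q5940, e3 q4716 L86406 q5975, e3 q4717 L86413 q5976, e3 q4718 (flp_h L59772) q3650, e3 q4719 L59784 q4719, e3 q4720 (flp_h L86160) q5945, e3 q4721 (flp_h L59790) q3652, e3 q4722 (flp_h L86178) q5947, e3 q4723 L576282 q5851, e3 q4724 L86492 q5985, e3 q4725 (flp_h L59827) q3655, e3 q4726 L86529 q5988, e3 q4727 L86547 q5990, e3 q4728 (flp_h L59853) q3656, e3 q4729 L59869 q3677, e3 q4730 L59880 q4730, e3 q4731 L86583 q5994, e3 q4732 L86599 q5996, e3 q4733 (flp_h L59899) q3659, e3 q4734 (flp_h L576316) q3671, e3 q4735 L59917 q3683, trivial⟩ (by decide +kernel)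

theorem ce_h_74 : ∀ r, r < 64 → sm gh (Qf (4736 + r)) = Qf (tab Gen.h (4736 + r)) :=
  edges_tab (sm gh) Qf (tab Gen.h) 4736 [(4736, 6002), (4737, 3661), (4738, 6005), (4739, 3662), (4740, 3688), (4741, 6008), (4742, 6009), (4743, 3666), (4744, 3708), (4745, 3693), (4746, 3668), (4747, 3695), (4748, 5997), (4749, 6019), (4750, 6021), (4751, 3672), (4752, 5986), (4753, 6025), (4754, 3674), (4755, 6028), (4756, 3675), (4757, 5991), (4758, 6031), (4759, 6034), (4760, 3679), (4761, 6037), (4762, 3680), (4763, 4029), (4764, 5998), (4765, 4030), (4766, 5852), (4767, 6045), (4768, 6046), (4769, 3684), (4770, 3726), (4771, 6004), (4772, 3686), (4773, 6006), (4774, 6053), (4775, 3689), (4776, 3690), (4777, 3733), (4778, 6011), (4779, 3735), (4780, 6062), (4781, 6014), (4782, 5639), (4783, 5640), (4784, 6066), (4785, 5636), (4786, 5637), (4787, 6070), (4788, 6071), (4789, 3701), (4790, 6003), (4791, 3703), (4792, 6075), (4793, 3705), (4794, 3706), (4795, 6010), (4796, 3734), (4797, 6012), (4798, 6084), (4799, 3737)]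
    ⟨e3 q4736 L86653 q6002, e3 q4737 (flp_h L59929) q3661, e3 q4738 L86678 q6005, e3 q4739 (flp_h L59945) q3662, e3 q4740 L59960 q3688, e3 q4741 L86704 q6008, e3 q4742 L86709 q6009, e3 q4743 (flp_h L59979) q3666, e3 q4744 L59991 q3708, e3 q4745 L59999 q3693, e3 q4746 (flp_h L60001) q3668, e3 q4747 L60014 q3695, e3 q4748 L554364 q5997, e3 q4749 L86808 q6019, e3 q4750 L86826 q6021, e3 q4751 (flp_h L60045) q3672, e3 q4752 (flp_h L86516) q5986, e3 q4753 L86889 q6025, e3 q4754 (flp_h L60079) q3674, e3 q4755 L86916 q6028, e3 q4756 (flp_h L60095) q3675, e3 q4757 (flp_h L86564) q5991, e3 q4758 L86943 q6031, e3 q4759 L86961 q6034, e3 q4760 (flp_h L60127) q3679, e3 q4761 L86979 q6037, e3 q4762 (flp_h L60141) q3680, e3 q4763 L60154 q4029, e3 q4764 (flp_h L86620) q5998, e3 q4765 L60168 q4030, e3 q4766 (flp_h L553944) q5852, e3 q4767 L87045 q6045, e3 q4768 L87051 q6046, e3 q4769 (flp_h L60192) q3684, e3 q4770 L60207 q3726, e3 q4771 (flp_h L86676) q6004, e3 q4772 (flp_h L60216) q3686, e3 q4773 (flp_h L86693) q6006, e3 q4774 L87109 q6053,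 e3 q4775 (flp_h L60240) q3689, e3 q4776 (flp_h L60245) q3690, e3 q4777 L60260 q3733, e3 q4778 (flp_h L86732) q6011, e3 q4779 L60275 q3735, e3 q4780 L87179 q6062, e3 q4781 (flp_h L86755) q6014, e3 q4782 L562874 q5639, e3 q4783 L524017 q5640, e3 q4784 L87398 q6066, e3 q4785 L562860 q5636, e3 q4786 (flp_h L536618) q5637, e3 q4787 L87515 q6070, e3 q4788 L87522 q6071, e3 q4789 (flp_h L60504) q3701, e3 q4790 (flp_h L86667) q6003, e3 q4791 (flp_h L60527) q3703, e3 q4792 L87579 q6075, e3 q4793 (flp_h L60555) q3705, e3 q4794 (flp_h L60562) q3706, e3 q4795 (flp_h L86723) q6010, e3 q4796 L60585 q3734, e3 q4797 (flp_h L86739) q6012, e3 q4798 L87648 q6084, e3 q4799 L60609 q3737, trivial⟩ (by decide +kernel)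

theorem ce_h_75 : ∀ r, r < 64 → sm gh (Qf (4800 + r)) = Qf (tab Gen.h (4800 + r)) :=
  edges_tab (sm gh) Qf (tab Gen.h) 4800 [(4800, 6086), (4801, 5673), (4802, 5676), (4803, 6090), (4804, 6091), (4805, 3714), (4806, 6026), (4807, 3716), (4808, 6096), (4809, 3718), (4810, 6100), (4811, 6101), (4812, 3719), (4813, 6097), (4814, 3721), (4815, 6105), (4816, 3723), (4817, 3724), (4818, 6047), (4819, 5655), (4820, 6049), (4821, 6114), (4822, 5656), (4823, 6115), (4824, 3730), (4825, 6054), (4826, 6077), (4827, 6056), (4828, 6079), (4829, 6058), (4830, 6125), (4831, 6060), (4832, 6128), (4833, 3736), (4834, 6131), (4835, 3738), (4836, 6134), (4837, 6136), (4838, 3739), (4839, 4839), (4840, 5905), (4841, 6140), (4842, 6142), (4843, 3742), (4844, 4077), (4845, 4845), (4846, 6149), (4847, 3744), (4848, 6152), (4849, 3745), (4850, 4850), (4851, 6155), (4852, 6156), (4853, 3749), (4854, 4854), (4855, 4855), (4856, 3751), (4857, 4857), (4858, 6164), (4859, 6166), (4860, 3754), (4861, 4861), (4862, 6170), (4863, 3756)]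
    ⟨e3 q4800 L87718 q6086, e3 q4801 (flp_h L489815) q5673, e3 q4802 L563268 q5676, e3 q4803 L87795 q6090, e3 q4804 L87803 q6091, e3 q4805 (flp_h L60714) q3714, e3 q4806 (flp_h L86906) q6026, e3 q4807 (flp_h L60739) q3716, e3 q4808 L87872 q6096, e3 q4809 (flp_h L60767) q3718, e3 q4810 L87900 q6100, e3 q4811 L87908 q6101, e3 q4812 (flp_h L60787) q3719, e3 q4813 (flp_h L87884) q6097, e3 q4814 (flp_h L60809) q3721, e3 q4815 L87962 q6105, e3 q4816 (flp_h L60835) q3723, e3 q4817 (flp_h L60842) q3724, e3 q4818 (flp_h L87068) q6047, e3 q4819 L489628 q5655, e3 q4820 (flp_h L87083) q6049, e3 q4821 L88032 q6114, e3 q4822 (flp_h L563544) q5656, e3 q4823 L88039 q6115, e3 q4824 (flp_h L60897) q3730, e3 q4825 (flp_h L87121) q6054, e3 q4826 (flp_h L87600) q6077, e3 q4827 (flp_h L87136) q6056, e3 q4828 (flp_h L87618) q6079, e3 q4829 (flp_h L87153) q6058, e3 q4830 L88118 q6125, e3 q4831 (flp_h L87169) q6060, e3 q4832 L88140 q6128, e3 q4833 (flp_h L60967) q3736, e3 q4834 L88189 q6131, e3 q4835 (flp_h L60995) q3738, e3 q4836 L88228 q6134, e3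 q4837 L88249 q6136, e3 q4838 (flp_h L61024) q3739, e3 q4839 L61042 q4839, e3 q4840 (flp_h L85833) q5905, e3 q4841 L88285 q6140, e3 q4842 L88306 q6142, e3 q4843 (flp_h L61073) q3742, e3 q4844 L61088 q4077, e3 q4845 L61099 q4845, e3 q4846 L88368 q6149, e3 q4847 (flp_h L61108) q3744, e3 q4848 L88394 q6152, e3 q4849 (flp_h L61127) q3745, e3 q4850 L61142 q4850, e3 q4851 L88420 q6155, e3 q4852 L88428 q6156, e3 q4853 (flp_h L61161) q3749, e3 q4854 L61175 q4854, e3 q4855 L61185 q4855, e3 q4856 (flp_h L61186) q3751, e3 q4857 L61202 q4857, e3 q4858 L88543 q6164, e3 q4859 L88563 q6166, e3 q4860 (flp_h L61240) q3754, e3 q4861 L61265 q4861, e3 q4862 L88626 q6170, e3 q4863 (flp_h L61275) q3756, trivial⟩ (by decide +kernel)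

theorem ce_h_76 : ∀ r, r < 64 → sm gh (Qf (4864 + r)) = Qf (tab Gen.h (4864 + r)) :=
  edges_tab (sm gh) Qf (tab Gen.h) 4864 [(4864, 6173), (4865, 3757), (4866, 4866), (4867, 6176), (4868, 6179), (4869, 3761), (4870, 6182), (4871, 3762), (4872, 4093), (4873, 4873), (4874, 4094), (4875, 5806), (4876, 6190), (4877, 6191), (4878, 3766), (4879, 4879), (4880, 4880), (4881, 3768), (4882, 4882), (4883, 6198), (4884, 3771), (4885, 3772), (4886, 4886), (4887, 4887), (4888, 4888), (4889, 6207), (4890, 4890), (4891, 6210), (4892, 3778), (4893, 6213), (4894, 3779), (4895, 4895), (4896, 6216), (4897, 6217), (4898, 3782), (4899, 3813), (4900, 4900), (4901, 3784), (4902, 4902), (4903, 6224), (4904, 6225), (4905, 3787), (4906, 4906), (4907, 4907), (4908, 3789), (4909, 4104), (4910, 4910), (4911, 4105), (4912, 5857), (4913, 4106), (4914, 5443), (4915, 6240), (4916, 3795), (4917, 3796), (4918, 3820), (4919, 4919), (4920, 3822), (4921, 6249), (4922, 4922), (4923, 6250), (4924, 3802), (4925, 3827), (4926, 4926), (4927, 3829)]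
    ⟨e3 q4864 L88651 q6173, e3 q4865 (flp_h L61293) q3757, e3 q4866 L61309 q4866, e3 q4867 L88679 q6176, e3 q4868 L88703 q6179, e3 q4869 (flp_h L61326) q3761, e3 q4870 L88725 q6182, e3 q4871 (flp_h L61344) q3762, e3 q4872 L61358 q4093, e3 q4873 L61367 q4873, e3 q4874 L61373 q4094, e3 q4875 L592198 q5806, e3 q4876 L88797 q6190, e3 q4877 L88806 q6191, e3 q4878 (flp_h L61400) q3766, e3 q4879 L61413 q4879, e3 q4880 L61421 q4880, e3 q4881 (flp_h L61422) q3768, e3 q4882 L61438 q4882, e3 q4883 L88859 q6198, e3 q4884 (flp_h L61449) q3771, e3 q4885 (flp_h L61458) q3772, e3 q4886 L61471 q4886, e3 q4887 L61480 q4887, e3 q4888 L61485 q4888, e3 q4889 L88927 q6207, e3 q4890 L61501 q4890, e3 q4891 L89035 q6210, e3 q4892 (flp_h L61557) q3778, e3 q4893 L89063 q6213, e3 q4894 (flp_h L61577) q3779, e3 q4895 L61603 q4895, e3 q4896 L89139 q6216, e3 q4897 L89147 q6217, e3 q4898 (flp_h L61639) q3782, e3 q4899 L61655 q3813, e3 q4900 L61666 q4900, e3 q4901 (flp_h L61667) q3784, e3 q4902 L61682 q4902, e3 q4903 L89211 q6224, e3 q4904 L89219 q6225, e3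 q4905 (flp_h L61701) q3787, e3 q4906 L61715 q4906, e3 q4907 L61725 q4907, e3 q4908 (flp_h L61726) q3789, e3 q4909 L61739 q4104, e3 q4910 L61748 q4910, e3 q4911 L61753 q4105, e3 q4912 L592355 q5857, e3 q4913 L61768 q4106, e3 q4914 L575001 q5443, e3 q4915 L89350 q6240, e3 q4916 (flp_h L61793) q3795, e3 q4917 (flp_h L61800) q3796, e3 q4918 L61815 q3820, e3 q4919 L61825 q4919, e3 q4920 L61830 q3822, e3 q4921 L89422 q6249, e3 q4922 L61847 q4922, e3 q4923 L89431 q6250, e3 q4924 (flp_h L61857) q3802, e3 q4925 L61871 q3827, e3 q4926 L61880 q4926, e3 q4927 L61887 q3829, trivial⟩ (by decide +kernel)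

theorem ce_h_77 : ∀ r, r < 64 → sm gh (Qf (4928 + r)) = Qf (tab Gen.h (4928 + r)) :=
  edges_tab (sm gh) Qf (tab Gen.h) 4928 [(4928, 4928), (4929, 3831), (4930, 6260), (4931, 3833), (4932, 6263), (4933, 3808), (4934, 6265), (4935, 3810), (4936, 3811), (4937, 6218), (4938, 4938), (4939, 6220), (4940, 6274), (4941, 4941), (4942, 3838), (4943, 3817), (4944, 6241), (4945, 4945), (4946, 6243), (4947, 4947), (4948, 6245), (4949, 6283), (4950, 6247), (4951, 6286), (4952, 3823), (4953, 6251), (4954, 6253), (4955, 6254), (4956, 6256), (4957, 6258), (4958, 3832), (4959, 6261), (4960, 6289), (4961, 3834), (4962, 4962), (4963, 6264), (4964, 6290), (4965, 3839), (4966, 4966), (4967, 4967), (4968, 4968), (4969, 3848), (4970, 4109), (4971, 4971), (4972, 4232), (4973, 6294), (4974, 4974), (4975, 4116), (4976, 4976), (4977, 4977), (4978, 3859), (4979, 4979), (4980, 4071), (4981, 4981), (4982, 4229), (4983, 6299), (4984, 6304), (4985, 4985), (4986, 6306), (4987, 4078), (4988, 3861), (4989, 4989), (4990, 4990), (4991, 3873)]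
    ⟨e3 q4928 L61898 q4928, e3 q4929 L61904 q3831, e3 q4930 L89512 q6260, e3 q4931 L61919 q3833, e3 q4932 L89535 q6263, e3 q4933 (flp_h L61929) q3808, e3 q4934 L89554 q6265, e3 q4935 (flp_h L61947) q3810, e3 q4936 (flp_h L61957) q3811, e3 q4937 (flp_h L89164) q6218, e3 q4938 L61985 q4938, e3 q4939 (flp_h L89182) q6220, e3 q4940 L89635 q6274, e3 q4941 L62012 q4941, e3 q4942 L628083 q3838, e3 q4943 (flp_h L62022) q3817, e3 q4944 (flp_h L89365) q6241, e3 q4945 L62048 q4945, e3 q4946 (flp_h L89382) q6243, e3 q4947 L62066 q4947, e3 q4948 (flp_h L89398) q6245, e3 q4949 L89722 q6283, e3 q4950 (flp_h L89412) q6247, e3 q4951 L89745 q6286, e3 q4952 (flp_h L62094) q3823, e3 q4953 (flp_h L89446) q6251, e3 q4954 (flp_h L89463) q6253, e3 q4955 (flp_h L89470) q6254, e3 q4956 (flp_h L628198) q6256, e3 q4957 (flp_h L89502) q6258, e3 q4958 (flp_h L62181) q3832, e3 q4959 (flp_h L89525) q6261, e3 q4960 L89885 q6289, e3 q4961 (flp_h L62202) q3834, e3 q4962 L62329 q4962, e3 q4963 L647509 q6264, e3 q4964 L90106 q6290, e3 q4965 (flp_h L62383) q3839,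 e3 q4966 L411597 q4966, e3 q4967 L62480 q4967, e3 q4968 L62497 q4968, e3 q4969 L62527 q3848, e3 q4970 L578277 q4109, e3 q4971 L412769 q4971, e3 q4972 (flp_h L583797) q4232, e3 q4973 (flp_h L90325) q6294, e3 q4974 L62591 q4974, e3 q4975 L625452 q4116, e3 q4976 L62605 q4976, e3 q4977 L62744 q4977, e3 q4978 L62793 q3859, e3 q4979 L400336 q4979, e3 q4980 L578484 q4071, e3 q4981 L436641 q4981, e3 q4982 (flp_h L582516) q4229, e3 q4983 (flp_h L90718) q6299, e3 q4984 L90848 q6304, e3 q4985 L62882 q4985, e3 q4986 L90874 q6306, e3 q4987 L625462 q4078, e3 q4988 (flp_h L62899) q3861, e3 q4989 L62913 q4989, e3 q4990 L63101 q4990, e3 q4991 L63162 q3873, trivial⟩ (by decide +kernel)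

theorem ce_h_78 : ∀ r, r < 64 → sm gh (Qf (4992 + r)) = Qf (tab Gen.h (4992 + r)) :=
  edges_tab (sm gh) Qf (tab Gen.h) 4992 [(4992, 4992), (4993, 4993), (4994, 4086), (4995, 4995), (4996, 4996), (4997, 4231), (4998, 5307), (4999, 6314), (5000, 3874), (5001, 5001), (5002, 6317), (5003, 3876), (5004, 4080), (5005, 4095), (5006, 3877), (5007, 5007), (5008, 3889), (5009, 3964), (5010, 3965), (5011, 4072), (5012, 4183), (5013, 4184), (5014, 4230), (5015, 6323), (5016, 6324), (5017, 3890), (5018, 5018), (5019, 6327), (5020, 3892), (5021, 3970), (5022, 3969), (5023, 3893), (5024, 3953), (5025, 5025), (5026, 4178), (5027, 3988), (5028, 3989), (5029, 3990), (5030, 4087), (5031, 4191), (5032, 4192), (5033, 3974), (5034, 6337), (5035, 3908), (5036, 6338), (5037, 6339), (5038, 3909), (5039, 5039), (5040, 6342), (5041, 6344), (5042, 3912), (5043, 5811), (5044, 3998), (5045, 3914), (5046, 3996), (5047, 3915), (5048, 3975), (5049, 4186), (5050, 4187), (5051, 4020), (5052, 4021), (5053, 4022), (5054, 4023), (5055, 4198)]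
    ⟨e3 q4992 L438760 q4992, e3 q4993 L400369 q4993, e3 q4994 (flp_h L520301) q4086, e3 q4995 L441681 q4995, e3 q4996 L438361 q4996, e3 q4997 L585766 q4231, e3 q4998 (flp_h L639998) q5307, e3 q4999 L91449 q6314, e3 q5000 (flp_h L63276) q3874, e3 q5001 L63293 q5001, e3 q5002 L91489 q6317, e3 q5003 (flp_h L63300) q3876, e3 q5004 L625330 q4080, e3 q5005 L625322 q4095, e3 q5006 (flp_h L63321) q3877, e3 q5007 L63342 q5007, e3 q5008 L63502 q3889, e3 q5009 (flp_h L505556) q3964, e3 q5010 L589321 q3965, e3 q5011 L594063 q4072, e3 q5012 (flp_h L599300) q4183, e3 q5013 (flp_h L457757) q4184, e3 q5014 L585975 q4230, e3 q5015 L91962 q6323, e3 q5016 L91990 q6324, e3 q5017 (flp_h L63637) q3890, e3 q5018 L63654 q5018, e3 q5019 L92038 q6327, e3 q5020 (flp_h L63664) q3892, e3 q5021 L607422 q3970, e3 q5022 (flp_h L623351) q3969, e3 q5023 (flp_h L63688) q3893, e3 q5024 (flp_h L589436) q3953, e3 q5025 L63711 q5025, e3 q5026 (flp_h L589417) q4178, e3 q5027 L591334 q3988, e3 q5028 (flp_h L472225) q3989, e3 q5029 L577774 q3990, e3 q5030 L559525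 q4087, e3 q5031 L577795 q4191, e3 q5032 (flp_h L457912) q4192, e3 q5033 L591138 q3974, e3 q5034 L92679 q6337, e3 q5035 (flp_h L64085) q3908, e3 q5036 L92711 q6338, e3 q5037 L92730 q6339, e3 q5038 (flp_h L64111) q3909, e3 q5039 L64138 q5039, e3 q5040 L92763 q6342, e3 q5041 L92780 q6344, e3 q5042 (flp_h L64154) q3912, e3 q5043 (flp_h L84861) q5811, e3 q5044 L625070 q3998, e3 q5045 (flp_h L64184) q3914, e3 q5046 L622879 q3996, e3 q5047 (flp_h L64199) q3915, e3 q5048 (flp_h L577667) q3975, e3 q5049 L600893 q4186, e3 q5050 (flp_h L589106) q4187, e3 q5051 (flp_h L551443) q4020, e3 q5052 (flp_h L553087) q4021, e3 q5053 L509654 q4022, e3 q5054 (flp_h L580560) q4023, e3 q5055 (flp_h L457224) q4198, trivial⟩ (by decide +kernel)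

theorem ce_h_79 : ∀ r, r < 64 → sm gh (Qf (5056 + r)) = Qf (tab Gen.h (5056 + r)) :=
  edges_tab (sm gh) Qf (tab Gen.h) 5056 [(5056, 4199), (5057, 4002), (5058, 6358), (5059, 6360), (5060, 3931), (5061, 6361), (5062, 3933), (5063, 6363), (5064, 3934), (5065, 6365), (5066, 6368), (5067, 3937), (5068, 6370), (5069, 3938), (5070, 5863), (5071, 5865), (5072, 4032), (5073, 4031), (5074, 3941), (5075, 5075), (5076, 4003), (5077, 3943), (5078, 4004), (5079, 4193), (5080, 4210), (5081, 4194), (5082, 6321), (5083, 6329), (5084, 5084), (5085, 6384), (5086, 3955), (5087, 6380), (5088, 6379), (5089, 3956), (5090, 5090), (5091, 3959), (5092, 3960), (5093, 3973), (5094, 6318), (5095, 6319), (5096, 6320), (5097, 4073), (5098, 6326), (5099, 6325), (5100, 3967), (5101, 5909), (5102, 6334), (5103, 6347), (5104, 6348), (5105, 5105), (5106, 6396), (5107, 6398), (5108, 3977), (5109, 6393), (5110, 3979), (5111, 6392), (5112, 3980), (5113, 3983), (5114, 5114), (5115, 4000), (5116, 3985), (5117, 4001), (5118, 6330), (5119, 6331)]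
    ⟨e3 q5056 (flp_h L579671) q4199, e3 q5057 (flp_h L590971) q4002, e3 q5058 L93690 q6358, e3 q5059 L93707 q6360, e3 q5060 (flp_h L64776) q3931, e3 q5061 L93765 q6361, e3 q5062 (flp_h L64808) q3933, e3 q5063 L93795 q6363, e3 q5064 (flp_h L64827) q3934, e3 q5065 L93821 q6365, e3 q5066 L93844 q6368, e3 q5067 (flp_h L64861) q3937, e3 q5068 L93870 q6370, e3 q5069 (flp_h L64878) q3938, e3 q5070 (flp_h L85466) q5863, e3 q5071 (flp_h L85483) q5865, e3 q5072 (flp_h L624891) q4032, e3 q5073 L624826 q4031, e3 q5074 (flp_h L64932) q3941, e3 q5075 L64947 q5075, e3 q5076 L589769 q4003, e3 q5077 (flp_h L64956) q3943, e3 q5078 L559582 q4004, e3 q5079 L457294 q4193, e3 q5080 L589758 q4210, e3 q5081 (flp_h L589115) q4194, e3 q5082 (flp_h L591164) q6321, e3 q5083 (flp_h L552498) q6329, e3 q5084 L65079 q5084, e3 q5085 L94178 q6384, e3 q5086 (flp_h L65091) q3955, e3 q5087 (flp_h L623404) q6380, e3 q5088 (flp_h L621885) q6379, e3 q5089 (flp_h L65118) q3956, e3 q5090 L65144 q5090, e3 q5091 (flp_h L65158) q3959, e3 q5092 (flp_h L65178) q3960, e3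 q5093 L65195 q3973, e3 q5094 (flp_h L591307) q6318, e3 q5095 L577920 q6319, e3 q5096 (flp_h L589308) q6320, e3 q5097 L65274 q4073, e3 q5098 L606703 q6326, e3 q5099 L622571 q6325, e3 q5100 (flp_h L65290) q3967, e3 q5101 (flp_h L85865) q5909, e3 q5102 L551686 q6334, e3 q5103 (flp_h L472266) q6347, e3 q5104 (flp_h L589063) q6348, e3 q5105 L65498 q5105, e3 q5106 L94771 q6396, e3 q5107 L94786 q6398, e3 q5108 (flp_h L65516) q3977, e3 q5109 L622834 q6393, e3 q5110 (flp_h L65545) q3979, e3 q5111 L622820 q6392, e3 q5112 (flp_h L65562) q3980, e3 q5113 (flp_h L65599) q3983, e3 q5114 L65613 q5114, e3 q5115 L65621 q4000, e3 q5116 (flp_h L65623) q3985, e3 q5117 L65641 q4001, e3 q5118 (flp_h L577739) q6330, e3 q5119 L591488 q6331, trivial⟩ (by decide +kernel)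

theorem ce_h_80 : ∀ r, r < 64 → sm gh (Qf (5120 + r)) = Qf (tab Gen.h (5120 + r)) :=
  edges_tab (sm gh) Qf (tab Gen.h) 5120 [(5120, 6332), (5121, 6333), (5122, 6403), (5123, 6343), (5124, 3992), (5125, 6341), (5126, 3993), (5127, 5963), (5128, 5965), (5129, 6354), (5130, 6355), (5131, 6374), (5132, 6377), (5133, 6414), (5134, 6417), (5135, 4006), (5136, 6419), (5137, 4007), (5138, 6412), (5139, 6411), (5140, 4009), (5141, 4051), (5142, 4011), (5143, 4013), (5144, 4014), (5145, 4056), (5146, 4035), (5147, 5147), (5148, 4036), (5149, 6423), (5150, 6350), (5151, 6351), (5152, 6352), (5153, 6353), (5154, 6428), (5155, 4024), (5156, 6367), (5157, 6366), (5158, 4025), (5159, 6429), (5160, 4027), (5161, 6038), (5162, 6040), (5163, 6042), (5164, 6438), (5165, 5629), (5166, 5630), (5167, 6441), (5168, 6442), (5169, 4039), (5170, 6376), (5171, 4041), (5172, 6447), (5173, 4043), (5174, 6451), (5175, 6452), (5176, 4044), (5177, 6448), (5178, 4046), (5179, 6443), (5180, 4048), (5181, 4049), (5182, 6420), (5183, 6421)]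
    ⟨e3 q5120 L577888 q6332, e3 q5121 (flp_h L589181) q6333, e3 q5122 L95146 q6403, e3 q5123 (flp_h L622288) q6343, e3 q5124 (flp_h L65758) q3992, e3 q5125 (flp_h L622301) q6341, e3 q5126 (flp_h L65771) q3993, e3 q5127 (flp_h L86319) q5963, e3 q5128 (flp_h L86333) q5965, e3 q5129 L551530 q6354, e3 q5130 (flp_h L590791) q6355, e3 q5131 L589826 q6374, e3 q5132 L580578 q6377, e3 q5133 L95609 q6414, e3 q5134 L95631 q6417, e3 q5135 (flp_h L66064) q4006, e3 q5136 L95653 q6419, e3 q5137 (flp_h L66079) q4007, e3 q5138 L624739 q6412, e3 q5139 L604463 q6411, e3 q5140 (flp_h L66131) q4009, e3 q5141 L66146 q4051, e3 q5142 (flp_h L66158) q4011, e3 q5143 (flp_h L66185) q4013, e3 q5144 (flp_h L66192) q4014, e3 q5145 L66208 q4056, e3 q5146 L66218 q4035, e3 q5147 L66238 q5147, e3 q5148 L66247 q4036, e3 q5149 L95951 q6423, e3 q5150 L590642 q6350, e3 q5151 L559641 q6351, e3 q5152 L590263 q6352, e3 q5153 L545714 q6353, e3 q5154 L96138 q6428, e3 q5155 (flp_h L66430) q4024, e3 q5156 L614801 q6367, e3 q5157 (flp_h L624845) q6366, e3 q5158 (flp_h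 L66448) q4025, e3 q5159 (flp_h L96149) q6429, e3 q5160 (flp_h L66469) q4027, e3 q5161 (flp_h L86992) q6038, e3 q5162 (flp_h L87005) q6040, e3 q5163 (flp_h L87021) q6042, e3 q5164 L96416 q6438, e3 q5165 L561715 q5629, e3 q5166 (flp_h L543900) q5630, e3 q5167 L96507 q6441, e3 q5168 L96518 q6442, e3 q5169 (flp_h L66728) q4039, e3 q5170 (flp_h L580362) q6376, e3 q5171 (flp_h L66749) q4041, e3 q5172 L96564 q6447, e3 q5173 (flp_h L66768) q4043, e3 q5174 L96593 q6451, e3 q5175 L96603 q6452, e3 q5176 (flp_h L66792) q4044, e3 q5177 (flp_h L96574) q6448, e3 q5178 (flp_h L66808) q4046, e3 q5179 L624672 q6443, e3 q5180 (flp_h L66848) q4048, e3 q5181 (flp_h L66857) q4049, e3 q5182 (flp_h L95736) q6420, e3 q5183 (flp_h L95753) q6421, trivial⟩ (by decide +kernel)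

theorem ce_h_81 : ∀ r, r < 64 → sm gh (Qf (5184 + r)) = Qf (tab Gen.h (5184 + r)) :=
  edges_tab (sm gh) Qf (tab Gen.h) 5184 [(5184, 4053), (5185, 4208), (5186, 4207), (5187, 4225), (5188, 4222), (5189, 6462), (5190, 5190), (5191, 5191), (5192, 6467), (5193, 4060), (5194, 5194), (5195, 5195), (5196, 5196), (5197, 6472), (5198, 6473), (5199, 4065), (5200, 6449), (5201, 5201), (5202, 5709), (5203, 5761), (5204, 6302), (5205, 6313), (5206, 6479), (5207, 6305), (5208, 4074), (5209, 6315), (5210, 4075), (5211, 6143), (5212, 6145), (5213, 6485), (5214, 5735), (5215, 5794), (5216, 6311), (5217, 6488), (5218, 4088), (5219, 6316), (5220, 4089), (5221, 6489), (5222, 4091), (5223, 6183), (5224, 6185), (5225, 6187), (5226, 5226), (5227, 4100), (5228, 6231), (5229, 6233), (5230, 6235), (5231, 6237), (5232, 6503), (5233, 5693), (5234, 6296), (5235, 6506), (5236, 4110), (5237, 6297), (5238, 4111), (5239, 6507), (5240, 5240), (5241, 5241), (5242, 5242), (5243, 5243), (5244, 4120), (5245, 4121), (5246, 4123), (5247, 5247)]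
    ⟨e3 q5184 (flp_h L66891) q4053, e3 q5185 L624510 q4208, e3 q5186 L604799 q4207, e3 q5187 L560676 q4225, e3 q5188 L510005 q4222, e3 q5189 L96792 q6462, e3 q5190 L66951 q5190, e3 q5191 L66960 q5191, e3 q5192 L96835 q6467, e3 q5193 (flp_h L66968) q4060, e3 q5194 L66981 q5194, e3 q5195 L66992 q5195, e3 q5196 L67003 q5196, e3 q5197 L96881 q6472, e3 q5198 L96888 q6473, e3 q5199 (flp_h L67016) q4065, e3 q5200 (flp_h L96581) q6449, e3 q5201 L67036 q5201, e3 q5202 (flp_h L537973) q5709, e3 q5203 L593586 q5761, e3 q5204 (flp_h L594046) q6302, e3 q5205 (flp_h L622710) q6313, e3 q5206 L97135 q6479, e3 q5207 L625271 q6305, e3 q5208 (flp_h L67186) q4074, e3 q5209 (flp_h L621760) q6315, e3 q5210 (flp_h L67206) q4075, e3 q5211 (flp_h L88321) q6143, e3 q5212 (flp_h L88339) q6145, e3 q5213 L97524 q6485, e3 q5214 (flp_h L538255) q5735, e3 q5215 (flp_h L592454) q5794, e3 q5216 L593979 q6311, e3 q5217 L97702 q6488, e3 q5218 (flp_h L67588) q4088, e3 q5219 (flp_h L619710) q6316, e3 q5220 (flp_h L67603) q4089, e3 q5221 (flp_h L97714) q6489, e3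 q5222 (flp_h L67628) q4091, e3 q5223 (flp_h L88741) q6183, e3 q5224 (flp_h L88756) q6185, e3 q5225 (flp_h L88769) q6187, e3 q5226 L67715 q5226, e3 q5227 (flp_h L67785) q4100, e3 q5228 (flp_h L89272) q6231, e3 q5229 (flp_h L89288) q6233, e3 q5230 (flp_h L89301) q6235, e3 q5231 (flp_h L89324) q6237, e3 q5232 L98313 q6503, e3 q5233 (flp_h L593741) q5693, e3 q5234 L471631 q6296, e3 q5235 L98486 q6506, e3 q5236 (flp_h L68192) q4110, e3 q5237 (flp_h L609678) q6297, e3 q5238 (flp_h L68207) q4111, e3 q5239 (flp_h L98499) q6507, e3 q5240 L68240 q5240, e3 q5241 L68257 q5241, e3 q5242 L68274 q5242, e3 q5243 L68325 q5243, e3 q5244 (flp_h L68390) q4120, e3 q5245 (flp_h L68463) q4121, e3 q5246 L68547 q4123, e3 q5247 L68555 q5247, trivial⟩ (by decide +kernel)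

theorem ce_h_82 : ∀ r, r < 64 → sm gh (Qf (5248 + r)) = Qf (tab Gen.h (5248 + r)) :=
  edges_tab (sm gh) Qf (tab Gen.h) 5248 [(5248, 6516), (5249, 6517), (5250, 5250), (5251, 5251), (5252, 5252), (5253, 5295), (5254, 4128), (5255, 5255), (5256, 6523), (5257, 4131), (5258, 6525), (5259, 4132), (5260, 4134), (5261, 5261), (5262, 5262), (5263, 5263), (5264, 4142), (5265, 5265), (5266, 5266), (5267, 4148), (5268, 5268), (5269, 5269), (5270, 5270), (5271, 5271), (5272, 5626), (5273, 5627), (5274, 5274), (5275, 6458), (5276, 6457), (5277, 4203), (5278, 4205), (5279, 4213), (5280, 4214), (5281, 5281), (5282, 6456), (5283, 6459), (5284, 5284), (5285, 5285), (5286, 5286), (5287, 5287), (5288, 5288), (5289, 5289), (5290, 5290), (5291, 5291), (5292, 5292), (5293, 5293), (5294, 5294), (5295, 5253), (5296, 5296), (5297, 5297), (5298, 4277), (5299, 4278), (5300, 4279), (5301, 4283), (5302, 4284), (5303, 6561), (5304, 4286), (5305, 4287), (5306, 4292), (5307, 4998), (5308, 4294), (5309, 6569), (5310, 4249), (5311, 4297)]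
    ⟨e3 q5248 (flp_h L98982) q6516, e3 q5249 (flp_h L98989) q6517, e3 q5250 L68577 q5250, e3 q5251 L68600 q5251, e3 q5252 L68622 q5252, e3 q5253 L639510 q5295, e3 q5254 (flp_h L68654) q4128, e3 q5255 L68736 q5255, e3 q5256 L99264 q6523, e3 q5257 (flp_h L68769) q4131, e3 q5258 L99314 q6525, e3 q5259 (flp_h L68799) q4132, e3 q5260 (flp_h L68880) q4134, e3 q5261 L411780 q5261, e3 q5262 L68989 q5262, e3 q5263 L69015 q5263, e3 q5264 L69057 q4142, e3 q5265 L69219 q5265, e3 q5266 L69436 q5266, e3 q5267 L69494 q4148, e3 q5268 L69728 q5268, e3 q5269 L70021 q5269, e3 q5270 L70311 q5270, e3 q5271 L425901 q5271, e3 q5272 (flp_h L491290) q5626, e3 q5273 L491336 q5627, e3 q5274 L425844 q5274, e3 q5275 L624370 q6458, e3 q5276 (flp_h L612942) q6457, e3 q5277 (flp_h L75087) q4203, e3 q5278 (flp_h L75105) q4205, e3 q5279 (flp_h L75235) q4213, e3 q5280 (flp_h L75245) q4214, e3 q5281 L75285 q5281, e3 q5282 L561333 q6456, e3 q5283 L561343 q6459, e3 q5284 L75440 q5284, e3 q5285 L75450 q5285, e3 q5286 L78572 q5286, e3 q5287 L79345 q5287, e3 q5288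 L79352 q5288, e3 q5289 L79362 q5289, e3 q5290 L79372 q5290, e3 q5291 L79382 q5291, e3 q5292 L79392 q5292, e3 q5293 L79401 q5293, e3 q5294 L79410 q5294, e3 q5295 (flp_h L639510) q5253, e3 q5296 L79425 q5296, e3 q5297 L79435 q5297, e3 q5298 L79445 q4277, e3 q5299 L79457 q4278, e3 q5300 L79465 q4279, e3 q5301 L79477 q4283, e3 q5302 L79488 q4284, e3 q5303 L114820 q6561, e3 q5304 L79505 q4286, e3 q5305 L79516 q4287, e3 q5306 L79526 q4292, e3 q5307 L639998 q4998, e3 q5308 L79541 q4294, e3 q5309 L114914 q6569, e3 q5310 (flp_h L79552) q4249, e3 q5311 L79566 q4297, trivial⟩ (by decide +kernel)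

theorem ce_h_83 : ∀ r, r < 64 → sm gh (Qf (5312 + r)) = Qf (tab Gen.h (5312 + r)) :=
  edges_tab (sm gh) Qf (tab Gen.h) 5312 [(5312, 4298), (5313, 4303), (5314, 6575), (5315, 4305), (5316, 6579), (5317, 4254), (5318, 4308), (5319, 4309), (5320, 6584), (5321, 4317), (5322, 6587), (5323, 6590), (5324, 4258), (5325, 4321), (5326, 6594), (5327, 6596), (5328, 4260), (5329, 5329), (5330, 4326), (5331, 6600), (5332, 6603), (5333, 4264), (5334, 4339), (5335, 6608), (5336, 4266), (5337, 6612), (5338, 6614), (5339, 4267), (5340, 5340), (5341, 4346), (5342, 6618), (5343, 4270), (5344, 6621), (5345, 4271), (5346, 5346), (5347, 5347), (5348, 5348), (5349, 5349), (5350, 6552), (5351, 6553), (5352, 6631), (5353, 6555), (5354, 6556), (5355, 5355), (5356, 6637), (5357, 5357), (5358, 5358), (5359, 6557), (5360, 6644), (5361, 6559), (5362, 6648), (5363, 4285), (5364, 6562), (5365, 6563), (5366, 6653), (5367, 5367), (5368, 6657), (5369, 4289), (5370, 5370), (5371, 5371), (5372, 4555), (5373, 6564), (5374, 4553), (5375, 6665)]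
    ⟨e3 q5312 L79577 q4298, e3 q5313 L79589 q4303, e3 q5314 L114979 q6575, e3 q5315 L79608 q4305, e3 q5316 L115014 q6579, e3 q5317 (flp_h L79620) q4254, e3 q5318 L79635 q4308, e3 q5319 L79645 q4309, e3 q5320 L115063 q6584, e3 q5321 L79665 q4317, e3 q5322 L115091 q6587, e3 q5323 L115114 q6590, e3 q5324 (flp_h L79683) q4258, e3 q5325 L79697 q4321, e3 q5326 L115149 q6594, e3 q5327 L115165 q6596, e3 q5328 (flp_h L79717) q4260, e3 q5329 L79734 q5329, e3 q5330 L79742 q4326, e3 q5331 L115201 q6600, e3 q5332 L115226 q6603, e3 q5333 (flp_h L79762) q4264, e3 q5334 L79778 q4339, e3 q5335 L115272 q6608, e3 q5336 (flp_h L79789) q4266, e3 q5337 L115303 q6612, e3 q5338 L115319 q6614, e3 q5339 (flp_h L79811) q4267, e3 q5340 L79828 q5340, e3 q5341 L79835 q4346, e3 q5342 L115353 q6618, e3 q5343 (flp_h L79847) q4270, e3 q5344 L115378 q6621, e3 q5345 (flp_h L79863) q4271, e3 q5346 L79880 q5346, e3 q5347 L79889 q5347, e3 q5348 L79901 q5348, e3 q5349 L79910 q5349, e3 q5350 (flp_h L114738) q6552, e3 q5351 (flp_h L114750) q6553, e3 q5352 L115484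 q6631, e3 q5353 (flp_h L114767) q6555, e3 q5354 (flp_h L114776) q6556, e3 q5355 L79976 q5355, e3 q5356 L115553 q6637, e3 q5357 L79996 q5357, e3 q5358 L80008 q5358, e3 q5359 (flp_h L114789) q6557, e3 q5360 L115619 q6644, e3 q5361 (flp_h L114807) q6559, e3 q5362 L115650 q6648, e3 q5363 (flp_h L80044) q4285, e3 q5364 (flp_h L114835) q6562, e3 q5365 (flp_h L114844) q6563, e3 q5366 L115713 q6653, e3 q5367 L80092 q5367, e3 q5368 L115751 q6657, e3 q5369 (flp_h L80105) q4289, e3 q5370 L80120 q5370, e3 q5371 L80132 q5371, e3 q5372 L638254 q4555, e3 q5373 (flp_h L114863) q6564, e3 q5374 L638369 q4553, e3 q5375 L115840 q6665, trivial⟩ (by decide +kernel)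

theorem ce_h_84 : ∀ r, r < 64 → sm gh (Qf (5376 + r)) = Qf (tab Gen.h (5376 + r)) :=
  edges_tab (sm gh) Qf (tab Gen.h) 5376 [(5376, 4293), (5377, 6566), (5378, 6668), (5379, 6670), (5380, 4295), (5381, 6658), (5382, 6570), (5383, 6674), (5384, 5384), (5385, 6678), (5386, 4300), (5387, 5387), (5388, 5388), (5389, 6683), (5390, 6572), (5391, 6686), (5392, 6689), (5393, 4304), (5394, 6576), (5395, 6693), (5396, 6695), (5397, 4306), (5398, 6679), (5399, 6581), (5400, 6698), (5401, 6701), (5402, 4310), (5403, 5403), (5404, 6705), (5405, 6707), (5406, 4312), (5407, 4325), (5408, 5408), (5409, 6711), (5410, 6714), (5411, 4316), (5412, 6585), (5413, 6719), (5414, 4318), (5415, 6723), (5416, 6725), (5417, 4319), (5418, 6702), (5419, 6592), (5420, 6729), (5421, 4322), (5422, 6732), (5423, 4323), (5424, 6708), (5425, 6736), (5426, 4327), (5427, 6740), (5428, 6742), (5429, 4328), (5430, 4345), (5431, 5431), (5432, 6746), (5433, 4331), (5434, 6749), (5435, 4332), (5436, 4351), (5437, 6752), (5438, 6755), (5439, 4336)]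
    ⟨e3 q5376 (flp_h L80164) q4293, e3 q5377 (flp_h L114896) q6566, e3 q5378 L115869 q6668, e3 q5379 L115884 q6670, e3 q5380 (flp_h L80194) q4295, e3 q5381 (flp_h L115766) q6658, e3 q5382 (flp_h L114937) q6570, e3 q5383 L115942 q6674, e3 q5384 L80245 q5384, e3 q5385 L115982 q6678, e3 q5386 (flp_h L80259) q4300, e3 q5387 L80275 q5387, e3 q5388 L80286 q5388, e3 q5389 L116035 q6683, e3 q5390 (flp_h L114958) q6572, e3 q5391 L116061 q6686, e3 q5392 L116087 q6689, e3 q5393 (flp_h L80327) q4304, e3 q5394 (flp_h L114994) q6576, e3 q5395 L116119 q6693, e3 q5396 L116140 q6695, e3 q5397 (flp_h L80359) q4306, e3 q5398 (flp_h L116003) q6679, e3 q5399 (flp_h L115041) q6581, e3 q5400 L116207 q6698, e3 q5401 L116235 q6701, e3 q5402 (flp_h L80425) q4310, e3 q5403 L80439 q5403, e3 q5404 L116272 q6705, e3 q5405 L116292 q6707, e3 q5406 (flp_h L80464) q4312, e3 q5407 L80482 q4325, e3 q5408 L80491 q5408, e3 q5409 L116329 q6711, e3 q5410 L116355 q6714, e3 q5411 (flp_h L80510) q4316, e3 q5412 (flp_h L115079) q6585, e3 q5413 L116396 q6719, e3 q5414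 (flp_h L80534) q4318, e3 q5415 L116427 q6723, e3 q5416 L116443 q6725, e3 q5417 (flp_h L80558) q4319, e3 q5418 (flp_h L116251) q6702, e3 q5419 (flp_h L115139) q6592, e3 q5420 L116473 q6729, e3 q5421 (flp_h L80586) q4322, e3 q5422 L116496 q6732, e3 q5423 (flp_h L80604) q4323, e3 q5424 (flp_h L116310) q6708, e3 q5425 L116615 q6736, e3 q5426 (flp_h L80669) q4327, e3 q5427 L116651 q6740, e3 q5428 L116669 q6742, e3 q5429 (flp_h L80696) q4328, e3 q5430 L80712 q4345, e3 q5431 L80720 q5431, e3 q5432 L116707 q6746, e3 q5433 (flp_h L80734) q4331, e3 q5434 L116736 q6749, e3 q5435 (flp_h L80754) q4332, e3 q5436 L80771 q4351, e3 q5437 L116764 q6752, e3 q5438 L116790 q6755, e3 q5439 (flp_h L80790) q4336, trivial⟩ (by decide +kernel)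

theorem ce_h_85 : ∀ r, r < 64 → sm gh (Qf (5440 + r)) = Qf (tab Gen.h (5440 + r)) :=
  edges_tab (sm gh) Qf (tab Gen.h) 5440 [(5440, 6759), (5441, 6761), (5442, 4337), (5443, 4914), (5444, 6605), (5445, 6765), (5446, 6767), (5447, 4340), (5448, 5448), (5449, 6738), (5450, 6774), (5451, 4342), (5452, 6777), (5453, 4343), (5454, 6743), (5455, 6780), (5456, 6781), (5457, 4347), (5458, 5458), (5459, 6748), (5460, 4349), (5461, 6750), (5462, 4357), (5463, 6791), (5464, 4359), (5465, 6795), (5466, 4354), (5467, 4362), (5468, 4363), (5469, 6800), (5470, 6788), (5471, 6803), (5472, 6806), (5473, 4358), (5474, 6792), (5475, 6810), (5476, 6812), (5477, 4360), (5478, 4373), (5479, 6797), (5480, 6816), (5481, 6819), (5482, 4364), (5483, 5483), (5484, 6824), (5485, 4366), (5486, 6828), (5487, 6830), (5488, 4367), (5489, 6807), (5490, 5490), (5491, 6834), (5492, 4370), (5493, 6837), (5494, 4371), (5495, 6813), (5496, 6841), (5497, 4383), (5498, 6844), (5499, 6847), (5500, 4376), (5501, 4387), (5502, 6851), (5503, 6853)]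
    ⟨e3 q5440 L116822 q6759, e3 q5441 L116840 q6761, e3 q5442 (flp_h L80815) q4337, e3 q5443 (flp_h L575001) q4914, e3 q5444 (flp_h L115253) q6605, e3 q5445 L116872 q6765, e3 q5446 L116891 q6767, e3 q5447 (flp_h L80855) q4340, e3 q5448 L80869 q5448, e3 q5449 (flp_h L116640) q6738, e3 q5450 L116946 q6774, e3 q5451 (flp_h L80886) q4342, e3 q5452 L116971 q6777, e3 q5453 (flp_h L80902) q4343, e3 q5454 (flp_h L116684) q6743, e3 q5455 L116992 q6780, e3 q5456 L117001 q6781, e3 q5457 (flp_h L80932) q4347, e3 q5458 L80947 q5458, e3 q5459 (flp_h L116734) q6748, e3 q5460 (flp_h L80958) q4349, e3 q5461 (flp_h L116753) q6750, e3 q5462 L80982 q4357, e3 q5463 L117091 q6791, e3 q5464 L81001 q4359, e3 q5465 L117128 q6795, e3 q5466 (flp_h L81014) q4354, e3 q5467 L81030 q4362, e3 q5468 L81041 q4363, e3 q5469 L117184 q6800, e3 q5470 (flp_h L117069) q6788, e3 q5471 L117213 q6803, e3 q5472 L117242 q6806, e3 q5473 (flp_h L81089) q4358, e3 q5474 (flp_h L117107) q6792, e3 q5475 L117280 q6810, e3 q5476 L117299 q6812, e3 q5477 (flp_h L81125) q4360,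 e3 q5478 L81140 q4373, e3 q5479 (flp_h L117156) q6797, e3 q5480 L117332 q6816, e3 q5481 L117361 q6819, e3 q5482 (flp_h L81172) q4364, e3 q5483 L81190 q5483, e3 q5484 L117407 q6824, e3 q5485 (flp_h L81199) q4366, e3 q5486 L117438 q6828, e3 q5487 L117457 q6830, e3 q5488 (flp_h L81224) q4367, e3 q5489 (flp_h L117259) q6807, e3 q5490 L81250 q5490, e3 q5491 L117489 q6834, e3 q5492 (flp_h L81259) q4370, e3 q5493 L117514 q6837, e3 q5494 (flp_h L81276) q4371, e3 q5495 (flp_h L117312) q6813, e3 q5496 L117547 q6841, e3 q5497 L81306 q4383, e3 q5498 L117576 q6844, e3 q5499 L117600 q6847, e3 q5500 (flp_h L81325) q4376, e3 q5501 L81340 q4387, e3 q5502 L117637 q6851, e3 q5503 L117653 q6853, trivial⟩ (by decide +kernel)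

theorem ce_h_86 : ∀ r, r < 64 → sm gh (Qf (5504 + r)) = Qf (tab Gen.h (5504 + r)) :=
  edges_tab (sm gh) Qf (tab Gen.h) 5504 [(5504, 4378), (5505, 5505), (5506, 4392), (5507, 6857), (5508, 6860), (5509, 4382), (5510, 6842), (5511, 6865), (5512, 4384), (5513, 6869), (5514, 6871), (5515, 4385), (5516, 4402), (5517, 6849), (5518, 6875), (5519, 4388), (5520, 6878), (5521, 4389), (5522, 4408), (5523, 6881), (5524, 6884), (5525, 4393), (5526, 6888), (5527, 6890), (5528, 4394), (5529, 6861), (5530, 5530), (5531, 6894), (5532, 6896), (5533, 4397), (5534, 5534), (5535, 6867), (5536, 6903), (5537, 4399), (5538, 6906), (5539, 4400), (5540, 6872), (5541, 6909), (5542, 6910), (5543, 4404), (5544, 5544), (5545, 6877), (5546, 4406), (5547, 6879), (5548, 6918), (5549, 6920), (5550, 4409), (5551, 4423), (5552, 6925), (5553, 4411), (5554, 6929), (5555, 6931), (5556, 4412), (5557, 5557), (5558, 4430), (5559, 6935), (5560, 4415), (5561, 6938), (5562, 4416), (5563, 5563), (5564, 6941), (5565, 6944), (5566, 4420), (5567, 6948)]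
    ⟨e3 q5504 (flp_h L81361) q4378, e3 q5505 L81378 q5505, e3 q5506 L81387 q4392, e3 q5507 L117691 q6857, e3 q5508 L117722 q6860, e3 q5509 (flp_h L81410) q4382, e3 q5510 (flp_h L117564) q6842, e3 q5511 L117768 q6865, e3 q5512 (flp_h L81437) q4384, e3 q5513 L117798 q6869, e3 q5514 L117816 q6871, e3 q5515 (flp_h L81464) q4385, e3 q5516 L81478 q4402, e3 q5517 (flp_h L117626) q6849, e3 q5518 L117850 q6875, e3 q5519 (flp_h L81498) q4388, e3 q5520 L117872 q6878, e3 q5521 (flp_h L81514) q4389, e3 q5522 L81526 q4408, e3 q5523 L117894 q6881, e3 q5524 L117920 q6884, e3 q5525 (flp_h L81543) q4393, e3 q5526 L117954 q6888, e3 q5527 L117972 q6890, e3 q5528 (flp_h L81570) q4394, e3 q5529 (flp_h L117738) q6861, e3 q5530 L81597 q5530, e3 q5531 L118002 q6894, e3 q5532 L118017 q6896, e3 q5533 (flp_h L81611) q4397, e3 q5534 L81622 q5534, e3 q5535 (flp_h L117787) q6867, e3 q5536 L118068 q6903, e3 q5537 (flp_h L81638) q4399, e3 q5538 L118092 q6906, e3 q5539 (flp_h L81654) q4400, e3 q5540 (flp_h L117830) q6872, e3 q5541 L118118 q6909, e3 q5542 L118127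 q6910, e3 q5543 (flp_h L81684) q4404, e3 q5544 L81697 q5544, e3 q5545 (flp_h L117870) q6877, e3 q5546 (flp_h L81705) q4406, e3 q5547 (flp_h L117886) q6879, e3 q5548 L118188 q6918, e3 q5549 L118214 q6920, e3 q5550 (flp_h L81738) q4409, e3 q5551 L81755 q4423, e3 q5552 L118261 q6925, e3 q5553 (flp_h L81766) q4411, e3 q5554 L118293 q6929, e3 q5555 L118309 q6931, e3 q5556 (flp_h L81789) q4412, e3 q5557 L81806 q5557, e3 q5558 L81814 q4430, e3 q5559 L118345 q6935, e3 q5560 (flp_h L81827) q4415, e3 q5561 L118371 q6938, e3 q5562 (flp_h L81843) q4416, e3 q5563 L81860 q5563, e3 q5564 L118398 q6941, e3 q5565 L118426 q6944, e3 q5566 (flp_h L81880) q4420, e3 q5567 L118463 q6948, trivial⟩ (by decide +kernel)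

theorem ce_h_87 : ∀ r, r < 64 → sm gh (Qf (5568 + r)) = Qf (tab Gen.h (5568 + r)) :=
  edges_tab (sm gh) Qf (tab Gen.h) 5568 [(5568, 6950), (5569, 4421), (5570, 4442), (5571, 6922), (5572, 6954), (5573, 6956), (5574, 4424), (5575, 5575), (5576, 4448), (5577, 6963), (5578, 4426), (5579, 6966), (5580, 4427), (5581, 4453), (5582, 6969), (5583, 6970), (5584, 4431), (5585, 4485), (5586, 4458), (5587, 4433), (5588, 4460), (5589, 6978), (5590, 4436), (5591, 6982), (5592, 6984), (5593, 4437), (5594, 5594), (5595, 6946), (5596, 6990), (5597, 4439), (5598, 6993), (5599, 4440), (5600, 6951), (5601, 6996), (5602, 6999), (5603, 4444), (5604, 7002), (5605, 4445), (5606, 5606), (5607, 6958), (5608, 5608), (5609, 7009), (5610, 7011), (5611, 7012), (5612, 4449), (5613, 4503), (5614, 6965), (5615, 4451), (5616, 6967), (5617, 7019), (5618, 4454), (5619, 4455), (5620, 4510), (5621, 6972), (5622, 4512), (5623, 7028), (5624, 6975), (5625, 5625), (5626, 5272), (5627, 5273), (5628, 4475), (5629, 5165), (5630, 5166), (5631, 7034)]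
    ⟨e3 q5568 L118483 q6950, e3 q5569 (flp_h L81910) q4421, e3 q5570 L81926 q4442, e3 q5571 (flp_h L118242) q6922, e3 q5572 L118518 q6954, e3 q5573 L118535 q6956, e3 q5574 (flp_h L81955) q4424, e3 q5575 L81965 q5575, e3 q5576 L81973 q4448, e3 q5577 L118588 q6963, e3 q5578 (flp_h L81985) q4426, e3 q5579 L118616 q6966, e3 q5580 (flp_h L82003) q4427, e3 q5581 L82016 q4453, e3 q5582 L118640 q6969, e3 q5583 L118647 q6970, e3 q5584 (flp_h L82037) q4431, e3 q5585 L82050 q4485, e3 q5586 L82060 q4458, e3 q5587 (flp_h L82062) q4433, e3 q5588 L82073 q4460, e3 q5589 L118709 q6978, e3 q5590 (flp_h L82082) q4436, e3 q5591 L118749 q6982, e3 q5592 L118768 q6984, e3 q5593 (flp_h L82106) q4437, e3 q5594 L82121 q5594, e3 q5595 (flp_h L118450) q6946, e3 q5596 L118830 q6990, e3 q5597 (flp_h L82140) q4439, e3 q5598 L118860 q6993, e3 q5599 (flp_h L82158) q4440, e3 q5600 (flp_h L118498) q6951, e3 q5601 L118884 q6996, e3 q5602 L118905 q6999, e3 q5603 (flp_h L82189) q4444, e3 q5604 L118927 q7002, e3 q5605 (flp_h L82204) q4445, e3 q5606 L82216 q5606,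 e3 q5607 (flp_h L118554) q6958, e3 q5608 L82228 q5608, e3 q5609 L118974 q7009, e3 q5610 L118987 q7011, e3 q5611 L118995 q7012, e3 q5612 (flp_h L82254) q4449, e3 q5613 L82270 q4503, e3 q5614 (flp_h L118614) q6965, e3 q5615 (flp_h L82281) q4451, e3 q5616 (flp_h L118629) q6967, e3 q5617 L119055 q7019, e3 q5618 (flp_h L82303) q4454, e3 q5619 (flp_h L82310) q4455, e3 q5620 L82324 q4510, e3 q5621 (flp_h L118669) q6972, e3 q5622 L82340 q4512, e3 q5623 L119128 q7028, e3 q5624 (flp_h L118693) q6975, e3 q5625 L82453 q5625, e3 q5626 L491290 q5272, e3 q5627 (flp_h L491336) q5273, e3 q5628 L82574 q4475, e3 q5629 (flp_h L561715) q5165, e3 q5630 L543900 q5166, e3 q5631 L119610 q7034, trivial⟩ (by decide +kernel)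

theorem ce_h_88 : ∀ r, r < 64 → sm gh (Qf (5632 + r)) = Qf (tab Gen.h (5632 + r)) :=
  edges_tab (sm gh) Qf (tab Gen.h) 5632 [(5632, 7035), (5633, 4469), (5634, 6936), (5635, 4471), (5636, 4785), (5637, 4786), (5638, 7041), (5639, 4782), (5640, 4783), (5641, 7045), (5642, 7046), (5643, 4478), (5644, 6964), (5645, 4480), (5646, 7050), (5647, 4482), (5648, 4483), (5649, 6971), (5650, 4511), (5651, 6973), (5652, 7059), (5653, 4514), (5654, 7061), (5655, 4819), (5656, 4822), (5657, 7065), (5658, 7066), (5659, 4491), (5660, 6991), (5661, 4493), (5662, 7071), (5663, 4495), (5664, 7075), (5665, 7076), (5666, 4496), (5667, 7072), (5668, 4498), (5669, 7080), (5670, 4500), (5671, 4501), (5672, 7013), (5673, 4801), (5674, 7015), (5675, 7089), (5676, 4802), (5677, 7090), (5678, 4507), (5679, 7020), (5680, 7052), (5681, 7022), (5682, 7054), (5683, 7024), (5684, 7100), (5685, 7026), (5686, 7103), (5687, 4513), (5688, 5688), (5689, 5689), (5690, 5690), (5691, 4520), (5692, 4521), (5693, 5233), (5694, 6630), (5695, 6554)]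
    ⟨e3 q5632 L119617 q7035, e3 q5633 (flp_h L82670) q4469, e3 q5634 (flp_h L118360) q6936, e3 q5635 (flp_h L82692) q4471, e3 q5636 (flp_h L562860) q4785, e3 q5637 L536618 q4786, e3 q5638 L119879 q7041, e3 q5639 (flp_h L562874) q4782, e3 q5640 (flp_h L524017) q4783, e3 q5641 L120005 q7045, e3 q5642 L120014 q7046, e3 q5643 (flp_h L82923) q4478, e3 q5644 (flp_h L118603) q6964, e3 q5645 (flp_h L82949) q4480, e3 q5646 L120073 q7050, e3 q5647 (flp_h L82975) q4482, e3 q5648 (flp_h L82984) q4483, e3 q5649 (flp_h L118660) q6971, e3 q5650 L83006 q4511, e3 q5651 (flp_h L118677) q6973, e3 q5652 L120145 q7059, e3 q5653 L83031 q4514, e3 q5654 L120243 q7061, e3 q5655 (flp_h L489628) q4819, e3 q5656 L563544 q4822, e3 q5657 L120360 q7065, e3 q5658 L120370 q7066, e3 q5659 (flp_h L83167) q4491, e3 q5660 (flp_h L118848) q6991, e3 q5661 (flp_h L83195) q4493, e3 q5662 L120440 q7071, e3 q5663 (flp_h L83220) q4495, e3 q5664 L120469 q7075, e3 q5665 L120479 q7076, e3 q5666 (flp_h L83243) q4496, e3 q5667 (flp_h L120452) q7072, e3 q5668 (flp_h L83268)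 q4498, e3 q5669 L120583 q7080, e3 q5670 (flp_h L83324) q4500, e3 q5671 (flp_h L83333) q4501, e3 q5672 (flp_h L119011) q7013, e3 q5673 L489815 q4801, e3 q5674 (flp_h L119027) q7015, e3 q5675 L120656 q7089, e3 q5676 (flp_h L563268) q4802, e3 q5677 L120664 q7090, e3 q5678 (flp_h L83390) q4507, e3 q5679 (flp_h L119069) q7020, e3 q5680 (flp_h L120098) q7052, e3 q5681 (flp_h L119085) q7022, e3 q5682 (flp_h L120115) q7054, e3 q5683 (flp_h L119101) q7024, e3 q5684 L120746 q7100, e3 q5685 (flp_h L119117) q7026, e3 q5686 L120769 q7103, e3 q5687 (flp_h L83463) q4513, e3 q5688 L83480 q5688, e3 q5689 L83487 q5689, e3 q5690 L83498 q5690, e3 q5691 L83522 q4520, e3 q5692 L83531 q4521, e3 q5693 L593741 q5233, e3 q5694 (flp_h L643461) q6630, e3 q5695 (flp_h L643520) q6554, trivial⟩ (by decide +kernel)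

theorem ce_h_89 : ∀ r, r < 64 → sm gh (Qf (5696 + r)) = Qf (tab Gen.h (5696 + r)) :=
  edges_tab (sm gh) Qf (tab Gen.h) 5696 [(5696, 6545), (5697, 5697), (5698, 7110), (5699, 5699), (5700, 7112), (5701, 4524), (5702, 5702), (5703, 5703), (5704, 5704), (5705, 6632), (5706, 4533), (5707, 4534), (5708, 7115), (5709, 5202), (5710, 6647), (5711, 4532), (5712, 6560), (5713, 6549), (5714, 6642), (5715, 5715), (5716, 6640), (5717, 7124), (5718, 4536), (5719, 5719), (5720, 7127), (5721, 7128), (5722, 4538), (5723, 7118), (5724, 5724), (5725, 6633), (5726, 5726), (5727, 5727), (5728, 6650), (5729, 4544), (5730, 4551), (5731, 4552), (5732, 7132), (5733, 7135), (5734, 4547), (5735, 5214), (5736, 7139), (5737, 6669), (5738, 4549), (5739, 4562), (5740, 6568), (5741, 6662), (5742, 5742), (5743, 6660), (5744, 7147), (5745, 7149), (5746, 4556), (5747, 7136), (5748, 5748), (5749, 7153), (5750, 4559), (5751, 7156), (5752, 4560), (5753, 7140), (5754, 7158), (5755, 4564), (5756, 4571), (5757, 4572), (5758, 7161), (5759, 7164)]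
    ⟨e3 q5696 L639599 q6545, e3 q5697 L83596 q5697, e3 q5698 L120984 q7110, e3 q5699 L83611 q5699, e3 q5700 L121016 q7112, e3 q5701 (flp_h L83620) q4524, e3 q5702 L83634 q5702, e3 q5703 L83665 q5703, e3 q5704 L83676 q5704, e3 q5705 (flp_h L643776) q6632, e3 q5706 L83717 q4533, e3 q5707 L83729 q4534, e3 q5708 L121204 q7115, e3 q5709 L537973 q5202, e3 q5710 L644838 q6647, e3 q5711 (flp_h L83773) q4532, e3 q5712 (flp_h L633054) q6560, e3 q5713 L643237 q6549, e3 q5714 L641939 q6642, e3 q5715 L83816 q5715, e3 q5716 L638359 q6640, e3 q5717 L121330 q7124, e3 q5718 (flp_h L83834) q4536, e3 q5719 L83849 q5719, e3 q5720 L121365 q7127, e3 q5721 L121381 q7128, e3 q5722 (flp_h L83864) q4538, e3 q5723 (flp_h L121252) q7118, e3 q5724 L83887 q5724, e3 q5725 (flp_h L643830) q6633, e3 q5726 L83922 q5726, e3 q5727 L83933 q5727, e3 q5728 L643914 q6650, e3 q5729 (flp_h L83971) q4544, e3 q5730 L83985 q4551, e3 q5731 L83997 q4552, e3 q5732 L121598 q7132, e3 q5733 L121621 q7135, e3 q5734 (flp_h L84035) q4547, e3 q5735 L538255 q5214, e3 q5736 L121655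 q7139, e3 q5737 L631518 q6669, e3 q5738 (flp_h L84068) q4549, e3 q5739 L84079 q4562, e3 q5740 (flp_h L643622) q6568, e3 q5741 (flp_h L644708) q6662, e3 q5742 L84121 q5742, e3 q5743 (flp_h L645052) q6660, e3 q5744 L121789 q7147, e3 q5745 L121802 q7149, e3 q5746 (flp_h L84149) q4556, e3 q5747 (flp_h L121632) q7136, e3 q5748 L84171 q5748, e3 q5749 L121832 q7153, e3 q5750 (flp_h L84180) q4559, e3 q5751 L121852 q7156, e3 q5752 (flp_h L84193) q4560, e3 q5753 (flp_h L121683) q7140, e3 q5754 L121945 q7158, e3 q5755 (flp_h L84250) q4564, e3 q5756 L84265 q4571, e3 q5757 L84276 q4572, e3 q5758 L122029 q7161, e3 q5759 L122055 q7164, trivial⟩ (by decide +kernel)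

theorem ce_h_90 : ∀ r, r < 64 → sm gh (Qf (5760 + r)) = Qf (tab Gen.h (5760 + r)) :=
  edges_tab (sm gh) Qf (tab Gen.h) 5760 [(5760, 4567), (5761, 5203), (5762, 7168), (5763, 7170), (5764, 4569), (5765, 4582), (5766, 6567), (5767, 7174), (5768, 7177), (5769, 4573), (5770, 5770), (5771, 7182), (5772, 4575), (5773, 7186), (5774, 7188), (5775, 4576), (5776, 7165), (5777, 5777), (5778, 7192), (5779, 4579), (5780, 7195), (5781, 4580), (5782, 7171), (5783, 7197), (5784, 7198), (5785, 4584), (5786, 5786), (5787, 4596), (5788, 7202), (5789, 4588), (5790, 7205), (5791, 7207), (5792, 4589), (5793, 4606), (5794, 5215), (5795, 7211), (5796, 4592), (5797, 7214), (5798, 4593), (5799, 4612), (5800, 7217), (5801, 7220), (5802, 4597), (5803, 7224), (5804, 7226), (5805, 4598), (5806, 4875), (5807, 5807), (5808, 7230), (5809, 7232), (5810, 4601), (5811, 5043), (5812, 7203), (5813, 7239), (5814, 4603), (5815, 7242), (5816, 4604), (5817, 7208), (5818, 7245), (5819, 7246), (5820, 4608), (5821, 7154), (5822, 7213), (5823, 4610)]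
    ⟨e3 q5760 (flp_h L84323) q4567, e3 q5761 (flp_h L593586) q5203, e3 q5762 L122092 q7168, e3 q5763 L122113 q7170, e3 q5764 (flp_h L84358) q4569, e3 q5765 L84375 q4582, e3 q5766 L643230 q6567, e3 q5767 L122152 q7174, e3 q5768 L122176 q7177, e3 q5769 (flp_h L84405) q4573, e3 q5770 L84421 q5770, e3 q5771 L122223 q7182, e3 q5772 (flp_h L84433) q4575, e3 q5773 L122258 q7186, e3 q5774 L122275 q7188, e3 q5775 (flp_h L84455) q4576, e3 q5776 (flp_h L122070) q7165, e3 q5777 L84479 q5777, e3 q5778 L122307 q7192, e3 q5779 (flp_h L84489) q4579, e3 q5780 L122331 q7195, e3 q5781 (flp_h L84508) q4580, e3 q5782 (flp_h L122130) q7171, e3 q5783 L122458 q7197, e3 q5784 L122474 q7198, e3 q5785 (flp_h L84597) q4584, e3 q5786 L84614 q5786, e3 q5787 L84622 q4596, e3 q5788 L122587 q7202, e3 q5789 (flp_h L84672) q4588, e3 q5790 L122621 q7205, e3 q5791 L122637 q7207, e3 q5792 (flp_h L84696) q4589, e3 q5793 L84708 q4606, e3 q5794 L592454 q5215, e3 q5795 L122671 q7211, e3 q5796 (flp_h L84729) q4592, e3 q5797 L122692 q7214, e3 q5798 (flp_h L84747) q4593,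 e3 q5799 L84763 q4612, e3 q5800 L122721 q7217, e3 q5801 L122746 q7220, e3 q5802 (flp_h L84782) q4597, e3 q5803 L122778 q7224, e3 q5804 L122794 q7226, e3 q5805 (flp_h L84804) q4598, e3 q5806 (flp_h L592198) q4875, e3 q5807 L84829 q5807, e3 q5808 L122826 q7230, e3 q5809 L122844 q7232, e3 q5810 (flp_h L84846) q4601, e3 q5811 L84861 q5043, e3 q5812 (flp_h L122611) q7203, e3 q5813 L122901 q7239, e3 q5814 (flp_h L84877) q4603, e3 q5815 L122920 q7242, e3 q5816 (flp_h L84891) q4604, e3 q5817 (flp_h L122651) q7208, e3 q5818 L122947 q7245, e3 q5819 L122956 q7246, e3 q5820 (flp_h L84921) q4608, e3 q5821 (flp_h L121844) q7154, e3 q5822 (flp_h L122690) q7213, e3 q5823 (flp_h L84941) q4610, trivial⟩ (by decide +kernel)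

theorem ce_h_91 : ∀ r, r < 64 → sm gh (Qf (5824 + r)) = Qf (tab Gen.h (5824 + r)) :=
  edges_tab (sm gh) Qf (tab Gen.h) 5824 [(5824, 7215), (5825, 7252), (5826, 4613), (5827, 7255), (5828, 4614), (5829, 5829), (5830, 7259), (5831, 7261), (5832, 4618), (5833, 4642), (5834, 7265), (5835, 4620), (5836, 7268), (5837, 4621), (5838, 4647), (5839, 7271), (5840, 7272), (5841, 4625), (5842, 5842), (5843, 4652), (5844, 4627), (5845, 4654), (5846, 7280), (5847, 4630), (5848, 7284), (5849, 7286), (5850, 4631), (5851, 4723), (5852, 4766), (5853, 7292), (5854, 4633), (5855, 7295), (5856, 4634), (5857, 4912), (5858, 7298), (5859, 7301), (5860, 4638), (5861, 7304), (5862, 4639), (5863, 5070), (5864, 7262), (5865, 5071), (5866, 7281), (5867, 7312), (5868, 7313), (5869, 4643), (5870, 5870), (5871, 7267), (5872, 4645), (5873, 7269), (5874, 7320), (5875, 4648), (5876, 4649), (5877, 5877), (5878, 7274), (5879, 5879), (5880, 7329), (5881, 7277), (5882, 7332), (5883, 7335), (5884, 4655), (5885, 5885), (5886, 7340), (5887, 4657)]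
    ⟨e3 q5824 (flp_h L122710) q7215, e3 q5825 L123176 q7252, e3 q5826 (flp_h L85067) q4613, e3 q5827 L123201 q7255, e3 q5828 (flp_h L85083) q4614, e3 q5829 L85100 q5829, e3 q5830 L123348 q7259, e3 q5831 L123368 q7261, e3 q5832 (flp_h L85193) q4618, e3 q5833 L85216 q4642, e3 q5834 L123427 q7265, e3 q5835 (flp_h L85227) q4620, e3 q5836 L123450 q7268, e3 q5837 (flp_h L85243) q4621, e3 q5838 L85256 q4647, e3 q5839 L123475 q7271, e3 q5840 L123482 q7272, e3 q5841 (flp_h L85277) q4625, e3 q5842 L85290 q5842, e3 q5843 L85299 q4652, e3 q5844 (flp_h L85301) q4627, e3 q5845 L85316 q4654, e3 q5846 L123549 q7280, e3 q5847 (flp_h L85328) q4630, e3 q5848 L123592 q7284, e3 q5849 L123610 q7286, e3 q5850 (flp_h L85351) q4631, e3 q5851 (flp_h L576282) q4723, e3 q5852 L553944 q4766, e3 q5853 L123668 q7292, e3 q5854 (flp_h L85383) q4633, e3 q5855 L123693 q7295, e3 q5856 (flp_h L85399) q4634, e3 q5857 (flp_h L592355) q4912, e3 q5858 L123719 q7298, e3 q5859 L123742 q7301, e3 q5860 (flp_h L85432) q4638, e3 q5861 L123766 q7304, e3 q5862 (flp_h L85450)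 q4639, e3 q5863 L85466 q5070, e3 q5864 (flp_h L123394) q7262, e3 q5865 L85483 q5071, e3 q5866 L553917 q7281, e3 q5867 L123841 q7312, e3 q5868 L123847 q7313, e3 q5869 (flp_h L85506) q4643, e3 q5870 L85520 q5870, e3 q5871 (flp_h L123448) q7267, e3 q5872 (flp_h L85528) q4645, e3 q5873 (flp_h L123463) q7269, e3 q5874 L123900 q7320, e3 q5875 (flp_h L85551) q4648, e3 q5876 (flp_h L85558) q4649, e3 q5877 L85574 q5877, e3 q5878 (flp_h L123507) q7274, e3 q5879 L85589 q5879, e3 q5880 L123973 q7329, e3 q5881 (flp_h L123530) q7277, e3 q5882 L124001 q7332, e3 q5883 L124030 q7335, e3 q5884 (flp_h L85630) q4655, e3 q5885 L85647 q5885, e3 q5886 L124082 q7340, e3 q5887 (flp_h L85661) q4657, trivial⟩ (by decide +kernel)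

theorem ce_h_92 : ∀ r, r < 64 → sm gh (Qf (5888 + r)) = Qf (tab Gen.h (5888 + r)) :=
  edges_tab (sm gh) Qf (tab Gen.h) 5888 [(5888, 7344), (5889, 7346), (5890, 4658), (5891, 4675), (5892, 5892), (5893, 7350), (5894, 4661), (5895, 7353), (5896, 4662), (5897, 4681), (5898, 7341), (5899, 7358), (5900, 4666), (5901, 7361), (5902, 7363), (5903, 4667), (5904, 7336), (5905, 4840), (5906, 7367), (5907, 7369), (5908, 4670), (5909, 5101), (5910, 7342), (5911, 7376), (5912, 4672), (5913, 7379), (5914, 4673), (5915, 7347), (5916, 7382), (5917, 7383), (5918, 4677), (5919, 5919), (5920, 7352), (5921, 4679), (5922, 7354), (5923, 7221), (5924, 7392), (5925, 4682), (5926, 7395), (5927, 7397), (5928, 4683), (5929, 4704), (5930, 5930), (5931, 7401), (5932, 7403), (5933, 4686), (5934, 4698), (5935, 4710), (5936, 7409), (5937, 4688), (5938, 7412), (5939, 4689), (5940, 4715), (5941, 7415), (5942, 7416), (5943, 4693), (5944, 5944), (5945, 4720), (5946, 4695), (5947, 4722), (5948, 7404), (5949, 7426), (5950, 7428), (5951, 4699)]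
    ⟨e3 q5888 L124116 q7344, e3 q5889 L124135 q7346, e3 q5890 (flp_h L85686) q4658, e3 q5891 L85703 q4675, e3 q5892 L85713 q5892, e3 q5893 L124171 q7350, e3 q5894 (flp_h L85726) q4661, e3 q5895 L124194 q7353, e3 q5896 (flp_h L85743) q4662, e3 q5897 L85758 q4681, e3 q5898 L576310 q7341, e3 q5899 L124246 q7358, e3 q5900 (flp_h L85778) q4666, e3 q5901 L124284 q7361, e3 q5902 L124303 q7363, e3 q5903 (flp_h L85803) q4667, e3 q5904 (flp_h L124049) q7336, e3 q5905 L85833 q4840, e3 q5906 L124337 q7367, e3 q5907 L124354 q7369, e3 q5908 (flp_h L85850) q4670, e3 q5909 L85865 q5101, e3 q5910 (flp_h L124105) q7342, e3 q5911 L124412 q7376, e3 q5912 (flp_h L85881) q4672, e3 q5913 L124437 q7379, e3 q5914 (flp_h L85898) q4673, e3 q5915 (flp_h L124152) q7347, e3 q5916 L124464 q7382, e3 q5917 L124470 q7383, e3 q5918 (flp_h L85930) q4677, e3 q5919 L85944 q5919, e3 q5920 (flp_h L124192) q7352, e3 q5921 (flp_h L85952) q4679, e3 q5922 (flp_h L124210) q7354, e3 q5923 (flp_h L474279) q7221, e3 q5924 L124557 q7392, e3 q5925 (flp_h L85989) q4682, e3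 q5926 L124594 q7395, e3 q5927 L124612 q7397, e3 q5928 (flp_h L86016) q4683, e3 q5929 L86032 q4704, e3 q5930 L86044 q5930, e3 q5931 L124647 q7401, e3 q5932 L124663 q7403, e3 q5933 (flp_h L86063) q4686, e3 q5934 L576569 q4698, e3 q5935 L86082 q4710, e3 q5936 L124718 q7409, e3 q5937 (flp_h L86093) q4688, e3 q5938 L124740 q7412, e3 q5939 (flp_h L86109) q4689, e3 q5940 L86125 q4715, e3 q5941 L124770 q7415, e3 q5942 L124777 q7416, e3 q5943 (flp_h L86143) q4693, e3 q5944 L86154 q5944, e3 q5945 L86160 q4720, e3 q5946 (flp_h L86162) q4695, e3 q5947 L86178 q4722, e3 q5948 L474206 q7404, e3 q5949 L124872 q7426, e3 q5950 L124890 q7428, e3 q5951 (flp_h L86210) q4699, trivial⟩ (by decide +kernel)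

theorem ce_h_93 : ∀ r, r < 64 → sm gh (Qf (5952 + r)) = Qf (tab Gen.h (5952 + r)) :=
  edges_tab (sm gh) Qf (tab Gen.h) 5952 [(5952, 7393), (5953, 7432), (5954, 4701), (5955, 7435), (5956, 4702), (5957, 7398), (5958, 7438), (5959, 7441), (5960, 4706), (5961, 7444), (5962, 4707), (5963, 5127), (5964, 7405), (5965, 5128), (5966, 7222), (5967, 7452), (5968, 7453), (5969, 4711), (5970, 5970), (5971, 7411), (5972, 4713), (5973, 7413), (5974, 7460), (5975, 4716), (5976, 4717), (5977, 5977), (5978, 7418), (5979, 5979), (5980, 7469), (5981, 7421), (5982, 7287), (5983, 7473), (5984, 7475), (5985, 4724), (5986, 4752), (5987, 7479), (5988, 4726), (5989, 7481), (5990, 4727), (5991, 4757), (5992, 7484), (5993, 7487), (5994, 4731), (5995, 7490), (5996, 4732), (5997, 4748), (5998, 4764), (5999, 7289), (6000, 7496), (6001, 7497), (6002, 4736), (6003, 4790), (6004, 4771), (6005, 4738), (6006, 4773), (6007, 7504), (6008, 4741), (6009, 4742), (6010, 4795), (6011, 4778), (6012, 4797), (6013, 7513), (6014, 4781), (6015, 7493)]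
    ⟨e3 q5952 (flp_h L124582) q7393, e3 q5953 L124954 q7432, e3 q5954 (flp_h L86244) q4701, e3 q5955 L124978 q7435, e3 q5956 (flp_h L86260) q4702, e3 q5957 (flp_h L124630) q7398, e3 q5958 L125007 q7438, e3 q5959 L125024 q7441, e3 q5960 (flp_h L86291) q4706, e3 q5961 L125040 q7444, e3 q5962 (flp_h L86305) q4707, e3 q5963 L86319 q5127, e3 q5964 (flp_h L124684) q7405, e3 q5965 L86333 q5128, e3 q5966 L553900 q7222, e3 q5967 L125111 q7452, e3 q5968 L125119 q7453, e3 q5969 (flp_h L86357) q4711, e3 q5970 L86371 q5970, e3 q5971 (flp_h L124738) q7411, e3 q5972 (flp_h L86378) q4713, e3 q5973 (flp_h L124758) q7413, e3 q5974 L125173 q7460, e3 q5975 (flp_h L86406) q4716, e3 q5976 (flp_h L86413) q4717, e3 q5977 L86427 q5977, e3 q5978 (flp_h L124798) q7418, e3 q5979 L86440 q5979, e3 q5980 L125239 q7469, e3 q5981 (flp_h L124819) q7421, e3 q5982 L590851 q7287, e3 q5983 L125306 q7473, e3 q5984 L125326 q7475, e3 q5985 (flp_h L86492) q4724, e3 q5986 L86516 q4752, e3 q5987 L125392 q7479, e3 q5988 (flp_h L86529) q4726, e3 q5989 L125420 q7481, e3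 q5990 (flp_h L86547) q4727, e3 q5991 L86564 q4757, e3 q5992 L125449 q7484, e3 q5993 L125471 q7487, e3 q5994 (flp_h L86583) q4731, e3 q5995 L125491 q7490, e3 q5996 (flp_h L86599) q4732, e3 q5997 (flp_h L554364) q4748, e3 q5998 L86620 q4764, e3 q5999 (flp_h L553704) q7289, e3 q6000 L125557 q7496, e3 q6001 L125563 q7497, e3 q6002 (flp_h L86653) q4736, e3 q6003 L86667 q4790, e3 q6004 L86676 q4771, e3 q6005 (flp_h L86678) q4738, e3 q6006 L86693 q4773, e3 q6007 L125623 q7504, e3 q6008 (flp_h L86704) q4741, e3 q6009 (flp_h L86709) q4742, e3 q6010 L86723 q4795, e3 q6011 L86732 q4778, e3 q6012 L86739 q4797, e3 q6013 L125692 q7513, e3 q6014 L86755 q4781, e3 q6015 (flp_h L553283) q7493, trivial⟩ (by decide +kernel)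

theorem ce_h_94 : ∀ r, r < 64 → sm gh (Qf (6016 + r)) = Qf (tab Gen.h (6016 + r)) :=
  edges_tab (sm gh) Qf (tab Gen.h) 6016 [(6016, 7491), (6017, 7518), (6018, 7521), (6019, 4749), (6020, 7524), (6021, 4750), (6022, 7476), (6023, 7527), (6024, 7528), (6025, 4753), (6026, 4806), (6027, 7480), (6028, 4755), (6029, 7482), (6030, 7536), (6031, 4758), (6032, 7540), (6033, 7541), (6034, 4759), (6035, 7537), (6036, 7489), (6037, 4761), (6038, 5161), (6039, 7492), (6040, 5162), (6041, 7288), (6042, 5163), (6043, 6757), (6044, 7556), (6045, 4767), (6046, 4768), (6047, 4818), (6048, 7499), (6049, 4820), (6050, 7565), (6051, 7502), (6052, 7566), (6053, 4774), (6054, 4825), (6055, 7506), (6056, 4827), (6057, 7508), (6058, 4829), (6059, 7576), (6060, 4831), (6061, 7579), (6062, 4780), (6063, 7042), (6064, 7043), (6065, 7583), (6066, 4784), (6067, 7038), (6068, 7039), (6069, 7587), (6070, 4787), (6071, 4788), (6072, 7498), (6073, 7500), (6074, 7592), (6075, 4792), (6076, 7505), (6077, 4826), (6078, 7507), (6079, 4828)]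
    ⟨e3 q6016 L554178 q7491, e3 q6017 L125787 q7518, e3 q6018 L125811 q7521, e3 q6019 (flp_h L86808) q4749, e3 q6020 L125835 q7524, e3 q6021 (flp_h L86826) q4750, e3 q6022 (flp_h L125353) q7476, e3 q6023 L125918 q7527, e3 q6024 L125925 q7528, e3 q6025 (flp_h L86889) q4753, e3 q6026 L86906 q4806, e3 q6027 (flp_h L125418) q7480, e3 q6028 (flp_h L86916) q4755, e3 q6029 (flp_h L125437) q7482, e3 q6030 L125999 q7536, e3 q6031 (flp_h L86943) q4758, e3 q6032 L126025 q7540, e3 q6033 L126031 q7541, e3 q6034 (flp_h L86961) q4759, e3 q6035 (flp_h L126010) q7537, e3 q6036 (flp_h L125489) q7489, e3 q6037 (flp_h L86979) q4761, e3 q6038 L86992 q5161, e3 q6039 (flp_h L125511) q7492, e3 q6040 L87005 q5162, e3 q6041 L502830 q7288, e3 q6042 L87021 q5163, e3 q6043 (flp_h L575611) q6757, e3 q6044 L126153 q7556, e3 q6045 (flp_h L87045) q4767, e3 q6046 (flp_h L87051) q4768, e3 q6047 L87068 q4818, e3 q6048 (flp_h L125589) q7499, e3 q6049 L87083 q4820, e3 q6050 L126229 q7565, e3 q6051 (flp_h L125613) q7502, e3 q6052 L126238 q7566, e3 q6053 (flp_h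 L87109) q4774, e3 q6054 L87121 q4825, e3 q6055 (flp_h L125642) q7506, e3 q6056 L87136 q4827, e3 q6057 (flp_h L125661) q7508, e3 q6058 L87153 q4829, e3 q6059 L126318 q7576, e3 q6060 L87169 q4831, e3 q6061 L126342 q7579, e3 q6062 (flp_h L87179) q4780, e3 q6063 L546778 q7042, e3 q6064 L562888 q7043, e3 q6065 L126673 q7583, e3 q6066 (flp_h L87398) q4784, e3 q6067 (flp_h L546307) q7038, e3 q6068 L562881 q7039, e3 q6069 L126834 q7587, e3 q6070 (flp_h L87515) q4787, e3 q6071 (flp_h L87522) q4788, e3 q6072 (flp_h L125579) q7498, e3 q6073 (flp_h L125595) q7500, e3 q6074 L126911 q7592, e3 q6075 (flp_h L87579) q4792, e3 q6076 (flp_h L125635) q7505, e3 q6077 L87600 q4826, e3 q6078 (flp_h L125651) q7507, e3 q6079 L87618 q4828, trivial⟩ (by decide +kernel)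

theorem ce_h_95 : ∀ r, r < 64 → sm gh (Qf (6080 + r)) = Qf (tab Gen.h (6080 + r)) :=
  edges_tab (sm gh) Qf (tab Gen.h) 6080 [(6080, 7509), (6081, 7602), (6082, 7511), (6083, 7605), (6084, 4798), (6085, 7608), (6086, 4800), (6087, 7082), (6088, 7084), (6089, 7612), (6090, 4803), (6091, 4804), (6092, 7529), (6093, 7531), (6094, 7619), (6095, 7620), (6096, 4808), (6097, 4813), (6098, 7584), (6099, 7626), (6100, 4810), (6101, 4811), (6102, 7621), (6103, 7623), (6104, 7631), (6105, 4815), (6106, 7557), (6107, 7062), (6108, 7559), (6109, 7063), (6110, 7561), (6111, 7641), (6112, 7563), (6113, 7644), (6114, 4821), (6115, 4823), (6116, 7567), (6117, 7594), (6118, 7569), (6119, 7570), (6120, 7651), (6121, 7572), (6122, 7653), (6123, 7574), (6124, 7656), (6125, 4830), (6126, 7577), (6127, 7658), (6128, 4832), (6129, 7660), (6130, 7661), (6131, 4834), (6132, 6132), (6133, 7663), (6134, 4836), (6135, 7666), (6136, 4837), (6137, 6137), (6138, 6684), (6139, 7668), (6140, 4841), (6141, 7671), (6142, 4842), (6143, 5211)]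
    ⟨e3 q6080 (flp_h L125669) q7509, e3 q6081 L126987 q7602, e3 q6082 (flp_h L125683) q7511, e3 q6083 L127008 q7605, e3 q6084 (flp_h L87648) q4798, e3 q6085 L127117 q7608, e3 q6086 (flp_h L87718) q4800, e3 q6087 L562538 q7082, e3 q6088 (flp_h L563189) q7084, e3 q6089 L127220 q7612, e3 q6090 (flp_h L87795) q4803, e3 q6091 (flp_h L87803) q4804, e3 q6092 (flp_h L125944) q7529, e3 q6093 (flp_h L125962) q7531, e3 q6094 L127320 q7619, e3 q6095 L127325 q7620, e3 q6096 (flp_h L87872) q4808, e3 q6097 L87884 q4813, e3 q6098 (flp_h L126692) q7584, e3 q6099 L127368 q7626, e3 q6100 (flp_h L87900) q4810, e3 q6101 (flp_h L87908) q4811, e3 q6102 (flp_h L127339) q7621, e3 q6103 (flp_h L127352) q7623, e3 q6104 L127443 q7631, e3 q6105 (flp_h L87962) q4815, e3 q6106 (flp_h L126167) q7557, e3 q6107 L563084 q7062, e3 q6108 (flp_h L126184) q7559, e3 q6109 (flp_h L562988) q7063, e3 q6110 (flp_h L126201) q7561, e3 q6111 L127521 q7641, e3 q6112 (flp_h L126218) q7563, e3 q6113 L127545 q7644, e3 q6114 (flp_h L88032) q4821, e3 q6115 (flp_h L88039) q4823,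 e3 q6116 (flp_h L126251) q7567, e3 q6117 (flp_h L126935) q7594, e3 q6118 (flp_h L126265) q7569, e3 q6119 (flp_h L126270) q7570, e3 q6120 L127619 q7651, e3 q6121 (flp_h L126289) q7572, e3 q6122 L127643 q7653, e3 q6123 (flp_h L126307) q7574, e3 q6124 L127668 q7656, e3 q6125 (flp_h L88118) q4830, e3 q6126 (flp_h L126332) q7577, e3 q6127 L127686 q7658, e3 q6128 (flp_h L88140) q4832, e3 q6129 L127769 q7660, e3 q6130 L127792 q7661, e3 q6131 (flp_h L88189) q4834, e3 q6132 L88218 q6132, e3 q6133 L127861 q7663, e3 q6134 (flp_h L88228) q4836, e3 q6135 L127890 q7666, e3 q6136 (flp_h L88249) q4837, e3 q6137 L88266 q6137, e3 q6138 (flp_h L642415) q6684, e3 q6139 L127945 q7668, e3 q6140 (flp_h L88285) q4841, e3 q6141 L127971 q7671, e3 q6142 (flp_h L88306) q4842, e3 q6143 L88321 q5211, trivial⟩ (by decide +kernel)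

theorem ce_h_96 : ∀ r, r < 64 → sm gh (Qf (6144 + r)) = Qf (tab Gen.h (6144 + r)) :=
  edges_tab (sm gh) Qf (tab Gen.h) 6144 [(6144, 6144), (6145, 5212), (6146, 7178), (6147, 7678), (6148, 7679), (6149, 4846), (6150, 6150), (6151, 6151), (6152, 4848), (6153, 6153), (6154, 7685), (6155, 4851), (6156, 4852), (6157, 6157), (6158, 6158), (6159, 6159), (6160, 7694), (6161, 6161), (6162, 6691), (6163, 7695), (6164, 4858), (6165, 7698), (6166, 4859), (6167, 6167), (6168, 7700), (6169, 7701), (6170, 4862), (6171, 6171), (6172, 6172), (6173, 4864), (6174, 6174), (6175, 6716), (6176, 4867), (6177, 7709), (6178, 7710), (6179, 4868), (6180, 7707), (6181, 6181), (6182, 4870), (6183, 5223), (6184, 6184), (6185, 5224), (6186, 7227), (6187, 5225), (6188, 6715), (6189, 7724), (6190, 4876), (6191, 4877), (6192, 6192), (6193, 6193), (6194, 6194), (6195, 7733), (6196, 6196), (6197, 7734), (6198, 4883), (6199, 6199), (6200, 6200), (6201, 6201), (6202, 6202), (6203, 6203), (6204, 7744), (6205, 6205), (6206, 7747), (6207, 4889)]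
    ⟨e3 q6144 L88332 q6144, e3 q6145 L88339 q5212, e3 q6146 L574867 q7178, e3 q6147 L128049 q7678, e3 q6148 L128057 q7679, e3 q6149 (flp_h L88368) q4846, e3 q6150 L88383 q6150, e3 q6151 L88393 q6151, e3 q6152 (flp_h L88394) q4848, e3 q6153 L88410 q6153, e3 q6154 L128118 q7685, e3 q6155 (flp_h L88420) q4851, e3 q6156 (flp_h L88428) q4852, e3 q6157 L88443 q6157, e3 q6158 L88452 q6158, e3 q6159 L88459 q6159, e3 q6160 L128192 q7694, e3 q6161 L88478 q6161, e3 q6162 L643941 q6691, e3 q6163 L128330 q7695, e3 q6164 (flp_h L88543) q4858, e3 q6165 L128355 q7698, e3 q6166 (flp_h L88563) q4859, e3 q6167 L88589 q6167, e3 q6168 L128436 q7700, e3 q6169 L128446 q7701, e3 q6170 (flp_h L88626) q4862, e3 q6171 L88641 q6171, e3 q6172 L88650 q6172, e3 q6173 (flp_h L88651) q4864, e3 q6174 L88669 q6174, e3 q6175 (flp_h L642615) q6716, e3 q6176 (flp_h L88679) q4867, e3 q6177 L128547 q7709, e3 q6178 L128557 q7710, e3 q6179 (flp_h L88703) q4868, e3 q6180 (flp_h L128527) q7707, e3 q6181 L88724 q6181, e3 q6182 (flp_h L88725) q4870, e3 q6183 L88741 q5223,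 e3 q6184 L88752 q6184, e3 q6185 L88756 q5224, e3 q6186 L483351 q7227, e3 q6187 L88769 q5225, e3 q6188 (flp_h L574966) q6715, e3 q6189 L128684 q7724, e3 q6190 (flp_h L88797) q4876, e3 q6191 (flp_h L88806) q4877, e3 q6192 L88820 q6192, e3 q6193 L88829 q6193, e3 q6194 L88833 q6194, e3 q6195 L128752 q7733, e3 q6196 L88849 q6196, e3 q6197 L128759 q7734, e3 q6198 (flp_h L88859) q4883, e3 q6199 L88875 q6199, e3 q6200 L88885 q6200, e3 q6201 L88891 q6201, e3 q6202 L88900 q6202, e3 q6203 L88906 q6203, e3 q6204 L128838 q7744, e3 q6205 L88919 q6205, e3 q6206 L128857 q7747, e3 q6207 (flp_h L88927) q4889, trivial⟩ (by decide +kernel)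

theorem ce_h_97 : ∀ r, r < 64 → sm gh (Qf (6208 + r)) = Qf (tab Gen.h (6208 + r)) :=
  edges_tab (sm gh) Qf (tab Gen.h) 6208 [(6208, 7748), (6209, 7749), (6210, 4891), (6211, 6211), (6212, 6212), (6213, 4893), (6214, 6214), (6215, 7755), (6216, 4896), (6217, 4897), (6218, 4937), (6219, 6219), (6220, 4939), (6221, 7764), (6222, 6222), (6223, 7765), (6224, 4903), (6225, 4904), (6226, 6226), (6227, 6227), (6228, 6228), (6229, 6229), (6230, 7778), (6231, 5228), (6232, 6232), (6233, 5229), (6234, 7296), (6235, 5230), (6236, 7294), (6237, 5231), (6238, 6762), (6239, 7787), (6240, 4915), (6241, 4944), (6242, 6242), (6243, 4946), (6244, 6244), (6245, 4948), (6246, 7797), (6247, 4950), (6248, 7800), (6249, 4921), (6250, 4923), (6251, 4953), (6252, 6252), (6253, 4954), (6254, 4955), (6255, 7806), (6256, 4956), (6257, 7804), (6258, 4957), (6259, 7802), (6260, 4930), (6261, 4959), (6262, 7811), (6263, 4932), (6264, 4963), (6265, 4934), (6266, 7756), (6267, 6267), (6268, 7758), (6269, 6269), (6270, 7760), (6271, 7820)]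
    ⟨e3 q6208 L129019 q7748, e3 q6209 L129028 q7749, e3 q6210 (flp_h L89035) q4891, e3 q6211 L89051 q6211, e3 q6212 L89062 q6212, e3 q6213 (flp_h L89063) q4893, e3 q6214 L89088 q6214, e3 q6215 L129177 q7755, e3 q6216 (flp_h L89139) q4896, e3 q6217 (flp_h L89147) q4897, e3 q6218 L89164 q4937, e3 q6219 L89175 q6219, e3 q6220 L89182 q4939, e3 q6221 L129258 q7764, e3 q6222 L89201 q6222, e3 q6223 L129277 q7765, e3 q6224 (flp_h L89211) q4903, e3 q6225 (flp_h L89219) q4904, e3 q6226 L89234 q6226, e3 q6227 L89244 q6227, e3 q6228 L89249 q6228, e3 q6229 L89256 q6229, e3 q6230 L129380 q7778, e3 q6231 L89272 q5228, e3 q6232 L89282 q6232, e3 q6233 L89288 q5229, e3 q6234 L568162 q7296, e3 q6235 L89301 q5230, e3 q6236 (flp_h L568013) q7294, e3 q6237 L89324 q5231, e3 q6238 (flp_h L475649) q6762, e3 q6239 L129475 q7787, e3 q6240 (flp_h L89350) q4915, e3 q6241 L89365 q4944, e3 q6242 L89374 q6242, e3 q6243 L89382 q4946, e3 q6244 L89393 q6244, e3 q6245 L89398 q4948, e3 q6246 L129555 q7797, e3 q6247 L89412 q4950, e3 q6248 L129580 q7800, e3 q6249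 (flp_h L89422) q4921, e3 q6250 (flp_h L89431) q4923, e3 q6251 L89446 q4953, e3 q6252 L89456 q6252, e3 q6253 L89463 q4954, e3 q6254 L89470 q4955, e3 q6255 L129663 q7806, e3 q6256 L628198 q4956, e3 q6257 L647356 q7804, e3 q6258 L89502 q4957, e3 q6259 L647335 q7802, e3 q6260 (flp_h L89512) q4930, e3 q6261 L89525 q4959, e3 q6262 L129730 q7811, e3 q6263 (flp_h L89535) q4932, e3 q6264 (flp_h L647509) q4963, e3 q6265 (flp_h L89554) q4934, e3 q6266 (flp_h L129194) q7756, e3 q6267 L89583 q6267, e3 q6268 (flp_h L129213) q7758, e3 q6269 L89603 q6269, e3 q6270 (flp_h L129232) q7760, e3 q6271 L129837 q7820, trivial⟩ (by decide +kernel)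

theorem ce_h_98 : ∀ r, r < 64 → sm gh (Qf (6272 + r)) = Qf (tab Gen.h (6272 + r)) :=
  edges_tab (sm gh) Qf (tab Gen.h) 6272 [(6272, 7762), (6273, 7823), (6274, 4940), (6275, 7788), (6276, 7790), (6277, 7791), (6278, 7807), (6279, 7793), (6280, 7803), (6281, 7795), (6282, 7829), (6283, 4949), (6284, 7798), (6285, 7831), (6286, 4951), (6287, 7808), (6288, 7833), (6289, 4960), (6290, 4964), (6291, 6291), (6292, 6292), (6293, 6293), (6294, 4973), (6295, 6295), (6296, 5234), (6297, 5237), (6298, 6298), (6299, 4983), (6300, 6300), (6301, 6301), (6302, 5204), (6303, 6558), (6304, 4984), (6305, 5207), (6306, 4986), (6307, 6307), (6308, 6308), (6309, 6309), (6310, 6310), (6311, 5216), (6312, 6565), (6313, 5205), (6314, 4999), (6315, 5209), (6316, 5219), (6317, 5002), (6318, 5094), (6319, 5095), (6320, 5096), (6321, 5082), (6322, 7839), (6323, 5015), (6324, 5016), (6325, 5099), (6326, 5098), (6327, 5019), (6328, 7183), (6329, 5083), (6330, 5118), (6331, 5119), (6332, 5120), (6333, 5121), (6334, 5102), (6335, 7849)]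
    ⟨e3 q6272 (flp_h L129247) q7762, e3 q6273 L129861 q7823, e3 q6274 (flp_h L89635) q4940, e3 q6275 (flp_h L129491) q7788, e3 q6276 (flp_h L129507) q7790, e3 q6277 (flp_h L129514) q7791, e3 q6278 L647427 q7807, e3 q6279 (flp_h L129530) q7793, e3 q6280 L647574 q7803, e3 q6281 (flp_h L129545) q7795, e3 q6282 L129989 q7829, e3 q6283 (flp_h L89722) q4949, e3 q6284 (flp_h L129570) q7798, e3 q6285 L130004 q7831, e3 q6286 (flp_h L89745) q4951, e3 q6287 (flp_h L129703) q7808, e3 q6288 L130184 q7833, e3 q6289 (flp_h L89885) q4960, e3 q6290 (flp_h L90106) q4964, e3 q6291 L411587 q6291, e3 q6292 L90250 q6292, e3 q6293 L90278 q6293, e3 q6294 L90325 q4973, e3 q6295 L438776 q6295, e3 q6296 (flp_h L471631) q5234, e3 q6297 L609678 q5237, e3 q6298 L90653 q6298, e3 q6299 L90718 q4983, e3 q6300 L439121 q6300, e3 q6301 L438879 q6301, e3 q6302 L594046 q5204, e3 q6303 L636571 q6558, e3 q6304 (flp_h L90848) q4984, e3 q6305 (flp_h L625271) q5207, e3 q6306 (flp_h L90874) q4986, e3 q6307 L91180 q6307, e3 q6308 L439003 q6308, e3 q6309 L438742 q6309,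 e3 q6310 L438985 q6310, e3 q6311 (flp_h L593979) q5216, e3 q6312 L644672 q6565, e3 q6313 L622710 q5205, e3 q6314 (flp_h L91449) q4999, e3 q6315 L621760 q5209, e3 q6316 L619710 q5219, e3 q6317 (flp_h L91489) q5002, e3 q6318 L591307 q5094, e3 q6319 (flp_h L577920) q5095, e3 q6320 L589308 q5096, e3 q6321 L591164 q5082, e3 q6322 L133294 q7839, e3 q6323 (flp_h L91962) q5015, e3 q6324 (flp_h L91990) q5016, e3 q6325 (flp_h L622571) q5099, e3 q6326 (flp_h L606703) q5098, e3 q6327 (flp_h L92038) q5019, e3 q6328 (flp_h L122241) q7183, e3 q6329 L552498 q5083, e3 q6330 L577739 q5118, e3 q6331 (flp_h L591488) q5119, e3 q6332 (flp_h L577888) q5120, e3 q6333 L589181 q5121, e3 q6334 (flp_h L551686) q5102, e3 q6335 L134337 q7849, trivial⟩ (by decide +kernel)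

theorem ce_h_99 : ∀ r, r < 64 → sm gh (Qf (6336 + r)) = Qf (tab Gen.h (6336 + r)) :=
  edges_tab (sm gh) Qf (tab Gen.h) 6336 [(6336, 7850), (6337, 5034), (6338, 5036), (6339, 5037), (6340, 7852), (6341, 5125), (6342, 5040), (6343, 5123), (6344, 5041), (6345, 7233), (6346, 7235), (6347, 5103), (6348, 5104), (6349, 7857), (6350, 5150), (6351, 5151), (6352, 5152), (6353, 5153), (6354, 5129), (6355, 5130), (6356, 7864), (6357, 7865), (6358, 5058), (6359, 7867), (6360, 5059), (6361, 5061), (6362, 6362), (6363, 5063), (6364, 7871), (6365, 5065), (6366, 5157), (6367, 5156), (6368, 5066), (6369, 7872), (6370, 5068), (6371, 7305), (6372, 7307), (6373, 7309), (6374, 5131), (6375, 6375), (6376, 5170), (6377, 5132), (6378, 7838), (6379, 5088), (6380, 5087), (6381, 6381), (6382, 7883), (6383, 7882), (6384, 5085), (6385, 7836), (6386, 7837), (6387, 7886), (6388, 7370), (6389, 7372), (6390, 7846), (6391, 7847), (6392, 5111), (6393, 5109), (6394, 7893), (6395, 7891), (6396, 5106), (6397, 7890), (6398, 5107), (6399, 7896)]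
    ⟨e3 q6336 L134354 q7850, e3 q6337 (flp_h L92679) q5034, e3 q6338 (flp_h L92711) q5036, e3 q6339 (flp_h L92730) q5037, e3 q6340 L134468 q7852, e3 q6341 L622301 q5125, e3 q6342 (flp_h L92763) q5040, e3 q6343 L622288 q5123, e3 q6344 (flp_h L92780) q5041, e3 q6345 (flp_h L122861) q7233, e3 q6346 (flp_h L122878) q7235, e3 q6347 L472266 q5103, e3 q6348 L589063 q5104, e3 q6349 L135478 q7857, e3 q6350 (flp_h L590642) q5150, e3 q6351 (flp_h L559641) q5151, e3 q6352 (flp_h L590263) q5152, e3 q6353 (flp_h L545714) q5153, e3 q6354 (flp_h L551530) q5129, e3 q6355 L590791 q5130, e3 q6356 L135862 q7864, e3 q6357 L135885 q7865, e3 q6358 (flp_h L93690) q5058, e3 q6359 L135911 q7867, e3 q6360 (flp_h L93707) q5059, e3 q6361 (flp_h L93765) q5061, e3 q6362 L93784 q6362, e3 q6363 (flp_h L93795) q5063, e3 q6364 L136067 q7871, e3 q6365 (flp_h L93821) q5065, e3 q6366 L624845 q5157, e3 q6367 (flp_h L614801) q5156, e3 q6368 (flp_h L93844) q5066, e3 q6369 (flp_h L136080) q7872, e3 q6370 (flp_h L93870) q5068, e3 q6371 (flp_h L123782) q7305, e3 q6372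 (flp_h L123798) q7307, e3 q6373 (flp_h L123816) q7309, e3 q6374 (flp_h L589826) q5131, e3 q6375 L93976 q6375, e3 q6376 L580362 q5170, e3 q6377 (flp_h L580578) q5132, e3 q6378 L591256 q7838, e3 q6379 L621885 q5088, e3 q6380 L623404 q5087, e3 q6381 L94157 q6381, e3 q6382 L622631 q7883, e3 q6383 (flp_h L622564) q7882, e3 q6384 (flp_h L94178) q5085, e3 q6385 (flp_h L552311) q7836, e3 q6386 L504293 q7837, e3 q6387 L136940 q7886, e3 q6388 (flp_h L124369) q7370, e3 q6389 (flp_h L124386) q7372, e3 q6390 (flp_h L577657) q7846, e3 q6391 L591478 q7847, e3 q6392 (flp_h L622820) q5111, e3 q6393 (flp_h L622834) q5109, e3 q6394 L137430 q7893, e3 q6395 (flp_h L622811) q7891, e3 q6396 (flp_h L94771) q5106, e3 q6397 (flp_h L622403) q7890, e3 q6398 (flp_h L94786) q5107, e3 q6399 L137775 q7896, trivial⟩ (by decide +kernel)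

theorem ce_h_100 : ∀ r, r < 64 → sm gh (Qf (6400 + r)) = Qf (tab Gen.h (6400 + r)) :=
  edges_tab (sm gh) Qf (tab Gen.h) 6400 [(6400, 7844), (6401, 7845), (6402, 7897), (6403, 5122), (6404, 7898), (6405, 7445), (6406, 7447), (6407, 7449), (6408, 7905), (6409, 7861), (6410, 7862), (6411, 5139), (6412, 5138), (6413, 7910), (6414, 5133), (6415, 7907), (6416, 7906), (6417, 5134), (6418, 7911), (6419, 5136), (6420, 5182), (6421, 5183), (6422, 7918), (6423, 5149), (6424, 7858), (6425, 7859), (6426, 7921), (6427, 7922), (6428, 5154), (6429, 5159), (6430, 7912), (6431, 7923), (6432, 7925), (6433, 7547), (6434, 7549), (6435, 7551), (6436, 7553), (6437, 7935), (6438, 5164), (6439, 7031), (6440, 7032), (6441, 5167), (6442, 5168), (6443, 5179), (6444, 7881), (6445, 7940), (6446, 7941), (6447, 5172), (6448, 5177), (6449, 5200), (6450, 7937), (6451, 5174), (6452, 5175), (6453, 7942), (6454, 7944), (6455, 7915), (6456, 5282), (6457, 5276), (6458, 5275), (6459, 5283), (6460, 7951), (6461, 7954), (6462, 5189), (6463, 6463)]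
    ⟨e3 q6400 (flp_h L577788) q7844, e3 q6401 (flp_h L591528) q7845, e3 q6402 L137989 q7897, e3 q6403 (flp_h L95146) q5122, e3 q6404 (flp_h L137997) q7898, e3 q6405 (flp_h L125056) q7445, e3 q6406 (flp_h L125070) q7447, e3 q6407 (flp_h L125084) q7449, e3 q6408 L138429 q7905, e3 q6409 (flp_h L551514) q7861, e3 q6410 (flp_h L590772) q7862, e3 q6411 (flp_h L604463) q5139, e3 q6412 (flp_h L624739) q5138, e3 q6413 L138657 q7910, e3 q6414 (flp_h L95609) q5133, e3 q6415 L615319 q7907, e3 q6416 (flp_h L624719) q7906, e3 q6417 (flp_h L95631) q5134, e3 q6418 (flp_h L138667) q7911, e3 q6419 (flp_h L95653) q5136, e3 q6420 L95736 q5182, e3 q6421 L95753 q5183, e3 q6422 L139158 q7918, e3 q6423 (flp_h L95951) q5149, e3 q6424 (flp_h L590396) q7858, e3 q6425 (flp_h L590677) q7859, e3 q6426 L139390 q7921, e3 q6427 L139397 q7922, e3 q6428 (flp_h L96138) q5154, e3 q6429 L96149 q5159, e3 q6430 (flp_h L138675) q7912, e3 q6431 (flp_h L139409) q7923, e3 q6432 (flp_h L139421) q7925, e3 q6433 (flp_h L126074) q7547, e3 q6434 (flp_h L126089) q7549, e3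 q6435 (flp_h L126104) q7551, e3 q6436 (flp_h L126128) q7553, e3 q6437 L139754 q7935, e3 q6438 (flp_h L96416) q5164, e3 q6439 (flp_h L543914) q7031, e3 q6440 L512026 q7032, e3 q6441 (flp_h L96507) q5167, e3 q6442 (flp_h L96518) q5168, e3 q6443 (flp_h L624672) q5179, e3 q6444 L533135 q7881, e3 q6445 L139945 q7940, e3 q6446 L139951 q7941, e3 q6447 (flp_h L96564) q5172, e3 q6448 L96574 q5177, e3 q6449 L96581 q5200, e3 q6450 (flp_h L616573) q7937, e3 q6451 (flp_h L96593) q5174, e3 q6452 (flp_h L96603) q5175, e3 q6453 (flp_h L139962) q7942, e3 q6454 (flp_h L139975) q7944, e3 q6455 (flp_h L138858) q7915, e3 q6456 (flp_h L561333) q5282, e3 q6457 L612942 q5276, e3 q6458 (flp_h L624370) q5275, e3 q6459 (flp_h L561343) q5283, e3 q6460 L140217 q7951, e3 q6461 L140240 q7954, e3 q6462 (flp_h L96792) q5189, e3 q6463 L96807 q6463, trivial⟩ (by decide +kernel)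

theorem ce_h_101 : ∀ r, r < 64 → sm gh (Qf (6464 + r)) = Qf (tab Gen.h (6464 + r)) :=
  edges_tab (sm gh) Qf (tab Gen.h) 6464 [(6464, 6464), (6465, 7959), (6466, 7960), (6467, 5192), (6468, 7936), (6469, 6469), (6470, 7963), (6471, 7964), (6472, 5197), (6473, 5198), (6474, 7943), (6475, 6645), (6476, 7116), (6477, 7166), (6478, 6641), (6479, 5206), (6480, 7967), (6481, 7672), (6482, 7674), (6483, 7676), (6484, 6666), (6485, 5213), (6486, 7137), (6487, 6661), (6488, 5217), (6489, 5221), (6490, 6490), (6491, 7974), (6492, 7976), (6493, 7977), (6494, 7716), (6495, 7718), (6496, 7720), (6497, 7722), (6498, 7779), (6499, 7781), (6500, 7783), (6501, 7785), (6502, 6629), (6503, 5232), (6504, 7105), (6505, 6627), (6506, 5235), (6507, 5239), (6508, 6508), (6509, 7990), (6510, 7992), (6511, 7993), (6512, 6512), (6513, 6513), (6514, 6514), (6515, 6515), (6516, 5248), (6517, 5249), (6518, 6651), (6519, 7997), (6520, 6520), (6521, 6521), (6522, 8000), (6523, 5256), (6524, 6524), (6525, 5258), (6526, 6526), (6527, 6527)]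
    ⟨e3 q6464 L96819 q6464, e3 q6465 L140281 q7959, e3 q6466 L140289 q7960, e3 q6467 (flp_h L96835) q5192, e3 q6468 (flp_h L139774) q7936, e3 q6469 L96858 q6469, e3 q6470 L140320 q7963, e3 q6471 L140333 q7964, e3 q6472 (flp_h L96881) q5197, e3 q6473 (flp_h L96888) q5198, e3 q6474 (flp_h L139969) q7943, e3 q6475 (flp_h L637831) q6645, e3 q6476 L592827 q7116, e3 q6477 (flp_h L593620) q7166, e3 q6478 (flp_h L642378) q6641, e3 q6479 (flp_h L97135) q5206, e3 q6480 (flp_h L140717) q7967, e3 q6481 (flp_h L127987) q7672, e3 q6482 (flp_h L128003) q7674, e3 q6483 (flp_h L128020) q7676, e3 q6484 L642265 q6666, e3 q6485 (flp_h L97524) q5213, e3 q6486 (flp_h L592895) q7137, e3 q6487 L633737 q6661, e3 q6488 (flp_h L97702) q5217, e3 q6489 L97714 q5221, e3 q6490 L97722 q6490, e3 q6491 (flp_h L141491) q7974, e3 q6492 (flp_h L141505) q7976, e3 q6493 (flp_h L141511) q7977, e3 q6494 (flp_h L128604) q7716, e3 q6495 (flp_h L128621) q7718, e3 q6496 (flp_h L128635) q7720, e3 q6497 (flp_h L128656) q7722, e3 q6498 (flp_h L129393) q7779, e3 q6499 (flp_h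 L129406) q7781, e3 q6500 (flp_h L129428) q7783, e3 q6501 (flp_h L129450) q7785, e3 q6502 L643486 q6629, e3 q6503 (flp_h L98313) q5232, e3 q6504 L593711 q7105, e3 q6505 (flp_h L633899) q6627, e3 q6506 (flp_h L98486) q5235, e3 q6507 L98499 q5239, e3 q6508 L98508 q6508, e3 q6509 (flp_h L142572) q7990, e3 q6510 (flp_h L142587) q7992, e3 q6511 (flp_h L142595) q7993, e3 q6512 L98562 q6512, e3 q6513 L98579 q6513, e3 q6514 L98604 q6514, e3 q6515 L98881 q6515, e3 q6516 L98982 q5248, e3 q6517 L98989 q5249, e3 q6518 L641819 q6651, e3 q6519 (flp_h L143274) q7997, e3 q6520 L99041 q6520, e3 q6521 L99065 q6521, e3 q6522 L143633 q8000, e3 q6523 (flp_h L99264) q5256, e3 q6524 L99293 q6524, e3 q6525 (flp_h L99314) q5258, e3 q6526 L99440 q6526, e3 q6527 L99599 q6527, trivial⟩ (by decide +kernel)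

theorem ce_h_102 : ∀ r, r < 64 → sm gh (Qf (6528 + r)) = Qf (tab Gen.h (6528 + r)) :=
  edges_tab (sm gh) Qf (tab Gen.h) 6528 [(6528, 6528), (6529, 6529), (6530, 6530), (6531, 6531), (6532, 6532), (6533, 6533), (6534, 7029), (6535, 7030), (6536, 7033), (6537, 8007), (6538, 6538), (6539, 6539), (6540, 6540), (6541, 6541), (6542, 6542), (6543, 6543), (6544, 6544), (6545, 5696), (6546, 6546), (6547, 6547), (6548, 6548), (6549, 5713), (6550, 6550), (6551, 6551), (6552, 5350), (6553, 5351), (6554, 5695), (6555, 5353), (6556, 5354), (6557, 5359), (6558, 6303), (6559, 5361), (6560, 5712), (6561, 5303), (6562, 5364), (6563, 5365), (6564, 5373), (6565, 6312), (6566, 5377), (6567, 5766), (6568, 5740), (6569, 5309), (6570, 5382), (6571, 8008), (6572, 5390), (6573, 8009), (6574, 8010), (6575, 5314), (6576, 5394), (6577, 8012), (6578, 8013), (6579, 5316), (6580, 6580), (6581, 5399), (6582, 8015), (6583, 8016), (6584, 5320), (6585, 5412), (6586, 8018), (6587, 5322), (6588, 8021), (6589, 8022), (6590, 5323), (6591, 6591)]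
    ⟨e3 q6528 L99641 q6528, e3 q6529 L99940 q6529, e3 q6530 L100269 q6530, e3 q6531 L100708 q6531, e3 q6532 L424193 q6532, e3 q6533 L425873 q6533, e3 q6534 L561216 q7029, e3 q6535 L561193 q7030, e3 q6536 (flp_h L616704) q7033, e3 q6537 L164517 q8007, e3 q6538 L114584 q6538, e3 q6539 L114593 q6539, e3 q6540 L114602 q6540, e3 q6541 L114613 q6541, e3 q6542 L114622 q6542, e3 q6543 L114631 q6543, e3 q6544 L114641 q6544, e3 q6545 (flp_h L639599) q5696, e3 q6546 L114659 q6546, e3 q6547 L114669 q6547, e3 q6548 L114692 q6548, e3 q6549 (flp_h L643237) q5713, e3 q6550 L114717 q6550, e3 q6551 L114728 q6551, e3 q6552 L114738 q5350, e3 q6553 L114750 q5351, e3 q6554 L643520 q5695, e3 q6555 L114767 q5353, e3 q6556 L114776 q5354, e3 q6557 L114789 q5359, e3 q6558 (flp_h L636571) q6303, e3 q6559 L114807 q5361, e3 q6560 L633054 q5712, e3 q6561 (flp_h L114820) q5303, e3 q6562 L114835 q5364, e3 q6563 L114844 q5365, e3 q6564 L114863 q5373, e3 q6565 (flp_h L644672) q6312, e3 q6566 L114896 q5377, e3 q6567 (flp_h L643230) q5766, e3 q6568 L643622 q5740,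 e3 q6569 (flp_h L114914) q5309, e3 q6570 L114937 q5382, e3 q6571 L166495 q8008, e3 q6572 L114958 q5390, e3 q6573 L166525 q8009, e3 q6574 L166550 q8010, e3 q6575 (flp_h L114979) q5314, e3 q6576 L114994 q5394, e3 q6577 L166589 q8012, e3 q6578 L166608 q8013, e3 q6579 (flp_h L115014) q5316, e3 q6580 L115034 q6580, e3 q6581 L115041 q5399, e3 q6582 L166645 q8015, e3 q6583 L166671 q8016, e3 q6584 (flp_h L115063) q5320, e3 q6585 L115079 q5412, e3 q6586 L166718 q8018, e3 q6587 (flp_h L115091) q5322, e3 q6588 L166749 q8021, e3 q6589 L166765 q8022, e3 q6590 (flp_h L115114) q5323, e3 q6591 L115131 q6591, trivial⟩ (by decide +kernel)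

theorem ce_h_103 : ∀ r, r < 64 → sm gh (Qf (6592 + r)) = Qf (tab Gen.h (6592 + r)) :=
  edges_tab (sm gh) Qf (tab Gen.h) 6592 [(6592, 5419), (6593, 8024), (6594, 5326), (6595, 8027), (6596, 5327), (6597, 6597), (6598, 8029), (6599, 8030), (6600, 5331), (6601, 8033), (6602, 8034), (6603, 5332), (6604, 6604), (6605, 5444), (6606, 8036), (6607, 8037), (6608, 5335), (6609, 6609), (6610, 6610), (6611, 8042), (6612, 5337), (6613, 8045), (6614, 5338), (6615, 6615), (6616, 8047), (6617, 8048), (6618, 5342), (6619, 6619), (6620, 6620), (6621, 5344), (6622, 6622), (6623, 6623), (6624, 8057), (6625, 6625), (6626, 6626), (6627, 6505), (6628, 8063), (6629, 6502), (6630, 5694), (6631, 5352), (6632, 5705), (6633, 5725), (6634, 8066), (6635, 6635), (6636, 8070), (6637, 5356), (6638, 6638), (6639, 6639), (6640, 5716), (6641, 6478), (6642, 5714), (6643, 8077), (6644, 5360), (6645, 6475), (6646, 8079), (6647, 5710), (6648, 5362), (6649, 8071), (6650, 5728), (6651, 6518), (6652, 8083), (6653, 5366), (6654, 6654), (6655, 8086)]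
    ⟨e3 q6592 L115139 q5419, e3 q6593 L166799 q8024, e3 q6594 (flp_h L115149) q5326, e3 q6595 L166821 q8027, e3 q6596 (flp_h L115165) q5327, e3 q6597 L115183 q6597, e3 q6598 L166851 q8029, e3 q6599 L166876 q8030, e3 q6600 (flp_h L115201) q5331, e3 q6601 L166911 q8033, e3 q6602 L166929 q8034, e3 q6603 (flp_h L115226) q5332, e3 q6604 L115245 q6604, e3 q6605 L115253 q5444, e3 q6606 L166965 q8036, e3 q6607 L166982 q8037, e3 q6608 (flp_h L115272) q5335, e3 q6609 L115286 q6609, e3 q6610 L115294 q6610, e3 q6611 L167039 q8042, e3 q6612 (flp_h L115303) q5337, e3 q6613 L167065 q8045, e3 q6614 (flp_h L115319) q5338, e3 q6615 L115336 q6615, e3 q6616 L167091 q8047, e3 q6617 L167098 q8048, e3 q6618 (flp_h L115353) q5342, e3 q6619 L115368 q6619, e3 q6620 L115377 q6620, e3 q6621 (flp_h L115378) q5344, e3 q6622 L115395 q6622, e3 q6623 L115417 q6623, e3 q6624 L167194 q8057, e3 q6625 L115437 q6625, e3 q6626 L115447 q6626, e3 q6627 L633899 q6505, e3 q6628 L167261 q8063, e3 q6629 (flp_h L643486) q6502, e3 q6630 L643461 q5694, e3 q6631 (flp_h L115484)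 q5352, e3 q6632 L643776 q5705, e3 q6633 L643830 q5725, e3 q6634 L167363 q8066, e3 q6635 L115538 q6635, e3 q6636 L167402 q8070, e3 q6637 (flp_h L115553) q5356, e3 q6638 L115569 q6638, e3 q6639 L115579 q6639, e3 q6640 (flp_h L638359) q5716, e3 q6641 L642378 q6478, e3 q6642 (flp_h L641939) q5714, e3 q6643 L167502 q8077, e3 q6644 (flp_h L115619) q5360, e3 q6645 L637831 q6475, e3 q6646 L167535 q8079, e3 q6647 (flp_h L644838) q5710, e3 q6648 (flp_h L115650) q5362, e3 q6649 (flp_h L167420) q8071, e3 q6650 (flp_h L643914) q5728, e3 q6651 (flp_h L641819) q6518, e3 q6652 L167642 q8083, e3 q6653 (flp_h L115713) q5366, e3 q6654 L115728 q6654, e3 q6655 L167680 q8086, trivial⟩ (by decide +kernel)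

theorem ce_h_104 : ∀ r, r < 64 → sm gh (Qf (6656 + r)) = Qf (tab Gen.h (6656 + r)) :=
  edges_tab (sm gh) Qf (tab Gen.h) 6656 [(6656, 8088), (6657, 5368), (6658, 5381), (6659, 6659), (6660, 5743), (6661, 6487), (6662, 5741), (6663, 8095), (6664, 8097), (6665, 5375), (6666, 6484), (6667, 8100), (6668, 5378), (6669, 5737), (6670, 5379), (6671, 8089), (6672, 8104), (6673, 8107), (6674, 5383), (6675, 6675), (6676, 8111), (6677, 8113), (6678, 5385), (6679, 5398), (6680, 6680), (6681, 8117), (6682, 8120), (6683, 5389), (6684, 6138), (6685, 8124), (6686, 5391), (6687, 8128), (6688, 8130), (6689, 5392), (6690, 8108), (6691, 6162), (6692, 8134), (6693, 5395), (6694, 8137), (6695, 5396), (6696, 8114), (6697, 8141), (6698, 5400), (6699, 8145), (6700, 8147), (6701, 5401), (6702, 5418), (6703, 6703), (6704, 8151), (6705, 5404), (6706, 8154), (6707, 5405), (6708, 5424), (6709, 8157), (6710, 8160), (6711, 5409), (6712, 8164), (6713, 8166), (6714, 5410), (6715, 6188), (6716, 6175), (6717, 8170), (6718, 8172), (6719, 5413)]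
    ⟨e3 q6656 L167697 q8088, e3 q6657 (flp_h L115751) q5368, e3 q6658 L115766 q5381, e3 q6659 L115776 q6659, e3 q6660 L645052 q5743, e3 q6661 (flp_h L633737) q6487, e3 q6662 L644708 q5741, e3 q6663 L167821 q8095, e3 q6664 L167836 q8097, e3 q6665 (flp_h L115840) q5375, e3 q6666 (flp_h L642265) q6484, e3 q6667 L167866 q8100, e3 q6668 (flp_h L115869) q5378, e3 q6669 (flp_h L631518) q5737, e3 q6670 (flp_h L115884) q5379, e3 q6671 (flp_h L167712) q8089, e3 q6672 L167958 q8104, e3 q6673 L167988 q8107, e3 q6674 (flp_h L115942) q5383, e3 q6675 L115957 q6675, e3 q6676 L168029 q8111, e3 q6677 L168052 q8113, e3 q6678 (flp_h L115982) q5385, e3 q6679 L116003 q5398, e3 q6680 L116011 q6680, e3 q6681 L168093 q8117, e3 q6682 L168121 q8120, e3 q6683 (flp_h L116035) q5389, e3 q6684 L642415 q6138, e3 q6685 L168167 q8124, e3 q6686 (flp_h L116061) q5391, e3 q6687 L168202 q8128, e3 q6688 L168221 q8130, e3 q6689 (flp_h L116087) q5392, e3 q6690 (flp_h L168007) q8108, e3 q6691 (flp_h L643941) q6162, e3 q6692 L168253 q8134, e3 q6693 (flp_h L116119)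 q5395, e3 q6694 L168280 q8137, e3 q6695 (flp_h L116140) q5396, e3 q6696 (flp_h L168071) q8114, e3 q6697 L168401 q8141, e3 q6698 (flp_h L116207) q5400, e3 q6699 L168437 q8145, e3 q6700 L168455 q8147, e3 q6701 (flp_h L116235) q5401, e3 q6702 L116251 q5418, e3 q6703 L116260 q6703, e3 q6704 L168493 q8151, e3 q6705 (flp_h L116272) q5404, e3 q6706 L168519 q8154, e3 q6707 (flp_h L116292) q5405, e3 q6708 L116310 q5424, e3 q6709 L168549 q8157, e3 q6710 L168577 q8160, e3 q6711 (flp_h L116329) q5409, e3 q6712 L168609 q8164, e3 q6713 L168627 q8166, e3 q6714 (flp_h L116355) q5410, e3 q6715 L574966 q6188, e3 q6716 L642615 q6175, e3 q6717 L168658 q8170, e3 q6718 L168677 q8172, e3 q6719 (flp_h L116396) q5413, trivial⟩ (by decide +kernel)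

theorem ce_h_105 : ∀ r, r < 64 → sm gh (Qf (6720 + r)) = Qf (tab Gen.h (6720 + r)) :=
  edges_tab (sm gh) Qf (tab Gen.h) 6720 [(6720, 6720), (6721, 8143), (6722, 8179), (6723, 5415), (6724, 8182), (6725, 5416), (6726, 8148), (6727, 8185), (6728, 8186), (6729, 5420), (6730, 8101), (6731, 8153), (6732, 5422), (6733, 8155), (6734, 8194), (6735, 8196), (6736, 5425), (6737, 6737), (6738, 5449), (6739, 8202), (6740, 5427), (6741, 8205), (6742, 5428), (6743, 5454), (6744, 8208), (6745, 8209), (6746, 5432), (6747, 6747), (6748, 5459), (6749, 5434), (6750, 5461), (6751, 8217), (6752, 5437), (6753, 8222), (6754, 8224), (6755, 5438), (6756, 6756), (6757, 6043), (6758, 8231), (6759, 5440), (6760, 8234), (6761, 5441), (6762, 6238), (6763, 8237), (6764, 8240), (6765, 5445), (6766, 8243), (6767, 5446), (6768, 6768), (6769, 8198), (6770, 6770), (6771, 8250), (6772, 8252), (6773, 8253), (6774, 5450), (6775, 6775), (6776, 8204), (6777, 5452), (6778, 8206), (6779, 8260), (6780, 5455), (6781, 5456), (6782, 6782), (6783, 8211)]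
    ⟨e3 q6720 L116410 q6720, e3 q6721 (flp_h L168427) q8143, e3 q6722 L168733 q8179, e3 q6723 (flp_h L116427) q5415, e3 q6724 L168755 q8182, e3 q6725 (flp_h L116443) q5416, e3 q6726 (flp_h L168471) q8148, e3 q6727 L168780 q8185, e3 q6728 L168791 q8186, e3 q6729 (flp_h L116473) q5420, e3 q6730 (flp_h L167879) q8101, e3 q6731 (flp_h L168517) q8153, e3 q6732 (flp_h L116496) q5422, e3 q6733 (flp_h L168539) q8155, e3 q6734 L168975 q8194, e3 q6735 L168996 q8196, e3 q6736 (flp_h L116615) q5425, e3 q6737 L116630 q6737, e3 q6738 L116640 q5449, e3 q6739 L169060 q8202, e3 q6740 (flp_h L116651) q5427, e3 q6741 L169088 q8205, e3 q6742 (flp_h L116669) q5428, e3 q6743 L116684 q5454, e3 q6744 L169115 q8208, e3 q6745 L169124 q8209, e3 q6746 (flp_h L116707) q5432, e3 q6747 L116723 q6747, e3 q6748 L116734 q5459, e3 q6749 (flp_h L116736) q5434, e3 q6750 L116753 q5461, e3 q6751 L169200 q8217, e3 q6752 (flp_h L116764) q5437, e3 q6753 L169245 q8222, e3 q6754 L169264 q8224, e3 q6755 (flp_h L116790) q5438, e3 q6756 L116804 q6756, e3 q6757 L575611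 q6043, e3 q6758 L169321 q8231, e3 q6759 (flp_h L116822) q5440, e3 q6760 L169349 q8234, e3 q6761 (flp_h L116840) q5441, e3 q6762 L475649 q6238, e3 q6763 L169372 q8237, e3 q6764 L169398 q8240, e3 q6765 (flp_h L116872) q5445, e3 q6766 L169426 q8243, e3 q6767 (flp_h L116891) q5446, e3 q6768 L116906 q6768, e3 q6769 (flp_h L169022) q8198, e3 q6770 L116921 q6770, e3 q6771 L169482 q8250, e3 q6772 L169495 q8252, e3 q6773 L169503 q8253, e3 q6774 (flp_h L116946) q5450, e3 q6775 L116961 q6775, e3 q6776 (flp_h L169086) q8204, e3 q6777 (flp_h L116971) q5452, e3 q6778 (flp_h L169103) q8206, e3 q6779 L169558 q8260, e3 q6780 (flp_h L116992) q5455, e3 q6781 (flp_h L117001) q5456, e3 q6782 L117016 q6782, e3 q6783 (flp_h L169150) q8211, trivial⟩ (by decide +kernel)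

theorem ce_h_106 : ∀ r, r < 64 → sm gh (Qf (6784 + r)) = Qf (tab Gen.h (6784 + r)) :=
  edges_tab (sm gh) Qf (tab Gen.h) 6784 [(6784, 6784), (6785, 8269), (6786, 8214), (6787, 8272), (6788, 5470), (6789, 8275), (6790, 8278), (6791, 5463), (6792, 5474), (6793, 8282), (6794, 8284), (6795, 5465), (6796, 6796), (6797, 5479), (6798, 8288), (6799, 8291), (6800, 5469), (6801, 8273), (6802, 8296), (6803, 5471), (6804, 8300), (6805, 8302), (6806, 5472), (6807, 5489), (6808, 8280), (6809, 8306), (6810, 5475), (6811, 8309), (6812, 5476), (6813, 5495), (6814, 8312), (6815, 8315), (6816, 5480), (6817, 8319), (6818, 8321), (6819, 5481), (6820, 8292), (6821, 6821), (6822, 8325), (6823, 8327), (6824, 5484), (6825, 6825), (6826, 8298), (6827, 8334), (6828, 5486), (6829, 8337), (6830, 5487), (6831, 8303), (6832, 8340), (6833, 8341), (6834, 5491), (6835, 6835), (6836, 8308), (6837, 5493), (6838, 8310), (6839, 8349), (6840, 8352), (6841, 5496), (6842, 5510), (6843, 8357), (6844, 5498), (6845, 8361), (6846, 8363), (6847, 5499)]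
    ⟨e3 q6784 L117032 q6784, e3 q6785 L169634 q8269, e3 q6786 (flp_h L169180) q8214, e3 q6787 L169661 q8272, e3 q6788 L117069 q5470, e3 q6789 L169692 q8275, e3 q6790 L169718 q8278, e3 q6791 (flp_h L117091) q5463, e3 q6792 L117107 q5474, e3 q6793 L169759 q8282, e3 q6794 L169778 q8284, e3 q6795 (flp_h L117128) q5465, e3 q6796 L117148 q6796, e3 q6797 L117156 q5479, e3 q6798 L169820 q8288, e3 q6799 L169853 q8291, e3 q6800 (flp_h L117184) q5469, e3 q6801 (flp_h L169679) q8273, e3 q6802 L169904 q8296, e3 q6803 (flp_h L117213) q5471, e3 q6804 L169938 q8300, e3 q6805 L169959 q8302, e3 q6806 (flp_h L117242) q5472, e3 q6807 L117259 q5489, e3 q6808 (flp_h L169746) q8280, e3 q6809 L169995 q8306, e3 q6810 (flp_h L117280) q5475, e3 q6811 L170021 q8309, e3 q6812 (flp_h L117299) q5476, e3 q6813 L117312 q5495, e3 q6814 L170045 q8312, e3 q6815 L170073 q8315, e3 q6816 (flp_h L117332) q5480, e3 q6817 L170111 q8319, e3 q6818 L170132 q8321, e3 q6819 (flp_h L117361) q5481, e3 q6820 (flp_h L169872) q8292, e3 q6821 L117390 q6821, e3 q6822 L170165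 q8325, e3 q6823 L170183 q8327, e3 q6824 (flp_h L117407) q5484, e3 q6825 L117421 q6825, e3 q6826 (flp_h L169927) q8298, e3 q6827 L170240 q8334, e3 q6828 (flp_h L117438) q5486, e3 q6829 L170268 q8337, e3 q6830 (flp_h L117457) q5487, e3 q6831 (flp_h L169974) q8303, e3 q6832 L170293 q8340, e3 q6833 L170301 q8341, e3 q6834 (flp_h L117489) q5491, e3 q6835 L117504 q6835, e3 q6836 (flp_h L170019) q8308, e3 q6837 (flp_h L117514) q5493, e3 q6838 (flp_h L170035) q8310, e3 q6839 L170369 q8349, e3 q6840 L170396 q8352, e3 q6841 (flp_h L117547) q5496, e3 q6842 L117564 q5510, e3 q6843 L170444 q8357, e3 q6844 (flp_h L117576) q5498, e3 q6845 L170476 q8361, e3 q6846 L170492 q8363, e3 q6847 (flp_h L117600) q5499, trivial⟩ (by decide +kernel)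

theorem ce_h_107 : ∀ r, r < 64 → sm gh (Qf (6848 + r)) = Qf (tab Gen.h (6848 + r)) :=
  edges_tab (sm gh) Qf (tab Gen.h) 6848 [(6848, 6848), (6849, 5517), (6850, 8367), (6851, 5502), (6852, 8370), (6853, 5503), (6854, 6854), (6855, 8373), (6856, 8376), (6857, 5507), (6858, 8380), (6859, 8382), (6860, 5508), (6861, 5529), (6862, 8354), (6863, 8386), (6864, 8388), (6865, 5511), (6866, 6866), (6867, 5535), (6868, 8395), (6869, 5513), (6870, 8398), (6871, 5514), (6872, 5540), (6873, 8401), (6874, 8402), (6875, 5518), (6876, 6876), (6877, 5545), (6878, 5520), (6879, 5547), (6880, 8410), (6881, 5523), (6882, 8414), (6883, 8416), (6884, 5524), (6885, 6885), (6886, 8378), (6887, 8422), (6888, 5526), (6889, 8425), (6890, 5527), (6891, 8383), (6892, 8428), (6893, 8431), (6894, 5531), (6895, 8434), (6896, 5532), (6897, 6897), (6898, 8390), (6899, 6899), (6900, 8441), (6901, 8443), (6902, 8444), (6903, 5536), (6904, 6904), (6905, 8397), (6906, 5538), (6907, 8399), (6908, 8451), (6909, 5541), (6910, 5542), (6911, 6911)]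
    ⟨e3 q6848 L117617 q6848, e3 q6849 L117626 q5517, e3 q6850 L170528 q8367, e3 q6851 (flp_h L117637) q5502, e3 q6852 L170551 q8370, e3 q6853 (flp_h L117653) q5503, e3 q6854 L117671 q6854, e3 q6855 L170580 q8373, e3 q6856 L170610 q8376, e3 q6857 (flp_h L117691) q5507, e3 q6858 L170647 q8380, e3 q6859 L170667 q8382, e3 q6860 (flp_h L117722) q5508, e3 q6861 L117738 q5529, e3 q6862 (flp_h L170425) q8354, e3 q6863 L170701 q8386, e3 q6864 L170718 q8388, e3 q6865 (flp_h L117768) q5511, e3 q6866 L117778 q6866, e3 q6867 L117787 q5535, e3 q6868 L170772 q8395, e3 q6869 (flp_h L117798) q5513, e3 q6870 L170797 q8398, e3 q6871 (flp_h L117816) q5514, e3 q6872 L117830 q5540, e3 q6873 L170825 q8401, e3 q6874 L170834 q8402, e3 q6875 (flp_h L117850) q5518, e3 q6876 L117862 q6876, e3 q6877 L117870 q5545, e3 q6878 (flp_h L117872) q5520, e3 q6879 L117886 q5547, e3 q6880 L170893 q8410, e3 q6881 (flp_h L117894) q5523, e3 q6882 L170932 q8414, e3 q6883 L170951 q8416, e3 q6884 (flp_h L117920) q5524, e3 q6885 L117935 q6885, e3 q6886 (flp_h L170635)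 q8378, e3 q6887 L171014 q8422, e3 q6888 (flp_h L117954) q5526, e3 q6889 L171041 q8425, e3 q6890 (flp_h L117972) q5527, e3 q6891 (flp_h L170683) q8383, e3 q6892 L171067 q8428, e3 q6893 L171087 q8431, e3 q6894 (flp_h L118002) q5531, e3 q6895 L171107 q8434, e3 q6896 (flp_h L118017) q5532, e3 q6897 L118030 q6897, e3 q6898 (flp_h L170737) q8390, e3 q6899 L118042 q6899, e3 q6900 L171157 q8441, e3 q6901 L171172 q8443, e3 q6902 L171182 q8444, e3 q6903 (flp_h L118068) q5536, e3 q6904 L118083 q6904, e3 q6905 (flp_h L170795) q8397, e3 q6906 (flp_h L118092) q5538, e3 q6907 (flp_h L170813) q8399, e3 q6908 L171238 q8451, e3 q6909 (flp_h L118118) q5541, e3 q6910 (flp_h L118127) q5542, e3 q6911 L118140 q6911, trivial⟩ (by decide +kernel)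

theorem ce_h_108 : ∀ r, r < 64 → sm gh (Qf (6912 + r)) = Qf (tab Gen.h (6912 + r)) :=
  edges_tab (sm gh) Qf (tab Gen.h) 6912 [(6912, 8404), (6913, 6913), (6914, 8460), (6915, 8407), (6916, 8462), (6917, 8464), (6918, 5548), (6919, 8468), (6920, 5549), (6921, 6921), (6922, 5571), (6923, 8471), (6924, 8473), (6925, 5552), (6926, 6926), (6927, 6927), (6928, 8480), (6929, 5554), (6930, 8482), (6931, 5555), (6932, 6932), (6933, 8485), (6934, 8486), (6935, 5559), (6936, 5634), (6937, 6937), (6938, 5561), (6939, 6939), (6940, 8494), (6941, 5564), (6942, 8497), (6943, 8499), (6944, 5565), (6945, 6945), (6946, 5595), (6947, 8505), (6948, 5567), (6949, 8507), (6950, 5568), (6951, 5600), (6952, 8510), (6953, 8513), (6954, 5572), (6955, 8516), (6956, 5573), (6957, 6957), (6958, 5607), (6959, 6959), (6960, 8523), (6961, 8525), (6962, 8526), (6963, 5577), (6964, 5644), (6965, 5614), (6966, 5579), (6967, 5616), (6968, 8533), (6969, 5582), (6970, 5583), (6971, 5649), (6972, 5621), (6973, 5651), (6974, 8542), (6975, 5624)]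
    ⟨e3 q6912 (flp_h L170854) q8404, e3 q6913 L118154 q6913, e3 q6914 L171307 q8460, e3 q6915 (flp_h L170876) q8407, e3 q6916 L171323 q8462, e3 q6917 L171348 q8464, e3 q6918 (flp_h L118188) q5548, e3 q6919 L171402 q8468, e3 q6920 (flp_h L118214) q5549, e3 q6921 L118233 q6921, e3 q6922 L118242 q5571, e3 q6923 L171439 q8471, e3 q6924 L171456 q8473, e3 q6925 (flp_h L118261) q5552, e3 q6926 L118275 q6926, e3 q6927 L118283 q6927, e3 q6928 L171515 q8480, e3 q6929 (flp_h L118293) q5554, e3 q6930 L171542 q8482, e3 q6931 (flp_h L118309) q5555, e3 q6932 L118326 q6932, e3 q6933 L171569 q8485, e3 q6934 L171576 q8486, e3 q6935 (flp_h L118345) q5559, e3 q6936 L118360 q5634, e3 q6937 L118370 q6937, e3 q6938 (flp_h L118371) q5561, e3 q6939 L118388 q6939, e3 q6940 L171650 q8494, e3 q6941 (flp_h L118398) q5564, e3 q6942 L171696 q8497, e3 q6943 L171717 q8499, e3 q6944 (flp_h L118426) q5565, e3 q6945 L118440 q6945, e3 q6946 L118450 q5595, e3 q6947 L171782 q8505, e3 q6948 (flp_h L118463) q5567, e3 q6949 L171813 q8507, e3 q6950 (flp_h L118483)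 q5568, e3 q6951 L118498 q5600, e3 q6952 L171839 q8510, e3 q6953 L171864 q8513, e3 q6954 (flp_h L118518) q5572, e3 q6955 L171888 q8516, e3 q6956 (flp_h L118535) q5573, e3 q6957 L118546 q6957, e3 q6958 L118554 q5607, e3 q6959 L118559 q6959, e3 q6960 L171932 q8523, e3 q6961 L171948 q8525, e3 q6962 L171956 q8526, e3 q6963 (flp_h L118588) q5577, e3 q6964 L118603 q5644, e3 q6965 L118614 q5614, e3 q6966 (flp_h L118616) q5579, e3 q6967 L118629 q5616, e3 q6968 L172018 q8533, e3 q6969 (flp_h L118640) q5582, e3 q6970 (flp_h L118647) q5583, e3 q6971 L118660 q5649, e3 q6972 L118669 q5621, e3 q6973 L118677 q5651, e3 q6974 L172090 q8542, e3 q6975 L118693 q5624, trivial⟩ (by decide +kernel)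

theorem ce_h_109 : ∀ r, r < 64 → sm gh (Qf (6976 + r)) = Qf (tab Gen.h (6976 + r)) :=
  edges_tab (sm gh) Qf (tab Gen.h) 6976 [(6976, 8545), (6977, 8547), (6978, 5589), (6979, 8495), (6980, 8550), (6981, 8553), (6982, 5591), (6983, 8556), (6984, 5592), (6985, 6985), (6986, 8501), (6987, 8561), (6988, 8563), (6989, 8564), (6990, 5596), (6991, 5660), (6992, 8506), (6993, 5598), (6994, 8508), (6995, 8572), (6996, 5601), (6997, 8576), (6998, 8577), (6999, 5602), (7000, 8573), (7001, 8515), (7002, 5604), (7003, 7003), (7004, 8518), (7005, 7005), (7006, 8589), (7007, 7007), (7008, 8592), (7009, 5609), (7010, 8594), (7011, 5610), (7012, 5611), (7013, 5672), (7014, 8528), (7015, 5674), (7016, 8603), (7017, 8531), (7018, 8604), (7019, 5617), (7020, 5679), (7021, 8535), (7022, 5681), (7023, 8537), (7024, 5683), (7025, 8614), (7026, 5685), (7027, 8617), (7028, 5623), (7029, 6534), (7030, 6535), (7031, 6439), (7032, 6440), (7033, 6536), (7034, 5631), (7035, 5632), (7036, 8487), (7037, 8489), (7038, 6067), (7039, 6068)]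
    ⟨e3 q6976 L172115 q8545, e3 q6977 L172132 q8547, e3 q6978 (flp_h L118709) q5589, e3 q6979 (flp_h L171672) q8495, e3 q6980 L172185 q8550, e3 q6981 L172212 q8553, e3 q6982 (flp_h L118749) q5591, e3 q6983 L172240 q8556, e3 q6984 (flp_h L118768) q5592, e3 q6985 L118784 q6985, e3 q6986 (flp_h L171742) q8501, e3 q6987 L172301 q8561, e3 q6988 L172317 q8563, e3 q6989 L172326 q8564, e3 q6990 (flp_h L118830) q5596, e3 q6991 L118848 q5660, e3 q6992 (flp_h L171811) q8506, e3 q6993 (flp_h L118860) q5598, e3 q6994 (flp_h L171828) q8508, e3 q6995 L172401 q8572, e3 q6996 (flp_h L118884) q5601, e3 q6997 L172429 q8576, e3 q6998 L172437 q8577, e3 q6999 (flp_h L118905) q5602, e3 q7000 (flp_h L172413) q8573, e3 q7001 (flp_h L171886) q8515, e3 q7002 (flp_h L118927) q5604, e3 q7003 L118939 q7003, e3 q7004 (flp_h L171906) q8518, e3 q7005 L118950 q7005, e3 q7006 L172517 q8589, e3 q7007 L118965 q7007, e3 q7008 L172538 q8592, e3 q7009 (flp_h L118974) q5609, e3 q7010 L172554 q8594, e3 q7011 (flp_h L118987) q5610, e3 q7012 (flp_h L118995) q5611, e3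 q7013 L119011 q5672, e3 q7014 (flp_h L171981) q8528, e3 q7015 L119027 q5674, e3 q7016 L172633 q8603, e3 q7017 (flp_h L172006) q8531, e3 q7018 L172643 q8604, e3 q7019 (flp_h L119055) q5617, e3 q7020 L119069 q5679, e3 q7021 (flp_h L172041) q8535, e3 q7022 L119085 q5681, e3 q7023 (flp_h L172059) q8537, e3 q7024 L119101 q5683, e3 q7025 L172726 q8614, e3 q7026 L119117 q5685, e3 q7027 L172751 q8617, e3 q7028 (flp_h L119128) q5623, e3 q7029 (flp_h L561216) q6534, e3 q7030 (flp_h L561193) q6535, e3 q7031 L543914 q6439, e3 q7032 (flp_h L512026) q6440, e3 q7033 L616704 q6536, e3 q7034 (flp_h L119610) q5631, e3 q7035 (flp_h L119617) q5632, e3 q7036 (flp_h L171592) q8487, e3 q7037 (flp_h L171610) q8489, e3 q7038 L546307 q6067, e3 q7039 (flp_h L562881) q6068, trivial⟩ (by decide +kernel)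

theorem ce_h_110 : ∀ r, r < 64 → sm gh (Qf (7040 + r)) = Qf (tab Gen.h (7040 + r)) :=
  edges_tab (sm gh) Qf (tab Gen.h) 7040 [(7040, 8625), (7041, 5638), (7042, 6063), (7043, 6064), (7044, 8629), (7045, 5641), (7046, 5642), (7047, 8527), (7048, 8529), (7049, 8634), (7050, 5646), (7051, 8534), (7052, 5680), (7053, 8536), (7054, 5682), (7055, 8538), (7056, 8644), (7057, 8540), (7058, 8647), (7059, 5652), (7060, 8650), (7061, 5654), (7062, 6107), (7063, 6109), (7064, 8654), (7065, 5657), (7066, 5658), (7067, 8565), (7068, 8567), (7069, 8661), (7070, 8662), (7071, 5662), (7072, 5667), (7073, 8626), (7074, 8668), (7075, 5664), (7076, 5665), (7077, 8663), (7078, 8665), (7079, 8673), (7080, 5669), (7081, 8595), (7082, 6087), (7083, 8597), (7084, 6088), (7085, 8599), (7086, 8683), (7087, 8601), (7088, 8686), (7089, 5675), (7090, 5677), (7091, 8605), (7092, 8636), (7093, 8607), (7094, 8608), (7095, 8696), (7096, 8610), (7097, 8699), (7098, 8612), (7099, 8702), (7100, 5684), (7101, 8615), (7102, 8704), (7103, 5686)]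
    ⟨e3 q7040 L173881 q8625, e3 q7041 (flp_h L119879) q5638, e3 q7042 (flp_h L546778) q6063, e3 q7043 (flp_h L562888) q6064, e3 q7044 L174060 q8629, e3 q7045 (flp_h L120005) q5641, e3 q7046 (flp_h L120014) q5642, e3 q7047 (flp_h L171971) q8527, e3 q7048 (flp_h L171988) q8529, e3 q7049 L174141 q8634, e3 q7050 (flp_h L120073) q5646, e3 q7051 (flp_h L172032) q8534, e3 q7052 L120098 q5680, e3 q7053 (flp_h L172049) q8536, e3 q7054 L120115 q5682, e3 q7055 (flp_h L172066) q8538, e3 q7056 L174220 q8644, e3 q7057 (flp_h L172080) q8540, e3 q7058 L174242 q8647, e3 q7059 (flp_h L120145) q5652, e3 q7060 L174412 q8650, e3 q7061 (flp_h L120243) q5654, e3 q7062 (flp_h L563084) q6107, e3 q7063 L562988 q6109, e3 q7064 L174574 q8654, e3 q7065 (flp_h L120360) q5657, e3 q7066 (flp_h L120370) q5658, e3 q7067 (flp_h L172344) q8565, e3 q7068 (flp_h L172363) q8567, e3 q7069 L174679 q8661, e3 q7070 L174686 q8662, e3 q7071 (flp_h L120440) q5662, e3 q7072 L120452 q5667, e3 q7073 (flp_h L173902) q8626, e3 q7074 L174738 q8668, e3 q7075 (flp_h L120469)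 q5664, e3 q7076 (flp_h L120479) q5665, e3 q7077 (flp_h L174698) q8663, e3 q7078 (flp_h L174711) q8665, e3 q7079 L174890 q8673, e3 q7080 (flp_h L120583) q5669, e3 q7081 (flp_h L172570) q8595, e3 q7082 (flp_h L562538) q6087, e3 q7083 (flp_h L172588) q8597, e3 q7084 L563189 q6088, e3 q7085 (flp_h L172604) q8599, e3 q7086 L174971 q8683, e3 q7087 (flp_h L172621) q8601, e3 q7088 L174996 q8686, e3 q7089 (flp_h L120656) q5675, e3 q7090 (flp_h L120664) q5677, e3 q7091 (flp_h L172658) q8605, e3 q7092 (flp_h L174167) q8636, e3 q7093 (flp_h L172674) q8607, e3 q7094 (flp_h L172681) q8608, e3 q7095 L175080 q8696, e3 q7096 (flp_h L172700) q8610, e3 q7097 L175104 q8699, e3 q7098 (flp_h L172716) q8612, e3 q7099 L175126 q8702, e3 q7100 (flp_h L120746) q5684, e3 q7101 (flp_h L172740) q8615, e3 q7102 L175144 q8704, e3 q7103 (flp_h L120769) q5686, trivial⟩ (by decide +kernel)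

theorem ce_h_111 : ∀ r, r < 64 → sm gh (Qf (7104 + r)) = Qf (tab Gen.h (7104 + r)) :=
  edges_tab (sm gh) Qf (tab Gen.h) 7104 [(7104, 8062), (7105, 6504), (7106, 8061), (7107, 7107), (7108, 8060), (7109, 8708), (7110, 5698), (7111, 8056), (7112, 5700), (7113, 8710), (7114, 8076), (7115, 5708), (7116, 6476), (7117, 8078), (7118, 5723), (7119, 8074), (7120, 7120), (7121, 8073), (7122, 8716), (7123, 8717), (7124, 5717), (7125, 8712), (7126, 8720), (7127, 5720), (7128, 5721), (7129, 8069), (7130, 7130), (7131, 8724), (7132, 5732), (7133, 8726), (7134, 8096), (7135, 5733), (7136, 5747), (7137, 6486), (7138, 8099), (7139, 5736), (7140, 5753), (7141, 8092), (7142, 8093), (7143, 7143), (7144, 8090), (7145, 8091), (7146, 8735), (7147, 5744), (7148, 8738), (7149, 5745), (7150, 8727), (7151, 8741), (7152, 8742), (7153, 5749), (7154, 5821), (7155, 8729), (7156, 5751), (7157, 8087), (7158, 5754), (7159, 7159), (7160, 8750), (7161, 5758), (7162, 8753), (7163, 8755), (7164, 5759), (7165, 5776), (7166, 6477), (7167, 8135)]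
    ⟨e3 q7104 (flp_h L641538) q8062, e3 q7105 (flp_h L593711) q6504, e3 q7106 (flp_h L634156) q8061, e3 q7107 L120967 q7107, e3 q7108 (flp_h L642081) q8060, e3 q7109 L175483 q8708, e3 q7110 (flp_h L120984) q5698, e3 q7111 (flp_h L643333) q8056, e3 q7112 (flp_h L121016) q5700, e3 q7113 L175774 q8710, e3 q7114 (flp_h L644948) q8076, e3 q7115 (flp_h L121204) q5708, e3 q7116 (flp_h L592827) q6476, e3 q7117 (flp_h L644389) q8078, e3 q7118 L121252 q5723, e3 q7119 (flp_h L644966) q8074, e3 q7120 L121299 q7120, e3 q7121 (flp_h L645004) q8073, e3 q7122 L175989 q8716, e3 q7123 L176005 q8717, e3 q7124 (flp_h L121330) q5717, e3 q7125 (flp_h L175813) q8712, e3 q7126 L176037 q8720, e3 q7127 (flp_h L121365) q5720, e3 q7128 (flp_h L121381) q5721, e3 q7129 (flp_h L636412) q8069, e3 q7130 L121541 q7130, e3 q7131 L176394 q8724, e3 q7132 (flp_h L121598) q5732, e3 q7133 L176425 q8726, e3 q7134 L644599 q8096, e3 q7135 (flp_h L121621) q5733, e3 q7136 L121632 q5747, e3 q7137 L592895 q6486, e3 q7138 (flp_h L644500) q8099, e3 q7139 (flp_h L121655)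 q5736, e3 q7140 L121683 q5753, e3 q7141 (flp_h L645151) q8092, e3 q7142 L644629 q8093, e3 q7143 L121747 q7143, e3 q7144 L645163 q8090, e3 q7145 L644646 q8091, e3 q7146 L176686 q8735, e3 q7147 (flp_h L121789) q5744, e3 q7148 L176707 q8738, e3 q7149 (flp_h L121802) q5745, e3 q7150 (flp_h L176453) q8727, e3 q7151 L176732 q8741, e3 q7152 L176739 q8742, e3 q7153 (flp_h L121832) q5749, e3 q7154 L121844 q5821, e3 q7155 (flp_h L176493) q8729, e3 q7156 (flp_h L121852) q5751, e3 q7157 L644538 q8087, e3 q7158 (flp_h L121945) q5754, e3 q7159 L121965 q7159, e3 q7160 L177045 q8750, e3 q7161 (flp_h L122029) q5758, e3 q7162 L177083 q8753, e3 q7163 L177102 q8755, e3 q7164 (flp_h L122055) q5759, e3 q7165 L122070 q5776, e3 q7166 L593620 q6477, e3 q7167 (flp_h L644195) q8135, trivial⟩ (by decide +kernel)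

theorem ce_h_112 : ∀ r, r < 64 → sm gh (Qf (7168 + r)) = Qf (tab Gen.h (7168 + r)) :=
  edges_tab (sm gh) Qf (tab Gen.h) 7168 [(7168, 5762), (7169, 8025), (7170, 5763), (7171, 5782), (7172, 8760), (7173, 8763), (7174, 5767), (7175, 8767), (7176, 8769), (7177, 5768), (7178, 6146), (7179, 7179), (7180, 8773), (7181, 8774), (7182, 5771), (7183, 6328), (7184, 8751), (7185, 8781), (7186, 5773), (7187, 8784), (7188, 5774), (7189, 8756), (7190, 8786), (7191, 8787), (7192, 5778), (7193, 8721), (7194, 8757), (7195, 5780), (7196, 8758), (7197, 5783), (7198, 5784), (7199, 7199), (7200, 8797), (7201, 8799), (7202, 5788), (7203, 5812), (7204, 8803), (7205, 5790), (7206, 8806), (7207, 5791), (7208, 5817), (7209, 8809), (7210, 8187), (7211, 5795), (7212, 8133), (7213, 5822), (7214, 5797), (7215, 5824), (7216, 8815), (7217, 5800), (7218, 8819), (7219, 8821), (7220, 5801), (7221, 5923), (7222, 5966), (7223, 8827), (7224, 5803), (7225, 8830), (7226, 5804), (7227, 6186), (7228, 8833), (7229, 8836), (7230, 5808), (7231, 8839)]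
    ⟨e3 q7168 (flp_h L122092) q5762, e3 q7169 (flp_h L636849) q8025, e3 q7170 (flp_h L122113) q5763, e3 q7171 L122130 q5782, e3 q7172 L177194 q8760, e3 q7173 L177221 q8763, e3 q7174 (flp_h L122152) q5767, e3 q7175 L177257 q8767, e3 q7176 L177276 q8769, e3 q7177 (flp_h L122176) q5768, e3 q7178 (flp_h L574867) q6146, e3 q7179 L122203 q7179, e3 q7180 L177311 q8773, e3 q7181 L177332 q8774, e3 q7182 (flp_h L122223) q5771, e3 q7183 L122241 q6328, e3 q7184 (flp_h L177073) q8751, e3 q7185 L177395 q8781, e3 q7186 (flp_h L122258) q5773, e3 q7187 L177418 q8784, e3 q7188 (flp_h L122275) q5774, e3 q7189 (flp_h L177117) q8756, e3 q7190 L177444 q8786, e3 q7191 L177452 q8787, e3 q7192 (flp_h L122307) q5778, e3 q7193 (flp_h L176051) q8721, e3 q7194 (flp_h L177161) q8757, e3 q7195 (flp_h L122331) q5780, e3 q7196 (flp_h L177181) q8758, e3 q7197 (flp_h L122458) q5783, e3 q7198 (flp_h L122474) q5784, e3 q7199 L122492 q7199, e3 q7200 L177853 q8797, e3 q7201 L177873 q8799, e3 q7202 (flp_h L122587) q5788, e3 q7203 L122611 q5812, e3 q7204 L177933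 q8803, e3 q7205 (flp_h L122621) q5790, e3 q7206 L177953 q8806, e3 q7207 (flp_h L122637) q5791, e3 q7208 L122651 q5817, e3 q7209 L177982 q8809, e3 q7210 L644451 q8187, e3 q7211 (flp_h L122671) q5795, e3 q7212 (flp_h L644305) q8133, e3 q7213 L122690 q5822, e3 q7214 (flp_h L122692) q5797, e3 q7215 L122710 q5824, e3 q7216 L178055 q8815, e3 q7217 (flp_h L122721) q5800, e3 q7218 L178097 q8819, e3 q7219 L178115 q8821, e3 q7220 (flp_h L122746) q5801, e3 q7221 L474279 q5923, e3 q7222 (flp_h L553900) q5966, e3 q7223 L178174 q8827, e3 q7224 (flp_h L122778) q5803, e3 q7225 L178196 q8830, e3 q7226 (flp_h L122794) q5804, e3 q7227 (flp_h L483351) q6186, e3 q7228 L178224 q8833, e3 q7229 L178246 q8836, e3 q7230 (flp_h L122826) q5808, e3 q7231 L178268 q8839, trivial⟩ (by decide +kernel)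

theorem ce_h_113 : ∀ r, r < 64 → sm gh (Qf (7232 + r)) = Qf (tab Gen.h (7232 + r)) :=
  edges_tab (sm gh) Qf (tab Gen.h) 7232 [(7232, 5809), (7233, 6345), (7234, 8800), (7235, 6346), (7236, 8816), (7237, 8847), (7238, 8848), (7239, 5813), (7240, 8736), (7241, 8805), (7242, 5815), (7243, 8807), (7244, 8855), (7245, 5818), (7246, 5819), (7247, 8743), (7248, 8810), (7249, 8745), (7250, 8864), (7251, 8812), (7252, 5825), (7253, 7253), (7254, 7254), (7255, 5827), (7256, 7256), (7257, 8871), (7258, 8874), (7259, 5830), (7260, 8877), (7261, 5831), (7262, 5864), (7263, 8880), (7264, 8881), (7265, 5834), (7266, 7266), (7267, 5871), (7268, 5836), (7269, 5873), (7270, 8888), (7271, 5839), (7272, 5840), (7273, 7273), (7274, 5878), (7275, 7275), (7276, 8897), (7277, 5881), (7278, 8900), (7279, 8902), (7280, 5846), (7281, 5866), (7282, 8905), (7283, 8908), (7284, 5848), (7285, 8911), (7286, 5849), (7287, 5982), (7288, 6041), (7289, 5999), (7290, 8917), (7291, 8918), (7292, 5853), (7293, 7293), (7294, 6236), (7295, 5855)]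
    ⟨e3 q7232 (flp_h L122844) q5809, e3 q7233 L122861 q6345, e3 q7234 (flp_h L177899) q8800, e3 q7235 L122878 q6346, e3 q7236 (flp_h L553857) q8816, e3 q7237 L178348 q8847, e3 q7238 L178356 q8848, e3 q7239 (flp_h L122901) q5813, e3 q7240 (flp_h L176699) q8736, e3 q7241 (flp_h L177951) q8805, e3 q7242 (flp_h L122920) q5815, e3 q7243 (flp_h L177969) q8807, e3 q7244 L178405 q8855, e3 q7245 (flp_h L122947) q5818, e3 q7246 (flp_h L122956) q5819, e3 q7247 (flp_h L176753) q8743, e3 q7248 (flp_h L178014) q8810, e3 q7249 (flp_h L176767) q8745, e3 q7250 L178474 q8864, e3 q7251 (flp_h L178035) q8812, e3 q7252 (flp_h L123176) q5825, e3 q7253 L123191 q7253, e3 q7254 L123200 q7254, e3 q7255 (flp_h L123201) q5827, e3 q7256 L123218 q7256, e3 q7257 L179000 q8871, e3 q7258 L179027 q8874, e3 q7259 (flp_h L123348) q5830, e3 q7260 L179053 q8877, e3 q7261 (flp_h L123368) q5831, e3 q7262 L123394 q5864, e3 q7263 L179128 q8880, e3 q7264 L179134 q8881, e3 q7265 (flp_h L123427) q5834, e3 q7266 L123440 q7266, e3 q7267 L123448 q5871, e3 q7268 (flp_h L123450)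 q5836, e3 q7269 L123463 q5873, e3 q7270 L179189 q8888, e3 q7271 (flp_h L123475) q5839, e3 q7272 (flp_h L123482) q5840, e3 q7273 L123497 q7273, e3 q7274 L123507 q5878, e3 q7275 L123513 q7275, e3 q7276 L179261 q8897, e3 q7277 L123530 q5881, e3 q7278 L179286 q8900, e3 q7279 L179306 q8902, e3 q7280 (flp_h L123549) q5846, e3 q7281 (flp_h L553917) q5866, e3 q7282 L179372 q8905, e3 q7283 L179395 q8908, e3 q7284 (flp_h L123592) q5848, e3 q7285 L179419 q8911, e3 q7286 (flp_h L123610) q5849, e3 q7287 (flp_h L590851) q5982, e3 q7288 (flp_h L502830) q6041, e3 q7289 L553704 q5999, e3 q7290 L179495 q8917, e3 q7291 L179502 q8918, e3 q7292 (flp_h L123668) q5853, e3 q7293 L123684 q7293, e3 q7294 L568013 q6236, e3 q7295 (flp_h L123693) q5855, trivial⟩ (by decide +kernel)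

theorem ce_h_114 : ∀ r, r < 64 → sm gh (Qf (7296 + r)) = Qf (tab Gen.h (7296 + r)) :=
  edges_tab (sm gh) Qf (tab Gen.h) 7296 [(7296, 6234), (7297, 8926), (7298, 5858), (7299, 8930), (7300, 8931), (7301, 5859), (7302, 8927), (7303, 8876), (7304, 5861), (7305, 6371), (7306, 8878), (7307, 6372), (7308, 8903), (7309, 6373), (7310, 8219), (7311, 8946), (7312, 5867), (7313, 5868), (7314, 7314), (7315, 8883), (7316, 7316), (7317, 8955), (7318, 8886), (7319, 8956), (7320, 5874), (7321, 7321), (7322, 8890), (7323, 7323), (7324, 8892), (7325, 7325), (7326, 8966), (7327, 7327), (7328, 8969), (7329, 5880), (7330, 8764), (7331, 8973), (7332, 5882), (7333, 8976), (7334, 8978), (7335, 5883), (7336, 5904), (7337, 7337), (7338, 8982), (7339, 8984), (7340, 5886), (7341, 5898), (7342, 5910), (7343, 8990), (7344, 5888), (7345, 8993), (7346, 5889), (7347, 5915), (7348, 8790), (7349, 8189), (7350, 5893), (7351, 7351), (7352, 5920), (7353, 5895), (7354, 5922), (7355, 8985), (7356, 9002), (7357, 9004), (7358, 5899), (7359, 8974)]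
    ⟨e3 q7296 (flp_h L568162) q6234, e3 q7297 L179572 q8926, e3 q7298 (flp_h L123719) q5858, e3 q7299 L179604 q8930, e3 q7300 L179612 q8931, e3 q7301 (flp_h L123742) q5859, e3 q7302 (flp_h L179586) q8927, e3 q7303 (flp_h L179051) q8876, e3 q7304 (flp_h L123766) q5861, e3 q7305 L123782 q6371, e3 q7306 (flp_h L179078) q8878, e3 q7307 L123798 q6372, e3 q7308 (flp_h L553957) q8903, e3 q7309 L123816 q6373, e3 q7310 L552006 q8219, e3 q7311 L179754 q8946, e3 q7312 (flp_h L123841) q5867, e3 q7313 (flp_h L123847) q5868, e3 q7314 L123863 q7314, e3 q7315 (flp_h L179158) q8883, e3 q7316 L123876 q7316, e3 q7317 L179821 q8955, e3 q7318 (flp_h L179178) q8886, e3 q7319 L179828 q8956, e3 q7320 (flp_h L123900) q5874, e3 q7321 L123914 q7321, e3 q7322 (flp_h L179211) q8890, e3 q7323 L123929 q7323, e3 q7324 (flp_h L179230) q8892, e3 q7325 L123946 q7325, e3 q7326 L179910 q8966, e3 q7327 L123963 q7327, e3 q7328 L179933 q8969, e3 q7329 (flp_h L123973) q5880, e3 q7330 L576272 q8764, e3 q7331 L179981 q8973, e3 q7332 (flp_h L124001) q5882, e3 q7333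 L180022 q8976, e3 q7334 L180043 q8978, e3 q7335 (flp_h L124030) q5883, e3 q7336 L124049 q5904, e3 q7337 L124060 q7337, e3 q7338 L180081 q8982, e3 q7339 L180100 q8984, e3 q7340 (flp_h L124082) q5886, e3 q7341 (flp_h L576310) q5898, e3 q7342 L124105 q5910, e3 q7343 L180161 q8990, e3 q7344 (flp_h L124116) q5888, e3 q7345 L180187 q8993, e3 q7346 (flp_h L124135) q5889, e3 q7347 L124152 q5915, e3 q7348 (flp_h L641314) q8790, e3 q7349 (flp_h L641306) q8189, e3 q7350 (flp_h L124171) q5893, e3 q7351 L124184 q7351, e3 q7352 L124192 q5920, e3 q7353 (flp_h L124194) q5895, e3 q7354 L124210 q5922, e3 q7355 L591235 q8985, e3 q7356 L180331 q9002, e3 q7357 L180352 q9004, e3 q7358 (flp_h L124246) q5899, e3 q7359 (flp_h L180010) q8974, trivial⟩ (by decide +kernel)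

theorem ce_h_115 : ∀ r, r < 64 → sm gh (Qf (7360 + r)) = Qf (tab Gen.h (7360 + r)) :=
  edges_tab (sm gh) Qf (tab Gen.h) 7360 [(7360, 9008), (7361, 5901), (7362, 9011), (7363, 5902), (7364, 8979), (7365, 9014), (7366, 9017), (7367, 5906), (7368, 9020), (7369, 5907), (7370, 6388), (7371, 8986), (7372, 6389), (7373, 8765), (7374, 9028), (7375, 9029), (7376, 5911), (7377, 7377), (7378, 8992), (7379, 5913), (7380, 8994), (7381, 9036), (7382, 5916), (7383, 5917), (7384, 7384), (7385, 8995), (7386, 7386), (7387, 9045), (7388, 8997), (7389, 8822), (7390, 9050), (7391, 9052), (7392, 5924), (7393, 5952), (7394, 9056), (7395, 5926), (7396, 9059), (7397, 5927), (7398, 5957), (7399, 9062), (7400, 9065), (7401, 5931), (7402, 9068), (7403, 5932), (7404, 5948), (7405, 5964), (7406, 8824), (7407, 9074), (7408, 9075), (7409, 5936), (7410, 7410), (7411, 5971), (7412, 5938), (7413, 5973), (7414, 9082), (7415, 5941), (7416, 5942), (7417, 7417), (7418, 5978), (7419, 7419), (7420, 9089), (7421, 5981), (7422, 9071), (7423, 9069)]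
    ⟨e3 q7360 L180422 q9008, e3 q7361 (flp_h L124284) q5901, e3 q7362 L180450 q9011, e3 q7363 (flp_h L124303) q5902, e3 q7364 (flp_h L180062) q8979, e3 q7365 L180479 q9014, e3 q7366 L180499 q9017, e3 q7367 (flp_h L124337) q5906, e3 q7368 L180519 q9020, e3 q7369 (flp_h L124354) q5907, e3 q7370 L124369 q6388, e3 q7371 (flp_h L180124) q8986, e3 q7372 L124386 q6389, e3 q7373 (flp_h L591696) q8765, e3 q7374 L180596 q9028, e3 q7375 L180603 q9029, e3 q7376 (flp_h L124412) q5911, e3 q7377 L124428 q7377, e3 q7378 (flp_h L180185) q8992, e3 q7379 (flp_h L124437) q5913, e3 q7380 (flp_h L180205) q8994, e3 q7381 L180665 q9036, e3 q7382 (flp_h L124464) q5916, e3 q7383 (flp_h L124470) q5917, e3 q7384 L124486 q7384, e3 q7385 (flp_h L180245) q8995, e3 q7386 L124501 q7386, e3 q7387 L180737 q9045, e3 q7388 (flp_h L180271) q8997, e3 q7389 L576488 q8822, e3 q7390 L180806 q9050, e3 q7391 L180826 q9052, e3 q7392 (flp_h L124557) q5924, e3 q7393 L124582 q5952, e3 q7394 L180893 q9056, e3 q7395 (flp_h L124594) q5926, e3 q7396 L180918 q9059, e3 q7397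 (flp_h L124612) q5927, e3 q7398 L124630 q5957, e3 q7399 L180949 q9062, e3 q7400 L180970 q9065, e3 q7401 (flp_h L124647) q5931, e3 q7402 L180988 q9068, e3 q7403 (flp_h L124663) q5932, e3 q7404 (flp_h L474206) q5948, e3 q7405 L124684 q5964, e3 q7406 L601506 q8824, e3 q7407 L181059 q9074, e3 q7408 L181067 q9075, e3 q7409 (flp_h L124718) q5936, e3 q7410 L124731 q7410, e3 q7411 L124738 q5971, e3 q7412 (flp_h L124740) q5938, e3 q7413 L124758 q5973, e3 q7414 L181123 q9082, e3 q7415 (flp_h L124770) q5941, e3 q7416 (flp_h L124777) q5942, e3 q7417 L124790 q7417, e3 q7418 L124798 q5978, e3 q7419 L124804 q7419, e3 q7420 L181188 q9089, e3 q7421 L124819 q5981, e3 q7422 (flp_h L576370) q9071, e3 q7423 L591452 q9069, trivial⟩ (by decide +kernel)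

theorem ce_h_116 : ∀ r, r < 64 → sm gh (Qf (7424 + r)) = Qf (tab Gen.h (7424 + r)) :=
  edges_tab (sm gh) Qf (tab Gen.h) 7424 [(7424, 9094), (7425, 9097), (7426, 5949), (7427, 9100), (7428, 5950), (7429, 9053), (7430, 9103), (7431, 9104), (7432, 5953), (7433, 7433), (7434, 9058), (7435, 5955), (7436, 9060), (7437, 9112), (7438, 5958), (7439, 9116), (7440, 9117), (7441, 5959), (7442, 9113), (7443, 9067), (7444, 5961), (7445, 6405), (7446, 9070), (7447, 6406), (7448, 8823), (7449, 6407), (7450, 8162), (7451, 9132), (7452, 5967), (7453, 5968), (7454, 7454), (7455, 9077), (7456, 7456), (7457, 9141), (7458, 9080), (7459, 9142), (7460, 5974), (7461, 7461), (7462, 9084), (7463, 7463), (7464, 9085), (7465, 7465), (7466, 9152), (7467, 7467), (7468, 9155), (7469, 5980), (7470, 8914), (7471, 8912), (7472, 9160), (7473, 5983), (7474, 9163), (7475, 5984), (7476, 6022), (7477, 9166), (7478, 9167), (7479, 5987), (7480, 6027), (7481, 5989), (7482, 6029), (7483, 9172), (7484, 5992), (7485, 9176), (7486, 9177), (7487, 5993)]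
    ⟨e3 q7424 L181282 q9094, e3 q7425 L181305 q9097, e3 q7426 (flp_h L124872) q5949, e3 q7427 L181327 q9100, e3 q7428 (flp_h L124890) q5950, e3 q7429 (flp_h L180853) q9053, e3 q7430 L181415 q9103, e3 q7431 L181424 q9104, e3 q7432 (flp_h L124954) q5953, e3 q7433 L124970 q7433, e3 q7434 (flp_h L180916) q9058, e3 q7435 (flp_h L124978) q5955, e3 q7436 (flp_h L180938) q9060, e3 q7437 L181491 q9112, e3 q7438 (flp_h L125007) q5958, e3 q7439 L181515 q9116, e3 q7440 L181523 q9117, e3 q7441 (flp_h L125024) q5959, e3 q7442 (flp_h L181500) q9113, e3 q7443 (flp_h L180986) q9067, e3 q7444 (flp_h L125040) q5961, e3 q7445 L125056 q6405, e3 q7446 (flp_h L181013) q9070, e3 q7447 L125070 q6406, e3 q7448 (flp_h L591875) q8823, e3 q7449 L125084 q6407, e3 q7450 L574873 q8162, e3 q7451 L181644 q9132, e3 q7452 (flp_h L125111) q5967, e3 q7453 (flp_h L125119) q5968, e3 q7454 L125135 q7454, e3 q7455 (flp_h L181091) q9077, e3 q7456 L125148 q7456, e3 q7457 L181716 q9141, e3 q7458 (flp_h L181113) q9080, e3 q7459 L181723 q9142, e3 q7460 (flp_h L125173)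 q5974, e3 q7461 L125187 q7461, e3 q7462 (flp_h L181145) q9084, e3 q7463 L125202 q7463, e3 q7464 (flp_h L181161) q9085, e3 q7465 L125217 q7465, e3 q7466 L181801 q9152, e3 q7467 L125231 q7467, e3 q7468 L181821 q9155, e3 q7469 (flp_h L125239) q5980, e3 q7470 L554379 q8914, e3 q7471 L576497 q8912, e3 q7472 L181952 q9160, e3 q7473 (flp_h L125306) q5983, e3 q7474 L181978 q9163, e3 q7475 (flp_h L125326) q5984, e3 q7476 L125353 q6022, e3 q7477 L182061 q9166, e3 q7478 L182068 q9167, e3 q7479 (flp_h L125392) q5987, e3 q7480 L125418 q6027, e3 q7481 (flp_h L125420) q5989, e3 q7482 L125437 q6029, e3 q7483 L182146 q9172, e3 q7484 (flp_h L125449) q5992, e3 q7485 L182176 q9176, e3 q7486 L182182 q9177, e3 q7487 (flp_h L125471) q5993, trivial⟩ (by decide +kernel)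

theorem ce_h_117 : ∀ r, r < 64 → sm gh (Qf (7488 + r)) = Qf (tab Gen.h (7488 + r)) :=
  edges_tab (sm gh) Qf (tab Gen.h) 7488 [(7488, 9173), (7489, 6036), (7490, 5995), (7491, 6016), (7492, 6039), (7493, 6015), (7494, 8915), (7495, 9189), (7496, 6000), (7497, 6001), (7498, 6072), (7499, 6048), (7500, 6073), (7501, 8651), (7502, 6051), (7503, 9198), (7504, 6007), (7505, 6076), (7506, 6055), (7507, 6078), (7508, 6057), (7509, 6080), (7510, 9208), (7511, 6082), (7512, 9211), (7513, 6013), (7514, 9213), (7515, 9185), (7516, 9183), (7517, 9218), (7518, 6017), (7519, 9222), (7520, 9223), (7521, 6018), (7522, 9219), (7523, 9162), (7524, 6020), (7525, 9164), (7526, 9230), (7527, 6023), (7528, 6024), (7529, 6092), (7530, 9168), (7531, 6093), (7532, 8666), (7533, 9169), (7534, 9241), (7535, 9242), (7536, 6030), (7537, 6035), (7538, 9174), (7539, 9249), (7540, 6032), (7541, 6033), (7542, 9243), (7543, 9179), (7544, 9245), (7545, 9246), (7546, 9262), (7547, 6433), (7548, 9184), (7549, 6434), (7550, 8913), (7551, 6435)]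
    ⟨e3 q7488 (flp_h L182157) q9173, e3 q7489 L125489 q6036, e3 q7490 (flp_h L125491) q5995, e3 q7491 (flp_h L554178) q6016, e3 q7492 L125511 q6039, e3 q7493 L553283 q6015, e3 q7494 L601463 q8915, e3 q7495 L182303 q9189, e3 q7496 (flp_h L125557) q6000, e3 q7497 (flp_h L125563) q6001, e3 q7498 L125579 q6072, e3 q7499 L125589 q6048, e3 q7500 L125595 q6073, e3 q7501 (flp_h L529737) q8651, e3 q7502 L125613 q6051, e3 q7503 L182388 q9198, e3 q7504 (flp_h L125623) q6007, e3 q7505 L125635 q6076, e3 q7506 L125642 q6055, e3 q7507 L125651 q6078, e3 q7508 L125661 q6057, e3 q7509 L125669 q6080, e3 q7510 L182465 q9208, e3 q7511 L125683 q6082, e3 q7512 L182488 q9211, e3 q7513 (flp_h L125692) q6013, e3 q7514 L182513 q9213, e3 q7515 L552203 q9185, e3 q7516 (flp_h L502607) q9183, e3 q7517 L182661 q9218, e3 q7518 (flp_h L125787) q6017, e3 q7519 L182695 q9222, e3 q7520 L182703 q9223, e3 q7521 (flp_h L125811) q6018, e3 q7522 (flp_h L182676) q9219, e3 q7523 (flp_h L181976) q9162, e3 q7524 (flp_h L125835) q6020, e3 q7525 (flp_h L182004) q9164, e3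 q7526 L182858 q9230, e3 q7527 (flp_h L125918) q6023, e3 q7528 (flp_h L125925) q6024, e3 q7529 L125944 q6092, e3 q7530 (flp_h L182097) q9168, e3 q7531 L125962 q6093, e3 q7532 (flp_h L508658) q8666, e3 q7533 (flp_h L182125) q9169, e3 q7534 L182967 q9241, e3 q7535 L182973 q9242, e3 q7536 (flp_h L125999) q6030, e3 q7537 L126010 q6035, e3 q7538 (flp_h L182166) q9174, e3 q7539 L183020 q9249, e3 q7540 (flp_h L126025) q6032, e3 q7541 (flp_h L126031) q6033, e3 q7542 (flp_h L182986) q9243, e3 q7543 (flp_h L182203) q9179, e3 q7544 (flp_h L182999) q9245, e3 q7545 (flp_h L183006) q9246, e3 q7546 L183101 q9262, e3 q7547 L126074 q6433, e3 q7548 (flp_h L182235) q9184, e3 q7549 L126089 q6434, e3 q7550 (flp_h L568023) q8913, e3 q7551 L126104 q6435, trivial⟩ (by decide +kernel)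

theorem ce_h_118 : ∀ r, r < 64 → sm gh (Qf (7552 + r)) = Qf (tab Gen.h (7552 + r)) :=
  edges_tab (sm gh) Qf (tab Gen.h) 7552 [(7552, 8910), (7553, 6436), (7554, 8226), (7555, 9271), (7556, 6044), (7557, 6106), (7558, 9191), (7559, 6108), (7560, 9193), (7561, 6110), (7562, 9281), (7563, 6112), (7564, 9284), (7565, 6050), (7566, 6052), (7567, 6116), (7568, 9200), (7569, 6118), (7570, 6119), (7571, 9294), (7572, 6121), (7573, 9297), (7574, 6123), (7575, 9300), (7576, 6059), (7577, 6126), (7578, 9302), (7579, 6061), (7580, 8627), (7581, 9307), (7582, 9308), (7583, 6065), (7584, 6098), (7585, 8622), (7586, 9311), (7587, 6069), (7588, 9190), (7589, 9192), (7590, 9194), (7591, 9196), (7592, 6074), (7593, 9199), (7594, 6117), (7595, 9201), (7596, 9202), (7597, 9327), (7598, 9204), (7599, 9330), (7600, 9206), (7601, 9333), (7602, 6081), (7603, 9209), (7604, 9335), (7605, 6083), (7606, 9339), (7607, 9340), (7608, 6085), (7609, 8530), (7610, 8675), (7611, 9343), (7612, 6089), (7613, 9231), (7614, 9233), (7615, 9235)]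
    ⟨e3 q7552 (flp_h L575870) q8910, e3 q7553 L126128 q6436, e3 q7554 (flp_h L575619) q8226, e3 q7555 L183197 q9271, e3 q7556 (flp_h L126153) q6044, e3 q7557 L126167 q6106, e3 q7558 (flp_h L182325) q9191, e3 q7559 L126184 q6108, e3 q7560 (flp_h L182346) q9193, e3 q7561 L126201 q6110, e3 q7562 L183282 q9281, e3 q7563 L126218 q6112, e3 q7564 L183310 q9284, e3 q7565 (flp_h L126229) q6050, e3 q7566 (flp_h L126238) q6052, e3 q7567 L126251 q6116, e3 q7568 (flp_h L182410) q9200, e3 q7569 L126265 q6118, e3 q7570 L126270 q6119, e3 q7571 L183389 q9294, e3 q7572 L126289 q6121, e3 q7573 L183415 q9297, e3 q7574 L126307 q6123, e3 q7575 L183442 q9300, e3 q7576 (flp_h L126318) q6059, e3 q7577 L126332 q6126, e3 q7578 L183461 q9302, e3 q7579 (flp_h L126342) q6061, e3 q7580 (flp_h L563036) q8627, e3 q7581 L183954 q9307, e3 q7582 L183959 q9308, e3 q7583 (flp_h L126673) q6065, e3 q7584 L126692 q6098, e3 q7585 (flp_h L563029) q8622, e3 q7586 L184183 q9311, e3 q7587 (flp_h L126834) q6069, e3 q7588 (flp_h L182317) q9190, e3 q7589 (flp_h L182335)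 q9192, e3 q7590 (flp_h L182353) q9194, e3 q7591 (flp_h L182368) q9196, e3 q7592 (flp_h L126911) q6074, e3 q7593 (flp_h L182401) q9199, e3 q7594 L126935 q6117, e3 q7595 (flp_h L182417) q9201, e3 q7596 (flp_h L182422) q9202, e3 q7597 L184353 q9327, e3 q7598 (flp_h L182439) q9204, e3 q7599 L184377 q9330, e3 q7600 (flp_h L182455) q9206, e3 q7601 L184401 q9333, e3 q7602 (flp_h L126987) q6081, e3 q7603 (flp_h L182479) q9209, e3 q7604 L184417 q9335, e3 q7605 (flp_h L127008) q6083, e3 q7606 L184577 q9339, e3 q7607 L184583 q9340, e3 q7608 (flp_h L127117) q6085, e3 q7609 L561977 q8530, e3 q7610 (flp_h L563178) q8675, e3 q7611 L184718 q9343, e3 q7612 (flp_h L127220) q6089, e3 q7613 (flp_h L182874) q9231, e3 q7614 (flp_h L182893) q9233, e3 q7615 (flp_h L182913) q9235, trivial⟩ (by decide +kernel)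

theorem ce_h_119 : ∀ r, r < 64 → sm gh (Qf (7616 + r)) = Qf (tab Gen.h (7616 + r)) :=
  edges_tab (sm gh) Qf (tab Gen.h) 7616 [(7616, 9237), (7617, 9351), (7618, 9353), (7619, 6094), (7620, 6095), (7621, 6102), (7622, 9309), (7623, 6103), (7624, 8568), (7625, 9362), (7626, 6099), (7627, 9354), (7628, 9356), (7629, 9358), (7630, 9360), (7631, 6104), (7632, 9272), (7633, 8652), (7634, 9274), (7635, 9275), (7636, 9378), (7637, 9277), (7638, 9381), (7639, 9279), (7640, 9384), (7641, 6111), (7642, 9282), (7643, 9386), (7644, 6113), (7645, 9285), (7646, 9319), (7647, 9287), (7648, 9288), (7649, 9291), (7650, 9290), (7651, 6120), (7652, 9295), (7653, 6122), (7654, 9298), (7655, 9391), (7656, 6124), (7657, 9393), (7658, 6127), (7659, 7659), (7660, 6129), (7661, 6130), (7662, 7662), (7663, 6133), (7664, 7664), (7665, 7665), (7666, 6135), (7667, 7667), (7668, 6139), (7669, 8119), (7670, 7670), (7671, 6141), (7672, 6481), (7673, 7673), (7674, 6482), (7675, 8770), (7676, 6483), (7677, 8121), (7678, 6147), (7679, 6148)]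
    ⟨e3 q7616 (flp_h L182931) q9237, e3 q7617 L184849 q9351, e3 q7618 L184862 q9353, e3 q7619 (flp_h L127320) q6094, e3 q7620 (flp_h L127325) q6095, e3 q7621 L127339 q6102, e3 q7622 (flp_h L183981) q9309, e3 q7623 L127352 q6103, e3 q7624 L561968 q8568, e3 q7625 L184933 q9362, e3 q7626 (flp_h L127368) q6099, e3 q7627 (flp_h L184874) q9354, e3 q7628 (flp_h L184888) q9356, e3 q7629 (flp_h L184903) q9358, e3 q7630 (flp_h L184917) q9360, e3 q7631 (flp_h L127443) q6104, e3 q7632 (flp_h L183212) q9272, e3 q7633 L489476 q8652, e3 q7634 (flp_h L183226) q9274, e3 q7635 (flp_h L183232) q9275, e3 q7636 L185106 q9378, e3 q7637 (flp_h L183251) q9277, e3 q7638 L185130 q9381, e3 q7639 (flp_h L183270) q9279, e3 q7640 L185157 q9384, e3 q7641 (flp_h L127521) q6111, e3 q7642 (flp_h L183299) q9282, e3 q7643 L185174 q9386, e3 q7644 (flp_h L127545) q6113, e3 q7645 (flp_h L183325) q9285, e3 q7646 (flp_h L184301) q9319, e3 q7647 (flp_h L183340) q9287, e3 q7648 (flp_h L183347) q9288, e3 q7649 L647068 q9291, e3 q7650 (flp_h L183364) q9290, e3 q7651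 (flp_h L127619) q6120, e3 q7652 (flp_h L183403) q9295, e3 q7653 (flp_h L127643) q6122, e3 q7654 (flp_h L183431) q9298, e3 q7655 L185338 q9391, e3 q7656 (flp_h L127668) q6124, e3 q7657 L185352 q9393, e3 q7658 (flp_h L127686) q6127, e3 q7659 L127697 q7659, e3 q7660 (flp_h L127769) q6129, e3 q7661 (flp_h L127792) q6130, e3 q7662 L127821 q7662, e3 q7663 (flp_h L127861) q6133, e3 q7664 L127878 q7664, e3 q7665 L127889 q7665, e3 q7666 (flp_h L127890) q6135, e3 q7667 L127908 q7667, e3 q7668 (flp_h L127945) q6139, e3 q7669 L642745 q8119, e3 q7670 L127970 q7670, e3 q7671 (flp_h L127971) q6141, e3 q7672 L127987 q6481, e3 q7673 L127997 q7673, e3 q7674 L128003 q6482, e3 q7675 (flp_h L591711) q8770, e3 q7676 L128020 q6483, e3 q7677 (flp_h L475802) q8121, e3 q7678 (flp_h L128049) q6147, e3 q7679 (flp_h L128057) q6148, trivial⟩ (by decide +kernel)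

theorem ce_h_120 : ∀ r, r < 64 → sm gh (Qf (7680 + r)) = Qf (tab Gen.h (7680 + r)) :=
  edges_tab (sm gh) Qf (tab Gen.h) 7680 [(7680, 7680), (7681, 7681), (7682, 7682), (7683, 9423), (7684, 7684), (7685, 6154), (7686, 7686), (7687, 7687), (7688, 7688), (7689, 7689), (7690, 7690), (7691, 9433), (7692, 7692), (7693, 9436), (7694, 6160), (7695, 6163), (7696, 8129), (7697, 7697), (7698, 6165), (7699, 7699), (7700, 6168), (7701, 6169), (7702, 7702), (7703, 7703), (7704, 7704), (7705, 9449), (7706, 7706), (7707, 6180), (7708, 7708), (7709, 6177), (7710, 6178), (7711, 8165), (7712, 7712), (7713, 9450), (7714, 9451), (7715, 9463), (7716, 6494), (7717, 7717), (7718, 6495), (7719, 8831), (7720, 6496), (7721, 8829), (7722, 6497), (7723, 8167), (7724, 6189), (7725, 7725), (7726, 7726), (7727, 7727), (7728, 7728), (7729, 7729), (7730, 9481), (7731, 7731), (7732, 9484), (7733, 6195), (7734, 6197), (7735, 7735), (7736, 7736), (7737, 7737), (7738, 7738), (7739, 9492), (7740, 7740), (7741, 9495), (7742, 7742), (7743, 9498)]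
    ⟨e3 q7680 L128073 q7680, e3 q7681 L128082 q7681, e3 q7682 L128088 q7682, e3 q7683 L185982 q9423, e3 q7684 L128107 q7684, e3 q7685 (flp_h L128118) q6154, e3 q7686 L128133 q7686, e3 q7687 L128142 q7687, e3 q7688 L128150 q7688, e3 q7689 L128161 q7689, e3 q7690 L128167 q7690, e3 q7691 L186073 q9433, e3 q7692 L128182 q7692, e3 q7693 L186096 q9436, e3 q7694 (flp_h L128192) q6160, e3 q7695 (flp_h L128330) q6163, e3 q7696 (flp_h L644026) q8129, e3 q7697 L128354 q7697, e3 q7698 (flp_h L128355) q6165, e3 q7699 L128385 q7699, e3 q7700 (flp_h L128436) q6168, e3 q7701 (flp_h L128446) q6169, e3 q7702 L128462 q7702, e3 q7703 L128472 q7703, e3 q7704 L128478 q7704, e3 q7705 L186567 q9449, e3 q7706 L128496 q7706, e3 q7707 L128527 q6180, e3 q7708 L128536 q7708, e3 q7709 (flp_h L128547) q6177, e3 q7710 (flp_h L128557) q6178, e3 q7711 L642675 q8165, e3 q7712 L128580 q7712, e3 q7713 (flp_h L186620) q9450, e3 q7714 (flp_h L186626) q9451, e3 q7715 L186738 q9463, e3 q7716 L128604 q6494, e3 q7717 L128615 q7717, e3 q7718 L128621 q6495, e3 q7719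 L568074 q8831, e3 q7720 L128635 q6496, e3 q7721 L592026 q8829, e3 q7722 L128656 q6497, e3 q7723 (flp_h L575311) q8167, e3 q7724 (flp_h L128684) q6189, e3 q7725 L128701 q7725, e3 q7726 L128711 q7726, e3 q7727 L128718 q7727, e3 q7728 L128727 q7728, e3 q7729 L128732 q7729, e3 q7730 L186914 q9481, e3 q7731 L128744 q7731, e3 q7732 L186935 q9484, e3 q7733 (flp_h L128752) q6195, e3 q7734 (flp_h L128759) q6197, e3 q7735 L128775 q7735, e3 q7736 L128786 q7736, e3 q7737 L128793 q7737, e3 q7738 L128799 q7738, e3 q7739 L187015 q9492, e3 q7740 L128815 q7740, e3 q7741 L187037 q9495, e3 q7742 L128829 q7742, e3 q7743 L187058 q9498, trivial⟩ (by decide +kernel)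

theorem ce_h_121 : ∀ r, r < 64 → sm gh (Qf (7744 + r)) = Qf (tab Gen.h (7744 + r)) :=
  edges_tab (sm gh) Qf (tab Gen.h) 7744 [(7744, 6204), (7745, 7745), (7746, 9500), (7747, 6206), (7748, 6208), (7749, 6209), (7750, 7750), (7751, 7751), (7752, 7752), (7753, 9510), (7754, 7754), (7755, 6215), (7756, 6266), (7757, 7757), (7758, 6268), (7759, 7759), (7760, 6270), (7761, 9520), (7762, 6272), (7763, 9523), (7764, 6221), (7765, 6223), (7766, 7766), (7767, 7767), (7768, 7768), (7769, 7769), (7770, 7770), (7771, 7771), (7772, 9537), (7773, 7773), (7774, 7774), (7775, 9543), (7776, 7776), (7777, 9546), (7778, 6230), (7779, 6498), (7780, 8923), (7781, 6499), (7782, 8920), (7783, 6500), (7784, 8233), (7785, 6501), (7786, 8235), (7787, 6239), (7788, 6275), (7789, 7789), (7790, 6276), (7791, 6277), (7792, 9561), (7793, 6279), (7794, 9564), (7795, 6281), (7796, 9567), (7797, 6246), (7798, 6284), (7799, 9569), (7800, 6248), (7801, 7801), (7802, 6259), (7803, 6280), (7804, 6257), (7805, 9296), (7806, 6255), (7807, 6278)]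
    ⟨e3 q7744 (flp_h L128838) q6204, e3 q7745 L128849 q7745, e3 q7746 L187073 q9500, e3 q7747 (flp_h L128857) q6206, e3 q7748 (flp_h L129019) q6208, e3 q7749 (flp_h L129028) q6209, e3 q7750 L129045 q7750, e3 q7751 L129056 q7751, e3 q7752 L129063 q7752, e3 q7753 L187436 q9510, e3 q7754 L129100 q7754, e3 q7755 (flp_h L129177) q6215, e3 q7756 L129194 q6266, e3 q7757 L129204 q7757, e3 q7758 L129213 q6268, e3 q7759 L129225 q7759, e3 q7760 L129232 q6270, e3 q7761 L187635 q9520, e3 q7762 L129247 q6272, e3 q7763 L187661 q9523, e3 q7764 (flp_h L129258) q6221, e3 q7765 (flp_h L129277) q6223, e3 q7766 L129292 q7766, e3 q7767 L129301 q7767, e3 q7768 L129308 q7768, e3 q7769 L129319 q7769, e3 q7770 L129324 q7770, e3 q7771 L129332 q7771, e3 q7772 L187782 q9537, e3 q7773 L129348 q7773, e3 q7774 L129355 q7774, e3 q7775 L187827 q9543, e3 q7776 L129370 q7776, e3 q7777 L187850 q9546, e3 q7778 (flp_h L129380) q6230, e3 q7779 L129393 q6498, e3 q7780 L568090 q8923, e3 q7781 L129406 q6499, e3 q7782 L483431 q8920, e3 q7783 L129428 q6500, e3 q7784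 L575009 q8233, e3 q7785 L129450 q6501, e3 q7786 L575142 q8235, e3 q7787 (flp_h L129475) q6239, e3 q7788 L129491 q6275, e3 q7789 L129501 q7789, e3 q7790 L129507 q6276, e3 q7791 L129514 q6277, e3 q7792 L188039 q9561, e3 q7793 L129530 q6279, e3 q7794 L188065 q9564, e3 q7795 L129545 q6281, e3 q7796 L188091 q9567, e3 q7797 (flp_h L129555) q6246, e3 q7798 L129570 q6284, e3 q7799 L188107 q9569, e3 q7800 (flp_h L129580) q6248, e3 q7801 L129605 q7801, e3 q7802 (flp_h L647335) q6259, e3 q7803 (flp_h L647574) q6280, e3 q7804 (flp_h L647356) q6257, e3 q7805 (flp_h L647349) q9296, e3 q7806 (flp_h L129663) q6255, e3 q7807 (flp_h L647427) q6278, trivial⟩ (by decide +kernel)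

theorem ce_h_122 : ∀ r, r < 64 → sm gh (Qf (7808 + r)) = Qf (tab Gen.h (7808 + r)) :=
  edges_tab (sm gh) Qf (tab Gen.h) 7808 [(7808, 6287), (7809, 9556), (7810, 9574), (7811, 6262), (7812, 9511), (7813, 9513), (7814, 9514), (7815, 9572), (7816, 9516), (7817, 9571), (7818, 9518), (7819, 9583), (7820, 6271), (7821, 9521), (7822, 9585), (7823, 6273), (7824, 9555), (7825, 9557), (7826, 9558), (7827, 9562), (7828, 9565), (7829, 6282), (7830, 9589), (7831, 6285), (7832, 7832), (7833, 6288), (7834, 7834), (7835, 9407), (7836, 6385), (7837, 6386), (7838, 6378), (7839, 6322), (7840, 9021), (7841, 8775), (7842, 8777), (7843, 9594), (7844, 6400), (7845, 6401), (7846, 6390), (7847, 6391), (7848, 9595), (7849, 6335), (7850, 6336), (7851, 9123), (7852, 6340), (7853, 8840), (7854, 8842), (7855, 8844), (7856, 9601), (7857, 6349), (7858, 6424), (7859, 6425), (7860, 9605), (7861, 6409), (7862, 6410), (7863, 9606), (7864, 6356), (7865, 6357), (7866, 9607), (7867, 6359), (7868, 7868), (7869, 9611), (7870, 9612), (7871, 6364)]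
    ⟨e3 q7808 L129703 q6287, e3 q7809 (flp_h L647763) q9556, e3 q7810 L188303 q9574, e3 q7811 (flp_h L129730) q6262, e3 q7812 (flp_h L187562) q9511, e3 q7813 (flp_h L187581) q9513, e3 q7814 (flp_h L187589) q9514, e3 q7815 L646092 q9572, e3 q7816 (flp_h L187608) q9516, e3 q7817 (flp_h L646652) q9571, e3 q7818 (flp_h L187624) q9518, e3 q7819 L188462 q9583, e3 q7820 (flp_h L129837) q6271, e3 q7821 (flp_h L187650) q9521, e3 q7822 L188480 q9585, e3 q7823 (flp_h L129861) q6273, e3 q7824 (flp_h L187989) q9555, e3 q7825 (flp_h L188014) q9557, e3 q7826 (flp_h L188023) q9558, e3 q7827 L646295 q9562, e3 q7828 (flp_h L188081) q9565, e3 q7829 (flp_h L129989) q6282, e3 q7830 L188661 q9589, e3 q7831 (flp_h L130004) q6285, e3 q7832 L130017 q7832, e3 q7833 (flp_h L130184) q6288, e3 q7834 L130501 q7834, e3 q7835 L621700 q9407, e3 q7836 L552311 q6385, e3 q7837 (flp_h L504293) q6386, e3 q7838 (flp_h L591256) q6378, e3 q7839 (flp_h L133294) q6322, e3 q7840 L607659 q9021, e3 q7841 (flp_h L177350) q8775, e3 q7842 (flp_h L177370) q8777, e3 q7843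 L194679 q9594, e3 q7844 L577788 q6400, e3 q7845 L591528 q6401, e3 q7846 L577657 q6390, e3 q7847 (flp_h L591478) q6391, e3 q7848 L195058 q9595, e3 q7849 (flp_h L134337) q6335, e3 q7850 (flp_h L134354) q6336, e3 q7851 L622246 q9123, e3 q7852 (flp_h L134468) q6340, e3 q7853 (flp_h L178287) q8840, e3 q7854 (flp_h L178304) q8842, e3 q7855 (flp_h L178320) q8844, e3 q7856 L196743 q9601, e3 q7857 (flp_h L135478) q6349, e3 q7858 L590396 q6424, e3 q7859 L590677 q6425, e3 q7860 L197144 q9605, e3 q7861 L551514 q6409, e3 q7862 L590772 q6410, e3 q7863 L197320 q9606, e3 q7864 (flp_h L135862) q6356, e3 q7865 (flp_h L135885) q6357, e3 q7866 (flp_h L197333) q9607, e3 q7867 (flp_h L135911) q6359, e3 q7868 L136029 q7868, e3 q7869 L197611 q9611, e3 q7870 L197619 q9612, e3 q7871 (flp_h L136067) q6364, trivial⟩ (by decide +kernel)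

theorem ce_h_123 : ∀ r, r < 64 → sm gh (Qf (7872 + r)) = Qf (tab Gen.h (7872 + r)) :=
  edges_tab (sm gh) Qf (tab Gen.h) 7872 [(7872, 6369), (7873, 9602), (7874, 9613), (7875, 9615), (7876, 9616), (7877, 8937), (7878, 8939), (7879, 8941), (7880, 8943), (7881, 6444), (7882, 6383), (7883, 6382), (7884, 9623), (7885, 9624), (7886, 6387), (7887, 9023), (7888, 9025), (7889, 9628), (7890, 6397), (7891, 6395), (7892, 9629), (7893, 6394), (7894, 9630), (7895, 9632), (7896, 6399), (7897, 6402), (7898, 6404), (7899, 9631), (7900, 9635), (7901, 9125), (7902, 9127), (7903, 9129), (7904, 9643), (7905, 6408), (7906, 6416), (7907, 6415), (7908, 9646), (7909, 9647), (7910, 6413), (7911, 6418), (7912, 6430), (7913, 9648), (7914, 9650), (7915, 6455), (7916, 9654), (7917, 9655), (7918, 6422), (7919, 9644), (7920, 9657), (7921, 6426), (7922, 6427), (7923, 6431), (7924, 9649), (7925, 6432), (7926, 9608), (7927, 9660), (7928, 9662), (7929, 9263), (7930, 9265), (7931, 9267), (7932, 9269), (7933, 9670), (7934, 9671), (7935, 6437)]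
    ⟨e3 q7872 L136080 q6369, e3 q7873 (flp_h L196765) q9602, e3 q7874 (flp_h L197633) q9613, e3 q7875 (flp_h L197646) q9615, e3 q7876 (flp_h L197655) q9616, e3 q7877 (flp_h L179666) q8937, e3 q7878 (flp_h L179684) q8939, e3 q7879 (flp_h L179701) q8941, e3 q7880 (flp_h L179728) q8943, e3 q7881 (flp_h L533135) q6444, e3 q7882 L622564 q6383, e3 q7883 (flp_h L622631) q6382, e3 q7884 L198260 q9623, e3 q7885 L198644 q9624, e3 q7886 (flp_h L136940) q6387, e3 q7887 (flp_h L180550) q9023, e3 q7888 (flp_h L180568) q9025, e3 q7889 L199363 q9628, e3 q7890 L622403 q6397, e3 q7891 L622811 q6395, e3 q7892 L199587 q9629, e3 q7893 (flp_h L137430) q6394, e3 q7894 (flp_h L199595) q9630, e3 q7895 L200098 q9632, e3 q7896 (flp_h L137775) q6399, e3 q7897 (flp_h L137989) q6402, e3 q7898 L137997 q6404, e3 q7899 (flp_h L199601) q9631, e3 q7900 (flp_h L200433) q9635, e3 q7901 (flp_h L181579) q9125, e3 q7902 (flp_h L181595) q9127, e3 q7903 (flp_h L181617) q9129, e3 q7904 L201050 q9643, e3 q7905 (flp_h L138429) q6408, e3 q7906 L624719 q6416, e3 q7907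 (flp_h L615319) q6415, e3 q7908 L201357 q9646, e3 q7909 L201364 q9647, e3 q7910 (flp_h L138657) q6413, e3 q7911 L138667 q6418, e3 q7912 L138675 q6430, e3 q7913 (flp_h L201375) q9648, e3 q7914 (flp_h L201389) q9650, e3 q7915 L138858 q6455, e3 q7916 L202081 q9654, e3 q7917 L202090 q9655, e3 q7918 (flp_h L139158) q6422, e3 q7919 (flp_h L201074) q9644, e3 q7920 L202363 q9657, e3 q7921 (flp_h L139390) q6426, e3 q7922 (flp_h L139397) q6427, e3 q7923 L139409 q6431, e3 q7924 (flp_h L201383) q9649, e3 q7925 L139421 q6432, e3 q7926 (flp_h L456604) q9608, e3 q7927 (flp_h L202421) q9660, e3 q7928 (flp_h L202434) q9662, e3 q7929 (flp_h L183111) q9263, e3 q7930 (flp_h L183126) q9265, e3 q7931 (flp_h L183150) q9267, e3 q7932 (flp_h L183174) q9269, e3 q7933 L202857 q9670, e3 q7934 L202864 q9671, e3 q7935 (flp_h L139754) q6437, trivial⟩ (by decide +kernel)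

theorem ce_h_124 : ∀ r, r < 64 → sm gh (Qf (7936 + r)) = Qf (tab Gen.h (7936 + r)) :=
  edges_tab (sm gh) Qf (tab Gen.h) 7936 [(7936, 6468), (7937, 6450), (7938, 9674), (7939, 9675), (7940, 6445), (7941, 6446), (7942, 6453), (7943, 6474), (7944, 6454), (7945, 7945), (7946, 9676), (7947, 9678), (7948, 9680), (7949, 9682), (7950, 9684), (7951, 6460), (7952, 9686), (7953, 9687), (7954, 6461), (7955, 8490), (7956, 7956), (7957, 9689), (7958, 9690), (7959, 6465), (7960, 6466), (7961, 9672), (7962, 9693), (7963, 6470), (7964, 6471), (7965, 9677), (7966, 9679), (7967, 6480), (7968, 7968), (7969, 9697), (7970, 9409), (7971, 9411), (7972, 9413), (7973, 7973), (7974, 6491), (7975, 7975), (7976, 6492), (7977, 6493), (7978, 8080), (7979, 9702), (7980, 9704), (7981, 9705), (7982, 9464), (7983, 9466), (7984, 9468), (7985, 9470), (7986, 9547), (7987, 9549), (7988, 9551), (7989, 7989), (7990, 6509), (7991, 7991), (7992, 6510), (7993, 6511), (7994, 8064), (7995, 9714), (7996, 9716), (7997, 6519), (7998, 9717), (7999, 7999)]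
    ⟨e3 q7936 L139774 q6468, e3 q7937 L616573 q6450, e3 q7938 L203102 q9674, e3 q7939 L203117 q9675, e3 q7940 (flp_h L139945) q6445, e3 q7941 (flp_h L139951) q6446, e3 q7942 L139962 q6453, e3 q7943 L139969 q6474, e3 q7944 L139975 q6454, e3 q7945 L139990 q7945, e3 q7946 (flp_h L203130) q9676, e3 q7947 (flp_h L203146) q9678, e3 q7948 (flp_h L203160) q9680, e3 q7949 (flp_h L203181) q9682, e3 q7950 L203484 q9684, e3 q7951 (flp_h L140217) q6460, e3 q7952 L203522 q9686, e3 q7953 L203531 q9687, e3 q7954 (flp_h L140240) q6461, e3 q7955 (flp_h L490718) q8490, e3 q7956 L140266 q7956, e3 q7957 L203566 q9689, e3 q7958 L203581 q9690, e3 q7959 (flp_h L140281) q6465, e3 q7960 (flp_h L140289) q6466, e3 q7961 (flp_h L202885) q9672, e3 q7962 L203613 q9693, e3 q7963 (flp_h L140320) q6470, e3 q7964 (flp_h L140333) q6471, e3 q7965 (flp_h L203138) q9677, e3 q7966 (flp_h L203154) q9679, e3 q7967 L140717 q6480, e3 q7968 L140727 q7968, e3 q7969 (flp_h L204221) q9697, e3 q7970 (flp_h L185837) q9409, e3 q7971 (flp_h L185852) q9411, e3 q7972 (flp_h L185877)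 q9413, e3 q7973 L141281 q7973, e3 q7974 L141491 q6491, e3 q7975 L141500 q7975, e3 q7976 L141505 q6492, e3 q7977 L141511 q6493, e3 q7978 (flp_h L645114) q8080, e3 q7979 (flp_h L205295) q9702, e3 q7980 (flp_h L205317) q9704, e3 q7981 (flp_h L205329) q9705, e3 q7982 (flp_h L186748) q9464, e3 q7983 (flp_h L186762) q9466, e3 q7984 (flp_h L186788) q9468, e3 q7985 (flp_h L186810) q9470, e3 q7986 (flp_h L187862) q9547, e3 q7987 (flp_h L187884) q9549, e3 q7988 (flp_h L187907) q9551, e3 q7989 L142350 q7989, e3 q7990 L142572 q6509, e3 q7991 L142582 q7991, e3 q7992 L142587 q6510, e3 q7993 L142595 q6511, e3 q7994 (flp_h L641872) q8064, e3 q7995 (flp_h L206793) q9714, e3 q7996 (flp_h L206833) q9716, e3 q7997 L143274 q6519, e3 q7998 (flp_h L207796) q9717, e3 q7999 L143632 q7999, trivial⟩ (by decide +kernel)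

theorem ce_h_125 : ∀ r, r < 64 → sm gh (Qf (8000 + r)) = Qf (tab Gen.h (8000 + r)) :=
  edges_tab (sm gh) Qf (tab Gen.h) 8000 [(8000, 6522), (8001, 8001), (8002, 8002), (8003, 8003), (8004, 8004), (8005, 8005), (8006, 8006), (8007, 6537), (8008, 6571), (8009, 6573), (8010, 6574), (8011, 8011), (8012, 6577), (8013, 6578), (8014, 8014), (8015, 6582), (8016, 6583), (8017, 8017), (8018, 6586), (8019, 8019), (8020, 8020), (8021, 6588), (8022, 6589), (8023, 8023), (8024, 6593), (8025, 7169), (8026, 8026), (8027, 6595), (8028, 8028), (8029, 6598), (8030, 6599), (8031, 8031), (8032, 8032), (8033, 6601), (8034, 6602), (8035, 8035), (8036, 6606), (8037, 6607), (8038, 8038), (8039, 8039), (8040, 8040), (8041, 9753), (8042, 6611), (8043, 8043), (8044, 8044), (8045, 6613), (8046, 8046), (8047, 6616), (8048, 6617), (8049, 8049), (8050, 8050), (8051, 8051), (8052, 9767), (8053, 8053), (8054, 9770), (8055, 8055), (8056, 7111), (8057, 6624), (8058, 8058), (8059, 8059), (8060, 7108), (8061, 7106), (8062, 7104), (8063, 6628)]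
    ⟨e3 q8000 (flp_h L143633) q6522, e3 q8001 L143666 q8001, e3 q8002 L143695 q8002, e3 q8003 L143738 q8003, e3 q8004 L143912 q8004, e3 q8005 L144668 q8005, e3 q8006 L145832 q8006, e3 q8007 (flp_h L164517) q6537, e3 q8008 (flp_h L166495) q6571, e3 q8009 (flp_h L166525) q6573, e3 q8010 (flp_h L166550) q6574, e3 q8011 L166570 q8011, e3 q8012 (flp_h L166589) q6577, e3 q8013 (flp_h L166608) q6578, e3 q8014 L166627 q8014, e3 q8015 (flp_h L166645) q6582, e3 q8016 (flp_h L166671) q6583, e3 q8017 L166690 q8017, e3 q8018 (flp_h L166718) q6586, e3 q8019 L166732 q8019, e3 q8020 L166741 q8020, e3 q8021 (flp_h L166749) q6588, e3 q8022 (flp_h L166765) q6589, e3 q8023 L166783 q8023, e3 q8024 (flp_h L166799) q6593, e3 q8025 L636849 q7169, e3 q8026 L166820 q8026, e3 q8027 (flp_h L166821) q6595, e3 q8028 L166841 q8028, e3 q8029 (flp_h L166851) q6598, e3 q8030 (flp_h L166876) q6599, e3 q8031 L166892 q8031, e3 q8032 L166901 q8032, e3 q8033 (flp_h L166911) q6601, e3 q8034 (flp_h L166929) q6602, e3 q8035 L166948 q8035, e3 q8036 (flp_h L166965)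 q6606, e3 q8037 (flp_h L166982) q6607, e3 q8038 L166997 q8038, e3 q8039 L167006 q8039, e3 q8040 L167013 q8040, e3 q8041 L242249 q9753, e3 q8042 (flp_h L167039) q6611, e3 q8043 L167055 q8043, e3 q8044 L167064 q8044, e3 q8045 (flp_h L167065) q6613, e3 q8046 L167082 q8046, e3 q8047 (flp_h L167091) q6616, e3 q8048 (flp_h L167098) q6617, e3 q8049 L167114 q8049, e3 q8050 L167123 q8050, e3 q8051 L167131 q8051, e3 q8052 L242412 q9767, e3 q8053 L167151 q8053, e3 q8054 L242464 q9770, e3 q8055 L167181 q8055, e3 q8056 L643333 q7111, e3 q8057 (flp_h L167194) q6624, e3 q8058 L167210 q8058, e3 q8059 L167223 q8059, e3 q8060 L642081 q7108, e3 q8061 L634156 q7106, e3 q8062 L641538 q7104, e3 q8063 (flp_h L167261) q6628, trivial⟩ (by decide +kernel)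

theorem ce_h_126 : ∀ r, r < 64 → sm gh (Qf (8064 + r)) = Qf (tab Gen.h (8064 + r)) :=
  edges_tab (sm gh) Qf (tab Gen.h) 8064 [(8064, 7994), (8065, 9775), (8066, 6634), (8067, 8067), (8068, 9777), (8069, 7129), (8070, 6636), (8071, 6649), (8072, 8072), (8073, 7121), (8074, 7119), (8075, 9782), (8076, 7114), (8077, 6643), (8078, 7117), (8079, 6646), (8080, 7978), (8081, 9786), (8082, 9788), (8083, 6652), (8084, 8084), (8085, 9791), (8086, 6655), (8087, 7157), (8088, 6656), (8089, 6671), (8090, 7144), (8091, 7145), (8092, 7141), (8093, 7142), (8094, 9800), (8095, 6663), (8096, 7134), (8097, 6664), (8098, 9803), (8099, 7138), (8100, 6667), (8101, 6730), (8102, 9793), (8103, 9806), (8104, 6672), (8105, 9810), (8106, 9812), (8107, 6673), (8108, 6690), (8109, 8109), (8110, 9816), (8111, 6676), (8112, 9819), (8113, 6677), (8114, 6696), (8115, 9822), (8116, 9825), (8117, 6681), (8118, 9829), (8119, 7669), (8120, 6682), (8121, 7677), (8122, 9833), (8123, 9835), (8124, 6685), (8125, 8125), (8126, 9808), (8127, 9842)]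
    ⟨e3 q8064 L641872 q7994, e3 q8065 L242754 q9775, e3 q8066 (flp_h L167363) q6634, e3 q8067 L167379 q8067, e3 q8068 L242796 q9777, e3 q8069 L636412 q7129, e3 q8070 (flp_h L167402) q6636, e3 q8071 L167420 q6649, e3 q8072 L167429 q8072, e3 q8073 L645004 q7121, e3 q8074 L644966 q7119, e3 q8075 L242955 q9782, e3 q8076 L644948 q7114, e3 q8077 (flp_h L167502) q6643, e3 q8078 L644389 q7117, e3 q8079 (flp_h L167535) q6646, e3 q8080 L645114 q7978, e3 q8081 L243177 q9786, e3 q8082 L243194 q9788, e3 q8083 (flp_h L167642) q6652, e3 q8084 L167667 q8084, e3 q8085 L243232 q9791, e3 q8086 (flp_h L167680) q6655, e3 q8087 (flp_h L644538) q7157, e3 q8088 (flp_h L167697) q6656, e3 q8089 L167712 q6671, e3 q8090 (flp_h L645163) q7144, e3 q8091 (flp_h L644646) q7145, e3 q8092 L645151 q7141, e3 q8093 (flp_h L644629) q7142, e3 q8094 L243454 q9800, e3 q8095 (flp_h L167821) q6663, e3 q8096 (flp_h L644599) q7134, e3 q8097 (flp_h L167836) q6664, e3 q8098 L243501 q9803, e3 q8099 L644500 q7138, e3 q8100 (flp_h L167866) q6667, e3 q8101 L167879 q6730, e3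 q8102 (flp_h L243256) q9793, e3 q8103 L243668 q9806, e3 q8104 (flp_h L167958) q6672, e3 q8105 L243708 q9810, e3 q8106 L243729 q9812, e3 q8107 (flp_h L167988) q6673, e3 q8108 L168007 q6690, e3 q8109 L168015 q8109, e3 q8110 L243769 q9816, e3 q8111 (flp_h L168029) q6676, e3 q8112 L243799 q9819, e3 q8113 (flp_h L168052) q6677, e3 q8114 L168071 q6696, e3 q8115 L243831 q9822, e3 q8116 L243861 q9825, e3 q8117 (flp_h L168093) q6681, e3 q8118 L243897 q9829, e3 q8119 (flp_h L642745) q7669, e3 q8120 (flp_h L168121) q6682, e3 q8121 L475802 q7677, e3 q8122 L243952 q9833, e3 q8123 L243974 q9835, e3 q8124 (flp_h L168167) q6685, e3 q8125 L168184 q8125, e3 q8126 (flp_h L243698) q9808, e3 q8127 L244036 q9842, trivial⟩ (by decide +kernel)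

theorem ce_h_127 : ∀ r, r < 64 → sm gh (Qf (8128 + r)) = Qf (tab Gen.h (8128 + r)) :=
  edges_tab (sm gh) Qf (tab Gen.h) 8128 [(8128, 6687), (8129, 7696), (8130, 6688), (8131, 9813), (8132, 9817), (8133, 7212), (8134, 6692), (8135, 7167), (8136, 9818), (8137, 6694), (8138, 9820), (8139, 9851), (8140, 9853), (8141, 6697), (8142, 8142), (8143, 6721), (8144, 9859), (8145, 6699), (8146, 9862), (8147, 6700), (8148, 6726), (8149, 9865), (8150, 9866), (8151, 6704), (8152, 9792), (8153, 6731), (8154, 6706), (8155, 6733), (8156, 9874), (8157, 6709), (8158, 9879), (8159, 9881), (8160, 6710), (8161, 8161), (8162, 7450), (8163, 9888), (8164, 6712), (8165, 7711), (8166, 6713), (8167, 7723), (8168, 9893), (8169, 9896), (8170, 6717), (8171, 9899), (8172, 6718), (8173, 8173), (8174, 9855), (8175, 8175), (8176, 9906), (8177, 9908), (8178, 9909), (8179, 6722), (8180, 9801), (8181, 9861), (8182, 6724), (8183, 9863), (8184, 9916), (8185, 6727), (8186, 6728), (8187, 7210), (8188, 9868), (8189, 7349), (8190, 9923), (8191, 9871)]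
    ⟨e3 q8128 (flp_h L168202) q6687, e3 q8129 L644026 q7696, e3 q8130 (flp_h L168221) q6688, e3 q8131 (flp_h L243746) q9813, e3 q8132 L632030 q9817, e3 q8133 L644305 q7212, e3 q8134 (flp_h L168253) q6692, e3 q8135 L644195 q7167, e3 q8136 (flp_h L243797) q9818, e3 q8137 (flp_h L168280) q6694, e3 q8138 (flp_h L243819) q9820, e3 q8139 L244287 q9851, e3 q8140 L244308 q9853, e3 q8141 (flp_h L168401) q6697, e3 q8142 L168416 q8142, e3 q8143 L168427 q6721, e3 q8144 L244373 q9859, e3 q8145 (flp_h L168437) q6699, e3 q8146 L244398 q9862, e3 q8147 (flp_h L168455) q6700, e3 q8148 L168471 q6726, e3 q8149 L244429 q9865, e3 q8150 L244440 q9866, e3 q8151 (flp_h L168493) q6704, e3 q8152 (flp_h L243246) q9792, e3 q8153 L168517 q6731, e3 q8154 (flp_h L168519) q6706, e3 q8155 L168539 q6733, e3 q8156 L244513 q9874, e3 q8157 (flp_h L168549) q6709, e3 q8158 L244557 q9879, e3 q8159 L244576 q9881, e3 q8160 (flp_h L168577) q6710, e3 q8161 L168591 q8161, e3 q8162 (flp_h L574873) q7450, e3 q8163 L244634 q9888, e3 q8164 (flp_h L168609) q6712, e3 q8165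 (flp_h L642675) q7711, e3 q8166 (flp_h L168627) q6713, e3 q8167 L575311 q7723, e3 q8168 L244684 q9893, e3 q8169 L244709 q9896, e3 q8170 (flp_h L168658) q6717, e3 q8171 L244735 q9899, e3 q8172 (flp_h L168677) q6718, e3 q8173 L168693 q8173, e3 q8174 (flp_h L244334) q9855, e3 q8175 L168708 q8175, e3 q8176 L244794 q9906, e3 q8177 L244809 q9908, e3 q8178 L244819 q9909, e3 q8179 (flp_h L168733) q6722, e3 q8180 (flp_h L243468) q9801, e3 q8181 (flp_h L244396) q9861, e3 q8182 (flp_h L168755) q6724, e3 q8183 (flp_h L244416) q9863, e3 q8184 L244870 q9916, e3 q8185 (flp_h L168780) q6727, e3 q8186 (flp_h L168791) q6728, e3 q8187 (flp_h L644451) q7210, e3 q8188 (flp_h L244464) q9868, e3 q8189 L641306 q7349, e3 q8190 L244942 q9923, e3 q8191 (flp_h L244492) q9871, trivial⟩ (by decide +kernel)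

theorem ce_h_128 : ∀ r, r < 64 → sm gh (Qf (8192 + r)) = Qf (tab Gen.h (8192 + r)) :=
  edges_tab (sm gh) Qf (tab Gen.h) 8192 [(8192, 9925), (8193, 9928), (8194, 6734), (8195, 9931), (8196, 6735), (8197, 8197), (8198, 6769), (8199, 9936), (8200, 9938), (8201, 9939), (8202, 6739), (8203, 8203), (8204, 6776), (8205, 6741), (8206, 6778), (8207, 9946), (8208, 6744), (8209, 6745), (8210, 8210), (8211, 6783), (8212, 8212), (8213, 9955), (8214, 6786), (8215, 9958), (8216, 9960), (8217, 6751), (8218, 8218), (8219, 7310), (8220, 9966), (8221, 9969), (8222, 6753), (8223, 9972), (8224, 6754), (8225, 8225), (8226, 7554), (8227, 8227), (8228, 9979), (8229, 9981), (8230, 9982), (8231, 6758), (8232, 8232), (8233, 7784), (8234, 6760), (8235, 7786), (8236, 9990), (8237, 6763), (8238, 9994), (8239, 9995), (8240, 6764), (8241, 9991), (8242, 9930), (8243, 6766), (8244, 8244), (8245, 9933), (8246, 8246), (8247, 10007), (8248, 8248), (8249, 10010), (8250, 6771), (8251, 10012), (8252, 6772), (8253, 6773), (8254, 8254), (8255, 9941)]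
    ⟨e3 q8192 L245167 q9925, e3 q8193 L245197 q9928, e3 q8194 (flp_h L168975) q6734, e3 q8195 L245227 q9931, e3 q8196 (flp_h L168996) q6735, e3 q8197 L169012 q8197, e3 q8198 L169022 q6769, e3 q8199 L245290 q9936, e3 q8200 L245308 q9938, e3 q8201 L245316 q9939, e3 q8202 (flp_h L169060) q6739, e3 q8203 L169076 q8203, e3 q8204 L169086 q6776, e3 q8205 (flp_h L169088) q6741, e3 q8206 L169103 q6778, e3 q8207 L245381 q9946, e3 q8208 (flp_h L169115) q6744, e3 q8209 (flp_h L169124) q6745, e3 q8210 L169140 q8210, e3 q8211 L169150 q6783, e3 q8212 L169159 q8212, e3 q8213 L245466 q9955, e3 q8214 L169180 q6786, e3 q8215 L245495 q9958, e3 q8216 L245516 q9960, e3 q8217 (flp_h L169200) q6751, e3 q8218 L169217 q8218, e3 q8219 (flp_h L552006) q7310, e3 q8220 L245579 q9966, e3 q8221 L245605 q9969, e3 q8222 (flp_h L169245) q6753, e3 q8223 L245633 q9972, e3 q8224 (flp_h L169264) q6754, e3 q8225 L169279 q8225, e3 q8226 L575619 q7554, e3 q8227 L169294 q8227, e3 q8228 L245689 q9979, e3 q8229 L245703 q9981, e3 q8230 L245712 q9982, e3 q8231 (flp_h L169321)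 q6758, e3 q8232 L169338 q8232, e3 q8233 (flp_h L575009) q7784, e3 q8234 (flp_h L169349) q6760, e3 q8235 (flp_h L575142) q7786, e3 q8236 L245783 q9990, e3 q8237 (flp_h L169372) q6763, e3 q8238 L245817 q9994, e3 q8239 L245827 q9995, e3 q8240 (flp_h L169398) q6764, e3 q8241 (flp_h L245798) q9991, e3 q8242 (flp_h L245225) q9930, e3 q8243 (flp_h L169426) q6766, e3 q8244 L169441 q8244, e3 q8245 (flp_h L245252) q9933, e3 q8246 L169455 q8246, e3 q8247 L245924 q10007, e3 q8248 L169472 q8248, e3 q8249 L245948 q10010, e3 q8250 (flp_h L169482) q6771, e3 q8251 L245964 q10012, e3 q8252 (flp_h L169495) q6772, e3 q8253 (flp_h L169503) q6773, e3 q8254 L169518 q8254, e3 q8255 (flp_h L245341) q9941, trivial⟩ (by decide +kernel)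

theorem ce_h_129 : ∀ r, r < 64 → sm gh (Qf (8256 + r)) = Qf (tab Gen.h (8256 + r)) :=
  edges_tab (sm gh) Qf (tab Gen.h) 8256 [(8256, 8256), (8257, 10021), (8258, 9944), (8259, 10022), (8260, 6779), (8261, 8261), (8262, 9948), (8263, 8263), (8264, 9950), (8265, 8265), (8266, 10032), (8267, 8267), (8268, 10035), (8269, 6785), (8270, 10038), (8271, 10041), (8272, 6787), (8273, 6801), (8274, 10044), (8275, 6789), (8276, 10047), (8277, 10049), (8278, 6790), (8279, 8279), (8280, 6808), (8281, 10052), (8282, 6793), (8283, 10055), (8284, 6794), (8285, 8285), (8286, 10058), (8287, 10061), (8288, 6798), (8289, 10065), (8290, 10067), (8291, 6799), (8292, 6820), (8293, 10043), (8294, 10071), (8295, 10073), (8296, 6802), (8297, 8297), (8298, 6826), (8299, 10080), (8300, 6804), (8301, 10083), (8302, 6805), (8303, 6831), (8304, 10086), (8305, 10087), (8306, 6809), (8307, 8307), (8308, 6836), (8309, 6811), (8310, 6838), (8311, 10095), (8312, 6814), (8313, 10099), (8314, 10101), (8315, 6815), (8316, 8316), (8317, 10063), (8318, 10107), (8319,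 6817)]
    ⟨e3 q8256 L169532 q8256, e3 q8257 L246034 q10021, e3 q8258 (flp_h L245368) q9944, e3 q8259 L246042 q10022, e3 q8260 (flp_h L169558) q6779, e3 q8261 L169574 q8261, e3 q8262 (flp_h L245407) q9948, e3 q8263 L169590 q8263, e3 q8264 (flp_h L245427) q9950, e3 q8265 L169606 q8265, e3 q8266 L246127 q10032, e3 q8267 L169623 q8267, e3 q8268 L246151 q10035, e3 q8269 (flp_h L169634) q6785, e3 q8270 L246180 q10038, e3 q8271 L246209 q10041, e3 q8272 (flp_h L169661) q6787, e3 q8273 L169679 q6801, e3 q8274 L246262 q10044, e3 q8275 (flp_h L169692) q6789, e3 q8276 L246298 q10047, e3 q8277 L246317 q10049, e3 q8278 (flp_h L169718) q6790, e3 q8279 L169738 q8279, e3 q8280 L169746 q6808, e3 q8281 L246355 q10052, e3 q8282 (flp_h L169759) q6793, e3 q8283 L246382 q10055, e3 q8284 (flp_h L169778) q6794, e3 q8285 L169797 q8285, e3 q8286 L246413 q10058, e3 q8287 L246445 q10061, e3 q8288 (flp_h L169820) q6798, e3 q8289 L246486 q10065, e3 q8290 L246509 q10067, e3 q8291 (flp_h L169853) q6799, e3 q8292 L169872 q6820, e3 q8293 (flp_h L246240) q10043,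 e3 q8294 L246546 q10071, e3 q8295 L246566 q10073, e3 q8296 (flp_h L169904) q6802, e3 q8297 L169917 q8297, e3 q8298 L169927 q6826, e3 q8299 L246626 q10080, e3 q8300 (flp_h L169938) q6804, e3 q8301 L246655 q10083, e3 q8302 (flp_h L169959) q6805, e3 q8303 L169974 q6831, e3 q8304 L246682 q10086, e3 q8305 L246690 q10087, e3 q8306 (flp_h L169995) q6809, e3 q8307 L170009 q8307, e3 q8308 L170019 q6836, e3 q8309 (flp_h L170021) q6811, e3 q8310 L170035 q6838, e3 q8311 L246757 q10095, e3 q8312 (flp_h L170045) q6814, e3 q8313 L246802 q10099, e3 q8314 L246824 q10101, e3 q8315 (flp_h L170073) q6815, e3 q8316 L170091 q8316, e3 q8317 (flp_h L246474) q10063, e3 q8318 L246893 q10107, e3 q8319 (flp_h L170111) q6817, trivial⟩ (by decide +kernel)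

theorem ce_h_130 : ∀ r, r < 64 → sm gh (Qf (8320 + r)) = Qf (tab Gen.h (8320 + r)) :=
  edges_tab (sm gh) Qf (tab Gen.h) 8320 [(8320, 10110), (8321, 6818), (8322, 10068), (8323, 10113), (8324, 10116), (8325, 6822), (8326, 10119), (8327, 6823), (8328, 8328), (8329, 10075), (8330, 8330), (8331, 10126), (8332, 10128), (8333, 10129), (8334, 6827), (8335, 8335), (8336, 10082), (8337, 6829), (8338, 10084), (8339, 9869), (8340, 6832), (8341, 6833), (8342, 8342), (8343, 10089), (8344, 8344), (8345, 10141), (8346, 10092), (8347, 10142), (8348, 10144), (8349, 6839), (8350, 10148), (8351, 10150), (8352, 6840), (8353, 8353), (8354, 6862), (8355, 10152), (8356, 10153), (8357, 6843), (8358, 8358), (8359, 8359), (8360, 10159), (8361, 6845), (8362, 10162), (8363, 6846), (8364, 8364), (8365, 10165), (8366, 10166), (8367, 6850), (8368, 8368), (8369, 8369), (8370, 6852), (8371, 8371), (8372, 10174), (8373, 6855), (8374, 10178), (8375, 10180), (8376, 6856), (8377, 8377), (8378, 6886), (8379, 10186), (8380, 6858), (8381, 10189), (8382, 6859),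 (8383, 6891)]
    ⟨e3 q8320 L246924 q10110, e3 q8321 (flp_h L170132) q6818, e3 q8322 (flp_h L246526) q10068, e3 q8323 L246950 q10113, e3 q8324 L246973 q10116, e3 q8325 (flp_h L170165) q6822, e3 q8326 L246997 q10119, e3 q8327 (flp_h L170183) q6823, e3 q8328 L170197 q8328, e3 q8329 (flp_h L246588) q10075, e3 q8330 L170212 q8330, e3 q8331 L247053 q10126, e3 q8332 L247068 q10128, e3 q8333 L247077 q10129, e3 q8334 (flp_h L170240) q6827, e3 q8335 L170257 q8335, e3 q8336 (flp_h L246653) q10082, e3 q8337 (flp_h L170268) q6829, e3 q8338 (flp_h L246671) q10084, e3 q8339 (flp_h L632096) q9869, e3 q8340 (flp_h L170293) q6832, e3 q8341 (flp_h L170301) q6833, e3 q8342 L170316 q8342, e3 q8343 (flp_h L246712) q10089, e3 q8344 L170332 q8344, e3 q8345 L247216 q10141, e3 q8346 (flp_h L246739) q10092, e3 q8347 L247233 q10142, e3 q8348 L247260 q10144, e3 q8349 (flp_h L170369) q6839, e3 q8350 L247296 q10148, e3 q8351 L247314 q10150, e3 q8352 (flp_h L170396) q6840, e3 q8353 L170415 q8353, e3 q8354 L170425 q6862, e3 q8355 L247350 q10152, e3 q8356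 L247367 q10153, e3 q8357 (flp_h L170444) q6843, e3 q8358 L170458 q8358, e3 q8359 L170467 q8359, e3 q8360 L247427 q10159, e3 q8361 (flp_h L170476) q6845, e3 q8362 L247451 q10162, e3 q8363 (flp_h L170492) q6846, e3 q8364 L170510 q8364, e3 q8365 L247482 q10165, e3 q8366 L247491 q10166, e3 q8367 (flp_h L170528) q6850, e3 q8368 L170542 q8368, e3 q8369 L170550 q8369, e3 q8370 (flp_h L170551) q6852, e3 q8371 L170571 q8371, e3 q8372 L247562 q10174, e3 q8373 (flp_h L170580) q6855, e3 q8374 L247607 q10178, e3 q8375 L247628 q10180, e3 q8376 (flp_h L170610) q6856, e3 q8377 L170624 q8377, e3 q8378 L170635 q6886, e3 q8379 L247694 q10186, e3 q8380 (flp_h L170647) q6858, e3 q8381 L247722 q10189, e3 q8382 (flp_h L170667) q6859, e3 q8383 L170683 q6891, trivial⟩ (by decide +kernel)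

theorem ce_h_131 : ∀ r, r < 64 → sm gh (Qf (8384 + r)) = Qf (tab Gen.h (8384 + r)) :=
  edges_tab (sm gh) Qf (tab Gen.h) 8384 [(8384, 10192), (8385, 10195), (8386, 6863), (8387, 10198), (8388, 6864), (8389, 8389), (8390, 6898), (8391, 8391), (8392, 10205), (8393, 10207), (8394, 10208), (8395, 6868), (8396, 8396), (8397, 6905), (8398, 6870), (8399, 6907), (8400, 10215), (8401, 6873), (8402, 6874), (8403, 8403), (8404, 6912), (8405, 8405), (8406, 10224), (8407, 6915), (8408, 10227), (8409, 10229), (8410, 6880), (8411, 10175), (8412, 10232), (8413, 10235), (8414, 6882), (8415, 10238), (8416, 6883), (8417, 8417), (8418, 10182), (8419, 10243), (8420, 10245), (8421, 10246), (8422, 6887), (8423, 8423), (8424, 10188), (8425, 6889), (8426, 10190), (8427, 10254), (8428, 6892), (8429, 10258), (8430, 10259), (8431, 6893), (8432, 10255), (8433, 10197), (8434, 6895), (8435, 8435), (8436, 10200), (8437, 8437), (8438, 10271), (8439, 8439), (8440, 10274), (8441, 6900), (8442, 10276), (8443, 6901), (8444, 6902), (8445, 8445), (8446, 10210),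 (8447, 8447)]
    ⟨e3 q8384 L247750 q10192, e3 q8385 L247774 q10195, e3 q8386 (flp_h L170701) q6863, e3 q8387 L247796 q10198, e3 q8388 (flp_h L170718) q6864, e3 q8389 L170730 q8389, e3 q8390 L170737 q6898, e3 q8391 L170743 q8391, e3 q8392 L247843 q10205, e3 q8393 L247861 q10207, e3 q8394 L247871 q10208, e3 q8395 (flp_h L170772) q6868, e3 q8396 L170786 q8396, e3 q8397 L170795 q6905, e3 q8398 (flp_h L170797) q6870, e3 q8399 L170813 q6907, e3 q8400 L247929 q10215, e3 q8401 (flp_h L170825) q6873, e3 q8402 (flp_h L170834) q6874, e3 q8403 L170846 q8403, e3 q8404 L170854 q6912, e3 q8405 L170861 q8405, e3 q8406 L247997 q10224, e3 q8407 L170876 q6915, e3 q8408 L248019 q10227, e3 q8409 L248036 q10229, e3 q8410 (flp_h L170893) q6880, e3 q8411 (flp_h L247585) q10175, e3 q8412 L248091 q10232, e3 q8413 L248117 q10235, e3 q8414 (flp_h L170932) q6882, e3 q8415 L248143 q10238, e3 q8416 (flp_h L170951) q6883, e3 q8417 L170968 q8417, e3 q8418 (flp_h L247653) q10182, e3 q8419 L248207 q10243, e3 q8420 L248225 q10245, e3 q8421 L248236 q10246, e3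 q8422 (flp_h L171014) q6887, e3 q8423 L171031 q8423, e3 q8424 (flp_h L247720) q10188, e3 q8425 (flp_h L171041) q6889, e3 q8426 (flp_h L247740) q10190, e3 q8427 L248304 q10254, e3 q8428 (flp_h L171067) q6892, e3 q8429 L248330 q10258, e3 q8430 L248340 q10259, e3 q8431 (flp_h L171087) q6893, e3 q8432 (flp_h L248314) q10255, e3 q8433 (flp_h L247794) q10197, e3 q8434 (flp_h L171107) q6895, e3 q8435 L171122 q8435, e3 q8436 (flp_h L247819) q10200, e3 q8437 L171134 q8437, e3 q8438 L248418 q10271, e3 q8439 L171147 q8439, e3 q8440 L248439 q10274, e3 q8441 (flp_h L171157) q6900, e3 q8442 L248456 q10276, e3 q8443 (flp_h L171172) q6901, e3 q8444 (flp_h L171182) q6902, e3 q8445 L171197 q8445, e3 q8446 (flp_h L247894) q10210, e3 q8447 L171211 q8447, trivial⟩ (by decide +kernel)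

theorem ce_h_132 : ∀ r, r < 64 → sm gh (Qf (8448 + r)) = Qf (tab Gen.h (8448 + r)) :=
  edges_tab (sm gh) Qf (tab Gen.h) 8448 [(8448, 10285), (8449, 10213), (8450, 10286), (8451, 6908), (8452, 8452), (8453, 10217), (8454, 8454), (8455, 10219), (8456, 8456), (8457, 10295), (8458, 8458), (8459, 10298), (8460, 6914), (8461, 10299), (8462, 6916), (8463, 10302), (8464, 6917), (8465, 8465), (8466, 8466), (8467, 10306), (8468, 6919), (8469, 8469), (8470, 10308), (8471, 6923), (8472, 10311), (8473, 6924), (8474, 8474), (8475, 8475), (8476, 8476), (8477, 10318), (8478, 10319), (8479, 10320), (8480, 6928), (8481, 8481), (8482, 6930), (8483, 8483), (8484, 10323), (8485, 6933), (8486, 6934), (8487, 7036), (8488, 8488), (8489, 7037), (8490, 7955), (8491, 8491), (8492, 10333), (8493, 10335), (8494, 6940), (8495, 6979), (8496, 10339), (8497, 6942), (8498, 10342), (8499, 6943), (8500, 8500), (8501, 6986), (8502, 10347), (8503, 10349), (8504, 10350), (8505, 6947), (8506, 6992), (8507, 6949), (8508, 6994), (8509, 10355), (8510, 6952), (8511,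 10359)]
    ⟨e3 q8448 L248531 q10285, e3 q8449 (flp_h L247917) q10213, e3 q8450 L248539 q10286, e3 q8451 (flp_h L171238) q6908, e3 q8452 L171254 q8452, e3 q8453 (flp_h L247955) q10217, e3 q8454 L171270 q8454, e3 q8455 (flp_h L247970) q10219, e3 q8456 L171284 q8456, e3 q8457 L248620 q10295, e3 q8458 L171298 q8458, e3 q8459 L248641 q10298, e3 q8460 (flp_h L171307) q6914, e3 q8461 L248667 q10299, e3 q8462 (flp_h L171323) q6916, e3 q8463 L248730 q10302, e3 q8464 (flp_h L171348) q6917, e3 q8465 L171364 q8465, e3 q8466 L171373 q8466, e3 q8467 L248826 q10306, e3 q8468 (flp_h L171402) q6919, e3 q8469 L171421 q8469, e3 q8470 L248879 q10308, e3 q8471 (flp_h L171439) q6923, e3 q8472 L248903 q10311, e3 q8473 (flp_h L171456) q6924, e3 q8474 L171471 q8474, e3 q8475 L171480 q8475, e3 q8476 L171487 q8476, e3 q8477 L248961 q10318, e3 q8478 L248978 q10319, e3 q8479 L248985 q10320, e3 q8480 (flp_h L171515) q6928, e3 q8481 L171541 q8481, e3 q8482 (flp_h L171542) q6930, e3 q8483 L171559 q8483, e3 q8484 L249050 q10323, e3 q8485 (flp_h L171569)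 q6933, e3 q8486 (flp_h L171576) q6934, e3 q8487 L171592 q7036, e3 q8488 L171602 q8488, e3 q8489 L171610 q7037, e3 q8490 L490718 q7955, e3 q8491 L171631 q8491, e3 q8492 L249161 q10333, e3 q8493 L249180 q10335, e3 q8494 (flp_h L171650) q6940, e3 q8495 L171672 q6979, e3 q8496 L249267 q10339, e3 q8497 (flp_h L171696) q6942, e3 q8498 L249297 q10342, e3 q8499 (flp_h L171717) q6943, e3 q8500 L171732 q8500, e3 q8501 L171742 q6986, e3 q8502 L249355 q10347, e3 q8503 L249374 q10349, e3 q8504 L249383 q10350, e3 q8505 (flp_h L171782) q6947, e3 q8506 L171811 q6992, e3 q8507 (flp_h L171813) q6949, e3 q8508 L171828 q6994, e3 q8509 L249462 q10355, e3 q8510 (flp_h L171839) q6952, e3 q8511 L249494 q10359, trivial⟩ (by decide +kernel)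

theorem ce_h_133 : ∀ r, r < 64 → sm gh (Qf (8512 + r)) = Qf (tab Gen.h (8512 + r)) :=
  edges_tab (sm gh) Qf (tab Gen.h) 8512 [(8512, 10360), (8513, 6953), (8514, 10356), (8515, 7001), (8516, 6955), (8517, 8517), (8518, 7004), (8519, 8519), (8520, 10372), (8521, 8521), (8522, 10375), (8523, 6960), (8524, 10377), (8525, 6961), (8526, 6962), (8527, 7047), (8528, 7014), (8529, 7048), (8530, 7609), (8531, 7017), (8532, 10386), (8533, 6968), (8534, 7051), (8535, 7021), (8536, 7053), (8537, 7023), (8538, 7055), (8539, 10396), (8540, 7057), (8541, 10399), (8542, 6974), (8543, 10401), (8544, 10404), (8545, 6976), (8546, 10407), (8547, 6977), (8548, 10336), (8549, 10411), (8550, 6980), (8551, 10415), (8552, 10416), (8553, 6981), (8554, 10412), (8555, 10341), (8556, 6983), (8557, 8557), (8558, 10344), (8559, 8559), (8560, 10427), (8561, 6987), (8562, 10429), (8563, 6988), (8564, 6989), (8565, 7067), (8566, 10351), (8567, 7068), (8568, 7624), (8569, 10352), (8570, 10440), (8571, 10441), (8572, 6995), (8573, 7000), (8574, 10357), (8575,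 10448)]
    ⟨e3 q8512 L249502 q10360, e3 q8513 (flp_h L171864) q6953, e3 q8514 (flp_h L249474) q10356, e3 q8515 L171886 q7001, e3 q8516 (flp_h L171888) q6955, e3 q8517 L171899 q8517, e3 q8518 L171906 q7004, e3 q8519 L171911 q8519, e3 q8520 L249581 q10372, e3 q8521 L171924 q8521, e3 q8522 L249601 q10375, e3 q8523 (flp_h L171932) q6960, e3 q8524 L249618 q10377, e3 q8525 (flp_h L171948) q6961, e3 q8526 (flp_h L171956) q6962, e3 q8527 L171971 q7047, e3 q8528 L171981 q7014, e3 q8529 L171988 q7048, e3 q8530 (flp_h L561977) q7609, e3 q8531 L172006 q7017, e3 q8532 L249707 q10386, e3 q8533 (flp_h L172018) q6968, e3 q8534 L172032 q7051, e3 q8535 L172041 q7021, e3 q8536 L172049 q7053, e3 q8537 L172059 q7023, e3 q8538 L172066 q7055, e3 q8539 L249787 q10396, e3 q8540 L172080 q7057, e3 q8541 L249811 q10399, e3 q8542 (flp_h L172090) q6974, e3 q8543 L249837 q10401, e3 q8544 L249860 q10404, e3 q8545 (flp_h L172115) q6976, e3 q8546 L249886 q10407, e3 q8547 (flp_h L172132) q6977, e3 q8548 (flp_h L249203) q10336, e3 q8549 L249988 q10411, e3 q8550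 (flp_h L172185) q6980, e3 q8551 L250024 q10415, e3 q8552 L250034 q10416, e3 q8553 (flp_h L172212) q6981, e3 q8554 (flp_h L250004) q10412, e3 q8555 (flp_h L249295) q10341, e3 q8556 (flp_h L172240) q6983, e3 q8557 L172256 q8557, e3 q8558 (flp_h L249321) q10344, e3 q8559 L172271 q8559, e3 q8560 L250138 q10427, e3 q8561 (flp_h L172301) q6987, e3 q8562 L250184 q10429, e3 q8563 (flp_h L172317) q6988, e3 q8564 (flp_h L172326) q6989, e3 q8565 L172344 q7067, e3 q8566 (flp_h L249411) q10351, e3 q8567 L172363 q7068, e3 q8568 (flp_h L561968) q7624, e3 q8569 (flp_h L249440) q10352, e3 q8570 L250298 q10440, e3 q8571 L250306 q10441, e3 q8572 (flp_h L172401) q6995, e3 q8573 L172413 q7000, e3 q8574 (flp_h L249484) q10357, e3 q8575 L250356 q10448, trivial⟩ (by decide +kernel)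

theorem ce_h_134 : ∀ r, r < 64 → sm gh (Qf (8576 + r)) = Qf (tab Gen.h (8576 + r)) :=
  edges_tab (sm gh) Qf (tab Gen.h) 8576 [(8576, 6997), (8577, 6998), (8578, 10442), (8579, 10362), (8580, 10444), (8581, 10445), (8582, 10461), (8583, 8583), (8584, 10367), (8585, 8585), (8586, 10466), (8587, 8587), (8588, 10469), (8589, 7006), (8590, 8590), (8591, 10472), (8592, 7008), (8593, 10473), (8594, 7010), (8595, 7081), (8596, 10379), (8597, 7083), (8598, 10381), (8599, 7085), (8600, 10483), (8601, 7087), (8602, 10486), (8603, 7016), (8604, 7018), (8605, 7091), (8606, 10388), (8607, 7093), (8608, 7094), (8609, 10496), (8610, 7096), (8611, 10499), (8612, 7098), (8613, 10502), (8614, 7025), (8615, 7101), (8616, 10504), (8617, 7027), (8618, 10324), (8619, 10326), (8620, 10328), (8621, 10330), (8622, 7585), (8623, 10510), (8624, 10511), (8625, 7040), (8626, 7073), (8627, 7580), (8628, 10514), (8629, 7044), (8630, 10378), (8631, 10380), (8632, 10382), (8633, 10384), (8634, 7049), (8635, 10387), (8636, 7092), (8637, 10389), (8638, 10390),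 (8639, 10526)]
    ⟨e3 q8576 (flp_h L172429) q6997, e3 q8577 (flp_h L172437) q6998, e3 q8578 (flp_h L250318) q10442, e3 q8579 (flp_h L249523) q10362, e3 q8580 (flp_h L250332) q10444, e3 q8581 (flp_h L250339) q10445, e3 q8582 L250446 q10461, e3 q8583 L172483 q8583, e3 q8584 (flp_h L249557) q10367, e3 q8585 L172496 q8585, e3 q8586 L250477 q10466, e3 q8587 L172508 q8587, e3 q8588 L250497 q10469, e3 q8589 (flp_h L172517) q7006, e3 q8590 L172529 q8590, e3 q8591 L250518 q10472, e3 q8592 (flp_h L172538) q7008, e3 q8593 L250531 q10473, e3 q8594 (flp_h L172554) q7010, e3 q8595 L172570 q7081, e3 q8596 (flp_h L249644) q10379, e3 q8597 L172588 q7083, e3 q8598 (flp_h L249664) q10381, e3 q8599 L172604 q7085, e3 q8600 L250619 q10483, e3 q8601 L172621 q7087, e3 q8602 L250648 q10486, e3 q8603 (flp_h L172633) q7016, e3 q8604 (flp_h L172643) q7018, e3 q8605 L172658 q7091, e3 q8606 (flp_h L249731) q10388, e3 q8607 L172674 q7093, e3 q8608 L172681 q7094, e3 q8609 L250737 q10496, e3 q8610 L172700 q7096, e3 q8611 L250763 q10499, e3 q8612 L172716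 q7098, e3 q8613 L250787 q10502, e3 q8614 (flp_h L172726) q7025, e3 q8615 L172740 q7101, e3 q8616 L250806 q10504, e3 q8617 (flp_h L172751) q7027, e3 q8618 (flp_h L249064) q10324, e3 q8619 (flp_h L249082) q10326, e3 q8620 (flp_h L249101) q10328, e3 q8621 (flp_h L249120) q10330, e3 q8622 L563029 q7585, e3 q8623 L252513 q10510, e3 q8624 L252520 q10511, e3 q8625 (flp_h L173881) q7040, e3 q8626 L173902 q7073, e3 q8627 L563036 q7580, e3 q8628 L252770 q10514, e3 q8629 (flp_h L174060) q7044, e3 q8630 (flp_h L249634) q10378, e3 q8631 (flp_h L249653) q10380, e3 q8632 (flp_h L249670) q10382, e3 q8633 (flp_h L249685) q10384, e3 q8634 (flp_h L174141) q7049, e3 q8635 (flp_h L249722) q10387, e3 q8636 L174167 q7092, e3 q8637 (flp_h L249740) q10389, e3 q8638 (flp_h L249747) q10390, e3 q8639 L252954 q10526, trivial⟩ (by decide +kernel)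

theorem ce_h_135 : ∀ r, r < 64 → sm gh (Qf (8640 + r)) = Qf (tab Gen.h (8640 + r)) :=
  edges_tab (sm gh) Qf (tab Gen.h) 8640 [(8640, 10392), (8641, 10527), (8642, 10394), (8643, 10529), (8644, 7056), (8645, 10397), (8646, 10531), (8647, 7058), (8648, 10535), (8649, 10536), (8650, 7060), (8651, 7501), (8652, 7633), (8653, 10539), (8654, 7064), (8655, 10430), (8656, 10432), (8657, 10434), (8658, 10436), (8659, 10547), (8660, 10549), (8661, 7069), (8662, 7070), (8663, 7077), (8664, 10512), (8665, 7078), (8666, 7532), (8667, 10558), (8668, 7074), (8669, 10550), (8670, 10552), (8671, 10554), (8672, 10556), (8673, 7079), (8674, 10474), (8675, 7610), (8676, 10476), (8677, 10477), (8678, 10574), (8679, 10479), (8680, 10577), (8681, 10481), (8682, 10580), (8683, 7086), (8684, 10484), (8685, 10582), (8686, 7088), (8687, 10487), (8688, 10521), (8689, 10489), (8690, 10490), (8691, 10588), (8692, 10492), (8693, 10493), (8694, 10592), (8695, 10593), (8696, 7095), (8697, 10497), (8698, 10596), (8699, 7097), (8700, 10500), (8701, 10598),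 (8702, 7099), (8703, 10600)]
    ⟨e3 q8640 (flp_h L249764) q10392, e3 q8641 L252978 q10527, e3 q8642 (flp_h L249778) q10394, e3 q8643 L252999 q10529, e3 q8644 (flp_h L174220) q7056, e3 q8645 (flp_h L249801) q10397, e3 q8646 L253015 q10531, e3 q8647 (flp_h L174242) q7058, e3 q8648 L253276 q10535, e3 q8649 L253284 q10536, e3 q8650 (flp_h L174412) q7060, e3 q8651 L529737 q7501, e3 q8652 (flp_h L489476) q7633, e3 q8653 L253516 q10539, e3 q8654 (flp_h L174574) q7064, e3 q8655 (flp_h L250202) q10430, e3 q8656 (flp_h L250222) q10432, e3 q8657 (flp_h L250241) q10434, e3 q8658 (flp_h L250259) q10436, e3 q8659 L253651 q10547, e3 q8660 L253667 q10549, e3 q8661 (flp_h L174679) q7069, e3 q8662 (flp_h L174686) q7070, e3 q8663 L174698 q7077, e3 q8664 (flp_h L252540) q10512, e3 q8665 L174711 q7078, e3 q8666 L508658 q7532, e3 q8667 L253765 q10558, e3 q8668 (flp_h L174738) q7074, e3 q8669 (flp_h L253681) q10550, e3 q8670 (flp_h L253696) q10552, e3 q8671 (flp_h L253709) q10554, e3 q8672 (flp_h L253731) q10556, e3 q8673 (flp_h L174890) q7079,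 e3 q8674 (flp_h L250548) q10474, e3 q8675 L563178 q7610, e3 q8676 (flp_h L250564) q10476, e3 q8677 (flp_h L250572) q10477, e3 q8678 L254055 q10574, e3 q8679 (flp_h L250591) q10479, e3 q8680 L254079 q10577, e3 q8681 (flp_h L250608) q10481, e3 q8682 L254103 q10580, e3 q8683 (flp_h L174971) q7086, e3 q8684 (flp_h L250636) q10484, e3 q8685 L254120 q10582, e3 q8686 (flp_h L174996) q7088, e3 q8687 (flp_h L250666) q10487, e3 q8688 (flp_h L252897) q10521, e3 q8689 (flp_h L250683) q10489, e3 q8690 (flp_h L250690) q10490, e3 q8691 L254196 q10588, e3 q8692 (flp_h L250708) q10492, e3 q8693 (flp_h L250717) q10493, e3 q8694 L254245 q10592, e3 q8695 L254254 q10593, e3 q8696 (flp_h L175080) q7095, e3 q8697 (flp_h L250752) q10497, e3 q8698 L254279 q10596, e3 q8699 (flp_h L175104) q7097, e3 q8700 (flp_h L250777) q10500, e3 q8701 L254297 q10598, e3 q8702 (flp_h L175126) q7099, e3 q8703 L254310 q10600, trivial⟩ (by decide +kernel)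

theorem ce_h_136 : ∀ r, r < 64 → sm gh (Qf (8704 + r)) = Qf (tab Gen.h (8704 + r)) :=
  edges_tab (sm gh) Qf (tab Gen.h) 8704 [(8704, 7102), (8705, 8705), (8706, 9771), (8707, 9769), (8708, 7109), (8709, 9780), (8710, 7113), (8711, 9781), (8712, 7125), (8713, 9779), (8714, 9778), (8715, 10605), (8716, 7122), (8717, 7123), (8718, 9774), (8719, 9776), (8720, 7126), (8721, 7193), (8722, 10609), (8723, 9797), (8724, 7131), (8725, 9799), (8726, 7133), (8727, 7150), (8728, 9802), (8729, 7155), (8730, 9796), (8731, 9889), (8732, 9794), (8733, 10615), (8734, 10616), (8735, 7146), (8736, 7240), (8737, 10611), (8738, 7148), (8739, 9787), (8740, 10621), (8741, 7151), (8742, 7152), (8743, 7247), (8744, 9790), (8745, 7249), (8746, 10627), (8747, 8747), (8748, 10630), (8749, 10631), (8750, 7160), (8751, 7184), (8752, 9843), (8753, 7162), (8754, 9731), (8755, 7163), (8756, 7189), (8757, 7194), (8758, 7196), (8759, 10636), (8760, 7172), (8761, 10638), (8762, 10639), (8763, 7173), (8764, 7330), (8765, 7373), (8766, 10644), (8767, 7175)]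
    ⟨e3 q8704 (flp_h L175144) q7102, e3 q8705 L175158 q8705, e3 q8706 L641929 q9771, e3 q8707 (flp_h L641865) q9769, e3 q8708 (flp_h L175483) q7109, e3 q8709 L644927 q9780, e3 q8710 (flp_h L175774) q7113, e3 q8711 (flp_h L644960) q9781, e3 q8712 L175813 q7125, e3 q8713 L644996 q9779, e3 q8714 L631045 q9778, e3 q8715 L255598 q10605, e3 q8716 (flp_h L175989) q7122, e3 q8717 (flp_h L176005) q7123, e3 q8718 (flp_h L644923) q9774, e3 q8719 L644354 q9776, e3 q8720 (flp_h L176037) q7126, e3 q8721 L176051 q7193, e3 q8722 L256171 q10609, e3 q8723 L634558 q9797, e3 q8724 (flp_h L176394) q7131, e3 q8725 L634631 q9799, e3 q8726 (flp_h L176425) q7133, e3 q8727 L176453 q7150, e3 q8728 L631809 q9802, e3 q8729 L176493 q7155, e3 q8730 L634595 q9796, e3 q8731 L630877 q9889, e3 q8732 (flp_h L645027) q9794, e3 q8733 L256632 q10615, e3 q8734 L256639 q10616, e3 q8735 (flp_h L176686) q7146, e3 q8736 L176699 q7240, e3 q8737 (flp_h L256263) q10611, e3 q8738 (flp_h L176707) q7148, e3 q8739 L634449 q9787, e3 q8740 L256691 q10621, e3 q8741 (flp_h L176732)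 q7151, e3 q8742 (flp_h L176739) q7152, e3 q8743 L176753 q7247, e3 q8744 L631774 q9790, e3 q8745 L176767 q7249, e3 q8746 L256760 q10627, e3 q8747 L176940 q8747, e3 q8748 L257151 q10630, e3 q8749 L257174 q10631, e3 q8750 (flp_h L177045) q7160, e3 q8751 L177073 q7184, e3 q8752 L640377 q9843, e3 q8753 (flp_h L177083) q7162, e3 q8754 (flp_h L645216) q9731, e3 q8755 (flp_h L177102) q7163, e3 q8756 L177117 q7189, e3 q8757 L177161 q7194, e3 q8758 L177181 q7196, e3 q8759 L257372 q10636, e3 q8760 (flp_h L177194) q7172, e3 q8761 L257420 q10638, e3 q8762 L257441 q10639, e3 q8763 (flp_h L177221) q7173, e3 q8764 (flp_h L576272) q7330, e3 q8765 L591696 q7373, e3 q8766 L257506 q10644, e3 q8767 (flp_h L177257) q7175, trivial⟩ (by decide +kernel)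

theorem ce_h_137 : ∀ r, r < 64 → sm gh (Qf (8768 + r)) = Qf (tab Gen.h (8768 + r)) :=
  edges_tab (sm gh) Qf (tab Gen.h) 8768 [(8768, 10647), (8769, 7176), (8770, 7675), (8771, 10649), (8772, 10651), (8773, 7180), (8774, 7181), (8775, 7841), (8776, 10632), (8777, 7842), (8778, 10637), (8779, 10659), (8780, 10660), (8781, 7185), (8782, 10606), (8783, 10633), (8784, 7187), (8785, 10634), (8786, 7190), (8787, 7191), (8788, 9814), (8789, 9847), (8790, 7348), (8791, 10666), (8792, 9735), (8793, 8793), (8794, 8794), (8795, 10672), (8796, 10675), (8797, 7200), (8798, 10678), (8799, 7201), (8800, 7234), (8801, 10681), (8802, 9910), (8803, 7204), (8804, 9841), (8805, 7241), (8806, 7206), (8807, 7243), (8808, 9917), (8809, 7209), (8810, 7248), (8811, 10687), (8812, 7251), (8813, 10690), (8814, 10691), (8815, 7216), (8816, 7236), (8817, 9912), (8818, 10694), (8819, 7218), (8820, 10697), (8821, 7219), (8822, 7389), (8823, 7448), (8824, 7406), (8825, 10703), (8826, 10704), (8827, 7223), (8828, 9795), (8829, 7721), (8830, 7225), (8831,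 7719)]
    ⟨e3 q8768 L257532 q10647, e3 q8769 (flp_h L177276) q7176, e3 q8770 L591711 q7675, e3 q8771 L257560 q10649, e3 q8772 L257585 q10651, e3 q8773 (flp_h L177311) q7180, e3 q8774 (flp_h L177332) q7181, e3 q8775 L177350 q7841, e3 q8776 (flp_h L257203) q10632, e3 q8777 L177370 q7842, e3 q8778 L576205 q10637, e3 q8779 L257697 q10659, e3 q8780 L257704 q10660, e3 q8781 (flp_h L177395) q7185, e3 q8782 (flp_h L255613) q10606, e3 q8783 (flp_h L257262) q10633, e3 q8784 (flp_h L177418) q7187, e3 q8785 (flp_h L257280) q10634, e3 q8786 (flp_h L177444) q7190, e3 q8787 (flp_h L177452) q7191, e3 q8788 (flp_h L636236) q9814, e3 q8789 (flp_h L644175) q9847, e3 q8790 L641314 q7348, e3 q8791 L636192 q10666, e3 q8792 L636875 q9735, e3 q8793 L177702 q8793, e3 q8794 L177723 q8794, e3 q8795 L258364 q10672, e3 q8796 L258390 q10675, e3 q8797 (flp_h L177853) q7200, e3 q8798 L258414 q10678, e3 q8799 (flp_h L177873) q7201, e3 q8800 L177899 q7234, e3 q8801 L258494 q10681, e3 q8802 L636000 q9910, e3 q8803 (flp_h L177933) q7204, e3 q8804 L634670 q9841,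 e3 q8805 L177951 q7241, e3 q8806 (flp_h L177953) q7206, e3 q8807 L177969 q7243, e3 q8808 (flp_h L635096) q9917, e3 q8809 (flp_h L177982) q7209, e3 q8810 L178014 q7248, e3 q8811 L258621 q10687, e3 q8812 L178035 q7251, e3 q8813 L258643 q10690, e3 q8814 L258663 q10691, e3 q8815 (flp_h L178055) q7216, e3 q8816 L553857 q7236, e3 q8817 L636053 q9912, e3 q8818 L258753 q10694, e3 q8819 (flp_h L178097) q7218, e3 q8820 L258775 q10697, e3 q8821 (flp_h L178115) q7219, e3 q8822 (flp_h L576488) q7389, e3 q8823 L591875 q7448, e3 q8824 (flp_h L601506) q7406, e3 q8825 L258856 q10703, e3 q8826 L258865 q10704, e3 q8827 (flp_h L178174) q7223, e3 q8828 L645198 q9795, e3 q8829 (flp_h L592026) q7721, e3 q8830 (flp_h L178196) q7225, e3 q8831 (flp_h L568074) q7719, trivial⟩ (by decide +kernel)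

theorem ce_h_138 : ∀ r, r < 64 → sm gh (Qf (8832 + r)) = Qf (tab Gen.h (8832 + r)) :=
  edges_tab (sm gh) Qf (tab Gen.h) 8832 [(8832, 10710), (8833, 7228), (8834, 10714), (8835, 10715), (8836, 7229), (8837, 10711), (8838, 10677), (8839, 7231), (8840, 7853), (8841, 10679), (8842, 7854), (8843, 10692), (8844, 7855), (8845, 9876), (8846, 10729), (8847, 7237), (8848, 7238), (8849, 10617), (8850, 10682), (8851, 9877), (8852, 10738), (8853, 10685), (8854, 10739), (8855, 7244), (8856, 10622), (8857, 10686), (8858, 10623), (8859, 9920), (8860, 10624), (8861, 10749), (8862, 10626), (8863, 10752), (8864, 7250), (8865, 8865), (8866, 8866), (8867, 8867), (8868, 10757), (8869, 8869), (8870, 10760), (8871, 7257), (8872, 10764), (8873, 10765), (8874, 7258), (8875, 10761), (8876, 7303), (8877, 7260), (8878, 7306), (8879, 10772), (8880, 7263), (8881, 7264), (8882, 8882), (8883, 7315), (8884, 8884), (8885, 10781), (8886, 7318), (8887, 10743), (8888, 7270), (8889, 8889), (8890, 7322), (8891, 8891), (8892, 7324), (8893, 8893), (8894, 10789),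 (8895, 8895)]
    ⟨e3 q8832 L258928 q10710, e3 q8833 (flp_h L178224) q7228, e3 q8834 L258958 q10714, e3 q8835 L258968 q10715, e3 q8836 (flp_h L178246) q7229, e3 q8837 (flp_h L258940) q10711, e3 q8838 (flp_h L258412) q10677, e3 q8839 (flp_h L178268) q7231, e3 q8840 L178287 q7853, e3 q8841 (flp_h L258444) q10679, e3 q8842 L178304 q7854, e3 q8843 L576443 q10692, e3 q8844 L178320 q7855, e3 q8845 L554645 q9876, e3 q8846 L259109 q10729, e3 q8847 (flp_h L178348) q7237, e3 q8848 (flp_h L178356) q7238, e3 q8849 (flp_h L256654) q10617, e3 q8850 (flp_h L258524) q10682, e3 q8851 L640415 q9877, e3 q8852 L259172 q10738, e3 q8853 (flp_h L258542) q10685, e3 q8854 L259177 q10739, e3 q8855 (flp_h L178405) q7244, e3 q8856 (flp_h L256705) q10622, e3 q8857 (flp_h L258578) q10686, e3 q8858 (flp_h L256720) q10623, e3 q8859 (flp_h L644221) q9920, e3 q8860 (flp_h L256736) q10624, e3 q8861 L259257 q10749, e3 q8862 (flp_h L256751) q10626, e3 q8863 L259276 q10752, e3 q8864 (flp_h L178474) q7250, e3 q8865 L178757 q8865, e3 q8866 L178766 q8866, e3 q8867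 L178774 q8867, e3 q8868 L259762 q10757, e3 q8869 L178794 q8869, e3 q8870 L260094 q10760, e3 q8871 (flp_h L179000) q7257, e3 q8872 L260130 q10764, e3 q8873 L260138 q10765, e3 q8874 (flp_h L179027) q7258, e3 q8875 (flp_h L260108) q10761, e3 q8876 L179051 q7303, e3 q8877 (flp_h L179053) q7260, e3 q8878 L179078 q7306, e3 q8879 L260279 q10772, e3 q8880 (flp_h L179128) q7263, e3 q8881 (flp_h L179134) q7264, e3 q8882 L179149 q8882, e3 q8883 L179158 q7315, e3 q8884 L179163 q8884, e3 q8885 L260345 q10781, e3 q8886 L179178 q7318, e3 q8887 L640994 q10743, e3 q8888 (flp_h L179189) q7270, e3 q8889 L179203 q8889, e3 q8890 L179211 q7322, e3 q8891 L179219 q8891, e3 q8892 L179230 q7324, e3 q8893 L179237 q8893, e3 q8894 L260432 q10789, e3 q8895 L179252 q8895, trivial⟩ (by decide +kernel)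

theorem ce_h_139 : ∀ r, r < 64 → sm gh (Qf (8896 + r)) = Qf (tab Gen.h (8896 + r)) :=
  edges_tab (sm gh) Qf (tab Gen.h) 8896 [(8896, 10792), (8897, 7276), (8898, 10794), (8899, 10797), (8900, 7278), (8901, 10800), (8902, 7279), (8903, 7308), (8904, 10804), (8905, 7282), (8906, 10808), (8907, 10809), (8908, 7283), (8909, 10805), (8910, 7552), (8911, 7285), (8912, 7471), (8913, 7550), (8914, 7470), (8915, 7494), (8916, 10821), (8917, 7290), (8918, 7291), (8919, 8919), (8920, 7782), (8921, 8921), (8922, 10830), (8923, 7780), (8924, 10833), (8925, 10834), (8926, 7297), (8927, 7302), (8928, 10762), (8929, 10841), (8930, 7299), (8931, 7300), (8932, 10835), (8933, 10767), (8934, 10837), (8935, 10838), (8936, 10854), (8937, 7877), (8938, 10770), (8939, 7878), (8940, 10801), (8941, 7879), (8942, 10799), (8943, 7880), (8944, 9962), (8945, 10863), (8946, 7311), (8947, 8947), (8948, 10774), (8949, 8949), (8950, 10776), (8951, 8951), (8952, 10873), (8953, 8953), (8954, 10876), (8955, 7317), (8956, 7319), (8957, 8957), (8958, 10782),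 (8959, 8959)]
    ⟨e3 q8896 L260454 q10792, e3 q8897 (flp_h L179261) q7276, e3 q8898 L260480 q10794, e3 q8899 L260506 q10797, e3 q8900 (flp_h L179286) q7278, e3 q8901 L260534 q10800, e3 q8902 (flp_h L179306) q7279, e3 q8903 L553957 q7308, e3 q8904 L260657 q10804, e3 q8905 (flp_h L179372) q7282, e3 q8906 L260689 q10808, e3 q8907 L260697 q10809, e3 q8908 (flp_h L179395) q7283, e3 q8909 (flp_h L260671) q10805, e3 q8910 L575870 q7552, e3 q8911 (flp_h L179419) q7285, e3 q8912 (flp_h L576497) q7471, e3 q8913 L568023 q7550, e3 q8914 (flp_h L554379) q7470, e3 q8915 (flp_h L601463) q7494, e3 q8916 L260842 q10821, e3 q8917 (flp_h L179495) q7290, e3 q8918 (flp_h L179502) q7291, e3 q8919 L179520 q8919, e3 q8920 (flp_h L483431) q7782, e3 q8921 L179536 q8921, e3 q8922 L260918 q10830, e3 q8923 (flp_h L568090) q7780, e3 q8924 L260942 q10833, e3 q8925 L260949 q10834, e3 q8926 (flp_h L179572) q7297, e3 q8927 L179586 q7302, e3 q8928 (flp_h L260118) q10762, e3 q8929 L261005 q10841, e3 q8930 (flp_h L179604) q7299, e3 q8931 (flp_h L179612) q7300,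 e3 q8932 (flp_h L260965) q10835, e3 q8933 (flp_h L260165) q10767, e3 q8934 (flp_h L260979) q10837, e3 q8935 (flp_h L260987) q10838, e3 q8936 L261105 q10854, e3 q8937 L179666 q7877, e3 q8938 (flp_h L260204) q10770, e3 q8939 L179684 q7878, e3 q8940 L505974 q10801, e3 q8941 L179701 q7879, e3 q8942 (flp_h L554349) q10799, e3 q8943 L179728 q7880, e3 q8944 L554468 q9962, e3 q8945 L261216 q10863, e3 q8946 (flp_h L179754) q7311, e3 q8947 L179768 q8947, e3 q8948 (flp_h L260300) q10774, e3 q8949 L179783 q8949, e3 q8950 (flp_h L260319) q10776, e3 q8951 L179798 q8951, e3 q8952 L261291 q10873, e3 q8953 L179812 q8953, e3 q8954 L261314 q10876, e3 q8955 (flp_h L179821) q7317, e3 q8956 (flp_h L179828) q7319, e3 q8957 L179843 q8957, e3 q8958 (flp_h L260378) q10782, e3 q8959 L179858 q8959, trivial⟩ (by decide +kernel)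

theorem ce_h_140 : ∀ r, r < 64 → sm gh (Qf (8960 + r)) = Qf (tab Gen.h (8960 + r)) :=
  edges_tab (sm gh) Qf (tab Gen.h) 8960 [(8960, 8960), (8961, 10886), (8962, 8962), (8963, 10889), (8964, 8964), (8965, 10892), (8966, 7326), (8967, 8967), (8968, 10894), (8969, 7328), (8970, 10640), (8971, 10899), (8972, 10900), (8973, 7331), (8974, 7359), (8975, 10904), (8976, 7333), (8977, 10907), (8978, 7334), (8979, 7364), (8980, 10909), (8981, 10911), (8982, 7338), (8983, 10914), (8984, 7339), (8985, 7355), (8986, 7371), (8987, 10642), (8988, 10669), (8989, 9921), (8990, 7343), (8991, 8991), (8992, 7378), (8993, 7345), (8994, 7380), (8995, 7385), (8996, 10923), (8997, 7388), (8998, 10917), (8999, 10915), (9000, 10924), (9001, 10927), (9002, 7356), (9003, 10930), (9004, 7357), (9005, 10901), (9006, 10933), (9007, 10934), (9008, 7360), (9009, 9009), (9010, 10906), (9011, 7362), (9012, 10908), (9013, 10655), (9014, 7365), (9015, 10944), (9016, 10945), (9017, 7366), (9018, 10941), (9019, 10913), (9020, 7368), (9021, 7840), (9022, 10916),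 (9023, 7887)]
    ⟨e3 q8960 L179864 q8960, e3 q8961 L261391 q10886, e3 q8962 L179880 q8962, e3 q8963 L261417 q10889, e3 q8964 L179899 q8964, e3 q8965 L261443 q10892, e3 q8966 (flp_h L179910) q7326, e3 q8967 L179923 q8967, e3 q8968 L261461 q10894, e3 q8969 (flp_h L179933) q7328, e3 q8970 (flp_h L576213) q10640, e3 q8971 L261543 q10899, e3 q8972 L261566 q10900, e3 q8973 (flp_h L179981) q7331, e3 q8974 L180010 q7359, e3 q8975 L261639 q10904, e3 q8976 (flp_h L180022) q7333, e3 q8977 L261668 q10907, e3 q8978 (flp_h L180043) q7334, e3 q8979 L180062 q7364, e3 q8980 L261699 q10909, e3 q8981 L261723 q10911, e3 q8982 (flp_h L180081) q7338, e3 q8983 L261745 q10914, e3 q8984 (flp_h L180100) q7339, e3 q8985 (flp_h L591235) q7355, e3 q8986 L180124 q7371, e3 q8987 L553553 q10642, e3 q8988 L637283 q10669, e3 q8989 L637468 q9921, e3 q8990 (flp_h L180161) q7343, e3 q8991 L180176 q8991, e3 q8992 L180185 q7378, e3 q8993 (flp_h L180187) q7345, e3 q8994 L180205 q7380, e3 q8995 L180245 q7385, e3 q8996 L261964 q10923, e3 q8997 L180271 q7388, e3 q8998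 (flp_h L553486) q10917, e3 q8999 L504195 q10915, e3 q9000 L262071 q10924, e3 q9001 L262097 q10927, e3 q9002 (flp_h L180331) q7356, e3 q9003 L262123 q10930, e3 q9004 (flp_h L180352) q7357, e3 q9005 (flp_h L261596) q10901, e3 q9006 L262217 q10933, e3 q9007 L262225 q10934, e3 q9008 (flp_h L180422) q7360, e3 q9009 L180440 q9009, e3 q9010 (flp_h L261666) q10906, e3 q9011 (flp_h L180450) q7362, e3 q9012 (flp_h L261688) q10908, e3 q9013 (flp_h L611995) q10655, e3 q9014 (flp_h L180479) q7365, e3 q9015 L262328 q10944, e3 q9016 L262335 q10945, e3 q9017 (flp_h L180499) q7366, e3 q9018 (flp_h L262312) q10941, e3 q9019 (flp_h L261743) q10913, e3 q9020 (flp_h L180519) q7368, e3 q9021 (flp_h L607659) q7840, e3 q9022 (flp_h L261769) q10916, e3 q9023 L180550 q7887, trivial⟩ (by decide +kernel)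

theorem ce_h_141 : ∀ r, r < 64 → sm gh (Qf (9024 + r)) = Qf (tab Gen.h (9024 + r)) :=
  edges_tab (sm gh) Qf (tab Gen.h) 9024 [(9024, 10641), (9025, 7888), (9026, 9827), (9027, 10958), (9028, 7374), (9029, 7375), (9030, 9030), (9031, 10919), (9032, 9032), (9033, 10967), (9034, 10922), (9035, 10968), (9036, 7381), (9037, 9037), (9038, 10670), (9039, 9039), (9040, 9922), (9041, 9041), (9042, 10976), (9043, 9043), (9044, 10979), (9045, 7387), (9046, 10700), (9047, 10698), (9048, 10982), (9049, 10985), (9050, 7390), (9051, 10988), (9052, 7391), (9053, 7429), (9054, 10991), (9055, 10992), (9056, 7394), (9057, 9057), (9058, 7434), (9059, 7396), (9060, 7436), (9061, 10999), (9062, 7399), (9063, 11003), (9064, 11004), (9065, 7400), (9066, 11000), (9067, 7443), (9068, 7402), (9069, 7423), (9070, 7446), (9071, 7422), (9072, 10701), (9073, 11016), (9074, 7407), (9075, 7408), (9076, 9076), (9077, 7455), (9078, 9078), (9079, 11024), (9080, 7458), (9081, 10742), (9082, 7414), (9083, 9083), (9084, 7462), (9085, 7464), (9086, 11028), (9087,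 9087)]
    ⟨e3 q9024 L455491 q10641, e3 q9025 L180568 q7888, e3 q9026 (flp_h L575472) q9827, e3 q9027 L262474 q10958, e3 q9028 (flp_h L180596) q7374, e3 q9029 (flp_h L180603) q7375, e3 q9030 L180621 q9030, e3 q9031 (flp_h L261855) q10919, e3 q9032 L180636 q9032, e3 q9033 L262552 q10967, e3 q9034 (flp_h L261882) q10922, e3 q9035 L262561 q10968, e3 q9036 (flp_h L180665) q7381, e3 q9037 L180678 q9037, e3 q9038 (flp_h L641276) q10670, e3 q9039 L180694 q9039, e3 q9040 L634790 q9922, e3 q9041 L180711 q9041, e3 q9042 L262642 q10976, e3 q9043 L180727 q9043, e3 q9044 L262666 q10979, e3 q9045 (flp_h L180737) q7387, e3 q9046 L550119 q10700, e3 q9047 (flp_h L474104) q10698, e3 q9048 L262772 q10982, e3 q9049 L262799 q10985, e3 q9050 (flp_h L180806) q7390, e3 q9051 L262823 q10988, e3 q9052 (flp_h L180826) q7391, e3 q9053 L180853 q7429, e3 q9054 L262911 q10991, e3 q9055 L262920 q10992, e3 q9056 (flp_h L180893) q7394, e3 q9057 L180908 q9057, e3 q9058 L180916 q7434, e3 q9059 (flp_h L180918) q7396, e3 q9060 L180938 q7436, e3 q9061 L262991 q10999,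 e3 q9062 (flp_h L180949) q7399, e3 q9063 L263019 q11003, e3 q9064 L263027 q11004, e3 q9065 (flp_h L180970) q7400, e3 q9066 (flp_h L263000) q11000, e3 q9067 L180986 q7443, e3 q9068 (flp_h L180988) q7402, e3 q9069 (flp_h L591452) q7423, e3 q9070 L181013 q7446, e3 q9071 L576370 q7422, e3 q9072 (flp_h L474026) q10701, e3 q9073 L263147 q11016, e3 q9074 (flp_h L181059) q7407, e3 q9075 (flp_h L181067) q7408, e3 q9076 L181082 q9076, e3 q9077 L181091 q7455, e3 q9078 L181096 q9078, e3 q9079 L263218 q11024, e3 q9080 L181113 q7458, e3 q9081 L634931 q10742, e3 q9082 (flp_h L181123) q7414, e3 q9083 L181137 q9083, e3 q9084 L181145 q7462, e3 q9085 L181161 q7464, e3 q9086 L263301 q11028, e3 q9087 L181181 q9087, trivial⟩ (by decide +kernel)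

theorem ce_h_142 : ∀ r, r < 64 → sm gh (Qf (9088 + r)) = Qf (tab Gen.h (9088 + r)) :=
  edges_tab (sm gh) Qf (tab Gen.h) 9088 [(9088, 11031), (9089, 7420), (9090, 11032), (9091, 11012), (9092, 11010), (9093, 11035), (9094, 7424), (9095, 11039), (9096, 11040), (9097, 7425), (9098, 11036), (9099, 10987), (9100, 7427), (9101, 10989), (9102, 11047), (9103, 7430), (9104, 7431), (9105, 9105), (9106, 10994), (9107, 9107), (9108, 11056), (9109, 10997), (9110, 11059), (9111, 10722), (9112, 7437), (9113, 7442), (9114, 11001), (9115, 11066), (9116, 7439), (9117, 7440), (9118, 11060), (9119, 11006), (9120, 11062), (9121, 11063), (9122, 11079), (9123, 7851), (9124, 11011), (9125, 7901), (9126, 10699), (9127, 7902), (9128, 10696), (9129, 7903), (9130, 9883), (9131, 11087), (9132, 7451), (9133, 9133), (9134, 11018), (9135, 9135), (9136, 11019), (9137, 9137), (9138, 11097), (9139, 9139), (9140, 11100), (9141, 7457), (9142, 7459), (9143, 9143), (9144, 11025), (9145, 9145), (9146, 9146), (9147, 11110), (9148, 9148), (9149, 11113), (9150, 9150),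 (9151, 11116)]
    ⟨e3 q9088 L263320 q11031, e3 q9089 (flp_h L181188) q7420, e3 q9090 L263341 q11032, e3 q9091 L504915 q11012, e3 q9092 L554184 q11010, e3 q9093 L263489 q11035, e3 q9094 (flp_h L181282) q7424, e3 q9095 L263521 q11039, e3 q9096 L263531 q11040, e3 q9097 (flp_h L181305) q7425, e3 q9098 (flp_h L263502) q11036, e3 q9099 (flp_h L262821) q10987, e3 q9100 (flp_h L181327) q7427, e3 q9101 (flp_h L262854) q10989, e3 q9102 L263685 q11047, e3 q9103 (flp_h L181415) q7430, e3 q9104 (flp_h L181424) q7431, e3 q9105 L181442 q9105, e3 q9106 (flp_h L262947) q10994, e3 q9107 L181458 q9107, e3 q9108 L263766 q11056, e3 q9109 (flp_h L262973) q10997, e3 q9110 L263788 q11059, e3 q9111 (flp_h L607032) q10722, e3 q9112 (flp_h L181491) q7437, e3 q9113 L181500 q7442, e3 q9114 (flp_h L263007) q11001, e3 q9115 L263834 q11066, e3 q9116 (flp_h L181515) q7439, e3 q9117 (flp_h L181523) q7440, e3 q9118 (flp_h L263804) q11060, e3 q9119 (flp_h L263047) q11006, e3 q9120 (flp_h L263815) q11062, e3 q9121 (flp_h L263820) q11063, e3 q9122 L263912 q11079,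 e3 q9123 (flp_h L622246) q7851, e3 q9124 (flp_h L263078) q11011, e3 q9125 L181579 q7901, e3 q9126 (flp_h L591884) q10699, e3 q9127 L181595 q7902, e3 q9128 L455320 q10696, e3 q9129 L181617 q7903, e3 q9130 (flp_h L554925) q9883, e3 q9131 L264012 q11087, e3 q9132 (flp_h L181644) q7451, e3 q9133 L181660 q9133, e3 q9134 (flp_h L263172) q11018, e3 q9135 L181677 q9135, e3 q9136 (flp_h L263190) q11019, e3 q9137 L181692 q9137, e3 q9138 L264095 q11097, e3 q9139 L181707 q9139, e3 q9140 L264119 q11100, e3 q9141 (flp_h L181716) q7457, e3 q9142 (flp_h L181723) q7459, e3 q9143 L181737 q9143, e3 q9144 (flp_h L263250) q11025, e3 q9145 L181752 q9145, e3 q9146 L181756 q9146, e3 q9147 L264195 q11110, e3 q9148 L181775 q9148, e3 q9149 L264217 q11113, e3 q9150 L181791 q9150, e3 q9151 L264241 q11116, trivial⟩ (by decide +kernel)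

theorem ce_h_143 : ∀ r, r < 64 → sm gh (Qf (9152 + r)) = Qf (tab Gen.h (9152 + r)) :=
  edges_tab (sm gh) Qf (tab Gen.h) 9152 [(9152, 7466), (9153, 9153), (9154, 11118), (9155, 7468), (9156, 10817), (9157, 10815), (9158, 11123), (9159, 11124), (9160, 7472), (9161, 10363), (9162, 7523), (9163, 7474), (9164, 7525), (9165, 11130), (9166, 7477), (9167, 7478), (9168, 7530), (9169, 7533), (9170, 11135), (9171, 11136), (9172, 7483), (9173, 7488), (9174, 7538), (9175, 11142), (9176, 7485), (9177, 7486), (9178, 11137), (9179, 7543), (9180, 10340), (9181, 11139), (9182, 11154), (9183, 7516), (9184, 7548), (9185, 7515), (9186, 10818), (9187, 10819), (9188, 11159), (9189, 7495), (9190, 7588), (9191, 7558), (9192, 7589), (9193, 7560), (9194, 7590), (9195, 10537), (9196, 7591), (9197, 10413), (9198, 7503), (9199, 7593), (9200, 7568), (9201, 7595), (9202, 7596), (9203, 11180), (9204, 7598), (9205, 11183), (9206, 7600), (9207, 11186), (9208, 7510), (9209, 7603), (9210, 11188), (9211, 7512), (9212, 11192), (9213, 7514), (9214, 11157), (9215,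 11155)]
    ⟨e3 q9152 (flp_h L181801) q7466, e3 q9153 L181813 q9153, e3 q9154 L264258 q11118, e3 q9155 (flp_h L181821) q7468, e3 q9156 L502530 q10817, e3 q9157 (flp_h L554223) q10815, e3 q9158 L264486 q11123, e3 q9159 L264494 q11124, e3 q9160 (flp_h L181952) q7472, e3 q9161 L508344 q10363, e3 q9162 L181976 q7523, e3 q9163 (flp_h L181978) q7474, e3 q9164 L182004 q7525, e3 q9165 L264648 q11130, e3 q9166 (flp_h L182061) q7477, e3 q9167 (flp_h L182068) q7478, e3 q9168 L182097 q7530, e3 q9169 L182125 q7533, e3 q9170 L264761 q11135, e3 q9171 L264767 q11136, e3 q9172 (flp_h L182146) q7483, e3 q9173 L182157 q7488, e3 q9174 L182166 q7538, e3 q9175 L264818 q11142, e3 q9176 (flp_h L182176) q7485, e3 q9177 (flp_h L182182) q7486, e3 q9178 (flp_h L264780) q11137, e3 q9179 L182203 q7543, e3 q9180 L546918 q10340, e3 q9181 (flp_h L264802) q11139, e3 q9182 L264902 q11154, e3 q9183 L502607 q7516, e3 q9184 L182235 q7548, e3 q9185 (flp_h L552203) q7515, e3 q9186 (flp_h L554096) q10818, e3 q9187 L553244 q10819, e3 q9188 L264993 q11159, e3 q9189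 (flp_h L182303) q7495, e3 q9190 L182317 q7588, e3 q9191 L182325 q7558, e3 q9192 L182335 q7589, e3 q9193 L182346 q7560, e3 q9194 L182353 q7590, e3 q9195 (flp_h L562146) q10537, e3 q9196 L182368 q7591, e3 q9197 L546996 q10413, e3 q9198 (flp_h L182388) q7503, e3 q9199 L182401 q7593, e3 q9200 L182410 q7568, e3 q9201 L182417 q7595, e3 q9202 L182422 q7596, e3 q9203 L265179 q11180, e3 q9204 L182439 q7598, e3 q9205 L265205 q11183, e3 q9206 L182455 q7600, e3 q9207 L265231 q11186, e3 q9208 (flp_h L182465) q7510, e3 q9209 L182479 q7603, e3 q9210 L265248 q11188, e3 q9211 (flp_h L182488) q7512, e3 q9212 L265297 q11192, e3 q9213 (flp_h L182513) q7514, e3 q9214 (flp_h L552182) q11157, e3 q9215 L554196 q11155, trivial⟩ (by decide +kernel)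

theorem ce_h_144 : ∀ r, r < 64 → sm gh (Qf (9216 + r)) = Qf (tab Gen.h (9216 + r)) :=
  edges_tab (sm gh) Qf (tab Gen.h) 9216 [(9216, 11197), (9217, 11198), (9218, 7517), (9219, 7522), (9220, 10385), (9221, 11203), (9222, 7519), (9223, 7520), (9224, 11199), (9225, 11126), (9226, 10583), (9227, 11212), (9228, 11128), (9229, 11213), (9230, 7526), (9231, 7613), (9232, 11131), (9233, 7614), (9234, 11132), (9235, 7615), (9236, 10555), (9237, 7616), (9238, 10557), (9239, 11226), (9240, 11228), (9241, 7534), (9242, 7535), (9243, 7542), (9244, 11138), (9245, 7544), (9246, 7545), (9247, 11241), (9248, 11242), (9249, 7539), (9250, 11229), (9251, 11144), (9252, 11231), (9253, 11146), (9254, 11233), (9255, 11234), (9256, 11256), (9257, 11236), (9258, 11237), (9259, 11262), (9260, 11239), (9261, 11265), (9262, 7546), (9263, 7929), (9264, 10816), (9265, 7930), (9266, 10811), (9267, 7931), (9268, 9971), (9269, 7932), (9270, 9974), (9271, 7555), (9272, 7632), (9273, 11161), (9274, 7634), (9275, 7635), (9276, 11282), (9277, 7637), (9278,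 11285), (9279, 7639)]
    ⟨e3 q9216 L265535 q11197, e3 q9217 L265543 q11198, e3 q9218 (flp_h L182661) q7517, e3 q9219 L182676 q7522, e3 q9220 L508233 q10385, e3 q9221 L265604 q11203, e3 q9222 (flp_h L182695) q7519, e3 q9223 (flp_h L182703) q7520, e3 q9224 (flp_h L265560) q11199, e3 q9225 (flp_h L264521) q11126, e3 q9226 L512650 q10583, e3 q9227 L265709 q11212, e3 q9228 (flp_h L264563) q11128, e3 q9229 L265831 q11213, e3 q9230 (flp_h L182858) q7526, e3 q9231 L182874 q7613, e3 q9232 (flp_h L264673) q11131, e3 q9233 L182893 q7614, e3 q9234 (flp_h L264696) q11132, e3 q9235 L182913 q7615, e3 q9236 (flp_h L562129) q10555, e3 q9237 L182931 q7616, e3 q9238 L546708 q10557, e3 q9239 L265975 q11226, e3 q9240 L265990 q11228, e3 q9241 (flp_h L182967) q7534, e3 q9242 (flp_h L182973) q7535, e3 q9243 L182986 q7542, e3 q9244 (flp_h L264790) q11138, e3 q9245 L182999 q7544, e3 q9246 L183006 q7545, e3 q9247 L266084 q11241, e3 q9248 L266089 q11242, e3 q9249 (flp_h L183020) q7539, e3 q9250 (flp_h L266002) q11229, e3 q9251 (flp_h L264836) q11144,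 e3 q9252 (flp_h L266015) q11231, e3 q9253 (flp_h L264852) q11146, e3 q9254 (flp_h L266030) q11233, e3 q9255 (flp_h L266038) q11234, e3 q9256 L266179 q11256, e3 q9257 (flp_h L266053) q11236, e3 q9258 (flp_h L266060) q11237, e3 q9259 L266218 q11262, e3 q9260 (flp_h L266075) q11239, e3 q9261 L266234 q11265, e3 q9262 (flp_h L183101) q7546, e3 q9263 L183111 q7929, e3 q9264 L502695 q10816, e3 q9265 L183126 q7930, e3 q9266 L575907 q10811, e3 q9267 L183150 q7931, e3 q9268 L575761 q9971, e3 q9269 L183174 q7932, e3 q9270 L575738 q9974, e3 q9271 (flp_h L183197) q7555, e3 q9272 L183212 q7632, e3 q9273 (flp_h L265018) q11161, e3 q9274 L183226 q7634, e3 q9275 L183232 q7635, e3 q9276 L266425 q11282, e3 q9277 L183251 q7637, e3 q9278 L266453 q11285, e3 q9279 L183270 q7639, trivial⟩ (by decide +kernel)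

theorem ce_h_145 : ∀ r, r < 64 → sm gh (Qf (9280 + r)) = Qf (tab Gen.h (9280 + r)) :=
  edges_tab (sm gh) Qf (tab Gen.h) 9280 [(9280, 11288), (9281, 7562), (9282, 7642), (9283, 11290), (9284, 7564), (9285, 7645), (9286, 11172), (9287, 7647), (9288, 7648), (9289, 11296), (9290, 7650), (9291, 7649), (9292, 11295), (9293, 11294), (9294, 7571), (9295, 7652), (9296, 7805), (9297, 7573), (9298, 7654), (9299, 11304), (9300, 7575), (9301, 11306), (9302, 7578), (9303, 10895), (9304, 10513), (9305, 11310), (9306, 11312), (9307, 7581), (9308, 7582), (9309, 7622), (9310, 10507), (9311, 7586), (9312, 11160), (9313, 11162), (9314, 11163), (9315, 11165), (9316, 11167), (9317, 11169), (9318, 11171), (9319, 7646), (9320, 11173), (9321, 11174), (9322, 11300), (9323, 11176), (9324, 11177), (9325, 11329), (9326, 11330), (9327, 7597), (9328, 11181), (9329, 11333), (9330, 7599), (9331, 11184), (9332, 11335), (9333, 7601), (9334, 11337), (9335, 7604), (9336, 9336), (9337, 11340), (9338, 11341), (9339, 7606), (9340, 7607), (9341, 10383), (9342,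 10566), (9343, 7611)]
    ⟨e3 q9280 L266484 q11288, e3 q9281 (flp_h L183282) q7562, e3 q9282 L183299 q7642, e3 q9283 L266503 q11290, e3 q9284 (flp_h L183310) q7564, e3 q9285 L183325 q7645, e3 q9286 (flp_h L265124) q11172, e3 q9287 L183340 q7647, e3 q9288 L183347 q7648, e3 q9289 L266579 q11296, e3 q9290 L183364 q7650, e3 q9291 (flp_h L647068) q7649, e3 q9292 L628606 q11295, e3 q9293 L646950 q11294, e3 q9294 (flp_h L183389) q7571, e3 q9295 L183403 q7652, e3 q9296 L647349 q7805, e3 q9297 (flp_h L183415) q7573, e3 q9298 L183431 q7654, e3 q9299 L266681 q11304, e3 q9300 (flp_h L183442) q7575, e3 q9301 L266698 q11306, e3 q9302 (flp_h L183461) q7578, e3 q9303 (flp_h L261473) q10895, e3 q9304 L562259 q10513, e3 q9305 L267404 q11310, e3 q9306 L267419 q11312, e3 q9307 (flp_h L183954) q7581, e3 q9308 (flp_h L183959) q7582, e3 q9309 L183981 q7622, e3 q9310 L562266 q10507, e3 q9311 (flp_h L184183) q7586, e3 q9312 (flp_h L265008) q11160, e3 q9313 (flp_h L265024) q11162, e3 q9314 (flp_h L265030) q11163, e3 q9315 (flp_h L265047) q11165, e3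 q9316 (flp_h L265064) q11167, e3 q9317 (flp_h L265092) q11169, e3 q9318 (flp_h L265116) q11171, e3 q9319 L184301 q7646, e3 q9320 (flp_h L265133) q11173, e3 q9321 (flp_h L265140) q11174, e3 q9322 L646829 q11300, e3 q9323 (flp_h L265156) q11176, e3 q9324 (flp_h L265163) q11177, e3 q9325 L267996 q11329, e3 q9326 L268003 q11330, e3 q9327 (flp_h L184353) q7597, e3 q9328 (flp_h L265194) q11181, e3 q9329 L268026 q11333, e3 q9330 (flp_h L184377) q7599, e3 q9331 (flp_h L265221) q11184, e3 q9332 L268044 q11335, e3 q9333 (flp_h L184401) q7601, e3 q9334 L268059 q11337, e3 q9335 (flp_h L184417) q7604, e3 q9336 L184429 q9336, e3 q9337 L268289 q11340, e3 q9338 L268304 q11341, e3 q9339 (flp_h L184577) q7606, e3 q9340 (flp_h L184583) q7607, e3 q9341 L562433 q10383, e3 q9342 L490053 q10566, e3 q9343 (flp_h L184718) q7611, trivial⟩ (by decide +kernel)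

theorem ce_h_146 : ∀ r, r < 64 → sm gh (Qf (9344 + r)) = Qf (tab Gen.h (9344 + r)) :=
  edges_tab (sm gh) Qf (tab Gen.h) 9344 [(9344, 11214), (9345, 11216), (9346, 11217), (9347, 11219), (9348, 11221), (9349, 11223), (9350, 11351), (9351, 7617), (9352, 11354), (9353, 7618), (9354, 7627), (9355, 11313), (9356, 7628), (9357, 11314), (9358, 7629), (9359, 10435), (9360, 7630), (9361, 10437), (9362, 7625), (9363, 11355), (9364, 11357), (9365, 11358), (9366, 11360), (9367, 11362), (9368, 11364), (9369, 11273), (9370, 10538), (9371, 11275), (9372, 11276), (9373, 11298), (9374, 11278), (9375, 11279), (9376, 11379), (9377, 11293), (9378, 7636), (9379, 11283), (9380, 11381), (9381, 7638), (9382, 11286), (9383, 11383), (9384, 7640), (9385, 11385), (9386, 7643), (9387, 10419), (9388, 11297), (9389, 11301), (9390, 11388), (9391, 7655), (9392, 9392), (9393, 7657), (9394, 9394), (9395, 9395), (9396, 9396), (9397, 9397), (9398, 9398), (9399, 9399), (9400, 9400), (9401, 11392), (9402, 9402), (9403, 9403), (9404, 9824), (9405, 9828), (9406,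 11398), (9407, 7835)]
    ⟨e3 q9344 (flp_h L265848) q11214, e3 q9345 (flp_h L265865) q11216, e3 q9346 (flp_h L265872) q11217, e3 q9347 (flp_h L265894) q11219, e3 q9348 (flp_h L265914) q11221, e3 q9349 (flp_h L265944) q11223, e3 q9350 L268675 q11351, e3 q9351 (flp_h L184849) q7617, e3 q9352 L268697 q11354, e3 q9353 (flp_h L184862) q7618, e3 q9354 L184874 q7627, e3 q9355 (flp_h L267438) q11313, e3 q9356 L184888 q7628, e3 q9357 (flp_h L267456) q11314, e3 q9358 L184903 q7629, e3 q9359 (flp_h L562451) q10435, e3 q9360 L184917 q7630, e3 q9361 L508789 q10437, e3 q9362 (flp_h L184933) q7625, e3 q9363 (flp_h L268710) q11355, e3 q9364 (flp_h L268723) q11357, e3 q9365 (flp_h L268728) q11358, e3 q9366 (flp_h L268744) q11360, e3 q9367 (flp_h L268760) q11362, e3 q9368 (flp_h L268783) q11364, e3 q9369 (flp_h L266358) q11273, e3 q9370 (flp_h L562966) q10538, e3 q9371 (flp_h L266373) q11275, e3 q9372 (flp_h L266381) q11276, e3 q9373 L646549 q11298, e3 q9374 (flp_h L266399) q11278, e3 q9375 (flp_h L266407) q11279, e3 q9376 L269042 q11379, e3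 q9377 (flp_h L646912) q11293, e3 q9378 (flp_h L185106) q7636, e3 q9379 (flp_h L266440) q11283, e3 q9380 L269076 q11381, e3 q9381 (flp_h L185130) q7638, e3 q9382 (flp_h L266472) q11286, e3 q9383 L269095 q11383, e3 q9384 (flp_h L185157) q7640, e3 q9385 L269109 q11385, e3 q9386 (flp_h L185174) q7643, e3 q9387 (flp_h L546588) q10419, e3 q9388 (flp_h L266592) q11297, e3 q9389 (flp_h L266648) q11301, e3 q9390 L269334 q11388, e3 q9391 (flp_h L185338) q7655, e3 q9392 L185351 q9392, e3 q9393 (flp_h L185352) q7657, e3 q9394 L185365 q9394, e3 q9395 L185370 q9395, e3 q9396 L185545 q9396, e3 q9397 L185575 q9397, e3 q9398 L185660 q9398, e3 q9399 L185670 q9399, e3 q9400 L185678 q9400, e3 q9401 L269893 q11392, e3 q9402 L185699 q9402, e3 q9403 L185788 q9403, e3 q9404 (flp_h L642423) q9824, e3 q9405 L642399 q9828, e3 q9406 L270094 q11398, e3 q9407 (flp_h L621700) q7835, trivial⟩ (by decide +kernel)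

theorem ce_h_147 : ∀ r, r < 64 → sm gh (Qf (9408 + r)) = Qf (tab Gen.h (9408 + r)) :=
  edges_tab (sm gh) Qf (tab Gen.h) 9408 [(9408, 9408), (9409, 7970), (9410, 10648), (9411, 7971), (9412, 10646), (9413, 7972), (9414, 9830), (9415, 9415), (9416, 9416), (9417, 9417), (9418, 9418), (9419, 9419), (9420, 11409), (9421, 9421), (9422, 11412), (9423, 7683), (9424, 9424), (9425, 9425), (9426, 9426), (9427, 9427), (9428, 11420), (9429, 9429), (9430, 11423), (9431, 9431), (9432, 11426), (9433, 7691), (9434, 9434), (9435, 11428), (9436, 7693), (9437, 9437), (9438, 9834), (9439, 11431), (9440, 9440), (9441, 9441), (9442, 9442), (9443, 9443), (9444, 9444), (9445, 9445), (9446, 11436), (9447, 9447), (9448, 11439), (9449, 7705), (9450, 7713), (9451, 7714), (9452, 11403), (9453, 9453), (9454, 9454), (9455, 9880), (9456, 9887), (9457, 11450), (9458, 11440), (9459, 11441), (9460, 11456), (9461, 11443), (9462, 11459), (9463, 7715), (9464, 7982), (9465, 10708), (9466, 7983), (9467, 10706), (9468, 7984), (9469, 9890), (9470, 7985), (9471, 9891)]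
    ⟨e3 q9408 L185831 q9408, e3 q9409 L185837 q7970, e3 q9410 (flp_h L549815) q10648, e3 q9411 L185852 q7971, e3 q9412 L592034 q10646, e3 q9413 L185877 q7972, e3 q9414 L574858 q9830, e3 q9415 L185924 q9415, e3 q9416 L185933 q9416, e3 q9417 L185942 q9417, e3 q9418 L185953 q9418, e3 q9419 L185958 q9419, e3 q9420 L270283 q11409, e3 q9421 L185972 q9421, e3 q9422 L270308 q11412, e3 q9423 (flp_h L185982) q7683, e3 q9424 L186008 q9424, e3 q9425 L186018 q9425, e3 q9426 L186025 q9426, e3 q9427 L186031 q9427, e3 q9428 L270391 q11420, e3 q9429 L186048 q9429, e3 q9430 L270417 q11423, e3 q9431 L186064 q9431, e3 q9432 L270440 q11426, e3 q9433 (flp_h L186073) q7691, e3 q9434 L186086 q9434, e3 q9435 L270457 q11428, e3 q9436 (flp_h L186096) q7693, e3 q9437 L186371 q9437, e3 q9438 L642452 q9834, e3 q9439 L270950 q11431, e3 q9440 L186412 q9440, e3 q9441 L186509 q9441, e3 q9442 L186520 q9442, e3 q9443 L186528 q9443, e3 q9444 L186538 q9444, e3 q9445 L186545 q9445, e3 q9446 L271150 q11436, e3 q9447 L186558 q9447, e3 q9448 L271172 q11439, e3 q9449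 (flp_h L186567) q7705, e3 q9450 L186620 q7713, e3 q9451 L186626 q7714, e3 q9452 (flp_h L633583) q11403, e3 q9453 L186672 q9453, e3 q9454 L186687 q9454, e3 q9455 (flp_h L642620) q9880, e3 q9456 L642600 q9887, e3 q9457 L271400 q11450, e3 q9458 (flp_h L271258) q11440, e3 q9459 (flp_h L271265) q11441, e3 q9460 L271436 q11456, e3 q9461 (flp_h L271278) q11443, e3 q9462 L271455 q11459, e3 q9463 (flp_h L186738) q7715, e3 q9464 L186748 q7982, e3 q9465 (flp_h L483283) q10708, e3 q9466 L186762 q7983, e3 q9467 (flp_h L591889) q10706, e3 q9468 L186788 q7984, e3 q9469 L501721 q9890, e3 q9470 L186810 q7985, e3 q9471 L554940 q9891, trivial⟩ (by decide +kernel)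

theorem ce_h_148 : ∀ r, r < 64 → sm gh (Qf (9472 + r)) = Qf (tab Gen.h (9472 + r)) :=
  edges_tab (sm gh) Qf (tab Gen.h) 9472 [(9472, 9472), (9473, 9473), (9474, 9474), (9475, 9475), (9476, 11471), (9477, 9477), (9478, 11474), (9479, 9479), (9480, 11477), (9481, 7730), (9482, 9482), (9483, 11479), (9484, 7732), (9485, 9485), (9486, 9486), (9487, 11483), (9488, 9488), (9489, 9489), (9490, 11488), (9491, 11489), (9492, 7739), (9493, 9493), (9494, 11492), (9495, 7741), (9496, 9496), (9497, 11494), (9498, 7743), (9499, 11496), (9500, 7746), (9501, 9501), (9502, 9502), (9503, 9503), (9504, 9504), (9505, 9505), (9506, 9506), (9507, 11505), (9508, 9508), (9509, 11508), (9510, 7753), (9511, 7812), (9512, 9512), (9513, 7813), (9514, 7814), (9515, 11515), (9516, 7816), (9517, 11518), (9518, 7818), (9519, 11521), (9520, 7761), (9521, 7821), (9522, 11523), (9523, 7763), (9524, 9524), (9525, 9525), (9526, 9526), (9527, 9527), (9528, 11532), (9529, 9529), (9530, 9530), (9531, 11538), (9532, 9532), (9533, 9533), (9534, 11544), (9535, 9535)]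
    ⟨e3 q9472 L186853 q9472, e3 q9473 L186864 q9473, e3 q9474 L186870 q9474, e3 q9475 L186876 q9475, e3 q9476 L271647 q11471, e3 q9477 L186892 q9477, e3 q9478 L271669 q11474, e3 q9479 L186905 q9479, e3 q9480 L271692 q11477, e3 q9481 (flp_h L186914) q7730, e3 q9482 L186927 q9482, e3 q9483 L271706 q11479, e3 q9484 (flp_h L186935) q7732, e3 q9485 L186957 q9485, e3 q9486 L186965 q9486, e3 q9487 L271779 q11483, e3 q9488 L186990 q9488, e3 q9489 L186997 q9489, e3 q9490 L271825 q11488, e3 q9491 L271834 q11489, e3 q9492 (flp_h L187015) q7739, e3 q9493 L187028 q9493, e3 q9494 L271855 q11492, e3 q9495 (flp_h L187037) q7741, e3 q9496 L187049 q9496, e3 q9497 L271871 q11494, e3 q9498 (flp_h L187058) q7743, e3 q9499 L271886 q11496, e3 q9500 (flp_h L187073) q7746, e3 q9501 L187085 q9501, e3 q9502 L187336 q9502, e3 q9503 L187346 q9503, e3 q9504 L187354 q9504, e3 q9505 L187366 q9505, e3 q9506 L187373 q9506, e3 q9507 L272398 q11505, e3 q9508 L187399 q9508, e3 q9509 L272447 q11508, e3 q9510 (flp_h L187436) q7753, e3 q9511 L187562 q7812, e3 q9512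 L187573 q9512, e3 q9513 L187581 q7813, e3 q9514 L187589 q7814, e3 q9515 L272689 q11515, e3 q9516 L187608 q7816, e3 q9517 L272717 q11518, e3 q9518 L187624 q7818, e3 q9519 L272744 q11521, e3 q9520 (flp_h L187635) q7761, e3 q9521 L187650 q7821, e3 q9522 L272763 q11523, e3 q9523 (flp_h L187661) q7763, e3 q9524 L187687 q9524, e3 q9525 L187697 q9525, e3 q9526 L187703 q9526, e3 q9527 L187710 q9527, e3 q9528 L272859 q11532, e3 q9529 L187724 q9529, e3 q9530 L187733 q9530, e3 q9531 L272911 q11538, e3 q9532 L187750 q9532, e3 q9533 L187758 q9533, e3 q9534 L272957 q11544, e3 q9535 L187772 q9535, trivial⟩ (by decide +kernel)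

theorem ce_h_149 : ∀ r, r < 64 → sm gh (Qf (9536 + r)) = Qf (tab Gen.h (9536 + r)) :=
  edges_tab (sm gh) Qf (tab Gen.h) 9536 [(9536, 11547), (9537, 7772), (9538, 9538), (9539, 9539), (9540, 11552), (9541, 9541), (9542, 11555), (9543, 7775), (9544, 9544), (9545, 11559), (9546, 7777), (9547, 7986), (9548, 10825), (9549, 7987), (9550, 10823), (9551, 7988), (9552, 9984), (9553, 9987), (9554, 9554), (9555, 7824), (9556, 7809), (9557, 7825), (9558, 7826), (9559, 11570), (9560, 11302), (9561, 7792), (9562, 7827), (9563, 11567), (9564, 7794), (9565, 7828), (9566, 11565), (9567, 7796), (9568, 11574), (9569, 7799), (9570, 11556), (9571, 7817), (9572, 7815), (9573, 11510), (9574, 7810), (9575, 11509), (9576, 11511), (9577, 11512), (9578, 11571), (9579, 11516), (9580, 11566), (9581, 11519), (9582, 11582), (9583, 7819), (9584, 11584), (9585, 7822), (9586, 9586), (9587, 11587), (9588, 9588), (9589, 7830), (9590, 9590), (9591, 9591), (9592, 9592), (9593, 10657), (9594, 7843), (9595, 7848), (9596, 11591), (9597, 10724), (9598, 10726), (9599,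 11595)]
    ⟨e3 q9536 L272979 q11547, e3 q9537 (flp_h L187782) q7772, e3 q9538 L187796 q9538, e3 q9539 L187803 q9539, e3 q9540 L273019 q11552, e3 q9541 L187818 q9541, e3 q9542 L273041 q11555, e3 q9543 (flp_h L187827) q7775, e3 q9544 L187840 q9544, e3 q9545 L273073 q11559, e3 q9546 (flp_h L187850) q7777, e3 q9547 L187862 q7986, e3 q9548 (flp_h L568005) q10825, e3 q9549 L187884 q7987, e3 q9550 (flp_h L568016) q10823, e3 q9551 L187907 q7988, e3 q9552 L554958 q9984, e3 q9553 (flp_h L475501) q9987, e3 q9554 L187982 q9554, e3 q9555 L187989 q7824, e3 q9556 L647763 q7809, e3 q9557 L188014 q7825, e3 q9558 L188023 q7826, e3 q9559 L273321 q11570, e3 q9560 L646273 q11302, e3 q9561 (flp_h L188039) q7792, e3 q9562 (flp_h L646295) q7827, e3 q9563 (flp_h L646675) q11567, e3 q9564 (flp_h L188065) q7794, e3 q9565 L188081 q7828, e3 q9566 (flp_h L646411) q11565, e3 q9567 (flp_h L188091) q7796, e3 q9568 L273391 q11574, e3 q9569 (flp_h L188107) q7799, e3 q9570 (flp_h L273055) q11556, e3 q9571 L646652 q7817, e3 q9572 (flp_h L646092) q7815, e3 q9573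 (flp_h L646147) q11510, e3 q9574 (flp_h L188303) q7810, e3 q9575 (flp_h L272633) q11509, e3 q9576 (flp_h L272660) q11511, e3 q9577 (flp_h L272670) q11512, e3 q9578 (flp_h L646248) q11571, e3 q9579 (flp_h L272705) q11516, e3 q9580 (flp_h L645813) q11566, e3 q9581 (flp_h L272733) q11519, e3 q9582 L273871 q11582, e3 q9583 (flp_h L188462) q7819, e3 q9584 L273886 q11584, e3 q9585 (flp_h L188480) q7822, e3 q9586 L188494 q9586, e3 q9587 L274059 q11587, e3 q9588 L188660 q9588, e3 q9589 (flp_h L188661) q7830, e3 q9590 L188675 q9590, e3 q9591 L188680 q9591, e3 q9592 L189324 q9592, e3 q9593 (flp_h L257668) q10657, e3 q9594 (flp_h L194679) q7843, e3 q9595 (flp_h L195058) q7848, e3 q9596 (flp_h L283021) q11591, e3 q9597 (flp_h L259056) q10724, e3 q9598 (flp_h L259081) q10726, e3 q9599 L286057 q11595, trivial⟩ (by decide +kernel)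

theorem ce_h_150 : ∀ r, r < 64 → sm gh (Qf (9600 + r)) = Qf (tab Gen.h (9600 + r)) :=
  edges_tab (sm gh) Qf (tab Gen.h) 9600 [(9600, 11596), (9601, 7856), (9602, 7873), (9603, 10309), (9604, 11598), (9605, 7860), (9606, 7863), (9607, 7866), (9608, 7926), (9609, 11600), (9610, 11603), (9611, 7869), (9612, 7870), (9613, 7874), (9614, 11597), (9615, 7875), (9616, 7876), (9617, 11599), (9618, 11606), (9619, 10855), (9620, 10857), (9621, 10859), (9622, 10861), (9623, 7884), (9624, 7885), (9625, 11612), (9626, 10953), (9627, 10955), (9628, 7889), (9629, 7892), (9630, 7894), (9631, 7899), (9632, 7895), (9633, 11615), (9634, 11616), (9635, 7900), (9636, 11592), (9637, 11619), (9638, 11081), (9639, 11083), (9640, 11085), (9641, 11624), (9642, 11625), (9643, 7904), (9644, 7919), (9645, 11627), (9646, 7908), (9647, 7909), (9648, 7913), (9649, 7924), (9650, 7914), (9651, 11602), (9652, 11630), (9653, 11633), (9654, 7916), (9655, 7917), (9656, 11626), (9657, 7920), (9658, 11628), (9659, 11629), (9660, 7927), (9661, 11601), (9662, 7928),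 (9663, 10806)]
    ⟨e3 q9600 L286065 q11596, e3 q9601 (flp_h L196743) q7856, e3 q9602 L196765 q7873, e3 q9603 (flp_h L533215) q10309, e3 q9604 L286634 q11598, e3 q9605 (flp_h L197144) q7860, e3 q9606 (flp_h L197320) q7863, e3 q9607 L197333 q7866, e3 q9608 L456604 q7926, e3 q9609 (flp_h L286933) q11600, e3 q9610 L287318 q11603, e3 q9611 (flp_h L197611) q7869, e3 q9612 (flp_h L197619) q7870, e3 q9613 L197633 q7874, e3 q9614 (flp_h L286088) q11597, e3 q9615 L197646 q7875, e3 q9616 L197655 q7876, e3 q9617 (flp_h L590540) q11599, e3 q9618 (flp_h L287392) q11606, e3 q9619 (flp_h L261118) q10855, e3 q9620 (flp_h L261135) q10857, e3 q9621 (flp_h L261162) q10859, e3 q9622 (flp_h L261189) q10861, e3 q9623 (flp_h L198260) q7884, e3 q9624 (flp_h L198644) q7885, e3 q9625 (flp_h L288238) q11612, e3 q9626 (flp_h L262418) q10953, e3 q9627 (flp_h L262444) q10955, e3 q9628 (flp_h L199363) q7889, e3 q9629 (flp_h L199587) q7892, e3 q9630 L199595 q7894, e3 q9631 L199601 q7899, e3 q9632 (flp_h L200098) q7895, e3 q9633 (flp_h L289872) q11615, e3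 q9634 (flp_h L290185) q11616, e3 q9635 L200433 q7900, e3 q9636 (flp_h L473777) q11592, e3 q9637 (flp_h L291426) q11619, e3 q9638 (flp_h L263936) q11081, e3 q9639 (flp_h L263964) q11083, e3 q9640 (flp_h L263988) q11085, e3 q9641 L292259 q11624, e3 q9642 L292268 q11625, e3 q9643 (flp_h L201050) q7904, e3 q9644 L201074 q7919, e3 q9645 L292684 q11627, e3 q9646 (flp_h L201357) q7908, e3 q9647 (flp_h L201364) q7909, e3 q9648 L201375 q7913, e3 q9649 L201383 q7924, e3 q9650 L201389 q7914, e3 q9651 (flp_h L590536) q11602, e3 q9652 (flp_h L292745) q11630, e3 q9653 L293750 q11633, e3 q9654 (flp_h L202081) q7916, e3 q9655 (flp_h L202090) q7917, e3 q9656 (flp_h L292293) q11626, e3 q9657 (flp_h L202363) q7920, e3 q9658 (flp_h L292723) q11628, e3 q9659 (flp_h L292739) q11629, e3 q9660 L202421 q7927, e3 q9661 (flp_h L590528) q11601, e3 q9662 L202434 q7928, e3 q9663 L590550 q10806, trivial⟩ (by decide +kernel)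

theorem ce_h_151 : ∀ r, r < 64 → sm gh (Qf (9664 + r)) = Qf (tab Gen.h (9664 + r)) :=
  edges_tab (sm gh) Qf (tab Gen.h) 9664 [(9664, 11638), (9665, 11640), (9666, 11266), (9667, 11268), (9668, 11270), (9669, 11646), (9670, 7933), (9671, 7934), (9672, 7961), (9673, 11649), (9674, 7938), (9675, 7939), (9676, 7946), (9677, 7965), (9678, 7947), (9679, 7966), (9680, 7948), (9681, 9681), (9682, 7949), (9683, 9683), (9684, 7950), (9685, 10331), (9686, 7952), (9687, 7953), (9688, 10329), (9689, 7957), (9690, 7958), (9691, 11647), (9692, 11648), (9693, 7962), (9694, 9694), (9695, 11651), (9696, 11652), (9697, 7969), (9698, 9772), (9699, 11667), (9700, 10645), (9701, 11401), (9702, 7979), (9703, 9784), (9704, 7980), (9705, 7981), (9706, 9783), (9707, 11670), (9708, 11673), (9709, 11460), (9710, 11462), (9711, 11464), (9712, 11560), (9713, 11562), (9714, 7995), (9715, 9768), (9716, 7996), (9717, 7998), (9718, 9718), (9719, 9719), (9720, 9720), (9721, 9721), (9722, 9722), (9723, 9723), (9724, 9724), (9725, 9725), (9726, 9726), (9727,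 9727)]
    ⟨e3 q9664 (flp_h L294195) q11638, e3 q9665 (flp_h L294215) q11640, e3 q9666 (flp_h L266245) q11266, e3 q9667 (flp_h L266269) q11268, e3 q9668 (flp_h L266295) q11270, e3 q9669 L294767 q11646, e3 q9670 (flp_h L202857) q7933, e3 q9671 (flp_h L202864) q7934, e3 q9672 L202885 q7961, e3 q9673 L295112 q11649, e3 q9674 (flp_h L203102) q7938, e3 q9675 (flp_h L203117) q7939, e3 q9676 L203130 q7946, e3 q9677 L203138 q7965, e3 q9678 L203146 q7947, e3 q9679 L203154 q7966, e3 q9680 L203160 q7948, e3 q9681 L203176 q9681, e3 q9682 L203181 q7949, e3 q9683 L203197 q9683, e3 q9684 (flp_h L203484) q7950, e3 q9685 L561643 q10331, e3 q9686 (flp_h L203522) q7952, e3 q9687 (flp_h L203531) q7953, e3 q9688 (flp_h L561780) q10329, e3 q9689 (flp_h L203566) q7957, e3 q9690 (flp_h L203581) q7958, e3 q9691 (flp_h L294808) q11647, e3 q9692 (flp_h L294826) q11648, e3 q9693 (flp_h L203613) q7962, e3 q9694 L203625 q9694, e3 q9695 (flp_h L295130) q11651, e3 q9696 (flp_h L295155) q11652, e3 q9697 L204221 q7969, e3 q9698 (flp_h L644914) q9772, e3 q9699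 (flp_h L296676) q11667, e3 q9700 L645139 q10645, e3 q9701 (flp_h L270147) q11401, e3 q9702 L205295 q7979, e3 q9703 L641434 q9784, e3 q9704 L205317 q7980, e3 q9705 L205329 q7981, e3 q9706 L630942 q9783, e3 q9707 (flp_h L298218) q11670, e3 q9708 (flp_h L298290) q11673, e3 q9709 (flp_h L271465) q11460, e3 q9710 (flp_h L271491) q11462, e3 q9711 (flp_h L271516) q11464, e3 q9712 (flp_h L273092) q11560, e3 q9713 (flp_h L273117) q11562, e3 q9714 L206793 q7995, e3 q9715 L634194 q9768, e3 q9716 L206833 q7996, e3 q9717 L207796 q7998, e3 q9718 L241467 q9718, e3 q9719 L241514 q9719, e3 q9720 L241524 q9720, e3 q9721 L241570 q9721, e3 q9722 L241612 q9722, e3 q9723 L241633 q9723, e3 q9724 L241685 q9724, e3 q9725 L241695 q9725, e3 q9726 L241742 q9726, e3 q9727 L241790 q9727, trivial⟩ (by decide +kernel)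

theorem ce_h_152 : ∀ r, r < 64 → sm gh (Qf (9728 + r)) = Qf (tab Gen.h (9728 + r)) :=
  edges_tab (sm gh) Qf (tab Gen.h) 9728 [(9728, 9728), (9729, 9729), (9730, 11686), (9731, 8754), (9732, 9732), (9733, 9733), (9734, 9734), (9735, 8792), (9736, 9736), (9737, 9737), (9738, 9738), (9739, 9739), (9740, 9740), (9741, 9741), (9742, 11694), (9743, 9743), (9744, 9744), (9745, 9745), (9746, 9746), (9747, 9747), (9748, 9748), (9749, 9749), (9750, 11700), (9751, 9751), (9752, 11703), (9753, 8041), (9754, 9754), (9755, 9755), (9756, 9756), (9757, 11708), (9758, 9758), (9759, 9759), (9760, 9760), (9761, 9761), (9762, 9762), (9763, 9763), (9764, 11715), (9765, 9765), (9766, 11718), (9767, 8052), (9768, 9715), (9769, 8707), (9770, 8054), (9771, 8706), (9772, 9698), (9773, 11721), (9774, 8718), (9775, 8065), (9776, 8719), (9777, 8068), (9778, 8714), (9779, 8713), (9780, 8709), (9781, 8711), (9782, 8075), (9783, 9706), (9784, 9703), (9785, 11727), (9786, 8081), (9787, 8739), (9788, 8082), (9789, 11730), (9790, 8744), (9791, 8085)]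
    ⟨e3 q9728 L241798 q9728, e3 q9729 L241806 q9729, e3 q9730 L351266 q11686, e3 q9731 L645216 q8754, e3 q9732 L241854 q9732, e3 q9733 L241875 q9733, e3 q9734 L241917 q9734, e3 q9735 (flp_h L636875) q8792, e3 q9736 L241943 q9736, e3 q9737 L241976 q9737, e3 q9738 L241985 q9738, e3 q9739 L242040 q9739, e3 q9740 L242050 q9740, e3 q9741 L242058 q9741, e3 q9742 L351647 q11694, e3 q9743 L242105 q9743, e3 q9744 L242115 q9744, e3 q9745 L242135 q9745, e3 q9746 L242190 q9746, e3 q9747 L242206 q9747, e3 q9748 L242214 q9748, e3 q9749 L242221 q9749, e3 q9750 L351885 q11700, e3 q9751 L242239 q9751, e3 q9752 L351911 q11703, e3 q9753 (flp_h L242249) q8041, e3 q9754 L242289 q9754, e3 q9755 L242298 q9755, e3 q9756 L242305 q9756, e3 q9757 L352006 q11708, e3 q9758 L242325 q9758, e3 q9759 L242348 q9759, e3 q9760 L242356 q9760, e3 q9761 L242365 q9761, e3 q9762 L242375 q9762, e3 q9763 L242383 q9763, e3 q9764 L352102 q11715, e3 q9765 L242401 q9765, e3 q9766 L352129 q11718, e3 q9767 (flp_h L242412) q8052, e3 q9768 (flp_h L634194) q9715, e3 q9769 L641865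 q8707, e3 q9770 (flp_h L242464) q8054, e3 q9771 (flp_h L641929) q8706, e3 q9772 L644914 q9698, e3 q9773 L352662 q11721, e3 q9774 L644923 q8718, e3 q9775 (flp_h L242754) q8065, e3 q9776 (flp_h L644354) q8719, e3 q9777 (flp_h L242796) q8068, e3 q9778 (flp_h L631045) q8714, e3 q9779 (flp_h L644996) q8713, e3 q9780 (flp_h L644927) q8709, e3 q9781 L644960 q8711, e3 q9782 (flp_h L242955) q8075, e3 q9783 (flp_h L630942) q9706, e3 q9784 (flp_h L641434) q9703, e3 q9785 L353291 q11727, e3 q9786 (flp_h L243177) q8081, e3 q9787 (flp_h L634449) q8739, e3 q9788 (flp_h L243194) q8082, e3 q9789 L353347 q11730, e3 q9790 (flp_h L631774) q8744, e3 q9791 (flp_h L243232) q8085, trivial⟩ (by decide +kernel)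

theorem ce_h_153 : ∀ r, r < 64 → sm gh (Qf (9792 + r)) = Qf (tab Gen.h (9792 + r)) :=
  edges_tab (sm gh) Qf (tab Gen.h) 9792 [(9792, 8152), (9793, 8102), (9794, 8732), (9795, 8828), (9796, 8730), (9797, 8723), (9798, 11738), (9799, 8725), (9800, 8094), (9801, 8180), (9802, 8728), (9803, 8098), (9804, 11741), (9805, 11743), (9806, 8103), (9807, 9807), (9808, 8126), (9809, 11749), (9810, 8105), (9811, 11752), (9812, 8106), (9813, 8131), (9814, 8788), (9815, 11754), (9816, 8110), (9817, 8132), (9818, 8136), (9819, 8112), (9820, 8138), (9821, 11760), (9822, 8115), (9823, 11765), (9824, 9404), (9825, 8116), (9826, 9826), (9827, 9026), (9828, 9405), (9829, 8118), (9830, 9414), (9831, 11772), (9832, 11775), (9833, 8122), (9834, 9438), (9835, 8123), (9836, 9836), (9837, 11745), (9838, 9838), (9839, 11783), (9840, 11750), (9841, 8804), (9842, 8127), (9843, 8752), (9844, 11751), (9845, 11753), (9846, 11755), (9847, 8789), (9848, 11757), (9849, 11788), (9850, 11791), (9851, 8139), (9852, 11794), (9853, 8140), (9854, 9854), (9855, 8174)]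
    ⟨e3 q9792 L243246 q8152, e3 q9793 L243256 q8102, e3 q9794 L645027 q8732, e3 q9795 (flp_h L645198) q8828, e3 q9796 (flp_h L634595) q8730, e3 q9797 (flp_h L634558) q8723, e3 q9798 L353701 q11738, e3 q9799 (flp_h L634631) q8725, e3 q9800 (flp_h L243454) q8094, e3 q9801 L243468 q8180, e3 q9802 (flp_h L631809) q8728, e3 q9803 (flp_h L243501) q8098, e3 q9804 L353995 q11741, e3 q9805 L354019 q11743, e3 q9806 (flp_h L243668) q8103, e3 q9807 L243686 q9807, e3 q9808 L243698 q8126, e3 q9809 L354090 q11749, e3 q9810 (flp_h L243708) q8105, e3 q9811 L354119 q11752, e3 q9812 (flp_h L243729) q8106, e3 q9813 L243746 q8131, e3 q9814 L636236 q8788, e3 q9815 L354159 q11754, e3 q9816 (flp_h L243769) q8110, e3 q9817 (flp_h L632030) q8132, e3 q9818 L243797 q8136, e3 q9819 (flp_h L243799) q8112, e3 q9820 L243819 q8138, e3 q9821 L354240 q11760, e3 q9822 (flp_h L243831) q8115, e3 q9823 L354290 q11765, e3 q9824 L642423 q9404, e3 q9825 (flp_h L243861) q8116, e3 q9826 L243878 q9826, e3 q9827 L575472 q9026, e3 q9828 (flp_h L642399) q9405, e3 q9829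 (flp_h L243897) q8118, e3 q9830 (flp_h L574858) q9414, e3 q9831 L354430 q11772, e3 q9832 L354458 q11775, e3 q9833 (flp_h L243952) q8122, e3 q9834 (flp_h L642452) q9438, e3 q9835 (flp_h L243974) q8123, e3 q9836 L243991 q9836, e3 q9837 (flp_h L354048) q11745, e3 q9838 L244009 q9838, e3 q9839 L354553 q11783, e3 q9840 (flp_h L644154) q11750, e3 q9841 (flp_h L634670) q8804, e3 q9842 (flp_h L244036) q8127, e3 q9843 (flp_h L640377) q8752, e3 q9844 (flp_h L354117) q11751, e3 q9845 (flp_h L354137) q11753, e3 q9846 (flp_h L354185) q11755, e3 q9847 L644175 q8789, e3 q9848 (flp_h L354218) q11757, e3 q9849 L354941 q11788, e3 q9850 L354970 q11791, e3 q9851 (flp_h L244287) q8139, e3 q9852 L354998 q11794, e3 q9853 (flp_h L244308) q8140, e3 q9854 L244325 q9854, e3 q9855 L244334 q8174, trivial⟩ (by decide +kernel)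

theorem ce_h_154 : ∀ r, r < 64 → sm gh (Qf (9856 + r)) = Qf (tab Gen.h (9856 + r)) :=
  edges_tab (sm gh) Qf (tab Gen.h) 9856 [(9856, 11799), (9857, 11801), (9858, 11802), (9859, 8144), (9860, 11728), (9861, 8181), (9862, 8146), (9863, 8183), (9864, 11809), (9865, 8149), (9866, 8150), (9867, 11731), (9868, 8188), (9869, 8339), (9870, 11818), (9871, 8191), (9872, 11821), (9873, 11823), (9874, 8156), (9875, 9875), (9876, 8845), (9877, 8851), (9878, 11831), (9879, 8158), (9880, 9455), (9881, 8159), (9882, 9882), (9883, 9130), (9884, 9884), (9885, 11839), (9886, 11841), (9887, 9456), (9888, 8163), (9889, 8731), (9890, 9469), (9891, 9471), (9892, 11846), (9893, 8168), (9894, 11850), (9895, 11851), (9896, 8169), (9897, 11847), (9898, 11793), (9899, 8171), (9900, 9900), (9901, 11796), (9902, 9902), (9903, 11862), (9904, 9904), (9905, 11865), (9906, 8176), (9907, 11867), (9908, 8177), (9909, 8178), (9910, 8802), (9911, 11804), (9912, 8817), (9913, 11875), (9914, 11807), (9915, 11810), (9916, 8184), (9917, 8808), (9918, 11811), (9919,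 11813)]
    ⟨e3 q9856 L355064 q11799, e3 q9857 L355084 q11801, e3 q9858 L355094 q11802, e3 q9859 (flp_h L244373) q8144, e3 q9860 (flp_h L353306) q11728, e3 q9861 L244396 q8181, e3 q9862 (flp_h L244398) q8146, e3 q9863 L244416 q8183, e3 q9864 L355155 q11809, e3 q9865 (flp_h L244429) q8149, e3 q9866 (flp_h L244440) q8150, e3 q9867 (flp_h L353370) q11731, e3 q9868 L244464 q8188, e3 q9869 L632096 q8339, e3 q9870 L355236 q11818, e3 q9871 L244492 q8191, e3 q9872 L355262 q11821, e3 q9873 L355283 q11823, e3 q9874 (flp_h L244513) q8156, e3 q9875 L244530 q9875, e3 q9876 (flp_h L554645) q8845, e3 q9877 (flp_h L640415) q8851, e3 q9878 L355373 q11831, e3 q9879 (flp_h L244557) q8158, e3 q9880 L642620 q9455, e3 q9881 (flp_h L244576) q8159, e3 q9882 L244592 q9882, e3 q9883 L554925 q9130, e3 q9884 L244607 q9884, e3 q9885 L355458 q11839, e3 q9886 L355474 q11841, e3 q9887 (flp_h L642600) q9456, e3 q9888 (flp_h L244634) q8163, e3 q9889 (flp_h L630877) q8731, e3 q9890 (flp_h L501721) q9469, e3 q9891 (flp_h L554940) q9471, e3 q9892 L355549 q11846,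 e3 q9893 (flp_h L244684) q8168, e3 q9894 L355581 q11850, e3 q9895 L355593 q11851, e3 q9896 (flp_h L244709) q8169, e3 q9897 (flp_h L355562) q11847, e3 q9898 (flp_h L354996) q11793, e3 q9899 (flp_h L244735) q8171, e3 q9900 L244753 q9900, e3 q9901 (flp_h L355028) q11796, e3 q9902 L244768 q9902, e3 q9903 L355688 q11862, e3 q9904 L244783 q9904, e3 q9905 L355712 q11865, e3 q9906 (flp_h L244794) q8176, e3 q9907 L355729 q11867, e3 q9908 (flp_h L244809) q8177, e3 q9909 (flp_h L244819) q8178, e3 q9910 (flp_h L636000) q8802, e3 q9911 (flp_h L355117) q11804, e3 q9912 (flp_h L636053) q8817, e3 q9913 L355795 q11875, e3 q9914 (flp_h L355142) q11807, e3 q9915 (flp_h L644253) q11810, e3 q9916 (flp_h L244870) q8184, e3 q9917 L635096 q8808, e3 q9918 (flp_h L355184) q11811, e3 q9919 (flp_h L355201) q11813, trivial⟩ (by decide +kernel)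

theorem ce_h_155 : ∀ r, r < 64 → sm gh (Qf (9920 + r)) = Qf (tab Gen.h (9920 + r)) :=
  edges_tab (sm gh) Qf (tab Gen.h) 9920 [(9920, 8859), (9921, 8989), (9922, 9040), (9923, 8190), (9924, 11882), (9925, 8192), (9926, 11886), (9927, 11887), (9928, 8193), (9929, 11883), (9930, 8242), (9931, 8195), (9932, 9932), (9933, 8245), (9934, 9934), (9935, 11898), (9936, 8199), (9937, 11900), (9938, 8200), (9939, 8201), (9940, 9940), (9941, 8255), (9942, 9942), (9943, 11909), (9944, 8258), (9945, 11910), (9946, 8207), (9947, 9947), (9948, 8262), (9949, 9949), (9950, 8264), (9951, 9951), (9952, 11920), (9953, 9953), (9954, 11923), (9955, 8213), (9956, 11925), (9957, 11928), (9958, 8215), (9959, 11931), (9960, 8216), (9961, 9961), (9962, 8944), (9963, 9963), (9964, 11938), (9965, 11941), (9966, 8220), (9967, 11945), (9968, 11946), (9969, 8221), (9970, 11942), (9971, 9268), (9972, 8223), (9973, 9973), (9974, 9270), (9975, 9975), (9976, 11957), (9977, 9977), (9978, 11960), (9979, 8228), (9980, 11962), (9981, 8229), (9982, 8230), (9983,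 9983)]
    ⟨e3 q9920 L644221 q8859, e3 q9921 (flp_h L637468) q8989, e3 q9922 (flp_h L634790) q9040, e3 q9923 (flp_h L244942) q8190, e3 q9924 L356259 q11882, e3 q9925 (flp_h L245167) q8192, e3 q9926 L356297 q11886, e3 q9927 L356307 q11887, e3 q9928 (flp_h L245197) q8193, e3 q9929 (flp_h L356274) q11883, e3 q9930 L245225 q8242, e3 q9931 (flp_h L245227) q8195, e3 q9932 L245243 q9932, e3 q9933 L245252 q8245, e3 q9934 L245260 q9934, e3 q9935 L356413 q11898, e3 q9936 (flp_h L245290) q8199, e3 q9937 L356461 q11900, e3 q9938 (flp_h L245308) q8200, e3 q9939 (flp_h L245316) q8201, e3 q9940 L245332 q9940, e3 q9941 L245341 q8255, e3 q9942 L245349 q9942, e3 q9943 L356540 q11909, e3 q9944 L245368 q8258, e3 q9945 L356551 q11910, e3 q9946 (flp_h L245381) q8207, e3 q9947 L245397 q9947, e3 q9948 L245407 q8262, e3 q9949 L245416 q9949, e3 q9950 L245427 q8264, e3 q9951 L245435 q9951, e3 q9952 L356643 q11920, e3 q9953 L245454 q9953, e3 q9954 L356672 q11923, e3 q9955 (flp_h L245466) q8213, e3 q9956 L356701 q11925, e3 q9957 L356730 q11928, e3 q9958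 (flp_h L245495) q8215, e3 q9959 L356762 q11931, e3 q9960 (flp_h L245516) q8216, e3 q9961 L245534 q9961, e3 q9962 (flp_h L554468) q8944, e3 q9963 L245550 q9963, e3 q9964 L356855 q11938, e3 q9965 L356881 q11941, e3 q9966 (flp_h L245579) q8220, e3 q9967 L356915 q11945, e3 q9968 L356925 q11946, e3 q9969 (flp_h L245605) q8221, e3 q9970 (flp_h L356896) q11942, e3 q9971 (flp_h L575761) q9268, e3 q9972 (flp_h L245633) q8223, e3 q9973 L245648 q9973, e3 q9974 (flp_h L575738) q9270, e3 q9975 L245662 q9975, e3 q9976 L357024 q11957, e3 q9977 L245679 q9977, e3 q9978 L357048 q11960, e3 q9979 (flp_h L245689) q8228, e3 q9980 L357065 q11962, e3 q9981 (flp_h L245703) q8229, e3 q9982 (flp_h L245712) q8230, e3 q9983 L245729 q9983, trivial⟩ (by decide +kernel)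

theorem ce_h_156 : ∀ r, r < 64 → sm gh (Qf (9984 + r)) = Qf (tab Gen.h (9984 + r)) :=
  edges_tab (sm gh) Qf (tab Gen.h) 9984 [(9984, 9552), (9985, 9985), (9986, 11969), (9987, 9553), (9988, 11972), (9989, 11973), (9990, 8236), (9991, 8241), (9992, 11884), (9993, 11980), (9994, 8238), (9995, 8239), (9996, 11974), (9997, 11889), (9998, 11976), (9999, 11977), (10000, 11993), (10001, 10001), (10002, 11894), (10003, 10003), (10004, 11998), (10005, 10005), (10006, 12001), (10007, 8247), (10008, 10008), (10009, 12004), (10010, 8249), (10011, 12005), (10012, 8251), (10013, 10013), (10014, 11902), (10015, 10015), (10016, 11904), (10017, 10017), (10018, 12015), (10019, 10019), (10020, 12018), (10021, 8257), (10022, 8259), (10023, 10023), (10024, 11912), (10025, 10025), (10026, 10026), (10027, 12026), (10028, 10028), (10029, 12029), (10030, 10030), (10031, 12032), (10032, 8266), (10033, 10033), (10034, 12034), (10035, 8268), (10036, 12036), (10037, 12037), (10038, 8270), (10039, 12040), (10040, 12041), (10041, 8271), (10042, 10042),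 (10043, 8293), (10044, 8274), (10045, 10045), (10046, 10046), (10047, 8276)]
    ⟨e3 q9984 (flp_h L554958) q9552, e3 q9985 L245746 q9985, e3 q9986 L357144 q11969, e3 q9987 L475501 q9553, e3 q9988 L357170 q11972, e3 q9989 L357179 q11973, e3 q9990 (flp_h L245783) q8236, e3 q9991 L245798 q8241, e3 q9992 (flp_h L356285) q11884, e3 q9993 L357238 q11980, e3 q9994 (flp_h L245817) q8238, e3 q9995 (flp_h L245827) q8239, e3 q9996 (flp_h L357194) q11974, e3 q9997 (flp_h L356334) q11889, e3 q9998 (flp_h L357209) q11976, e3 q9999 (flp_h L357217) q11977, e3 q10000 L357347 q11993, e3 q10001 L245884 q10001, e3 q10002 (flp_h L356377) q11894, e3 q10003 L245900 q10003, e3 q10004 L357384 q11998, e3 q10005 L245914 q10005, e3 q10006 L357407 q12001, e3 q10007 (flp_h L245924) q8247, e3 q10008 L245938 q10008, e3 q10009 L357431 q12004, e3 q10010 (flp_h L245948) q8249, e3 q10011 L357447 q12005, e3 q10012 (flp_h L245964) q8251, e3 q10013 L245980 q10013, e3 q10014 (flp_h L356486) q11902, e3 q10015 L245996 q10015, e3 q10016 (flp_h L356506) q11904, e3 q10017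 L246010 q10017, e3 q10018 L357525 q12015, e3 q10019 L246024 q10019, e3 q10020 L357549 q12018, e3 q10021 (flp_h L246034) q8257, e3 q10022 (flp_h L246042) q8259, e3 q10023 L246059 q10023, e3 q10024 (flp_h L356578) q11912, e3 q10025 L246076 q10025, e3 q10026 L246084 q10026, e3 q10027 L357636 q12026, e3 q10028 L246100 q10028, e3 q10029 L357662 q12029, e3 q10030 L246117 q10030, e3 q10031 L357685 q12032, e3 q10032 (flp_h L246127) q8266, e3 q10033 L246140 q10033, e3 q10034 L357703 q12034, e3 q10035 (flp_h L246151) q8268, e3 q10036 L357730 q12036, e3 q10037 L357759 q12037, e3 q10038 (flp_h L246180) q8270, e3 q10039 L357799 q12040, e3 q10040 L357820 q12041, e3 q10041 (flp_h L246209) q8271, e3 q10042 L246231 q10042, e3 q10043 L246240 q8293, e3 q10044 (flp_h L246262) q8274, e3 q10045 L246279 q10045, e3 q10046 L246289 q10046, e3 q10047 (flp_h L246298) q8276, trivial⟩ (by decide +kernel)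

theorem ce_h_157 : ∀ r, r < 64 → sm gh (Qf (10048 + r)) = Qf (tab Gen.h (10048 + r)) :=
  edges_tab (sm gh) Qf (tab Gen.h) 10048 [(10048, 12049), (10049, 8277), (10050, 10050), (10051, 12051), (10052, 8281), (10053, 10053), (10054, 10054), (10055, 8283), (10056, 10056), (10057, 12059), (10058, 8286), (10059, 12063), (10060, 12065), (10061, 8287), (10062, 10062), (10063, 8317), (10064, 12071), (10065, 8289), (10066, 12074), (10067, 8290), (10068, 8322), (10069, 12077), (10070, 12080), (10071, 8294), (10072, 12083), (10073, 8295), (10074, 10074), (10075, 8329), (10076, 10076), (10077, 12090), (10078, 12092), (10079, 12093), (10080, 8299), (10081, 10081), (10082, 8336), (10083, 8301), (10084, 8338), (10085, 12100), (10086, 8304), (10087, 8305), (10088, 10088), (10089, 8343), (10090, 10090), (10091, 12107), (10092, 8346), (10093, 12110), (10094, 12112), (10095, 8311), (10096, 12060), (10097, 12115), (10098, 12118), (10099, 8313), (10100, 12121), (10101, 8314), (10102, 10102), (10103, 12067), (10104, 12126), (10105, 12128), (10106,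 12129), (10107, 8318), (10108, 10108), (10109, 12073), (10110, 8320), (10111, 12075)]
    ⟨e3 q10048 L357973 q12049, e3 q10049 (flp_h L246317) q8277, e3 q10050 L246336 q10050, e3 q10051 L358011 q12051, e3 q10052 (flp_h L246355) q8281, e3 q10053 L246371 q10053, e3 q10054 L246381 q10054, e3 q10055 (flp_h L246382) q8283, e3 q10056 L246402 q10056, e3 q10057 L358090 q12059, e3 q10058 (flp_h L246413) q8286, e3 q10059 L358141 q12063, e3 q10060 L358165 q12065, e3 q10061 (flp_h L246445) q8287, e3 q10062 L246462 q10062, e3 q10063 L246474 q8317, e3 q10064 L358237 q12071, e3 q10065 (flp_h L246486) q8289, e3 q10066 L358269 q12074, e3 q10067 (flp_h L246509) q8290, e3 q10068 L246526 q8322, e3 q10069 L358297 q12077, e3 q10070 L358324 q12080, e3 q10071 (flp_h L246546) q8294, e3 q10072 L358350 q12083, e3 q10073 (flp_h L246566) q8295, e3 q10074 L246579 q10074, e3 q10075 L246588 q8329, e3 q10076 L246595 q10076, e3 q10077 L358403 q12090, e3 q10078 L358421 q12092, e3 q10079 L358430 q12093, e3 q10080 (flp_h L246626) q8299, e3 q10081 L246642 q10081,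 e3 q10082 L246653 q8336, e3 q10083 (flp_h L246655) q8301, e3 q10084 L246671 q8338, e3 q10085 L358496 q12100, e3 q10086 (flp_h L246682) q8304, e3 q10087 (flp_h L246690) q8305, e3 q10088 L246704 q10088, e3 q10089 L246712 q8343, e3 q10090 L246721 q10090, e3 q10091 L358570 q12107, e3 q10092 L246739 q8346, e3 q10093 L358596 q12110, e3 q10094 L358616 q12112, e3 q10095 (flp_h L246757) q8311, e3 q10096 (flp_h L358117) q12060, e3 q10097 L358677 q12115, e3 q10098 L358706 q12118, e3 q10099 (flp_h L246802) q8313, e3 q10100 L358736 q12121, e3 q10101 (flp_h L246824) q8314, e3 q10102 L246842 q10102, e3 q10103 (flp_h L358193) q12067, e3 q10104 L358806 q12126, e3 q10105 L358824 q12128, e3 q10106 L358834 q12129, e3 q10107 (flp_h L246893) q8318, e3 q10108 L246912 q10108, e3 q10109 (flp_h L358267) q12073, e3 q10110 (flp_h L246924) q8320, e3 q10111 (flp_h L358287) q12075, trivial⟩ (by decide +kernel)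

theorem ce_h_158 : ∀ r, r < 64 → sm gh (Qf (10112 + r)) = Qf (tab Gen.h (10112 + r)) :=
  edges_tab (sm gh) Qf (tab Gen.h) 10112 [(10112, 12137), (10113, 8323), (10114, 12141), (10115, 12142), (10116, 8324), (10117, 12138), (10118, 12082), (10119, 8326), (10120, 10120), (10121, 12085), (10122, 10122), (10123, 12153), (10124, 10124), (10125, 12156), (10126, 8331), (10127, 11816), (10128, 8332), (10129, 8333), (10130, 10130), (10131, 12095), (10132, 10132), (10133, 12164), (10134, 12098), (10135, 11814), (10136, 12101), (10137, 12103), (10138, 12165), (10139, 10139), (10140, 12168), (10141, 8345), (10142, 8347), (10143, 12171), (10144, 8348), (10145, 10145), (10146, 10146), (10147, 12175), (10148, 8350), (10149, 12178), (10150, 8351), (10151, 10151), (10152, 8355), (10153, 8356), (10154, 10154), (10155, 10155), (10156, 10156), (10157, 12187), (10158, 12188), (10159, 8360), (10160, 10160), (10161, 10161), (10162, 8362), (10163, 10163), (10164, 12194), (10165, 8365), (10166, 8366), (10167, 10167), (10168, 10168), (10169, 10169),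 (10170, 12203), (10171, 10171), (10172, 12206), (10173, 12208), (10174, 8372), (10175, 8411)]
    ⟨e3 q10112 L358911 q12137, e3 q10113 (flp_h L246950) q8323, e3 q10114 L358940 q12141, e3 q10115 L358949 q12142, e3 q10116 (flp_h L246973) q8324, e3 q10117 (flp_h L358923) q12138, e3 q10118 (flp_h L358348) q12082, e3 q10119 (flp_h L246997) q8326, e3 q10120 L247012 q10120, e3 q10121 (flp_h L358372) q12085, e3 q10122 L247025 q10122, e3 q10123 L359040 q12153, e3 q10124 L247042 q10124, e3 q10125 L359064 q12156, e3 q10126 (flp_h L247053) q8331, e3 q10127 (flp_h L644095) q11816, e3 q10128 (flp_h L247068) q8332, e3 q10129 (flp_h L247077) q8333, e3 q10130 L247094 q10130, e3 q10131 (flp_h L358455) q12095, e3 q10132 L247110 q10132, e3 q10133 L359164 q12164, e3 q10134 (flp_h L358483) q12098, e3 q10135 (flp_h L644078) q11814, e3 q10136 (flp_h L358520) q12101, e3 q10137 (flp_h L358539) q12103, e3 q10138 L359258 q12165, e3 q10139 L247205 q10139, e3 q10140 L359283 q12168, e3 q10141 (flp_h L247216) q8345, e3 q10142 (flp_h L247233) q8347, e3 q10143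 L359374 q12171, e3 q10144 (flp_h L247260) q8348, e3 q10145 L247276 q10145, e3 q10146 L247286 q10146, e3 q10147 L359441 q12175, e3 q10148 (flp_h L247296) q8350, e3 q10149 L359468 q12178, e3 q10150 (flp_h L247314) q8351, e3 q10151 L247334 q10151, e3 q10152 (flp_h L247350) q8355, e3 q10153 (flp_h L247367) q8356, e3 q10154 L247383 q10154, e3 q10155 L247391 q10155, e3 q10156 L247399 q10156, e3 q10157 L359605 q12187, e3 q10158 L359624 q12188, e3 q10159 (flp_h L247427) q8360, e3 q10160 L247442 q10160, e3 q10161 L247450 q10161, e3 q10162 (flp_h L247451) q8362, e3 q10163 L247471 q10163, e3 q10164 L359694 q12194, e3 q10165 (flp_h L247482) q8365, e3 q10166 (flp_h L247491) q8366, e3 q10167 L247506 q10167, e3 q10168 L247515 q10168, e3 q10169 L247522 q10169, e3 q10170 L359772 q12203, e3 q10171 L247542 q10171, e3 q10172 L359798 q12206, e3 q10173 L359817 q12208, e3 q10174 (flp_h L247562) q8372, e3 q10175 L247585 q8411, trivial⟩ (by decide +kernel)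

theorem ce_h_159 : ∀ r, r < 64 → sm gh (Qf (10176 + r)) = Qf (tab Gen.h (10176 + r)) :=
  edges_tab (sm gh) Qf (tab Gen.h) 10176 [(10176, 12211), (10177, 12214), (10178, 8374), (10179, 12217), (10180, 8375), (10181, 10181), (10182, 8418), (10183, 12222), (10184, 12224), (10185, 12225), (10186, 8379), (10187, 10187), (10188, 8424), (10189, 8381), (10190, 8426), (10191, 12233), (10192, 8384), (10193, 12237), (10194, 12238), (10195, 8385), (10196, 12234), (10197, 8433), (10198, 8387), (10199, 10199), (10200, 8436), (10201, 10201), (10202, 12250), (10203, 10203), (10204, 12253), (10205, 8392), (10206, 12255), (10207, 8393), (10208, 8394), (10209, 10209), (10210, 8446), (10211, 10211), (10212, 12264), (10213, 8449), (10214, 12265), (10215, 8400), (10216, 10216), (10217, 8453), (10218, 10218), (10219, 8455), (10220, 10220), (10221, 12275), (10222, 10222), (10223, 12278), (10224, 8406), (10225, 12281), (10226, 12284), (10227, 8408), (10228, 12287), (10229, 8409), (10230, 12209), (10231, 12291), (10232, 8412), (10233, 12295), (10234,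 12296), (10235, 8413), (10236, 12292), (10237, 12216), (10238, 8415), (10239, 10239)]
    ⟨e3 q10176 L359875 q12211, e3 q10177 L359905 q12214, e3 q10178 (flp_h L247607) q8374, e3 q10179 L359933 q12217, e3 q10180 (flp_h L247628) q8375, e3 q10181 L247644 q10181, e3 q10182 L247653 q8418, e3 q10183 L359994 q12222, e3 q10184 L360015 q12224, e3 q10185 L360026 q12225, e3 q10186 (flp_h L247694) q8379, e3 q10187 L247710 q10187, e3 q10188 L247720 q8424, e3 q10189 (flp_h L247722) q8381, e3 q10190 L247740 q8426, e3 q10191 L360098 q12233, e3 q10192 (flp_h L247750) q8384, e3 q10193 L360128 q12237, e3 q10194 L360138 q12238, e3 q10195 (flp_h L247774) q8385, e3 q10196 (flp_h L360108) q12234, e3 q10197 L247794 q8433, e3 q10198 (flp_h L247796) q8387, e3 q10199 L247810 q10199, e3 q10200 L247819 q8436, e3 q10201 L247823 q10201, e3 q10202 L360215 q12250, e3 q10203 L247834 q10203, e3 q10204 L360235 q12253, e3 q10205 (flp_h L247843) q8392, e3 q10206 L360253 q12255, e3 q10207 (flp_h L247861) q8393, e3 q10208 (flp_h L247871) q8394, e3 q10209 L247885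 q10209, e3 q10210 L247894 q8446, e3 q10211 L247900 q10211, e3 q10212 L360327 q12264, e3 q10213 L247917 q8449, e3 q10214 L360336 q12265, e3 q10215 (flp_h L247929) q8400, e3 q10216 L247945 q10216, e3 q10217 L247955 q8453, e3 q10218 L247962 q10218, e3 q10219 L247970 q8455, e3 q10220 L247977 q10220, e3 q10221 L360414 q12275, e3 q10222 L247989 q10222, e3 q10223 L360434 q12278, e3 q10224 (flp_h L247997) q8406, e3 q10225 L360456 q12281, e3 q10226 L360479 q12284, e3 q10227 (flp_h L248019) q8408, e3 q10228 L360503 q12287, e3 q10229 (flp_h L248036) q8409, e3 q10230 (flp_h L359840) q12209, e3 q10231 L360607 q12291, e3 q10232 (flp_h L248091) q8412, e3 q10233 L360641 q12295, e3 q10234 L360653 q12296, e3 q10235 (flp_h L248117) q8413, e3 q10236 (flp_h L360621) q12292, e3 q10237 (flp_h L359931) q12216, e3 q10238 (flp_h L248143) q8415, e3 q10239 L248162 q10239, trivial⟩ (by decide +kernel)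

theorem ce_h_160 : ∀ r, r < 64 → sm gh (Qf (10240 + r)) = Qf (tab Gen.h (10240 + r)) :=
  edges_tab (sm gh) Qf (tab Gen.h) 10240 [(10240, 12219), (10241, 10241), (10242, 12307), (10243, 8419), (10244, 12309), (10245, 8420), (10246, 8421), (10247, 10247), (10248, 12227), (10249, 10249), (10250, 12318), (10251, 12230), (10252, 12321), (10253, 12322), (10254, 8427), (10255, 8432), (10256, 12235), (10257, 12329), (10258, 8429), (10259, 8430), (10260, 12323), (10261, 12240), (10262, 12325), (10263, 12326), (10264, 12342), (10265, 10265), (10266, 12245), (10267, 10267), (10268, 12347), (10269, 10269), (10270, 12350), (10271, 8438), (10272, 10272), (10273, 12353), (10274, 8440), (10275, 12354), (10276, 8442), (10277, 10277), (10278, 12257), (10279, 10279), (10280, 12259), (10281, 10281), (10282, 12364), (10283, 10283), (10284, 12367), (10285, 8448), (10286, 8450), (10287, 10287), (10288, 12267), (10289, 10289), (10290, 10290), (10291, 12375), (10292, 12376), (10293, 10293), (10294, 12379), (10295, 8457), (10296, 10296), (10297,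 12381), (10298, 8459), (10299, 8461), (10300, 10300), (10301, 10301), (10302, 8463), (10303, 10303)]
    ⟨e3 q10240 (flp_h L359962) q12219, e3 q10241 L248178 q10241, e3 q10242 L360755 q12307, e3 q10243 (flp_h L248207) q8419, e3 q10244 L360802 q12309, e3 q10245 (flp_h L248225) q8420, e3 q10246 (flp_h L248236) q8421, e3 q10247 L248253 q10247, e3 q10248 (flp_h L360052) q12227, e3 q10249 L248270 q10249, e3 q10250 L360886 q12318, e3 q10251 (flp_h L360079) q12230, e3 q10252 L360910 q12321, e3 q10253 L360917 q12322, e3 q10254 (flp_h L248304) q8427, e3 q10255 L248314 q8432, e3 q10256 (flp_h L360116) q12235, e3 q10257 L360961 q12329, e3 q10258 (flp_h L248330) q8429, e3 q10259 (flp_h L248340) q8430, e3 q10260 (flp_h L360927) q12323, e3 q10261 (flp_h L360158) q12240, e3 q10262 (flp_h L360939) q12325, e3 q10263 (flp_h L360944) q12326, e3 q10264 L361048 q12342, e3 q10265 L248383 q10265, e3 q10266 (flp_h L360191) q12245, e3 q10267 L248397 q10267, e3 q10268 L361080 q12347, e3 q10269 L248410 q10269, e3 q10270 L361101 q12350, e3 q10271 (flp_h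 L248418) q8438, e3 q10272 L248429 q10272, e3 q10273 L361124 q12353, e3 q10274 (flp_h L248439) q8440, e3 q10275 L361137 q12354, e3 q10276 (flp_h L248456) q8442, e3 q10277 L248474 q10277, e3 q10278 (flp_h L360282) q12257, e3 q10279 L248492 q10279, e3 q10280 (flp_h L360299) q12259, e3 q10281 L248506 q10281, e3 q10282 L361223 q12364, e3 q10283 L248521 q10283, e3 q10284 L361248 q12367, e3 q10285 (flp_h L248531) q8448, e3 q10286 (flp_h L248539) q8450, e3 q10287 L248555 q10287, e3 q10288 (flp_h L360362) q12267, e3 q10289 L248572 q10289, e3 q10290 L248578 q10290, e3 q10291 L361334 q12375, e3 q10292 L361356 q12376, e3 q10293 L248611 q10293, e3 q10294 L361377 q12379, e3 q10295 (flp_h L248620) q8457, e3 q10296 L248632 q10296, e3 q10297 L361394 q12381, e3 q10298 (flp_h L248641) q8459, e3 q10299 (flp_h L248667) q8461, e3 q10300 L248682 q10300, e3 q10301 L248691 q10301, e3 q10302 (flp_h L248730) q8463, e3 q10303 L248747 q10303, trivial⟩ (by decide +kernel)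

theorem ce_h_161 : ∀ r, r < 64 → sm gh (Qf (10304 + r)) = Qf (tab Gen.h (10304 + r)) :=
  edges_tab (sm gh) Qf (tab Gen.h) 10304 [(10304, 10304), (10305, 12390), (10306, 8467), (10307, 10307), (10308, 8470), (10309, 9603), (10310, 10310), (10311, 8472), (10312, 10312), (10313, 10313), (10314, 10314), (10315, 12401), (10316, 10316), (10317, 12404), (10318, 8477), (10319, 8478), (10320, 8479), (10321, 10321), (10322, 10322), (10323, 8484), (10324, 8618), (10325, 10325), (10326, 8619), (10327, 10327), (10328, 8620), (10329, 9688), (10330, 8621), (10331, 9685), (10332, 12415), (10333, 8492), (10334, 12418), (10335, 8493), (10336, 8548), (10337, 12421), (10338, 12422), (10339, 8496), (10340, 9180), (10341, 8555), (10342, 8498), (10343, 10343), (10344, 8558), (10345, 10345), (10346, 12432), (10347, 8502), (10348, 12434), (10349, 8503), (10350, 8504), (10351, 8566), (10352, 8569), (10353, 12439), (10354, 12440), (10355, 8509), (10356, 8514), (10357, 8574), (10358, 12446), (10359, 8511), (10360, 8512), (10361, 12441), (10362, 8579),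 (10363, 9161), (10364, 12443), (10365, 12459), (10366, 10366), (10367, 8584)]
    ⟨e3 q10304 L248757 q10304, e3 q10305 L361625 q12390, e3 q10306 (flp_h L248826) q8467, e3 q10307 L248845 q10307, e3 q10308 (flp_h L248879) q8470, e3 q10309 L533215 q9603, e3 q10310 L248902 q10310, e3 q10311 (flp_h L248903) q8472, e3 q10312 L248918 q10312, e3 q10313 L248926 q10313, e3 q10314 L248933 q10314, e3 q10315 L361870 q12401, e3 q10316 L248951 q10316, e3 q10317 L361896 q12404, e3 q10318 (flp_h L248961) q8477, e3 q10319 (flp_h L248978) q8478, e3 q10320 (flp_h L248985) q8479, e3 q10321 L249012 q10321, e3 q10322 L249040 q10322, e3 q10323 (flp_h L249050) q8484, e3 q10324 L249064 q8618, e3 q10325 L249073 q10325, e3 q10326 L249082 q8619, e3 q10327 L249093 q10327, e3 q10328 L249101 q8620, e3 q10329 L561780 q9688, e3 q10330 L249120 q8621, e3 q10331 (flp_h L561643) q9685, e3 q10332 L362185 q12415, e3 q10333 (flp_h L249161) q8492, e3 q10334 L362213 q12418, e3 q10335 (flp_h L249180) q8493, e3 q10336 L249203 q8548, e3 q10337 L362360 q12421, e3 q10338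 L362370 q12422, e3 q10339 (flp_h L249267) q8496, e3 q10340 (flp_h L546918) q9180, e3 q10341 L249295 q8555, e3 q10342 (flp_h L249297) q8498, e3 q10343 L249312 q10343, e3 q10344 L249321 q8558, e3 q10345 L249328 q10345, e3 q10346 L362473 q12432, e3 q10347 (flp_h L249355) q8502, e3 q10348 L362519 q12434, e3 q10349 (flp_h L249374) q8503, e3 q10350 (flp_h L249383) q8504, e3 q10351 L249411 q8566, e3 q10352 L249440 q8569, e3 q10353 L362637 q12439, e3 q10354 L362645 q12440, e3 q10355 (flp_h L249462) q8509, e3 q10356 L249474 q8514, e3 q10357 L249484 q8574, e3 q10358 L362699 q12446, e3 q10359 (flp_h L249494) q8511, e3 q10360 (flp_h L249502) q8512, e3 q10361 (flp_h L362657) q12441, e3 q10362 L249523 q8579, e3 q10363 (flp_h L508344) q9161, e3 q10364 (flp_h L362680) q12443, e3 q10365 L362792 q12459, e3 q10366 L249549 q10366, e3 q10367 L249557 q8584, trivial⟩ (by decide +kernel)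

theorem ce_h_162 : ∀ r, r < 64 → sm gh (Qf (10368 + r)) = Qf (tab Gen.h (10368 + r)) :=
  edges_tab (sm gh) Qf (tab Gen.h) 10368 [(10368, 10368), (10369, 12464), (10370, 10370), (10371, 12467), (10372, 8520), (10373, 10373), (10374, 12470), (10375, 8522), (10376, 12471), (10377, 8524), (10378, 8630), (10379, 8596), (10380, 8631), (10381, 8598), (10382, 8632), (10383, 9341), (10384, 8633), (10385, 9220), (10386, 8532), (10387, 8635), (10388, 8606), (10389, 8637), (10390, 8638), (10391, 12491), (10392, 8640), (10393, 12493), (10394, 8642), (10395, 12495), (10396, 8539), (10397, 8645), (10398, 12497), (10399, 8541), (10400, 12501), (10401, 8543), (10402, 12505), (10403, 12506), (10404, 8544), (10405, 12502), (10406, 12417), (10407, 8546), (10408, 12419), (10409, 12514), (10410, 12515), (10411, 8549), (10412, 8554), (10413, 9197), (10414, 12521), (10415, 8551), (10416, 8552), (10417, 12516), (10418, 12424), (10419, 9387), (10420, 12518), (10421, 12533), (10422, 10422), (10423, 12428), (10424, 10424), (10425, 12538), (10426, 12539),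 (10427, 8560), (10428, 12540), (10429, 8562), (10430, 8655), (10431, 12435)]
    ⟨e3 q10368 L249563 q10368, e3 q10369 L362821 q12464, e3 q10370 L249573 q10370, e3 q10371 L362840 q12467, e3 q10372 (flp_h L249581) q8520, e3 q10373 L249593 q10373, e3 q10374 L362858 q12470, e3 q10375 (flp_h L249601) q8522, e3 q10376 L362872 q12471, e3 q10377 (flp_h L249618) q8524, e3 q10378 L249634 q8630, e3 q10379 L249644 q8596, e3 q10380 L249653 q8631, e3 q10381 L249664 q8598, e3 q10382 L249670 q8632, e3 q10383 (flp_h L562433) q9341, e3 q10384 L249685 q8633, e3 q10385 (flp_h L508233) q9220, e3 q10386 (flp_h L249707) q8532, e3 q10387 L249722 q8635, e3 q10388 L249731 q8606, e3 q10389 L249740 q8637, e3 q10390 L249747 q8638, e3 q10391 L363072 q12491, e3 q10392 L249764 q8640, e3 q10393 L363098 q12493, e3 q10394 L249778 q8642, e3 q10395 L363121 q12495, e3 q10396 (flp_h L249787) q8539, e3 q10397 L249801 q8645, e3 q10398 L363138 q12497, e3 q10399 (flp_h L249811) q8541, e3 q10400 L363191 q12501, e3 q10401 (flp_h L249837) q8543, e3 q10402 L363222 q12505,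 e3 q10403 L363231 q12506, e3 q10404 (flp_h L249860) q8544, e3 q10405 (flp_h L363205) q12502, e3 q10406 (flp_h L362211) q12417, e3 q10407 (flp_h L249886) q8546, e3 q10408 (flp_h L362235) q12419, e3 q10409 L363427 q12514, e3 q10410 L363437 q12515, e3 q10411 (flp_h L249988) q8549, e3 q10412 L250004 q8554, e3 q10413 (flp_h L546996) q9197, e3 q10414 L363501 q12521, e3 q10415 (flp_h L250024) q8551, e3 q10416 (flp_h L250034) q8552, e3 q10417 (flp_h L363453) q12516, e3 q10418 (flp_h L362397) q12424, e3 q10419 L546588 q9387, e3 q10420 (flp_h L363480) q12518, e3 q10421 L363615 q12533, e3 q10422 L250094 q10422, e3 q10423 (flp_h L362441) q12428, e3 q10424 L250111 q10424, e3 q10425 L363656 q12538, e3 q10426 L363682 q12539, e3 q10427 (flp_h L250138) q8560, e3 q10428 L363726 q12540, e3 q10429 (flp_h L250184) q8562, e3 q10430 L250202 q8655, e3 q10431 (flp_h L362548) q12435, trivial⟩ (by decide +kernel)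

theorem ce_h_163 : ∀ r, r < 64 → sm gh (Qf (10432 + r)) = Qf (tab Gen.h (10432 + r)) :=
  edges_tab (sm gh) Qf (tab Gen.h) 10432 [(10432, 8656), (10433, 12436), (10434, 8657), (10435, 9359), (10436, 8658), (10437, 9361), (10438, 12553), (10439, 12555), (10440, 8570), (10441, 8571), (10442, 8578), (10443, 12442), (10444, 8580), (10445, 8581), (10446, 12568), (10447, 12569), (10448, 8575), (10449, 12556), (10450, 12448), (10451, 12558), (10452, 12450), (10453, 12560), (10454, 12561), (10455, 12583), (10456, 12563), (10457, 12564), (10458, 12589), (10459, 12566), (10460, 12592), (10461, 8582), (10462, 10462), (10463, 12595), (10464, 10464), (10465, 12598), (10466, 8586), (10467, 10467), (10468, 12601), (10469, 8588), (10470, 10470), (10471, 12604), (10472, 8591), (10473, 8593), (10474, 8674), (10475, 12473), (10476, 8676), (10477, 8677), (10478, 12614), (10479, 8679), (10480, 12617), (10481, 8681), (10482, 12620), (10483, 8600), (10484, 8684), (10485, 12622), (10486, 8602), (10487, 8687), (10488, 12483), (10489, 8689), (10490,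 8690), (10491, 12631), (10492, 8692), (10493, 8693), (10494, 12637), (10495, 12638)]
    ⟨e3 q10432 L250222 q8656, e3 q10433 (flp_h L362570) q12436, e3 q10434 L250241 q8657, e3 q10435 L562451 q9359, e3 q10436 L250259 q8658, e3 q10437 (flp_h L508789) q9361, e3 q10438 L363874 q12553, e3 q10439 L363892 q12555, e3 q10440 (flp_h L250298) q8570, e3 q10441 (flp_h L250306) q8571, e3 q10442 L250318 q8578, e3 q10443 (flp_h L362666) q12442, e3 q10444 L250332 q8580, e3 q10445 L250339 q8581, e3 q10446 L363991 q12568, e3 q10447 L363998 q12569, e3 q10448 (flp_h L250356) q8575, e3 q10449 (flp_h L363906) q12556, e3 q10450 (flp_h L362721) q12448, e3 q10451 (flp_h L363921) q12558, e3 q10452 (flp_h L362737) q12450, e3 q10453 (flp_h L363935) q12560, e3 q10454 (flp_h L363943) q12561, e3 q10455 L364095 q12583, e3 q10456 (flp_h L363959) q12563, e3 q10457 (flp_h L363966) q12564, e3 q10458 L364137 q12589, e3 q10459 (flp_h L363981) q12566, e3 q10460 L364159 q12592, e3 q10461 (flp_h L250446) q8582, e3 q10462 L250457 q10462, e3 q10463 L364178 q12595,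 e3 q10464 L250469 q10464, e3 q10465 L364196 q12598, e3 q10466 (flp_h L250477) q8586, e3 q10467 L250488 q10467, e3 q10468 L364218 q12601, e3 q10469 (flp_h L250497) q8588, e3 q10470 L250509 q10470, e3 q10471 L364239 q12604, e3 q10472 (flp_h L250518) q8591, e3 q10473 (flp_h L250531) q8593, e3 q10474 L250548 q8674, e3 q10475 (flp_h L362899) q12473, e3 q10476 L250564 q8676, e3 q10477 L250572 q8677, e3 q10478 L364343 q12614, e3 q10479 L250591 q8679, e3 q10480 L364371 q12617, e3 q10481 L250608 q8681, e3 q10482 L364399 q12620, e3 q10483 (flp_h L250619) q8600, e3 q10484 L250636 q8684, e3 q10485 L364418 q12622, e3 q10486 (flp_h L250648) q8602, e3 q10487 L250666 q8687, e3 q10488 (flp_h L363012) q12483, e3 q10489 L250683 q8689, e3 q10490 L250690 q8690, e3 q10491 L364501 q12631, e3 q10492 L250708 q8692, e3 q10493 L250717 q8693, e3 q10494 L364552 q12637, e3 q10495 L364563 q12638, trivial⟩ (by decide +kernel)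

theorem ce_h_164 : ∀ r, r < 64 → sm gh (Qf (10496 + r)) = Qf (tab Gen.h (10496 + r)) :=
  edges_tab (sm gh) Qf (tab Gen.h) 10496 [(10496, 8609), (10497, 8697), (10498, 12641), (10499, 8611), (10500, 8700), (10501, 12643), (10502, 8613), (10503, 12645), (10504, 8616), (10505, 12035), (10506, 12408), (10507, 9310), (10508, 12649), (10509, 12651), (10510, 8623), (10511, 8624), (10512, 8664), (10513, 9304), (10514, 8628), (10515, 12472), (10516, 12474), (10517, 12475), (10518, 12477), (10519, 12479), (10520, 12482), (10521, 8688), (10522, 12484), (10523, 12485), (10524, 12488), (10525, 12487), (10526, 8639), (10527, 8641), (10528, 12659), (10529, 8643), (10530, 12393), (10531, 8646), (10532, 10532), (10533, 12662), (10534, 12664), (10535, 8648), (10536, 8649), (10537, 9195), (10538, 9370), (10539, 8653), (10540, 12541), (10541, 12543), (10542, 12544), (10543, 12546), (10544, 12548), (10545, 12550), (10546, 12674), (10547, 8659), (10548, 12677), (10549, 8660), (10550, 8669), (10551, 12652), (10552, 8670), (10553, 12653), (10554,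 8671), (10555, 9236), (10556, 8672), (10557, 9238), (10558, 8667), (10559, 12678)]
    ⟨e3 q10496 (flp_h L250737) q8609, e3 q10497 L250752 q8697, e3 q10498 L364590 q12641, e3 q10499 (flp_h L250763) q8611, e3 q10500 L250777 q8700, e3 q10501 L364609 q12643, e3 q10502 (flp_h L250787) q8613, e3 q10503 L364625 q12645, e3 q10504 (flp_h L250806) q8616, e3 q10505 (flp_h L357718) q12035, e3 q10506 (flp_h L362046) q12408, e3 q10507 (flp_h L562266) q9310, e3 q10508 L367130 q12649, e3 q10509 L367148 q12651, e3 q10510 (flp_h L252513) q8623, e3 q10511 (flp_h L252520) q8624, e3 q10512 L252540 q8664, e3 q10513 (flp_h L562259) q9304, e3 q10514 (flp_h L252770) q8628, e3 q10515 (flp_h L362889) q12472, e3 q10516 (flp_h L362907) q12474, e3 q10517 (flp_h L362915) q12475, e3 q10518 (flp_h L362932) q12477, e3 q10519 (flp_h L362947) q12479, e3 q10520 (flp_h L363002) q12482, e3 q10521 L252897 q8688, e3 q10522 (flp_h L363021) q12484, e3 q10523 (flp_h L363028) q12485, e3 q10524 (flp_h L615927) q12488, e3 q10525 (flp_h L363045) q12487, e3 q10526 (flp_h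 L252954) q8639, e3 q10527 (flp_h L252978) q8641, e3 q10528 L367845 q12659, e3 q10529 (flp_h L252999) q8643, e3 q10530 (flp_h L533223) q12393, e3 q10531 (flp_h L253015) q8646, e3 q10532 L253030 q10532, e3 q10533 L368258 q12662, e3 q10534 L368276 q12664, e3 q10535 (flp_h L253276) q8648, e3 q10536 (flp_h L253284) q8649, e3 q10537 L562146 q9195, e3 q10538 L562966 q9370, e3 q10539 (flp_h L253516) q8653, e3 q10540 (flp_h L363745) q12541, e3 q10541 (flp_h L363764) q12543, e3 q10542 (flp_h L363773) q12544, e3 q10543 (flp_h L363795) q12546, e3 q10544 (flp_h L363813) q12548, e3 q10545 (flp_h L363842) q12550, e3 q10546 L368810 q12674, e3 q10547 (flp_h L253651) q8659, e3 q10548 L368833 q12677, e3 q10549 (flp_h L253667) q8660, e3 q10550 L253681 q8669, e3 q10551 (flp_h L367171) q12652, e3 q10552 L253696 q8670, e3 q10553 (flp_h L367188) q12653, e3 q10554 L253709 q8671, e3 q10555 L562129 q9236, e3 q10556 L253731 q8672, e3 q10557 (flp_h L546708) q9238, e3 q10558 (flp_h L253765) q8667, e3 q10559 (flp_h L368848) q12678, trivial⟩ (by decide +kernel)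

theorem ce_h_165 : ∀ r, r < 64 → sm gh (Qf (10560 + r)) = Qf (tab Gen.h (10560 + r)) :=
  edges_tab (sm gh) Qf (tab Gen.h) 10560 [(10560, 12680), (10561, 12681), (10562, 12683), (10563, 12685), (10564, 12687), (10565, 12605), (10566, 9342), (10567, 12607), (10568, 12608), (10569, 12702), (10570, 12610), (10571, 12611), (10572, 12708), (10573, 12709), (10574, 8678), (10575, 12615), (10576, 12712), (10577, 8680), (10578, 12618), (10579, 12714), (10580, 8682), (10581, 12716), (10582, 8685), (10583, 9226), (10584, 12624), (10585, 12625), (10586, 12628), (10587, 12627), (10588, 8691), (10589, 12632), (10590, 12633), (10591, 12721), (10592, 8694), (10593, 8695), (10594, 12639), (10595, 12725), (10596, 8698), (10597, 12727), (10598, 8701), (10599, 10599), (10600, 8703), (10601, 10601), (10602, 10602), (10603, 11722), (10604, 11720), (10605, 8715), (10606, 8782), (10607, 12730), (10608, 11736), (10609, 8722), (10610, 11737), (10611, 8737), (10612, 11735), (10613, 11733), (10614, 12734), (10615, 8733), (10616, 8734), (10617, 8849),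 (10618, 11726), (10619, 12738), (10620, 11729), (10621, 8740), (10622, 8856), (10623, 8858)]
    ⟨e3 q10560 (flp_h L368863) q12680, e3 q10561 (flp_h L368870) q12681, e3 q10562 (flp_h L368886) q12683, e3 q10563 (flp_h L368909) q12685, e3 q10564 (flp_h L368954) q12687, e3 q10565 (flp_h L364269) q12605, e3 q10566 (flp_h L490053) q9342, e3 q10567 (flp_h L364286) q12607, e3 q10568 (flp_h L364294) q12608, e3 q10569 L369368 q12702, e3 q10570 (flp_h L364313) q12610, e3 q10571 (flp_h L364323) q12611, e3 q10572 L369418 q12708, e3 q10573 L369426 q12709, e3 q10574 (flp_h L254055) q8678, e3 q10575 (flp_h L364359) q12615, e3 q10576 L369453 q12712, e3 q10577 (flp_h L254079) q8680, e3 q10578 (flp_h L364388) q12618, e3 q10579 L369470 q12714, e3 q10580 (flp_h L254103) q8682, e3 q10581 L369483 q12716, e3 q10582 (flp_h L254120) q8685, e3 q10583 (flp_h L512650) q9226, e3 q10584 (flp_h L364445) q12624, e3 q10585 (flp_h L364454) q12625, e3 q10586 L647111 q12628, e3 q10587 (flp_h L364472) q12627, e3 q10588 (flp_h L254196) q8691, e3 q10589 (flp_h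 L364516) q12632, e3 q10590 (flp_h L364525) q12633, e3 q10591 L369652 q12721, e3 q10592 (flp_h L254245) q8694, e3 q10593 (flp_h L254254) q8695, e3 q10594 (flp_h L364579) q12639, e3 q10595 L369713 q12725, e3 q10596 (flp_h L254279) q8698, e3 q10597 L369728 q12727, e3 q10598 (flp_h L254297) q8701, e3 q10599 L254309 q10599, e3 q10600 (flp_h L254310) q8703, e3 q10601 L254326 q10601, e3 q10602 L254331 q10602, e3 q10603 (flp_h L631073) q11722, e3 q10604 (flp_h L644373) q11720, e3 q10605 (flp_h L255598) q8715, e3 q10606 L255613 q8782, e3 q10607 L372534 q12730, e3 q10608 (flp_h L641409) q11736, e3 q10609 (flp_h L256171) q8722, e3 q10610 (flp_h L644275) q11737, e3 q10611 L256263 q8737, e3 q10612 (flp_h L634601) q11735, e3 q10613 (flp_h L645034) q11733, e3 q10614 L373232 q12734, e3 q10615 (flp_h L256632) q8733, e3 q10616 (flp_h L256639) q8734, e3 q10617 L256654 q8849, e3 q10618 (flp_h L644281) q11726, e3 q10619 L373301 q12738, e3 q10620 (flp_h L635051) q11729, e3 q10621 (flp_h L256691) q8740, e3 q10622 L256705 q8856, e3 q10623 L256720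 q8858, trivial⟩ (by decide +kernel)

theorem ce_h_166 : ∀ r, r < 64 → sm gh (Qf (10624 + r)) = Qf (tab Gen.h (10624 + r)) :=
  edges_tab (sm gh) Qf (tab Gen.h) 10624 [(10624, 8860), (10625, 11812), (10626, 8862), (10627, 8746), (10628, 12740), (10629, 11785), (10630, 8748), (10631, 8749), (10632, 8776), (10633, 8783), (10634, 8785), (10635, 12744), (10636, 8759), (10637, 8778), (10638, 8761), (10639, 8762), (10640, 8970), (10641, 9024), (10642, 8987), (10643, 12751), (10644, 8766), (10645, 9700), (10646, 9412), (10647, 8768), (10648, 9410), (10649, 8771), (10650, 12758), (10651, 8772), (10652, 12756), (10653, 12742), (10654, 12743), (10655, 9013), (10656, 12745), (10657, 9593), (10658, 11762), (10659, 8779), (10660, 8780), (10661, 11747), (10662, 11786), (10663, 11763), (10664, 12768), (10665, 11687), (10666, 8791), (10667, 11732), (10668, 11756), (10669, 8988), (10670, 9038), (10671, 12777), (10672, 8795), (10673, 12781), (10674, 11871), (10675, 8796), (10676, 12778), (10677, 8838), (10678, 8798), (10679, 8841), (10680, 11868),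 (10681, 8801), (10682, 8850), (10683, 11774), (10684, 12789), (10685, 8853), (10686, 8857), (10687, 8811)]
    ⟨e3 q10624 L256736 q8860, e3 q10625 (flp_h L648987) q11812, e3 q10626 L256751 q8862, e3 q10627 (flp_h L256760) q8746, e3 q10628 L373992 q12740, e3 q10629 (flp_h L640409) q11785, e3 q10630 (flp_h L257151) q8748, e3 q10631 (flp_h L257174) q8749, e3 q10632 L257203 q8776, e3 q10633 L257262 q8783, e3 q10634 L257280 q8785, e3 q10635 L374301 q12744, e3 q10636 (flp_h L257372) q8759, e3 q10637 (flp_h L576205) q8778, e3 q10638 (flp_h L257420) q8761, e3 q10639 (flp_h L257441) q8762, e3 q10640 L576213 q8970, e3 q10641 (flp_h L455491) q9024, e3 q10642 (flp_h L553553) q8987, e3 q10643 L374536 q12751, e3 q10644 (flp_h L257506) q8766, e3 q10645 (flp_h L645139) q9700, e3 q10646 (flp_h L592034) q9412, e3 q10647 (flp_h L257532) q8768, e3 q10648 L549815 q9410, e3 q10649 (flp_h L257560) q8771, e3 q10650 L374649 q12758, e3 q10651 (flp_h L257585) q8772, e3 q10652 (flp_h L374630) q12756, e3 q10653 (flp_h L374047) q12742, e3 q10654 (flp_h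 L374078) q12743, e3 q10655 L611995 q9013, e3 q10656 (flp_h L591727) q12745, e3 q10657 L257668 q9593, e3 q10658 (flp_h L554623) q11762, e3 q10659 (flp_h L257697) q8779, e3 q10660 (flp_h L257704) q8780, e3 q10661 (flp_h L640369) q11747, e3 q10662 (flp_h L640355) q11786, e3 q10663 (flp_h L636083) q11763, e3 q10664 (flp_h L640328) q12768, e3 q10665 (flp_h L636882) q11687, e3 q10666 (flp_h L636192) q8791, e3 q10667 (flp_h L636244) q11732, e3 q10668 (flp_h L640313) q11756, e3 q10669 (flp_h L637283) q8988, e3 q10670 L641276 q9038, e3 q10671 L375811 q12777, e3 q10672 (flp_h L258364) q8795, e3 q10673 L375845 q12781, e3 q10674 (flp_h L636018) q11871, e3 q10675 (flp_h L258390) q8796, e3 q10676 (flp_h L375823) q12778, e3 q10677 L258412 q8838, e3 q10678 (flp_h L258414) q8798, e3 q10679 L258444 q8841, e3 q10680 (flp_h L640983) q11868, e3 q10681 (flp_h L258494) q8801, e3 q10682 L258524 q8850, e3 q10683 (flp_h L641361) q11774, e3 q10684 L376057 q12789, e3 q10685 L258542 q8853, e3 q10686 L258578 q8857, e3 q10687 (flp_h L258621) q8811, trivial⟩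 (by decide +kernel)

theorem ce_h_167 : ∀ r, r < 64 → sm gh (Qf (10688 + r)) = Qf (tab Gen.h (10688 + r)) :=
  edges_tab (sm gh) Qf (tab Gen.h) 10688 [(10688, 11873), (10689, 12791), (10690, 8813), (10691, 8814), (10692, 8843), (10693, 12795), (10694, 8818), (10695, 11854), (10696, 9128), (10697, 8820), (10698, 9047), (10699, 9126), (10700, 9046), (10701, 9072), (10702, 12805), (10703, 8825), (10704, 8826), (10705, 11734), (10706, 9467), (10707, 12811), (10708, 9465), (10709, 12812), (10710, 8832), (10711, 8837), (10712, 12779), (10713, 12818), (10714, 8834), (10715, 8835), (10716, 12813), (10717, 12783), (10718, 11832), (10719, 12815), (10720, 12831), (10721, 12786), (10722, 9111), (10723, 12794), (10724, 9597), (10725, 12793), (10726, 9598), (10727, 11825), (10728, 12838), (10729, 8846), (10730, 12735), (10731, 12787), (10732, 12736), (10733, 11872), (10734, 11828), (10735, 12848), (10736, 11819), (10737, 12850), (10738, 8852), (10739, 8854), (10740, 11808), (10741, 11877), (10742, 9081), (10743, 8887), (10744, 12851), (10745,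 12099), (10746, 11815), (10747, 12739), (10748, 12860), (10749, 8861), (10750, 12279), (10751, 12862)]
    ⟨e3 q10688 (flp_h L640486) q11873, e3 q10689 L376206 q12791, e3 q10690 (flp_h L258643) q8813, e3 q10691 (flp_h L258663) q8814, e3 q10692 (flp_h L576443) q8843, e3 q10693 L376387 q12795, e3 q10694 (flp_h L258753) q8818, e3 q10695 (flp_h L640476) q11854, e3 q10696 (flp_h L455320) q9128, e3 q10697 (flp_h L258775) q8820, e3 q10698 L474104 q9047, e3 q10699 L591884 q9126, e3 q10700 (flp_h L550119) q9046, e3 q10701 L474026 q9072, e3 q10702 L376541 q12805, e3 q10703 (flp_h L258856) q8825, e3 q10704 (flp_h L258865) q8826, e3 q10705 (flp_h L645145) q11734, e3 q10706 L591889 q9467, e3 q10707 L376613 q12811, e3 q10708 L483283 q9465, e3 q10709 L376635 q12812, e3 q10710 (flp_h L258928) q8832, e3 q10711 L258940 q8837, e3 q10712 (flp_h L375831) q12779, e3 q10713 L376691 q12818, e3 q10714 (flp_h L258958) q8834, e3 q10715 (flp_h L258968) q8835, e3 q10716 (flp_h L376655) q12813, e3 q10717 (flp_h L375881) q12783, e3 q10718 (flp_h L649165)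 q11832, e3 q10719 (flp_h L376673) q12815, e3 q10720 L376788 q12831, e3 q10721 (flp_h L375919) q12786, e3 q10722 L607032 q9111, e3 q10723 (flp_h L551229) q12794, e3 q10724 L259056 q9597, e3 q10725 (flp_h L591882) q12793, e3 q10726 L259081 q9598, e3 q10727 (flp_h L554607) q11825, e3 q10728 L376903 q12838, e3 q10729 (flp_h L259109) q8846, e3 q10730 (flp_h L373247) q12735, e3 q10731 (flp_h L376019) q12787, e3 q10732 (flp_h L373263) q12736, e3 q10733 (flp_h L635993) q11872, e3 q10734 (flp_h L640393) q11828, e3 q10735 L376976 q12848, e3 q10736 (flp_h L640399) q11819, e3 q10737 L376995 q12850, e3 q10738 (flp_h L259172) q8852, e3 q10739 (flp_h L259177) q8854, e3 q10740 (flp_h L635071) q11808, e3 q10741 (flp_h L635109) q11877, e3 q10742 (flp_h L634931) q9081, e3 q10743 (flp_h L640994) q8887, e3 q10744 (flp_h L649079) q12851, e3 q10745 (flp_h L641078) q12099, e3 q10746 (flp_h L649044) q11815, e3 q10747 (flp_h L373378) q12739, e3 q10748 L377114 q12860, e3 q10749 (flp_h L259257) q8861, e3 q10750 (flp_h L641121) q12279, e3 q10751 L377130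 q12862, trivial⟩ (by decide +kernel)

theorem ce_h_168 : ∀ r, r < 64 → sm gh (Qf (10752 + r)) = Qf (tab Gen.h (10752 + r)) :=
  edges_tab (sm gh) Qf (tab Gen.h) 10752 [(10752, 8863), (10753, 10753), (10754, 12866), (10755, 10755), (10756, 12869), (10757, 8868), (10758, 12872), (10759, 12873), (10760, 8870), (10761, 8875), (10762, 8928), (10763, 12878), (10764, 8872), (10765, 8873), (10766, 12874), (10767, 8933), (10768, 12718), (10769, 12887), (10770, 8938), (10771, 12842), (10772, 8879), (10773, 10773), (10774, 8948), (10775, 10775), (10776, 8950), (10777, 10777), (10778, 12895), (10779, 10779), (10780, 12898), (10781, 8885), (10782, 8958), (10783, 10783), (10784, 12901), (10785, 10785), (10786, 12904), (10787, 10787), (10788, 12907), (10789, 8894), (10790, 10790), (10791, 12909), (10792, 8896), (10793, 12912), (10794, 8898), (10795, 12915), (10796, 12916), (10797, 8899), (10798, 12455), (10799, 8942), (10800, 8901), (10801, 8940), (10802, 12921), (10803, 12922), (10804, 8904), (10805, 8909), (10806, 9663), (10807, 12928),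 (10808, 8906), (10809, 8907), (10810, 12923), (10811, 9266), (10812, 12925), (10813, 12454), (10814, 12940), (10815, 9157)]
    ⟨e3 q10752 (flp_h L259276) q8863, e3 q10753 L259733 q10753, e3 q10754 L377830 q12866, e3 q10755 L259751 q10755, e3 q10756 L377857 q12869, e3 q10757 (flp_h L259762) q8868, e3 q10758 L378370 q12872, e3 q10759 L378377 q12873, e3 q10760 (flp_h L260094) q8870, e3 q10761 L260108 q8875, e3 q10762 L260118 q8928, e3 q10763 L378437 q12878, e3 q10764 (flp_h L260130) q8872, e3 q10765 (flp_h L260138) q8873, e3 q10766 (flp_h L378393) q12874, e3 q10767 L260165 q8933, e3 q10768 (flp_h L512674) q12718, e3 q10769 L378540 q12887, e3 q10770 L260204 q8938, e3 q10771 (flp_h L635164) q12842, e3 q10772 (flp_h L260279) q8879, e3 q10773 L260293 q10773, e3 q10774 L260300 q8948, e3 q10775 L260309 q10775, e3 q10776 L260319 q8950, e3 q10777 L260325 q10777, e3 q10778 L378718 q12895, e3 q10779 L260337 q10779, e3 q10780 L378740 q12898, e3 q10781 (flp_h L260345) q8885, e3 q10782 L260378 q8958, e3 q10783 L260385 q10783, e3 q10784 L378815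 q12901, e3 q10785 L260405 q10785, e3 q10786 L378841 q12904, e3 q10787 L260422 q10787, e3 q10788 L378866 q12907, e3 q10789 (flp_h L260432) q8894, e3 q10790 L260445 q10790, e3 q10791 L378882 q12909, e3 q10792 (flp_h L260454) q8896, e3 q10793 L378936 q12912, e3 q10794 (flp_h L260480) q8898, e3 q10795 L378973 q12915, e3 q10796 L378982 q12916, e3 q10797 (flp_h L260506) q8899, e3 q10798 (flp_h L546925) q12455, e3 q10799 L554349 q8942, e3 q10800 (flp_h L260534) q8901, e3 q10801 (flp_h L505974) q8940, e3 q10802 L379221 q12921, e3 q10803 L379228 q12922, e3 q10804 (flp_h L260657) q8904, e3 q10805 L260671 q8909, e3 q10806 (flp_h L590550) q9663, e3 q10807 L379286 q12928, e3 q10808 (flp_h L260689) q8906, e3 q10809 (flp_h L260697) q8907, e3 q10810 (flp_h L379244) q12923, e3 q10811 (flp_h L575907) q9266, e3 q10812 (flp_h L379260) q12925, e3 q10813 (flp_h L547040) q12454, e3 q10814 L379390 q12940, e3 q10815 L554223 q9157, trivial⟩ (by decide +kernel)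

theorem ce_h_169 : ∀ r, r < 64 → sm gh (Qf (10816 + r)) = Qf (tab Gen.h (10816 + r)) :=
  edges_tab (sm gh) Qf (tab Gen.h) 10816 [(10816, 9264), (10817, 9156), (10818, 9186), (10819, 9187), (10820, 12945), (10821, 8916), (10822, 10822), (10823, 9550), (10824, 10824), (10825, 9548), (10826, 10826), (10827, 12955), (10828, 10828), (10829, 12958), (10830, 8922), (10831, 12959), (10832, 12961), (10833, 8924), (10834, 8925), (10835, 8932), (10836, 12875), (10837, 8934), (10838, 8935), (10839, 12974), (10840, 12975), (10841, 8929), (10842, 12962), (10843, 12880), (10844, 12964), (10845, 12882), (10846, 12966), (10847, 12967), (10848, 12989), (10849, 12969), (10850, 12970), (10851, 12995), (10852, 12972), (10853, 12998), (10854, 8936), (10855, 9619), (10856, 12920), (10857, 9620), (10858, 12918), (10859, 9621), (10860, 11930), (10861, 9622), (10862, 11933), (10863, 8945), (10864, 10864), (10865, 12888), (10866, 10866), (10867, 10867), (10868, 13015), (10869, 10869), (10870, 13018), (10871, 10871), (10872, 13021), (10873, 8952),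 (10874, 10874), (10875, 13023), (10876, 8954), (10877, 10877), (10878, 12855), (10879, 10879)]
    ⟨e3 q10816 (flp_h L502695) q9264, e3 q10817 (flp_h L502530) q9156, e3 q10818 L554096 q9186, e3 q10819 (flp_h L553244) q9187, e3 q10820 L379501 q12945, e3 q10821 (flp_h L260842) q8916, e3 q10822 L260858 q10822, e3 q10823 L568016 q9550, e3 q10824 L260875 q10824, e3 q10825 L568005 q9548, e3 q10826 L260893 q10826, e3 q10827 L379587 q12955, e3 q10828 L260908 q10828, e3 q10829 L379611 q12958, e3 q10830 (flp_h L260918) q8922, e3 q10831 L379629 q12959, e3 q10832 L379646 q12961, e3 q10833 (flp_h L260942) q8924, e3 q10834 (flp_h L260949) q8925, e3 q10835 L260965 q8932, e3 q10836 (flp_h L378404) q12875, e3 q10837 L260979 q8934, e3 q10838 L260987 q8935, e3 q10839 L379753 q12974, e3 q10840 L379760 q12975, e3 q10841 (flp_h L261005) q8929, e3 q10842 (flp_h L379661) q12962, e3 q10843 (flp_h L378461) q12880, e3 q10844 (flp_h L379677) q12964, e3 q10845 (flp_h L378481) q12882, e3 q10846 (flp_h L379693) q12966, e3 q10847 (flp_h L379702) q12967,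 e3 q10848 L379869 q12989, e3 q10849 (flp_h L379718) q12969, e3 q10850 (flp_h L379727) q12970, e3 q10851 L379913 q12995, e3 q10852 (flp_h L379742) q12972, e3 q10853 L379933 q12998, e3 q10854 (flp_h L261105) q8936, e3 q10855 L261118 q9619, e3 q10856 (flp_h L554064) q12920, e3 q10857 L261135 q9620, e3 q10858 (flp_h L505951) q12918, e3 q10859 L261162 q9621, e3 q10860 (flp_h L554965) q11930, e3 q10861 L261189 q9622, e3 q10862 (flp_h L554944) q11933, e3 q10863 (flp_h L261216) q8945, e3 q10864 L261231 q10864, e3 q10865 (flp_h L378670) q12888, e3 q10866 L261244 q10866, e3 q10867 L261249 q10867, e3 q10868 L380132 q13015, e3 q10869 L261265 q10869, e3 q10870 L380156 q13018, e3 q10871 L261281 q10871, e3 q10872 L380182 q13021, e3 q10873 (flp_h L261291) q8952, e3 q10874 L261305 q10874, e3 q10875 L380198 q13023, e3 q10876 (flp_h L261314) q8954, e3 q10877 L261327 q10877, e3 q10878 (flp_h L635147) q12855, e3 q10879 L261343 q10879, trivial⟩ (by decide +kernel)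

theorem ce_h_170 : ∀ r, r < 64 → sm gh (Qf (10880 + r)) = Qf (tab Gen.h (10880 + r)) :=
  edges_tab (sm gh) Qf (tab Gen.h) 10880 [(10880, 10880), (10881, 13030), (10882, 10882), (10883, 10883), (10884, 13036), (10885, 13037), (10886, 8961), (10887, 10887), (10888, 13040), (10889, 8963), (10890, 10890), (10891, 13042), (10892, 8965), (10893, 13044), (10894, 8968), (10895, 9303), (10896, 12749), (10897, 13047), (10898, 13048), (10899, 8971), (10900, 8972), (10901, 9005), (10902, 12774), (10903, 11878), (10904, 8975), (10905, 10905), (10906, 9010), (10907, 8977), (10908, 9012), (10909, 8980), (10910, 12772), (10911, 8981), (10912, 13056), (10913, 9019), (10914, 8983), (10915, 8999), (10916, 9022), (10917, 8998), (10918, 12750), (10919, 9031), (10920, 10920), (10921, 13067), (10922, 9034), (10923, 8996), (10924, 9000), (10925, 13070), (10926, 13071), (10927, 9001), (10928, 13068), (10929, 13050), (10930, 9003), (10931, 13051), (10932, 13078), (10933, 9006), (10934, 9007), (10935, 10935), (10936, 13052), (10937, 10937), (10938,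 13084), (10939, 13055), (10940, 12764), (10941, 9018), (10942, 13057), (10943, 13088)]
    ⟨e3 q10880 L261351 q10880, e3 q10881 L380271 q13030, e3 q10882 L261368 q10882, e3 q10883 L261374 q10883, e3 q10884 L380315 q13036, e3 q10885 L380323 q13037, e3 q10886 (flp_h L261391) q8961, e3 q10887 L261405 q10887, e3 q10888 L380350 q13040, e3 q10889 (flp_h L261417) q8963, e3 q10890 L261432 q10890, e3 q10891 L380370 q13042, e3 q10892 (flp_h L261443) q8965, e3 q10893 L380386 q13044, e3 q10894 (flp_h L261461) q8968, e3 q10895 L261473 q9303, e3 q10896 (flp_h L550200) q12749, e3 q10897 L380517 q13047, e3 q10898 L380547 q13048, e3 q10899 (flp_h L261543) q8971, e3 q10900 (flp_h L261566) q8972, e3 q10901 L261596 q9005, e3 q10902 (flp_h L637300) q12774, e3 q10903 (flp_h L637479) q11878, e3 q10904 (flp_h L261639) q8975, e3 q10905 L261656 q10905, e3 q10906 L261666 q9010, e3 q10907 (flp_h L261668) q8977, e3 q10908 L261688 q9012, e3 q10909 (flp_h L261699) q8980, e3 q10910 (flp_h L637294) q12772, e3 q10911 (flp_h L261723) q8981, e3 q10912 (flp_h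 L380768) q13056, e3 q10913 L261743 q9019, e3 q10914 (flp_h L261745) q8983, e3 q10915 (flp_h L504195) q8999, e3 q10916 L261769 q9022, e3 q10917 L553486 q8998, e3 q10918 (flp_h L591700) q12750, e3 q10919 L261855 q9031, e3 q10920 L261862 q10920, e3 q10921 L381010 q13067, e3 q10922 L261882 q9034, e3 q10923 (flp_h L261964) q8996, e3 q10924 (flp_h L262071) q9000, e3 q10925 L381349 q13070, e3 q10926 L381358 q13071, e3 q10927 (flp_h L262097) q9001, e3 q10928 (flp_h L381329) q13068, e3 q10929 (flp_h L380573) q13050, e3 q10930 (flp_h L262123) q9003, e3 q10931 (flp_h L380605) q13051, e3 q10932 L381530 q13078, e3 q10933 (flp_h L262217) q9006, e3 q10934 (flp_h L262225) q9007, e3 q10935 L262245 q10935, e3 q10936 (flp_h L380706) q13052, e3 q10937 L262263 q10937, e3 q10938 L381617 q13084, e3 q10939 (flp_h L380737) q13055, e3 q10940 L612186 q12764, e3 q10941 L262312 q9018, e3 q10942 (flp_h L380777) q13057, e3 q10943 L381695 q13088, trivial⟩ (by decide +kernel)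

theorem ce_h_171 : ∀ r, r < 64 → sm gh (Qf (10944 + r)) = Qf (tab Gen.h (10944 + r)) :=
  edges_tab (sm gh) Qf (tab Gen.h) 10944 [(10944, 9015), (10945, 9016), (10946, 12762), (10947, 13059), (10948, 13085), (10949, 12759), (10950, 13099), (10951, 13063), (10952, 12748), (10953, 9626), (10954, 12747), (10955, 9627), (10956, 11766), (10957, 13104), (10958, 9027), (10959, 10959), (10960, 12775), (10961, 10961), (10962, 11879), (10963, 10963), (10964, 13112), (10965, 10965), (10966, 13115), (10967, 9033), (10968, 9035), (10969, 10969), (10970, 10970), (10971, 13118), (10972, 10972), (10973, 12382), (10974, 10974), (10975, 13123), (10976, 9042), (10977, 10977), (10978, 13125), (10979, 9044), (10980, 12801), (10981, 13128), (10982, 9048), (10983, 13132), (10984, 13133), (10985, 9049), (10986, 13129), (10987, 9099), (10988, 9051), (10989, 9101), (10990, 13140), (10991, 9054), (10992, 9055), (10993, 10993), (10994, 9106), (10995, 10995), (10996, 13148), (10997, 9109), (10998, 13149), (10999, 9061), (11000, 9066), (11001, 9114),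 (11002, 13156), (11003, 9063), (11004, 9064), (11005, 13150), (11006, 9119), (11007, 13152)]
    ⟨e3 q10944 (flp_h L262328) q9015, e3 q10945 (flp_h L262335) q9016, e3 q10946 (flp_h L612163) q12762, e3 q10947 (flp_h L380817) q13059, e3 q10948 (flp_h L381671) q13085, e3 q10949 (flp_h L612250) q12759, e3 q10950 L381785 q13099, e3 q10951 (flp_h L380856) q13063, e3 q10952 (flp_h L591692) q12748, e3 q10953 L262418 q9626, e3 q10954 (flp_h L591870) q12747, e3 q10955 L262444 q9627, e3 q10956 (flp_h L554920) q11766, e3 q10957 L381895 q13104, e3 q10958 (flp_h L262474) q9027, e3 q10959 L262489 q10959, e3 q10960 (flp_h L637276) q12775, e3 q10961 L262507 q10961, e3 q10962 (flp_h L641268) q11879, e3 q10963 L262524 q10963, e3 q10964 L381981 q13112, e3 q10965 L262541 q10965, e3 q10966 L382009 q13115, e3 q10967 (flp_h L262552) q9033, e3 q10968 (flp_h L262561) q9035, e3 q10969 L262576 q10969, e3 q10970 L262594 q10970, e3 q10971 L382088 q13118, e3 q10972 L262614 q10972, e3 q10973 (flp_h L649071) q12382, e3 q10974 L262632 q10974, e3 q10975 L382140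 q13123, e3 q10976 (flp_h L262642) q9042, e3 q10977 L262656 q10977, e3 q10978 L382159 q13125, e3 q10979 (flp_h L262666) q9044, e3 q10980 L576504 q12801, e3 q10981 L382351 q13128, e3 q10982 (flp_h L262772) q9048, e3 q10983 L382387 q13132, e3 q10984 L382397 q13133, e3 q10985 (flp_h L262799) q9049, e3 q10986 (flp_h L382364) q13129, e3 q10987 L262821 q9099, e3 q10988 (flp_h L262823) q9051, e3 q10989 L262854 q9101, e3 q10990 L382550 q13140, e3 q10991 (flp_h L262911) q9054, e3 q10992 (flp_h L262920) q9055, e3 q10993 L262937 q10993, e3 q10994 L262947 q9106, e3 q10995 L262954 q10995, e3 q10996 L382630 q13148, e3 q10997 L262973 q9109, e3 q10998 L382657 q13149, e3 q10999 (flp_h L262991) q9061, e3 q11000 L263000 q9066, e3 q11001 L263007 q9114, e3 q11002 L382707 q13156, e3 q11003 (flp_h L263019) q9063, e3 q11004 (flp_h L263027) q9064, e3 q11005 (flp_h L382673) q13150, e3 q11006 L263047 q9119, e3 q11007 (flp_h L382686) q13152, trivial⟩ (by decide +kernel)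

theorem ce_h_172 : ∀ r, r < 64 → sm gh (Qf (11008 + r)) = Qf (tab Gen.h (11008 + r)) :=
  edges_tab (sm gh) Qf (tab Gen.h) 11008 [(11008, 13153), (11009, 13168), (11010, 9092), (11011, 9124), (11012, 9091), (11013, 12802), (11014, 12803), (11015, 12853), (11016, 9073), (11017, 11017), (11018, 9134), (11019, 9136), (11020, 11020), (11021, 13177), (11022, 11022), (11023, 13180), (11024, 9079), (11025, 9144), (11026, 11026), (11027, 13182), (11028, 9086), (11029, 11029), (11030, 13184), (11031, 9088), (11032, 9090), (11033, 13170), (11034, 13188), (11035, 9093), (11036, 9098), (11037, 13130), (11038, 13194), (11039, 9095), (11040, 9096), (11041, 13189), (11042, 13135), (11043, 13191), (11044, 13203), (11045, 13138), (11046, 13204), (11047, 9102), (11048, 11048), (11049, 13142), (11050, 11050), (11051, 13143), (11052, 11052), (11053, 13212), (11054, 11054), (11055, 13215), (11056, 9108), (11057, 12999), (11058, 12832), (11059, 9110), (11060, 9118), (11061, 13151), (11062, 9120), (11063, 9121), (11064, 13226), (11065, 13227),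 (11066, 9115), (11067, 13217), (11068, 13158), (11069, 12824), (11070, 13160), (11071, 13219)]
    ⟨e3 q11008 (flp_h L382691) q13153, e3 q11009 L382788 q13168, e3 q11010 (flp_h L554184) q9092, e3 q11011 L263078 q9124, e3 q11012 (flp_h L504915) q9091, e3 q11013 (flp_h L576533) q12802, e3 q11014 (flp_h L576539) q12803, e3 q11015 (flp_h L641037) q12853, e3 q11016 (flp_h L263147) q9073, e3 q11017 L263163 q11017, e3 q11018 L263172 q9134, e3 q11019 L263190 q9136, e3 q11020 L263197 q11020, e3 q11021 L382963 q13177, e3 q11022 L263210 q11022, e3 q11023 L382986 q13180, e3 q11024 (flp_h L263218) q9079, e3 q11025 L263250 q9144, e3 q11026 L263261 q11026, e3 q11027 L383060 q13182, e3 q11028 (flp_h L263301) q9086, e3 q11029 L263313 q11029, e3 q11030 L383120 q13184, e3 q11031 (flp_h L263320) q9088, e3 q11032 (flp_h L263341) q9090, e3 q11033 (flp_h L552224) q13170, e3 q11034 L383402 q13188, e3 q11035 (flp_h L263489) q9093, e3 q11036 L263502 q9098, e3 q11037 (flp_h L382373) q13130, e3 q11038 L383464 q13194, e3 q11039 (flp_h L263521) q9095,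 e3 q11040 (flp_h L263531) q9096, e3 q11041 (flp_h L383424) q13189, e3 q11042 (flp_h L382423) q13135, e3 q11043 (flp_h L383439) q13191, e3 q11044 L383566 q13203, e3 q11045 (flp_h L382464) q13138, e3 q11046 L383692 q13204, e3 q11047 (flp_h L263685) q9102, e3 q11048 L263703 q11048, e3 q11049 (flp_h L382578) q13142, e3 q11050 L263722 q11050, e3 q11051 (flp_h L382598) q13143, e3 q11052 L263740 q11052, e3 q11053 L383786 q13212, e3 q11054 L263756 q11054, e3 q11055 L383811 q13215, e3 q11056 (flp_h L263766) q9108, e3 q11057 (flp_h L617269) q12999, e3 q11058 L622107 q12832, e3 q11059 (flp_h L263788) q9110, e3 q11060 L263804 q9118, e3 q11061 (flp_h L382682) q13151, e3 q11062 L263815 q9120, e3 q11063 L263820 q9121, e3 q11064 L383921 q13226, e3 q11065 L383925 q13227, e3 q11066 (flp_h L263834) q9115, e3 q11067 (flp_h L383852) q13217, e3 q11068 (flp_h L382729) q13158, e3 q11069 (flp_h L622085) q12824, e3 q11070 (flp_h L382743) q13160, e3 q11071 (flp_h L383876) q13219, trivial⟩ (by decide +kernel)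

theorem ce_h_173 : ∀ r, r < 64 → sm gh (Qf (11072 + r)) = Qf (tab Gen.h (11072 + r)) :=
  edges_tab (sm gh) Qf (tab Gen.h) 11072 [(11072, 12821), (11073, 13240), (11074, 13221), (11075, 13222), (11076, 13246), (11077, 13224), (11078, 13249), (11079, 9122), (11080, 12800), (11081, 9638), (11082, 12797), (11083, 9639), (11084, 11833), (11085, 9640), (11086, 11834), (11087, 9131), (11088, 11088), (11089, 13172), (11090, 11090), (11091, 11091), (11092, 13264), (11093, 11093), (11094, 13267), (11095, 11095), (11096, 13270), (11097, 9138), (11098, 11098), (11099, 13272), (11100, 9140), (11101, 11101), (11102, 12854), (11103, 11103), (11104, 11104), (11105, 13279), (11106, 11106), (11107, 11107), (11108, 13285), (11109, 13286), (11110, 9147), (11111, 11111), (11112, 13289), (11113, 9149), (11114, 11114), (11115, 13291), (11116, 9151), (11117, 13293), (11118, 9154), (11119, 12863), (11120, 12943), (11121, 12941), (11122, 13297), (11123, 9158), (11124, 9159), (11125, 12451), (11126, 9225), (11127, 13303), (11128, 9228), (11129, 13304),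 (11130, 9165), (11131, 9232), (11132, 9234), (11133, 13306), (11134, 13308), (11135, 9170)]
    ⟨e3 q11072 (flp_h L611619) q12821, e3 q11073 L384017 q13240, e3 q11074 (flp_h L383896) q13221, e3 q11075 (flp_h L383902) q13222, e3 q11076 L384051 q13246, e3 q11077 (flp_h L383913) q13224, e3 q11078 L384065 q13249, e3 q11079 (flp_h L263912) q9122, e3 q11080 (flp_h L568064) q12800, e3 q11081 L263936 q9638, e3 q11082 (flp_h L455291) q12797, e3 q11083 L263964 q9639, e3 q11084 (flp_h L591872) q11833, e3 q11085 L263988 q9640, e3 q11086 (flp_h L501524) q11834, e3 q11087 (flp_h L264012) q9131, e3 q11088 L264028 q11088, e3 q11089 (flp_h L382910) q13172, e3 q11090 L264043 q11090, e3 q11091 L264048 q11091, e3 q11092 L384260 q13264, e3 q11093 L264067 q11093, e3 q11094 L384284 q13267, e3 q11095 L264084 q11095, e3 q11096 L384312 q13270, e3 q11097 (flp_h L264095) q9138, e3 q11098 L264110 q11098, e3 q11099 L384329 q13272, e3 q11100 (flp_h L264119) q9140, e3 q11101 L264131 q11101, e3 q11102 (flp_h L634922) q12854, e3 q11103 L264146 q11103, e3 q11104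 L264152 q11104, e3 q11105 L384399 q13279, e3 q11106 L264170 q11106, e3 q11107 L264176 q11107, e3 q11108 L384442 q13285, e3 q11109 L384450 q13286, e3 q11110 (flp_h L264195) q9147, e3 q11111 L264207 q11111, e3 q11112 L384474 q13289, e3 q11113 (flp_h L264217) q9149, e3 q11114 L264231 q11114, e3 q11115 L384493 q13291, e3 q11116 (flp_h L264241) q9151, e3 q11117 L384508 q13293, e3 q11118 (flp_h L264258) q9154, e3 q11119 (flp_h L377138) q12863, e3 q11120 (flp_h L554280) q12943, e3 q11121 (flp_h L554275) q12941, e3 q11122 L384884 q13297, e3 q11123 (flp_h L264486) q9158, e3 q11124 (flp_h L264494) q9159, e3 q11125 (flp_h L508317) q12451, e3 q11126 L264521 q9225, e3 q11127 L384992 q13303, e3 q11128 L264563 q9228, e3 q11129 L385109 q13304, e3 q11130 (flp_h L264648) q9165, e3 q11131 L264673 q9232, e3 q11132 L264696 q9234, e3 q11133 L385250 q13306, e3 q11134 L385267 q13308, e3 q11135 (flp_h L264761) q9170, trivial⟩ (by decide +kernel)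

theorem ce_h_174 : ∀ r, r < 64 → sm gh (Qf (11136 + r)) = Qf (tab Gen.h (11136 + r)) :=
  edges_tab (sm gh) Qf (tab Gen.h) 11136 [(11136, 9171), (11137, 9178), (11138, 9244), (11139, 9181), (11140, 13316), (11141, 13317), (11142, 9175), (11143, 13309), (11144, 9251), (11145, 13311), (11146, 9253), (11147, 12423), (11148, 13313), (11149, 13331), (11150, 12416), (11151, 12425), (11152, 13335), (11153, 13336), (11154, 9182), (11155, 9215), (11156, 12942), (11157, 9214), (11158, 12944), (11159, 9188), (11160, 9312), (11161, 9273), (11162, 9313), (11163, 9314), (11164, 12665), (11165, 9315), (11166, 12666), (11167, 9316), (11168, 12517), (11169, 9317), (11170, 12503), (11171, 9318), (11172, 9286), (11173, 9320), (11174, 9321), (11175, 13358), (11176, 9323), (11177, 9324), (11178, 13363), (11179, 13364), (11180, 9203), (11181, 9328), (11182, 13367), (11183, 9205), (11184, 9331), (11185, 13369), (11186, 9207), (11187, 13371), (11188, 9210), (11189, 12910), (11190, 13374), (11191, 13375), (11192, 9212), (11193, 12481), (11194, 13337),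 (11195, 13378), (11196, 13380), (11197, 9216), (11198, 9217), (11199, 9224)]
    ⟨e3 q11136 (flp_h L264767) q9171, e3 q11137 L264780 q9178, e3 q11138 L264790 q9244, e3 q11139 L264802 q9181, e3 q11140 L385364 q13316, e3 q11141 L385371 q13317, e3 q11142 (flp_h L264818) q9175, e3 q11143 (flp_h L385279) q13309, e3 q11144 L264836 q9251, e3 q11145 (flp_h L385294) q13311, e3 q11146 L264852 q9253, e3 q11147 (flp_h L508372) q12423, e3 q11148 (flp_h L385319) q13313, e3 q11149 L385462 q13331, e3 q11150 (flp_h L552110) q12416, e3 q11151 (flp_h L546898) q12425, e3 q11152 L385500 q13335, e3 q11153 L385516 q13336, e3 q11154 (flp_h L264902) q9182, e3 q11155 (flp_h L554196) q9215, e3 q11156 (flp_h L554059) q12942, e3 q11157 L552182 q9214, e3 q11158 (flp_h L504994) q12944, e3 q11159 (flp_h L264993) q9188, e3 q11160 L265008 q9312, e3 q11161 L265018 q9273, e3 q11162 L265024 q9313, e3 q11163 L265030 q9314, e3 q11164 (flp_h L562153) q12665, e3 q11165 L265047 q9315, e3 q11166 (flp_h L513368) q12666, e3 q11167 L265064 q9316, e3 q11168 (flp_h L513334)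 q12517, e3 q11169 L265092 q9317, e3 q11170 (flp_h L542510) q12503, e3 q11171 L265116 q9318, e3 q11172 L265124 q9286, e3 q11173 L265133 q9320, e3 q11174 L265140 q9321, e3 q11175 L385850 q13358, e3 q11176 L265156 q9323, e3 q11177 L265163 q9324, e3 q11178 L385893 q13363, e3 q11179 L385902 q13364, e3 q11180 (flp_h L265179) q9203, e3 q11181 L265194 q9328, e3 q11182 L385927 q13367, e3 q11183 (flp_h L265205) q9205, e3 q11184 L265221 q9331, e3 q11185 L385946 q13369, e3 q11186 (flp_h L265231) q9207, e3 q11187 L385964 q13371, e3 q11188 (flp_h L265248) q9210, e3 q11189 (flp_h L378895) q12910, e3 q11190 L386045 q13374, e3 q11191 L386051 q13375, e3 q11192 (flp_h L265297) q9212, e3 q11193 (flp_h L508208) q12481, e3 q11194 L552196 q13337, e3 q11195 L386431 q13378, e3 q11196 L386450 q13380, e3 q11197 (flp_h L265535) q9216, e3 q11198 (flp_h L265543) q9217, e3 q11199 L265560 q9224, trivial⟩ (by decide +kernel)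

theorem ce_h_175 : ∀ r, r < 64 → sm gh (Qf (11200 + r)) = Qf (tab Gen.h (11200 + r)) :=
  edges_tab (sm gh) Qf (tab Gen.h) 11200 [(11200, 12480), (11201, 13386), (11202, 13387), (11203, 9221), (11204, 13381), (11205, 13299), (11206, 13383), (11207, 13301), (11208, 12715), (11209, 13397), (11210, 12717), (11211, 13400), (11212, 9227), (11213, 9229), (11214, 9344), (11215, 13305), (11216, 9345), (11217, 9346), (11218, 12682), (11219, 9347), (11220, 12684), (11221, 9348), (11222, 12686), (11223, 9349), (11224, 12688), (11225, 13416), (11226, 9239), (11227, 13419), (11228, 9240), (11229, 9250), (11230, 13310), (11231, 9252), (11232, 13312), (11233, 9254), (11234, 9255), (11235, 13433), (11236, 9257), (11237, 9258), (11238, 13439), (11239, 9260), (11240, 13442), (11241, 9247), (11242, 9248), (11243, 13420), (11244, 13319), (11245, 13422), (11246, 13423), (11247, 13453), (11248, 13425), (11249, 13426), (11250, 13459), (11251, 13428), (11252, 13429), (11253, 13465), (11254, 13431), (11255, 13468), (11256, 9256), (11257, 13434),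 (11258, 13435), (11259, 13473), (11260, 13437), (11261, 13476), (11262, 9259), (11263, 13440)]
    ⟨e3 q11200 (flp_h L561786) q12480, e3 q11201 L386568 q13386, e3 q11202 L386575 q13387, e3 q11203 (flp_h L265604) q9221, e3 q11204 (flp_h L386466) q13381, e3 q11205 (flp_h L384908) q13299, e3 q11206 (flp_h L386483) q13383, e3 q11207 (flp_h L384928) q13301, e3 q11208 (flp_h L512657) q12715, e3 q11209 L386691 q13397, e3 q11210 (flp_h L512620) q12717, e3 q11211 L386738 q13400, e3 q11212 (flp_h L265709) q9227, e3 q11213 (flp_h L265831) q9229, e3 q11214 L265848 q9344, e3 q11215 (flp_h L385137) q13305, e3 q11216 L265865 q9345, e3 q11217 L265872 q9346, e3 q11218 (flp_h L562135) q12682, e3 q11219 L265894 q9347, e3 q11220 (flp_h L546112) q12684, e3 q11221 L265914 q9348, e3 q11222 (flp_h L512915) q12686, e3 q11223 L265944 q9349, e3 q11224 (flp_h L543096) q12688, e3 q11225 L387098 q13416, e3 q11226 (flp_h L265975) q9239, e3 q11227 L387120 q13419, e3 q11228 (flp_h L265990) q9240, e3 q11229 L266002 q9250, e3 q11230 (flp_h L385287) q13310,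 e3 q11231 L266015 q9252, e3 q11232 (flp_h L385305) q13312, e3 q11233 L266030 q9254, e3 q11234 L266038 q9255, e3 q11235 L387225 q13433, e3 q11236 L266053 q9257, e3 q11237 L266060 q9258, e3 q11238 L387269 q13439, e3 q11239 L266075 q9260, e3 q11240 L387289 q13442, e3 q11241 (flp_h L266084) q9247, e3 q11242 (flp_h L266089) q9248, e3 q11243 (flp_h L387133) q13420, e3 q11244 (flp_h L385392) q13319, e3 q11245 (flp_h L387147) q13422, e3 q11246 (flp_h L387153) q13423, e3 q11247 L387354 q13453, e3 q11248 (flp_h L387166) q13425, e3 q11249 (flp_h L387175) q13426, e3 q11250 L387398 q13459, e3 q11251 (flp_h L387192) q13428, e3 q11252 (flp_h L387200) q13429, e3 q11253 L387441 q13465, e3 q11254 (flp_h L387215) q13431, e3 q11255 L387459 q13468, e3 q11256 (flp_h L266179) q9256, e3 q11257 (flp_h L387236) q13434, e3 q11258 (flp_h L387243) q13435, e3 q11259 L387495 q13473, e3 q11260 (flp_h L387259) q13437, e3 q11261 L387515 q13476, e3 q11262 (flp_h L266218) q9259, e3 q11263 (flp_h L387280) q13440, trivial⟩ (by decide +kernel)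

theorem ce_h_176 : ∀ r, r < 64 → sm gh (Qf (11264 + r)) = Qf (tab Gen.h (11264 + r)) :=
  edges_tab (sm gh) Qf (tab Gen.h) 11264 [(11264, 13480), (11265, 9261), (11266, 9666), (11267, 12932), (11268, 9667), (11269, 12930), (11270, 9668), (11271, 11948), (11272, 11952), (11273, 9369), (11274, 13341), (11275, 9371), (11276, 9372), (11277, 13492), (11278, 9374), (11279, 9375), (11280, 13498), (11281, 13499), (11282, 9276), (11283, 9379), (11284, 13502), (11285, 9278), (11286, 9382), (11287, 13504), (11288, 9280), (11289, 13506), (11290, 9283), (11291, 13477), (11292, 12636), (11293, 9377), (11294, 9293), (11295, 9292), (11296, 9289), (11297, 9388), (11298, 9373), (11299, 13491), (11300, 9322), (11301, 9389), (11302, 9560), (11303, 13511), (11304, 9299), (11305, 13043), (11306, 9301), (11307, 13045), (11308, 13046), (11309, 13514), (11310, 9305), (11311, 13517), (11312, 9306), (11313, 9355), (11314, 9357), (11315, 13340), (11316, 13342), (11317, 13343), (11318, 13345), (11319, 13346), (11320, 13349), (11321, 13351), (11322, 13034),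 (11323, 13283), (11324, 12635), (11325, 13355), (11326, 13359), (11327, 13360)]
    ⟨e3 q11264 L387538 q13480, e3 q11265 (flp_h L266234) q9261, e3 q11266 L266245 q9666, e3 q11267 (flp_h L554051) q12932, e3 q11268 L266269 q9667, e3 q11269 (flp_h L567874) q12930, e3 q11270 L266295 q9668, e3 q11271 (flp_h L501499) q11948, e3 q11272 (flp_h L575135) q11952, e3 q11273 L266358 q9369, e3 q11274 (flp_h L385643) q13341, e3 q11275 L266373 q9371, e3 q11276 L266381 q9372, e3 q11277 L387735 q13492, e3 q11278 L266399 q9374, e3 q11279 L266407 q9375, e3 q11280 L387783 q13498, e3 q11281 L387791 q13499, e3 q11282 (flp_h L266425) q9276, e3 q11283 L266440 q9379, e3 q11284 L387823 q13502, e3 q11285 (flp_h L266453) q9278, e3 q11286 L266472 q9382, e3 q11287 L387844 q13504, e3 q11288 (flp_h L266484) q9280, e3 q11289 L387862 q13506, e3 q11290 (flp_h L266503) q9283, e3 q11291 (flp_h L387525) q13477, e3 q11292 (flp_h L646505) q12636, e3 q11293 L646912 q9377, e3 q11294 (flp_h L646950) q9293, e3 q11295 (flp_h L628606) q9292, e3 q11296 (flp_h L266579) q9289,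 e3 q11297 L266592 q9388, e3 q11298 (flp_h L646549) q9373, e3 q11299 (flp_h L646973) q13491, e3 q11300 (flp_h L646829) q9322, e3 q11301 L266648 q9389, e3 q11302 (flp_h L646273) q9560, e3 q11303 L388107 q13511, e3 q11304 (flp_h L266681) q9299, e3 q11305 (flp_h L380384) q13043, e3 q11306 (flp_h L266698) q9301, e3 q11307 (flp_h L380400) q13045, e3 q11308 (flp_h L380406) q13046, e3 q11309 L389181 q13514, e3 q11310 (flp_h L267404) q9305, e3 q11311 L389205 q13517, e3 q11312 (flp_h L267419) q9306, e3 q11313 L267438 q9355, e3 q11314 L267456 q9357, e3 q11315 (flp_h L385634) q13340, e3 q11316 (flp_h L385651) q13342, e3 q11317 (flp_h L385659) q13343, e3 q11318 (flp_h L385676) q13345, e3 q11319 (flp_h L385684) q13346, e3 q11320 (flp_h L385716) q13349, e3 q11321 (flp_h L385747) q13351, e3 q11322 (flp_h L645645) q13034, e3 q11323 (flp_h L645487) q13283, e3 q11324 (flp_h L645635) q12635, e3 q11325 (flp_h L385821) q13355, e3 q11326 (flp_h L385865) q13359, e3 q11327 (flp_h L385872) q13360, trivial⟩ (by decide +kernel)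

theorem ce_h_177 : ∀ r, r < 64 → sm gh (Qf (11328 + r)) = Qf (tab Gen.h (11328 + r)) :=
  edges_tab (sm gh) Qf (tab Gen.h) 11328 [(11328, 13524), (11329, 9325), (11330, 9326), (11331, 13365), (11332, 13526), (11333, 9329), (11334, 13527), (11335, 9332), (11336, 11336), (11337, 9334), (11338, 11338), (11339, 11339), (11340, 9337), (11341, 9338), (11342, 12476), (11343, 12478), (11344, 13401), (11345, 13403), (11346, 13404), (11347, 13406), (11348, 13407), (11349, 13410), (11350, 13412), (11351, 9350), (11352, 11352), (11353, 13516), (11354, 9352), (11355, 9363), (11356, 13518), (11357, 9364), (11358, 9365), (11359, 12545), (11360, 9366), (11361, 12547), (11362, 9367), (11363, 12549), (11364, 9368), (11365, 12551), (11366, 13544), (11367, 13546), (11368, 13547), (11369, 13549), (11370, 13550), (11371, 13553), (11372, 13555), (11373, 13486), (11374, 13488), (11375, 13489), (11376, 13494), (11377, 13493), (11378, 13565), (11379, 9376), (11380, 13500), (11381, 9380), (11382, 13568), (11383, 9383), (11384, 12526), (11385, 9385),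 (11386, 12529), (11387, 12530), (11388, 9390), (11389, 11389), (11390, 13571), (11391, 13572)]
    ⟨e3 q11328 L390022 q13524, e3 q11329 (flp_h L267996) q9325, e3 q11330 (flp_h L268003) q9326, e3 q11331 (flp_h L385916) q13365, e3 q11332 L390075 q13526, e3 q11333 (flp_h L268026) q9329, e3 q11334 L390092 q13527, e3 q11335 (flp_h L268044) q9332, e3 q11336 L268058 q11336, e3 q11337 (flp_h L268059) q9334, e3 q11338 L268071 q11338, e3 q11339 L268078 q11339, e3 q11340 (flp_h L268289) q9337, e3 q11341 (flp_h L268304) q9338, e3 q11342 (flp_h L490541) q12476, e3 q11343 (flp_h L490569) q12478, e3 q11344 (flp_h L386915) q13401, e3 q11345 (flp_h L386933) q13403, e3 q11346 (flp_h L386942) q13404, e3 q11347 (flp_h L386961) q13406, e3 q11348 (flp_h L386970) q13407, e3 q11349 (flp_h L387007) q13410, e3 q11350 (flp_h L387040) q13412, e3 q11351 (flp_h L268675) q9350, e3 q11352 L268689 q11352, e3 q11353 (flp_h L389203) q13516, e3 q11354 (flp_h L268697) q9352, e3 q11355 L268710 q9363, e3 q11356 (flp_h L389227) q13518, e3 q11357 L268723 q9364, e3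 q11358 L268728 q9365, e3 q11359 (flp_h L508944) q12545, e3 q11360 L268744 q9366, e3 q11361 (flp_h L508918) q12547, e3 q11362 L268760 q9367, e3 q11363 (flp_h L546551) q12549, e3 q11364 L268783 q9368, e3 q11365 (flp_h L546559) q12551, e3 q11366 (flp_h L391018) q13544, e3 q11367 (flp_h L391032) q13546, e3 q11368 (flp_h L391039) q13547, e3 q11369 (flp_h L391055) q13549, e3 q11370 (flp_h L391062) q13550, e3 q11371 (flp_h L391090) q13553, e3 q11372 (flp_h L391116) q13555, e3 q11373 (flp_h L387678) q13486, e3 q11374 (flp_h L387703) q13488, e3 q11375 (flp_h L387713) q13489, e3 q11376 (flp_h L646524) q13494, e3 q11377 (flp_h L387751) q13493, e3 q11378 L391485 q13565, e3 q11379 (flp_h L269042) q9376, e3 q11380 (flp_h L387810) q13500, e3 q11381 (flp_h L269076) q9380, e3 q11382 L391543 q13568, e3 q11383 (flp_h L269095) q9383, e3 q11384 (flp_h L546573) q12526, e3 q11385 (flp_h L269109) q9385, e3 q11386 (flp_h L546596) q12529, e3 q11387 (flp_h L546592) q12530, e3 q11388 (flp_h L269334) q9390, e3 q11389 L269349 q11389, e3 q11390 L649407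 q13571, e3 q11391 L649416 q13572, trivial⟩ (by decide +kernel)

theorem ce_h_178 : ∀ r, r < 64 → sm gh (Qf (11392 + r)) = Qf (tab Gen.h (11392 + r)) :=
  edges_tab (sm gh) Qf (tab Gen.h) 11392 [(11392, 9401), (11393, 11759), (11394, 11764), (11395, 13103), (11396, 11769), (11397, 13578), (11398, 9406), (11399, 12755), (11400, 12753), (11401, 9701), (11402, 11770), (11403, 9452), (11404, 11404), (11405, 13581), (11406, 13582), (11407, 11407), (11408, 13584), (11409, 9420), (11410, 11410), (11411, 13586), (11412, 9422), (11413, 11413), (11414, 11414), (11415, 13590), (11416, 11416), (11417, 11417), (11418, 13593), (11419, 13594), (11420, 9428), (11421, 11421), (11422, 13596), (11423, 9430), (11424, 11424), (11425, 13598), (11426, 9432), (11427, 13600), (11428, 9435), (11429, 11429), (11430, 13603), (11431, 9439), (11432, 11432), (11433, 13605), (11434, 13606), (11435, 13607), (11436, 9446), (11437, 11437), (11438, 13609), (11439, 9448), (11440, 9458), (11441, 9459), (11442, 13102), (11443, 9461), (11444, 13579), (11445, 11822),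 (11446, 11830), (11447, 13254), (11448, 11840), (11449, 13623), (11450, 9457), (11451, 12111), (11452, 13611), (11453, 13628), (11454, 13614), (11455, 13631)]
    ⟨e3 q11392 (flp_h L269893) q9401, e3 q11393 L649209 q11759, e3 q11394 (flp_h L649201) q11764, e3 q11395 (flp_h L648668) q13103, e3 q11396 (flp_h L649203) q11769, e3 q11397 L649468 q13578, e3 q11398 (flp_h L270094) q9406, e3 q11399 L648252 q12755, e3 q11400 L648600 q12753, e3 q11401 L270147 q9701, e3 q11402 (flp_h L648300) q11770, e3 q11403 L633583 q9452, e3 q11404 L270242 q11404, e3 q11405 L649498 q13581, e3 q11406 L649507 q13582, e3 q11407 L270274 q11407, e3 q11408 L649525 q13584, e3 q11409 (flp_h L270283) q9420, e3 q11410 L270298 q11410, e3 q11411 L649541 q13586, e3 q11412 (flp_h L270308) q9422, e3 q11413 L270343 q11413, e3 q11414 L270350 q11414, e3 q11415 L649576 q13590, e3 q11416 L270367 q11416, e3 q11417 L270374 q11417, e3 q11418 L649601 q13593, e3 q11419 L649610 q13594, e3 q11420 (flp_h L270391) q9428, e3 q11421 L270406 q11421, e3 q11422 L649626 q13596, e3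 q11423 (flp_h L270417) q9430, e3 q11424 L270431 q11424, e3 q11425 L649644 q13598, e3 q11426 (flp_h L270440) q9432, e3 q11427 L649659 q13600, e3 q11428 (flp_h L270457) q9435, e3 q11429 L270473 q11429, e3 q11430 L649685 q13603, e3 q11431 (flp_h L270950) q9439, e3 q11432 L271107 q11432, e3 q11433 L649702 q13605, e3 q11434 L649712 q13606, e3 q11435 L649721 q13607, e3 q11436 (flp_h L271150) q9446, e3 q11437 L271163 q11437, e3 q11438 L649738 q13609, e3 q11439 (flp_h L271172) q9448, e3 q11440 L271258 q9458, e3 q11441 L271265 q9459, e3 q11442 L642550 q13102, e3 q11443 L271278 q9461, e3 q11444 (flp_h L649484) q13579, e3 q11445 L649251 q11822, e3 q11446 (flp_h L649241) q11830, e3 q11447 (flp_h L648682) q13254, e3 q11448 (flp_h L649243) q11840, e3 q11449 L649842 q13623, e3 q11450 (flp_h L271400) q9457, e3 q11451 (flp_h L649397) q12111, e3 q11452 (flp_h L649757) q13611, e3 q11453 L649879 q13628, e3 q11454 (flp_h L649779) q13614, e3 q11455 L649897 q13631, trivial⟩ (by decide +kernel)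

theorem ce_h_179 : ∀ r, r < 64 → sm gh (Qf (11456 + r)) = Qf (tab Gen.h (11456 + r)) :=
  edges_tab (sm gh) Qf (tab Gen.h) 11456 [(11456, 9460), (11457, 13616), (11458, 13635), (11459, 9462), (11460, 9709), (11461, 12809), (11462, 9710), (11463, 12807), (11464, 9711), (11465, 11842), (11466, 13639), (11467, 11467), (11468, 11468), (11469, 13644), (11470, 13645), (11471, 9476), (11472, 11472), (11473, 13647), (11474, 9478), (11475, 11475), (11476, 13649), (11477, 9480), (11478, 13651), (11479, 9483), (11480, 13632), (11481, 11481), (11482, 13655), (11483, 9487), (11484, 11484), (11485, 11485), (11486, 13659), (11487, 13660), (11488, 9490), (11489, 9491), (11490, 11490), (11491, 13663), (11492, 9494), (11493, 13665), (11494, 9497), (11495, 11495), (11496, 9499), (11497, 11497), (11498, 11498), (11499, 11499), (11500, 13674), (11501, 11501), (11502, 13677), (11503, 11503), (11504, 13680), (11505, 9507), (11506, 11506), (11507, 13682), (11508, 9509), (11509, 9575), (11510, 9573), (11511, 9576), (11512, 9577), (11513, 13691),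 (11514, 13510), (11515, 9515), (11516, 9579), (11517, 13694), (11518, 9517), (11519, 9581)]
    ⟨e3 q11456 (flp_h L271436) q9460, e3 q11457 (flp_h L649798) q13616, e3 q11458 L649923 q13635, e3 q11459 (flp_h L271455) q9462, e3 q11460 L271465 q9709, e3 q11461 L648250 q12809, e3 q11462 L271491 q9710, e3 q11463 (flp_h L648720) q12807, e3 q11464 L271516 q9711, e3 q11465 (flp_h L648298) q11842, e3 q11466 L649956 q13639, e3 q11467 L271622 q11467, e3 q11468 L271630 q11468, e3 q11469 L649995 q13644, e3 q11470 L650003 q13645, e3 q11471 (flp_h L271647) q9476, e3 q11472 L271660 q11472, e3 q11473 L650019 q13647, e3 q11474 (flp_h L271669) q9478, e3 q11475 L271683 q11475, e3 q11476 L650034 q13649, e3 q11477 (flp_h L271692) q9480, e3 q11478 L650049 q13651, e3 q11479 (flp_h L271706) q9483, e3 q11480 (flp_h L649907) q13632, e3 q11481 L271751 q11481, e3 q11482 L650076 q13655, e3 q11483 (flp_h L271779) q9487, e3 q11484 L271794 q11484, e3 q11485 L271801 q11485, e3 q11486 L650109 q13659, e3 q11487 L650117 q13660, e3 q11488 (flp_h L271825) q9490,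 e3 q11489 (flp_h L271834) q9491, e3 q11490 L271846 q11490, e3 q11491 L650143 q13663, e3 q11492 (flp_h L271855) q9494, e3 q11493 L650158 q13665, e3 q11494 (flp_h L271871) q9497, e3 q11495 L271885 q11495, e3 q11496 (flp_h L271886) q9499, e3 q11497 L271899 q11497, e3 q11498 L271904 q11498, e3 q11499 L272308 q11499, e3 q11500 L650228 q13674, e3 q11501 L272333 q11501, e3 q11502 L650256 q13677, e3 q11503 L272361 q11503, e3 q11504 L650282 q13680, e3 q11505 (flp_h L272398) q9507, e3 q11506 L272412 q11506, e3 q11507 L650301 q13682, e3 q11508 (flp_h L272447) q9509, e3 q11509 L272633 q9575, e3 q11510 L646147 q9573, e3 q11511 L272660 q9576, e3 q11512 L272670 q9577, e3 q11513 L650387 q13691, e3 q11514 (flp_h L649015) q13510, e3 q11515 (flp_h L272689) q9515, e3 q11516 L272705 q9579, e3 q11517 L650420 q13694, e3 q11518 (flp_h L272717) q9517, e3 q11519 L272733 q9581, trivial⟩ (by decide +kernel)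

theorem ce_h_180 : ∀ r, r < 64 → sm gh (Qf (11520 + r)) = Qf (tab Gen.h (11520 + r)) :=
  edges_tab (sm gh) Qf (tab Gen.h) 11520 [(11520, 13696), (11521, 9519), (11522, 13698), (11523, 9522), (11524, 13683), (11525, 11525), (11526, 13702), (11527, 11527), (11528, 11528), (11529, 13709), (11530, 11530), (11531, 13712), (11532, 9528), (11533, 11533), (11534, 11534), (11535, 13718), (11536, 11536), (11537, 13720), (11538, 9531), (11539, 11539), (11540, 11540), (11541, 13725), (11542, 11542), (11543, 13728), (11544, 9534), (11545, 11545), (11546, 13732), (11547, 9536), (11548, 11548), (11549, 13735), (11550, 11550), (11551, 13738), (11552, 9540), (11553, 11553), (11554, 13742), (11555, 9542), (11556, 9570), (11557, 11557), (11558, 13746), (11559, 9545), (11560, 9712), (11561, 12947), (11562, 9713), (11563, 11964), (11564, 11965), (11565, 9566), (11566, 9580), (11567, 9563), (11568, 13750), (11569, 13501), (11570, 9559), (11571, 9578), (11572, 13685), (11573, 13729), (11574, 9568), (11575, 13739), (11576, 13744), (11577, 13684),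 (11578, 13686), (11579, 13687), (11580, 13692), (11581, 13753), (11582, 9582), (11583, 11583)]
    ⟨e3 q11520 L650442 q13696, e3 q11521 (flp_h L272744) q9519, e3 q11522 L650460 q13698, e3 q11523 (flp_h L272763) q9522, e3 q11524 (flp_h L650316) q13683, e3 q11525 L272805 q11525, e3 q11526 L650501 q13702, e3 q11527 L272830 q11527, e3 q11528 L272837 q11528, e3 q11529 L650561 q13709, e3 q11530 L272850 q11530, e3 q11531 L650583 q13712, e3 q11532 (flp_h L272859) q9528, e3 q11533 L272874 q11533, e3 q11534 L272883 q11534, e3 q11535 L650638 q13718, e3 q11536 L272900 q11536, e3 q11537 L650655 q13720, e3 q11538 (flp_h L272911) q9531, e3 q11539 L272926 q11539, e3 q11540 L272934 q11540, e3 q11541 L650696 q13725, e3 q11542 L272948 q11542, e3 q11543 L650717 q13728, e3 q11544 (flp_h L272957) q9534, e3 q11545 L272969 q11545, e3 q11546 L650751 q13732, e3 q11547 (flp_h L272979) q9536, e3 q11548 L272993 q11548, e3 q11549 L650773 q13735, e3 q11550 L273009 q11550, e3 q11551 L650797 q13738, e3 q11552 (flp_h L273019) q9540, e3 q11553 L273032 q11553,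 e3 q11554 L650829 q13742, e3 q11555 (flp_h L273041) q9542, e3 q11556 L273055 q9570, e3 q11557 L273063 q11557, e3 q11558 L650858 q13746, e3 q11559 (flp_h L273073) q9545, e3 q11560 L273092 q9712, e3 q11561 L648730 q12947, e3 q11562 L273117 q9713, e3 q11563 (flp_h L648256) q11964, e3 q11564 L648232 q11965, e3 q11565 L646411 q9566, e3 q11566 L645813 q9580, e3 q11567 L646675 q9563, e3 q11568 L650886 q13750, e3 q11569 L649013 q13501, e3 q11570 (flp_h L273321) q9559, e3 q11571 L646248 q9578, e3 q11572 (flp_h L650343) q13685, e3 q11573 (flp_h L650732) q13729, e3 q11574 (flp_h L273391) q9568, e3 q11575 (flp_h L650813) q13739, e3 q11576 (flp_h L650846) q13744, e3 q11577 (flp_h L650326) q13684, e3 q11578 (flp_h L650353) q13686, e3 q11579 (flp_h L650363) q13687, e3 q11580 (flp_h L650408) q13692, e3 q11581 L650903 q13753, e3 q11582 (flp_h L273871) q9582, e3 q11583 L273885 q11583, trivial⟩ (by decide +kernel)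

theorem ce_h_181 : ∀ r, r < 64 → sm gh (Qf (11584 + r)) = Qf (tab Gen.h (11584 + r)) :=
  edges_tab (sm gh) Qf (tab Gen.h) 11584 [(11584, 9584), (11585, 11585), (11586, 11586), (11587, 9587), (11588, 11588), (11589, 11589), (11590, 12766), (11591, 9596), (11592, 9636), (11593, 12834), (11594, 12836), (11595, 9599), (11596, 9600), (11597, 9614), (11598, 9604), (11599, 9617), (11600, 9609), (11601, 9661), (11602, 9651), (11603, 9610), (11604, 13759), (11605, 13760), (11606, 9618), (11607, 13761), (11608, 12394), (11609, 12913), (11610, 13001), (11611, 13003), (11612, 9625), (11613, 13064), (11614, 13100), (11615, 9633), (11616, 9634), (11617, 13076), (11618, 13169), (11619, 9637), (11620, 11874), (11621, 13766), (11622, 13250), (11623, 13252), (11624, 9641), (11625, 9642), (11626, 9656), (11627, 9645), (11628, 9658), (11629, 9659), (11630, 9652), (11631, 13762), (11632, 12412), (11633, 9653), (11634, 13769), (11635, 13770), (11636, 12982), (11637, 13772), (11638, 9664), (11639, 12924), (11640, 9665), (11641, 11943), (11642,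 13778), (11643, 13780), (11644, 13481), (11645, 13483), (11646, 9669), (11647, 9691)]
    ⟨e3 q11584 (flp_h L273886) q9584, e3 q11585 L273901 q11585, e3 q11586 L273908 q11586, e3 q11587 (flp_h L274059) q9587, e3 q11588 L274138 q11588, e3 q11589 L275033 q11589, e3 q11590 (flp_h L374786) q12766, e3 q11591 L283021 q9596, e3 q11592 L473777 q9636, e3 q11593 (flp_h L376848) q12834, e3 q11594 (flp_h L376875) q12836, e3 q11595 (flp_h L286057) q9599, e3 q11596 (flp_h L286065) q9600, e3 q11597 L286088 q9614, e3 q11598 (flp_h L286634) q9604, e3 q11599 L590540 q9617, e3 q11600 L286933 q9609, e3 q11601 L590528 q9661, e3 q11602 L590536 q9651, e3 q11603 (flp_h L287318) q9610, e3 q11604 (flp_h L650955) q13759, e3 q11605 (flp_h L650971) q13760, e3 q11606 L287392 q9618, e3 q11607 (flp_h L650989) q13761, e3 q11608 L648444 q12394, e3 q11609 L648360 q12913, e3 q11610 (flp_h L379974) q13001, e3 q11611 (flp_h L380003) q13003, e3 q11612 L288238 q9625, e3 q11613 (flp_h L648352) q13064, e3 q11614 (flp_h L381840) q13100, e3 q11615 L289872 q9633, e3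 q11616 L290185 q9634, e3 q11617 (flp_h L648354) q13076, e3 q11618 (flp_h L648646) q13169, e3 q11619 L291426 q9637, e3 q11620 L648222 q11874, e3 q11621 (flp_h L651041) q13766, e3 q11622 (flp_h L384103) q13250, e3 q11623 (flp_h L384131) q13252, e3 q11624 (flp_h L292259) q9641, e3 q11625 (flp_h L292268) q9642, e3 q11626 L292293 q9656, e3 q11627 (flp_h L292684) q9645, e3 q11628 L292723 q9658, e3 q11629 L292739 q9659, e3 q11630 L292745 q9652, e3 q11631 (flp_h L651007) q13762, e3 q11632 (flp_h L648193) q12412, e3 q11633 (flp_h L293750) q9653, e3 q11634 (flp_h L651071) q13769, e3 q11635 (flp_h L651088) q13770, e3 q11636 L648927 q12982, e3 q11637 (flp_h L651100) q13772, e3 q11638 L294195 q9664, e3 q11639 L648779 q12924, e3 q11640 L294215 q9665, e3 q11641 (flp_h L648688) q11943, e3 q11642 (flp_h L651147) q13778, e3 q11643 (flp_h L651160) q13780, e3 q11644 (flp_h L387552) q13481, e3 q11645 (flp_h L387580) q13483, e3 q11646 (flp_h L294767) q9669, e3 q11647 L294808 q9691, trivial⟩ (by decide +kernel)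

theorem ce_h_182 : ∀ r, r < 64 → sm gh (Qf (11648 + r)) = Qf (tab Gen.h (11648 + r)) :=
  edges_tab (sm gh) Qf (tab Gen.h) 11648 [(11648, 9692), (11649, 9673), (11650, 11650), (11651, 9695), (11652, 9696), (11653, 11653), (11654, 11654), (11655, 11655), (11656, 11656), (11657, 12411), (11658, 12409), (11659, 12410), (11660, 11660), (11661, 13785), (11662, 13773), (11663, 11663), (11664, 13786), (11665, 11665), (11666, 13794), (11667, 9699), (11668, 11719), (11669, 12752), (11670, 9707), (11671, 11724), (11672, 12769), (11673, 9708), (11674, 13795), (11675, 12806), (11676, 13637), (11677, 13747), (11678, 11678), (11679, 13800), (11680, 11680), (11681, 13803), (11682, 11682), (11683, 13806), (11684, 11684), (11685, 13809), (11686, 9730), (11687, 10665), (11688, 11688), (11689, 11689), (11690, 13812), (11691, 13813), (11692, 11692), (11693, 13816), (11694, 9742), (11695, 13817), (11696, 11696), (11697, 13820), (11698, 11698), (11699, 13823), (11700, 9750), (11701, 11701), (11702, 13826), (11703, 9752), (11704, 11704), (11705,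 13830), (11706, 11706), (11707, 13832), (11708, 9757), (11709, 11709), (11710, 13835), (11711, 11711)]
    ⟨e3 q11648 L294826 q9692, e3 q11649 (flp_h L295112) q9673, e3 q11650 L295123 q11650, e3 q11651 L295130 q9695, e3 q11652 L295155 q9696, e3 q11653 L295178 q11653, e3 q11654 L295202 q11654, e3 q11655 L295224 q11655, e3 q11656 L295260 q11656, e3 q11657 L648292 q12411, e3 q11658 L648509 q12409, e3 q11659 L648290 q12410, e3 q11660 L295726 q11660, e3 q11661 (flp_h L651196) q13785, e3 q11662 (flp_h L651118) q13773, e3 q11663 L295772 q11663, e3 q11664 (flp_h L651205) q13786, e3 q11665 L295784 q11665, e3 q11666 L651254 q13794, e3 q11667 L296676 q9699, e3 q11668 (flp_h L648282) q11719, e3 q11669 (flp_h L648945) q12752, e3 q11670 L298218 q9707, e3 q11671 (flp_h L648704) q11724, e3 q11672 L648953 q12769, e3 q11673 L298290 q9708, e3 q11674 (flp_h L651264) q13795, e3 q11675 (flp_h L649060) q12806, e3 q11676 (flp_h L649945) q13637, e3 q11677 (flp_h L650869) q13747, e3 q11678 L350812 q11678, e3 q11679 L651311 q13800, e3 q11680 L351076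 q11680, e3 q11681 L651354 q13803, e3 q11682 L351239 q11682, e3 q11683 L651399 q13806, e3 q11684 L351255 q11684, e3 q11685 L651431 q13809, e3 q11686 (flp_h L351266) q9730, e3 q11687 L636882 q10665, e3 q11688 L351500 q11688, e3 q11689 L351510 q11689, e3 q11690 L651471 q13812, e3 q11691 L651483 q13813, e3 q11692 L351636 q11692, e3 q11693 L651526 q13816, e3 q11694 (flp_h L351647) q9742, e3 q11695 L651536 q13817, e3 q11696 L351858 q11696, e3 q11697 L651580 q13820, e3 q11698 L351874 q11698, e3 q11699 L651621 q13823, e3 q11700 (flp_h L351885) q9750, e3 q11701 L351901 q11701, e3 q11702 L651650 q13826, e3 q11703 (flp_h L351911) q9752, e3 q11704 L351978 q11704, e3 q11705 L651699 q13830, e3 q11706 L351995 q11706, e3 q11707 L651729 q13832, e3 q11708 (flp_h L352006) q9757, e3 q11709 L352047 q11709, e3 q11710 L651768 q13835, e3 q11711 L352072 q11711, trivial⟩ (by decide +kernel)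

theorem ce_h_183 : ∀ r, r < 64 → sm gh (Qf (11712 + r)) = Qf (tab Gen.h (11712 + r)) :=
  edges_tab (sm gh) Qf (tab Gen.h) 11712 [(11712, 13838), (11713, 11713), (11714, 13841), (11715, 9764), (11716, 11716), (11717, 13843), (11718, 9766), (11719, 11668), (11720, 10604), (11721, 9773), (11722, 10603), (11723, 13846), (11724, 11671), (11725, 13849), (11726, 10618), (11727, 9785), (11728, 9860), (11729, 10620), (11730, 9789), (11731, 9867), (11732, 10667), (11733, 10613), (11734, 10705), (11735, 10612), (11736, 10608), (11737, 10610), (11738, 9798), (11739, 13855), (11740, 13858), (11741, 9804), (11742, 13861), (11743, 9805), (11744, 11744), (11745, 9837), (11746, 13866), (11747, 10661), (11748, 13867), (11749, 9809), (11750, 9840), (11751, 9844), (11752, 9811), (11753, 9845), (11754, 9815), (11755, 9846), (11756, 10668), (11757, 9848), (11758, 13872), (11759, 11393), (11760, 9821), (11761, 11761), (11762, 10658), (11763, 10663), (11764, 11394), (11765, 9823), (11766, 10956), (11767, 11767), (11768, 13879), (11769, 11396),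 (11770, 11402), (11771, 13881), (11772, 9831), (11773, 13869), (11774, 10683), (11775, 9832)]
    ⟨e3 q11712 L651808 q13838, e3 q11713 L352091 q11713, e3 q11714 L651842 q13841, e3 q11715 (flp_h L352102) q9764, e3 q11716 L352118 q11716, e3 q11717 L651864 q13843, e3 q11718 (flp_h L352129) q9766, e3 q11719 L648282 q11668, e3 q11720 L644373 q10604, e3 q11721 (flp_h L352662) q9773, e3 q11722 L631073 q10603, e3 q11723 L651899 q13846, e3 q11724 L648704 q11671, e3 q11725 L651954 q13849, e3 q11726 L644281 q10618, e3 q11727 (flp_h L353291) q9785, e3 q11728 L353306 q9860, e3 q11729 L635051 q10620, e3 q11730 (flp_h L353347) q9789, e3 q11731 L353370 q9867, e3 q11732 L636244 q10667, e3 q11733 L645034 q10613, e3 q11734 L645145 q10705, e3 q11735 L634601 q10612, e3 q11736 L641409 q10608, e3 q11737 L644275 q10610, e3 q11738 (flp_h L353701) q9798, e3 q11739 L652066 q13855, e3 q11740 L652118 q13858, e3 q11741 (flp_h L353995) q9804, e3 q11742 L652158 q13861, e3 q11743 (flp_h L354019) q9805, e3 q11744 L354037 q11744, e3 q11745 L354048 q9837, e3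 q11746 L652224 q13866, e3 q11747 L640369 q10661, e3 q11748 L652239 q13867, e3 q11749 (flp_h L354090) q9809, e3 q11750 L644154 q9840, e3 q11751 L354117 q9844, e3 q11752 (flp_h L354119) q9811, e3 q11753 L354137 q9845, e3 q11754 (flp_h L354159) q9815, e3 q11755 L354185 q9846, e3 q11756 L640313 q10668, e3 q11757 L354218 q9848, e3 q11758 L652326 q13872, e3 q11759 (flp_h L649209) q11393, e3 q11760 (flp_h L354240) q9821, e3 q11761 L354260 q11761, e3 q11762 L554623 q10658, e3 q11763 L636083 q10663, e3 q11764 L649201 q11394, e3 q11765 (flp_h L354290) q9823, e3 q11766 L554920 q10956, e3 q11767 L354347 q11767, e3 q11768 L652437 q13879, e3 q11769 L649203 q11396, e3 q11770 L648300 q11402, e3 q11771 L652468 q13881, e3 q11772 (flp_h L354430) q9831, e3 q11773 (flp_h L652286) q13869, e3 q11774 L641361 q10683, e3 q11775 (flp_h L354458) q9832, trivial⟩ (by decide +kernel)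

theorem ce_h_184 : ∀ r, r < 64 → sm gh (Qf (11776 + r)) = Qf (tab Gen.h (11776 + r)) :=
  edges_tab (sm gh) Qf (tab Gen.h) 11776 [(11776, 13882), (11777, 13860), (11778, 13863), (11779, 11779), (11780, 13891), (11781, 11781), (11782, 13894), (11783, 9839), (11784, 13868), (11785, 10629), (11786, 10662), (11787, 13898), (11788, 9849), (11789, 13902), (11790, 13903), (11791, 9850), (11792, 13899), (11793, 9898), (11794, 9852), (11795, 11795), (11796, 9901), (11797, 11797), (11798, 13914), (11799, 9856), (11800, 13916), (11801, 9857), (11802, 9858), (11803, 13850), (11804, 9911), (11805, 13851), (11806, 13925), (11807, 9914), (11808, 10740), (11809, 9864), (11810, 9915), (11811, 9918), (11812, 10625), (11813, 9919), (11814, 10135), (11815, 10746), (11816, 10127), (11817, 13932), (11818, 9870), (11819, 10736), (11820, 13936), (11821, 9872), (11822, 11445), (11823, 9873), (11824, 11824), (11825, 10727), (11826, 11826), (11827, 13943), (11828, 10734), (11829, 13947), (11830, 11446), (11831, 9878), (11832, 10718), (11833, 11084),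 (11834, 11086), (11835, 11835), (11836, 13954), (11837, 11837), (11838, 13957), (11839, 9885)]
    ⟨e3 q11776 (flp_h L652493) q13882, e3 q11777 (flp_h L652156) q13860, e3 q11778 (flp_h L652197) q13863, e3 q11779 L354522 q11779, e3 q11780 L652605 q13891, e3 q11781 L354541 q11781, e3 q11782 L652638 q13894, e3 q11783 (flp_h L354553) q9839, e3 q11784 (flp_h L652273) q13868, e3 q11785 L640409 q10629, e3 q11786 L640355 q10662, e3 q11787 L652699 q13898, e3 q11788 (flp_h L354941) q9849, e3 q11789 L652749 q13902, e3 q11790 L652763 q13903, e3 q11791 (flp_h L354970) q9850, e3 q11792 (flp_h L652720) q13899, e3 q11793 L354996 q9898, e3 q11794 (flp_h L354998) q9852, e3 q11795 L355017 q11795, e3 q11796 L355028 q9901, e3 q11797 L355035 q11797, e3 q11798 L652887 q13914, e3 q11799 (flp_h L355064) q9856, e3 q11800 L652917 q13916, e3 q11801 (flp_h L355084) q9857, e3 q11802 (flp_h L355094) q9858, e3 q11803 (flp_h L651990) q13850, e3 q11804 L355117 q9911, e3 q11805 (flp_h L652003) q13851, e3 q11806 L653044 q13925, e3 q11807 L355142 q9914, e3 q11808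 L635071 q10740, e3 q11809 (flp_h L355155) q9864, e3 q11810 L644253 q9915, e3 q11811 L355184 q9918, e3 q11812 L648987 q10625, e3 q11813 L355201 q9919, e3 q11814 L644078 q10135, e3 q11815 L649044 q10746, e3 q11816 L644095 q10127, e3 q11817 L653147 q13932, e3 q11818 (flp_h L355236) q9870, e3 q11819 L640399 q10736, e3 q11820 L653210 q13936, e3 q11821 (flp_h L355262) q9872, e3 q11822 (flp_h L649251) q11445, e3 q11823 (flp_h L355283) q9873, e3 q11824 L355302 q11824, e3 q11825 L554607 q10727, e3 q11826 L355318 q11826, e3 q11827 L653313 q13943, e3 q11828 L640393 q10734, e3 q11829 L653373 q13947, e3 q11830 L649241 q11446, e3 q11831 (flp_h L355373) q9878, e3 q11832 L649165 q10718, e3 q11833 L591872 q11084, e3 q11834 L501524 q11086, e3 q11835 L355432 q11835, e3 q11836 L653464 q13954, e3 q11837 L355447 q11837, e3 q11838 L653500 q13957, e3 q11839 (flp_h L355458) q9885, trivial⟩ (by decide +kernel)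

theorem ce_h_185 : ∀ r, r < 64 → sm gh (Qf (11840 + r)) = Qf (tab Gen.h (11840 + r)) :=
  edges_tab (sm gh) Qf (tab Gen.h) 11840 [(11840, 11448), (11841, 9886), (11842, 11465), (11843, 13960), (11844, 13962), (11845, 13963), (11846, 9892), (11847, 9897), (11848, 13900), (11849, 13969), (11850, 9894), (11851, 9895), (11852, 13964), (11853, 13905), (11854, 10695), (11855, 13966), (11856, 13982), (11857, 13910), (11858, 11858), (11859, 13985), (11860, 11860), (11861, 13988), (11862, 9903), (11863, 11863), (11864, 13991), (11865, 9905), (11866, 13917), (11867, 9907), (11868, 10680), (11869, 13918), (11870, 13920), (11871, 10674), (11872, 10733), (11873, 10688), (11874, 11620), (11875, 9913), (11876, 13926), (11877, 10741), (11878, 10903), (11879, 10962), (11880, 14000), (11881, 14001), (11882, 9924), (11883, 9929), (11884, 9992), (11885, 14008), (11886, 9926), (11887, 9927), (11888, 14002), (11889, 9997), (11890, 14004), (11891, 14005), (11892, 14020), (11893, 11893), (11894, 10002), (11895, 11895), (11896, 14025), (11897, 14026),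 (11898, 9935), (11899, 14027), (11900, 9937), (11901, 11901), (11902, 10014), (11903, 11903)]
    ⟨e3 q11840 L649243 q11448, e3 q11841 (flp_h L355474) q9886, e3 q11842 L648298 q11465, e3 q11843 L653547 q13960, e3 q11844 L653580 q13962, e3 q11845 L653594 q13963, e3 q11846 (flp_h L355549) q9892, e3 q11847 L355562 q9897, e3 q11848 (flp_h L652733) q13900, e3 q11849 L653665 q13969, e3 q11850 (flp_h L355581) q9894, e3 q11851 (flp_h L355593) q9895, e3 q11852 (flp_h L653615) q13964, e3 q11853 (flp_h L652795) q13905, e3 q11854 L640476 q10695, e3 q11855 (flp_h L653636) q13966, e3 q11856 L653825 q13982, e3 q11857 (flp_h L652851) q13910, e3 q11858 L355664 q11858, e3 q11859 L653858 q13985, e3 q11860 L355679 q11860, e3 q11861 L653888 q13988, e3 q11862 (flp_h L355688) q9903, e3 q11863 L355701 q11863, e3 q11864 L653914 q13991, e3 q11865 (flp_h L355712) q9905, e3 q11866 (flp_h L652945) q13917, e3 q11867 (flp_h L355729) q9907, e3 q11868 L640983 q10680, e3 q11869 (flp_h L652961) q13918, e3 q11870 (flp_h L652996) q13920, e3 q11871 L636018 q10674,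 e3 q11872 L635993 q10733, e3 q11873 L640486 q10688, e3 q11874 (flp_h L648222) q11620, e3 q11875 (flp_h L355795) q9913, e3 q11876 (flp_h L653076) q13926, e3 q11877 L635109 q10741, e3 q11878 L637479 q10903, e3 q11879 L641268 q10962, e3 q11880 L654049 q14000, e3 q11881 L654060 q14001, e3 q11882 (flp_h L356259) q9924, e3 q11883 L356274 q9929, e3 q11884 L356285 q9992, e3 q11885 L654145 q14008, e3 q11886 (flp_h L356297) q9926, e3 q11887 (flp_h L356307) q9927, e3 q11888 (flp_h L654079) q14002, e3 q11889 L356334 q9997, e3 q11890 (flp_h L654100) q14004, e3 q11891 (flp_h L654116) q14005, e3 q11892 L654286 q14020, e3 q11893 L356367 q11893, e3 q11894 L356377 q10002, e3 q11895 L356386 q11895, e3 q11896 L654341 q14025, e3 q11897 L654353 q14026, e3 q11898 (flp_h L356413) q9935, e3 q11899 L654366 q14027, e3 q11900 (flp_h L356461) q9937, e3 q11901 L356477 q11901, e3 q11902 L356486 q10014, e3 q11903 L356496 q11903, trivial⟩ (by decide +kernel)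

theorem ce_h_186 : ∀ r, r < 64 → sm gh (Qf (11904 + r)) = Qf (tab Gen.h (11904 + r)) :=
  edges_tab (sm gh) Qf (tab Gen.h) 11904 [(11904, 10016), (11905, 11905), (11906, 14037), (11907, 11907), (11908, 14040), (11909, 9943), (11910, 9945), (11911, 11911), (11912, 10024), (11913, 11913), (11914, 11914), (11915, 14048), (11916, 11916), (11917, 14050), (11918, 11918), (11919, 14052), (11920, 9952), (11921, 11921), (11922, 14054), (11923, 9954), (11924, 14058), (11925, 9956), (11926, 14062), (11927, 14063), (11928, 9957), (11929, 14059), (11930, 10860), (11931, 9959), (11932, 11932), (11933, 10862), (11934, 11934), (11935, 11935), (11936, 14074), (11937, 14075), (11938, 9964), (11939, 14078), (11940, 14079), (11941, 9965), (11942, 9970), (11943, 11641), (11944, 14086), (11945, 9967), (11946, 9968), (11947, 14080), (11948, 11271), (11949, 14082), (11950, 14083), (11951, 14097), (11952, 11272), (11953, 11953), (11954, 14100), (11955, 11955), (11956, 14103), (11957, 9976), (11958, 11958), (11959, 14106), (11960, 9978), (11961, 14107),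 (11962, 9980), (11963, 11963), (11964, 11563), (11965, 11564), (11966, 11966), (11967, 14112)]
    ⟨e3 q11904 L356506 q10016, e3 q11905 L356513 q11905, e3 q11906 L654487 q14037, e3 q11907 L356529 q11907, e3 q11908 L654524 q14040, e3 q11909 (flp_h L356540) q9943, e3 q11910 (flp_h L356551) q9945, e3 q11911 L356568 q11911, e3 q11912 L356578 q10024, e3 q11913 L356587 q11913, e3 q11914 L356595 q11914, e3 q11915 L654629 q14048, e3 q11916 L356613 q11916, e3 q11917 L654652 q14050, e3 q11918 L356632 q11918, e3 q11919 L654675 q14052, e3 q11920 (flp_h L356643) q9952, e3 q11921 L356660 q11921, e3 q11922 L654697 q14054, e3 q11923 (flp_h L356672) q9954, e3 q11924 L654747 q14058, e3 q11925 (flp_h L356701) q9956, e3 q11926 L654798 q14062, e3 q11927 L654809 q14063, e3 q11928 (flp_h L356730) q9957, e3 q11929 (flp_h L654769) q14059, e3 q11930 L554965 q10860, e3 q11931 (flp_h L356762) q9959, e3 q11932 L356780 q11932, e3 q11933 L554944 q10862, e3 q11934 L356797 q11934, e3 q11935 L356806 q11935, e3 q11936 L654956 q14074, e3 q11937 L654968 q14075,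 e3 q11938 (flp_h L356855) q9964, e3 q11939 L655003 q14078, e3 q11940 L655012 q14079, e3 q11941 (flp_h L356881) q9965, e3 q11942 L356896 q9970, e3 q11943 L648688 q11641, e3 q11944 L655087 q14086, e3 q11945 (flp_h L356915) q9967, e3 q11946 (flp_h L356925) q9968, e3 q11947 (flp_h L655027) q14080, e3 q11948 L501499 q11271, e3 q11949 (flp_h L655046) q14082, e3 q11950 (flp_h L655062) q14083, e3 q11951 L655218 q14097, e3 q11952 L575135 q11272, e3 q11953 L357000 q11953, e3 q11954 L655250 q14100, e3 q11955 L357014 q11955, e3 q11956 L655289 q14103, e3 q11957 (flp_h L357024) q9976, e3 q11958 L357038 q11958, e3 q11959 L655319 q14106, e3 q11960 (flp_h L357048) q9978, e3 q11961 L655331 q14107, e3 q11962 (flp_h L357065) q9980, e3 q11963 L357083 q11963, e3 q11964 L648256 q11563, e3 q11965 (flp_h L648232) q11564, e3 q11966 L357118 q11966, e3 q11967 L655404 q14112, trivial⟩ (by decide +kernel)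

theorem ce_h_187 : ∀ r, r < 64 → sm gh (Qf (11968 + r)) = Qf (tab Gen.h (11968 + r)) :=
  edges_tab (sm gh) Qf (tab Gen.h) 11968 [(11968, 14113), (11969, 9986), (11970, 14115), (11971, 14117), (11972, 9988), (11973, 9989), (11974, 9996), (11975, 14003), (11976, 9998), (11977, 9999), (11978, 14130), (11979, 14131), (11980, 9993), (11981, 14118), (11982, 14010), (11983, 14120), (11984, 14012), (11985, 14122), (11986, 14123), (11987, 14145), (11988, 14125), (11989, 14126), (11990, 14151), (11991, 14128), (11992, 14154), (11993, 10000), (11994, 11994), (11995, 14157), (11996, 11996), (11997, 14160), (11998, 10004), (11999, 11999), (12000, 14163), (12001, 10006), (12002, 12002), (12003, 14166), (12004, 10009), (12005, 10011), (12006, 12006), (12007, 14029), (12008, 12008), (12009, 12009), (12010, 14174), (12011, 12011), (12012, 14177), (12013, 12013), (12014, 14180), (12015, 10018), (12016, 12016), (12017, 14182), (12018, 10020), (12019, 14041), (12020, 12020), (12021, 14186), (12022, 12022), (12023, 12023), (12024, 14191), (12025,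 14192), (12026, 10027), (12027, 12027), (12028, 14195), (12029, 10029), (12030, 12030), (12031, 14197)]
    ⟨e3 q11968 L655418 q14113, e3 q11969 (flp_h L357144) q9986, e3 q11970 L655444 q14115, e3 q11971 L655466 q14117, e3 q11972 (flp_h L357170) q9988, e3 q11973 (flp_h L357179) q9989, e3 q11974 L357194 q9996, e3 q11975 (flp_h L654091) q14003, e3 q11976 L357209 q9998, e3 q11977 L357217 q9999, e3 q11978 L655595 q14130, e3 q11979 L655604 q14131, e3 q11980 (flp_h L357238) q9993, e3 q11981 (flp_h L655483) q14118, e3 q11982 (flp_h L654179) q14010, e3 q11983 (flp_h L655501) q14120, e3 q11984 (flp_h L654203) q14012, e3 q11985 (flp_h L655516) q14122, e3 q11986 (flp_h L655525) q14123, e3 q11987 L655734 q14145, e3 q11988 (flp_h L655542) q14125, e3 q11989 (flp_h L655559) q14126, e3 q11990 L655807 q14151, e3 q11991 (flp_h L655583) q14128, e3 q11992 L655833 q14154, e3 q11993 (flp_h L357347) q10000, e3 q11994 L357361 q11994, e3 q11995 L655866 q14157, e3 q11996 L357375 q11996, e3 q11997 L655893 q14160, e3 q11998 (flp_h L357384) q10004, e3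 q11999 L357397 q11999, e3 q12000 L655918 q14163, e3 q12001 (flp_h L357407) q10006, e3 q12002 L357421 q12002, e3 q12003 L655943 q14166, e3 q12004 (flp_h L357431) q10009, e3 q12005 (flp_h L357447) q10011, e3 q12006 L357464 q12006, e3 q12007 (flp_h L654406) q14029, e3 q12008 L357479 q12008, e3 q12009 L357486 q12009, e3 q12010 L656030 q14174, e3 q12011 L357502 q12011, e3 q12012 L656060 q14177, e3 q12013 L357516 q12013, e3 q12014 L656091 q14180, e3 q12015 (flp_h L357525) q10018, e3 q12016 L357539 q12016, e3 q12017 L656111 q14182, e3 q12018 (flp_h L357549) q10020, e3 q12019 (flp_h L654549) q14041, e3 q12020 L357583 q12020, e3 q12021 L656151 q14186, e3 q12022 L357609 q12022, e3 q12023 L357617 q12023, e3 q12024 L656209 q14191, e3 q12025 L656219 q14192, e3 q12026 (flp_h L357636) q10027, e3 q12027 L357651 q12027, e3 q12028 L656251 q14195, e3 q12029 (flp_h L357662) q10029, e3 q12030 L357675 q12030, e3 q12031 L656269 q14197, trivial⟩ (by decide +kernel)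

theorem ce_h_188 : ∀ r, r < 64 → sm gh (Qf (12032 + r)) = Qf (tab Gen.h (12032 + r)) :=
  edges_tab (sm gh) Qf (tab Gen.h) 12032 [(12032, 10031), (12033, 14199), (12034, 10034), (12035, 10505), (12036, 10036), (12037, 10037), (12038, 12038), (12039, 12039), (12040, 10039), (12041, 10040), (12042, 12042), (12043, 12043), (12044, 12044), (12045, 12045), (12046, 14212), (12047, 12047), (12048, 12048), (12049, 10048), (12050, 12050), (12051, 10051), (12052, 12052), (12053, 12053), (12054, 12054), (12055, 14221), (12056, 12056), (12057, 14223), (12058, 14225), (12059, 10057), (12060, 10096), (12061, 14228), (12062, 14231), (12063, 10059), (12064, 14234), (12065, 10060), (12066, 12066), (12067, 10103), (12068, 14238), (12069, 14240), (12070, 14241), (12071, 10064), (12072, 12072), (12073, 10109), (12074, 10066), (12075, 10111), (12076, 14247), (12077, 10069), (12078, 14251), (12079, 14252), (12080, 10070), (12081, 14248), (12082, 10118), (12083, 10072), (12084, 12084), (12085, 10121), (12086, 12086), (12087, 14263), (12088, 12088),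 (12089, 14265), (12090, 10077), (12091, 14267), (12092, 10078), (12093, 10079), (12094, 12094), (12095, 10131)]
    ⟨e3 q12032 (flp_h L357685) q10031, e3 q12033 L656284 q14199, e3 q12034 (flp_h L357703) q10034, e3 q12035 L357718 q10505, e3 q12036 (flp_h L357730) q10036, e3 q12037 (flp_h L357759) q10037, e3 q12038 L357778 q12038, e3 q12039 L357789 q12039, e3 q12040 (flp_h L357799) q10039, e3 q12041 (flp_h L357820) q10040, e3 q12042 L357841 q12042, e3 q12043 L357896 q12043, e3 q12044 L357906 q12044, e3 q12045 L357915 q12045, e3 q12046 L656463 q14212, e3 q12047 L357962 q12047, e3 q12048 L357972 q12048, e3 q12049 (flp_h L357973) q10048, e3 q12050 L357993 q12050, e3 q12051 (flp_h L358011) q10051, e3 q12052 L358028 q12052, e3 q12053 L358037 q12053, e3 q12054 L358046 q12054, e3 q12055 L656584 q14221, e3 q12056 L358069 q12056, e3 q12057 L656609 q14223, e3 q12058 L656635 q14225, e3 q12059 (flp_h L358090) q10057, e3 q12060 L358117 q10096, e3 q12061 L656672 q14228, e3 q12062 L656711 q14231, e3 q12063 (flp_h L358141) q10059, e3 q12064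 L656743 q14234, e3 q12065 (flp_h L358165) q10060, e3 q12066 L358182 q12066, e3 q12067 L358193 q10103, e3 q12068 L656792 q14238, e3 q12069 L656813 q14240, e3 q12070 L656825 q14241, e3 q12071 (flp_h L358237) q10064, e3 q12072 L358255 q12072, e3 q12073 L358267 q10109, e3 q12074 (flp_h L358269) q10066, e3 q12075 L358287 q10111, e3 q12076 L656903 q14247, e3 q12077 (flp_h L358297) q10069, e3 q12078 L656946 q14251, e3 q12079 L656957 q14252, e3 q12080 (flp_h L358324) q10070, e3 q12081 (flp_h L656921) q14248, e3 q12082 L358348 q10118, e3 q12083 (flp_h L358350) q10072, e3 q12084 L358364 q12084, e3 q12085 L358372 q10121, e3 q12086 L358378 q12086, e3 q12087 L657058 q14263, e3 q12088 L358393 q12088, e3 q12089 L657083 q14265, e3 q12090 (flp_h L358403) q10077, e3 q12091 L657107 q14267, e3 q12092 (flp_h L358421) q10078, e3 q12093 (flp_h L358430) q10079, e3 q12094 L358446 q12094, e3 q12095 L358455 q10131, trivial⟩ (by decide +kernel)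

theorem ce_h_189 : ∀ r, r < 64 → sm gh (Qf (12096 + r)) = Qf (tab Gen.h (12096 + r)) :=
  edges_tab (sm gh) Qf (tab Gen.h) 12096 [(12096, 12096), (12097, 14274), (12098, 10134), (12099, 10745), (12100, 10085), (12101, 10136), (12102, 12102), (12103, 10137), (12104, 14276), (12105, 12105), (12106, 14279), (12107, 10091), (12108, 14280), (12109, 14282), (12110, 10093), (12111, 11451), (12112, 10094), (12113, 14226), (12114, 14287), (12115, 10097), (12116, 14291), (12117, 14292), (12118, 10098), (12119, 14288), (12120, 14233), (12121, 10100), (12122, 12122), (12123, 14235), (12124, 12124), (12125, 14302), (12126, 10104), (12127, 13930), (12128, 10105), (12129, 10106), (12130, 12130), (12131, 14242), (12132, 12132), (12133, 14310), (12134, 14245), (12135, 14312), (12136, 14313), (12137, 10112), (12138, 10117), (12139, 14249), (12140, 13923), (12141, 10114), (12142, 10115), (12143, 14314), (12144, 14254), (12145, 14316), (12146, 14317), (12147, 14332), (12148, 14259), (12149, 12149), (12150, 14334), (12151, 12151), (12152, 14337),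 (12153, 10123), (12154, 12154), (12155, 14340), (12156, 10125), (12157, 13928), (12158, 14268), (12159, 14270)]
    ⟨e3 q12096 L358463 q12096, e3 q12097 L657191 q14274, e3 q12098 L358483 q10134, e3 q12099 L641078 q10745, e3 q12100 (flp_h L358496) q10085, e3 q12101 L358520 q10136, e3 q12102 L358529 q12102, e3 q12103 L358539 q10137, e3 q12104 L657217 q14276, e3 q12105 L358560 q12105, e3 q12106 L657255 q14279, e3 q12107 (flp_h L358570) q10091, e3 q12108 L657269 q14280, e3 q12109 L657295 q14282, e3 q12110 (flp_h L358596) q10093, e3 q12111 L649397 q11451, e3 q12112 (flp_h L358616) q10094, e3 q12113 (flp_h L656656) q14226, e3 q12114 L657351 q14287, e3 q12115 (flp_h L358677) q10097, e3 q12116 L657388 q14291, e3 q12117 L657399 q14292, e3 q12118 (flp_h L358706) q10098, e3 q12119 (flp_h L657367) q14288, e3 q12120 (flp_h L656741) q14233, e3 q12121 (flp_h L358736) q10100, e3 q12122 L358755 q12122, e3 q12123 (flp_h L656765) q14235, e3 q12124 L358772 q12124, e3 q12125 L657507 q14302, e3 q12126 (flp_h L358806) q10104, e3 q12127 (flp_h L653133)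 q13930, e3 q12128 (flp_h L358824) q10105, e3 q12129 (flp_h L358834) q10106, e3 q12130 L358853 q12130, e3 q12131 (flp_h L656847) q14242, e3 q12132 L358872 q12132, e3 q12133 L657593 q14310, e3 q12134 (flp_h L656885) q14245, e3 q12135 L657619 q14312, e3 q12136 L657630 q14313, e3 q12137 (flp_h L358911) q10112, e3 q12138 L358923 q10117, e3 q12139 (flp_h L656931) q14249, e3 q12140 (flp_h L653031) q13923, e3 q12141 (flp_h L358940) q10114, e3 q12142 (flp_h L358949) q10115, e3 q12143 (flp_h L657642) q14314, e3 q12144 (flp_h L656979) q14254, e3 q12145 (flp_h L657656) q14316, e3 q12146 (flp_h L657663) q14317, e3 q12147 L657797 q14332, e3 q12148 (flp_h L657028) q14259, e3 q12149 L359016 q12149, e3 q12150 L657814 q14334, e3 q12151 L359030 q12151, e3 q12152 L657840 q14337, e3 q12153 (flp_h L359040) q10123, e3 q12154 L359053 q12154, e3 q12155 L657871 q14340, e3 q12156 (flp_h L359064) q10125, e3 q12157 (flp_h L653106) q13928, e3 q12158 (flp_h L657131) q14268, e3 q12159 (flp_h L657160) q14270, trivial⟩ (by decide +kernel)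

theorem ce_h_190 : ∀ r, r < 64 → sm gh (Qf (12160 + r)) = Qf (tab Gen.h (12160 + r)) :=
  edges_tab (sm gh) Qf (tab Gen.h) 12160 [(12160, 12160), (12161, 14342), (12162, 12162), (12163, 14345), (12164, 10133), (12165, 10138), (12166, 12166), (12167, 14347), (12168, 10140), (12169, 12169), (12170, 12170), (12171, 10143), (12172, 12172), (12173, 12173), (12174, 14352), (12175, 10147), (12176, 12176), (12177, 12177), (12178, 10149), (12179, 12179), (12180, 12180), (12181, 12181), (12182, 12182), (12183, 12183), (12184, 14361), (12185, 12185), (12186, 14363), (12187, 10157), (12188, 10158), (12189, 12189), (12190, 12190), (12191, 12191), (12192, 14370), (12193, 12193), (12194, 10164), (12195, 12195), (12196, 12196), (12197, 12197), (12198, 12198), (12199, 12199), (12200, 14380), (12201, 12201), (12202, 14383), (12203, 10170), (12204, 14385), (12205, 14388), (12206, 10172), (12207, 14391), (12208, 10173), (12209, 10230), (12210, 14395), (12211, 10176), (12212, 14399), (12213, 14400), (12214, 10177), (12215, 14396), (12216, 10237),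 (12217, 10179), (12218, 12218), (12219, 10240), (12220, 12220), (12221, 14410), (12222, 10183), (12223, 14412)]
    ⟨e3 q12160 L359135 q12160, e3 q12161 L657894 q14342, e3 q12162 L359152 q12162, e3 q12163 L657929 q14345, e3 q12164 (flp_h L359164) q10133, e3 q12165 (flp_h L359258) q10138, e3 q12166 L359272 q12166, e3 q12167 L657953 q14347, e3 q12168 (flp_h L359283) q10140, e3 q12169 L359327 q12169, e3 q12170 L359337 q12170, e3 q12171 (flp_h L359374) q10143, e3 q12172 L359392 q12172, e3 q12173 L359401 q12173, e3 q12174 L658026 q14352, e3 q12175 (flp_h L359441) q10147, e3 q12176 L359458 q12176, e3 q12177 L359467 q12177, e3 q12178 (flp_h L359468) q10149, e3 q12179 L359490 q12179, e3 q12180 L359543 q12180, e3 q12181 L359562 q12181, e3 q12182 L359572 q12182, e3 q12183 L359578 q12183, e3 q12184 L658142 q14361, e3 q12185 L359594 q12185, e3 q12186 L658165 q14363, e3 q12187 (flp_h L359605) q10157, e3 q12188 (flp_h L359624) q10158, e3 q12189 L359649 q12189, e3 q12190 L359658 q12190, e3 q12191 L359664 q12191, e3 q12192 L658247 q14370,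 e3 q12193 L359684 q12193, e3 q12194 (flp_h L359694) q10164, e3 q12195 L359710 q12195, e3 q12196 L359720 q12196, e3 q12197 L359728 q12197, e3 q12198 L359737 q12198, e3 q12199 L359745 q12199, e3 q12200 L658362 q14380, e3 q12201 L359762 q12201, e3 q12202 L658387 q14383, e3 q12203 (flp_h L359772) q10170, e3 q12204 L658411 q14385, e3 q12205 L658450 q14388, e3 q12206 (flp_h L359798) q10172, e3 q12207 L658482 q14391, e3 q12208 (flp_h L359817) q10173, e3 q12209 L359840 q10230, e3 q12210 L658531 q14395, e3 q12211 (flp_h L359875) q10176, e3 q12212 L658569 q14399, e3 q12213 L658581 q14400, e3 q12214 (flp_h L359905) q10177, e3 q12215 (flp_h L658545) q14396, e3 q12216 L359931 q10237, e3 q12217 (flp_h L359933) q10179, e3 q12218 L359951 q12218, e3 q12219 L359962 q10240, e3 q12220 L359968 q12220, e3 q12221 L658670 q14410, e3 q12222 (flp_h L359994) q10183, e3 q12223 L658691 q14412, trivial⟩ (by decide +kernel)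

theorem ce_h_191 : ∀ r, r < 64 → sm gh (Qf (12224 + r)) = Qf (tab Gen.h (12224 + r)) :=
  edges_tab (sm gh) Qf (tab Gen.h) 12224 [(12224, 10184), (12225, 10185), (12226, 12226), (12227, 10248), (12228, 12228), (12229, 14420), (12230, 10251), (12231, 14423), (12232, 14424), (12233, 10191), (12234, 10196), (12235, 10256), (12236, 14431), (12237, 10193), (12238, 10194), (12239, 14425), (12240, 10261), (12241, 14427), (12242, 14428), (12243, 14444), (12244, 12244), (12245, 10266), (12246, 12246), (12247, 14448), (12248, 12248), (12249, 14451), (12250, 10202), (12251, 12251), (12252, 14453), (12253, 10204), (12254, 14454), (12255, 10206), (12256, 12256), (12257, 10278), (12258, 12258), (12259, 10280), (12260, 12260), (12261, 14463), (12262, 12262), (12263, 14466), (12264, 10212), (12265, 10214), (12266, 12266), (12267, 10288), (12268, 12268), (12269, 12269), (12270, 14474), (12271, 12271), (12272, 14477), (12273, 12273), (12274, 14480), (12275, 10221), (12276, 12276), (12277, 14482), (12278, 10223), (12279, 10750), (12280, 14487),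 (12281, 10225), (12282, 14491), (12283, 14492), (12284, 10226), (12285, 14488), (12286, 14390), (12287, 10228)]
    ⟨e3 q12224 (flp_h L360015) q10184, e3 q12225 (flp_h L360026) q10185, e3 q12226 L360042 q12226, e3 q12227 L360052 q10248, e3 q12228 L360060 q12228, e3 q12229 L658772 q14420, e3 q12230 L360079 q10251, e3 q12231 L658805 q14423, e3 q12232 L658812 q14424, e3 q12233 (flp_h L360098) q10191, e3 q12234 L360108 q10196, e3 q12235 L360116 q10256, e3 q12236 L658864 q14431, e3 q12237 (flp_h L360128) q10193, e3 q12238 (flp_h L360138) q10194, e3 q12239 (flp_h L658826) q14425, e3 q12240 L360158 q10261, e3 q12241 (flp_h L658840) q14427, e3 q12242 (flp_h L658845) q14428, e3 q12243 L658956 q14444, e3 q12244 L360182 q12244, e3 q12245 L360191 q10266, e3 q12246 L360197 q12246, e3 q12247 L658981 q14448, e3 q12248 L360208 q12248, e3 q12249 L659011 q14451, e3 q12250 (flp_h L360215) q10202, e3 q12251 L360226 q12251, e3 q12252 L659032 q14453, e3 q12253 (flp_h L360235) q10204, e3 q12254 L659039 q14454, e3 q12255 (flp_h L360253) q10206, e3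 q12256 L360271 q12256, e3 q12257 L360282 q10278, e3 q12258 L360290 q12258, e3 q12259 L360299 q10280, e3 q12260 L360305 q12260, e3 q12261 L659127 q14463, e3 q12262 L360318 q12262, e3 q12263 L659151 q14466, e3 q12264 (flp_h L360327) q10212, e3 q12265 (flp_h L360336) q10214, e3 q12266 L360352 q12266, e3 q12267 L360362 q10288, e3 q12268 L360371 q12268, e3 q12269 L360377 q12269, e3 q12270 L659249 q14474, e3 q12271 L360394 q12271, e3 q12272 L659285 q14477, e3 q12273 L360406 q12273, e3 q12274 L659309 q14480, e3 q12275 (flp_h L360414) q10221, e3 q12276 L360426 q12276, e3 q12277 L659328 q14482, e3 q12278 (flp_h L360434) q10223, e3 q12279 L641121 q10750, e3 q12280 L659389 q14487, e3 q12281 (flp_h L360456) q10225, e3 q12282 L659432 q14491, e3 q12283 L659443 q14492, e3 q12284 (flp_h L360479) q10226, e3 q12285 (flp_h L659410) q14488, e3 q12286 (flp_h L658480) q14390, e3 q12287 (flp_h L360503) q10228, trivial⟩ (by decide +kernel)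

theorem ce_h_192 : ∀ r, r < 64 → sm gh (Qf (12288 + r)) = Qf (tab Gen.h (12288 + r)) :=
  edges_tab (sm gh) Qf (tab Gen.h) 12288 [(12288, 14392), (12289, 14500), (12290, 14501), (12291, 10231), (12292, 10236), (12293, 14397), (12294, 14508), (12295, 10233), (12296, 10234), (12297, 14502), (12298, 14402), (12299, 14504), (12300, 14505), (12301, 14520), (12302, 12302), (12303, 14406), (12304, 12304), (12305, 14525), (12306, 14526), (12307, 10242), (12308, 14527), (12309, 10244), (12310, 12310), (12311, 14414), (12312, 12312), (12313, 14415), (12314, 12314), (12315, 14537), (12316, 12316), (12317, 14540), (12318, 10250), (12319, 14542), (12320, 14544), (12321, 10252), (12322, 10253), (12323, 10260), (12324, 14426), (12325, 10262), (12326, 10263), (12327, 14557), (12328, 14558), (12329, 10257), (12330, 14545), (12331, 14433), (12332, 14547), (12333, 14435), (12334, 14549), (12335, 14550), (12336, 14572), (12337, 14552), (12338, 14553), (12339, 14578), (12340, 14555), (12341, 14581), (12342, 10264), (12343, 12343), (12344, 14584),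 (12345, 12345), (12346, 14587), (12347, 10268), (12348, 12348), (12349, 14590), (12350, 10270), (12351, 12351)]
    ⟨e3 q12288 (flp_h L658504) q14392, e3 q12289 L659526 q14500, e3 q12290 L659535 q14501, e3 q12291 (flp_h L360607) q10231, e3 q12292 L360621 q10236, e3 q12293 (flp_h L658555) q14397, e3 q12294 L659593 q14508, e3 q12295 (flp_h L360641) q10233, e3 q12296 (flp_h L360653) q10234, e3 q12297 (flp_h L659549) q14502, e3 q12298 (flp_h L658607) q14402, e3 q12299 (flp_h L659565) q14504, e3 q12300 (flp_h L659572) q14505, e3 q12301 L659696 q14520, e3 q12302 L360710 q12302, e3 q12303 (flp_h L658641) q14406, e3 q12304 L360728 q12304, e3 q12305 L659746 q14525, e3 q12306 L659756 q14526, e3 q12307 (flp_h L360755) q10242, e3 q12308 L659764 q14527, e3 q12309 (flp_h L360802) q10244, e3 q12310 L360822 q12310, e3 q12311 (flp_h L658725) q14414, e3 q12312 L360842 q12312, e3 q12313 (flp_h L658736) q14415, e3 q12314 L360859 q12314, e3 q12315 L659865 q14537, e3 q12316 L360875 q12316, e3 q12317 L659891 q14540, e3 q12318 (flp_h L360886) q10250,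 e3 q12319 L659913 q14542, e3 q12320 L659936 q14544, e3 q12321 (flp_h L360910) q10252, e3 q12322 (flp_h L360917) q10253, e3 q12323 L360927 q10260, e3 q12324 (flp_h L658834) q14426, e3 q12325 L360939 q10262, e3 q12326 L360944 q10263, e3 q12327 L660032 q14557, e3 q12328 L660038 q14558, e3 q12329 (flp_h L360961) q10257, e3 q12330 (flp_h L659949) q14545, e3 q12331 (flp_h L658890) q14433, e3 q12332 (flp_h L659962) q14547, e3 q12333 (flp_h L658904) q14435, e3 q12334 (flp_h L659974) q14549, e3 q12335 (flp_h L659981) q14550, e3 q12336 L660149 q14572, e3 q12337 (flp_h L659995) q14552, e3 q12338 (flp_h L660009) q14553, e3 q12339 L660198 q14578, e3 q12340 (flp_h L660023) q14555, e3 q12341 L660218 q14581, e3 q12342 (flp_h L361048) q10264, e3 q12343 L361057 q12343, e3 q12344 L660243 q14584, e3 q12345 L361070 q12345, e3 q12346 L660270 q14587, e3 q12347 (flp_h L361080) q10268, e3 q12348 L361093 q12348, e3 q12349 L660291 q14590, e3 q12350 (flp_h L361101) q10270, e3 q12351 L361114 q12351, trivial⟩ (by decide +kernel)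

theorem ce_h_193 : ∀ r, r < 64 → sm gh (Qf (12352 + r)) = Qf (tab Gen.h (12352 + r)) :=
  edges_tab (sm gh) Qf (tab Gen.h) 12352 [(12352, 14593), (12353, 10273), (12354, 10275), (12355, 12355), (12356, 14456), (12357, 12357), (12358, 12358), (12359, 14602), (12360, 12360), (12361, 14604), (12362, 12362), (12363, 14607), (12364, 10282), (12365, 12365), (12366, 14609), (12367, 10284), (12368, 14467), (12369, 12369), (12370, 14612), (12371, 12371), (12372, 12372), (12373, 14617), (12374, 14618), (12375, 10291), (12376, 10292), (12377, 12377), (12378, 14620), (12379, 10294), (12380, 14621), (12381, 10297), (12382, 10973), (12383, 12383), (12384, 12384), (12385, 14624), (12386, 12386), (12387, 12387), (12388, 12388), (12389, 14628), (12390, 10305), (12391, 12391), (12392, 12392), (12393, 10530), (12394, 11608), (12395, 12395), (12396, 12396), (12397, 12397), (12398, 14633), (12399, 12399), (12400, 14636), (12401, 10315), (12402, 12402), (12403, 14638), (12404, 10317), (12405, 12405), (12406, 12406), (12407, 12407), (12408, 10506),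 (12409, 11658), (12410, 11659), (12411, 11657), (12412, 11632), (12413, 14642), (12414, 14643), (12415, 10332)]
    ⟨e3 q12352 L660315 q14593, e3 q12353 (flp_h L361124) q10273, e3 q12354 (flp_h L361137) q10275, e3 q12355 L361155 q12355, e3 q12356 (flp_h L659074) q14456, e3 q12357 L361172 q12357, e3 q12358 L361179 q12358, e3 q12359 L660404 q14602, e3 q12360 L361198 q12360, e3 q12361 L660424 q14604, e3 q12362 L361213 q12362, e3 q12363 L660455 q14607, e3 q12364 (flp_h L361223) q10282, e3 q12365 L361238 q12365, e3 q12366 L660472 q14609, e3 q12367 (flp_h L361248) q10284, e3 q12368 (flp_h L659173) q14467, e3 q12369 L361286 q12369, e3 q12370 L660499 q14612, e3 q12371 L361305 q12371, e3 q12372 L361313 q12372, e3 q12373 L660559 q14617, e3 q12374 L660573 q14618, e3 q12375 (flp_h L361334) q10291, e3 q12376 (flp_h L361356) q10292, e3 q12377 L361368 q12377, e3 q12378 L660594 q14620, e3 q12379 (flp_h L361377) q10294, e3 q12380 L660606 q14621, e3 q12381 (flp_h L361394) q10297, e3 q12382 L649071 q10973, e3 q12383 L361461 q12383, e3 q12384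 L361471 q12384, e3 q12385 L660644 q14624, e3 q12386 L361577 q12386, e3 q12387 L361586 q12387, e3 q12388 L361594 q12388, e3 q12389 L660692 q14628, e3 q12390 (flp_h L361625) q10305, e3 q12391 L361714 q12391, e3 q12392 L361798 q12392, e3 q12393 L533223 q10530, e3 q12394 (flp_h L648444) q11608, e3 q12395 L361826 q12395, e3 q12396 L361835 q12396, e3 q12397 L361843 q12397, e3 q12398 L660756 q14633, e3 q12399 L361859 q12399, e3 q12400 L660793 q14636, e3 q12401 (flp_h L361870) q10315, e3 q12402 L361886 q12402, e3 q12403 L660816 q14638, e3 q12404 (flp_h L361896) q10317, e3 q12405 L361938 q12405, e3 q12406 L361959 q12406, e3 q12407 L362032 q12407, e3 q12408 L362046 q10506, e3 q12409 (flp_h L648509) q11658, e3 q12410 (flp_h L648290) q11659, e3 q12411 (flp_h L648292) q11657, e3 q12412 L648193 q11632, e3 q12413 L660861 q14642, e3 q12414 L660872 q14643, e3 q12415 (flp_h L362185) q10332, trivial⟩ (by decide +kernel)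

theorem ce_h_194 : ∀ r, r < 64 → sm gh (Qf (12416 + r)) = Qf (tab Gen.h (12416 + r)) :=
  edges_tab (sm gh) Qf (tab Gen.h) 12416 [(12416, 11150), (12417, 10406), (12418, 10334), (12419, 10408), (12420, 14650), (12421, 10337), (12422, 10338), (12423, 11147), (12424, 10418), (12425, 11151), (12426, 14658), (12427, 12427), (12428, 10423), (12429, 12429), (12430, 14663), (12431, 14664), (12432, 10346), (12433, 14665), (12434, 10348), (12435, 10431), (12436, 10433), (12437, 14668), (12438, 14670), (12439, 10353), (12440, 10354), (12441, 10361), (12442, 10443), (12443, 10364), (12444, 14678), (12445, 14679), (12446, 10358), (12447, 14671), (12448, 10450), (12449, 14673), (12450, 10452), (12451, 11125), (12452, 14675), (12453, 14693), (12454, 10813), (12455, 10798), (12456, 14696), (12457, 14066), (12458, 14699), (12459, 10365), (12460, 12460), (12461, 14702), (12462, 12462), (12463, 14705), (12464, 10369), (12465, 12465), (12466, 14708), (12467, 10371), (12468, 12468), (12469, 14711), (12470, 10374), (12471, 10376), (12472, 10515),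 (12473, 10475), (12474, 10516), (12475, 10517), (12476, 11342), (12477, 10518), (12478, 11343), (12479, 10519)]
    ⟨e3 q12416 L552110 q11150, e3 q12417 L362211 q10406, e3 q12418 (flp_h L362213) q10334, e3 q12419 L362235 q10408, e3 q12420 L660957 q14650, e3 q12421 (flp_h L362360) q10337, e3 q12422 (flp_h L362370) q10338, e3 q12423 L508372 q11147, e3 q12424 L362397 q10418, e3 q12425 L546898 q11151, e3 q12426 L661048 q14658, e3 q12427 L362431 q12427, e3 q12428 L362441 q10423, e3 q12429 L362449 q12429, e3 q12430 L661093 q14663, e3 q12431 L661102 q14664, e3 q12432 (flp_h L362473) q10346, e3 q12433 L661110 q14665, e3 q12434 (flp_h L362519) q10348, e3 q12435 L362548 q10431, e3 q12436 L362570 q10433, e3 q12437 L661146 q14668, e3 q12438 L661170 q14670, e3 q12439 (flp_h L362637) q10353, e3 q12440 (flp_h L362645) q10354, e3 q12441 L362657 q10361, e3 q12442 L362666 q10443, e3 q12443 L362680 q10364, e3 q12444 L661258 q14678, e3 q12445 L661271 q14679, e3 q12446 (flp_h L362699) q10358, e3 q12447 (flp_h L661190) q14671, e3 q12448 L362721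 q10450, e3 q12449 (flp_h L661213) q14673, e3 q12450 L362737 q10452, e3 q12451 L508317 q11125, e3 q12452 (flp_h L661235) q14675, e3 q12453 L661403 q14693, e3 q12454 L547040 q10813, e3 q12455 L546925 q10798, e3 q12456 L661435 q14696, e3 q12457 (flp_h L654849) q14066, e3 q12458 L661467 q14699, e3 q12459 (flp_h L362792) q10365, e3 q12460 L362804 q12460, e3 q12461 L661488 q14702, e3 q12462 L362814 q12462, e3 q12463 L661507 q14705, e3 q12464 (flp_h L362821) q10369, e3 q12465 L362832 q12465, e3 q12466 L661534 q14708, e3 q12467 (flp_h L362840) q10371, e3 q12468 L362850 q12468, e3 q12469 L661565 q14711, e3 q12470 (flp_h L362858) q10374, e3 q12471 (flp_h L362872) q10376, e3 q12472 L362889 q10515, e3 q12473 L362899 q10475, e3 q12474 L362907 q10516, e3 q12475 L362915 q10517, e3 q12476 L490541 q11342, e3 q12477 L362932 q10518, e3 q12478 L490569 q11343, e3 q12479 L362947 q10519, trivial⟩ (by decide +kernel)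

theorem ce_h_195 : ∀ r, r < 64 → sm gh (Qf (12480 + r)) = Qf (tab Gen.h (12480 + r)) :=
  edges_tab (sm gh) Qf (tab Gen.h) 12480 [(12480, 11200), (12481, 11193), (12482, 10520), (12483, 10488), (12484, 10522), (12485, 10523), (12486, 14726), (12487, 10525), (12488, 10524), (12489, 14725), (12490, 14724), (12491, 10391), (12492, 14640), (12493, 10393), (12494, 14728), (12495, 10395), (12496, 14629), (12497, 10398), (12498, 14055), (12499, 14732), (12500, 14733), (12501, 10400), (12502, 10405), (12503, 11170), (12504, 14738), (12505, 10402), (12506, 10403), (12507, 14734), (12508, 14645), (12509, 14067), (12510, 14746), (12511, 14648), (12512, 14748), (12513, 14750), (12514, 10409), (12515, 10410), (12516, 10417), (12517, 11168), (12518, 10420), (12519, 14758), (12520, 14759), (12521, 10414), (12522, 14751), (12523, 14652), (12524, 14753), (12525, 14654), (12526, 11384), (12527, 14755), (12528, 14773), (12529, 11386), (12530, 11387), (12531, 14776), (12532, 14777), (12533, 10421), (12534, 12534), (12535, 14780), (12536, 12536),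 (12537, 14782), (12538, 10425), (12539, 10426), (12540, 10428), (12541, 10540), (12542, 14666), (12543, 10541)]
    ⟨e3 q12480 L561786 q11200, e3 q12481 L508208 q11193, e3 q12482 L363002 q10520, e3 q12483 L363012 q10488, e3 q12484 L363021 q10522, e3 q12485 L363028 q10523, e3 q12486 L661779 q14726, e3 q12487 L363045 q10525, e3 q12488 L615927 q10524, e3 q12489 (flp_h L661777) q14725, e3 q12490 (flp_h L661762) q14724, e3 q12491 (flp_h L363072) q10391, e3 q12492 (flp_h L660846) q14640, e3 q12493 (flp_h L363098) q10393, e3 q12494 L661812 q14728, e3 q12495 (flp_h L363121) q10395, e3 q12496 (flp_h L660719) q14629, e3 q12497 (flp_h L363138) q10398, e3 q12498 (flp_h L654715) q14055, e3 q12499 L661870 q14732, e3 q12500 L661880 q14733, e3 q12501 (flp_h L363191) q10400, e3 q12502 L363205 q10405, e3 q12503 L542510 q11170, e3 q12504 L661928 q14738, e3 q12505 (flp_h L363222) q10402, e3 q12506 (flp_h L363231) q10403, e3 q12507 (flp_h L661896) q14734, e3 q12508 (flp_h L660905) q14645, e3 q12509 (flp_h L654865) q14067, e3 q12510 L661992 q14746,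 e3 q12511 (flp_h L660942) q14648, e3 q12512 L662014 q14748, e3 q12513 L662042 q14750, e3 q12514 (flp_h L363427) q10409, e3 q12515 (flp_h L363437) q10410, e3 q12516 L363453 q10417, e3 q12517 L513334 q11168, e3 q12518 L363480 q10420, e3 q12519 L662130 q14758, e3 q12520 L662143 q14759, e3 q12521 (flp_h L363501) q10414, e3 q12522 (flp_h L662062) q14751, e3 q12523 (flp_h L660989) q14652, e3 q12524 (flp_h L662085) q14753, e3 q12525 (flp_h L661013) q14654, e3 q12526 L546573 q11384, e3 q12527 (flp_h L662107) q14755, e3 q12528 L662278 q14773, e3 q12529 L546596 q11386, e3 q12530 L546592 q11387, e3 q12531 L662303 q14776, e3 q12532 L662316 q14777, e3 q12533 (flp_h L363615) q10421, e3 q12534 L363630 q12534, e3 q12535 L662341 q14780, e3 q12536 L363646 q12536, e3 q12537 L662357 q14782, e3 q12538 (flp_h L363656) q10425, e3 q12539 (flp_h L363682) q10426, e3 q12540 (flp_h L363726) q10428, e3 q12541 L363745 q10540, e3 q12542 (flp_h L661133) q14666, e3 q12543 L363764 q10541, trivial⟩ (by decide +kernel)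

theorem ce_h_196 : ∀ r, r < 64 → sm gh (Qf (12544 + r)) = Qf (tab Gen.h (12544 + r)) :=
  edges_tab (sm gh) Qf (tab Gen.h) 12544 [(12544, 10542), (12545, 11359), (12546, 10543), (12547, 11361), (12548, 10544), (12549, 11363), (12550, 10545), (12551, 11365), (12552, 14798), (12553, 10438), (12554, 14801), (12555, 10439), (12556, 10449), (12557, 14672), (12558, 10451), (12559, 14674), (12560, 10453), (12561, 10454), (12562, 14815), (12563, 10456), (12564, 10457), (12565, 14819), (12566, 10459), (12567, 14822), (12568, 10446), (12569, 10447), (12570, 14802), (12571, 14681), (12572, 14804), (12573, 14805), (12574, 14833), (12575, 14807), (12576, 14808), (12577, 14839), (12578, 14810), (12579, 14811), (12580, 14845), (12581, 14813), (12582, 14848), (12583, 10455), (12584, 14147), (12585, 14146), (12586, 14852), (12587, 14817), (12588, 14855), (12589, 10458), (12590, 14820), (12591, 14859), (12592, 10460), (12593, 12593), (12594, 14863), (12595, 10463), (12596, 12596), (12597, 14866), (12598, 10465), (12599, 12599), (12600, 14869),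 (12601, 10468), (12602, 14860), (12603, 14872), (12604, 10471), (12605, 10565), (12606, 14713), (12607, 10567)]
    ⟨e3 q12544 L363773 q10542, e3 q12545 L508944 q11359, e3 q12546 L363795 q10543, e3 q12547 L508918 q11361, e3 q12548 L363813 q10544, e3 q12549 L546551 q11363, e3 q12550 L363842 q10545, e3 q12551 L546559 q11365, e3 q12552 L662543 q14798, e3 q12553 (flp_h L363874) q10438, e3 q12554 L662566 q14801, e3 q12555 (flp_h L363892) q10439, e3 q12556 L363906 q10449, e3 q12557 (flp_h L661202) q14672, e3 q12558 L363921 q10451, e3 q12559 (flp_h L661225) q14674, e3 q12560 L363935 q10453, e3 q12561 L363943 q10454, e3 q12562 L662685 q14815, e3 q12563 L363959 q10456, e3 q12564 L363966 q10457, e3 q12565 L662726 q14819, e3 q12566 L363981 q10459, e3 q12567 L662754 q14822, e3 q12568 (flp_h L363991) q10446, e3 q12569 (flp_h L363998) q10447, e3 q12570 (flp_h L662581) q14802, e3 q12571 (flp_h L661294) q14681, e3 q12572 (flp_h L662599) q14804, e3 q12573 (flp_h L662607) q14805, e3 q12574 L662831 q14833, e3 q12575 (flp_h L662624) q14807, e3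 q12576 (flp_h L662633) q14808, e3 q12577 L662876 q14839, e3 q12578 (flp_h L662649) q14810, e3 q12579 (flp_h L662659) q14811, e3 q12580 L662916 q14845, e3 q12581 (flp_h L662676) q14813, e3 q12582 L662934 q14848, e3 q12583 (flp_h L364095) q10455, e3 q12584 (flp_h L655764) q14147, e3 q12585 (flp_h L655749) q14146, e3 q12586 L662971 q14852, e3 q12587 (flp_h L662711) q14817, e3 q12588 L662995 q14855, e3 q12589 (flp_h L364137) q10458, e3 q12590 (flp_h L662744) q14820, e3 q12591 L663030 q14859, e3 q12592 (flp_h L364159) q10460, e3 q12593 L364169 q12593, e3 q12594 L663054 q14863, e3 q12595 (flp_h L364178) q10463, e3 q12596 L364188 q12596, e3 q12597 L663076 q14866, e3 q12598 (flp_h L364196) q10465, e3 q12599 L364209 q12599, e3 q12600 L663095 q14869, e3 q12601 (flp_h L364218) q10468, e3 q12602 (flp_h L663040) q14860, e3 q12603 L663114 q14872, e3 q12604 (flp_h L364239) q10471, e3 q12605 L364269 q10565, e3 q12606 (flp_h L661596) q14713, e3 q12607 L364286 q10567, trivial⟩ (by decide +kernel)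

theorem ce_h_197 : ∀ r, r < 64 → sm gh (Qf (12608 + r)) = Qf (tab Gen.h (12608 + r)) :=
  edges_tab (sm gh) Qf (tab Gen.h) 12608 [(12608, 10568), (12609, 14880), (12610, 10570), (12611, 10571), (12612, 14886), (12613, 14887), (12614, 10478), (12615, 10575), (12616, 14890), (12617, 10480), (12618, 10578), (12619, 14892), (12620, 10482), (12621, 14894), (12622, 10485), (12623, 14856), (12624, 10584), (12625, 10585), (12626, 14900), (12627, 10587), (12628, 10586), (12629, 14899), (12630, 14898), (12631, 10491), (12632, 10589), (12633, 10590), (12634, 14908), (12635, 11324), (12636, 11292), (12637, 10494), (12638, 10495), (12639, 10594), (12640, 14913), (12641, 10498), (12642, 14915), (12643, 10501), (12644, 14198), (12645, 10503), (12646, 14200), (12647, 14201), (12648, 14919), (12649, 10508), (12650, 14922), (12651, 10509), (12652, 10551), (12653, 10553), (12654, 14712), (12655, 14714), (12656, 14715), (12657, 14717), (12658, 14718), (12659, 10528), (12660, 12660), (12661, 14924), (12662, 10533), (12663, 14906), (12664, 10534),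 (12665, 11164), (12666, 11166), (12667, 14784), (12668, 14786), (12669, 14787), (12670, 14789), (12671, 14790)]
    ⟨e3 q12608 L364294 q10568, e3 q12609 L663193 q14880, e3 q12610 L364313 q10570, e3 q12611 L364323 q10571, e3 q12612 L663252 q14886, e3 q12613 L663264 q14887, e3 q12614 (flp_h L364343) q10478, e3 q12615 L364359 q10575, e3 q12616 L663299 q14890, e3 q12617 (flp_h L364371) q10480, e3 q12618 L364388 q10578, e3 q12619 L663320 q14892, e3 q12620 (flp_h L364399) q10482, e3 q12621 L663341 q14894, e3 q12622 (flp_h L364418) q10485, e3 q12623 (flp_h L663013) q14856, e3 q12624 L364445 q10584, e3 q12625 L364454 q10585, e3 q12626 L663416 q14900, e3 q12627 L364472 q10587, e3 q12628 (flp_h L647111) q10586, e3 q12629 (flp_h L663414) q14899, e3 q12630 (flp_h L663399) q14898, e3 q12631 (flp_h L364501) q10491, e3 q12632 L364516 q10589, e3 q12633 L364525 q10590, e3 q12634 L663517 q14908, e3 q12635 L645635 q11324, e3 q12636 L646505 q11292, e3 q12637 (flp_h L364552) q10494, e3 q12638 (flp_h L364563) q10495, e3 q12639 L364579 q10594, e3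 q12640 L663575 q14913, e3 q12641 (flp_h L364590) q10498, e3 q12642 L663593 q14915, e3 q12643 (flp_h L364609) q10501, e3 q12644 (flp_h L656282) q14198, e3 q12645 (flp_h L364625) q10503, e3 q12646 (flp_h L656301) q14200, e3 q12647 (flp_h L656307) q14201, e3 q12648 L663633 q14919, e3 q12649 (flp_h L367130) q10508, e3 q12650 L663666 q14922, e3 q12651 (flp_h L367148) q10509, e3 q12652 L367171 q10551, e3 q12653 L367188 q10553, e3 q12654 (flp_h L661583) q14712, e3 q12655 (flp_h L661606) q14714, e3 q12656 (flp_h L661624) q14715, e3 q12657 (flp_h L661650) q14717, e3 q12658 (flp_h L661670) q14718, e3 q12659 (flp_h L367845) q10528, e3 q12660 L367858 q12660, e3 q12661 L663691 q14924, e3 q12662 (flp_h L368258) q10533, e3 q12663 (flp_h L663504) q14906, e3 q12664 (flp_h L368276) q10534, e3 q12665 L562153 q11164, e3 q12666 L513368 q11166, e3 q12667 (flp_h L662383) q14784, e3 q12668 (flp_h L662403) q14786, e3 q12669 (flp_h L662414) q14787, e3 q12670 (flp_h L662438) q14789, e3 q12671 (flp_h L662449) q14790, trivial⟩ (by decide +kernel)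

theorem ce_h_198 : ∀ r, r < 64 → sm gh (Qf (12672 + r)) = Qf (tab Gen.h (12672 + r)) :=
  edges_tab (sm gh) Qf (tab Gen.h) 12672 [(12672, 14794), (12673, 14934), (12674, 10546), (12675, 12675), (12676, 14921), (12677, 10548), (12678, 10559), (12679, 14923), (12680, 10560), (12681, 10561), (12682, 11218), (12683, 10562), (12684, 11220), (12685, 10563), (12686, 11222), (12687, 10564), (12688, 11224), (12689, 14904), (12690, 14941), (12691, 14943), (12692, 14944), (12693, 14947), (12694, 14949), (12695, 14873), (12696, 14874), (12697, 14902), (12698, 14876), (12699, 14877), (12700, 14962), (12701, 14897), (12702, 10569), (12703, 14881), (12704, 14882), (12705, 14964), (12706, 14965), (12707, 14967), (12708, 10572), (12709, 10573), (12710, 14888), (12711, 14971), (12712, 10576), (12713, 14973), (12714, 10579), (12715, 11208), (12716, 10581), (12717, 11210), (12718, 10768), (12719, 14901), (12720, 14976), (12721, 10591), (12722, 12722), (12723, 12723), (12724, 14978), (12725, 10595), (12726, 12726), (12727, 10597), (12728, 12728),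 (12729, 12729), (12730, 10607), (12731, 13853), (12732, 14980), (12733, 13848), (12734, 10614), (12735, 10730)]
    ⟨e3 q12672 (flp_h L662498) q14794, e3 q12673 L663836 q14934, e3 q12674 (flp_h L368810) q10546, e3 q12675 L368824 q12675, e3 q12676 (flp_h L663664) q14921, e3 q12677 (flp_h L368833) q10548, e3 q12678 L368848 q10559, e3 q12679 (flp_h L663689) q14923, e3 q12680 L368863 q10560, e3 q12681 L368870 q10561, e3 q12682 L562135 q11218, e3 q12683 L368886 q10562, e3 q12684 L546112 q11220, e3 q12685 L368909 q10563, e3 q12686 L512915 q11222, e3 q12687 L368954 q10564, e3 q12688 L543096 q11224, e3 q12689 (flp_h L663477) q14904, e3 q12690 (flp_h L663914) q14941, e3 q12691 (flp_h L663937) q14943, e3 q12692 (flp_h L663950) q14944, e3 q12693 (flp_h L663988) q14947, e3 q12694 (flp_h L664015) q14949, e3 q12695 (flp_h L663132) q14873, e3 q12696 (flp_h L663142) q14874, e3 q12697 (flp_h L663455) q14902, e3 q12698 (flp_h L663163) q14876, e3 q12699 (flp_h L663173) q14877, e3 q12700 L664199 q14962, e3 q12701 (flp_h L663383) q14897, e3 q12702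 (flp_h L369368) q10569, e3 q12703 (flp_h L663215) q14881, e3 q12704 (flp_h L663225) q14882, e3 q12705 L664225 q14964, e3 q12706 L664237 q14965, e3 q12707 L664257 q14967, e3 q12708 (flp_h L369418) q10572, e3 q12709 (flp_h L369426) q10573, e3 q12710 (flp_h L663285) q14888, e3 q12711 L664308 q14971, e3 q12712 (flp_h L369453) q10576, e3 q12713 L664329 q14973, e3 q12714 (flp_h L369470) q10579, e3 q12715 L512657 q11208, e3 q12716 (flp_h L369483) q10581, e3 q12717 L512620 q11210, e3 q12718 L512674 q10768, e3 q12719 (flp_h L663440) q14901, e3 q12720 L664359 q14976, e3 q12721 (flp_h L369652) q10591, e3 q12722 L369695 q12722, e3 q12723 L369702 q12723, e3 q12724 L664381 q14978, e3 q12725 (flp_h L369713) q10595, e3 q12726 L369727 q12726, e3 q12727 (flp_h L369728) q10597, e3 q12728 L369742 q12728, e3 q12729 L369748 q12729, e3 q12730 (flp_h L372534) q10607, e3 q12731 (flp_h L652041) q13853, e3 q12732 (flp_h L664412) q14980, e3 q12733 L651952 q13848, e3 q12734 (flp_h L373232) q10614, e3 q12735 L373247 q10730, trivial⟩ (by decide +kernel)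

theorem ce_h_199 : ∀ r, r < 64 → sm gh (Qf (12736 + r)) = Qf (tab Gen.h (12736 + r)) :=
  edges_tab (sm gh) Qf (tab Gen.h) 12736 [(12736, 10732), (12737, 13919), (12738, 10619), (12739, 10747), (12740, 10628), (12741, 14981), (12742, 10653), (12743, 10654), (12744, 10635), (12745, 10656), (12746, 13886), (12747, 10954), (12748, 10952), (12749, 10896), (12750, 10918), (12751, 10643), (12752, 11669), (12753, 11400), (12754, 14989), (12755, 11399), (12756, 10652), (12757, 14982), (12758, 10650), (12759, 10949), (12760, 13895), (12761, 13875), (12762, 10946), (12763, 15001), (12764, 10940), (12765, 14985), (12766, 11590), (12767, 13873), (12768, 10664), (12769, 11672), (12770, 13856), (12771, 13870), (12772, 10910), (12773, 14993), (12774, 10902), (12775, 10960), (12776, 15009), (12777, 10671), (12778, 10676), (12779, 10712), (12780, 13993), (12781, 10673), (12782, 15010), (12783, 10717), (12784, 15012), (12785, 15018), (12786, 10721), (12787, 10731), (12788, 15019), (12789, 10684), (12790, 15020), (12791, 10689), (12792, 13977),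 (12793, 10725), (12794, 10723), (12795, 10693), (12796, 13974), (12797, 11082), (12798, 13978), (12799, 15029)]
    ⟨e3 q12736 L373263 q10732, e3 q12737 (flp_h L652976) q13919, e3 q12738 (flp_h L373301) q10619, e3 q12739 L373378 q10747, e3 q12740 (flp_h L373992) q10628, e3 q12741 (flp_h L664426) q14981, e3 q12742 L374047 q10653, e3 q12743 L374078 q10654, e3 q12744 (flp_h L374301) q10635, e3 q12745 L591727 q10656, e3 q12746 (flp_h L652546) q13886, e3 q12747 L591870 q10954, e3 q12748 L591692 q10952, e3 q12749 L550200 q10896, e3 q12750 L591700 q10918, e3 q12751 (flp_h L374536) q10643, e3 q12752 L648945 q11669, e3 q12753 (flp_h L648600) q11400, e3 q12754 (flp_h L664536) q14989, e3 q12755 (flp_h L648252) q11399, e3 q12756 L374630 q10652, e3 q12757 (flp_h L664442) q14982, e3 q12758 (flp_h L374649) q10650, e3 q12759 L612250 q10949, e3 q12760 (flp_h L652664) q13895, e3 q12761 (flp_h L652389) q13875, e3 q12762 L612163 q10946, e3 q12763 L664664 q15001, e3 q12764 (flp_h L612186) q10940, e3 q12765 (flp_h L664483) q14985, e3 q12766 L374786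 q11590, e3 q12767 (flp_h L652356) q13873, e3 q12768 L640328 q10664, e3 q12769 (flp_h L648953) q11672, e3 q12770 L652098 q13856, e3 q12771 (flp_h L652305) q13870, e3 q12772 L637294 q10910, e3 q12773 (flp_h L664587) q14993, e3 q12774 L637300 q10902, e3 q12775 L637276 q10960, e3 q12776 L664750 q15009, e3 q12777 (flp_h L375811) q10671, e3 q12778 L375823 q10676, e3 q12779 L375831 q10712, e3 q12780 (flp_h L653947) q13993, e3 q12781 (flp_h L375845) q10673, e3 q12782 (flp_h L664776) q15010, e3 q12783 L375881 q10717, e3 q12784 (flp_h L664800) q15012, e3 q12785 L664856 q15018, e3 q12786 L375919 q10721, e3 q12787 L376019 q10731, e3 q12788 L664866 q15019, e3 q12789 (flp_h L376057) q10684, e3 q12790 L664874 q15020, e3 q12791 (flp_h L376206) q10689, e3 q12792 (flp_h L653775) q13977, e3 q12793 L591882 q10725, e3 q12794 L551229 q10723, e3 q12795 (flp_h L376387) q10693, e3 q12796 (flp_h L653735) q13974, e3 q12797 L455291 q11082, e3 q12798 (flp_h L653795) q13978, e3 q12799 L664976 q15029, trivial⟩ (by decide +kernel)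

theorem ce_h_200 : ∀ r, r < 64 → sm gh (Qf (12800 + r)) = Qf (tab Gen.h (12800 + r)) :=
  edges_tab (sm gh) Qf (tab Gen.h) 12800 [(12800, 11080), (12801, 10980), (12802, 11013), (12803, 11014), (12804, 15032), (12805, 10702), (12806, 11675), (12807, 11463), (12808, 13852), (12809, 11461), (12810, 15037), (12811, 10707), (12812, 10709), (12813, 10716), (12814, 15011), (12815, 10719), (12816, 15043), (12817, 15044), (12818, 10713), (12819, 15038), (12820, 15015), (12821, 11072), (12822, 13995), (12823, 13948), (12824, 11069), (12825, 15057), (12826, 13937), (12827, 13950), (12828, 15062), (12829, 15041), (12830, 15065), (12831, 10720), (12832, 11058), (12833, 15022), (12834, 11593), (12835, 13938), (12836, 11594), (12837, 13939), (12838, 10728), (12839, 13915), (12840, 13994), (12841, 13944), (12842, 10771), (12843, 15071), (12844, 13945), (12845, 13922), (12846, 13933), (12847, 15081), (12848, 10735), (12849, 15082), (12850, 10737), (12851, 10744), (12852, 13927), (12853, 11015), (12854, 11102), (12855, 10878), (12856, 14266),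 (12857, 13929), (12858, 14484), (12859, 15089), (12860, 10748), (12861, 15090), (12862, 10751), (12863, 11119)]
    ⟨e3 q12800 L568064 q11080, e3 q12801 (flp_h L576504) q10980, e3 q12802 L576533 q11013, e3 q12803 L576539 q11014, e3 q12804 L665010 q15032, e3 q12805 (flp_h L376541) q10702, e3 q12806 L649060 q11675, e3 q12807 L648720 q11463, e3 q12808 (flp_h L652023) q13852, e3 q12809 (flp_h L648250) q11461, e3 q12810 L665080 q15037, e3 q12811 (flp_h L376613) q10707, e3 q12812 (flp_h L376635) q10709, e3 q12813 L376655 q10716, e3 q12814 (flp_h L664792) q15011, e3 q12815 L376673 q10719, e3 q12816 L665150 q15043, e3 q12817 L665156 q15044, e3 q12818 (flp_h L376691) q10713, e3 q12819 (flp_h L665102) q15038, e3 q12820 (flp_h L664832) q15015, e3 q12821 L611619 q11072, e3 q12822 (flp_h L653983) q13995, e3 q12823 (flp_h L653399) q13948, e3 q12824 L622085 q11069, e3 q12825 L665283 q15057, e3 q12826 (flp_h L653231) q13937, e3 q12827 (flp_h L653425) q13950, e3 q12828 L665316 q15062, e3 q12829 (flp_h L665136) q15041, e3 q12830 L665334 q15065,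 e3 q12831 (flp_h L376788) q10720, e3 q12832 (flp_h L622107) q11058, e3 q12833 (flp_h L664914) q15022, e3 q12834 L376848 q11593, e3 q12835 (flp_h L653246) q13938, e3 q12836 L376875 q11594, e3 q12837 (flp_h L653263) q13939, e3 q12838 (flp_h L376903) q10728, e3 q12839 L652915 q13915, e3 q12840 (flp_h L653967) q13994, e3 q12841 (flp_h L653336) q13944, e3 q12842 L635164 q10771, e3 q12843 (flp_h L665403) q15071, e3 q12844 (flp_h L653353) q13945, e3 q12845 (flp_h L653022) q13922, e3 q12846 (flp_h L653174) q13933, e3 q12847 L665490 q15081, e3 q12848 (flp_h L376976) q10735, e3 q12849 L665499 q15082, e3 q12850 (flp_h L376995) q10737, e3 q12851 L649079 q10744, e3 q12852 (flp_h L653093) q13927, e3 q12853 L641037 q11015, e3 q12854 L634922 q11102, e3 q12855 L635147 q10878, e3 q12856 L657105 q14266, e3 q12857 (flp_h L653122) q13929, e3 q12858 (flp_h L659360) q14484, e3 q12859 L665572 q15089, e3 q12860 (flp_h L377114) q10748, e3 q12861 L665583 q15090, e3 q12862 (flp_h L377130) q10751, e3 q12863 L377138 q11119, trivial⟩ (by decide +kernel)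

theorem ce_h_201 : ∀ r, r < 64 → sm gh (Qf (12864 + r)) = Qf (tab Gen.h (12864 + r)) :=
  edges_tab (sm gh) Qf (tab Gen.h) 12864 [(12864, 12864), (12865, 15095), (12866, 10754), (12867, 12867), (12868, 15097), (12869, 10756), (12870, 15099), (12871, 15100), (12872, 10758), (12873, 10759), (12874, 10766), (12875, 10836), (12876, 15106), (12877, 15075), (12878, 10763), (12879, 15101), (12880, 10843), (12881, 15103), (12882, 10845), (12883, 14975), (12884, 15116), (12885, 14646), (12886, 15119), (12887, 10769), (12888, 10865), (12889, 12889), (12890, 15122), (12891, 12891), (12892, 15125), (12893, 12893), (12894, 15128), (12895, 10778), (12896, 12896), (12897, 15130), (12898, 10780), (12899, 12899), (12900, 15134), (12901, 10784), (12902, 12902), (12903, 15137), (12904, 10786), (12905, 12905), (12906, 15139), (12907, 10788), (12908, 15141), (12909, 10791), (12910, 11189), (12911, 15144), (12912, 10793), (12913, 11609), (12914, 15146), (12915, 10795), (12916, 10796), (12917, 14689), (12918, 10858), (12919, 15152), (12920, 10856),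 (12921, 10802), (12922, 10803), (12923, 10810), (12924, 11639), (12925, 10812), (12926, 15160), (12927, 15161)]
    ⟨e3 q12864 L377819 q12864, e3 q12865 L665641 q15095, e3 q12866 (flp_h L377830) q10754, e3 q12867 L377846 q12867, e3 q12868 L665663 q15097, e3 q12869 (flp_h L377857) q10756, e3 q12870 L665682 q15099, e3 q12871 L665695 q15100, e3 q12872 (flp_h L378370) q10758, e3 q12873 (flp_h L378377) q10759, e3 q12874 L378393 q10766, e3 q12875 L378404 q10836, e3 q12876 L665768 q15106, e3 q12877 (flp_h L665443) q15075, e3 q12878 (flp_h L378437) q10763, e3 q12879 (flp_h L665716) q15101, e3 q12880 L378461 q10843, e3 q12881 (flp_h L665740) q15103, e3 q12882 L378481 q10845, e3 q12883 (flp_h L664356) q14975, e3 q12884 L665877 q15116, e3 q12885 (flp_h L660916) q14646, e3 q12886 L665915 q15119, e3 q12887 (flp_h L378540) q10769, e3 q12888 L378670 q10865, e3 q12889 L378676 q12889, e3 q12890 L665939 q15122, e3 q12891 L378695 q12891, e3 q12892 L665971 q15125, e3 q12893 L378709 q12893, e3 q12894 L666006 q15128, e3 q12895 (flp_h L378718) q10778,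 e3 q12896 L378732 q12896, e3 q12897 L666028 q15130, e3 q12898 (flp_h L378740) q10780, e3 q12899 L378794 q12899, e3 q12900 L666064 q15134, e3 q12901 (flp_h L378815) q10784, e3 q12902 L378830 q12902, e3 q12903 L666090 q15137, e3 q12904 (flp_h L378841) q10786, e3 q12905 L378856 q12905, e3 q12906 L666110 q15139, e3 q12907 (flp_h L378866) q10788, e3 q12908 L666131 q15141, e3 q12909 (flp_h L378882) q10791, e3 q12910 L378895 q11189, e3 q12911 L666157 q15144, e3 q12912 (flp_h L378936) q10793, e3 q12913 (flp_h L648360) q11609, e3 q12914 L666187 q15146, e3 q12915 (flp_h L378973) q10795, e3 q12916 (flp_h L378982) q10796, e3 q12917 (flp_h L661377) q14689, e3 q12918 L505951 q10858, e3 q12919 L666258 q15152, e3 q12920 L554064 q10856, e3 q12921 (flp_h L379221) q10802, e3 q12922 (flp_h L379228) q10803, e3 q12923 L379244 q10810, e3 q12924 (flp_h L648779) q11639, e3 q12925 L379260 q10812, e3 q12926 L666338 q15160, e3 q12927 L666347 q15161, trivial⟩ (by decide +kernel)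

theorem ce_h_202 : ∀ r, r < 64 → sm gh (Qf (12928 + r)) = Qf (tab Gen.h (12928 + r)) :=
  edges_tab (sm gh) Qf (tab Gen.h) 12928 [(12928, 10807), (12929, 15153), (12930, 11269), (12931, 15155), (12932, 11267), (12933, 15157), (12934, 14688), (12935, 15175), (12936, 14017), (12937, 14016), (12938, 15178), (12939, 15179), (12940, 10814), (12941, 11121), (12942, 11156), (12943, 11120), (12944, 11158), (12945, 10820), (12946, 12946), (12947, 11561), (12948, 12948), (12949, 12949), (12950, 15192), (12951, 12951), (12952, 15195), (12953, 12953), (12954, 15198), (12955, 10827), (12956, 12956), (12957, 15200), (12958, 10829), (12959, 10831), (12960, 15204), (12961, 10832), (12962, 10842), (12963, 15102), (12964, 10844), (12965, 15104), (12966, 10846), (12967, 10847), (12968, 15217), (12969, 10849), (12970, 10850), (12971, 15221), (12972, 10852), (12973, 15224), (12974, 10839), (12975, 10840), (12976, 15205), (12977, 15108), (12978, 15207), (12979, 15208), (12980, 15235), (12981, 15210), (12982, 11636), (12983, 15241), (12984, 15212),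 (12985, 15213), (12986, 15247), (12987, 15215), (12988, 15250), (12989, 10848), (12990, 14850), (12991, 15218)]
    ⟨e3 q12928 (flp_h L379286) q10807, e3 q12929 (flp_h L666275) q15153, e3 q12930 L567874 q11269, e3 q12931 (flp_h L666297) q15155, e3 q12932 L554051 q11267, e3 q12933 (flp_h L666319) q15157, e3 q12934 (flp_h L661359) q14688, e3 q12935 L666472 q15175, e3 q12936 (flp_h L654257) q14017, e3 q12937 (flp_h L654240) q14016, e3 q12938 L666499 q15178, e3 q12939 L666506 q15179, e3 q12940 (flp_h L379390) q10814, e3 q12941 L554275 q11121, e3 q12942 L554059 q11156, e3 q12943 L554280 q11120, e3 q12944 L504994 q11158, e3 q12945 (flp_h L379501) q10820, e3 q12946 L379518 q12946, e3 q12947 (flp_h L648730) q11561, e3 q12948 L379534 q12948, e3 q12949 L379540 q12949, e3 q12950 L666649 q15192, e3 q12951 L379559 q12951, e3 q12952 L666677 q15195, e3 q12953 L379576 q12953, e3 q12954 L666706 q15198, e3 q12955 (flp_h L379587) q10827, e3 q12956 L379601 q12956, e3 q12957 L666727 q15200, e3 q12958 (flp_h L379611) q10829, e3 q12959 (flp_h L379629)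 q10831, e3 q12960 L666766 q15204, e3 q12961 (flp_h L379646) q10832, e3 q12962 L379661 q10842, e3 q12963 (flp_h L665727) q15102, e3 q12964 L379677 q10844, e3 q12965 (flp_h L665754) q15104, e3 q12966 L379693 q10846, e3 q12967 L379702 q10847, e3 q12968 L666889 q15217, e3 q12969 L379718 q10849, e3 q12970 L379727 q10850, e3 q12971 L666927 q15221, e3 q12972 L379742 q10852, e3 q12973 L666955 q15224, e3 q12974 (flp_h L379753) q10839, e3 q12975 (flp_h L379760) q10840, e3 q12976 (flp_h L666784) q15205, e3 q12977 (flp_h L665803) q15108, e3 q12978 (flp_h L666801) q15207, e3 q12979 (flp_h L666808) q15208, e3 q12980 L667036 q15235, e3 q12981 (flp_h L666825) q15210, e3 q12982 (flp_h L648927) q11636, e3 q12983 L667091 q15241, e3 q12984 (flp_h L666844) q15212, e3 q12985 (flp_h L666856) q15213, e3 q12986 L667139 q15247, e3 q12987 (flp_h L666875) q15215, e3 q12988 L667161 q15250, e3 q12989 (flp_h L379869) q10848, e3 q12990 (flp_h L662959) q14850, e3 q12991 (flp_h L666906) q15218, trivial⟩ (by decide +kernel)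

theorem ce_h_203 : ∀ r, r < 64 → sm gh (Qf (12992 + r)) = Qf (tab Gen.h (12992 + r)) :=
  edges_tab (sm gh) Qf (tab Gen.h) 12992 [(12992, 15255), (12993, 15117), (12994, 15258), (12995, 10851), (12996, 15222), (12997, 15262), (12998, 10853), (12999, 11057), (13000, 15150), (13001, 11610), (13002, 15148), (13003, 11611), (13004, 14065), (13005, 14069), (13006, 13006), (13007, 15077), (13008, 13008), (13009, 13009), (13010, 15273), (13011, 13011), (13012, 13012), (13013, 15279), (13014, 15280), (13015, 10868), (13016, 13016), (13017, 15283), (13018, 10870), (13019, 13019), (13020, 15285), (13021, 10872), (13022, 15287), (13023, 10875), (13024, 15259), (13025, 15290), (13026, 13026), (13027, 13027), (13028, 15293), (13029, 15294), (13030, 10881), (13031, 13031), (13032, 13032), (13033, 15297), (13034, 11322), (13035, 15299), (13036, 10884), (13037, 10885), (13038, 13038), (13039, 15302), (13040, 10888), (13041, 15303), (13042, 10891), (13043, 11305), (13044, 10893), (13045, 11307), (13046, 11308), (13047, 10897), (13048, 10898),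 (13049, 15305), (13050, 10929), (13051, 10931), (13052, 10936), (13053, 13053), (13054, 15313), (13055, 10939)]
    ⟨e3 q12992 L667216 q15255, e3 q12993 (flp_h L665900) q15117, e3 q12994 L667236 q15258, e3 q12995 (flp_h L379913) q10851, e3 q12996 (flp_h L666942) q15222, e3 q12997 L667263 q15262, e3 q12998 (flp_h L379933) q10853, e3 q12999 L617269 q11057, e3 q13000 (flp_h L666244) q15150, e3 q13001 L379974 q11610, e3 q13002 (flp_h L666217) q15148, e3 q13003 L380003 q11611, e3 q13004 (flp_h L654840) q14065, e3 q13005 (flp_h L654896) q14069, e3 q13006 L380073 q13006, e3 q13007 (flp_h L665465) q15077, e3 q13008 L380087 q13008, e3 q13009 L380094 q13009, e3 q13010 L667358 q15273, e3 q13011 L380110 q13011, e3 q13012 L380117 q13012, e3 q13013 L667400 q15279, e3 q13014 L667407 q15280, e3 q13015 (flp_h L380132) q10868, e3 q13016 L380145 q13016, e3 q13017 L667434 q15283, e3 q13018 (flp_h L380156) q10870, e3 q13019 L380172 q13019, e3 q13020 L667452 q15285, e3 q13021 (flp_h L380182) q10872, e3 q13022 L667467 q15287, e3 q13023 (flp_h L380198)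 q10875, e3 q13024 (flp_h L667246) q15259, e3 q13025 L667487 q15290, e3 q13026 L380242 q13026, e3 q13027 L380250 q13027, e3 q13028 L667518 q15293, e3 q13029 L667530 q15294, e3 q13030 (flp_h L380271) q10881, e3 q13031 L380285 q13031, e3 q13032 L380291 q13032, e3 q13033 L667555 q15297, e3 q13034 L645645 q11322, e3 q13035 L667578 q15299, e3 q13036 (flp_h L380315) q10884, e3 q13037 (flp_h L380323) q10885, e3 q13038 L380338 q13038, e3 q13039 L667610 q15302, e3 q13040 (flp_h L380350) q10888, e3 q13041 L667621 q15303, e3 q13042 (flp_h L380370) q10891, e3 q13043 L380384 q11305, e3 q13044 (flp_h L380386) q10893, e3 q13045 L380400 q11307, e3 q13046 L380406 q11308, e3 q13047 (flp_h L380517) q10897, e3 q13048 (flp_h L380547) q10898, e3 q13049 (flp_h L667655) q15305, e3 q13050 L380573 q10929, e3 q13051 L380605 q10931, e3 q13052 L380706 q10936, e3 q13053 L380715 q13053, e3 q13054 L667734 q15313, e3 q13055 L380737 q10939, trivial⟩ (by decide +kernel)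

theorem ce_h_204 : ∀ r, r < 64 → sm gh (Qf (13056 + r)) = Qf (tab Gen.h (13056 + r)) :=
  edges_tab (sm gh) Qf (tab Gen.h) 13056 [(13056, 10912), (13057, 10942), (13058, 14984), (13059, 10947), (13060, 15314), (13061, 15307), (13062, 15320), (13063, 10951), (13064, 11613), (13065, 14988), (13066, 15321), (13067, 10921), (13068, 10928), (13069, 15306), (13070, 10925), (13071, 10926), (13072, 14986), (13073, 15308), (13074, 15322), (13075, 15329), (13076, 11617), (13077, 15330), (13078, 10932), (13079, 13079), (13080, 15008), (13081, 13997), (13082, 15332), (13083, 15333), (13084, 10938), (13085, 10948), (13086, 15336), (13087, 15337), (13088, 10943), (13089, 14999), (13090, 15007), (13091, 13996), (13092, 14997), (13093, 15343), (13094, 15334), (13095, 14994), (13096, 15349), (13097, 14992), (13098, 15352), (13099, 10950), (13100, 11614), (13101, 13876), (13102, 11442), (13103, 11395), (13104, 10957), (13105, 13105), (13106, 13106), (13107, 13107), (13108, 15357), (13109, 14622), (13110, 13110), (13111, 15359), (13112, 10964),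 (13113, 13113), (13114, 15361), (13115, 10966), (13116, 13116), (13117, 15363), (13118, 10971), (13119, 13119)]
    ⟨e3 q13056 L380768 q10912, e3 q13057 L380777 q10942, e3 q13058 (flp_h L664468) q14984, e3 q13059 L380817 q10947, e3 q13060 (flp_h L667749) q15314, e3 q13061 (flp_h L667684) q15307, e3 q13062 L667789 q15320, e3 q13063 L380856 q10951, e3 q13064 L648352 q11613, e3 q13065 (flp_h L664520) q14988, e3 q13066 L667795 q15321, e3 q13067 (flp_h L381010) q10921, e3 q13068 L381329 q10928, e3 q13069 (flp_h L667670) q15306, e3 q13070 (flp_h L381349) q10925, e3 q13071 (flp_h L381358) q10926, e3 q13072 (flp_h L664495) q14986, e3 q13073 (flp_h L667700) q15308, e3 q13074 (flp_h L667809) q15322, e3 q13075 L667869 q15329, e3 q13076 L648354 q11617, e3 q13077 L667875 q15330, e3 q13078 (flp_h L381530) q10932, e3 q13079 L381547 q13079, e3 q13080 (flp_h L664748) q15008, e3 q13081 (flp_h L654020) q13997, e3 q13082 L667894 q15332, e3 q13083 L667904 q15333, e3 q13084 (flp_h L381617) q10938, e3 q13085 L381671 q10948, e3 q13086 L667929 q15336,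 e3 q13087 L667935 q15337, e3 q13088 (flp_h L381695) q10943, e3 q13089 (flp_h L664650) q14999, e3 q13090 (flp_h L664734) q15007, e3 q13091 (flp_h L654001) q13996, e3 q13092 (flp_h L664631) q14997, e3 q13093 L667975 q15343, e3 q13094 (flp_h L667920) q15334, e3 q13095 (flp_h L664597) q14994, e3 q13096 L668019 q15349, e3 q13097 (flp_h L664574) q14992, e3 q13098 L668037 q15352, e3 q13099 (flp_h L381785) q10950, e3 q13100 L381840 q11614, e3 q13101 (flp_h L652405) q13876, e3 q13102 (flp_h L642550) q11442, e3 q13103 L648668 q11395, e3 q13104 (flp_h L381895) q10957, e3 q13105 L381912 q13105, e3 q13106 L381926 q13106, e3 q13107 L381931 q13107, e3 q13108 L668082 q15357, e3 q13109 (flp_h L660626) q14622, e3 q13110 L381970 q13110, e3 q13111 L668103 q15359, e3 q13112 (flp_h L381981) q10964, e3 q13113 L381998 q13113, e3 q13114 L668122 q15361, e3 q13115 (flp_h L382009) q10966, e3 q13116 L382047 q13116, e3 q13117 L668138 q15363, e3 q13118 (flp_h L382088) q10971, e3 q13119 L382102 q13119, trivial⟩ (by decide +kernel)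

theorem ce_h_205 : ∀ r, r < 64 → sm gh (Qf (13120 + r)) = Qf (tab Gen.h (13120 + r)) :=
  edges_tab (sm gh) Qf (tab Gen.h) 13120 [(13120, 14483), (13121, 13121), (13122, 15366), (13123, 10975), (13124, 15367), (13125, 10978), (13126, 15030), (13127, 15368), (13128, 10981), (13129, 10986), (13130, 11037), (13131, 15372), (13132, 10983), (13133, 10984), (13134, 15369), (13135, 11042), (13136, 14574), (13137, 15380), (13138, 11045), (13139, 15084), (13140, 10990), (13141, 13141), (13142, 11049), (13143, 11051), (13144, 13144), (13145, 15386), (13146, 13146), (13147, 15389), (13148, 10996), (13149, 10998), (13150, 11005), (13151, 11061), (13152, 11007), (13153, 11008), (13154, 15397), (13155, 15074), (13156, 11002), (13157, 15390), (13158, 11068), (13159, 15021), (13160, 11070), (13161, 15392), (13162, 15375), (13163, 15408), (13164, 15394), (13165, 14573), (13166, 15413), (13167, 15414), (13168, 11009), (13169, 11618), (13170, 11033), (13171, 15031), (13172, 11089), (13173, 13173), (13174, 13174), (13175, 15419), (13176, 15420),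 (13177, 11021), (13178, 13178), (13179, 15422), (13180, 11023), (13181, 15424), (13182, 11027), (13183, 15425)]
    ⟨e3 q13120 (flp_h L659347) q14483, e3 q13121 L382130 q13121, e3 q13122 L668169 q15366, e3 q13123 (flp_h L382140) q10975, e3 q13124 L668178 q15367, e3 q13125 (flp_h L382159) q10978, e3 q13126 (flp_h L664991) q15030, e3 q13127 L668188 q15368, e3 q13128 (flp_h L382351) q10981, e3 q13129 L382364 q10986, e3 q13130 L382373 q11037, e3 q13131 L668236 q15372, e3 q13132 (flp_h L382387) q10983, e3 q13133 (flp_h L382397) q10984, e3 q13134 (flp_h L668213) q15369, e3 q13135 L382423 q11042, e3 q13136 (flp_h L660173) q14574, e3 q13137 L668322 q15380, e3 q13138 L382464 q11045, e3 q13139 (flp_h L665528) q15084, e3 q13140 (flp_h L382550) q10990, e3 q13141 L382568 q13141, e3 q13142 L382578 q11049, e3 q13143 L382598 q11051, e3 q13144 L382607 q13144, e3 q13145 L668373 q15386, e3 q13146 L382621 q13146, e3 q13147 L668397 q15389, e3 q13148 (flp_h L382630) q10996, e3 q13149 (flp_h L382657) q10998, e3 q13150 L382673 q11005, e3 q13151 L382682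 q11061, e3 q13152 L382686 q11007, e3 q13153 L382691 q11008, e3 q13154 L668449 q15397, e3 q13155 (flp_h L665427) q15074, e3 q13156 (flp_h L382707) q11002, e3 q13157 (flp_h L668409) q15390, e3 q13158 L382729 q11068, e3 q13159 (flp_h L664899) q15021, e3 q13160 L382743 q11070, e3 q13161 (flp_h L668422) q15392, e3 q13162 (flp_h L668280) q15375, e3 q13163 L668526 q15408, e3 q13164 (flp_h L668434) q15394, e3 q13165 (flp_h L660161) q14573, e3 q13166 L668556 q15413, e3 q13167 L668560 q15414, e3 q13168 (flp_h L382788) q11009, e3 q13169 L648646 q11618, e3 q13170 L552224 q11033, e3 q13171 (flp_h L665008) q15031, e3 q13172 L382910 q11089, e3 q13173 L382916 q13173, e3 q13174 L382921 q13174, e3 q13175 L668596 q15419, e3 q13176 L668605 q15420, e3 q13177 (flp_h L382963) q11021, e3 q13178 L382978 q13178, e3 q13179 L668620 q15422, e3 q13180 (flp_h L382986) q11023, e3 q13181 L668633 q15424, e3 q13182 (flp_h L383060) q11027, e3 q13183 L668640 q15425, trivial⟩ (by decide +kernel)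

theorem ce_h_206 : ∀ r, r < 64 → sm gh (Qf (13184 + r)) = Qf (tab Gen.h (13184 + r)) :=
  edges_tab (sm gh) Qf (tab Gen.h) 13184 [(13184, 11030), (13185, 14275), (13186, 15326), (13187, 15180), (13188, 11034), (13189, 11041), (13190, 15370), (13191, 11043), (13192, 15434), (13193, 15435), (13194, 11038), (13195, 15428), (13196, 15374), (13197, 15026), (13198, 15376), (13199, 15430), (13200, 15443), (13201, 15432), (13202, 15446), (13203, 11044), (13204, 11046), (13205, 13205), (13206, 15381), (13207, 13207), (13208, 13208), (13209, 15452), (13210, 15453), (13211, 15454), (13212, 11053), (13213, 13213), (13214, 15456), (13215, 11055), (13216, 15066), (13217, 11067), (13218, 15391), (13219, 11071), (13220, 15463), (13221, 11074), (13222, 11075), (13223, 15468), (13224, 11077), (13225, 15470), (13226, 11064), (13227, 11065), (13228, 15055), (13229, 15399), (13230, 15458), (13231, 15459), (13232, 15481), (13233, 15053), (13234, 15484), (13235, 15461), (13236, 15050), (13237, 15490), (13238, 15045), (13239, 15493), (13240, 11073),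 (13241, 14495), (13242, 15464), (13243, 15498), (13244, 15466), (13245, 15501), (13246, 11076), (13247, 15469)]
    ⟨e3 q13184 (flp_h L383120) q11030, e3 q13185 L657215 q14275, e3 q13186 (flp_h L667849) q15326, e3 q13187 (flp_h L666526) q15180, e3 q13188 (flp_h L383402) q11034, e3 q13189 L383424 q11041, e3 q13190 (flp_h L668228) q15370, e3 q13191 L383439 q11043, e3 q13192 L668703 q15434, e3 q13193 L668709 q15435, e3 q13194 (flp_h L383464) q11038, e3 q13195 (flp_h L668665) q15428, e3 q13196 (flp_h L668266) q15374, e3 q13197 (flp_h L664954) q15026, e3 q13198 (flp_h L668296) q15376, e3 q13199 (flp_h L668680) q15430, e3 q13200 L668779 q15443, e3 q13201 (flp_h L668694) q15432, e3 q13202 L668797 q15446, e3 q13203 (flp_h L383566) q11044, e3 q13204 (flp_h L383692) q11046, e3 q13205 L383710 q13205, e3 q13206 (flp_h L668339) q15381, e3 q13207 L383728 q13207, e3 q13208 L383734 q13208, e3 q13209 L668850 q15452, e3 q13210 L668858 q15453, e3 q13211 L668868 q15454, e3 q13212 (flp_h L383786) q11053, e3 q13213 L383801 q13213, e3 q13214 L668888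 q15456, e3 q13215 (flp_h L383811) q11055, e3 q13216 (flp_h L665347) q15066, e3 q13217 L383852 q11067, e3 q13218 (flp_h L668416) q15391, e3 q13219 L383876 q11071, e3 q13220 L668932 q15463, e3 q13221 L383896 q11074, e3 q13222 L383902 q11075, e3 q13223 L668961 q15468, e3 q13224 L383913 q11077, e3 q13225 L668973 q15470, e3 q13226 (flp_h L383921) q11064, e3 q13227 (flp_h L383925) q11065, e3 q13228 (flp_h L665269) q15055, e3 q13229 (flp_h L668471) q15399, e3 q13230 (flp_h L668905) q15458, e3 q13231 (flp_h L668910) q15459, e3 q13232 L669043 q15481, e3 q13233 (flp_h L665250) q15053, e3 q13234 L669061 q15484, e3 q13235 (flp_h L668923) q15461, e3 q13236 (flp_h L665218) q15050, e3 q13237 L669103 q15490, e3 q13238 (flp_h L665176) q15045, e3 q13239 L669121 q15493, e3 q13240 (flp_h L384017) q11073, e3 q13241 (flp_h L659477) q14495, e3 q13242 (flp_h L668942) q15464, e3 q13243 L669153 q15498, e3 q13244 (flp_h L668953) q15466, e3 q13245 L669171 q15501, e3 q13246 (flp_h L384051) q11076, e3 q13247 (flp_h L668971) q15469, trivial⟩ (by decide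 +kernel)

theorem ce_h_207 : ∀ r, r < 64 → sm gh (Qf (13248 + r)) = Qf (tab Gen.h (13248 + r)) :=
  edges_tab (sm gh) Qf (tab Gen.h) 13248 [(13248, 15505), (13249, 11078), (13250, 11622), (13251, 15025), (13252, 11623), (13253, 13949), (13254, 11447), (13255, 13255), (13256, 15085), (13257, 13257), (13258, 13258), (13259, 15514), (13260, 13260), (13261, 13261), (13262, 15520), (13263, 15521), (13264, 11092), (13265, 13265), (13266, 15523), (13267, 11094), (13268, 13268), (13269, 15525), (13270, 11096), (13271, 15527), (13272, 11099), (13273, 15502), (13274, 15530), (13275, 13275), (13276, 13276), (13277, 15535), (13278, 15300), (13279, 11105), (13280, 13280), (13281, 13281), (13282, 15540), (13283, 11323), (13284, 15542), (13285, 11108), (13286, 11109), (13287, 13287), (13288, 15544), (13289, 11112), (13290, 15545), (13291, 11115), (13292, 14476), (13293, 11117), (13294, 15091), (13295, 15092), (13296, 15552), (13297, 11122), (13298, 14682), (13299, 11205), (13300, 14685), (13301, 11207), (13302, 15558), (13303, 11127), (13304,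 11129), (13305, 11215), (13306, 11133), (13307, 15562), (13308, 11134), (13309, 11143), (13310, 11230), (13311, 11145)]
    ⟨e3 q13248 L669191 q15505, e3 q13249 (flp_h L384065) q11078, e3 q13250 L384103 q11622, e3 q13251 (flp_h L664942) q15025, e3 q13252 L384131 q11623, e3 q13253 (flp_h L653413) q13949, e3 q13254 L648682 q11447, e3 q13255 L384193 q13255, e3 q13256 (flp_h L665543) q15085, e3 q13257 L384208 q13257, e3 q13258 L384215 q13258, e3 q13259 L669269 q15514, e3 q13260 L384234 q13260, e3 q13261 L384241 q13261, e3 q13262 L669316 q15520, e3 q13263 L669323 q15521, e3 q13264 (flp_h L384260) q11092, e3 q13265 L384273 q13265, e3 q13266 L669342 q15523, e3 q13267 (flp_h L384284) q11094, e3 q13268 L384301 q13268, e3 q13269 L669361 q15525, e3 q13270 (flp_h L384312) q11096, e3 q13271 L669377 q15527, e3 q13272 (flp_h L384329) q11099, e3 q13273 (flp_h L669179) q15502, e3 q13274 L669396 q15530, e3 q13275 L384368 q13275, e3 q13276 L384376 q13276, e3 q13277 L669446 q15535, e3 q13278 (flp_h L667595) q15300, e3 q13279 (flp_h L384399) q11105,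 e3 q13280 L384411 q13280, e3 q13281 L384417 q13281, e3 q13282 L669493 q15540, e3 q13283 L645487 q11323, e3 q13284 L669517 q15542, e3 q13285 (flp_h L384442) q11108, e3 q13286 (flp_h L384450) q11109, e3 q13287 L384464 q13287, e3 q13288 L669536 q15544, e3 q13289 (flp_h L384474) q11112, e3 q13290 L669545 q15545, e3 q13291 (flp_h L384493) q11115, e3 q13292 L659283 q14476, e3 q13293 (flp_h L384508) q11117, e3 q13294 (flp_h L665605) q15091, e3 q13295 (flp_h L665612) q15092, e3 q13296 L669598 q15552, e3 q13297 (flp_h L384884) q11122, e3 q13298 (flp_h L661304) q14682, e3 q13299 L384908 q11205, e3 q13300 (flp_h L661327) q14685, e3 q13301 L384928 q11207, e3 q13302 L669648 q15558, e3 q13303 (flp_h L384992) q11127, e3 q13304 (flp_h L385109) q11129, e3 q13305 L385137 q11215, e3 q13306 (flp_h L385250) q11133, e3 q13307 L669680 q15562, e3 q13308 (flp_h L385267) q11134, e3 q13309 L385279 q11143, e3 q13310 L385287 q11230, e3 q13311 L385294 q11145, trivial⟩ (by decide +kernel)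

theorem ce_h_208 : ∀ r, r < 64 → sm gh (Qf (13312 + r)) = Qf (tab Gen.h (13312 + r)) :=
  edges_tab (sm gh) Qf (tab Gen.h) 13312 [(13312, 11232), (13313, 11148), (13314, 15571), (13315, 15572), (13316, 11140), (13317, 11141), (13318, 15563), (13319, 11244), (13320, 14651), (13321, 15565), (13322, 15583), (13323, 14653), (13324, 15567), (13325, 15589), (13326, 14644), (13327, 14655), (13328, 15594), (13329, 15569), (13330, 15596), (13331, 11149), (13332, 14095), (13333, 15598), (13334, 15599), (13335, 11152), (13336, 11153), (13337, 11194), (13338, 15181), (13339, 15182), (13340, 11315), (13341, 11274), (13342, 11316), (13343, 11317), (13344, 14927), (13345, 11318), (13346, 11319), (13347, 14752), (13348, 14926), (13349, 11320), (13350, 14754), (13351, 11321), (13352, 14735), (13353, 14060), (13354, 14909), (13355, 11325), (13356, 15541), (13357, 15298), (13358, 11175), (13359, 11326), (13360, 11327), (13361, 15619), (13362, 14723), (13363, 11178), (13364, 11179), (13365, 11331), (13366, 15621), (13367, 11182), (13368, 15622),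 (13369, 11185), (13370, 15140), (13371, 11187), (13372, 15142), (13373, 15143), (13374, 11190), (13375, 11191)]
    ⟨e3 q13312 L385305 q11232, e3 q13313 L385319 q11148, e3 q13314 L669753 q15571, e3 q13315 L669761 q15572, e3 q13316 (flp_h L385364) q11140, e3 q13317 (flp_h L385371) q11141, e3 q13318 (flp_h L669693) q15563, e3 q13319 L385392 q11244, e3 q13320 (flp_h L660977) q14651, e3 q13321 (flp_h L669707) q15565, e3 q13322 L669832 q15583, e3 q13323 (flp_h L661000) q14653, e3 q13324 (flp_h L669724) q15567, e3 q13325 L669881 q15589, e3 q13326 (flp_h L660892) q14644, e3 q13327 (flp_h L661023) q14655, e3 q13328 L669919 q15594, e3 q13329 (flp_h L669741) q15569, e3 q13330 L669933 q15596, e3 q13331 (flp_h L385462) q11149, e3 q13332 (flp_h L655203) q14095, e3 q13333 L669951 q15598, e3 q13334 L669956 q15599, e3 q13335 (flp_h L385500) q11152, e3 q13336 (flp_h L385516) q11153, e3 q13337 (flp_h L552196) q11194, e3 q13338 (flp_h L666542) q15181, e3 q13339 (flp_h L666553) q15182, e3 q13340 L385634 q11315, e3 q13341 L385643 q11274, e3 q13342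 L385651 q11316, e3 q13343 L385659 q11317, e3 q13344 (flp_h L663745) q14927, e3 q13345 L385676 q11318, e3 q13346 L385684 q11319, e3 q13347 (flp_h L662074) q14752, e3 q13348 (flp_h L663731) q14926, e3 q13349 L385716 q11320, e3 q13350 (flp_h L662097) q14754, e3 q13351 L385747 q11321, e3 q13352 (flp_h L661907) q14735, e3 q13353 (flp_h L654785) q14060, e3 q13354 (flp_h L663543) q14909, e3 q13355 L385821 q11325, e3 q13356 (flp_h L669515) q15541, e3 q13357 (flp_h L667576) q15298, e3 q13358 (flp_h L385850) q11175, e3 q13359 L385865 q11326, e3 q13360 L385872 q11327, e3 q13361 L670140 q15619, e3 q13362 (flp_h L661745) q14723, e3 q13363 (flp_h L385893) q11178, e3 q13364 (flp_h L385902) q11179, e3 q13365 L385916 q11331, e3 q13366 L670157 q15621, e3 q13367 (flp_h L385927) q11182, e3 q13368 L670169 q15622, e3 q13369 (flp_h L385946) q11185, e3 q13370 (flp_h L666127) q15140, e3 q13371 (flp_h L385964) q11187, e3 q13372 (flp_h L666144) q15142, e3 q13373 (flp_h L666154) q15143, e3 q13374 (flp_h L386045) q11190, e3 q13375 (flp_h L386051) q11191,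 trivial⟩ (by decide +kernel)

theorem ce_h_209 : ∀ r, r < 64 → sm gh (Qf (13376 + r)) = Qf (tab Gen.h (13376 + r)) :=
  edges_tab (sm gh) Qf (tab Gen.h) 13376 [(13376, 14722), (13377, 15600), (13378, 11195), (13379, 15609), (13380, 11196), (13381, 11204), (13382, 14719), (13383, 11206), (13384, 14721), (13385, 15633), (13386, 11201), (13387, 11202), (13388, 15628), (13389, 15554), (13390, 14968), (13391, 15630), (13392, 15643), (13393, 14972), (13394, 15646), (13395, 14974), (13396, 15649), (13397, 11209), (13398, 14149), (13399, 15651), (13400, 11211), (13401, 11344), (13402, 15559), (13403, 11345), (13404, 11346), (13405, 14942), (13406, 11347), (13407, 11348), (13408, 14945), (13409, 14946), (13410, 11349), (13411, 14948), (13412, 11350), (13413, 14950), (13414, 14951), (13415, 15608), (13416, 11225), (13417, 15239), (13418, 15561), (13419, 11227), (13420, 11243), (13421, 15564), (13422, 11245), (13423, 11246), (13424, 15680), (13425, 11248), (13426, 11249), (13427, 15685), (13428, 11251), (13429, 11252), (13430, 15691),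 (13431, 11254), (13432, 15694), (13433, 11235), (13434, 11257), (13435, 11258), (13436, 15697), (13437, 11260), (13438, 15700), (13439, 11238)]
    ⟨e3 q13376 (flp_h L661729) q14722, e3 q13377 (flp_h L669968) q15600, e3 q13378 (flp_h L386431) q11195, e3 q13379 (flp_h L670056) q15609, e3 q13380 (flp_h L386450) q11196, e3 q13381 L386466 q11204, e3 q13382 (flp_h L661684) q14719, e3 q13383 L386483 q11206, e3 q13384 (flp_h L661713) q14721, e3 q13385 L670271 q15633, e3 q13386 (flp_h L386568) q11201, e3 q13387 (flp_h L386575) q11202, e3 q13388 (flp_h L670236) q15628, e3 q13389 (flp_h L669625) q15554, e3 q13390 (flp_h L664280) q14968, e3 q13391 (flp_h L670252) q15630, e3 q13392 L670349 q15643, e3 q13393 (flp_h L664327) q14972, e3 q13394 L670373 q15646, e3 q13395 (flp_h L664346) q14974, e3 q13396 L670396 q15649, e3 q13397 (flp_h L386691) q11209, e3 q13398 (flp_h L655792) q14149, e3 q13399 L670413 q15651, e3 q13400 (flp_h L386738) q11211, e3 q13401 L386915 q11344, e3 q13402 (flp_h L669664) q15559, e3 q13403 L386933 q11345, e3 q13404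 L386942 q11346, e3 q13405 (flp_h L663929) q14942, e3 q13406 L386961 q11347, e3 q13407 L386970 q11348, e3 q13408 (flp_h L663964) q14945, e3 q13409 (flp_h L663979) q14946, e3 q13410 L387007 q11349, e3 q13411 (flp_h L664004) q14948, e3 q13412 L387040 q11350, e3 q13413 (flp_h L664028) q14950, e3 q13414 (flp_h L664042) q14951, e3 q13415 (flp_h L670040) q15608, e3 q13416 (flp_h L387098) q11225, e3 q13417 (flp_h L667078) q15239, e3 q13418 (flp_h L669678) q15561, e3 q13419 (flp_h L387120) q11227, e3 q13420 L387133 q11243, e3 q13421 (flp_h L669703) q15564, e3 q13422 L387147 q11245, e3 q13423 L387153 q11246, e3 q13424 L670653 q15680, e3 q13425 L387166 q11248, e3 q13426 L387175 q11249, e3 q13427 L670698 q15685, e3 q13428 L387192 q11251, e3 q13429 L387200 q11252, e3 q13430 L670746 q15691, e3 q13431 L387215 q11254, e3 q13432 L670768 q15694, e3 q13433 (flp_h L387225) q11235, e3 q13434 L387236 q11257, e3 q13435 L387243 q11258, e3 q13436 L670791 q15697, e3 q13437 L387259 q11260, e3 q13438 L670813 q15700, e3 q13439 (flp_h L387269) q11238,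 trivial⟩ (by decide +kernel)

theorem ce_h_210 : ∀ r, r < 64 → sm gh (Qf (13440 + r)) = Qf (tab Gen.h (13440 + r)) :=
  edges_tab (sm gh) Qf (tab Gen.h) 13440 [(13440, 11263), (13441, 15703), (13442, 11240), (13443, 15670), (13444, 15574), (13445, 15672), (13446, 15673), (13447, 15712), (13448, 15675), (13449, 15676), (13450, 15719), (13451, 15678), (13452, 15722), (13453, 11247), (13454, 15681), (13455, 15682), (13456, 15728), (13457, 15202), (13458, 15731), (13459, 11250), (13460, 15686), (13461, 15687), (13462, 15736), (13463, 15689), (13464, 15739), (13465, 11253), (13466, 15692), (13467, 15743), (13468, 11255), (13469, 15253), (13470, 15745), (13471, 15251), (13472, 15748), (13473, 11259), (13474, 15698), (13475, 15752), (13476, 11261), (13477, 11291), (13478, 15701), (13479, 15756), (13480, 11264), (13481, 11644), (13482, 15163), (13483, 11645), (13484, 14088), (13485, 14090), (13486, 11373), (13487, 14907), (13488, 11374), (13489, 11375), (13490, 15764), (13491, 11299), (13492, 11277), (13493, 11377), (13494, 11376),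 (13495, 15763), (13496, 15767), (13497, 15761), (13498, 11280), (13499, 11281), (13500, 11380), (13501, 11569), (13502, 11284), (13503, 15772)]
    ⟨e3 q13440 L387280 q11263, e3 q13441 L670835 q15703, e3 q13442 (flp_h L387289) q11240, e3 q13443 (flp_h L670588) q15670, e3 q13444 (flp_h L669782) q15574, e3 q13445 (flp_h L670603) q15672, e3 q13446 (flp_h L670611) q15673, e3 q13447 L670896 q15712, e3 q13448 (flp_h L670627) q15675, e3 q13449 (flp_h L670633) q15676, e3 q13450 L670936 q15719, e3 q13451 (flp_h L670645) q15678, e3 q13452 L670952 q15722, e3 q13453 (flp_h L387354) q11247, e3 q13454 (flp_h L670666) q15681, e3 q13455 (flp_h L670675) q15682, e3 q13456 L671000 q15728, e3 q13457 (flp_h L666753) q15202, e3 q13458 L671020 q15731, e3 q13459 (flp_h L387398) q11250, e3 q13460 (flp_h L670711) q15686, e3 q13461 (flp_h L670719) q15687, e3 q13462 L671059 q15736, e3 q13463 (flp_h L670735) q15689, e3 q13464 L671081 q15739, e3 q13465 (flp_h L387441) q11253, e3 q13466 (flp_h L670758) q15692, e3 q13467 L671109 q15743, e3 q13468 (flp_h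 L387459) q11255, e3 q13469 (flp_h L667202) q15253, e3 q13470 L671122 q15745, e3 q13471 (flp_h L667178) q15251, e3 q13472 L671142 q15748, e3 q13473 (flp_h L387495) q11259, e3 q13474 (flp_h L670803) q15698, e3 q13475 L671171 q15752, e3 q13476 (flp_h L387515) q11261, e3 q13477 L387525 q11291, e3 q13478 (flp_h L670826) q15701, e3 q13479 L671195 q15756, e3 q13480 (flp_h L387538) q11264, e3 q13481 L387552 q11644, e3 q13482 (flp_h L666374) q15163, e3 q13483 L387580 q11645, e3 q13484 (flp_h L655117) q14088, e3 q13485 (flp_h L655141) q14090, e3 q13486 L387678 q11373, e3 q13487 (flp_h L663515) q14907, e3 q13488 L387703 q11374, e3 q13489 L387713 q11375, e3 q13490 L671266 q15764, e3 q13491 L646973 q11299, e3 q13492 (flp_h L387735) q11277, e3 q13493 L387751 q11377, e3 q13494 L646524 q11376, e3 q13495 (flp_h L671264) q15763, e3 q13496 L671296 q15767, e3 q13497 (flp_h L671242) q15761, e3 q13498 (flp_h L387783) q11280, e3 q13499 (flp_h L387791) q11281, e3 q13500 L387810 q11380, e3 q13501 (flp_h L649013) q11569, e3 q13502 (flp_h L387823) q11284,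 e3 q13503 L671336 q15772, trivial⟩ (by decide +kernel)

theorem ce_h_211 : ∀ r, r < 64 → sm gh (Qf (13504 + r)) = Qf (tab Gen.h (13504 + r)) :=
  edges_tab (sm gh) Qf (tab Gen.h) 13504 [(13504, 11287), (13505, 15740), (13506, 11289), (13507, 15749), (13508, 15754), (13509, 15657), (13510, 11514), (13511, 11303), (13512, 15304), (13513, 15775), (13514, 11309), (13515, 13515), (13516, 11353), (13517, 11311), (13518, 11356), (13519, 15602), (13520, 15538), (13521, 15604), (13522, 15605), (13523, 15613), (13524, 11328), (13525, 15779), (13526, 11332), (13527, 11334), (13528, 13528), (13529, 13529), (13530, 14720), (13531, 14716), (13532, 15652), (13533, 15654), (13534, 15655), (13535, 15658), (13536, 15659), (13537, 15782), (13538, 15663), (13539, 13539), (13540, 15776), (13541, 13541), (13542, 13542), (13543, 15790), (13544, 11366), (13545, 15778), (13546, 11367), (13547, 11368), (13548, 14788), (13549, 11369), (13550, 11370), (13551, 14791), (13552, 14792), (13553, 11371), (13554, 14793), (13555, 11372), (13556, 14795), (13557,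 14796), (13558, 15791), (13559, 15793), (13560, 15794), (13561, 15797), (13562, 15798), (13563, 15805), (13564, 15802), (13565, 11378), (13566, 14762), (13567, 14765)]
    ⟨e3 q13504 (flp_h L387844) q11287, e3 q13505 (flp_h L671093) q15740, e3 q13506 (flp_h L387862) q11289, e3 q13507 (flp_h L671154) q15749, e3 q13508 (flp_h L671186) q15754, e3 q13509 (flp_h L670479) q15657, e3 q13510 L649015 q11514, e3 q13511 (flp_h L388107) q11303, e3 q13512 (flp_h L667639) q15304, e3 q13513 L671368 q15775, e3 q13514 (flp_h L389181) q11309, e3 q13515 L389195 q13515, e3 q13516 L389203 q11353, e3 q13517 (flp_h L389205) q11311, e3 q13518 L389227 q11356, e3 q13519 (flp_h L669985) q15602, e3 q13520 L669483 q15538, e3 q13521 (flp_h L670002) q15604, e3 q13522 (flp_h L670012) q15605, e3 q13523 (flp_h L670085) q15613, e3 q13524 (flp_h L390022) q11328, e3 q13525 L671405 q15779, e3 q13526 (flp_h L390075) q11332, e3 q13527 (flp_h L390092) q11334, e3 q13528 L390106 q13528, e3 q13529 L390469 q13529, e3 q13530 (flp_h L661698) q14720, e3 q13531 (flp_h L661640)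 q14716, e3 q13532 (flp_h L670425) q15652, e3 q13533 (flp_h L670443) q15654, e3 q13534 (flp_h L670454) q15655, e3 q13535 (flp_h L670486) q15658, e3 q13536 (flp_h L670495) q15659, e3 q13537 L671431 q15782, e3 q13538 (flp_h L670530) q15663, e3 q13539 L390983 q13539, e3 q13540 (flp_h L671388) q15776, e3 q13541 L390997 q13541, e3 q13542 L391001 q13542, e3 q13543 L671489 q15790, e3 q13544 L391018 q11366, e3 q13545 (flp_h L671403) q15778, e3 q13546 L391032 q11367, e3 q13547 L391039 q11368, e3 q13548 (flp_h L662428) q14788, e3 q13549 L391055 q11369, e3 q13550 L391062 q11370, e3 q13551 (flp_h L662462) q14791, e3 q13552 (flp_h L662474) q14792, e3 q13553 L391090 q11371, e3 q13554 (flp_h L662488) q14793, e3 q13555 L391116 q11372, e3 q13556 (flp_h L662512) q14795, e3 q13557 (flp_h L662525) q14796, e3 q13558 (flp_h L671500) q15791, e3 q13559 (flp_h L671516) q15793, e3 q13560 (flp_h L671525) q15794, e3 q13561 (flp_h L671549) q15797, e3 q13562 (flp_h L671556) q15798, e3 q13563 L671604 q15805, e3 q13564 (flp_h L671583) q15802, e3 q13565 (flp_h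 L391485) q11378, e3 q13566 (flp_h L662180) q14762, e3 q13567 (flp_h L662207) q14765, trivial⟩ (by decide +kernel)

theorem ce_h_212 : ∀ r, r < 64 → sm gh (Qf (13568 + r)) = Qf (tab Gen.h (13568 + r)) :=
  edges_tab (sm gh) Qf (tab Gen.h) 13568 [(13568, 11382), (13569, 14768), (13570, 14769), (13571, 11390), (13572, 11391), (13573, 13871), (13574, 15004), (13575, 13854), (13576, 15354), (13577, 14990), (13578, 11397), (13579, 11444), (13580, 15813), (13581, 11405), (13582, 11406), (13583, 15814), (13584, 11408), (13585, 15815), (13586, 11411), (13587, 14339), (13588, 15818), (13589, 15551), (13590, 11415), (13591, 15819), (13592, 15820), (13593, 11418), (13594, 11419), (13595, 15823), (13596, 11422), (13597, 15825), (13598, 11425), (13599, 13599), (13600, 11427), (13601, 13601), (13602, 13602), (13603, 11430), (13604, 15832), (13605, 11433), (13606, 11434), (13607, 11435), (13608, 15834), (13609, 11438), (13610, 15831), (13611, 11452), (13612, 15003), (13613, 15005), (13614, 11454), (13615, 15353), (13616, 11457), (13617, 13935),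 (13618, 15070), (13619, 13946), (13620, 15508), (13621, 13958), (13622, 15842), (13623, 11449), (13624, 14281), (13625, 15845), (13626, 14246), (13627, 15847), (13628, 11453), (13629, 13897), (13630, 15850), (13631, 11455)]
    ⟨e3 q13568 (flp_h L391543) q11382, e3 q13569 (flp_h L662239) q14768, e3 q13570 (flp_h L662249) q14769, e3 q13571 (flp_h L649407) q11390, e3 q13572 (flp_h L649416) q11391, e3 q13573 L652324 q13871, e3 q13574 (flp_h L664703) q15004, e3 q13575 L652064 q13854, e3 q13576 (flp_h L668065) q15354, e3 q13577 (flp_h L664552) q14990, e3 q13578 (flp_h L649468) q11397, e3 q13579 L649484 q11444, e3 q13580 L671657 q15813, e3 q13581 (flp_h L649498) q11405, e3 q13582 (flp_h L649507) q11406, e3 q13583 L671665 q15814, e3 q13584 (flp_h L649525) q11408, e3 q13585 L671674 q15815, e3 q13586 (flp_h L649541) q11411, e3 q13587 L657869 q14339, e3 q13588 L671698 q15818, e3 q13589 (flp_h L669593) q15551, e3 q13590 (flp_h L649576) q11415, e3 q13591 L671708 q15819, e3 q13592 L671716 q15820, e3 q13593 (flp_h L649601) q11418, e3 q13594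 (flp_h L649610) q11419, e3 q13595 L671748 q15823, e3 q13596 (flp_h L649626) q11422, e3 q13597 L671767 q15825, e3 q13598 (flp_h L649644) q11425, e3 q13599 L649658 q13599, e3 q13600 (flp_h L649659) q11427, e3 q13601 L649676 q13601, e3 q13602 L649683 q13602, e3 q13603 (flp_h L649685) q11430, e3 q13604 L671826 q15832, e3 q13605 (flp_h L649702) q11433, e3 q13606 (flp_h L649712) q11434, e3 q13607 (flp_h L649721) q11435, e3 q13608 L671843 q15834, e3 q13609 (flp_h L649738) q11438, e3 q13610 (flp_h L671824) q15831, e3 q13611 L649757 q11452, e3 q13612 (flp_h L664687) q15003, e3 q13613 (flp_h L664712) q15005, e3 q13614 L649779 q11454, e3 q13615 (flp_h L668049) q15353, e3 q13616 L649798 q11457, e3 q13617 L653208 q13935, e3 q13618 (flp_h L665391) q15070, e3 q13619 L653371 q13946, e3 q13620 (flp_h L669225) q15508, e3 q13621 (flp_h L653522) q13958, e3 q13622 L671899 q15842, e3 q13623 (flp_h L649842) q11449, e3 q13624 L657293 q14281, e3 q13625 L671923 q15845, e3 q13626 L656901 q14246, e3 q13627 L671937 q15847, e3 q13628 (flp_h L649879) q11453,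 e3 q13629 L652697 q13897, e3 q13630 L671958 q15850, e3 q13631 (flp_h L649897) q11455, trivial⟩ (by decide +kernel)

theorem ce_h_213 : ∀ r, r < 64 → sm gh (Qf (13632 + r)) = Qf (tab Gen.h (13632 + r)) :=
  edges_tab (sm gh) Qf (tab Gen.h) 13632 [(13632, 11480), (13633, 13845), (13634, 15036), (13635, 11458), (13636, 15034), (13637, 11676), (13638, 13959), (13639, 11466), (13640, 13640), (13641, 15855), (13642, 15856), (13643, 15858), (13644, 11469), (13645, 11470), (13646, 15859), (13647, 11473), (13648, 15860), (13649, 11476), (13650, 14592), (13651, 11478), (13652, 15848), (13653, 15852), (13654, 15867), (13655, 11482), (13656, 13656), (13657, 15870), (13658, 15871), (13659, 11486), (13660, 11487), (13661, 13661), (13662, 15874), (13663, 11491), (13664, 13664), (13665, 11493), (13666, 13666), (13667, 13667), (13668, 13668), (13669, 13669), (13670, 13670), (13671, 13671), (13672, 13672), (13673, 15888), (13674, 11500), (13675, 13675), (13676, 15891), (13677, 11502), (13678, 13678), (13679, 15893), (13680, 11504), (13681,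 15895), (13682, 11507), (13683, 11524), (13684, 11577), (13685, 11572), (13686, 11578), (13687, 11579), (13688, 15902), (13689, 15903), (13690, 15770), (13691, 11513), (13692, 11580), (13693, 15899), (13694, 11517), (13695, 15898)]
    ⟨e3 q13632 L649907 q11480, e3 q13633 L651897 q13845, e3 q13634 (flp_h L665078) q15036, e3 q13635 (flp_h L649923) q11458, e3 q13636 (flp_h L665051) q15034, e3 q13637 L649945 q11676, e3 q13638 (flp_h L653545) q13959, e3 q13639 (flp_h L649956) q11466, e3 q13640 L649973 q13640, e3 q13641 L671986 q15855, e3 q13642 L671996 q15856, e3 q13643 L672009 q15858, e3 q13644 (flp_h L649995) q11469, e3 q13645 (flp_h L650003) q11470, e3 q13646 L672017 q15859, e3 q13647 (flp_h L650019) q11473, e3 q13648 L672026 q15860, e3 q13649 (flp_h L650034) q11476, e3 q13650 L660313 q14592, e3 q13651 (flp_h L650049) q11478, e3 q13652 (flp_h L671949) q15848, e3 q13653 (flp_h L671970) q15852, e3 q13654 L672071 q15867, e3 q13655 (flp_h L650076) q11482, e3 q13656 L650092 q13656, e3 q13657 L672098 q15870, e3 q13658 L672107 q15871,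 e3 q13659 (flp_h L650109) q11486, e3 q13660 (flp_h L650117) q11487, e3 q13661 L650134 q13661, e3 q13662 L672131 q15874, e3 q13663 (flp_h L650143) q11491, e3 q13664 L650157 q13664, e3 q13665 (flp_h L650158) q11493, e3 q13666 L650173 q13666, e3 q13667 L650180 q13667, e3 q13668 L650189 q13668, e3 q13669 L650193 q13669, e3 q13670 L650200 q13670, e3 q13671 L650206 q13671, e3 q13672 L650216 q13672, e3 q13673 L672242 q15888, e3 q13674 (flp_h L650228) q11500, e3 q13675 L650244 q13675, e3 q13676 L672273 q15891, e3 q13677 (flp_h L650256) q11502, e3 q13678 L650271 q13678, e3 q13679 L672293 q15893, e3 q13680 (flp_h L650282) q11504, e3 q13681 L672310 q15895, e3 q13682 (flp_h L650301) q11507, e3 q13683 L650316 q11524, e3 q13684 L650326 q11577, e3 q13685 L650343 q11572, e3 q13686 L650353 q11578, e3 q13687 L650363 q11579, e3 q13688 L672379 q15902, e3 q13689 L672393 q15903, e3 q13690 (flp_h L671325) q15770, e3 q13691 (flp_h L650387) q11513, e3 q13692 L650408 q11580, e3 q13693 (flp_h L672364) q15899, e3 q13694 (flp_h L650420) q11517, e3 q13695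 (flp_h L672350) q15898, trivial⟩ (by decide +kernel)

theorem ce_h_214 : ∀ r, r < 64 → sm gh (Qf (13696 + r)) = Qf (tab Gen.h (13696 + r)) :=
  edges_tab (sm gh) Qf (tab Gen.h) 13696 [(13696, 11520), (13697, 15894), (13698, 11522), (13699, 15896), (13700, 15897), (13701, 15909), (13702, 11526), (13703, 13703), (13704, 13704), (13705, 15913), (13706, 15915), (13707, 13707), (13708, 15919), (13709, 11529), (13710, 13710), (13711, 15922), (13712, 11531), (13713, 13713), (13714, 13714), (13715, 15920), (13716, 13716), (13717, 15928), (13718, 11535), (13719, 15929), (13720, 11537), (13721, 13721), (13722, 15932), (13723, 13723), (13724, 15935), (13725, 11541), (13726, 13726), (13727, 15938), (13728, 11543), (13729, 11573), (13730, 13730), (13731, 15942), (13732, 11546), (13733, 13733), (13734, 15945), (13735, 11549), (13736, 13736), (13737, 15948), (13738, 11551), (13739, 11575), (13740, 13740), (13741, 15951), (13742, 11554), (13743, 15753), (13744, 11576), (13745, 15923), (13746, 11558), (13747, 11677), (13748, 15184), (13749,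 14108), (13750, 11568), (13751, 15956), (13752, 15940), (13753, 11581), (13754, 13754), (13755, 13755), (13756, 15803), (13757, 13757), (13758, 15068), (13759, 11604)]
    ⟨e3 q13696 (flp_h L650442) q11520, e3 q13697 (flp_h L672308) q15894, e3 q13698 (flp_h L650460) q11522, e3 q13699 (flp_h L672326) q15896, e3 q13700 (flp_h L672334) q15897, e3 q13701 L672448 q15909, e3 q13702 (flp_h L650501) q11526, e3 q13703 L650520 q13703, e3 q13704 L650529 q13704, e3 q13705 L672492 q15913, e3 q13706 L672509 q15915, e3 q13707 L650551 q13707, e3 q13708 L672538 q15919, e3 q13709 (flp_h L650561) q11529, e3 q13710 L650574 q13710, e3 q13711 L672567 q15922, e3 q13712 (flp_h L650583) q11531, e3 q13713 L650600 q13713, e3 q13714 L650609 q13714, e3 q13715 (flp_h L672557) q15920, e3 q13716 L650628 q13716, e3 q13717 L672622 q15928, e3 q13718 (flp_h L650638) q11535, e3 q13719 L672632 q15929, e3 q13720 (flp_h L650655) q11537, e3 q13721 L650671 q13721, e3 q13722 L672655 q15932, e3 q13723 L650686 q13723, e3 q13724 L672678 q15935, e3 q13725 (flp_h L650696)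 q11541, e3 q13726 L650708 q13726, e3 q13727 L672703 q15938, e3 q13728 (flp_h L650717) q11543, e3 q13729 L650732 q11573, e3 q13730 L650741 q13730, e3 q13731 L672732 q15942, e3 q13732 (flp_h L650751) q11546, e3 q13733 L650763 q13733, e3 q13734 L672760 q15945, e3 q13735 (flp_h L650773) q11549, e3 q13736 L650787 q13736, e3 q13737 L672787 q15948, e3 q13738 (flp_h L650797) q11551, e3 q13739 L650813 q11575, e3 q13740 L650820 q13740, e3 q13741 L672811 q15951, e3 q13742 (flp_h L650829) q11554, e3 q13743 (flp_h L671181) q15753, e3 q13744 L650846 q11576, e3 q13745 (flp_h L672583) q15923, e3 q13746 (flp_h L650858) q11558, e3 q13747 L650869 q11677, e3 q13748 (flp_h L666576) q15184, e3 q13749 (flp_h L655358) q14108, e3 q13750 (flp_h L650886) q11568, e3 q13751 L672844 q15956, e3 q13752 (flp_h L672720) q15940, e3 q13753 (flp_h L650903) q11581, e3 q13754 L650916 q13754, e3 q13755 L650924 q13755, e3 q13756 (flp_h L671594) q15803, e3 q13757 L650933 q13757, e3 q13758 (flp_h L665369) q15068, e3 q13759 L650955 q11604, trivial⟩ (by decide +kernel)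

theorem ce_h_215 : ∀ r, r < 64 → sm gh (Qf (13760 + r)) = Qf (tab Gen.h (13760 + r)) :=
  edges_tab (sm gh) Qf (tab Gen.h) 13760 [(13760, 11605), (13761, 11607), (13762, 11631), (13763, 15156), (13764, 15145), (13765, 15264), (13766, 11621), (13767, 13921), (13768, 15506), (13769, 11634), (13770, 11635), (13771, 15149), (13772, 11637), (13773, 11662), (13774, 15168), (13775, 15625), (13776, 15237), (13777, 15965), (13778, 11642), (13779, 15154), (13780, 11643), (13781, 14081), (13782, 15966), (13783, 15757), (13784, 13784), (13785, 11661), (13786, 11664), (13787, 15970), (13788, 13788), (13789, 15972), (13790, 13790), (13791, 15974), (13792, 13792), (13793, 15976), (13794, 11666), (13795, 11674), (13796, 13847), (13797, 15033), (13798, 13798), (13799, 15979), (13800, 11679), (13801, 13801), (13802, 15982), (13803, 11681), (13804, 13804), (13805, 15985), (13806, 11683), (13807, 13807), (13808, 15988), (13809, 11685), (13810, 15990), (13811, 15991), (13812, 11690), (13813, 11691), (13814, 13814), (13815, 15994), (13816, 11693),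 (13817, 11695), (13818, 13818), (13819, 15998), (13820, 11697), (13821, 13821), (13822, 16001), (13823, 11699)]
    ⟨e3 q13760 L650971 q11605, e3 q13761 L650989 q11607, e3 q13762 L651007 q11631, e3 q13763 (flp_h L666311) q15156, e3 q13764 (flp_h L666185) q15145, e3 q13765 (flp_h L667288) q15264, e3 q13766 L651041 q11621, e3 q13767 (flp_h L653007) q13921, e3 q13768 (flp_h L669203) q15506, e3 q13769 L651071 q11634, e3 q13770 L651088 q11635, e3 q13771 (flp_h L666230) q15149, e3 q13772 L651100 q11637, e3 q13773 L651118 q11662, e3 q13774 (flp_h L666414) q15168, e3 q13775 (flp_h L670210) q15625, e3 q13776 (flp_h L667058) q15237, e3 q13777 L672896 q15965, e3 q13778 L651147 q11642, e3 q13779 (flp_h L666284) q15154, e3 q13780 L651160 q11643, e3 q13781 (flp_h L655037) q14081, e3 q13782 (flp_h L672904) q15966, e3 q13783 (flp_h L671204) q15757, e3 q13784 L651188 q13784, e3 q13785 L651196 q11661, e3 q13786 L651205 q11664, e3 q13787 L672927 q15970, e3 q13788 L651219 q13788, e3 q13789 L672942 q15972, e3 q13790 L651233 q13790, e3 q13791 L672956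 q15974, e3 q13792 L651246 q13792, e3 q13793 L672970 q15976, e3 q13794 (flp_h L651254) q11666, e3 q13795 L651264 q11674, e3 q13796 (flp_h L651928) q13847, e3 q13797 (flp_h L665036) q15033, e3 q13798 L651295 q13798, e3 q13799 L673005 q15979, e3 q13800 (flp_h L651311) q11679, e3 q13801 L651336 q13801, e3 q13802 L673051 q15982, e3 q13803 (flp_h L651354) q11681, e3 q13804 L651381 q13804, e3 q13805 L673103 q15985, e3 q13806 (flp_h L651399) q11683, e3 q13807 L651420 q13807, e3 q13808 L673146 q15988, e3 q13809 (flp_h L651431) q11685, e3 q13810 L673172 q15990, e3 q13811 L673187 q15991, e3 q13812 (flp_h L651471) q11690, e3 q13813 (flp_h L651483) q11691, e3 q13814 L651511 q13814, e3 q13815 L673232 q15994, e3 q13816 (flp_h L651526) q11693, e3 q13817 (flp_h L651536) q11695, e3 q13818 L651562 q13818, e3 q13819 L673289 q15998, e3 q13820 (flp_h L651580) q11697, e3 q13821 L651606 q13821, e3 q13822 L673331 q16001, e3 q13823 (flp_h L651621) q11699, trivial⟩ (by decide +kernel)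

theorem ce_h_216 : ∀ r, r < 64 → sm gh (Qf (13824 + r)) = Qf (tab Gen.h (13824 + r)) :=
  edges_tab (sm gh) Qf (tab Gen.h) 13824 [(13824, 13824), (13825, 16003), (13826, 11702), (13827, 13827), (13828, 13828), (13829, 16007), (13830, 11705), (13831, 16008), (13832, 11707), (13833, 13833), (13834, 16011), (13835, 11710), (13836, 13836), (13837, 16014), (13838, 11712), (13839, 13839), (13840, 16016), (13841, 11714), (13842, 16018), (13843, 11717), (13844, 13844), (13845, 13633), (13846, 11723), (13847, 13796), (13848, 12733), (13849, 11725), (13850, 11803), (13851, 11805), (13852, 12808), (13853, 12731), (13854, 13575), (13855, 11739), (13856, 12770), (13857, 16023), (13858, 11740), (13859, 16021), (13860, 11777), (13861, 11742), (13862, 13862), (13863, 11778), (13864, 13864), (13865, 16033), (13866, 11746), (13867, 11748), (13868, 11784), (13869, 11773), (13870, 12771), (13871, 13573), (13872, 11758), (13873, 12767), (13874, 16037), (13875, 12761), (13876, 13101), (13877, 13877), (13878, 16041), (13879, 11768), (13880, 16042),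 (13881, 11771), (13882, 11776), (13883, 16022), (13884, 16043), (13885, 16025), (13886, 12746), (13887, 16045)]
    ⟨e3 q13824 L651640 q13824, e3 q13825 L673355 q16003, e3 q13826 (flp_h L651650) q11702, e3 q13827 L651665 q13827, e3 q13828 L651678 q13828, e3 q13829 L673399 q16007, e3 q13830 (flp_h L651699) q11705, e3 q13831 L673416 q16008, e3 q13832 (flp_h L651729) q11707, e3 q13833 L651752 q13833, e3 q13834 L673459 q16011, e3 q13835 (flp_h L651768) q11710, e3 q13836 L651792 q13836, e3 q13837 L673502 q16014, e3 q13838 (flp_h L651808) q11712, e3 q13839 L651831 q13839, e3 q13840 L673527 q16016, e3 q13841 (flp_h L651842) q11714, e3 q13842 L673548 q16018, e3 q13843 (flp_h L651864) q11717, e3 q13844 L651880 q13844, e3 q13845 (flp_h L651897) q13633, e3 q13846 (flp_h L651899) q11723, e3 q13847 L651928 q13796, e3 q13848 (flp_h L651952) q12733, e3 q13849 (flp_h L651954) q11725, e3 q13850 L651990 q11803, e3 q13851 L652003 q11805, e3 q13852 L652023 q12808, e3 q13853 L652041 q12731, e3 q13854 (flp_h L652064) q13575, e3 q13855 (flp_h L652066)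 q11739, e3 q13856 (flp_h L652098) q12770, e3 q13857 L673614 q16023, e3 q13858 (flp_h L652118) q11740, e3 q13859 (flp_h L673595) q16021, e3 q13860 L652156 q11777, e3 q13861 (flp_h L652158) q11742, e3 q13862 L652183 q13862, e3 q13863 L652197 q11778, e3 q13864 L652208 q13864, e3 q13865 L673768 q16033, e3 q13866 (flp_h L652224) q11746, e3 q13867 (flp_h L652239) q11748, e3 q13868 L652273 q11784, e3 q13869 L652286 q11773, e3 q13870 L652305 q12771, e3 q13871 (flp_h L652324) q13573, e3 q13872 (flp_h L652326) q11758, e3 q13873 L652356 q12767, e3 q13874 L673836 q16037, e3 q13875 L652389 q12761, e3 q13876 L652405 q13101, e3 q13877 L652419 q13877, e3 q13878 L673902 q16041, e3 q13879 (flp_h L652437) q11768, e3 q13880 L673918 q16042, e3 q13881 (flp_h L652468) q11771, e3 q13882 L652493 q11776, e3 q13883 (flp_h L673612) q16022, e3 q13884 (flp_h L673951) q16043, e3 q13885 (flp_h L673666) q16025, e3 q13886 L652546 q12746, e3 q13887 (flp_h L673984) q16045, trivial⟩ (by decide +kernel)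

theorem ce_h_217 : ∀ r, r < 64 → sm gh (Qf (13888 + r)) = Qf (tab Gen.h (13888 + r)) :=
  edges_tab (sm gh) Qf (tab Gen.h) 13888 [(13888, 16051), (13889, 13889), (13890, 16054), (13891, 11780), (13892, 13892), (13893, 16057), (13894, 11782), (13895, 12760), (13896, 16059), (13897, 13629), (13898, 11787), (13899, 11792), (13900, 11848), (13901, 16066), (13902, 11789), (13903, 11790), (13904, 16060), (13905, 11853), (13906, 16062), (13907, 16063), (13908, 16078), (13909, 13909), (13910, 11857), (13911, 13911), (13912, 16083), (13913, 16084), (13914, 11798), (13915, 12839), (13916, 11800), (13917, 11866), (13918, 11869), (13919, 12737), (13920, 11870), (13921, 13767), (13922, 12845), (13923, 12140), (13924, 16092), (13925, 11806), (13926, 11876), (13927, 12852), (13928, 12157), (13929, 12857), (13930, 12127), (13931, 16096), (13932, 11817), (13933, 12846), (13934, 16099), (13935, 13617), (13936, 11820), (13937, 12826), (13938, 12835), (13939, 12837), (13940, 13940), (13941, 16105), (13942, 16106), (13943, 11827), (13944, 12841),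 (13945, 12844), (13946, 13619), (13947, 11829), (13948, 12823), (13949, 13253), (13950, 12827), (13951, 16112)]
    ⟨e3 q13888 L674069 q16051, e3 q13889 L652588 q13889, e3 q13890 L674106 q16054, e3 q13891 (flp_h L652605) q11780, e3 q13892 L652626 q13892, e3 q13893 L674152 q16057, e3 q13894 (flp_h L652638) q11782, e3 q13895 L652664 q12760, e3 q13896 L674185 q16059, e3 q13897 (flp_h L652697) q13629, e3 q13898 (flp_h L652699) q11787, e3 q13899 L652720 q11792, e3 q13900 L652733 q11848, e3 q13901 L674289 q16066, e3 q13902 (flp_h L652749) q11789, e3 q13903 (flp_h L652763) q11790, e3 q13904 (flp_h L674213) q16060, e3 q13905 L652795 q11853, e3 q13906 (flp_h L674240) q16062, e3 q13907 (flp_h L674252) q16063, e3 q13908 L674434 q16078, e3 q13909 L652836 q13909, e3 q13910 L652851 q11857, e3 q13911 L652862 q13911, e3 q13912 L674496 q16083, e3 q13913 L674512 q16084, e3 q13914 (flp_h L652887) q11798, e3 q13915 (flp_h L652915) q12839, e3 q13916 (flp_h L652917) q11800, e3 q13917 L652945 q11866, e3 q13918 L652961 q11869, e3 q13919 L652976 q12737,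 e3 q13920 L652996 q11870, e3 q13921 L653007 q13767, e3 q13922 L653022 q12845, e3 q13923 L653031 q12140, e3 q13924 L674626 q16092, e3 q13925 (flp_h L653044) q11806, e3 q13926 L653076 q11876, e3 q13927 L653093 q12852, e3 q13928 L653106 q12157, e3 q13929 L653122 q12857, e3 q13930 L653133 q12127, e3 q13931 L674684 q16096, e3 q13932 (flp_h L653147) q11817, e3 q13933 L653174 q12846, e3 q13934 L674737 q16099, e3 q13935 (flp_h L653208) q13617, e3 q13936 (flp_h L653210) q11820, e3 q13937 L653231 q12826, e3 q13938 L653246 q12835, e3 q13939 L653263 q12837, e3 q13940 L653277 q13940, e3 q13941 L674829 q16105, e3 q13942 L674846 q16106, e3 q13943 (flp_h L653313) q11827, e3 q13944 L653336 q12841, e3 q13945 L653353 q12844, e3 q13946 (flp_h L653371) q13619, e3 q13947 (flp_h L653373) q11829, e3 q13948 L653399 q12823, e3 q13949 L653413 q13253, e3 q13950 L653425 q12827, e3 q13951 L674937 q16112, trivial⟩ (by decide +kernel)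

theorem ce_h_218 : ∀ r, r < 64 → sm gh (Qf (13952 + r)) = Qf (tab Gen.h (13952 + r)) :=
  edges_tab (sm gh) Qf (tab Gen.h) 13952 [(13952, 13952), (13953, 16115), (13954, 11836), (13955, 13955), (13956, 16118), (13957, 11838), (13958, 13621), (13959, 13638), (13960, 11843), (13961, 16119), (13962, 11844), (13963, 11845), (13964, 11852), (13965, 16061), (13966, 11855), (13967, 16128), (13968, 16086), (13969, 11849), (13970, 16120), (13971, 16068), (13972, 16122), (13973, 16070), (13974, 12796), (13975, 16124), (13976, 16138), (13977, 12792), (13978, 12798), (13979, 16142), (13980, 16126), (13981, 16145), (13982, 11856), (13983, 13983), (13984, 16148), (13985, 11859), (13986, 13986), (13987, 16151), (13988, 11861), (13989, 13989), (13990, 16154), (13991, 11864), (13992, 16085), (13993, 12780), (13994, 12840), (13995, 12822), (13996, 13091), (13997, 13081), (13998, 16157), (13999, 16159), (14000, 11880), (14001, 11881), (14002, 11888), (14003, 11975), (14004, 11890), (14005, 11891), (14006, 16169), (14007, 16170), (14008, 11885),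 (14009, 16160), (14010, 11982), (14011, 16162), (14012, 11984), (14013, 16164), (14014, 16165), (14015, 16184)]
    ⟨e3 q13952 L653449 q13952, e3 q13953 L674980 q16115, e3 q13954 (flp_h L653464) q11836, e3 q13955 L653487 q13955, e3 q13956 L675024 q16118, e3 q13957 (flp_h L653500) q11838, e3 q13958 L653522 q13621, e3 q13959 L653545 q13638, e3 q13960 (flp_h L653547) q11843, e3 q13961 L675039 q16119, e3 q13962 (flp_h L653580) q11844, e3 q13963 (flp_h L653594) q11845, e3 q13964 L653615 q11852, e3 q13965 (flp_h L674228) q16061, e3 q13966 L653636 q11855, e3 q13967 L675167 q16128, e3 q13968 (flp_h L674554) q16086, e3 q13969 (flp_h L653665) q11849, e3 q13970 (flp_h L675067) q16120, e3 q13971 (flp_h L674329) q16068, e3 q13972 (flp_h L675095) q16122, e3 q13973 (flp_h L674359) q16070, e3 q13974 L653735 q12796, e3 q13975 (flp_h L675126) q16124, e3 q13976 L675299 q16138, e3 q13977 L653775 q12792, e3 q13978 L653795 q12798, e3 q13979 L675355 q16142, e3 q13980 (flp_h L675152) q16126, e3 q13981 L675385 q16145, e3 q13982 (flp_h L653825) q11856,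 e3 q13983 L653841 q13983, e3 q13984 L675418 q16148, e3 q13985 (flp_h L653858) q11859, e3 q13986 L653879 q13986, e3 q13987 L675454 q16151, e3 q13988 (flp_h L653888) q11861, e3 q13989 L653903 q13989, e3 q13990 L675486 q16154, e3 q13991 (flp_h L653914) q11864, e3 q13992 (flp_h L674540) q16085, e3 q13993 L653947 q12780, e3 q13994 L653967 q12840, e3 q13995 L653983 q12822, e3 q13996 L654001 q13091, e3 q13997 L654020 q13081, e3 q13998 L675533 q16157, e3 q13999 L675561 q16159, e3 q14000 (flp_h L654049) q11880, e3 q14001 (flp_h L654060) q11881, e3 q14002 L654079 q11888, e3 q14003 L654091 q11975, e3 q14004 L654100 q11890, e3 q14005 L654116 q11891, e3 q14006 L675685 q16169, e3 q14007 L675698 q16170, e3 q14008 (flp_h L654145) q11885, e3 q14009 (flp_h L675582) q16160, e3 q14010 L654179 q11982, e3 q14011 (flp_h L675606) q16162, e3 q14012 L654203 q11984, e3 q14013 (flp_h L675627) q16164, e3 q14014 (flp_h L675644) q16165, e3 q14015 L675861 q16184, trivial⟩ (by decide +kernel)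

theorem ce_h_219 : ∀ r, r < 64 → sm gh (Qf (14016 + r)) = Qf (tab Gen.h (14016 + r)) :=
  edges_tab (sm gh) Qf (tab Gen.h) 14016 [(14016, 12937), (14017, 12936), (14018, 16187), (14019, 16188), (14020, 11892), (14021, 14021), (14022, 16191), (14023, 14023), (14024, 16193), (14025, 11896), (14026, 11897), (14027, 11899), (14028, 14028), (14029, 12007), (14030, 14030), (14031, 14031), (14032, 16202), (14033, 14033), (14034, 16204), (14035, 14035), (14036, 16206), (14037, 11906), (14038, 14038), (14039, 16208), (14040, 11908), (14041, 12019), (14042, 14042), (14043, 16211), (14044, 14044), (14045, 14045), (14046, 16215), (14047, 16216), (14048, 11915), (14049, 16217), (14050, 11917), (14051, 16218), (14052, 11919), (14053, 16220), (14054, 11922), (14055, 12498), (14056, 16224), (14057, 16225), (14058, 11924), (14059, 11929), (14060, 13353), (14061, 16230), (14062, 11926), (14063, 11927), (14064, 16226), (14065, 13004), (14066, 12457), (14067, 12509), (14068, 16240), (14069, 13005), (14070, 14070), (14071, 16243), (14072, 16244),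 (14073, 16245), (14074, 11936), (14075, 11937), (14076, 16246), (14077, 16247), (14078, 11939), (14079, 11940)]
    ⟨e3 q14016 L654240 q12937, e3 q14017 L654257 q12936, e3 q14018 L675900 q16187, e3 q14019 L675909 q16188, e3 q14020 (flp_h L654286) q11892, e3 q14021 L654307 q14021, e3 q14022 L675942 q16191, e3 q14023 L654327 q14023, e3 q14024 L675968 q16193, e3 q14025 (flp_h L654341) q11896, e3 q14026 (flp_h L654353) q11897, e3 q14027 (flp_h L654366) q11899, e3 q14028 L654395 q14028, e3 q14029 L654406 q12007, e3 q14030 L654416 q14030, e3 q14031 L654427 q14031, e3 q14032 L676090 q16202, e3 q14033 L654451 q14033, e3 q14034 L676115 q16204, e3 q14035 L654473 q14035, e3 q14036 L676141 q16206, e3 q14037 (flp_h L654487) q11906, e3 q14038 L654511 q14038, e3 q14039 L676167 q16208, e3 q14040 (flp_h L654524) q11908, e3 q14041 L654549 q12019, e3 q14042 L654562 q14042, e3 q14043 L676205 q16211, e3 q14044 L654590 q14044, e3 q14045 L654602 q14045, e3 q14046 L676261 q16215, e3 q14047 L676271 q16216, e3 q14048 (flp_h L654629) q11915, e3 q14049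 L676284 q16217, e3 q14050 (flp_h L654652) q11917, e3 q14051 L676296 q16218, e3 q14052 (flp_h L654675) q11919, e3 q14053 L676318 q16220, e3 q14054 (flp_h L654697) q11922, e3 q14055 L654715 q12498, e3 q14056 L676380 q16224, e3 q14057 L676394 q16225, e3 q14058 (flp_h L654747) q11924, e3 q14059 L654769 q11929, e3 q14060 L654785 q13353, e3 q14061 L676464 q16230, e3 q14062 (flp_h L654798) q11926, e3 q14063 (flp_h L654809) q11927, e3 q14064 (flp_h L676416) q16226, e3 q14065 L654840 q13004, e3 q14066 L654849 q12457, e3 q14067 L654865 q12509, e3 q14068 L676593 q16240, e3 q14069 L654896 q13005, e3 q14070 L654910 q14070, e3 q14071 L676633 q16243, e3 q14072 L676650 q16244, e3 q14073 L676666 q16245, e3 q14074 (flp_h L654956) q11936, e3 q14075 (flp_h L654968) q11937, e3 q14076 L676680 q16246, e3 q14077 L676692 q16247, e3 q14078 (flp_h L655003) q11939, e3 q14079 (flp_h L655012) q11940, trivial⟩ (by decide +kernel)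

theorem ce_h_220 : ∀ r, r < 64 → sm gh (Qf (14080 + r)) = Qf (tab Gen.h (14080 + r)) :=
  edges_tab (sm gh) Qf (tab Gen.h) 14080 [(14080, 11947), (14081, 13781), (14082, 11949), (14083, 11950), (14084, 16257), (14085, 16258), (14086, 11944), (14087, 16248), (14088, 13484), (14089, 16250), (14090, 13485), (14091, 16252), (14092, 16253), (14093, 16268), (14094, 16269), (14095, 13332), (14096, 16272), (14097, 11951), (14098, 14098), (14099, 16275), (14100, 11954), (14101, 14101), (14102, 16278), (14103, 11956), (14104, 14104), (14105, 16281), (14106, 11959), (14107, 11961), (14108, 13749), (14109, 14109), (14110, 16284), (14111, 16285), (14112, 11967), (14113, 11968), (14114, 16287), (14115, 11970), (14116, 16290), (14117, 11971), (14118, 11981), (14119, 16161), (14120, 11983), (14121, 16163), (14122, 11985), (14123, 11986), (14124, 16304), (14125, 11988), (14126, 11989), (14127, 16307), (14128, 11991), (14129, 16310), (14130, 11978), (14131, 11979), (14132, 16291), (14133, 16172), (14134, 16293), (14135, 16294), (14136, 16321),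 (14137, 16296), (14138, 16297), (14139, 16326), (14140, 16299), (14141, 16300), (14142, 16332), (14143, 16302)]
    ⟨e3 q14080 L655027 q11947, e3 q14081 L655037 q13781, e3 q14082 L655046 q11949, e3 q14083 L655062 q11950, e3 q14084 L676812 q16257, e3 q14085 L676823 q16258, e3 q14086 (flp_h L655087) q11944, e3 q14087 (flp_h L676709) q16248, e3 q14088 L655117 q13484, e3 q14089 (flp_h L676729) q16250, e3 q14090 L655141 q13485, e3 q14091 (flp_h L676754) q16252, e3 q14092 (flp_h L676773) q16253, e3 q14093 L676943 q16268, e3 q14094 L676951 q16269, e3 q14095 L655203 q13332, e3 q14096 L676993 q16272, e3 q14097 (flp_h L655218) q11951, e3 q14098 L655235 q14098, e3 q14099 L677027 q16275, e3 q14100 (flp_h L655250) q11954, e3 q14101 L655275 q14101, e3 q14102 L677064 q16278, e3 q14103 (flp_h L655289) q11956, e3 q14104 L655307 q14104, e3 q14105 L677099 q16281, e3 q14106 (flp_h L655319) q11959, e3 q14107 (flp_h L655331) q11961, e3 q14108 L655358 q13749, e3 q14109 L655372 q14109, e3 q14110 L677142 q16284, e3 q14111 L677158 q16285, e3 q14112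 (flp_h L655404) q11967, e3 q14113 (flp_h L655418) q11968, e3 q14114 L677187 q16287, e3 q14115 (flp_h L655444) q11970, e3 q14116 L677218 q16290, e3 q14117 (flp_h L655466) q11971, e3 q14118 L655483 q11981, e3 q14119 (flp_h L675595) q16161, e3 q14120 L655501 q11983, e3 q14121 (flp_h L675619) q16163, e3 q14122 L655516 q11985, e3 q14123 L655525 q11986, e3 q14124 L677363 q16304, e3 q14125 L655542 q11988, e3 q14126 L655559 q11989, e3 q14127 L677400 q16307, e3 q14128 L655583 q11991, e3 q14129 L677436 q16310, e3 q14130 (flp_h L655595) q11978, e3 q14131 (flp_h L655604) q11979, e3 q14132 (flp_h L677238) q16291, e3 q14133 (flp_h L675735) q16172, e3 q14134 (flp_h L677255) q16293, e3 q14135 (flp_h L677264) q16294, e3 q14136 L677531 q16321, e3 q14137 (flp_h L677283) q16296, e3 q14138 (flp_h L677299) q16297, e3 q14139 L677590 q16326, e3 q14140 (flp_h L677316) q16299, e3 q14141 (flp_h L677336) q16300, e3 q14142 L677661 q16332, e3 q14143 (flp_h L677352) q16302, trivial⟩ (by decide +kernel)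

theorem ce_h_221 : ∀ r, r < 64 → sm gh (Qf (14144 + r)) = Qf (tab Gen.h (14144 + r)) :=
  edges_tab (sm gh) Qf (tab Gen.h) 14144 [(14144, 16335), (14145, 11987), (14146, 12585), (14147, 12584), (14148, 16338), (14149, 13398), (14150, 16341), (14151, 11990), (14152, 16308), (14153, 16345), (14154, 11992), (14155, 14155), (14156, 16349), (14157, 11995), (14158, 14158), (14159, 16352), (14160, 11997), (14161, 14161), (14162, 16355), (14163, 12000), (14164, 16346), (14165, 16358), (14166, 12003), (14167, 16195), (14168, 14168), (14169, 16361), (14170, 14170), (14171, 14171), (14172, 16367), (14173, 16368), (14174, 12010), (14175, 14175), (14176, 16371), (14177, 12012), (14178, 14178), (14179, 16373), (14180, 12014), (14181, 16375), (14182, 12017), (14183, 16342), (14184, 14184), (14185, 16380), (14186, 12021), (14187, 14187), (14188, 14188), (14189, 16384), (14190, 16385), (14191, 12024), (14192, 12025), (14193, 14193), (14194, 16388), (14195, 12028), (14196, 16390), (14197, 12031), (14198, 12644), (14199, 12033), (14200, 12646),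 (14201, 12647), (14202, 14202), (14203, 14203), (14204, 14204), (14205, 16394), (14206, 14206), (14207, 14207)]
    ⟨e3 q14144 L677683 q16335, e3 q14145 (flp_h L655734) q11987, e3 q14146 L655749 q12585, e3 q14147 L655764 q12584, e3 q14148 L677721 q16338, e3 q14149 L655792 q13398, e3 q14150 L677759 q16341, e3 q14151 (flp_h L655807) q11990, e3 q14152 (flp_h L677420) q16308, e3 q14153 L677796 q16345, e3 q14154 (flp_h L655833) q11992, e3 q14155 L655850 q14155, e3 q14156 L677838 q16349, e3 q14157 (flp_h L655866) q11995, e3 q14158 L655884 q14158, e3 q14159 L677867 q16352, e3 q14160 (flp_h L655893) q11997, e3 q14161 L655908 q14161, e3 q14162 L677890 q16355, e3 q14163 (flp_h L655918) q12000, e3 q14164 (flp_h L677810) q16346, e3 q14165 L677915 q16358, e3 q14166 (flp_h L655943) q12003, e3 q14167 (flp_h L676007) q16195, e3 q14168 L655969 q14168, e3 q14169 L677950 q16361, e3 q14170 L655990 q14170, e3 q14171 L656003 q14171, e3 q14172 L678023 q16367, e3 q14173 L678032 q16368, e3 q14174 (flp_h L656030) q12010, e3 q14175 L656046 q14175, e3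 q14176 L678072 q16371, e3 q14177 (flp_h L656060) q12012, e3 q14178 L656080 q14178, e3 q14179 L678096 q16373, e3 q14180 (flp_h L656091) q12014, e3 q14181 L678110 q16375, e3 q14182 (flp_h L656111) q12017, e3 q14183 (flp_h L677775) q16342, e3 q14184 L656137 q14184, e3 q14185 L678166 q16380, e3 q14186 (flp_h L656151) q12021, e3 q14187 L656169 q14187, e3 q14188 L656179 q14188, e3 q14189 L678217 q16384, e3 q14190 L678226 q16385, e3 q14191 (flp_h L656209) q12024, e3 q14192 (flp_h L656219) q12025, e3 q14193 L656240 q14193, e3 q14194 L678264 q16388, e3 q14195 (flp_h L656251) q12028, e3 q14196 L678281 q16390, e3 q14197 (flp_h L656269) q12031, e3 q14198 L656282 q12644, e3 q14199 (flp_h L656284) q12033, e3 q14200 L656301 q12646, e3 q14201 L656307 q12647, e3 q14202 L656324 q14202, e3 q14203 L656341 q14203, e3 q14204 L656358 q14204, e3 q14205 L678328 q16394, e3 q14206 L656388 q14206, e3 q14207 L656403 q14207, trivial⟩ (by decide +kernel)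

theorem ce_h_222 : ∀ r, r < 64 → sm gh (Qf (14208 + r)) = Qf (tab Gen.h (14208 + r)) :=
  edges_tab (sm gh) Qf (tab Gen.h) 14208 [(14208, 14208), (14209, 14209), (14210, 16397), (14211, 16398), (14212, 12046), (14213, 14213), (14214, 16400), (14215, 14215), (14216, 14216), (14217, 14217), (14218, 16402), (14219, 14219), (14220, 16404), (14221, 12055), (14222, 16406), (14223, 12057), (14224, 16409), (14225, 12058), (14226, 12113), (14227, 16412), (14228, 12061), (14229, 16416), (14230, 16417), (14231, 12062), (14232, 16413), (14233, 12120), (14234, 12064), (14235, 12123), (14236, 14236), (14237, 16425), (14238, 12068), (14239, 16427), (14240, 12069), (14241, 12070), (14242, 12131), (14243, 14243), (14244, 16431), (14245, 12134), (14246, 13626), (14247, 12076), (14248, 12081), (14249, 12139), (14250, 16437), (14251, 12078), (14252, 12079), (14253, 16432), (14254, 12144), (14255, 16434), (14256, 16435), (14257, 16447), (14258, 14258), (14259, 12148), (14260, 16449), (14261, 14261), (14262, 16451), (14263, 12087), (14264, 16452),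 (14265, 12089), (14266, 12856), (14267, 12091), (14268, 12158), (14269, 14269), (14270, 12159), (14271, 16454)]
    ⟨e3 q14208 L656420 q14208, e3 q14209 L656432 q14209, e3 q14210 L678376 q16397, e3 q14211 L678387 q16398, e3 q14212 (flp_h L656463) q12046, e3 q14213 L656484 q14213, e3 q14214 L678417 q16400, e3 q14215 L656515 q14215, e3 q14216 L656529 q14216, e3 q14217 L656546 q14217, e3 q14218 L678447 q16402, e3 q14219 L656570 q14219, e3 q14220 L678474 q16404, e3 q14221 (flp_h L656584) q12055, e3 q14222 L678506 q16406, e3 q14223 (flp_h L656609) q12057, e3 q14224 L678550 q16409, e3 q14225 (flp_h L656635) q12058, e3 q14226 L656656 q12113, e3 q14227 L678598 q16412, e3 q14228 (flp_h L656672) q12061, e3 q14229 L678655 q16416, e3 q14230 L678668 q16417, e3 q14231 (flp_h L656711) q12062, e3 q14232 (flp_h L678622) q16413, e3 q14233 L656741 q12120, e3 q14234 (flp_h L656743) q12064, e3 q14235 L656765 q12123, e3 q14236 L656779 q14236, e3 q14237 L678779 q16425, e3 q14238 (flp_h L656792) q12068, e3 q14239 L678807 q16427, e3 q14240 (flp_h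 L656813) q12069, e3 q14241 (flp_h L656825) q12070, e3 q14242 L656847 q12131, e3 q14243 L656861 q14243, e3 q14244 L678864 q16431, e3 q14245 L656885 q12134, e3 q14246 (flp_h L656901) q13626, e3 q14247 (flp_h L656903) q12076, e3 q14248 L656921 q12081, e3 q14249 L656931 q12139, e3 q14250 L678926 q16437, e3 q14251 (flp_h L656946) q12078, e3 q14252 (flp_h L656957) q12079, e3 q14253 (flp_h L678886) q16432, e3 q14254 L656979 q12144, e3 q14255 (flp_h L678908) q16434, e3 q14256 (flp_h L678915) q16435, e3 q14257 L679052 q16447, e3 q14258 L657014 q14258, e3 q14259 L657028 q12148, e3 q14260 L679079 q16449, e3 q14261 L657047 q14261, e3 q14262 L679107 q16451, e3 q14263 (flp_h L657058) q12087, e3 q14264 L679114 q16452, e3 q14265 (flp_h L657083) q12089, e3 q14266 (flp_h L657105) q12856, e3 q14267 (flp_h L657107) q12091, e3 q14268 L657131 q12158, e3 q14269 L657147 q14269, e3 q14270 L657160 q12159, e3 q14271 L679149 q16454, trivial⟩ (by decide +kernel)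

theorem ce_h_223 : ∀ r, r < 64 → sm gh (Qf (14272 + r)) = Qf (tab Gen.h (14272 + r)) :=
  edges_tab (sm gh) Qf (tab Gen.h) 14272 [(14272, 14272), (14273, 16456), (14274, 12097), (14275, 13185), (14276, 12104), (14277, 14277), (14278, 16458), (14279, 12106), (14280, 12108), (14281, 13624), (14282, 12109), (14283, 16459), (14284, 16408), (14285, 16410), (14286, 16465), (14287, 12114), (14288, 12119), (14289, 16414), (14290, 16090), (14291, 12116), (14292, 12117), (14293, 16466), (14294, 16419), (14295, 16468), (14296, 16469), (14297, 16483), (14298, 16423), (14299, 14299), (14300, 16486), (14301, 16487), (14302, 12125), (14303, 16093), (14304, 16428), (14305, 16429), (14306, 14306), (14307, 16490), (14308, 14308), (14309, 16492), (14310, 12133), (14311, 16493), (14312, 12135), (14313, 12136), (14314, 12143), (14315, 16433), (14316, 12145), (14317, 12146), (14318, 16506), (14319, 16088), (14320, 16494), (14321, 16439), (14322, 16496), (14323, 16441), (14324, 16498), (14325, 16499), (14326, 16513), (14327, 16501), (14328, 16502),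 (14329, 16519), (14330, 16504), (14331, 16522), (14332, 12147), (14333, 16523), (14334, 12150), (14335, 14335)]
    ⟨e3 q14272 L657180 q14272, e3 q14273 L679174 q16456, e3 q14274 (flp_h L657191) q12097, e3 q14275 (flp_h L657215) q13185, e3 q14276 (flp_h L657217) q12104, e3 q14277 L657241 q14277, e3 q14278 L679196 q16458, e3 q14279 (flp_h L657255) q12106, e3 q14280 (flp_h L657269) q12108, e3 q14281 (flp_h L657293) q13624, e3 q14282 (flp_h L657295) q12109, e3 q14283 (flp_h L679221) q16459, e3 q14284 (flp_h L678548) q16408, e3 q14285 (flp_h L678578) q16410, e3 q14286 L679284 q16465, e3 q14287 (flp_h L657351) q12114, e3 q14288 L657367 q12119, e3 q14289 (flp_h L678636) q16414, e3 q14290 (flp_h L674611) q16090, e3 q14291 (flp_h L657388) q12116, e3 q14292 (flp_h L657399) q12117, e3 q14293 (flp_h L679300) q16466, e3 q14294 (flp_h L678704) q16419, e3 q14295 (flp_h L679318) q16468, e3 q14296 (flp_h L679327) q16469, e3 q14297 L679473 q16483, e3 q14298 (flp_h L678761) q16423, e3 q14299 L657483 q14299, e3 q14300 L679507 q16486, e3 q14301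 L679520 q16487, e3 q14302 (flp_h L657507) q12125, e3 q14303 (flp_h L674654) q16093, e3 q14304 (flp_h L678833) q16428, e3 q14305 (flp_h L678848) q16429, e3 q14306 L657560 q14306, e3 q14307 L679554 q16490, e3 q14308 L657580 q14308, e3 q14309 L679575 q16492, e3 q14310 (flp_h L657593) q12133, e3 q14311 L679587 q16493, e3 q14312 (flp_h L657619) q12135, e3 q14313 (flp_h L657630) q12136, e3 q14314 L657642 q12143, e3 q14315 (flp_h L678900) q16433, e3 q14316 L657656 q12145, e3 q14317 L657663 q12146, e3 q14318 L679739 q16506, e3 q14319 (flp_h L674585) q16088, e3 q14320 (flp_h L679610) q16494, e3 q14321 (flp_h L678968) q16439, e3 q14322 (flp_h L679635) q16496, e3 q14323 (flp_h L679000) q16441, e3 q14324 (flp_h L679661) q16498, e3 q14325 (flp_h L679674) q16499, e3 q14326 L679809 q16513, e3 q14327 (flp_h L679692) q16501, e3 q14328 (flp_h L679708) q16502, e3 q14329 L679876 q16519, e3 q14330 (flp_h L679728) q16504, e3 q14331 L679900 q16522, e3 q14332 (flp_h L657797) q12147, e3 q14333 L679906 q16523, e3 q14334 (flp_h L657814) q12150, e3 q14335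 L657830 q14335, trivial⟩ (by decide +kernel)

theorem ce_h_224 : ∀ r, r < 64 → sm gh (Qf (14336 + r)) = Qf (tab Gen.h (14336 + r)) :=
  edges_tab (sm gh) Qf (tab Gen.h) 14336 [(14336, 16526), (14337, 12152), (14338, 14338), (14339, 13587), (14340, 12155), (14341, 16528), (14342, 12161), (14343, 14343), (14344, 16530), (14345, 12163), (14346, 16532), (14347, 12167), (14348, 16533), (14349, 14349), (14350, 14350), (14351, 16535), (14352, 12174), (14353, 14353), (14354, 14354), (14355, 16537), (14356, 14356), (14357, 14357), (14358, 16540), (14359, 14359), (14360, 16542), (14361, 12184), (14362, 16543), (14363, 12186), (14364, 14364), (14365, 14365), (14366, 14366), (14367, 16547), (14368, 14368), (14369, 16549), (14370, 12192), (14371, 14371), (14372, 14372), (14373, 14373), (14374, 14374), (14375, 16553), (14376, 14376), (14377, 16555), (14378, 14378), (14379, 16557), (14380, 12200), (14381, 14381), (14382, 16559), (14383, 12202), (14384, 16561), (14385, 12204), (14386, 16564), (14387, 16565), (14388, 12205), (14389, 16140),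 (14390, 12286), (14391, 12207), (14392, 12288), (14393, 16571), (14394, 16572), (14395, 12210), (14396, 12215), (14397, 12293), (14398, 16579), (14399, 12212)]
    ⟨e3 q14336 L679945 q16526, e3 q14337 (flp_h L657840) q12152, e3 q14338 L657854 q14338, e3 q14339 (flp_h L657869) q13587, e3 q14340 (flp_h L657871) q12155, e3 q14341 L679962 q16528, e3 q14342 (flp_h L657894) q12161, e3 q14343 L657915 q14343, e3 q14344 L679987 q16530, e3 q14345 (flp_h L657929) q12163, e3 q14346 L680008 q16532, e3 q14347 (flp_h L657953) q12167, e3 q14348 L680023 q16533, e3 q14349 L657998 q14349, e3 q14350 L658015 q14350, e3 q14351 L680058 q16535, e3 q14352 (flp_h L658026) q12174, e3 q14353 L658051 q14353, e3 q14354 L658067 q14354, e3 q14355 L680089 q16537, e3 q14356 L658095 q14356, e3 q14357 L658107 q14357, e3 q14358 L680132 q16540, e3 q14359 L658130 q14359, e3 q14360 L680158 q16542, e3 q14361 (flp_h L658142) q12184, e3 q14362 L680170 q16543, e3 q14363 (flp_h L658165) q12186, e3 q14364 L658190 q14364, e3 q14365 L658206 q14365, e3 q14366 L658219 q14366,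 e3 q14367 L680231 q16547, e3 q14368 L658237 q14368, e3 q14369 L680256 q16549, e3 q14370 (flp_h L658247) q12192, e3 q14371 L658269 q14371, e3 q14372 L658286 q14372, e3 q14373 L658295 q14373, e3 q14374 L658309 q14374, e3 q14375 L680316 q16553, e3 q14376 L658333 q14376, e3 q14377 L680340 q16555, e3 q14378 L658351 q14378, e3 q14379 L680362 q16557, e3 q14380 (flp_h L658362) q12200, e3 q14381 L658377 q14381, e3 q14382 L680389 q16559, e3 q14383 (flp_h L658387) q12202, e3 q14384 L680418 q16561, e3 q14385 (flp_h L658411) q12204, e3 q14386 L680463 q16564, e3 q14387 L680476 q16565, e3 q14388 (flp_h L658450) q12205, e3 q14389 (flp_h L675335) q16140, e3 q14390 L658480 q12286, e3 q14391 (flp_h L658482) q12207, e3 q14392 L658504 q12288, e3 q14393 L680550 q16571, e3 q14394 L680563 q16572, e3 q14395 (flp_h L658531) q12210, e3 q14396 L658545 q12215, e3 q14397 L658555 q12293, e3 q14398 L680643 q16579, e3 q14399 (flp_h L658569) q12212, trivial⟩ (by decide +kernel)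

theorem ce_h_225 : ∀ r, r < 64 → sm gh (Qf (14400 + r)) = Qf (tab Gen.h (14400 + r)) :=
  edges_tab (sm gh) Qf (tab Gen.h) 14400 [(14400, 12213), (14401, 16573), (14402, 12298), (14403, 16575), (14404, 16576), (14405, 16590), (14406, 12303), (14407, 14407), (14408, 16593), (14409, 16594), (14410, 12221), (14411, 16595), (14412, 12223), (14413, 14413), (14414, 12311), (14415, 12313), (14416, 14416), (14417, 16600), (14418, 14418), (14419, 16602), (14420, 12229), (14421, 16603), (14422, 16604), (14423, 12231), (14424, 12232), (14425, 12239), (14426, 12324), (14427, 12241), (14428, 12242), (14429, 16617), (14430, 16618), (14431, 12236), (14432, 16605), (14433, 12331), (14434, 16607), (14435, 12333), (14436, 16609), (14437, 16610), (14438, 16629), (14439, 16612), (14440, 16613), (14441, 16635), (14442, 16615), (14443, 16638), (14444, 12243), (14445, 16639), (14446, 14446), (14447, 16642), (14448, 12247), (14449, 14449), (14450, 16644), (14451, 12249), (14452, 16646), (14453, 12252), (14454, 12254), (14455, 14455), (14456, 12356),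 (14457, 14457), (14458, 14458), (14459, 16654), (14460, 16655), (14461, 14461), (14462, 16657), (14463, 12261)]
    ⟨e3 q14400 (flp_h L658581) q12213, e3 q14401 (flp_h L680579) q16573, e3 q14402 L658607 q12298, e3 q14403 (flp_h L680597) q16575, e3 q14404 (flp_h L680612) q16576, e3 q14405 L680763 q16590, e3 q14406 L658641 q12303, e3 q14407 L658653 q14407, e3 q14408 L680798 q16593, e3 q14409 L680809 q16594, e3 q14410 (flp_h L658670) q12221, e3 q14411 L680820 q16595, e3 q14412 (flp_h L658691) q12223, e3 q14413 L658713 q14413, e3 q14414 L658725 q12311, e3 q14415 L658736 q12313, e3 q14416 L658748 q14416, e3 q14417 L680886 q16600, e3 q14418 L658762 q14418, e3 q14419 L680909 q16602, e3 q14420 (flp_h L658772) q12229, e3 q14421 L680922 q16603, e3 q14422 L680934 q16604, e3 q14423 (flp_h L658805) q12231, e3 q14424 (flp_h L658812) q12232, e3 q14425 L658826 q12239, e3 q14426 L658834 q12324, e3 q14427 L658840 q12241, e3 q14428 L658845 q12242, e3 q14429 L681048 q16617, e3 q14430 L681056 q16618, e3 q14431 (flp_h L658864) q12236, e3 q14432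 (flp_h L680951) q16605, e3 q14433 L658890 q12331, e3 q14434 (flp_h L680970) q16607, e3 q14435 L658904 q12333, e3 q14436 (flp_h L680988) q16609, e3 q14437 (flp_h L680995) q16610, e3 q14438 L681142 q16629, e3 q14439 (flp_h L681009) q16612, e3 q14440 (flp_h L681017) q16613, e3 q14441 L681182 q16635, e3 q14442 (flp_h L681039) q16615, e3 q14443 L681210 q16638, e3 q14444 (flp_h L658956) q12243, e3 q14445 L681214 q16639, e3 q14446 L658972 q14446, e3 q14447 L681248 q16642, e3 q14448 (flp_h L658981) q12247, e3 q14449 L659000 q14449, e3 q14450 L681269 q16644, e3 q14451 (flp_h L659011) q12249, e3 q14452 L681283 q16646, e3 q14453 (flp_h L659032) q12252, e3 q14454 (flp_h L659039) q12254, e3 q14455 L659063 q14455, e3 q14456 L659074 q12356, e3 q14457 L659082 q14457, e3 q14458 L659091 q14458, e3 q14459 L681389 q16654, e3 q14460 L681400 q16655, e3 q14461 L659118 q14461, e3 q14462 L681419 q16657, e3 q14463 (flp_h L659127) q12261, trivial⟩ (by decide +kernel)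

theorem ce_h_226 : ∀ r, r < 64 → sm gh (Qf (14464 + r)) = Qf (tab Gen.h (14464 + r)) :=
  edges_tab (sm gh) Qf (tab Gen.h) 14464 [(14464, 14464), (14465, 16659), (14466, 12263), (14467, 12368), (14468, 14468), (14469, 16662), (14470, 14470), (14471, 14471), (14472, 16667), (14473, 16668), (14474, 12270), (14475, 14475), (14476, 13292), (14477, 12272), (14478, 14478), (14479, 16671), (14480, 12274), (14481, 16672), (14482, 12277), (14483, 13120), (14484, 12858), (14485, 16674), (14486, 16675), (14487, 12280), (14488, 12285), (14489, 16562), (14490, 16679), (14491, 12282), (14492, 12283), (14493, 16676), (14494, 16567), (14495, 13241), (14496, 16688), (14497, 16569), (14498, 16690), (14499, 16691), (14500, 12289), (14501, 12290), (14502, 12297), (14503, 16574), (14504, 12299), (14505, 12300), (14506, 16703), (14507, 16704), (14508, 12294), (14509, 16692), (14510, 16581), (14511, 16694), (14512, 16583), (14513, 16696), (14514, 16697), (14515, 16718), (14516, 16699), (14517, 16700), (14518, 16723), (14519, 16724), (14520, 12301),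 (14521, 14521), (14522, 16727), (14523, 14523), (14524, 16729), (14525, 12305), (14526, 12306), (14527, 12308)]
    ⟨e3 q14464 L659142 q14464, e3 q14465 L681440 q16659, e3 q14466 (flp_h L659151) q12263, e3 q14467 L659173 q12368, e3 q14468 L659184 q14468, e3 q14469 L681475 q16662, e3 q14470 L659212 q14470, e3 q14471 L659222 q14471, e3 q14472 L681541 q16667, e3 q14473 L681555 q16668, e3 q14474 (flp_h L659249) q12270, e3 q14475 L659269 q14475, e3 q14476 (flp_h L659283) q13292, e3 q14477 (flp_h L659285) q12272, e3 q14478 L659301 q14478, e3 q14479 L681584 q16671, e3 q14480 (flp_h L659309) q12274, e3 q14481 L681595 q16672, e3 q14482 (flp_h L659328) q12277, e3 q14483 L659347 q13120, e3 q14484 L659360 q12858, e3 q14485 L681622 q16674, e3 q14486 L681636 q16675, e3 q14487 (flp_h L659389) q12280, e3 q14488 L659410 q12285, e3 q14489 (flp_h L680444) q16562, e3 q14490 L681682 q16679, e3 q14491 (flp_h L659432) q12282, e3 q14492 (flp_h L659443) q12283, e3 q14493 (flp_h L681657) q16676, e3 q14494 (flp_h L680506) q16567, e3 q14495 L659477 q13241,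 e3 q14496 L681776 q16688, e3 q14497 (flp_h L680531) q16569, e3 q14498 L681798 q16690, e3 q14499 L681810 q16691, e3 q14500 (flp_h L659526) q12289, e3 q14501 (flp_h L659535) q12290, e3 q14502 L659549 q12297, e3 q14503 (flp_h L680589) q16574, e3 q14504 L659565 q12299, e3 q14505 L659572 q12300, e3 q14506 L681921 q16703, e3 q14507 L681929 q16704, e3 q14508 (flp_h L659593) q12294, e3 q14509 (flp_h L681827) q16692, e3 q14510 (flp_h L680675) q16581, e3 q14511 (flp_h L681844) q16694, e3 q14512 (flp_h L680699) q16583, e3 q14513 (flp_h L681860) q16696, e3 q14514 (flp_h L681869) q16697, e3 q14515 L682060 q16718, e3 q14516 (flp_h L681885) q16699, e3 q14517 (flp_h L681901) q16700, e3 q14518 L682106 q16723, e3 q14519 L682114 q16724, e3 q14520 (flp_h L659696) q12301, e3 q14521 L659713 q14521, e3 q14522 L682145 q16727, e3 q14523 L659734 q14523, e3 q14524 L682168 q16729, e3 q14525 (flp_h L659746) q12305, e3 q14526 (flp_h L659756) q12306, e3 q14527 (flp_h L659764) q12308, trivial⟩ (by decide +kernel)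

theorem ce_h_227 : ∀ r, r < 64 → sm gh (Qf (14528 + r)) = Qf (tab Gen.h (14528 + r)) :=
  edges_tab (sm gh) Qf (tab Gen.h) 14528 [(14528, 14528), (14529, 16596), (14530, 14530), (14531, 14531), (14532, 16738), (14533, 14533), (14534, 16741), (14535, 14535), (14536, 16744), (14537, 12315), (14538, 14538), (14539, 16746), (14540, 12317), (14541, 16748), (14542, 12319), (14543, 16751), (14544, 12320), (14545, 12330), (14546, 16606), (14547, 12332), (14548, 16608), (14549, 12334), (14550, 12335), (14551, 16765), (14552, 12337), (14553, 12338), (14554, 16768), (14555, 12340), (14556, 16771), (14557, 12327), (14558, 12328), (14559, 16752), (14560, 16620), (14561, 16754), (14562, 16755), (14563, 16782), (14564, 16757), (14565, 16758), (14566, 16787), (14567, 16760), (14568, 16761), (14569, 16793), (14570, 16763), (14571, 16796), (14572, 12336), (14573, 13165), (14574, 13136), (14575, 16799), (14576, 16587), (14577, 16802), (14578, 12339), (14579, 16769), (14580, 16806), (14581, 12341), (14582, 14582), (14583, 16809), (14584, 12344),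 (14585, 14585), (14586, 16812), (14587, 12346), (14588, 14588), (14589, 16815), (14590, 12349), (14591, 16807)]
    ⟨e3 q14528 L659784 q14528, e3 q14529 (flp_h L680846) q16596, e3 q14530 L659804 q14530, e3 q14531 L659812 q14531, e3 q14532 L682257 q16738, e3 q14533 L659836 q14533, e3 q14534 L682289 q16741, e3 q14535 L659854 q14535, e3 q14536 L682319 q16744, e3 q14537 (flp_h L659865) q12315, e3 q14538 L659880 q14538, e3 q14539 L682339 q16746, e3 q14540 (flp_h L659891) q12317, e3 q14541 L682355 q16748, e3 q14542 (flp_h L659913) q12319, e3 q14543 L682386 q16751, e3 q14544 (flp_h L659936) q12320, e3 q14545 L659949 q12330, e3 q14546 (flp_h L680960) q16606, e3 q14547 L659962 q12332, e3 q14548 (flp_h L680982) q16608, e3 q14549 L659974 q12334, e3 q14550 L659981 q12335, e3 q14551 L682511 q16765, e3 q14552 L659995 q12337, e3 q14553 L660009 q12338, e3 q14554 L682540 q16768, e3 q14555 L660023 q12340, e3 q14556 L682562 q16771, e3 q14557 (flp_h L660032) q12327, e3 q14558 (flp_h L660038) q12328, e3 q14559 (flp_h L682405) q16752, e3 q14560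 (flp_h L681086) q16620, e3 q14561 (flp_h L682420) q16754, e3 q14562 (flp_h L682427) q16755, e3 q14563 L682650 q16782, e3 q14564 (flp_h L682443) q16757, e3 q14565 (flp_h L682456) q16758, e3 q14566 L682699 q16787, e3 q14567 (flp_h L682472) q16760, e3 q14568 (flp_h L682488) q16761, e3 q14569 L682758 q16793, e3 q14570 (flp_h L682502) q16763, e3 q14571 L682776 q16796, e3 q14572 (flp_h L660149) q12336, e3 q14573 L660161 q13165, e3 q14574 L660173 q13136, e3 q14575 L682805 q16799, e3 q14576 (flp_h L680741) q16587, e3 q14577 L682827 q16802, e3 q14578 (flp_h L660198) q12339, e3 q14579 (flp_h L682553) q16769, e3 q14580 L682853 q16806, e3 q14581 (flp_h L660218) q12341, e3 q14582 L660229 q14582, e3 q14583 L682874 q16809, e3 q14584 (flp_h L660243) q12344, e3 q14585 L660260 q14585, e3 q14586 L682903 q16812, e3 q14587 (flp_h L660270) q12346, e3 q14588 L660283 q14588, e3 q14589 L682927 q16815, e3 q14590 (flp_h L660291) q12349, e3 q14591 (flp_h L682861) q16807, trivial⟩ (by decide +kernel)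

theorem ce_h_228 : ∀ r, r < 64 → sm gh (Qf (14592 + r)) = Qf (tab Gen.h (14592 + r)) :=
  edges_tab (sm gh) Qf (tab Gen.h) 14592 [(14592, 13650), (14593, 12352), (14594, 16647), (14595, 14595), (14596, 14596), (14597, 16821), (14598, 14598), (14599, 14599), (14600, 16827), (14601, 16828), (14602, 12359), (14603, 16829), (14604, 12361), (14605, 14605), (14606, 16831), (14607, 12363), (14608, 16833), (14609, 12366), (14610, 16803), (14611, 16836), (14612, 12370), (14613, 14613), (14614, 14614), (14615, 16840), (14616, 16841), (14617, 12373), (14618, 12374), (14619, 16843), (14620, 12378), (14621, 12380), (14622, 13109), (14623, 16222), (14624, 12385), (14625, 14625), (14626, 16845), (14627, 16221), (14628, 12389), (14629, 12496), (14630, 16846), (14631, 14631), (14632, 16849), (14633, 12398), (14634, 14634), (14635, 16851), (14636, 12400), (14637, 16852), (14638, 12403), (14639, 14639), (14640, 12492), (14641, 16854), (14642, 12413), (14643, 12414), (14644, 13326), (14645, 12508), (14646, 12885), (14647, 16862), (14648, 12511),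 (14649, 16863), (14650, 12420), (14651, 13320), (14652, 12523), (14653, 13323), (14654, 12525), (14655, 13327)]
    ⟨e3 q14592 (flp_h L660313) q13650, e3 q14593 (flp_h L660315) q12352, e3 q14594 (flp_h L681312) q16647, e3 q14595 L660343 q14595, e3 q14596 L660352 q14596, e3 q14597 L682977 q16821, e3 q14598 L660374 q14598, e3 q14599 L660383 q14599, e3 q14600 L683037 q16827, e3 q14601 L683046 q16828, e3 q14602 (flp_h L660404) q12359, e3 q14603 L683056 q16829, e3 q14604 (flp_h L660424) q12361, e3 q14605 L660443 q14605, e3 q14606 L683079 q16831, e3 q14607 (flp_h L660455) q12363, e3 q14608 L683096 q16833, e3 q14609 (flp_h L660472) q12366, e3 q14610 (flp_h L682837) q16803, e3 q14611 L683117 q16836, e3 q14612 (flp_h L660499) q12370, e3 q14613 L660519 q14613, e3 q14614 L660529 q14614, e3 q14615 L683167 q16840, e3 q14616 L683180 q16841, e3 q14617 (flp_h L660559) q12373, e3 q14618 (flp_h L660573) q12374, e3 q14619 L683206 q16843, e3 q14620 (flp_h L660594) q12378, e3 q14621 (flp_h L660606) q12380, e3 q14622 L660626 q13109, e3 q14623 (flp_h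 L676356) q16222, e3 q14624 (flp_h L660644) q12385, e3 q14625 L660664 q14625, e3 q14626 L683235 q16845, e3 q14627 (flp_h L676342) q16221, e3 q14628 (flp_h L660692) q12389, e3 q14629 L660719 q12496, e3 q14630 L683245 q16846, e3 q14631 L660742 q14631, e3 q14632 L683284 q16849, e3 q14633 (flp_h L660756) q12398, e3 q14634 L660776 q14634, e3 q14635 L683313 q16851, e3 q14636 (flp_h L660793) q12400, e3 q14637 L683328 q16852, e3 q14638 (flp_h L660816) q12403, e3 q14639 L660831 q14639, e3 q14640 L660846 q12492, e3 q14641 L683350 q16854, e3 q14642 (flp_h L660861) q12413, e3 q14643 (flp_h L660872) q12414, e3 q14644 L660892 q13326, e3 q14645 L660905 q12508, e3 q14646 L660916 q12885, e3 q14647 L683448 q16862, e3 q14648 L660942 q12511, e3 q14649 L683461 q16863, e3 q14650 (flp_h L660957) q12420, e3 q14651 L660977 q13320, e3 q14652 L660989 q12523, e3 q14653 L661000 q13323, e3 q14654 L661013 q12525, e3 q14655 L661023 q13327, trivial⟩ (by decide +kernel)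

theorem ce_h_229 : ∀ r, r < 64 → sm gh (Qf (14656 + r)) = Qf (tab Gen.h (14656 + r)) :=
  edges_tab (sm gh) Qf (tab Gen.h) 14656 [(14656, 16872), (14657, 16873), (14658, 12426), (14659, 14659), (14660, 16875), (14661, 14661), (14662, 16877), (14663, 12430), (14664, 12431), (14665, 12433), (14666, 12542), (14667, 16880), (14668, 12437), (14669, 16883), (14670, 12438), (14671, 12447), (14672, 12557), (14673, 12449), (14674, 12559), (14675, 12452), (14676, 16892), (14677, 16893), (14678, 12444), (14679, 12445), (14680, 16884), (14681, 12571), (14682, 13298), (14683, 16886), (14684, 16904), (14685, 13300), (14686, 16888), (14687, 16908), (14688, 12934), (14689, 12917), (14690, 16912), (14691, 16890), (14692, 16915), (14693, 12453), (14694, 16916), (14695, 16917), (14696, 12456), (14697, 16235), (14698, 16920), (14699, 12458), (14700, 14700), (14701, 16924), (14702, 12461), (14703, 14703), (14704, 16927), (14705, 12463), (14706, 14706), (14707, 16930), (14708, 12466), (14709, 16921), (14710, 16933), (14711, 12469), (14712, 12654),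 (14713, 12606), (14714, 12655), (14715, 12656), (14716, 13531), (14717, 12657), (14718, 12658), (14719, 13382)]
    ⟨e3 q14656 L683564 q16872, e3 q14657 L683576 q16873, e3 q14658 (flp_h L661048) q12426, e3 q14659 L661070 q14659, e3 q14660 L683598 q16875, e3 q14661 L661084 q14661, e3 q14662 L683614 q16877, e3 q14663 (flp_h L661093) q12430, e3 q14664 (flp_h L661102) q12431, e3 q14665 (flp_h L661110) q12433, e3 q14666 L661133 q12542, e3 q14667 L683645 q16880, e3 q14668 (flp_h L661146) q12437, e3 q14669 L683676 q16883, e3 q14670 (flp_h L661170) q12438, e3 q14671 L661190 q12447, e3 q14672 L661202 q12557, e3 q14673 L661213 q12449, e3 q14674 L661225 q12559, e3 q14675 L661235 q12452, e3 q14676 L683776 q16892, e3 q14677 L683788 q16893, e3 q14678 (flp_h L661258) q12444, e3 q14679 (flp_h L661271) q12445, e3 q14680 (flp_h L683697) q16884, e3 q14681 L661294 q12571, e3 q14682 L661304 q13298, e3 q14683 (flp_h L683719) q16886, e3 q14684 L683889 q16904, e3 q14685 L661327 q13300, e3 q14686 (flp_h L683742) q16888, e3 q14687 L683931 q16908, e3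 q14688 L661359 q12934, e3 q14689 L661377 q12917, e3 q14690 L683982 q16912, e3 q14691 (flp_h L683763) q16890, e3 q14692 L684008 q16915, e3 q14693 (flp_h L661403) q12453, e3 q14694 L684014 q16916, e3 q14695 L684029 q16917, e3 q14696 (flp_h L661435) q12456, e3 q14697 (flp_h L676531) q16235, e3 q14698 L684065 q16920, e3 q14699 (flp_h L661467) q12458, e3 q14700 L661478 q14700, e3 q14701 L684099 q16924, e3 q14702 (flp_h L661488) q12461, e3 q14703 L661500 q14703, e3 q14704 L684130 q16927, e3 q14705 (flp_h L661507) q12463, e3 q14706 L661524 q14706, e3 q14707 L684155 q16930, e3 q14708 (flp_h L661534) q12466, e3 q14709 (flp_h L684079) q16921, e3 q14710 L684178 q16933, e3 q14711 (flp_h L661565) q12469, e3 q14712 L661583 q12654, e3 q14713 L661596 q12606, e3 q14714 L661606 q12655, e3 q14715 L661624 q12656, e3 q14716 L661640 q13531, e3 q14717 L661650 q12657, e3 q14718 L661670 q12658, e3 q14719 L661684 q13382, trivial⟩ (by decide +kernel)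

theorem ce_h_230 : ∀ r, r < 64 → sm gh (Qf (14720 + r)) = Qf (tab Gen.h (14720 + r)) :=
  edges_tab (sm gh) Qf (tab Gen.h) 14720 [(14720, 13530), (14721, 13384), (14722, 13376), (14723, 13362), (14724, 12490), (14725, 12489), (14726, 12486), (14727, 16937), (14728, 12494), (14729, 16219), (14730, 16934), (14731, 16941), (14732, 12499), (14733, 12500), (14734, 12507), (14735, 13352), (14736, 16947), (14737, 16948), (14738, 12504), (14739, 16942), (14740, 16856), (14741, 16944), (14742, 16858), (14743, 16236), (14744, 16957), (14745, 16958), (14746, 12510), (14747, 16959), (14748, 12512), (14749, 16962), (14750, 12513), (14751, 12522), (14752, 13347), (14753, 12524), (14754, 13350), (14755, 12527), (14756, 16971), (14757, 16972), (14758, 12519), (14759, 12520), (14760, 16963), (14761, 16865), (14762, 13566), (14763, 16965), (14764, 16983), (14765, 13567), (14766, 16967), (14767, 16988), (14768, 13569), (14769, 13570), (14770, 16992), (14771, 16969), (14772, 16994), (14773, 12528), (14774, 16995), (14775, 16996), (14776, 12531),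 (14777, 12532), (14778, 14778), (14779, 17000), (14780, 12535), (14781, 17001), (14782, 12537), (14783, 16997)]
    ⟨e3 q14720 L661698 q13530, e3 q14721 L661713 q13384, e3 q14722 L661729 q13376, e3 q14723 L661745 q13362, e3 q14724 L661762 q12490, e3 q14725 L661777 q12489, e3 q14726 (flp_h L661779) q12486, e3 q14727 (flp_h L684256) q16937, e3 q14728 (flp_h L661812) q12494, e3 q14729 (flp_h L676316) q16219, e3 q14730 (flp_h L684203) q16934, e3 q14731 L684308 q16941, e3 q14732 (flp_h L661870) q12499, e3 q14733 (flp_h L661880) q12500, e3 q14734 L661896 q12507, e3 q14735 L661907 q13352, e3 q14736 L684375 q16947, e3 q14737 L684386 q16948, e3 q14738 (flp_h L661928) q12504, e3 q14739 (flp_h L684330) q16942, e3 q14740 (flp_h L683384) q16856, e3 q14741 (flp_h L684353) q16944, e3 q14742 (flp_h L683409) q16858, e3 q14743 (flp_h L676550) q16236, e3 q14744 L684462 q16957, e3 q14745 L684468 q16958, e3 q14746 (flp_h L661992) q12510, e3 q14747 L684475 q16959, e3 q14748 (flp_h L662014) q12512, e3 q14749 L684510 q16962, e3 q14750 (flp_h L662042)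 q12513, e3 q14751 L662062 q12522, e3 q14752 L662074 q13347, e3 q14753 L662085 q12524, e3 q14754 L662097 q13350, e3 q14755 L662107 q12527, e3 q14756 L684614 q16971, e3 q14757 L684626 q16972, e3 q14758 (flp_h L662130) q12519, e3 q14759 (flp_h L662143) q12520, e3 q14760 (flp_h L684535) q16963, e3 q14761 (flp_h L683494) q16865, e3 q14762 L662180 q13566, e3 q14763 (flp_h L684557) q16965, e3 q14764 L684735 q16983, e3 q14765 L662207 q13567, e3 q14766 (flp_h L684580) q16967, e3 q14767 L684789 q16988, e3 q14768 L662239 q13569, e3 q14769 L662249 q13570, e3 q14770 L684826 q16992, e3 q14771 (flp_h L684601) q16969, e3 q14772 L684846 q16994, e3 q14773 (flp_h L662278) q12528, e3 q14774 L684854 q16995, e3 q14775 L684865 q16996, e3 q14776 (flp_h L662303) q12531, e3 q14777 (flp_h L662316) q12532, e3 q14778 L662330 q14778, e3 q14779 L684899 q17000, e3 q14780 (flp_h L662341) q12535, e3 q14781 L684910 q17001, e3 q14782 (flp_h L662357) q12537, e3 q14783 (flp_h L684881) q16997, trivial⟩ (by decide +kernel)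

theorem ce_h_231 : ∀ r, r < 64 → sm gh (Qf (14784 + r)) = Qf (tab Gen.h (14784 + r)) :=
  edges_tab (sm gh) Qf (tab Gen.h) 14784 [(14784, 12667), (14785, 16879), (14786, 12668), (14787, 12669), (14788, 13548), (14789, 12670), (14790, 12671), (14791, 13551), (14792, 13552), (14793, 13554), (14794, 12672), (14795, 13556), (14796, 13557), (14797, 17016), (14798, 12552), (14799, 16749), (14800, 16882), (14801, 12554), (14802, 12570), (14803, 16885), (14804, 12572), (14805, 12573), (14806, 17032), (14807, 12575), (14808, 12576), (14809, 17038), (14810, 12578), (14811, 12579), (14812, 17042), (14813, 12581), (14814, 17045), (14815, 12562), (14816, 17046), (14817, 12587), (14818, 17049), (14819, 12565), (14820, 12590), (14821, 17052), (14822, 12567), (14823, 17022), (14824, 16895), (14825, 17024), (14826, 17025), (14827, 17062), (14828, 17027), (14829, 17028), (14830, 17069), (14831, 17030), (14832, 17072), (14833, 12574), (14834, 17033), (14835, 17034), (14836, 17078), (14837, 17036), (14838, 17081), (14839, 12577), (14840, 16328),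 (14841, 16327), (14842, 17085), (14843, 17040), (14844, 17088), (14845, 12580), (14846, 17043), (14847, 17092)]
    ⟨e3 q14784 L662383 q12667, e3 q14785 (flp_h L683643) q16879, e3 q14786 L662403 q12668, e3 q14787 L662414 q12669, e3 q14788 L662428 q13548, e3 q14789 L662438 q12670, e3 q14790 L662449 q12671, e3 q14791 L662462 q13551, e3 q14792 L662474 q13552, e3 q14793 L662488 q13554, e3 q14794 L662498 q12672, e3 q14795 L662512 q13556, e3 q14796 L662525 q13557, e3 q14797 L685083 q17016, e3 q14798 (flp_h L662543) q12552, e3 q14799 (flp_h L682374) q16749, e3 q14800 (flp_h L683674) q16882, e3 q14801 (flp_h L662566) q12554, e3 q14802 L662581 q12570, e3 q14803 (flp_h L683709) q16885, e3 q14804 L662599 q12572, e3 q14805 L662607 q12573, e3 q14806 L685221 q17032, e3 q14807 L662624 q12575, e3 q14808 L662633 q12576, e3 q14809 L685279 q17038, e3 q14810 L662649 q12578, e3 q14811 L662659 q12579, e3 q14812 L685316 q17042, e3 q14813 L662676 q12581, e3 q14814 L685340 q17045, e3 q14815 (flp_h L662685) q12562, e3 q14816 L685348 q17046, e3 q14817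 L662711 q12587, e3 q14818 L685388 q17049, e3 q14819 (flp_h L662726) q12565, e3 q14820 L662744 q12590, e3 q14821 L685414 q17052, e3 q14822 (flp_h L662754) q12567, e3 q14823 (flp_h L685140) q17022, e3 q14824 (flp_h L683815) q16895, e3 q14825 (flp_h L685159) q17024, e3 q14826 (flp_h L685167) q17025, e3 q14827 L685489 q17062, e3 q14828 (flp_h L685185) q17027, e3 q14829 (flp_h L685195) q17028, e3 q14830 L685539 q17069, e3 q14831 (flp_h L685211) q17030, e3 q14832 L685559 q17072, e3 q14833 (flp_h L662831) q12574, e3 q14834 (flp_h L685236) q17033, e3 q14835 (flp_h L685249) q17034, e3 q14836 L685612 q17078, e3 q14837 (flp_h L685269) q17036, e3 q14838 L685632 q17081, e3 q14839 (flp_h L662876) q12577, e3 q14840 (flp_h L677623) q16328, e3 q14841 (flp_h L677605) q16327, e3 q14842 L685661 q17085, e3 q14843 (flp_h L685302) q17040, e3 q14844 L685681 q17088, e3 q14845 (flp_h L662916) q12580, e3 q14846 (flp_h L685331) q17043, e3 q14847 L685715 q17092, trivial⟩ (by decide +kernel)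

theorem ce_h_232 : ∀ r, r < 64 → sm gh (Qf (14848 + r)) = Qf (tab Gen.h (14848 + r)) :=
  edges_tab (sm gh) Qf (tab Gen.h) 14848 [(14848, 12582), (14849, 17094), (14850, 12990), (14851, 17097), (14852, 12586), (14853, 17047), (14854, 17101), (14855, 12588), (14856, 12623), (14857, 17050), (14858, 17105), (14859, 12591), (14860, 12602), (14861, 14861), (14862, 17110), (14863, 12594), (14864, 14864), (14865, 17113), (14866, 12597), (14867, 17093), (14868, 17116), (14869, 12600), (14870, 17106), (14871, 17107), (14872, 12603), (14873, 12695), (14874, 12696), (14875, 17124), (14876, 12698), (14877, 12699), (14878, 17130), (14879, 17131), (14880, 12609), (14881, 12703), (14882, 12704), (14883, 17136), (14884, 17137), (14885, 17139), (14886, 12612), (14887, 12613), (14888, 12710), (14889, 17143), (14890, 12616), (14891, 17145), (14892, 12619), (14893, 17089), (14894, 12621), (14895, 17098), (14896, 17103), (14897, 12701), (14898, 12630), (14899, 12629), (14900, 12626), (14901, 12719), (14902, 12697), (14903, 17123), (14904, 12689),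 (14905, 17150), (14906, 12663), (14907, 13487), (14908, 12634), (14909, 13354), (14910, 16386), (14911, 16842)]
    ⟨e3 q14848 (flp_h L662934) q12582, e3 q14849 L685725 q17094, e3 q14850 L662959 q12990, e3 q14851 L685759 q17097, e3 q14852 (flp_h L662971) q12586, e3 q14853 (flp_h L685371) q17047, e3 q14854 L685794 q17101, e3 q14855 (flp_h L662995) q12588, e3 q14856 L663013 q12623, e3 q14857 (flp_h L685404) q17050, e3 q14858 L685827 q17105, e3 q14859 (flp_h L663030) q12591, e3 q14860 L663040 q12602, e3 q14861 L663045 q14861, e3 q14862 L685858 q17110, e3 q14863 (flp_h L663054) q12594, e3 q14864 L663068 q14864, e3 q14865 L685879 q17113, e3 q14866 (flp_h L663076) q12597, e3 q14867 (flp_h L685723) q17093, e3 q14868 L685898 q17116, e3 q14869 (flp_h L663095) q12600, e3 q14870 (flp_h L685838) q17106, e3 q14871 (flp_h L685843) q17107, e3 q14872 (flp_h L663114) q12603, e3 q14873 L663132 q12695, e3 q14874 L663142 q12696, e3 q14875 L685982 q17124, e3 q14876 L663163 q12698, e3 q14877 L663173 q12699, e3 q14878 L686054 q17130, e3 q14879 L686066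 q17131, e3 q14880 (flp_h L663193) q12609, e3 q14881 L663215 q12703, e3 q14882 L663225 q12704, e3 q14883 L686124 q17136, e3 q14884 L686138 q17137, e3 q14885 L686152 q17139, e3 q14886 (flp_h L663252) q12612, e3 q14887 (flp_h L663264) q12613, e3 q14888 L663285 q12710, e3 q14889 L686204 q17143, e3 q14890 (flp_h L663299) q12616, e3 q14891 L686227 q17145, e3 q14892 (flp_h L663320) q12619, e3 q14893 (flp_h L685699) q17089, e3 q14894 (flp_h L663341) q12621, e3 q14895 (flp_h L685775) q17098, e3 q14896 (flp_h L685814) q17103, e3 q14897 L663383 q12701, e3 q14898 L663399 q12630, e3 q14899 L663414 q12629, e3 q14900 (flp_h L663416) q12626, e3 q14901 L663440 q12719, e3 q14902 L663455 q12697, e3 q14903 (flp_h L685980) q17123, e3 q14904 L663477 q12689, e3 q14905 L686288 q17150, e3 q14906 L663504 q12663, e3 q14907 L663515 q13487, e3 q14908 (flp_h L663517) q12634, e3 q14909 L663543 q13354, e3 q14910 (flp_h L678252) q16386, e3 q14911 (flp_h L683204) q16842, trivial⟩ (by decide +kernel)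

theorem ce_h_233 : ∀ r, r < 64 → sm gh (Qf (14912 + r)) = Qf (tab Gen.h (14912 + r)) :=
  edges_tab (sm gh) Qf (tab Gen.h) 14912 [(14912, 17153), (14913, 12640), (14914, 16389), (14915, 12642), (14916, 16391), (14917, 16392), (14918, 17155), (14919, 12648), (14920, 14920), (14921, 12676), (14922, 12650), (14923, 12679), (14924, 12661), (14925, 14925), (14926, 13348), (14927, 13344), (14928, 17004), (14929, 17005), (14930, 17007), (14931, 17010), (14932, 17011), (14933, 17164), (14934, 12673), (14935, 14935), (14936, 17156), (14937, 14937), (14938, 14938), (14939, 17172), (14940, 17158), (14941, 12690), (14942, 13405), (14943, 12691), (14944, 12692), (14945, 13408), (14946, 13409), (14947, 12693), (14948, 13411), (14949, 12694), (14950, 13413), (14951, 13414), (14952, 17132), (14953, 17173), (14954, 17175), (14955, 17176), (14956, 17182), (14957, 17120), (14958, 17121), (14959, 17126), (14960, 17125), (14961, 17183), (14962, 12700), (14963, 17185), (14964, 12705), (14965, 12706), (14966, 17188), (14967, 12707), (14968, 13390),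 (14969, 14969), (14970, 17192), (14971, 12711), (14972, 13393), (14973, 12713), (14974, 13395), (14975, 12883)]
    ⟨e3 q14912 L686330 q17153, e3 q14913 (flp_h L663575) q12640, e3 q14914 (flp_h L678279) q16389, e3 q14915 (flp_h L663593) q12642, e3 q14916 (flp_h L678296) q16391, e3 q14917 (flp_h L678303) q16392, e3 q14918 L686350 q17155, e3 q14919 (flp_h L663633) q12648, e3 q14920 L663653 q14920, e3 q14921 L663664 q12676, e3 q14922 (flp_h L663666) q12650, e3 q14923 L663689 q12679, e3 q14924 (flp_h L663691) q12661, e3 q14925 L663719 q14925, e3 q14926 L663731 q13348, e3 q14927 L663745 q13344, e3 q14928 (flp_h L684941) q17004, e3 q14929 (flp_h L684954) q17005, e3 q14930 (flp_h L684982) q17007, e3 q14931 (flp_h L685020) q17010, e3 q14932 (flp_h L685033) q17011, e3 q14933 L686483 q17164, e3 q14934 (flp_h L663836) q12673, e3 q14935 L663859 q14935, e3 q14936 (flp_h L686375) q17156, e3 q14937 L663873 q14937, e3 q14938 L663883 q14938, e3 q14939 L686574 q17172, e3 q14940 (flp_h L686401) q17158, e3 q14941 L663914 q12690, e3 q14942 L663929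 q13405, e3 q14943 L663937 q12691, e3 q14944 L663950 q12692, e3 q14945 L663964 q13408, e3 q14946 L663979 q13409, e3 q14947 L663988 q12693, e3 q14948 L664004 q13411, e3 q14949 L664015 q12694, e3 q14950 L664028 q13413, e3 q14951 L664042 q13414, e3 q14952 (flp_h L686091) q17132, e3 q14953 (flp_h L686589) q17173, e3 q14954 (flp_h L686617) q17175, e3 q14955 (flp_h L686634) q17176, e3 q14956 L686704 q17182, e3 q14957 (flp_h L685937) q17120, e3 q14958 (flp_h L685955) q17121, e3 q14959 (flp_h L686027) q17126, e3 q14960 (flp_h L686009) q17125, e3 q14961 L686717 q17183, e3 q14962 (flp_h L664199) q12700, e3 q14963 L686743 q17185, e3 q14964 (flp_h L664225) q12705, e3 q14965 (flp_h L664237) q12706, e3 q14966 L686773 q17188, e3 q14967 (flp_h L664257) q12707, e3 q14968 L664280 q13390, e3 q14969 L664293 q14969, e3 q14970 L686816 q17192, e3 q14971 (flp_h L664308) q12711, e3 q14972 L664327 q13393, e3 q14973 (flp_h L664329) q12713, e3 q14974 L664346 q13395, e3 q14975 L664356 q12883, trivial⟩ (by decide +kernel)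

theorem ce_h_234 : ∀ r, r < 64 → sm gh (Qf (14976 + r)) = Qf (tab Gen.h (14976 + r)) :=
  edges_tab (sm gh) Qf (tab Gen.h) 14976 [(14976, 12720), (14977, 14977), (14978, 12724), (14979, 14979), (14980, 12732), (14981, 12741), (14982, 12757), (14983, 17197), (14984, 13058), (14985, 12765), (14986, 13072), (14987, 17200), (14988, 13065), (14989, 12754), (14990, 13577), (14991, 17201), (14992, 13097), (14993, 12773), (14994, 13095), (14995, 17204), (14996, 16035), (14997, 13092), (14998, 17209), (14999, 13089), (15000, 17211), (15001, 12763), (15002, 16036), (15003, 13612), (15004, 13574), (15005, 13613), (15006, 16034), (15007, 13090), (15008, 13080), (15009, 12776), (15010, 12782), (15011, 12814), (15012, 12784), (15013, 17216), (15014, 17212), (15015, 12820), (15016, 17219), (15017, 17220), (15018, 12785), (15019, 12788), (15020, 12790), (15021, 13159), (15022, 12833), (15023, 17225), (15024, 16131), (15025, 13251), (15026, 13197), (15027, 17230), (15028, 17231), (15029, 12799), (15030, 13126), (15031, 13171), (15032, 12804),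 (15033, 13797), (15034, 13636), (15035, 17233), (15036, 13634), (15037, 12810), (15038, 12819), (15039, 17213)]
    ⟨e3 q14976 (flp_h L664359) q12720, e3 q14977 L664380 q14977, e3 q14978 (flp_h L664381) q12724, e3 q14979 L664397 q14979, e3 q14980 L664412 q12732, e3 q14981 L664426 q12741, e3 q14982 L664442 q12757, e3 q14983 L686872 q17197, e3 q14984 L664468 q13058, e3 q14985 L664483 q12765, e3 q14986 L664495 q13072, e3 q14987 L686912 q17200, e3 q14988 L664520 q13065, e3 q14989 L664536 q12754, e3 q14990 L664552 q13577, e3 q14991 L686920 q17201, e3 q14992 L664574 q13097, e3 q14993 L664587 q12773, e3 q14994 L664597 q13095, e3 q14995 L686954 q17204, e3 q14996 (flp_h L673815) q16035, e3 q14997 L664631 q13092, e3 q14998 L687015 q17209, e3 q14999 L664650 q13089, e3 q15000 L687031 q17211, e3 q15001 (flp_h L664664) q12763, e3 q15002 (flp_h L673834) q16036, e3 q15003 L664687 q13612, e3 q15004 L664703 q13574, e3 q15005 L664712 q13613, e3 q15006 (flp_h L673799) q16034, e3 q15007 L664734 q13090, e3 q15008 L664748 q13080, e3 q15009 (flp_h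 L664750) q12776, e3 q15010 L664776 q12782, e3 q15011 L664792 q12814, e3 q15012 L664800 q12784, e3 q15013 L687097 q17216, e3 q15014 (flp_h L687053) q17212, e3 q15015 L664832 q12820, e3 q15016 L687129 q17219, e3 q15017 L687141 q17220, e3 q15018 (flp_h L664856) q12785, e3 q15019 (flp_h L664866) q12788, e3 q15020 (flp_h L664874) q12790, e3 q15021 L664899 q13159, e3 q15022 L664914 q12833, e3 q15023 L687200 q17225, e3 q15024 (flp_h L675215) q16131, e3 q15025 L664942 q13251, e3 q15026 L664954 q13197, e3 q15027 L687250 q17230, e3 q15028 L687258 q17231, e3 q15029 (flp_h L664976) q12799, e3 q15030 L664991 q13126, e3 q15031 L665008 q13171, e3 q15032 (flp_h L665010) q12804, e3 q15033 L665036 q13797, e3 q15034 L665051 q13636, e3 q15035 (flp_h L687298) q17233, e3 q15036 L665078 q13634, e3 q15037 (flp_h L665080) q12810, e3 q15038 L665102 q12819, e3 q15039 (flp_h L687069) q17213, trivial⟩ (by decide +kernel)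

theorem ce_h_235 : ∀ r, r < 64 → sm gh (Qf (15040 + r)) = Qf (tab Gen.h (15040 + r)) :=
  edges_tab (sm gh) Qf (tab Gen.h) 15040 [(15040, 17237), (15041, 12829), (15042, 17240), (15043, 12816), (15044, 12817), (15045, 13238), (15046, 16155), (15047, 16107), (15048, 17235), (15049, 17251), (15050, 13236), (15051, 17254), (15052, 16100), (15053, 13233), (15054, 17259), (15055, 13228), (15056, 17262), (15057, 12825), (15058, 16102), (15059, 17264), (15060, 16110), (15061, 17267), (15062, 12828), (15063, 17238), (15064, 17271), (15065, 12830), (15066, 13216), (15067, 17223), (15068, 13758), (15069, 16101), (15070, 13618), (15071, 12843), (15072, 16065), (15073, 16087), (15074, 13155), (15075, 12877), (15076, 17242), (15077, 13007), (15078, 16097), (15079, 16089), (15080, 17279), (15081, 12847), (15082, 12849), (15083, 17268), (15084, 13139), (15085, 13256), (15086, 16426), (15087, 16094), (15088, 17283), (15089, 12859), (15090, 12861), (15091, 13294), (15092, 13295), (15093, 15093), (15094, 17285), (15095, 12865), (15096, 17287),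 (15097, 12868), (15098, 15098), (15099, 12870), (15100, 12871), (15101, 12879), (15102, 12963), (15103, 12881)]
    ⟨e3 q15040 L687339 q17237, e3 q15041 L665136 q12829, e3 q15042 L687371 q17240, e3 q15043 (flp_h L665150) q12816, e3 q15044 (flp_h L665156) q12817, e3 q15045 L665176 q13238, e3 q15046 (flp_h L675515) q16155, e3 q15047 (flp_h L674875) q16107, e3 q15048 (flp_h L687323) q17235, e3 q15049 L687481 q17251, e3 q15050 L665218 q13236, e3 q15051 L687513 q17254, e3 q15052 (flp_h L674764) q16100, e3 q15053 L665250 q13233, e3 q15054 L687568 q17259, e3 q15055 L665269 q13228, e3 q15056 L687594 q17262, e3 q15057 (flp_h L665283) q12825, e3 q15058 (flp_h L674795) q16102, e3 q15059 L687615 q17264, e3 q15060 (flp_h L674919) q16110, e3 q15061 L687633 q17267, e3 q15062 (flp_h L665316) q12828, e3 q15063 (flp_h L687357) q17238, e3 q15064 L687661 q17271, e3 q15065 (flp_h L665334) q12830, e3 q15066 L665347 q13216, e3 q15067 (flp_h L687184) q17223, e3 q15068 L665369 q13758, e3 q15069 (flp_h L674781) q16101, e3 q15070 L665391 q13618, e3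 q15071 L665403 q12843, e3 q15072 L674287 q16065, e3 q15073 (flp_h L674574) q16087, e3 q15074 L665427 q13155, e3 q15075 L665443 q12877, e3 q15076 (flp_h L687405) q17242, e3 q15077 L665465 q13007, e3 q15078 (flp_h L674712) q16097, e3 q15079 (flp_h L674600) q16089, e3 q15080 L687748 q17279, e3 q15081 (flp_h L665490) q12847, e3 q15082 (flp_h L665499) q12849, e3 q15083 (flp_h L687645) q17268, e3 q15084 L665528 q13139, e3 q15085 L665543 q13256, e3 q15086 L678805 q16426, e3 q15087 (flp_h L674670) q16094, e3 q15088 L687792 q17283, e3 q15089 (flp_h L665572) q12859, e3 q15090 (flp_h L665583) q12861, e3 q15091 L665605 q13294, e3 q15092 L665612 q13295, e3 q15093 L665628 q15093, e3 q15094 L687816 q17285, e3 q15095 (flp_h L665641) q12865, e3 q15096 L687839 q17287, e3 q15097 (flp_h L665663) q12868, e3 q15098 L665681 q15098, e3 q15099 (flp_h L665682) q12870, e3 q15100 (flp_h L665695) q12871, e3 q15101 L665716 q12879, e3 q15102 L665727 q12963, e3 q15103 L665740 q12881, trivial⟩ (by decide +kernel)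

theorem ce_h_236 : ∀ r, r < 64 → sm gh (Qf (15104 + r)) = Qf (tab Gen.h (15104 + r)) :=
  edges_tab (sm gh) Qf (tab Gen.h) 15104 [(15104, 12965), (15105, 17297), (15106, 12876), (15107, 17292), (15108, 12977), (15109, 17195), (15110, 17294), (15111, 17304), (15112, 17194), (15113, 17307), (15114, 16859), (15115, 17310), (15116, 12884), (15117, 12993), (15118, 17312), (15119, 12886), (15120, 15120), (15121, 17316), (15122, 12890), (15123, 15123), (15124, 17319), (15125, 12892), (15126, 15126), (15127, 17321), (15128, 12894), (15129, 17323), (15130, 12897), (15131, 17313), (15132, 15132), (15133, 17327), (15134, 12900), (15135, 15135), (15136, 17330), (15137, 12903), (15138, 17331), (15139, 12906), (15140, 13370), (15141, 12908), (15142, 13372), (15143, 13373), (15144, 12911), (15145, 13764), (15146, 12914), (15147, 16910), (15148, 13002), (15149, 13771), (15150, 13000), (15151, 17339), (15152, 12919), (15153, 12929), (15154, 13779), (15155, 12931), (15156, 13763), (15157, 12933), (15158, 17346), (15159, 17347), (15160, 12926),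 (15161, 12927), (15162, 17290), (15163, 13482), (15164, 17340), (15165, 17341), (15166, 17358), (15167, 17343)]
    ⟨e3 q15104 L665754 q12965, e3 q15105 L687957 q17297, e3 q15106 (flp_h L665768) q12876, e3 q15107 (flp_h L687907) q17292, e3 q15108 L665803 q12977, e3 q15109 (flp_h L686856) q17195, e3 q15110 (flp_h L687930) q17294, e3 q15111 L688029 q17304, e3 q15112 (flp_h L686846) q17194, e3 q15113 L688063 q17307, e3 q15114 (flp_h L683419) q16859, e3 q15115 L688102 q17310, e3 q15116 (flp_h L665877) q12884, e3 q15117 L665900 q12993, e3 q15118 L688127 q17312, e3 q15119 (flp_h L665915) q12886, e3 q15120 L665928 q15120, e3 q15121 L688164 q17316, e3 q15122 (flp_h L665939) q12890, e3 q15123 L665957 q15123, e3 q15124 L688196 q17319, e3 q15125 (flp_h L665971) q12892, e3 q15126 L665993 q15126, e3 q15127 L688220 q17321, e3 q15128 (flp_h L666006) q12894, e3 q15129 L688240 q17323, e3 q15130 (flp_h L666028) q12897, e3 q15131 (flp_h L688143) q17313, e3 q15132 L666054 q15132, e3 q15133 L688279 q17327, e3 q15134 (flp_h L666064) q12900, e3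 q15135 L666079 q15135, e3 q15136 L688310 q17330, e3 q15137 (flp_h L666090) q12903, e3 q15138 L688320 q17331, e3 q15139 (flp_h L666110) q12906, e3 q15140 L666127 q13370, e3 q15141 (flp_h L666131) q12908, e3 q15142 L666144 q13372, e3 q15143 L666154 q13373, e3 q15144 (flp_h L666157) q12911, e3 q15145 L666185 q13764, e3 q15146 (flp_h L666187) q12914, e3 q15147 (flp_h L683964) q16910, e3 q15148 L666217 q13002, e3 q15149 L666230 q13771, e3 q15150 L666244 q13000, e3 q15151 L688415 q17339, e3 q15152 (flp_h L666258) q12919, e3 q15153 L666275 q12929, e3 q15154 L666284 q13779, e3 q15155 L666297 q12931, e3 q15156 L666311 q13763, e3 q15157 L666319 q12933, e3 q15158 L688484 q17346, e3 q15159 L688494 q17347, e3 q15160 (flp_h L666338) q12926, e3 q15161 (flp_h L666347) q12927, e3 q15162 (flp_h L687880) q17290, e3 q15163 L666374 q13482, e3 q15164 (flp_h L688433) q17340, e3 q15165 (flp_h L688440) q17341, e3 q15166 L688585 q17358, e3 q15167 (flp_h L688459) q17343, trivial⟩ (by decide +kernel)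

theorem ce_h_237 : ∀ r, r < 64 → sm gh (Qf (15168 + r)) = Qf (tab Gen.h (15168 + r)) :=
  edges_tab (sm gh) Qf (tab Gen.h) 15168 [(15168, 13774), (15169, 17364), (15170, 16180), (15171, 16179), (15172, 17368), (15173, 16899), (15174, 17370), (15175, 12935), (15176, 17371), (15177, 17372), (15178, 12938), (15179, 12939), (15180, 13187), (15181, 13338), (15182, 13339), (15183, 15183), (15184, 13748), (15185, 15185), (15186, 15186), (15187, 17381), (15188, 15188), (15189, 15189), (15190, 17387), (15191, 17388), (15192, 12950), (15193, 15193), (15194, 17391), (15195, 12952), (15196, 15196), (15197, 17393), (15198, 12954), (15199, 17395), (15200, 12957), (15201, 17373), (15202, 13457), (15203, 17291), (15204, 12960), (15205, 12976), (15206, 17293), (15207, 12978), (15208, 12979), (15209, 17411), (15210, 12981), (15211, 17414), (15212, 12984), (15213, 12985), (15214, 17419), (15215, 12987), (15216, 17422), (15217, 12968), (15218, 12991), (15219, 17424), (15220, 17425), (15221, 12971), (15222, 12996), (15223, 17429), (15224, 12973),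 (15225, 17401), (15226, 17277), (15227, 17403), (15228, 17404), (15229, 17438), (15230, 17406), (15231, 17407)]
    ⟨e3 q15168 L666414 q13774, e3 q15169 L688648 q17364, e3 q15170 (flp_h L675826) q16180, e3 q15171 (flp_h L675808) q16179, e3 q15172 L688683 q17368, e3 q15173 (flp_h L683853) q16899, e3 q15174 L688701 q17370, e3 q15175 (flp_h L666472) q12935, e3 q15176 L688713 q17371, e3 q15177 L688720 q17372, e3 q15178 (flp_h L666499) q12938, e3 q15179 (flp_h L666506) q12939, e3 q15180 L666526 q13187, e3 q15181 L666542 q13338, e3 q15182 L666553 q13339, e3 q15183 L666567 q15183, e3 q15184 L666576 q13748, e3 q15185 L666586 q15185, e3 q15186 L666596 q15186, e3 q15187 L688823 q17381, e3 q15188 L666617 q15188, e3 q15189 L666627 q15189, e3 q15190 L688883 q17387, e3 q15191 L688892 q17388, e3 q15192 (flp_h L666649) q12950, e3 q15193 L666665 q15193, e3 q15194 L688922 q17391, e3 q15195 (flp_h L666677) q12952, e3 q15196 L666695 q15196, e3 q15197 L688943 q17393, e3 q15198 (flp_h L666706) q12954, e3 q15199 L688961 q17395, e3 q15200 (flp_h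 L666727) q12957, e3 q15201 (flp_h L688736) q17373, e3 q15202 L666753 q13457, e3 q15203 (flp_h L687895) q17291, e3 q15204 (flp_h L666766) q12960, e3 q15205 L666784 q12976, e3 q15206 (flp_h L687922) q17293, e3 q15207 L666801 q12978, e3 q15208 L666808 q12979, e3 q15209 L689111 q17411, e3 q15210 L666825 q12981, e3 q15211 L689141 q17414, e3 q15212 L666844 q12984, e3 q15213 L666856 q12985, e3 q15214 L689199 q17419, e3 q15215 L666875 q12987, e3 q15216 L689229 q17422, e3 q15217 (flp_h L666889) q12968, e3 q15218 L666906 q12991, e3 q15219 L689256 q17424, e3 q15220 L689265 q17425, e3 q15221 (flp_h L666927) q12971, e3 q15222 L666942 q12996, e3 q15223 L689301 q17429, e3 q15224 (flp_h L666955) q12973, e3 q15225 (flp_h L689028) q17401, e3 q15226 (flp_h L687737) q17277, e3 q15227 (flp_h L689046) q17403, e3 q15228 (flp_h L689055) q17404, e3 q15229 L689380 q17438, e3 q15230 (flp_h L689076) q17406, e3 q15231 (flp_h L689084) q17407, trivial⟩ (by decide +kernel)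

theorem ce_h_238 : ∀ r, r < 64 → sm gh (Qf (15232 + r)) = Qf (tab Gen.h (15232 + r)) :=
  edges_tab (sm gh) Qf (tab Gen.h) 15232 [(15232, 17445), (15233, 17409), (15234, 17448), (15235, 12980), (15236, 17412), (15237, 13776), (15238, 17454), (15239, 13417), (15240, 17456), (15241, 12983), (15242, 17095), (15243, 17415), (15244, 17461), (15245, 17417), (15246, 17464), (15247, 12986), (15248, 17420), (15249, 17468), (15250, 12988), (15251, 13471), (15252, 17470), (15253, 13469), (15254, 17473), (15255, 12992), (15256, 17308), (15257, 17477), (15258, 12994), (15259, 13024), (15260, 17427), (15261, 17481), (15262, 12997), (15263, 17335), (15264, 13765), (15265, 16232), (15266, 16234), (15267, 15267), (15268, 17484), (15269, 15269), (15270, 15270), (15271, 17488), (15272, 17489), (15273, 13010), (15274, 15274), (15275, 15275), (15276, 17493), (15277, 17494), (15278, 17496), (15279, 13013), (15280, 13014), (15281, 15281), (15282, 17499), (15283, 13017), (15284, 17501), (15285, 13020), (15286, 17465), (15287, 13022), (15288, 17474),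 (15289, 17479), (15290, 13025), (15291, 17504), (15292, 17505), (15293, 13028), (15294, 13029), (15295, 17506)]
    ⟨e3 q15232 L689428 q17445, e3 q15233 (flp_h L689101) q17409, e3 q15234 L689448 q17448, e3 q15235 (flp_h L667036) q12980, e3 q15236 (flp_h L689127) q17412, e3 q15237 L667058 q13776, e3 q15238 L689505 q17454, e3 q15239 L667078 q13417, e3 q15240 L689522 q17456, e3 q15241 (flp_h L667091) q12983, e3 q15242 (flp_h L685743) q17095, e3 q15243 (flp_h L689164) q17415, e3 q15244 L689574 q17461, e3 q15245 (flp_h L689185) q17417, e3 q15246 L689596 q17464, e3 q15247 (flp_h L667139) q12986, e3 q15248 (flp_h L689215) q17420, e3 q15249 L689628 q17468, e3 q15250 (flp_h L667161) q12988, e3 q15251 L667178 q13471, e3 q15252 L689648 q17470, e3 q15253 L667202 q13469, e3 q15254 L689682 q17473, e3 q15255 (flp_h L667216) q12992, e3 q15256 (flp_h L688086) q17308, e3 q15257 L689711 q17477, e3 q15258 (flp_h L667236) q12994, e3 q15259 L667246 q13024, e3 q15260 (flp_h L689288) q17427, e3 q15261 L689736 q17481, e3 q15262 (flp_h L667263) q12997,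 e3 q15263 (flp_h L688382) q17335, e3 q15264 L667288 q13765, e3 q15265 (flp_h L676498) q16232, e3 q15266 (flp_h L676523) q16234, e3 q15267 L667314 q15267, e3 q15268 L689758 q17484, e3 q15269 L667330 q15269, e3 q15270 L667339 q15270, e3 q15271 L689792 q17488, e3 q15272 L689801 q17489, e3 q15273 (flp_h L667358) q13010, e3 q15274 L667373 q15274, e3 q15275 L667380 q15275, e3 q15276 L689833 q17493, e3 q15277 L689842 q17494, e3 q15278 L689851 q17496, e3 q15279 (flp_h L667400) q13013, e3 q15280 (flp_h L667407) q13014, e3 q15281 L667423 q15281, e3 q15282 L689874 q17499, e3 q15283 (flp_h L667434) q13017, e3 q15284 L689891 q17501, e3 q15285 (flp_h L667452) q13020, e3 q15286 (flp_h L689608) q17465, e3 q15287 (flp_h L667467) q13022, e3 q15288 (flp_h L689696) q17474, e3 q15289 (flp_h L689725) q17479, e3 q15290 (flp_h L667487) q13025, e3 q15291 L689914 q17504, e3 q15292 L689925 q17505, e3 q15293 (flp_h L667518) q13028, e3 q15294 (flp_h L667530) q13029, e3 q15295 L689938 q17506, trivial⟩ (by decide +kernel)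

theorem ce_h_239 : ∀ r, r < 64 → sm gh (Qf (15296 + r)) = Qf (tab Gen.h (15296 + r)) :=
  edges_tab (sm gh) Qf (tab Gen.h) 15296 [(15296, 17507), (15297, 13033), (15298, 13357), (15299, 13035), (15300, 13278), (15301, 17509), (15302, 13039), (15303, 13041), (15304, 13512), (15305, 13049), (15306, 13069), (15307, 13061), (15308, 13073), (15309, 16515), (15310, 17513), (15311, 15311), (15312, 17515), (15313, 13054), (15314, 13060), (15315, 17517), (15316, 17518), (15317, 16514), (15318, 17520), (15319, 17521), (15320, 13062), (15321, 13066), (15322, 13074), (15323, 17524), (15324, 16407), (15325, 16460), (15326, 13186), (15327, 17526), (15328, 17527), (15329, 13075), (15330, 13077), (15331, 17528), (15332, 13082), (15333, 13083), (15334, 13094), (15335, 17531), (15336, 13086), (15337, 13087), (15338, 17207), (15339, 16049), (15340, 17534), (15341, 17205), (15342, 17536), (15343, 13093), (15344, 16463), (15345, 16438), (15346, 17539), (15347, 16024), (15348, 17541), (15349, 13096), (15350, 16026), (15351, 17544), (15352, 13098),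 (15353, 13615), (15354, 13576), (15355, 17545), (15356, 17546), (15357, 13108), (15358, 17547), (15359, 13111)]
    ⟨e3 q15296 L689946 q17507, e3 q15297 (flp_h L667555) q13033, e3 q15298 L667576 q13357, e3 q15299 (flp_h L667578) q13035, e3 q15300 L667595 q13278, e3 q15301 L689967 q17509, e3 q15302 (flp_h L667610) q13039, e3 q15303 (flp_h L667621) q13041, e3 q15304 L667639 q13512, e3 q15305 L667655 q13049, e3 q15306 L667670 q13069, e3 q15307 L667684 q13061, e3 q15308 L667700 q13073, e3 q15309 (flp_h L679841) q16515, e3 q15310 L690017 q17513, e3 q15311 L667723 q15311, e3 q15312 L690033 q17515, e3 q15313 (flp_h L667734) q13054, e3 q15314 L667749 q13060, e3 q15315 L690050 q17517, e3 q15316 L690058 q17518, e3 q15317 (flp_h L679825) q16514, e3 q15318 L690073 q17520, e3 q15319 L690079 q17521, e3 q15320 (flp_h L667789) q13062, e3 q15321 (flp_h L667795) q13066, e3 q15322 L667809 q13074, e3 q15323 L690103 q17524, e3 q15324 (flp_h L678531) q16407, e3 q15325 (flp_h L679236) q16460, e3 q15326 L667849 q13186, e3 q15327 L690119 q17526, e3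 q15328 L690125 q17527, e3 q15329 (flp_h L667869) q13075, e3 q15330 (flp_h L667875) q13077, e3 q15331 L690133 q17528, e3 q15332 (flp_h L667894) q13082, e3 q15333 (flp_h L667904) q13083, e3 q15334 L667920 q13094, e3 q15335 L690159 q17531, e3 q15336 (flp_h L667929) q13086, e3 q15337 (flp_h L667935) q13087, e3 q15338 (flp_h L687000) q17207, e3 q15339 (flp_h L674049) q16049, e3 q15340 L690180 q17534, e3 q15341 (flp_h L686976) q17205, e3 q15342 L690192 q17536, e3 q15343 (flp_h L667975) q13093, e3 q15344 (flp_h L679271) q16463, e3 q15345 (flp_h L678953) q16438, e3 q15346 L690216 q17539, e3 q15347 (flp_h L673648) q16024, e3 q15348 L690232 q17541, e3 q15349 (flp_h L668019) q13096, e3 q15350 (flp_h L673678) q16026, e3 q15351 L690254 q17544, e3 q15352 (flp_h L668037) q13098, e3 q15353 L668049 q13615, e3 q15354 L668065 q13576, e3 q15355 L690260 q17545, e3 q15356 L690269 q17546, e3 q15357 (flp_h L668082) q13108, e3 q15358 L690282 q17547, e3 q15359 (flp_h L668103) q13111, trivial⟩ (by decide +kernel)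

theorem ce_h_240 : ∀ r, r < 64 → sm gh (Qf (15360 + r)) = Qf (tab Gen.h (15360 + r)) :=
  edges_tab (sm gh) Qf (tab Gen.h) 15360 [(15360, 17549), (15361, 13114), (15362, 17542), (15363, 13117), (15364, 16673), (15365, 17552), (15366, 13122), (15367, 13124), (15368, 13127), (15369, 13134), (15370, 13190), (15371, 17556), (15372, 13131), (15373, 17553), (15374, 13196), (15375, 13162), (15376, 13198), (15377, 16789), (15378, 17564), (15379, 17565), (15380, 13137), (15381, 13206), (15382, 15382), (15383, 17568), (15384, 15384), (15385, 17570), (15386, 13145), (15387, 15387), (15388, 17572), (15389, 13147), (15390, 13157), (15391, 13218), (15392, 13161), (15393, 17578), (15394, 13164), (15395, 17580), (15396, 17581), (15397, 13154), (15398, 17222), (15399, 13229), (15400, 17574), (15401, 17575), (15402, 17588), (15403, 17589), (15404, 16788), (15405, 17592), (15406, 17557), (15407, 17594), (15408, 13163), (15409, 16720), (15410, 16719), (15411, 17597), (15412, 17598), (15413, 13166), (15414, 13167), (15415, 17232), (15416, 15416),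 (15417, 17602), (15418, 17603), (15419, 13175), (15420, 13176), (15421, 17605), (15422, 13179), (15423, 17599)]
    ⟨e3 q15360 L690298 q17549, e3 q15361 (flp_h L668122) q13114, e3 q15362 (flp_h L690244) q17542, e3 q15363 (flp_h L668138) q13117, e3 q15364 (flp_h L681618) q16673, e3 q15365 L690323 q17552, e3 q15366 (flp_h L668169) q13122, e3 q15367 (flp_h L668178) q13124, e3 q15368 (flp_h L668188) q13127, e3 q15369 L668213 q13134, e3 q15370 L668228 q13190, e3 q15371 L690374 q17556, e3 q15372 (flp_h L668236) q13131, e3 q15373 (flp_h L690343) q17553, e3 q15374 L668266 q13196, e3 q15375 L668280 q13162, e3 q15376 L668296 q13198, e3 q15377 (flp_h L682729) q16789, e3 q15378 L690456 q17564, e3 q15379 L690464 q17565, e3 q15380 (flp_h L668322) q13137, e3 q15381 L668339 q13206, e3 q15382 L668347 q15382, e3 q15383 L690484 q17568, e3 q15384 L668362 q15384, e3 q15385 L690502 q17570, e3 q15386 (flp_h L668373) q13145, e3 q15387 L668388 q15387, e3 q15388 L690524 q17572, e3 q15389 (flp_h L668397) q13147, e3 q15390 L668409 q13157, e3 q15391 L668416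 q13218, e3 q15392 L668422 q13161, e3 q15393 L690566 q17578, e3 q15394 L668434 q13164, e3 q15395 L690579 q17580, e3 q15396 L690585 q17581, e3 q15397 (flp_h L668449) q13154, e3 q15398 (flp_h L687169) q17222, e3 q15399 L668471 q13229, e3 q15400 (flp_h L690546) q17574, e3 q15401 (flp_h L690551) q17575, e3 q15402 L690633 q17588, e3 q15403 L690639 q17589, e3 q15404 (flp_h L682713) q16788, e3 q15405 L690659 q17592, e3 q15406 (flp_h L690392) q17557, e3 q15407 L690673 q17594, e3 q15408 (flp_h L668526) q13163, e3 q15409 (flp_h L682086) q16720, e3 q15410 (flp_h L682074) q16719, e3 q15411 L690696 q17597, e3 q15412 L690700 q17598, e3 q15413 (flp_h L668556) q13166, e3 q15414 (flp_h L668560) q13167, e3 q15415 (flp_h L687281) q17232, e3 q15416 L668579 q15416, e3 q15417 L690724 q17602, e3 q15418 L690731 q17603, e3 q15419 (flp_h L668596) q13175, e3 q15420 (flp_h L668605) q13176, e3 q15421 L690746 q17605, e3 q15422 (flp_h L668620) q13179, e3 q15423 (flp_h L690710) q17599, trivial⟩ (by decide +kernel)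

theorem ce_h_241 : ∀ r, r < 64 → sm gh (Qf (15424 + r)) = Qf (tab Gen.h (15424 + r)) :=
  edges_tab (sm gh) Qf (tab Gen.h) 15424 [(15424, 13181), (15425, 13183), (15426, 16453), (15427, 16401), (15428, 13195), (15429, 17554), (15430, 13199), (15431, 17612), (15432, 13201), (15433, 17614), (15434, 13192), (15435, 13193), (15436, 17228), (15437, 17558), (15438, 17608), (15439, 17609), (15440, 17622), (15441, 17623), (15442, 17624), (15443, 13200), (15444, 16686), (15445, 17626), (15446, 13202), (15447, 15447), (15448, 17281), (15449, 17629), (15450, 17630), (15451, 17631), (15452, 13209), (15453, 13210), (15454, 13211), (15455, 17633), (15456, 13214), (15457, 17627), (15458, 13230), (15459, 13231), (15460, 17640), (15461, 13235), (15462, 17642), (15463, 13220), (15464, 13242), (15465, 17644), (15466, 13244), (15467, 17645), (15468, 13223), (15469, 13247), (15470, 13225), (15471, 17260), (15472, 17275), (15473, 17257), (15474, 17249), (15475, 17654), (15476, 17636), (15477, 17637), (15478, 17661), (15479, 17244), (15480, 17664),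 (15481, 13232), (15482, 17255), (15483, 17666), (15484, 13234), (15485, 16684), (15486, 17252), (15487, 17670)]
    ⟨e3 q15424 (flp_h L668633) q13181, e3 q15425 (flp_h L668640) q13183, e3 q15426 L679147 q16453, e3 q15427 L678445 q16401, e3 q15428 L668665 q13195, e3 q15429 (flp_h L690358) q17554, e3 q15430 L668680 q13199, e3 q15431 L690801 q17612, e3 q15432 L668694 q13201, e3 q15433 L690814 q17614, e3 q15434 (flp_h L668703) q13192, e3 q15435 (flp_h L668709) q13193, e3 q15436 (flp_h L687234) q17228, e3 q15437 (flp_h L690408) q17558, e3 q15438 (flp_h L690775) q17608, e3 q15439 (flp_h L690782) q17609, e3 q15440 L690880 q17622, e3 q15441 L690886 q17623, e3 q15442 L690892 q17624, e3 q15443 (flp_h L668779) q13200, e3 q15444 (flp_h L681761) q16686, e3 q15445 L690908 q17626, e3 q15446 (flp_h L668797) q13202, e3 q15447 L668810 q15447, e3 q15448 (flp_h L687780) q17281, e3 q15449 L690927 q17629, e3 q15450 L690937 q17630, e3 q15451 L690946 q17631, e3 q15452 (flp_h L668850) q13209, e3 q15453 (flp_h L668858) q13210, e3 q15454 (flp_h L668868)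 q13211, e3 q15455 L690963 q17633, e3 q15456 (flp_h L668888) q13214, e3 q15457 (flp_h L690916) q17627, e3 q15458 L668905 q13230, e3 q15459 L668910 q13231, e3 q15460 L691009 q17640, e3 q15461 L668923 q13235, e3 q15462 L691022 q17642, e3 q15463 (flp_h L668932) q13220, e3 q15464 L668942 q13242, e3 q15465 L691036 q17644, e3 q15466 L668953 q13244, e3 q15467 L691042 q17645, e3 q15468 (flp_h L668961) q13223, e3 q15469 L668971 q13247, e3 q15470 (flp_h L668973) q13225, e3 q15471 (flp_h L687580) q17260, e3 q15472 (flp_h L687711) q17275, e3 q15473 (flp_h L687555) q17257, e3 q15474 (flp_h L687469) q17249, e3 q15475 L691105 q17654, e3 q15476 (flp_h L690990) q17636, e3 q15477 (flp_h L690996) q17637, e3 q15478 L691147 q17661, e3 q15479 (flp_h L687423) q17244, e3 q15480 L691167 q17664, e3 q15481 (flp_h L669043) q13232, e3 q15482 (flp_h L687535) q17255, e3 q15483 L691179 q17666, e3 q15484 (flp_h L669061) q13234, e3 q15485 (flp_h L681745) q16684, e3 q15486 (flp_h L687497) q17252, e3 q15487 L691209 q17670, trivial⟩ (by decide +kernel)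

theorem ce_h_242 : ∀ r, r < 64 → sm gh (Qf (15488 + r)) = Qf (tab Gen.h (15488 + r)) :=
  edges_tab (sm gh) Qf (tab Gen.h) 15488 [(15488, 17243), (15489, 17673), (15490, 13237), (15491, 17241), (15492, 17677), (15493, 13239), (15494, 16633), (15495, 17679), (15496, 16440), (15497, 17681), (15498, 13243), (15499, 16069), (15500, 17684), (15501, 13245), (15502, 13273), (15503, 16071), (15504, 17688), (15505, 13248), (15506, 13768), (15507, 16108), (15508, 13620), (15509, 15509), (15510, 17691), (15511, 15511), (15512, 17693), (15513, 17508), (15514, 13259), (15515, 15515), (15516, 15516), (15517, 17697), (15518, 17698), (15519, 17700), (15520, 13262), (15521, 13263), (15522, 17702), (15523, 13266), (15524, 17704), (15525, 13269), (15526, 17674), (15527, 13271), (15528, 17682), (15529, 17686), (15530, 13274), (15531, 15531), (15532, 15532), (15533, 17713), (15534, 17328), (15535, 13277), (15536, 15536), (15537, 17715), (15538, 13520), (15539, 17717), (15540, 13282), (15541, 13356), (15542, 13284), (15543, 17718), (15544, 13288),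 (15545, 13290), (15546, 16669), (15547, 16554), (15548, 15984), (15549, 16114), (15550, 15981), (15551, 13589)]
    ⟨e3 q15488 (flp_h L687413) q17243, e3 q15489 L691231 q17673, e3 q15490 (flp_h L669103) q13237, e3 q15491 (flp_h L687391) q17241, e3 q15492 L691259 q17677, e3 q15493 (flp_h L669121) q13239, e3 q15494 (flp_h L681172) q16633, e3 q15495 L691271 q17679, e3 q15496 (flp_h L678986) q16440, e3 q15497 L691283 q17681, e3 q15498 (flp_h L669153) q13243, e3 q15499 (flp_h L674343) q16069, e3 q15500 L691303 q17684, e3 q15501 (flp_h L669171) q13245, e3 q15502 L669179 q13273, e3 q15503 (flp_h L674369) q16071, e3 q15504 L691325 q17688, e3 q15505 (flp_h L669191) q13248, e3 q15506 L669203 q13768, e3 q15507 (flp_h L674891) q16108, e3 q15508 L669225 q13620, e3 q15509 L669231 q15509, e3 q15510 L691347 q17691, e3 q15511 L669246 q15511, e3 q15512 L691368 q17693, e3 q15513 (flp_h L689963) q17508, e3 q15514 (flp_h L669269) q13259, e3 q15515 L669284 q15515, e3 q15516 L669291 q15516, e3 q15517 L691401 q17697, e3 q15518 L691410 q17698, e3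 q15519 L691425 q17700, e3 q15520 (flp_h L669316) q13262, e3 q15521 (flp_h L669323) q13263, e3 q15522 L691439 q17702, e3 q15523 (flp_h L669342) q13266, e3 q15524 L691455 q17704, e3 q15525 (flp_h L669361) q13269, e3 q15526 (flp_h L691243) q17674, e3 q15527 (flp_h L669377) q13271, e3 q15528 (flp_h L691293) q17682, e3 q15529 (flp_h L691315) q17686, e3 q15530 (flp_h L669396) q13274, e3 q15531 L669412 q15531, e3 q15532 L669420 q15532, e3 q15533 L691523 q17713, e3 q15534 (flp_h L688296) q17328, e3 q15535 (flp_h L669446) q13277, e3 q15536 L669461 q15536, e3 q15537 L691541 q17715, e3 q15538 (flp_h L669483) q13520, e3 q15539 L691565 q17717, e3 q15540 (flp_h L669493) q13282, e3 q15541 L669515 q13356, e3 q15542 (flp_h L669517) q13284, e3 q15543 L691574 q17718, e3 q15544 (flp_h L669536) q13288, e3 q15545 (flp_h L669545) q13290, e3 q15546 L681575 q16669, e3 q15547 L680338 q16554, e3 q15548 L673101 q15984, e3 q15549 L674978 q16114, e3 q15550 L673049 q15981, e3 q15551 L669593 q13589, trivial⟩ (by decide +kernel)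

theorem ce_h_243 : ∀ r, r < 64 → sm gh (Qf (15552 + r)) = Qf (tab Gen.h (15552 + r)) :=
  edges_tab (sm gh) Qf (tab Gen.h) 15552 [(15552, 13296), (15553, 16896), (15554, 13389), (15555, 16900), (15556, 17727), (15557, 17728), (15558, 13302), (15559, 13402), (15560, 17334), (15561, 13418), (15562, 13307), (15563, 13318), (15564, 13421), (15565, 13321), (15566, 17737), (15567, 13324), (15568, 17739), (15569, 13329), (15570, 17741), (15571, 13314), (15572, 13315), (15573, 17731), (15574, 13444), (15575, 16864), (15576, 17733), (15577, 17750), (15578, 16855), (15579, 16866), (15580, 17756), (15581, 17735), (15582, 17758), (15583, 13322), (15584, 16857), (15585, 16868), (15586, 17763), (15587, 16939), (15588, 17766), (15589, 13325), (15590, 16270), (15591, 17769), (15592, 16870), (15593, 17771), (15594, 13328), (15595, 17772), (15596, 13330), (15597, 17773), (15598, 13333), (15599, 13334), (15600, 13377), (15601, 17374), (15602, 13519), (15603, 17151), (15604, 13521), (15605, 13522), (15606, 16964), (15607, 17159), (15608, 13415),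 (15609, 13379), (15610, 16943), (15611, 17764), (15612, 16961), (15613, 13523), (15614, 16945), (15615, 16227)]
    ⟨e3 q15552 (flp_h L669598) q13296, e3 q15553 (flp_h L683825) q16896, e3 q15554 L669625 q13389, e3 q15555 (flp_h L683865) q16900, e3 q15556 L691646 q17727, e3 q15557 L691654 q17728, e3 q15558 (flp_h L669648) q13302, e3 q15559 L669664 q13402, e3 q15560 (flp_h L688367) q17334, e3 q15561 L669678 q13418, e3 q15562 (flp_h L669680) q13307, e3 q15563 L669693 q13318, e3 q15564 L669703 q13421, e3 q15565 L669707 q13321, e3 q15566 L691715 q17737, e3 q15567 L669724 q13324, e3 q15568 L691736 q17739, e3 q15569 L669741 q13329, e3 q15570 L691753 q17741, e3 q15571 (flp_h L669753) q13314, e3 q15572 (flp_h L669761) q13315, e3 q15573 (flp_h L691678) q17731, e3 q15574 L669782 q13444, e3 q15575 (flp_h L683482) q16864, e3 q15576 (flp_h L691693) q17733, e3 q15577 L691819 q17750, e3 q15578 (flp_h L683371) q16855, e3 q15579 (flp_h L683504) q16866, e3 q15580 L691855 q17756, e3 q15581 (flp_h L691707) q17735, e3 q15582 L691869 q17758, e3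 q15583 (flp_h L669832) q13322, e3 q15584 (flp_h L683395) q16857, e3 q15585 (flp_h L683527) q16868, e3 q15586 L691909 q17763, e3 q15587 (flp_h L684288) q16939, e3 q15588 L691935 q17766, e3 q15589 (flp_h L669881) q13325, e3 q15590 (flp_h L676976) q16270, e3 q15591 L691962 q17769, e3 q15592 (flp_h L683550) q16870, e3 q15593 L691975 q17771, e3 q15594 (flp_h L669919) q13328, e3 q15595 L691983 q17772, e3 q15596 (flp_h L669933) q13330, e3 q15597 L691989 q17773, e3 q15598 (flp_h L669951) q13333, e3 q15599 (flp_h L669956) q13334, e3 q15600 L669968 q13377, e3 q15601 (flp_h L688751) q17374, e3 q15602 L669985 q13519, e3 q15603 (flp_h L686316) q17151, e3 q15604 L670002 q13521, e3 q15605 L670012 q13522, e3 q15606 (flp_h L684547) q16964, e3 q15607 (flp_h L686418) q17159, e3 q15608 L670040 q13415, e3 q15609 L670056 q13379, e3 q15610 (flp_h L684342) q16943, e3 q15611 (flp_h L691922) q17764, e3 q15612 (flp_h L684508) q16961, e3 q15613 L670085 q13523, e3 q15614 (flp_h L684365) q16945, e3 q15615 (flp_h L676431) q16227, trivial⟩ (by decide +kernel)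

theorem ce_h_244 : ∀ r, r < 64 → sm gh (Qf (15616 + r)) = Qf (tab Gen.h (15616 + r)) :=
  edges_tab (sm gh) Qf (tab Gen.h) 15616 [(15616, 17716), (15617, 17785), (15618, 16935), (15619, 13361), (15620, 17786), (15621, 13366), (15622, 13368), (15623, 17332), (15624, 16938), (15625, 13775), (15626, 17362), (15627, 16940), (15628, 13388), (15629, 16936), (15630, 13391), (15631, 17793), (15632, 17794), (15633, 13385), (15634, 17781), (15635, 17723), (15636, 17184), (15637, 17790), (15638, 17802), (15639, 17186), (15640, 17190), (15641, 17808), (15642, 17809), (15643, 13392), (15644, 17193), (15645, 17812), (15646, 13394), (15647, 16339), (15648, 17814), (15649, 13396), (15650, 17815), (15651, 13399), (15652, 13532), (15653, 17149), (15654, 13533), (15655, 13534), (15656, 17174), (15657, 13509), (15658, 13535), (15659, 13536), (15660, 17177), (15661, 17822), (15662, 17179), (15663, 13538), (15664, 17180), (15665, 17181), (15666, 17333), (15667, 17452), (15668, 17436), (15669, 17829), (15670, 13443), (15671, 17732), (15672, 13445),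 (15673, 13446), (15674, 17837), (15675, 13448), (15676, 13449), (15677, 17844), (15678, 13451), (15679, 17847)]
    ⟨e3 q15616 (flp_h L691563) q17716, e3 q15617 L692096 q17785, e3 q15618 (flp_h L684222) q16935, e3 q15619 (flp_h L670140) q13361, e3 q15620 L692109 q17786, e3 q15621 (flp_h L670157) q13366, e3 q15622 (flp_h L670169) q13368, e3 q15623 (flp_h L688337) q17332, e3 q15624 (flp_h L684274) q16938, e3 q15625 L670210 q13775, e3 q15626 (flp_h L688633) q17362, e3 q15627 (flp_h L684306) q16940, e3 q15628 L670236 q13388, e3 q15629 (flp_h L684238) q16936, e3 q15630 L670252 q13391, e3 q15631 L692168 q17793, e3 q15632 L692176 q17794, e3 q15633 (flp_h L670271) q13385, e3 q15634 (flp_h L692064) q17781, e3 q15635 (flp_h L691622) q17723, e3 q15636 (flp_h L686741) q17184, e3 q15637 (flp_h L692150) q17790, e3 q15638 L692245 q17802, e3 q15639 (flp_h L686765) q17186, e3 q15640 (flp_h L686802) q17190, e3 q15641 L692287 q17808, e3 q15642 L692295 q17809, e3 q15643 (flp_h L670349) q13392, e3 q15644 (flp_h L686835) q17193, e3 q15645 L692319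 q17812, e3 q15646 (flp_h L670373) q13394, e3 q15647 (flp_h L677742) q16339, e3 q15648 L692338 q17814, e3 q15649 (flp_h L670396) q13396, e3 q15650 L692344 q17815, e3 q15651 (flp_h L670413) q13399, e3 q15652 L670425 q13532, e3 q15653 (flp_h L686286) q17149, e3 q15654 L670443 q13533, e3 q15655 L670454 q13534, e3 q15656 (flp_h L686606) q17174, e3 q15657 L670479 q13509, e3 q15658 L670486 q13535, e3 q15659 L670495 q13536, e3 q15660 (flp_h L686647) q17177, e3 q15661 L692407 q17822, e3 q15662 (flp_h L686673) q17179, e3 q15663 L670530 q13538, e3 q15664 (flp_h L686687) q17180, e3 q15665 (flp_h L686702) q17181, e3 q15666 (flp_h L688355) q17333, e3 q15667 (flp_h L689493) q17452, e3 q15668 (flp_h L689368) q17436, e3 q15669 L692461 q17829, e3 q15670 L670588 q13443, e3 q15671 (flp_h L691687) q17732, e3 q15672 L670603 q13445, e3 q15673 L670611 q13446, e3 q15674 L692521 q17837, e3 q15675 L670627 q13448, e3 q15676 L670633 q13449, e3 q15677 L692569 q17844, e3 q15678 L670645 q13451, e3 q15679 L692589 q17847, trivial⟩ (by decide +kernel)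

theorem ce_h_245 : ∀ r, r < 64 → sm gh (Qf (15680 + r)) = Qf (tab Gen.h (15680 + r)) :=
  edges_tab (sm gh) Qf (tab Gen.h) 15680 [(15680, 13424), (15681, 13454), (15682, 13455), (15683, 17852), (15684, 17853), (15685, 13427), (15686, 13460), (15687, 13461), (15688, 17857), (15689, 13463), (15690, 17860), (15691, 13430), (15692, 13466), (15693, 17863), (15694, 13432), (15695, 17864), (15696, 17865), (15697, 13436), (15698, 13474), (15699, 17868), (15700, 13438), (15701, 13478), (15702, 17871), (15703, 13441), (15704, 17830), (15705, 17831), (15706, 17876), (15707, 17833), (15708, 17834), (15709, 17882), (15710, 17399), (15711, 17885), (15712, 13447), (15713, 17838), (15714, 17839), (15715, 17891), (15716, 17893), (15717, 17842), (15718, 17897), (15719, 13450), (15720, 17845), (15721, 17901), (15722, 13452), (15723, 17848), (15724, 17849), (15725, 17907), (15726, 17398), (15727, 17909), (15728, 13456), (15729, 16288), (15730, 17913), (15731, 13458), (15732, 17471), (15733, 17916), (15734, 17855), (15735, 17919), (15736, 13462),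 (15737, 17858), (15738, 17923), (15739, 13464), (15740, 13505), (15741, 17861), (15742, 17927), (15743, 13467)]
    ⟨e3 q15680 (flp_h L670653) q13424, e3 q15681 L670666 q13454, e3 q15682 L670675 q13455, e3 q15683 L692635 q17852, e3 q15684 L692644 q17853, e3 q15685 (flp_h L670698) q13427, e3 q15686 L670711 q13460, e3 q15687 L670719 q13461, e3 q15688 L692679 q17857, e3 q15689 L670735 q13463, e3 q15690 L692703 q17860, e3 q15691 (flp_h L670746) q13430, e3 q15692 L670758 q13466, e3 q15693 L692729 q17863, e3 q15694 (flp_h L670768) q13432, e3 q15695 L692735 q17864, e3 q15696 L692742 q17865, e3 q15697 (flp_h L670791) q13436, e3 q15698 L670803 q13474, e3 q15699 L692766 q17868, e3 q15700 (flp_h L670813) q13438, e3 q15701 L670826 q13478, e3 q15702 L692788 q17871, e3 q15703 (flp_h L670835) q13441, e3 q15704 (flp_h L692470) q17830, e3 q15705 (flp_h L692478) q17831, e3 q15706 L692818 q17876, e3 q15707 (flp_h L692495) q17833, e3 q15708 (flp_h L692503) q17834, e3 q15709 L692865 q17882, e3 q15710 (flp_h L689005) q17399, e3 q15711 L692885 q17885,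 e3 q15712 (flp_h L670896) q13447, e3 q15713 (flp_h L692535) q17838, e3 q15714 (flp_h L692541) q17839, e3 q15715 L692923 q17891, e3 q15716 L692935 q17893, e3 q15717 (flp_h L692559) q17842, e3 q15718 L692959 q17897, e3 q15719 (flp_h L670936) q13450, e3 q15720 (flp_h L692581) q17845, e3 q15721 L692981 q17901, e3 q15722 (flp_h L670952) q13452, e3 q15723 (flp_h L692602) q17848, e3 q15724 (flp_h L692613) q17849, e3 q15725 L693026 q17907, e3 q15726 (flp_h L688996) q17398, e3 q15727 L693045 q17909, e3 q15728 (flp_h L671000) q13456, e3 q15729 (flp_h L677206) q16288, e3 q15730 L693077 q17913, e3 q15731 (flp_h L671020) q13458, e3 q15732 (flp_h L689666) q17471, e3 q15733 L693099 q17916, e3 q15734 (flp_h L692668) q17855, e3 q15735 L693121 q17919, e3 q15736 (flp_h L671059) q13462, e3 q15737 (flp_h L692692) q17858, e3 q15738 L693157 q17923, e3 q15739 (flp_h L671081) q13464, e3 q15740 L671093 q13505, e3 q15741 (flp_h L692719) q17861, e3 q15742 L693183 q17927, e3 q15743 (flp_h L671109) q13467, trivial⟩ (by decide +kernel)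

theorem ce_h_246 : ∀ r, r < 64 → sm gh (Qf (15744 + r)) = Qf (tab Gen.h (15744 + r)) :=
  edges_tab (sm gh) Qf (tab Gen.h) 15744 [(15744, 17928), (15745, 13470), (15746, 17457), (15747, 17931), (15748, 13472), (15749, 13507), (15750, 17866), (15751, 17934), (15752, 13475), (15753, 13743), (15754, 13508), (15755, 17937), (15756, 13479), (15757, 13783), (15758, 17349), (15759, 16260), (15760, 17135), (15761, 13497), (15762, 16978), (15763, 13495), (15764, 13490), (15765, 17818), (15766, 16975), (15767, 13496), (15768, 17942), (15769, 17898), (15770, 13690), (15771, 17910), (15772, 13503), (15773, 17920), (15774, 17925), (15775, 13513), (15776, 13540), (15777, 17946), (15778, 13545), (15779, 13525), (15780, 15780), (15781, 17948), (15782, 13537), (15783, 15783), (15784, 15784), (15785, 17954), (15786, 15786), (15787, 15787), (15788, 17960), (15789, 17961), (15790, 13543), (15791, 13558), (15792, 17006), (15793, 13559), (15794, 13560), (15795, 17008), (15796, 17009), (15797, 13561), (15798, 13562), (15799, 17012), (15800, 17969),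 (15801, 17014), (15802, 13564), (15803, 13756), (15804, 17015), (15805, 13563), (15806, 17963), (15807, 16979)]
    ⟨e3 q15744 L693189 q17928, e3 q15745 (flp_h L671122) q13470, e3 q15746 (flp_h L689543) q17457, e3 q15747 L693213 q17931, e3 q15748 (flp_h L671142) q13472, e3 q15749 L671154 q13507, e3 q15750 (flp_h L692756) q17866, e3 q15751 L693236 q17934, e3 q15752 (flp_h L671171) q13475, e3 q15753 L671181 q13743, e3 q15754 L671186 q13508, e3 q15755 L693256 q17937, e3 q15756 (flp_h L671195) q13479, e3 q15757 L671204 q13783, e3 q15758 (flp_h L688519) q17349, e3 q15759 (flp_h L676858) q16260, e3 q15760 (flp_h L686122) q17135, e3 q15761 L671242 q13497, e3 q15762 (flp_h L684697) q16978, e3 q15763 L671264 q13495, e3 q15764 (flp_h L671266) q13490, e3 q15765 (flp_h L692381) q17818, e3 q15766 (flp_h L684665) q16975, e3 q15767 (flp_h L671296) q13496, e3 q15768 L693296 q17942, e3 q15769 (flp_h L692969) q17898, e3 q15770 L671325 q13690, e3 q15771 (flp_h L693061) q17910, e3 q15772 (flp_h L671336) q13503, e3 q15773 (flp_h L693137) q17920,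 e3 q15774 (flp_h L693173) q17925, e3 q15775 (flp_h L671368) q13513, e3 q15776 L671388 q13540, e3 q15777 L693321 q17946, e3 q15778 L671403 q13545, e3 q15779 (flp_h L671405) q13525, e3 q15780 L671422 q15780, e3 q15781 L693337 q17948, e3 q15782 (flp_h L671431) q13537, e3 q15783 L671444 q15783, e3 q15784 L671450 q15784, e3 q15785 L693389 q17954, e3 q15786 L671467 q15786, e3 q15787 L671473 q15787, e3 q15788 L693433 q17960, e3 q15789 L693440 q17961, e3 q15790 (flp_h L671489) q13543, e3 q15791 L671500 q13558, e3 q15792 (flp_h L684970) q17006, e3 q15793 L671516 q13559, e3 q15794 L671525 q13560, e3 q15795 (flp_h L684997) q17008, e3 q15796 (flp_h L685009) q17009, e3 q15797 L671549 q13561, e3 q15798 L671556 q13562, e3 q15799 (flp_h L685047) q17012, e3 q15800 L693499 q17969, e3 q15801 (flp_h L685067) q17014, e3 q15802 L671583 q13564, e3 q15803 L671594 q13756, e3 q15804 (flp_h L685081) q17015, e3 q15805 (flp_h L671604) q13563, e3 q15806 (flp_h L693463) q17963, e3 q15807 (flp_h L684707) q16979, trivial⟩ (by decide +kernel)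

theorem ce_h_247 : ∀ r, r < 64 → sm gh (Qf (15808 + r)) = Qf (tab Gen.h (15808 + r)) :=
  edges_tab (sm gh) Qf (tab Gen.h) 15808 [(15808, 16984), (15809, 16990), (15810, 16031), (15811, 16495), (15812, 16044), (15813, 13580), (15814, 13583), (15815, 13585), (15816, 16056), (15817, 16525), (15818, 13588), (15819, 13591), (15820, 13592), (15821, 15821), (15822, 15822), (15823, 13595), (15824, 15824), (15825, 13597), (15826, 15826), (15827, 15827), (15828, 15828), (15829, 15829), (15830, 15830), (15831, 13610), (15832, 13604), (15833, 16080), (15834, 13608), (15835, 16448), (15836, 16601), (15837, 16098), (15838, 17273), (15839, 16058), (15840, 17689), (15841, 17234), (15842, 13622), (15843, 16411), (15844, 17991), (15845, 13625), (15846, 16497), (15847, 13627), (15848, 13652), (15849, 16123), (15850, 13630), (15851, 17685), (15852, 13653), (15853, 16954), (15854, 17995), (15855, 13641), (15856, 13642), (15857, 17997), (15858, 13643), (15859, 13646), (15860, 13648), (15861, 16153), (15862, 16814), (15863, 16548), (15864, 16558),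 (15865, 16658), (15866, 17571), (15867, 13654), (15868, 15868), (15869, 18005), (15870, 13657), (15871, 13658)]
    ⟨e3 q15808 (flp_h L684754) q16984, e3 q15809 (flp_h L684813) q16990, e3 q15810 L673753 q16031, e3 q15811 (flp_h L679625) q16495, e3 q15812 (flp_h L673970) q16044, e3 q15813 (flp_h L671657) q13580, e3 q15814 (flp_h L671665) q13583, e3 q15815 (flp_h L671674) q13585, e3 q15816 L674150 q16056, e3 q15817 L679943 q16525, e3 q15818 (flp_h L671698) q13588, e3 q15819 (flp_h L671708) q13591, e3 q15820 (flp_h L671716) q13592, e3 q15821 L671735 q15821, e3 q15822 L671747 q15822, e3 q15823 (flp_h L671748) q13595, e3 q15824 L671766 q15824, e3 q15825 (flp_h L671767) q13597, e3 q15826 L671782 q15826, e3 q15827 L671789 q15827, e3 q15828 L671801 q15828, e3 q15829 L671807 q15829, e3 q15830 L671816 q15830, e3 q15831 L671824 q13610, e3 q15832 (flp_h L671826) q13604, e3 q15833 L674471 q16080, e3 q15834 (flp_h L671843) q13608, e3 q15835 L679077 q16448, e3 q15836 L680907 q16601, e3 q15837 L674735 q16098, e3 q15838 (flp_h L687689) q17273,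 e3 q15839 L674183 q16058, e3 q15840 (flp_h L691339) q17689, e3 q15841 (flp_h L687315) q17234, e3 q15842 (flp_h L671899) q13622, e3 q15843 L678596 q16411, e3 q15844 L693700 q17991, e3 q15845 (flp_h L671923) q13625, e3 q15846 (flp_h L679653) q16497, e3 q15847 (flp_h L671937) q13627, e3 q15848 L671949 q13652, e3 q15849 (flp_h L675112) q16123, e3 q15850 (flp_h L671958) q13630, e3 q15851 (flp_h L691311) q17685, e3 q15852 L671970 q13653, e3 q15853 (flp_h L684441) q16954, e3 q15854 L693722 q17995, e3 q15855 (flp_h L671986) q13641, e3 q15856 (flp_h L671996) q13642, e3 q15857 L693738 q17997, e3 q15858 (flp_h L672009) q13643, e3 q15859 (flp_h L672017) q13646, e3 q15860 (flp_h L672026) q13648, e3 q15861 L675484 q16153, e3 q15862 L682925 q16814, e3 q15863 L680254 q16548, e3 q15864 (flp_h L680387) q16558, e3 q15865 L681438 q16658, e3 q15866 (flp_h L690522) q17571, e3 q15867 (flp_h L672071) q13654, e3 q15868 L672089 q15868, e3 q15869 L693788 q18005, e3 q15870 (flp_h L672098) q13657, e3 q15871 (flp_h L672107) q13658, trivial⟩ (by decide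 +kernel)

theorem ce_h_248 : ∀ r, r < 64 → sm gh (Qf (15872 + r)) = Qf (tab Gen.h (15872 + r)) :=
  edges_tab (sm gh) Qf (tab Gen.h) 15872 [(15872, 15872), (15873, 15873), (15874, 13662), (15875, 15875), (15876, 15876), (15877, 15877), (15878, 15878), (15879, 15879), (15880, 15880), (15881, 15881), (15882, 15882), (15883, 15883), (15884, 15884), (15885, 15885), (15886, 15886), (15887, 18015), (15888, 13673), (15889, 15889), (15890, 18018), (15891, 13676), (15892, 18020), (15893, 13679), (15894, 13697), (15895, 13681), (15896, 13699), (15897, 13700), (15898, 13695), (15899, 13693), (15900, 17073), (15901, 17824), (15902, 13688), (15903, 13689), (15904, 18025), (15905, 18016), (15906, 18019), (15907, 18021), (15908, 18022), (15909, 13701), (15910, 15910), (15911, 15911), (15912, 18032), (15913, 13705), (15914, 18034), (15915, 13706), (15916, 18037), (15917, 15917), (15918, 18039), (15919, 13708), (15920, 13715), (15921, 18042), (15922, 13711), (15923, 13745), (15924, 15924), (15925, 15925), (15926, 18041), (15927, 18047), (15928,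 13717), (15929, 13719), (15930, 15930), (15931, 18050), (15932, 13722), (15933, 15933), (15934, 18052), (15935, 13724)]
    ⟨e3 q15872 L672123 q15872, e3 q15873 L672129 q15873, e3 q15874 (flp_h L672131) q13662, e3 q15875 L672146 q15875, e3 q15876 L672153 q15876, e3 q15877 L672163 q15877, e3 q15878 L672168 q15878, e3 q15879 L672177 q15879, e3 q15880 L672183 q15880, e3 q15881 L672190 q15881, e3 q15882 L672197 q15882, e3 q15883 L672204 q15883, e3 q15884 L672210 q15884, e3 q15885 L672218 q15885, e3 q15886 L672230 q15886, e3 q15887 L693892 q18015, e3 q15888 (flp_h L672242) q13673, e3 q15889 L672261 q15889, e3 q15890 L693926 q18018, e3 q15891 (flp_h L672273) q13676, e3 q15892 L693947 q18020, e3 q15893 (flp_h L672293) q13679, e3 q15894 L672308 q13697, e3 q15895 (flp_h L672310) q13681, e3 q15896 L672326 q13699, e3 q15897 L672334 q13700, e3 q15898 L672350 q13695, e3 q15899 L672364 q13693, e3 q15900 (flp_h L685572) q17073, e3 q15901 (flp_h L692435) q17824, e3 q15902 (flp_h L672379) q13688, e3 q15903 (flp_h L672393) q13689, e3 q15904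 L693989 q18025, e3 q15905 (flp_h L693911) q18016, e3 q15906 (flp_h L693945) q18019, e3 q15907 (flp_h L693963) q18021, e3 q15908 (flp_h L693972) q18022, e3 q15909 (flp_h L672448) q13701, e3 q15910 L672471 q15910, e3 q15911 L672479 q15911, e3 q15912 L694051 q18032, e3 q15913 (flp_h L672492) q13705, e3 q15914 L694067 q18034, e3 q15915 (flp_h L672509) q13706, e3 q15916 L694084 q18037, e3 q15917 L672528 q15917, e3 q15918 L694098 q18039, e3 q15919 (flp_h L672538) q13708, e3 q15920 L672557 q13715, e3 q15921 L694122 q18042, e3 q15922 (flp_h L672567) q13711, e3 q15923 L672583 q13745, e3 q15924 L672593 q15924, e3 q15925 L672601 q15925, e3 q15926 (flp_h L694119) q18041, e3 q15927 L694171 q18047, e3 q15928 (flp_h L672622) q13717, e3 q15929 (flp_h L672632) q13719, e3 q15930 L672645 q15930, e3 q15931 L694193 q18050, e3 q15932 (flp_h L672655) q13722, e3 q15933 L672668 q15933, e3 q15934 L694212 q18052, e3 q15935 (flp_h L672678) q13724, trivial⟩ (by decide +kernel)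

theorem ce_h_249 : ∀ r, r < 64 → sm gh (Qf (15936 + r)) = Qf (tab Gen.h (15936 + r)) :=
  edges_tab (sm gh) Qf (tab Gen.h) 15936 [(15936, 15936), (15937, 18055), (15938, 13727), (15939, 17924), (15940, 13752), (15941, 18043), (15942, 13731), (15943, 15943), (15944, 18060), (15945, 13734), (15946, 15946), (15947, 18062), (15948, 13737), (15949, 17932), (15950, 18044), (15951, 13741), (15952, 17935), (15953, 17936), (15954, 16282), (15955, 18066), (15956, 13751), (15957, 18058), (15958, 17971), (15959, 15959), (15960, 18067), (15961, 17360), (15962, 18069), (15963, 17450), (15964, 18071), (15965, 13777), (15966, 13782), (15967, 16249), (15968, 16251), (15969, 18073), (15970, 13787), (15971, 18074), (15972, 13789), (15973, 18075), (15974, 13791), (15975, 18076), (15976, 13793), (15977, 15977), (15978, 18079), (15979, 13799), (15980, 15980), (15981, 15550), (15982, 13802), (15983, 15983), (15984, 15548), (15985, 13805), (15986, 15986), (15987, 18084), (15988, 13808), (15989, 15989), (15990, 13810), (15991, 13811), (15992, 15992),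 (15993, 18088), (15994, 13815), (15995, 15995), (15996, 15996), (15997, 18092), (15998, 13819), (15999, 15999)]
    ⟨e3 q15936 L672694 q15936, e3 q15937 L694235 q18055, e3 q15938 (flp_h L672703) q13727, e3 q15939 (flp_h L693167) q17924, e3 q15940 L672720 q13752, e3 q15941 (flp_h L694139) q18043, e3 q15942 (flp_h L672732) q13731, e3 q15943 L672748 q15943, e3 q15944 L694274 q18060, e3 q15945 (flp_h L672760) q13734, e3 q15946 L672777 q15946, e3 q15947 L694295 q18062, e3 q15948 (flp_h L672787) q13737, e3 q15949 (flp_h L693225) q17932, e3 q15950 (flp_h L694147) q18044, e3 q15951 (flp_h L672811) q13741, e3 q15952 (flp_h L693247) q17935, e3 q15953 (flp_h L693252) q17936, e3 q15954 (flp_h L677124) q16282, e3 q15955 L694324 q18066, e3 q15956 (flp_h L672844) q13751, e3 q15957 (flp_h L694259) q18058, e3 q15958 (flp_h L693518) q17971, e3 q15959 L672864 q15959, e3 q15960 L694329 q18067, e3 q15961 (flp_h L688609) q17360, e3 q15962 L694343 q18069, e3 q15963 (flp_h L689472) q17450, e3 q15964 L694355 q18071, e3 q15965 (flp_h L672896) q13777,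 e3 q15966 L672904 q13782, e3 q15967 (flp_h L676720) q16249, e3 q15968 (flp_h L676744) q16251, e3 q15969 L694367 q18073, e3 q15970 (flp_h L672927) q13787, e3 q15971 L694375 q18074, e3 q15972 (flp_h L672942) q13789, e3 q15973 L694384 q18075, e3 q15974 (flp_h L672956) q13791, e3 q15975 L694392 q18076, e3 q15976 (flp_h L672970) q13793, e3 q15977 L672987 q15977, e3 q15978 L694421 q18079, e3 q15979 (flp_h L673005) q13799, e3 q15980 L673029 q15980, e3 q15981 (flp_h L673049) q15550, e3 q15982 (flp_h L673051) q13802, e3 q15983 L673081 q15983, e3 q15984 (flp_h L673101) q15548, e3 q15985 (flp_h L673103) q13805, e3 q15986 L673133 q15986, e3 q15987 L694510 q18084, e3 q15988 (flp_h L673146) q13808, e3 q15989 L673171 q15989, e3 q15990 (flp_h L673172) q13810, e3 q15991 (flp_h L673187) q13811, e3 q15992 L673217 q15992, e3 q15993 L694575 q18088, e3 q15994 (flp_h L673232) q13815, e3 q15995 L673259 q15995, e3 q15996 L673271 q15996, e3 q15997 L694640 q18092, e3 q15998 (flp_h L673289) q13819, e3 q15999 L673316 q15999, trivial⟩ (by decide +kernel)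

theorem ce_h_250 : ∀ r, r < 64 → sm gh (Qf (16000 + r)) = Qf (tab Gen.h (16000 + r)) :=
  edges_tab (sm gh) Qf (tab Gen.h) 16000 [(16000, 18094), (16001, 13822), (16002, 18095), (16003, 13825), (16004, 16004), (16005, 16005), (16006, 18099), (16007, 13829), (16008, 13831), (16009, 16009), (16010, 18101), (16011, 13834), (16012, 16012), (16013, 18103), (16014, 13837), (16015, 18105), (16016, 13840), (16017, 16017), (16018, 13842), (16019, 16019), (16020, 16020), (16021, 13859), (16022, 13883), (16023, 13857), (16024, 15347), (16025, 13885), (16026, 15350), (16027, 18108), (16028, 18115), (16029, 16029), (16030, 16030), (16031, 15810), (16032, 18117), (16033, 13865), (16034, 15006), (16035, 14996), (16036, 15002), (16037, 13874), (16038, 18119), (16039, 16039), (16040, 18121), (16041, 13878), (16042, 13880), (16043, 13884), (16044, 15812), (16045, 13887), (16046, 18124), (16047, 18125), (16048, 18126), (16049, 15339), (16050, 18129), (16051, 13888), (16052, 16052), (16053, 18131), (16054, 13890), (16055, 16055), (16056, 15816),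 (16057, 13893), (16058, 15839), (16059, 13896), (16060, 13904), (16061, 13965), (16062, 13906), (16063, 13907)]
    ⟨e3 q16000 L694670 q18094, e3 q16001 (flp_h L673331) q13822, e3 q16002 L694684 q18095, e3 q16003 (flp_h L673355) q13825, e3 q16004 L673370 q16004, e3 q16005 L673377 q16005, e3 q16006 L694742 q18099, e3 q16007 (flp_h L673399) q13829, e3 q16008 (flp_h L673416) q13831, e3 q16009 L673443 q16009, e3 q16010 L694776 q18101, e3 q16011 (flp_h L673459) q13834, e3 q16012 L673486 q16012, e3 q16013 L694807 q18103, e3 q16014 (flp_h L673502) q13837, e3 q16015 L694834 q18105, e3 q16016 (flp_h L673527) q13840, e3 q16017 L673545 q16017, e3 q16018 (flp_h L673548) q13842, e3 q16019 L673567 q16019, e3 q16020 L673575 q16020, e3 q16021 L673595 q13859, e3 q16022 L673612 q13883, e3 q16023 (flp_h L673614) q13857, e3 q16024 L673648 q15347, e3 q16025 L673666 q13885, e3 q16026 L673678 q15350, e3 q16027 (flp_h L694883) q18108, e3 q16028 L694985 q18115, e3 q16029 L673722 q16029, e3 q16030 L673736 q16030, e3 q16031 (flp_h L673753) q15810, e3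 q16032 L695014 q18117, e3 q16033 (flp_h L673768) q13865, e3 q16034 L673799 q15006, e3 q16035 L673815 q14996, e3 q16036 L673834 q15002, e3 q16037 (flp_h L673836) q13874, e3 q16038 L695048 q18119, e3 q16039 L673882 q16039, e3 q16040 L695085 q18121, e3 q16041 (flp_h L673902) q13878, e3 q16042 (flp_h L673918) q13880, e3 q16043 L673951 q13884, e3 q16044 L673970 q15812, e3 q16045 L673984 q13887, e3 q16046 L695139 q18124, e3 q16047 L695153 q18125, e3 q16048 L695167 q18126, e3 q16049 L674049 q15339, e3 q16050 L695221 q18129, e3 q16051 (flp_h L674069) q13888, e3 q16052 L674087 q16052, e3 q16053 L695253 q18131, e3 q16054 (flp_h L674106) q13890, e3 q16055 L674134 q16055, e3 q16056 (flp_h L674150) q15816, e3 q16057 (flp_h L674152) q13893, e3 q16058 (flp_h L674183) q15839, e3 q16059 (flp_h L674185) q13896, e3 q16060 L674213 q13904, e3 q16061 L674228 q13965, e3 q16062 L674240 q13906, e3 q16063 L674252 q13907, trivial⟩ (by decide +kernel)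

theorem ce_h_251 : ∀ r, r < 64 → sm gh (Qf (16064 + r)) = Qf (tab Gen.h (16064 + r)) :=
  edges_tab (sm gh) Qf (tab Gen.h) 16064 [(16064, 18140), (16065, 15072), (16066, 13901), (16067, 18133), (16068, 13971), (16069, 15499), (16070, 13973), (16071, 15503), (16072, 18135), (16073, 18153), (16074, 18137), (16075, 18138), (16076, 18158), (16077, 18159), (16078, 13908), (16079, 16079), (16080, 15833), (16081, 16081), (16082, 18163), (16083, 13912), (16084, 13913), (16085, 13992), (16086, 13968), (16087, 15073), (16088, 14319), (16089, 15079), (16090, 14290), (16091, 18169), (16092, 13924), (16093, 14303), (16094, 15087), (16095, 18171), (16096, 13931), (16097, 15078), (16098, 15837), (16099, 13934), (16100, 15052), (16101, 15069), (16102, 15058), (16103, 18176), (16104, 18177), (16105, 13941), (16106, 13942), (16107, 15047), (16108, 15507), (16109, 18180), (16110, 15060), (16111, 18183), (16112, 13951), (16113, 16113), (16114, 15549), (16115, 13953), (16116, 16116), (16117, 18187), (16118, 13956), (16119, 13961), (16120, 13970),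 (16121, 18134), (16122, 13972), (16123, 15849), (16124, 13975), (16125, 18195), (16126, 13980), (16127, 18198)]
    ⟨e3 q16064 L695397 q18140, e3 q16065 (flp_h L674287) q15072, e3 q16066 (flp_h L674289) q13901, e3 q16067 (flp_h L695295) q18133, e3 q16068 L674329 q13971, e3 q16069 L674343 q15499, e3 q16070 L674359 q13973, e3 q16071 L674369 q15503, e3 q16072 (flp_h L695327) q18135, e3 q16073 L695574 q18153, e3 q16074 (flp_h L695354) q18137, e3 q16075 (flp_h L695376) q18138, e3 q16076 L695638 q18158, e3 q16077 L695650 q18159, e3 q16078 (flp_h L674434) q13908, e3 q16079 L674455 q16079, e3 q16080 (flp_h L674471) q15833, e3 q16081 L674480 q16081, e3 q16082 L695702 q18163, e3 q16083 (flp_h L674496) q13912, e3 q16084 (flp_h L674512) q13913, e3 q16085 L674540 q13992, e3 q16086 L674554 q13968, e3 q16087 L674574 q15073, e3 q16088 L674585 q14319, e3 q16089 L674600 q15079, e3 q16090 L674611 q14290, e3 q16091 L695788 q18169, e3 q16092 (flp_h L674626) q13924, e3 q16093 L674654 q14303, e3 q16094 L674670 q15087, e3 q16095 L695821 q18171, e3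 q16096 (flp_h L674684) q13931, e3 q16097 L674712 q15078, e3 q16098 (flp_h L674735) q15837, e3 q16099 (flp_h L674737) q13934, e3 q16100 L674764 q15052, e3 q16101 L674781 q15069, e3 q16102 L674795 q15058, e3 q16103 L695904 q18176, e3 q16104 L695918 q18177, e3 q16105 (flp_h L674829) q13941, e3 q16106 (flp_h L674846) q13942, e3 q16107 L674875 q15047, e3 q16108 L674891 q15507, e3 q16109 L695965 q18180, e3 q16110 L674919 q15060, e3 q16111 L696015 q18183, e3 q16112 (flp_h L674937) q13951, e3 q16113 L674959 q16113, e3 q16114 (flp_h L674978) q15549, e3 q16115 (flp_h L674980) q13953, e3 q16116 L675009 q16116, e3 q16117 L696082 q18187, e3 q16118 (flp_h L675024) q13956, e3 q16119 (flp_h L675039) q13961, e3 q16120 L675067 q13970, e3 q16121 (flp_h L695313) q18134, e3 q16122 L675095 q13972, e3 q16123 L675112 q15849, e3 q16124 L675126 q13975, e3 q16125 L696207 q18195, e3 q16126 L675152 q13980, e3 q16127 L696247 q18198, trivial⟩ (by decide +kernel)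

theorem ce_h_252 : ∀ r, r < 64 → sm gh (Qf (16128 + r)) = Qf (tab Gen.h (16128 + r)) :=
  edges_tab (sm gh) Qf (tab Gen.h) 16128 [(16128, 13967), (16129, 18188), (16130, 18142), (16131, 15024), (16132, 18190), (16133, 18205), (16134, 18206), (16135, 18207), (16136, 18193), (16137, 18210), (16138, 13976), (16139, 18211), (16140, 14389), (16141, 18214), (16142, 13979), (16143, 18196), (16144, 18217), (16145, 13981), (16146, 16146), (16147, 18221), (16148, 13984), (16149, 16149), (16150, 18224), (16151, 13987), (16152, 18218), (16153, 15861), (16154, 13990), (16155, 15046), (16156, 18227), (16157, 13998), (16158, 18230), (16159, 13999), (16160, 14009), (16161, 14119), (16162, 14011), (16163, 14121), (16164, 14013), (16165, 14014), (16166, 18242), (16167, 18243), (16168, 18244), (16169, 14006), (16170, 14007), (16171, 18231), (16172, 14133), (16173, 18233), (16174, 18234), (16175, 18255), (16176, 18236), (16177, 18237), (16178, 18260), (16179, 15171), (16180, 15170), (16181, 18264), (16182, 18240), (16183, 18266), (16184, 14015),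 (16185, 18267), (16186, 18268), (16187, 14018), (16188, 14019), (16189, 16189), (16190, 18273), (16191, 14022)]
    ⟨e3 q16128 (flp_h L675167) q13967, e3 q16129 (flp_h L696115) q18188, e3 q16130 (flp_h L695443) q18142, e3 q16131 L675215 q15024, e3 q16132 (flp_h L696145) q18190, e3 q16133 L696345 q18205, e3 q16134 L696353 q18206, e3 q16135 L696367 q18207, e3 q16136 (flp_h L696190) q18193, e3 q16137 L696411 q18210, e3 q16138 (flp_h L675299) q13976, e3 q16139 L696425 q18211, e3 q16140 L675335 q14389, e3 q16141 L696477 q18214, e3 q16142 (flp_h L675355) q13979, e3 q16143 (flp_h L696230) q18196, e3 q16144 L696517 q18217, e3 q16145 (flp_h L675385) q13981, e3 q16146 L675401 q16146, e3 q16147 L696560 q18221, e3 q16148 (flp_h L675418) q13984, e3 q16149 L675443 q16149, e3 q16150 L696602 q18224, e3 q16151 (flp_h L675454) q13987, e3 q16152 (flp_h L696529) q18218, e3 q16153 (flp_h L675484) q15861, e3 q16154 (flp_h L675486) q13990, e3 q16155 L675515 q15046, e3 q16156 L696637 q18227, e3 q16157 (flp_h L675533) q13998, e3 q16158 L696676 q18230,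 e3 q16159 (flp_h L675561) q13999, e3 q16160 L675582 q14009, e3 q16161 L675595 q14119, e3 q16162 L675606 q14011, e3 q16163 L675619 q14121, e3 q16164 L675627 q14013, e3 q16165 L675644 q14014, e3 q16166 L696828 q18242, e3 q16167 L696840 q18243, e3 q16168 L696855 q18244, e3 q16169 (flp_h L675685) q14006, e3 q16170 (flp_h L675698) q14007, e3 q16171 (flp_h L696700) q18231, e3 q16172 L675735 q14133, e3 q16173 (flp_h L696723) q18233, e3 q16174 (flp_h L696736) q18234, e3 q16175 L696990 q18255, e3 q16176 (flp_h L696757) q18236, e3 q16177 (flp_h L696775) q18237, e3 q16178 L697052 q18260, e3 q16179 L675808 q15171, e3 q16180 L675826 q15170, e3 q16181 L697105 q18264, e3 q16182 (flp_h L696811) q18240, e3 q16183 L697125 q18266, e3 q16184 (flp_h L675861) q14015, e3 q16185 L697135 q18267, e3 q16186 L697150 q18268, e3 q16187 (flp_h L675900) q14018, e3 q16188 (flp_h L675909) q14019, e3 q16189 L675929 q16189, e3 q16190 L697213 q18273, e3 q16191 (flp_h L675942) q14022, trivial⟩ (by decide +kernel)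

theorem ce_h_253 : ∀ r, r < 64 → sm gh (Qf (16192 + r)) = Qf (tab Gen.h (16192 + r)) :=
  edges_tab (sm gh) Qf (tab Gen.h) 16192 [(16192, 18274), (16193, 14024), (16194, 18270), (16195, 14167), (16196, 16196), (16197, 18278), (16198, 16198), (16199, 16199), (16200, 18283), (16201, 18284), (16202, 14032), (16203, 18285), (16204, 14034), (16205, 18286), (16206, 14036), (16207, 18288), (16208, 14039), (16209, 18269), (16210, 18291), (16211, 14043), (16212, 16212), (16213, 18293), (16214, 18294), (16215, 14046), (16216, 14047), (16217, 14049), (16218, 14051), (16219, 14729), (16220, 14053), (16221, 14627), (16222, 14623), (16223, 18299), (16224, 14056), (16225, 14057), (16226, 14064), (16227, 15615), (16228, 18305), (16229, 18306), (16230, 14061), (16231, 18300), (16232, 15265), (16233, 18302), (16234, 15266), (16235, 14697), (16236, 14743), (16237, 18317), (16238, 18318), (16239, 18319), (16240, 14068), (16241, 16241), (16242, 18321), (16243, 14071), (16244, 14072), (16245, 14073), (16246, 14076), (16247, 14077), (16248, 14087),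 (16249, 15967), (16250, 14089), (16251, 15968), (16252, 14091), (16253, 14092), (16254, 18334), (16255, 18335)]
    ⟨e3 q16192 L697226 q18274, e3 q16193 (flp_h L675968) q14024, e3 q16194 (flp_h L697187) q18270, e3 q16195 L676007 q14167, e3 q16196 L676021 q16196, e3 q16197 L697276 q18278, e3 q16198 L676048 q16198, e3 q16199 L676063 q16199, e3 q16200 L697345 q18283, e3 q16201 L697356 q18284, e3 q16202 (flp_h L676090) q14032, e3 q16203 L697372 q18285, e3 q16204 (flp_h L676115) q14034, e3 q16205 L697385 q18286, e3 q16206 (flp_h L676141) q14036, e3 q16207 L697408 q18288, e3 q16208 (flp_h L676167) q14039, e3 q16209 (flp_h L697174) q18269, e3 q16210 L697450 q18291, e3 q16211 (flp_h L676205) q14043, e3 q16212 L676229 q16212, e3 q16213 L697483 q18293, e3 q16214 L697496 q18294, e3 q16215 (flp_h L676261) q14046, e3 q16216 (flp_h L676271) q14047, e3 q16217 (flp_h L676284) q14049, e3 q16218 (flp_h L676296) q14051, e3 q16219 L676316 q14729, e3 q16220 (flp_h L676318) q14053, e3 q16221 L676342 q14627, e3 q16222 L676356 q14623, e3 q16223 L697578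 q18299, e3 q16224 (flp_h L676380) q14056, e3 q16225 (flp_h L676394) q14057, e3 q16226 L676416 q14064, e3 q16227 L676431 q15615, e3 q16228 L697667 q18305, e3 q16229 L697684 q18306, e3 q16230 (flp_h L676464) q14061, e3 q16231 (flp_h L697606) q18300, e3 q16232 L676498 q15265, e3 q16233 (flp_h L697635) q18302, e3 q16234 L676523 q15266, e3 q16235 L676531 q14697, e3 q16236 L676550 q14743, e3 q16237 L697828 q18317, e3 q16238 L697838 q18318, e3 q16239 L697853 q18319, e3 q16240 (flp_h L676593) q14068, e3 q16241 L676614 q16241, e3 q16242 L697884 q18321, e3 q16243 (flp_h L676633) q14071, e3 q16244 (flp_h L676650) q14072, e3 q16245 (flp_h L676666) q14073, e3 q16246 (flp_h L676680) q14076, e3 q16247 (flp_h L676692) q14077, e3 q16248 L676709 q14087, e3 q16249 L676720 q15967, e3 q16250 L676729 q14089, e3 q16251 L676744 q15968, e3 q16252 L676754 q14091, e3 q16253 L676773 q14092, e3 q16254 L698054 q18334, e3 q16255 L698064 q18335, trivial⟩ (by decide +kernel)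

theorem ce_h_254 : ∀ r, r < 64 → sm gh (Qf (16256 + r)) = Qf (tab Gen.h (16256 + r)) :=
  edges_tab (sm gh) Qf (tab Gen.h) 16256 [(16256, 18336), (16257, 14084), (16258, 14085), (16259, 18325), (16260, 15759), (16261, 18327), (16262, 18328), (16263, 18345), (16264, 18346), (16265, 18347), (16266, 18332), (16267, 18350), (16268, 14093), (16269, 14094), (16270, 15590), (16271, 18354), (16272, 14096), (16273, 16273), (16274, 18358), (16275, 14099), (16276, 16276), (16277, 18361), (16278, 14102), (16279, 18355), (16280, 18363), (16281, 14105), (16282, 15954), (16283, 18364), (16284, 14110), (16285, 14111), (16286, 18351), (16287, 14114), (16288, 15729), (16289, 18229), (16290, 14116), (16291, 14132), (16292, 18232), (16293, 14134), (16294, 14135), (16295, 18381), (16296, 14137), (16297, 14138), (16298, 18386), (16299, 14140), (16300, 14141), (16301, 18390), (16302, 14143), (16303, 18393), (16304, 14124), (16305, 18394), (16306, 18395), (16307, 14127), (16308, 14152), (16309, 18399), (16310, 14129), (16311, 18371), (16312, 18246),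 (16313, 18373), (16314, 18374), (16315, 18408), (16316, 18376), (16317, 18377), (16318, 18415), (16319, 18379)]
    ⟨e3 q16256 L698079 q18336, e3 q16257 (flp_h L676812) q14084, e3 q16258 (flp_h L676823) q14085, e3 q16259 (flp_h L697948) q18325, e3 q16260 L676858 q15759, e3 q16261 (flp_h L697973) q18327, e3 q16262 (flp_h L697984) q18328, e3 q16263 L698196 q18345, e3 q16264 L698206 q18346, e3 q16265 L698219 q18347, e3 q16266 (flp_h L698035) q18332, e3 q16267 L698259 q18350, e3 q16268 (flp_h L676943) q14093, e3 q16269 (flp_h L676951) q14094, e3 q16270 L676976 q15590, e3 q16271 L698315 q18354, e3 q16272 (flp_h L676993) q14096, e3 q16273 L677012 q16273, e3 q16274 L698370 q18358, e3 q16275 (flp_h L677027) q14099, e3 q16276 L677050 q16276, e3 q16277 L698409 q18361, e3 q16278 (flp_h L677064) q14102, e3 q16279 (flp_h L698339) q18355, e3 q16280 L698436 q18363, e3 q16281 (flp_h L677099) q14105, e3 q16282 L677124 q15954, e3 q16283 L698450 q18364, e3 q16284 (flp_h L677142) q14110, e3 q16285 (flp_h L677158) q14111, e3 q16286 (flp_h L698284)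 q18351, e3 q16287 (flp_h L677187) q14114, e3 q16288 L677206 q15729, e3 q16289 (flp_h L696674) q18229, e3 q16290 (flp_h L677218) q14116, e3 q16291 L677238 q14132, e3 q16292 (flp_h L696713) q18232, e3 q16293 L677255 q14134, e3 q16294 L677264 q14135, e3 q16295 L698632 q18381, e3 q16296 L677283 q14137, e3 q16297 L677299 q14138, e3 q16298 L698695 q18386, e3 q16299 L677316 q14140, e3 q16300 L677336 q14141, e3 q16301 L698749 q18390, e3 q16302 L677352 q14143, e3 q16303 L698777 q18393, e3 q16304 (flp_h L677363) q14124, e3 q16305 L698787 q18394, e3 q16306 L698802 q18395, e3 q16307 (flp_h L677400) q14127, e3 q16308 L677420 q14152, e3 q16309 L698854 q18399, e3 q16310 (flp_h L677436) q14129, e3 q16311 (flp_h L698543) q18371, e3 q16312 (flp_h L696898) q18246, e3 q16313 (flp_h L698565) q18373, e3 q16314 (flp_h L698574) q18374, e3 q16315 L698952 q18408, e3 q16316 (flp_h L698593) q18376, e3 q16317 (flp_h L698605) q18377, e3 q16318 L699028 q18415, e3 q16319 (flp_h L698620) q18379, trivial⟩ (by decide +kernel)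

theorem ce_h_255 : ∀ r, r < 64 → sm gh (Qf (16320 + r)) = Qf (tab Gen.h (16320 + r)) :=
  edges_tab (sm gh) Qf (tab Gen.h) 16320 [(16320, 18418), (16321, 14136), (16322, 18382), (16323, 18421), (16324, 18384), (16325, 18424), (16326, 14139), (16327, 14841), (16328, 14840), (16329, 18428), (16330, 18388), (16331, 18431), (16332, 14142), (16333, 18391), (16334, 18435), (16335, 14144), (16336, 18437), (16337, 18438), (16338, 14148), (16339, 15647), (16340, 18442), (16341, 14150), (16342, 14183), (16343, 18397), (16344, 18445), (16345, 14153), (16346, 14164), (16347, 16347), (16348, 18450), (16349, 14156), (16350, 16350), (16351, 18453), (16352, 14159), (16353, 18436), (16354, 18456), (16355, 14162), (16356, 18446), (16357, 18447), (16358, 14165), (16359, 16359), (16360, 18462), (16361, 14169), (16362, 16362), (16363, 16363), (16364, 18467), (16365, 18468), (16366, 18470), (16367, 14172), (16368, 14173), (16369, 16369), (16370, 18473), (16371, 14176), (16372, 18475), (16373, 14179), (16374, 18432), (16375, 14181), (16376, 18439),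 (16377, 18443), (16378, 16378), (16379, 18481), (16380, 14185), (16381, 16381), (16382, 18484), (16383, 18485)]
    ⟨e3 q16320 L699052 q18418, e3 q16321 (flp_h L677531) q14136, e3 q16322 (flp_h L698650) q18382, e3 q16323 L699088 q18421, e3 q16324 (flp_h L698679) q18384, e3 q16325 L699124 q18424, e3 q16326 (flp_h L677590) q14139, e3 q16327 L677605 q14841, e3 q16328 L677623 q14840, e3 q16329 L699183 q18428, e3 q16330 (flp_h L698729) q18388, e3 q16331 L699217 q18431, e3 q16332 (flp_h L677661) q14142, e3 q16333 (flp_h L698766) q18391, e3 q16334 L699255 q18435, e3 q16335 (flp_h L677683) q14144, e3 q16336 L699269 q18437, e3 q16337 L699284 q18438, e3 q16338 (flp_h L677721) q14148, e3 q16339 L677742 q15647, e3 q16340 L699339 q18442, e3 q16341 (flp_h L677759) q14150, e3 q16342 L677775 q14183, e3 q16343 (flp_h L698838) q18397, e3 q16344 L699376 q18445, e3 q16345 (flp_h L677796) q14153, e3 q16346 L677810 q14164, e3 q16347 L677822 q16347, e3 q16348 L699429 q18450, e3 q16349 (flp_h L677838) q14156, e3 q16350 L677858 q16350, e3 q16351 L699462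 q18453, e3 q16352 (flp_h L677867) q14159, e3 q16353 (flp_h L699267) q18436, e3 q16354 L699487 q18456, e3 q16355 (flp_h L677890) q14162, e3 q16356 (flp_h L699391) q18446, e3 q16357 (flp_h L699398) q18447, e3 q16358 (flp_h L677915) q14165, e3 q16359 L677935 q16359, e3 q16360 L699557 q18462, e3 q16361 (flp_h L677950) q14169, e3 q16362 L677971 q16362, e3 q16363 L677984 q16363, e3 q16364 L699623 q18467, e3 q16365 L699634 q18468, e3 q16366 L699661 q18470, e3 q16367 (flp_h L678023) q14172, e3 q16368 (flp_h L678032) q14173, e3 q16369 L678058 q16369, e3 q16370 L699696 q18473, e3 q16371 (flp_h L678072) q14176, e3 q16372 L699716 q18475, e3 q16373 (flp_h L678096) q14179, e3 q16374 (flp_h L699235) q18432, e3 q16375 (flp_h L678110) q14181, e3 q16376 (flp_h L699308) q18439, e3 q16377 (flp_h L699361) q18443, e3 q16378 L678152 q16378, e3 q16379 L699786 q18481, e3 q16380 (flp_h L678166) q14185, e3 q16381 L678187 q16381, e3 q16382 L699828 q18484, e3 q16383 L699838 q18485, trivial⟩ (by decide +kernel)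

theorem ce_h_256 : ∀ r, r < 64 → sm gh (Qf (16384 + r)) = Qf (tab Gen.h (16384 + r)) :=
  edges_tab (sm gh) Qf (tab Gen.h) 16384 [(16384, 14189), (16385, 14190), (16386, 14910), (16387, 18487), (16388, 14194), (16389, 14914), (16390, 14196), (16391, 14916), (16392, 14917), (16393, 18490), (16394, 14205), (16395, 18491), (16396, 18492), (16397, 14210), (16398, 14211), (16399, 18494), (16400, 14214), (16401, 15427), (16402, 14218), (16403, 18495), (16404, 14220), (16405, 18496), (16406, 14222), (16407, 15324), (16408, 14284), (16409, 14224), (16410, 14285), (16411, 15843), (16412, 14227), (16413, 14232), (16414, 14289), (16415, 18505), (16416, 14229), (16417, 14230), (16418, 18500), (16419, 14294), (16420, 18502), (16421, 18503), (16422, 18512), (16423, 14298), (16424, 18513), (16425, 14237), (16426, 15086), (16427, 14239), (16428, 14304), (16429, 14305), (16430, 18514), (16431, 14244), (16432, 14253), (16433, 14315), (16434, 14255), (16435, 14256), (16436, 18520), (16437, 14250), (16438, 15345), (16439, 14321), (16440, 15496),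 (16441, 14323), (16442, 18523), (16443, 18516), (16444, 18525), (16445, 18518), (16446, 18527), (16447, 14257)]
    ⟨e3 q16384 (flp_h L678217) q14189, e3 q16385 (flp_h L678226) q14190, e3 q16386 L678252 q14910, e3 q16387 L699866 q18487, e3 q16388 (flp_h L678264) q14194, e3 q16389 L678279 q14914, e3 q16390 (flp_h L678281) q14196, e3 q16391 L678296 q14916, e3 q16392 L678303 q14917, e3 q16393 L699900 q18490, e3 q16394 (flp_h L678328) q14205, e3 q16395 L699918 q18491, e3 q16396 L699934 q18492, e3 q16397 (flp_h L678376) q14210, e3 q16398 (flp_h L678387) q14211, e3 q16399 L699967 q18494, e3 q16400 (flp_h L678417) q14214, e3 q16401 (flp_h L678445) q15427, e3 q16402 (flp_h L678447) q14218, e3 q16403 L699985 q18495, e3 q16404 (flp_h L678474) q14220, e3 q16405 L700003 q18496, e3 q16406 (flp_h L678506) q14222, e3 q16407 L678531 q15324, e3 q16408 L678548 q14284, e3 q16409 (flp_h L678550) q14224, e3 q16410 L678578 q14285, e3 q16411 (flp_h L678596) q15843, e3 q16412 (flp_h L678598) q14227, e3 q16413 L678622 q14232, e3 q16414 L678636 q14289,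 e3 q16415 L700153 q18505, e3 q16416 (flp_h L678655) q14229, e3 q16417 (flp_h L678668) q14230, e3 q16418 (flp_h L700085) q18500, e3 q16419 L678704 q14294, e3 q16420 (flp_h L700117) q18502, e3 q16421 (flp_h L700136) q18503, e3 q16422 L700269 q18512, e3 q16423 L678761 q14298, e3 q16424 L700279 q18513, e3 q16425 (flp_h L678779) q14237, e3 q16426 (flp_h L678805) q15086, e3 q16427 (flp_h L678807) q14239, e3 q16428 L678833 q14304, e3 q16429 L678848 q14305, e3 q16430 L700296 q18514, e3 q16431 (flp_h L678864) q14244, e3 q16432 L678886 q14253, e3 q16433 L678900 q14315, e3 q16434 L678908 q14255, e3 q16435 L678915 q14256, e3 q16436 L700375 q18520, e3 q16437 (flp_h L678926) q14250, e3 q16438 L678953 q15345, e3 q16439 L678968 q14321, e3 q16440 L678986 q15496, e3 q16441 L679000 q14323, e3 q16442 L700419 q18523, e3 q16443 (flp_h L700336) q18516, e3 q16444 L700439 q18525, e3 q16445 (flp_h L700362) q18518, e3 q16446 L700463 q18527, e3 q16447 (flp_h L679052) q14257, trivial⟩ (by decide +kernel)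

theorem ce_h_257 : ∀ r, r < 64 → sm gh (Qf (16448 + r)) = Qf (tab Gen.h (16448 + r)) :=
  edges_tab (sm gh) Qf (tab Gen.h) 16448 [(16448, 15835), (16449, 14260), (16450, 18528), (16451, 14262), (16452, 14264), (16453, 15426), (16454, 14271), (16455, 18530), (16456, 14273), (16457, 18532), (16458, 14278), (16459, 14283), (16460, 15325), (16461, 18506), (16462, 18498), (16463, 15344), (16464, 18537), (16465, 14286), (16466, 14293), (16467, 18501), (16468, 14295), (16469, 14296), (16470, 18546), (16471, 18166), (16472, 18497), (16473, 18507), (16474, 18538), (16475, 18508), (16476, 18540), (16477, 18535), (16478, 18552), (16479, 18542), (16480, 18543), (16481, 18555), (16482, 18556), (16483, 14297), (16484, 16484), (16485, 18558), (16486, 14300), (16487, 14301), (16488, 16488), (16489, 18561), (16490, 14307), (16491, 18562), (16492, 14309), (16493, 14311), (16494, 14320), (16495, 15811), (16496, 14322), (16497, 15846), (16498, 14324), (16499, 14325), (16500, 18568), (16501, 14327), (16502, 14328), (16503, 18571), (16504, 14330),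 (16505, 18573), (16506, 14318), (16507, 18127), (16508, 18575), (16509, 18576), (16510, 18550), (16511, 18578)]
    ⟨e3 q16448 (flp_h L679077) q15835, e3 q16449 (flp_h L679079) q14260, e3 q16450 L700469 q18528, e3 q16451 (flp_h L679107) q14262, e3 q16452 (flp_h L679114) q14264, e3 q16453 (flp_h L679147) q15426, e3 q16454 (flp_h L679149) q14271, e3 q16455 L700493 q18530, e3 q16456 (flp_h L679174) q14273, e3 q16457 L700519 q18532, e3 q16458 (flp_h L679196) q14278, e3 q16459 L679221 q14283, e3 q16460 L679236 q15325, e3 q16461 (flp_h L700184) q18506, e3 q16462 (flp_h L700055) q18498, e3 q16463 L679271 q15344, e3 q16464 L700593 q18537, e3 q16465 (flp_h L679284) q14286, e3 q16466 L679300 q14293, e3 q16467 (flp_h L700105) q18501, e3 q16468 L679318 q14295, e3 q16469 L679327 q14296, e3 q16470 L700713 q18546, e3 q16471 (flp_h L695756) q18166, e3 q16472 (flp_h L700036) q18497, e3 q16473 (flp_h L700201) q18507, e3 q16474 (flp_h L700613) q18538, e3 q16475 (flp_h L700219) q18508, e3 q16476 (flp_h L700645) q18540, e3 q16477 (flp_h L700576)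 q18535, e3 q16478 L700793 q18552, e3 q16479 (flp_h L700667) q18542, e3 q16480 (flp_h L700687) q18543, e3 q16481 L700820 q18555, e3 q16482 L700830 q18556, e3 q16483 (flp_h L679473) q14297, e3 q16484 L679490 q16484, e3 q16485 L700852 q18558, e3 q16486 (flp_h L679507) q14300, e3 q16487 (flp_h L679520) q14301, e3 q16488 L679539 q16488, e3 q16489 L700889 q18561, e3 q16490 (flp_h L679554) q14307, e3 q16491 L700905 q18562, e3 q16492 (flp_h L679575) q14309, e3 q16493 (flp_h L679587) q14311, e3 q16494 L679610 q14320, e3 q16495 L679625 q15811, e3 q16496 L679635 q14322, e3 q16497 L679653 q15846, e3 q16498 L679661 q14324, e3 q16499 L679674 q14325, e3 q16500 L700977 q18568, e3 q16501 L679692 q14327, e3 q16502 L679708 q14328, e3 q16503 L701012 q18571, e3 q16504 L679728 q14330, e3 q16505 L701033 q18573, e3 q16506 (flp_h L679739) q14318, e3 q16507 (flp_h L695199) q18127, e3 q16508 L701048 q18575, e3 q16509 L701054 q18576, e3 q16510 (flp_h L700773) q18550, e3 q16511 L701079 q18578, trivial⟩ (by decide +kernel)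

theorem ce_h_258 : ∀ r, r < 64 → sm gh (Qf (16512 + r)) = Qf (tab Gen.h (16512 + r)) :=
  edges_tab (sm gh) Qf (tab Gen.h) 16512 [(16512, 18579), (16513, 14326), (16514, 15317), (16515, 15309), (16516, 18582), (16517, 18110), (16518, 18584), (16519, 14329), (16520, 18112), (16521, 18587), (16522, 14331), (16523, 14333), (16524, 16524), (16525, 15817), (16526, 14336), (16527, 18588), (16528, 14341), (16529, 18593), (16530, 14344), (16531, 18585), (16532, 14346), (16533, 14348), (16534, 18596), (16535, 14351), (16536, 18597), (16537, 14355), (16538, 16538), (16539, 18599), (16540, 14358), (16541, 18600), (16542, 14360), (16543, 14362), (16544, 16544), (16545, 18601), (16546, 18602), (16547, 14367), (16548, 15863), (16549, 14369), (16550, 18298), (16551, 18489), (16552, 18296), (16553, 14375), (16554, 15547), (16555, 14377), (16556, 18603), (16557, 14379), (16558, 15864), (16559, 14382), (16560, 16560), (16561, 14384), (16562, 14489), (16563, 18605), (16564, 14386), (16565, 14387), (16566, 18212), (16567, 14494), (16568, 18611),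 (16569, 14497), (16570, 18612), (16571, 14393), (16572, 14394), (16573, 14401), (16574, 14503), (16575, 14403)]
    ⟨e3 q16512 L701089 q18579, e3 q16513 (flp_h L679809) q14326, e3 q16514 L679825 q15317, e3 q16515 L679841 q15309, e3 q16516 L701130 q18582, e3 q16517 (flp_h L694916) q18110, e3 q16518 L701153 q18584, e3 q16519 (flp_h L679876) q14329, e3 q16520 (flp_h L694950) q18112, e3 q16521 L701179 q18587, e3 q16522 (flp_h L679900) q14331, e3 q16523 (flp_h L679906) q14333, e3 q16524 L679929 q16524, e3 q16525 (flp_h L679943) q15817, e3 q16526 (flp_h L679945) q14336, e3 q16527 (flp_h L701191) q18588, e3 q16528 (flp_h L679962) q14341, e3 q16529 L701228 q18593, e3 q16530 (flp_h L679987) q14344, e3 q16531 (flp_h L701167) q18585, e3 q16532 (flp_h L680008) q14346, e3 q16533 (flp_h L680023) q14348, e3 q16534 L701261 q18596, e3 q16535 (flp_h L680058) q14351, e3 q16536 L701279 q18597, e3 q16537 (flp_h L680089) q14355, e3 q16538 L680112 q16538, e3 q16539 L701313 q18599, e3 q16540 (flp_h L680132) q14358, e3 q16541 L701329 q18600, e3 q16542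 (flp_h L680158) q14360, e3 q16543 (flp_h L680170) q14362, e3 q16544 L680197 q16544, e3 q16545 L701347 q18601, e3 q16546 L701364 q18602, e3 q16547 (flp_h L680231) q14367, e3 q16548 (flp_h L680254) q15863, e3 q16549 (flp_h L680256) q14369, e3 q16550 (flp_h L697572) q18298, e3 q16551 (flp_h L699893) q18489, e3 q16552 (flp_h L697540) q18296, e3 q16553 (flp_h L680316) q14375, e3 q16554 (flp_h L680338) q15547, e3 q16555 (flp_h L680340) q14377, e3 q16556 L701383 q18603, e3 q16557 (flp_h L680362) q14379, e3 q16558 L680387 q15864, e3 q16559 (flp_h L680389) q14382, e3 q16560 L680417 q16560, e3 q16561 (flp_h L680418) q14384, e3 q16562 L680444 q14489, e3 q16563 L701415 q18605, e3 q16564 (flp_h L680463) q14386, e3 q16565 (flp_h L680476) q14387, e3 q16566 (flp_h L696457) q18212, e3 q16567 L680506 q14494, e3 q16568 L701494 q18611, e3 q16569 L680531 q14497, e3 q16570 L701504 q18612, e3 q16571 (flp_h L680550) q14393, e3 q16572 (flp_h L680563) q14394, e3 q16573 L680579 q14401, e3 q16574 L680589 q14503, e3 q16575 L680597 q14403, trivial⟩ (by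 decide +kernel)

theorem ce_h_259 : ∀ r, r < 64 → sm gh (Qf (16576 + r)) = Qf (tab Gen.h (16576 + r)) :=
  edges_tab (sm gh) Qf (tab Gen.h) 16576 [(16576, 14404), (16577, 18622), (16578, 18623), (16579, 14398), (16580, 18613), (16581, 14510), (16582, 18615), (16583, 14512), (16584, 18617), (16585, 18618), (16586, 18633), (16587, 14576), (16588, 18635), (16589, 18636), (16590, 14405), (16591, 16591), (16592, 18638), (16593, 14408), (16594, 14409), (16595, 14411), (16596, 14529), (16597, 16597), (16598, 18642), (16599, 18643), (16600, 14417), (16601, 15836), (16602, 14419), (16603, 14421), (16604, 14422), (16605, 14432), (16606, 14546), (16607, 14434), (16608, 14548), (16609, 14436), (16610, 14437), (16611, 18657), (16612, 14439), (16613, 14440), (16614, 18660), (16615, 14442), (16616, 18663), (16617, 14429), (16618, 14430), (16619, 18647), (16620, 14560), (16621, 18649), (16622, 18650), (16623, 18673), (16624, 18674), (16625, 18653), (16626, 18676), (16627, 18655), (16628, 18679), (16629, 14438), (16630, 18155), (16631, 18154),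 (16632, 18682), (16633, 15494), (16634, 18685), (16635, 14441), (16636, 18661), (16637, 18688), (16638, 14443), (16639, 14445)]
    ⟨e3 q16576 L680612 q14404, e3 q16577 L701636 q18622, e3 q16578 L701646 q18623, e3 q16579 (flp_h L680643) q14398, e3 q16580 (flp_h L701529) q18613, e3 q16581 L680675 q14510, e3 q16582 (flp_h L701554) q18615, e3 q16583 L680699 q14512, e3 q16584 (flp_h L701580) q18617, e3 q16585 (flp_h L701599) q18618, e3 q16586 L701772 q18633, e3 q16587 L680741 q14576, e3 q16588 L701794 q18635, e3 q16589 L701802 q18636, e3 q16590 (flp_h L680763) q14405, e3 q16591 L680781 q16591, e3 q16592 L701824 q18638, e3 q16593 (flp_h L680798) q14408, e3 q16594 (flp_h L680809) q14409, e3 q16595 (flp_h L680820) q14411, e3 q16596 L680846 q14529, e3 q16597 L680860 q16597, e3 q16598 L701881 q18642, e3 q16599 L701895 q18643, e3 q16600 (flp_h L680886) q14417, e3 q16601 (flp_h L680907) q15836, e3 q16602 (flp_h L680909) q14419, e3 q16603 (flp_h L680922) q14421, e3 q16604 (flp_h L680934) q14422, e3 q16605 L680951 q14432, e3 q16606 L680960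 q14546, e3 q16607 L680970 q14434, e3 q16608 L680982 q14548, e3 q16609 L680988 q14436, e3 q16610 L680995 q14437, e3 q16611 L702036 q18657, e3 q16612 L681009 q14439, e3 q16613 L681017 q14440, e3 q16614 L702065 q18660, e3 q16615 L681039 q14442, e3 q16616 L702101 q18663, e3 q16617 (flp_h L681048) q14429, e3 q16618 (flp_h L681056) q14430, e3 q16619 (flp_h L701958) q18647, e3 q16620 L681086 q14560, e3 q16621 (flp_h L701979) q18649, e3 q16622 (flp_h L701986) q18650, e3 q16623 L702193 q18673, e3 q16624 L702201 q18674, e3 q16625 (flp_h L702013) q18653, e3 q16626 L702215 q18676, e3 q16627 (flp_h L702027) q18655, e3 q16628 L702239 q18679, e3 q16629 (flp_h L681142) q14438, e3 q16630 (flp_h L695610) q18155, e3 q16631 (flp_h L695594) q18154, e3 q16632 L702267 q18682, e3 q16633 L681172 q15494, e3 q16634 L702299 q18685, e3 q16635 (flp_h L681182) q14441, e3 q16636 (flp_h L702084) q18661, e3 q16637 L702327 q18688, e3 q16638 (flp_h L681210) q14443, e3 q16639 (flp_h L681214) q14445, trivial⟩ (by decide +kernel)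

theorem ce_h_260 : ∀ r, r < 64 → sm gh (Qf (16640 + r)) = Qf (tab Gen.h (16640 + r)) :=
  edges_tab (sm gh) Qf (tab Gen.h) 16640 [(16640, 16640), (16641, 18691), (16642, 14447), (16643, 18693), (16644, 14450), (16645, 18689), (16646, 14452), (16647, 14594), (16648, 16648), (16649, 18697), (16650, 16650), (16651, 16651), (16652, 18701), (16653, 18702), (16654, 14459), (16655, 14460), (16656, 18703), (16657, 14462), (16658, 15865), (16659, 14465), (16660, 18686), (16661, 18295), (16662, 14469), (16663, 16663), (16664, 16664), (16665, 18709), (16666, 18482), (16667, 14472), (16668, 14473), (16669, 15546), (16670, 18710), (16671, 14479), (16672, 14481), (16673, 15364), (16674, 14485), (16675, 14486), (16676, 14493), (16677, 18604), (16678, 18715), (16679, 14490), (16680, 18711), (16681, 18607), (16682, 18683), (16683, 18609), (16684, 15485), (16685, 18724), (16686, 15444), (16687, 18726), (16688, 14496), (16689, 18727), (16690, 14498), (16691, 14499), (16692, 14509), (16693, 18614), (16694, 14511), (16695, 18616), (16696, 14513),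 (16697, 14514), (16698, 18742), (16699, 14516), (16700, 14517), (16701, 18745), (16702, 18746), (16703, 14506)]
    ⟨e3 q16640 L681237 q16640, e3 q16641 L702357 q18691, e3 q16642 (flp_h L681248) q14447, e3 q16643 L702371 q18693, e3 q16644 (flp_h L681269) q14450, e3 q16645 (flp_h L702339) q18689, e3 q16646 (flp_h L681283) q14452, e3 q16647 L681312 q14594, e3 q16648 L681326 q16648, e3 q16649 L702428 q18697, e3 q16650 L681351 q16650, e3 q16651 L681364 q16651, e3 q16652 L702481 q18701, e3 q16653 L702490 q18702, e3 q16654 (flp_h L681389) q14459, e3 q16655 (flp_h L681400) q14460, e3 q16656 L702505 q18703, e3 q16657 (flp_h L681419) q14462, e3 q16658 (flp_h L681438) q15865, e3 q16659 (flp_h L681440) q14465, e3 q16660 (flp_h L702311) q18686, e3 q16661 (flp_h L697525) q18295, e3 q16662 (flp_h L681475) q14469, e3 q16663 L681499 q16663, e3 q16664 L681509 q16664, e3 q16665 L702576 q18709, e3 q16666 (flp_h L699811) q18482, e3 q16667 (flp_h L681541) q14472, e3 q16668 (flp_h L681555) q14473, e3 q16669 (flp_h L681575) q15546, e3 q16670 L702589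 q18710, e3 q16671 (flp_h L681584) q14479, e3 q16672 (flp_h L681595) q14481, e3 q16673 L681618 q15364, e3 q16674 (flp_h L681622) q14485, e3 q16675 (flp_h L681636) q14486, e3 q16676 L681657 q14493, e3 q16677 (flp_h L701413) q18604, e3 q16678 L702658 q18715, e3 q16679 (flp_h L681682) q14490, e3 q16680 (flp_h L702617) q18711, e3 q16681 (flp_h L701455) q18607, e3 q16682 (flp_h L702285) q18683, e3 q16683 (flp_h L701482) q18609, e3 q16684 L681745 q15485, e3 q16685 L702760 q18724, e3 q16686 L681761 q15444, e3 q16687 L702777 q18726, e3 q16688 (flp_h L681776) q14496, e3 q16689 L702787 q18727, e3 q16690 (flp_h L681798) q14498, e3 q16691 (flp_h L681810) q14499, e3 q16692 L681827 q14509, e3 q16693 (flp_h L701544) q18614, e3 q16694 L681844 q14511, e3 q16695 (flp_h L701570) q18616, e3 q16696 L681860 q14513, e3 q16697 L681869 q14514, e3 q16698 L702953 q18742, e3 q16699 L681885 q14516, e3 q16700 L681901 q14517, e3 q16701 L702988 q18745, e3 q16702 L702998 q18746, e3 q16703 (flp_h L681921) q14506, trivial⟩ (by decide +kernel)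

theorem ce_h_261 : ∀ r, r < 64 → sm gh (Qf (16704 + r)) = Qf (tab Gen.h (16704 + r)) :=
  edges_tab (sm gh) Qf (tab Gen.h) 16704 [(16704, 14507), (16705, 18730), (16706, 18625), (16707, 18732), (16708, 18733), (16709, 18757), (16710, 18735), (16711, 18722), (16712, 18761), (16713, 18737), (16714, 18738), (16715, 18766), (16716, 18740), (16717, 18768), (16718, 14515), (16719, 15410), (16720, 15409), (16721, 18771), (16722, 18772), (16723, 14518), (16724, 14519), (16725, 16725), (16726, 18777), (16727, 14522), (16728, 18778), (16729, 14524), (16730, 18774), (16731, 18640), (16732, 16732), (16733, 16733), (16734, 18784), (16735, 16735), (16736, 18786), (16737, 18787), (16738, 14532), (16739, 16739), (16740, 18789), (16741, 14534), (16742, 16742), (16743, 18791), (16744, 14536), (16745, 18793), (16746, 14539), (16747, 18773), (16748, 14541), (16749, 14799), (16750, 18646), (16751, 14543), (16752, 14559), (16753, 18648), (16754, 14561), (16755, 14562), (16756, 18811), (16757, 14564), (16758, 14565), (16759, 18815), (16760, 14567),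 (16761, 14568), (16762, 18819), (16763, 14570), (16764, 18822), (16765, 14551), (16766, 18823), (16767, 18824)]
    ⟨e3 q16704 (flp_h L681929) q14507, e3 q16705 (flp_h L702834) q18730, e3 q16706 (flp_h L701684) q18625, e3 q16707 (flp_h L702853) q18732, e3 q16708 (flp_h L702862) q18733, e3 q16709 L703100 q18757, e3 q16710 (flp_h L702884) q18735, e3 q16711 (flp_h L702745) q18722, e3 q16712 L703144 q18761, e3 q16713 (flp_h L702904) q18737, e3 q16714 (flp_h L702924) q18738, e3 q16715 L703192 q18766, e3 q16716 (flp_h L702942) q18740, e3 q16717 L703208 q18768, e3 q16718 (flp_h L682060) q14515, e3 q16719 L682074 q15410, e3 q16720 L682086 q15409, e3 q16721 L703239 q18771, e3 q16722 L703245 q18772, e3 q16723 (flp_h L682106) q14518, e3 q16724 (flp_h L682114) q14519, e3 q16725 L682129 q16725, e3 q16726 L703294 q18777, e3 q16727 (flp_h L682145) q14522, e3 q16728 L703308 q18778, e3 q16729 (flp_h L682168) q14524, e3 q16730 (flp_h L703265) q18774, e3 q16731 (flp_h L701865) q18640, e3 q16732 L682202 q16732, e3 q16733 L682210 q16733, e3 q16734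 L703371 q18784, e3 q16735 L682233 q16735, e3 q16736 L703392 q18786, e3 q16737 L703403 q18787, e3 q16738 (flp_h L682257) q14532, e3 q16739 L682274 q16739, e3 q16740 L703430 q18789, e3 q16741 (flp_h L682289) q14534, e3 q16742 L682308 q16742, e3 q16743 L703456 q18791, e3 q16744 (flp_h L682319) q14536, e3 q16745 L703474 q18793, e3 q16746 (flp_h L682339) q14539, e3 q16747 (flp_h L703259) q18773, e3 q16748 (flp_h L682355) q14541, e3 q16749 L682374 q14799, e3 q16750 (flp_h L701946) q18646, e3 q16751 (flp_h L682386) q14543, e3 q16752 L682405 q14559, e3 q16753 (flp_h L701971) q18648, e3 q16754 L682420 q14561, e3 q16755 L682427 q14562, e3 q16756 L703646 q18811, e3 q16757 L682443 q14564, e3 q16758 L682456 q14565, e3 q16759 L703685 q18815, e3 q16760 L682472 q14567, e3 q16761 L682488 q14568, e3 q16762 L703728 q18819, e3 q16763 L682502 q14570, e3 q16764 L703748 q18822, e3 q16765 (flp_h L682511) q14551, e3 q16766 L703756 q18823, e3 q16767 L703770 q18824, trivial⟩ (by decide +kernel)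

theorem ce_h_262 : ∀ r, r < 64 → sm gh (Qf (16768 + r)) = Qf (tab Gen.h (16768 + r)) :=
  edges_tab (sm gh) Qf (tab Gen.h) 16768 [(16768, 14554), (16769, 14579), (16770, 18827), (16771, 14556), (16772, 18801), (16773, 18665), (16774, 18803), (16775, 18804), (16776, 18835), (16777, 18806), (16778, 18807), (16779, 18842), (16780, 18809), (16781, 18845), (16782, 14563), (16783, 18762), (16784, 18848), (16785, 18813), (16786, 18850), (16787, 14566), (16788, 15404), (16789, 15377), (16790, 18854), (16791, 18817), (16792, 18857), (16793, 14569), (16794, 18820), (16795, 18861), (16796, 14571), (16797, 18863), (16798, 18864), (16799, 14575), (16800, 18146), (16801, 18867), (16802, 14577), (16803, 14610), (16804, 18149), (16805, 18871), (16806, 14580), (16807, 14591), (16808, 18874), (16809, 14583), (16810, 16810), (16811, 18877), (16812, 14586), (16813, 18862), (16814, 15862), (16815, 14589), (16816, 18872), (16817, 18873), (16818, 16818), (16819, 18885), (16820, 18886), (16821, 14597), (16822, 16822), (16823, 16823), (16824, 18891),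 (16825, 18892), (16826, 18894), (16827, 14600), (16828, 14601), (16829, 14603), (16830, 18898), (16831, 14606)]
    ⟨e3 q16768 (flp_h L682540) q14554, e3 q16769 L682553 q14579, e3 q16770 L703794 q18827, e3 q16771 (flp_h L682562) q14556, e3 q16772 (flp_h L703560) q18801, e3 q16773 (flp_h L702135) q18665, e3 q16774 (flp_h L703583) q18803, e3 q16775 (flp_h L703592) q18804, e3 q16776 L703861 q18835, e3 q16777 (flp_h L703611) q18806, e3 q16778 (flp_h L703623) q18807, e3 q16779 L703927 q18842, e3 q16780 (flp_h L703636) q18809, e3 q16781 L703951 q18845, e3 q16782 (flp_h L682650) q14563, e3 q16783 (flp_h L703162) q18762, e3 q16784 L703979 q18848, e3 q16785 (flp_h L703672) q18813, e3 q16786 L703999 q18850, e3 q16787 (flp_h L682699) q14566, e3 q16788 L682713 q15404, e3 q16789 L682729 q15377, e3 q16790 L704051 q18854, e3 q16791 (flp_h L703714) q18817, e3 q16792 L704075 q18857, e3 q16793 (flp_h L682758) q14569, e3 q16794 (flp_h L703739) q18820, e3 q16795 L704103 q18861, e3 q16796 (flp_h L682776) q14571, e3 q16797 L704113 q18863, e3 q16798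 L704125 q18864, e3 q16799 (flp_h L682805) q14575, e3 q16800 (flp_h L695495) q18146, e3 q16801 L704154 q18867, e3 q16802 (flp_h L682827) q14577, e3 q16803 L682837 q14610, e3 q16804 (flp_h L695537) q18149, e3 q16805 L704179 q18871, e3 q16806 (flp_h L682853) q14580, e3 q16807 L682861 q14591, e3 q16808 L704195 q18874, e3 q16809 (flp_h L682874) q14583, e3 q16810 L682893 q16810, e3 q16811 L704227 q18877, e3 q16812 (flp_h L682903) q14586, e3 q16813 (flp_h L704111) q18862, e3 q16814 (flp_h L682925) q15862, e3 q16815 (flp_h L682927) q14589, e3 q16816 (flp_h L704189) q18872, e3 q16817 (flp_h L704193) q18873, e3 q16818 L682954 q16818, e3 q16819 L704297 q18885, e3 q16820 L704308 q18886, e3 q16821 (flp_h L682977) q14597, e3 q16822 L682996 q16822, e3 q16823 L683007 q16823, e3 q16824 L704368 q18891, e3 q16825 L704381 q18892, e3 q16826 L704398 q18894, e3 q16827 (flp_h L683037) q14600, e3 q16828 (flp_h L683046) q14601, e3 q16829 (flp_h L683056) q14603, e3 q16830 L704438 q18898, e3 q16831 (flp_h L683079) q14606, trivial⟩ (by decide +kernel)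

theorem ce_h_263 : ∀ r, r < 64 → sm gh (Qf (16832 + r)) = Qf (tab Gen.h (16832 + r)) :=
  edges_tab (sm gh) Qf (tab Gen.h) 16832 [(16832, 18858), (16833, 14608), (16834, 18865), (16835, 18869), (16836, 14611), (16837, 16837), (16838, 18902), (16839, 18903), (16840, 14615), (16841, 14616), (16842, 14911), (16843, 14619), (16844, 18297), (16845, 14626), (16846, 14630), (16847, 16847), (16848, 18905), (16849, 14632), (16850, 18906), (16851, 14635), (16852, 14637), (16853, 16853), (16854, 14641), (16855, 15578), (16856, 14740), (16857, 15584), (16858, 14742), (16859, 15114), (16860, 18916), (16861, 18917), (16862, 14647), (16863, 14649), (16864, 15575), (16865, 14761), (16866, 15579), (16867, 18924), (16868, 15585), (16869, 18926), (16870, 15592), (16871, 18928), (16872, 14656), (16873, 14657), (16874, 18930), (16875, 14660), (16876, 18931), (16877, 14662), (16878, 18929), (16879, 14785), (16880, 14667), (16881, 18645), (16882, 14800), (16883, 14669), (16884, 14680), (16885, 14803), (16886, 14683), (16887, 18944), (16888, 14686),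 (16889, 18947), (16890, 14691), (16891, 18949), (16892, 14676), (16893, 14677), (16894, 18938), (16895, 14824)]
    ⟨e3 q16832 (flp_h L704087) q18858, e3 q16833 (flp_h L683096) q14608, e3 q16834 (flp_h L704143) q18865, e3 q16835 (flp_h L704167) q18869, e3 q16836 (flp_h L683117) q14611, e3 q16837 L683137 q16837, e3 q16838 L704481 q18902, e3 q16839 L704495 q18903, e3 q16840 (flp_h L683167) q14615, e3 q16841 (flp_h L683180) q14616, e3 q16842 L683204 q14911, e3 q16843 (flp_h L683206) q14619, e3 q16844 (flp_h L697555) q18297, e3 q16845 (flp_h L683235) q14626, e3 q16846 (flp_h L683245) q14630, e3 q16847 L683268 q16847, e3 q16848 L704526 q18905, e3 q16849 (flp_h L683284) q14632, e3 q16850 L704538 q18906, e3 q16851 (flp_h L683313) q14635, e3 q16852 (flp_h L683328) q14637, e3 q16853 L683349 q16853, e3 q16854 (flp_h L683350) q14641, e3 q16855 L683371 q15578, e3 q16856 L683384 q14740, e3 q16857 L683395 q15584, e3 q16858 L683409 q14742, e3 q16859 L683419 q15114, e3 q16860 L704667 q18916, e3 q16861 L704679 q18917, e3 q16862 (flp_h L683448)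 q14647, e3 q16863 (flp_h L683461) q14649, e3 q16864 L683482 q15575, e3 q16865 L683494 q14761, e3 q16866 L683504 q15579, e3 q16867 L704762 q18924, e3 q16868 L683527 q15585, e3 q16869 L704789 q18926, e3 q16870 L683550 q15592, e3 q16871 L704812 q18928, e3 q16872 (flp_h L683564) q14656, e3 q16873 (flp_h L683576) q14657, e3 q16874 L704835 q18930, e3 q16875 (flp_h L683598) q14660, e3 q16876 L704847 q18931, e3 q16877 (flp_h L683614) q14662, e3 q16878 (flp_h L704833) q18929, e3 q16879 L683643 q14785, e3 q16880 (flp_h L683645) q14667, e3 q16881 (flp_h L701932) q18645, e3 q16882 L683674 q14800, e3 q16883 (flp_h L683676) q14669, e3 q16884 L683697 q14680, e3 q16885 L683709 q14803, e3 q16886 L683719 q14683, e3 q16887 L704977 q18944, e3 q16888 L683742 q14686, e3 q16889 L705014 q18947, e3 q16890 L683763 q14691, e3 q16891 L705036 q18949, e3 q16892 (flp_h L683776) q14676, e3 q16893 (flp_h L683788) q14677, e3 q16894 (flp_h L704920) q18938, e3 q16895 L683815 q14824, trivial⟩ (by decide +kernel)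

theorem ce_h_264 : ∀ r, r < 64 → sm gh (Qf (16896 + r)) = Qf (tab Gen.h (16896 + r)) :=
  edges_tab (sm gh) Qf (tab Gen.h) 16896 [(16896, 15553), (16897, 18940), (16898, 18958), (16899, 15173), (16900, 15555), (16901, 18964), (16902, 18942), (16903, 18967), (16904, 14684), (16905, 18968), (16906, 18945), (16907, 18970), (16908, 14687), (16909, 18971), (16910, 15147), (16911, 18973), (16912, 14690), (16913, 18309), (16914, 18976), (16915, 14692), (16916, 14694), (16917, 14695), (16918, 18312), (16919, 18979), (16920, 14698), (16921, 14709), (16922, 16922), (16923, 18983), (16924, 14701), (16925, 16925), (16926, 18986), (16927, 14704), (16928, 18977), (16929, 18989), (16930, 14707), (16931, 18980), (16932, 18981), (16933, 14710), (16934, 14730), (16935, 15618), (16936, 15629), (16937, 14727), (16938, 15624), (16939, 15587), (16940, 15627), (16941, 14731), (16942, 14739), (16943, 15610), (16944, 14741), (16945, 15614), (16946, 18998), (16947, 14736), (16948, 14737), (16949, 18993), (16950, 18909), (16951, 18315), (16952, 18995),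 (16953, 19007), (16954, 15853), (16955, 19009), (16956, 19010), (16957, 14744), (16958, 14745), (16959, 14747)]
    ⟨e3 q16896 L683825 q15553, e3 q16897 (flp_h L704943) q18940, e3 q16898 L705134 q18958, e3 q16899 L683853 q15173, e3 q16900 L683865 q15555, e3 q16901 L705214 q18964, e3 q16902 (flp_h L704963) q18942, e3 q16903 L705242 q18967, e3 q16904 (flp_h L683889) q14684, e3 q16905 L705248 q18968, e3 q16906 (flp_h L705000) q18945, e3 q16907 L705275 q18970, e3 q16908 (flp_h L683931) q14687, e3 q16909 L705284 q18971, e3 q16910 L683964 q15147, e3 q16911 L705314 q18973, e3 q16912 (flp_h L683982) q14690, e3 q16913 (flp_h L697731) q18309, e3 q16914 L705352 q18976, e3 q16915 (flp_h L684008) q14692, e3 q16916 (flp_h L684014) q14694, e3 q16917 (flp_h L684029) q14695, e3 q16918 (flp_h L697765) q18312, e3 q16919 L705377 q18979, e3 q16920 (flp_h L684065) q14698, e3 q16921 L684079 q14709, e3 q16922 L684089 q16922, e3 q16923 L705416 q18983, e3 q16924 (flp_h L684099) q14701, e3 q16925 L684121 q16925, e3 q16926 L705449 q18986, e3 q16927 (flp_h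 L684130) q14704, e3 q16928 (flp_h L705362) q18977, e3 q16929 L705474 q18989, e3 q16930 (flp_h L684155) q14707, e3 q16931 (flp_h L705392) q18980, e3 q16932 (flp_h L705399) q18981, e3 q16933 (flp_h L684178) q14710, e3 q16934 L684203 q14730, e3 q16935 L684222 q15618, e3 q16936 L684238 q15629, e3 q16937 L684256 q14727, e3 q16938 L684274 q15624, e3 q16939 L684288 q15587, e3 q16940 L684306 q15627, e3 q16941 (flp_h L684308) q14731, e3 q16942 L684330 q14739, e3 q16943 L684342 q15610, e3 q16944 L684353 q14741, e3 q16945 L684365 q15614, e3 q16946 L705585 q18998, e3 q16947 (flp_h L684375) q14736, e3 q16948 (flp_h L684386) q14737, e3 q16949 (flp_h L705538) q18993, e3 q16950 (flp_h L704592) q18909, e3 q16951 (flp_h L697808) q18315, e3 q16952 (flp_h L705562) q18995, e3 q16953 L705666 q19007, e3 q16954 L684441 q15853, e3 q16955 L705684 q19009, e3 q16956 L705691 q19010, e3 q16957 (flp_h L684462) q14744, e3 q16958 (flp_h L684468) q14745, e3 q16959 (flp_h L684475) q14747, trivial⟩ (by decide +kernel)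

theorem ce_h_265 : ∀ r, r < 64 → sm gh (Qf (16960 + r)) = Qf (tab Gen.h (16960 + r)) :=
  edges_tab (sm gh) Qf (tab Gen.h) 16960 [(16960, 18728), (16961, 15612), (16962, 14749), (16963, 14760), (16964, 15606), (16965, 14763), (16966, 19023), (16967, 14766), (16968, 19026), (16969, 14771), (16970, 19028), (16971, 14756), (16972, 14757), (16973, 19017), (16974, 18919), (16975, 15766), (16976, 19019), (16977, 19037), (16978, 15762), (16979, 15807), (16980, 19043), (16981, 19021), (16982, 19045), (16983, 14764), (16984, 15808), (16985, 19048), (16986, 19024), (16987, 19051), (16988, 14767), (16989, 19052), (16990, 15809), (16991, 19054), (16992, 14770), (16993, 19055), (16994, 14772), (16995, 14774), (16996, 14775), (16997, 14783), (16998, 16998), (16999, 19060), (17000, 14779), (17001, 14781), (17002, 19056), (17003, 19058), (17004, 14928), (17005, 14929), (17006, 15792), (17007, 14930), (17008, 15795), (17009, 15796), (17010, 14931), (17011, 14932), (17012, 15799), (17013, 19073), (17014, 15801), (17015, 15804), (17016, 14797),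 (17017, 18796), (17018, 18934), (17019, 18798), (17020, 18799), (17021, 19085), (17022, 14823), (17023, 18939)]
    ⟨e3 q16960 (flp_h L702810) q18728, e3 q16961 L684508 q15612, e3 q16962 (flp_h L684510) q14749, e3 q16963 L684535 q14760, e3 q16964 L684547 q15606, e3 q16965 L684557 q14763, e3 q16966 L705837 q19023, e3 q16967 L684580 q14766, e3 q16968 L705874 q19026, e3 q16969 L684601 q14771, e3 q16970 L705896 q19028, e3 q16971 (flp_h L684614) q14756, e3 q16972 (flp_h L684626) q14757, e3 q16973 (flp_h L705776) q19017, e3 q16974 (flp_h L704718) q18919, e3 q16975 L684665 q15766, e3 q16976 (flp_h L705803) q19019, e3 q16977 L705994 q19037, e3 q16978 L684697 q15762, e3 q16979 L684707 q15807, e3 q16980 L706052 q19043, e3 q16981 (flp_h L705823) q19021, e3 q16982 L706074 q19045, e3 q16983 (flp_h L684735) q14764, e3 q16984 L684754 q15808, e3 q16985 L706109 q19048, e3 q16986 (flp_h L705860) q19024, e3 q16987 L706141 q19051, e3 q16988 (flp_h L684789) q14767, e3 q16989 L706150 q19052, e3 q16990 L684813 q15809, e3 q16991 L706171 q19054, e3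 q16992 (flp_h L684826) q14770, e3 q16993 L706183 q19055, e3 q16994 (flp_h L684846) q14772, e3 q16995 (flp_h L684854) q14774, e3 q16996 (flp_h L684865) q14775, e3 q16997 L684881 q14783, e3 q16998 L684888 q16998, e3 q16999 L706222 q19060, e3 q17000 (flp_h L684899) q14779, e3 q17001 (flp_h L684910) q14781, e3 q17002 (flp_h L706195) q19056, e3 q17003 (flp_h L706212) q19058, e3 q17004 L684941 q14928, e3 q17005 L684954 q14929, e3 q17006 L684970 q15792, e3 q17007 L684982 q14930, e3 q17008 L684997 q15795, e3 q17009 L685009 q15796, e3 q17010 L685020 q14931, e3 q17011 L685033 q14932, e3 q17012 L685047 q15799, e3 q17013 L706381 q19073, e3 q17014 L685067 q15801, e3 q17015 L685081 q15804, e3 q17016 (flp_h L685083) q14797, e3 q17017 (flp_h L703509) q18796, e3 q17018 (flp_h L704881) q18934, e3 q17019 (flp_h L703528) q18798, e3 q17020 (flp_h L703537) q18799, e3 q17021 L706490 q19085, e3 q17022 L685140 q14823, e3 q17023 (flp_h L704933) q18939, trivial⟩ (by decide +kernel)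

theorem ce_h_266 : ∀ r, r < 64 → sm gh (Qf (17024 + r)) = Qf (tab Gen.h (17024 + r)) :=
  edges_tab (sm gh) Qf (tab Gen.h) 17024 [(17024, 14825), (17025, 14826), (17026, 19094), (17027, 14828), (17028, 14829), (17029, 19100), (17030, 14831), (17031, 19103), (17032, 14806), (17033, 14834), (17034, 14835), (17035, 19107), (17036, 14837), (17037, 19110), (17038, 14809), (17039, 19111), (17040, 14843), (17041, 19114), (17042, 14812), (17043, 14846), (17044, 19117), (17045, 14814), (17046, 14816), (17047, 14853), (17048, 19121), (17049, 14818), (17050, 14857), (17051, 19124), (17052, 14821), (17053, 17053), (17054, 19086), (17055, 19087), (17056, 19132), (17057, 19089), (17058, 19090), (17059, 19139), (17060, 19092), (17061, 19142), (17062, 14827), (17063, 18426), (17064, 19095), (17065, 19148), (17066, 19150), (17067, 19098), (17068, 19154), (17069, 14830), (17070, 19101), (17071, 19158), (17072, 14832), (17073, 15900), (17074, 18419), (17075, 19163), (17076, 19105), (17077, 19166), (17078, 14836), (17079, 19108), (17080, 19170),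 (17081, 14838), (17082, 19172), (17083, 18409), (17084, 19175), (17085, 14842), (17086, 19112), (17087, 19179)]
    ⟨e3 q17024 L685159 q14825, e3 q17025 L685167 q14826, e3 q17026 L706575 q19094, e3 q17027 L685185 q14828, e3 q17028 L685195 q14829, e3 q17029 L706631 q19100, e3 q17030 L685211 q14831, e3 q17031 L706659 q19103, e3 q17032 (flp_h L685221) q14806, e3 q17033 L685236 q14834, e3 q17034 L685249 q14835, e3 q17035 L706703 q19107, e3 q17036 L685269 q14837, e3 q17037 L706729 q19110, e3 q17038 (flp_h L685279) q14809, e3 q17039 L706738 q19111, e3 q17040 L685302 q14843, e3 q17041 L706772 q19114, e3 q17042 (flp_h L685316) q14812, e3 q17043 L685331 q14846, e3 q17044 L706798 q19117, e3 q17045 (flp_h L685340) q14814, e3 q17046 (flp_h L685348) q14816, e3 q17047 L685371 q14853, e3 q17048 L706840 q19121, e3 q17049 (flp_h L685388) q14818, e3 q17050 L685404 q14857, e3 q17051 L706876 q19124, e3 q17052 (flp_h L685414) q14821, e3 q17053 L685428 q17053, e3 q17054 (flp_h L706504) q19086, e3 q17055 (flp_h L706514) q19087, e3 q17056 L706945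 q19132, e3 q17057 (flp_h L706533) q19089, e3 q17058 (flp_h L706545) q19090, e3 q17059 L707004 q19139, e3 q17060 (flp_h L706565) q19092, e3 q17061 L707024 q19142, e3 q17062 (flp_h L685489) q14827, e3 q17063 (flp_h L699163) q18426, e3 q17064 (flp_h L706589) q19095, e3 q17065 L707068 q19148, e3 q17066 L707081 q19150, e3 q17067 (flp_h L706617) q19098, e3 q17068 L707111 q19154, e3 q17069 (flp_h L685539) q14830, e3 q17070 (flp_h L706649) q19101, e3 q17071 L707147 q19158, e3 q17072 (flp_h L685559) q14832, e3 q17073 L685572 q15900, e3 q17074 (flp_h L699071) q18419, e3 q17075 L707189 q19163, e3 q17076 (flp_h L706688) q19105, e3 q17077 L707211 q19166, e3 q17078 (flp_h L685612) q14836, e3 q17079 (flp_h L706719) q19108, e3 q17080 L707247 q19170, e3 q17081 (flp_h L685632) q14838, e3 q17082 L707260 q19172, e3 q17083 (flp_h L698970) q18409, e3 q17084 L707286 q19175, e3 q17085 (flp_h L685661) q14842, e3 q17086 (flp_h L706758) q19112, e3 q17087 L707320 q19179, trivial⟩ (by decide +kernel)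

theorem ce_h_267 : ∀ r, r < 64 → sm gh (Qf (17088 + r)) = Qf (tab Gen.h (17088 + r)) :=
  edges_tab (sm gh) Qf (tab Gen.h) 17088 [(17088, 14844), (17089, 14893), (17090, 19115), (17091, 19183), (17092, 14847), (17093, 14867), (17094, 14849), (17095, 15242), (17096, 19188), (17097, 14851), (17098, 14895), (17099, 19119), (17100, 19191), (17101, 14854), (17102, 17102), (17103, 14896), (17104, 19195), (17105, 14858), (17106, 14870), (17107, 14871), (17108, 17108), (17109, 19200), (17110, 14862), (17111, 19171), (17112, 19203), (17113, 14865), (17114, 19184), (17115, 19185), (17116, 14868), (17117, 19196), (17118, 19197), (17119, 19198), (17120, 14957), (17121, 14958), (17122, 19214), (17123, 14903), (17124, 14875), (17125, 14960), (17126, 14959), (17127, 19213), (17128, 19217), (17129, 19211), (17130, 14878), (17131, 14879), (17132, 14952), (17133, 19221), (17134, 19030), (17135, 15760), (17136, 14883), (17137, 14884), (17138, 19225), (17139, 14885), (17140, 19155), (17141, 18896), (17142, 19229), (17143, 14889), (17144, 19167),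 (17145, 14891), (17146, 19176), (17147, 19181), (17148, 19066), (17149, 15653), (17150, 14905), (17151, 15603)]
    ⟨e3 q17088 (flp_h L685681) q14844, e3 q17089 L685699 q14893, e3 q17090 (flp_h L706789) q19115, e3 q17091 L707351 q19183, e3 q17092 (flp_h L685715) q14847, e3 q17093 L685723 q14867, e3 q17094 (flp_h L685725) q14849, e3 q17095 L685743 q15242, e3 q17096 L707396 q19188, e3 q17097 (flp_h L685759) q14851, e3 q17098 L685775 q14895, e3 q17099 (flp_h L706823) q19119, e3 q17100 L707427 q19191, e3 q17101 (flp_h L685794) q14854, e3 q17102 L685806 q17102, e3 q17103 L685814 q14896, e3 q17104 L707463 q19195, e3 q17105 (flp_h L685827) q14858, e3 q17106 L685838 q14870, e3 q17107 L685843 q14871, e3 q17108 L685849 q17108, e3 q17109 L707502 q19200, e3 q17110 (flp_h L685858) q14862, e3 q17111 (flp_h L707258) q19171, e3 q17112 L707525 q19203, e3 q17113 (flp_h L685879) q14865, e3 q17114 (flp_h L707361) q19184, e3 q17115 (flp_h L707367) q19185, e3 q17116 (flp_h L685898) q14868, e3 q17117 (flp_h L707474) q19196, e3 q17118 (flp_h L707483)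 q19197, e3 q17119 (flp_h L707492) q19198, e3 q17120 L685937 q14957, e3 q17121 L685955 q14958, e3 q17122 L707633 q19214, e3 q17123 L685980 q14903, e3 q17124 (flp_h L685982) q14875, e3 q17125 L686009 q14960, e3 q17126 L686027 q14959, e3 q17127 (flp_h L707631) q19213, e3 q17128 L707681 q19217, e3 q17129 (flp_h L707603) q19211, e3 q17130 (flp_h L686054) q14878, e3 q17131 (flp_h L686066) q14879, e3 q17132 L686091 q14952, e3 q17133 L707728 q19221, e3 q17134 (flp_h L705927) q19030, e3 q17135 L686122 q15760, e3 q17136 (flp_h L686124) q14883, e3 q17137 (flp_h L686138) q14884, e3 q17138 L707770 q19225, e3 q17139 (flp_h L686152) q14885, e3 q17140 (flp_h L707131) q19155, e3 q17141 (flp_h L704427) q18896, e3 q17142 L707809 q19229, e3 q17143 (flp_h L686204) q14889, e3 q17144 (flp_h L707231) q19167, e3 q17145 (flp_h L686227) q14891, e3 q17146 (flp_h L707302) q19176, e3 q17147 (flp_h L707339) q19181, e3 q17148 (flp_h L706299) q19066, e3 q17149 L686286 q15653, e3 q17150 (flp_h L686288) q14905, e3 q17151 L686316 q15603, trivial⟩ (by decide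 +kernel)

theorem ce_h_268 : ∀ r, r < 64 → sm gh (Qf (17152 + r)) = Qf (tab Gen.h (17152 + r)) :=
  edges_tab (sm gh) Qf (tab Gen.h) 17152 [(17152, 18486), (17153, 14912), (17154, 18488), (17155, 14918), (17156, 14936), (17157, 19234), (17158, 14940), (17159, 15607), (17160, 17160), (17161, 19236), (17162, 19064), (17163, 19069), (17164, 14933), (17165, 19233), (17166, 17166), (17167, 19240), (17168, 17168), (17169, 17169), (17170, 19246), (17171, 19247), (17172, 14939), (17173, 14953), (17174, 15656), (17175, 14954), (17176, 14955), (17177, 15660), (17178, 19252), (17179, 15662), (17180, 15664), (17181, 15665), (17182, 14956), (17183, 14961), (17184, 15636), (17185, 14963), (17186, 15639), (17187, 19258), (17188, 14966), (17189, 19259), (17190, 15640), (17191, 17191), (17192, 14970), (17193, 15644), (17194, 15112), (17195, 15109), (17196, 19263), (17197, 14983), (17198, 19264), (17199, 19265), (17200, 14987), (17201, 14991), (17202, 19266), (17203, 19267), (17204, 14995), (17205, 15341), (17206, 19269), (17207, 15338), (17208,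 19271), (17209, 14998), (17210, 19272), (17211, 15000), (17212, 15014), (17213, 15039), (17214, 19275), (17215, 19276)]
    ⟨e3 q17152 (flp_h L699864) q18486, e3 q17153 (flp_h L686330) q14912, e3 q17154 (flp_h L699883) q18488, e3 q17155 (flp_h L686350) q14918, e3 q17156 L686375 q14936, e3 q17157 L707870 q19234, e3 q17158 L686401 q14940, e3 q17159 L686418 q15607, e3 q17160 L686431 q17160, e3 q17161 L707898 q19236, e3 q17162 (flp_h L706267) q19064, e3 q17163 (flp_h L706338) q19069, e3 q17164 (flp_h L686483) q14933, e3 q17165 (flp_h L707868) q19233, e3 q17166 L686519 q17166, e3 q17167 L707954 q19240, e3 q17168 L686537 q17168, e3 q17169 L686549 q17169, e3 q17170 L708026 q19246, e3 q17171 L708034 q19247, e3 q17172 (flp_h L686574) q14939, e3 q17173 L686589 q14953, e3 q17174 L686606 q15656, e3 q17175 L686617 q14954, e3 q17176 L686634 q14955, e3 q17177 L686647 q15660, e3 q17178 L708111 q19252, e3 q17179 L686673 q15662, e3 q17180 L686687 q15664, e3 q17181 L686702 q15665, e3 q17182 (flp_h L686704) q14956, e3 q17183 (flp_h L686717) q14961,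 e3 q17184 L686741 q15636, e3 q17185 (flp_h L686743) q14963, e3 q17186 L686765 q15639, e3 q17187 L708184 q19258, e3 q17188 (flp_h L686773) q14966, e3 q17189 (flp_h L708207) q19259, e3 q17190 L686802 q15640, e3 q17191 L686813 q17191, e3 q17192 (flp_h L686816) q14970, e3 q17193 L686835 q15644, e3 q17194 L686846 q15112, e3 q17195 L686856 q15109, e3 q17196 L708240 q19263, e3 q17197 (flp_h L686872) q14983, e3 q17198 L708256 q19264, e3 q17199 L708272 q19265, e3 q17200 (flp_h L686912) q14987, e3 q17201 (flp_h L686920) q14991, e3 q17202 L708288 q19266, e3 q17203 L708300 q19267, e3 q17204 (flp_h L686954) q14995, e3 q17205 L686976 q15341, e3 q17206 L708325 q19269, e3 q17207 L687000 q15338, e3 q17208 L708350 q19271, e3 q17209 (flp_h L687015) q14998, e3 q17210 L708362 q19272, e3 q17211 (flp_h L687031) q15000, e3 q17212 L687053 q15014, e3 q17213 L687069 q15039, e3 q17214 L708398 q19275, e3 q17215 L708414 q19276, trivial⟩ (by decide +kernel)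

theorem ce_h_269 : ∀ r, r < 64 → sm gh (Qf (17216 + r)) = Qf (tab Gen.h (17216 + r)) :=
  edges_tab (sm gh) Qf (tab Gen.h) 17216 [(17216, 15013), (17217, 19273), (17218, 19278), (17219, 15016), (17220, 15017), (17221, 19279), (17222, 15398), (17223, 15067), (17224, 19282), (17225, 15023), (17226, 18201), (17227, 19285), (17228, 15436), (17229, 19287), (17230, 15027), (17231, 15028), (17232, 15415), (17233, 15035), (17234, 15841), (17235, 15048), (17236, 19289), (17237, 15040), (17238, 15063), (17239, 19291), (17240, 15042), (17241, 15491), (17242, 15076), (17243, 15488), (17244, 15479), (17245, 19297), (17246, 18172), (17247, 18178), (17248, 19303), (17249, 15474), (17250, 19306), (17251, 15049), (17252, 15486), (17253, 19308), (17254, 15051), (17255, 15482), (17256, 19311), (17257, 15473), (17258, 19314), (17259, 15054), (17260, 15471), (17261, 19317), (17262, 15056), (17263, 19318), (17264, 15059), (17265, 18181), (17266, 19320), (17267, 15061), (17268, 15083), (17269, 18148), (17270, 19323), (17271, 15064), (17272, 18173),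 (17273, 15838), (17274, 18165), (17275, 15472), (17276, 18323), (17277, 15226), (17278, 18167), (17279, 15080)]
    ⟨e3 q17216 (flp_h L687097) q15013, e3 q17217 (flp_h L708380) q19273, e3 q17218 L708440 q19278, e3 q17219 (flp_h L687129) q15016, e3 q17220 (flp_h L687141) q15017, e3 q17221 (flp_h L708460) q19279, e3 q17222 L687169 q15398, e3 q17223 L687184 q15067, e3 q17224 L708488 q19282, e3 q17225 (flp_h L687200) q15023, e3 q17226 (flp_h L696299) q18201, e3 q17227 L708526 q19285, e3 q17228 L687234 q15436, e3 q17229 L708546 q19287, e3 q17230 (flp_h L687250) q15027, e3 q17231 (flp_h L687258) q15028, e3 q17232 L687281 q15415, e3 q17233 L687298 q15035, e3 q17234 L687315 q15841, e3 q17235 L687323 q15048, e3 q17236 L708574 q19289, e3 q17237 (flp_h L687339) q15040, e3 q17238 L687357 q15063, e3 q17239 L708594 q19291, e3 q17240 (flp_h L687371) q15042, e3 q17241 L687391 q15491, e3 q17242 L687405 q15076, e3 q17243 L687413 q15488, e3 q17244 L687423 q15479, e3 q17245 L708658 q19297, e3 q17246 (flp_h L695849) q18172, e3 q17247 (flp_h L695945)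 q18178, e3 q17248 L708718 q19303, e3 q17249 L687469 q15474, e3 q17250 L708746 q19306, e3 q17251 (flp_h L687481) q15049, e3 q17252 L687497 q15486, e3 q17253 L708766 q19308, e3 q17254 (flp_h L687513) q15051, e3 q17255 L687535 q15482, e3 q17256 L708802 q19311, e3 q17257 L687555 q15473, e3 q17258 L708828 q19314, e3 q17259 (flp_h L687568) q15054, e3 q17260 L687580 q15471, e3 q17261 L708858 q19317, e3 q17262 (flp_h L687594) q15056, e3 q17263 L708868 q19318, e3 q17264 (flp_h L687615) q15059, e3 q17265 (flp_h L695993) q18181, e3 q17266 L708883 q19320, e3 q17267 (flp_h L687633) q15061, e3 q17268 L687645 q15083, e3 q17269 (flp_h L695523) q18148, e3 q17270 L708902 q19323, e3 q17271 (flp_h L687661) q15064, e3 q17272 (flp_h L695868) q18173, e3 q17273 L687689 q15838, e3 q17274 (flp_h L695743) q18165, e3 q17275 L687711 q15472, e3 q17276 (flp_h L697922) q18323, e3 q17277 L687737 q15226, e3 q17278 (flp_h L695773) q18167, e3 q17279 (flp_h L687748) q15080, trivial⟩ (by decide +kernel)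

theorem ce_h_270 : ∀ r, r < 64 → sm gh (Qf (17280 + r)) = Qf (tab Gen.h (17280 + r)) :=
  edges_tab (sm gh) Qf (tab Gen.h) 17280 [(17280, 19315), (17281, 15448), (17282, 18170), (17283, 15088), (17284, 19325), (17285, 15094), (17286, 17286), (17287, 15096), (17288, 17288), (17289, 17289), (17290, 15162), (17291, 15203), (17292, 15107), (17293, 15206), (17294, 15110), (17295, 19333), (17296, 19334), (17297, 15105), (17298, 19330), (17299, 19336), (17300, 18910), (17301, 19262), (17302, 19341), (17303, 19342), (17304, 15111), (17305, 18913), (17306, 19345), (17307, 15113), (17308, 15256), (17309, 19347), (17310, 15115), (17311, 19349), (17312, 15118), (17313, 15131), (17314, 17314), (17315, 19352), (17316, 15121), (17317, 17317), (17318, 19355), (17319, 15124), (17320, 19357), (17321, 15127), (17322, 19348), (17323, 15129), (17324, 19350), (17325, 19122), (17326, 19360), (17327, 15133), (17328, 15534), (17329, 19362), (17330, 15136), (17331, 15138), (17332, 15623), (17333, 15666), (17334, 15560), (17335, 15263), (17336, 18962),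 (17337, 19366), (17338, 19367), (17339, 15151), (17340, 15164), (17341, 15165), (17342, 19371), (17343, 15167)]
    ⟨e3 q17280 (flp_h L708846) q19315, e3 q17281 L687780 q15448, e3 q17282 (flp_h L695819) q18170, e3 q17283 (flp_h L687792) q15088, e3 q17284 L708921 q19325, e3 q17285 (flp_h L687816) q15094, e3 q17286 L687838 q17286, e3 q17287 (flp_h L687839) q15096, e3 q17288 L687858 q17288, e3 q17289 L687866 q17289, e3 q17290 L687880 q15162, e3 q17291 L687895 q15203, e3 q17292 L687907 q15107, e3 q17293 L687922 q15206, e3 q17294 L687930 q15110, e3 q17295 L709018 q19333, e3 q17296 L709030 q19334, e3 q17297 (flp_h L687957) q15105, e3 q17298 (flp_h L708990) q19330, e3 q17299 L709057 q19336, e3 q17300 (flp_h L704602) q18910, e3 q17301 (flp_h L708236) q19262, e3 q17302 L709111 q19341, e3 q17303 L709119 q19342, e3 q17304 (flp_h L688029) q15111, e3 q17305 (flp_h L704638) q18913, e3 q17306 L709157 q19345, e3 q17307 (flp_h L688063) q15113, e3 q17308 L688086 q15256, e3 q17309 L709182 q19347, e3 q17310 (flp_h L688102) q15115, e3 q17311 L709202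 q19349, e3 q17312 (flp_h L688127) q15118, e3 q17313 L688143 q15131, e3 q17314 L688153 q17314, e3 q17315 L709236 q19352, e3 q17316 (flp_h L688164) q15121, e3 q17317 L688182 q17317, e3 q17318 L709267 q19355, e3 q17319 (flp_h L688196) q15124, e3 q17320 L709289 q19357, e3 q17321 (flp_h L688220) q15127, e3 q17322 (flp_h L709200) q19348, e3 q17323 (flp_h L688240) q15129, e3 q17324 (flp_h L709222) q19350, e3 q17325 (flp_h L706864) q19122, e3 q17326 L709320 q19360, e3 q17327 (flp_h L688279) q15133, e3 q17328 L688296 q15534, e3 q17329 L709343 q19362, e3 q17330 (flp_h L688310) q15136, e3 q17331 (flp_h L688320) q15138, e3 q17332 L688337 q15623, e3 q17333 L688355 q15666, e3 q17334 L688367 q15560, e3 q17335 L688382 q15263, e3 q17336 (flp_h L705200) q18962, e3 q17337 L709390 q19366, e3 q17338 L709400 q19367, e3 q17339 (flp_h L688415) q15151, e3 q17340 L688433 q15164, e3 q17341 L688440 q15165, e3 q17342 L709438 q19371, e3 q17343 L688459 q15167, trivial⟩ (by decide +kernel)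

theorem ce_h_271 : ∀ r, r < 64 → sm gh (Qf (17344 + r)) = Qf (tab Gen.h (17344 + r)) :=
  edges_tab (sm gh) Qf (tab Gen.h) 17344 [(17344, 19373), (17345, 19374), (17346, 15158), (17347, 15159), (17348, 18228), (17349, 15758), (17350, 19327), (17351, 19328), (17352, 19384), (17353, 18262), (17354, 19368), (17355, 19390), (17356, 18959), (17357, 19392), (17358, 15166), (17359, 18256), (17360, 15961), (17361, 19396), (17362, 15626), (17363, 19398), (17364, 15169), (17365, 19399), (17366, 18250), (17367, 19401), (17368, 15172), (17369, 19403), (17370, 15174), (17371, 15176), (17372, 15177), (17373, 15201), (17374, 15601), (17375, 17375), (17376, 19409), (17377, 17377), (17378, 17378), (17379, 19413), (17380, 19414), (17381, 15187), (17382, 17382), (17383, 17383), (17384, 19418), (17385, 18368), (17386, 19420), (17387, 15190), (17388, 15191), (17389, 17389), (17390, 19423), (17391, 15194), (17392, 19425), (17393, 15197), (17394, 19402), (17395, 15199), (17396, 19404), (17397, 19406), (17398, 15726), (17399, 15710), (17400, 19433),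 (17401, 15225), (17402, 18324), (17403, 15227), (17404, 15228), (17405, 19441), (17406, 15230), (17407, 15231)]
    ⟨e3 q17344 L709460 q19373, e3 q17345 L709475 q19374, e3 q17346 (flp_h L688484) q15158, e3 q17347 (flp_h L688494) q15159, e3 q17348 (flp_h L696660) q18228, e3 q17349 L688519 q15758, e3 q17350 (flp_h L708953) q19327, e3 q17351 (flp_h L708964) q19328, e3 q17352 L709571 q19384, e3 q17353 (flp_h L697088) q18262, e3 q17354 (flp_h L709421) q19368, e3 q17355 L709623 q19390, e3 q17356 (flp_h L705152) q18959, e3 q17357 L709641 q19392, e3 q17358 (flp_h L688585) q15166, e3 q17359 (flp_h L697013) q18256, e3 q17360 L688609 q15961, e3 q17361 L709679 q19396, e3 q17362 L688633 q15626, e3 q17363 L709700 q19398, e3 q17364 (flp_h L688648) q15169, e3 q17365 L709715 q19399, e3 q17366 (flp_h L696944) q18250, e3 q17367 L709730 q19401, e3 q17368 (flp_h L688683) q15172, e3 q17369 L709750 q19403, e3 q17370 (flp_h L688701) q15174, e3 q17371 (flp_h L688713) q15176, e3 q17372 (flp_h L688720) q15177, e3 q17373 L688736 q15201, e3 q17374 L688751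 q15601, e3 q17375 L688764 q17375, e3 q17376 L709812 q19409, e3 q17377 L688785 q17377, e3 q17378 L688797 q17378, e3 q17379 L709860 q19413, e3 q17380 L709871 q19414, e3 q17381 (flp_h L688823) q15187, e3 q17382 L688842 q17382, e3 q17383 L688852 q17383, e3 q17384 L709914 q19418, e3 q17385 (flp_h L698512) q18368, e3 q17386 L709935 q19420, e3 q17387 (flp_h L688883) q15190, e3 q17388 (flp_h L688892) q15191, e3 q17389 L688910 q17389, e3 q17390 L709967 q19423, e3 q17391 (flp_h L688922) q15194, e3 q17392 L709987 q19425, e3 q17393 (flp_h L688943) q15197, e3 q17394 (flp_h L709748) q19402, e3 q17395 (flp_h L688961) q15199, e3 q17396 (flp_h L709767) q19404, e3 q17397 (flp_h L709784) q19406, e3 q17398 L688996 q15726, e3 q17399 L689005 q15710, e3 q17400 L710068 q19433, e3 q17401 L689028 q15225, e3 q17402 (flp_h L697938) q18324, e3 q17403 L689046 q15227, e3 q17404 L689055 q15228, e3 q17405 L710147 q19441, e3 q17406 L689076 q15230, e3 q17407 L689084 q15231, trivial⟩ (by decide +kernel)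

theorem ce_h_272 : ∀ r, r < 64 → sm gh (Qf (17408 + r)) = Qf (tab Gen.h (17408 + r)) :=
  edges_tab (sm gh) Qf (tab Gen.h) 17408 [(17408, 19447), (17409, 15233), (17410, 19450), (17411, 15209), (17412, 15236), (17413, 19452), (17414, 15211), (17415, 15243), (17416, 19455), (17417, 15245), (17418, 19457), (17419, 15214), (17420, 15248), (17421, 19460), (17422, 15216), (17423, 19461), (17424, 15219), (17425, 15220), (17426, 17426), (17427, 15260), (17428, 19464), (17429, 15223), (17430, 19434), (17431, 19435), (17432, 19469), (17433, 19437), (17434, 19438), (17435, 19475), (17436, 15668), (17437, 19477), (17438, 15229), (17439, 19173), (17440, 19442), (17441, 19483), (17442, 19485), (17443, 19445), (17444, 19489), (17445, 15232), (17446, 19448), (17447, 19493), (17448, 15234), (17449, 19186), (17450, 15963), (17451, 19499), (17452, 15667), (17453, 19501), (17454, 15238), (17455, 19503), (17456, 15240), (17457, 15746), (17458, 19506), (17459, 19453), (17460, 19509), (17461, 15244), (17462, 19337), (17463, 19513), (17464, 15246),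 (17465, 15286), (17466, 19075), (17467, 19517), (17468, 15249), (17469, 19518), (17470, 15252), (17471, 15732)]
    ⟨e3 q17408 L710193 q19447, e3 q17409 L689101 q15233, e3 q17410 L710225 q19450, e3 q17411 (flp_h L689111) q15209, e3 q17412 L689127 q15236, e3 q17413 L710245 q19452, e3 q17414 (flp_h L689141) q15211, e3 q17415 L689164 q15243, e3 q17416 L710288 q19455, e3 q17417 L689185 q15245, e3 q17418 L710308 q19457, e3 q17419 (flp_h L689199) q15214, e3 q17420 L689215 q15248, e3 q17421 L710339 q19460, e3 q17422 (flp_h L689229) q15216, e3 q17423 L710349 q19461, e3 q17424 (flp_h L689256) q15219, e3 q17425 (flp_h L689265) q15220, e3 q17426 L689279 q17426, e3 q17427 L689288 q15260, e3 q17428 L710383 q19464, e3 q17429 (flp_h L689301) q15223, e3 q17430 (flp_h L710083) q19434, e3 q17431 (flp_h L710092) q19435, e3 q17432 L710421 q19469, e3 q17433 (flp_h L710112) q19437, e3 q17434 (flp_h L710122) q19438, e3 q17435 L710472 q19475, e3 q17436 L689368 q15668, e3 q17437 L710492 q19477, e3 q17438 (flp_h L689380) q15229, e3 q17439 (flp_h L707275)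 q19173, e3 q17440 (flp_h L710163) q19442, e3 q17441 L710538 q19483, e3 q17442 L710551 q19485, e3 q17443 (flp_h L710183) q19445, e3 q17444 L710575 q19489, e3 q17445 (flp_h L689428) q15232, e3 q17446 (flp_h L710211) q19448, e3 q17447 L710601 q19493, e3 q17448 (flp_h L689448) q15234, e3 q17449 (flp_h L707380) q19186, e3 q17450 L689472 q15963, e3 q17451 L710661 q19499, e3 q17452 L689493 q15667, e3 q17453 L710679 q19501, e3 q17454 (flp_h L689505) q15238, e3 q17455 L710697 q19503, e3 q17456 (flp_h L689522) q15240, e3 q17457 L689543 q15746, e3 q17458 L710733 q19506, e3 q17459 (flp_h L710268) q19453, e3 q17460 L710763 q19509, e3 q17461 (flp_h L689574) q15244, e3 q17462 (flp_h L709079) q19337, e3 q17463 L710797 q19513, e3 q17464 (flp_h L689596) q15246, e3 q17465 L689608 q15286, e3 q17466 (flp_h L706415) q19075, e3 q17467 L710824 q19517, e3 q17468 (flp_h L689628) q15249, e3 q17469 L710832 q19518, e3 q17470 (flp_h L689648) q15252, e3 q17471 L689666 q15732, trivial⟩ (by decide +kernel)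

theorem ce_h_273 : ∀ r, r < 64 → sm gh (Qf (17472 + r)) = Qf (tab Gen.h (17472 + r)) :=
  edges_tab (sm gh) Qf (tab Gen.h) 17472 [(17472, 19521), (17473, 15254), (17474, 15288), (17475, 19343), (17476, 19524), (17477, 15257), (17478, 17478), (17479, 15289), (17480, 19526), (17481, 15261), (17482, 18308), (17483, 19527), (17484, 15268), (17485, 19528), (17486, 19529), (17487, 19531), (17488, 15271), (17489, 15272), (17490, 19533), (17491, 19534), (17492, 19536), (17493, 15276), (17494, 15277), (17495, 19539), (17496, 15278), (17497, 19490), (17498, 19542), (17499, 15282), (17500, 19502), (17501, 15284), (17502, 19510), (17503, 19515), (17504, 15291), (17505, 15292), (17506, 15295), (17507, 15296), (17508, 15513), (17509, 15301), (17510, 19546), (17511, 19547), (17512, 19548), (17513, 15310), (17514, 19549), (17515, 15312), (17516, 19551), (17517, 15315), (17518, 15316), (17519, 19552), (17520, 15318), (17521, 15319), (17522, 19553), (17523, 19555), (17524, 15323), (17525, 19556), (17526, 15327), (17527, 15328), (17528, 15331),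 (17529, 19557), (17530, 19559), (17531, 15335), (17532, 19561), (17533, 19562), (17534, 15340), (17535, 19563)]
    ⟨e3 q17472 L710874 q19521, e3 q17473 (flp_h L689682) q15254, e3 q17474 L689696 q15288, e3 q17475 (flp_h L709140) q19343, e3 q17476 L710903 q19524, e3 q17477 (flp_h L689711) q15257, e3 q17478 L689721 q17478, e3 q17479 L689725 q15289, e3 q17480 L710915 q19526, e3 q17481 (flp_h L689736) q15261, e3 q17482 (flp_h L697721) q18308, e3 q17483 L710922 q19527, e3 q17484 (flp_h L689758) q15268, e3 q17485 L710930 q19528, e3 q17486 L710941 q19529, e3 q17487 L710954 q19531, e3 q17488 (flp_h L689792) q15271, e3 q17489 (flp_h L689801) q15272, e3 q17490 L710971 q19533, e3 q17491 L710980 q19534, e3 q17492 L710993 q19536, e3 q17493 (flp_h L689833) q15276, e3 q17494 (flp_h L689842) q15277, e3 q17495 L711014 q19539, e3 q17496 (flp_h L689851) q15278, e3 q17497 (flp_h L710585) q19490, e3 q17498 L711024 q19542, e3 q17499 (flp_h L689874) q15282, e3 q17500 (flp_h L710695) q19502, e3 q17501 (flp_h L689891) q15284, e3 q17502 (flp_h L710779)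 q19510, e3 q17503 (flp_h L710812) q19515, e3 q17504 (flp_h L689914) q15291, e3 q17505 (flp_h L689925) q15292, e3 q17506 (flp_h L689938) q15295, e3 q17507 (flp_h L689946) q15296, e3 q17508 L689963 q15513, e3 q17509 (flp_h L689967) q15301, e3 q17510 L711056 q19546, e3 q17511 L711072 q19547, e3 q17512 L711088 q19548, e3 q17513 (flp_h L690017) q15310, e3 q17514 L711096 q19549, e3 q17515 (flp_h L690033) q15312, e3 q17516 L711118 q19551, e3 q17517 (flp_h L690050) q15315, e3 q17518 (flp_h L690058) q15316, e3 q17519 L711126 q19552, e3 q17520 (flp_h L690073) q15318, e3 q17521 (flp_h L690079) q15319, e3 q17522 (flp_h L711140) q19553, e3 q17523 L711150 q19555, e3 q17524 (flp_h L690103) q15323, e3 q17525 L711160 q19556, e3 q17526 (flp_h L690119) q15327, e3 q17527 (flp_h L690125) q15328, e3 q17528 (flp_h L690133) q15331, e3 q17529 (flp_h L711172) q19557, e3 q17530 L711183 q19559, e3 q17531 (flp_h L690159) q15335, e3 q17532 L711198 q19561, e3 q17533 L711204 q19562, e3 q17534 (flp_h L690180) q15340, e3 q17535 L711208 q19563, trivial⟩ (by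 decide +kernel)

theorem ce_h_274 : ∀ r, r < 64 → sm gh (Qf (17536 + r)) = Qf (tab Gen.h (17536 + r)) :=
  edges_tab (sm gh) Qf (tab Gen.h) 17536 [(17536, 15342), (17537, 19565), (17538, 19566), (17539, 15346), (17540, 19568), (17541, 15348), (17542, 15362), (17543, 19569), (17544, 15351), (17545, 15355), (17546, 15356), (17547, 15358), (17548, 19564), (17549, 15360), (17550, 19567), (17551, 19570), (17552, 15365), (17553, 15373), (17554, 15429), (17555, 19578), (17556, 15371), (17557, 15406), (17558, 15437), (17559, 18852), (17560, 19576), (17561, 19584), (17562, 19585), (17563, 19586), (17564, 15378), (17565, 15379), (17566, 17566), (17567, 19589), (17568, 15383), (17569, 19590), (17570, 15385), (17571, 15866), (17572, 15388), (17573, 19587), (17574, 15400), (17575, 15401), (17576, 19597), (17577, 19598), (17578, 15393), (17579, 19599), (17580, 15395), (17581, 15396), (17582, 19280), (17583, 19602), (17584, 19594), (17585, 19606), (17586, 19579), (17587, 19608), (17588, 15402), (17589, 15403), (17590, 18836), (17591, 19610),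 (17592, 15405), (17593, 19612), (17594, 15407), (17595, 19613), (17596, 19614), (17597, 15411), (17598, 15412), (17599, 15423)]
    ⟨e3 q17536 (flp_h L690192) q15342, e3 q17537 L711220 q19565, e3 q17538 L711226 q19566, e3 q17539 (flp_h L690216) q15346, e3 q17540 L711242 q19568, e3 q17541 (flp_h L690232) q15348, e3 q17542 L690244 q15362, e3 q17543 (flp_h L711256) q19569, e3 q17544 (flp_h L690254) q15351, e3 q17545 (flp_h L690260) q15355, e3 q17546 (flp_h L690269) q15356, e3 q17547 (flp_h L690282) q15358, e3 q17548 (flp_h L711218) q19564, e3 q17549 (flp_h L690298) q15360, e3 q17550 (flp_h L711240) q19567, e3 q17551 (flp_h L711262) q19570, e3 q17552 (flp_h L690323) q15365, e3 q17553 L690343 q15373, e3 q17554 L690358 q15429, e3 q17555 L711329 q19578, e3 q17556 (flp_h L690374) q15371, e3 q17557 L690392 q15406, e3 q17558 L690408 q15437, e3 q17559 (flp_h L704034) q18852, e3 q17560 (flp_h L711311) q19576, e3 q17561 L711395 q19584, e3 q17562 L711403 q19585, e3 q17563 L711419 q19586, e3 q17564 (flp_h L690456) q15378, e3 q17565 (flp_h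 L690464) q15379, e3 q17566 L690474 q17566, e3 q17567 L711442 q19589, e3 q17568 (flp_h L690484) q15383, e3 q17569 L711451 q19590, e3 q17570 (flp_h L690502) q15385, e3 q17571 L690522 q15866, e3 q17572 (flp_h L690524) q15388, e3 q17573 (flp_h L711433) q19587, e3 q17574 L690546 q15400, e3 q17575 L690551 q15401, e3 q17576 L711505 q19597, e3 q17577 L711513 q19598, e3 q17578 (flp_h L690566) q15393, e3 q17579 L711521 q19599, e3 q17580 (flp_h L690579) q15395, e3 q17581 (flp_h L690585) q15396, e3 q17582 (flp_h L708470) q19280, e3 q17583 L711542 q19602, e3 q17584 (flp_h L711492) q19594, e3 q17585 L711568 q19606, e3 q17586 (flp_h L711353) q19579, e3 q17587 L711584 q19608, e3 q17588 (flp_h L690633) q15402, e3 q17589 (flp_h L690639) q15403, e3 q17590 (flp_h L703879) q18836, e3 q17591 L711595 q19610, e3 q17592 (flp_h L690659) q15405, e3 q17593 L711611 q19612, e3 q17594 (flp_h L690673) q15407, e3 q17595 L711617 q19613, e3 q17596 L711621 q19614, e3 q17597 (flp_h L690696) q15411, e3 q17598 (flp_h L690700) q15412, e3 q17599 L690710 q15423, trivial⟩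 (by decide +kernel)

theorem ce_h_275 : ∀ r, r < 64 → sm gh (Qf (17600 + r)) = Qf (tab Gen.h (17600 + r)) :=
  edges_tab (sm gh) Qf (tab Gen.h) 17600 [(17600, 19618), (17601, 19620), (17602, 15417), (17603, 15418), (17604, 19611), (17605, 15421), (17606, 19615), (17607, 19617), (17608, 15438), (17609, 15439), (17610, 19627), (17611, 19628), (17612, 15431), (17613, 19629), (17614, 15433), (17615, 18606), (17616, 18712), (17617, 19283), (17618, 19634), (17619, 19624), (17620, 19636), (17621, 19637), (17622, 15440), (17623, 15441), (17624, 15442), (17625, 19639), (17626, 15445), (17627, 15457), (17628, 19642), (17629, 15449), (17630, 15450), (17631, 15451), (17632, 19638), (17633, 15455), (17634, 19640), (17635, 19641), (17636, 15476), (17637, 15477), (17638, 19649), (17639, 19650), (17640, 15460), (17641, 19651), (17642, 15462), (17643, 19653), (17644, 15465), (17645, 15467), (17646, 17646), (17647, 19312), (17648, 19304), (17649, 19660), (17650, 19309), (17651, 19301), (17652, 19664), (17653, 19665), (17654, 15475), (17655,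 18718), (17656, 19645), (17657, 19671), (17658, 19672), (17659, 19294), (17660, 19676), (17661, 15478), (17662, 19292), (17663, 19680)]
    ⟨e3 q17600 L711644 q19618, e3 q17601 L711659 q19620, e3 q17602 (flp_h L690724) q15417, e3 q17603 (flp_h L690731) q15418, e3 q17604 (flp_h L711609) q19611, e3 q17605 (flp_h L690746) q15421, e3 q17606 (flp_h L711633) q19615, e3 q17607 (flp_h L711642) q19617, e3 q17608 L690775 q15438, e3 q17609 L690782 q15439, e3 q17610 L711711 q19627, e3 q17611 L711719 q19628, e3 q17612 (flp_h L690801) q15431, e3 q17613 L711729 q19629, e3 q17614 (flp_h L690814) q15433, e3 q17615 (flp_h L701440) q18606, e3 q17616 (flp_h L702633) q18712, e3 q17617 (flp_h L708514) q19283, e3 q17618 L711768 q19634, e3 q17619 (flp_h L711694) q19624, e3 q17620 L711784 q19636, e3 q17621 L711792 q19637, e3 q17622 (flp_h L690880) q15440, e3 q17623 (flp_h L690886) q15441, e3 q17624 (flp_h L690892) q15442, e3 q17625 L711806 q19639, e3 q17626 (flp_h L690908) q15445, e3 q17627 L690916 q15457, e3 q17628 L711824 q19642, e3 q17629 (flp_h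 L690927) q15449, e3 q17630 (flp_h L690937) q15450, e3 q17631 (flp_h L690946) q15451, e3 q17632 (flp_h L711804) q19638, e3 q17633 (flp_h L690963) q15455, e3 q17634 (flp_h L711816) q19640, e3 q17635 (flp_h L711822) q19641, e3 q17636 L690990 q15476, e3 q17637 L690996 q15477, e3 q17638 L711874 q19649, e3 q17639 L711882 q19650, e3 q17640 (flp_h L691009) q15460, e3 q17641 L711888 q19651, e3 q17642 (flp_h L691022) q15462, e3 q17643 L711903 q19653, e3 q17644 (flp_h L691036) q15465, e3 q17645 (flp_h L691042) q15467, e3 q17646 L691054 q17646, e3 q17647 (flp_h L708815) q19312, e3 q17648 (flp_h L708732) q19304, e3 q17649 L711949 q19660, e3 q17650 (flp_h L708787) q19309, e3 q17651 (flp_h L708708) q19301, e3 q17652 L711977 q19664, e3 q17653 L711985 q19665, e3 q17654 (flp_h L691105) q15475, e3 q17655 (flp_h L702701) q18718, e3 q17656 (flp_h L711856) q19645, e3 q17657 L712021 q19671, e3 q17658 L712027 q19672, e3 q17659 (flp_h L708632) q19294, e3 q17660 L712055 q19676, e3 q17661 (flp_h L691147) q15478, e3 q17662 (flp_h L708612) q19292, e3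 q17663 L712081 q19680, trivial⟩ (by decide +kernel)

theorem ce_h_276 : ∀ r, r < 64 → sm gh (Qf (17664 + r)) = Qf (tab Gen.h (17664 + r)) :=
  edges_tab (sm gh) Qf (tab Gen.h) 17664 [(17664, 15480), (17665, 19682), (17666, 15483), (17667, 19684), (17668, 18664), (17669, 19686), (17670, 15487), (17671, 18141), (17672, 19689), (17673, 15489), (17674, 15526), (17675, 18143), (17676, 19693), (17677, 15492), (17678, 19694), (17679, 15495), (17680, 19696), (17681, 15497), (17682, 15528), (17683, 19700), (17684, 15500), (17685, 15851), (17686, 15529), (17687, 19690), (17688, 15504), (17689, 15840), (17690, 19703), (17691, 15510), (17692, 19704), (17693, 15512), (17694, 19706), (17695, 19001), (17696, 19708), (17697, 15517), (17698, 15518), (17699, 19711), (17700, 15519), (17701, 19677), (17702, 15522), (17703, 19683), (17704, 15524), (17705, 19687), (17706, 19691), (17707, 19695), (17708, 19698), (17709, 19699), (17710, 19702), (17711, 19720), (17712, 19361), (17713, 15533), (17714, 19721), (17715, 15537), (17716, 15616), (17717,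 15539), (17718, 15543), (17719, 18082), (17720, 18184), (17721, 18081), (17722, 18951), (17723, 15635), (17724, 18954), (17725, 19725), (17726, 19726), (17727, 15556)]
    ⟨e3 q17664 (flp_h L691167) q15480, e3 q17665 L712091 q19682, e3 q17666 (flp_h L691179) q15483, e3 q17667 L712103 q19684, e3 q17668 (flp_h L702119) q18664, e3 q17669 L712117 q19686, e3 q17670 (flp_h L691209) q15487, e3 q17671 (flp_h L695425) q18141, e3 q17672 L712143 q19689, e3 q17673 (flp_h L691231) q15489, e3 q17674 L691243 q15526, e3 q17675 (flp_h L695455) q18143, e3 q17676 L712171 q19693, e3 q17677 (flp_h L691259) q15492, e3 q17678 L712177 q19694, e3 q17679 (flp_h L691271) q15495, e3 q17680 L712189 q19696, e3 q17681 (flp_h L691283) q15497, e3 q17682 L691293 q15528, e3 q17683 L712211 q19700, e3 q17684 (flp_h L691303) q15500, e3 q17685 L691311 q15851, e3 q17686 L691315 q15529, e3 q17687 (flp_h L712155) q19690, e3 q17688 (flp_h L691325) q15504, e3 q17689 L691339 q15840, e3 q17690 L712227 q19703, e3 q17691 (flp_h L691347) q15510, e3 q17692 L712236 q19704,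 e3 q17693 (flp_h L691368) q15512, e3 q17694 L712254 q19706, e3 q17695 (flp_h L705622) q19001, e3 q17696 L712271 q19708, e3 q17697 (flp_h L691401) q15517, e3 q17698 (flp_h L691410) q15518, e3 q17699 L712296 q19711, e3 q17700 (flp_h L691425) q15519, e3 q17701 (flp_h L712065) q19677, e3 q17702 (flp_h L691439) q15522, e3 q17703 (flp_h L712101) q19683, e3 q17704 (flp_h L691455) q15524, e3 q17705 (flp_h L712131) q19687, e3 q17706 (flp_h L712161) q19691, e3 q17707 (flp_h L712187) q19695, e3 q17708 (flp_h L712203) q19698, e3 q17709 (flp_h L712209) q19699, e3 q17710 (flp_h L712225) q19702, e3 q17711 L712350 q19720, e3 q17712 (flp_h L709339) q19361, e3 q17713 (flp_h L691523) q15533, e3 q17714 L712360 q19721, e3 q17715 (flp_h L691541) q15537, e3 q17716 L691563 q15616, e3 q17717 (flp_h L691565) q15539, e3 q17718 (flp_h L691574) q15543, e3 q17719 L694490 q18082, e3 q17720 L696045 q18184, e3 q17721 L694471 q18081, e3 q17722 (flp_h L705069) q18951, e3 q17723 L691622 q15635, e3 q17724 (flp_h L705100) q18954, e3 q17725 L712393 q19725, e3 q17726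 L712403 q19726, e3 q17727 (flp_h L691646) q15556, trivial⟩ (by decide +kernel)

theorem ce_h_277 : ∀ r, r < 64 → sm gh (Qf (17728 + r)) = Qf (tab Gen.h (17728 + r)) :=
  edges_tab (sm gh) Qf (tab Gen.h) 17728 [(17728, 15557), (17729, 19363), (17730, 19728), (17731, 15573), (17732, 15671), (17733, 15576), (17734, 19732), (17735, 15581), (17736, 19734), (17737, 15566), (17738, 19735), (17739, 15568), (17740, 19736), (17741, 15570), (17742, 18918), (17743, 19729), (17744, 19741), (17745, 18908), (17746, 18920), (17747, 19747), (17748, 18961), (17749, 19750), (17750, 15577), (17751, 18911), (17752, 19754), (17753, 19748), (17754, 18922), (17755, 19758), (17756, 15580), (17757, 19759), (17758, 15582), (17759, 18352), (17760, 19763), (17761, 18699), (17762, 19765), (17763, 15586), (17764, 15611), (17765, 19767), (17766, 15588), (17767, 18348), (17768, 19769), (17769, 15591), (17770, 19770), (17771, 15593), (17772, 15595), (17773, 15597), (17774, 17774), (17775, 18729), (17776, 19018), (17777, 18994), (17778, 18999), (17779, 19013),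 (17780, 18301), (17781, 15634), (17782, 18991), (17783, 19775), (17784, 18303), (17785, 15617), (17786, 15620), (17787, 19394), (17788, 19382), (17789, 19779), (17790, 15637), (17791, 19781)]
    ⟨e3 q17728 (flp_h L691654) q15557, e3 q17729 (flp_h L709362) q19363, e3 q17730 L712415 q19728, e3 q17731 L691678 q15573, e3 q17732 L691687 q15671, e3 q17733 L691693 q15576, e3 q17734 L712440 q19732, e3 q17735 L691707 q15581, e3 q17736 L712458 q19734, e3 q17737 (flp_h L691715) q15566, e3 q17738 L712464 q19735, e3 q17739 (flp_h L691736) q15568, e3 q17740 L712479 q19736, e3 q17741 (flp_h L691753) q15570, e3 q17742 (flp_h L704705) q18918, e3 q17743 (flp_h L712425) q19729, e3 q17744 L712511 q19741, e3 q17745 (flp_h L704579) q18908, e3 q17746 (flp_h L704728) q18920, e3 q17747 L712556 q19747, e3 q17748 L705186 q18961, e3 q17749 L712582 q19750, e3 q17750 (flp_h L691819) q15577, e3 q17751 (flp_h L704615) q18911, e3 q17752 L712614 q19754, e3 q17753 (flp_h L712570) q19748, e3 q17754 (flp_h L704748) q18922, e3 q17755 L712639 q19758, e3 q17756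 (flp_h L691855) q15580, e3 q17757 L712645 q19759, e3 q17758 (flp_h L691869) q15582, e3 q17759 (flp_h L698298) q18352, e3 q17760 L712678 q19763, e3 q17761 L702465 q18699, e3 q17762 L712694 q19765, e3 q17763 (flp_h L691909) q15586, e3 q17764 L691922 q15611, e3 q17765 L712712 q19767, e3 q17766 (flp_h L691935) q15588, e3 q17767 (flp_h L698243) q18348, e3 q17768 L712729 q19769, e3 q17769 (flp_h L691962) q15591, e3 q17770 L712739 q19770, e3 q17771 (flp_h L691975) q15593, e3 q17772 (flp_h L691983) q15595, e3 q17773 (flp_h L691989) q15597, e3 q17774 L692001 q17774, e3 q17775 (flp_h L702824) q18729, e3 q17776 (flp_h L705793) q19018, e3 q17777 (flp_h L705554) q18994, e3 q17778 (flp_h L705604) q18999, e3 q17779 (flp_h L705731) q19013, e3 q17780 (flp_h L697622) q18301, e3 q17781 L692064 q15634, e3 q17782 (flp_h L705510) q18991, e3 q17783 L712774 q19775, e3 q17784 (flp_h L697651) q18303, e3 q17785 (flp_h L692096) q15617, e3 q17786 (flp_h L692109) q15620, e3 q17787 (flp_h L709665) q19394, e3 q17788 (flp_h L709559) q19382, e3 q17789 L712801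 q19779, e3 q17790 L692150 q15637, e3 q17791 L712815 q19781, trivial⟩ (by decide +kernel)

theorem ce_h_278 : ∀ r, r < 64 → sm gh (Qf (17792 + r)) = Qf (tab Gen.h (17792 + r)) :=
  edges_tab (sm gh) Qf (tab Gen.h) 17792 [(17792, 19782), (17793, 15631), (17794, 15632), (17795, 19216), (17796, 19751), (17797, 19787), (17798, 19212), (17799, 19256), (17800, 19791), (17801, 19792), (17802, 15638), (17803, 18429), (17804, 19257), (17805, 19797), (17806, 19798), (17807, 19800), (17808, 15641), (17809, 15642), (17810, 18440), (17811, 19803), (17812, 15645), (17813, 19804), (17814, 15648), (17815, 15650), (17816, 19220), (17817, 19248), (17818, 15765), (17819, 19249), (17820, 19133), (17821, 19251), (17822, 15661), (17823, 19807), (17824, 15901), (17825, 19497), (17826, 19473), (17827, 19813), (17828, 19814), (17829, 15669), (17830, 15704), (17831, 15705), (17832, 19819), (17833, 15707), (17834, 15708), (17835, 19824), (17836, 19825), (17837, 15674), (17838, 15713), (17839, 15714), (17840, 19831), (17841, 19833), (17842, 15717), (17843,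 19837), (17844, 15677), (17845, 15720), (17846, 19840), (17847, 15679), (17848, 15723), (17849, 15724), (17850, 19844), (17851, 19845), (17852, 15683), (17853, 15684), (17854, 19846), (17855, 15734)]
    ⟨e3 q17792 L712825 q19782, e3 q17793 (flp_h L692168) q15631, e3 q17794 (flp_h L692176) q15632, e3 q17795 (flp_h L707679) q19216, e3 q17796 L712598 q19751, e3 q17797 L712865 q19787, e3 q17798 (flp_h L707615) q19212, e3 q17799 (flp_h L708172) q19256, e3 q17800 L712898 q19791, e3 q17801 L712908 q19792, e3 q17802 (flp_h L692245) q15638, e3 q17803 (flp_h L699201) q18429, e3 q17804 (flp_h L708180) q19257, e3 q17805 L712944 q19797, e3 q17806 L712950 q19798, e3 q17807 L712964 q19800, e3 q17808 (flp_h L692287) q15641, e3 q17809 (flp_h L692295) q15642, e3 q17810 (flp_h L699322) q18440, e3 q17811 L712987 q19803, e3 q17812 (flp_h L692319) q15645, e3 q17813 L712994 q19804, e3 q17814 (flp_h L692338) q15648, e3 q17815 (flp_h L692344) q15650, e3 q17816 (flp_h L707726) q19220, e3 q17817 (flp_h L708063) q19248, e3 q17818 L692381 q15765, e3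 q17819 (flp_h L708080) q19249, e3 q17820 (flp_h L706962) q19133, e3 q17821 (flp_h L708109) q19251, e3 q17822 (flp_h L692407) q15661, e3 q17823 L713018 q19807, e3 q17824 L692435 q15901, e3 q17825 (flp_h L710647) q19497, e3 q17826 (flp_h L710460) q19473, e3 q17827 L713058 q19813, e3 q17828 L713064 q19814, e3 q17829 (flp_h L692461) q15669, e3 q17830 L692470 q15704, e3 q17831 L692478 q15705, e3 q17832 L713096 q19819, e3 q17833 L692495 q15707, e3 q17834 L692503 q15708, e3 q17835 L713135 q19824, e3 q17836 L713145 q19825, e3 q17837 (flp_h L692521) q15674, e3 q17838 L692535 q15713, e3 q17839 L692541 q15714, e3 q17840 L713187 q19831, e3 q17841 L713200 q19833, e3 q17842 L692559 q15717, e3 q17843 L713228 q19837, e3 q17844 (flp_h L692569) q15677, e3 q17845 L692581 q15720, e3 q17846 L713248 q19840, e3 q17847 (flp_h L692589) q15679, e3 q17848 L692602 q15723, e3 q17849 L692613 q15724, e3 q17850 L713281 q19844, e3 q17851 L713292 q19845, e3 q17852 (flp_h L692635) q15683, e3 q17853 (flp_h L692644) q15684, e3 q17854 L713303 q19846, e3 q17855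 L692668 q15734, trivial⟩ (by decide +kernel)

theorem ce_h_279 : ∀ r, r < 64 → sm gh (Qf (17856 + r)) = Qf (tab Gen.h (17856 + r)) :=
  edges_tab (sm gh) Qf (tab Gen.h) 17856 [(17856, 19848), (17857, 15688), (17858, 15737), (17859, 19851), (17860, 15690), (17861, 15741), (17862, 19854), (17863, 15693), (17864, 15695), (17865, 15696), (17866, 15750), (17867, 19857), (17868, 15699), (17869, 17869), (17870, 19859), (17871, 15702), (17872, 19815), (17873, 19862), (17874, 19817), (17875, 19865), (17876, 15706), (17877, 19820), (17878, 19868), (17879, 19038), (17880, 19430), (17881, 19871), (17882, 15709), (17883, 18369), (17884, 19875), (17885, 15711), (17886, 19826), (17887, 19879), (17888, 19033), (17889, 19829), (17890, 19884), (17891, 15715), (17892, 19887), (17893, 15716), (17894, 19890), (17895, 19835), (17896, 19893), (17897, 15718), (17898, 15769), (17899, 19838), (17900, 19897), (17901, 15721), (17902, 19681), (17903, 19519), (17904, 19902), (17905, 19429), (17906, 19904), (17907, 15725), (17908, 19905), (17909, 15727),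 (17910, 15771), (17911, 18366), (17912, 19909), (17913, 15730), (17914, 19507), (17915, 19911), (17916, 15733), (17917, 19504), (17918, 19913), (17919, 15735)]
    ⟨e3 q17856 L713318 q19848, e3 q17857 (flp_h L692679) q15688, e3 q17858 L692692 q15737, e3 q17859 L713346 q19851, e3 q17860 (flp_h L692703) q15690, e3 q17861 L692719 q15741, e3 q17862 L713369 q19854, e3 q17863 (flp_h L692729) q15693, e3 q17864 (flp_h L692735) q15695, e3 q17865 (flp_h L692742) q15696, e3 q17866 L692756 q15750, e3 q17867 L713393 q19857, e3 q17868 (flp_h L692766) q15699, e3 q17869 L692780 q17869, e3 q17870 L713409 q19859, e3 q17871 (flp_h L692788) q15702, e3 q17872 (flp_h L713074) q19815, e3 q17873 L713429 q19862, e3 q17874 (flp_h L713087) q19817, e3 q17875 L713446 q19865, e3 q17876 (flp_h L692818) q15706, e3 q17877 (flp_h L713109) q19820, e3 q17878 L713472 q19868, e3 q17879 (flp_h L706010) q19038, e3 q17880 (flp_h L710043) q19430, e3 q17881 L713502 q19871, e3 q17882 (flp_h L692865) q15709, e3 q17883 (flp_h L698521) q18369, e3 q17884 L713532 q19875,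 e3 q17885 (flp_h L692885) q15711, e3 q17886 (flp_h L713157) q19826, e3 q17887 L713556 q19879, e3 q17888 (flp_h L705962) q19033, e3 q17889 (flp_h L713177) q19829, e3 q17890 L713596 q19884, e3 q17891 (flp_h L692923) q15715, e3 q17892 L713618 q19887, e3 q17893 (flp_h L692935) q15716, e3 q17894 L713636 q19890, e3 q17895 (flp_h L713218) q19835, e3 q17896 L713654 q19893, e3 q17897 (flp_h L692959) q15718, e3 q17898 L692969 q15769, e3 q17899 (flp_h L713240) q19838, e3 q17900 L713674 q19897, e3 q17901 (flp_h L692981) q15721, e3 q17902 (flp_h L712089) q19681, e3 q17903 (flp_h L710858) q19519, e3 q17904 L713705 q19902, e3 q17905 (flp_h L710033) q19429, e3 q17906 L713724 q19904, e3 q17907 (flp_h L693026) q15725, e3 q17908 L713733 q19905, e3 q17909 (flp_h L693045) q15727, e3 q17910 L693061 q15771, e3 q17911 (flp_h L698491) q18366, e3 q17912 L713766 q19909, e3 q17913 (flp_h L693077) q15730, e3 q17914 (flp_h L710750) q19507, e3 q17915 L713779 q19911, e3 q17916 (flp_h L693099) q15733, e3 q17917 (flp_h L710716) q19504, e3 q17918 L713797 q19913,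 e3 q17919 (flp_h L693121) q15735, trivial⟩ (by decide +kernel)

theorem ce_h_280 : ∀ r, r < 64 → sm gh (Qf (17920 + r)) = Qf (tab Gen.h (17920 + r)) :=
  edges_tab (sm gh) Qf (tab Gen.h) 17920 [(17920, 15773), (17921, 19849), (17922, 19916), (17923, 15738), (17924, 15939), (17925, 15774), (17926, 19920), (17927, 15742), (17928, 15744), (17929, 19495), (17930, 19922), (17931, 15747), (17932, 15949), (17933, 19925), (17934, 15751), (17935, 15952), (17936, 15953), (17937, 15755), (17938, 18338), (17939, 19885), (17940, 19872), (17941, 19927), (17942, 15768), (17943, 19895), (17944, 19907), (17945, 19919), (17946, 15777), (17947, 19930), (17948, 15781), (17949, 19254), (17950, 17950), (17951, 17951), (17952, 19935), (17953, 19936), (17954, 15785), (17955, 17955), (17956, 17956), (17957, 19940), (17958, 19941), (17959, 19943), (17960, 15788), (17961, 15789), (17962, 19065), (17963, 15806), (17964, 19071), (17965, 19068), (17966, 19070), (17967, 19067), (17968, 19072), (17969, 15800), (17970, 19949), (17971, 15958), (17972, 19237),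 (17973, 19041), (17974, 19046), (17975, 18116), (17976, 17976), (17977, 18120), (17978, 18078), (17979, 18130), (17980, 18560), (17981, 17981), (17982, 17982), (17983, 17983)]
    ⟨e3 q17920 L693137 q15773, e3 q17921 (flp_h L713335) q19849, e3 q17922 L713821 q19916, e3 q17923 (flp_h L693157) q15738, e3 q17924 L693167 q15939, e3 q17925 L693173 q15774, e3 q17926 L713847 q19920, e3 q17927 (flp_h L693183) q15742, e3 q17928 (flp_h L693189) q15744, e3 q17929 (flp_h L710624) q19495, e3 q17930 L713864 q19922, e3 q17931 (flp_h L693213) q15747, e3 q17932 L693225 q15949, e3 q17933 L713886 q19925, e3 q17934 (flp_h L693236) q15751, e3 q17935 L693247 q15952, e3 q17936 L693252 q15953, e3 q17937 (flp_h L693256) q15755, e3 q17938 (flp_h L698118) q18338, e3 q17939 (flp_h L713610) q19885, e3 q17940 (flp_h L713518) q19872, e3 q17941 L713899 q19927, e3 q17942 (flp_h L693296) q15768, e3 q17943 (flp_h L713666) q19895, e3 q17944 (flp_h L713755) q19907, e3 q17945 (flp_h L713845) q19919, e3 q17946 (flp_h L693321) q15777, e3 q17947 L713921 q19930, e3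 q17948 (flp_h L693337) q15781, e3 q17949 (flp_h L708148) q19254, e3 q17950 L693359 q17950, e3 q17951 L693369 q17951, e3 q17952 L713972 q19935, e3 q17953 L713981 q19936, e3 q17954 (flp_h L693389) q15785, e3 q17955 L693404 q17955, e3 q17956 L693412 q17956, e3 q17957 L714014 q19940, e3 q17958 L714022 q19941, e3 q17959 L714035 q19943, e3 q17960 (flp_h L693433) q15788, e3 q17961 (flp_h L693440) q15789, e3 q17962 (flp_h L706284) q19065, e3 q17963 L693463 q15806, e3 q17964 (flp_h L706365) q19071, e3 q17965 (flp_h L706325) q19068, e3 q17966 (flp_h L706354) q19070, e3 q17967 (flp_h L706310) q19067, e3 q17968 (flp_h L706379) q19072, e3 q17969 (flp_h L693499) q15800, e3 q17970 L714071 q19949, e3 q17971 L693518 q15958, e3 q17972 (flp_h L707928) q19237, e3 q17973 (flp_h L706038) q19041, e3 q17974 (flp_h L706093) q19046, e3 q17975 L695012 q18116, e3 q17976 L693557 q17976, e3 q17977 L695083 q18120, e3 q17978 L694419 q18078, e3 q17979 L695251 q18130, e3 q17980 (flp_h L700887) q18560, e3 q17981 L693599 q17981, e3 q17982 L693609 q17982, e3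 q17983 L693625 q17983, trivial⟩ (by decide +kernel)

theorem ce_h_281 : ∀ r, r < 64 → sm gh (Qf (17984 + r)) = Qf (tab Gen.h (17984 + r)) :=
  edges_tab (sm gh) Qf (tab Gen.h) 17984 [(17984, 17984), (17985, 17985), (17986, 17986), (17987, 18161), (17988, 18802), (17989, 18189), (17990, 18539), (17991, 15844), (17992, 19697), (17993, 19701), (17994, 19952), (17995, 15854), (17996, 19954), (17997, 15857), (17998, 19955), (17999, 18186), (18000, 18083), (18001, 18223), (18002, 18876), (18003, 18788), (18004, 18004), (18005, 15869), (18006, 18006), (18007, 18007), (18008, 18008), (18009, 18009), (18010, 18010), (18011, 18011), (18012, 18012), (18013, 18013), (18014, 19961), (18015, 15887), (18016, 15905), (18017, 19962), (18018, 15890), (18019, 15906), (18020, 15892), (18021, 15907), (18022, 15908), (18023, 19966), (18024, 19967), (18025, 15904), (18026, 19963), (18027, 19964), (18028, 19965), (18029, 18029), (18030, 18030), (18031, 19971), (18032, 15912), (18033, 19973), (18034, 15914), (18035, 19976), (18036, 19977), (18037,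 15916), (18038, 19979), (18039, 15918), (18040, 19978), (18041, 15926), (18042, 15921), (18043, 15941), (18044, 15950), (18045, 18045), (18046, 19983), (18047, 15927)]
    ⟨e3 q17984 L693636 q17984, e3 q17985 L693649 q17985, e3 q17986 L693666 q17986, e3 q17987 L695687 q18161, e3 q17988 (flp_h L703575) q18802, e3 q17989 (flp_h L696133) q18189, e3 q17990 (flp_h L700631) q18539, e3 q17991 (flp_h L693700) q15844, e3 q17992 (flp_h L712199) q19697, e3 q17993 (flp_h L712219) q19701, e3 q17994 L714087 q19952, e3 q17995 (flp_h L693722) q15854, e3 q17996 L714098 q19954, e3 q17997 (flp_h L693738) q15857, e3 q17998 (flp_h L714108) q19955, e3 q17999 L696080 q18186, e3 q18000 L694508 q18083, e3 q18001 L696600 q18223, e3 q18002 L704225 q18876, e3 q18003 L703428 q18788, e3 q18004 L693787 q18004, e3 q18005 (flp_h L693788) q15869, e3 q18006 L693806 q18006, e3 q18007 L693812 q18007, e3 q18008 L693820 q18008, e3 q18009 L693832 q18009, e3 q18010 L693845 q18010, e3 q18011 L693862 q18011, e3 q18012 L693870 q18012, e3 q18013 L693877 q18013, e3 q18014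 L714150 q19961, e3 q18015 (flp_h L693892) q15887, e3 q18016 L693911 q15905, e3 q18017 (flp_h L714176) q19962, e3 q18018 (flp_h L693926) q15890, e3 q18019 L693945 q15906, e3 q18020 (flp_h L693947) q15892, e3 q18021 L693963 q15907, e3 q18022 L693972 q15908, e3 q18023 L714208 q19966, e3 q18024 L714213 q19967, e3 q18025 (flp_h L693989) q15904, e3 q18026 (flp_h L714186) q19963, e3 q18027 (flp_h L714197) q19964, e3 q18028 (flp_h L714205) q19965, e3 q18029 L694028 q18029, e3 q18030 L694038 q18030, e3 q18031 L714252 q19971, e3 q18032 (flp_h L694051) q15912, e3 q18033 L714274 q19973, e3 q18034 (flp_h L694067) q15914, e3 q18035 L714292 q19976, e3 q18036 L714296 q19977, e3 q18037 (flp_h L694084) q15916, e3 q18038 L714308 q19979, e3 q18039 (flp_h L694098) q15918, e3 q18040 (flp_h L714306) q19978, e3 q18041 L694119 q15926, e3 q18042 (flp_h L694122) q15921, e3 q18043 L694139 q15941, e3 q18044 L694147 q15950, e3 q18045 L694157 q18045, e3 q18046 (flp_h L714348) q19983, e3 q18047 (flp_h L694171) q15927, trivial⟩ (by decide +kernel)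

theorem ce_h_282 : ∀ r, r < 64 → sm gh (Qf (18048 + r)) = Qf (tab Gen.h (18048 + r)) :=
  edges_tab (sm gh) Qf (tab Gen.h) 18048 [(18048, 19906), (18049, 19987), (18050, 15931), (18051, 19988), (18052, 15934), (18053, 19914), (18054, 19984), (18055, 15937), (18056, 19917), (18057, 19918), (18058, 15957), (18059, 19994), (18060, 15944), (18061, 19985), (18062, 15947), (18063, 19923), (18064, 19924), (18065, 19926), (18066, 15955), (18067, 15960), (18068, 19996), (18069, 15962), (18070, 19997), (18071, 15964), (18072, 18326), (18073, 15969), (18074, 15971), (18075, 15973), (18076, 15975), (18077, 19998), (18078, 17978), (18079, 15978), (18080, 18080), (18081, 17721), (18082, 17719), (18083, 18000), (18084, 15987), (18085, 18085), (18086, 18086), (18087, 20001), (18088, 15993), (18089, 18089), (18090, 18090), (18091, 20003), (18092, 15997), (18093, 20004), (18094, 16000), (18095, 16002), (18096, 18096), (18097, 18097), (18098, 18098), (18099, 16006), (18100, 20006), (18101, 16010), (18102, 20007), (18103, 16013), (18104, 18104),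 (18105, 16015), (18106, 18106), (18107, 18107), (18108, 16027), (18109, 20011), (18110, 16517), (18111, 20013)]
    ⟨e3 q18048 (flp_h L713746) q19906, e3 q18049 L714381 q19987, e3 q18050 (flp_h L694193) q15931, e3 q18051 L714389 q19988, e3 q18052 (flp_h L694212) q15934, e3 q18053 (flp_h L713809) q19914, e3 q18054 (flp_h L714359) q19984, e3 q18055 (flp_h L694235) q15937, e3 q18056 (flp_h L713833) q19917, e3 q18057 (flp_h L713839) q19918, e3 q18058 L694259 q15957, e3 q18059 L714429 q19994, e3 q18060 (flp_h L694274) q15944, e3 q18061 (flp_h L714368) q19985, e3 q18062 (flp_h L694295) q15947, e3 q18063 (flp_h L713877) q19923, e3 q18064 (flp_h L713884) q19924, e3 q18065 (flp_h L713897) q19926, e3 q18066 (flp_h L694324) q15955, e3 q18067 (flp_h L694329) q15960, e3 q18068 L714449 q19996, e3 q18069 (flp_h L694343) q15962, e3 q18070 L714456 q19997, e3 q18071 (flp_h L694355) q15964, e3 q18072 (flp_h L697961) q18326, e3 q18073 (flp_h L694367) q15969, e3 q18074 (flp_h L694375) q15971, e3 q18075 (flp_h L694384) q15973, e3 q18076 (flp_h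 L694392) q15975, e3 q18077 (flp_h L714464) q19998, e3 q18078 (flp_h L694419) q17978, e3 q18079 (flp_h L694421) q15978, e3 q18080 L694453 q18080, e3 q18081 (flp_h L694471) q17721, e3 q18082 (flp_h L694490) q17719, e3 q18083 (flp_h L694508) q18000, e3 q18084 (flp_h L694510) q15987, e3 q18085 L694539 q18085, e3 q18086 L694558 q18086, e3 q18087 L714478 q20001, e3 q18088 (flp_h L694575) q15993, e3 q18089 L694608 q18089, e3 q18090 L694622 q18090, e3 q18091 L714513 q20003, e3 q18092 (flp_h L694640) q15997, e3 q18093 L714529 q20004, e3 q18094 (flp_h L694670) q16000, e3 q18095 (flp_h L694684) q16002, e3 q18096 L694711 q18096, e3 q18097 L694721 q18097, e3 q18098 L694737 q18098, e3 q18099 (flp_h L694742) q16006, e3 q18100 L714561 q20006, e3 q18101 (flp_h L694776) q16010, e3 q18102 L714578 q20007, e3 q18103 (flp_h L694807) q16013, e3 q18104 L694831 q18104, e3 q18105 (flp_h L694834) q16015, e3 q18106 L694857 q18106, e3 q18107 L694866 q18107, e3 q18108 L694883 q16027, e3 q18109 L714646 q20011, e3 q18110 L694916 q16517, e3 q18111 L714682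 q20013, trivial⟩ (by decide +kernel)

theorem ce_h_283 : ∀ r, r < 64 → sm gh (Qf (18112 + r)) = Qf (tab Gen.h (18112 + r)) :=
  edges_tab (sm gh) Qf (tab Gen.h) 18112 [(18112, 16520), (18113, 20015), (18114, 20016), (18115, 16028), (18116, 17975), (18117, 16032), (18118, 20018), (18119, 16038), (18120, 17977), (18121, 16040), (18122, 20019), (18123, 20020), (18124, 16046), (18125, 16047), (18126, 16048), (18127, 16507), (18128, 20022), (18129, 16050), (18130, 17979), (18131, 16053), (18132, 20023), (18133, 16067), (18134, 16121), (18135, 16072), (18136, 20030), (18137, 16074), (18138, 16075), (18139, 20031), (18140, 16064), (18141, 17671), (18142, 16130), (18143, 17675), (18144, 20026), (18145, 20038), (18146, 16800), (18147, 20041), (18148, 17269), (18149, 16804), (18150, 20047), (18151, 20028), (18152, 20049), (18153, 16073), (18154, 16631), (18155, 16630), (18156, 20052), (18157, 20053), (18158, 16076), (18159, 16077), (18160, 18160), (18161, 17987), (18162, 20056), (18163, 16082), (18164, 20054), (18165, 17274), (18166,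 16471), (18167, 17278), (18168, 20060), (18169, 16091), (18170, 17282), (18171, 16095), (18172, 17246), (18173, 17272), (18174, 20063), (18175, 20064)]
    ⟨e3 q18112 L694950 q16520, e3 q18113 L714717 q20015, e3 q18114 L714735 q20016, e3 q18115 (flp_h L694985) q16028, e3 q18116 (flp_h L695012) q17975, e3 q18117 (flp_h L695014) q16032, e3 q18118 L714762 q20018, e3 q18119 (flp_h L695048) q16038, e3 q18120 (flp_h L695083) q17977, e3 q18121 (flp_h L695085) q16040, e3 q18122 L714782 q20019, e3 q18123 L714802 q20020, e3 q18124 (flp_h L695139) q16046, e3 q18125 (flp_h L695153) q16047, e3 q18126 (flp_h L695167) q16048, e3 q18127 L695199 q16507, e3 q18128 L714838 q20022, e3 q18129 (flp_h L695221) q16050, e3 q18130 (flp_h L695251) q17979, e3 q18131 (flp_h L695253) q16053, e3 q18132 (flp_h L714864) q20023, e3 q18133 L695295 q16067, e3 q18134 L695313 q16121, e3 q18135 L695327 q16072, e3 q18136 L714958 q20030, e3 q18137 L695354 q16074, e3 q18138 L695376 q16075, e3 q18139 L714974 q20031, e3 q18140 (flp_h L695397) q16064, e3 q18141 L695425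 q17671, e3 q18142 L695443 q16130, e3 q18143 L695455 q17675, e3 q18144 (flp_h L714908) q20026, e3 q18145 L715076 q20038, e3 q18146 L695495 q16800, e3 q18147 L715120 q20041, e3 q18148 L695523 q17269, e3 q18149 L695537 q16804, e3 q18150 L715209 q20047, e3 q18151 (flp_h L714939) q20028, e3 q18152 L715235 q20049, e3 q18153 (flp_h L695574) q16073, e3 q18154 L695594 q16631, e3 q18155 L695610 q16630, e3 q18156 L715276 q20052, e3 q18157 L715290 q20053, e3 q18158 (flp_h L695638) q16076, e3 q18159 (flp_h L695650) q16077, e3 q18160 L695669 q18160, e3 q18161 (flp_h L695687) q17987, e3 q18162 L715333 q20056, e3 q18163 (flp_h L695702) q16082, e3 q18164 (flp_h L715314) q20054, e3 q18165 L695743 q17274, e3 q18166 L695756 q16471, e3 q18167 L695773 q17278, e3 q18168 L715391 q20060, e3 q18169 (flp_h L695788) q16091, e3 q18170 L695819 q17282, e3 q18171 (flp_h L695821) q16095, e3 q18172 L695849 q17246, e3 q18173 L695868 q17272, e3 q18174 L715444 q20063, e3 q18175 L715462 q20064, trivial⟩ (by decide +kernel)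

theorem ce_h_284 : ∀ r, r < 64 → sm gh (Qf (18176 + r)) = Qf (tab Gen.h (18176 + r)) :=
  edges_tab (sm gh) Qf (tab Gen.h) 18176 [(18176, 16103), (18177, 16104), (18178, 17247), (18179, 20067), (18180, 16109), (18181, 17265), (18182, 20069), (18183, 16111), (18184, 17720), (18185, 20070), (18186, 17999), (18187, 16117), (18188, 16129), (18189, 17989), (18190, 16132), (18191, 20075), (18192, 20076), (18193, 16136), (18194, 20079), (18195, 16125), (18196, 16143), (18197, 20081), (18198, 16127), (18199, 20071), (18200, 20084), (18201, 17226), (18202, 20086), (18203, 20073), (18204, 20089), (18205, 16133), (18206, 16134), (18207, 16135), (18208, 20077), (18209, 20092), (18210, 16137), (18211, 16139), (18212, 16566), (18213, 20095), (18214, 16141), (18215, 20043), (18216, 20097), (18217, 16144), (18218, 16152), (18219, 18219), (18220, 20101), (18221, 16147), (18222, 20093), (18223, 18001), (18224, 16150), (18225, 20098), (18226, 20099), (18227, 16156), (18228, 17348), (18229, 16289), (18230, 16158), (18231, 16171), (18232, 16292),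 (18233, 16173), (18234, 16174), (18235, 20120), (18236, 16176), (18237, 16177), (18238, 20124), (18239, 20125)]
    ⟨e3 q18176 (flp_h L695904) q16103, e3 q18177 (flp_h L695918) q16104, e3 q18178 L695945 q17247, e3 q18179 L715513 q20067, e3 q18180 (flp_h L695965) q16109, e3 q18181 L695993 q17265, e3 q18182 L715547 q20069, e3 q18183 (flp_h L696015) q16111, e3 q18184 (flp_h L696045) q17720, e3 q18185 (flp_h L715581) q20070, e3 q18186 (flp_h L696080) q17999, e3 q18187 (flp_h L696082) q16117, e3 q18188 L696115 q16129, e3 q18189 L696133 q17989, e3 q18190 L696145 q16132, e3 q18191 L715649 q20075, e3 q18192 L715663 q20076, e3 q18193 L696190 q16136, e3 q18194 L715709 q20079, e3 q18195 (flp_h L696207) q16125, e3 q18196 L696230 q16143, e3 q18197 L715738 q20081, e3 q18198 (flp_h L696247) q16127, e3 q18199 (flp_h L715595) q20071, e3 q18200 L715781 q20084, e3 q18201 L696299 q17226, e3 q18202 L715811 q20086, e3 q18203 (flp_h L715629) q20073, e3 q18204 L715861 q20089, e3 q18205 (flp_h L696345) q16133, e3 q18206 (flp_h L696353) q16134, e3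 q18207 (flp_h L696367) q16135, e3 q18208 (flp_h L715692) q20077, e3 q18209 L715897 q20092, e3 q18210 (flp_h L696411) q16137, e3 q18211 (flp_h L696425) q16139, e3 q18212 L696457 q16566, e3 q18213 L715937 q20095, e3 q18214 (flp_h L696477) q16141, e3 q18215 (flp_h L715166) q20043, e3 q18216 L715969 q20097, e3 q18217 (flp_h L696517) q16144, e3 q18218 L696529 q16152, e3 q18219 L696543 q18219, e3 q18220 L716019 q20101, e3 q18221 (flp_h L696560) q16147, e3 q18222 (flp_h L715919) q20093, e3 q18223 (flp_h L696600) q18001, e3 q18224 (flp_h L696602) q16150, e3 q18225 (flp_h L715987) q20098, e3 q18226 (flp_h L715995) q20099, e3 q18227 (flp_h L696637) q16156, e3 q18228 L696660 q17348, e3 q18229 L696674 q16289, e3 q18230 (flp_h L696676) q16158, e3 q18231 L696700 q16171, e3 q18232 L696713 q16292, e3 q18233 L696723 q16173, e3 q18234 L696736 q16174, e3 q18235 L716271 q20120, e3 q18236 L696757 q16176, e3 q18237 L696775 q16177, e3 q18238 L716326 q20124, e3 q18239 L716339 q20125, trivial⟩ (by decide +kernel)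

theorem ce_h_285 : ∀ r, r < 64 → sm gh (Qf (18240 + r)) = Qf (tab Gen.h (18240 + r)) :=
  edges_tab (sm gh) Qf (tab Gen.h) 18240 [(18240, 16182), (18241, 20127), (18242, 16166), (18243, 16167), (18244, 16168), (18245, 20111), (18246, 16312), (18247, 20113), (18248, 20114), (18249, 20136), (18250, 17366), (18251, 20116), (18252, 20142), (18253, 20118), (18254, 20144), (18255, 16175), (18256, 17359), (18257, 20147), (18258, 20122), (18259, 20150), (18260, 16178), (18261, 20151), (18262, 17353), (18263, 20153), (18264, 16181), (18265, 20155), (18266, 16183), (18267, 16185), (18268, 16186), (18269, 16209), (18270, 16194), (18271, 18271), (18272, 20162), (18273, 16190), (18274, 16192), (18275, 20156), (18276, 20160), (18277, 20167), (18278, 16197), (18279, 18279), (18280, 20170), (18281, 20171), (18282, 20173), (18283, 16200), (18284, 16201), (18285, 16203), (18286, 16205), (18287, 20154), (18288, 16207), (18289, 20157), (18290, 20159), (18291, 16210), (18292, 20178), (18293, 16213), (18294, 16214), (18295, 16661), (18296, 16552),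 (18297, 16844), (18298, 16550), (18299, 16223), (18300, 16231), (18301, 17780), (18302, 16233), (18303, 17784)]
    ⟨e3 q18240 L696811 q16182, e3 q18241 L716366 q20127, e3 q18242 (flp_h L696828) q16166, e3 q18243 (flp_h L696840) q16167, e3 q18244 (flp_h L696855) q16168, e3 q18245 (flp_h L716163) q20111, e3 q18246 L696898 q16312, e3 q18247 (flp_h L716193) q20113, e3 q18248 (flp_h L716206) q20114, e3 q18249 L716489 q20136, e3 q18250 L696944 q17366, e3 q18251 (flp_h L716230) q20116, e3 q18252 L716569 q20142, e3 q18253 (flp_h L716255) q20118, e3 q18254 L716591 q20144, e3 q18255 (flp_h L696990) q16175, e3 q18256 L697013 q17359, e3 q18257 L716628 q20147, e3 q18258 (flp_h L716310) q20122, e3 q18259 L716662 q20150, e3 q18260 (flp_h L697052) q16178, e3 q18261 L716673 q20151, e3 q18262 L697088 q17353, e3 q18263 L716702 q20153, e3 q18264 (flp_h L697105) q16181, e3 q18265 L716726 q20155, e3 q18266 (flp_h L697125) q16183, e3 q18267 (flp_h L697135) q16185, e3 q18268 (flp_h L697150) q16186, e3 q18269 L697174 q16209, e3 q18270 L697187 q16194,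 e3 q18271 L697198 q18271, e3 q18272 L716813 q20162, e3 q18273 (flp_h L697213) q16190, e3 q18274 (flp_h L697226) q16192, e3 q18275 (flp_h L716746) q20156, e3 q18276 (flp_h L716797) q20160, e3 q18277 L716873 q20167, e3 q18278 (flp_h L697276) q16197, e3 q18279 L697305 q18279, e3 q18280 L716918 q20170, e3 q18281 L716933 q20171, e3 q18282 L716958 q20173, e3 q18283 (flp_h L697345) q16200, e3 q18284 (flp_h L697356) q16201, e3 q18285 (flp_h L697372) q16203, e3 q18286 (flp_h L697385) q16205, e3 q18287 (flp_h L716724) q20154, e3 q18288 (flp_h L697408) q16207, e3 q18289 (flp_h L716761) q20157, e3 q18290 (flp_h L716786) q20159, e3 q18291 (flp_h L697450) q16210, e3 q18292 L717022 q20178, e3 q18293 (flp_h L697483) q16213, e3 q18294 (flp_h L697496) q16214, e3 q18295 L697525 q16661, e3 q18296 L697540 q16552, e3 q18297 L697555 q16844, e3 q18298 L697572 q16550, e3 q18299 (flp_h L697578) q16223, e3 q18300 L697606 q16231, e3 q18301 L697622 q17780, e3 q18302 L697635 q16233, e3 q18303 L697651 q17784, trivial⟩ (by decide +kernel)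

theorem ce_h_286 : ∀ r, r < 64 → sm gh (Qf (18304 + r)) = Qf (tab Gen.h (18304 + r)) :=
  edges_tab (sm gh) Qf (tab Gen.h) 18304 [(18304, 20185), (18305, 16228), (18306, 16229), (18307, 20180), (18308, 17482), (18309, 16913), (18310, 20182), (18311, 20195), (18312, 16918), (18313, 20197), (18314, 20198), (18315, 16951), (18316, 20200), (18317, 16237), (18318, 16238), (18319, 16239), (18320, 20203), (18321, 16242), (18322, 20202), (18323, 17276), (18324, 17402), (18325, 16259), (18326, 18072), (18327, 16261), (18328, 16262), (18329, 20213), (18330, 20214), (18331, 20215), (18332, 16266), (18333, 20217), (18334, 16254), (18335, 16255), (18336, 16256), (18337, 20106), (18338, 17938), (18339, 20207), (18340, 20223), (18341, 20209), (18342, 20225), (18343, 20211), (18344, 20228), (18345, 16263), (18346, 16264), (18347, 16265), (18348, 17767), (18349, 20232), (18350, 16267), (18351, 16286), (18352, 17759), (18353, 20235), (18354, 16271), (18355, 16279), (18356, 18356), (18357, 20238), (18358, 16274), (18359, 20233), (18360, 20240),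 (18361, 16277), (18362, 20236), (18363, 16280), (18364, 16283), (18365, 20229), (18366, 17911), (18367, 20107)]
    ⟨e3 q18304 L717136 q20185, e3 q18305 (flp_h L697667) q16228, e3 q18306 (flp_h L697684) q16229, e3 q18307 (flp_h L717071) q20180, e3 q18308 L697721 q17482, e3 q18309 L697731 q16913, e3 q18310 (flp_h L717101) q20182, e3 q18311 L717273 q20195, e3 q18312 L697765 q16918, e3 q18313 L717299 q20197, e3 q18314 L717312 q20198, e3 q18315 L697808 q16951, e3 q18316 L717342 q20200, e3 q18317 (flp_h L697828) q16237, e3 q18318 (flp_h L697838) q16238, e3 q18319 (flp_h L697853) q16239, e3 q18320 L717391 q20203, e3 q18321 (flp_h L697884) q16242, e3 q18322 (flp_h L717389) q20202, e3 q18323 L697922 q17276, e3 q18324 L697938 q17402, e3 q18325 L697948 q16259, e3 q18326 L697961 q18072, e3 q18327 L697973 q16261, e3 q18328 L697984 q16262, e3 q18329 L717529 q20213, e3 q18330 L717541 q20214, e3 q18331 L717556 q20215, e3 q18332 L698035 q16266, e3 q18333 L717587 q20217, e3 q18334 (flp_h L698054) q16254, e3 q18335 (flp_h L698064) q16255, e3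 q18336 (flp_h L698079) q16256, e3 q18337 (flp_h L716097) q20106, e3 q18338 L698118 q17938, e3 q18339 (flp_h L717458) q20207, e3 q18340 L717674 q20223, e3 q18341 (flp_h L717486) q20209, e3 q18342 L717704 q20225, e3 q18343 (flp_h L717515) q20211, e3 q18344 L717748 q20228, e3 q18345 (flp_h L698196) q16263, e3 q18346 (flp_h L698206) q16264, e3 q18347 (flp_h L698219) q16265, e3 q18348 L698243 q17767, e3 q18349 L717802 q20232, e3 q18350 (flp_h L698259) q16267, e3 q18351 L698284 q16286, e3 q18352 L698298 q17759, e3 q18353 L717841 q20235, e3 q18354 (flp_h L698315) q16271, e3 q18355 L698339 q16279, e3 q18356 L698353 q18356, e3 q18357 L717888 q20238, e3 q18358 (flp_h L698370) q16274, e3 q18359 (flp_h L717824) q20233, e3 q18360 L717914 q20240, e3 q18361 (flp_h L698409) q16277, e3 q18362 (flp_h L717870) q20236, e3 q18363 (flp_h L698436) q16280, e3 q18364 (flp_h L698450) q16283, e3 q18365 (flp_h L717770) q20229, e3 q18366 L698491 q17911, e3 q18367 (flp_h L716115) q20107, trivial⟩ (by decide +kernel)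

theorem ce_h_287 : ∀ r, r < 64 → sm gh (Qf (18368 + r)) = Qf (tab Gen.h (18368 + r)) :=
  edges_tab (sm gh) Qf (tab Gen.h) 18368 [(18368, 17385), (18369, 17883), (18370, 20251), (18371, 16311), (18372, 20112), (18373, 16313), (18374, 16314), (18375, 20259), (18376, 16316), (18377, 16317), (18378, 20265), (18379, 16319), (18380, 20268), (18381, 16295), (18382, 16322), (18383, 20270), (18384, 16324), (18385, 20273), (18386, 16298), (18387, 20274), (18388, 16330), (18389, 20276), (18390, 16301), (18391, 16333), (18392, 20280), (18393, 16303), (18394, 16305), (18395, 16306), (18396, 18396), (18397, 16343), (18398, 20285), (18399, 16309), (18400, 18400), (18401, 20252), (18402, 20290), (18403, 20254), (18404, 20255), (18405, 20295), (18406, 20257), (18407, 20298), (18408, 16315), (18409, 17083), (18410, 20260), (18411, 20304), (18412, 20305), (18413, 20263), (18414, 20309), (18415, 16318), (18416, 20266), (18417, 20313), (18418, 16320), (18419, 17074), (18420, 20316), (18421, 16323), (18422, 20271), (18423, 20320), (18424, 16325),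 (18425, 20322), (18426, 17063), (18427, 20324), (18428, 16329), (18429, 17803), (18430, 20328), (18431, 16331)]
    ⟨e3 q18368 L698512 q17385, e3 q18369 L698521 q17883, e3 q18370 L718042 q20251, e3 q18371 L698543 q16311, e3 q18372 (flp_h L716181) q20112, e3 q18373 L698565 q16313, e3 q18374 L698574 q16314, e3 q18375 L718132 q20259, e3 q18376 L698593 q16316, e3 q18377 L698605 q16317, e3 q18378 L718198 q20265, e3 q18379 L698620 q16319, e3 q18380 L718232 q20268, e3 q18381 (flp_h L698632) q16295, e3 q18382 L698650 q16322, e3 q18383 L718256 q20270, e3 q18384 L698679 q16324, e3 q18385 L718296 q20273, e3 q18386 (flp_h L698695) q16298, e3 q18387 L718311 q20274, e3 q18388 L698729 q16330, e3 q18389 L718341 q20276, e3 q18390 (flp_h L698749) q16301, e3 q18391 L698766 q16333, e3 q18392 L718394 q20280, e3 q18393 (flp_h L698777) q16303, e3 q18394 (flp_h L698787) q16305, e3 q18395 (flp_h L698802) q16306, e3 q18396 L698826 q18396, e3 q18397 L698838 q16343, e3 q18398 L718455 q20285, e3 q18399 (flp_h L698854) q16309, e3 q18400 L698876 q18400,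 e3 q18401 (flp_h L718059) q20252, e3 q18402 L718516 q20290, e3 q18403 (flp_h L718081) q20254, e3 q18404 (flp_h L718095) q20255, e3 q18405 L718579 q20295, e3 q18406 (flp_h L718120) q20257, e3 q18407 L718617 q20298, e3 q18408 (flp_h L698952) q16315, e3 q18409 L698970 q17083, e3 q18410 (flp_h L718152) q20260, e3 q18411 L718695 q20304, e3 q18412 L718705 q20305, e3 q18413 (flp_h L718184) q20263, e3 q18414 L718765 q20309, e3 q18415 (flp_h L699028) q16318, e3 q18416 (flp_h L718220) q20266, e3 q18417 L718799 q20313, e3 q18418 (flp_h L699052) q16320, e3 q18419 L699071 q17074, e3 q18420 L718828 q20316, e3 q18421 (flp_h L699088) q16323, e3 q18422 (flp_h L718278) q20271, e3 q18423 L718876 q20320, e3 q18424 (flp_h L699124) q16325, e3 q18425 L718899 q20322, e3 q18426 L699163 q17063, e3 q18427 L718929 q20324, e3 q18428 (flp_h L699183) q16329, e3 q18429 L699201 q17803, e3 q18430 L718985 q20328, e3 q18431 (flp_h L699217) q16331, trivial⟩ (by decide +kernel)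

theorem ce_h_288 : ∀ r, r < 64 → sm gh (Qf (18432 + r)) = Qf (tab Gen.h (18432 + r)) :=
  edges_tab (sm gh) Qf (tab Gen.h) 18432 [(18432, 16374), (18433, 20278), (18434, 20331), (18435, 16334), (18436, 16353), (18437, 16336), (18438, 16337), (18439, 16376), (18440, 17810), (18441, 20337), (18442, 16340), (18443, 16377), (18444, 20339), (18445, 16344), (18446, 16356), (18447, 16357), (18448, 18448), (18449, 20343), (18450, 16348), (18451, 20321), (18452, 20346), (18453, 16351), (18454, 20332), (18455, 20333), (18456, 16354), (18457, 20340), (18458, 20334), (18459, 20341), (18460, 18460), (18461, 20354), (18462, 16360), (18463, 18463), (18464, 20358), (18465, 20359), (18466, 20361), (18467, 16364), (18468, 16365), (18469, 20364), (18470, 16366), (18471, 20310), (18472, 20367), (18473, 16370), (18474, 20317), (18475, 16372), (18476, 20325), (18477, 20329), (18478, 20335), (18479, 20338), (18480, 20373), (18481, 16379), (18482, 16666), (18483, 20375), (18484, 16382), (18485, 16383), (18486, 17152), (18487, 16387), (18488, 17154),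 (18489, 16551), (18490, 16393), (18491, 16395), (18492, 16396), (18493, 18493), (18494, 16399), (18495, 16403)]
    ⟨e3 q18432 L699235 q16374, e3 q18433 (flp_h L718377) q20278, e3 q18434 L719017 q20331, e3 q18435 (flp_h L699255) q16334, e3 q18436 L699267 q16353, e3 q18437 (flp_h L699269) q16336, e3 q18438 (flp_h L699284) q16337, e3 q18439 L699308 q16376, e3 q18440 L699322 q17810, e3 q18441 L719092 q20337, e3 q18442 (flp_h L699339) q16340, e3 q18443 L699361 q16377, e3 q18444 L719123 q20339, e3 q18445 (flp_h L699376) q16344, e3 q18446 L699391 q16356, e3 q18447 L699398 q16357, e3 q18448 L699413 q18448, e3 q18449 L719170 q20343, e3 q18450 (flp_h L699429) q16348, e3 q18451 (flp_h L718897) q20321, e3 q18452 L719205 q20346, e3 q18453 (flp_h L699462) q16351, e3 q18454 (flp_h L719031) q20332, e3 q18455 (flp_h L719039) q20333, e3 q18456 (flp_h L699487) q16354, e3 q18457 (flp_h L719138) q20340, e3 q18458 (flp_h L719058) q20334, e3 q18459 (flp_h L719147) q20341, e3 q18460 L699542 q18460, e3 q18461 L719289 q20354, e3 q18462 (flp_h L699557)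 q16360, e3 q18463 L699582 q18463, e3 q18464 L719343 q20358, e3 q18465 L719356 q20359, e3 q18466 L719385 q20361, e3 q18467 (flp_h L699623) q16364, e3 q18468 (flp_h L699634) q16365, e3 q18469 L719422 q20364, e3 q18470 (flp_h L699661) q16366, e3 q18471 (flp_h L718779) q20310, e3 q18472 L719452 q20367, e3 q18473 (flp_h L699696) q16370, e3 q18474 (flp_h L718846) q20317, e3 q18475 (flp_h L699716) q16372, e3 q18476 (flp_h L718953) q20325, e3 q18477 (flp_h L719003) q20329, e3 q18478 (flp_h L719069) q20335, e3 q18479 (flp_h L719117) q20338, e3 q18480 L719517 q20373, e3 q18481 (flp_h L699786) q16379, e3 q18482 L699811 q16666, e3 q18483 L719546 q20375, e3 q18484 (flp_h L699828) q16382, e3 q18485 (flp_h L699838) q16383, e3 q18486 L699864 q17152, e3 q18487 (flp_h L699866) q16387, e3 q18488 L699883 q17154, e3 q18489 L699893 q16551, e3 q18490 (flp_h L699900) q16393, e3 q18491 (flp_h L699918) q16395, e3 q18492 (flp_h L699934) q16396, e3 q18493 L699966 q18493, e3 q18494 (flp_h L699967) q16399, e3 q18495 (flp_h L699985) q16403, trivial⟩ (by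 decide +kernel)

theorem ce_h_289 : ∀ r, r < 64 → sm gh (Qf (18496 + r)) = Qf (tab Gen.h (18496 + r)) :=
  edges_tab (sm gh) Qf (tab Gen.h) 18496 [(18496, 16405), (18497, 16472), (18498, 16462), (18499, 20377), (18500, 16418), (18501, 16467), (18502, 16420), (18503, 16421), (18504, 20381), (18505, 16415), (18506, 16461), (18507, 16473), (18508, 16475), (18509, 20383), (18510, 20384), (18511, 20385), (18512, 16422), (18513, 16424), (18514, 16430), (18515, 20388), (18516, 16443), (18517, 20390), (18518, 16445), (18519, 20392), (18520, 16436), (18521, 20393), (18522, 20394), (18523, 16442), (18524, 20395), (18525, 16444), (18526, 20397), (18527, 16446), (18528, 16450), (18529, 20398), (18530, 16455), (18531, 20396), (18532, 16457), (18533, 20403), (18534, 20404), (18535, 16477), (18536, 20406), (18537, 16464), (18538, 16474), (18539, 17990), (18540, 16476), (18541, 20409), (18542, 16479), (18543, 16480), (18544, 20412), (18545, 20413), (18546, 16470), (18547, 20414), (18548, 20415), (18549, 20416), (18550, 16510), (18551, 20418),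 (18552, 16478), (18553, 20419), (18554, 20420), (18555, 16481), (18556, 16482), (18557, 20423), (18558, 16485), (18559, 20422)]
    ⟨e3 q18496 (flp_h L700003) q16405, e3 q18497 L700036 q16472, e3 q18498 L700055 q16462, e3 q18499 L719580 q20377, e3 q18500 L700085 q16418, e3 q18501 L700105 q16467, e3 q18502 L700117 q16420, e3 q18503 L700136 q16421, e3 q18504 L719650 q20381, e3 q18505 (flp_h L700153) q16415, e3 q18506 L700184 q16461, e3 q18507 L700201 q16473, e3 q18508 L700219 q16475, e3 q18509 L719682 q20383, e3 q18510 L719696 q20384, e3 q18511 L719710 q20385, e3 q18512 (flp_h L700269) q16422, e3 q18513 (flp_h L700279) q16424, e3 q18514 (flp_h L700296) q16430, e3 q18515 L719760 q20388, e3 q18516 L700336 q16443, e3 q18517 L719791 q20390, e3 q18518 L700362 q16445, e3 q18519 L719818 q20392, e3 q18520 (flp_h L700375) q16436, e3 q18521 L719826 q20393, e3 q18522 L719844 q20394, e3 q18523 (flp_h L700419) q16442, e3 q18524 L719864 q20395, e3 q18525 (flp_h L700439) q16444, e3 q18526 L719886 q20397, e3 q18527 (flp_h L700463) q16446, e3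 q18528 (flp_h L700469) q16450, e3 q18529 (flp_h L719906) q20398, e3 q18530 (flp_h L700493) q16455, e3 q18531 (flp_h L719884) q20396, e3 q18532 (flp_h L700519) q16457, e3 q18533 L719974 q20403, e3 q18534 L719990 q20404, e3 q18535 L700576 q16477, e3 q18536 L720019 q20406, e3 q18537 (flp_h L700593) q16464, e3 q18538 L700613 q16474, e3 q18539 L700631 q17990, e3 q18540 L700645 q16476, e3 q18541 L720066 q20409, e3 q18542 L700667 q16479, e3 q18543 L700687 q16480, e3 q18544 L720109 q20412, e3 q18545 L720121 q20413, e3 q18546 (flp_h L700713) q16470, e3 q18547 L720131 q20414, e3 q18548 L720139 q20415, e3 q18549 L720155 q20416, e3 q18550 L700773 q16510, e3 q18551 L720183 q20418, e3 q18552 (flp_h L700793) q16478, e3 q18553 L720195 q20419, e3 q18554 L720203 q20420, e3 q18555 (flp_h L700820) q16481, e3 q18556 (flp_h L700830) q16482, e3 q18557 L720231 q20423, e3 q18558 (flp_h L700852) q16485, e3 q18559 (flp_h L720229) q20422, trivial⟩ (by decide +kernel)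

theorem ce_h_290 : ∀ r, r < 64 → sm gh (Qf (18560 + r)) = Qf (tab Gen.h (18560 + r)) :=
  edges_tab (sm gh) Qf (tab Gen.h) 18560 [(18560, 17980), (18561, 16489), (18562, 16491), (18563, 20421), (18564, 20427), (18565, 20428), (18566, 20429), (18567, 20430), (18568, 16500), (18569, 20431), (18570, 20432), (18571, 16503), (18572, 20434), (18573, 16505), (18574, 20436), (18575, 16508), (18576, 16509), (18577, 20437), (18578, 16511), (18579, 16512), (18580, 20440), (18581, 20441), (18582, 16516), (18583, 20443), (18584, 16518), (18585, 16531), (18586, 20446), (18587, 16521), (18588, 16527), (18589, 20439), (18590, 20447), (18591, 20448), (18592, 20438), (18593, 16529), (18594, 20442), (18595, 20445), (18596, 16534), (18597, 16536), (18598, 20451), (18599, 16539), (18600, 16541), (18601, 16545), (18602, 16546), (18603, 16556), (18604, 16677), (18605, 16563), (18606, 17615), (18607, 16681), (18608, 20042), (18609, 16683), (18610, 20457), (18611, 16568), (18612, 16570), (18613, 16580), (18614, 16693), (18615, 16582), (18616, 16695),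 (18617, 16584), (18618, 16585), (18619, 20467), (18620, 20468), (18621, 20469), (18622, 16577), (18623, 16578)]
    ⟨e3 q18560 L700887 q17980, e3 q18561 (flp_h L700889) q16489, e3 q18562 (flp_h L700905) q16491, e3 q18563 (flp_h L720221) q20421, e3 q18564 L720283 q20427, e3 q18565 L720297 q20428, e3 q18566 L720315 q20429, e3 q18567 L720327 q20430, e3 q18568 (flp_h L700977) q16500, e3 q18569 L720339 q20431, e3 q18570 L720357 q20432, e3 q18571 (flp_h L701012) q16503, e3 q18572 L720378 q20434, e3 q18573 (flp_h L701033) q16505, e3 q18574 L720397 q20436, e3 q18575 (flp_h L701048) q16508, e3 q18576 (flp_h L701054) q16509, e3 q18577 L720403 q20437, e3 q18578 (flp_h L701079) q16511, e3 q18579 (flp_h L701089) q16512, e3 q18580 L720435 q20440, e3 q18581 L720451 q20441, e3 q18582 (flp_h L701130) q16516, e3 q18583 L720481 q20443, e3 q18584 (flp_h L701153) q16518, e3 q18585 L701167 q16531, e3 q18586 L720502 q20446, e3 q18587 (flp_h L701179) q16521, e3 q18588 L701191 q16527, e3 q18589 (flp_h L720433) q20439, e3 q18590 (flp_h L720522) q20447,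 e3 q18591 (flp_h L720528) q20448, e3 q18592 (flp_h L720423) q20438, e3 q18593 (flp_h L701228) q16529, e3 q18594 (flp_h L720479) q20442, e3 q18595 (flp_h L720500) q20445, e3 q18596 (flp_h L701261) q16534, e3 q18597 (flp_h L701279) q16536, e3 q18598 L720554 q20451, e3 q18599 (flp_h L701313) q16539, e3 q18600 (flp_h L701329) q16541, e3 q18601 (flp_h L701347) q16545, e3 q18602 (flp_h L701364) q16546, e3 q18603 (flp_h L701383) q16556, e3 q18604 L701413 q16677, e3 q18605 (flp_h L701415) q16563, e3 q18606 L701440 q17615, e3 q18607 L701455 q16681, e3 q18608 (flp_h L715148) q20042, e3 q18609 L701482 q16683, e3 q18610 L720645 q20457, e3 q18611 (flp_h L701494) q16568, e3 q18612 (flp_h L701504) q16570, e3 q18613 L701529 q16580, e3 q18614 L701544 q16693, e3 q18615 L701554 q16582, e3 q18616 L701570 q16695, e3 q18617 L701580 q16584, e3 q18618 L701599 q16585, e3 q18619 L720786 q20467, e3 q18620 L720796 q20468, e3 q18621 L720810 q20469, e3 q18622 (flp_h L701636) q16577, e3 q18623 (flp_h L701646) q16578, trivial⟩ (by decide +kernel)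

theorem ce_h_291 : ∀ r, r < 64 → sm gh (Qf (18624 + r)) = Qf (tab Gen.h (18624 + r)) :=
  edges_tab (sm gh) Qf (tab Gen.h) 18624 [(18624, 20458), (18625, 16706), (18626, 20460), (18627, 20461), (18628, 20478), (18629, 20479), (18630, 20480), (18631, 20465), (18632, 20482), (18633, 16586), (18634, 20483), (18635, 16588), (18636, 16589), (18637, 20486), (18638, 16592), (18639, 20485), (18640, 16731), (18641, 20488), (18642, 16598), (18643, 16599), (18644, 20484), (18645, 16881), (18646, 16750), (18647, 16619), (18648, 16753), (18649, 16621), (18650, 16622), (18651, 20500), (18652, 20501), (18653, 16625), (18654, 20503), (18655, 16627), (18656, 20506), (18657, 16611), (18658, 20507), (18659, 20508), (18660, 16614), (18661, 16636), (18662, 20511), (18663, 16616), (18664, 17668), (18665, 16773), (18666, 20493), (18667, 20516), (18668, 20495), (18669, 20496), (18670, 20521), (18671, 20498), (18672, 20524), (18673, 16623), (18674, 16624), (18675, 20525), (18676, 16626), (18677, 20504), (18678, 20528), (18679, 16628), (18680, 20530),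 (18681, 20531), (18682, 16632), (18683, 16682), (18684, 20534), (18685, 16634), (18686, 16660), (18687, 20536)]
    ⟨e3 q18624 (flp_h L720667) q20458, e3 q18625 L701684 q16706, e3 q18626 (flp_h L720698) q20460, e3 q18627 (flp_h L720711) q20461, e3 q18628 L720936 q20478, e3 q18629 L720946 q20479, e3 q18630 L720960 q20480, e3 q18631 (flp_h L720767) q20465, e3 q18632 L720988 q20482, e3 q18633 (flp_h L701772) q16586, e3 q18634 L721000 q20483, e3 q18635 (flp_h L701794) q16588, e3 q18636 (flp_h L701802) q16589, e3 q18637 L721042 q20486, e3 q18638 (flp_h L701824) q16592, e3 q18639 (flp_h L721040) q20485, e3 q18640 L701865 q16731, e3 q18641 L721074 q20488, e3 q18642 (flp_h L701881) q16598, e3 q18643 (flp_h L701895) q16599, e3 q18644 (flp_h L721028) q20484, e3 q18645 L701932 q16881, e3 q18646 L701946 q16750, e3 q18647 L701958 q16619, e3 q18648 L701971 q16753, e3 q18649 L701979 q16621, e3 q18650 L701986 q16622, e3 q18651 L721203 q20500, e3 q18652 L721213 q20501, e3 q18653 L702013 q16625, e3 q18654 L721236 q20503, e3 q18655 L702027 q16627,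 e3 q18656 L721264 q20506, e3 q18657 (flp_h L702036) q16611, e3 q18658 L721272 q20507, e3 q18659 L721282 q20508, e3 q18660 (flp_h L702065) q16614, e3 q18661 L702084 q16636, e3 q18662 L721318 q20511, e3 q18663 (flp_h L702101) q16616, e3 q18664 L702119 q17668, e3 q18665 L702135 q16773, e3 q18666 (flp_h L721147) q20493, e3 q18667 L721377 q20516, e3 q18668 (flp_h L721170) q20495, e3 q18669 (flp_h L721180) q20496, e3 q18670 L721433 q20521, e3 q18671 (flp_h L721193) q20498, e3 q18672 L721463 q20524, e3 q18673 (flp_h L702193) q16623, e3 q18674 (flp_h L702201) q16624, e3 q18675 L721469 q20525, e3 q18676 (flp_h L702215) q16626, e3 q18677 (flp_h L721253) q20504, e3 q18678 L721497 q20528, e3 q18679 (flp_h L702239) q16628, e3 q18680 L721509 q20530, e3 q18681 L721521 q20531, e3 q18682 (flp_h L702267) q16632, e3 q18683 L702285 q16682, e3 q18684 L721559 q20534, e3 q18685 (flp_h L702299) q16634, e3 q18686 L702311 q16660, e3 q18687 L721583 q20536, trivial⟩ (by decide +kernel)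

theorem ce_h_292 : ∀ r, r < 64 → sm gh (Qf (18688 + r)) = Qf (tab Gen.h (18688 + r)) :=
  edges_tab (sm gh) Qf (tab Gen.h) 18688 [(18688, 16637), (18689, 16645), (18690, 20539), (18691, 16641), (18692, 20529), (18693, 16643), (18694, 20537), (18695, 20538), (18696, 20179), (18697, 16649), (18698, 20543), (18699, 17761), (18700, 20545), (18701, 16652), (18702, 16653), (18703, 16656), (18704, 20526), (18705, 20532), (18706, 20535), (18707, 20549), (18708, 20374), (18709, 16665), (18710, 16670), (18711, 16680), (18712, 17616), (18713, 20059), (18714, 20552), (18715, 16678), (18716, 20470), (18717, 20453), (18718, 17655), (18719, 20550), (18720, 20559), (18721, 20560), (18722, 16711), (18723, 20562), (18724, 16685), (18725, 20563), (18726, 16687), (18727, 16689), (18728, 16960), (18729, 17775), (18730, 16705), (18731, 20459), (18732, 16707), (18733, 16708), (18734, 20578), (18735, 16710), (18736, 20580), (18737, 16713), (18738, 16714), (18739, 20584), (18740, 16716), (18741, 20586), (18742, 16698), (18743, 20587), (18744, 20588),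 (18745, 16701), (18746, 16702), (18747, 20452), (18748, 20471), (18749, 20570), (18750, 20571), (18751, 20597)]
    ⟨e3 q18688 (flp_h L702327) q16637, e3 q18689 L702339 q16645, e3 q18690 L721621 q20539, e3 q18691 (flp_h L702357) q16641, e3 q18692 (flp_h L721507) q20529, e3 q18693 (flp_h L702371) q16643, e3 q18694 (flp_h L721603) q20537, e3 q18695 (flp_h L721615) q20538, e3 q18696 (flp_h L717053) q20179, e3 q18697 (flp_h L702428) q16649, e3 q18698 L721673 q20543, e3 q18699 (flp_h L702465) q17761, e3 q18700 L721702 q20545, e3 q18701 (flp_h L702481) q16652, e3 q18702 (flp_h L702490) q16653, e3 q18703 (flp_h L702505) q16656, e3 q18704 (flp_h L721481) q20526, e3 q18705 (flp_h L721541) q20532, e3 q18706 (flp_h L721579) q20535, e3 q18707 L721756 q20549, e3 q18708 (flp_h L719544) q20374, e3 q18709 (flp_h L702576) q16665, e3 q18710 (flp_h L702589) q16670, e3 q18711 L702617 q16680, e3 q18712 L702633 q17616, e3 q18713 (flp_h L715389) q20059, e3 q18714 L721800 q20552, e3 q18715 (flp_h L702658) q16678, e3 q18716 (flp_h L720838) q20470,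 e3 q18717 (flp_h L720601) q20453, e3 q18718 L702701 q17655, e3 q18719 (flp_h L721782) q20550, e3 q18720 L721882 q20559, e3 q18721 L721890 q20560, e3 q18722 L702745 q16711, e3 q18723 L721917 q20562, e3 q18724 (flp_h L702760) q16685, e3 q18725 L721927 q20563, e3 q18726 (flp_h L702777) q16687, e3 q18727 (flp_h L702787) q16689, e3 q18728 L702810 q16960, e3 q18729 L702824 q17775, e3 q18730 L702834 q16705, e3 q18731 (flp_h L720686) q20459, e3 q18732 L702853 q16707, e3 q18733 L702862 q16708, e3 q18734 L722099 q20578, e3 q18735 L702884 q16710, e3 q18736 L722124 q20580, e3 q18737 L702904 q16713, e3 q18738 L702924 q16714, e3 q18739 L722179 q20584, e3 q18740 L702942 q16716, e3 q18741 L722196 q20586, e3 q18742 (flp_h L702953) q16698, e3 q18743 L722206 q20587, e3 q18744 L722220 q20588, e3 q18745 (flp_h L702988) q16701, e3 q18746 (flp_h L702998) q16702, e3 q18747 (flp_h L720584) q20452, e3 q18748 (flp_h L720856) q20471, e3 q18749 (flp_h L722024) q20570, e3 q18750 (flp_h L722035) q20571, e3 q18751 L722314 q20597, trivial⟩ (by decide +kernel)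

theorem ce_h_293 : ∀ r, r < 64 → sm gh (Qf (18752 + r)) = Qf (tab Gen.h (18752 + r)) :=
  edges_tab (sm gh) Qf (tab Gen.h) 18752 [(18752, 20573), (18753, 20574), (18754, 20603), (18755, 20576), (18756, 20605), (18757, 16709), (18758, 20606), (18759, 20555), (18760, 20608), (18761, 16712), (18762, 16783), (18763, 20610), (18764, 20582), (18765, 20612), (18766, 16715), (18767, 20614), (18768, 16717), (18769, 20616), (18770, 20617), (18771, 16721), (18772, 16722), (18773, 16747), (18774, 16730), (18775, 18775), (18776, 20623), (18777, 16726), (18778, 16728), (18779, 20615), (18780, 20621), (18781, 18781), (18782, 20627), (18783, 20628), (18784, 16734), (18785, 20629), (18786, 16736), (18787, 16737), (18788, 18003), (18789, 16740), (18790, 20631), (18791, 16743), (18792, 20613), (18793, 16745), (18794, 20618), (18795, 20620), (18796, 17017), (18797, 20187), (18798, 17019), (18799, 17020), (18800, 20644), (18801, 16772), (18802, 17988), (18803, 16774), (18804, 16775), (18805, 20651), (18806, 16777), (18807, 16778), (18808, 20657),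 (18809, 16780), (18810, 20660), (18811, 16756), (18812, 20661), (18813, 16785), (18814, 20663), (18815, 16759)]
    ⟨e3 q18752 (flp_h L722056) q20573, e3 q18753 (flp_h L722070) q20574, e3 q18754 L722374 q20603, e3 q18755 (flp_h L722087) q20576, e3 q18756 L722394 q20605, e3 q18757 (flp_h L703100) q16709, e3 q18758 L722402 q20606, e3 q18759 (flp_h L721845) q20555, e3 q18760 L722424 q20608, e3 q18761 (flp_h L703144) q16712, e3 q18762 L703162 q16783, e3 q18763 L722452 q20610, e3 q18764 (flp_h L722159) q20582, e3 q18765 L722467 q20612, e3 q18766 (flp_h L703192) q16715, e3 q18767 L722485 q20614, e3 q18768 (flp_h L703208) q16717, e3 q18769 L722499 q20616, e3 q18770 L722513 q20617, e3 q18771 (flp_h L703239) q16721, e3 q18772 (flp_h L703245) q16722, e3 q18773 L703259 q16747, e3 q18774 L703265 q16730, e3 q18775 L703276 q18775, e3 q18776 L722573 q20623, e3 q18777 (flp_h L703294) q16726, e3 q18778 (flp_h L703308) q16728, e3 q18779 (flp_h L722497) q20615, e3 q18780 (flp_h L722554) q20621, e3 q18781 L703345 q18781, e3 q18782 L722625 q20627,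 e3 q18783 L722640 q20628, e3 q18784 (flp_h L703371) q16734, e3 q18785 L722653 q20629, e3 q18786 (flp_h L703392) q16736, e3 q18787 (flp_h L703403) q16737, e3 q18788 (flp_h L703428) q18003, e3 q18789 (flp_h L703430) q16740, e3 q18790 L722676 q20631, e3 q18791 (flp_h L703456) q16743, e3 q18792 (flp_h L722483) q20613, e3 q18793 (flp_h L703474) q16745, e3 q18794 (flp_h L722529) q20618, e3 q18795 (flp_h L722546) q20620, e3 q18796 L703509 q17017, e3 q18797 (flp_h L717179) q20187, e3 q18798 L703528 q17019, e3 q18799 L703537 q17020, e3 q18800 L722816 q20644, e3 q18801 L703560 q16772, e3 q18802 L703575 q17988, e3 q18803 L703583 q16774, e3 q18804 L703592 q16775, e3 q18805 L722886 q20651, e3 q18806 L703611 q16777, e3 q18807 L703623 q16778, e3 q18808 L722948 q20657, e3 q18809 L703636 q16780, e3 q18810 L722976 q20660, e3 q18811 (flp_h L703646) q16756, e3 q18812 L722984 q20661, e3 q18813 L703672 q16785, e3 q18814 L723005 q20663, e3 q18815 (flp_h L703685) q16759, trivial⟩ (by decide +kernel)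

theorem ce_h_294 : ∀ r, r < 64 → sm gh (Qf (18816 + r)) = Qf (tab Gen.h (18816 + r)) :=
  edges_tab (sm gh) Qf (tab Gen.h) 18816 [(18816, 20664), (18817, 16791), (18818, 20666), (18819, 16762), (18820, 16794), (18821, 20669), (18822, 16764), (18823, 16766), (18824, 16767), (18825, 18825), (18826, 20674), (18827, 16770), (18828, 18828), (18829, 20645), (18830, 20679), (18831, 20647), (18832, 20683), (18833, 20649), (18834, 20685), (18835, 16776), (18836, 17590), (18837, 20652), (18838, 20691), (18839, 20693), (18840, 20655), (18841, 20697), (18842, 16779), (18843, 20658), (18844, 20701), (18845, 16781), (18846, 20598), (18847, 20704), (18848, 16784), (18849, 20706), (18850, 16786), (18851, 20708), (18852, 17559), (18853, 20710), (18854, 16790), (18855, 20039), (18856, 20713), (18857, 16792), (18858, 16832), (18859, 20045), (18860, 20717), (18861, 16795), (18862, 16813), (18863, 16797), (18864, 16798), (18865, 16834), (18866, 20722), (18867, 16801), (18868, 18868), (18869, 16835), (18870, 20727), (18871, 16805), (18872, 16816),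 (18873, 16817), (18874, 16808), (18875, 20707), (18876, 18002), (18877, 16811), (18878, 20718), (18879, 20719)]
    ⟨e3 q18816 L723017 q20664, e3 q18817 L703714 q16791, e3 q18818 L723043 q20666, e3 q18819 (flp_h L703728) q16762, e3 q18820 L703739 q16794, e3 q18821 L723069 q20669, e3 q18822 (flp_h L703748) q16764, e3 q18823 (flp_h L703756) q16766, e3 q18824 (flp_h L703770) q16767, e3 q18825 L703786 q18825, e3 q18826 L723112 q20674, e3 q18827 (flp_h L703794) q16770, e3 q18828 L703806 q18828, e3 q18829 (flp_h L722833) q20645, e3 q18830 L723150 q20679, e3 q18831 (flp_h L722857) q20647, e3 q18832 L723186 q20683, e3 q18833 (flp_h L722876) q20649, e3 q18834 L723208 q20685, e3 q18835 (flp_h L703861) q16776, e3 q18836 L703879 q17590, e3 q18837 (flp_h L722906) q20652, e3 q18838 L723280 q20691, e3 q18839 L723299 q20693, e3 q18840 (flp_h L722936) q20655, e3 q18841 L723333 q20697, e3 q18842 (flp_h L703927) q16779, e3 q18843 (flp_h L722966) q20658, e3 q18844 L723367 q20701, e3 q18845 (flp_h L703951) q16781, e3 q18846 (flp_h L722334) q20598,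 e3 q18847 L723390 q20704, e3 q18848 (flp_h L703979) q16784, e3 q18849 L723412 q20706, e3 q18850 (flp_h L703999) q16786, e3 q18851 L723430 q20708, e3 q18852 L704034 q17559, e3 q18853 L723457 q20710, e3 q18854 (flp_h L704051) q16790, e3 q18855 (flp_h L715100) q20039, e3 q18856 L723494 q20713, e3 q18857 (flp_h L704075) q16792, e3 q18858 L704087 q16832, e3 q18859 (flp_h L715192) q20045, e3 q18860 L723519 q20717, e3 q18861 (flp_h L704103) q16795, e3 q18862 L704111 q16813, e3 q18863 (flp_h L704113) q16797, e3 q18864 (flp_h L704125) q16798, e3 q18865 L704143 q16834, e3 q18866 L723558 q20722, e3 q18867 (flp_h L704154) q16801, e3 q18868 L704164 q18868, e3 q18869 L704167 q16835, e3 q18870 L723595 q20727, e3 q18871 (flp_h L704179) q16805, e3 q18872 L704189 q16816, e3 q18873 L704193 q16817, e3 q18874 (flp_h L704195) q16808, e3 q18875 (flp_h L723428) q20707, e3 q18876 (flp_h L704225) q18002, e3 q18877 (flp_h L704227) q16811, e3 q18878 (flp_h L723529) q20718, e3 q18879 (flp_h L723535) q20719, trivial⟩ (by decide +kernel)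

theorem ce_h_295 : ∀ r, r < 64 → sm gh (Qf (18880 + r)) = Qf (tab Gen.h (18880 + r)) :=
  edges_tab (sm gh) Qf (tab Gen.h) 18880 [(18880, 20728), (18881, 20721), (18882, 20726), (18883, 20735), (18884, 20737), (18885, 16819), (18886, 16820), (18887, 18887), (18888, 20741), (18889, 20742), (18890, 20744), (18891, 16824), (18892, 16825), (18893, 20747), (18894, 16826), (18895, 20698), (18896, 17141), (18897, 20705), (18898, 16830), (18899, 20711), (18900, 20715), (18901, 20752), (18902, 16838), (18903, 16839), (18904, 20753), (18905, 16848), (18906, 16850), (18907, 18907), (18908, 17745), (18909, 16950), (18910, 17300), (18911, 17751), (18912, 20759), (18913, 17305), (18914, 20761), (18915, 20762), (18916, 16860), (18917, 16861), (18918, 17742), (18919, 16974), (18920, 17746), (18921, 20767), (18922, 17754), (18923, 20769), (18924, 16867), (18925, 20770), (18926, 16869), (18927, 20771), (18928, 16871), (18929, 16878), (18930, 16874), (18931, 16876), (18932, 20772), (18933, 20186), (18934, 17018), (18935, 20490), (18936, 20491),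 (18937, 20781), (18938, 16894), (18939, 17023), (18940, 16897), (18941, 20786), (18942, 16902), (18943, 20788)]
    ⟨e3 q18880 (flp_h L723613) q20728, e3 q18881 (flp_h L723554) q20721, e3 q18882 (flp_h L723591) q20726, e3 q18883 L723664 q20735, e3 q18884 L723689 q20737, e3 q18885 (flp_h L704297) q16819, e3 q18886 (flp_h L704308) q16820, e3 q18887 L704330 q18887, e3 q18888 L723738 q20741, e3 q18889 L723751 q20742, e3 q18890 L723776 q20744, e3 q18891 (flp_h L704368) q16824, e3 q18892 (flp_h L704381) q16825, e3 q18893 L723811 q20747, e3 q18894 (flp_h L704398) q16826, e3 q18895 (flp_h L723347) q20698, e3 q18896 L704427 q17141, e3 q18897 (flp_h L723410) q20705, e3 q18898 (flp_h L704438) q16830, e3 q18899 (flp_h L723483) q20711, e3 q18900 (flp_h L723509) q20715, e3 q18901 L723847 q20752, e3 q18902 (flp_h L704481) q16838, e3 q18903 (flp_h L704495) q16839, e3 q18904 L723862 q20753, e3 q18905 (flp_h L704526) q16848, e3 q18906 (flp_h L704538) q16850, e3 q18907 L704568 q18907, e3 q18908 L704579 q17745, e3 q18909 L704592 q16950, e3 q18910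 L704602 q17300, e3 q18911 L704615 q17751, e3 q18912 L723941 q20759, e3 q18913 L704638 q17305, e3 q18914 L723969 q20761, e3 q18915 L723982 q20762, e3 q18916 (flp_h L704667) q16860, e3 q18917 (flp_h L704679) q16861, e3 q18918 L704705 q17742, e3 q18919 L704718 q16974, e3 q18920 L704728 q17746, e3 q18921 L724047 q20767, e3 q18922 L704748 q17754, e3 q18923 L724071 q20769, e3 q18924 (flp_h L704762) q16867, e3 q18925 L724083 q20770, e3 q18926 (flp_h L704789) q16869, e3 q18927 L724096 q20771, e3 q18928 (flp_h L704812) q16871, e3 q18929 L704833 q16878, e3 q18930 (flp_h L704835) q16874, e3 q18931 (flp_h L704847) q16876, e3 q18932 (flp_h L724116) q20772, e3 q18933 (flp_h L717163) q20186, e3 q18934 L704881 q17018, e3 q18935 (flp_h L721113) q20490, e3 q18936 (flp_h L721124) q20491, e3 q18937 L724192 q20781, e3 q18938 L704920 q16894, e3 q18939 L704933 q17023, e3 q18940 L704943 q16897, e3 q18941 L724248 q20786, e3 q18942 L704963 q16902, e3 q18943 L724272 q20788, trivial⟩ (by decide +kernel)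

theorem ce_h_296 : ∀ r, r < 64 → sm gh (Qf (18944 + r)) = Qf (tab Gen.h (18944 + r)) :=
  edges_tab (sm gh) Qf (tab Gen.h) 18944 [(18944, 16887), (18945, 16906), (18946, 20790), (18947, 16889), (18948, 20791), (18949, 16891), (18950, 18950), (18951, 17722), (18952, 20782), (18953, 20797), (18954, 17724), (18955, 20799), (18956, 20784), (18957, 20801), (18958, 16898), (18959, 17356), (18960, 20803), (18961, 17748), (18962, 17336), (18963, 20806), (18964, 16901), (18965, 20191), (18966, 20809), (18967, 16903), (18968, 16905), (18969, 20811), (18970, 16907), (18971, 16909), (18972, 20813), (18973, 16911), (18974, 20188), (18975, 20815), (18976, 16914), (18977, 16928), (18978, 20818), (18979, 16919), (18980, 16931), (18981, 16932), (18982, 20820), (18983, 16923), (18984, 20812), (18985, 20822), (18986, 16926), (18987, 20816), (18988, 20817), (18989, 16929), (18990, 20819), (18991, 17782), (18992, 20827), (18993, 16949), (18994, 17777), (18995, 16952), (18996, 20831), (18997, 20832), (18998, 16946), (18999, 17778), (19000, 20566),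 (19001, 17695), (19002, 20828), (19003, 20838), (19004, 20193), (19005, 20841), (19006, 20842), (19007, 16953)]
    ⟨e3 q18944 (flp_h L704977) q16887, e3 q18945 L705000 q16906, e3 q18946 L724295 q20790, e3 q18947 (flp_h L705014) q16889, e3 q18948 L724308 q20791, e3 q18949 (flp_h L705036) q16891, e3 q18950 L705059 q18950, e3 q18951 L705069 q17722, e3 q18952 (flp_h L724211) q20782, e3 q18953 L724379 q20797, e3 q18954 L705100 q17724, e3 q18955 L724404 q20799, e3 q18956 (flp_h L724234) q20784, e3 q18957 L724430 q20801, e3 q18958 (flp_h L705134) q16898, e3 q18959 L705152 q17356, e3 q18960 L724452 q20803, e3 q18961 (flp_h L705186) q17748, e3 q18962 L705200 q17336, e3 q18963 L724500 q20806, e3 q18964 (flp_h L705214) q16901, e3 q18965 (flp_h L717228) q20191, e3 q18966 L724534 q20809, e3 q18967 (flp_h L705242) q16903, e3 q18968 (flp_h L705248) q16905, e3 q18969 L724546 q20811, e3 q18970 (flp_h L705275) q16907, e3 q18971 (flp_h L705284) q16909, e3 q18972 L724565 q20813, e3 q18973 (flp_h L705314) q16911, e3 q18974 (flp_h L717189) q20188,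 e3 q18975 L724593 q20815, e3 q18976 (flp_h L705352) q16914, e3 q18977 L705362 q16928, e3 q18978 L724621 q20818, e3 q18979 (flp_h L705377) q16919, e3 q18980 L705392 q16931, e3 q18981 L705399 q16932, e3 q18982 L724640 q20820, e3 q18983 (flp_h L705416) q16923, e3 q18984 (flp_h L724563) q20812, e3 q18985 L724661 q20822, e3 q18986 (flp_h L705449) q16926, e3 q18987 (flp_h L724605) q20816, e3 q18988 (flp_h L724615) q20817, e3 q18989 (flp_h L705474) q16929, e3 q18990 (flp_h L724638) q20819, e3 q18991 L705510 q17782, e3 q18992 L724709 q20827, e3 q18993 L705538 q16949, e3 q18994 L705554 q17777, e3 q18995 L705562 q16952, e3 q18996 L724761 q20831, e3 q18997 L724773 q20832, e3 q18998 (flp_h L705585) q16946, e3 q18999 L705604 q17778, e3 q19000 (flp_h L721977) q20566, e3 q19001 L705622 q17695, e3 q19002 (flp_h L724735) q20828, e3 q19003 L724836 q20838, e3 q19004 (flp_h L717257) q20193, e3 q19005 L724861 q20841, e3 q19006 L724869 q20842, e3 q19007 (flp_h L705666) q16953, trivial⟩ (by decide +kernel)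

theorem ce_h_297 : ∀ r, r < 64 → sm gh (Qf (19008 + r)) = Qf (tab Gen.h (19008 + r)) :=
  edges_tab (sm gh) Qf (tab Gen.h) 19008 [(19008, 20843), (19009, 16955), (19010, 16956), (19011, 19011), (19012, 20565), (19013, 17779), (19014, 20567), (19015, 20568), (19016, 20851), (19017, 16973), (19018, 17776), (19019, 16976), (19020, 20856), (19021, 16981), (19022, 20858), (19023, 16966), (19024, 16986), (19025, 20861), (19026, 16968), (19027, 20862), (19028, 16970), (19029, 19029), (19030, 17134), (19031, 20852), (19032, 20869), (19033, 17888), (19034, 20873), (19035, 20854), (19036, 20876), (19037, 16977), (19038, 17879), (19039, 20879), (19040, 20881), (19041, 17973), (19042, 20884), (19043, 16980), (19044, 20885), (19045, 16982), (19046, 17974), (19047, 20889), (19048, 16985), (19049, 20859), (19050, 20891), (19051, 16987), (19052, 16989), (19053, 20893), (19054, 16991), (19055, 16993), (19056, 17002), (19057, 19057), (19058, 17003), (19059, 20898), (19060, 16999), (19061, 20892), (19062, 20895), (19063, 20896), (19064, 17162),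 (19065, 17962), (19066, 17148), (19067, 17967), (19068, 17965), (19069, 17163), (19070, 17966), (19071, 17964)]
    ⟨e3 q19008 L724877 q20843, e3 q19009 (flp_h L705684) q16955, e3 q19010 (flp_h L705691) q16956, e3 q19011 L705702 q19011, e3 q19012 (flp_h L721959) q20565, e3 q19013 L705731 q17779, e3 q19014 (flp_h L721988) q20567, e3 q19015 (flp_h L722001) q20568, e3 q19016 L724968 q20851, e3 q19017 L705776 q16973, e3 q19018 L705793 q17776, e3 q19019 L705803 q16976, e3 q19020 L725030 q20856, e3 q19021 L705823 q16981, e3 q19022 L725054 q20858, e3 q19023 (flp_h L705837) q16966, e3 q19024 L705860 q16986, e3 q19025 L725087 q20861, e3 q19026 (flp_h L705874) q16968, e3 q19027 L725100 q20862, e3 q19028 (flp_h L705896) q16970, e3 q19029 L705917 q19029, e3 q19030 L705927 q17134, e3 q19031 (flp_h L724989) q20852, e3 q19032 L725179 q20869, e3 q19033 L705962 q17888, e3 q19034 L725226 q20873, e3 q19035 (flp_h L725016) q20854, e3 q19036 L725258 q20876, e3 q19037 (flp_h L705994) q16977, e3 q19038 L706010 q17879, e3 q19039 L725288 q20879, e3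 q19040 L725309 q20881, e3 q19041 L706038 q17973, e3 q19042 L725343 q20884, e3 q19043 (flp_h L706052) q16980, e3 q19044 L725355 q20885, e3 q19045 (flp_h L706074) q16982, e3 q19046 L706093 q17974, e3 q19047 L725394 q20889, e3 q19048 (flp_h L706109) q16985, e3 q19049 (flp_h L725073) q20859, e3 q19050 L725418 q20891, e3 q19051 (flp_h L706141) q16987, e3 q19052 (flp_h L706150) q16989, e3 q19053 L725435 q20893, e3 q19054 (flp_h L706171) q16991, e3 q19055 (flp_h L706183) q16993, e3 q19056 L706195 q17002, e3 q19057 L706206 q19057, e3 q19058 L706212 q17003, e3 q19059 L725484 q20898, e3 q19060 (flp_h L706222) q16999, e3 q19061 (flp_h L725433) q20892, e3 q19062 (flp_h L725462) q20895, e3 q19063 (flp_h L725470) q20896, e3 q19064 L706267 q17162, e3 q19065 L706284 q17962, e3 q19066 L706299 q17148, e3 q19067 L706310 q17967, e3 q19068 L706325 q17965, e3 q19069 L706338 q17163, e3 q19070 L706354 q17966, e3 q19071 L706365 q17964, trivial⟩ (by decide +kernel)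

theorem ce_h_298 : ∀ r, r < 64 → sm gh (Qf (19072 + r)) = Qf (tab Gen.h (19072 + r)) :=
  edges_tab (sm gh) Qf (tab Gen.h) 19072 [(19072, 17968), (19073, 17013), (19074, 20910), (19075, 17466), (19076, 20181), (19077, 20636), (19078, 20637), (19079, 20918), (19080, 20639), (19081, 20640), (19082, 20925), (19083, 20642), (19084, 20928), (19085, 17021), (19086, 17054), (19087, 17055), (19088, 20933), (19089, 17057), (19090, 17058), (19091, 20938), (19092, 17060), (19093, 20941), (19094, 17026), (19095, 17064), (19096, 20944), (19097, 20946), (19098, 17067), (19099, 20950), (19100, 17029), (19101, 17070), (19102, 20953), (19103, 17031), (19104, 20955), (19105, 17076), (19106, 20958), (19107, 17035), (19108, 17079), (19109, 20961), (19110, 17037), (19111, 17039), (19112, 17086), (19113, 20965), (19114, 17041), (19115, 17090), (19116, 20968), (19117, 17044), (19118, 19118), (19119, 17099), (19120, 20972), (19121, 17048), (19122, 17325), (19123, 20973), (19124, 17051), (19125, 19125), (19126, 19126), (19127, 20905), (19128, 20929),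 (19129, 20982), (19130, 20931), (19131, 20985), (19132, 17056), (19133, 17820), (19134, 20934), (19135, 20991)]
    ⟨e3 q19072 L706379 q17968, e3 q19073 (flp_h L706381) q17013, e3 q19074 L725620 q20910, e3 q19075 L706415 q17466, e3 q19076 (flp_h L717089) q20181, e3 q19077 (flp_h L722743) q20636, e3 q19078 (flp_h L722754) q20637, e3 q19079 L725704 q20918, e3 q19080 (flp_h L722775) q20639, e3 q19081 (flp_h L722785) q20640, e3 q19082 L725760 q20925, e3 q19083 (flp_h L722801) q20642, e3 q19084 L725785 q20928, e3 q19085 (flp_h L706490) q17021, e3 q19086 L706504 q17054, e3 q19087 L706514 q17055, e3 q19088 L725833 q20933, e3 q19089 L706533 q17057, e3 q19090 L706545 q17058, e3 q19091 L725892 q20938, e3 q19092 L706565 q17060, e3 q19093 L725920 q20941, e3 q19094 (flp_h L706575) q17026, e3 q19095 L706589 q17064, e3 q19096 L725948 q20944, e3 q19097 L725970 q20946, e3 q19098 L706617 q17067, e3 q19099 L726018 q20950, e3 q19100 (flp_h L706631) q17029, e3 q19101 L706649 q17070, e3 q19102 L726046 q20953, e3 q19103 (flp_h L706659) q17031, e3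 q19104 L726060 q20955, e3 q19105 L706688 q17076, e3 q19106 L726100 q20958, e3 q19107 (flp_h L706703) q17035, e3 q19108 L706719 q17079, e3 q19109 L726131 q20961, e3 q19110 (flp_h L706729) q17037, e3 q19111 (flp_h L706738) q17039, e3 q19112 L706758 q17086, e3 q19113 L726177 q20965, e3 q19114 (flp_h L706772) q17041, e3 q19115 L706789 q17090, e3 q19116 L726208 q20968, e3 q19117 (flp_h L706798) q17044, e3 q19118 L706810 q19118, e3 q19119 L706823 q17099, e3 q19120 L726249 q20972, e3 q19121 (flp_h L706840) q17048, e3 q19122 L706864 q17325, e3 q19123 L726263 q20973, e3 q19124 (flp_h L706876) q17051, e3 q19125 L706891 q19125, e3 q19126 L706897 q19126, e3 q19127 (flp_h L725566) q20905, e3 q19128 (flp_h L725801) q20929, e3 q19129 L726361 q20982, e3 q19130 (flp_h L725822) q20931, e3 q19131 L726382 q20985, e3 q19132 (flp_h L706945) q17056, e3 q19133 L706962 q17820, e3 q19134 (flp_h L725850) q20934, e3 q19135 L726452 q20991, trivial⟩ (by decide +kernel)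

theorem ce_h_299 : ∀ r, r < 64 → sm gh (Qf (19136 + r)) = Qf (tab Gen.h (19136 + r)) :=
  edges_tab (sm gh) Qf (tab Gen.h) 19136 [(19136, 20993), (19137, 20936), (19138, 20997), (19139, 17059), (19140, 20939), (19141, 21001), (19142, 17061), (19143, 20302), (19144, 21004), (19145, 20865), (19146, 20299), (19147, 21009), (19148, 17065), (19149, 21012), (19150, 17066), (19151, 21015), (19152, 20948), (19153, 21018), (19154, 17068), (19155, 17140), (19156, 20951), (19157, 21022), (19158, 17071), (19159, 20702), (19160, 21025), (19161, 20291), (19162, 21027), (19163, 17075), (19164, 20956), (19165, 21031), (19166, 17077), (19167, 17144), (19168, 20959), (19169, 21035), (19170, 17080), (19171, 17111), (19172, 17082), (19173, 17439), (19174, 21040), (19175, 17084), (19176, 17146), (19177, 20963), (19178, 21043), (19179, 17087), (19180, 19180), (19181, 17147), (19182, 21048), (19183, 17091), (19184, 17114), (19185, 17115), (19186, 17449), (19187, 21054), (19188, 17096), (19189, 19189), (19190, 21055), (19191, 17100), (19192, 19192),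 (19193, 19193), (19194, 19194), (19195, 17104), (19196, 17117), (19197, 17118), (19198, 17119), (19199, 21061)]
    ⟨e3 q19136 L726467 q20993, e3 q19137 (flp_h L725876) q20936, e3 q19138 L726505 q20997, e3 q19139 (flp_h L707004) q17059, e3 q19140 (flp_h L725910) q20939, e3 q19141 L726539 q21001, e3 q19142 (flp_h L707024) q17061, e3 q19143 (flp_h L718679) q20302, e3 q19144 L726559 q21004, e3 q19145 (flp_h L725145) q20865, e3 q19146 (flp_h L718635) q20299, e3 q19147 L726606 q21009, e3 q19148 (flp_h L707068) q17065, e3 q19149 L726633 q21012, e3 q19150 (flp_h L707081) q17066, e3 q19151 L726651 q21015, e3 q19152 (flp_h L726004) q20948, e3 q19153 L726675 q21018, e3 q19154 (flp_h L707111) q17068, e3 q19155 L707131 q17140, e3 q19156 (flp_h L726036) q20951, e3 q19157 L726707 q21022, e3 q19158 (flp_h L707147) q17071, e3 q19159 (flp_h L723377) q20702, e3 q19160 L726723 q21025, e3 q19161 (flp_h L718537) q20291, e3 q19162 L726745 q21027, e3 q19163 (flp_h L707189) q17075, e3 q19164 (flp_h L726083) q20956, e3 q19165 L726787 q21031, e3 q19166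 (flp_h L707211) q17077, e3 q19167 L707231 q17144, e3 q19168 (flp_h L726121) q20959, e3 q19169 L726823 q21035, e3 q19170 (flp_h L707247) q17080, e3 q19171 L707258 q17111, e3 q19172 (flp_h L707260) q17082, e3 q19173 L707275 q17439, e3 q19174 L726873 q21040, e3 q19175 (flp_h L707286) q17084, e3 q19176 L707302 q17146, e3 q19177 (flp_h L726159) q20963, e3 q19178 L726895 q21043, e3 q19179 (flp_h L707320) q17087, e3 q19180 L707330 q19180, e3 q19181 L707339 q17147, e3 q19182 L726942 q21048, e3 q19183 (flp_h L707351) q17091, e3 q19184 L707361 q17114, e3 q19185 L707367 q17115, e3 q19186 L707380 q17449, e3 q19187 L726986 q21054, e3 q19188 (flp_h L707396) q17096, e3 q19189 L707416 q19189, e3 q19190 L727000 q21055, e3 q19191 (flp_h L707427) q17100, e3 q19192 L707440 q19192, e3 q19193 L707444 q19193, e3 q19194 L707458 q19194, e3 q19195 (flp_h L707463) q17104, e3 q19196 L707474 q17117, e3 q19197 L707483 q17118, e3 q19198 L707492 q17119, e3 q19199 L727054 q21061, trivial⟩ (by decide +kernel)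

theorem ce_h_300 : ∀ r, r < 64 → sm gh (Qf (19200 + r)) = Qf (tab Gen.h (19200 + r)) :=
  edges_tab (sm gh) Qf (tab Gen.h) 19200 [(19200, 17109), (19201, 21036), (19202, 21037), (19203, 17112), (19204, 21049), (19205, 21050), (19206, 21051), (19207, 21052), (19208, 21058), (19209, 21059), (19210, 21060), (19211, 17129), (19212, 17798), (19213, 17127), (19214, 17122), (19215, 20903), (19216, 17795), (19217, 17128), (19218, 21076), (19219, 20998), (19220, 17816), (19221, 17133), (19222, 21078), (19223, 21010), (19224, 21080), (19225, 17138), (19226, 21081), (19227, 21020), (19228, 20750), (19229, 17142), (19230, 21028), (19231, 21033), (19232, 21047), (19233, 17165), (19234, 17157), (19235, 21085), (19236, 17161), (19237, 17972), (19238, 19238), (19239, 21087), (19240, 17167), (19241, 19241), (19242, 19242), (19243, 21090), (19244, 21038), (19245, 21092), (19246, 17170), (19247, 17171), (19248, 17817), (19249, 17819), (19250, 20326), (19251, 17821), (19252, 17178), (19253, 21096), (19254, 17949), (19255, 20906), (19256, 17799),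 (19257, 17804), (19258, 17187), (19259, 17189), (19260, 21098), (19261, 21099), (19262, 17301), (19263, 17196)]
    ⟨e3 q19200 (flp_h L707502) q17109, e3 q19201 (flp_h L726834) q21036, e3 q19202 (flp_h L726843) q21037, e3 q19203 (flp_h L707525) q17112, e3 q19204 (flp_h L726954) q21049, e3 q19205 (flp_h L726960) q21050, e3 q19206 (flp_h L726964) q21051, e3 q19207 (flp_h L726970) q21052, e3 q19208 (flp_h L727029) q21058, e3 q19209 (flp_h L727037) q21059, e3 q19210 (flp_h L727050) q21060, e3 q19211 L707603 q17129, e3 q19212 L707615 q17798, e3 q19213 L707631 q17127, e3 q19214 (flp_h L707633) q17122, e3 q19215 (flp_h L725542) q20903, e3 q19216 L707679 q17795, e3 q19217 (flp_h L707681) q17128, e3 q19218 L727191 q21076, e3 q19219 (flp_h L726525) q20998, e3 q19220 L707726 q17816, e3 q19221 (flp_h L707728) q17133, e3 q19222 L727206 q21078, e3 q19223 (flp_h L726624) q21010, e3 q19224 L727225 q21080, e3 q19225 (flp_h L707770) q17138, e3 q19226 (flp_h L727241) q21081, e3 q19227 (flp_h L726695) q21020, e3 q19228 (flp_h L723838) q20750,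 e3 q19229 (flp_h L707809) q17142, e3 q19230 (flp_h L726765) q21028, e3 q19231 (flp_h L726810) q21033, e3 q19232 (flp_h L726938) q21047, e3 q19233 L707868 q17165, e3 q19234 (flp_h L707870) q17157, e3 q19235 L727278 q21085, e3 q19236 (flp_h L707898) q17161, e3 q19237 L707928 q17972, e3 q19238 L707939 q19238, e3 q19239 L727308 q21087, e3 q19240 (flp_h L707954) q17167, e3 q19241 L707973 q19241, e3 q19242 L707989 q19242, e3 q19243 L727349 q21090, e3 q19244 (flp_h L726856) q21038, e3 q19245 L727372 q21092, e3 q19246 (flp_h L708026) q17170, e3 q19247 (flp_h L708034) q17171, e3 q19248 L708063 q17817, e3 q19249 L708080 q17819, e3 q19250 (flp_h L718967) q20326, e3 q19251 L708109 q17821, e3 q19252 (flp_h L708111) q17178, e3 q19253 L727419 q21096, e3 q19254 L708148 q17949, e3 q19255 (flp_h L725582) q20906, e3 q19256 L708172 q17799, e3 q19257 L708180 q17804, e3 q19258 (flp_h L708184) q17187, e3 q19259 L708207 q17189, e3 q19260 (flp_h L727449) q21098, e3 q19261 (flp_h L727462) q21099, e3 q19262 L708236 q17301, e3 q19263 (flp_h L708240)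 q17196, trivial⟩ (by decide +kernel)

theorem ce_h_301 : ∀ r, r < 64 → sm gh (Qf (19264 + r)) = Qf (tab Gen.h (19264 + r)) :=
  edges_tab (sm gh) Qf (tab Gen.h) 19264 [(19264, 17198), (19265, 17199), (19266, 17202), (19267, 17203), (19268, 21102), (19269, 17206), (19270, 21103), (19271, 17208), (19272, 17210), (19273, 17217), (19274, 21106), (19275, 17214), (19276, 17215), (19277, 21107), (19278, 17218), (19279, 17221), (19280, 17582), (19281, 21109), (19282, 17224), (19283, 17617), (19284, 21111), (19285, 17227), (19286, 21112), (19287, 17229), (19288, 21113), (19289, 17236), (19290, 21114), (19291, 17239), (19292, 17662), (19293, 21116), (19294, 17659), (19295, 21118), (19296, 21119), (19297, 17245), (19298, 20061), (19299, 21122), (19300, 20205), (19301, 17651), (19302, 21127), (19303, 17248), (19304, 17648), (19305, 21129), (19306, 17250), (19307, 21131), (19308, 17253), (19309, 17650), (19310, 21133), (19311, 17256), (19312, 17647), (19313, 21135), (19314, 17258), (19315, 17280), (19316, 21137), (19317, 17261), (19318,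 17263), (19319, 21139), (19320, 17266), (19321, 19321), (19322, 21141), (19323, 17270), (19324, 21142), (19325, 17284), (19326, 19326), (19327, 17350)]
    ⟨e3 q19264 (flp_h L708256) q17198, e3 q19265 (flp_h L708272) q17199, e3 q19266 (flp_h L708288) q17202, e3 q19267 (flp_h L708300) q17203, e3 q19268 L727487 q21102, e3 q19269 (flp_h L708325) q17206, e3 q19270 L727501 q21103, e3 q19271 (flp_h L708350) q17208, e3 q19272 (flp_h L708362) q17210, e3 q19273 L708380 q17217, e3 q19274 L727538 q21106, e3 q19275 (flp_h L708398) q17214, e3 q19276 (flp_h L708414) q17215, e3 q19277 L727552 q21107, e3 q19278 (flp_h L708440) q17218, e3 q19279 L708460 q17221, e3 q19280 L708470 q17582, e3 q19281 L727576 q21109, e3 q19282 (flp_h L708488) q17224, e3 q19283 L708514 q17617, e3 q19284 L727604 q21111, e3 q19285 (flp_h L708526) q17227, e3 q19286 L727610 q21112, e3 q19287 (flp_h L708546) q17229, e3 q19288 L727624 q21113, e3 q19289 (flp_h L708574) q17236, e3 q19290 L727636 q21114, e3 q19291 (flp_h L708594) q17239, e3 q19292 L708612 q17662, e3 q19293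 L727658 q21116, e3 q19294 L708632 q17659, e3 q19295 L727680 q21118, e3 q19296 L727690 q21119, e3 q19297 (flp_h L708658) q17245, e3 q19298 (flp_h L715422) q20061, e3 q19299 L727728 q21122, e3 q19300 (flp_h L717433) q20205, e3 q19301 L708708 q17651, e3 q19302 L727793 q21127, e3 q19303 (flp_h L708718) q17248, e3 q19304 L708732 q17648, e3 q19305 L727809 q21129, e3 q19306 (flp_h L708746) q17250, e3 q19307 L727827 q21131, e3 q19308 (flp_h L708766) q17253, e3 q19309 L708787 q17650, e3 q19310 L727852 q21133, e3 q19311 (flp_h L708802) q17256, e3 q19312 L708815 q17647, e3 q19313 L727875 q21135, e3 q19314 (flp_h L708828) q17258, e3 q19315 L708846 q17280, e3 q19316 L727894 q21137, e3 q19317 (flp_h L708858) q17261, e3 q19318 (flp_h L708868) q17263, e3 q19319 L727909 q21139, e3 q19320 (flp_h L708883) q17266, e3 q19321 L708891 q19321, e3 q19322 L727924 q21141, e3 q19323 (flp_h L708902) q17270, e3 q19324 L727934 q21142, e3 q19325 (flp_h L708921) q17284, e3 q19326 L708944 q19326, e3 q19327 L708953 q17350, trivial⟩ (by decide +kernel)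

theorem ce_h_302 : ∀ r, r < 64 → sm gh (Qf (19328 + r)) = Qf (tab Gen.h (19328 + r)) :=
  edges_tab (sm gh) Qf (tab Gen.h) 19328 [(19328, 17351), (19329, 21146), (19330, 17298), (19331, 21148), (19332, 21149), (19333, 17295), (19334, 17296), (19335, 21150), (19336, 17299), (19337, 17462), (19338, 20756), (19339, 21154), (19340, 21155), (19341, 17302), (19342, 17303), (19343, 17475), (19344, 21159), (19345, 17306), (19346, 21161), (19347, 17309), (19348, 17322), (19349, 17311), (19350, 17324), (19351, 21163), (19352, 17315), (19353, 21156), (19354, 21166), (19355, 17318), (19356, 21160), (19357, 17320), (19358, 21162), (19359, 20966), (19360, 17326), (19361, 17712), (19362, 17329), (19363, 17729), (19364, 21171), (19365, 21172), (19366, 17337), (19367, 17338), (19368, 17354), (19369, 21175), (19370, 21176), (19371, 17342), (19372, 21177), (19373, 17344), (19374, 17345), (19375, 19375), (19376, 20108), (19377, 20109), (19378, 21184), (19379, 20145), (19380, 21143), (19381, 21190), (19382, 17788), (19383, 21192), (19384, 17352),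 (19385, 20140), (19386, 21195), (19387, 20247), (19388, 20137), (19389, 21199), (19390, 17355), (19391, 21201)]
    ⟨e3 q19328 L708964 q17351, e3 q19329 L727984 q21146, e3 q19330 L708990 q17298, e3 q19331 L728012 q21148, e3 q19332 L728026 q21149, e3 q19333 (flp_h L709018) q17295, e3 q19334 (flp_h L709030) q17296, e3 q19335 L728038 q21150, e3 q19336 (flp_h L709057) q17299, e3 q19337 L709079 q17462, e3 q19338 (flp_h L723912) q20756, e3 q19339 L728088 q21154, e3 q19340 L728096 q21155, e3 q19341 (flp_h L709111) q17302, e3 q19342 (flp_h L709119) q17303, e3 q19343 L709140 q17475, e3 q19344 L728141 q21159, e3 q19345 (flp_h L709157) q17306, e3 q19346 L728163 q21161, e3 q19347 (flp_h L709182) q17309, e3 q19348 L709200 q17322, e3 q19349 (flp_h L709202) q17311, e3 q19350 L709222 q17324, e3 q19351 L728185 q21163, e3 q19352 (flp_h L709236) q17315, e3 q19353 (flp_h L728114) q21156, e3 q19354 L728212 q21166, e3 q19355 (flp_h L709267) q17318, e3 q19356 (flp_h L728161) q21160, e3 q19357 (flp_h L709289) q17320, e3 q19358 (flp_h L728183) q21162,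 e3 q19359 (flp_h L726197) q20966, e3 q19360 (flp_h L709320) q17326, e3 q19361 L709339 q17712, e3 q19362 (flp_h L709343) q17329, e3 q19363 L709362 q17729, e3 q19364 L728271 q21171, e3 q19365 L728285 q21172, e3 q19366 (flp_h L709390) q17337, e3 q19367 (flp_h L709400) q17338, e3 q19368 L709421 q17354, e3 q19369 L728308 q21175, e3 q19370 L728318 q21176, e3 q19371 (flp_h L709438) q17342, e3 q19372 L728326 q21177, e3 q19373 (flp_h L709460) q17344, e3 q19374 (flp_h L709475) q17345, e3 q19375 L709494 q19375, e3 q19376 (flp_h L716126) q20108, e3 q19377 (flp_h L716137) q20109, e3 q19378 L728399 q21184, e3 q19379 (flp_h L716612) q20145, e3 q19380 (flp_h L727955) q21143, e3 q19381 L728458 q21190, e3 q19382 L709559 q17788, e3 q19383 L728482 q21192, e3 q19384 (flp_h L709571) q17352, e3 q19385 (flp_h L716553) q20140, e3 q19386 L728506 q21195, e3 q19387 (flp_h L718009) q20247, e3 q19388 (flp_h L716513) q20137, e3 q19389 L728547 q21199, e3 q19390 (flp_h L709623) q17355, e3 q19391 L728565 q21201, trivial⟩ (by decide +kernel)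

theorem ce_h_303 : ∀ r, r < 64 → sm gh (Qf (19392 + r)) = Qf (tab Gen.h (19392 + r)) :=
  edges_tab (sm gh) Qf (tab Gen.h) 19392 [(19392, 17357), (19393, 21203), (19394, 17787), (19395, 21205), (19396, 17361), (19397, 21207), (19398, 17363), (19399, 17365), (19400, 21209), (19401, 17367), (19402, 17394), (19403, 17369), (19404, 17396), (19405, 19405), (19406, 17397), (19407, 19407), (19408, 21214), (19409, 17376), (19410, 21215), (19411, 20243), (19412, 21217), (19413, 17379), (19414, 17380), (19415, 21219), (19416, 20246), (19417, 21221), (19418, 17384), (19419, 21223), (19420, 17386), (19421, 21200), (19422, 21226), (19423, 17390), (19424, 21206), (19425, 17392), (19426, 21208), (19427, 21211), (19428, 21212), (19429, 17905), (19430, 17880), (19431, 21236), (19432, 21237), (19433, 17400), (19434, 17430), (19435, 17431), (19436, 21241), (19437, 17433), (19438, 17434), (19439, 21246), (19440, 21247), (19441, 17405), (19442, 17440), (19443, 21251), (19444, 21253), (19445, 17443), (19446, 21256), (19447, 17408), (19448, 17446),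 (19449, 21259), (19450, 17410), (19451, 21261), (19452, 17413), (19453, 17459), (19454, 21264), (19455, 17416)]
    ⟨e3 q19392 (flp_h L709641) q17357, e3 q19393 L728581 q21203, e3 q19394 L709665 q17787, e3 q19395 L728599 q21205, e3 q19396 (flp_h L709679) q17361, e3 q19397 L728623 q21207, e3 q19398 (flp_h L709700) q17363, e3 q19399 (flp_h L709715) q17365, e3 q19400 L728645 q21209, e3 q19401 (flp_h L709730) q17367, e3 q19402 L709748 q17394, e3 q19403 (flp_h L709750) q17369, e3 q19404 L709767 q17396, e3 q19405 L709776 q19405, e3 q19406 L709784 q17397, e3 q19407 L709795 q19407, e3 q19408 L728697 q21214, e3 q19409 (flp_h L709812) q17376, e3 q19410 L728711 q21215, e3 q19411 (flp_h L717965) q20243, e3 q19412 L728734 q21217, e3 q19413 (flp_h L709860) q17379, e3 q19414 (flp_h L709871) q17380, e3 q19415 L728759 q21219, e3 q19416 (flp_h L717997) q20246, e3 q19417 L728780 q21221, e3 q19418 (flp_h L709914) q17384, e3 q19419 L728800 q21223, e3 q19420 (flp_h L709935) q17386, e3 q19421 (flp_h L728563) q21200, e3 q19422 L728824 q21226, e3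 q19423 (flp_h L709967) q17390, e3 q19424 (flp_h L728621) q21206, e3 q19425 (flp_h L709987) q17392, e3 q19426 (flp_h L728643) q21208, e3 q19427 (flp_h L728670) q21211, e3 q19428 (flp_h L728679) q21212, e3 q19429 L710033 q17905, e3 q19430 L710043 q17880, e3 q19431 L728928 q21236, e3 q19432 L728938 q21237, e3 q19433 (flp_h L710068) q17400, e3 q19434 L710083 q17430, e3 q19435 L710092 q17431, e3 q19436 L728976 q21241, e3 q19437 L710112 q17433, e3 q19438 L710122 q17434, e3 q19439 L729027 q21246, e3 q19440 L729037 q21247, e3 q19441 (flp_h L710147) q17405, e3 q19442 L710163 q17440, e3 q19443 L729078 q21251, e3 q19444 L729098 q21253, e3 q19445 L710183 q17443, e3 q19446 L729118 q21256, e3 q19447 (flp_h L710193) q17408, e3 q19448 L710211 q17446, e3 q19449 L729145 q21259, e3 q19450 (flp_h L710225) q17410, e3 q19451 L729163 q21261, e3 q19452 (flp_h L710245) q17413, e3 q19453 L710268 q17459, e3 q19454 L729200 q21264, e3 q19455 (flp_h L710288) q17416, trivial⟩ (by decide +kernel)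

theorem ce_h_304 : ∀ r, r < 64 → sm gh (Qf (19456 + r)) = Qf (tab Gen.h (19456 + r)) :=
  edges_tab (sm gh) Qf (tab Gen.h) 19456 [(19456, 21266), (19457, 17418), (19458, 19458), (19459, 21267), (19460, 17421), (19461, 17423), (19462, 19462), (19463, 21268), (19464, 17428), (19465, 21238), (19466, 21271), (19467, 20926), (19468, 21273), (19469, 17432), (19470, 21242), (19471, 21276), (19472, 21278), (19473, 17826), (19474, 21281), (19475, 17435), (19476, 21283), (19477, 17437), (19478, 21007), (19479, 21287), (19480, 21289), (19481, 21249), (19482, 21293), (19483, 17441), (19484, 21296), (19485, 17442), (19486, 21299), (19487, 21151), (19488, 21302), (19489, 17444), (19490, 17497), (19491, 20911), (19492, 21306), (19493, 17447), (19494, 21130), (19495, 17929), (19496, 21311), (19497, 17825), (19498, 21313), (19499, 17451), (19500, 21315), (19501, 17453), (19502, 17500), (19503, 17455), (19504, 17917), (19505, 21319), (19506, 17458), (19507, 17914), (19508, 21321), (19509, 17460), (19510, 17502), (19511, 20356), (19512, 21324),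 (19513, 17463), (19514, 19514), (19515, 17503), (19516, 21327), (19517, 17467), (19518, 17469), (19519, 17903)]
    ⟨e3 q19456 L729225 q21266, e3 q19457 (flp_h L710308) q17418, e3 q19458 L710326 q19458, e3 q19459 L729235 q21267, e3 q19460 (flp_h L710339) q17421, e3 q19461 (flp_h L710349) q17423, e3 q19462 L710371 q19462, e3 q19463 L729247 q21268, e3 q19464 (flp_h L710383) q17428, e3 q19465 (flp_h L728956) q21238, e3 q19466 L729271 q21271, e3 q19467 (flp_h L725774) q20926, e3 q19468 L729285 q21273, e3 q19469 (flp_h L710421) q17432, e3 q19470 (flp_h L728993) q21242, e3 q19471 L729315 q21276, e3 q19472 L729334 q21278, e3 q19473 L710460 q17826, e3 q19474 L729358 q21281, e3 q19475 (flp_h L710472) q17435, e3 q19476 L729374 q21283, e3 q19477 (flp_h L710492) q17437, e3 q19478 (flp_h L726594) q21007, e3 q19479 L729414 q21287, e3 q19480 L729429 q21289, e3 q19481 (flp_h L729064) q21249, e3 q19482 L729467 q21293, e3 q19483 (flp_h L710538) q17441, e3 q19484 L729494 q21296, e3 q19485 (flp_h L710551) q17442, e3 q19486 L729510 q21299, e3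 q19487 (flp_h L728060) q21151, e3 q19488 L729528 q21302, e3 q19489 (flp_h L710575) q17444, e3 q19490 L710585 q17497, e3 q19491 (flp_h L725639) q20911, e3 q19492 L729550 q21306, e3 q19493 (flp_h L710601) q17447, e3 q19494 (flp_h L727825) q21130, e3 q19495 L710624 q17929, e3 q19496 L729593 q21311, e3 q19497 L710647 q17825, e3 q19498 L729613 q21313, e3 q19499 (flp_h L710661) q17451, e3 q19500 L729637 q21315, e3 q19501 (flp_h L710679) q17453, e3 q19502 L710695 q17500, e3 q19503 (flp_h L710697) q17455, e3 q19504 L710716 q17917, e3 q19505 L729675 q21319, e3 q19506 (flp_h L710733) q17458, e3 q19507 L710750 q17914, e3 q19508 L729702 q21321, e3 q19509 (flp_h L710763) q17460, e3 q19510 L710779 q17502, e3 q19511 (flp_h L719325) q20356, e3 q19512 L729726 q21324, e3 q19513 (flp_h L710797) q17463, e3 q19514 L710807 q19514, e3 q19515 L710812 q17503, e3 q19516 L729743 q21327, e3 q19517 (flp_h L710824) q17467, e3 q19518 (flp_h L710832) q17469, e3 q19519 L710858 q17903, trivial⟩ (by decide +kernel)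

theorem ce_h_305 : ∀ r, r < 64 → sm gh (Qf (19520 + r)) = Qf (tab Gen.h (19520 + r)) :=
  edges_tab (sm gh) Qf (tab Gen.h) 19520 [(19520, 21330), (19521, 17472), (19522, 19522), (19523, 21331), (19524, 17476), (19525, 19525), (19526, 17480), (19527, 17483), (19528, 17485), (19529, 17486), (19530, 21336), (19531, 17487), (19532, 21282), (19533, 17490), (19534, 17491), (19535, 21340), (19536, 17492), (19537, 21294), (19538, 21343), (19539, 17495), (19540, 21344), (19541, 21304), (19542, 17498), (19543, 21314), (19544, 21317), (19545, 21326), (19546, 17510), (19547, 17511), (19548, 17512), (19549, 17514), (19550, 21348), (19551, 17516), (19552, 17519), (19553, 17522), (19554, 21353), (19555, 17523), (19556, 17525), (19557, 17529), (19558, 21356), (19559, 17530), (19560, 19560), (19561, 17532), (19562, 17533), (19563, 17535), (19564, 17548), (19565, 17537), (19566, 17538), (19567, 17550), (19568, 17540), (19569, 17543), (19570, 17551), (19571, 21359), (19572, 21361), (19573, 21362), (19574, 21363), (19575, 21364), (19576, 17560),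 (19577, 21366), (19578, 17555), (19579, 17586), (19580, 21368), (19581, 20689), (19582, 21370), (19583, 21371)]
    ⟨e3 q19520 L729777 q21330, e3 q19521 (flp_h L710874) q17472, e3 q19522 L710894 q19522, e3 q19523 L729791 q21331, e3 q19524 (flp_h L710903) q17476, e3 q19525 L710914 q19525, e3 q19526 (flp_h L710915) q17480, e3 q19527 (flp_h L710922) q17483, e3 q19528 (flp_h L710930) q17485, e3 q19529 (flp_h L710941) q17486, e3 q19530 L729828 q21336, e3 q19531 (flp_h L710954) q17487, e3 q19532 (flp_h L729372) q21282, e3 q19533 (flp_h L710971) q17490, e3 q19534 (flp_h L710980) q17491, e3 q19535 L729850 q21340, e3 q19536 (flp_h L710993) q17492, e3 q19537 (flp_h L729481) q21294, e3 q19538 L729866 q21343, e3 q19539 (flp_h L711014) q17495, e3 q19540 (flp_h L729874) q21344, e3 q19541 (flp_h L729540) q21304, e3 q19542 (flp_h L711024) q17498, e3 q19543 (flp_h L729635) q21314, e3 q19544 (flp_h L729660) q21317, e3 q19545 (flp_h L729741) q21326, e3 q19546 (flp_h L711056) q17510, e3 q19547 (flp_h L711072) q17511, e3 q19548 (flp_h L711088)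 q17512, e3 q19549 (flp_h L711096) q17514, e3 q19550 (flp_h L729900) q21348, e3 q19551 (flp_h L711118) q17516, e3 q19552 (flp_h L711126) q17519, e3 q19553 L711140 q17522, e3 q19554 (flp_h L729943) q21353, e3 q19555 (flp_h L711150) q17523, e3 q19556 (flp_h L711160) q17525, e3 q19557 L711172 q17529, e3 q19558 (flp_h L729968) q21356, e3 q19559 (flp_h L711183) q17530, e3 q19560 L711197 q19560, e3 q19561 (flp_h L711198) q17532, e3 q19562 (flp_h L711204) q17533, e3 q19563 (flp_h L711208) q17535, e3 q19564 L711218 q17548, e3 q19565 (flp_h L711220) q17537, e3 q19566 (flp_h L711226) q17538, e3 q19567 L711240 q17550, e3 q19568 (flp_h L711242) q17540, e3 q19569 L711256 q17543, e3 q19570 L711262 q17551, e3 q19571 (flp_h L729994) q21359, e3 q19572 (flp_h L730005) q21361, e3 q19573 (flp_h L730013) q21362, e3 q19574 (flp_h L730021) q21363, e3 q19575 (flp_h L730027) q21364, e3 q19576 L711311 q17560, e3 q19577 L730043 q21366, e3 q19578 (flp_h L711329) q17555, e3 q19579 L711353 q17586, e3 q19580 L730071 q21368, e3 q19581 (flp_h L723264) q20689,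 e3 q19582 L730093 q21370, e3 q19583 L730101 q21371, trivial⟩ (by decide +kernel)

theorem ce_h_306 : ∀ r, r < 64 → sm gh (Qf (19584 + r)) = Qf (tab Gen.h (19584 + r)) :=
  edges_tab (sm gh) Qf (tab Gen.h) 19584 [(19584, 17561), (19585, 17562), (19586, 17563), (19587, 17573), (19588, 21374), (19589, 17567), (19590, 17569), (19591, 21372), (19592, 20672), (19593, 21373), (19594, 17584), (19595, 21380), (19596, 21381), (19597, 17576), (19598, 17577), (19599, 17579), (19600, 19600), (19601, 21385), (19602, 17583), (19603, 21387), (19604, 20686), (19605, 21390), (19606, 17585), (19607, 21392), (19608, 17587), (19609, 21394), (19610, 17591), (19611, 17604), (19612, 17593), (19613, 17595), (19614, 17596), (19615, 17606), (19616, 19616), (19617, 17607), (19618, 17600), (19619, 21401), (19620, 17601), (19621, 21391), (19622, 21396), (19623, 21399), (19624, 17619), (19625, 21408), (19626, 21409), (19627, 17610), (19628, 17611), (19629, 17613), (19630, 19630), (19631, 20454), (19632, 21413), (19633, 21414), (19634, 17618), (19635, 21415),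 (19636, 17620), (19637, 17621), (19638, 17632), (19639, 17625), (19640, 17634), (19641, 17635), (19642, 17628), (19643, 21416), (19644, 21418), (19645, 17656), (19646, 21422), (19647, 21423)]
    ⟨e3 q19584 (flp_h L711395) q17561, e3 q19585 (flp_h L711403) q17562, e3 q19586 (flp_h L711419) q17563, e3 q19587 L711433 q17573, e3 q19588 L730125 q21374, e3 q19589 (flp_h L711442) q17567, e3 q19590 (flp_h L711451) q17569, e3 q19591 (flp_h L730115) q21372, e3 q19592 (flp_h L723105) q20672, e3 q19593 (flp_h L730123) q21373, e3 q19594 L711492 q17584, e3 q19595 L730174 q21380, e3 q19596 L730182 q21381, e3 q19597 (flp_h L711505) q17576, e3 q19598 (flp_h L711513) q17577, e3 q19599 (flp_h L711521) q17579, e3 q19600 L711533 q19600, e3 q19601 L730211 q21385, e3 q19602 (flp_h L711542) q17583, e3 q19603 L730224 q21387, e3 q19604 (flp_h L723224) q20686, e3 q19605 L730248 q21390, e3 q19606 (flp_h L711568) q17585, e3 q19607 L730262 q21392, e3 q19608 (flp_h L711584) q17587, e3 q19609 L730276 q21394, e3 q19610 (flp_h L711595) q17591, e3 q19611 L711609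 q17604, e3 q19612 (flp_h L711611) q17593, e3 q19613 (flp_h L711617) q17595, e3 q19614 (flp_h L711621) q17596, e3 q19615 L711633 q17606, e3 q19616 L711637 q19616, e3 q19617 L711642 q17607, e3 q19618 (flp_h L711644) q17600, e3 q19619 L730319 q21401, e3 q19620 (flp_h L711659) q17601, e3 q19621 (flp_h L730260) q21391, e3 q19622 (flp_h L730293) q21396, e3 q19623 (flp_h L730309) q21399, e3 q19624 L711694 q17619, e3 q19625 L730362 q21408, e3 q19626 L730372 q21409, e3 q19627 (flp_h L711711) q17610, e3 q19628 (flp_h L711719) q17611, e3 q19629 (flp_h L711729) q17613, e3 q19630 L711741 q19630, e3 q19631 (flp_h L720613) q20454, e3 q19632 L730406 q21413, e3 q19633 L730412 q21414, e3 q19634 (flp_h L711768) q17618, e3 q19635 L730420 q21415, e3 q19636 (flp_h L711784) q17620, e3 q19637 (flp_h L711792) q17621, e3 q19638 L711804 q17632, e3 q19639 (flp_h L711806) q17625, e3 q19640 L711816 q17634, e3 q19641 L711822 q17635, e3 q19642 (flp_h L711824) q17628, e3 q19643 (flp_h L730434) q21416, e3 q19644 (flp_h L730448) q21418, e3 q19645 L711856 q17656,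 e3 q19646 L730468 q21422, e3 q19647 L730476 q21423, trivial⟩ (by decide +kernel)

theorem ce_h_307 : ∀ r, r < 64 → sm gh (Qf (19648 + r)) = Qf (tab Gen.h (19648 + r)) :=
  edges_tab (sm gh) Qf (tab Gen.h) 19648 [(19648, 21425), (19649, 17638), (19650, 17639), (19651, 17641), (19652, 19652), (19653, 17643), (19654, 19654), (19655, 19655), (19656, 21125), (19657, 21432), (19658, 20087), (19659, 21434), (19660, 17649), (19661, 21120), (19662, 21436), (19663, 21437), (19664, 17652), (19665, 17653), (19666, 20556), (19667, 21441), (19668, 20835), (19669, 20513), (19670, 21444), (19671, 17657), (19672, 17658), (19673, 21447), (19674, 20032), (19675, 21449), (19676, 17660), (19677, 17701), (19678, 20034), (19679, 21453), (19680, 17663), (19681, 17902), (19682, 17665), (19683, 17703), (19684, 17667), (19685, 21458), (19686, 17669), (19687, 17705), (19688, 21461), (19689, 17672), (19690, 17687), (19691, 17706), (19692, 21462), (19693, 17676), (19694, 17678), (19695, 17707), (19696, 17680), (19697, 17992), (19698, 17708), (19699, 17709),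 (19700, 17683), (19701, 17993), (19702, 17710), (19703, 17690), (19704, 17692), (19705, 21438), (19706, 17694), (19707, 21469), (19708, 17696), (19709, 21445), (19710, 21472), (19711, 17699)]
    ⟨e3 q19648 L730486 q21425, e3 q19649 (flp_h L711874) q17638, e3 q19650 (flp_h L711882) q17639, e3 q19651 (flp_h L711888) q17641, e3 q19652 L711902 q19652, e3 q19653 (flp_h L711903) q17643, e3 q19654 L711917 q19654, e3 q19655 L711920 q19655, e3 q19656 (flp_h L727779) q21125, e3 q19657 L730536 q21432, e3 q19658 (flp_h L715841) q20087, e3 q19659 L730548 q21434, e3 q19660 (flp_h L711949) q17649, e3 q19661 (flp_h L727712) q21120, e3 q19662 L730562 q21436, e3 q19663 L730570 q21437, e3 q19664 (flp_h L711977) q17652, e3 q19665 (flp_h L711985) q17653, e3 q19666 (flp_h L721859) q20556, e3 q19667 L730598 q21441, e3 q19668 (flp_h L724815) q20835, e3 q19669 (flp_h L721349) q20513, e3 q19670 L730620 q21444, e3 q19671 (flp_h L712021) q17657, e3 q19672 (flp_h L712027) q17658, e3 q19673 L730640 q21447, e3 q19674 (flp_h L715000) q20032, e3 q19675 L730654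 q21449, e3 q19676 (flp_h L712055) q17660, e3 q19677 L712065 q17701, e3 q19678 (flp_h L715032) q20034, e3 q19679 L730676 q21453, e3 q19680 (flp_h L712081) q17663, e3 q19681 L712089 q17902, e3 q19682 (flp_h L712091) q17665, e3 q19683 L712101 q17703, e3 q19684 (flp_h L712103) q17667, e3 q19685 L730708 q21458, e3 q19686 (flp_h L712117) q17669, e3 q19687 L712131 q17705, e3 q19688 L730728 q21461, e3 q19689 (flp_h L712143) q17672, e3 q19690 L712155 q17687, e3 q19691 L712161 q17706, e3 q19692 (flp_h L730742) q21462, e3 q19693 (flp_h L712171) q17676, e3 q19694 (flp_h L712177) q17678, e3 q19695 L712187 q17707, e3 q19696 (flp_h L712189) q17680, e3 q19697 L712199 q17992, e3 q19698 L712203 q17708, e3 q19699 L712209 q17709, e3 q19700 (flp_h L712211) q17683, e3 q19701 L712219 q17993, e3 q19702 L712225 q17710, e3 q19703 (flp_h L712227) q17690, e3 q19704 (flp_h L712236) q17692, e3 q19705 (flp_h L730584) q21438, e3 q19706 (flp_h L712254) q17694, e3 q19707 L730782 q21469, e3 q19708 (flp_h L712271) q17696, e3 q19709 (flp_h L730632) q21445, e3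 q19710 L730800 q21472, e3 q19711 (flp_h L712296) q17699, trivial⟩ (by decide +kernel)

theorem ce_h_308 : ∀ r, r < 64 → sm gh (Qf (19712 + r)) = Qf (tab Gen.h (19712 + r)) :=
  edges_tab (sm gh) Qf (tab Gen.h) 19712 [(19712, 21473), (19713, 21451), (19714, 21456), (19715, 21457), (19716, 21459), (19717, 21460), (19718, 21463), (19719, 21464), (19720, 17711), (19721, 17714), (19722, 20793), (19723, 21480), (19724, 21481), (19725, 17725), (19726, 17726), (19727, 21483), (19728, 17730), (19729, 17743), (19730, 21485), (19731, 21486), (19732, 17734), (19733, 21487), (19734, 17736), (19735, 17738), (19736, 17740), (19737, 20764), (19738, 21491), (19739, 20839), (19740, 21494), (19741, 17744), (19742, 20754), (19743, 21497), (19744, 20833), (19745, 20519), (19746, 21501), (19747, 17747), (19748, 17753), (19749, 21503), (19750, 17749), (19751, 17796), (19752, 20226), (19753, 21508), (19754, 17752), (19755, 21492), (19756, 21510), (19757, 21511), (19758, 17755), (19759, 17757), (19760, 21393), (19761, 20230), (19762, 21516), (19763,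 17760), (19764, 21517), (19765, 17762), (19766, 21519), (19767, 17765), (19768, 21520), (19769, 17768), (19770, 17770), (19771, 19771), (19772, 19772), (19773, 21523), (19774, 21524), (19775, 17783)]
    ⟨e3 q19712 (flp_h L730812) q21473, e3 q19713 (flp_h L730666) q21451, e3 q19714 (flp_h L730698) q21456, e3 q19715 (flp_h L730706) q21457, e3 q19716 (flp_h L730718) q21459, e3 q19717 (flp_h L730726) q21460, e3 q19718 (flp_h L730746) q21463, e3 q19719 (flp_h L730750) q21464, e3 q19720 (flp_h L712350) q17711, e3 q19721 (flp_h L712360) q17714, e3 q19722 (flp_h L724343) q20793, e3 q19723 L730851 q21480, e3 q19724 L730860 q21481, e3 q19725 (flp_h L712393) q17725, e3 q19726 (flp_h L712403) q17726, e3 q19727 L730874 q21483, e3 q19728 (flp_h L712415) q17730, e3 q19729 L712425 q17743, e3 q19730 L730884 q21485, e3 q19731 L730893 q21486, e3 q19732 (flp_h L712440) q17734, e3 q19733 L730901 q21487, e3 q19734 (flp_h L712458) q17736, e3 q19735 (flp_h L712464) q17738, e3 q19736 (flp_h L712479) q17740, e3 q19737 (flp_h L724022) q20764, e3 q19738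 L730930 q21491, e3 q19739 L724851 q20839, e3 q19740 L730951 q21494, e3 q19741 (flp_h L712511) q17744, e3 q19742 (flp_h L723888) q20754, e3 q19743 L730975 q21497, e3 q19744 (flp_h L724794) q20833, e3 q19745 L721423 q20519, e3 q19746 L731008 q21501, e3 q19747 (flp_h L712556) q17747, e3 q19748 L712570 q17753, e3 q19749 L731024 q21503, e3 q19750 (flp_h L712582) q17749, e3 q19751 (flp_h L712598) q17796, e3 q19752 (flp_h L717730) q20226, e3 q19753 L731073 q21508, e3 q19754 (flp_h L712614) q17752, e3 q19755 (flp_h L730942) q21492, e3 q19756 L731086 q21510, e3 q19757 L731090 q21511, e3 q19758 (flp_h L712639) q17755, e3 q19759 (flp_h L712645) q17757, e3 q19760 (flp_h L730274) q21393, e3 q19761 (flp_h L717784) q20230, e3 q19762 L731121 q21516, e3 q19763 (flp_h L712678) q17760, e3 q19764 L731132 q21517, e3 q19765 (flp_h L712694) q17762, e3 q19766 L731146 q21519, e3 q19767 (flp_h L712712) q17765, e3 q19768 L731155 q21520, e3 q19769 (flp_h L712729) q17768, e3 q19770 (flp_h L712739) q17770, e3 q19771 L712749 q19771, e3 q19772 L712755 q19772,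 e3 q19773 L731175 q21523, e3 q19774 L731180 q21524, e3 q19775 (flp_h L712774) q17783, trivial⟩ (by decide +kernel)

theorem ce_h_309 : ∀ r, r < 64 → sm gh (Qf (19776 + r)) = Qf (tab Gen.h (19776 + r)) :=
  edges_tab (sm gh) Qf (tab Gen.h) 19776 [(19776, 21188), (19777, 21526), (19778, 21527), (19779, 17789), (19780, 21528), (19781, 17791), (19782, 17792), (19783, 20988), (19784, 21531), (19785, 21505), (19786, 21533), (19787, 17797), (19788, 20979), (19789, 21535), (19790, 21536), (19791, 17800), (19792, 17801), (19793, 20307), (19794, 21539), (19795, 20986), (19796, 21541), (19797, 17805), (19798, 17806), (19799, 21543), (19800, 17807), (19801, 21417), (19802, 21546), (19803, 17811), (19804, 17813), (19805, 21547), (19806, 21548), (19807, 17823), (19808, 21309), (19809, 21274), (19810, 21553), (19811, 21554), (19812, 21556), (19813, 17827), (19814, 17828), (19815, 17872), (19816, 21561), (19817, 17874), (19818, 21563), (19819, 17832), (19820, 17877), (19821, 21565), (19822, 20877), (19823, 21567), (19824, 17835), (19825,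 17836), (19826, 17886), (19827, 21570), (19828, 20870), (19829, 17889), (19830, 21575), (19831, 17840), (19832, 21577), (19833, 17841), (19834, 21580), (19835, 17895), (19836, 21583), (19837, 17843), (19838, 17899), (19839, 21586)]
    ⟨e3 q19776 (flp_h L728444) q21188, e3 q19777 L731199 q21526, e3 q19778 L731207 q21527, e3 q19779 (flp_h L712801) q17789, e3 q19780 L731213 q21528, e3 q19781 (flp_h L712815) q17791, e3 q19782 (flp_h L712825) q17792, e3 q19783 (flp_h L726432) q20988, e3 q19784 L731239 q21531, e3 q19785 (flp_h L731048) q21505, e3 q19786 L731255 q21533, e3 q19787 (flp_h L712865) q17797, e3 q19788 (flp_h L726342) q20979, e3 q19789 L731271 q21535, e3 q19790 L731279 q21536, e3 q19791 (flp_h L712898) q17800, e3 q19792 (flp_h L712908) q17801, e3 q19793 (flp_h L718747) q20307, e3 q19794 L731303 q21539, e3 q19795 (flp_h L726400) q20986, e3 q19796 L731319 q21541, e3 q19797 (flp_h L712944) q17805, e3 q19798 (flp_h L712950) q17806, e3 q19799 L731331 q21543, e3 q19800 (flp_h L712964) q17807, e3 q19801 (flp_h L730440) q21417,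 e3 q19802 L731345 q21546, e3 q19803 (flp_h L712987) q17811, e3 q19804 (flp_h L712994) q17813, e3 q19805 L731356 q21547, e3 q19806 L731362 q21548, e3 q19807 (flp_h L713018) q17823, e3 q19808 (flp_h L729577) q21309, e3 q19809 (flp_h L729301) q21274, e3 q19810 L731402 q21553, e3 q19811 L731408 q21554, e3 q19812 L731422 q21556, e3 q19813 (flp_h L713058) q17827, e3 q19814 (flp_h L713064) q17828, e3 q19815 L713074 q17872, e3 q19816 L731453 q21561, e3 q19817 L713087 q17874, e3 q19818 L731467 q21563, e3 q19819 (flp_h L713096) q17832, e3 q19820 L713109 q17877, e3 q19821 L731483 q21565, e3 q19822 (flp_h L725276) q20877, e3 q19823 L731503 q21567, e3 q19824 (flp_h L713135) q17835, e3 q19825 (flp_h L713145) q17836, e3 q19826 L713157 q17886, e3 q19827 L731525 q21570, e3 q19828 (flp_h L725198) q20870, e3 q19829 L713177 q17889, e3 q19830 L731560 q21575, e3 q19831 (flp_h L713187) q17840, e3 q19832 L731573 q21577, e3 q19833 (flp_h L713200) q17841, e3 q19834 L731593 q21580, e3 q19835 L713218 q17895, e3 q19836 L731613 q21583, e3 q19837 (flp_h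 L713228) q17843, e3 q19838 L713240 q17899, e3 q19839 L731633 q21586, trivial⟩ (by decide +kernel)

theorem ce_h_310 : ∀ r, r < 64 → sm gh (Qf (19840 + r)) = Qf (tab Gen.h (19840 + r)) :=
  edges_tab (sm gh) Qf (tab Gen.h) 19840 [(19840, 17846), (19841, 21558), (19842, 21589), (19843, 21590), (19844, 17850), (19845, 17851), (19846, 17854), (19847, 21592), (19848, 17856), (19849, 17921), (19850, 21595), (19851, 17859), (19852, 19852), (19853, 21597), (19854, 17862), (19855, 19855), (19856, 21599), (19857, 17867), (19858, 19858), (19859, 17870), (19860, 21559), (19861, 21602), (19862, 17873), (19863, 20249), (19864, 21604), (19865, 17875), (19866, 21232), (19867, 21607), (19868, 17878), (19869, 21608), (19870, 21609), (19871, 17881), (19872, 17940), (19873, 20244), (19874, 21613), (19875, 17884), (19876, 21439), (19877, 21291), (19878, 21617), (19879, 17887), (19880, 20871), (19881, 21611), (19882, 21285), (19883, 21621), (19884, 17890), (19885, 17939), (19886, 21623), (19887, 17892), (19888, 21626), (19889, 21627), (19890, 17894),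 (19891, 21581), (19892, 21630), (19893, 17896), (19894, 21628), (19895, 17943), (19896, 21635), (19897, 17900), (19898, 21454), (19899, 21455), (19900, 21231), (19901, 21640), (19902, 17904), (19903, 21641)]
    ⟨e3 q19840 (flp_h L713248) q17846, e3 q19841 (flp_h L731436) q21558, e3 q19842 L731651 q21589, e3 q19843 L731662 q21590, e3 q19844 (flp_h L713281) q17850, e3 q19845 (flp_h L713292) q17851, e3 q19846 (flp_h L713303) q17854, e3 q19847 L731683 q21592, e3 q19848 (flp_h L713318) q17856, e3 q19849 L713335 q17921, e3 q19850 L731709 q21595, e3 q19851 (flp_h L713346) q17859, e3 q19852 L713360 q19852, e3 q19853 L731726 q21597, e3 q19854 (flp_h L713369) q17862, e3 q19855 L713384 q19855, e3 q19856 L731742 q21599, e3 q19857 (flp_h L713393) q17867, e3 q19858 L713408 q19858, e3 q19859 (flp_h L713409) q17870, e3 q19860 (flp_h L731442) q21559, e3 q19861 L731765 q21602, e3 q19862 (flp_h L713429) q17873, e3 q19863 (flp_h L718027) q20249, e3 q19864 L731780 q21604, e3 q19865 (flp_h L713446) q17875, e3 q19866 (flp_h L728894) q21232, e3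 q19867 L731801 q21607, e3 q19868 (flp_h L713472) q17878, e3 q19869 L731809 q21608, e3 q19870 L731817 q21609, e3 q19871 (flp_h L713502) q17881, e3 q19872 L713518 q17940, e3 q19873 (flp_h L717976) q20244, e3 q19874 L731847 q21613, e3 q19875 (flp_h L713532) q17884, e3 q19876 (flp_h L730590) q21439, e3 q19877 (flp_h L729453) q21291, e3 q19878 L731871 q21617, e3 q19879 (flp_h L713556) q17887, e3 q19880 (flp_h L725210) q20871, e3 q19881 (flp_h L731837) q21611, e3 q19882 (flp_h L729400) q21285, e3 q19883 L731905 q21621, e3 q19884 (flp_h L713596) q17890, e3 q19885 L713610 q17939, e3 q19886 L731917 q21623, e3 q19887 (flp_h L713618) q17892, e3 q19888 L731937 q21626, e3 q19889 L731943 q21627, e3 q19890 (flp_h L713636) q17894, e3 q19891 (flp_h L731603) q21581, e3 q19892 L731961 q21630, e3 q19893 (flp_h L713654) q17896, e3 q19894 (flp_h L731951) q21628, e3 q19895 L713666 q17943, e3 q19896 L731987 q21635, e3 q19897 (flp_h L713674) q17900, e3 q19898 (flp_h L730686) q21454, e3 q19899 (flp_h L730690) q21455, e3 q19900 (flp_h L728882) q21231,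 e3 q19901 L732013 q21640, e3 q19902 (flp_h L713705) q17904, e3 q19903 L732022 q21641, trivial⟩ (by decide +kernel)

theorem ce_h_311 : ∀ r, r < 64 → sm gh (Qf (19904 + r)) = Qf (tab Gen.h (19904 + r)) :=
  edges_tab (sm gh) Qf (tab Gen.h) 19904 [(19904, 17906), (19905, 17908), (19906, 18048), (19907, 17944), (19908, 21646), (19909, 17912), (19910, 21647), (19911, 17915), (19912, 21648), (19913, 17918), (19914, 18053), (19915, 21651), (19916, 17922), (19917, 18056), (19918, 18057), (19919, 17945), (19920, 17926), (19921, 21655), (19922, 17930), (19923, 18063), (19924, 18064), (19925, 17933), (19926, 18065), (19927, 17941), (19928, 21634), (19929, 21645), (19930, 17947), (19931, 19931), (19932, 21661), (19933, 20907), (19934, 21663), (19935, 17952), (19936, 17953), (19937, 21664), (19938, 21029), (19939, 21666), (19940, 17957), (19941, 17958), (19942, 21669), (19943, 17959), (19944, 21557), (19945, 21672), (19946, 20318), (19947, 21674), (19948, 21675), (19949, 17970), (19950, 20887), (19951, 20055), (19952, 17994), (19953,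 21676), (19954, 17996), (19955, 17998), (19956, 20100), (19957, 20626), (19958, 19958), (19959, 19959), (19960, 19960), (19961, 18014), (19962, 18017), (19963, 18026), (19964, 18027), (19965, 18028), (19966, 18023), (19967, 18024)]
    ⟨e3 q19904 (flp_h L713724) q17906, e3 q19905 (flp_h L713733) q17908, e3 q19906 L713746 q18048, e3 q19907 L713755 q17944, e3 q19908 L732068 q21646, e3 q19909 (flp_h L713766) q17912, e3 q19910 L732075 q21647, e3 q19911 (flp_h L713779) q17915, e3 q19912 L732081 q21648, e3 q19913 (flp_h L713797) q17918, e3 q19914 L713809 q18053, e3 q19915 L732105 q21651, e3 q19916 (flp_h L713821) q17922, e3 q19917 L713833 q18056, e3 q19918 L713839 q18057, e3 q19919 L713845 q17945, e3 q19920 (flp_h L713847) q17926, e3 q19921 L732131 q21655, e3 q19922 (flp_h L713864) q17930, e3 q19923 L713877 q18063, e3 q19924 L713884 q18064, e3 q19925 (flp_h L713886) q17933, e3 q19926 L713897 q18065, e3 q19927 (flp_h L713899) q17941, e3 q19928 (flp_h L731983) q21634, e3 q19929 (flp_h L732066) q21645, e3 q19930 (flp_h L713921) q17947,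 e3 q19931 L713941 q19931, e3 q19932 L732187 q21661, e3 q19933 (flp_h L725591) q20907, e3 q19934 L732210 q21663, e3 q19935 (flp_h L713972) q17952, e3 q19936 (flp_h L713981) q17953, e3 q19937 L732220 q21664, e3 q19938 (flp_h L726775) q21029, e3 q19939 L732239 q21666, e3 q19940 (flp_h L714014) q17957, e3 q19941 (flp_h L714022) q17958, e3 q19942 L732261 q21669, e3 q19943 (flp_h L714035) q17959, e3 q19944 (flp_h L731432) q21557, e3 q19945 L732273 q21672, e3 q19946 (flp_h L718859) q20318, e3 q19947 L732284 q21674, e3 q19948 L732289 q21675, e3 q19949 (flp_h L714071) q17970, e3 q19950 (flp_h L725378) q20887, e3 q19951 L715331 q20055, e3 q19952 (flp_h L714087) q17994, e3 q19953 (flp_h L732299) q21676, e3 q19954 (flp_h L714098) q17996, e3 q19955 L714108 q17998, e3 q19956 L716017 q20100, e3 q19957 L722623 q20626, e3 q19958 L714130 q19958, e3 q19959 L714140 q19959, e3 q19960 L714148 q19960, e3 q19961 (flp_h L714150) q18014, e3 q19962 L714176 q18017, e3 q19963 L714186 q18026, e3 q19964 L714197 q18027, e3 q19965 L714205 q18028, e3 q19966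 (flp_h L714208) q18023, e3 q19967 (flp_h L714213) q18024, trivial⟩ (by decide +kernel)

theorem ce_h_312 : ∀ r, r < 64 → sm gh (Qf (19968 + r)) = Qf (tab Gen.h (19968 + r)) :=
  edges_tab (sm gh) Qf (tab Gen.h) 19968 [(19968, 21678), (19969, 21679), (19970, 21680), (19971, 18031), (19972, 21644), (19973, 18033), (19974, 21683), (19975, 21684), (19976, 18035), (19977, 18036), (19978, 18040), (19979, 18038), (19980, 21685), (19981, 21657), (19982, 21642), (19983, 18046), (19984, 18054), (19985, 18061), (19986, 21643), (19987, 18049), (19988, 18051), (19989, 21649), (19990, 21650), (19991, 21652), (19992, 21653), (19993, 21654), (19994, 18059), (19995, 21656), (19996, 18068), (19997, 18070), (19998, 18077), (19999, 21699), (20000, 21700), (20001, 18087), (20002, 21702), (20003, 18091), (20004, 18093), (20005, 20005), (20006, 18100), (20007, 18102), (20008, 20008), (20009, 20009), (20010, 21703), (20011, 18109), (20012, 21704), (20013, 18111), (20014, 21705), (20015, 18113), (20016, 18114), (20017, 21706), (20018, 18118), (20019,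 18122), (20020, 18123), (20021, 21709), (20022, 18128), (20023, 18132), (20024, 21710), (20025, 21711), (20026, 18144), (20027, 21715), (20028, 18151), (20029, 21717), (20030, 18136), (20031, 18139)]
    ⟨e3 q19968 (flp_h L732314) q21678, e3 q19969 (flp_h L732326) q21679, e3 q19970 L732331 q21680, e3 q19971 (flp_h L714252) q18031, e3 q19972 (flp_h L732056) q21644, e3 q19973 (flp_h L714274) q18033, e3 q19974 L732357 q21683, e3 q19975 L732362 q21684, e3 q19976 (flp_h L714292) q18035, e3 q19977 (flp_h L714296) q18036, e3 q19978 L714306 q18040, e3 q19979 (flp_h L714308) q18038, e3 q19980 (flp_h L732372) q21685, e3 q19981 (flp_h L732155) q21657, e3 q19982 (flp_h L732039) q21642, e3 q19983 L714348 q18046, e3 q19984 L714359 q18054, e3 q19985 L714368 q18061, e3 q19986 (flp_h L732047) q21643, e3 q19987 (flp_h L714381) q18049, e3 q19988 (flp_h L714389) q18051, e3 q19989 (flp_h L732095) q21649, e3 q19990 (flp_h L732103) q21650, e3 q19991 (flp_h L732119) q21652, e3 q19992 (flp_h L732123) q21653, e3 q19993 (flp_h L732129) q21654, e3 q19994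 (flp_h L714429) q18059, e3 q19995 (flp_h L732146) q21656, e3 q19996 (flp_h L714449) q18068, e3 q19997 (flp_h L714456) q18070, e3 q19998 L714464 q18077, e3 q19999 (flp_h L732468) q21699, e3 q20000 (flp_h L732475) q21700, e3 q20001 (flp_h L714478) q18087, e3 q20002 L732482 q21702, e3 q20003 (flp_h L714513) q18091, e3 q20004 (flp_h L714529) q18093, e3 q20005 L714555 q20005, e3 q20006 (flp_h L714561) q18100, e3 q20007 (flp_h L714578) q18102, e3 q20008 L714611 q20008, e3 q20009 L714624 q20009, e3 q20010 L732500 q21703, e3 q20011 (flp_h L714646) q18109, e3 q20012 L732518 q21704, e3 q20013 (flp_h L714682) q18111, e3 q20014 L732538 q21705, e3 q20015 (flp_h L714717) q18113, e3 q20016 (flp_h L714735) q18114, e3 q20017 (flp_h L732572) q21706, e3 q20018 (flp_h L714762) q18118, e3 q20019 (flp_h L714782) q18122, e3 q20020 (flp_h L714802) q18123, e3 q20021 L732607 q21709, e3 q20022 (flp_h L714838) q18128, e3 q20023 L714864 q18132, e3 q20024 (flp_h L732645) q21710, e3 q20025 (flp_h L732657) q21711, e3 q20026 L714908 q18144, e3 q20027 L732714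 q21715, e3 q20028 L714939 q18151, e3 q20029 L732747 q21717, e3 q20030 (flp_h L714958) q18136, e3 q20031 (flp_h L714974) q18139, trivial⟩ (by decide +kernel)

theorem ce_h_313 : ∀ r, r < 64 → sm gh (Qf (20032 + r)) = Qf (tab Gen.h (20032 + r)) :=
  edges_tab (sm gh) Qf (tab Gen.h) 20032 [(20032, 19674), (20033, 21721), (20034, 19678), (20035, 21724), (20036, 21713), (20037, 21726), (20038, 18145), (20039, 18855), (20040, 21728), (20041, 18147), (20042, 18608), (20043, 18215), (20044, 21732), (20045, 18859), (20046, 21734), (20047, 18150), (20048, 21735), (20049, 18152), (20050, 21737), (20051, 21738), (20052, 18156), (20053, 18157), (20054, 18164), (20055, 19951), (20056, 18162), (20057, 21736), (20058, 21739), (20059, 18713), (20060, 18168), (20061, 19298), (20062, 21743), (20063, 18174), (20064, 18175), (20065, 21744), (20066, 21745), (20067, 18179), (20068, 21746), (20069, 18182), (20070, 18185), (20071, 18199), (20072, 21748), (20073, 18203), (20074, 21750), (20075, 18191), (20076, 18192), (20077, 18208), (20078, 21752),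 (20079, 18194), (20080, 21754), (20081, 18197), (20082, 20082), (20083, 21756), (20084, 18200), (20085, 21757), (20086, 18202), (20087, 19658), (20088, 21760), (20089, 18204), (20090, 21730), (20091, 21763), (20092, 18209), (20093, 18222), (20094, 21766), (20095, 18213)]
    ⟨e3 q20032 L715000 q19674, e3 q20033 L732812 q21721, e3 q20034 L715032 q19678, e3 q20035 L732864 q21724, e3 q20036 (flp_h L732692) q21713, e3 q20037 L732896 q21726, e3 q20038 (flp_h L715076) q18145, e3 q20039 L715100 q18855, e3 q20040 L732922 q21728, e3 q20041 (flp_h L715120) q18147, e3 q20042 L715148 q18608, e3 q20043 L715166 q18215, e3 q20044 L732990 q21732, e3 q20045 L715192 q18859, e3 q20046 L733019 q21734, e3 q20047 (flp_h L715209) q18150, e3 q20048 L733035 q21735, e3 q20049 (flp_h L715235) q18152, e3 q20050 L733059 q21737, e3 q20051 L733077 q21738, e3 q20052 (flp_h L715276) q18156, e3 q20053 (flp_h L715290) q18157, e3 q20054 L715314 q18164, e3 q20055 (flp_h L715331) q19951, e3 q20056 (flp_h L715333) q18162, e3 q20057 (flp_h L733057) q21736, e3 q20058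 (flp_h L733103) q21739, e3 q20059 L715389 q18713, e3 q20060 (flp_h L715391) q18168, e3 q20061 L715422 q19298, e3 q20062 L733156 q21743, e3 q20063 (flp_h L715444) q18174, e3 q20064 (flp_h L715462) q18175, e3 q20065 (flp_h L733192) q21744, e3 q20066 L733194 q21745, e3 q20067 (flp_h L715513) q18179, e3 q20068 L733210 q21746, e3 q20069 (flp_h L715547) q18182, e3 q20070 L715581 q18185, e3 q20071 L715595 q18199, e3 q20072 L733248 q21748, e3 q20073 L715629 q18203, e3 q20074 L733284 q21750, e3 q20075 (flp_h L715649) q18191, e3 q20076 (flp_h L715663) q18192, e3 q20077 L715692 q18208, e3 q20078 L733313 q21752, e3 q20079 (flp_h L715709) q18194, e3 q20080 L733342 q21754, e3 q20081 (flp_h L715738) q18197, e3 q20082 L715764 q20082, e3 q20083 L733373 q21756, e3 q20084 (flp_h L715781) q18200, e3 q20085 L733387 q21757, e3 q20086 (flp_h L715811) q18202, e3 q20087 L715841 q19658, e3 q20088 L733439 q21760, e3 q20089 (flp_h L715861) q18204, e3 q20090 (flp_h L732969) q21730, e3 q20091 L733477 q21763, e3 q20092 (flp_h L715897) q18209, e3 q20093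 L715919 q18222, e3 q20094 L733515 q21766, e3 q20095 (flp_h L715937) q18213, trivial⟩ (by decide +kernel)

theorem ce_h_314 : ∀ r, r < 64 → sm gh (Qf (20096 + r)) = Qf (tab Gen.h (20096 + r)) :=
  edges_tab (sm gh) Qf (tab Gen.h) 20096 [(20096, 21767), (20097, 18216), (20098, 18225), (20099, 18226), (20100, 19956), (20101, 18220), (20102, 21764), (20103, 21765), (20104, 21768), (20105, 21769), (20106, 18337), (20107, 18367), (20108, 19376), (20109, 19377), (20110, 21781), (20111, 18245), (20112, 18372), (20113, 18247), (20114, 18248), (20115, 21788), (20116, 18251), (20117, 21791), (20118, 18253), (20119, 21793), (20120, 18235), (20121, 21794), (20122, 18258), (20123, 21797), (20124, 18238), (20125, 18239), (20126, 21799), (20127, 18241), (20128, 20128), (20129, 20129), (20130, 21782), (20131, 21804), (20132, 21784), (20133, 21807), (20134, 21786), (20135, 21810), (20136, 18249), (20137, 19388), (20138, 21813), (20139, 21815), (20140, 19385), (20141, 21818), (20142, 18252), (20143, 21820), (20144, 18254), (20145, 19379), (20146,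 21823), (20147, 18257), (20148, 21795), (20149, 21826), (20150, 18259), (20151, 18261), (20152, 21829), (20153, 18263), (20154, 18287), (20155, 18265), (20156, 18275), (20157, 18289), (20158, 20158), (20159, 18290)]
    ⟨e3 q20096 L733533 q21767, e3 q20097 (flp_h L715969) q18216, e3 q20098 L715987 q18225, e3 q20099 L715995 q18226, e3 q20100 (flp_h L716017) q19956, e3 q20101 (flp_h L716019) q18220, e3 q20102 (flp_h L733499) q21764, e3 q20103 (flp_h L733509) q21765, e3 q20104 (flp_h L733561) q21768, e3 q20105 (flp_h L733571) q21769, e3 q20106 L716097 q18337, e3 q20107 L716115 q18367, e3 q20108 L716126 q19376, e3 q20109 L716137 q19377, e3 q20110 L733727 q21781, e3 q20111 L716163 q18245, e3 q20112 L716181 q18372, e3 q20113 L716193 q18247, e3 q20114 L716206 q18248, e3 q20115 L733828 q21788, e3 q20116 L716230 q18251, e3 q20117 L733867 q21791, e3 q20118 L716255 q18253, e3 q20119 L733895 q21793, e3 q20120 (flp_h L716271) q18235, e3 q20121 L733907 q21794, e3 q20122 L716310 q18258, e3 q20123 L733949 q21797, e3 q20124 (flp_h L716326)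 q18238, e3 q20125 (flp_h L716339) q18239, e3 q20126 L733977 q21799, e3 q20127 (flp_h L716366) q18241, e3 q20128 L716393 q20128, e3 q20129 L716407 q20129, e3 q20130 (flp_h L733752) q21782, e3 q20131 L734054 q21804, e3 q20132 (flp_h L733785) q21784, e3 q20133 L734101 q21807, e3 q20134 (flp_h L733814) q21786, e3 q20135 L734141 q21810, e3 q20136 (flp_h L716489) q18249, e3 q20137 L716513 q19388, e3 q20138 L734183 q21813, e3 q20139 L734214 q21815, e3 q20140 L716553 q19385, e3 q20141 L734254 q21818, e3 q20142 (flp_h L716569) q18252, e3 q20143 L734276 q21820, e3 q20144 (flp_h L716591) q18254, e3 q20145 L716612 q19379, e3 q20146 L734311 q21823, e3 q20147 (flp_h L716628) q18257, e3 q20148 (flp_h L733931) q21795, e3 q20149 L734352 q21826, e3 q20150 (flp_h L716662) q18259, e3 q20151 (flp_h L716673) q18261, e3 q20152 L734393 q21829, e3 q20153 (flp_h L716702) q18263, e3 q20154 L716724 q18287, e3 q20155 (flp_h L716726) q18265, e3 q20156 L716746 q18275, e3 q20157 L716761 q18289, e3 q20158 L716776 q20158, e3 q20159 L716786 q18290, trivial⟩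 (by decide +kernel)

theorem ce_h_315 : ∀ r, r < 64 → sm gh (Qf (20160 + r)) = Qf (tab Gen.h (20160 + r)) :=
  edges_tab (sm gh) Qf (tab Gen.h) 20160 [(20160, 18276), (20161, 21837), (20162, 18272), (20163, 21827), (20164, 21832), (20165, 21833), (20166, 21836), (20167, 18277), (20168, 21844), (20169, 21846), (20170, 18280), (20171, 18281), (20172, 21849), (20173, 18282), (20174, 21819), (20175, 21824), (20176, 21828), (20177, 21831), (20178, 18292), (20179, 18696), (20180, 18307), (20181, 19076), (20182, 18310), (20183, 21857), (20184, 21858), (20185, 18304), (20186, 18933), (20187, 18797), (20188, 18974), (20189, 21854), (20190, 21865), (20191, 18965), (20192, 21868), (20193, 19004), (20194, 21870), (20195, 18311), (20196, 21871), (20197, 18313), (20198, 18314), (20199, 21873), (20200, 18316), (20201, 20201), (20202, 18322), (20203, 18320), (20204, 21874), (20205, 19300), (20206, 21878), (20207, 18339), (20208, 21880), (20209, 18341), (20210, 21883), (20211, 18343), (20212, 21885), (20213, 18329), (20214, 18330), (20215,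 18331), (20216, 21887), (20217, 18333), (20218, 20218), (20219, 20219), (20220, 21774), (20221, 21891), (20222, 21892), (20223, 18340)]
    ⟨e3 q20160 L716797 q18276, e3 q20161 L734501 q21837, e3 q20162 (flp_h L716813) q18272, e3 q20163 (flp_h L734373) q21827, e3 q20164 (flp_h L734440) q21832, e3 q20165 (flp_h L734450) q21833, e3 q20166 (flp_h L734495) q21836, e3 q20167 (flp_h L716873) q18277, e3 q20168 L734590 q21844, e3 q20169 L734619 q21846, e3 q20170 (flp_h L716918) q18280, e3 q20171 (flp_h L716933) q18281, e3 q20172 L734662 q21849, e3 q20173 (flp_h L716958) q18282, e3 q20174 (flp_h L734274) q21819, e3 q20175 (flp_h L734337) q21824, e3 q20176 (flp_h L734389) q21828, e3 q20177 (flp_h L734428) q21831, e3 q20178 (flp_h L717022) q18292, e3 q20179 L717053 q18696, e3 q20180 L717071 q18307, e3 q20181 L717089 q19076, e3 q20182 L717101 q18310, e3 q20183 L734767 q21857, e3 q20184 L734783 q21858, e3 q20185 (flp_h L717136) q18304, e3 q20186 L717163 q18933, e3 q20187 L717179 q18797, e3 q20188 L717189 q18974, e3 q20189 (flp_h L734729)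 q21854, e3 q20190 L734884 q21865, e3 q20191 L717228 q18965, e3 q20192 L734927 q21868, e3 q20193 L717257 q19004, e3 q20194 L734959 q21870, e3 q20195 (flp_h L717273) q18311, e3 q20196 L734969 q21871, e3 q20197 (flp_h L717299) q18313, e3 q20198 (flp_h L717312) q18314, e3 q20199 L734999 q21873, e3 q20200 (flp_h L717342) q18316, e3 q20201 L717373 q20201, e3 q20202 L717389 q18322, e3 q20203 (flp_h L717391) q18320, e3 q20204 (flp_h L735031) q21874, e3 q20205 L717433 q19300, e3 q20206 L735079 q21878, e3 q20207 L717458 q18339, e3 q20208 L735106 q21880, e3 q20209 L717486 q18341, e3 q20210 L735153 q21883, e3 q20211 L717515 q18343, e3 q20212 L735185 q21885, e3 q20213 (flp_h L717529) q18329, e3 q20214 (flp_h L717541) q18330, e3 q20215 (flp_h L717556) q18331, e3 q20216 L735212 q21887, e3 q20217 (flp_h L717587) q18333, e3 q20218 L717618 q20218, e3 q20219 L717634 q20219, e3 q20220 (flp_h L733645) q21774, e3 q20221 L735272 q21891, e3 q20222 L735285 q21892, e3 q20223 (flp_h L717674) q18340, trivial⟩ (by decide +kernel)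

theorem ce_h_316 : ∀ r, r < 64 → sm gh (Qf (20224 + r)) = Qf (tab Gen.h (20224 + r)) :=
  edges_tab (sm gh) Qf (tab Gen.h) 20224 [(20224, 21893), (20225, 18342), (20226, 19752), (20227, 21897), (20228, 18344), (20229, 18365), (20230, 19761), (20231, 21900), (20232, 18349), (20233, 18359), (20234, 21902), (20235, 18353), (20236, 18362), (20237, 21904), (20238, 18357), (20239, 21901), (20240, 18360), (20241, 21903), (20242, 21894), (20243, 19411), (20244, 19873), (20245, 21914), (20246, 19416), (20247, 19387), (20248, 21921), (20249, 19863), (20250, 21923), (20251, 18370), (20252, 18401), (20253, 21926), (20254, 18403), (20255, 18404), (20256, 21931), (20257, 18406), (20258, 21934), (20259, 18375), (20260, 18410), (20261, 21937), (20262, 21939), (20263, 18413), (20264, 21942), (20265, 18378), (20266, 18416), (20267, 21946), (20268, 18380), (20269, 21948), (20270, 18383), (20271, 18422), (20272, 21951), (20273, 18385), (20274, 18387), (20275, 21954), (20276, 18389), (20277, 20277), (20278, 18433), (20279, 21957), (20280, 18392),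 (20281, 20281), (20282, 20282), (20283, 20283), (20284, 21960), (20285, 18398), (20286, 20286), (20287, 20287)]
    ⟨e3 q20224 L735297 q21893, e3 q20225 (flp_h L717704) q18342, e3 q20226 L717730 q19752, e3 q20227 L735363 q21897, e3 q20228 (flp_h L717748) q18344, e3 q20229 L717770 q18365, e3 q20230 L717784 q19761, e3 q20231 L735399 q21900, e3 q20232 (flp_h L717802) q18349, e3 q20233 L717824 q18359, e3 q20234 L735425 q21902, e3 q20235 (flp_h L717841) q18353, e3 q20236 L717870 q18362, e3 q20237 L735456 q21904, e3 q20238 (flp_h L717888) q18357, e3 q20239 (flp_h L735423) q21901, e3 q20240 (flp_h L717914) q18360, e3 q20241 (flp_h L735454) q21903, e3 q20242 (flp_h L735327) q21894, e3 q20243 L717965 q19411, e3 q20244 L717976 q19873, e3 q20245 L735593 q21914, e3 q20246 L717997 q19416, e3 q20247 L718009 q19387, e3 q20248 L735670 q21921, e3 q20249 L718027 q19863, e3 q20250 L735692 q21923, e3 q20251 (flp_h L718042) q18370, e3 q20252 L718059 q18401, e3 q20253 L735725 q21926, e3 q20254 L718081 q18403, e3 q20255 L718095 q18404, e3 q20256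 L735790 q21931, e3 q20257 L718120 q18406, e3 q20258 L735830 q21934, e3 q20259 (flp_h L718132) q18375, e3 q20260 L718152 q18410, e3 q20261 L735871 q21937, e3 q20262 L735901 q21939, e3 q20263 L718184 q18413, e3 q20264 L735941 q21942, e3 q20265 (flp_h L718198) q18378, e3 q20266 L718220 q18416, e3 q20267 L735994 q21946, e3 q20268 (flp_h L718232) q18380, e3 q20269 L736012 q21948, e3 q20270 (flp_h L718256) q18383, e3 q20271 L718278 q18422, e3 q20272 L736051 q21951, e3 q20273 (flp_h L718296) q18385, e3 q20274 (flp_h L718311) q18387, e3 q20275 L736092 q21954, e3 q20276 (flp_h L718341) q18389, e3 q20277 L718365 q20277, e3 q20278 L718377 q18433, e3 q20279 L736138 q21957, e3 q20280 (flp_h L718394) q18392, e3 q20281 L718410 q20281, e3 q20282 L718426 q20282, e3 q20283 L718434 q20283, e3 q20284 L736174 q21960, e3 q20285 (flp_h L718455) q18398, e3 q20286 L718484 q20286, e3 q20287 L718492 q20287, trivial⟩ (by decide +kernel)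

theorem ce_h_317 : ∀ r, r < 64 → sm gh (Qf (20288 + r)) = Qf (tab Gen.h (20288 + r)) :=
  edges_tab (sm gh) Qf (tab Gen.h) 20288 [(20288, 21924), (20289, 21964), (20290, 18402), (20291, 19161), (20292, 21927), (20293, 21968), (20294, 21969), (20295, 18405), (20296, 21932), (20297, 21973), (20298, 18407), (20299, 19146), (20300, 21977), (20301, 21978), (20302, 19143), (20303, 21981), (20304, 18411), (20305, 18412), (20306, 21984), (20307, 19793), (20308, 21987), (20309, 18414), (20310, 18471), (20311, 21944), (20312, 21991), (20313, 18417), (20314, 21761), (20315, 21994), (20316, 18420), (20317, 18474), (20318, 19946), (20319, 21998), (20320, 18423), (20321, 18451), (20322, 18425), (20323, 22002), (20324, 18427), (20325, 18476), (20326, 19250), (20327, 22005), (20328, 18430), (20329, 18477), (20330, 22007), (20331, 18434), (20332, 18454), (20333, 18455), (20334, 18458), (20335, 18478), (20336, 22012), (20337, 18441), (20338, 18479), (20339, 18444), (20340, 18457), (20341, 18459), (20342, 22015), (20343, 18449), (20344, 21999),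 (20345, 22000), (20346, 18452), (20347, 22008), (20348, 22009), (20349, 22010), (20350, 22011), (20351, 22014)]
    ⟨e3 q20288 (flp_h L735710) q21924, e3 q20289 L736226 q21964, e3 q20290 (flp_h L718516) q18402, e3 q20291 L718537 q19161, e3 q20292 (flp_h L735746) q21927, e3 q20293 L736284 q21968, e3 q20294 L736294 q21969, e3 q20295 (flp_h L718579) q18405, e3 q20296 (flp_h L735812) q21932, e3 q20297 L736346 q21973, e3 q20298 (flp_h L718617) q18407, e3 q20299 L718635 q19146, e3 q20300 L736398 q21977, e3 q20301 L736412 q21978, e3 q20302 L718679 q19143, e3 q20303 L736464 q21981, e3 q20304 (flp_h L718695) q18411, e3 q20305 (flp_h L718705) q18412, e3 q20306 L736498 q21984, e3 q20307 L718747 q19793, e3 q20308 L736546 q21987, e3 q20309 (flp_h L718765) q18414, e3 q20310 L718779 q18471, e3 q20311 (flp_h L735974) q21944, e3 q20312 L736578 q21991, e3 q20313 (flp_h L718799) q18417, e3 q20314 (flp_h L733459) q21761, e3 q20315 L736598 q21994, e3 q20316 (flp_h L718828) q18420, e3 q20317 L718846 q18474, e3 q20318 L718859 q19946, e3 q20319 L736648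 q21998, e3 q20320 (flp_h L718876) q18423, e3 q20321 L718897 q18451, e3 q20322 (flp_h L718899) q18425, e3 q20323 L736698 q22002, e3 q20324 (flp_h L718929) q18427, e3 q20325 L718953 q18476, e3 q20326 L718967 q19250, e3 q20327 L736748 q22005, e3 q20328 (flp_h L718985) q18430, e3 q20329 L719003 q18477, e3 q20330 L736772 q22007, e3 q20331 (flp_h L719017) q18434, e3 q20332 L719031 q18454, e3 q20333 L719039 q18455, e3 q20334 L719058 q18458, e3 q20335 L719069 q18478, e3 q20336 L736820 q22012, e3 q20337 (flp_h L719092) q18441, e3 q20338 L719117 q18479, e3 q20339 (flp_h L719123) q18444, e3 q20340 L719138 q18457, e3 q20341 L719147 q18459, e3 q20342 L736864 q22015, e3 q20343 (flp_h L719170) q18449, e3 q20344 (flp_h L736669) q21999, e3 q20345 (flp_h L736678) q22000, e3 q20346 (flp_h L719205) q18452, e3 q20347 (flp_h L736788) q22008, e3 q20348 (flp_h L736796) q22009, e3 q20349 (flp_h L736804) q22010, e3 q20350 (flp_h L736812) q22011, e3 q20351 (flp_h L736862) q22014, trivial⟩ (by decide +kernel)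

theorem ce_h_318 : ∀ r, r < 64 → sm gh (Qf (20352 + r)) = Qf (tab Gen.h (20352 + r)) :=
  edges_tab (sm gh) Qf (tab Gen.h) 20352 [(20352, 22001), (20353, 22026), (20354, 18461), (20355, 21970), (20356, 19511), (20357, 22030), (20358, 18464), (20359, 18465), (20360, 22032), (20361, 18466), (20362, 21982), (20363, 22035), (20364, 18469), (20365, 22036), (20366, 21989), (20367, 18472), (20368, 21995), (20369, 21996), (20370, 22003), (20371, 22006), (20372, 22013), (20373, 18480), (20374, 18708), (20375, 18483), (20376, 22043), (20377, 18499), (20378, 22044), (20379, 22045), (20380, 22046), (20381, 18504), (20382, 22047), (20383, 18509), (20384, 18510), (20385, 18511), (20386, 22049), (20387, 22048), (20388, 18515), (20389, 22050), (20390, 18517), (20391, 22052), (20392, 18519), (20393, 18521), (20394, 18522), (20395, 18524), (20396, 18531), (20397, 18526), (20398, 18529), (20399, 22056), (20400, 22057), (20401, 22054), (20402, 22055), (20403, 18533), (20404, 18534), (20405, 22058), (20406, 18536), (20407, 22060), (20408, 22061),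 (20409, 18541), (20410, 22062), (20411, 22063), (20412, 18544), (20413, 18545), (20414, 18547), (20415, 18548)]
    ⟨e3 q20352 (flp_h L736696) q22001, e3 q20353 L736993 q22026, e3 q20354 (flp_h L719289) q18461, e3 q20355 (flp_h L736314) q21970, e3 q20356 L719325 q19511, e3 q20357 L737044 q22030, e3 q20358 (flp_h L719343) q18464, e3 q20359 (flp_h L719356) q18465, e3 q20360 L737076 q22032, e3 q20361 (flp_h L719385) q18466, e3 q20362 (flp_h L736482) q21982, e3 q20363 L737108 q22035, e3 q20364 (flp_h L719422) q18469, e3 q20365 (flp_h L737134) q22036, e3 q20366 (flp_h L736566) q21989, e3 q20367 (flp_h L719452) q18472, e3 q20368 (flp_h L736620) q21995, e3 q20369 (flp_h L736629) q21996, e3 q20370 (flp_h L736726) q22003, e3 q20371 (flp_h L736770) q22006, e3 q20372 (flp_h L736847) q22013, e3 q20373 (flp_h L719517) q18480, e3 q20374 L719544 q18708, e3 q20375 (flp_h L719546) q18483, e3 q20376 L737205 q22043, e3 q20377 (flp_h L719580) q18499, e3 q20378 L737225 q22044, e3 q20379 L737245 q22045, e3 q20380 L737263 q22046, e3 q20381 (flp_h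 L719650) q18504, e3 q20382 L737281 q22047, e3 q20383 (flp_h L719682) q18509, e3 q20384 (flp_h L719696) q18510, e3 q20385 (flp_h L719710) q18511, e3 q20386 (flp_h L737335) q22049, e3 q20387 (flp_h L737317) q22048, e3 q20388 (flp_h L719760) q18515, e3 q20389 L737337 q22050, e3 q20390 (flp_h L719791) q18517, e3 q20391 L737366 q22052, e3 q20392 (flp_h L719818) q18519, e3 q20393 (flp_h L719826) q18521, e3 q20394 (flp_h L719844) q18522, e3 q20395 (flp_h L719864) q18524, e3 q20396 L719884 q18531, e3 q20397 (flp_h L719886) q18526, e3 q20398 L719906 q18529, e3 q20399 (flp_h L737443) q22056, e3 q20400 (flp_h L737457) q22057, e3 q20401 (flp_h L737409) q22054, e3 q20402 (flp_h L737423) q22055, e3 q20403 (flp_h L719974) q18533, e3 q20404 (flp_h L719990) q18534, e3 q20405 L737463 q22058, e3 q20406 (flp_h L720019) q18536, e3 q20407 L737494 q22060, e3 q20408 L737514 q22061, e3 q20409 (flp_h L720066) q18541, e3 q20410 L737532 q22062, e3 q20411 L737550 q22063, e3 q20412 (flp_h L720109) q18544, e3 q20413 (flp_h L720121) q18545, e3 q20414 (flp_h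 L720131) q18547, e3 q20415 (flp_h L720139) q18548, trivial⟩ (by decide +kernel)

theorem ce_h_319 : ∀ r, r < 64 → sm gh (Qf (20416 + r)) = Qf (tab Gen.h (20416 + r)) :=
  edges_tab (sm gh) Qf (tab Gen.h) 20416 [(20416, 18549), (20417, 22066), (20418, 18551), (20419, 18553), (20420, 18554), (20421, 18563), (20422, 18559), (20423, 18557), (20424, 22070), (20425, 22067), (20426, 22069), (20427, 18564), (20428, 18565), (20429, 18566), (20430, 18567), (20431, 18569), (20432, 18570), (20433, 20433), (20434, 18572), (20435, 20435), (20436, 18574), (20437, 18577), (20438, 18592), (20439, 18589), (20440, 18580), (20441, 18581), (20442, 18594), (20443, 18583), (20444, 20444), (20445, 18595), (20446, 18586), (20447, 18590), (20448, 18591), (20449, 22083), (20450, 22087), (20451, 18598), (20452, 18747), (20453, 18717), (20454, 19631), (20455, 22091), (20456, 22092), (20457, 18610), (20458, 18624), (20459, 18731), (20460, 18626), (20461, 18627), (20462, 22099), (20463, 22100), (20464, 22101), (20465, 18631), (20466, 22103), (20467, 18619),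 (20468, 18620), (20469, 18621), (20470, 18716), (20471, 18748), (20472, 22093), (20473, 22109), (20474, 22095), (20475, 22111), (20476, 22097), (20477, 22113), (20478, 18628), (20479, 18629)]
    ⟨e3 q20416 (flp_h L720155) q18549, e3 q20417 L737590 q22066, e3 q20418 (flp_h L720183) q18551, e3 q20419 (flp_h L720195) q18553, e3 q20420 (flp_h L720203) q18554, e3 q20421 L720221 q18563, e3 q20422 L720229 q18559, e3 q20423 (flp_h L720231) q18557, e3 q20424 (flp_h L737653) q22070, e3 q20425 (flp_h L737618) q22067, e3 q20426 (flp_h L737641) q22069, e3 q20427 (flp_h L720283) q18564, e3 q20428 (flp_h L720297) q18565, e3 q20429 (flp_h L720315) q18566, e3 q20430 (flp_h L720327) q18567, e3 q20431 (flp_h L720339) q18569, e3 q20432 (flp_h L720357) q18570, e3 q20433 L720377 q20433, e3 q20434 (flp_h L720378) q18572, e3 q20435 L720396 q20435, e3 q20436 (flp_h L720397) q18574, e3 q20437 (flp_h L720403) q18577, e3 q20438 L720423 q18592, e3 q20439 L720433 q18589, e3 q20440 (flp_h L720435) q18580, e3 q20441 (flp_h L720451) q18581, e3 q20442 L720479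 q18594, e3 q20443 (flp_h L720481) q18583, e3 q20444 L720495 q20444, e3 q20445 L720500 q18595, e3 q20446 (flp_h L720502) q18586, e3 q20447 L720522 q18590, e3 q20448 L720528 q18591, e3 q20449 (flp_h L737818) q22083, e3 q20450 (flp_h L737855) q22087, e3 q20451 (flp_h L720554) q18598, e3 q20452 L720584 q18747, e3 q20453 L720601 q18717, e3 q20454 L720613 q19631, e3 q20455 L737907 q22091, e3 q20456 L737921 q22092, e3 q20457 (flp_h L720645) q18610, e3 q20458 L720667 q18624, e3 q20459 L720686 q18731, e3 q20460 L720698 q18626, e3 q20461 L720711 q18627, e3 q20462 L738030 q22099, e3 q20463 L738044 q22100, e3 q20464 L738060 q22101, e3 q20465 L720767 q18631, e3 q20466 L738091 q22103, e3 q20467 (flp_h L720786) q18619, e3 q20468 (flp_h L720796) q18620, e3 q20469 (flp_h L720810) q18621, e3 q20470 L720838 q18716, e3 q20471 L720856 q18748, e3 q20472 (flp_h L737947) q22093, e3 q20473 L738185 q22109, e3 q20474 (flp_h L737981) q22095, e3 q20475 L738213 q22111, e3 q20476 (flp_h L738012) q22097, e3 q20477 L738243 q22113, e3 q20478 (flp_h L720936)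 q18628, e3 q20479 (flp_h L720946) q18629, trivial⟩ (by decide +kernel)

theorem ce_h_320 : ∀ r, r < 64 → sm gh (Qf (20480 + r)) = Qf (tab Gen.h (20480 + r)) :=
  edges_tab (sm gh) Qf (tab Gen.h) 20480 [(20480, 18630), (20481, 22115), (20482, 18632), (20483, 18634), (20484, 18644), (20485, 18639), (20486, 18637), (20487, 22116), (20488, 18641), (20489, 22114), (20490, 18935), (20491, 18936), (20492, 22123), (20493, 18666), (20494, 22125), (20495, 18668), (20496, 18669), (20497, 22130), (20498, 18671), (20499, 22133), (20500, 18651), (20501, 18652), (20502, 22134), (20503, 18654), (20504, 18677), (20505, 22137), (20506, 18656), (20507, 18658), (20508, 18659), (20509, 20509), (20510, 22141), (20511, 18662), (20512, 20512), (20513, 19669), (20514, 22145), (20515, 22146), (20516, 18667), (20517, 22126), (20518, 22148), (20519, 19745), (20520, 22150), (20521, 18670), (20522, 22131), (20523, 22153), (20524, 18672), (20525, 18675), (20526, 18704), (20527, 22157), (20528, 18678), (20529, 18692), (20530, 18680), (20531, 18681), (20532,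 18705), (20533, 22160), (20534, 18684), (20535, 18706), (20536, 18687), (20537, 18694), (20538, 18695), (20539, 18690), (20540, 22158), (20541, 22159), (20542, 22161), (20543, 18698)]
    ⟨e3 q20480 (flp_h L720960) q18630, e3 q20481 L738267 q22115, e3 q20482 (flp_h L720988) q18632, e3 q20483 (flp_h L721000) q18634, e3 q20484 L721028 q18644, e3 q20485 L721040 q18639, e3 q20486 (flp_h L721042) q18637, e3 q20487 (flp_h L738295) q22116, e3 q20488 (flp_h L721074) q18641, e3 q20489 (flp_h L738265) q22114, e3 q20490 L721113 q18935, e3 q20491 L721124 q18936, e3 q20492 L738372 q22123, e3 q20493 L721147 q18666, e3 q20494 L738395 q22125, e3 q20495 L721170 q18668, e3 q20496 L721180 q18669, e3 q20497 L738461 q22130, e3 q20498 L721193 q18671, e3 q20499 L738495 q22133, e3 q20500 (flp_h L721203) q18651, e3 q20501 (flp_h L721213) q18652, e3 q20502 L738503 q22134, e3 q20503 (flp_h L721236) q18654, e3 q20504 L721253 q18677, e3 q20505 L738539 q22137, e3 q20506 (flp_h L721264) q18656, e3 q20507 (flp_h L721272) q18658, e3 q20508 (flp_h L721282)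 q18659, e3 q20509 L721302 q20509, e3 q20510 L738584 q22141, e3 q20511 (flp_h L721318) q18662, e3 q20512 L721338 q20512, e3 q20513 L721349 q19669, e3 q20514 L738646 q22145, e3 q20515 L738662 q22146, e3 q20516 (flp_h L721377) q18667, e3 q20517 (flp_h L738421) q22126, e3 q20518 L738680 q22148, e3 q20519 (flp_h L721423) q19745, e3 q20520 L738708 q22150, e3 q20521 (flp_h L721433) q18670, e3 q20522 (flp_h L738483) q22131, e3 q20523 L738742 q22153, e3 q20524 (flp_h L721463) q18672, e3 q20525 (flp_h L721469) q18675, e3 q20526 L721481 q18704, e3 q20527 L738788 q22157, e3 q20528 (flp_h L721497) q18678, e3 q20529 L721507 q18692, e3 q20530 (flp_h L721509) q18680, e3 q20531 (flp_h L721521) q18681, e3 q20532 L721541 q18705, e3 q20533 L738822 q22160, e3 q20534 (flp_h L721559) q18684, e3 q20535 L721579 q18706, e3 q20536 (flp_h L721583) q18687, e3 q20537 L721603 q18694, e3 q20538 L721615 q18695, e3 q20539 (flp_h L721621) q18690, e3 q20540 (flp_h L738804) q22158, e3 q20541 (flp_h L738816) q22159, e3 q20542 (flp_h L738850) q22161, e3 q20543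 (flp_h L721673) q18698, trivial⟩ (by decide +kernel)

theorem ce_h_321 : ∀ r, r < 64 → sm gh (Qf (20544 + r)) = Qf (tab Gen.h (20544 + r)) :=
  edges_tab (sm gh) Qf (tab Gen.h) 20544 [(20544, 22166), (20545, 18700), (20546, 22151), (20547, 22155), (20548, 22156), (20549, 18707), (20550, 18719), (20551, 22171), (20552, 18714), (20553, 22106), (20554, 22173), (20555, 18759), (20556, 19666), (20557, 22178), (20558, 22179), (20559, 18720), (20560, 18721), (20561, 22180), (20562, 18723), (20563, 18725), (20564, 20564), (20565, 19012), (20566, 19000), (20567, 19014), (20568, 19015), (20569, 22188), (20570, 18749), (20571, 18750), (20572, 22192), (20573, 18752), (20574, 18753), (20575, 22198), (20576, 18755), (20577, 22200), (20578, 18734), (20579, 22201), (20580, 18736), (20581, 22202), (20582, 18764), (20583, 22204), (20584, 18739), (20585, 22206), (20586, 18741), (20587, 18743), (20588, 18744), (20589, 20589), (20590, 20590), (20591, 22088), (20592, 22212), (20593, 22189), (20594, 22214), (20595, 22174), (20596, 22217), (20597,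 18751), (20598, 18846), (20599, 22193), (20600, 22220), (20601, 22196), (20602, 22222), (20603, 18754), (20604, 22224), (20605, 18756), (20606, 18758), (20607, 22226)]
    ⟨e3 q20544 L738906 q22166, e3 q20545 (flp_h L721702) q18700, e3 q20546 (flp_h L738724) q22151, e3 q20547 (flp_h L738770) q22155, e3 q20548 (flp_h L738784) q22156, e3 q20549 (flp_h L721756) q18707, e3 q20550 L721782 q18719, e3 q20551 L738967 q22171, e3 q20552 (flp_h L721800) q18714, e3 q20553 (flp_h L738149) q22106, e3 q20554 L738997 q22173, e3 q20555 L721845 q18759, e3 q20556 L721859 q19666, e3 q20557 L739063 q22178, e3 q20558 L739075 q22179, e3 q20559 (flp_h L721882) q18720, e3 q20560 (flp_h L721890) q18721, e3 q20561 L739083 q22180, e3 q20562 (flp_h L721917) q18723, e3 q20563 (flp_h L721927) q18725, e3 q20564 L721947 q20564, e3 q20565 L721959 q19012, e3 q20566 L721977 q19000, e3 q20567 L721988 q19014, e3 q20568 L722001 q19015, e3 q20569 L739192 q22188, e3 q20570 L722024 q18749, e3 q20571 L722035 q18750, e3 q20572 L739244 q22192, e3 q20573 L722056 q18752,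 e3 q20574 L722070 q18753, e3 q20575 L739324 q22198, e3 q20576 L722087 q18755, e3 q20577 L739344 q22200, e3 q20578 (flp_h L722099) q18734, e3 q20579 L739354 q22201, e3 q20580 (flp_h L722124) q18736, e3 q20581 L739370 q22202, e3 q20582 L722159 q18764, e3 q20583 L739402 q22204, e3 q20584 (flp_h L722179) q18739, e3 q20585 L739429 q22206, e3 q20586 (flp_h L722196) q18741, e3 q20587 (flp_h L722206) q18743, e3 q20588 (flp_h L722220) q18744, e3 q20589 L722244 q20589, e3 q20590 L722251 q20590, e3 q20591 (flp_h L737871) q22088, e3 q20592 L739503 q22212, e3 q20593 (flp_h L739217) q22189, e3 q20594 L739521 q22214, e3 q20595 (flp_h L739019) q22174, e3 q20596 L739563 q22217, e3 q20597 (flp_h L722314) q18751, e3 q20598 L722334 q18846, e3 q20599 (flp_h L739266) q22193, e3 q20600 L739597 q22220, e3 q20601 (flp_h L739308) q22196, e3 q20602 L739615 q22222, e3 q20603 (flp_h L722374) q18754, e3 q20604 L739635 q22224, e3 q20605 (flp_h L722394) q18756, e3 q20606 (flp_h L722402) q18758, e3 q20607 L739651 q22226, trivial⟩ (by decide +kernel)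

theorem ce_h_322 : ∀ r, r < 64 → sm gh (Qf (20608 + r)) = Qf (tab Gen.h (20608 + r)) :=
  edges_tab (sm gh) Qf (tab Gen.h) 20608 [(20608, 18760), (20609, 22227), (20610, 18763), (20611, 22229), (20612, 18765), (20613, 18792), (20614, 18767), (20615, 18779), (20616, 18769), (20617, 18770), (20618, 18794), (20619, 20619), (20620, 18795), (20621, 18780), (20622, 22238), (20623, 18776), (20624, 22232), (20625, 22233), (20626, 19957), (20627, 18782), (20628, 18783), (20629, 18785), (20630, 22223), (20631, 18790), (20632, 22228), (20633, 22231), (20634, 22234), (20635, 22235), (20636, 19077), (20637, 19078), (20638, 22250), (20639, 19080), (20640, 19081), (20641, 22256), (20642, 19083), (20643, 22258), (20644, 18800), (20645, 18829), (20646, 22260), (20647, 18831), (20648, 22263), (20649, 18833), (20650, 22265), (20651, 18805), (20652, 18837), (20653, 22268), (20654, 22269), (20655, 18840), (20656, 22272), (20657, 18808), (20658, 18843), (20659, 22275), (20660, 18810), (20661, 18812), (20662, 22278), (20663, 18814), (20664, 18816),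 (20665, 22281), (20666, 18818), (20667, 20667), (20668, 22284), (20669, 18821), (20670, 20670), (20671, 20671)]
    ⟨e3 q20608 (flp_h L722424) q18760, e3 q20609 L739661 q22227, e3 q20610 (flp_h L722452) q18763, e3 q20611 L739687 q22229, e3 q20612 (flp_h L722467) q18765, e3 q20613 L722483 q18792, e3 q20614 (flp_h L722485) q18767, e3 q20615 L722497 q18779, e3 q20616 (flp_h L722499) q18769, e3 q20617 (flp_h L722513) q18770, e3 q20618 L722529 q18794, e3 q20619 L722539 q20619, e3 q20620 L722546 q18795, e3 q20621 L722554 q18780, e3 q20622 L739800 q22238, e3 q20623 (flp_h L722573) q18776, e3 q20624 (flp_h L739722) q22232, e3 q20625 (flp_h L739734) q22233, e3 q20626 (flp_h L722623) q19957, e3 q20627 (flp_h L722625) q18782, e3 q20628 (flp_h L722640) q18783, e3 q20629 (flp_h L722653) q18785, e3 q20630 (flp_h L739633) q22223, e3 q20631 (flp_h L722676) q18790, e3 q20632 (flp_h L739685) q22228, e3 q20633 (flp_h L739714) q22231, e3 q20634 (flp_h L739744) q22234, e3 q20635 (flp_h L739762) q22235, e3 q20636 L722743 q19077, e3 q20637 L722754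 q19078, e3 q20638 L739938 q22250, e3 q20639 L722775 q19080, e3 q20640 L722785 q19081, e3 q20641 L739993 q22256, e3 q20642 L722801 q19083, e3 q20643 L740013 q22258, e3 q20644 (flp_h L722816) q18800, e3 q20645 L722833 q18829, e3 q20646 L740035 q22260, e3 q20647 L722857 q18831, e3 q20648 L740072 q22263, e3 q20649 L722876 q18833, e3 q20650 L740094 q22265, e3 q20651 (flp_h L722886) q18805, e3 q20652 L722906 q18837, e3 q20653 L740133 q22268, e3 q20654 L740149 q22269, e3 q20655 L722936 q18840, e3 q20656 L740173 q22272, e3 q20657 (flp_h L722948) q18808, e3 q20658 L722966 q18843, e3 q20659 L740204 q22275, e3 q20660 (flp_h L722976) q18810, e3 q20661 (flp_h L722984) q18812, e3 q20662 L740229 q22278, e3 q20663 (flp_h L723005) q18814, e3 q20664 (flp_h L723017) q18816, e3 q20665 L740265 q22281, e3 q20666 (flp_h L723043) q18818, e3 q20667 L723061 q20667, e3 q20668 L740294 q22284, e3 q20669 (flp_h L723069) q18821, e3 q20670 L723081 q20670, e3 q20671 L723094 q20671, trivial⟩ (by decide +kernel)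

theorem ce_h_323 : ∀ r, r < 64 → sm gh (Qf (20672 + r)) = Qf (tab Gen.h (20672 + r)) :=
  edges_tab (sm gh) Qf (tab Gen.h) 20672 [(20672, 19592), (20673, 20673), (20674, 18826), (20675, 20675), (20676, 20676), (20677, 21758), (20678, 22290), (20679, 18830), (20680, 22292), (20681, 22215), (20682, 22295), (20683, 18832), (20684, 22297), (20685, 18834), (20686, 19604), (20687, 22301), (20688, 22303), (20689, 19581), (20690, 22306), (20691, 18838), (20692, 22308), (20693, 18839), (20694, 22311), (20695, 21719), (20696, 22313), (20697, 18841), (20698, 18895), (20699, 21722), (20700, 22317), (20701, 18844), (20702, 19159), (20703, 22320), (20704, 18847), (20705, 18897), (20706, 18849), (20707, 18875), (20708, 18851), (20709, 22323), (20710, 18853), (20711, 18899), (20712, 22326), (20713, 18856), (20714, 20714), (20715, 18900), (20716, 22331), (20717, 18860), (20718, 18878), (20719, 18879), (20720, 20720), (20721, 18881), (20722, 18866), (20723, 20723), (20724, 20724), (20725, 20725), (20726, 18882), (20727, 18870), (20728, 18880),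 (20729, 22322), (20730, 22332), (20731, 22333), (20732, 22334), (20733, 22335), (20734, 22325), (20735, 18883)]
    ⟨e3 q20672 L723105 q19592, e3 q20673 L723109 q20673, e3 q20674 (flp_h L723112) q18826, e3 q20675 L723128 q20675, e3 q20676 L723131 q20676, e3 q20677 (flp_h L733419) q21758, e3 q20678 L740350 q22290, e3 q20679 (flp_h L723150) q18830, e3 q20680 L740369 q22292, e3 q20681 (flp_h L739543) q22215, e3 q20682 L740407 q22295, e3 q20683 (flp_h L723186) q18832, e3 q20684 L740427 q22297, e3 q20685 (flp_h L723208) q18834, e3 q20686 L723224 q19604, e3 q20687 L740473 q22301, e3 q20688 L740500 q22303, e3 q20689 L723264 q19581, e3 q20690 L740540 q22306, e3 q20691 (flp_h L723280) q18838, e3 q20692 L740566 q22308, e3 q20693 (flp_h L723299) q18839, e3 q20694 L740590 q22311, e3 q20695 (flp_h L732790) q21719, e3 q20696 L740608 q22313, e3 q20697 (flp_h L723333) q18841, e3 q20698 L723347 q18895, e3 q20699 (flp_h L732842) q21722, e3 q20700 L740636 q22317, e3 q20701 (flp_h L723367) q18844, e3 q20702 L723377 q19159, e3 q20703 L740656 q22320,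 e3 q20704 (flp_h L723390) q18847, e3 q20705 L723410 q18897, e3 q20706 (flp_h L723412) q18849, e3 q20707 L723428 q18875, e3 q20708 (flp_h L723430) q18851, e3 q20709 L740685 q22323, e3 q20710 (flp_h L723457) q18853, e3 q20711 L723483 q18899, e3 q20712 L740726 q22326, e3 q20713 (flp_h L723494) q18856, e3 q20714 L723504 q20714, e3 q20715 L723509 q18900, e3 q20716 L740757 q22331, e3 q20717 (flp_h L723519) q18860, e3 q20718 L723529 q18878, e3 q20719 L723535 q18879, e3 q20720 L723547 q20720, e3 q20721 L723554 q18881, e3 q20722 (flp_h L723558) q18866, e3 q20723 L723576 q20723, e3 q20724 L723579 q20724, e3 q20725 L723584 q20725, e3 q20726 L723591 q18882, e3 q20727 (flp_h L723595) q18870, e3 q20728 L723613 q18880, e3 q20729 (flp_h L740683) q22322, e3 q20730 (flp_h L740773) q22332, e3 q20731 (flp_h L740779) q22333, e3 q20732 (flp_h L740783) q22334, e3 q20733 (flp_h L740791) q22335, e3 q20734 (flp_h L740724) q22325, e3 q20735 (flp_h L723664) q18883, trivial⟩ (by decide +kernel)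

theorem ce_h_324 : ∀ r, r < 64 → sm gh (Qf (20736 + r)) = Qf (tab Gen.h (20736 + r)) :=
  edges_tab (sm gh) Qf (tab Gen.h) 20736 [(20736, 22344), (20737, 18884), (20738, 22296), (20739, 21859), (20740, 22348), (20741, 18888), (20742, 18889), (20743, 22350), (20744, 18890), (20745, 22307), (20746, 22353), (20747, 18893), (20748, 22354), (20749, 22315), (20750, 19228), (20751, 22330), (20752, 18901), (20753, 18904), (20754, 19742), (20755, 22359), (20756, 19338), (20757, 22361), (20758, 22362), (20759, 18912), (20760, 22363), (20761, 18914), (20762, 18915), (20763, 20763), (20764, 19737), (20765, 22366), (20766, 22367), (20767, 18921), (20768, 22368), (20769, 18923), (20770, 18925), (20771, 18927), (20772, 18932), (20773, 22370), (20774, 22371), (20775, 21860), (20776, 22375), (20777, 22119), (20778, 22377), (20779, 22121), (20780, 22379), (20781, 18937), (20782, 18952), (20783, 22382), (20784, 18956), (20785, 22384), (20786, 18941), (20787, 22385), (20788, 18943), (20789, 22387), (20790, 18946), (20791, 18948), (20792, 20792),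 (20793, 19722), (20794, 22391), (20795, 22380), (20796, 22393), (20797, 18953), (20798, 22394), (20799, 18955)]
    ⟨e3 q20736 L740878 q22344, e3 q20737 (flp_h L723689) q18884, e3 q20738 (flp_h L740425) q22296, e3 q20739 (flp_h L734809) q21859, e3 q20740 L740917 q22348, e3 q20741 (flp_h L723738) q18888, e3 q20742 (flp_h L723751) q18889, e3 q20743 L740945 q22350, e3 q20744 (flp_h L723776) q18890, e3 q20745 (flp_h L740564) q22307, e3 q20746 L740979 q22353, e3 q20747 (flp_h L723811) q18893, e3 q20748 (flp_h L740993) q22354, e3 q20749 (flp_h L740624) q22315, e3 q20750 L723838 q19228, e3 q20751 (flp_h L740755) q22330, e3 q20752 (flp_h L723847) q18901, e3 q20753 (flp_h L723862) q18904, e3 q20754 L723888 q19742, e3 q20755 L741029 q22359, e3 q20756 L723912 q19338, e3 q20757 L741059 q22361, e3 q20758 L741073 q22362, e3 q20759 (flp_h L723941) q18912, e3 q20760 L741085 q22363, e3 q20761 (flp_h L723969) q18914, e3 q20762 (flp_h L723982) q18915, e3 q20763 L724011 q20763, e3 q20764 L724022 q19737, e3 q20765 L741127 q22366, e3 q20766 L741142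 q22367, e3 q20767 (flp_h L724047) q18921, e3 q20768 L741154 q22368, e3 q20769 (flp_h L724071) q18923, e3 q20770 (flp_h L724083) q18925, e3 q20771 (flp_h L724096) q18927, e3 q20772 L724116 q18932, e3 q20773 (flp_h L741189) q22370, e3 q20774 (flp_h L741199) q22371, e3 q20775 (flp_h L734824) q21860, e3 q20776 L741229 q22375, e3 q20777 (flp_h L738335) q22119, e3 q20778 L741250 q22377, e3 q20779 (flp_h L738355) q22121, e3 q20780 L741268 q22379, e3 q20781 (flp_h L724192) q18937, e3 q20782 L724211 q18952, e3 q20783 L741303 q22382, e3 q20784 L724234 q18956, e3 q20785 L741330 q22384, e3 q20786 (flp_h L724248) q18941, e3 q20787 L741342 q22385, e3 q20788 (flp_h L724272) q18943, e3 q20789 L741364 q22387, e3 q20790 (flp_h L724295) q18946, e3 q20791 (flp_h L724308) q18948, e3 q20792 L724330 q20792, e3 q20793 L724343 q19722, e3 q20794 L741417 q22391, e3 q20795 (flp_h L741288) q22380, e3 q20796 L741445 q22393, e3 q20797 (flp_h L724379) q18953, e3 q20798 L741453 q22394, e3 q20799 (flp_h L724404) q18955, trivial⟩ (by decide +kernel)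

theorem ce_h_325 : ∀ r, r < 64 → sm gh (Qf (20800 + r)) = Qf (tab Gen.h (20800 + r)) :=
  edges_tab (sm gh) Qf (tab Gen.h) 20800 [(20800, 22395), (20801, 18957), (20802, 22397), (20803, 18960), (20804, 22398), (20805, 22399), (20806, 18963), (20807, 21862), (20808, 22402), (20809, 18966), (20810, 22154), (20811, 18969), (20812, 18984), (20813, 18972), (20814, 22406), (20815, 18975), (20816, 18987), (20817, 18988), (20818, 18978), (20819, 18990), (20820, 18982), (20821, 22405), (20822, 18985), (20823, 22407), (20824, 22408), (20825, 22409), (20826, 22410), (20827, 18992), (20828, 19002), (20829, 22417), (20830, 22418), (20831, 18996), (20832, 18997), (20833, 19744), (20834, 22420), (20835, 19668), (20836, 22422), (20837, 22423), (20838, 19003), (20839, 19739), (20840, 22425), (20841, 19005), (20842, 19006), (20843, 19008), (20844, 20844), (20845, 22182), (20846, 22431), (20847, 22184), (20848, 22434), (20849, 22186), (20850, 22436), (20851, 19016), (20852, 19031), (20853, 22439), (20854, 19035), (20855, 22442), (20856, 19020),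 (20857, 22443), (20858, 19022), (20859, 19049), (20860, 22446), (20861, 19025), (20862, 19027), (20863, 20863)]
    ⟨e3 q20800 L741469 q22395, e3 q20801 (flp_h L724430) q18957, e3 q20802 L741485 q22397, e3 q20803 (flp_h L724452) q18960, e3 q20804 L741501 q22398, e3 q20805 L741517 q22399, e3 q20806 (flp_h L724500) q18963, e3 q20807 (flp_h L734851) q21862, e3 q20808 L741557 q22402, e3 q20809 (flp_h L724534) q18966, e3 q20810 (flp_h L738754) q22154, e3 q20811 (flp_h L724546) q18969, e3 q20812 L724563 q18984, e3 q20813 (flp_h L724565) q18972, e3 q20814 L741587 q22406, e3 q20815 (flp_h L724593) q18975, e3 q20816 L724605 q18987, e3 q20817 L724615 q18988, e3 q20818 (flp_h L724621) q18978, e3 q20819 L724638 q18990, e3 q20820 (flp_h L724640) q18982, e3 q20821 (flp_h L741585) q22405, e3 q20822 (flp_h L724661) q18985, e3 q20823 (flp_h L741605) q22407, e3 q20824 (flp_h L741613) q22408, e3 q20825 (flp_h L741621) q22409, e3 q20826 (flp_h L741634) q22410, e3 q20827 (flp_h L724709) q18992, e3 q20828 L724735 q19002, e3 q20829 L741696 q22417,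 e3 q20830 L741712 q22418, e3 q20831 (flp_h L724761) q18996, e3 q20832 (flp_h L724773) q18997, e3 q20833 L724794 q19744, e3 q20834 L741732 q22420, e3 q20835 L724815 q19668, e3 q20836 L741753 q22422, e3 q20837 L741765 q22423, e3 q20838 (flp_h L724836) q19003, e3 q20839 (flp_h L724851) q19739, e3 q20840 L741782 q22425, e3 q20841 (flp_h L724861) q19005, e3 q20842 (flp_h L724869) q19006, e3 q20843 (flp_h L724877) q19008, e3 q20844 L724892 q20844, e3 q20845 (flp_h L739120) q22182, e3 q20846 L741842 q22431, e3 q20847 (flp_h L739151) q22184, e3 q20848 L741886 q22434, e3 q20849 (flp_h L739175) q22186, e3 q20850 L741908 q22436, e3 q20851 (flp_h L724968) q19016, e3 q20852 L724989 q19031, e3 q20853 L741947 q22439, e3 q20854 L725016 q19035, e3 q20855 L741986 q22442, e3 q20856 (flp_h L725030) q19020, e3 q20857 L741998 q22443, e3 q20858 (flp_h L725054) q19022, e3 q20859 L725073 q19049, e3 q20860 L742030 q22446, e3 q20861 (flp_h L725087) q19025, e3 q20862 (flp_h L725100) q19027, e3 q20863 L725120 q20863, trivial⟩ (by decide +kernel)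

theorem ce_h_326 : ∀ r, r < 64 → sm gh (Qf (20864 + r)) = Qf (tab Gen.h (20864 + r)) :=
  edges_tab (sm gh) Qf (tab Gen.h) 20864 [(20864, 20864), (20865, 19145), (20866, 22452), (20867, 22437), (20868, 22454), (20869, 19032), (20870, 19828), (20871, 19880), (20872, 22459), (20873, 19034), (20874, 22440), (20875, 22461), (20876, 19036), (20877, 19822), (20878, 22465), (20879, 19039), (20880, 22466), (20881, 19040), (20882, 22469), (20883, 22470), (20884, 19042), (20885, 19044), (20886, 22225), (20887, 19950), (20888, 22475), (20889, 19047), (20890, 22477), (20891, 19050), (20892, 19061), (20893, 19053), (20894, 20894), (20895, 19062), (20896, 19063), (20897, 20897), (20898, 19059), (20899, 22478), (20900, 22479), (20901, 22482), (20902, 22483), (20903, 19215), (20904, 22488), (20905, 19127), (20906, 19255), (20907, 19933), (20908, 22491), (20909, 22492), (20910, 19074), (20911, 19491), (20912, 22494), (20913, 21915), (20914, 22246), (20915, 22499), (20916, 22248), (20917, 22502), (20918, 19079), (20919, 21909), (20920, 22251),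 (20921, 22508), (20922, 22510), (20923, 22254), (20924, 22514), (20925, 19082), (20926, 19467), (20927, 22517)]
    ⟨e3 q20864 L725128 q20864, e3 q20865 L725145 q19145, e3 q20866 L742105 q22452, e3 q20867 (flp_h L741928) q22437, e3 q20868 L742131 q22454, e3 q20869 (flp_h L725179) q19032, e3 q20870 L725198 q19828, e3 q20871 L725210 q19880, e3 q20872 L742192 q22459, e3 q20873 (flp_h L725226) q19034, e3 q20874 (flp_h L741972) q22440, e3 q20875 L742214 q22461, e3 q20876 (flp_h L725258) q19036, e3 q20877 L725276 q19822, e3 q20878 L742258 q22465, e3 q20879 (flp_h L725288) q19039, e3 q20880 L742270 q22466, e3 q20881 (flp_h L725309) q19040, e3 q20882 L742306 q22469, e3 q20883 L742314 q22470, e3 q20884 (flp_h L725343) q19042, e3 q20885 (flp_h L725355) q19044, e3 q20886 (flp_h L739649) q22225, e3 q20887 L725378 q19950, e3 q20888 L742360 q22475, e3 q20889 (flp_h L725394) q19047, e3 q20890 L742388 q22477, e3 q20891 (flp_h L725418) q19050, e3 q20892 L725433 q19061, e3 q20893 (flp_h L725435) q19053, e3 q20894 L725455 q20894, e3 q20895 L725462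 q19062, e3 q20896 L725470 q19063, e3 q20897 L725479 q20897, e3 q20898 (flp_h L725484) q19059, e3 q20899 (flp_h L742403) q22478, e3 q20900 (flp_h L742414) q22479, e3 q20901 (flp_h L742444) q22482, e3 q20902 (flp_h L742450) q22483, e3 q20903 L725542 q19215, e3 q20904 L742484 q22488, e3 q20905 L725566 q19127, e3 q20906 L725582 q19255, e3 q20907 L725591 q19933, e3 q20908 L742522 q22491, e3 q20909 L742535 q22492, e3 q20910 (flp_h L725620) q19074, e3 q20911 L725639 q19491, e3 q20912 L742564 q22494, e3 q20913 (flp_h L735614) q21915, e3 q20914 (flp_h L739901) q22246, e3 q20915 L742632 q22499, e3 q20916 (flp_h L739923) q22248, e3 q20917 L742659 q22502, e3 q20918 (flp_h L725704) q19079, e3 q20919 (flp_h L735538) q21909, e3 q20920 (flp_h L739957) q22251, e3 q20921 L742725 q22508, e3 q20922 L742748 q22510, e3 q20923 (flp_h L739980) q22254, e3 q20924 L742794 q22514, e3 q20925 (flp_h L725760) q19082, e3 q20926 L725774 q19467, e3 q20927 L742820 q22517, trivial⟩ (by decide +kernel)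

theorem ce_h_327 : ∀ r, r < 64 → sm gh (Qf (20928 + r)) = Qf (tab Gen.h (20928 + r)) :=
  edges_tab (sm gh) Qf (tab Gen.h) 20928 [(20928, 19084), (20929, 19128), (20930, 22520), (20931, 19130), (20932, 22523), (20933, 19088), (20934, 19134), (20935, 22525), (20936, 19137), (20937, 22528), (20938, 19091), (20939, 19140), (20940, 22531), (20941, 19093), (20942, 21985), (20943, 22534), (20944, 19096), (20945, 22535), (20946, 19097), (20947, 22538), (20948, 19152), (20949, 22540), (20950, 19099), (20951, 19156), (20952, 22543), (20953, 19102), (20954, 22518), (20955, 19104), (20956, 19164), (20957, 22547), (20958, 19106), (20959, 19168), (20960, 22550), (20961, 19109), (20962, 20962), (20963, 19177), (20964, 22554), (20965, 19113), (20966, 19359), (20967, 22556), (20968, 19116), (20969, 20969), (20970, 20970), (20971, 22561), (20972, 19120), (20973, 19123), (20974, 20974), (20975, 20975), (20976, 20976), (20977, 21938), (20978, 22565), (20979, 19788), (20980, 21935), (20981, 22569), (20982, 19129), (20983, 22521), (20984, 22572),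 (20985, 19131), (20986, 19795), (20987, 22575), (20988, 19783), (20989, 21965), (20990, 22579), (20991, 19135)]
    ⟨e3 q20928 (flp_h L725785) q19084, e3 q20929 L725801 q19128, e3 q20930 L742845 q22520, e3 q20931 L725822 q19130, e3 q20932 L742878 q22523, e3 q20933 (flp_h L725833) q19088, e3 q20934 L725850 q19134, e3 q20935 L742900 q22525, e3 q20936 L725876 q19137, e3 q20937 L742946 q22528, e3 q20938 (flp_h L725892) q19091, e3 q20939 L725910 q19140, e3 q20940 L742976 q22531, e3 q20941 (flp_h L725920) q19093, e3 q20942 (flp_h L736526) q21985, e3 q20943 L743006 q22534, e3 q20944 (flp_h L725948) q19096, e3 q20945 L743016 q22535, e3 q20946 (flp_h L725970) q19097, e3 q20947 L743056 q22538, e3 q20948 L726004 q19152, e3 q20949 L743080 q22540, e3 q20950 (flp_h L726018) q19099, e3 q20951 L726036 q19156, e3 q20952 L743110 q22543, e3 q20953 (flp_h L726046) q19102, e3 q20954 (flp_h L742829) q22518, e3 q20955 (flp_h L726060) q19104, e3 q20956 L726083 q19164, e3 q20957 L743147 q22547, e3 q20958 (flp_h L726100) q19106, e3 q20959 L726121 q19168,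 e3 q20960 L743186 q22550, e3 q20961 (flp_h L726131) q19109, e3 q20962 L726146 q20962, e3 q20963 L726159 q19177, e3 q20964 L743230 q22554, e3 q20965 (flp_h L726177) q19113, e3 q20966 L726197 q19359, e3 q20967 L743256 q22556, e3 q20968 (flp_h L726208) q19116, e3 q20969 L726222 q20969, e3 q20970 L726229 q20970, e3 q20971 L743300 q22561, e3 q20972 (flp_h L726249) q19120, e3 q20973 (flp_h L726263) q19123, e3 q20974 L726278 q20974, e3 q20975 L726286 q20975, e3 q20976 L726302 q20976, e3 q20977 L735899 q21938, e3 q20978 L743352 q22565, e3 q20979 L726342 q19788, e3 q20980 (flp_h L735853) q21935, e3 q20981 L743399 q22569, e3 q20982 (flp_h L726361) q19129, e3 q20983 (flp_h L742867) q22521, e3 q20984 L743433 q22572, e3 q20985 (flp_h L726382) q19131, e3 q20986 L726400 q19795, e3 q20987 L743460 q22575, e3 q20988 L726432 q19783, e3 q20989 (flp_h L736248) q21965, e3 q20990 L743519 q22579, e3 q20991 (flp_h L726452) q19135, trivial⟩ (by decide +kernel)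

theorem ce_h_328 : ∀ r, r < 64 → sm gh (Qf (20992 + r)) = Qf (tab Gen.h (20992 + r)) :=
  edges_tab (sm gh) Qf (tab Gen.h) 20992 [(20992, 22582), (20993, 19136), (20994, 22585), (20995, 22526), (20996, 22588), (20997, 19138), (20998, 19219), (20999, 22529), (21000, 22592), (21001, 19141), (21002, 22298), (21003, 22595), (21004, 19144), (21005, 22450), (21006, 22598), (21007, 19478), (21008, 22600), (21009, 19147), (21010, 19223), (21011, 22604), (21012, 19149), (21013, 22607), (21014, 22608), (21015, 19151), (21016, 22505), (21017, 22611), (21018, 19153), (21019, 22609), (21020, 19227), (21021, 22616), (21022, 19157), (21023, 22318), (21024, 22319), (21025, 19160), (21026, 22621), (21027, 19162), (21028, 19230), (21029, 19938), (21030, 22624), (21031, 19165), (21032, 21032), (21033, 19231), (21034, 22628), (21035, 19169), (21036, 19201), (21037, 19202), (21038, 19244), (21039, 22634), (21040, 19174), (21041, 21041), (21042, 22636), (21043, 19178), (21044, 21044), (21045, 21045), (21046, 21046), (21047, 19232), (21048, 19182),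 (21049, 19204), (21050, 19205), (21051, 19206), (21052, 19207), (21053, 22647), (21054, 19187), (21055, 19190)]
    ⟨e3 q20992 L743552 q22582, e3 q20993 (flp_h L726467) q19136, e3 q20994 L743590 q22585, e3 q20995 (flp_h L742926) q22526, e3 q20996 L743616 q22588, e3 q20997 (flp_h L726505) q19138, e3 q20998 L726525 q19219, e3 q20999 (flp_h L742966) q22529, e3 q21000 L743650 q22592, e3 q21001 (flp_h L726539) q19141, e3 q21002 (flp_h L740441) q22298, e3 q21003 L743666 q22595, e3 q21004 (flp_h L726559) q19144, e3 q21005 (flp_h L742088) q22450, e3 q21006 L743694 q22598, e3 q21007 L726594 q19478, e3 q21008 L743716 q22600, e3 q21009 (flp_h L726606) q19147, e3 q21010 L726624 q19223, e3 q21011 L743751 q22604, e3 q21012 (flp_h L726633) q19149, e3 q21013 L743772 q22607, e3 q21014 L743777 q22608, e3 q21015 (flp_h L726651) q19151, e3 q21016 L742706 q22505, e3 q21017 L743801 q22611, e3 q21018 (flp_h L726675) q19153, e3 q21019 (flp_h L743789) q22609, e3 q21020 L726695 q19227, e3 q21021 L743843 q22616, e3 q21022 (flp_h L726707) q19157, e3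 q21023 (flp_h L740648) q22318, e3 q21024 (flp_h L740654) q22319, e3 q21025 (flp_h L726723) q19160, e3 q21026 L743869 q22621, e3 q21027 (flp_h L726745) q19162, e3 q21028 L726765 q19230, e3 q21029 L726775 q19938, e3 q21030 L743899 q22624, e3 q21031 (flp_h L726787) q19165, e3 q21032 L726800 q21032, e3 q21033 L726810 q19231, e3 q21034 L743939 q22628, e3 q21035 (flp_h L726823) q19169, e3 q21036 L726834 q19201, e3 q21037 L726843 q19202, e3 q21038 L726856 q19244, e3 q21039 L743991 q22634, e3 q21040 (flp_h L726873) q19174, e3 q21041 L726885 q21041, e3 q21042 L744012 q22636, e3 q21043 (flp_h L726895) q19178, e3 q21044 L726907 q21044, e3 q21045 L726912 q21045, e3 q21046 L726927 q21046, e3 q21047 L726938 q19232, e3 q21048 (flp_h L726942) q19182, e3 q21049 L726954 q19204, e3 q21050 L726960 q19205, e3 q21051 L726964 q19206, e3 q21052 L726970 q19207, e3 q21053 L744100 q22647, e3 q21054 (flp_h L726986) q19187, e3 q21055 (flp_h L727000) q19190, trivial⟩ (by decide +kernel)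

theorem ce_h_329 : ∀ r, r < 64 → sm gh (Qf (21056 + r)) = Qf (tab Gen.h (21056 + r)) :=
  edges_tab (sm gh) Qf (tab Gen.h) 21056 [(21056, 21056), (21057, 21057), (21058, 19208), (21059, 19209), (21060, 19210), (21061, 19199), (21062, 22629), (21063, 22630), (21064, 22631), (21065, 22632), (21066, 22641), (21067, 22642), (21068, 22643), (21069, 22644), (21070, 22645), (21071, 22646), (21072, 22650), (21073, 22580), (21074, 22570), (21075, 22663), (21076, 19218), (21077, 22590), (21078, 19222), (21079, 22602), (21080, 19224), (21081, 19226), (21082, 22665), (21083, 22666), (21084, 22615), (21085, 19235), (21086, 22670), (21087, 19239), (21088, 22672), (21089, 22673), (21090, 19243), (21091, 22675), (21092, 19245), (21093, 22515), (21094, 22677), (21095, 22678), (21096, 19253), (21097, 22664), (21098, 19260), (21099, 19261), (21100, 22681), (21101, 21929), (21102, 19268), (21103, 19270), (21104, 21104), (21105, 22685), (21106, 19274), (21107, 19277), (21108, 22687), (21109, 19281), (21110, 22688), (21111, 19284), (21112, 19286),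 (21113, 19288), (21114, 19290), (21115, 22691), (21116, 19293), (21117, 22692), (21118, 19295), (21119, 19296)]
    ⟨e3 q21056 L727013 q21056, e3 q21057 L727019 q21057, e3 q21058 L727029 q19208, e3 q21059 L727037 q19209, e3 q21060 L727050 q19210, e3 q21061 (flp_h L727054) q19199, e3 q21062 (flp_h L743951) q22629, e3 q21063 (flp_h L743959) q22630, e3 q21064 (flp_h L743965) q22631, e3 q21065 (flp_h L743974) q22632, e3 q21066 (flp_h L744056) q22641, e3 q21067 (flp_h L744064) q22642, e3 q21068 (flp_h L744072) q22643, e3 q21069 (flp_h L744080) q22644, e3 q21070 (flp_h L744086) q22645, e3 q21071 (flp_h L744096) q22646, e3 q21072 (flp_h L744137) q22650, e3 q21073 (flp_h L743539) q22580, e3 q21074 (flp_h L743424) q22570, e3 q21075 L744244 q22663, e3 q21076 (flp_h L727191) q19218, e3 q21077 (flp_h L743638) q22590, e3 q21078 (flp_h L727206) q19222, e3 q21079 (flp_h L743736) q22602, e3 q21080 (flp_h L727225) q19224, e3 q21081 L727241 q19226, e3 q21082 (flp_h L744277) q22665, e3 q21083 (flp_h L744289) q22666, e3 q21084 (flp_h L743837)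 q22615, e3 q21085 (flp_h L727278) q19235, e3 q21086 L744330 q22670, e3 q21087 (flp_h L727308) q19239, e3 q21088 L744353 q22672, e3 q21089 L744368 q22673, e3 q21090 (flp_h L727349) q19243, e3 q21091 L744392 q22675, e3 q21092 (flp_h L727372) q19245, e3 q21093 (flp_h L742807) q22515, e3 q21094 L744409 q22677, e3 q21095 L744423 q22678, e3 q21096 (flp_h L727419) q19253, e3 q21097 (flp_h L744268) q22664, e3 q21098 L727449 q19260, e3 q21099 L727462 q19261, e3 q21100 (flp_h L744471) q22681, e3 q21101 (flp_h L735776) q21929, e3 q21102 (flp_h L727487) q19268, e3 q21103 (flp_h L727501) q19270, e3 q21104 L727523 q21104, e3 q21105 L744512 q22685, e3 q21106 (flp_h L727538) q19274, e3 q21107 (flp_h L727552) q19277, e3 q21108 L744538 q22687, e3 q21109 (flp_h L727576) q19281, e3 q21110 L744552 q22688, e3 q21111 (flp_h L727604) q19284, e3 q21112 (flp_h L727610) q19286, e3 q21113 (flp_h L727624) q19288, e3 q21114 (flp_h L727636) q19290, e3 q21115 L744586 q22691, e3 q21116 (flp_h L727658) q19293, e3 q21117 L744596 q22692, e3 q21118 (flp_h L727680)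 q19295, e3 q21119 (flp_h L727690) q19296, trivial⟩ (by decide +kernel)

theorem ce_h_330 : ∀ r, r < 64 → sm gh (Qf (21120 + r)) = Qf (tab Gen.h (21120 + r)) :=
  edges_tab (sm gh) Qf (tab Gen.h) 21120 [(21120, 19661), (21121, 22695), (21122, 19299), (21123, 21876), (21124, 22697), (21125, 19656), (21126, 22699), (21127, 19302), (21128, 22701), (21129, 19305), (21130, 19494), (21131, 19307), (21132, 22704), (21133, 19310), (21134, 22706), (21135, 19313), (21136, 21136), (21137, 19316), (21138, 21138), (21139, 19319), (21140, 21140), (21141, 19322), (21142, 19324), (21143, 19380), (21144, 22710), (21145, 22711), (21146, 19329), (21147, 22712), (21148, 19331), (21149, 19332), (21150, 19335), (21151, 19487), (21152, 22716), (21153, 22717), (21154, 19339), (21155, 19340), (21156, 19353), (21157, 22686), (21158, 22722), (21159, 19344), (21160, 19356), (21161, 19346), (21162, 19358), (21163, 19351), (21164, 22718), (21165, 22720), (21166, 19354), (21167, 22723), (21168, 22548), (21169, 22555), (21170, 22727), (21171, 19364), (21172,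 19365), (21173, 21918), (21174, 22730), (21175, 19369), (21176, 19370), (21177, 19372), (21178, 21178), (21179, 21776), (21180, 21777), (21181, 22737), (21182, 21779), (21183, 22739)]
    ⟨e3 q21120 L727712 q19661, e3 q21121 L744634 q22695, e3 q21122 (flp_h L727728) q19299, e3 q21123 (flp_h L735060) q21876, e3 q21124 L744661 q22697, e3 q21125 L727779 q19656, e3 q21126 L744687 q22699, e3 q21127 (flp_h L727793) q19302, e3 q21128 L744701 q22701, e3 q21129 (flp_h L727809) q19305, e3 q21130 L727825 q19494, e3 q21131 (flp_h L727827) q19307, e3 q21132 L744727 q22704, e3 q21133 (flp_h L727852) q19310, e3 q21134 L744750 q22706, e3 q21135 (flp_h L727875) q19313, e3 q21136 L727893 q21136, e3 q21137 (flp_h L727894) q19316, e3 q21138 L727908 q21138, e3 q21139 (flp_h L727909) q19319, e3 q21140 L727923 q21140, e3 q21141 (flp_h L727924) q19322, e3 q21142 (flp_h L727934) q19324, e3 q21143 L727955 q19380, e3 q21144 L744790 q22710, e3 q21145 L744802 q22711, e3 q21146 (flp_h L727984) q19329, e3 q21147 L744816 q22712, e3 q21148 (flp_h L728012)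 q19331, e3 q21149 (flp_h L728026) q19332, e3 q21150 (flp_h L728038) q19335, e3 q21151 L728060 q19487, e3 q21152 L744868 q22716, e3 q21153 L744882 q22717, e3 q21154 (flp_h L728088) q19339, e3 q21155 (flp_h L728096) q19340, e3 q21156 L728114 q19353, e3 q21157 (flp_h L744536) q22686, e3 q21158 L744922 q22722, e3 q21159 (flp_h L728141) q19344, e3 q21160 L728161 q19356, e3 q21161 (flp_h L728163) q19346, e3 q21162 L728183 q19358, e3 q21163 (flp_h L728185) q19351, e3 q21164 (flp_h L744898) q22718, e3 q21165 (flp_h L744912) q22720, e3 q21166 (flp_h L728212) q19354, e3 q21167 (flp_h L744946) q22723, e3 q21168 (flp_h L743170) q22548, e3 q21169 (flp_h L743252) q22555, e3 q21170 L744973 q22727, e3 q21171 (flp_h L728271) q19364, e3 q21172 (flp_h L728285) q19365, e3 q21173 (flp_h L735647) q21918, e3 q21174 L745004 q22730, e3 q21175 (flp_h L728308) q19369, e3 q21176 (flp_h L728318) q19370, e3 q21177 (flp_h L728326) q19372, e3 q21178 L728349 q21178, e3 q21179 (flp_h L733672) q21776, e3 q21180 (flp_h L733688) q21777, e3 q21181 L745084 q22737,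 e3 q21182 (flp_h L733710) q21779, e3 q21183 L745102 q22739, trivial⟩ (by decide +kernel)

theorem ce_h_331 : ∀ r, r < 64 → sm gh (Qf (21184 + r)) = Qf (tab Gen.h (21184 + r)) :=
  edges_tab (sm gh) Qf (tab Gen.h) 21184 [(21184, 19378), (21185, 21805), (21186, 22741), (21187, 21910), (21188, 19776), (21189, 22745), (21190, 19381), (21191, 22747), (21192, 19383), (21193, 21916), (21194, 22750), (21195, 19386), (21196, 21919), (21197, 22753), (21198, 22754), (21199, 19389), (21200, 19421), (21201, 19391), (21202, 22689), (21203, 19393), (21204, 22760), (21205, 19395), (21206, 19424), (21207, 19397), (21208, 19426), (21209, 19400), (21210, 21210), (21211, 19427), (21212, 19428), (21213, 22766), (21214, 19408), (21215, 19410), (21216, 22769), (21217, 19412), (21218, 22746), (21219, 19415), (21220, 22772), (21221, 19417), (21222, 22751), (21223, 19419), (21224, 22775), (21225, 22756), (21226, 19422), (21227, 22759), (21228, 22762), (21229, 22763), (21230, 22765), (21231, 19900), (21232, 19866), (21233, 22783), (21234, 21881), (21235,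 22785), (21236, 19431), (21237, 19432), (21238, 19465), (21239, 22790), (21240, 22791), (21241, 19436), (21242, 19470), (21243, 22794), (21244, 22795), (21245, 22797), (21246, 19439), (21247, 19440)]
    ⟨e3 q21184 (flp_h L728399) q19378, e3 q21185 (flp_h L734081) q21805, e3 q21186 L745118 q22741, e3 q21187 (flp_h L735554) q21910, e3 q21188 L728444 q19776, e3 q21189 L745163 q22745, e3 q21190 (flp_h L728458) q19381, e3 q21191 L745185 q22747, e3 q21192 (flp_h L728482) q19383, e3 q21193 (flp_h L735626) q21916, e3 q21194 L745217 q22750, e3 q21195 (flp_h L728506) q19386, e3 q21196 (flp_h L735655) q21919, e3 q21197 L745248 q22753, e3 q21198 L745258 q22754, e3 q21199 (flp_h L728547) q19389, e3 q21200 L728563 q19421, e3 q21201 (flp_h L728565) q19391, e3 q21202 (flp_h L744572) q22689, e3 q21203 (flp_h L728581) q19393, e3 q21204 L745305 q22760, e3 q21205 (flp_h L728599) q19395, e3 q21206 L728621 q19424, e3 q21207 (flp_h L728623) q19397, e3 q21208 L728643 q19426, e3 q21209 (flp_h L728645) q19400, e3 q21210 L728661 q21210, e3 q21211 L728670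 q19427, e3 q21212 L728679 q19428, e3 q21213 L745367 q22766, e3 q21214 (flp_h L728697) q19408, e3 q21215 (flp_h L728711) q19410, e3 q21216 L745403 q22769, e3 q21217 (flp_h L728734) q19412, e3 q21218 (flp_h L745183) q22746, e3 q21219 (flp_h L728759) q19415, e3 q21220 L745435 q22772, e3 q21221 (flp_h L728780) q19417, e3 q21222 (flp_h L745233) q22751, e3 q21223 (flp_h L728800) q19419, e3 q21224 (flp_h L745464) q22775, e3 q21225 (flp_h L745278) q22756, e3 q21226 (flp_h L728824) q19422, e3 q21227 (flp_h L745303) q22759, e3 q21228 (flp_h L745338) q22762, e3 q21229 (flp_h L745348) q22763, e3 q21230 (flp_h L745365) q22765, e3 q21231 L728882 q19900, e3 q21232 L728894 q19866, e3 q21233 L745542 q22783, e3 q21234 (flp_h L735135) q21881, e3 q21235 L745565 q22785, e3 q21236 (flp_h L728928) q19431, e3 q21237 (flp_h L728938) q19432, e3 q21238 L728956 q19465, e3 q21239 L745613 q22790, e3 q21240 L745622 q22791, e3 q21241 (flp_h L728976) q19436, e3 q21242 L728993 q19470, e3 q21243 L745653 q22794, e3 q21244 L745665 q22795, e3 q21245 L745687 q22797,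 e3 q21246 (flp_h L729027) q19439, e3 q21247 (flp_h L729037) q19440, trivial⟩ (by decide +kernel)

theorem ce_h_332 : ∀ r, r < 64 → sm gh (Qf (21248 + r)) = Qf (tab Gen.h (21248 + r)) :=
  edges_tab (sm gh) Qf (tab Gen.h) 21248 [(21248, 22567), (21249, 19481), (21250, 22802), (21251, 19443), (21252, 22463), (21253, 19444), (21254, 22806), (21255, 22807), (21256, 19446), (21257, 21257), (21258, 22810), (21259, 19449), (21260, 22787), (21261, 19451), (21262, 21262), (21263, 22814), (21264, 19454), (21265, 21265), (21266, 19456), (21267, 19459), (21268, 19463), (21269, 22512), (21270, 22816), (21271, 19466), (21272, 22818), (21273, 19468), (21274, 19809), (21275, 22821), (21276, 19471), (21277, 22823), (21278, 19472), (21279, 22826), (21280, 22827), (21281, 19474), (21282, 19532), (21283, 19476), (21284, 22693), (21285, 19882), (21286, 22833), (21287, 19479), (21288, 22581), (21289, 19480), (21290, 22836), (21291, 19877), (21292, 22838), (21293, 19482), (21294, 19537), (21295, 22576), (21296, 19484), (21297, 22843), (21298, 22844),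 (21299, 19486), (21300, 21975), (21301, 22847), (21302, 19488), (21303, 22845), (21304, 19541), (21305, 22852), (21306, 19492), (21307, 22702), (21308, 22703), (21309, 19808), (21310, 22857), (21311, 19496)]
    ⟨e3 q21248 (flp_h L743386) q22567, e3 q21249 L729064 q19481, e3 q21250 L745743 q22802, e3 q21251 (flp_h L729078) q19443, e3 q21252 (flp_h L742240) q22463, e3 q21253 (flp_h L729098) q19444, e3 q21254 L745779 q22806, e3 q21255 L745782 q22807, e3 q21256 (flp_h L729118) q19446, e3 q21257 L729132 q21257, e3 q21258 L745803 q22810, e3 q21259 (flp_h L729145) q19449, e3 q21260 (flp_h L745596) q22787, e3 q21261 (flp_h L729163) q19451, e3 q21262 L729183 q21262, e3 q21263 L745843 q22814, e3 q21264 (flp_h L729200) q19454, e3 q21265 L729224 q21265, e3 q21266 (flp_h L729225) q19456, e3 q21267 (flp_h L729235) q19459, e3 q21268 (flp_h L729247) q19463, e3 q21269 (flp_h L742783) q22512, e3 q21270 L745866 q22816, e3 q21271 (flp_h L729271) q19466, e3 q21272 L745883 q22818, e3 q21273 (flp_h L729285) q19468, e3 q21274 L729301 q19809, e3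 q21275 L745908 q22821, e3 q21276 (flp_h L729315) q19471, e3 q21277 L745930 q22823, e3 q21278 (flp_h L729334) q19472, e3 q21279 L745958 q22826, e3 q21280 L745964 q22827, e3 q21281 (flp_h L729358) q19474, e3 q21282 L729372 q19532, e3 q21283 (flp_h L729374) q19476, e3 q21284 (flp_h L744618) q22693, e3 q21285 L729400 q19882, e3 q21286 L746016 q22833, e3 q21287 (flp_h L729414) q19479, e3 q21288 L743550 q22581, e3 q21289 (flp_h L729429) q19480, e3 q21290 L746039 q22836, e3 q21291 L729453 q19877, e3 q21292 L746059 q22838, e3 q21293 (flp_h L729467) q19482, e3 q21294 L729481 q19537, e3 q21295 (flp_h L743486) q22576, e3 q21296 (flp_h L729494) q19484, e3 q21297 L746097 q22843, e3 q21298 L746102 q22844, e3 q21299 (flp_h L729510) q19486, e3 q21300 L736382 q21975, e3 q21301 L746120 q22847, e3 q21302 (flp_h L729528) q19488, e3 q21303 (flp_h L746110) q22845, e3 q21304 L729540 q19541, e3 q21305 L746146 q22852, e3 q21306 (flp_h L729550) q19492, e3 q21307 (flp_h L744721) q22702, e3 q21308 (flp_h L744725) q22703, e3 q21309 L729577 q19808, e3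 q21310 L746181 q22857, e3 q21311 (flp_h L729593) q19496, trivial⟩ (by decide +kernel)

theorem ce_h_333 : ∀ r, r < 64 → sm gh (Qf (21312 + r)) = Qf (tab Gen.h (21312 + r)) :=
  edges_tab (sm gh) Qf (tab Gen.h) 21312 [(21312, 22858), (21313, 19498), (21314, 19543), (21315, 19500), (21316, 21316), (21317, 19544), (21318, 22862), (21319, 19505), (21320, 22864), (21321, 19508), (21322, 21322), (21323, 22866), (21324, 19512), (21325, 21325), (21326, 19545), (21327, 19516), (21328, 21328), (21329, 22869), (21330, 19520), (21331, 19523), (21332, 21332), (21333, 22817), (21334, 22822), (21335, 22873), (21336, 19530), (21337, 22874), (21338, 22829), (21339, 22877), (21340, 19535), (21341, 22878), (21342, 22840), (21343, 19538), (21344, 19540), (21345, 22881), (21346, 22851), (21347, 22861), (21348, 19550), (21349, 22076), (21350, 22884), (21351, 21351), (21352, 21352), (21353, 19554), (21354, 22887), (21355, 21355), (21356, 19558), (21357, 21357), (21358, 21358), (21359, 19571), (21360, 21360), (21361, 19572), (21362, 19573), (21363,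 19574), (21364, 19575), (21365, 22888), (21366, 19577), (21367, 22889), (21368, 19580), (21369, 22890), (21370, 19582), (21371, 19583), (21372, 19591), (21373, 19593), (21374, 19588), (21375, 22891)]
    ⟨e3 q21312 L746196 q22858, e3 q21313 (flp_h L729613) q19498, e3 q21314 L729635 q19543, e3 q21315 (flp_h L729637) q19500, e3 q21316 L729654 q21316, e3 q21317 L729660 q19544, e3 q21318 L746233 q22862, e3 q21319 (flp_h L729675) q19505, e3 q21320 L746258 q22864, e3 q21321 (flp_h L729702) q19508, e3 q21322 L729716 q21322, e3 q21323 L746279 q22866, e3 q21324 (flp_h L729726) q19512, e3 q21325 L729738 q21325, e3 q21326 L729741 q19545, e3 q21327 (flp_h L729743) q19516, e3 q21328 L729762 q21328, e3 q21329 L746297 q22869, e3 q21330 (flp_h L729777) q19520, e3 q21331 (flp_h L729791) q19523, e3 q21332 L729802 q21332, e3 q21333 (flp_h L745881) q22817, e3 q21334 (flp_h L745928) q22822, e3 q21335 L746334 q22873, e3 q21336 (flp_h L729828) q19530, e3 q21337 (flp_h L746346) q22874, e3 q21338 (flp_h L745984) q22829, e3 q21339 L746362 q22877, e3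 q21340 (flp_h L729850) q19535, e3 q21341 (flp_h L746374) q22878, e3 q21342 (flp_h L746077) q22840, e3 q21343 (flp_h L729866) q19538, e3 q21344 L729874 q19540, e3 q21345 (flp_h L746391) q22881, e3 q21346 (flp_h L746142) q22851, e3 q21347 (flp_h L746231) q22861, e3 q21348 L729900 q19550, e3 q21349 (flp_h L737740) q22076, e3 q21350 (flp_h L746412) q22884, e3 q21351 L729931 q21351, e3 q21352 L729936 q21352, e3 q21353 L729943 q19554, e3 q21354 (flp_h L746436) q22887, e3 q21355 L729961 q21355, e3 q21356 L729968 q19558, e3 q21357 L729978 q21357, e3 q21358 L729983 q21358, e3 q21359 L729994 q19571, e3 q21360 L729998 q21360, e3 q21361 L730005 q19572, e3 q21362 L730013 q19573, e3 q21363 L730021 q19574, e3 q21364 L730027 q19575, e3 q21365 L746438 q22888, e3 q21366 (flp_h L730043) q19577, e3 q21367 L746452 q22889, e3 q21368 (flp_h L730071) q19580, e3 q21369 L746466 q22890, e3 q21370 (flp_h L730093) q19582, e3 q21371 (flp_h L730101) q19583, e3 q21372 L730115 q19591, e3 q21373 L730123 q19593, e3 q21374 (flp_h L730125) q19588, e3 q21375 (flp_h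 L746482) q22891, trivial⟩ (by decide +kernel)

theorem ce_h_334 : ∀ r, r < 64 → sm gh (Qf (21376 + r)) = Qf (tab Gen.h (21376 + r)) :=
  edges_tab (sm gh) Qf (tab Gen.h) 21376 [(21376, 22282), (21377, 22893), (21378, 22897), (21379, 22899), (21380, 19595), (21381, 19596), (21382, 21382), (21383, 21383), (21384, 21384), (21385, 19601), (21386, 22904), (21387, 19603), (21388, 22907), (21389, 22908), (21390, 19605), (21391, 19621), (21392, 19607), (21393, 19760), (21394, 19609), (21395, 21395), (21396, 19622), (21397, 21397), (21398, 21398), (21399, 19623), (21400, 22917), (21401, 19619), (21402, 22918), (21403, 22910), (21404, 22915), (21405, 22916), (21406, 21912), (21407, 22923), (21408, 19625), (21409, 19626), (21410, 21410), (21411, 21411), (21412, 22926), (21413, 19632), (21414, 19633), (21415, 19635), (21416, 19643), (21417, 19801), (21418, 19644), (21419, 22929), (21420, 22931), (21421, 22933), (21422, 19646), (21423, 19647), (21424, 22936), (21425, 19648), (21426, 21426), (21427, 22830), (21428, 21428), (21429, 21429),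 (21430, 21430), (21431, 22942), (21432, 19657), (21433, 22944), (21434, 19659), (21435, 22946), (21436, 19662), (21437, 19663), (21438, 19705), (21439, 19876)]
    ⟨e3 q21376 (flp_h L740285) q22282, e3 q21377 (flp_h L746500) q22893, e3 q21378 L746528 q22897, e3 q21379 L746540 q22899, e3 q21380 (flp_h L730174) q19595, e3 q21381 (flp_h L730182) q19596, e3 q21382 L730196 q21382, e3 q21383 L730203 q21383, e3 q21384 L730208 q21384, e3 q21385 (flp_h L730211) q19601, e3 q21386 L746580 q22904, e3 q21387 (flp_h L730224) q19603, e3 q21388 L746606 q22907, e3 q21389 L746612 q22908, e3 q21390 (flp_h L730248) q19605, e3 q21391 L730260 q19621, e3 q21392 (flp_h L730262) q19607, e3 q21393 L730274 q19760, e3 q21394 (flp_h L730276) q19609, e3 q21395 L730286 q21395, e3 q21396 L730293 q19622, e3 q21397 L730299 q21397, e3 q21398 L730302 q21398, e3 q21399 L730309 q19623, e3 q21400 L746666 q22917, e3 q21401 (flp_h L730319) q19619, e3 q21402 (flp_h L746678) q22918, e3 q21403 (flp_h L746626) q22910, e3 q21404 (flp_h L746658) q22915, e3 q21405 (flp_h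 L746664) q22916, e3 q21406 (flp_h L735578) q21912, e3 q21407 L746711 q22923, e3 q21408 (flp_h L730362) q19625, e3 q21409 (flp_h L730372) q19626, e3 q21410 L730388 q21410, e3 q21411 L730395 q21411, e3 q21412 L746736 q22926, e3 q21413 (flp_h L730406) q19632, e3 q21414 (flp_h L730412) q19633, e3 q21415 (flp_h L730420) q19635, e3 q21416 L730434 q19643, e3 q21417 L730440 q19801, e3 q21418 L730448 q19644, e3 q21419 (flp_h L746760) q22929, e3 q21420 (flp_h L746772) q22931, e3 q21421 L746781 q22933, e3 q21422 (flp_h L730468) q19646, e3 q21423 (flp_h L730476) q19647, e3 q21424 L746803 q22936, e3 q21425 (flp_h L730486) q19648, e3 q21426 L730500 q21426, e3 q21427 (flp_h L745996) q22830, e3 q21428 L730513 q21428, e3 q21429 L730518 q21429, e3 q21430 L730525 q21430, e3 q21431 L746833 q22942, e3 q21432 (flp_h L730536) q19657, e3 q21433 L746851 q22944, e3 q21434 (flp_h L730548) q19659, e3 q21435 L746861 q22946, e3 q21436 (flp_h L730562) q19662, e3 q21437 (flp_h L730570) q19663, e3 q21438 L730584 q19705, e3 q21439 L730590 q19876, trivial⟩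 (by decide +kernel)

theorem ce_h_335 : ∀ r, r < 64 → sm gh (Qf (21440 + r)) = Qf (tab Gen.h (21440 + r)) :=
  edges_tab (sm gh) Qf (tab Gen.h) 21440 [(21440, 22951), (21441, 19667), (21442, 22953), (21443, 22954), (21444, 19670), (21445, 19709), (21446, 22957), (21447, 19673), (21448, 22959), (21449, 19675), (21450, 22958), (21451, 19713), (21452, 22964), (21453, 19679), (21454, 19898), (21455, 19899), (21456, 19714), (21457, 19715), (21458, 19685), (21459, 19716), (21460, 19717), (21461, 19688), (21462, 19692), (21463, 19718), (21464, 19719), (21465, 22943), (21466, 22947), (21467, 22949), (21468, 22952), (21469, 19707), (21470, 22973), (21471, 22956), (21472, 19710), (21473, 19712), (21474, 22977), (21475, 22963), (21476, 22968), (21477, 22969), (21478, 21866), (21479, 22980), (21480, 19723), (21481, 19724), (21482, 22892), (21483, 19727), (21484, 22984), (21485, 19730), (21486, 19731), (21487, 19733), (21488, 22983), (21489, 22176), (21490, 22989), (21491, 19738), (21492, 19755), (21493, 22991), (21494, 19740), (21495,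 21895), (21496, 22994), (21497, 19743), (21498, 22128), (21499, 22996), (21500, 22997), (21501, 19746), (21502, 22999), (21503, 19749)]
    ⟨e3 q21440 L746895 q22951, e3 q21441 (flp_h L730598) q19667, e3 q21442 L746909 q22953, e3 q21443 L746915 q22954, e3 q21444 (flp_h L730620) q19670, e3 q21445 L730632 q19709, e3 q21446 L746933 q22957, e3 q21447 (flp_h L730640) q19673, e3 q21448 L746945 q22959, e3 q21449 (flp_h L730654) q19675, e3 q21450 (flp_h L746943) q22958, e3 q21451 L730666 q19713, e3 q21452 L746971 q22964, e3 q21453 (flp_h L730676) q19679, e3 q21454 L730686 q19898, e3 q21455 L730690 q19899, e3 q21456 L730698 q19714, e3 q21457 L730706 q19715, e3 q21458 (flp_h L730708) q19685, e3 q21459 L730718 q19716, e3 q21460 L730726 q19717, e3 q21461 (flp_h L730728) q19688, e3 q21462 L730742 q19692, e3 q21463 L730746 q19718, e3 q21464 L730750 q19719, e3 q21465 (flp_h L746849) q22943, e3 q21466 (flp_h L746877) q22947, e3 q21467 (flp_h L746887) q22949, e3 q21468 (flp_h L746907) q22952, e3 q21469 (flp_h L730782) q19707, e3 q21470 (flp_h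 L747030) q22973, e3 q21471 (flp_h L746931) q22956, e3 q21472 (flp_h L730800) q19710, e3 q21473 L730812 q19712, e3 q21474 (flp_h L747055) q22977, e3 q21475 (flp_h L746967) q22963, e3 q21476 (flp_h L746997) q22968, e3 q21477 (flp_h L747001) q22969, e3 q21478 L734911 q21866, e3 q21479 L747069 q22980, e3 q21480 (flp_h L730851) q19723, e3 q21481 (flp_h L730860) q19724, e3 q21482 (flp_h L746490) q22892, e3 q21483 (flp_h L730874) q19727, e3 q21484 L747097 q22984, e3 q21485 (flp_h L730884) q19730, e3 q21486 (flp_h L730893) q19731, e3 q21487 (flp_h L730901) q19733, e3 q21488 (flp_h L747095) q22983, e3 q21489 (flp_h L739051) q22176, e3 q21490 L747134 q22989, e3 q21491 (flp_h L730930) q19738, e3 q21492 L730942 q19755, e3 q21493 L747151 q22991, e3 q21494 (flp_h L730951) q19740, e3 q21495 (flp_h L735343) q21895, e3 q21496 L747174 q22994, e3 q21497 (flp_h L730975) q19743, e3 q21498 (flp_h L738451) q22128, e3 q21499 L747191 q22996, e3 q21500 L747197 q22997, e3 q21501 (flp_h L731008) q19746, e3 q21502 L747211 q22999, e3 q21503 (flp_h L731024)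 q19749, trivial⟩ (by decide +kernel)

theorem ce_h_336 : ∀ r, r < 64 → sm gh (Qf (21504 + r)) = Qf (tab Gen.h (21504 + r)) :=
  edges_tab (sm gh) Qf (tab Gen.h) 21504 [(21504, 22903), (21505, 19785), (21506, 23003), (21507, 23004), (21508, 19753), (21509, 23006), (21510, 19756), (21511, 19757), (21512, 23007), (21513, 22911), (21514, 22912), (21515, 23012), (21516, 19762), (21517, 19764), (21518, 21518), (21519, 19766), (21520, 19768), (21521, 21521), (21522, 21522), (21523, 19773), (21524, 19774), (21525, 23017), (21526, 19777), (21527, 19778), (21528, 19780), (21529, 23019), (21530, 23022), (21531, 19784), (21532, 23023), (21533, 19786), (21534, 23025), (21535, 19789), (21536, 19790), (21537, 22927), (21538, 23028), (21539, 19794), (21540, 23029), (21541, 19796), (21542, 23031), (21543, 19799), (21544, 23032), (21545, 22930), (21546, 19802), (21547, 19805), (21548, 19806), (21549, 22509), (21550, 23036), (21551, 22586), (21552, 23038), (21553, 19810), (21554, 19811), (21555, 23041), (21556, 19812), (21557, 19944), (21558,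 19841), (21559, 19860), (21560, 23046), (21561, 19816), (21562, 23047), (21563, 19818), (21564, 23049), (21565, 19821), (21566, 23050), (21567, 19823)]
    ⟨e3 q21504 (flp_h L746578) q22903, e3 q21505 L731048 q19785, e3 q21506 L747246 q23003, e3 q21507 L747258 q23004, e3 q21508 (flp_h L731073) q19753, e3 q21509 L747272 q23006, e3 q21510 (flp_h L731086) q19756, e3 q21511 (flp_h L731090) q19757, e3 q21512 (flp_h L747279) q23007, e3 q21513 (flp_h L746634) q22911, e3 q21514 (flp_h L746640) q22912, e3 q21515 L747297 q23012, e3 q21516 (flp_h L731121) q19762, e3 q21517 (flp_h L731132) q19764, e3 q21518 L731145 q21518, e3 q21519 (flp_h L731146) q19766, e3 q21520 (flp_h L731155) q19768, e3 q21521 L731169 q21521, e3 q21522 L731174 q21522, e3 q21523 (flp_h L731175) q19773, e3 q21524 (flp_h L731180) q19774, e3 q21525 L747332 q23017, e3 q21526 (flp_h L731199) q19777, e3 q21527 (flp_h L731207) q19778, e3 q21528 (flp_h L731213) q19780, e3 q21529 (flp_h L747352) q23019, e3 q21530 L747368 q23022, e3 q21531 (flp_h L731239) q19784, e3 q21532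 L747378 q23023, e3 q21533 (flp_h L731255) q19786, e3 q21534 L747391 q23025, e3 q21535 (flp_h L731271) q19789, e3 q21536 (flp_h L731279) q19790, e3 q21537 (flp_h L746750) q22927, e3 q21538 L747411 q23028, e3 q21539 (flp_h L731303) q19794, e3 q21540 L747419 q23029, e3 q21541 (flp_h L731319) q19796, e3 q21542 L747429 q23031, e3 q21543 (flp_h L731331) q19799, e3 q21544 (flp_h L747441) q23032, e3 q21545 (flp_h L746766) q22930, e3 q21546 (flp_h L731345) q19802, e3 q21547 (flp_h L731356) q19805, e3 q21548 (flp_h L731362) q19806, e3 q21549 L742746 q22509, e3 q21550 L747461 q23036, e3 q21551 (flp_h L743604) q22586, e3 q21552 L747479 q23038, e3 q21553 (flp_h L731402) q19810, e3 q21554 (flp_h L731408) q19811, e3 q21555 L747499 q23041, e3 q21556 (flp_h L731422) q19812, e3 q21557 L731432 q19944, e3 q21558 L731436 q19841, e3 q21559 L731442 q19860, e3 q21560 L747522 q23046, e3 q21561 (flp_h L731453) q19816, e3 q21562 L747532 q23047, e3 q21563 (flp_h L731467) q19818, e3 q21564 L747545 q23049, e3 q21565 (flp_h L731483) q19821, e3 q21566 L747555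 q23050, e3 q21567 (flp_h L731503) q19823, trivial⟩ (by decide +kernel)

theorem ce_h_337 : ∀ r, r < 64 → sm gh (Qf (21568 + r)) = Qf (tab Gen.h (21568 + r)) :=
  edges_tab (sm gh) Qf (tab Gen.h) 21568 [(21568, 22811), (21569, 23053), (21570, 19827), (21571, 21971), (21572, 22455), (21573, 23056), (21574, 23057), (21575, 19830), (21576, 23059), (21577, 19832), (21578, 23062), (21579, 23063), (21580, 19834), (21581, 19891), (21582, 23066), (21583, 19836), (21584, 23064), (21585, 23069), (21586, 19839), (21587, 22799), (21588, 23044), (21589, 19842), (21590, 19843), (21591, 21591), (21592, 19847), (21593, 21593), (21594, 23076), (21595, 19850), (21596, 21596), (21597, 19853), (21598, 21598), (21599, 19856), (21600, 21600), (21601, 23080), (21602, 19861), (21603, 23082), (21604, 19864), (21605, 22945), (21606, 23085), (21607, 19867), (21608, 19869), (21609, 19870), (21610, 23087), (21611, 19881), (21612, 23092), (21613, 19874), (21614, 22690), (21615, 22950), (21616, 23096), (21617, 19878), (21618, 22457), (21619, 23091), (21620,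 23099), (21621, 19883), (21622, 23090), (21623, 19886), (21624, 23103), (21625, 23104), (21626, 19888), (21627, 19889), (21628, 19894), (21629, 23108), (21630, 19892), (21631, 23105)]
    ⟨e3 q21568 (flp_h L745825) q22811, e3 q21569 L747573 q23053, e3 q21570 (flp_h L731525) q19827, e3 q21571 (flp_h L736328) q21971, e3 q21572 (flp_h L742151) q22455, e3 q21573 L747596 q23056, e3 q21574 L747602 q23057, e3 q21575 (flp_h L731560) q19830, e3 q21576 L747618 q23059, e3 q21577 (flp_h L731573) q19832, e3 q21578 L747639 q23062, e3 q21579 L747644 q23063, e3 q21580 (flp_h L731593) q19834, e3 q21581 L731603 q19891, e3 q21582 L747662 q23066, e3 q21583 (flp_h L731613) q19836, e3 q21584 (flp_h L747652) q23064, e3 q21585 L747684 q23069, e3 q21586 (flp_h L731633) q19839, e3 q21587 (flp_h L745718) q22799, e3 q21588 (flp_h L747513) q23044, e3 q21589 (flp_h L731651) q19842, e3 q21590 (flp_h L731662) q19843, e3 q21591 L731682 q21591, e3 q21592 (flp_h L731683) q19847, e3 q21593 L731699 q21593, e3 q21594 L747738 q23076, e3 q21595 (flp_h L731709) q19850,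 e3 q21596 L731725 q21596, e3 q21597 (flp_h L731726) q19853, e3 q21598 L731739 q21598, e3 q21599 (flp_h L731742) q19856, e3 q21600 L731757 q21600, e3 q21601 L747772 q23080, e3 q21602 (flp_h L731765) q19861, e3 q21603 L747783 q23082, e3 q21604 (flp_h L731780) q19864, e3 q21605 (flp_h L746859) q22945, e3 q21606 L747798 q23085, e3 q21607 (flp_h L731801) q19867, e3 q21608 (flp_h L731809) q19869, e3 q21609 (flp_h L731817) q19870, e3 q21610 (flp_h L747826) q23087, e3 q21611 L731837 q19881, e3 q21612 L747860 q23092, e3 q21613 (flp_h L731847) q19874, e3 q21614 (flp_h L744584) q22690, e3 q21615 (flp_h L746893) q22950, e3 q21616 L747882 q23096, e3 q21617 (flp_h L731871) q19878, e3 q21618 (flp_h L742176) q22457, e3 q21619 (flp_h L747856) q23091, e3 q21620 L747904 q23099, e3 q21621 (flp_h L731905) q19883, e3 q21622 (flp_h L747846) q23090, e3 q21623 (flp_h L731917) q19886, e3 q21624 L747926 q23103, e3 q21625 L747932 q23104, e3 q21626 (flp_h L731937) q19888, e3 q21627 (flp_h L731943) q19889, e3 q21628 L731951 q19894, e3 q21629 L747954 q23108,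 e3 q21630 (flp_h L731961) q19892, e3 q21631 (flp_h L747944) q23105, trivial⟩ (by decide +kernel)

theorem ce_h_338 : ∀ r, r < 64 → sm gh (Qf (21632 + r)) = Qf (tab Gen.h (21632 + r)) :=
  edges_tab (sm gh) Qf (tab Gen.h) 21632 [(21632, 23107), (21633, 23086), (21634, 19928), (21635, 19896), (21636, 22965), (21637, 22966), (21638, 22967), (21639, 23119), (21640, 19901), (21641, 19903), (21642, 19982), (21643, 19986), (21644, 19972), (21645, 19929), (21646, 19908), (21647, 19910), (21648, 19912), (21649, 19989), (21650, 19990), (21651, 19915), (21652, 19991), (21653, 19992), (21654, 19993), (21655, 19921), (21656, 19995), (21657, 19981), (21658, 23124), (21659, 23018), (21660, 23133), (21661, 19932), (21662, 23134), (21663, 19934), (21664, 19937), (21665, 23137), (21666, 19939), (21667, 23039), (21668, 23141), (21669, 19942), (21670, 23142), (21671, 23043), (21672, 19945), (21673, 23144), (21674, 19947), (21675, 19948), (21676, 19953), (21677, 21677), (21678, 19968), (21679, 19969), (21680, 19970), (21681, 23123), (21682, 23147),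 (21683, 19974), (21684, 19975), (21685, 19980), (21686, 21686), (21687, 23148), (21688, 23128), (21689, 23150), (21690, 23131), (21691, 23121), (21692, 23120), (21693, 23122), (21694, 23125), (21695, 23126)]
    ⟨e3 q21632 (flp_h L747952) q23107, e3 q21633 (flp_h L747816) q23086, e3 q21634 L731983 q19928, e3 q21635 (flp_h L731987) q19896, e3 q21636 (flp_h L746981) q22965, e3 q21637 (flp_h L746987) q22966, e3 q21638 (flp_h L746991) q22967, e3 q21639 L748002 q23119, e3 q21640 (flp_h L732013) q19901, e3 q21641 (flp_h L732022) q19903, e3 q21642 L732039 q19982, e3 q21643 L732047 q19986, e3 q21644 L732056 q19972, e3 q21645 L732066 q19929, e3 q21646 (flp_h L732068) q19908, e3 q21647 (flp_h L732075) q19910, e3 q21648 (flp_h L732081) q19912, e3 q21649 L732095 q19989, e3 q21650 L732103 q19990, e3 q21651 (flp_h L732105) q19915, e3 q21652 L732119 q19991, e3 q21653 L732123 q19992, e3 q21654 L732129 q19993, e3 q21655 (flp_h L732131) q19921, e3 q21656 L732146 q19995, e3 q21657 L732155 q19981, e3 q21658 (flp_h L748049) q23124, e3 q21659 (flp_h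 L747346) q23018, e3 q21660 L748112 q23133, e3 q21661 (flp_h L732187) q19932, e3 q21662 L748127 q23134, e3 q21663 (flp_h L732210) q19934, e3 q21664 (flp_h L732220) q19937, e3 q21665 L748151 q23137, e3 q21666 (flp_h L732239) q19939, e3 q21667 (flp_h L747491) q23039, e3 q21668 L748173 q23141, e3 q21669 (flp_h L732261) q19942, e3 q21670 (flp_h L748183) q23142, e3 q21671 (flp_h L747509) q23043, e3 q21672 (flp_h L732273) q19945, e3 q21673 L748190 q23144, e3 q21674 (flp_h L732284) q19947, e3 q21675 (flp_h L732289) q19948, e3 q21676 L732299 q19953, e3 q21677 L732306 q21677, e3 q21678 L732314 q19968, e3 q21679 L732326 q19969, e3 q21680 (flp_h L732331) q19970, e3 q21681 (flp_h L748043) q23123, e3 q21682 L748214 q23147, e3 q21683 (flp_h L732357) q19974, e3 q21684 (flp_h L732362) q19975, e3 q21685 L732372 q19980, e3 q21686 L732379 q21686, e3 q21687 (flp_h L748226) q23148, e3 q21688 (flp_h L748082) q23128, e3 q21689 (flp_h L748237) q23150, e3 q21690 (flp_h L748105) q23131, e3 q21691 (flp_h L748027) q23121, e3 q21692 (flp_h L748018) q23120,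 e3 q21693 (flp_h L748033) q23122, e3 q21694 (flp_h L748060) q23125, e3 q21695 (flp_h L748066) q23126, trivial⟩ (by decide +kernel)

theorem ce_h_339 : ∀ r, r < 64 → sm gh (Qf (21696 + r)) = Qf (tab Gen.h (21696 + r)) :=
  edges_tab (sm gh) Qf (tab Gen.h) 21696 [(21696, 23127), (21697, 23129), (21698, 23130), (21699, 19999), (21700, 20000), (21701, 23157), (21702, 20002), (21703, 20010), (21704, 20012), (21705, 20014), (21706, 20017), (21707, 23159), (21708, 21708), (21709, 20021), (21710, 20024), (21711, 20025), (21712, 23160), (21713, 20036), (21714, 23162), (21715, 20027), (21716, 23163), (21717, 20029), (21718, 21718), (21719, 20695), (21720, 23166), (21721, 20033), (21722, 20699), (21723, 23168), (21724, 20035), (21725, 23169), (21726, 20037), (21727, 23171), (21728, 20040), (21729, 23172), (21730, 20090), (21731, 23174), (21732, 20044), (21733, 23175), (21734, 20046), (21735, 20048), (21736, 20057), (21737, 20050), (21738, 20051), (21739, 20058), (21740, 23176), (21741, 23177), (21742, 23180), (21743, 20062), (21744,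 20065), (21745, 20066), (21746, 20068), (21747, 23182), (21748, 20072), (21749, 23183), (21750, 20074), (21751, 23185), (21752, 20078), (21753, 21753), (21754, 20080), (21755, 21755), (21756, 20083), (21757, 20085), (21758, 20677), (21759, 23191)]
    ⟨e3 q21696 (flp_h L748072) q23127, e3 q21697 (flp_h L748088) q23129, e3 q21698 (flp_h L748092) q23130, e3 q21699 L732468 q19999, e3 q21700 L732475 q20000, e3 q21701 (flp_h L748289) q23157, e3 q21702 (flp_h L732482) q20002, e3 q21703 (flp_h L732500) q20010, e3 q21704 (flp_h L732518) q20012, e3 q21705 (flp_h L732538) q20014, e3 q21706 L732572 q20017, e3 q21707 (flp_h L748322) q23159, e3 q21708 L732606 q21708, e3 q21709 (flp_h L732607) q20021, e3 q21710 L732645 q20024, e3 q21711 L732657 q20025, e3 q21712 (flp_h L748342) q23160, e3 q21713 L732692 q20036, e3 q21714 L748368 q23162, e3 q21715 (flp_h L732714) q20027, e3 q21716 L748384 q23163, e3 q21717 (flp_h L732747) q20029, e3 q21718 L732777 q21718, e3 q21719 L732790 q20695, e3 q21720 L748435 q23166, e3 q21721 (flp_h L732812) q20033,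 e3 q21722 L732842 q20699, e3 q21723 L748469 q23168, e3 q21724 (flp_h L732864) q20035, e3 q21725 L748485 q23169, e3 q21726 (flp_h L732896) q20037, e3 q21727 L748509 q23171, e3 q21728 (flp_h L732922) q20040, e3 q21729 L748527 q23172, e3 q21730 L732969 q20090, e3 q21731 L748564 q23174, e3 q21732 (flp_h L732990) q20044, e3 q21733 L748582 q23175, e3 q21734 (flp_h L733019) q20046, e3 q21735 (flp_h L733035) q20048, e3 q21736 L733057 q20057, e3 q21737 (flp_h L733059) q20050, e3 q21738 (flp_h L733077) q20051, e3 q21739 L733103 q20058, e3 q21740 (flp_h L748610) q23176, e3 q21741 (flp_h L748622) q23177, e3 q21742 L748659 q23180, e3 q21743 (flp_h L733156) q20062, e3 q21744 L733192 q20065, e3 q21745 (flp_h L733194) q20066, e3 q21746 (flp_h L733210) q20068, e3 q21747 L748693 q23182, e3 q21748 (flp_h L733248) q20072, e3 q21749 L748711 q23183, e3 q21750 (flp_h L733284) q20074, e3 q21751 L748741 q23185, e3 q21752 (flp_h L733313) q20078, e3 q21753 L733341 q21753, e3 q21754 (flp_h L733342) q20080, e3 q21755 L733372 q21755, e3 q21756 (flp_h L733373)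 q20083, e3 q21757 (flp_h L733387) q20085, e3 q21758 L733419 q20677, e3 q21759 L748837 q23191, trivial⟩ (by decide +kernel)

theorem ce_h_340 : ∀ r, r < 64 → sm gh (Qf (21760 + r)) = Qf (tab Gen.h (21760 + r)) :=
  edges_tab (sm gh) Qf (tab Gen.h) 21760 [(21760, 20088), (21761, 20314), (21762, 23194), (21763, 20091), (21764, 20102), (21765, 20103), (21766, 20094), (21767, 20096), (21768, 20104), (21769, 20105), (21770, 23195), (21771, 23196), (21772, 23197), (21773, 23198), (21774, 20220), (21775, 23204), (21776, 21179), (21777, 21180), (21778, 23210), (21779, 21182), (21780, 23212), (21781, 20110), (21782, 20130), (21783, 23214), (21784, 20132), (21785, 23217), (21786, 20134), (21787, 23220), (21788, 20115), (21789, 23221), (21790, 23223), (21791, 20117), (21792, 23225), (21793, 20119), (21794, 20121), (21795, 20148), (21796, 23229), (21797, 20123), (21798, 21798), (21799, 20126), (21800, 21800), (21801, 21801), (21802, 21802), (21803, 23234), (21804, 20131), (21805, 21185), (21806, 23236), (21807, 20133), (21808, 23218),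 (21809, 23239), (21810, 20135), (21811, 23241), (21812, 23243), (21813, 20138), (21814, 23245), (21815, 20139), (21816, 23248), (21817, 23249), (21818, 20141), (21819, 20174), (21820, 20143), (21821, 23170), (21822, 23254), (21823, 20146)]
    ⟨e3 q21760 (flp_h L733439) q20088, e3 q21761 L733459 q20314, e3 q21762 L748871 q23194, e3 q21763 (flp_h L733477) q20091, e3 q21764 L733499 q20102, e3 q21765 L733509 q20103, e3 q21766 (flp_h L733515) q20094, e3 q21767 (flp_h L733533) q20096, e3 q21768 L733561 q20104, e3 q21769 L733571 q20105, e3 q21770 (flp_h L748901) q23195, e3 q21771 (flp_h L748913) q23196, e3 q21772 (flp_h L748927) q23197, e3 q21773 (flp_h L748939) q23198, e3 q21774 L733645 q20220, e3 q21775 L749023 q23204, e3 q21776 L733672 q21179, e3 q21777 L733688 q21180, e3 q21778 L749118 q23210, e3 q21779 L733710 q21182, e3 q21780 L749144 q23212, e3 q21781 (flp_h L733727) q20110, e3 q21782 L733752 q20130, e3 q21783 L749174 q23214, e3 q21784 L733785 q20132, e3 q21785 L749224 q23217, e3 q21786 L733814 q20134, e3 q21787 L749272 q23220,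 e3 q21788 (flp_h L733828) q20115, e3 q21789 L749284 q23221, e3 q21790 L749314 q23223, e3 q21791 (flp_h L733867) q20117, e3 q21792 L749345 q23225, e3 q21793 (flp_h L733895) q20119, e3 q21794 (flp_h L733907) q20121, e3 q21795 L733931 q20148, e3 q21796 L749401 q23229, e3 q21797 (flp_h L733949) q20123, e3 q21798 L733976 q21798, e3 q21799 (flp_h L733977) q20126, e3 q21800 L734003 q21800, e3 q21801 L734013 q21801, e3 q21802 L734029 q21802, e3 q21803 L749472 q23234, e3 q21804 (flp_h L734054) q20131, e3 q21805 L734081 q21185, e3 q21806 L749504 q23236, e3 q21807 (flp_h L734101) q20133, e3 q21808 (flp_h L749252) q23218, e3 q21809 L749550 q23239, e3 q21810 (flp_h L734141) q20135, e3 q21811 L749572 q23241, e3 q21812 L749608 q23243, e3 q21813 (flp_h L734183) q20138, e3 q21814 L749644 q23245, e3 q21815 (flp_h L734214) q20139, e3 q21816 L749690 q23248, e3 q21817 L749702 q23249, e3 q21818 (flp_h L734254) q20141, e3 q21819 L734274 q20174, e3 q21820 (flp_h L734276) q20143, e3 q21821 (flp_h L748507) q23170, e3 q21822 L749752 q23254, e3 q21823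 (flp_h L734311) q20146, trivial⟩ (by decide +kernel)

theorem ce_h_341 : ∀ r, r < 64 → sm gh (Qf (21824 + r)) = Qf (tab Gen.h (21824 + r)) :=
  edges_tab (sm gh) Qf (tab Gen.h) 21824 [(21824, 20175), (21825, 23257), (21826, 20149), (21827, 20163), (21828, 20176), (21829, 20152), (21830, 21830), (21831, 20177), (21832, 20164), (21833, 20165), (21834, 21834), (21835, 21835), (21836, 20166), (21837, 20161), (21838, 23258), (21839, 23259), (21840, 23264), (21841, 23265), (21842, 23266), (21843, 23237), (21844, 20168), (21845, 23274), (21846, 20169), (21847, 23244), (21848, 23277), (21849, 20172), (21850, 23278), (21851, 23251), (21852, 23256), (21853, 23263), (21854, 20189), (21855, 23283), (21856, 23284), (21857, 20183), (21858, 20184), (21859, 20739), (21860, 20775), (21861, 23289), (21862, 20807), (21863, 23291), (21864, 23292), (21865, 20190), (21866, 21478), (21867, 23294), (21868, 20192), (21869, 23296), (21870, 20194), (21871, 20196), (21872, 21872), (21873, 20199), (21874, 20204), (21875, 23299), (21876, 21123), (21877,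 23302), (21878, 20206), (21879, 23303), (21880, 20208), (21881, 21234), (21882, 23305), (21883, 20210), (21884, 23307), (21885, 20212), (21886, 21886), (21887, 20216)]
    ⟨e3 q21824 L734337 q20175, e3 q21825 L749791 q23257, e3 q21826 (flp_h L734352) q20149, e3 q21827 L734373 q20163, e3 q21828 L734389 q20176, e3 q21829 (flp_h L734393) q20152, e3 q21830 L734417 q21830, e3 q21831 L734428 q20177, e3 q21832 L734440 q20164, e3 q21833 L734450 q20165, e3 q21834 L734459 q21834, e3 q21835 L734477 q21835, e3 q21836 L734495 q20166, e3 q21837 (flp_h L734501) q20161, e3 q21838 (flp_h L749812) q23258, e3 q21839 (flp_h L749823) q23259, e3 q21840 (flp_h L749888) q23264, e3 q21841 (flp_h L749898) q23265, e3 q21842 (flp_h L749912) q23266, e3 q21843 (flp_h L749532) q23237, e3 q21844 (flp_h L734590) q20168, e3 q21845 L750011 q23274, e3 q21846 (flp_h L734619) q20169, e3 q21847 (flp_h L749642) q23244, e3 q21848 L750053 q23277, e3 q21849 (flp_h L734662) q20172, e3 q21850 (flp_h L750077) q23278, e3 q21851 (flp_h L749732) q23251, e3 q21852 (flp_h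 L749789) q23256, e3 q21853 (flp_h L749878) q23263, e3 q21854 L734729 q20189, e3 q21855 L750133 q23283, e3 q21856 L750151 q23284, e3 q21857 (flp_h L734767) q20183, e3 q21858 (flp_h L734783) q20184, e3 q21859 L734809 q20739, e3 q21860 L734824 q20775, e3 q21861 L750230 q23289, e3 q21862 L734851 q20807, e3 q21863 L750261 q23291, e3 q21864 L750275 q23292, e3 q21865 (flp_h L734884) q20190, e3 q21866 (flp_h L734911) q21478, e3 q21867 L750304 q23294, e3 q21868 (flp_h L734927) q20192, e3 q21869 L750335 q23296, e3 q21870 (flp_h L734959) q20194, e3 q21871 (flp_h L734969) q20196, e3 q21872 L734998 q21872, e3 q21873 (flp_h L734999) q20199, e3 q21874 L735031 q20204, e3 q21875 (flp_h L750395) q23299, e3 q21876 L735060 q21123, e3 q21877 L750431 q23302, e3 q21878 (flp_h L735079) q20206, e3 q21879 L750445 q23303, e3 q21880 (flp_h L735106) q20208, e3 q21881 L735135 q21234, e3 q21882 L750476 q23305, e3 q21883 (flp_h L735153) q20210, e3 q21884 L750511 q23307, e3 q21885 (flp_h L735185) q20212, e3 q21886 L735211 q21886, e3 q21887 (flp_h L735212)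 q20216, trivial⟩ (by decide +kernel)

theorem ce_h_342 : ∀ r, r < 64 → sm gh (Qf (21888 + r)) = Qf (tab Gen.h (21888 + r)) :=
  edges_tab (sm gh) Qf (tab Gen.h) 21888 [(21888, 21888), (21889, 23202), (21890, 23311), (21891, 20221), (21892, 20222), (21893, 20224), (21894, 20242), (21895, 21495), (21896, 23316), (21897, 20227), (21898, 23181), (21899, 23319), (21900, 20231), (21901, 20239), (21902, 20234), (21903, 20241), (21904, 20237), (21905, 23320), (21906, 23321), (21907, 23322), (21908, 23314), (21909, 20919), (21910, 21187), (21911, 23330), (21912, 21406), (21913, 23333), (21914, 20245), (21915, 20913), (21916, 21193), (21917, 23337), (21918, 21173), (21919, 21196), (21920, 23340), (21921, 20248), (21922, 23342), (21923, 20250), (21924, 20288), (21925, 23346), (21926, 20253), (21927, 20292), (21928, 23348), (21929, 21101), (21930, 23350), (21931, 20256), (21932, 20296), (21933, 23353), (21934, 20258), (21935, 20980), (21936, 23356), (21937, 20261), (21938, 20977), (21939, 20262), (21940, 23360), (21941, 23361), (21942,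 20264), (21943, 21943), (21944, 20311), (21945, 23365), (21946, 20267), (21947, 23343), (21948, 20269), (21949, 21949), (21950, 23370), (21951, 20272)]
    ⟨e3 q21888 L735244 q21888, e3 q21889 (flp_h L749002) q23202, e3 q21890 L750571 q23311, e3 q21891 (flp_h L735272) q20221, e3 q21892 (flp_h L735285) q20222, e3 q21893 (flp_h L735297) q20224, e3 q21894 L735327 q20242, e3 q21895 L735343 q21495, e3 q21896 L750643 q23316, e3 q21897 (flp_h L735363) q20227, e3 q21898 (flp_h L748691) q23181, e3 q21899 L750677 q23319, e3 q21900 (flp_h L735399) q20231, e3 q21901 L735423 q20239, e3 q21902 (flp_h L735425) q20234, e3 q21903 L735454 q20241, e3 q21904 (flp_h L735456) q20237, e3 q21905 (flp_h L750707) q23320, e3 q21906 (flp_h L750717) q23321, e3 q21907 (flp_h L750736) q23322, e3 q21908 (flp_h L750621) q23314, e3 q21909 L735538 q20919, e3 q21910 L735554 q21187, e3 q21911 L750846 q23330, e3 q21912 L735578 q21406, e3 q21913 L750889 q23333, e3 q21914 (flp_h L735593) q20245, e3 q21915 L735614 q20913, e3 q21916 L735626 q21193, e3 q21917 L750943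 q23337, e3 q21918 L735647 q21173, e3 q21919 L735655 q21196, e3 q21920 L750976 q23340, e3 q21921 (flp_h L735670) q20248, e3 q21922 L750998 q23342, e3 q21923 (flp_h L735692) q20250, e3 q21924 L735710 q20288, e3 q21925 L751047 q23346, e3 q21926 (flp_h L735725) q20253, e3 q21927 L735746 q20292, e3 q21928 L751075 q23348, e3 q21929 L735776 q21101, e3 q21930 L751102 q23350, e3 q21931 (flp_h L735790) q20256, e3 q21932 L735812 q20296, e3 q21933 L751141 q23353, e3 q21934 (flp_h L735830) q20258, e3 q21935 L735853 q20980, e3 q21936 L751182 q23356, e3 q21937 (flp_h L735871) q20261, e3 q21938 (flp_h L735899) q20977, e3 q21939 (flp_h L735901) q20262, e3 q21940 L751246 q23360, e3 q21941 L751251 q23361, e3 q21942 (flp_h L735941) q20264, e3 q21943 L735959 q21943, e3 q21944 L735974 q20311, e3 q21945 L751300 q23365, e3 q21946 (flp_h L735994) q20267, e3 q21947 (flp_h L751017) q23343, e3 q21948 (flp_h L736012) q20269, e3 q21949 L736036 q21949, e3 q21950 L751360 q23370, e3 q21951 (flp_h L736051) q20272, trivial⟩ (by decide +kernel)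

theorem ce_h_343 : ∀ r, r < 64 → sm gh (Qf (21952 + r)) = Qf (tab Gen.h (21952 + r)) :=
  edges_tab (sm gh) Qf (tab Gen.h) 21952 [(21952, 21952), (21953, 21953), (21954, 20275), (21955, 21955), (21956, 23374), (21957, 20279), (21958, 21958), (21959, 21959), (21960, 20284), (21961, 21961), (21962, 23344), (21963, 23381), (21964, 20289), (21965, 20989), (21966, 23384), (21967, 23385), (21968, 20293), (21969, 20294), (21970, 20355), (21971, 21571), (21972, 23390), (21973, 20297), (21974, 23188), (21975, 21300), (21976, 23394), (21977, 20300), (21978, 20301), (21979, 23397), (21980, 23398), (21981, 20303), (21982, 20362), (21983, 23401), (21984, 20306), (21985, 20942), (21986, 23404), (21987, 20308), (21988, 23402), (21989, 20366), (21990, 23409), (21991, 20312), (21992, 23192), (21993, 23193), (21994, 20315), (21995, 20368), (21996, 20369), (21997, 23417), (21998, 20319), (21999, 20344), (22000, 20345), (22001, 20352), (22002, 20323), (22003, 20370), (22004, 23423), (22005, 20327), (22006, 20371), (22007, 20330), (22008, 20347),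 (22009, 20348), (22010, 20349), (22011, 20350), (22012, 20336), (22013, 20372), (22014, 20351), (22015, 20342)]
    ⟨e3 q21952 L736076 q21952, e3 q21953 L736091 q21953, e3 q21954 (flp_h L736092) q20275, e3 q21955 L736118 q21955, e3 q21956 L751415 q23374, e3 q21957 (flp_h L736138) q20279, e3 q21958 L736160 q21958, e3 q21959 L736167 q21959, e3 q21960 (flp_h L736174) q20284, e3 q21961 L736203 q21961, e3 q21962 (flp_h L751030) q23344, e3 q21963 L751516 q23381, e3 q21964 (flp_h L736226) q20289, e3 q21965 L736248 q20989, e3 q21966 L751551 q23384, e3 q21967 L751567 q23385, e3 q21968 (flp_h L736284) q20293, e3 q21969 (flp_h L736294) q20294, e3 q21970 L736314 q20355, e3 q21971 L736328 q21571, e3 q21972 L751623 q23390, e3 q21973 (flp_h L736346) q20297, e3 q21974 (flp_h L748799) q23188, e3 q21975 (flp_h L736382) q21300, e3 q21976 L751669 q23394, e3 q21977 (flp_h L736398) q20300, e3 q21978 (flp_h L736412) q20301, e3 q21979 L751719 q23397, e3 q21980 L751733 q23398, e3 q21981 (flp_h L736464) q20303, e3 q21982 L736482 q20362, e3 q21983 L751765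 q23401, e3 q21984 (flp_h L736498) q20306, e3 q21985 L736526 q20942, e3 q21986 L751811 q23404, e3 q21987 (flp_h L736546) q20308, e3 q21988 (flp_h L751791) q23402, e3 q21989 L736566 q20366, e3 q21990 L751859 q23409, e3 q21991 (flp_h L736578) q20312, e3 q21992 (flp_h L748863) q23192, e3 q21993 (flp_h L748869) q23193, e3 q21994 (flp_h L736598) q20315, e3 q21995 L736620 q20368, e3 q21996 L736629 q20369, e3 q21997 L751937 q23417, e3 q21998 (flp_h L736648) q20319, e3 q21999 L736669 q20344, e3 q22000 L736678 q20345, e3 q22001 L736696 q20352, e3 q22002 (flp_h L736698) q20323, e3 q22003 L736726 q20370, e3 q22004 L752022 q23423, e3 q22005 (flp_h L736748) q20327, e3 q22006 L736770 q20371, e3 q22007 (flp_h L736772) q20330, e3 q22008 L736788 q20347, e3 q22009 L736796 q20348, e3 q22010 L736804 q20349, e3 q22011 L736812 q20350, e3 q22012 (flp_h L736820) q20336, e3 q22013 L736847 q20372, e3 q22014 L736862 q20351, e3 q22015 (flp_h L736864) q20342, trivial⟩ (by decide +kernel)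

theorem ce_h_344 : ∀ r, r < 64 → sm gh (Qf (22016 + r)) = Qf (tab Gen.h (22016 + r)) :=
  edges_tab (sm gh) Qf (tab Gen.h) 22016 [(22016, 23418), (22017, 23419), (22018, 23420), (22019, 23421), (22020, 23425), (22021, 23395), (22022, 23426), (22023, 23427), (22024, 23428), (22025, 23414), (22026, 20353), (22027, 23386), (22028, 23388), (22029, 23440), (22030, 20357), (22031, 23442), (22032, 20360), (22033, 23443), (22034, 23400), (22035, 20363), (22036, 20365), (22037, 23447), (22038, 23408), (22039, 23415), (22040, 23416), (22041, 23422), (22042, 23424), (22043, 20376), (22044, 20378), (22045, 20379), (22046, 20380), (22047, 20382), (22048, 20387), (22049, 20386), (22050, 20389), (22051, 22051), (22052, 20391), (22053, 22053), (22054, 20401), (22055, 20402), (22056, 20399), (22057, 20400), (22058, 20405), (22059, 22059), (22060, 20407), (22061, 20408), (22062, 20410), (22063, 20411), (22064, 22064), (22065, 22065), (22066, 20417), (22067, 20425), (22068, 22068), (22069, 20426), (22070, 20424), (22071, 23460), (22072, 23461),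 (22073, 22073), (22074, 22074), (22075, 22075), (22076, 21349), (22077, 22077), (22078, 22078), (22079, 22079)]
    ⟨e3 q22016 (flp_h L751963) q23418, e3 q22017 (flp_h L751975) q23419, e3 q22018 (flp_h L751987) q23420, e3 q22019 (flp_h L751998) q23421, e3 q22020 (flp_h L752064) q23425, e3 q22021 (flp_h L751699) q23395, e3 q22022 (flp_h L752072) q23426, e3 q22023 (flp_h L752082) q23427, e3 q22024 (flp_h L752096) q23428, e3 q22025 (flp_h L751908) q23414, e3 q22026 (flp_h L736993) q20353, e3 q22027 (flp_h L751587) q23386, e3 q22028 (flp_h L751605) q23388, e3 q22029 L752232 q23440, e3 q22030 (flp_h L737044) q20357, e3 q22031 L752263 q23442, e3 q22032 (flp_h L737076) q20360, e3 q22033 (flp_h L752291) q23443, e3 q22034 (flp_h L751763) q23400, e3 q22035 (flp_h L737108) q20363, e3 q22036 L737134 q20365, e3 q22037 (flp_h L752344) q23447, e3 q22038 (flp_h L751855) q23408, e3 q22039 (flp_h L751921) q23415, e3 q22040 (flp_h L751935) q23416, e3 q22041 (flp_h L752016) q23422, e3 q22042 (flp_h L752048) q23424, e3 q22043 (flp_h L737205) q20376,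 e3 q22044 (flp_h L737225) q20378, e3 q22045 (flp_h L737245) q20379, e3 q22046 (flp_h L737263) q20380, e3 q22047 (flp_h L737281) q20382, e3 q22048 L737317 q20387, e3 q22049 L737335 q20386, e3 q22050 (flp_h L737337) q20389, e3 q22051 L737365 q22051, e3 q22052 (flp_h L737366) q20391, e3 q22053 L737392 q22053, e3 q22054 L737409 q20401, e3 q22055 L737423 q20402, e3 q22056 L737443 q20399, e3 q22057 L737457 q20400, e3 q22058 (flp_h L737463) q20405, e3 q22059 L737493 q22059, e3 q22060 (flp_h L737494) q20407, e3 q22061 (flp_h L737514) q20408, e3 q22062 (flp_h L737532) q20410, e3 q22063 (flp_h L737550) q20411, e3 q22064 L737580 q22064, e3 q22065 L737589 q22065, e3 q22066 (flp_h L737590) q20417, e3 q22067 L737618 q20425, e3 q22068 L737630 q22068, e3 q22069 L737641 q20426, e3 q22070 L737653 q20424, e3 q22071 (flp_h L752565) q23460, e3 q22072 (flp_h L752587) q23461, e3 q22073 L737699 q22073, e3 q22074 L737710 q22074, e3 q22075 L737727 q22075, e3 q22076 L737740 q21349, e3 q22077 L737746 q22077, e3 q22078 L737763 q22078, e3 q22079 L737768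 q22079, trivial⟩ (by decide +kernel)

theorem ce_h_345 : ∀ r, r < 64 → sm gh (Qf (22080 + r)) = Qf (tab Gen.h (22080 + r)) :=
  edges_tab (sm gh) Qf (tab Gen.h) 22080 [(22080, 22080), (22081, 22081), (22082, 22082), (22083, 20449), (22084, 22084), (22085, 22085), (22086, 22086), (22087, 20450), (22088, 20591), (22089, 23467), (22090, 23468), (22091, 20455), (22092, 20456), (22093, 20472), (22094, 23470), (22095, 20474), (22096, 23472), (22097, 20476), (22098, 23474), (22099, 20462), (22100, 20463), (22101, 20464), (22102, 23476), (22103, 20466), (22104, 22104), (22105, 22105), (22106, 20553), (22107, 23479), (22108, 23480), (22109, 20473), (22110, 23481), (22111, 20475), (22112, 23483), (22113, 20477), (22114, 20489), (22115, 20481), (22116, 20487), (22117, 23485), (22118, 23482), (22119, 20777), (22120, 23491), (22121, 20779), (22122, 23493), (22123, 20492), (22124, 23494), (22125, 20494), (22126, 20517), (22127, 23496), (22128, 21498), (22129, 23498), (22130, 20497), (22131, 20522), (22132, 23501), (22133, 20499), (22134,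 20502), (22135, 22135), (22136, 23505), (22137, 20505), (22138, 22138), (22139, 22139), (22140, 22140), (22141, 20510), (22142, 22142), (22143, 22143)]
    ⟨e3 q22080 L737783 q22080, e3 q22081 L737792 q22081, e3 q22082 L737807 q22082, e3 q22083 L737818 q20449, e3 q22084 L737834 q22084, e3 q22085 L737839 q22085, e3 q22086 L737846 q22086, e3 q22087 L737855 q20450, e3 q22088 L737871 q20591, e3 q22089 L752689 q23467, e3 q22090 L752705 q23468, e3 q22091 (flp_h L737907) q20455, e3 q22092 (flp_h L737921) q20456, e3 q22093 L737947 q20472, e3 q22094 L752739 q23470, e3 q22095 L737981 q20474, e3 q22096 L752773 q23472, e3 q22097 L738012 q20476, e3 q22098 L752807 q23474, e3 q22099 (flp_h L738030) q20462, e3 q22100 (flp_h L738044) q20463, e3 q22101 (flp_h L738060) q20464, e3 q22102 L752836 q23476, e3 q22103 (flp_h L738091) q20466, e3 q22104 L738121 q22104, e3 q22105 L738136 q22105, e3 q22106 L738149 q20553, e3 q22107 L752887 q23479, e3 q22108 L752905 q23480, e3 q22109 (flp_h L738185) q20473, e3 q22110 L752917 q23481, e3 q22111 (flp_h L738213)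 q20475, e3 q22112 L752947 q23483, e3 q22113 (flp_h L738243) q20477, e3 q22114 L738265 q20489, e3 q22115 (flp_h L738267) q20481, e3 q22116 L738295 q20487, e3 q22117 (flp_h L752987) q23485, e3 q22118 (flp_h L752945) q23482, e3 q22119 L738335 q20777, e3 q22120 L753067 q23491, e3 q22121 L738355 q20779, e3 q22122 L753091 q23493, e3 q22123 (flp_h L738372) q20492, e3 q22124 L753103 q23494, e3 q22125 (flp_h L738395) q20494, e3 q22126 L738421 q20517, e3 q22127 L753133 q23496, e3 q22128 L738451 q21498, e3 q22129 L753160 q23498, e3 q22130 (flp_h L738461) q20497, e3 q22131 L738483 q20522, e3 q22132 L753199 q23501, e3 q22133 (flp_h L738495) q20499, e3 q22134 (flp_h L738503) q20502, e3 q22135 L738523 q22135, e3 q22136 L753249 q23505, e3 q22137 (flp_h L738539) q20505, e3 q22138 L738553 q22138, e3 q22139 L738568 q22139, e3 q22140 L738577 q22140, e3 q22141 (flp_h L738584) q20510, e3 q22142 L738614 q22142, e3 q22143 L738623 q22143, trivial⟩ (by decide +kernel)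

theorem ce_h_346 : ∀ r, r < 64 → sm gh (Qf (22144 + r)) = Qf (tab Gen.h (22144 + r)) :=
  edges_tab (sm gh) Qf (tab Gen.h) 22144 [(22144, 23509), (22145, 20514), (22146, 20515), (22147, 23511), (22148, 20518), (22149, 23513), (22150, 20520), (22151, 20546), (22152, 23516), (22153, 20523), (22154, 20810), (22155, 20547), (22156, 20548), (22157, 20527), (22158, 20540), (22159, 20541), (22160, 20533), (22161, 20542), (22162, 23520), (22163, 23521), (22164, 23522), (22165, 23512), (22166, 20544), (22167, 23526), (22168, 23515), (22169, 23519), (22170, 23529), (22171, 20551), (22172, 23530), (22173, 20554), (22174, 20595), (22175, 23533), (22176, 21489), (22177, 23535), (22178, 20557), (22179, 20558), (22180, 20561), (22181, 22181), (22182, 20845), (22183, 23539), (22184, 20847), (22185, 23543), (22186, 20849), (22187, 23545), (22188, 20569), (22189, 20593), (22190, 23547), (22191, 23548), (22192, 20572), (22193, 20599), (22194, 23550), (22195, 23331), (22196, 20601), (22197, 23553), (22198, 20575), (22199, 23555), (22200, 20577),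 (22201, 20579), (22202, 20581), (22203, 23558), (22204, 20583), (22205, 22205), (22206, 20585), (22207, 22207)]
    ⟨e3 q22144 L753306 q23509, e3 q22145 (flp_h L738646) q20514, e3 q22146 (flp_h L738662) q20515, e3 q22147 L753330 q23511, e3 q22148 (flp_h L738680) q20518, e3 q22149 L753358 q23513, e3 q22150 (flp_h L738708) q20520, e3 q22151 L738724 q20546, e3 q22152 L753386 q23516, e3 q22153 (flp_h L738742) q20523, e3 q22154 L738754 q20810, e3 q22155 L738770 q20547, e3 q22156 L738784 q20548, e3 q22157 (flp_h L738788) q20527, e3 q22158 L738804 q20540, e3 q22159 L738816 q20541, e3 q22160 (flp_h L738822) q20533, e3 q22161 L738850 q20542, e3 q22162 (flp_h L753442) q23520, e3 q22163 (flp_h L753454) q23521, e3 q22164 (flp_h L753462) q23522, e3 q22165 (flp_h L753356) q23512, e3 q22166 (flp_h L738906) q20544, e3 q22167 (flp_h L753527) q23526, e3 q22168 (flp_h L753384) q23515, e3 q22169 (flp_h L753426) q23519, e3 q22170 L753559 q23529, e3 q22171 (flp_h L738967) q20551, e3 q22172 L753573 q23530, e3 q22173 (flp_h L738997) q20554, e3 q22174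 L739019 q20595, e3 q22175 L753618 q23533, e3 q22176 L739051 q21489, e3 q22177 L753649 q23535, e3 q22178 (flp_h L739063) q20557, e3 q22179 (flp_h L739075) q20558, e3 q22180 (flp_h L739083) q20561, e3 q22181 L739107 q22181, e3 q22182 L739120 q20845, e3 q22183 L753696 q23539, e3 q22184 L739151 q20847, e3 q22185 L753761 q23543, e3 q22186 L739175 q20849, e3 q22187 L753789 q23545, e3 q22188 (flp_h L739192) q20569, e3 q22189 L739217 q20593, e3 q22190 L753819 q23547, e3 q22191 L753833 q23548, e3 q22192 (flp_h L739244) q20572, e3 q22193 L739266 q20599, e3 q22194 L753859 q23550, e3 q22195 (flp_h L750870) q23331, e3 q22196 L739308 q20601, e3 q22197 L753906 q23553, e3 q22198 (flp_h L739324) q20575, e3 q22199 L753929 q23555, e3 q22200 (flp_h L739344) q20577, e3 q22201 (flp_h L739354) q20579, e3 q22202 (flp_h L739370) q20581, e3 q22203 L753964 q23558, e3 q22204 (flp_h L739402) q20583, e3 q22205 L739428 q22205, e3 q22206 (flp_h L739429) q20585, e3 q22207 L739445 q22207, trivial⟩ (by decide +kernel)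

theorem ce_h_347 : ∀ r, r < 64 → sm gh (Qf (22208 + r)) = Qf (tab Gen.h (22208 + r)) :=
  edges_tab (sm gh) Qf (tab Gen.h) 22208 [(22208, 22208), (22209, 22209), (22210, 22210), (22211, 23562), (22212, 20592), (22213, 23563), (22214, 20594), (22215, 20681), (22216, 23565), (22217, 20596), (22218, 23567), (22219, 23568), (22220, 20600), (22221, 23570), (22222, 20602), (22223, 20630), (22224, 20604), (22225, 20886), (22226, 20607), (22227, 20609), (22228, 20632), (22229, 20611), (22230, 22230), (22231, 20633), (22232, 20624), (22233, 20625), (22234, 20634), (22235, 20635), (22236, 22236), (22237, 22237), (22238, 20622), (22239, 23581), (22240, 23582), (22241, 23569), (22242, 23572), (22243, 23575), (22244, 23576), (22245, 23580), (22246, 20914), (22247, 23591), (22248, 20916), (22249, 23593), (22250, 20638), (22251, 20920), (22252, 23595), (22253, 23596), (22254, 20923), (22255, 23599), (22256, 20641), (22257, 23601), (22258, 20643), (22259, 23603), (22260, 20646), (22261, 23604), (22262, 23606), (22263, 20648), (22264, 23608),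 (22265, 20650), (22266, 23489), (22267, 23611), (22268, 20653), (22269, 20654), (22270, 23614), (22271, 23615)]
    ⟨e3 q22208 L739460 q22208, e3 q22209 L739469 q22209, e3 q22210 L739484 q22210, e3 q22211 L754025 q23562, e3 q22212 (flp_h L739503) q20592, e3 q22213 L754035 q23563, e3 q22214 (flp_h L739521) q20594, e3 q22215 L739543 q20681, e3 q22216 L754063 q23565, e3 q22217 (flp_h L739563) q20596, e3 q22218 L754083 q23567, e3 q22219 L754099 q23568, e3 q22220 (flp_h L739597) q20600, e3 q22221 L754119 q23570, e3 q22222 (flp_h L739615) q20602, e3 q22223 L739633 q20630, e3 q22224 (flp_h L739635) q20604, e3 q22225 L739649 q20886, e3 q22226 (flp_h L739651) q20607, e3 q22227 (flp_h L739661) q20609, e3 q22228 L739685 q20632, e3 q22229 (flp_h L739687) q20611, e3 q22230 L739703 q22230, e3 q22231 L739714 q20633, e3 q22232 L739722 q20624, e3 q22233 L739734 q20625, e3 q22234 L739744 q20634, e3 q22235 L739762 q20635, e3 q22236 L739776 q22236, e3 q22237 L739793 q22237, e3 q22238 (flp_h L739800) q20622, e3 q22239 (flp_h L754258) q23581, e3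 q22240 (flp_h L754266) q23582, e3 q22241 (flp_h L754117) q23569, e3 q22242 (flp_h L754141) q23572, e3 q22243 (flp_h L754167) q23575, e3 q22244 (flp_h L754189) q23576, e3 q22245 (flp_h L754248) q23580, e3 q22246 L739901 q20914, e3 q22247 L754377 q23591, e3 q22248 L739923 q20916, e3 q22249 L754401 q23593, e3 q22250 (flp_h L739938) q20638, e3 q22251 L739957 q20920, e3 q22252 L754423 q23595, e3 q22253 L754434 q23596, e3 q22254 L739980 q20923, e3 q22255 L754469 q23599, e3 q22256 (flp_h L739993) q20641, e3 q22257 L754487 q23601, e3 q22258 (flp_h L740013) q20643, e3 q22259 L754508 q23603, e3 q22260 (flp_h L740035) q20646, e3 q22261 L754520 q23604, e3 q22262 L754552 q23606, e3 q22263 (flp_h L740072) q20648, e3 q22264 L754575 q23608, e3 q22265 (flp_h L740094) q20650, e3 q22266 (flp_h L753052) q23489, e3 q22267 L754610 q23611, e3 q22268 (flp_h L740133) q20653, e3 q22269 (flp_h L740149) q20654, e3 q22270 L754652 q23614, e3 q22271 L754657 q23615, trivial⟩ (by decide +kernel)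

theorem ce_h_348 : ∀ r, r < 64 → sm gh (Qf (22272 + r)) = Qf (tab Gen.h (22272 + r)) :=
  edges_tab (sm gh) Qf (tab Gen.h) 22272 [(22272, 20656), (22273, 22273), (22274, 23618), (22275, 20659), (22276, 23602), (22277, 22277), (22278, 20662), (22279, 22279), (22280, 22280), (22281, 20665), (22282, 21376), (22283, 22283), (22284, 20668), (22285, 22285), (22286, 22286), (22287, 22287), (22288, 22288), (22289, 23628), (22290, 20678), (22291, 23630), (22292, 20680), (22293, 23633), (22294, 23634), (22295, 20682), (22296, 20738), (22297, 20684), (22298, 21002), (22299, 23285), (22300, 23640), (22301, 20687), (22302, 23488), (22303, 20688), (22304, 23643), (22305, 23644), (22306, 20690), (22307, 20745), (22308, 20692), (22309, 23648), (22310, 23649), (22311, 20694), (22312, 23651), (22313, 20696), (22314, 23650), (22315, 20749), (22316, 23656), (22317, 20700), (22318, 21023), (22319, 21024), (22320, 20703), (22321, 22321), (22322, 20729), (22323, 20709), (22324, 22324), (22325, 20734), (22326, 20712), (22327, 22327), (22328, 22328),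 (22329, 22329), (22330, 20751), (22331, 20716), (22332, 20730), (22333, 20731), (22334, 20732), (22335, 20733)]
    ⟨e3 q22272 (flp_h L740173) q20656, e3 q22273 L740191 q22273, e3 q22274 L754682 q23618, e3 q22275 (flp_h L740204) q20659, e3 q22276 (flp_h L754506) q23602, e3 q22277 L740228 q22277, e3 q22278 (flp_h L740229) q20662, e3 q22279 L740249 q22279, e3 q22280 L740264 q22280, e3 q22281 (flp_h L740265) q20665, e3 q22282 L740285 q21376, e3 q22283 L740291 q22283, e3 q22284 (flp_h L740294) q20668, e3 q22285 L740308 q22285, e3 q22286 L740313 q22286, e3 q22287 L740324 q22287, e3 q22288 L740341 q22288, e3 q22289 L754776 q23628, e3 q22290 (flp_h L740350) q20678, e3 q22291 L754790 q23630, e3 q22292 (flp_h L740369) q20680, e3 q22293 L754834 q23633, e3 q22294 L754844 q23634, e3 q22295 (flp_h L740407) q20682, e3 q22296 L740425 q20738, e3 q22297 (flp_h L740427) q20684, e3 q22298 L740441 q21002, e3 q22299 (flp_h L750179) q23285, e3 q22300 L754904 q23640, e3 q22301 (flp_h L740473) q20687, e3 q22302 (flp_h L753036) q23488, e3 q22303 (flp_h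 L740500) q20688, e3 q22304 L754947 q23643, e3 q22305 L754959 q23644, e3 q22306 (flp_h L740540) q20690, e3 q22307 L740564 q20745, e3 q22308 (flp_h L740566) q20692, e3 q22309 L755002 q23648, e3 q22310 L755009 q23649, e3 q22311 (flp_h L740590) q20694, e3 q22312 L755025 q23651, e3 q22313 (flp_h L740608) q20696, e3 q22314 (flp_h L755023) q23650, e3 q22315 L740624 q20749, e3 q22316 L755057 q23656, e3 q22317 (flp_h L740636) q20700, e3 q22318 L740648 q21023, e3 q22319 L740654 q21024, e3 q22320 (flp_h L740656) q20703, e3 q22321 L740674 q22321, e3 q22322 L740683 q20729, e3 q22323 (flp_h L740685) q20709, e3 q22324 L740713 q22324, e3 q22325 L740724 q20734, e3 q22326 (flp_h L740726) q20712, e3 q22327 L740738 q22327, e3 q22328 L740743 q22328, e3 q22329 L740750 q22329, e3 q22330 L740755 q20751, e3 q22331 (flp_h L740757) q20716, e3 q22332 L740773 q20730, e3 q22333 L740779 q20731, e3 q22334 L740783 q20732, e3 q22335 L740791 q20733, trivial⟩ (by decide +kernel)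

theorem ce_h_349 : ∀ r, r < 64 → sm gh (Qf (22336 + r)) = Qf (tab Gen.h (22336 + r)) :=
  edges_tab (sm gh) Qf (tab Gen.h) 22336 [(22336, 22336), (22337, 22337), (22338, 23662), (22339, 23665), (22340, 23671), (22341, 23670), (22342, 23672), (22343, 23676), (22344, 20736), (22345, 23677), (22346, 23636), (22347, 23679), (22348, 20740), (22349, 23681), (22350, 20743), (22351, 23682), (22352, 23646), (22353, 20746), (22354, 20748), (22355, 23685), (22356, 23686), (22357, 23655), (22358, 23689), (22359, 20755), (22360, 23690), (22361, 20757), (22362, 20758), (22363, 20760), (22364, 22364), (22365, 23694), (22366, 20765), (22367, 20766), (22368, 20768), (22369, 23484), (22370, 20773), (22371, 20774), (22372, 23698), (22373, 23287), (22374, 23700), (22375, 20776), (22376, 23701), (22377, 20778), (22378, 23703), (22379, 20780), (22380, 20795), (22381, 23706), (22382, 20783), (22383, 23707), (22384, 20785), (22385, 20787), (22386, 23704), (22387, 20789), (22388, 22388), (22389, 22389), (22390, 23713), (22391, 20794), (22392, 23714),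 (22393, 20796), (22394, 20798), (22395, 20800), (22396, 23510), (22397, 20802), (22398, 20804), (22399, 20805)]
    ⟨e3 q22336 L740801 q22336, e3 q22337 L740818 q22337, e3 q22338 (flp_h L755106) q23662, e3 q22339 (flp_h L755148) q23665, e3 q22340 (flp_h L755192) q23671, e3 q22341 (flp_h L755182) q23670, e3 q22342 (flp_h L755200) q23672, e3 q22343 L755230 q23676, e3 q22344 (flp_h L740878) q20736, e3 q22345 (flp_h L755252) q23677, e3 q22346 (flp_h L754868) q23636, e3 q22347 L755263 q23679, e3 q22348 (flp_h L740917) q20740, e3 q22349 L755290 q23681, e3 q22350 (flp_h L740945) q20743, e3 q22351 (flp_h L755314) q23682, e3 q22352 (flp_h L754993) q23646, e3 q22353 (flp_h L740979) q20746, e3 q22354 L740993 q20748, e3 q22355 (flp_h L755344) q23685, e3 q22356 (flp_h L755354) q23686, e3 q22357 (flp_h L755053) q23655, e3 q22358 L755375 q23689, e3 q22359 (flp_h L741029) q20755, e3 q22360 L755387 q23690, e3 q22361 (flp_h L741059) q20757, e3 q22362 (flp_h L741073) q20758, e3 q22363 (flp_h L741085) q20760, e3 q22364 L741114 q22364, e3 q22365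 L755446 q23694, e3 q22366 (flp_h L741127) q20765, e3 q22367 (flp_h L741142) q20766, e3 q22368 (flp_h L741154) q20768, e3 q22369 (flp_h L752971) q23484, e3 q22370 L741189 q20773, e3 q22371 L741199 q20774, e3 q22372 (flp_h L755494) q23698, e3 q22373 (flp_h L750211) q23287, e3 q22374 L755513 q23700, e3 q22375 (flp_h L741229) q20776, e3 q22376 L755521 q23701, e3 q22377 (flp_h L741250) q20778, e3 q22378 L755542 q23703, e3 q22379 (flp_h L741268) q20780, e3 q22380 L741288 q20795, e3 q22381 L755574 q23706, e3 q22382 (flp_h L741303) q20783, e3 q22383 L755588 q23707, e3 q22384 (flp_h L741330) q20785, e3 q22385 (flp_h L741342) q20787, e3 q22386 (flp_h L755557) q23704, e3 q22387 (flp_h L741364) q20789, e3 q22388 L741389 q22388, e3 q22389 L741400 q22389, e3 q22390 L755656 q23713, e3 q22391 (flp_h L741417) q20794, e3 q22392 L755672 q23714, e3 q22393 (flp_h L741445) q20796, e3 q22394 (flp_h L741453) q20798, e3 q22395 (flp_h L741469) q20800, e3 q22396 (flp_h L753328) q23510, e3 q22397 (flp_h L741485) q20802, e3 q22398 (flp_h L741501) q20804,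 e3 q22399 (flp_h L741517) q20805, trivial⟩ (by decide +kernel)

theorem ce_h_350 : ∀ r, r < 64 → sm gh (Qf (22400 + r)) = Qf (tab Gen.h (22400 + r)) :=
  edges_tab (sm gh) Qf (tab Gen.h) 22400 [(22400, 23720), (22401, 23723), (22402, 20808), (22403, 23517), (22404, 23518), (22405, 20821), (22406, 20814), (22407, 20823), (22408, 20824), (22409, 20825), (22410, 20826), (22411, 23702), (22412, 23728), (22413, 23729), (22414, 23730), (22415, 23731), (22416, 23735), (22417, 20829), (22418, 20830), (22419, 23737), (22420, 20834), (22421, 23738), (22422, 20836), (22423, 20837), (22424, 23741), (22425, 20840), (22426, 22426), (22427, 23537), (22428, 22428), (22429, 23531), (22430, 23746), (22431, 20846), (22432, 23541), (22433, 23748), (22434, 20848), (22435, 23750), (22436, 20850), (22437, 20867), (22438, 23753), (22439, 20853), (22440, 20874), (22441, 23755), (22442, 20855), (22443, 20857), (22444, 23751), (22445, 23759), (22446, 20860), (22447, 22447), (22448, 22448), (22449, 22449), (22450, 21005), (22451, 23765), (22452, 20866),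 (22453, 23766), (22454, 20868), (22455, 21572), (22456, 23769), (22457, 21618), (22458, 23771), (22459, 20872), (22460, 23773), (22461, 20875), (22462, 23566), (22463, 21252)]
    ⟨e3 q22400 (flp_h L755751) q23720, e3 q22401 L755781 q23723, e3 q22402 (flp_h L741557) q20808, e3 q22403 (flp_h L753404) q23517, e3 q22404 (flp_h L753412) q23518, e3 q22405 L741585 q20821, e3 q22406 (flp_h L741587) q20814, e3 q22407 L741605 q20823, e3 q22408 L741613 q20824, e3 q22409 L741621 q20825, e3 q22410 L741634 q20826, e3 q22411 (flp_h L755540) q23702, e3 q22412 (flp_h L755823) q23728, e3 q22413 (flp_h L755837) q23729, e3 q22414 (flp_h L755845) q23730, e3 q22415 (flp_h L755853) q23731, e3 q22416 L755890 q23735, e3 q22417 (flp_h L741696) q20829, e3 q22418 (flp_h L741712) q20830, e3 q22419 L755914 q23737, e3 q22420 (flp_h L741732) q20834, e3 q22421 L755926 q23738, e3 q22422 (flp_h L741753) q20836, e3 q22423 (flp_h L741765) q20837, e3 q22424 L755955 q23741, e3 q22425 (flp_h L741782) q20840, e3 q22426 L741796 q22426, e3 q22427 (flp_h L753678) q23537,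 e3 q22428 L741812 q22428, e3 q22429 (flp_h L753600) q23531, e3 q22430 L755992 q23746, e3 q22431 (flp_h L741842) q20846, e3 q22432 (flp_h L753742) q23541, e3 q22433 L756021 q23748, e3 q22434 (flp_h L741886) q20848, e3 q22435 L756050 q23750, e3 q22436 (flp_h L741908) q20850, e3 q22437 L741928 q20867, e3 q22438 L756082 q23753, e3 q22439 (flp_h L741947) q20853, e3 q22440 L741972 q20874, e3 q22441 L756108 q23755, e3 q22442 (flp_h L741986) q20855, e3 q22443 (flp_h L741998) q20857, e3 q22444 (flp_h L756065) q23751, e3 q22445 L756152 q23759, e3 q22446 (flp_h L742030) q20860, e3 q22447 L742053 q22447, e3 q22448 L742062 q22448, e3 q22449 L742071 q22449, e3 q22450 L742088 q21005, e3 q22451 L756223 q23765, e3 q22452 (flp_h L742105) q20866, e3 q22453 L756239 q23766, e3 q22454 (flp_h L742131) q20868, e3 q22455 L742151 q21572, e3 q22456 L756269 q23769, e3 q22457 L742176 q21618, e3 q22458 L756293 q23771, e3 q22459 (flp_h L742192) q20872, e3 q22460 L756321 q23773, e3 q22461 (flp_h L742214) q20875, e3 q22462 (flp_h L754081) q23566, e3 q22463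 L742240 q21252, trivial⟩ (by decide +kernel)

theorem ce_h_351 : ∀ r, r < 64 → sm gh (Qf (22464 + r)) = Qf (tab Gen.h (22464 + r)) :=
  edges_tab (sm gh) Qf (tab Gen.h) 22464 [(22464, 23777), (22465, 20878), (22466, 20880), (22467, 23780), (22468, 23781), (22469, 20882), (22470, 20883), (22471, 23782), (22472, 23573), (22473, 23574), (22474, 23788), (22475, 20888), (22476, 22476), (22477, 20890), (22478, 20899), (22479, 20900), (22480, 22480), (22481, 22481), (22482, 20901), (22483, 20902), (22484, 23791), (22485, 23792), (22486, 23793), (22487, 23796), (22488, 20904), (22489, 23801), (22490, 23802), (22491, 20908), (22492, 20909), (22493, 23803), (22494, 20912), (22495, 23334), (22496, 23805), (22497, 23589), (22498, 23807), (22499, 20915), (22500, 23379), (22501, 23810), (22502, 20917), (22503, 23325), (22504, 23813), (22505, 21016), (22506, 23207), (22507, 23816), (22508, 20921), (22509, 21549), (22510, 20922), (22511, 23820), (22512, 21269), (22513, 23822), (22514, 20924), (22515, 21093), (22516, 23825), (22517, 20927),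 (22518, 20954), (22519, 23828), (22520, 20930), (22521, 20983), (22522, 23830), (22523, 20932), (22524, 23832), (22525, 20935), (22526, 20995), (22527, 23834)]
    ⟨e3 q22464 L756359 q23777, e3 q22465 (flp_h L742258) q20878, e3 q22466 (flp_h L742270) q20880, e3 q22467 L756396 q23780, e3 q22468 L756403 q23781, e3 q22469 (flp_h L742306) q20882, e3 q22470 (flp_h L742314) q20883, e3 q22471 (flp_h L756425) q23782, e3 q22472 (flp_h L754149) q23573, e3 q22473 (flp_h L754157) q23574, e3 q22474 L756463 q23788, e3 q22475 (flp_h L742360) q20888, e3 q22476 L742387 q22476, e3 q22477 (flp_h L742388) q20890, e3 q22478 L742403 q20899, e3 q22479 L742414 q20900, e3 q22480 L742424 q22480, e3 q22481 L742433 q22481, e3 q22482 L742444 q20901, e3 q22483 L742450 q20902, e3 q22484 (flp_h L756510) q23791, e3 q22485 (flp_h L756520) q23792, e3 q22486 (flp_h L756528) q23793, e3 q22487 (flp_h L756556) q23796, e3 q22488 (flp_h L742484) q20904, e3 q22489 L756591 q23801, e3 q22490 L756606 q23802, e3 q22491 (flp_h L742522) q20908, e3 q22492 (flp_h L742535)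 q20909, e3 q22493 L756619 q23803, e3 q22494 (flp_h L742564) q20912, e3 q22495 (flp_h L750913) q23334, e3 q22496 L756649 q23805, e3 q22497 (flp_h L754360) q23589, e3 q22498 L756677 q23807, e3 q22499 (flp_h L742632) q20915, e3 q22500 (flp_h L751497) q23379, e3 q22501 L756707 q23810, e3 q22502 (flp_h L742659) q20917, e3 q22503 (flp_h L750780) q23325, e3 q22504 L756734 q23813, e3 q22505 (flp_h L742706) q21016, e3 q22506 (flp_h L749085) q23207, e3 q22507 L756774 q23816, e3 q22508 (flp_h L742725) q20921, e3 q22509 (flp_h L742746) q21549, e3 q22510 (flp_h L742748) q20922, e3 q22511 L756823 q23820, e3 q22512 L742783 q21269, e3 q22513 L756844 q23822, e3 q22514 (flp_h L742794) q20924, e3 q22515 L742807 q21093, e3 q22516 L756861 q23825, e3 q22517 (flp_h L742820) q20927, e3 q22518 L742829 q20954, e3 q22519 L756884 q23828, e3 q22520 (flp_h L742845) q20930, e3 q22521 L742867 q20983, e3 q22522 L756909 q23830, e3 q22523 (flp_h L742878) q20932, e3 q22524 L756926 q23832, e3 q22525 (flp_h L742900) q20935, e3 q22526 L742926 q20995, e3 q22527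 L756956 q23834, trivial⟩ (by decide +kernel)

theorem ce_h_352 : ∀ r, r < 64 → sm gh (Qf (22528 + r)) = Qf (tab Gen.h (22528 + r)) :=
  edges_tab (sm gh) Qf (tab Gen.h) 22528 [(22528, 20937), (22529, 20999), (22530, 23837), (22531, 20940), (22532, 23811), (22533, 23840), (22534, 20943), (22535, 20945), (22536, 23843), (22537, 23844), (22538, 20947), (22539, 23846), (22540, 20949), (22541, 23845), (22542, 23849), (22543, 20952), (22544, 23826), (22545, 23827), (22546, 23854), (22547, 20957), (22548, 21168), (22549, 23856), (22550, 20960), (22551, 22551), (22552, 22552), (22553, 23861), (22554, 20964), (22555, 21169), (22556, 20967), (22557, 22557), (22558, 22558), (22559, 22559), (22560, 22560), (22561, 20971), (22562, 22562), (22563, 22563), (22564, 23869), (22565, 20978), (22566, 23870), (22567, 21248), (22568, 23872), (22569, 20981), (22570, 21074), (22571, 23875), (22572, 20984), (22573, 23629), (22574, 23878), (22575, 20987), (22576, 21295), (22577, 23874), (22578, 23880), (22579, 20990), (22580, 21073), (22581, 21288),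 (22582, 20992), (22583, 23884), (22584, 23885), (22585, 20994), (22586, 21551), (22587, 23888), (22588, 20996), (22589, 23886), (22590, 21077), (22591, 23892)]
    ⟨e3 q22528 (flp_h L742946) q20937, e3 q22529 L742966 q20999, e3 q22530 L756994 q23837, e3 q22531 (flp_h L742976) q20940, e3 q22532 (flp_h L756718) q23811, e3 q22533 L757016 q23840, e3 q22534 (flp_h L743006) q20943, e3 q22535 (flp_h L743016) q20945, e3 q22536 L757054 q23843, e3 q22537 L757064 q23844, e3 q22538 (flp_h L743056) q20947, e3 q22539 L757088 q23846, e3 q22540 (flp_h L743080) q20949, e3 q22541 (flp_h L757086) q23845, e3 q22542 L757124 q23849, e3 q22543 (flp_h L743110) q20952, e3 q22544 (flp_h L756876) q23826, e3 q22545 (flp_h L756882) q23827, e3 q22546 L757160 q23854, e3 q22547 (flp_h L743147) q20957, e3 q22548 L743170 q21168, e3 q22549 L757189 q23856, e3 q22550 (flp_h L743186) q20960, e3 q22551 L743201 q22551, e3 q22552 L743209 q22552, e3 q22553 L757242 q23861, e3 q22554 (flp_h L743230) q20964, e3 q22555 L743252 q21169, e3 q22556 (flp_h L743256) q20967,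 e3 q22557 L743272 q22557, e3 q22558 L743277 q22558, e3 q22559 L743284 q22559, e3 q22560 L743295 q22560, e3 q22561 (flp_h L743300) q20971, e3 q22562 L743324 q22562, e3 q22563 L743331 q22563, e3 q22564 L757335 q23869, e3 q22565 (flp_h L743352) q20978, e3 q22566 L757347 q23870, e3 q22567 L743386 q21248, e3 q22568 L757372 q23872, e3 q22569 (flp_h L743399) q20981, e3 q22570 L743424 q21074, e3 q22571 L757403 q23875, e3 q22572 (flp_h L743433) q20984, e3 q22573 (flp_h L754788) q23629, e3 q22574 L757422 q23878, e3 q22575 (flp_h L743460) q20987, e3 q22576 L743486 q21295, e3 q22577 (flp_h L757399) q23874, e3 q22578 L757453 q23880, e3 q22579 (flp_h L743519) q20990, e3 q22580 L743539 q21073, e3 q22581 (flp_h L743550) q21288, e3 q22582 (flp_h L743552) q20992, e3 q22583 L757497 q23884, e3 q22584 L757504 q23885, e3 q22585 (flp_h L743590) q20994, e3 q22586 L743604 q21551, e3 q22587 L757536 q23888, e3 q22588 (flp_h L743616) q20996, e3 q22589 (flp_h L757522) q23886, e3 q22590 L743638 q21077, e3 q22591 L757566 q23892, trivial⟩ (by decide +kernel)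

theorem ce_h_353 : ∀ r, r < 64 → sm gh (Qf (22592 + r)) = Qf (tab Gen.h (22592 + r)) :=
  edges_tab (sm gh) Qf (tab Gen.h) 22592 [(22592, 21000), (22593, 23637), (22594, 23638), (22595, 21003), (22596, 23588), (22597, 23899), (22598, 21006), (22599, 23901), (22600, 21008), (22601, 23900), (22602, 21079), (22603, 23208), (22604, 21011), (22605, 23907), (22606, 23908), (22607, 21013), (22608, 21014), (22609, 21019), (22610, 23913), (22611, 21017), (22612, 23909), (22613, 23911), (22614, 23912), (22615, 21084), (22616, 21021), (22617, 23657), (22618, 23658), (22619, 23659), (22620, 23660), (22621, 21026), (22622, 22622), (22623, 23927), (22624, 21030), (22625, 22625), (22626, 22626), (22627, 22627), (22628, 21034), (22629, 21062), (22630, 21063), (22631, 21064), (22632, 21065), (22633, 23937), (22634, 21039), (22635, 22635), (22636, 21042), (22637, 22637), (22638, 22638), (22639, 22639), (22640, 22640), (22641, 21066), (22642, 21067), (22643, 21068), (22644, 21069), (22645, 21070), (22646, 21071), (22647, 21053), (22648, 22648),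 (22649, 22649), (22650, 21072), (22651, 23931), (22652, 23932), (22653, 23933), (22654, 23934), (22655, 23935)]
    ⟨e3 q22592 (flp_h L743650) q21000, e3 q22593 (flp_h L754878) q23637, e3 q22594 (flp_h L754884) q23638, e3 q22595 (flp_h L743666) q21003, e3 q22596 (flp_h L754344) q23588, e3 q22597 L757613 q23899, e3 q22598 (flp_h L743694) q21006, e3 q22599 L757630 q23901, e3 q22600 (flp_h L743716) q21008, e3 q22601 (flp_h L757628) q23900, e3 q22602 L743736 q21079, e3 q22603 (flp_h L749101) q23208, e3 q22604 (flp_h L743751) q21011, e3 q22605 L757688 q23907, e3 q22606 L757695 q23908, e3 q22607 (flp_h L743772) q21013, e3 q22608 (flp_h L743777) q21014, e3 q22609 L743789 q21019, e3 q22610 L757732 q23913, e3 q22611 (flp_h L743801) q21017, e3 q22612 (flp_h L757706) q23909, e3 q22613 (flp_h L757718) q23911, e3 q22614 (flp_h L757728) q23912, e3 q22615 L743837 q21084, e3 q22616 (flp_h L743843) q21021, e3 q22617 (flp_h L755071) q23657, e3 q22618 (flp_h L755077) q23658, e3 q22619 (flp_h L755081) q23659, e3 q22620 (flp_h L755089) q23660,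 e3 q22621 (flp_h L743869) q21026, e3 q22622 L743886 q22622, e3 q22623 L757823 q23927, e3 q22624 (flp_h L743899) q21030, e3 q22625 L743912 q22625, e3 q22626 L743918 q22626, e3 q22627 L743934 q22627, e3 q22628 (flp_h L743939) q21034, e3 q22629 L743951 q21062, e3 q22630 L743959 q21063, e3 q22631 L743965 q21064, e3 q22632 L743974 q21065, e3 q22633 L757911 q23937, e3 q22634 (flp_h L743991) q21039, e3 q22635 L744011 q22635, e3 q22636 (flp_h L744012) q21042, e3 q22637 L744026 q22637, e3 q22638 L744031 q22638, e3 q22639 L744038 q22639, e3 q22640 L744047 q22640, e3 q22641 L744056 q21066, e3 q22642 L744064 q21067, e3 q22643 L744072 q21068, e3 q22644 L744080 q21069, e3 q22645 L744086 q21070, e3 q22646 L744096 q21071, e3 q22647 (flp_h L744100) q21053, e3 q22648 L744120 q22648, e3 q22649 L744127 q22649, e3 q22650 L744137 q21072, e3 q22651 (flp_h L757865) q23931, e3 q22652 (flp_h L757872) q23932, e3 q22653 (flp_h L757878) q23933, e3 q22654 (flp_h L757886) q23934, e3 q22655 (flp_h L757894) q23935, trivial⟩ (by decide +kernel)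

theorem ce_h_354 : ∀ r, r < 64 → sm gh (Qf (22656 + r)) = Qf (tab Gen.h (22656 + r)) :=
  edges_tab (sm gh) Qf (tab Gen.h) 22656 [(22656, 23936), (22657, 23943), (22658, 23944), (22659, 23945), (22660, 23946), (22661, 23947), (22662, 23963), (22663, 21075), (22664, 21097), (22665, 21082), (22666, 21083), (22667, 23966), (22668, 23967), (22669, 23749), (22670, 21086), (22671, 23808), (22672, 21088), (22673, 21089), (22674, 23817), (22675, 21091), (22676, 23824), (22677, 21094), (22678, 21095), (22679, 23964), (22680, 23965), (22681, 21100), (22682, 23327), (22683, 22683), (22684, 22684), (22685, 21105), (22686, 21157), (22687, 21108), (22688, 21110), (22689, 21202), (22690, 21614), (22691, 21115), (22692, 21117), (22693, 21284), (22694, 23984), (22695, 21121), (22696, 23986), (22697, 21124), (22698, 23988), (22699, 21126), (22700, 23987), (22701, 21128), (22702, 21307), (22703, 21308), (22704, 21132), (22705, 22705), (22706, 21134), (22707, 22707), (22708, 22708), (22709, 23997), (22710, 21144), (22711, 21145), (22712, 21147),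 (22713, 23999), (22714, 23189), (22715, 24003), (22716, 21152), (22717, 21153), (22718, 21164), (22719, 23387)]
    ⟨e3 q22656 (flp_h L757907) q23936, e3 q22657 (flp_h L757970) q23943, e3 q22658 (flp_h L757978) q23944, e3 q22659 (flp_h L757990) q23945, e3 q22660 (flp_h L758002) q23946, e3 q22661 (flp_h L758012) q23947, e3 q22662 L758148 q23963, e3 q22663 (flp_h L744244) q21075, e3 q22664 L744268 q21097, e3 q22665 L744277 q21082, e3 q22666 L744289 q21083, e3 q22667 (flp_h L758186) q23966, e3 q22668 (flp_h L758194) q23967, e3 q22669 (flp_h L756048) q23749, e3 q22670 (flp_h L744330) q21086, e3 q22671 (flp_h L756694) q23808, e3 q22672 (flp_h L744353) q21088, e3 q22673 (flp_h L744368) q21089, e3 q22674 (flp_h L756789) q23817, e3 q22675 (flp_h L744392) q21091, e3 q22676 (flp_h L756859) q23824, e3 q22677 (flp_h L744409) q21094, e3 q22678 (flp_h L744423) q21095, e3 q22679 (flp_h L758158) q23964, e3 q22680 (flp_h L758172) q23965, e3 q22681 L744471 q21100, e3 q22682 (flp_h L750813) q23327, e3 q22683 L744498 q22683, e3 q22684 L744511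 q22684, e3 q22685 (flp_h L744512) q21105, e3 q22686 L744536 q21157, e3 q22687 (flp_h L744538) q21108, e3 q22688 (flp_h L744552) q21110, e3 q22689 L744572 q21202, e3 q22690 L744584 q21614, e3 q22691 (flp_h L744586) q21115, e3 q22692 (flp_h L744596) q21117, e3 q22693 L744618 q21284, e3 q22694 L758375 q23984, e3 q22695 (flp_h L744634) q21121, e3 q22696 L758399 q23986, e3 q22697 (flp_h L744661) q21124, e3 q22698 L758426 q23988, e3 q22699 (flp_h L744687) q21126, e3 q22700 (flp_h L758424) q23987, e3 q22701 (flp_h L744701) q21128, e3 q22702 L744721 q21307, e3 q22703 L744725 q21308, e3 q22704 (flp_h L744727) q21132, e3 q22705 L744749 q22705, e3 q22706 (flp_h L744750) q21134, e3 q22707 L744768 q22707, e3 q22708 L744777 q22708, e3 q22709 L758507 q23997, e3 q22710 (flp_h L744790) q21144, e3 q22711 (flp_h L744802) q21145, e3 q22712 (flp_h L744816) q21147, e3 q22713 (flp_h L758548) q23999, e3 q22714 (flp_h L748817) q23189, e3 q22715 L758586 q24003, e3 q22716 (flp_h L744868) q21152, e3 q22717 (flp_h L744882) q21153, e3 q22718 L744898 q21164,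 e3 q22719 (flp_h L751597) q23387, trivial⟩ (by decide +kernel)

theorem ce_h_355 : ∀ r, r < 64 → sm gh (Qf (22720 + r)) = Qf (tab Gen.h (22720 + r)) :=
  edges_tab (sm gh) Qf (tab Gen.h) 22720 [(22720, 21165), (22721, 23976), (22722, 21158), (22723, 21167), (22724, 24005), (22725, 23862), (22726, 23855), (22727, 21170), (22728, 23977), (22729, 24012), (22730, 21174), (22731, 22731), (22732, 24000), (22733, 22733), (22734, 23205), (22735, 24017), (22736, 24018), (22737, 21181), (22738, 24020), (22739, 21183), (22740, 24022), (22741, 21186), (22742, 23328), (22743, 24025), (22744, 24026), (22745, 21189), (22746, 21218), (22747, 21191), (22748, 23975), (22749, 24031), (22750, 21194), (22751, 21222), (22752, 24034), (22753, 21197), (22754, 21198), (22755, 24035), (22756, 21225), (22757, 23978), (22758, 23979), (22759, 21227), (22760, 21204), (22761, 22761), (22762, 21228), (22763, 21229), (22764, 22764), (22765, 21230), (22766, 21213), (22767, 24019), (22768, 24023), (22769, 21216), (22770, 24050), (22771, 24028), (22772, 21220),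 (22773, 24053), (22774, 24033), (22775, 21224), (22776, 24057), (22777, 24039), (22778, 24042), (22779, 24044), (22780, 24045), (22781, 24061), (22782, 24062), (22783, 21233)]
    ⟨e3 q22720 L744912 q21165, e3 q22721 (flp_h L758293) q23976, e3 q22722 (flp_h L744922) q21158, e3 q22723 L744946 q21167, e3 q22724 (flp_h L758612) q24005, e3 q22725 (flp_h L757264) q23862, e3 q22726 (flp_h L757185) q23855, e3 q22727 (flp_h L744973) q21170, e3 q22728 (flp_h L758309) q23977, e3 q22729 L758674 q24012, e3 q22730 (flp_h L745004) q21174, e3 q22731 L745024 q22731, e3 q22732 (flp_h L758564) q24000, e3 q22733 L745044 q22733, e3 q22734 (flp_h L749052) q23205, e3 q22735 L758716 q24017, e3 q22736 L758727 q24018, e3 q22737 (flp_h L745084) q21181, e3 q22738 L758752 q24020, e3 q22739 (flp_h L745102) q21183, e3 q22740 L758767 q24022, e3 q22741 (flp_h L745118) q21186, e3 q22742 (flp_h L750829) q23328, e3 q22743 L758798 q24025, e3 q22744 L758810 q24026, e3 q22745 (flp_h L745163) q21189, e3 q22746 L745183 q21218, e3 q22747 (flp_h L745185) q21191, e3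 q22748 (flp_h L758283) q23975, e3 q22749 L758864 q24031, e3 q22750 (flp_h L745217) q21194, e3 q22751 L745233 q21222, e3 q22752 L758886 q24034, e3 q22753 (flp_h L745248) q21197, e3 q22754 (flp_h L745258) q21198, e3 q22755 (flp_h L758903) q24035, e3 q22756 L745278 q21225, e3 q22757 (flp_h L758325) q23978, e3 q22758 (flp_h L758333) q23979, e3 q22759 L745303 q21227, e3 q22760 (flp_h L745305) q21204, e3 q22761 L745328 q22761, e3 q22762 L745338 q21228, e3 q22763 L745348 q21229, e3 q22764 L745358 q22764, e3 q22765 L745365 q21230, e3 q22766 (flp_h L745367) q21213, e3 q22767 (flp_h L758750) q24019, e3 q22768 (flp_h L758783) q24023, e3 q22769 (flp_h L745403) q21216, e3 q22770 (flp_h L759041) q24050, e3 q22771 (flp_h L758838) q24028, e3 q22772 (flp_h L745435) q21220, e3 q22773 (flp_h L759074) q24053, e3 q22774 (flp_h L758884) q24033, e3 q22775 L745464 q21224, e3 q22776 (flp_h L759109) q24057, e3 q22777 (flp_h L758929) q24039, e3 q22778 (flp_h L758956) q24042, e3 q22779 (flp_h L758979) q24044, e3 q22780 (flp_h L758987) q24045, e3 q22781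 L759140 q24061, e3 q22782 L759154 q24062, e3 q22783 (flp_h L745542) q21233, trivial⟩ (by decide +kernel)

theorem ce_h_356 : ∀ r, r < 64 → sm gh (Qf (22784 + r)) = Qf (tab Gen.h (22784 + r)) :=
  edges_tab (sm gh) Qf (tab Gen.h) 22784 [(22784, 24064), (22785, 21235), (22786, 22786), (22787, 21260), (22788, 23215), (22789, 24069), (22790, 21239), (22791, 21240), (22792, 23540), (22793, 24073), (22794, 21243), (22795, 21244), (22796, 24076), (22797, 21245), (22798, 22798), (22799, 21587), (22800, 24080), (22801, 24081), (22802, 21250), (22803, 22803), (22804, 24084), (22805, 24085), (22806, 21254), (22807, 21255), (22808, 24086), (22809, 22809), (22810, 21258), (22811, 21568), (22812, 24067), (22813, 22813), (22814, 21263), (22815, 24093), (22816, 21270), (22817, 21333), (22818, 21272), (22819, 23981), (22820, 24098), (22821, 21275), (22822, 21334), (22823, 21277), (22824, 24102), (22825, 24103), (22826, 21279), (22827, 21280), (22828, 24104), (22829, 21338), (22830, 21427), (22831, 23983), (22832, 24111), (22833, 21286), (22834,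 24113), (22835, 24114), (22836, 21290), (22837, 24116), (22838, 21292), (22839, 24115), (22840, 21342), (22841, 24120), (22842, 24121), (22843, 21297), (22844, 21298), (22845, 21303), (22846, 24126), (22847, 21301)]
    ⟨e3 q22784 L759179 q24064, e3 q22785 (flp_h L745565) q21235, e3 q22786 L745585 q22786, e3 q22787 L745596 q21260, e3 q22788 (flp_h L749206) q23215, e3 q22789 L759222 q24069, e3 q22790 (flp_h L745613) q21239, e3 q22791 (flp_h L745622) q21240, e3 q22792 (flp_h L753726) q23540, e3 q22793 L759263 q24073, e3 q22794 (flp_h L745653) q21243, e3 q22795 (flp_h L745665) q21244, e3 q22796 L759301 q24076, e3 q22797 (flp_h L745687) q21245, e3 q22798 L745707 q22798, e3 q22799 L745718 q21587, e3 q22800 L759335 q24080, e3 q22801 L759340 q24081, e3 q22802 (flp_h L745743) q21250, e3 q22803 L745761 q22803, e3 q22804 L759371 q24084, e3 q22805 L759381 q24085, e3 q22806 (flp_h L745779) q21254, e3 q22807 (flp_h L745782) q21255, e3 q22808 (flp_h L759388) q24086, e3 q22809 L745800 q22809, e3 q22810 (flp_h L745803) q21258, e3 q22811 L745825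 q21568, e3 q22812 (flp_h L759209) q24067, e3 q22813 L745842 q22813, e3 q22814 (flp_h L745843) q21263, e3 q22815 L759438 q24093, e3 q22816 (flp_h L745866) q21270, e3 q22817 L745881 q21333, e3 q22818 (flp_h L745883) q21272, e3 q22819 (flp_h L758355) q23981, e3 q22820 L759467 q24098, e3 q22821 (flp_h L745908) q21275, e3 q22822 L745928 q21334, e3 q22823 (flp_h L745930) q21277, e3 q22824 L759508 q24102, e3 q22825 L759517 q24103, e3 q22826 (flp_h L745958) q21279, e3 q22827 (flp_h L745964) q21280, e3 q22828 (flp_h L759529) q24104, e3 q22829 L745984 q21338, e3 q22830 L745996 q21427, e3 q22831 (flp_h L758371) q23983, e3 q22832 L759575 q24111, e3 q22833 (flp_h L746016) q21286, e3 q22834 L759595 q24113, e3 q22835 L759602 q24114, e3 q22836 (flp_h L746039) q21290, e3 q22837 L759616 q24116, e3 q22838 (flp_h L746059) q21292, e3 q22839 (flp_h L759614) q24115, e3 q22840 L746077 q21342, e3 q22841 L759648 q24120, e3 q22842 L759659 q24121, e3 q22843 (flp_h L746097) q21297, e3 q22844 (flp_h L746102) q21298, e3 q22845 L746110 q21303, e3 q22846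 L759686 q24126, e3 q22847 (flp_h L746120) q21301, trivial⟩ (by decide +kernel)

theorem ce_h_357 : ∀ r, r < 64 → sm gh (Qf (22848 + r)) = Qf (tab Gen.h (22848 + r)) :=
  edges_tab (sm gh) Qf (tab Gen.h) 22848 [(22848, 24122), (22849, 24124), (22850, 24125), (22851, 21346), (22852, 21305), (22853, 23991), (22854, 23992), (22855, 23993), (22856, 24137), (22857, 21310), (22858, 21312), (22859, 22859), (22860, 22860), (22861, 21347), (22862, 21318), (22863, 22863), (22864, 21320), (22865, 22865), (22866, 21323), (22867, 22867), (22868, 22868), (22869, 21329), (22870, 22870), (22871, 24095), (22872, 24100), (22873, 21335), (22874, 21337), (22875, 24148), (22876, 24108), (22877, 21339), (22878, 21341), (22879, 24152), (22880, 22880), (22881, 21345), (22882, 24154), (22883, 24141), (22884, 21350), (22885, 22885), (22886, 22886), (22887, 21354), (22888, 21365), (22889, 21367), (22890, 21369), (22891, 21375), (22892, 21482), (22893, 21377), (22894, 23623), (22895, 24158), (22896, 24160), (22897, 21378), (22898, 24164), (22899, 21379),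 (22900, 22900), (22901, 24010), (22902, 22902), (22903, 21504), (22904, 21386), (22905, 24171), (22906, 24172), (22907, 21388), (22908, 21389), (22909, 24173), (22910, 21403), (22911, 21513)]
    ⟨e3 q22848 (flp_h L759670) q24122, e3 q22849 (flp_h L759678) q24124, e3 q22850 (flp_h L759682) q24125, e3 q22851 L746142 q21346, e3 q22852 (flp_h L746146) q21305, e3 q22853 (flp_h L758460) q23991, e3 q22854 (flp_h L758468) q23992, e3 q22855 (flp_h L758474) q23993, e3 q22856 L759740 q24137, e3 q22857 (flp_h L746181) q21310, e3 q22858 (flp_h L746196) q21312, e3 q22859 L746217 q22859, e3 q22860 L746226 q22860, e3 q22861 L746231 q21347, e3 q22862 (flp_h L746233) q21318, e3 q22863 L746257 q22863, e3 q22864 (flp_h L746258) q21320, e3 q22865 L746278 q22865, e3 q22866 (flp_h L746279) q21323, e3 q22867 L746293 q22867, e3 q22868 L746296 q22868, e3 q22869 (flp_h L746297) q21329, e3 q22870 L746317 q22870, e3 q22871 (flp_h L759455) q24095, e3 q22872 (flp_h L759495) q24100, e3 q22873 (flp_h L746334) q21335, e3 q22874 L746346 q21337, e3 q22875 (flp_h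 L759837) q24148, e3 q22876 (flp_h L759555) q24108, e3 q22877 (flp_h L746362) q21339, e3 q22878 L746374 q21341, e3 q22879 (flp_h L759864) q24152, e3 q22880 L746388 q22880, e3 q22881 L746391 q21345, e3 q22882 (flp_h L759873) q24154, e3 q22883 (flp_h L759786) q24141, e3 q22884 L746412 q21350, e3 q22885 L746420 q22885, e3 q22886 L746427 q22886, e3 q22887 L746436 q21354, e3 q22888 (flp_h L746438) q21365, e3 q22889 (flp_h L746452) q21367, e3 q22890 (flp_h L746466) q21369, e3 q22891 L746482 q21375, e3 q22892 L746490 q21482, e3 q22893 L746500 q21377, e3 q22894 (flp_h L754746) q23623, e3 q22895 (flp_h L759918) q24158, e3 q22896 (flp_h L759934) q24160, e3 q22897 (flp_h L746528) q21378, e3 q22898 L759961 q24164, e3 q22899 (flp_h L746540) q21379, e3 q22900 L746556 q22900, e3 q22901 (flp_h L758664) q24010, e3 q22902 L746569 q22902, e3 q22903 L746578 q21504, e3 q22904 (flp_h L746580) q21386, e3 q22905 L760005 q24171, e3 q22906 L760012 q24172, e3 q22907 (flp_h L746606) q21388, e3 q22908 (flp_h L746612) q21389, e3 q22909 (flp_h L760024) q24173,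 e3 q22910 L746626 q21403, e3 q22911 L746634 q21513, trivial⟩ (by decide +kernel)

theorem ce_h_358 : ∀ r, r < 64 → sm gh (Qf (22912 + r)) = Qf (tab Gen.h (22912 + r)) :=
  edges_tab (sm gh) Qf (tab Gen.h) 22912 [(22912, 21514), (22913, 22913), (22914, 22914), (22915, 21404), (22916, 21405), (22917, 21400), (22918, 21402), (22919, 24184), (22920, 24177), (22921, 24182), (22922, 24187), (22923, 21407), (22924, 22924), (22925, 24029), (22926, 21412), (22927, 21537), (22928, 23391), (22929, 21419), (22930, 21545), (22931, 21420), (22932, 24195), (22933, 21421), (22934, 22934), (22935, 24199), (22936, 21424), (22937, 24200), (22938, 22938), (22939, 24109), (22940, 22940), (22941, 22941), (22942, 21431), (22943, 21465), (22944, 21433), (22945, 21605), (22946, 21435), (22947, 21466), (22948, 23317), (22949, 21467), (22950, 21615), (22951, 21440), (22952, 21468), (22953, 21442), (22954, 21443), (22955, 24217), (22956, 21471), (22957, 21446), (22958, 21450), (22959, 21448), (22960, 23312), (22961, 24223), (22962, 24224), (22963, 21475),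 (22964, 21452), (22965, 21636), (22966, 21637), (22967, 21638), (22968, 21476), (22969, 21477), (22970, 24207), (22971, 24211), (22972, 24216), (22973, 21470), (22974, 24235), (22975, 24221)]
    ⟨e3 q22912 L746640 q21514, e3 q22913 L746646 q22913, e3 q22914 L746651 q22914, e3 q22915 L746658 q21404, e3 q22916 L746664 q21405, e3 q22917 (flp_h L746666) q21400, e3 q22918 L746678 q21402, e3 q22919 (flp_h L760084) q24184, e3 q22920 (flp_h L760042) q24177, e3 q22921 (flp_h L760070) q24182, e3 q22922 L760099 q24187, e3 q22923 (flp_h L746711) q21407, e3 q22924 L746729 q22924, e3 q22925 (flp_h L758854) q24029, e3 q22926 (flp_h L746736) q21412, e3 q22927 L746750 q21537, e3 q22928 (flp_h L751645) q23391, e3 q22929 L746760 q21419, e3 q22930 L746766 q21545, e3 q22931 L746772 q21420, e3 q22932 (flp_h L760159) q24195, e3 q22933 (flp_h L746781) q21421, e3 q22934 L746797 q22934, e3 q22935 L760180 q24199, e3 q22936 (flp_h L746803) q21424, e3 q22937 (flp_h L760187) q24200, e3 q22938 L746812 q22938, e3 q22939 (flp_h L759565) q24109, e3 q22940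 L746825 q22940, e3 q22941 L746830 q22941, e3 q22942 (flp_h L746833) q21431, e3 q22943 L746849 q21465, e3 q22944 (flp_h L746851) q21433, e3 q22945 L746859 q21605, e3 q22946 (flp_h L746861) q21435, e3 q22947 L746877 q21466, e3 q22948 (flp_h L750667) q23317, e3 q22949 L746887 q21467, e3 q22950 L746893 q21615, e3 q22951 (flp_h L746895) q21440, e3 q22952 L746907 q21468, e3 q22953 (flp_h L746909) q21442, e3 q22954 (flp_h L746915) q21443, e3 q22955 (flp_h L760289) q24217, e3 q22956 L746931 q21471, e3 q22957 (flp_h L746933) q21446, e3 q22958 L746943 q21450, e3 q22959 (flp_h L746945) q21448, e3 q22960 (flp_h L750593) q23312, e3 q22961 (flp_h L760319) q24223, e3 q22962 (flp_h L760325) q24224, e3 q22963 L746967 q21475, e3 q22964 (flp_h L746971) q21452, e3 q22965 L746981 q21636, e3 q22966 L746987 q21637, e3 q22967 L746991 q21638, e3 q22968 L746997 q21476, e3 q22969 L747001 q21477, e3 q22970 (flp_h L760229) q24207, e3 q22971 (flp_h L760255) q24211, e3 q22972 (flp_h L760283) q24216, e3 q22973 L747030 q21470, e3 q22974 (flp_h L760385) q24235,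 e3 q22975 (flp_h L760309) q24221, trivial⟩ (by decide +kernel)

theorem ce_h_359 : ∀ r, r < 64 → sm gh (Qf (22976 + r)) = Qf (tab Gen.h (22976 + r)) :=
  edges_tab (sm gh) Qf (tab Gen.h) 22976 [(22976, 22976), (22977, 21474), (22978, 24231), (22979, 24237), (22980, 21479), (22981, 24156), (22982, 24159), (22983, 21488), (22984, 21484), (22985, 23721), (22986, 23716), (22987, 24241), (22988, 24246), (22989, 21490), (22990, 24248), (22991, 21493), (22992, 23985), (22993, 24251), (22994, 21496), (22995, 24253), (22996, 21499), (22997, 21500), (22998, 24254), (22999, 21502), (23000, 24155), (23001, 24169), (23002, 24260), (23003, 21506), (23004, 21507), (23005, 24261), (23006, 21509), (23007, 21512), (23008, 24264), (23009, 24265), (23010, 24178), (23011, 24179), (23012, 21515), (23013, 23013), (23014, 23014), (23015, 23015), (23016, 23016), (23017, 21525), (23018, 21659), (23019, 21529), (23020, 23719), (23021, 24276), (23022, 21530), (23023, 21532), (23024, 24191), (23025, 21534), (23026, 23405), (23027, 24192), (23028, 21538),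 (23029, 21540), (23030, 24286), (23031, 21542), (23032, 21544), (23033, 24289), (23034, 24196), (23035, 24292), (23036, 21550), (23037, 24294), (23038, 21552), (23039, 21667)]
    ⟨e3 q22976 L747052 q22976, e3 q22977 L747055 q21474, e3 q22978 (flp_h L760363) q24231, e3 q22979 L760392 q24237, e3 q22980 (flp_h L747069) q21479, e3 q22981 (flp_h L759906) q24156, e3 q22982 (flp_h L759926) q24159, e3 q22983 L747095 q21488, e3 q22984 (flp_h L747097) q21484, e3 q22985 (flp_h L755767) q23721, e3 q22986 (flp_h L755703) q23716, e3 q22987 (flp_h L760423) q24241, e3 q22988 L760453 q24246, e3 q22989 (flp_h L747134) q21490, e3 q22990 L760464 q24248, e3 q22991 (flp_h L747151) q21493, e3 q22992 (flp_h L758397) q23985, e3 q22993 L760485 q24251, e3 q22994 (flp_h L747174) q21496, e3 q22995 L760503 q24253, e3 q22996 (flp_h L747191) q21499, e3 q22997 (flp_h L747197) q21500, e3 q22998 (flp_h L760514) q24254, e3 q22999 (flp_h L747211) q21502, e3 q23000 (flp_h L759890) q24155, e3 q23001 (flp_h L759994) q24169, e3 q23002 L760548 q24260, e3 q23003 (flp_h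 L747246) q21506, e3 q23004 (flp_h L747258) q21507, e3 q23005 (flp_h L760569) q24261, e3 q23006 (flp_h L747272) q21509, e3 q23007 L747279 q21512, e3 q23008 (flp_h L760583) q24264, e3 q23009 (flp_h L760587) q24265, e3 q23010 (flp_h L760050) q24178, e3 q23011 (flp_h L760056) q24179, e3 q23012 (flp_h L747297) q21515, e3 q23013 L747314 q23013, e3 q23014 L747321 q23014, e3 q23015 L747328 q23015, e3 q23016 L747331 q23016, e3 q23017 (flp_h L747332) q21525, e3 q23018 L747346 q21659, e3 q23019 L747352 q21529, e3 q23020 (flp_h L755733) q23719, e3 q23021 (flp_h L760646) q24276, e3 q23022 (flp_h L747368) q21530, e3 q23023 (flp_h L747378) q21532, e3 q23024 (flp_h L760133) q24191, e3 q23025 (flp_h L747391) q21534, e3 q23026 (flp_h L751837) q23405, e3 q23027 (flp_h L760141) q24192, e3 q23028 (flp_h L747411) q21538, e3 q23029 (flp_h L747419) q21540, e3 q23030 (flp_h L760706) q24286, e3 q23031 (flp_h L747429) q21542, e3 q23032 L747441 q21544, e3 q23033 (flp_h L760720) q24289, e3 q23034 (flp_h L760165) q24196, e3 q23035 L760730 q24292, e3 q23036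 (flp_h L747461) q21550, e3 q23037 L760752 q24294, e3 q23038 (flp_h L747479) q21552, e3 q23039 L747491 q21667, trivial⟩ (by decide +kernel)

theorem ce_h_360 : ∀ r, r < 64 → sm gh (Qf (23040 + r)) = Qf (tab Gen.h (23040 + r)) :=
  edges_tab (sm gh) Qf (tab Gen.h) 23040 [(23040, 24298), (23041, 21555), (23042, 24299), (23043, 21671), (23044, 21588), (23045, 24303), (23046, 21560), (23047, 21562), (23048, 24090), (23049, 21564), (23050, 21566), (23051, 24308), (23052, 24091), (23053, 21569), (23054, 24312), (23055, 24313), (23056, 21573), (23057, 21574), (23058, 24314), (23059, 21576), (23060, 24318), (23061, 24319), (23062, 21578), (23063, 21579), (23064, 21584), (23065, 24323), (23066, 21582), (23067, 24320), (23068, 24322), (23069, 21585), (23070, 24071), (23071, 24079), (23072, 24302), (23073, 23073), (23074, 23074), (23075, 23075), (23076, 21594), (23077, 23077), (23078, 23078), (23079, 23079), (23080, 21601), (23081, 23904), (23082, 21603), (23083, 24208), (23084, 24209), (23085, 21606), (23086, 21633), (23087, 21610),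 (23088, 23313), (23089, 24345), (23090, 21622), (23091, 21619), (23092, 21612), (23093, 23184), (23094, 23980), (23095, 24214), (23096, 21616), (23097, 23835), (23098, 24351), (23099, 21620), (23100, 24350), (23101, 24349), (23102, 24362), (23103, 21624)]
    ⟨e3 q23040 L760774 q24298, e3 q23041 (flp_h L747499) q21555, e3 q23042 (flp_h L760784) q24299, e3 q23043 L747509 q21671, e3 q23044 L747513 q21588, e3 q23045 L760798 q24303, e3 q23046 (flp_h L747522) q21560, e3 q23047 (flp_h L747532) q21562, e3 q23048 (flp_h L759420) q24090, e3 q23049 (flp_h L747545) q21564, e3 q23050 (flp_h L747555) q21566, e3 q23051 (flp_h L760839) q24308, e3 q23052 (flp_h L759428) q24091, e3 q23053 (flp_h L747573) q21569, e3 q23054 L760861 q24312, e3 q23055 L760867 q24313, e3 q23056 (flp_h L747596) q21573, e3 q23057 (flp_h L747602) q21574, e3 q23058 (flp_h L760878) q24314, e3 q23059 (flp_h L747618) q21576, e3 q23060 L760899 q24318, e3 q23061 L760904 q24319, e3 q23062 (flp_h L747639) q21578, e3 q23063 (flp_h L747644) q21579, e3 q23064 L747652 q21584,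 e3 q23065 L760927 q24323, e3 q23066 (flp_h L747662) q21582, e3 q23067 (flp_h L760915) q24320, e3 q23068 (flp_h L760925) q24322, e3 q23069 (flp_h L747684) q21585, e3 q23070 (flp_h L759250) q24071, e3 q23071 (flp_h L759331) q24079, e3 q23072 (flp_h L760796) q24302, e3 q23073 L747719 q23073, e3 q23074 L747728 q23074, e3 q23075 L747735 q23075, e3 q23076 (flp_h L747738) q21594, e3 q23077 L747756 q23077, e3 q23078 L747759 q23078, e3 q23079 L747771 q23079, e3 q23080 (flp_h L747772) q21601, e3 q23081 (flp_h L757662) q23904, e3 q23082 (flp_h L747783) q21603, e3 q23083 (flp_h L760235) q24208, e3 q23084 (flp_h L760241) q24209, e3 q23085 (flp_h L747798) q21606, e3 q23086 L747816 q21633, e3 q23087 L747826 q21610, e3 q23088 (flp_h L750607) q23313, e3 q23089 (flp_h L761080) q24345, e3 q23090 L747846 q21622, e3 q23091 L747856 q21619, e3 q23092 (flp_h L747860) q21612, e3 q23093 (flp_h L748739) q23184, e3 q23094 (flp_h L758341) q23980, e3 q23095 (flp_h L760273) q24214, e3 q23096 (flp_h L747882) q21616, e3 q23097 (flp_h L756980) q23835, e3 q23098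 (flp_h L761126) q24351, e3 q23099 (flp_h L747904) q21620, e3 q23100 (flp_h L761118) q24350, e3 q23101 (flp_h L761108) q24349, e3 q23102 L761178 q24362, e3 q23103 (flp_h L747926) q21624, trivial⟩ (by decide +kernel)

theorem ce_h_361 : ∀ r, r < 64 → sm gh (Qf (23104 + r)) = Qf (tab Gen.h (23104 + r)) :=
  edges_tab (sm gh) Qf (tab Gen.h) 23104 [(23104, 21625), (23105, 21631), (23106, 24321), (23107, 21632), (23108, 21629), (23109, 24363), (23110, 24365), (23111, 24366), (23112, 24368), (23113, 24344), (23114, 24343), (23115, 24227), (23116, 24232), (23117, 24233), (23118, 24234), (23119, 21639), (23120, 21692), (23121, 21691), (23122, 21693), (23123, 21681), (23124, 21658), (23125, 21694), (23126, 21695), (23127, 21696), (23128, 21688), (23129, 21697), (23130, 21698), (23131, 21690), (23132, 24275), (23133, 21660), (23134, 21662), (23135, 24388), (23136, 24293), (23137, 21665), (23138, 24390), (23139, 24296), (23140, 24297), (23141, 21668), (23142, 21670), (23143, 24394), (23144, 21673), (23145, 24384), (23146, 24383), (23147,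 21682), (23148, 21687), (23149, 23149), (23150, 21689), (23151, 24398), (23152, 24387), (23153, 24382), (23154, 24381), (23155, 24385), (23156, 24386), (23157, 21701), (23158, 23158), (23159, 21707), (23160, 21712), (23161, 24402), (23162, 21714), (23163, 21716), (23164, 23164), (23165, 24405), (23166, 21720), (23167, 24407)]
    ⟨e3 q23104 (flp_h L747932) q21625, e3 q23105 L747944 q21631, e3 q23106 (flp_h L760921) q24321, e3 q23107 L747952 q21632, e3 q23108 (flp_h L747954) q21629, e3 q23109 (flp_h L761190) q24363, e3 q23110 (flp_h L761202) q24365, e3 q23111 (flp_h L761206) q24366, e3 q23112 (flp_h L761216) q24368, e3 q23113 (flp_h L761072) q24344, e3 q23114 (flp_h L761064) q24343, e3 q23115 (flp_h L760343) q24227, e3 q23116 (flp_h L760369) q24232, e3 q23117 (flp_h L760375) q24233, e3 q23118 (flp_h L760379) q24234, e3 q23119 (flp_h L748002) q21639, e3 q23120 L748018 q21692, e3 q23121 L748027 q21691, e3 q23122 L748033 q21693, e3 q23123 L748043 q21681, e3 q23124 L748049 q21658, e3 q23125 L748060 q21694, e3 q23126 L748066 q21695,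 e3 q23127 L748072 q21696, e3 q23128 L748082 q21688, e3 q23129 L748088 q21697, e3 q23130 L748092 q21698, e3 q23131 L748105 q21690, e3 q23132 (flp_h L760640) q24275, e3 q23133 (flp_h L748112) q21660, e3 q23134 (flp_h L748127) q21662, e3 q23135 (flp_h L761340) q24388, e3 q23136 (flp_h L760750) q24293, e3 q23137 (flp_h L748151) q21665, e3 q23138 (flp_h L761356) q24390, e3 q23139 (flp_h L760766) q24296, e3 q23140 (flp_h L760772) q24297, e3 q23141 (flp_h L748173) q21668, e3 q23142 L748183 q21670, e3 q23143 (flp_h L761378) q24394, e3 q23144 (flp_h L748190) q21673, e3 q23145 (flp_h L761308) q24384, e3 q23146 (flp_h L761298) q24383, e3 q23147 (flp_h L748214) q21682, e3 q23148 L748226 q21687, e3 q23149 L748234 q23149, e3 q23150 L748237 q21689, e3 q23151 (flp_h L761405) q24398, e3 q23152 (flp_h L761333) q24387, e3 q23153 (flp_h L761288) q24382, e3 q23154 (flp_h L761280) q24381, e3 q23155 (flp_h L761317) q24385, e3 q23156 (flp_h L761323) q24386, e3 q23157 L748289 q21701, e3 q23158 L748309 q23158, e3 q23159 L748322 q21707, e3 q23160 L748342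 q21712, e3 q23161 L761427 q24402, e3 q23162 (flp_h L748368) q21714, e3 q23163 (flp_h L748384) q21716, e3 q23164 L748416 q23164, e3 q23165 L761478 q24405, e3 q23166 (flp_h L748435) q21720, e3 q23167 L761512 q24407, trivial⟩ (by decide +kernel)

theorem ce_h_362 : ∀ r, r < 64 → sm gh (Qf (23168 + r)) = Qf (tab Gen.h (23168 + r)) :=
  edges_tab (sm gh) Qf (tab Gen.h) 23168 [(23168, 21723), (23169, 21725), (23170, 21821), (23171, 21727), (23172, 21729), (23173, 24411), (23174, 21731), (23175, 21733), (23176, 21740), (23177, 21741), (23178, 24412), (23179, 24413), (23180, 21742), (23181, 21898), (23182, 21747), (23183, 21749), (23184, 23093), (23185, 21751), (23186, 23186), (23187, 23187), (23188, 21974), (23189, 22714), (23190, 24424), (23191, 21759), (23192, 21992), (23193, 21993), (23194, 21762), (23195, 21770), (23196, 21771), (23197, 21772), (23198, 21773), (23199, 24429), (23200, 24430), (23201, 24431), (23202, 21889), (23203, 24435), (23204, 21775), (23205, 22734), (23206, 24437), (23207, 22506), (23208, 22603), (23209,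 24440), (23210, 21778), (23211, 24442), (23212, 21780), (23213, 24444), (23214, 21783), (23215, 22788), (23216, 24446), (23217, 21785), (23218, 21808), (23219, 24449), (23220, 21787), (23221, 21789), (23222, 24452), (23223, 21790), (23224, 23224), (23225, 21792), (23226, 24443), (23227, 23227), (23228, 24458), (23229, 21796), (23230, 23230), (23231, 23231)]
    ⟨e3 q23168 (flp_h L748469) q21723, e3 q23169 (flp_h L748485) q21725, e3 q23170 L748507 q21821, e3 q23171 (flp_h L748509) q21727, e3 q23172 (flp_h L748527) q21729, e3 q23173 L761568 q24411, e3 q23174 (flp_h L748564) q21731, e3 q23175 (flp_h L748582) q21733, e3 q23176 L748610 q21740, e3 q23177 L748622 q21741, e3 q23178 (flp_h L761598) q24412, e3 q23179 (flp_h L761616) q24413, e3 q23180 (flp_h L748659) q21742, e3 q23181 L748691 q21898, e3 q23182 (flp_h L748693) q21747, e3 q23183 (flp_h L748711) q21749, e3 q23184 L748739 q23093, e3 q23185 (flp_h L748741) q21751, e3 q23186 L748771 q23186, e3 q23187 L748788 q23187, e3 q23188 L748799 q21974, e3 q23189 L748817 q22714, e3 q23190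 L761777 q24424, e3 q23191 (flp_h L748837) q21759, e3 q23192 L748863 q21992, e3 q23193 L748869 q21993, e3 q23194 (flp_h L748871) q21762, e3 q23195 L748901 q21770, e3 q23196 L748913 q21771, e3 q23197 L748927 q21772, e3 q23198 L748939 q21773, e3 q23199 (flp_h L761853) q24429, e3 q23200 (flp_h L761867) q24430, e3 q23201 (flp_h L761885) q24431, e3 q23202 L749002 q21889, e3 q23203 L761938 q24435, e3 q23204 (flp_h L749023) q21775, e3 q23205 L749052 q22734, e3 q23206 L761972 q24437, e3 q23207 L749085 q22506, e3 q23208 L749101 q22603, e3 q23209 L762021 q24440, e3 q23210 (flp_h L749118) q21778, e3 q23211 L762049 q24442, e3 q23212 (flp_h L749144) q21780, e3 q23213 L762076 q24444, e3 q23214 (flp_h L749174) q21783, e3 q23215 L749206 q22788, e3 q23216 L762111 q24446, e3 q23217 (flp_h L749224) q21785, e3 q23218 L749252 q21808, e3 q23219 L762164 q24449, e3 q23220 (flp_h L749272) q21787, e3 q23221 (flp_h L749284) q21789, e3 q23222 L762209 q24452, e3 q23223 (flp_h L749314) q21790, e3 q23224 L749344 q23224, e3 q23225 (flp_h L749345) q21792,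 e3 q23226 (flp_h L762074) q24443, e3 q23227 L749386 q23227, e3 q23228 L762283 q24458, e3 q23229 (flp_h L749401) q21796, e3 q23230 L749428 q23230, e3 q23231 L749439 q23231, trivial⟩ (by decide +kernel)

theorem ce_h_363 : ∀ r, r < 64 → sm gh (Qf (23232 + r)) = Qf (tab Gen.h (23232 + r)) :=
  edges_tab (sm gh) Qf (tab Gen.h) 23232 [(23232, 23232), (23233, 23233), (23234, 21803), (23235, 24465), (23236, 21806), (23237, 21843), (23238, 24468), (23239, 21809), (23240, 24406), (23241, 21811), (23242, 24472), (23243, 21812), (23244, 21847), (23245, 21814), (23246, 24476), (23247, 24477), (23248, 21816), (23249, 21817), (23250, 24478), (23251, 21851), (23252, 24409), (23253, 24410), (23254, 21822), (23255, 23255), (23256, 21852), (23257, 21825), (23258, 21838), (23259, 21839), (23260, 23260), (23261, 23261), (23262, 23262), (23263, 21853), (23264, 21840), (23265, 21841), (23266, 21842), (23267, 24490), (23268, 24491), (23269, 24492), (23270, 24496), (23271, 24497), (23272, 24467), (23273, 24504), (23274, 21845), (23275, 24505), (23276,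 24474), (23277, 21848), (23278, 21850), (23279, 24508), (23280, 24482), (23281, 24489), (23282, 24511), (23283, 21855), (23284, 21856), (23285, 22299), (23286, 24514), (23287, 22373), (23288, 24516), (23289, 21861), (23290, 24517), (23291, 21863), (23292, 21864), (23293, 24520), (23294, 21867), (23295, 23295)]
    ⟨e3 q23232 L749456 q23232, e3 q23233 L749465 q23233, e3 q23234 (flp_h L749472) q21803, e3 q23235 L762386 q24465, e3 q23236 (flp_h L749504) q21806, e3 q23237 L749532 q21843, e3 q23238 L762428 q24468, e3 q23239 (flp_h L749550) q21809, e3 q23240 (flp_h L761510) q24406, e3 q23241 (flp_h L749572) q21811, e3 q23242 L762478 q24472, e3 q23243 (flp_h L749608) q21812, e3 q23244 L749642 q21847, e3 q23245 (flp_h L749644) q21814, e3 q23246 L762543 q24476, e3 q23247 L762558 q24477, e3 q23248 (flp_h L749690) q21816, e3 q23249 (flp_h L749702) q21817, e3 q23250 (flp_h L762580) q24478, e3 q23251 L749732 q21851, e3 q23252 (flp_h L761556) q24409, e3 q23253 (flp_h L761566) q24410, e3 q23254 (flp_h L749752) q21822, e3 q23255 L749777 q23255,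 e3 q23256 L749789 q21852, e3 q23257 (flp_h L749791) q21825, e3 q23258 L749812 q21838, e3 q23259 L749823 q21839, e3 q23260 L749839 q23260, e3 q23261 L749846 q23261, e3 q23262 L749865 q23262, e3 q23263 L749878 q21853, e3 q23264 L749888 q21840, e3 q23265 L749898 q21841, e3 q23266 L749912 q21842, e3 q23267 (flp_h L762718) q24490, e3 q23268 (flp_h L762728) q24491, e3 q23269 (flp_h L762740) q24492, e3 q23270 (flp_h L762795) q24496, e3 q23271 (flp_h L762811) q24497, e3 q23272 (flp_h L762426) q24467, e3 q23273 L762898 q24504, e3 q23274 (flp_h L750011) q21845, e3 q23275 (flp_h L762926) q24505, e3 q23276 (flp_h L762520) q24474, e3 q23277 (flp_h L750053) q21848, e3 q23278 L750077 q21850, e3 q23279 (flp_h L762969) q24508, e3 q23280 (flp_h L762618) q24482, e3 q23281 (flp_h L762705) q24489, e3 q23282 L762998 q24511, e3 q23283 (flp_h L750133) q21855, e3 q23284 (flp_h L750151) q21856, e3 q23285 L750179 q22299, e3 q23286 L763050 q24514, e3 q23287 L750211 q22373, e3 q23288 L763082 q24516, e3 q23289 (flp_h L750230) q21861, e3 q23290 L763096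 q24517, e3 q23291 (flp_h L750261) q21863, e3 q23292 (flp_h L750275) q21864, e3 q23293 L763141 q24520, e3 q23294 (flp_h L750304) q21867, e3 q23295 L750334 q23295, trivial⟩ (by decide +kernel)

theorem ce_h_364 : ∀ r, r < 64 → sm gh (Qf (23296 + r)) = Qf (tab Gen.h (23296 + r)) :=
  edges_tab (sm gh) Qf (tab Gen.h) 23296 [(23296, 21869), (23297, 24415), (23298, 23298), (23299, 21875), (23300, 24525), (23301, 24526), (23302, 21877), (23303, 21879), (23304, 24529), (23305, 21882), (23306, 23306), (23307, 21884), (23308, 24527), (23309, 23309), (23310, 24535), (23311, 21890), (23312, 22960), (23313, 23088), (23314, 21908), (23315, 24540), (23316, 21896), (23317, 22948), (23318, 24416), (23319, 21899), (23320, 21905), (23321, 21906), (23322, 21907), (23323, 24545), (23324, 24546), (23325, 22503), (23326, 24549), (23327, 22682), (23328, 22742), (23329, 24552), (23330, 21911), (23331, 22195), (23332, 24555), (23333, 21913), (23334, 22495), (23335, 24558), (23336, 24559), (23337, 21917), (23338, 24561), (23339, 24562), (23340, 21920),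 (23341, 23341), (23342, 21922), (23343, 21947), (23344, 21962), (23345, 24568), (23346, 21925), (23347, 24570), (23348, 21928), (23349, 24572), (23350, 21930), (23351, 23351), (23352, 24575), (23353, 21933), (23354, 24556), (23355, 24578), (23356, 21936), (23357, 23357), (23358, 24581), (23359, 24582)]
    ⟨e3 q23296 (flp_h L750335) q21869, e3 q23297 (flp_h L761651) q24415, e3 q23298 L750378 q23298, e3 q23299 L750395 q21875, e3 q23300 (flp_h L763221) q24525, e3 q23301 L763227 q24526, e3 q23302 (flp_h L750431) q21877, e3 q23303 (flp_h L750445) q21879, e3 q23304 L763270 q24529, e3 q23305 (flp_h L750476) q21882, e3 q23306 L750510 q23306, e3 q23307 (flp_h L750511) q21884, e3 q23308 (flp_h L763256) q24527, e3 q23309 L750555 q23309, e3 q23310 L763359 q24535, e3 q23311 (flp_h L750571) q21890, e3 q23312 L750593 q22960, e3 q23313 L750607 q23088, e3 q23314 L750621 q21908, e3 q23315 L763428 q24540, e3 q23316 (flp_h L750643) q21896, e3 q23317 L750667 q22948, e3 q23318 (flp_h L761665) q24416, e3 q23319 (flp_h L750677) q21899, e3 q23320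 L750707 q21905, e3 q23321 L750717 q21906, e3 q23322 L750736 q21907, e3 q23323 (flp_h L763506) q24545, e3 q23324 (flp_h L763518) q24546, e3 q23325 L750780 q22503, e3 q23326 L763559 q24549, e3 q23327 L750813 q22682, e3 q23328 L750829 q22742, e3 q23329 L763608 q24552, e3 q23330 (flp_h L750846) q21911, e3 q23331 L750870 q22195, e3 q23332 L763653 q24555, e3 q23333 (flp_h L750889) q21913, e3 q23334 L750913 q22495, e3 q23335 L763696 q24558, e3 q23336 L763711 q24559, e3 q23337 (flp_h L750943) q21917, e3 q23338 L763733 q24561, e3 q23339 L763744 q24562, e3 q23340 (flp_h L750976) q21920, e3 q23341 L750997 q23341, e3 q23342 (flp_h L750998) q21922, e3 q23343 L751017 q21947, e3 q23344 L751030 q21962, e3 q23345 L763811 q24568, e3 q23346 (flp_h L751047) q21925, e3 q23347 L763834 q24570, e3 q23348 (flp_h L751075) q21928, e3 q23349 L763865 q24572, e3 q23350 (flp_h L751102) q21930, e3 q23351 L751126 q23351, e3 q23352 L763897 q24575, e3 q23353 (flp_h L751141) q21933, e3 q23354 (flp_h L763676) q24556, e3 q23355 L763931 q24578, e3 q23356 (flp_h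 L751182) q21936, e3 q23357 L751212 q23357, e3 q23358 L763975 q24581, e3 q23359 L763991 q24582, trivial⟩ (by decide +kernel)

theorem ce_h_365 : ∀ r, r < 64 → sm gh (Qf (23360 + r)) = Qf (tab Gen.h (23360 + r)) :=
  edges_tab (sm gh) Qf (tab Gen.h) 23360 [(23360, 21940), (23361, 21941), (23362, 24583), (23363, 23363), (23364, 24588), (23365, 21945), (23366, 24565), (23367, 24566), (23368, 23368), (23369, 23369), (23370, 21950), (23371, 23371), (23372, 23372), (23373, 23373), (23374, 21956), (23375, 23375), (23376, 23376), (23377, 23377), (23378, 23378), (23379, 22500), (23380, 24601), (23381, 21963), (23382, 24408), (23383, 24604), (23384, 21966), (23385, 21967), (23386, 22027), (23387, 22719), (23388, 22028), (23389, 24611), (23390, 21972), (23391, 22928), (23392, 24422), (23393, 24616), (23394, 21976), (23395, 22021), (23396, 24619), (23397, 21979), (23398, 21980), (23399, 24620), (23400, 22034), (23401, 21983), (23402, 21988), (23403, 24628), (23404, 21986), (23405, 23026), (23406, 24626), (23407, 24627), (23408, 22038),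 (23409, 21990), (23410, 24425), (23411, 24426), (23412, 24427), (23413, 24428), (23414, 22025), (23415, 22039), (23416, 22040), (23417, 21997), (23418, 22016), (23419, 22017), (23420, 22018), (23421, 22019), (23422, 22041), (23423, 22004)]
    ⟨e3 q23360 (flp_h L751246) q21940, e3 q23361 (flp_h L751251) q21941, e3 q23362 (flp_h L764012) q24583, e3 q23363 L751279 q23363, e3 q23364 L764059 q24588, e3 q23365 (flp_h L751300) q21945, e3 q23366 (flp_h L763784) q24565, e3 q23367 (flp_h L763790) q24566, e3 q23368 L751345 q23368, e3 q23369 L751355 q23369, e3 q23370 (flp_h L751360) q21950, e3 q23371 L751387 q23371, e3 q23372 L751395 q23372, e3 q23373 L751410 q23373, e3 q23374 (flp_h L751415) q21956, e3 q23375 L751445 q23375, e3 q23376 L751454 q23376, e3 q23377 L751465 q23377, e3 q23378 L751483 q23378, e3 q23379 L751497 q22500, e3 q23380 L764232 q24601, e3 q23381 (flp_h L751516) q21963, e3 q23382 (flp_h L761544) q24408, e3 q23383 L764259 q24604, e3 q23384 (flp_h L751551) q21966, e3 q23385 (flp_h L751567) q21967, e3 q23386 L751587 q22027,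 e3 q23387 L751597 q22719, e3 q23388 L751605 q22028, e3 q23389 L764345 q24611, e3 q23390 (flp_h L751623) q21972, e3 q23391 L751645 q22928, e3 q23392 (flp_h L761755) q24422, e3 q23393 L764401 q24616, e3 q23394 (flp_h L751669) q21976, e3 q23395 L751699 q22021, e3 q23396 L764447 q24619, e3 q23397 (flp_h L751719) q21979, e3 q23398 (flp_h L751733) q21980, e3 q23399 (flp_h L764475) q24620, e3 q23400 L751763 q22034, e3 q23401 (flp_h L751765) q21983, e3 q23402 L751791 q21988, e3 q23403 L764563 q24628, e3 q23404 (flp_h L751811) q21986, e3 q23405 L751837 q23026, e3 q23406 (flp_h L764547) q24626, e3 q23407 (flp_h L764559) q24627, e3 q23408 L751855 q22038, e3 q23409 (flp_h L751859) q21990, e3 q23410 (flp_h L761807) q24425, e3 q23411 (flp_h L761817) q24426, e3 q23412 (flp_h L761829) q24427, e3 q23413 (flp_h L761837) q24428, e3 q23414 L751908 q22025, e3 q23415 L751921 q22039, e3 q23416 L751935 q22040, e3 q23417 (flp_h L751937) q21997, e3 q23418 L751963 q22016, e3 q23419 L751975 q22017, e3 q23420 L751987 q22018, e3 q23421 L751998 q22019,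 e3 q23422 L752016 q22041, e3 q23423 (flp_h L752022) q22004, trivial⟩ (by decide +kernel)

theorem ce_h_366 : ∀ r, r < 64 → sm gh (Qf (23424 + r)) = Qf (tab Gen.h (23424 + r)) :=
  edges_tab (sm gh) Qf (tab Gen.h) 23424 [(23424, 22042), (23425, 22020), (23426, 22022), (23427, 22023), (23428, 22024), (23429, 24643), (23430, 24644), (23431, 24645), (23432, 24646), (23433, 24605), (23434, 24647), (23435, 24618), (23436, 24648), (23437, 24656), (23438, 24607), (23439, 24610), (23440, 22029), (23441, 24641), (23442, 22031), (23443, 22033), (23444, 24658), (23445, 24624), (23446, 23446), (23447, 22037), (23448, 24660), (23449, 24634), (23450, 24642), (23451, 23451), (23452, 23452), (23453, 23453), (23454, 23454), (23455, 23455), (23456, 23456), (23457, 23457), (23458, 23458), (23459, 23459), (23460, 22071), (23461, 22072), (23462, 23462), (23463, 23463), (23464, 23464), (23465, 23465), (23466, 24662), (23467, 22089), (23468, 22090), (23469, 24664), (23470, 22094), (23471, 24665), (23472, 22096), (23473, 24667), (23474, 22098), (23475,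 23475), (23476, 22102), (23477, 23477), (23478, 24670), (23479, 22107), (23480, 22108), (23481, 22110), (23482, 22118), (23483, 22112), (23484, 22369), (23485, 22117), (23486, 24676), (23487, 24673)]
    ⟨e3 q23424 L752048 q22042, e3 q23425 L752064 q22020, e3 q23426 L752072 q22022, e3 q23427 L752082 q22023, e3 q23428 L752096 q22024, e3 q23429 (flp_h L764731) q24643, e3 q23430 (flp_h L764743) q24644, e3 q23431 (flp_h L764755) q24645, e3 q23432 (flp_h L764773) q24646, e3 q23433 (flp_h L764293) q24605, e3 q23434 (flp_h L764781) q24647, e3 q23435 (flp_h L764441) q24618, e3 q23436 (flp_h L764795) q24648, e3 q23437 L764900 q24656, e3 q23438 (flp_h L764311) q24607, e3 q23439 (flp_h L764341) q24610, e3 q23440 (flp_h L752232) q22029, e3 q23441 (flp_h L764697) q24641, e3 q23442 (flp_h L752263) q22031, e3 q23443 L752291 q22033, e3 q23444 (flp_h L764935) q24658, e3 q23445 (flp_h L764517) q24624, e3 q23446 L752333 q23446, e3 q23447 L752344 q22037, e3 q23448 (flp_h L764960) q24660, e3 q23449 (flp_h L764639) q24634, e3 q23450 (flp_h L764711)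 q24642, e3 q23451 L752402 q23451, e3 q23452 L752421 q23452, e3 q23453 L752440 q23453, e3 q23454 L752453 q23454, e3 q23455 L752478 q23455, e3 q23456 L752491 q23456, e3 q23457 L752516 q23457, e3 q23458 L752529 q23458, e3 q23459 L752548 q23459, e3 q23460 L752565 q22071, e3 q23461 L752587 q22072, e3 q23462 L752605 q23462, e3 q23463 L752626 q23463, e3 q23464 L752645 q23464, e3 q23465 L752664 q23465, e3 q23466 L764983 q24662, e3 q23467 (flp_h L752689) q22089, e3 q23468 (flp_h L752705) q22090, e3 q23469 L765017 q24664, e3 q23470 (flp_h L752739) q22094, e3 q23471 L765035 q24665, e3 q23472 (flp_h L752773) q22096, e3 q23473 L765070 q24667, e3 q23474 (flp_h L752807) q22098, e3 q23475 L752835 q23475, e3 q23476 (flp_h L752836) q22102, e3 q23477 L752868 q23477, e3 q23478 L765119 q24670, e3 q23479 (flp_h L752887) q22107, e3 q23480 (flp_h L752905) q22108, e3 q23481 (flp_h L752917) q22110, e3 q23482 L752945 q22118, e3 q23483 (flp_h L752947) q22112, e3 q23484 L752971 q22369, e3 q23485 L752987 q22117, e3 q23486 (flp_h L765213) q24676, e3 q23487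 (flp_h L765173) q24673, trivial⟩ (by decide +kernel)

theorem ce_h_367 : ∀ r, r < 64 → sm gh (Qf (23488 + r)) = Qf (tab Gen.h (23488 + r)) :=
  edges_tab (sm gh) Qf (tab Gen.h) 23488 [(23488, 22302), (23489, 22266), (23490, 24679), (23491, 22120), (23492, 24681), (23493, 22122), (23494, 22124), (23495, 24684), (23496, 22127), (23497, 24686), (23498, 22129), (23499, 23499), (23500, 24689), (23501, 22132), (23502, 24682), (23503, 23503), (23504, 23504), (23505, 22136), (23506, 23506), (23507, 23507), (23508, 23508), (23509, 22144), (23510, 22396), (23511, 22147), (23512, 22165), (23513, 22149), (23514, 24700), (23515, 22168), (23516, 22152), (23517, 22403), (23518, 22404), (23519, 22169), (23520, 22162), (23521, 22163), (23522, 22164), (23523, 24708), (23524, 24709), (23525, 24699), (23526, 22167), (23527, 24710), (23528, 24703), (23529, 22170), (23530, 22172), (23531, 22429), (23532, 24714), (23533, 22175), (23534, 24715), (23535, 22177), (23536, 23536), (23537, 22427), (23538, 24719), (23539, 22183), (23540, 22792), (23541,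 22432), (23542, 24722), (23543, 22185), (23544, 24724), (23545, 22187), (23546, 24726), (23547, 22190), (23548, 22191), (23549, 24728), (23550, 22194), (23551, 24730)]
    ⟨e3 q23488 L753036 q22302, e3 q23489 L753052 q22266, e3 q23490 L765251 q24679, e3 q23491 (flp_h L753067) q22120, e3 q23492 L765275 q24681, e3 q23493 (flp_h L753091) q22122, e3 q23494 (flp_h L753103) q22124, e3 q23495 L765314 q24684, e3 q23496 (flp_h L753133) q22127, e3 q23497 L765349 q24686, e3 q23498 (flp_h L753160) q22129, e3 q23499 L753180 q23499, e3 q23500 L765377 q24689, e3 q23501 (flp_h L753199) q22132, e3 q23502 (flp_h L765300) q24682, e3 q23503 L753231 q23503, e3 q23504 L753244 q23504, e3 q23505 (flp_h L753249) q22136, e3 q23506 L753271 q23506, e3 q23507 L753282 q23507, e3 q23508 L753305 q23508, e3 q23509 (flp_h L753306) q22144, e3 q23510 L753328 q22396, e3 q23511 (flp_h L753330) q22147, e3 q23512 L753356 q22165, e3 q23513 (flp_h L753358) q22149, e3 q23514 (flp_h L765527) q24700, e3 q23515 L753384 q22168, e3 q23516 (flp_h L753386) q22152, e3 q23517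 L753404 q22403, e3 q23518 L753412 q22404, e3 q23519 L753426 q22169, e3 q23520 L753442 q22162, e3 q23521 L753454 q22163, e3 q23522 L753462 q22164, e3 q23523 (flp_h L765603) q24708, e3 q23524 (flp_h L765619) q24709, e3 q23525 (flp_h L765511) q24699, e3 q23526 L753527 q22167, e3 q23527 (flp_h L765633) q24710, e3 q23528 (flp_h L765551) q24703, e3 q23529 (flp_h L753559) q22170, e3 q23530 (flp_h L753573) q22172, e3 q23531 L753600 q22429, e3 q23532 L765682 q24714, e3 q23533 (flp_h L753618) q22175, e3 q23534 L765700 q24715, e3 q23535 (flp_h L753649) q22177, e3 q23536 L753671 q23536, e3 q23537 L753678 q22427, e3 q23538 L765738 q24719, e3 q23539 (flp_h L753696) q22183, e3 q23540 L753726 q22792, e3 q23541 L753742 q22432, e3 q23542 L765788 q24722, e3 q23543 (flp_h L753761) q22185, e3 q23544 L765820 q24724, e3 q23545 (flp_h L753789) q22187, e3 q23546 L765847 q24726, e3 q23547 (flp_h L753819) q22190, e3 q23548 (flp_h L753833) q22191, e3 q23549 L765873 q24728, e3 q23550 (flp_h L753859) q22194, e3 q23551 L765908 q24730, trivial⟩ (by decide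 +kernel)

theorem ce_h_368 : ∀ r, r < 64 → sm gh (Qf (23552 + r)) = Qf (tab Gen.h (23552 + r)) :=
  edges_tab (sm gh) Qf (tab Gen.h) 23552 [(23552, 24731), (23553, 22197), (23554, 23554), (23555, 22199), (23556, 24725), (23557, 23557), (23558, 22203), (23559, 23559), (23560, 23560), (23561, 23561), (23562, 22211), (23563, 22213), (23564, 24741), (23565, 22216), (23566, 22462), (23567, 22218), (23568, 22219), (23569, 22241), (23570, 22221), (23571, 24612), (23572, 22242), (23573, 22472), (23574, 22473), (23575, 22243), (23576, 22244), (23577, 23577), (23578, 23578), (23579, 23579), (23580, 22245), (23581, 22239), (23582, 22240), (23583, 24758), (23584, 24745), (23585, 24746), (23586, 24750), (23587, 24754), (23588, 22596), (23589, 22497), (23590, 24764), (23591, 22247), (23592, 24766), (23593, 22249), (23594, 24768), (23595, 22252), (23596, 22253), (23597, 24771), (23598, 24772), (23599, 22255), (23600, 23600), (23601, 22257), (23602, 22276), (23603, 22259), (23604, 22261), (23605, 24779), (23606, 22262), (23607, 23607), (23608,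 22264), (23609, 24767), (23610, 24784), (23611, 22267), (23612, 23612), (23613, 24787), (23614, 22270), (23615, 22271)]
    ⟨e3 q23552 L765919 q24731, e3 q23553 (flp_h L753906) q22197, e3 q23554 L753928 q23554, e3 q23555 (flp_h L753929) q22199, e3 q23556 (flp_h L765845) q24725, e3 q23557 L753963 q23557, e3 q23558 (flp_h L753964) q22203, e3 q23559 L753994 q23559, e3 q23560 L754007 q23560, e3 q23561 L754018 q23561, e3 q23562 (flp_h L754025) q22211, e3 q23563 (flp_h L754035) q22213, e3 q23564 L766027 q24741, e3 q23565 (flp_h L754063) q22216, e3 q23566 L754081 q22462, e3 q23567 (flp_h L754083) q22218, e3 q23568 (flp_h L754099) q22219, e3 q23569 L754117 q22241, e3 q23570 (flp_h L754119) q22221, e3 q23571 (flp_h L764369) q24612, e3 q23572 L754141 q22242, e3 q23573 L754149 q22472, e3 q23574 L754157 q22473, e3 q23575 L754167 q22243, e3 q23576 L754189 q22244, e3 q23577 L754205 q23577, e3 q23578 L754214 q23578, e3 q23579 L754235 q23579, e3 q23580 L754248 q22245, e3 q23581 L754258 q22239, e3 q23582 L754266 q22240, e3 q23583 (flp_h L766228)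 q24758, e3 q23584 (flp_h L766083) q24745, e3 q23585 (flp_h L766099) q24746, e3 q23586 (flp_h L766131) q24750, e3 q23587 (flp_h L766169) q24754, e3 q23588 L754344 q22596, e3 q23589 L754360 q22497, e3 q23590 L766312 q24764, e3 q23591 (flp_h L754377) q22247, e3 q23592 L766338 q24766, e3 q23593 (flp_h L754401) q22249, e3 q23594 L766361 q24768, e3 q23595 (flp_h L754423) q22252, e3 q23596 (flp_h L754434) q22253, e3 q23597 L766400 q24771, e3 q23598 L766407 q24772, e3 q23599 (flp_h L754469) q22255, e3 q23600 L754486 q23600, e3 q23601 (flp_h L754487) q22257, e3 q23602 L754506 q22276, e3 q23603 (flp_h L754508) q22259, e3 q23604 (flp_h L754520) q22261, e3 q23605 L766482 q24779, e3 q23606 (flp_h L754552) q22262, e3 q23607 L754574 q23607, e3 q23608 (flp_h L754575) q22264, e3 q23609 (flp_h L766359) q24767, e3 q23610 L766528 q24784, e3 q23611 (flp_h L754610) q22267, e3 q23612 L754644 q23612, e3 q23613 L766572 q24787, e3 q23614 (flp_h L754652) q22270, e3 q23615 (flp_h L754657) q22271, trivial⟩ (by decide +kernel)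

theorem ce_h_369 : ∀ r, r < 64 → sm gh (Qf (23616 + r)) = Qf (tab Gen.h (23616 + r)) :=
  edges_tab (sm gh) Qf (tab Gen.h) 23616 [(23616, 24788), (23617, 23617), (23618, 22274), (23619, 24775), (23620, 24776), (23621, 23621), (23622, 23622), (23623, 22894), (23624, 23624), (23625, 23625), (23626, 23626), (23627, 23627), (23628, 22289), (23629, 22573), (23630, 22291), (23631, 24805), (23632, 24806), (23633, 22293), (23634, 22294), (23635, 24807), (23636, 22346), (23637, 22593), (23638, 22594), (23639, 24814), (23640, 22300), (23641, 24816), (23642, 24817), (23643, 22304), (23644, 22305), (23645, 24818), (23646, 22352), (23647, 24823), (23648, 22309), (23649, 22310), (23650, 22314), (23651, 22312), (23652, 24824), (23653, 24826), (23654, 24827), (23655, 22357), (23656, 22316), (23657, 22617), (23658, 22618), (23659, 22619), (23660, 22620), (23661, 23661), (23662, 22338), (23663, 23663), (23664, 23664), (23665, 22339), (23666, 23666), (23667, 23667), (23668, 23668), (23669, 23669), (23670, 22341), (23671, 22340), (23672, 22342),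 (23673, 24822), (23674, 24834), (23675, 24850), (23676, 22343), (23677, 22345), (23678, 24852), (23679, 22347)]
    ⟨e3 q23616 (flp_h L766583) q24788, e3 q23617 L754679 q23617, e3 q23618 (flp_h L754682) q22274, e3 q23619 (flp_h L766441) q24775, e3 q23620 (flp_h L766447) q24776, e3 q23621 L754716 q23621, e3 q23622 L754729 q23622, e3 q23623 L754746 q22894, e3 q23624 L754750 q23624, e3 q23625 L754763 q23625, e3 q23626 L754768 q23626, e3 q23627 L754773 q23627, e3 q23628 (flp_h L754776) q22289, e3 q23629 L754788 q22573, e3 q23630 (flp_h L754790) q22291, e3 q23631 L766735 q24805, e3 q23632 L766746 q24806, e3 q23633 (flp_h L754834) q22293, e3 q23634 (flp_h L754844) q22294, e3 q23635 (flp_h L766768) q24807, e3 q23636 L754868 q22346, e3 q23637 L754878 q22593, e3 q23638 L754884 q22594, e3 q23639 L766816 q24814, e3 q23640 (flp_h L754904) q22300, e3 q23641 L766844 q24816, e3 q23642 L766857 q24817, e3 q23643 (flp_h L754947) q22304, e3 q23644 (flp_h L754959) q22305, e3 q23645 (flp_h L766879) q24818, e3 q23646 L754993 q22352, e3 q23647 L766925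 q24823, e3 q23648 (flp_h L755002) q22309, e3 q23649 (flp_h L755009) q22310, e3 q23650 L755023 q22314, e3 q23651 (flp_h L755025) q22312, e3 q23652 (flp_h L766938) q24824, e3 q23653 (flp_h L766950) q24826, e3 q23654 (flp_h L766958) q24827, e3 q23655 L755053 q22357, e3 q23656 (flp_h L755057) q22316, e3 q23657 L755071 q22617, e3 q23658 L755077 q22618, e3 q23659 L755081 q22619, e3 q23660 L755089 q22620, e3 q23661 L755099 q23661, e3 q23662 L755106 q22338, e3 q23663 L755122 q23663, e3 q23664 L755135 q23664, e3 q23665 L755148 q22339, e3 q23666 L755162 q23666, e3 q23667 L755167 q23667, e3 q23668 L755172 q23668, e3 q23669 L755177 q23669, e3 q23670 L755182 q22341, e3 q23671 L755192 q22340, e3 q23672 L755200 q22342, e3 q23673 (flp_h L766919) q24822, e3 q23674 (flp_h L767000) q24834, e3 q23675 L767138 q24850, e3 q23676 (flp_h L755230) q22343, e3 q23677 L755252 q22345, e3 q23678 (flp_h L767163) q24852, e3 q23679 (flp_h L755263) q22347, trivial⟩ (by decide +kernel)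

theorem ce_h_370 : ∀ r, r < 64 → sm gh (Qf (23680 + r)) = Qf (tab Gen.h (23680 + r)) :=
  edges_tab (sm gh) Qf (tab Gen.h) 23680 [(23680, 24853), (23681, 22349), (23682, 22351), (23683, 24855), (23684, 23684), (23685, 22355), (23686, 22356), (23687, 24858), (23688, 24859), (23689, 22358), (23690, 22360), (23691, 23691), (23692, 24663), (23693, 23693), (23694, 22365), (23695, 24671), (23696, 24674), (23697, 24675), (23698, 22372), (23699, 24870), (23700, 22374), (23701, 22376), (23702, 22411), (23703, 22378), (23704, 22386), (23705, 24876), (23706, 22381), (23707, 22383), (23708, 24871), (23709, 24874), (23710, 24875), (23711, 23711), (23712, 23712), (23713, 22390), (23714, 22392), (23715, 24696), (23716, 22986), (23717, 24672), (23718, 24697), (23719, 23020), (23720, 22400), (23721, 22985), (23722, 24892), (23723, 22401), (23724, 24704), (23725, 24705), (23726, 24706), (23727, 24707), (23728, 22412), (23729, 22413), (23730, 22414), (23731, 22415), (23732, 24873), (23733, 24901), (23734, 24904), (23735, 22416), (23736, 24884),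 (23737, 22419), (23738, 22421), (23739, 23739), (23740, 24712), (23741, 22424), (23742, 24911), (23743, 23743)]
    ⟨e3 q23680 (flp_h L767178) q24853, e3 q23681 (flp_h L755290) q22349, e3 q23682 L755314 q22351, e3 q23683 (flp_h L767204) q24855, e3 q23684 L755336 q23684, e3 q23685 L755344 q22355, e3 q23686 L755354 q22356, e3 q23687 (flp_h L767237) q24858, e3 q23688 (flp_h L767241) q24859, e3 q23689 (flp_h L755375) q22358, e3 q23690 (flp_h L755387) q22360, e3 q23691 L755417 q23691, e3 q23692 (flp_h L765015) q24663, e3 q23693 L755445 q23693, e3 q23694 (flp_h L755446) q22365, e3 q23695 (flp_h L765147) q24671, e3 q23696 (flp_h L765189) q24674, e3 q23697 (flp_h L765199) q24675, e3 q23698 L755494 q22372, e3 q23699 L767363 q24870, e3 q23700 (flp_h L755513) q22374, e3 q23701 (flp_h L755521) q22376, e3 q23702 L755540 q22411, e3 q23703 (flp_h L755542) q22378, e3 q23704 L755557 q22386, e3 q23705 L767420 q24876, e3 q23706 (flp_h L755574) q22381, e3 q23707 (flp_h L755588) q22383, e3 q23708 (flp_h L767382) q24871, e3 q23709 (flp_h L767408)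 q24874, e3 q23710 (flp_h L767418) q24875, e3 q23711 L755644 q23711, e3 q23712 L755651 q23712, e3 q23713 (flp_h L755656) q22390, e3 q23714 (flp_h L755672) q22392, e3 q23715 (flp_h L765481) q24696, e3 q23716 L755703 q22986, e3 q23717 (flp_h L765159) q24672, e3 q23718 (flp_h L765489) q24697, e3 q23719 L755733 q23020, e3 q23720 L755751 q22400, e3 q23721 L755767 q22985, e3 q23722 (flp_h L767612) q24892, e3 q23723 (flp_h L755781) q22401, e3 q23724 (flp_h L765567) q24704, e3 q23725 (flp_h L765573) q24705, e3 q23726 (flp_h L765577) q24706, e3 q23727 (flp_h L765589) q24707, e3 q23728 L755823 q22412, e3 q23729 L755837 q22413, e3 q23730 L755845 q22414, e3 q23731 L755853 q22415, e3 q23732 (flp_h L767400) q24873, e3 q23733 (flp_h L767692) q24901, e3 q23734 L767716 q24904, e3 q23735 (flp_h L755890) q22416, e3 q23736 (flp_h L767526) q24884, e3 q23737 (flp_h L755914) q22419, e3 q23738 (flp_h L755926) q22421, e3 q23739 L755948 q23739, e3 q23740 (flp_h L765663) q24712, e3 q23741 (flp_h L755955) q22424, e3 q23742 (flp_h L767785) q24911, e3 q23743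 L755972 q23743, trivial⟩ (by decide +kernel)

theorem ce_h_371 : ∀ r, r < 64 → sm gh (Qf (23744 + r)) = Qf (tab Gen.h (23744 + r)) :=
  edges_tab (sm gh) Qf (tab Gen.h) 23744 [(23744, 24718), (23745, 24915), (23746, 22430), (23747, 24917), (23748, 22433), (23749, 22669), (23750, 22435), (23751, 22444), (23752, 24922), (23753, 22438), (23754, 24924), (23755, 22441), (23756, 24916), (23757, 24920), (23758, 24921), (23759, 22445), (23760, 23760), (23761, 23761), (23762, 23762), (23763, 23763), (23764, 24934), (23765, 22451), (23766, 22453), (23767, 24739), (23768, 24938), (23769, 22456), (23770, 24940), (23771, 22458), (23772, 24939), (23773, 22460), (23774, 24742), (23775, 24743), (23776, 24947), (23777, 22464), (23778, 24948), (23779, 24950), (23780, 22467), (23781, 22468), (23782, 22471), (23783, 24951), (23784, 24953), (23785, 24751), (23786, 24752), (23787, 24753), (23788, 22474), (23789, 23789), (23790, 23790), (23791, 22484), (23792, 22485), (23793, 22486), (23794, 23794), (23795, 23795), (23796, 22487), (23797, 24963),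 (23798, 24964), (23799, 24965), (23800, 24970), (23801, 22489), (23802, 22490), (23803, 22493), (23804, 24973), (23805, 22496), (23806, 24974), (23807, 22498)]
    ⟨e3 q23744 (flp_h L765736) q24718, e3 q23745 L767805 q24915, e3 q23746 (flp_h L755992) q22430, e3 q23747 L767832 q24917, e3 q23748 (flp_h L756021) q22433, e3 q23749 L756048 q22669, e3 q23750 (flp_h L756050) q22435, e3 q23751 L756065 q22444, e3 q23752 L767889 q24922, e3 q23753 (flp_h L756082) q22438, e3 q23754 L767920 q24924, e3 q23755 (flp_h L756108) q22441, e3 q23756 (flp_h L767830) q24916, e3 q23757 (flp_h L767877) q24920, e3 q23758 (flp_h L767887) q24921, e3 q23759 (flp_h L756152) q22445, e3 q23760 L756173 q23760, e3 q23761 L756183 q23761, e3 q23762 L756194 q23762, e3 q23763 L756203 q23763, e3 q23764 L768029 q24934, e3 q23765 (flp_h L756223) q22451, e3 q23766 (flp_h L756239) q22453, e3 q23767 (flp_h L766019) q24739, e3 q23768 L768074 q24938, e3 q23769 (flp_h L756269) q22456, e3 q23770 L768101 q24940, e3 q23771 (flp_h L756293) q22458, e3 q23772 (flp_h L768099)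 q24939, e3 q23773 (flp_h L756321) q22460, e3 q23774 (flp_h L766055) q24742, e3 q23775 (flp_h L766063) q24743, e3 q23776 L768165 q24947, e3 q23777 (flp_h L756359) q22464, e3 q23778 (flp_h L768193) q24948, e3 q23779 L768205 q24950, e3 q23780 (flp_h L756396) q22467, e3 q23781 (flp_h L756403) q22468, e3 q23782 L756425 q22471, e3 q23783 (flp_h L768224) q24951, e3 q23784 (flp_h L768250) q24953, e3 q23785 (flp_h L766141) q24751, e3 q23786 (flp_h L766147) q24752, e3 q23787 (flp_h L766155) q24753, e3 q23788 (flp_h L756463) q22474, e3 q23789 L756488 q23789, e3 q23790 L756498 q23790, e3 q23791 L756510 q22484, e3 q23792 L756520 q22485, e3 q23793 L756528 q22486, e3 q23794 L756536 q23794, e3 q23795 L756545 q23795, e3 q23796 L756556 q22487, e3 q23797 (flp_h L768343) q24963, e3 q23798 (flp_h L768351) q24964, e3 q23799 (flp_h L768361) q24965, e3 q23800 L768399 q24970, e3 q23801 (flp_h L756591) q22489, e3 q23802 (flp_h L756606) q22490, e3 q23803 (flp_h L756619) q22493, e3 q23804 L768432 q24973, e3 q23805 (flp_h L756649) q22496, e3 q23806 L768446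 q24974, e3 q23807 (flp_h L756677) q22498, trivial⟩ (by decide +kernel)

theorem ce_h_372 : ∀ r, r < 64 → sm gh (Qf (23808 + r)) = Qf (tab Gen.h (23808 + r)) :=
  edges_tab (sm gh) Qf (tab Gen.h) 23808 [(23808, 22671), (23809, 24976), (23810, 22501), (23811, 22532), (23812, 24979), (23813, 22504), (23814, 24981), (23815, 24982), (23816, 22507), (23817, 22674), (23818, 24986), (23819, 24987), (23820, 22511), (23821, 24989), (23822, 22513), (23823, 24988), (23824, 22676), (23825, 22516), (23826, 22544), (23827, 22545), (23828, 22519), (23829, 24999), (23830, 22522), (23831, 24972), (23832, 22524), (23833, 25003), (23834, 22527), (23835, 23097), (23836, 25006), (23837, 22530), (23838, 24977), (23839, 24978), (23840, 22533), (23841, 25011), (23842, 25013), (23843, 22536), (23844, 22537), (23845, 22541), (23846, 22539), (23847, 25014), (23848, 25016), (23849, 22542), (23850, 24994), (23851, 24995), (23852, 24996), (23853, 24997), (23854, 22546), (23855, 22726), (23856, 22549), (23857, 23857), (23858, 23858), (23859, 23859), (23860,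 23860), (23861, 22553), (23862, 22725), (23863, 23863), (23864, 23864), (23865, 23865), (23866, 23866), (23867, 23867), (23868, 23868), (23869, 22564), (23870, 22566), (23871, 25040)]
    ⟨e3 q23808 L756694 q22671, e3 q23809 L768469 q24976, e3 q23810 (flp_h L756707) q22501, e3 q23811 L756718 q22532, e3 q23812 L768492 q24979, e3 q23813 (flp_h L756734) q22504, e3 q23814 L768517 q24981, e3 q23815 L768535 q24982, e3 q23816 (flp_h L756774) q22507, e3 q23817 L756789 q22674, e3 q23818 L768565 q24986, e3 q23819 L768581 q24987, e3 q23820 (flp_h L756823) q22511, e3 q23821 L768609 q24989, e3 q23822 (flp_h L756844) q22513, e3 q23823 (flp_h L768607) q24988, e3 q23824 L756859 q22676, e3 q23825 (flp_h L756861) q22516, e3 q23826 L756876 q22544, e3 q23827 L756882 q22545, e3 q23828 (flp_h L756884) q22519, e3 q23829 L768684 q24999, e3 q23830 (flp_h L756909) q22522, e3 q23831 (flp_h L768430) q24972, e3 q23832 (flp_h L756926) q22524, e3 q23833 L768725 q25003, e3 q23834 (flp_h L756956) q22527, e3 q23835 L756980 q23097, e3 q23836 L768769 q25006,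 e3 q23837 (flp_h L756994) q22530, e3 q23838 (flp_h L768484) q24977, e3 q23839 (flp_h L768490) q24978, e3 q23840 (flp_h L757016) q22533, e3 q23841 (flp_h L768823) q25011, e3 q23842 L768833 q25013, e3 q23843 (flp_h L757054) q22536, e3 q23844 (flp_h L757064) q22537, e3 q23845 L757086 q22541, e3 q23846 (flp_h L757088) q22539, e3 q23847 (flp_h L768857) q25014, e3 q23848 (flp_h L768883) q25016, e3 q23849 (flp_h L757124) q22542, e3 q23850 (flp_h L768651) q24994, e3 q23851 (flp_h L768657) q24995, e3 q23852 (flp_h L768661) q24996, e3 q23853 (flp_h L768668) q24997, e3 q23854 (flp_h L757160) q22546, e3 q23855 L757185 q22726, e3 q23856 (flp_h L757189) q22549, e3 q23857 L757209 q23857, e3 q23858 L757216 q23858, e3 q23859 L757225 q23859, e3 q23860 L757237 q23860, e3 q23861 (flp_h L757242) q22553, e3 q23862 L757264 q22725, e3 q23863 L757278 q23863, e3 q23864 L757285 q23864, e3 q23865 L757296 q23865, e3 q23866 L757307 q23866, e3 q23867 L757316 q23867, e3 q23868 L757328 q23868, e3 q23869 (flp_h L757335) q22564, e3 q23870 (flp_h L757347) q22566,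 e3 q23871 L769123 q25040, trivial⟩ (by decide +kernel)

theorem ce_h_373 : ∀ r, r < 64 → sm gh (Qf (23872 + r)) = Qf (tab Gen.h (23872 + r)) :=
  edges_tab (sm gh) Qf (tab Gen.h) 23872 [(23872, 22568), (23873, 25039), (23874, 22577), (23875, 22571), (23876, 24802), (23877, 24803), (23878, 22574), (23879, 25044), (23880, 22578), (23881, 25043), (23882, 25052), (23883, 25053), (23884, 22583), (23885, 22584), (23886, 22589), (23887, 25057), (23888, 22587), (23889, 25054), (23890, 25056), (23891, 25038), (23892, 22591), (23893, 24744), (23894, 24811), (23895, 24812), (23896, 24813), (23897, 24998), (23898, 25070), (23899, 22597), (23900, 22601), (23901, 22599), (23902, 25071), (23903, 25072), (23904, 23081), (23905, 25078), (23906, 25079), (23907, 22605), (23908, 22606), (23909, 22612), (23910, 25015), (23911, 22613), (23912, 22614), (23913, 22610), (23914, 25080), (23915, 25082), (23916, 25083), (23917, 25086), (23918, 25087), (23919, 25088), (23920, 24835), (23921, 24836), (23922, 24837), (23923, 24838), (23924, 24839), (23925,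 24840), (23926, 23926), (23927, 22623), (23928, 23928), (23929, 23929), (23930, 23930), (23931, 22651), (23932, 22652), (23933, 22653), (23934, 22654), (23935, 22655)]
    ⟨e3 q23872 (flp_h L757372) q22568, e3 q23873 (flp_h L769121) q25039, e3 q23874 L757399 q22577, e3 q23875 (flp_h L757403) q22571, e3 q23876 (flp_h L766708) q24802, e3 q23877 (flp_h L766716) q24803, e3 q23878 (flp_h L757422) q22574, e3 q23879 (flp_h L769176) q25044, e3 q23880 (flp_h L757453) q22578, e3 q23881 (flp_h L769160) q25043, e3 q23882 L769232 q25052, e3 q23883 L769243 q25053, e3 q23884 (flp_h L757497) q22583, e3 q23885 (flp_h L757504) q22584, e3 q23886 L757522 q22589, e3 q23887 L769286 q25057, e3 q23888 (flp_h L757536) q22587, e3 q23889 (flp_h L769264) q25054, e3 q23890 (flp_h L769284) q25056, e3 q23891 (flp_h L769107) q25038, e3 q23892 (flp_h L757566) q22591, e3 q23893 (flp_h L766071) q24744, e3 q23894 (flp_h L766798) q24811, e3 q23895 (flp_h L766806) q24812, e3 q23896 (flp_h L766814) q24813, e3 q23897 (flp_h L768682) q24998, e3 q23898 L769374 q25070,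 e3 q23899 (flp_h L757613) q22597, e3 q23900 L757628 q22601, e3 q23901 (flp_h L757630) q22599, e3 q23902 (flp_h L769391) q25071, e3 q23903 (flp_h L769399) q25072, e3 q23904 L757662 q23081, e3 q23905 L769439 q25078, e3 q23906 L769450 q25079, e3 q23907 (flp_h L757688) q22605, e3 q23908 (flp_h L757695) q22606, e3 q23909 L757706 q22612, e3 q23910 (flp_h L768871) q25015, e3 q23911 L757718 q22613, e3 q23912 L757728 q22614, e3 q23913 (flp_h L757732) q22610, e3 q23914 (flp_h L769465) q25080, e3 q23915 (flp_h L769477) q25082, e3 q23916 (flp_h L769481) q25083, e3 q23917 (flp_h L769508) q25086, e3 q23918 (flp_h L769518) q25087, e3 q23919 (flp_h L769528) q25088, e3 q23920 (flp_h L767012) q24835, e3 q23921 (flp_h L767020) q24836, e3 q23922 (flp_h L767028) q24837, e3 q23923 (flp_h L767038) q24838, e3 q23924 (flp_h L767044) q24839, e3 q23925 (flp_h L767050) q24840, e3 q23926 L757822 q23926, e3 q23927 (flp_h L757823) q22623, e3 q23928 L757841 q23928, e3 q23929 L757848 q23929, e3 q23930 L757857 q23930, e3 q23931 L757865 q22651, e3 q23932 L757872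 q22652, e3 q23933 L757878 q22653, e3 q23934 L757886 q22654, e3 q23935 L757894 q22655, trivial⟩ (by decide +kernel)

theorem ce_h_374 : ∀ r, r < 64 → sm gh (Qf (23936 + r)) = Qf (tab Gen.h (23936 + r)) :=
  edges_tab (sm gh) Qf (tab Gen.h) 23936 [(23936, 22656), (23937, 22633), (23938, 23938), (23939, 23939), (23940, 23940), (23941, 23941), (23942, 23942), (23943, 22657), (23944, 22658), (23945, 22659), (23946, 22660), (23947, 22661), (23948, 25125), (23949, 23949), (23950, 23950), (23951, 25110), (23952, 25111), (23953, 25112), (23954, 25113), (23955, 25114), (23956, 25115), (23957, 25116), (23958, 25134), (23959, 25121), (23960, 25136), (23961, 25123), (23962, 25139), (23963, 22662), (23964, 22679), (23965, 22680), (23966, 22667), (23967, 22668), (23968, 25143), (23969, 24919), (23970, 24980), (23971, 24984), (23972, 24985), (23973, 24993), (23974, 25141), (23975, 22748), (23976, 22721), (23977, 22728), (23978, 22757), (23979, 22758), (23980, 23094), (23981, 22819), (23982, 24464), (23983, 22831), (23984, 22694), (23985,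 22992), (23986, 22696), (23987, 22700), (23988, 22698), (23989, 25159), (23990, 25160), (23991, 22853), (23992, 22854), (23993, 22855), (23994, 23994), (23995, 23995), (23996, 23996), (23997, 22709), (23998, 23998), (23999, 22713)]
    ⟨e3 q23936 L757907 q22656, e3 q23937 (flp_h L757911) q22633, e3 q23938 L757931 q23938, e3 q23939 L757938 q23939, e3 q23940 L757943 q23940, e3 q23941 L757948 q23941, e3 q23942 L757959 q23942, e3 q23943 L757970 q22657, e3 q23944 L757978 q22658, e3 q23945 L757990 q22659, e3 q23946 L758002 q22660, e3 q23947 L758012 q22661, e3 q23948 L769812 q25125, e3 q23949 L758023 q23949, e3 q23950 L758034 q23950, e3 q23951 (flp_h L769688) q25110, e3 q23952 (flp_h L769698) q25111, e3 q23953 (flp_h L769707) q25112, e3 q23954 (flp_h L769717) q25113, e3 q23955 (flp_h L769721) q25114, e3 q23956 (flp_h L769732) q25115, e3 q23957 (flp_h L769742) q25116, e3 q23958 L769899 q25134, e3 q23959 (flp_h L769780) q25121, e3 q23960 L769920 q25136, e3 q23961 (flp_h L769802) q25123, e3 q23962 L769949 q25139, e3 q23963 (flp_h L758148)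 q22662, e3 q23964 L758158 q22679, e3 q23965 L758172 q22680, e3 q23966 L758186 q22667, e3 q23967 L758194 q22668, e3 q23968 (flp_h L769994) q25143, e3 q23969 (flp_h L767869) q24919, e3 q23970 (flp_h L768515) q24980, e3 q23971 (flp_h L768555) q24984, e3 q23972 (flp_h L768563) q24985, e3 q23973 (flp_h L768638) q24993, e3 q23974 (flp_h L769970) q25141, e3 q23975 L758283 q22748, e3 q23976 L758293 q22721, e3 q23977 L758309 q22728, e3 q23978 L758325 q22757, e3 q23979 L758333 q22758, e3 q23980 L758341 q23094, e3 q23981 L758355 q22819, e3 q23982 (flp_h L762384) q24464, e3 q23983 L758371 q22831, e3 q23984 (flp_h L758375) q22694, e3 q23985 L758397 q22992, e3 q23986 (flp_h L758399) q22696, e3 q23987 L758424 q22700, e3 q23988 (flp_h L758426) q22698, e3 q23989 (flp_h L770174) q25159, e3 q23990 (flp_h L770184) q25160, e3 q23991 L758460 q22853, e3 q23992 L758468 q22854, e3 q23993 L758474 q22855, e3 q23994 L758488 q23994, e3 q23995 L758499 q23995, e3 q23996 L758504 q23996, e3 q23997 (flp_h L758507) q22709, e3 q23998 L758533 q23998, e3 q23999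 L758548 q22713, trivial⟩ (by decide +kernel)

theorem ce_h_375 : ∀ r, r < 64 → sm gh (Qf (24000 + r)) = Qf (tab Gen.h (24000 + r)) :=
  edges_tab (sm gh) Qf (tab Gen.h) 24000 [(24000, 22732), (24001, 25172), (24002, 24423), (24003, 22715), (24004, 24606), (24005, 22724), (24006, 24608), (24007, 24609), (24008, 25149), (24009, 25027), (24010, 22901), (24011, 25150), (24012, 22729), (24013, 25184), (24014, 24014), (24015, 25173), (24016, 25188), (24017, 22735), (24018, 22736), (24019, 22767), (24020, 22738), (24021, 24403), (24022, 22740), (24023, 22768), (24024, 25196), (24025, 22743), (24026, 22744), (24027, 25197), (24028, 22771), (24029, 22925), (24030, 25148), (24031, 22749), (24032, 25204), (24033, 22774), (24034, 22752), (24035, 22755), (24036, 25208), (24037, 25209), (24038, 25210), (24039, 22777), (24040, 25151), (24041, 25152), (24042, 22778), (24043, 24043), (24044, 22779), (24045, 22780), (24046, 24046), (24047, 25189), (24048, 25191), (24049, 25195), (24050, 22770), (24051, 25224), (24052, 25201), (24053, 22773),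 (24054, 25227), (24055, 25228), (24056, 25207), (24057, 22776), (24058, 25231), (24059, 25218), (24060, 25220), (24061, 22781), (24062, 22782), (24063, 24063)]
    ⟨e3 q24000 L758564 q22732, e3 q24001 (flp_h L770297) q25172, e3 q24002 (flp_h L761771) q24423, e3 q24003 (flp_h L758586) q22715, e3 q24004 (flp_h L764303) q24606, e3 q24005 L758612 q22724, e3 q24006 (flp_h L764321) q24608, e3 q24007 (flp_h L764331) q24609, e3 q24008 (flp_h L770058) q25149, e3 q24009 (flp_h L768982) q25027, e3 q24010 L758664 q22901, e3 q24011 (flp_h L770072) q25150, e3 q24012 (flp_h L758674) q22729, e3 q24013 (flp_h L770409) q25184, e3 q24014 L758691 q24014, e3 q24015 (flp_h L770311) q25173, e3 q24016 L770433 q25188, e3 q24017 (flp_h L758716) q22735, e3 q24018 (flp_h L758727) q22736, e3 q24019 L758750 q22767, e3 q24020 (flp_h L758752) q22738, e3 q24021 (flp_h L761459) q24403, e3 q24022 (flp_h L758767) q22740, e3 q24023 L758783 q22768, e3 q24024 L770508 q25196, e3 q24025 (flp_h L758798) q22743, e3 q24026 (flp_h L758810) q22744, e3 q24027 (flp_h L770527)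 q25197, e3 q24028 L758838 q22771, e3 q24029 L758854 q22925, e3 q24030 (flp_h L770048) q25148, e3 q24031 (flp_h L758864) q22749, e3 q24032 (flp_h L770593) q25204, e3 q24033 L758884 q22774, e3 q24034 (flp_h L758886) q22752, e3 q24035 L758903 q22755, e3 q24036 (flp_h L770627) q25208, e3 q24037 (flp_h L770635) q25209, e3 q24038 (flp_h L770645) q25210, e3 q24039 L758929 q22777, e3 q24040 (flp_h L770086) q25151, e3 q24041 (flp_h L770094) q25152, e3 q24042 L758956 q22778, e3 q24043 L758970 q24043, e3 q24044 L758979 q22779, e3 q24045 L758987 q22780, e3 q24046 L758997 q24046, e3 q24047 (flp_h L770456) q25189, e3 q24048 (flp_h L770478) q25191, e3 q24049 (flp_h L770506) q25195, e3 q24050 L759041 q22770, e3 q24051 (flp_h L770775) q25224, e3 q24052 (flp_h L770563) q25201, e3 q24053 L759074 q22773, e3 q24054 (flp_h L770803) q25227, e3 q24055 (flp_h L770811) q25228, e3 q24056 (flp_h L770613) q25207, e3 q24057 L759109 q22776, e3 q24058 (flp_h L770834) q25231, e3 q24059 (flp_h L770705) q25218, e3 q24060 (flp_h L770724) q25220, e3 q24061 (flp_h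 L759140) q22781, e3 q24062 (flp_h L759154) q22782, e3 q24063 L759178 q24063, trivial⟩ (by decide +kernel)

theorem ce_h_376 : ∀ r, r < 64 → sm gh (Qf (24064 + r)) = Qf (tab Gen.h (24064 + r)) :=
  edges_tab (sm gh) Qf (tab Gen.h) 24064 [(24064, 22784), (24065, 25235), (24066, 24066), (24067, 22812), (24068, 25239), (24069, 22789), (24070, 24070), (24071, 23070), (24072, 25243), (24073, 22793), (24074, 24074), (24075, 25246), (24076, 22796), (24077, 25247), (24078, 24078), (24079, 23071), (24080, 22800), (24081, 22801), (24082, 25251), (24083, 24083), (24084, 22804), (24085, 22805), (24086, 22808), (24087, 25255), (24088, 25257), (24089, 25258), (24090, 23048), (24091, 23052), (24092, 25238), (24093, 22815), (24094, 24466), (24095, 22871), (24096, 24793), (24097, 25154), (24098, 22820), (24099, 24918), (24100, 22872), (24101, 25275), (24102, 22824), (24103, 22825), (24104, 22828), (24105, 25276), (24106, 25278), (24107, 25279), (24108, 22876), (24109, 22939), (24110, 25156), (24111, 22832), (24112, 24975), (24113, 22834), (24114,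 22835), (24115, 22839), (24116, 22837), (24117, 25290), (24118, 25292), (24119, 25293), (24120, 22841), (24121, 22842), (24122, 22848), (24123, 25256), (24124, 22849), (24125, 22850), (24126, 22846), (24127, 25299)]
    ⟨e3 q24064 (flp_h L759179) q22784, e3 q24065 (flp_h L770875) q25235, e3 q24066 L759200 q24066, e3 q24067 L759209 q22812, e3 q24068 L770907 q25239, e3 q24069 (flp_h L759222) q22789, e3 q24070 L759241 q24070, e3 q24071 L759250 q23070, e3 q24072 L770937 q25243, e3 q24073 (flp_h L759263) q22793, e3 q24074 L759289 q24074, e3 q24075 L770967 q25246, e3 q24076 (flp_h L759301) q22796, e3 q24077 (flp_h L770984) q25247, e3 q24078 L759322 q24078, e3 q24079 L759331 q23071, e3 q24080 (flp_h L759335) q22800, e3 q24081 (flp_h L759340) q22801, e3 q24082 (flp_h L771020) q25251, e3 q24083 L759368 q24083, e3 q24084 (flp_h L759371) q22804, e3 q24085 (flp_h L759381) q22805, e3 q24086 L759388 q22808, e3 q24087 (flp_h L771056) q25255, e3 q24088 (flp_h L771066) q25257, e3 q24089 (flp_h L771070) q25258, e3 q24090 L759420 q23048, e3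 q24091 L759428 q23052, e3 q24092 (flp_h L770901) q25238, e3 q24093 (flp_h L759438) q22815, e3 q24094 (flp_h L762412) q24466, e3 q24095 L759455 q22871, e3 q24096 (flp_h L766626) q24793, e3 q24097 (flp_h L770114) q25154, e3 q24098 (flp_h L759467) q22820, e3 q24099 (flp_h L767855) q24918, e3 q24100 L759495 q22872, e3 q24101 L771185 q25275, e3 q24102 (flp_h L759508) q22824, e3 q24103 (flp_h L759517) q22825, e3 q24104 L759529 q22828, e3 q24105 (flp_h L771202) q25276, e3 q24106 (flp_h L771214) q25278, e3 q24107 (flp_h L771220) q25279, e3 q24108 L759555 q22876, e3 q24109 L759565 q22939, e3 q24110 (flp_h L770134) q25156, e3 q24111 (flp_h L759575) q22832, e3 q24112 (flp_h L768467) q24975, e3 q24113 (flp_h L759595) q22834, e3 q24114 (flp_h L759602) q22835, e3 q24115 L759614 q22839, e3 q24116 (flp_h L759616) q22837, e3 q24117 (flp_h L771308) q25290, e3 q24118 (flp_h L771318) q25292, e3 q24119 (flp_h L771324) q25293, e3 q24120 (flp_h L759648) q22841, e3 q24121 (flp_h L759659) q22842, e3 q24122 L759670 q22848, e3 q24123 (flp_h L771062)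 q25256, e3 q24124 L759678 q22849, e3 q24125 L759682 q22850, e3 q24126 (flp_h L759686) q22846, e3 q24127 (flp_h L771370) q25299, trivial⟩ (by decide +kernel)

theorem ce_h_377 : ∀ r, r < 64 → sm gh (Qf (24128 + r)) = Qf (tab Gen.h (24128 + r)) :=
  edges_tab (sm gh) Qf (tab Gen.h) 24128 [(24128, 25301), (24129, 25302), (24130, 25305), (24131, 25306), (24132, 25307), (24133, 24777), (24134, 25165), (24135, 25166), (24136, 25167), (24137, 22856), (24138, 24138), (24139, 24139), (24140, 24140), (24141, 22883), (24142, 24142), (24143, 24143), (24144, 24144), (24145, 24145), (24146, 25268), (24147, 24147), (24148, 22875), (24149, 25324), (24150, 25285), (24151, 24151), (24152, 22879), (24153, 24153), (24154, 22882), (24155, 23000), (24156, 22981), (24157, 24872), (24158, 22895), (24159, 22982), (24160, 22896), (24161, 24799), (24162, 25332), (24163, 25334), (24164, 22898), (24165, 25335), (24166, 24166), (24167, 25182), (24168, 24168), (24169, 23001), (24170, 25341), (24171, 22905), (24172, 22906), (24173, 22909), (24174, 25342),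 (24175, 25344), (24176, 25345), (24177, 22920), (24178, 23010), (24179, 23011), (24180, 24180), (24181, 24181), (24182, 22921), (24183, 24183), (24184, 22919), (24185, 25356), (24186, 25351), (24187, 22922), (24188, 25357), (24189, 24189), (24190, 25202), (24191, 23024)]
    ⟨e3 q24128 (flp_h L771382) q25301, e3 q24129 (flp_h L771386) q25302, e3 q24130 (flp_h L771401) q25305, e3 q24131 (flp_h L771407) q25306, e3 q24132 (flp_h L771413) q25307, e3 q24133 (flp_h L766463) q24777, e3 q24134 (flp_h L770226) q25165, e3 q24135 (flp_h L770236) q25166, e3 q24136 (flp_h L770246) q25167, e3 q24137 (flp_h L759740) q22856, e3 q24138 L759765 q24138, e3 q24139 L759776 q24139, e3 q24140 L759781 q24140, e3 q24141 L759786 q22883, e3 q24142 L759801 q24142, e3 q24143 L759806 q24143, e3 q24144 L759813 q24144, e3 q24145 L759818 q24145, e3 q24146 (flp_h L771143) q25268, e3 q24147 L759832 q24147, e3 q24148 L759837 q22875, e3 q24149 (flp_h L771518) q25324, e3 q24150 (flp_h L771264) q25285, e3 q24151 L759859 q24151, e3 q24152 L759864 q22879, e3 q24153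 L759868 q24153, e3 q24154 L759873 q22882, e3 q24155 L759890 q23000, e3 q24156 L759906 q22981, e3 q24157 (flp_h L767390) q24872, e3 q24158 L759918 q22895, e3 q24159 L759926 q22982, e3 q24160 L759934 q22896, e3 q24161 (flp_h L766680) q24799, e3 q24162 (flp_h L771586) q25332, e3 q24163 L771596 q25334, e3 q24164 (flp_h L759961) q22898, e3 q24165 (flp_h L771605) q25335, e3 q24166 L759972 q24166, e3 q24167 (flp_h L770393) q25182, e3 q24168 L759985 q24168, e3 q24169 L759994 q23001, e3 q24170 L771642 q25341, e3 q24171 (flp_h L760005) q22905, e3 q24172 (flp_h L760012) q22906, e3 q24173 L760024 q22909, e3 q24174 (flp_h L771657) q25342, e3 q24175 (flp_h L771667) q25344, e3 q24176 (flp_h L771673) q25345, e3 q24177 L760042 q22920, e3 q24178 L760050 q23010, e3 q24179 L760056 q23011, e3 q24180 L760060 q24180, e3 q24181 L760065 q24181, e3 q24182 L760070 q22921, e3 q24183 L760081 q24183, e3 q24184 L760084 q22919, e3 q24185 (flp_h L771737) q25356, e3 q24186 (flp_h L771707) q25351, e3 q24187 (flp_h L760099) q22922, e3 q24188 (flp_h L771748)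 q25357, e3 q24189 L760118 q24189, e3 q24190 (flp_h L770577) q25202, e3 q24191 L760133 q23024, trivial⟩ (by decide +kernel)

theorem ce_h_378 : ∀ r, r < 64 → sm gh (Qf (24192 + r)) = Qf (tab Gen.h (24192 + r)) :=
  edges_tab (sm gh) Qf (tab Gen.h) 24192 [(24192, 23027), (24193, 24613), (24194, 24614), (24195, 22932), (24196, 23034), (24197, 24885), (24198, 24198), (24199, 22935), (24200, 22937), (24201, 25371), (24202, 25372), (24203, 24203), (24204, 25286), (24205, 24205), (24206, 24541), (24207, 22970), (24208, 23083), (24209, 23084), (24210, 24523), (24211, 22971), (24212, 24542), (24213, 24543), (24214, 23095), (24215, 24895), (24216, 22972), (24217, 22955), (24218, 24519), (24219, 25389), (24220, 25390), (24221, 22975), (24222, 25370), (24223, 22961), (24224, 22962), (24225, 24536), (24226, 24537), (24227, 23115), (24228, 25397), (24229, 25398), (24230, 25099), (24231, 22978), (24232, 23116), (24233, 23117), (24234, 23118), (24235, 22974), (24236, 24236), (24237, 22979), (24238, 24711), (24239, 25329), (24240, 25333),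 (24241, 22987), (24242, 24512), (24243, 24893), (24244, 24887), (24245, 25412), (24246, 22988), (24247, 24905), (24248, 22990), (24249, 25157), (24250, 25158), (24251, 22993), (24252, 24923), (24253, 22995), (24254, 22998), (24255, 25425)]
    ⟨e3 q24192 L760141 q23027, e3 q24193 (flp_h L764379) q24613, e3 q24194 (flp_h L764391) q24614, e3 q24195 L760159 q22932, e3 q24196 L760165 q23034, e3 q24197 (flp_h L767536) q24885, e3 q24198 L760177 q24198, e3 q24199 (flp_h L760180) q22935, e3 q24200 L760187 q22937, e3 q24201 (flp_h L771835) q25371, e3 q24202 (flp_h L771839) q25372, e3 q24203 L760203 q24203, e3 q24204 (flp_h L771272) q25286, e3 q24205 L760216 q24205, e3 q24206 (flp_h L763458) q24541, e3 q24207 L760229 q22970, e3 q24208 L760235 q23083, e3 q24209 L760241 q23084, e3 q24210 (flp_h L763199) q24523, e3 q24211 L760255 q22971, e3 q24212 (flp_h L763468) q24542, e3 q24213 (flp_h L763478) q24543, e3 q24214 L760273 q23095, e3 q24215 (flp_h L767652) q24895, e3 q24216 L760283 q22972, e3 q24217 L760289 q22955, e3 q24218 (flp_h L763139)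 q24519, e3 q24219 (flp_h L771934) q25389, e3 q24220 (flp_h L771940) q25390, e3 q24221 L760309 q22975, e3 q24222 (flp_h L771831) q25370, e3 q24223 L760319 q22961, e3 q24224 L760325 q22962, e3 q24225 (flp_h L763382) q24536, e3 q24226 (flp_h L763394) q24537, e3 q24227 L760343 q23115, e3 q24228 (flp_h L771978) q25397, e3 q24229 (flp_h L771984) q25398, e3 q24230 (flp_h L769606) q25099, e3 q24231 L760363 q22978, e3 q24232 L760369 q23116, e3 q24233 L760375 q23117, e3 q24234 L760379 q23118, e3 q24235 L760385 q22974, e3 q24236 L760389 q24236, e3 q24237 (flp_h L760392) q22979, e3 q24238 (flp_h L765651) q24711, e3 q24239 (flp_h L771564) q25329, e3 q24240 (flp_h L771594) q25333, e3 q24241 L760423 q22987, e3 q24242 (flp_h L763030) q24512, e3 q24243 (flp_h L767626) q24893, e3 q24244 (flp_h L767556) q24887, e3 q24245 (flp_h L772064) q25412, e3 q24246 (flp_h L760453) q22988, e3 q24247 (flp_h L767736) q24905, e3 q24248 (flp_h L760464) q22990, e3 q24249 (flp_h L770150) q25157, e3 q24250 (flp_h L770158) q25158, e3 q24251 (flp_h L760485) q22993,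 e3 q24252 (flp_h L767918) q24923, e3 q24253 (flp_h L760503) q22995, e3 q24254 L760514 q22998, e3 q24255 (flp_h L772149) q25425, trivial⟩ (by decide +kernel)

theorem ce_h_379 : ∀ r, r < 64 → sm gh (Qf (24256 + r)) = Qf (tab Gen.h (24256 + r)) :=
  edges_tab (sm gh) Qf (tab Gen.h) 24256 [(24256, 25426), (24257, 24668), (24258, 25328), (24259, 25340), (24260, 23002), (24261, 23005), (24262, 25433), (24263, 25434), (24264, 23008), (24265, 23009), (24266, 25438), (24267, 25439), (24268, 25440), (24269, 25352), (24270, 25353), (24271, 24271), (24272, 24272), (24273, 24273), (24274, 25142), (24275, 23132), (24276, 23021), (24277, 24891), (24278, 25448), (24279, 24629), (24280, 25161), (24281, 25361), (24282, 24621), (24283, 24630), (24284, 25362), (24285, 25002), (24286, 23030), (24287, 25459), (24288, 25085), (24289, 23033), (24290, 25462), (24291, 25366), (24292, 23035), (24293, 23136), (24294, 23037), (24295, 25466), (24296, 23139), (24297, 23140), (24298, 23040), (24299, 23042), (24300, 25471), (24301, 25472), (24302, 23072),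 (24303, 23045), (24304, 25049), (24305, 24589), (24306, 25262), (24307, 24952), (24308, 23051), (24309, 25482), (24310, 25263), (24311, 25055), (24312, 23054), (24313, 23055), (24314, 23058), (24315, 25487), (24316, 25488), (24317, 25492), (24318, 23060), (24319, 23061)]
    ⟨e3 q24256 (flp_h L772155) q25426, e3 q24257 (flp_h L765100) q24668, e3 q24258 (flp_h L771550) q25328, e3 q24259 (flp_h L771640) q25340, e3 q24260 (flp_h L760548) q23002, e3 q24261 L760569 q23005, e3 q24262 (flp_h L772207) q25433, e3 q24263 (flp_h L772215) q25434, e3 q24264 L760583 q23008, e3 q24265 L760587 q23009, e3 q24266 (flp_h L772239) q25438, e3 q24267 (flp_h L772243) q25439, e3 q24268 (flp_h L772248) q25440, e3 q24269 (flp_h L771713) q25352, e3 q24270 (flp_h L771721) q25353, e3 q24271 L760621 q24271, e3 q24272 L760626 q24272, e3 q24273 L760631 q24273, e3 q24274 (flp_h L769982) q25142, e3 q24275 L760640 q23132, e3 q24276 L760646 q23021, e3 q24277 (flp_h L767596) q24891, e3 q24278 (flp_h L772291) q25448, e3 q24279 (flp_h L764595) q24629, e3 q24280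 (flp_h L770198) q25161, e3 q24281 (flp_h L771776) q25361, e3 q24282 (flp_h L764493) q24621, e3 q24283 (flp_h L764607) q24630, e3 q24284 (flp_h L771782) q25362, e3 q24285 (flp_h L768723) q25002, e3 q24286 L760706 q23030, e3 q24287 (flp_h L772350) q25459, e3 q24288 (flp_h L769498) q25085, e3 q24289 L760720 q23033, e3 q24290 (flp_h L772364) q25462, e3 q24291 (flp_h L771802) q25366, e3 q24292 (flp_h L760730) q23035, e3 q24293 L760750 q23136, e3 q24294 (flp_h L760752) q23037, e3 q24295 (flp_h L772394) q25466, e3 q24296 L760766 q23139, e3 q24297 L760772 q23140, e3 q24298 (flp_h L760774) q23040, e3 q24299 L760784 q23042, e3 q24300 (flp_h L772416) q25471, e3 q24301 (flp_h L772422) q25472, e3 q24302 L760796 q23072, e3 q24303 (flp_h L760798) q23045, e3 q24304 (flp_h L769218) q25049, e3 q24305 (flp_h L764089) q24589, e3 q24306 (flp_h L771101) q25262, e3 q24307 (flp_h L768240) q24952, e3 q24308 L760839 q23051, e3 q24309 (flp_h L772481) q25482, e3 q24310 (flp_h L771111) q25263, e3 q24311 (flp_h L769278) q25055, e3 q24312 (flp_h L760861)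 q23054, e3 q24313 (flp_h L760867) q23055, e3 q24314 L760878 q23058, e3 q24315 (flp_h L772511) q25487, e3 q24316 (flp_h L772515) q25488, e3 q24317 L772537 q25492, e3 q24318 (flp_h L760899) q23060, e3 q24319 (flp_h L760904) q23061, trivial⟩ (by decide +kernel)

theorem ce_h_380 : ∀ r, r < 64 → sm gh (Qf (24320 + r)) = Qf (tab Gen.h (24320 + r)) :=
  edges_tab (sm gh) Qf (tab Gen.h) 24320 [(24320, 23067), (24321, 23106), (24322, 23068), (24323, 23065), (24324, 25493), (24325, 25495), (24326, 25496), (24327, 25498), (24328, 24569), (24329, 25242), (24330, 25250), (24331, 25475), (24332, 24332), (24333, 24333), (24334, 24334), (24335, 24335), (24336, 24336), (24337, 24862), (24338, 25077), (24339, 24418), (24340, 25379), (24341, 25380), (24342, 25381), (24343, 23114), (24344, 23113), (24345, 23089), (24346, 24538), (24347, 24539), (24348, 25521), (24349, 23101), (24350, 23100), (24351, 23098), (24352, 24417), (24353, 24419), (24354, 25153), (24355, 25386), (24356, 25004), (24357, 25005), (24358, 25528), (24359, 25527), (24360,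 25524), (24361, 25526), (24362, 23102), (24363, 23109), (24364, 25494), (24365, 23110), (24366, 23111), (24367, 25497), (24368, 23112), (24369, 25190), (24370, 25540), (24371, 25541), (24372, 25544), (24373, 25545), (24374, 25519), (24375, 25547), (24376, 25520), (24377, 25518), (24378, 25401), (24379, 25406), (24380, 25407), (24381, 23154), (24382, 23153), (24383, 23146)]
    ⟨e3 q24320 L760915 q23067, e3 q24321 L760921 q23106, e3 q24322 L760925 q23068, e3 q24323 (flp_h L760927) q23065, e3 q24324 (flp_h L772548) q25493, e3 q24325 (flp_h L772562) q25495, e3 q24326 (flp_h L772566) q25496, e3 q24327 (flp_h L772577) q25498, e3 q24328 (flp_h L763832) q24569, e3 q24329 (flp_h L770933) q25242, e3 q24330 (flp_h L771010) q25250, e3 q24331 (flp_h L772436) q25475, e3 q24332 L760992 q24332, e3 q24333 L761001 q24333, e3 q24334 L761008 q24334, e3 q24335 L761021 q24335, e3 q24336 L761026 q24336, e3 q24337 (flp_h L767282) q24862, e3 q24338 (flp_h L769435) q25077, e3 q24339 (flp_h L761703) q24418, e3 q24340 (flp_h L771880) q25379, e3 q24341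 (flp_h L771884) q25380, e3 q24342 (flp_h L771890) q25381, e3 q24343 L761064 q23114, e3 q24344 L761072 q23113, e3 q24345 L761080 q23089, e3 q24346 (flp_h L763408) q24538, e3 q24347 (flp_h L763422) q24539, e3 q24348 (flp_h L772731) q25521, e3 q24349 L761108 q23101, e3 q24350 L761118 q23100, e3 q24351 L761126 q23098, e3 q24352 (flp_h L761687) q24417, e3 q24353 (flp_h L761711) q24419, e3 q24354 (flp_h L770102) q25153, e3 q24355 (flp_h L771920) q25386, e3 q24356 (flp_h L768753) q25004, e3 q24357 (flp_h L768763) q25005, e3 q24358 (flp_h L772791) q25528, e3 q24359 (flp_h L772783) q25527, e3 q24360 (flp_h L772757) q25524, e3 q24361 (flp_h L772775) q25526, e3 q24362 (flp_h L761178) q23102, e3 q24363 L761190 q23109, e3 q24364 (flp_h L772556) q25494, e3 q24365 L761202 q23110, e3 q24366 L761206 q23111, e3 q24367 (flp_h L772571) q25497, e3 q24368 L761216 q23112, e3 q24369 (flp_h L770466) q25190, e3 q24370 (flp_h L772853) q25540, e3 q24371 (flp_h L772859) q25541, e3 q24372 (flp_h L772879) q25544, e3 q24373 (flp_h L772885) q25545, e3 q24374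 (flp_h L772709) q25519, e3 q24375 (flp_h L772893) q25547, e3 q24376 (flp_h L772721) q25520, e3 q24377 (flp_h L772701) q25518, e3 q24378 (flp_h L772004) q25401, e3 q24379 (flp_h L772026) q25406, e3 q24380 (flp_h L772032) q25407, e3 q24381 L761280 q23154, e3 q24382 L761288 q23153, e3 q24383 L761298 q23146, trivial⟩ (by decide +kernel)

theorem ce_h_381 : ∀ r, r < 64 → sm gh (Qf (24384 + r)) = Qf (tab Gen.h (24384 + r)) :=
  edges_tab (sm gh) Qf (tab Gen.h) 24384 [(24384, 23145), (24385, 23155), (24386, 23156), (24387, 23152), (24388, 23135), (24389, 25465), (24390, 23138), (24391, 25562), (24392, 25469), (24393, 24393), (24394, 23143), (24395, 24395), (24396, 25561), (24397, 24397), (24398, 23151), (24399, 24399), (24400, 25566), (24401, 25560), (24402, 23161), (24403, 24021), (24404, 24404), (24405, 23165), (24406, 23240), (24407, 23167), (24408, 23382), (24409, 23252), (24410, 23253), (24411, 23173), (24412, 23178), (24413, 23179), (24414, 25577), (24415, 23297), (24416, 23318), (24417, 24352), (24418, 24339), (24419, 24353),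 (24420, 24420), (24421, 24421), (24422, 23392), (24423, 24002), (24424, 23190), (24425, 23410), (24426, 23411), (24427, 23412), (24428, 23413), (24429, 23199), (24430, 23200), (24431, 23201), (24432, 25594), (24433, 25596), (24434, 25597), (24435, 23203), (24436, 25599), (24437, 23206), (24438, 25601), (24439, 25602), (24440, 23209), (24441, 24441), (24442, 23211), (24443, 23226), (24444, 23213), (24445, 25608), (24446, 23216), (24447, 24447)]
    ⟨e3 q24384 L761308 q23145, e3 q24385 L761317 q23155, e3 q24386 L761323 q23156, e3 q24387 L761333 q23152, e3 q24388 L761340 q23135, e3 q24389 (flp_h L772388) q25465, e3 q24390 L761356 q23138, e3 q24391 (flp_h L772977) q25562, e3 q24392 (flp_h L772408) q25469, e3 q24393 L761375 q24393, e3 q24394 L761378 q23143, e3 q24395 L761383 q24395, e3 q24396 (flp_h L772971) q25561, e3 q24397 L761400 q24397, e3 q24398 L761405 q23151, e3 q24399 L761409 q24399, e3 q24400 (flp_h L772996) q25566, e3 q24401 (flp_h L772961) q25560, e3 q24402 (flp_h L761427) q23161, e3 q24403 L761459 q24021, e3 q24404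 L761477 q24404, e3 q24405 (flp_h L761478) q23165, e3 q24406 L761510 q23240, e3 q24407 (flp_h L761512) q23167, e3 q24408 L761544 q23382, e3 q24409 L761556 q23252, e3 q24410 L761566 q23253, e3 q24411 (flp_h L761568) q23173, e3 q24412 L761598 q23178, e3 q24413 L761616 q23179, e3 q24414 (flp_h L773164) q25577, e3 q24415 L761651 q23297, e3 q24416 L761665 q23318, e3 q24417 L761687 q24352, e3 q24418 L761703 q24339, e3 q24419 L761711 q24353, e3 q24420 L761733 q24420, e3 q24421 L761744 q24421, e3 q24422 L761755 q23392, e3 q24423 L761771 q24002, e3 q24424 (flp_h L761777) q23190, e3 q24425 L761807 q23410, e3 q24426 L761817 q23411, e3 q24427 L761829 q23412, e3 q24428 L761837 q23413, e3 q24429 L761853 q23199, e3 q24430 L761867 q23200, e3 q24431 L761885 q23201, e3 q24432 (flp_h L773423) q25594, e3 q24433 L773441 q25596, e3 q24434 L773455 q25597, e3 q24435 (flp_h L761938) q23203, e3 q24436 L773488 q25599, e3 q24437 (flp_h L761972) q23206, e3 q24438 L773520 q25601, e3 q24439 L773537 q25602, e3 q24440 (flp_h L762021) q23209, e3 q24441 L762048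 q24441, e3 q24442 (flp_h L762049) q23211, e3 q24443 L762074 q23226, e3 q24444 (flp_h L762076) q23213, e3 q24445 L773621 q25608, e3 q24446 (flp_h L762111) q23216, e3 q24447 L762145 q24447, trivial⟩ (by decide +kernel)

theorem ce_h_382 : ∀ r, r < 64 → sm gh (Qf (24448 + r)) = Qf (tab Gen.h (24448 + r)) :=
  edges_tab (sm gh) Qf (tab Gen.h) 24448 [(24448, 25611), (24449, 23219), (24450, 25598), (24451, 25614), (24452, 23222), (24453, 25615), (24454, 24454), (24455, 25605), (24456, 25606), (24457, 24457), (24458, 23228), (24459, 24459), (24460, 24460), (24461, 24461), (24462, 24462), (24463, 24463), (24464, 23982), (24465, 23235), (24466, 24094), (24467, 23272), (24468, 23238), (24469, 25570), (24470, 25571), (24471, 25636), (24472, 23242), (24473, 25637), (24474, 23276), (24475, 25640), (24476, 23246), (24477, 23247), (24478, 23250), (24479, 25641), (24480, 25643), (24481, 25644), (24482, 23280), (24483, 25574), (24484, 25575), (24485, 25576), (24486, 24486), (24487, 24487), (24488, 24488), (24489, 23281), (24490, 23267), (24491,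 23268), (24492, 23269), (24493, 24493), (24494, 24494), (24495, 24495), (24496, 23270), (24497, 23271), (24498, 25658), (24499, 25659), (24500, 25660), (24501, 25650), (24502, 25667), (24503, 25631), (24504, 23273), (24505, 23275), (24506, 25670), (24507, 24507), (24508, 23279), (24509, 25672), (24510, 25657), (24511, 23282)]
    ⟨e3 q24448 L773667 q25611, e3 q24449 (flp_h L762164) q23219, e3 q24450 (flp_h L773486) q25598, e3 q24451 L773707 q25614, e3 q24452 (flp_h L762209) q23222, e3 q24453 (flp_h L773734) q25615, e3 q24454 L762242 q24454, e3 q24455 (flp_h L773589) q25605, e3 q24456 (flp_h L773599) q25606, e3 q24457 L762278 q24457, e3 q24458 (flp_h L762283) q23228, e3 q24459 L762310 q24459, e3 q24460 L762320 q24460, e3 q24461 L762337 q24461, e3 q24462 L762350 q24462, e3 q24463 L762365 q24463, e3 q24464 L762384 q23982, e3 q24465 (flp_h L762386) q23235, e3 q24466 L762412 q24094, e3 q24467 L762426 q23272, e3 q24468 (flp_h L762428) q23238, e3 q24469 (flp_h L773064) q25570, e3 q24470 (flp_h L773076) q25571, e3 q24471 L773997 q25636,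 e3 q24472 (flp_h L762478) q23242, e3 q24473 (flp_h L774027) q25637, e3 q24474 L762520 q23276, e3 q24475 L774059 q25640, e3 q24476 (flp_h L762543) q23246, e3 q24477 (flp_h L762558) q23247, e3 q24478 L762580 q23250, e3 q24479 (flp_h L774088) q25641, e3 q24480 (flp_h L774108) q25643, e3 q24481 (flp_h L774120) q25644, e3 q24482 L762618 q23280, e3 q24483 (flp_h L773124) q25574, e3 q24484 (flp_h L773136) q25575, e3 q24485 (flp_h L773148) q25576, e3 q24486 L762662 q24486, e3 q24487 L762670 q24487, e3 q24488 L762690 q24488, e3 q24489 L762705 q23281, e3 q24490 L762718 q23267, e3 q24491 L762728 q23268, e3 q24492 L762740 q23269, e3 q24493 L762752 q24493, e3 q24494 L762767 q24494, e3 q24495 L762780 q24495, e3 q24496 L762795 q23270, e3 q24497 L762811 q23271, e3 q24498 (flp_h L774281) q25658, e3 q24499 (flp_h L774295) q25659, e3 q24500 (flp_h L774307) q25660, e3 q24501 (flp_h L774182) q25650, e3 q24502 L774398 q25667, e3 q24503 (flp_h L773949) q25631, e3 q24504 (flp_h L762898) q23273, e3 q24505 L762926 q23275, e3 q24506 (flp_h L774454)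 q25670, e3 q24507 L762958 q24507, e3 q24508 L762969 q23279, e3 q24509 (flp_h L774481) q25672, e3 q24510 (flp_h L774267) q25657, e3 q24511 (flp_h L762998) q23282, trivial⟩ (by decide +kernel)

theorem ce_h_383 : ∀ r, r < 64 → sm gh (Qf (24512 + r)) = Qf (tab Gen.h (24512 + r)) :=
  edges_tab (sm gh) Qf (tab Gen.h) 24512 [(24512, 24242), (24513, 25675), (24514, 23286), (24515, 25677), (24516, 23288), (24517, 23290), (24518, 24518), (24519, 24218), (24520, 23293), (24521, 25682), (24522, 24522), (24523, 24210), (24524, 25579), (24525, 23300), (24526, 23301), (24527, 23308), (24528, 25607), (24529, 23304), (24530, 25691), (24531, 24531), (24532, 25688), (24533, 25689), (24534, 24534), (24535, 23310), (24536, 24225), (24537, 24226), (24538, 24346), (24539, 24347), (24540, 23315), (24541, 24206), (24542, 24212), (24543, 24213), (24544, 25580), (24545, 23323), (24546, 23324), (24547, 25708), (24548, 25709), (24549, 23326), (24550, 25711), (24551, 25712), (24552, 23329), (24553, 24553), (24554, 25715), (24555, 23332), (24556, 23354),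 (24557, 25718), (24558, 23335), (24559, 23336), (24560, 24560), (24561, 23338), (24562, 23339), (24563, 25723), (24564, 24564), (24565, 23366), (24566, 23367), (24567, 25731), (24568, 23345), (24569, 24328), (24570, 23347), (24571, 24571), (24572, 23349), (24573, 25736), (24574, 24574), (24575, 23352)]
    ⟨e3 q24512 L763030 q24242, e3 q24513 L774518 q25675, e3 q24514 (flp_h L763050) q23286, e3 q24515 L774552 q25677, e3 q24516 (flp_h L763082) q23288, e3 q24517 (flp_h L763096) q23290, e3 q24518 L763126 q24518, e3 q24519 L763139 q24218, e3 q24520 (flp_h L763141) q23293, e3 q24521 (flp_h L774640) q25682, e3 q24522 L763180 q24522, e3 q24523 L763199 q24210, e3 q24524 (flp_h L773198) q25579, e3 q24525 L763221 q23300, e3 q24526 (flp_h L763227) q23301, e3 q24527 L763256 q23308, e3 q24528 (flp_h L773619) q25607, e3 q24529 (flp_h L763270) q23304, e3 q24530 (flp_h L774768) q25691, e3 q24531 L763313 q24531, e3 q24532 (flp_h L774724) q25688, e3 q24533 (flp_h L774734) q25689, e3 q24534 L763354 q24534, e3 q24535 (flp_h L763359) q23310, e3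 q24536 L763382 q24225, e3 q24537 L763394 q24226, e3 q24538 L763408 q24346, e3 q24539 L763422 q24347, e3 q24540 (flp_h L763428) q23315, e3 q24541 L763458 q24206, e3 q24542 L763468 q24212, e3 q24543 L763478 q24213, e3 q24544 (flp_h L773216) q25580, e3 q24545 L763506 q23323, e3 q24546 L763518 q23324, e3 q24547 (flp_h L774996) q25708, e3 q24548 L775002 q25709, e3 q24549 (flp_h L763559) q23326, e3 q24550 L775034 q25711, e3 q24551 L775051 q25712, e3 q24552 (flp_h L763608) q23329, e3 q24553 L763635 q24553, e3 q24554 L775091 q25715, e3 q24555 (flp_h L763653) q23332, e3 q24556 L763676 q23354, e3 q24557 L775132 q25718, e3 q24558 (flp_h L763696) q23335, e3 q24559 (flp_h L763711) q23336, e3 q24560 L763732 q24560, e3 q24561 (flp_h L763733) q23338, e3 q24562 (flp_h L763744) q23339, e3 q24563 (flp_h L775199) q25723, e3 q24564 L763771 q24564, e3 q24565 L763784 q23366, e3 q24566 L763790 q23367, e3 q24567 L775270 q25731, e3 q24568 (flp_h L763811) q23345, e3 q24569 L763832 q24328, e3 q24570 (flp_h L763834) q23347, e3 q24571 L763864 q24571, e3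 q24572 (flp_h L763865) q23349, e3 q24573 (flp_h L775350) q25736, e3 q24574 L763894 q24574, e3 q24575 (flp_h L763897) q23352, trivial⟩ (by decide +kernel)

theorem ce_h_384 : ∀ r, r < 64 → sm gh (Qf (24576 + r)) = Qf (tab Gen.h (24576 + r)) :=
  edges_tab (sm gh) Qf (tab Gen.h) 24576 [(24576, 25716), (24577, 25717), (24578, 23355), (24579, 25744), (24580, 24580), (24581, 23358), (24582, 23359), (24583, 23362), (24584, 25747), (24585, 25749), (24586, 25750), (24587, 24587), (24588, 23364), (24589, 24305), (24590, 25728), (24591, 25729), (24592, 25730), (24593, 24593), (24594, 24594), (24595, 24595), (24596, 24596), (24597, 24597), (24598, 24598), (24599, 24599), (24600, 25765), (24601, 23380), (24602, 25572), (24603, 25573), (24604, 23383), (24605, 23433), (24606, 24004), (24607, 23438), (24608, 24006), (24609, 24007), (24610, 23439), (24611, 23389), (24612, 23571), (24613, 24193), (24614, 24194), (24615, 25586), (24616, 23393), (24617, 25785), (24618, 23435), (24619, 23396), (24620, 23399), (24621, 24282), (24622, 25789), (24623,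 25790), (24624, 23445), (24625, 25748), (24626, 23406), (24627, 23407), (24628, 23403), (24629, 24279), (24630, 24283), (24631, 25797), (24632, 25798), (24633, 25799), (24634, 23449), (24635, 25588), (24636, 25589), (24637, 25590), (24638, 25591), (24639, 25592)]
    ⟨e3 q24576 (flp_h L775120) q25716, e3 q24577 (flp_h L775128) q25717, e3 q24578 (flp_h L763931) q23355, e3 q24579 (flp_h L775445) q25744, e3 q24580 L763970 q24580, e3 q24581 (flp_h L763975) q23358, e3 q24582 (flp_h L763991) q23359, e3 q24583 L764012 q23362, e3 q24584 (flp_h L775489) q25747, e3 q24585 (flp_h L775511) q25749, e3 q24586 (flp_h L775517) q25750, e3 q24587 L764052 q24587, e3 q24588 (flp_h L764059) q23364, e3 q24589 L764089 q24305, e3 q24590 (flp_h L775245) q25728, e3 q24591 (flp_h L775255) q25729, e3 q24592 (flp_h L775264) q25730, e3 q24593 L764123 q24593, e3 q24594 L764141 q24594, e3 q24595 L764152 q24595, e3 q24596 L764167 q24596, e3 q24597 L764186 q24597, e3 q24598 L764197 q24598, e3 q24599 L764212 q24599, e3 q24600 L775693 q25765, e3 q24601 (flp_h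 L764232) q23380, e3 q24602 (flp_h L773098) q25572, e3 q24603 (flp_h L773110) q25573, e3 q24604 (flp_h L764259) q23383, e3 q24605 L764293 q23433, e3 q24606 L764303 q24004, e3 q24607 L764311 q23438, e3 q24608 L764321 q24006, e3 q24609 L764331 q24007, e3 q24610 L764341 q23439, e3 q24611 (flp_h L764345) q23389, e3 q24612 L764369 q23571, e3 q24613 L764379 q24193, e3 q24614 L764391 q24194, e3 q24615 (flp_h L773309) q25586, e3 q24616 (flp_h L764401) q23393, e3 q24617 (flp_h L775941) q25785, e3 q24618 L764441 q23435, e3 q24619 (flp_h L764447) q23396, e3 q24620 L764475 q23399, e3 q24621 L764493 q24282, e3 q24622 (flp_h L775993) q25789, e3 q24623 (flp_h L776005) q25790, e3 q24624 L764517 q23445, e3 q24625 (flp_h L775505) q25748, e3 q24626 L764547 q23406, e3 q24627 L764559 q23407, e3 q24628 (flp_h L764563) q23403, e3 q24629 L764595 q24279, e3 q24630 L764607 q24283, e3 q24631 (flp_h L776093) q25797, e3 q24632 (flp_h L776105) q25798, e3 q24633 (flp_h L776117) q25799, e3 q24634 L764639 q23449, e3 q24635 (flp_h L773347) q25588, e3 q24636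 (flp_h L773357) q25589, e3 q24637 (flp_h L773373) q25590, e3 q24638 (flp_h L773389) q25591, e3 q24639 (flp_h L773401) q25592, trivial⟩ (by decide +kernel)

theorem ce_h_385 : ∀ r, r < 64 → sm gh (Qf (24640 + r)) = Qf (tab Gen.h (24640 + r)) :=
  edges_tab (sm gh) Qf (tab Gen.h) 24640 [(24640, 25593), (24641, 23441), (24642, 23450), (24643, 23429), (24644, 23430), (24645, 23431), (24646, 23432), (24647, 23434), (24648, 23436), (24649, 25819), (24650, 25814), (24651, 25815), (24652, 25816), (24653, 25771), (24654, 25774), (24655, 25778), (24656, 23437), (24657, 24657), (24658, 23444), (24659, 24659), (24660, 23448), (24661, 25822), (24662, 23466), (24663, 23692), (24664, 23469), (24665, 23471), (24666, 24666), (24667, 23473), (24668, 24257), (24669, 24669), (24670, 23478), (24671, 23695), (24672, 23717), (24673, 23487), (24674, 23696), (24675, 23697), (24676, 23486), (24677, 25838), (24678, 25839), (24679, 23490), (24680, 24680), (24681, 23492), (24682, 23502), (24683, 25678), (24684, 23495), (24685, 24685), (24686, 23497),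 (24687, 25847), (24688, 24688), (24689, 23500), (24690, 25842), (24691, 25843), (24692, 24692), (24693, 24693), (24694, 24694), (24695, 24695), (24696, 23715), (24697, 23718), (24698, 25702), (24699, 23525), (24700, 23514), (24701, 25861), (24702, 25862), (24703, 23528)]
    ⟨e3 q24640 (flp_h L773409) q25593, e3 q24641 L764697 q23441, e3 q24642 L764711 q23450, e3 q24643 L764731 q23429, e3 q24644 L764743 q23430, e3 q24645 L764755 q23431, e3 q24646 L764773 q23432, e3 q24647 L764781 q23434, e3 q24648 L764795 q23436, e3 q24649 L776330 q25819, e3 q24650 (flp_h L776269) q25814, e3 q24651 (flp_h L776285) q25815, e3 q24652 (flp_h L776300) q25816, e3 q24653 (flp_h L775775) q25771, e3 q24654 (flp_h L775811) q25774, e3 q24655 (flp_h L775859) q25778, e3 q24656 (flp_h L764900) q23437, e3 q24657 L764924 q24657, e3 q24658 L764935 q23444, e3 q24659 L764947 q24659, e3 q24660 L764960 q23448, e3 q24661 (flp_h L776378) q25822, e3 q24662 (flp_h L764983) q23466, e3 q24663 L765015 q23692, e3 q24664 (flp_h L765017) q23469, e3 q24665 (flp_h L765035)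 q23471, e3 q24666 L765069 q24666, e3 q24667 (flp_h L765070) q23473, e3 q24668 L765100 q24257, e3 q24669 L765118 q24669, e3 q24670 (flp_h L765119) q23478, e3 q24671 L765147 q23695, e3 q24672 L765159 q23717, e3 q24673 L765173 q23487, e3 q24674 L765189 q23696, e3 q24675 L765199 q23697, e3 q24676 L765213 q23486, e3 q24677 L776614 q25838, e3 q24678 L776631 q25839, e3 q24679 (flp_h L765251) q23490, e3 q24680 L765274 q24680, e3 q24681 (flp_h L765275) q23492, e3 q24682 L765300 q23502, e3 q24683 (flp_h L774583) q25678, e3 q24684 (flp_h L765314) q23495, e3 q24685 L765348 q24685, e3 q24686 (flp_h L765349) q23497, e3 q24687 (flp_h L776748) q25847, e3 q24688 L765374 q24688, e3 q24689 (flp_h L765377) q23500, e3 q24690 (flp_h L776679) q25842, e3 q24691 (flp_h L776689) q25843, e3 q24692 L765421 q24692, e3 q24693 L765442 q24693, e3 q24694 L765453 q24694, e3 q24695 L765462 q24695, e3 q24696 L765481 q23715, e3 q24697 L765489 q23718, e3 q24698 (flp_h L774920) q25702, e3 q24699 L765511 q23525, e3 q24700 L765527 q23514, e3 q24701 (flp_h L776911)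 q25861, e3 q24702 (flp_h L776925) q25862, e3 q24703 L765551 q23528, trivial⟩ (by decide +kernel)

theorem ce_h_386 : ∀ r, r < 64 → sm gh (Qf (24704 + r)) = Qf (tab Gen.h (24704 + r)) :=
  edges_tab (sm gh) Qf (tab Gen.h) 24704 [(24704, 23724), (24705, 23725), (24706, 23726), (24707, 23727), (24708, 23523), (24709, 23524), (24710, 23527), (24711, 24238), (24712, 23740), (24713, 25874), (24714, 23532), (24715, 23534), (24716, 25876), (24717, 24717), (24718, 23744), (24719, 23538), (24720, 25881), (24721, 25882), (24722, 23542), (24723, 24723), (24724, 23544), (24725, 23556), (24726, 23546), (24727, 25880), (24728, 23549), (24729, 24729), (24730, 23551), (24731, 23552), (24732, 25891), (24733, 24733), (24734, 25885), (24735, 25886), (24736, 24736), (24737, 24737), (24738, 24738), (24739, 23767), (24740, 25779), (24741, 23564), (24742, 23774), (24743, 23775), (24744, 23893), (24745, 23584), (24746, 23585), (24747, 25766), (24748, 25780), (24749, 25781), (24750, 23586), (24751, 23785), (24752, 23786), (24753, 23787), (24754, 23587),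 (24755, 24755), (24756, 24756), (24757, 24757), (24758, 23583), (24759, 25920), (24760, 25907), (24761, 25908), (24762, 25921), (24763, 25922), (24764, 23590), (24765, 24765), (24766, 23592), (24767, 23609)]
    ⟨e3 q24704 L765567 q23724, e3 q24705 L765573 q23725, e3 q24706 L765577 q23726, e3 q24707 L765589 q23727, e3 q24708 L765603 q23523, e3 q24709 L765619 q23524, e3 q24710 L765633 q23527, e3 q24711 L765651 q24238, e3 q24712 L765663 q23740, e3 q24713 L777049 q25874, e3 q24714 (flp_h L765682) q23532, e3 q24715 (flp_h L765700) q23534, e3 q24716 (flp_h L777092) q25876, e3 q24717 L765729 q24717, e3 q24718 L765736 q23744, e3 q24719 (flp_h L765738) q23538, e3 q24720 L777138 q25881, e3 q24721 L777155 q25882, e3 q24722 (flp_h L765788) q23542, e3 q24723 L765819 q24723, e3 q24724 (flp_h L765820) q23544, e3 q24725 L765845 q23556, e3 q24726 (flp_h L765847) q23546, e3 q24727 (flp_h L777136) q25880, e3 q24728 (flp_h L765873) q23549, e3 q24729 L765907 q24729, e3 q24730 (flp_h L765908) q23551, e3 q24731 (flp_h L765919) q23552, e3 q24732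 (flp_h L777290) q25891, e3 q24733 L765951 q24733, e3 q24734 (flp_h L777211) q25885, e3 q24735 (flp_h L777221) q25886, e3 q24736 L765982 q24736, e3 q24737 L765997 q24737, e3 q24738 L766008 q24738, e3 q24739 L766019 q23767, e3 q24740 (flp_h L775875) q25779, e3 q24741 (flp_h L766027) q23564, e3 q24742 L766055 q23774, e3 q24743 L766063 q23775, e3 q24744 L766071 q23893, e3 q24745 L766083 q23584, e3 q24746 L766099 q23585, e3 q24747 (flp_h L775720) q25766, e3 q24748 (flp_h L775883) q25780, e3 q24749 (flp_h L775895) q25781, e3 q24750 L766131 q23586, e3 q24751 L766141 q23785, e3 q24752 L766147 q23786, e3 q24753 L766155 q23787, e3 q24754 L766169 q23587, e3 q24755 L766185 q24755, e3 q24756 L766198 q24756, e3 q24757 L766213 q24757, e3 q24758 L766228 q23583, e3 q24759 L777596 q25920, e3 q24760 (flp_h L777466) q25907, e3 q24761 (flp_h L777482) q25908, e3 q24762 L777609 q25921, e3 q24763 L777626 q25922, e3 q24764 (flp_h L766312) q23590, e3 q24765 L766337 q24765, e3 q24766 (flp_h L766338) q23592, e3 q24767 L766359 q23609, trivial⟩ (by decide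 +kernel)

theorem ce_h_387 : ∀ r, r < 64 → sm gh (Qf (24768 + r)) = Qf (tab Gen.h (24768 + r)) :=
  edges_tab (sm gh) Qf (tab Gen.h) 24768 [(24768, 23594), (24769, 24769), (24770, 25929), (24771, 23597), (24772, 23598), (24773, 25930), (24774, 24774), (24775, 23619), (24776, 23620), (24777, 24133), (24778, 25939), (24779, 23605), (24780, 25940), (24781, 24781), (24782, 25924), (24783, 25925), (24784, 23610), (24785, 25946), (24786, 24786), (24787, 23613), (24788, 23616), (24789, 25632), (24790, 25951), (24791, 25952), (24792, 24792), (24793, 24096), (24794, 25935), (24795, 25936), (24796, 25937), (24797, 24797), (24798, 24798), (24799, 24161), (24800, 24800), (24801, 24801), (24802, 23876), (24803, 23877), (24804, 25967), (24805, 23631), (24806, 23632), (24807, 23635), (24808, 25968), (24809, 25970), (24810, 25971), (24811, 23894), (24812, 23895), (24813, 23896), (24814, 23639), (24815, 25979), (24816, 23641), (24817, 23642), (24818, 23645), (24819, 25981), (24820, 25983), (24821, 25984), (24822, 23673), (24823, 23647), (24824,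 23652), (24825, 25950), (24826, 23653), (24827, 23654), (24828, 25697), (24829, 25991), (24830, 25992), (24831, 25995)]
    ⟨e3 q24768 (flp_h L766361) q23594, e3 q24769 L766382 q24769, e3 q24770 L777702 q25929, e3 q24771 (flp_h L766400) q23597, e3 q24772 (flp_h L766407) q23598, e3 q24773 (flp_h L777723) q25930, e3 q24774 L766428 q24774, e3 q24775 L766441 q23619, e3 q24776 L766447 q23620, e3 q24777 L766463 q24133, e3 q24778 L777798 q25939, e3 q24779 (flp_h L766482) q23605, e3 q24780 (flp_h L777827) q25940, e3 q24781 L766509 q24781, e3 q24782 (flp_h L777663) q25924, e3 q24783 (flp_h L777671) q25925, e3 q24784 (flp_h L766528) q23610, e3 q24785 (flp_h L777883) q25946, e3 q24786 L766569 q24786, e3 q24787 (flp_h L766572) q23613, e3 q24788 L766583 q23616, e3 q24789 (flp_h L773965) q25632, e3 q24790 (flp_h L777942) q25951, e3 q24791 (flp_h L777948) q25952, e3 q24792 L766611 q24792, e3 q24793 L766626 q24096, e3 q24794 (flp_h L777761) q25935, e3 q24795 (flp_h L777771) q25936, e3 q24796 (flp_h L777780) q25937, e3 q24797 L766652 q24797,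 e3 q24798 L766667 q24798, e3 q24799 L766680 q24161, e3 q24800 L766690 q24800, e3 q24801 L766699 q24801, e3 q24802 L766708 q23876, e3 q24803 L766716 q23877, e3 q24804 L778071 q25967, e3 q24805 (flp_h L766735) q23631, e3 q24806 (flp_h L766746) q23632, e3 q24807 L766768 q23635, e3 q24808 (flp_h L778096) q25968, e3 q24809 (flp_h L778114) q25970, e3 q24810 (flp_h L778124) q25971, e3 q24811 L766798 q23894, e3 q24812 L766806 q23895, e3 q24813 L766814 q23896, e3 q24814 (flp_h L766816) q23639, e3 q24815 (flp_h L778194) q25979, e3 q24816 (flp_h L766844) q23641, e3 q24817 (flp_h L766857) q23642, e3 q24818 L766879 q23645, e3 q24819 (flp_h L778220) q25981, e3 q24820 (flp_h L778238) q25983, e3 q24821 (flp_h L778250) q25984, e3 q24822 L766919 q23673, e3 q24823 (flp_h L766925) q23647, e3 q24824 L766938 q23652, e3 q24825 (flp_h L777936) q25950, e3 q24826 L766950 q23653, e3 q24827 L766958 q23654, e3 q24828 (flp_h L774848) q25697, e3 q24829 (flp_h L778318) q25991, e3 q24830 (flp_h L778324) q25992, e3 q24831 (flp_h L778349) q25995, trivial⟩ (by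 decide +kernel)

theorem ce_h_388 : ∀ r, r < 64 → sm gh (Qf (24832 + r)) = Qf (tab Gen.h (24832 + r)) :=
  edges_tab (sm gh) Qf (tab Gen.h) 24832 [(24832, 25996), (24833, 25997), (24834, 23674), (24835, 23920), (24836, 23921), (24837, 23922), (24838, 23923), (24839, 23924), (24840, 23925), (24841, 24841), (24842, 24842), (24843, 24843), (24844, 24844), (24845, 24845), (24846, 24846), (24847, 26015), (24848, 26016), (24849, 26018), (24850, 23675), (24851, 24851), (24852, 23678), (24853, 23680), (24854, 24854), (24855, 23683), (24856, 24856), (24857, 24857), (24858, 23687), (24859, 23688), (24860, 26025), (24861, 25823), (24862, 24337), (24863, 24863), (24864, 25824), (24865, 25831), (24866, 25832), (24867, 25835), (24868, 25836), (24869, 25837), (24870, 23699), (24871, 23708), (24872, 24157), (24873, 23732), (24874, 23709), (24875, 23710), (24876, 23705), (24877, 25673), (24878, 26035), (24879, 26036), (24880, 26040), (24881, 26041), (24882, 26042), (24883, 24883), (24884, 23736), (24885, 24197), (24886, 25857), (24887, 24244),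 (24888, 25833), (24889, 25834), (24890, 25858), (24891, 24277), (24892, 23722), (24893, 24243), (24894, 26060), (24895, 24215)]
    ⟨e3 q24832 (flp_h L778357) q25996, e3 q24833 (flp_h L778363) q25997, e3 q24834 L767000 q23674, e3 q24835 L767012 q23920, e3 q24836 L767020 q23921, e3 q24837 L767028 q23922, e3 q24838 L767038 q23923, e3 q24839 L767044 q23924, e3 q24840 L767050 q23925, e3 q24841 L767058 q24841, e3 q24842 L767069 q24842, e3 q24843 L767084 q24843, e3 q24844 L767095 q24844, e3 q24845 L767104 q24845, e3 q24846 L767107 q24846, e3 q24847 L778492 q26015, e3 q24848 L778496 q26016, e3 q24849 L778525 q26018, e3 q24850 (flp_h L767138) q23675, e3 q24851 L767156 q24851, e3 q24852 L767163 q23678, e3 q24853 L767178 q23680, e3 q24854 L767193 q24854, e3 q24855 L767204 q23683, e3 q24856 L767213 q24856, e3 q24857 L767224 q24857, e3 q24858 L767237 q23687, e3 q24859 L767241 q23688, e3 q24860 (flp_h L778611) q26025, e3 q24861 (flp_h L776402) q25823, e3 q24862 L767282 q24337, e3 q24863 L767294 q24863, e3 q24864 (flp_h L776414) q25824,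 e3 q24865 (flp_h L776530) q25831, e3 q24866 (flp_h L776542) q25832, e3 q24867 (flp_h L776586) q25835, e3 q24868 (flp_h L776600) q25836, e3 q24869 (flp_h L776612) q25837, e3 q24870 (flp_h L767363) q23699, e3 q24871 L767382 q23708, e3 q24872 L767390 q24157, e3 q24873 L767400 q23732, e3 q24874 L767408 q23709, e3 q24875 L767418 q23710, e3 q24876 (flp_h L767420) q23705, e3 q24877 (flp_h L774500) q25673, e3 q24878 (flp_h L778726) q26035, e3 q24879 (flp_h L778736) q26036, e3 q24880 (flp_h L778775) q26040, e3 q24881 (flp_h L778781) q26041, e3 q24882 (flp_h L778792) q26042, e3 q24883 L767507 q24883, e3 q24884 L767526 q23736, e3 q24885 L767536 q24197, e3 q24886 (flp_h L776865) q25857, e3 q24887 L767556 q24244, e3 q24888 (flp_h L776556) q25833, e3 q24889 (flp_h L776570) q25834, e3 q24890 (flp_h L776877) q25858, e3 q24891 L767596 q24277, e3 q24892 L767612 q23722, e3 q24893 L767626 q24243, e3 q24894 (flp_h L778997) q26060, e3 q24895 L767652 q24215, trivial⟩ (by decide +kernel)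

theorem ce_h_389 : ∀ r, r < 64 → sm gh (Qf (24896 + r)) = Qf (tab Gen.h (24896 + r)) :=
  edges_tab (sm gh) Qf (tab Gen.h) 24896 [(24896, 25866), (24897, 25867), (24898, 25868), (24899, 25869), (24900, 25870), (24901, 23733), (24902, 26070), (24903, 26039), (24904, 23734), (24905, 24247), (24906, 26051), (24907, 25825), (24908, 26043), (24909, 24909), (24910, 25873), (24911, 23742), (24912, 26078), (24913, 26079), (24914, 25879), (24915, 23745), (24916, 23756), (24917, 23747), (24918, 24099), (24919, 23969), (24920, 23757), (24921, 23758), (24922, 23752), (24923, 24252), (24924, 23754), (24925, 26083), (24926, 26084), (24927, 26089), (24928, 26090), (24929, 26091), (24930, 24930), (24931, 24931), (24932, 24932), (24933, 24933), (24934, 23764), (24935, 25800), (24936, 25845), (24937, 25900), (24938, 23768), (24939, 23772), (24940, 23770), (24941, 26110), (24942, 26111), (24943, 25902), (24944, 25903), (24945, 25865), (24946, 25904), (24947, 23776), (24948, 23778), (24949, 26122), (24950, 23779), (24951, 23783), (24952, 24307),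 (24953, 23784), (24954, 26125), (24955, 26126), (24956, 26128), (24957, 25914), (24958, 25915), (24959, 25916)]
    ⟨e3 q24896 (flp_h L776971) q25866, e3 q24897 (flp_h L776983) q25867, e3 q24898 (flp_h L776993) q25868, e3 q24899 (flp_h L776999) q25869, e3 q24900 (flp_h L777009) q25870, e3 q24901 L767692 q23733, e3 q24902 L779089 q26070, e3 q24903 (flp_h L778764) q26039, e3 q24904 (flp_h L767716) q23734, e3 q24905 L767736 q24247, e3 q24906 (flp_h L778898) q26051, e3 q24907 (flp_h L776436) q25825, e3 q24908 (flp_h L778806) q26043, e3 q24909 L767770 q24909, e3 q24910 (flp_h L777047) q25873, e3 q24911 L767785 q23742, e3 q24912 (flp_h L779176) q26078, e3 q24913 (flp_h L779184) q26079, e3 q24914 (flp_h L777118) q25879, e3 q24915 (flp_h L767805) q23745, e3 q24916 L767830 q23756, e3 q24917 (flp_h L767832) q23747, e3 q24918 L767855 q24099, e3 q24919 L767869 q23969, e3 q24920 L767877 q23757, e3 q24921 L767887 q23758, e3 q24922 (flp_h L767889) q23752, e3 q24923 L767918 q24252, e3 q24924 (flp_h L767920) q23754, e3 q24925 (flp_h L779219)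 q26083, e3 q24926 (flp_h L779231) q26084, e3 q24927 (flp_h L779292) q26089, e3 q24928 (flp_h L779298) q26090, e3 q24929 (flp_h L779309) q26091, e3 q24930 L767993 q24930, e3 q24931 L768002 q24931, e3 q24932 L768013 q24932, e3 q24933 L768024 q24933, e3 q24934 (flp_h L768029) q23764, e3 q24935 (flp_h L776139) q25800, e3 q24936 (flp_h L776717) q25845, e3 q24937 (flp_h L777394) q25900, e3 q24938 (flp_h L768074) q23768, e3 q24939 L768099 q23772, e3 q24940 (flp_h L768101) q23770, e3 q24941 (flp_h L779518) q26110, e3 q24942 (flp_h L779528) q26111, e3 q24943 (flp_h L777418) q25902, e3 q24944 (flp_h L777428) q25903, e3 q24945 (flp_h L776957) q25865, e3 q24946 (flp_h L777434) q25904, e3 q24947 (flp_h L768165) q23776, e3 q24948 L768193 q23778, e3 q24949 (flp_h L779636) q26122, e3 q24950 (flp_h L768205) q23779, e3 q24951 L768224 q23783, e3 q24952 L768240 q24307, e3 q24953 L768250 q23784, e3 q24954 (flp_h L779672) q26125, e3 q24955 (flp_h L779678) q26126, e3 q24956 (flp_h L779703) q26128, e3 q24957 (flp_h L777534) q25914, e3 q24958 (flp_h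 L777542) q25915, e3 q24959 (flp_h L777548) q25916, trivial⟩ (by decide +kernel)

theorem ce_h_390 : ∀ r, r < 64 → sm gh (Qf (24960 + r)) = Qf (tab Gen.h (24960 + r)) :=
  edges_tab (sm gh) Qf (tab Gen.h) 24960 [(24960, 24960), (24961, 24961), (24962, 24962), (24963, 23797), (24964, 23798), (24965, 23799), (24966, 24966), (24967, 26142), (24968, 26138), (24969, 26139), (24970, 23800), (24971, 24971), (24972, 23831), (24973, 23804), (24974, 23806), (24975, 24112), (24976, 23809), (24977, 23838), (24978, 23839), (24979, 23812), (24980, 23970), (24981, 23814), (24982, 23815), (24983, 26156), (24984, 23971), (24985, 23972), (24986, 23818), (24987, 23819), (24988, 23823), (24989, 23821), (24990, 26162), (24991, 26164), (24992, 25817), (24993, 23973), (24994, 23850), (24995, 23851), (24996, 23852), (24997, 23853), (24998, 23897), (24999, 23829), (25000, 25755), (25001, 26145), (25002, 24285), (25003, 23833), (25004, 24356), (25005, 24357), (25006, 23836), (25007, 26149), (25008, 26150), (25009, 26151), (25010, 26152), (25011, 23841),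 (25012, 26192), (25013, 23842), (25014, 23847), (25015, 23910), (25016, 23848), (25017, 26146), (25018, 26195), (25019, 25777), (25020, 26197), (25021, 25732), (25022, 26172), (25023, 26173)]
    ⟨e3 q24960 L768309 q24960, e3 q24961 L768318 q24961, e3 q24962 L768331 q24962, e3 q24963 L768343 q23797, e3 q24964 L768351 q23798, e3 q24965 L768361 q23799, e3 q24966 L768371 q24966, e3 q24967 L779824 q26142, e3 q24968 (flp_h L779795) q26138, e3 q24969 (flp_h L779801) q26139, e3 q24970 (flp_h L768399) q23800, e3 q24971 L768417 q24971, e3 q24972 L768430 q23831, e3 q24973 (flp_h L768432) q23804, e3 q24974 (flp_h L768446) q23806, e3 q24975 L768467 q24112, e3 q24976 (flp_h L768469) q23809, e3 q24977 L768484 q23838, e3 q24978 L768490 q23839, e3 q24979 (flp_h L768492) q23812, e3 q24980 L768515 q23970, e3 q24981 (flp_h L768517) q23814, e3 q24982 (flp_h L768535) q23815, e3 q24983 (flp_h L779982) q26156, e3 q24984 L768555 q23971, e3 q24985 L768563 q23972, e3 q24986 (flp_h L768565) q23818, e3 q24987 (flp_h L768581) q23819, e3 q24988 L768607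 q23823, e3 q24989 (flp_h L768609) q23821, e3 q24990 (flp_h L780033) q26162, e3 q24991 (flp_h L780057) q26164, e3 q24992 (flp_h L776316) q25817, e3 q24993 L768638 q23973, e3 q24994 L768651 q23850, e3 q24995 L768657 q23851, e3 q24996 L768661 q23852, e3 q24997 L768668 q23853, e3 q24998 L768682 q23897, e3 q24999 (flp_h L768684) q23829, e3 q25000 (flp_h L775580) q25755, e3 q25001 (flp_h L779860) q26145, e3 q25002 L768723 q24285, e3 q25003 (flp_h L768725) q23833, e3 q25004 L768753 q24356, e3 q25005 L768763 q24357, e3 q25006 (flp_h L768769) q23836, e3 q25007 (flp_h L779908) q26149, e3 q25008 (flp_h L779916) q26150, e3 q25009 (flp_h L779922) q26151, e3 q25010 (flp_h L779929) q26152, e3 q25011 L768823 q23841, e3 q25012 (flp_h L780301) q26192, e3 q25013 (flp_h L768833) q23842, e3 q25014 L768857 q23847, e3 q25015 L768871 q23910, e3 q25016 L768883 q23848, e3 q25017 (flp_h L779876) q26146, e3 q25018 (flp_h L780335) q26195, e3 q25019 (flp_h L775847) q25777, e3 q25020 (flp_h L780359) q26197, e3 q25021 (flp_h L775297) q25732, e3 q25022 (flp_h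 L780109) q26172, e3 q25023 (flp_h L780119) q26173, trivial⟩ (by decide +kernel)

theorem ce_h_391 : ∀ r, r < 64 → sm gh (Qf (25024 + r)) = Qf (tab Gen.h (25024 + r)) :=
  edges_tab (sm gh) Qf (tab Gen.h) 25024 [(25024, 26174), (25025, 26175), (25026, 26176), (25027, 24009), (25028, 25028), (25029, 25029), (25030, 25030), (25031, 25031), (25032, 25032), (25033, 25033), (25034, 25034), (25035, 25035), (25036, 25036), (25037, 26219), (25038, 23891), (25039, 23873), (25040, 23871), (25041, 25788), (25042, 26221), (25043, 23881), (25044, 23879), (25045, 25887), (25046, 25964), (25047, 25965), (25048, 25966), (25049, 24304), (25050, 26227), (25051, 26226), (25052, 23882), (25053, 23883), (25054, 23889), (25055, 24311), (25056, 23890), (25057, 23887), (25058, 26237), (25059, 26239), (25060, 26240), (25061, 26242), (25062, 26220), (25063, 25892), (25064, 25905), (25065, 25906), (25066, 25976), (25067, 25977), (25068, 25978), (25069, 26177), (25070, 23898), (25071, 23902), (25072, 23903), (25073, 26259), (25074, 26260), (25075, 26261),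 (25076, 26262), (25077, 24338), (25078, 23905), (25079, 23906), (25080, 23914), (25081, 26194), (25082, 23915), (25083, 23916), (25084, 26196), (25085, 24288), (25086, 23917), (25087, 23918)]
    ⟨e3 q25024 (flp_h L780128) q26174, e3 q25025 (flp_h L780134) q26175, e3 q25026 (flp_h L780140) q26176, e3 q25027 L768982 q24009, e3 q25028 L768997 q25028, e3 q25029 L769003 q25029, e3 q25030 L769012 q25030, e3 q25031 L769023 q25031, e3 q25032 L769034 q25032, e3 q25033 L769045 q25033, e3 q25034 L769056 q25034, e3 q25035 L769069 q25035, e3 q25036 L769082 q25036, e3 q25037 L780575 q26219, e3 q25038 L769107 q23891, e3 q25039 L769121 q23873, e3 q25040 (flp_h L769123) q23871, e3 q25041 (flp_h L775983) q25788, e3 q25042 (flp_h L780602) q26221, e3 q25043 L769160 q23881, e3 q25044 L769176 q23879, e3 q25045 (flp_h L777239) q25887, e3 q25046 (flp_h L778047) q25964, e3 q25047 (flp_h L778055) q25965, e3 q25048 (flp_h L778069) q25966, e3 q25049 L769218 q24304, e3 q25050 (flp_h L780665) q26227, e3 q25051 (flp_h L780649) q26226, e3 q25052 (flp_h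 L769232) q23882, e3 q25053 (flp_h L769243) q23883, e3 q25054 L769264 q23889, e3 q25055 L769278 q24311, e3 q25056 L769284 q23890, e3 q25057 (flp_h L769286) q23887, e3 q25058 (flp_h L780744) q26237, e3 q25059 (flp_h L780768) q26239, e3 q25060 (flp_h L780774) q26240, e3 q25061 (flp_h L780793) q26242, e3 q25062 (flp_h L780592) q26220, e3 q25063 (flp_h L777308) q25892, e3 q25064 (flp_h L777440) q25905, e3 q25065 (flp_h L777450) q25906, e3 q25066 (flp_h L778164) q25976, e3 q25067 (flp_h L778174) q25977, e3 q25068 (flp_h L778180) q25978, e3 q25069 (flp_h L780152) q26177, e3 q25070 (flp_h L769374) q23898, e3 q25071 L769391 q23902, e3 q25072 L769399 q23903, e3 q25073 (flp_h L780911) q26259, e3 q25074 (flp_h L780917) q26260, e3 q25075 (flp_h L780923) q26261, e3 q25076 (flp_h L780934) q26262, e3 q25077 L769435 q24338, e3 q25078 (flp_h L769439) q23905, e3 q25079 (flp_h L769450) q23906, e3 q25080 L769465 q23914, e3 q25081 (flp_h L780325) q26194, e3 q25082 L769477 q23915, e3 q25083 L769481 q23916, e3 q25084 (flp_h L780347) q26196, e3 q25085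 L769498 q24288, e3 q25086 L769508 q23917, e3 q25087 L769518 q23918, trivial⟩ (by decide +kernel)

theorem ce_h_392 : ∀ r, r < 64 → sm gh (Qf (25088 + r)) = Qf (tab Gen.h (25088 + r)) :=
  edges_tab (sm gh) Qf (tab Gen.h) 25088 [(25088, 23919), (25089, 26268), (25090, 26270), (25091, 26271), (25092, 26274), (25093, 26275), (25094, 26276), (25095, 26279), (25096, 26280), (25097, 26282), (25098, 26007), (25099, 24230), (25100, 26008), (25101, 26009), (25102, 26010), (25103, 26011), (25104, 26301), (25105, 25105), (25106, 25106), (25107, 25107), (25108, 25108), (25109, 25109), (25110, 23951), (25111, 23952), (25112, 23953), (25113, 23954), (25114, 23955), (25115, 23956), (25116, 23957), (25117, 26312), (25118, 25118), (25119, 25119), (25120, 26314), (25121, 23959), (25122, 26316), (25123, 23961), (25124, 26319), (25125, 23948), (25126, 25126), (25127, 26306), (25128, 26307), (25129, 26308), (25130, 26324), (25131, 26171), (25132, 26310), (25133, 26326), (25134, 23958), (25135, 26088), (25136, 23960), (25137, 26330), (25138, 26331),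 (25139, 23962), (25140, 25140), (25141, 23974), (25142, 24274), (25143, 23968), (25144, 26154), (25145, 26155), (25146, 26160), (25147, 26161), (25148, 24030), (25149, 24008), (25150, 24011), (25151, 24040)]
    ⟨e3 q25088 L769528 q23919, e3 q25089 (flp_h L780986) q26268, e3 q25090 (flp_h L781002) q26270, e3 q25091 (flp_h L781008) q26271, e3 q25092 (flp_h L781026) q26274, e3 q25093 (flp_h L781032) q26275, e3 q25094 (flp_h L781041) q26276, e3 q25095 (flp_h L781067) q26279, e3 q25096 (flp_h L781077) q26280, e3 q25097 (flp_h L781095) q26282, e3 q25098 (flp_h L778433) q26007, e3 q25099 L769606 q24230, e3 q25100 (flp_h L778441) q26008, e3 q25101 (flp_h L778451) q26009, e3 q25102 (flp_h L778459) q26010, e3 q25103 (flp_h L778465) q26011, e3 q25104 L781227 q26301, e3 q25105 L769642 q25105, e3 q25106 L769654 q25106, e3 q25107 L769660 q25107, e3 q25108 L769669 q25108, e3 q25109 L769676 q25109, e3 q25110 L769688 q23951, e3 q25111 L769698 q23952, e3 q25112 L769707 q23953, e3 q25113 L769717 q23954, e3 q25114 L769721 q23955, e3 q25115 L769732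 q23956, e3 q25116 L769742 q23957, e3 q25117 L781334 q26312, e3 q25118 L769756 q25118, e3 q25119 L769761 q25119, e3 q25120 L781353 q26314, e3 q25121 L769780 q23959, e3 q25122 L781368 q26316, e3 q25123 L769802 q23961, e3 q25124 L781392 q26319, e3 q25125 (flp_h L769812) q23948, e3 q25126 L769824 q25126, e3 q25127 (flp_h L781281) q26306, e3 q25128 (flp_h L781292) q26307, e3 q25129 (flp_h L781306) q26308, e3 q25130 L781445 q26324, e3 q25131 (flp_h L780099) q26171, e3 q25132 (flp_h L781322) q26310, e3 q25133 L781462 q26326, e3 q25134 (flp_h L769899) q23958, e3 q25135 (flp_h L779283) q26088, e3 q25136 (flp_h L769920) q23960, e3 q25137 L781501 q26330, e3 q25138 L781512 q26331, e3 q25139 (flp_h L769949) q23962, e3 q25140 L769959 q25140, e3 q25141 L769970 q23974, e3 q25142 L769982 q24274, e3 q25143 L769994 q23968, e3 q25144 (flp_h L779952) q26154, e3 q25145 (flp_h L779966) q26155, e3 q25146 (flp_h L780012) q26160, e3 q25147 (flp_h L780018) q26161, e3 q25148 L770048 q24030, e3 q25149 L770058 q24008, e3 q25150 L770072 q24011, e3 q25151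 L770086 q24040, trivial⟩ (by decide +kernel)

theorem ce_h_393 : ∀ r, r < 64 → sm gh (Qf (25152 + r)) = Qf (tab Gen.h (25152 + r)) :=
  edges_tab (sm gh) Qf (tab Gen.h) 25152 [(25152, 24041), (25153, 24354), (25154, 24097), (25155, 25627), (25156, 24110), (25157, 24249), (25158, 24250), (25159, 23989), (25160, 23990), (25161, 24280), (25162, 26348), (25163, 26349), (25164, 26350), (25165, 24134), (25166, 24135), (25167, 24136), (25168, 25168), (25169, 25169), (25170, 26333), (25171, 25171), (25172, 24001), (25173, 24015), (25174, 26360), (25175, 25587), (25176, 25770), (25177, 25772), (25178, 25773), (25179, 25775), (25180, 25776), (25181, 26337), (25182, 24167), (25183, 26338), (25184, 24013), (25185, 26371), (25186, 26372), (25187, 26361), (25188, 24016), (25189, 24047), (25190, 24369), (25191, 24048), (25192, 25567), (25193, 25568), (25194, 26153), (25195, 24049), (25196, 24024), (25197, 24027), (25198, 26387), (25199, 26388), (25200, 26389), (25201, 24052), (25202, 24190), (25203, 26336), (25204, 24032), (25205, 26398),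 (25206, 26399), (25207, 24056), (25208, 24036), (25209, 24037), (25210, 24038), (25211, 26403), (25212, 26404), (25213, 26405), (25214, 26406), (25215, 26407)]
    ⟨e3 q25152 L770094 q24041, e3 q25153 L770102 q24354, e3 q25154 L770114 q24097, e3 q25155 (flp_h L773895) q25627, e3 q25156 L770134 q24110, e3 q25157 L770150 q24249, e3 q25158 L770158 q24250, e3 q25159 L770174 q23989, e3 q25160 L770184 q23990, e3 q25161 L770198 q24280, e3 q25162 (flp_h L781724) q26348, e3 q25163 (flp_h L781738) q26349, e3 q25164 (flp_h L781751) q26350, e3 q25165 L770226 q24134, e3 q25166 L770236 q24135, e3 q25167 L770246 q24136, e3 q25168 L770254 q25168, e3 q25169 L770263 q25169, e3 q25170 (flp_h L781541) q26333, e3 q25171 L770284 q25171, e3 q25172 L770297 q24001, e3 q25173 L770311 q24015, e3 q25174 (flp_h L781855) q26360, e3 q25175 (flp_h L773325) q25587, e3 q25176 (flp_h L775761) q25770, e3 q25177 (flp_h L775787) q25772, e3 q25178 (flp_h L775797) q25773, e3 q25179 (flp_h L775827) q25775, e3 q25180 (flp_h L775837) q25776, e3 q25181 (flp_h L781590)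 q26337, e3 q25182 L770393 q24167, e3 q25183 (flp_h L781602) q26338, e3 q25184 L770409 q24013, e3 q25185 (flp_h L781965) q26371, e3 q25186 (flp_h L781971) q26372, e3 q25187 (flp_h L781869) q26361, e3 q25188 (flp_h L770433) q24016, e3 q25189 L770456 q24047, e3 q25190 L770466 q24369, e3 q25191 L770478 q24048, e3 q25192 (flp_h L773013) q25567, e3 q25193 (flp_h L773025) q25568, e3 q25194 (flp_h L779941) q26153, e3 q25195 L770506 q24049, e3 q25196 (flp_h L770508) q24024, e3 q25197 L770527 q24027, e3 q25198 (flp_h L782110) q26387, e3 q25199 (flp_h L782120) q26388, e3 q25200 (flp_h L782132) q26389, e3 q25201 L770563 q24052, e3 q25202 L770577 q24190, e3 q25203 (flp_h L781576) q26336, e3 q25204 L770593 q24032, e3 q25205 (flp_h L782218) q26398, e3 q25206 (flp_h L782226) q26399, e3 q25207 L770613 q24056, e3 q25208 L770627 q24036, e3 q25209 L770635 q24037, e3 q25210 L770645 q24038, e3 q25211 (flp_h L782258) q26403, e3 q25212 (flp_h L782268) q26404, e3 q25213 (flp_h L782277) q26405, e3 q25214 (flp_h L782287) q26406, e3 q25215 (flp_h L782295)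 q26407, trivial⟩ (by decide +kernel)

theorem ce_h_394 : ∀ r, r < 64 → sm gh (Qf (25216 + r)) = Qf (tab Gen.h (25216 + r)) :=
  edges_tab (sm gh) Qf (tab Gen.h) 25216 [(25216, 26339), (25217, 26340), (25218, 24059), (25219, 25219), (25220, 24060), (25221, 26377), (25222, 26380), (25223, 26386), (25224, 24051), (25225, 26414), (25226, 26395), (25227, 24054), (25228, 24055), (25229, 26416), (25230, 26417), (25231, 24058), (25232, 26124), (25233, 25233), (25234, 25234), (25235, 24065), (25236, 26421), (25237, 26422), (25238, 24092), (25239, 24068), (25240, 26426), (25241, 25241), (25242, 24329), (25243, 24072), (25244, 26431), (25245, 25245), (25246, 24075), (25247, 24077), (25248, 26435), (25249, 26436), (25250, 24330), (25251, 24082), (25252, 26183), (25253, 26440), (25254, 26441), (25255, 24087), (25256, 24123), (25257, 24088), (25258, 24089), (25259, 26445), (25260, 26448), (25261, 26449), (25262, 24306), (25263, 24310), (25264, 26425), (25265, 25628), (25266, 25629), (25267, 25630), (25268, 24146), (25269, 25958), (25270,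 25959), (25271, 26342), (25272, 26085), (25273, 26086), (25274, 26087), (25275, 24101), (25276, 24105), (25277, 26434), (25278, 24106), (25279, 24107)]
    ⟨e3 q25216 (flp_h L781616) q26339, e3 q25217 (flp_h L781626) q26340, e3 q25218 L770705 q24059, e3 q25219 L770715 q25219, e3 q25220 L770724 q24060, e3 q25221 (flp_h L782020) q26377, e3 q25222 (flp_h L782054) q26380, e3 q25223 (flp_h L782098) q26386, e3 q25224 L770775 q24051, e3 q25225 (flp_h L782349) q26414, e3 q25226 (flp_h L782190) q26395, e3 q25227 L770803 q24054, e3 q25228 L770811 q24055, e3 q25229 (flp_h L782370) q26416, e3 q25230 (flp_h L782376) q26417, e3 q25231 L770834 q24058, e3 q25232 (flp_h L779664) q26124, e3 q25233 L770853 q25233, e3 q25234 L770864 q25234, e3 q25235 L770875 q24065, e3 q25236 (flp_h L782420) q26421, e3 q25237 (flp_h L782428) q26422, e3 q25238 L770901 q24092, e3 q25239 (flp_h L770907) q24068, e3 q25240 (flp_h L782465) q26426, e3 q25241 L770926 q25241, e3 q25242 L770933 q24329, e3 q25243 (flp_h L770937) q24072, e3 q25244 (flp_h L782509) q26431,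 e3 q25245 L770964 q25245, e3 q25246 (flp_h L770967) q24075, e3 q25247 L770984 q24077, e3 q25248 (flp_h L782547) q26435, e3 q25249 (flp_h L782555) q26436, e3 q25250 L771010 q24330, e3 q25251 L771020 q24082, e3 q25252 (flp_h L780217) q26183, e3 q25253 (flp_h L782590) q26440, e3 q25254 (flp_h L782596) q26441, e3 q25255 L771056 q24087, e3 q25256 L771062 q24123, e3 q25257 L771066 q24088, e3 q25258 L771070 q24089, e3 q25259 (flp_h L782633) q26445, e3 q25260 (flp_h L782652) q26448, e3 q25261 (flp_h L782658) q26449, e3 q25262 L771101 q24306, e3 q25263 L771111 q24310, e3 q25264 (flp_h L782457) q26425, e3 q25265 (flp_h L773911) q25628, e3 q25266 (flp_h L773921) q25629, e3 q25267 (flp_h L773935) q25630, e3 q25268 L771143 q24146, e3 q25269 (flp_h L777999) q25958, e3 q25270 (flp_h L778011) q25959, e3 q25271 (flp_h L781648) q26342, e3 q25272 (flp_h L779245) q26085, e3 q25273 (flp_h L779255) q26086, e3 q25274 (flp_h L779269) q26087, e3 q25275 (flp_h L771185) q24101, e3 q25276 L771202 q24105, e3 q25277 (flp_h L782539) q26434, e3 q25278 L771214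 q24106, e3 q25279 L771220 q24107, trivial⟩ (by decide +kernel)

theorem ce_h_395 : ∀ r, r < 64 → sm gh (Qf (25280 + r)) = Qf (tab Gen.h (25280 + r)) :=
  edges_tab (sm gh) Qf (tab Gen.h) 25280 [(25280, 26468), (25281, 26469), (25282, 26472), (25283, 26473), (25284, 26474), (25285, 24150), (25286, 24204), (25287, 26344), (25288, 26147), (25289, 26148), (25290, 24117), (25291, 26222), (25292, 24118), (25293, 24119), (25294, 26238), (25295, 26485), (25296, 26486), (25297, 26489), (25298, 26490), (25299, 24127), (25300, 26121), (25301, 24128), (25302, 24129), (25303, 26446), (25304, 26447), (25305, 24130), (25306, 24131), (25307, 24132), (25308, 26105), (25309, 26496), (25310, 26497), (25311, 26500), (25312, 26501), (25313, 26505), (25314, 26506), (25315, 26507), (25316, 25938), (25317, 26356), (25318, 26357), (25319, 25319), (25320, 25320), (25321, 25321), (25322, 25322), (25323, 25323), (25324, 24149), (25325, 26520), (25326, 25326), (25327, 25327), (25328, 24258), (25329, 24239), (25330, 26037), (25331, 26038), (25332, 24162),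 (25333, 24240), (25334, 24163), (25335, 24165), (25336, 26528), (25337, 26529), (25338, 25338), (25339, 26369), (25340, 24259), (25341, 24170), (25342, 24174), (25343, 26527)]
    ⟨e3 q25280 (flp_h L782799) q26468, e3 q25281 (flp_h L782807) q26469, e3 q25282 (flp_h L782828) q26472, e3 q25283 (flp_h L782836) q26473, e3 q25284 (flp_h L782844) q26474, e3 q25285 L771264 q24150, e3 q25286 L771272 q24204, e3 q25287 (flp_h L781672) q26344, e3 q25288 (flp_h L779890) q26147, e3 q25289 (flp_h L779898) q26148, e3 q25290 L771308 q24117, e3 q25291 (flp_h L780616) q26222, e3 q25292 L771318 q24118, e3 q25293 L771324 q24119, e3 q25294 (flp_h L780760) q26238, e3 q25295 (flp_h L782930) q26485, e3 q25296 (flp_h L782936) q26486, e3 q25297 (flp_h L782953) q26489, e3 q25298 (flp_h L782961) q26490, e3 q25299 L771370 q24127, e3 q25300 (flp_h L779626) q26121, e3 q25301 L771382 q24128, e3 q25302 L771386 q24129, e3 q25303 (flp_h L782639) q26446, e3 q25304 (flp_h L782645) q26447, e3 q25305 L771401 q24130, e3 q25306 L771407 q24131, e3 q25307 L771413 q24132,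 e3 q25308 (flp_h L779469) q26105, e3 q25309 (flp_h L783007) q26496, e3 q25310 (flp_h L783017) q26497, e3 q25311 (flp_h L783035) q26500, e3 q25312 (flp_h L783041) q26501, e3 q25313 (flp_h L783061) q26505, e3 q25314 (flp_h L783067) q26506, e3 q25315 (flp_h L783073) q26507, e3 q25316 (flp_h L777794) q25938, e3 q25317 (flp_h L781807) q26356, e3 q25318 (flp_h L781821) q26357, e3 q25319 L771481 q25319, e3 q25320 L771488 q25320, e3 q25321 L771499 q25321, e3 q25322 L771506 q25322, e3 q25323 L771511 q25323, e3 q25324 L771518 q24149, e3 q25325 (flp_h L783151) q26520, e3 q25326 L771531 q25326, e3 q25327 L771536 q25327, e3 q25328 L771550 q24258, e3 q25329 L771564 q24239, e3 q25330 (flp_h L778744) q26037, e3 q25331 (flp_h L778754) q26038, e3 q25332 L771586 q24162, e3 q25333 L771594 q24240, e3 q25334 (flp_h L771596) q24163, e3 q25335 L771605 q24165, e3 q25336 (flp_h L783217) q26528, e3 q25337 (flp_h L783221) q26529, e3 q25338 L771623 q25338, e3 q25339 (flp_h L781945) q26369, e3 q25340 L771640 q24259, e3 q25341 (flp_h L771642) q24170, e3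 q25342 L771657 q24174, e3 q25343 (flp_h L783213) q26527, trivial⟩ (by decide +kernel)

theorem ce_h_396 : ∀ r, r < 64 → sm gh (Qf (25344 + r)) = Qf (tab Gen.h (25344 + r)) :=
  edges_tab (sm gh) Qf (tab Gen.h) 25344 [(25344, 24175), (25345, 24176), (25346, 26536), (25347, 26537), (25348, 26540), (25349, 26541), (25350, 26542), (25351, 24186), (25352, 24269), (25353, 24270), (25354, 25354), (25355, 25355), (25356, 24185), (25357, 24188), (25358, 26552), (25359, 26553), (25360, 26396), (25361, 24281), (25362, 24284), (25363, 25782), (25364, 25783), (25365, 25634), (25366, 24291), (25367, 26052), (25368, 26053), (25369, 25369), (25370, 24222), (25371, 24201), (25372, 24202), (25373, 26566), (25374, 26567), (25375, 25768), (25376, 26481), (25377, 25703), (25378, 25704), (25379, 24340), (25380, 24341), (25381, 24342), (25382, 25685), (25383, 25686), (25384, 25705), (25385, 25706), (25386, 24355), (25387, 26063), (25388, 26064), (25389, 24219), (25390, 24220), (25391, 25681), (25392, 26582), (25393, 26583), (25394, 25808), (25395,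 26564), (25396, 26565), (25397, 24228), (25398, 24229), (25399, 25698), (25400, 25699), (25401, 24378), (25402, 26590), (25403, 26591), (25404, 26295), (25405, 26251), (25406, 24379), (25407, 24380)]
    ⟨e3 q25344 L771667 q24175, e3 q25345 L771673 q24176, e3 q25346 (flp_h L783270) q26536, e3 q25347 (flp_h L783276) q26537, e3 q25348 (flp_h L783299) q26540, e3 q25349 (flp_h L783305) q26541, e3 q25350 (flp_h L783311) q26542, e3 q25351 L771707 q24186, e3 q25352 L771713 q24269, e3 q25353 L771721 q24270, e3 q25354 L771725 q25354, e3 q25355 L771732 q25355, e3 q25356 L771737 q24185, e3 q25357 L771748 q24188, e3 q25358 (flp_h L783371) q26552, e3 q25359 (flp_h L783379) q26553, e3 q25360 (flp_h L782200) q26396, e3 q25361 L771776 q24281, e3 q25362 L771782 q24284, e3 q25363 (flp_h L775907) q25782, e3 q25364 (flp_h L775919) q25783, e3 q25365 (flp_h L773983) q25634, e3 q25366 L771802 q24291, e3 q25367 (flp_h L778910) q26052, e3 q25368 (flp_h L778918) q26053, e3 q25369 L771822 q25369, e3 q25370 L771831 q24222, e3 q25371 L771835 q24201, e3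 q25372 L771839 q24202, e3 q25373 (flp_h L783459) q26566, e3 q25374 (flp_h L783465) q26567, e3 q25375 (flp_h L775734) q25768, e3 q25376 (flp_h L782894) q26481, e3 q25377 (flp_h L774930) q25703, e3 q25378 (flp_h L774944) q25704, e3 q25379 L771880 q24340, e3 q25380 L771884 q24341, e3 q25381 L771890 q24342, e3 q25382 (flp_h L774678) q25685, e3 q25383 (flp_h L774694) q25686, e3 q25384 (flp_h L774960) q25705, e3 q25385 (flp_h L774970) q25706, e3 q25386 L771920 q24355, e3 q25387 (flp_h L779039) q26063, e3 q25388 (flp_h L779049) q26064, e3 q25389 L771934 q24219, e3 q25390 L771940 q24220, e3 q25391 (flp_h L774624) q25681, e3 q25392 (flp_h L783551) q26582, e3 q25393 (flp_h L783559) q26583, e3 q25394 (flp_h L776217) q25808, e3 q25395 (flp_h L783446) q26564, e3 q25396 (flp_h L783452) q26565, e3 q25397 L771978 q24228, e3 q25398 L771984 q24229, e3 q25399 (flp_h L774860) q25698, e3 q25400 (flp_h L774874) q25699, e3 q25401 L772004 q24378, e3 q25402 (flp_h L783597) q26590, e3 q25403 (flp_h L783603) q26591, e3 q25404 (flp_h L781195) q26295,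 e3 q25405 (flp_h L780859) q26251, e3 q25406 L772026 q24379, e3 q25407 L772032 q24380, trivial⟩ (by decide +kernel)

theorem ce_h_397 : ∀ r, r < 64 → sm gh (Qf (25408 + r)) = Qf (tab Gen.h (25408 + r)) :=
  edges_tab (sm gh) Qf (tab Gen.h) 25408 [(25408, 25851), (25409, 25872), (25410, 26522), (25411, 26526), (25412, 24245), (25413, 25674), (25414, 26061), (25415, 26055), (25416, 26603), (25417, 25679), (25418, 26072), (25419, 25828), (25420, 26345), (25421, 26346), (25422, 26347), (25423, 26092), (25424, 26093), (25425, 24255), (25426, 24256), (25427, 26618), (25428, 26619), (25429, 26620), (25430, 25829), (25431, 26521), (25432, 26534), (25433, 24262), (25434, 24263), (25435, 26626), (25436, 26627), (25437, 26628), (25438, 24266), (25439, 24267), (25440, 24268), (25441, 26632), (25442, 26633), (25443, 26634), (25444, 26550), (25445, 25445), (25446, 26281), (25447, 26024), (25448, 24278), (25449, 26059), (25450, 26639), (25451, 25801), (25452, 26351), (25453, 26352), (25454, 26557), (25455, 25791), (25456, 25802), (25457,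 26558), (25458, 26182), (25459, 24287), (25460, 26648), (25461, 26278), (25462, 24290), (25463, 26651), (25464, 26376), (25465, 24389), (25466, 24295), (25467, 26654), (25468, 26655), (25469, 24392), (25470, 26467), (25471, 24300)]
    ⟨e3 q25408 (flp_h L776797) q25851, e3 q25409 (flp_h L777033) q25872, e3 q25410 (flp_h L783175) q26522, e3 q25411 (flp_h L783203) q26526, e3 q25412 L772064 q24245, e3 q25413 (flp_h L774512) q25674, e3 q25414 (flp_h L779013) q26061, e3 q25415 (flp_h L778941) q26055, e3 q25416 (flp_h L783674) q26603, e3 q25417 (flp_h L774597) q25679, e3 q25418 (flp_h L779122) q26072, e3 q25419 (flp_h L776483) q25828, e3 q25420 (flp_h L781682) q26345, e3 q25421 (flp_h L781694) q26346, e3 q25422 (flp_h L781710) q26347, e3 q25423 (flp_h L779323) q26092, e3 q25424 (flp_h L779335) q26093, e3 q25425 L772149 q24255, e3 q25426 L772155 q24256, e3 q25427 (flp_h L783776) q26618, e3 q25428 (flp_h L783782) q26619, e3 q25429 (flp_h L783789) q26620, e3 q25430 (flp_h L776493) q25829, e3 q25431 (flp_h L783161) q26521, e3 q25432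 (flp_h L783256) q26534, e3 q25433 L772207 q24262, e3 q25434 L772215 q24263, e3 q25435 (flp_h L783833) q26626, e3 q25436 (flp_h L783843) q26627, e3 q25437 (flp_h L783852) q26628, e3 q25438 L772239 q24266, e3 q25439 L772243 q24267, e3 q25440 L772248 q24268, e3 q25441 (flp_h L783878) q26632, e3 q25442 (flp_h L783884) q26633, e3 q25443 (flp_h L783888) q26634, e3 q25444 (flp_h L783355) q26550, e3 q25445 L772276 q25445, e3 q25446 (flp_h L781087) q26281, e3 q25447 (flp_h L778599) q26024, e3 q25448 L772291 q24278, e3 q25449 (flp_h L778981) q26059, e3 q25450 (flp_h L783912) q26639, e3 q25451 (flp_h L776151) q25801, e3 q25452 (flp_h L781763) q26351, e3 q25453 (flp_h L781775) q26352, e3 q25454 (flp_h L783406) q26557, e3 q25455 (flp_h L776021) q25791, e3 q25456 (flp_h L776167) q25802, e3 q25457 (flp_h L783412) q26558, e3 q25458 (flp_h L780199) q26182, e3 q25459 L772350 q24287, e3 q25460 (flp_h L783966) q26648, e3 q25461 (flp_h L781059) q26278, e3 q25462 L772364 q24290, e3 q25463 (flp_h L783980) q26651, e3 q25464 (flp_h L782008) q26376,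 e3 q25465 L772388 q24389, e3 q25466 L772394 q24295, e3 q25467 (flp_h L784002) q26654, e3 q25468 (flp_h L784008) q26655, e3 q25469 L772408 q24392, e3 q25470 (flp_h L782791) q26467, e3 q25471 L772416 q24300, trivial⟩ (by decide +kernel)

theorem ce_h_398 : ∀ r, r < 64 → sm gh (Qf (25472 + r)) = Qf (tab Gen.h (25472 + r)) :=
  edges_tab (sm gh) Qf (tab Gen.h) 25472 [(25472, 24301), (25473, 26661), (25474, 26662), (25475, 24331), (25476, 25734), (25477, 26233), (25478, 25756), (25479, 25757), (25480, 26453), (25481, 26127), (25482, 24309), (25483, 26672), (25484, 26454), (25485, 26241), (25486, 26178), (25487, 24315), (25488, 24316), (25489, 26677), (25490, 26678), (25491, 26679), (25492, 24317), (25493, 24324), (25494, 24364), (25495, 24325), (25496, 24326), (25497, 24367), (25498, 24327), (25499, 26157), (25500, 26684), (25501, 26685), (25502, 26688), (25503, 26689), (25504, 26691), (25505, 25733), (25506, 26430), (25507, 26439), (25508, 25508), (25509, 25509), (25510, 26027), (25511, 26028), (25512, 26267), (25513, 25582),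 (25514, 25583), (25515, 26573), (25516, 26574), (25517, 26575), (25518, 24377), (25519, 24374), (25520, 24376), (25521, 24348), (25522, 25700), (25523, 25701), (25524, 24360), (25525, 26712), (25526, 24361), (25527, 24359), (25528, 24358), (25529, 25581), (25530, 25584), (25531, 26341), (25532, 26184), (25533, 26185), (25534, 26719), (25535, 26716)]
    ⟨e3 q25472 L772422 q24301, e3 q25473 (flp_h L784038) q26661, e3 q25474 (flp_h L784044) q26662, e3 q25475 L772436 q24331, e3 q25476 (flp_h L775321) q25734, e3 q25477 (flp_h L780708) q26233, e3 q25478 (flp_h L775590) q25756, e3 q25479 (flp_h L775604) q25757, e3 q25480 (flp_h L782686) q26453, e3 q25481 (flp_h L779693) q26127, e3 q25482 L772481 q24309, e3 q25483 (flp_h L784107) q26672, e3 q25484 (flp_h L782700) q26454, e3 q25485 (flp_h L780785) q26241, e3 q25486 (flp_h L780166) q26178, e3 q25487 L772511 q24315, e3 q25488 L772515 q24316, e3 q25489 (flp_h L784133) q26677, e3 q25490 (flp_h L784139) q26678, e3 q25491 (flp_h L784144) q26679, e3 q25492 (flp_h L772537) q24317, e3 q25493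 L772548 q24324, e3 q25494 L772556 q24364, e3 q25495 L772562 q24325, e3 q25496 L772566 q24326, e3 q25497 L772571 q24367, e3 q25498 L772577 q24327, e3 q25499 (flp_h L779992) q26157, e3 q25500 (flp_h L784180) q26684, e3 q25501 (flp_h L784186) q26685, e3 q25502 (flp_h L784208) q26688, e3 q25503 (flp_h L784214) q26689, e3 q25504 (flp_h L784224) q26691, e3 q25505 (flp_h L775305) q25733, e3 q25506 (flp_h L782495) q26430, e3 q25507 (flp_h L782584) q26439, e3 q25508 L772643 q25508, e3 q25509 L772654 q25509, e3 q25510 (flp_h L778632) q26027, e3 q25511 (flp_h L778646) q26028, e3 q25512 (flp_h L780974) q26267, e3 q25513 (flp_h L773248) q25582, e3 q25514 (flp_h L773264) q25583, e3 q25515 (flp_h L783503) q26573, e3 q25516 (flp_h L783509) q26574, e3 q25517 (flp_h L783515) q26575, e3 q25518 L772701 q24377, e3 q25519 L772709 q24374, e3 q25520 L772721 q24376, e3 q25521 L772731 q24348, e3 q25522 (flp_h L774886) q25700, e3 q25523 (flp_h L774900) q25701, e3 q25524 L772757 q24360, e3 q25525 (flp_h L784367) q26712, e3 q25526 L772775 q24361, e3 q25527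 L772783 q24359, e3 q25528 L772791 q24358, e3 q25529 (flp_h L773232) q25581, e3 q25530 (flp_h L773276) q25584, e3 q25531 (flp_h L781638) q26341, e3 q25532 (flp_h L780227) q26184, e3 q25533 (flp_h L780241) q26185, e3 q25534 (flp_h L784427) q26719, e3 q25535 (flp_h L784401) q26716, trivial⟩ (by decide +kernel)

theorem ce_h_399 : ∀ r, r < 64 → sm gh (Qf (25536 + r)) = Qf (tab Gen.h (25536 + r)) :=
  edges_tab (sm gh) Qf (tab Gen.h) 25536 [(25536, 26718), (25537, 26715), (25538, 26717), (25539, 26683), (25540, 24370), (25541, 24371), (25542, 26686), (25543, 26687), (25544, 24372), (25545, 24373), (25546, 26690), (25547, 24375), (25548, 26378), (25549, 26379), (25550, 26731), (25551, 26732), (25552, 26733), (25553, 26736), (25554, 26737), (25555, 26710), (25556, 26711), (25557, 26709), (25558, 26594), (25559, 26598), (25560, 24401), (25561, 24396), (25562, 24391), (25563, 25563), (25564, 25564), (25565, 25565), (25566, 24400), (25567, 25192), (25568, 25193), (25569, 25569), (25570, 24469), (25571, 24470), (25572, 24602), (25573,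 24603), (25574, 24483), (25575, 24484), (25576, 24485), (25577, 24414), (25578, 26760), (25579, 24524), (25580, 24544), (25581, 25529), (25582, 25513), (25583, 25514), (25584, 25530), (25585, 25585), (25586, 24615), (25587, 25175), (25588, 24635), (25589, 24636), (25590, 24637), (25591, 24638), (25592, 24639), (25593, 24640), (25594, 24432), (25595, 26776), (25596, 24433), (25597, 24434), (25598, 24450), (25599, 24436)]
    ⟨e3 q25536 (flp_h L784421) q26718, e3 q25537 (flp_h L784389) q26715, e3 q25538 (flp_h L784411) q26717, e3 q25539 (flp_h L784174) q26683, e3 q25540 L772853 q24370, e3 q25541 L772859 q24371, e3 q25542 (flp_h L784193) q26686, e3 q25543 (flp_h L784199) q26687, e3 q25544 L772879 q24372, e3 q25545 L772885 q24373, e3 q25546 (flp_h L784218) q26690, e3 q25547 L772893 q24375, e3 q25548 (flp_h L782030) q26378, e3 q25549 (flp_h L782042) q26379, e3 q25550 (flp_h L784495) q26731, e3 q25551 (flp_h L784503) q26732, e3 q25552 (flp_h L784509) q26733, e3 q25553 (flp_h L784527) q26736, e3 q25554 (flp_h L784533) q26737, e3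 q25555 (flp_h L784345) q26710, e3 q25556 (flp_h L784357) q26711, e3 q25557 (flp_h L784335) q26709, e3 q25558 (flp_h L783623) q26594, e3 q25559 (flp_h L783641) q26598, e3 q25560 L772961 q24401, e3 q25561 L772971 q24396, e3 q25562 L772977 q24391, e3 q25563 L772981 q25563, e3 q25564 L772986 q25564, e3 q25565 L772991 q25565, e3 q25566 L772996 q24400, e3 q25567 L773013 q25192, e3 q25568 L773025 q25193, e3 q25569 L773043 q25569, e3 q25570 L773064 q24469, e3 q25571 L773076 q24470, e3 q25572 L773098 q24602, e3 q25573 L773110 q24603, e3 q25574 L773124 q24483, e3 q25575 L773136 q24484, e3 q25576 L773148 q24485, e3 q25577 L773164 q24414, e3 q25578 L784765 q26760, e3 q25579 L773198 q24524, e3 q25580 L773216 q24544, e3 q25581 L773232 q25529, e3 q25582 L773248 q25513, e3 q25583 L773264 q25514, e3 q25584 L773276 q25530, e3 q25585 L773294 q25585, e3 q25586 L773309 q24615, e3 q25587 L773325 q25175, e3 q25588 L773347 q24635, e3 q25589 L773357 q24636, e3 q25590 L773373 q24637, e3 q25591 L773389 q24638, e3 q25592 L773401 q24639, e3 q25593 L773409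 q24640, e3 q25594 L773423 q24432, e3 q25595 L785020 q26776, e3 q25596 (flp_h L773441) q24433, e3 q25597 (flp_h L773455) q24434, e3 q25598 L773486 q24450, e3 q25599 (flp_h L773488) q24436, trivial⟩ (by decide +kernel)

theorem ce_h_400 : ∀ r, r < 64 → sm gh (Qf (25600 + r)) = Qf (tab Gen.h (25600 + r)) :=
  edges_tab (sm gh) Qf (tab Gen.h) 25600 [(25600, 25600), (25601, 24438), (25602, 24439), (25603, 26783), (25604, 25604), (25605, 24455), (25606, 24456), (25607, 24528), (25608, 24445), (25609, 26792), (25610, 25610), (25611, 24448), (25612, 26778), (25613, 26779), (25614, 24451), (25615, 24453), (25616, 26801), (25617, 26802), (25618, 25618), (25619, 26788), (25620, 26789), (25621, 26790), (25622, 25622), (25623, 25623), (25624, 25624), (25625, 25625), (25626, 25626), (25627, 25155), (25628, 25265), (25629, 25266), (25630, 25267), (25631, 24503), (25632, 24789), (25633, 26752), (25634, 25365), (25635, 26753), (25636, 24471), (25637, 24473), (25638, 26827), (25639, 26828), (25640, 24475), (25641, 24479), (25642, 26800), (25643,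 24480), (25644, 24481), (25645, 26832), (25646, 26833), (25647, 26836), (25648, 26837), (25649, 26838), (25650, 24501), (25651, 26756), (25652, 26757), (25653, 26758), (25654, 25654), (25655, 25655), (25656, 25656), (25657, 24510), (25658, 24498), (25659, 24499), (25660, 24500), (25661, 25661), (25662, 25662), (25663, 26856)]
    ⟨e3 q25600 L773519 q25600, e3 q25601 (flp_h L773520) q24438, e3 q25602 (flp_h L773537) q24439, e3 q25603 (flp_h L785140) q26783, e3 q25604 L773574 q25604, e3 q25605 L773589 q24455, e3 q25606 L773599 q24456, e3 q25607 L773619 q24528, e3 q25608 (flp_h L773621) q24445, e3 q25609 (flp_h L785265) q26792, e3 q25610 L773664 q25610, e3 q25611 (flp_h L773667) q24448, e3 q25612 (flp_h L785063) q26778, e3 q25613 (flp_h L785075) q26779, e3 q25614 (flp_h L773707) q24451, e3 q25615 L773734 q24453, e3 q25616 (flp_h L785386) q26801, e3 q25617 (flp_h L785396) q26802, e3 q25618 L773768 q25618, e3 q25619 (flp_h L785202) q26788, e3 q25620 (flp_h L785214) q26789, e3 q25621 (flp_h L785227) q26790, e3 q25622 L773823 q25622,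 e3 q25623 L773839 q25623, e3 q25624 L773848 q25624, e3 q25625 L773863 q25625, e3 q25626 L773878 q25626, e3 q25627 L773895 q25155, e3 q25628 L773911 q25265, e3 q25629 L773921 q25266, e3 q25630 L773935 q25267, e3 q25631 L773949 q24503, e3 q25632 L773965 q24789, e3 q25633 (flp_h L784657) q26752, e3 q25634 L773983 q25365, e3 q25635 (flp_h L784673) q26753, e3 q25636 (flp_h L773997) q24471, e3 q25637 L774027 q24473, e3 q25638 (flp_h L785727) q26827, e3 q25639 (flp_h L785741) q26828, e3 q25640 (flp_h L774059) q24475, e3 q25641 L774088 q24479, e3 q25642 (flp_h L785376) q26800, e3 q25643 L774108 q24480, e3 q25644 L774120 q24481, e3 q25645 (flp_h L785803) q26832, e3 q25646 (flp_h L785817) q26833, e3 q25647 (flp_h L785852) q26836, e3 q25648 (flp_h L785864) q26837, e3 q25649 (flp_h L785878) q26838, e3 q25650 L774182 q24501, e3 q25651 (flp_h L784719) q26756, e3 q25652 (flp_h L784733) q26757, e3 q25653 (flp_h L784745) q26758, e3 q25654 L774226 q25654, e3 q25655 L774241 q25655, e3 q25656 L774256 q25656, e3 q25657 L774267 q24510, e3 q25658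 L774281 q24498, e3 q25659 L774295 q24499, e3 q25660 L774307 q24500, e3 q25661 L774321 q25661, e3 q25662 L774334 q25662, e3 q25663 L786089 q26856, trivial⟩ (by decide +kernel)

theorem ce_h_401 : ∀ r, r < 64 → sm gh (Qf (25664 + r)) = Qf (tab Gen.h (25664 + r)) :=
  edges_tab (sm gh) Qf (tab Gen.h) 25664 [(25664, 26852), (25665, 26853), (25666, 26857), (25667, 24502), (25668, 26820), (25669, 25669), (25670, 24506), (25671, 25671), (25672, 24509), (25673, 24877), (25674, 25413), (25675, 24513), (25676, 25676), (25677, 24515), (25678, 24683), (25679, 25417), (25680, 25680), (25681, 25391), (25682, 24521), (25683, 26869), (25684, 26870), (25685, 25382), (25686, 25383), (25687, 26761), (25688, 24532), (25689, 24533), (25690, 26791), (25691, 24530), (25692, 26880), (25693, 26881), (25694, 26876), (25695, 26877), (25696, 26878), (25697, 24828), (25698, 25399), (25699, 25400), (25700, 25522), (25701, 25523), (25702, 24698), (25703, 25377), (25704, 25378), (25705, 25384), (25706, 25385), (25707, 26762), (25708, 24547), (25709, 24548),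 (25710, 25710), (25711, 24550), (25712, 24551), (25713, 26901), (25714, 25714), (25715, 24554), (25716, 24576), (25717, 24577), (25718, 24557), (25719, 25719), (25720, 26831), (25721, 25721), (25722, 25722), (25723, 24563), (25724, 26826), (25725, 26916), (25726, 26917), (25727, 25727)]
    ⟨e3 q25664 (flp_h L786044) q26852, e3 q25665 (flp_h L786058) q26853, e3 q25666 L786101 q26857, e3 q25667 (flp_h L774398) q24502, e3 q25668 (flp_h L785639) q26820, e3 q25669 L774441 q25669, e3 q25670 L774454 q24506, e3 q25671 L774468 q25671, e3 q25672 L774481 q24509, e3 q25673 L774500 q24877, e3 q25674 L774512 q25413, e3 q25675 (flp_h L774518) q24513, e3 q25676 L774551 q25676, e3 q25677 (flp_h L774552) q24515, e3 q25678 L774583 q24683, e3 q25679 L774597 q25417, e3 q25680 L774609 q25680, e3 q25681 L774624 q25391, e3 q25682 L774640 q24521, e3 q25683 (flp_h L786291) q26869, e3 q25684 (flp_h L786307) q26870, e3 q25685 L774678 q25382, e3 q25686 L774694 q25383, e3 q25687 (flp_h L784792) q26761, e3 q25688 L774724 q24532, e3 q25689 L774734 q24533,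 e3 q25690 (flp_h L785245) q26791, e3 q25691 L774768 q24530, e3 q25692 (flp_h L786453) q26880, e3 q25693 (flp_h L786469) q26881, e3 q25694 (flp_h L786394) q26876, e3 q25695 (flp_h L786410) q26877, e3 q25696 (flp_h L786425) q26878, e3 q25697 L774848 q24828, e3 q25698 L774860 q25399, e3 q25699 L774874 q25400, e3 q25700 L774886 q25522, e3 q25701 L774900 q25523, e3 q25702 L774920 q24698, e3 q25703 L774930 q25377, e3 q25704 L774944 q25378, e3 q25705 L774960 q25384, e3 q25706 L774970 q25385, e3 q25707 (flp_h L784810) q26762, e3 q25708 L774996 q24547, e3 q25709 (flp_h L775002) q24548, e3 q25710 L775033 q25710, e3 q25711 (flp_h L775034) q24550, e3 q25712 (flp_h L775051) q24551, e3 q25713 (flp_h L786762) q26901, e3 q25714 L775088 q25714, e3 q25715 (flp_h L775091) q24554, e3 q25716 L775120 q24576, e3 q25717 L775128 q24577, e3 q25718 (flp_h L775132) q24557, e3 q25719 L775163 q25719, e3 q25720 (flp_h L785791) q26831, e3 q25721 L775177 q25721, e3 q25722 L775188 q25722, e3 q25723 L775199 q24563, e3 q25724 (flp_h L785715) q26826, e3 q25725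 (flp_h L786941) q26916, e3 q25726 (flp_h L786953) q26917, e3 q25727 L775235 q25727, trivial⟩ (by decide +kernel)

theorem ce_h_402 : ∀ r, r < 64 → sm gh (Qf (25728 + r)) = Qf (tab Gen.h (25728 + r)) :=
  edges_tab (sm gh) Qf (tab Gen.h) 25728 [(25728, 24590), (25729, 24591), (25730, 24592), (25731, 24567), (25732, 25021), (25733, 25505), (25734, 25476), (25735, 25735), (25736, 24573), (25737, 26933), (25738, 26934), (25739, 25739), (25740, 26906), (25741, 26907), (25742, 26908), (25743, 26909), (25744, 24579), (25745, 26943), (25746, 26944), (25747, 24584), (25748, 24625), (25749, 24585), (25750, 24586), (25751, 26947), (25752, 26950), (25753, 26951), (25754, 26952), (25755, 25000), (25756, 25478), (25757, 25479), (25758, 26924), (25759, 26925), (25760, 26926), (25761, 25761), (25762, 25762), (25763, 25763), (25764, 26966), (25765, 24600), (25766, 24747), (25767, 26754), (25768, 25375), (25769, 26755), (25770, 25176), (25771, 24653), (25772, 25177), (25773, 25178), (25774, 24654), (25775, 25179), (25776, 25180), (25777, 25019),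 (25778, 24655), (25779, 24740), (25780, 24748), (25781, 24749), (25782, 25363), (25783, 25364), (25784, 26767), (25785, 24617), (25786, 26990), (25787, 26977), (25788, 25041), (25789, 24622), (25790, 24623), (25791, 25455)]
    ⟨e3 q25728 L775245 q24590, e3 q25729 L775255 q24591, e3 q25730 L775264 q24592, e3 q25731 (flp_h L775270) q24567, e3 q25732 L775297 q25021, e3 q25733 L775305 q25505, e3 q25734 L775321 q25476, e3 q25735 L775333 q25735, e3 q25736 L775350 q24573, e3 q25737 (flp_h L787138) q26933, e3 q25738 (flp_h L787150) q26934, e3 q25739 L775382 q25739, e3 q25740 (flp_h L786830) q26906, e3 q25741 (flp_h L786840) q26907, e3 q25742 (flp_h L786852) q26908, e3 q25743 (flp_h L786863) q26909, e3 q25744 L775445 q24579, e3 q25745 (flp_h L787259) q26943, e3 q25746 (flp_h L787275) q26944, e3 q25747 L775489 q24584, e3 q25748 L775505 q24625, e3 q25749 L775511 q24585, e3 q25750 L775517 q24586, e3 q25751 (flp_h L787320) q26947, e3 q25752 (flp_h L787361) q26950, e3 q25753 (flp_h L787369) q26951, e3 q25754 (flp_h L787380) q26952, e3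 q25755 L775580 q25000, e3 q25756 L775590 q25478, e3 q25757 L775604 q25479, e3 q25758 (flp_h L787023) q26924, e3 q25759 (flp_h L787035) q26925, e3 q25760 (flp_h L787045) q26926, e3 q25761 L775646 q25761, e3 q25762 L775661 q25762, e3 q25763 L775676 q25763, e3 q25764 L787552 q26966, e3 q25765 (flp_h L775693) q24600, e3 q25766 L775720 q24747, e3 q25767 (flp_h L784691) q26754, e3 q25768 L775734 q25375, e3 q25769 (flp_h L784707) q26755, e3 q25770 L775761 q25176, e3 q25771 L775775 q24653, e3 q25772 L775787 q25177, e3 q25773 L775797 q25178, e3 q25774 L775811 q24654, e3 q25775 L775827 q25179, e3 q25776 L775837 q25180, e3 q25777 L775847 q25019, e3 q25778 L775859 q24655, e3 q25779 L775875 q24740, e3 q25780 L775883 q24748, e3 q25781 L775895 q24749, e3 q25782 L775907 q25363, e3 q25783 L775919 q25364, e3 q25784 (flp_h L784890) q26767, e3 q25785 L775941 q24617, e3 q25786 (flp_h L787860) q26990, e3 q25787 (flp_h L787692) q26977, e3 q25788 L775983 q25041, e3 q25789 L775993 q24622, e3 q25790 L776005 q24623, e3 q25791 L776021 q25455, trivial⟩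 (by decide +kernel)

theorem ce_h_403 : ∀ r, r < 64 → sm gh (Qf (25792 + r)) = Qf (tab Gen.h (25792 + r)) :=
  edges_tab (sm gh) Qf (tab Gen.h) 25792 [(25792, 26995), (25793, 26996), (25794, 26974), (25795, 26948), (25796, 26949), (25797, 24631), (25798, 24632), (25799, 24633), (25800, 24935), (25801, 25451), (25802, 25456), (25803, 27003), (25804, 27004), (25805, 27005), (25806, 27006), (25807, 26769), (25808, 25394), (25809, 26770), (25810, 26771), (25811, 26772), (25812, 26773), (25813, 27019), (25814, 24650), (25815, 24651), (25816, 24652), (25817, 24992), (25818, 26981), (25819, 24649), (25820, 25820), (25821, 25821), (25822, 24661), (25823, 24861), (25824, 24864), (25825, 24907), (25826, 26864), (25827, 25827), (25828, 25419), (25829, 25430), (25830, 25830), (25831, 24865), (25832, 24866), (25833, 24888), (25834, 24889), (25835, 24867), (25836, 24868), (25837, 24869), (25838, 24677), (25839, 24678), (25840, 27038), (25841, 25841), (25842, 24690), (25843, 24691), (25844, 26865), (25845, 24936), (25846, 25846), (25847,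 24687), (25848, 27049), (25849, 27050), (25850, 25850), (25851, 25408), (25852, 27043), (25853, 27044), (25854, 27045), (25855, 25855)]
    ⟨e3 q25792 (flp_h L787936) q26995, e3 q25793 (flp_h L787948) q26996, e3 q25794 (flp_h L787654) q26974, e3 q25795 (flp_h L787334) q26948, e3 q25796 (flp_h L787350) q26949, e3 q25797 L776093 q24631, e3 q25798 L776105 q24632, e3 q25799 L776117 q24633, e3 q25800 L776139 q24935, e3 q25801 L776151 q25451, e3 q25802 L776167 q25456, e3 q25803 (flp_h L788038) q27003, e3 q25804 (flp_h L788050) q27004, e3 q25805 (flp_h L788064) q27005, e3 q25806 (flp_h L788080) q27006, e3 q25807 (flp_h L784926) q26769, e3 q25808 L776217 q25394, e3 q25809 (flp_h L784940) q26770, e3 q25810 (flp_h L784956) q26771, e3 q25811 (flp_h L784974) q26772, e3 q25812 (flp_h L784986) q26773, e3 q25813 L788208 q27019, e3 q25814 L776269 q24650, e3 q25815 L776285 q24651, e3 q25816 L776300 q24652, e3 q25817 L776316 q24992, e3 q25818 (flp_h L787742) q26981, e3 q25819 (flp_h L776330) q24649, e3 q25820 L776350 q25820, e3 q25821 L776363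 q25821, e3 q25822 L776378 q24661, e3 q25823 L776402 q24861, e3 q25824 L776414 q24864, e3 q25825 L776436 q24907, e3 q25826 (flp_h L786223) q26864, e3 q25827 L776464 q25827, e3 q25828 L776483 q25419, e3 q25829 L776493 q25430, e3 q25830 L776509 q25830, e3 q25831 L776530 q24865, e3 q25832 L776542 q24866, e3 q25833 L776556 q24888, e3 q25834 L776570 q24889, e3 q25835 L776586 q24867, e3 q25836 L776600 q24868, e3 q25837 L776612 q24869, e3 q25838 (flp_h L776614) q24677, e3 q25839 (flp_h L776631) q24678, e3 q25840 (flp_h L788500) q27038, e3 q25841 L776664 q25841, e3 q25842 L776679 q24690, e3 q25843 L776689 q24691, e3 q25844 (flp_h L786235) q26865, e3 q25845 L776717 q24936, e3 q25846 L776731 q25846, e3 q25847 L776748 q24687, e3 q25848 (flp_h L788643) q27049, e3 q25849 (flp_h L788655) q27050, e3 q25850 L776776 q25850, e3 q25851 L776797 q25408, e3 q25852 (flp_h L788558) q27043, e3 q25853 (flp_h L788570) q27044, e3 q25854 (flp_h L788583) q27045, e3 q25855 L776833 q25855, trivial⟩ (by decide +kernel)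

theorem ce_h_404 : ∀ r, r < 64 → sm gh (Qf (25856 + r)) = Qf (tab Gen.h (25856 + r)) :=
  edges_tab (sm gh) Qf (tab Gen.h) 25856 [(25856, 25856), (25857, 24886), (25858, 24890), (25859, 26893), (25860, 26894), (25861, 24701), (25862, 24702), (25863, 27064), (25864, 27065), (25865, 24945), (25866, 24896), (25867, 24897), (25868, 24898), (25869, 24899), (25870, 24900), (25871, 26983), (25872, 25409), (25873, 24910), (25874, 24713), (25875, 27076), (25876, 24716), (25877, 27078), (25878, 27079), (25879, 24914), (25880, 24727), (25881, 24720), (25882, 24721), (25883, 27084), (25884, 25884), (25885, 24734), (25886, 24735), (25887, 25045), (25888, 27083), (25889, 26967), (25890, 25890), (25891, 24732), (25892, 25063), (25893, 27096), (25894, 27097), (25895, 25895), (25896, 27089), (25897, 27090), (25898, 27091), (25899, 25899), (25900, 24937), (25901, 26982), (25902, 24943), (25903, 24944), (25904, 24946), (25905, 25064), (25906, 25065), (25907, 24760), (25908, 24761), (25909, 26968), (25910, 26969), (25911, 26984), (25912, 26985),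 (25913, 26986), (25914, 24957), (25915, 24958), (25916, 24959), (25917, 25917), (25918, 25918), (25919, 27125)]
    ⟨e3 q25856 L776850 q25856, e3 q25857 L776865 q24886, e3 q25858 L776877 q24890, e3 q25859 (flp_h L786641) q26893, e3 q25860 (flp_h L786657) q26894, e3 q25861 L776911 q24701, e3 q25862 L776925 q24702, e3 q25863 (flp_h L788828) q27064, e3 q25864 (flp_h L788842) q27065, e3 q25865 L776957 q24945, e3 q25866 L776971 q24896, e3 q25867 L776983 q24897, e3 q25868 L776993 q24898, e3 q25869 L776999 q24899, e3 q25870 L777009 q24900, e3 q25871 (flp_h L787770) q26983, e3 q25872 L777033 q25409, e3 q25873 L777047 q24910, e3 q25874 (flp_h L777049) q24713, e3 q25875 (flp_h L788972) q27076, e3 q25876 L777092 q24716, e3 q25877 (flp_h L788998) q27078, e3 q25878 (flp_h L789012) q27079, e3 q25879 L777118 q24914, e3 q25880 L777136 q24727, e3 q25881 (flp_h L777138) q24720, e3 q25882 (flp_h L777155) q24721, e3 q25883 (flp_h L789077) q27084, e3 q25884 L777196 q25884, e3 q25885 L777211 q24734, e3 q25886 L777221 q24735, e3 q25887 L777239 q25045,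 e3 q25888 (flp_h L789057) q27083, e3 q25889 (flp_h L787577) q26967, e3 q25890 L777275 q25890, e3 q25891 L777290 q24732, e3 q25892 L777308 q25063, e3 q25893 (flp_h L789236) q27096, e3 q25894 (flp_h L789246) q27097, e3 q25895 L777340 q25895, e3 q25896 (flp_h L789143) q27089, e3 q25897 (flp_h L789155) q27090, e3 q25898 (flp_h L789168) q27091, e3 q25899 L777381 q25899, e3 q25900 L777394 q24937, e3 q25901 (flp_h L787754) q26982, e3 q25902 L777418 q24943, e3 q25903 L777428 q24944, e3 q25904 L777434 q24946, e3 q25905 L777440 q25064, e3 q25906 L777450 q25065, e3 q25907 L777466 q24760, e3 q25908 L777482 q24761, e3 q25909 (flp_h L787587) q26968, e3 q25910 (flp_h L787599) q26969, e3 q25911 (flp_h L787784) q26984, e3 q25912 (flp_h L787796) q26985, e3 q25913 (flp_h L787810) q26986, e3 q25914 L777534 q24957, e3 q25915 L777542 q24958, e3 q25916 L777548 q24959, e3 q25917 L777564 q25917, e3 q25918 L777579 q25918, e3 q25919 L789535 q27125, trivial⟩ (by decide +kernel)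

theorem ce_h_405 : ∀ r, r < 64 → sm gh (Qf (25920 + r)) = Qf (tab Gen.h (25920 + r)) :=
  edges_tab (sm gh) Qf (tab Gen.h) 25920 [(25920, 24759), (25921, 24762), (25922, 24763), (25923, 27127), (25924, 24782), (25925, 24783), (25926, 26784), (25927, 25927), (25928, 25928), (25929, 24770), (25930, 24773), (25931, 26780), (25932, 27138), (25933, 27139), (25934, 25934), (25935, 24794), (25936, 24795), (25937, 24796), (25938, 25316), (25939, 24778), (25940, 24780), (25941, 27151), (25942, 27152), (25943, 27130), (25944, 27131), (25945, 27132), (25946, 24785), (25947, 27158), (25948, 27159), (25949, 25949), (25950, 24825), (25951, 24790), (25952, 24791), (25953, 26821), (25954, 26822), (25955, 27165), (25956, 27166), (25957, 27167), (25958, 25269), (25959, 25270), (25960, 27146), (25961, 27147), (25962, 27148), (25963, 27178), (25964, 25046), (25965, 25047), (25966, 25048), (25967, 24804), (25968, 24808), (25969, 27150), (25970, 24809), (25971, 24810), (25972, 27183), (25973, 27184), (25974, 27187), (25975, 27188), (25976, 25066),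 (25977, 25067), (25978, 25068), (25979, 24815), (25980, 27195), (25981, 24819), (25982, 27039), (25983, 24820)]
    ⟨e3 q25920 (flp_h L777596) q24759, e3 q25921 (flp_h L777609) q24762, e3 q25922 (flp_h L777626) q24763, e3 q25923 (flp_h L789575) q27127, e3 q25924 L777663 q24782, e3 q25925 L777671 q24783, e3 q25926 (flp_h L785156) q26784, e3 q25927 L777688 q25927, e3 q25928 L777699 q25928, e3 q25929 (flp_h L777702) q24770, e3 q25930 L777723 q24773, e3 q25931 (flp_h L785095) q26780, e3 q25932 (flp_h L789693) q27138, e3 q25933 (flp_h L789701) q27139, e3 q25934 L777751 q25934, e3 q25935 L777761 q24794, e3 q25936 L777771 q24795, e3 q25937 L777780 q24796, e3 q25938 L777794 q25316, e3 q25939 (flp_h L777798) q24778, e3 q25940 L777827 q24780, e3 q25941 (flp_h L789825) q27151, e3 q25942 (flp_h L789837) q27152, e3 q25943 (flp_h L789611) q27130, e3 q25944 (flp_h L789621) q27131, e3 q25945 (flp_h L789632) q27132, e3 q25946 L777883 q24785, e3 q25947 (flp_h L789892) q27158, e3 q25948 (flp_h L789906) q27159, e3 q25949 L777923 q25949, e3 q25950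 L777936 q24825, e3 q25951 L777942 q24790, e3 q25952 L777948 q24791, e3 q25953 (flp_h L785655) q26821, e3 q25954 (flp_h L785667) q26822, e3 q25955 (flp_h L789974) q27165, e3 q25956 (flp_h L789982) q27166, e3 q25957 (flp_h L789987) q27167, e3 q25958 L777999 q25269, e3 q25959 L778011 q25270, e3 q25960 (flp_h L789759) q27146, e3 q25961 (flp_h L789771) q27147, e3 q25962 (flp_h L789781) q27148, e3 q25963 L790075 q27178, e3 q25964 L778047 q25046, e3 q25965 L778055 q25047, e3 q25966 L778069 q25048, e3 q25967 (flp_h L778071) q24804, e3 q25968 L778096 q24808, e3 q25969 (flp_h L789813) q27150, e3 q25970 L778114 q24809, e3 q25971 L778124 q24810, e3 q25972 (flp_h L790132) q27183, e3 q25973 (flp_h L790142) q27184, e3 q25974 (flp_h L790177) q27187, e3 q25975 (flp_h L790187) q27188, e3 q25976 L778164 q25066, e3 q25977 L778174 q25067, e3 q25978 L778180 q25068, e3 q25979 L778194 q24815, e3 q25980 (flp_h L790251) q27195, e3 q25981 L778220 q24819, e3 q25982 (flp_h L788516) q27039, e3 q25983 L778238 q24820, trivial⟩ (by decide +kernel)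

theorem ce_h_406 : ∀ r, r < 64 → sm gh (Qf (25984 + r)) = Qf (tab Gen.h (25984 + r)) :=
  edges_tab (sm gh) Qf (tab Gen.h) 25984 [(25984, 24821), (25985, 27197), (25986, 27198), (25987, 27201), (25988, 27202), (25989, 27203), (25990, 26796), (25991, 24829), (25992, 24830), (25993, 27163), (25994, 27164), (25995, 24831), (25996, 24832), (25997, 24833), (25998, 26887), (25999, 26888), (26000, 27212), (26001, 27213), (26002, 27214), (26003, 27218), (26004, 27219), (26005, 27221), (26006, 27222), (26007, 25098), (26008, 25100), (26009, 25101), (26010, 25102), (26011, 25103), (26012, 27237), (26013, 26013), (26014, 27238), (26015, 24847), (26016, 24848), (26017, 27241), (26018, 24849), (26019, 26019), (26020, 26020), (26021, 26021), (26022, 26022), (26023, 26023), (26024, 25447), (26025, 24860), (26026, 27023), (26027, 25510), (26028, 25511), (26029, 27024), (26030, 27031), (26031, 27032), (26032, 27035), (26033, 27036), (26034, 27037), (26035, 24878), (26036, 24879), (26037, 25330), (26038, 25331), (26039, 24903), (26040, 24880),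 (26041, 24881), (26042, 24882), (26043, 24908), (26044, 26861), (26045, 27254), (26046, 27255), (26047, 27256)]
    ⟨e3 q25984 L778250 q24821, e3 q25985 (flp_h L790275) q27197, e3 q25986 (flp_h L790287) q27198, e3 q25987 (flp_h L790320) q27201, e3 q25988 (flp_h L790332) q27202, e3 q25989 (flp_h L790344) q27203, e3 q25990 (flp_h L785324) q26796, e3 q25991 L778318 q24829, e3 q25992 L778324 q24830, e3 q25993 (flp_h L789957) q27163, e3 q25994 (flp_h L789965) q27164, e3 q25995 L778349 q24831, e3 q25996 L778357 q24832, e3 q25997 L778363 q24833, e3 q25998 (flp_h L786556) q26887, e3 q25999 (flp_h L786568) q26888, e3 q26000 (flp_h L790439) q27212, e3 q26001 (flp_h L790445) q27213, e3 q26002 (flp_h L790450) q27214, e3 q26003 (flp_h L790482) q27218, e3 q26004 (flp_h L790490) q27219, e3 q26005 (flp_h L790508) q27221, e3 q26006 (flp_h L790516) q27222, e3 q26007 L778433 q25098, e3 q26008 L778441 q25100, e3 q26009 L778451 q25101, e3 q26010 L778459 q25102, e3 q26011 L778465 q25103, e3 q26012 L790620 q27237, e3 q26013 L778481 q26013, e3 q26014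 L790626 q27238, e3 q26015 (flp_h L778492) q24847, e3 q26016 (flp_h L778496) q24848, e3 q26017 L790651 q27241, e3 q26018 (flp_h L778525) q24849, e3 q26019 L778543 q26019, e3 q26020 L778554 q26020, e3 q26021 L778567 q26021, e3 q26022 L778580 q26022, e3 q26023 L778585 q26023, e3 q26024 L778599 q25447, e3 q26025 L778611 q24860, e3 q26026 (flp_h L788272) q27023, e3 q26027 L778632 q25510, e3 q26028 L778646 q25511, e3 q26029 (flp_h L788288) q27024, e3 q26030 (flp_h L788400) q27031, e3 q26031 (flp_h L788416) q27032, e3 q26032 (flp_h L788456) q27035, e3 q26033 (flp_h L788470) q27036, e3 q26034 (flp_h L788482) q27037, e3 q26035 L778726 q24878, e3 q26036 L778736 q24879, e3 q26037 L778744 q25330, e3 q26038 L778754 q25331, e3 q26039 L778764 q24903, e3 q26040 L778775 q24880, e3 q26041 L778781 q24881, e3 q26042 L778792 q24882, e3 q26043 L778806 q24908, e3 q26044 (flp_h L786171) q26861, e3 q26045 (flp_h L790818) q27254, e3 q26046 (flp_h L790828) q27255, e3 q26047 (flp_h L790839) q27256, trivial⟩ (by decide +kernel)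

theorem ce_h_407 : ∀ r, r < 64 → sm gh (Qf (26048 + r)) = Qf (tab Gen.h (26048 + r)) :=
  edges_tab (sm gh) Qf (tab Gen.h) 26048 [(26048, 27260), (26049, 27261), (26050, 27262), (26051, 24906), (26052, 25367), (26053, 25368), (26054, 27060), (26055, 25415), (26056, 27033), (26057, 27034), (26058, 27061), (26059, 25449), (26060, 24894), (26061, 25414), (26062, 27279), (26063, 25387), (26064, 25388), (26065, 27069), (26066, 27070), (26067, 27071), (26068, 27072), (26069, 27287), (26070, 24902), (26071, 26071), (26072, 25418), (26073, 27271), (26074, 27025), (26075, 27263), (26076, 27264), (26077, 27075), (26078, 24912), (26079, 24913), (26080, 27295), (26081, 27296), (26082, 27082), (26083, 24925), (26084, 24926), (26085, 25272), (26086, 25273), (26087, 25274), (26088, 25135), (26089, 24927), (26090, 24928), (26091, 24929), (26092, 25423), (26093, 25424), (26094, 27182), (26095, 27299), (26096, 27300), (26097, 27301), (26098, 27308), (26099, 27309), (26100, 27310), (26101, 26101), (26102, 26102), (26103, 26103), (26104, 27325),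 (26105, 25308), (26106, 27007), (26107, 27047), (26108, 27048), (26109, 27106), (26110, 24941), (26111, 24942)]
    ⟨e3 q26048 (flp_h L790875) q27260, e3 q26049 (flp_h L790883) q27261, e3 q26050 (flp_h L790893) q27262, e3 q26051 L778898 q24906, e3 q26052 L778910 q25367, e3 q26053 L778918 q25368, e3 q26054 (flp_h L788780) q27060, e3 q26055 L778941 q25415, e3 q26056 (flp_h L788428) q27033, e3 q26057 (flp_h L788440) q27034, e3 q26058 (flp_h L788792) q27061, e3 q26059 L778981 q25449, e3 q26060 L778997 q24894, e3 q26061 L779013 q25414, e3 q26062 (flp_h L791104) q27279, e3 q26063 L779039 q25387, e3 q26064 L779049 q25388, e3 q26065 (flp_h L788886) q27069, e3 q26066 (flp_h L788900) q27070, e3 q26067 (flp_h L788910) q27071, e3 q26068 (flp_h L788916) q27072, e3 q26069 L791182 q27287, e3 q26070 (flp_h L779089) q24902, e3 q26071 L779113 q26071, e3 q26072 L779122 q25418, e3 q26073 (flp_h L791004) q27271, e3 q26074 (flp_h L788306) q27025, e3 q26075 (flp_h L790905) q27263, e3 q26076 (flp_h L790919) q27264, e3 q26077 (flp_h L788954) q27075,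 e3 q26078 L779176 q24912, e3 q26079 L779184 q24913, e3 q26080 (flp_h L791274) q27295, e3 q26081 (flp_h L791284) q27296, e3 q26082 (flp_h L789045) q27082, e3 q26083 L779219 q24925, e3 q26084 L779231 q24926, e3 q26085 L779245 q25272, e3 q26086 L779255 q25273, e3 q26087 L779269 q25274, e3 q26088 L779283 q25135, e3 q26089 L779292 q24927, e3 q26090 L779298 q24928, e3 q26091 L779309 q24929, e3 q26092 L779323 q25423, e3 q26093 L779335 q25424, e3 q26094 (flp_h L790124) q27182, e3 q26095 (flp_h L791310) q27299, e3 q26096 (flp_h L791322) q27300, e3 q26097 (flp_h L791337) q27301, e3 q26098 (flp_h L791421) q27308, e3 q26099 (flp_h L791429) q27309, e3 q26100 (flp_h L791439) q27310, e3 q26101 L779420 q26101, e3 q26102 L779431 q26102, e3 q26103 L779442 q26103, e3 q26104 L791605 q27325, e3 q26105 L779469 q25308, e3 q26106 (flp_h L788100) q27007, e3 q26107 (flp_h L788611) q27047, e3 q26108 (flp_h L788627) q27048, e3 q26109 (flp_h L789345) q27106, e3 q26110 L779518 q24941, e3 q26111 L779528 q24942, trivial⟩ (by decide +kernel)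

theorem ce_h_408 : ∀ r, r < 64 → sm gh (Qf (26112 + r)) = Qf (tab Gen.h (26112 + r)) :=
  edges_tab (sm gh) Qf (tab Gen.h) 26112 [(26112, 27128), (26113, 27332), (26114, 27333), (26115, 27334), (26116, 27108), (26117, 26775), (26118, 27109), (26119, 27068), (26120, 27110), (26121, 25300), (26122, 24949), (26123, 27347), (26124, 25232), (26125, 24954), (26126, 24955), (26127, 25481), (26128, 24956), (26129, 27351), (26130, 27352), (26131, 27354), (26132, 27121), (26133, 27122), (26134, 27360), (26135, 26135), (26136, 26136), (26137, 26137), (26138, 24968), (26139, 24969), (26140, 27245), (26141, 27364), (26142, 24967), (26143, 27307), (26144, 26144), (26145, 25001), (26146, 25017), (26147, 25288), (26148, 25289), (26149, 25007), (26150, 25008), (26151, 25009), (26152, 25010), (26153, 25194), (26154, 25144), (26155, 25145), (26156, 24983), (26157, 25499), (26158, 27380), (26159, 27020), (26160, 25146), (26161, 25147), (26162, 24990), (26163, 27137), (26164, 24991), (26165, 26899), (26166, 27389), (26167, 27390), (26168, 27392),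 (26169, 26989), (26170, 26854), (26171, 25131), (26172, 25022), (26173, 25023), (26174, 25024), (26175, 25025)]
    ⟨e3 q26112 (flp_h L789591) q27128, e3 q26113 (flp_h L791687) q27332, e3 q26114 (flp_h L791699) q27333, e3 q26115 (flp_h L791712) q27334, e3 q26116 (flp_h L789363) q27108, e3 q26117 (flp_h L785018) q26775, e3 q26118 (flp_h L789375) q27109, e3 q26119 (flp_h L788874) q27068, e3 q26120 (flp_h L789383) q27110, e3 q26121 L779626 q25300, e3 q26122 L779636 q24949, e3 q26123 (flp_h L791846) q27347, e3 q26124 L779664 q25232, e3 q26125 L779672 q24954, e3 q26126 L779678 q24955, e3 q26127 L779693 q25481, e3 q26128 L779703 q24956, e3 q26129 (flp_h L791895) q27351, e3 q26130 (flp_h L791903) q27352, e3 q26131 (flp_h L791927) q27354, e3 q26132 (flp_h L789499) q27121, e3 q26133 (flp_h L789507) q27122, e3 q26134 L791971 q27360, e3 q26135 L779758 q26135, e3 q26136 L779771 q26136, e3 q26137 L779782 q26137, e3 q26138 L779795 q24968, e3 q26139 L779801 q24969, e3 q26140 (flp_h L790714) q27245, e3 q26141 L792006 q27364, e3 q26142 (flp_h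 L779824) q24967, e3 q26143 (flp_h L791411) q27307, e3 q26144 L779851 q26144, e3 q26145 L779860 q25001, e3 q26146 L779876 q25017, e3 q26147 L779890 q25288, e3 q26148 L779898 q25289, e3 q26149 L779908 q25007, e3 q26150 L779916 q25008, e3 q26151 L779922 q25009, e3 q26152 L779929 q25010, e3 q26153 L779941 q25194, e3 q26154 L779952 q25144, e3 q26155 L779966 q25145, e3 q26156 L779982 q24983, e3 q26157 L779992 q25499, e3 q26158 (flp_h L792178) q27380, e3 q26159 (flp_h L788234) q27020, e3 q26160 L780012 q25146, e3 q26161 L780018 q25147, e3 q26162 L780033 q24990, e3 q26163 (flp_h L789687) q27137, e3 q26164 L780057 q24991, e3 q26165 (flp_h L786733) q26899, e3 q26166 (flp_h L792259) q27389, e3 q26167 (flp_h L792273) q27390, e3 q26168 (flp_h L792301) q27392, e3 q26169 L787848 q26989, e3 q26170 (flp_h L786073) q26854, e3 q26171 L780099 q25131, e3 q26172 L780109 q25022, e3 q26173 L780119 q25023, e3 q26174 L780128 q25024, e3 q26175 L780134 q25025, trivial⟩ (by decide +kernel)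

theorem ce_h_409 : ∀ r, r < 64 → sm gh (Qf (26176 + r)) = Qf (tab Gen.h (26176 + r)) :=
  edges_tab (sm gh) Qf (tab Gen.h) 26176 [(26176, 25026), (26177, 25069), (26178, 25486), (26179, 26957), (26180, 26958), (26181, 27366), (26182, 25458), (26183, 25252), (26184, 25532), (26185, 25533), (26186, 26927), (26187, 27371), (26188, 27372), (26189, 27373), (26190, 27374), (26191, 27375), (26192, 25012), (26193, 27425), (26194, 25081), (26195, 25018), (26196, 25084), (26197, 25020), (26198, 27367), (26199, 27428), (26200, 26980), (26201, 27430), (26202, 26928), (26203, 26929), (26204, 27402), (26205, 27403), (26206, 27404), (26207, 27405), (26208, 27441), (26209, 26209), (26210, 26210), (26211, 26211), (26212, 26212), (26213, 26213), (26214, 26214), (26215, 27446), (26216, 26216), (26217, 27448), (26218, 27450), (26219, 25037), (26220, 25062), (26221, 25042), (26222, 25291), (26223, 26993), (26224, 26994), (26225, 27453), (26226, 25051), (26227, 25050), (26228, 27092), (26229, 27059), (26230, 27179), (26231, 27180), (26232, 27181),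 (26233, 25477), (26234, 27461), (26235, 27458), (26236, 27460), (26237, 25058), (26238, 25294), (26239, 25059)]
    ⟨e3 q26176 L780140 q25026, e3 q26177 L780152 q25069, e3 q26178 L780166 q25486, e3 q26179 (flp_h L787442) q26957, e3 q26180 (flp_h L787458) q26958, e3 q26181 (flp_h L792027) q27366, e3 q26182 L780199 q25458, e3 q26183 L780217 q25252, e3 q26184 L780227 q25532, e3 q26185 L780241 q25533, e3 q26186 (flp_h L787063) q26927, e3 q26187 (flp_h L792086) q27371, e3 q26188 (flp_h L792094) q27372, e3 q26189 (flp_h L792103) q27373, e3 q26190 (flp_h L792111) q27374, e3 q26191 (flp_h L792117) q27375, e3 q26192 L780301 q25012, e3 q26193 (flp_h L792585) q27425, e3 q26194 L780325 q25081, e3 q26195 L780335 q25018, e3 q26196 L780347 q25084, e3 q26197 L780359 q25020, e3 q26198 (flp_h L792043) q27367, e3 q26199 (flp_h L792619) q27428, e3 q26200 (flp_h L787728) q26980, e3 q26201 (flp_h L792641) q27430, e3 q26202 (flp_h L787071) q26928, e3 q26203 (flp_h L787081) q26929, e3 q26204 (flp_h L792363) q27402, e3 q26205 (flp_h L792375) q27403,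 e3 q26206 (flp_h L792383) q27404, e3 q26207 (flp_h L792389) q27405, e3 q26208 L792739 q27441, e3 q26209 L780468 q26209, e3 q26210 L780483 q26210, e3 q26211 L780495 q26211, e3 q26212 L780506 q26212, e3 q26213 L780511 q26213, e3 q26214 L780523 q26214, e3 q26215 L792793 q27446, e3 q26216 L780546 q26216, e3 q26217 L792814 q27448, e3 q26218 L792837 q27450, e3 q26219 (flp_h L780575) q25037, e3 q26220 L780592 q25062, e3 q26221 L780602 q25042, e3 q26222 L780616 q25291, e3 q26223 (flp_h L787902) q26993, e3 q26224 (flp_h L787918) q26994, e3 q26225 (flp_h L792877) q27453, e3 q26226 L780649 q25051, e3 q26227 L780665 q25050, e3 q26228 (flp_h L789184) q27092, e3 q26229 L788766 q27059, e3 q26230 (flp_h L790088) q27179, e3 q26231 (flp_h L790096) q27180, e3 q26232 (flp_h L790108) q27181, e3 q26233 L780708 q25477, e3 q26234 (flp_h L792971) q27461, e3 q26235 (flp_h L792929) q27458, e3 q26236 (flp_h L792955) q27460, e3 q26237 L780744 q25058, e3 q26238 L780760 q25294, e3 q26239 L780768 q25059, trivial⟩ (by decide +kernel)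

theorem ce_h_410 : ∀ r, r < 64 → sm gh (Qf (26240 + r)) = Qf (tab Gen.h (26240 + r)) :=
  edges_tab (sm gh) Qf (tab Gen.h) 26240 [(26240, 25060), (26241, 25485), (26242, 25061), (26243, 27085), (26244, 27471), (26245, 27472), (26246, 27474), (26247, 27475), (26248, 27477), (26249, 27452), (26250, 27098), (26251, 25405), (26252, 27111), (26253, 27112), (26254, 27113), (26255, 27193), (26256, 27194), (26257, 27495), (26258, 27407), (26259, 25073), (26260, 25074), (26261, 25075), (26262, 25076), (26263, 27497), (26264, 27498), (26265, 27499), (26266, 27500), (26267, 25512), (26268, 25089), (26269, 26910), (26270, 25090), (26271, 25091), (26272, 27427), (26273, 26937), (26274, 25092), (26275, 25093), (26276, 25094), (26277, 27429), (26278, 25461), (26279, 25095), (26280, 25096), (26281, 25446), (26282, 25097), (26283, 27505), (26284, 27506), (26285, 27509), (26286, 27510), (26287, 27511), (26288, 27514), (26289, 27515), (26290, 27534), (26291, 27517), (26292, 27521), (26293, 27523), (26294, 27232), (26295, 25404), (26296, 27233),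 (26297, 27234), (26298, 27541), (26299, 27235), (26300, 27544), (26301, 25104), (26302, 26302), (26303, 26303)]
    ⟨e3 q26240 L780774 q25060, e3 q26241 L780785 q25485, e3 q26242 L780793 q25061, e3 q26243 (flp_h L789093) q27085, e3 q26244 (flp_h L793046) q27471, e3 q26245 (flp_h L793056) q27472, e3 q26246 (flp_h L793081) q27474, e3 q26247 (flp_h L793089) q27475, e3 q26248 (flp_h L793107) q27477, e3 q26249 (flp_h L792865) q27452, e3 q26250 (flp_h L789261) q27098, e3 q26251 L780859 q25405, e3 q26252 (flp_h L789391) q27111, e3 q26253 (flp_h L789403) q27112, e3 q26254 (flp_h L789415) q27113, e3 q26255 (flp_h L790229) q27193, e3 q26256 (flp_h L790239) q27194, e3 q26257 L793241 q27495, e3 q26258 (flp_h L792404) q27407, e3 q26259 L780911 q25073, e3 q26260 L780917 q25074, e3 q26261 L780923 q25075, e3 q26262 L780934 q25076, e3 q26263 (flp_h L793263) q27497, e3 q26264 (flp_h L793269) q27498, e3 q26265 (flp_h L793277) q27499, e3 q26266 (flp_h L793289) q27500, e3 q26267 L780974 q25512, e3 q26268 L780986 q25089, e3 q26269 (flp_h L786883)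 q26910, e3 q26270 L781002 q25090, e3 q26271 L781008 q25091, e3 q26272 (flp_h L792607) q27427, e3 q26273 (flp_h L787187) q26937, e3 q26274 L781026 q25092, e3 q26275 L781032 q25093, e3 q26276 L781041 q25094, e3 q26277 (flp_h L792629) q27429, e3 q26278 L781059 q25461, e3 q26279 L781067 q25095, e3 q26280 L781077 q25096, e3 q26281 L781087 q25446, e3 q26282 L781095 q25097, e3 q26283 (flp_h L793335) q27505, e3 q26284 (flp_h L793345) q27506, e3 q26285 (flp_h L793369) q27509, e3 q26286 (flp_h L793377) q27510, e3 q26287 (flp_h L793382) q27511, e3 q26288 (flp_h L793402) q27514, e3 q26289 (flp_h L793408) q27515, e3 q26290 L793563 q27534, e3 q26291 (flp_h L793419) q27517, e3 q26292 (flp_h L793461) q27521, e3 q26293 (flp_h L793479) q27523, e3 q26294 (flp_h L790588) q27232, e3 q26295 L781195 q25404, e3 q26296 (flp_h L790596) q27233, e3 q26297 (flp_h L790606) q27234, e3 q26298 L793621 q27541, e3 q26299 (flp_h L790614) q27235, e3 q26300 L793639 q27544, e3 q26301 (flp_h L781227) q25104, e3 q26302 L781239 q26302, e3 q26303 L781248 q26303, trivial⟩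 (by decide +kernel)

theorem ce_h_411 : ∀ r, r < 64 → sm gh (Qf (26304 + r)) = Qf (tab Gen.h (26304 + r)) :=
  edges_tab (sm gh) Qf (tab Gen.h) 26304 [(26304, 26304), (26305, 27549), (26306, 25127), (26307, 25128), (26308, 25129), (26309, 27553), (26310, 25132), (26311, 27556), (26312, 25117), (26313, 26313), (26314, 25120), (26315, 27306), (26316, 25122), (26317, 27561), (26318, 27562), (26319, 25124), (26320, 27451), (26321, 27551), (26322, 27387), (26323, 27388), (26324, 25130), (26325, 27566), (26326, 25133), (26327, 26327), (26328, 26328), (26329, 27567), (26330, 25137), (26331, 25138), (26332, 26902), (26333, 25170), (26334, 27378), (26335, 27379), (26336, 25203), (26337, 25181), (26338, 25183), (26339, 25216), (26340, 25217), (26341, 25531), (26342, 25271), (26343, 26814), (26344, 25287), (26345, 25420), (26346, 25421), (26347, 25422), (26348, 25162), (26349, 25163), (26350, 25164), (26351, 25452), (26352, 25453), (26353, 27578), (26354, 27579), (26355, 27580), (26356, 25317), (26357, 25318), (26358, 27524), (26359,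 27569), (26360, 25174), (26361, 25187), (26362, 27588), (26363, 26768), (26364, 26973), (26365, 26975), (26366, 26976), (26367, 26978)]
    ⟨e3 q26304 L781255 q26304, e3 q26305 L793675 q27549, e3 q26306 L781281 q25127, e3 q26307 L781292 q25128, e3 q26308 L781306 q25129, e3 q26309 L793714 q27553, e3 q26310 L781322 q25132, e3 q26311 L793736 q27556, e3 q26312 (flp_h L781334) q25117, e3 q26313 L781348 q26313, e3 q26314 (flp_h L781353) q25120, e3 q26315 (flp_h L791400) q27306, e3 q26316 (flp_h L781368) q25122, e3 q26317 L793783 q27561, e3 q26318 L793795 q27562, e3 q26319 (flp_h L781392) q25124, e3 q26320 (flp_h L792855) q27451, e3 q26321 (flp_h L793704) q27551, e3 q26322 (flp_h L792233) q27387, e3 q26323 (flp_h L792245) q27388, e3 q26324 (flp_h L781445) q25130, e3 q26325 L793839 q27566, e3 q26326 (flp_h L781462) q25133, e3 q26327 L781478 q26327, e3 q26328 L781488 q26328, e3 q26329 L793850 q27567, e3 q26330 (flp_h L781501) q25137, e3 q26331 (flp_h L781512) q25138, e3 q26332 (flp_h L786778) q26902, e3 q26333 L781541 q25170, e3 q26334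 (flp_h L792155) q27378, e3 q26335 (flp_h L792165) q27379, e3 q26336 L781576 q25203, e3 q26337 L781590 q25181, e3 q26338 L781602 q25183, e3 q26339 L781616 q25216, e3 q26340 L781626 q25217, e3 q26341 L781638 q25531, e3 q26342 L781648 q25271, e3 q26343 (flp_h L785559) q26814, e3 q26344 L781672 q25287, e3 q26345 L781682 q25420, e3 q26346 L781694 q25421, e3 q26347 L781710 q25422, e3 q26348 L781724 q25162, e3 q26349 L781738 q25163, e3 q26350 L781751 q25164, e3 q26351 L781763 q25452, e3 q26352 L781775 q25453, e3 q26353 (flp_h L793996) q27578, e3 q26354 (flp_h L794010) q27579, e3 q26355 (flp_h L794024) q27580, e3 q26356 L781807 q25317, e3 q26357 L781821 q25318, e3 q26358 (flp_h L793491) q27524, e3 q26359 (flp_h L793875) q27569, e3 q26360 L781855 q25174, e3 q26361 L781869 q25187, e3 q26362 (flp_h L794114) q27588, e3 q26363 (flp_h L784908) q26768, e3 q26364 (flp_h L787638) q26973, e3 q26365 (flp_h L787670) q26975, e3 q26366 (flp_h L787680) q26976, e3 q26367 (flp_h L787708) q26978, trivial⟩ (by decide +kernel)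

theorem ce_h_412 : ∀ r, r < 64 → sm gh (Qf (26368 + r)) = Qf (tab Gen.h (26368 + r)) :=
  edges_tab (sm gh) Qf (tab Gen.h) 26368 [(26368, 26979), (26369, 25339), (26370, 27571), (26371, 25185), (26372, 25186), (26373, 27595), (26374, 27596), (26375, 27589), (26376, 25464), (26377, 25221), (26378, 25548), (26379, 25549), (26380, 25222), (26381, 26749), (26382, 26750), (26383, 26751), (26384, 27376), (26385, 27377), (26386, 25223), (26387, 25198), (26388, 25199), (26389, 25200), (26390, 27610), (26391, 27611), (26392, 27612), (26393, 27613), (26394, 27614), (26395, 25226), (26396, 25360), (26397, 27570), (26398, 25205), (26399, 25206), (26400, 27622), (26401, 27623), (26402, 27624), (26403, 25211), (26404, 25212), (26405, 25213), (26406, 25214), (26407, 25215), (26408, 27628), (26409, 27629), (26410, 27630), (26411, 27631), (26412, 27632), (26413, 27572), (26414, 25225), (26415, 27637), (26416, 25229), (26417, 25230), (26418, 27349), (26419, 27350), (26420, 26420), (26421, 25236), (26422, 25237), (26423, 27642), (26424, 27643),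 (26425, 25264), (26426, 25240), (26427, 27646), (26428, 27647), (26429, 26429), (26430, 25506), (26431, 25244)]
    ⟨e3 q26368 (flp_h L787718) q26979, e3 q26369 L781945 q25339, e3 q26370 (flp_h L793904) q27571, e3 q26371 L781965 q25185, e3 q26372 L781971 q25186, e3 q26373 (flp_h L794188) q27595, e3 q26374 (flp_h L794196) q27596, e3 q26375 (flp_h L794130) q27589, e3 q26376 L782008 q25464, e3 q26377 L782020 q25221, e3 q26378 L782030 q25548, e3 q26379 L782042 q25549, e3 q26380 L782054 q25222, e3 q26381 (flp_h L784605) q26749, e3 q26382 (flp_h L784621) q26750, e3 q26383 (flp_h L784639) q26751, e3 q26384 (flp_h L792127) q27376, e3 q26385 (flp_h L792139) q27377, e3 q26386 L782098 q25223, e3 q26387 L782110 q25198, e3 q26388 L782120 q25199, e3 q26389 L782132 q25200, e3 q26390 (flp_h L794322) q27610, e3 q26391 (flp_h L794332) q27611, e3 q26392 (flp_h L794343) q27612, e3 q26393 (flp_h L794355) q27613, e3 q26394 (flp_h L794367) q27614, e3 q26395 L782190 q25226, e3 q26396 L782200 q25360, e3 q26397 (flp_h L793888) q27570, e3 q26398 L782218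 q25205, e3 q26399 L782226 q25206, e3 q26400 (flp_h L794443) q27622, e3 q26401 (flp_h L794453) q27623, e3 q26402 (flp_h L794461) q27624, e3 q26403 L782258 q25211, e3 q26404 L782268 q25212, e3 q26405 L782277 q25213, e3 q26406 L782287 q25214, e3 q26407 L782295 q25215, e3 q26408 (flp_h L794495) q27628, e3 q26409 (flp_h L794505) q27629, e3 q26410 (flp_h L794513) q27630, e3 q26411 (flp_h L794523) q27631, e3 q26412 (flp_h L794531) q27632, e3 q26413 (flp_h L793920) q27572, e3 q26414 L782349 q25225, e3 q26415 (flp_h L794568) q27637, e3 q26416 L782370 q25229, e3 q26417 L782376 q25230, e3 q26418 (flp_h L791872) q27349, e3 q26419 (flp_h L791884) q27350, e3 q26420 L782409 q26420, e3 q26421 L782420 q25236, e3 q26422 L782428 q25237, e3 q26423 (flp_h L794616) q27642, e3 q26424 (flp_h L794624) q27643, e3 q26425 L782457 q25264, e3 q26426 L782465 q25240, e3 q26427 (flp_h L794648) q27646, e3 q26428 (flp_h L794656) q27647, e3 q26429 L782487 q26429, e3 q26430 L782495 q25506, e3 q26431 L782509 q25244, trivial⟩ (by decide +kernel)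

theorem ce_h_413 : ∀ r, r < 64 → sm gh (Qf (26432 + r)) = Qf (tab Gen.h (26432 + r)) :=
  edges_tab (sm gh) Qf (tab Gen.h) 26432 [(26432, 27652), (26433, 27653), (26434, 25277), (26435, 25248), (26436, 25249), (26437, 27658), (26438, 27659), (26439, 25507), (26440, 25253), (26441, 25254), (26442, 27414), (26443, 27662), (26444, 27663), (26445, 25259), (26446, 25303), (26447, 25304), (26448, 25260), (26449, 25261), (26450, 27667), (26451, 27670), (26452, 27671), (26453, 25480), (26454, 25484), (26455, 26815), (26456, 26816), (26457, 26817), (26458, 26818), (26459, 26819), (26460, 27173), (26461, 27174), (26462, 27573), (26463, 27302), (26464, 27303), (26465, 27304), (26466, 27305), (26467, 25470), (26468, 25280), (26469, 25281), (26470, 27656), (26471, 27657), (26472, 25282), (26473, 25283), (26474, 25284), (26475, 27691), (26476, 27692), (26477, 27696), (26478, 27697), (26479, 27698), (26480, 27699), (26481, 25376), (26482, 27368), (26483, 27369), (26484, 27370), (26485, 25295), (26486, 25296), (26487, 27454), (26488, 27455),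 (26489, 25297), (26490, 25298), (26491, 27473), (26492, 27708), (26493, 27709), (26494, 27712), (26495, 27713)]
    ⟨e3 q26432 (flp_h L794699) q27652, e3 q26433 (flp_h L794707) q27653, e3 q26434 L782539 q25277, e3 q26435 L782547 q25248, e3 q26436 L782555 q25249, e3 q26437 (flp_h L794761) q27658, e3 q26438 (flp_h L794769) q27659, e3 q26439 L782584 q25507, e3 q26440 L782590 q25253, e3 q26441 L782596 q25254, e3 q26442 (flp_h L792475) q27414, e3 q26443 (flp_h L794791) q27662, e3 q26444 (flp_h L794799) q27663, e3 q26445 L782633 q25259, e3 q26446 L782639 q25303, e3 q26447 L782645 q25304, e3 q26448 L782652 q25260, e3 q26449 L782658 q25261, e3 q26450 (flp_h L794839) q27667, e3 q26451 (flp_h L794857) q27670, e3 q26452 (flp_h L794863) q27671, e3 q26453 L782686 q25480, e3 q26454 L782700 q25484, e3 q26455 (flp_h L785571) q26815, e3 q26456 (flp_h L785585) q26816, e3 q26457 (flp_h L785599) q26817, e3 q26458 (flp_h L785613) q26818, e3 q26459 (flp_h L785627) q26819, e3 q26460 (flp_h L790037) q27173, e3 q26461 (flp_h L790051) q27174, e3 q26462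 (flp_h L793934) q27573, e3 q26463 (flp_h L791349) q27302, e3 q26464 (flp_h L791361) q27303, e3 q26465 (flp_h L791372) q27304, e3 q26466 (flp_h L791386) q27305, e3 q26467 L782791 q25470, e3 q26468 L782799 q25280, e3 q26469 L782807 q25281, e3 q26470 (flp_h L794738) q27656, e3 q26471 (flp_h L794748) q27657, e3 q26472 L782828 q25282, e3 q26473 L782836 q25283, e3 q26474 L782844 q25284, e3 q26475 (flp_h L795013) q27691, e3 q26476 (flp_h L795021) q27692, e3 q26477 (flp_h L795049) q27696, e3 q26478 (flp_h L795057) q27697, e3 q26479 (flp_h L795065) q27698, e3 q26480 (flp_h L795071) q27699, e3 q26481 L782894 q25376, e3 q26482 (flp_h L792055) q27368, e3 q26483 (flp_h L792069) q27369, e3 q26484 (flp_h L792078) q27370, e3 q26485 L782930 q25295, e3 q26486 L782936 q25296, e3 q26487 (flp_h L792889) q27454, e3 q26488 (flp_h L792901) q27455, e3 q26489 L782953 q25297, e3 q26490 L782961 q25298, e3 q26491 (flp_h L793071) q27473, e3 q26492 (flp_h L795139) q27708, e3 q26493 (flp_h L795147) q27709, e3 q26494 (flp_h L795165) q27712, e3 q26495 (flp_h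 L795173) q27713, trivial⟩ (by decide +kernel)

theorem ce_h_414 : ∀ r, r < 64 → sm gh (Qf (26496 + r)) = Qf (tab Gen.h (26496 + r)) :=
  edges_tab (sm gh) Qf (tab Gen.h) 26496 [(26496, 25309), (26497, 25310), (26498, 27346), (26499, 27288), (26500, 25311), (26501, 25312), (26502, 27668), (26503, 27669), (26504, 27558), (26505, 25313), (26506, 25314), (26507, 25315), (26508, 27326), (26509, 27327), (26510, 27718), (26511, 27719), (26512, 27722), (26513, 27723), (26514, 27728), (26515, 27729), (26516, 27149), (26517, 27585), (26518, 26518), (26519, 26519), (26520, 25325), (26521, 25431), (26522, 25410), (26523, 27257), (26524, 27258), (26525, 27259), (26526, 25411), (26527, 25343), (26528, 25336), (26529, 25337), (26530, 27745), (26531, 27746), (26532, 27747), (26533, 27594), (26534, 25432), (26535, 26863), (26536, 25346), (26537, 25347), (26538, 27743), (26539, 27744), (26540, 25348), (26541, 25349), (26542, 25350), (26543, 27753), (26544, 27754), (26545, 27755), (26546, 27759), (26547, 27760), (26548, 27761), (26549, 27342),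 (26550, 25444), (26551, 26551), (26552, 25358), (26553, 25359), (26554, 27768), (26555, 27769), (26556, 27621), (26557, 25454), (26558, 25457), (26559, 26987)]
    ⟨e3 q26496 L783007 q25309, e3 q26497 L783017 q25310, e3 q26498 (flp_h L791832) q27346, e3 q26499 (flp_h L791206) q27288, e3 q26500 L783035 q25311, e3 q26501 L783041 q25312, e3 q26502 (flp_h L794843) q27668, e3 q26503 (flp_h L794851) q27669, e3 q26504 (flp_h L793761) q27558, e3 q26505 L783061 q25313, e3 q26506 L783067 q25314, e3 q26507 L783073 q25315, e3 q26508 (flp_h L791622) q27326, e3 q26509 (flp_h L791636) q27327, e3 q26510 (flp_h L795215) q27718, e3 q26511 (flp_h L795225) q27719, e3 q26512 (flp_h L795243) q27722, e3 q26513 (flp_h L795249) q27723, e3 q26514 (flp_h L795274) q27728, e3 q26515 (flp_h L795280) q27729, e3 q26516 (flp_h L789793) q27149, e3 q26517 (flp_h L794078) q27585, e3 q26518 L783137 q26518, e3 q26519 L783144 q26519, e3 q26520 L783151 q25325, e3 q26521 L783161 q25431, e3 q26522 L783175 q25410, e3 q26523 (flp_h L790847) q27257, e3 q26524 (flp_h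 L790857) q27258, e3 q26525 (flp_h L790867) q27259, e3 q26526 L783203 q25411, e3 q26527 L783213 q25343, e3 q26528 L783217 q25336, e3 q26529 L783221 q25337, e3 q26530 (flp_h L795397) q27745, e3 q26531 (flp_h L795403) q27746, e3 q26532 (flp_h L795408) q27747, e3 q26533 (flp_h L794180) q27594, e3 q26534 L783256 q25432, e3 q26535 (flp_h L786207) q26863, e3 q26536 L783270 q25346, e3 q26537 L783276 q25347, e3 q26538 (flp_h L795382) q27743, e3 q26539 (flp_h L795390) q27744, e3 q26540 L783299 q25348, e3 q26541 L783305 q25349, e3 q26542 L783311 q25350, e3 q26543 (flp_h L795455) q27753, e3 q26544 (flp_h L795461) q27754, e3 q26545 (flp_h L795466) q27755, e3 q26546 (flp_h L795496) q27759, e3 q26547 (flp_h L795502) q27760, e3 q26548 (flp_h L795508) q27761, e3 q26549 (flp_h L791796) q27342, e3 q26550 L783355 q25444, e3 q26551 L783359 q26551, e3 q26552 L783371 q25358, e3 q26553 L783379 q25359, e3 q26554 (flp_h L795550) q27768, e3 q26555 (flp_h L795560) q27769, e3 q26556 (flp_h L794433) q27621, e3 q26557 L783406 q25454, e3 q26558 L783412 q25457,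 e3 q26559 (flp_h L787822) q26987, trivial⟩ (by decide +kernel)

theorem ce_h_415 : ∀ r, r < 64 → sm gh (Qf (26560 + r)) = Qf (tab Gen.h (26560 + r)) :=
  edges_tab (sm gh) Qf (tab Gen.h) 26560 [(26560, 26988), (26561, 26824), (26562, 27272), (26563, 27273), (26564, 25395), (26565, 25396), (26566, 25373), (26567, 25374), (26568, 27779), (26569, 27780), (26570, 26971), (26571, 26895), (26572, 26896), (26573, 25515), (26574, 25516), (26575, 25517), (26576, 26873), (26577, 26874), (26578, 26897), (26579, 26898), (26580, 27281), (26581, 27282), (26582, 25392), (26583, 25393), (26584, 26868), (26585, 27793), (26586, 27794), (26587, 27014), (26588, 27777), (26589, 27778), (26590, 25402), (26591, 25403), (26592, 26889), (26593, 26890), (26594, 25558), (26595, 27800), (26596, 27537), (26597, 27488), (26598, 25559), (26599, 27054), (26600, 27055), (26601, 27074), (26602, 27739), (26603, 25416), (26604, 26862), (26605, 27280), (26606, 27275), (26607, 26866), (26608, 26867), (26609, 27289), (26610, 27028), (26611, 27029), (26612, 27575),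 (26613, 27576), (26614, 27577), (26615, 27311), (26616, 27312), (26617, 27313), (26618, 25427), (26619, 25428), (26620, 25429), (26621, 27820), (26622, 27821), (26623, 27822)]
    ⟨e3 q26560 (flp_h L787834) q26988, e3 q26561 (flp_h L785687) q26824, e3 q26562 (flp_h L791016) q27272, e3 q26563 (flp_h L791026) q27273, e3 q26564 L783446 q25395, e3 q26565 L783452 q25396, e3 q26566 L783459 q25373, e3 q26567 L783465 q25374, e3 q26568 (flp_h L795624) q27779, e3 q26569 (flp_h L795630) q27780, e3 q26570 (flp_h L787616) q26971, e3 q26571 (flp_h L786673) q26895, e3 q26572 (flp_h L786687) q26896, e3 q26573 L783503 q25515, e3 q26574 L783509 q25516, e3 q26575 L783515 q25517, e3 q26576 (flp_h L786350) q26873, e3 q26577 (flp_h L786366) q26874, e3 q26578 (flp_h L786703) q26897, e3 q26579 (flp_h L786713) q26898, e3 q26580 (flp_h L791134) q27281, e3 q26581 (flp_h L791146) q27282, e3 q26582 L783551 q25392, e3 q26583 L783559 q25393, e3 q26584 (flp_h L786277) q26868, e3 q26585 (flp_h L795705) q27793, e3 q26586 (flp_h L795713) q27794, e3 q26587 (flp_h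 L788176) q27014, e3 q26588 (flp_h L795610) q27777, e3 q26589 (flp_h L795618) q27778, e3 q26590 L783597 q25402, e3 q26591 L783603 q25403, e3 q26592 (flp_h L786583) q26889, e3 q26593 (flp_h L786595) q26890, e3 q26594 L783623 q25558, e3 q26595 (flp_h L795749) q27800, e3 q26596 (flp_h L793593) q27537, e3 q26597 (flp_h L793205) q27488, e3 q26598 L783641 q25559, e3 q26599 (flp_h L788704) q27054, e3 q26600 (flp_h L788720) q27055, e3 q26601 (flp_h L788942) q27074, e3 q26602 (flp_h L795352) q27739, e3 q26603 L783674 q25416, e3 q26604 (flp_h L786187) q26862, e3 q26605 (flp_h L791122) q27280, e3 q26606 (flp_h L791050) q27275, e3 q26607 (flp_h L786247) q26866, e3 q26608 (flp_h L786261) q26867, e3 q26609 (flp_h L791218) q27289, e3 q26610 (flp_h L788352) q27028, e3 q26611 (flp_h L788368) q27029, e3 q26612 (flp_h L793956) q27575, e3 q26613 (flp_h L793968) q27576, e3 q26614 (flp_h L793984) q27577, e3 q26615 (flp_h L791451) q27311, e3 q26616 (flp_h L791465) q27312, e3 q26617 (flp_h L791482) q27313, e3 q26618 L783776 q25427, e3 q26619 L783782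 q25428, e3 q26620 L783789 q25429, e3 q26621 (flp_h L795878) q27820, e3 q26622 (flp_h L795886) q27821, e3 q26623 (flp_h L795892) q27822, trivial⟩ (by decide +kernel)

theorem ce_h_416 : ∀ r, r < 64 → sm gh (Qf (26624 + r)) = Qf (tab Gen.h (26624 + r)) :=
  edges_tab (sm gh) Qf (tab Gen.h) 26624 [(26624, 27030), (26625, 27738), (26626, 25435), (26627, 25436), (26628, 25437), (26629, 27826), (26630, 27827), (26631, 27828), (26632, 25441), (26633, 25442), (26634, 25443), (26635, 27831), (26636, 27832), (26637, 27522), (26638, 27220), (26639, 25450), (26640, 27278), (26641, 27008), (26642, 27581), (26643, 27582), (26644, 27772), (26645, 26997), (26646, 27009), (26647, 27413), (26648, 25460), (26649, 27843), (26650, 27519), (26651, 25463), (26652, 27599), (26653, 27600), (26654, 25467), (26655, 25468), (26656, 27847), (26657, 27848), (26658, 27385), (26659, 27689), (26660, 27690), (26661, 25473), (26662, 25474), (26663, 27854), (26664, 27855), (26665, 26931), (26666, 26932), (26667, 27467), (26668, 26959), (26669, 26960), (26670,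 27675), (26671, 27353), (26672, 25483), (26673, 27864), (26674, 27476), (26675, 27408), (26676, 27409), (26677, 25489), (26678, 25490), (26679, 25491), (26680, 27868), (26681, 27869), (26682, 27870), (26683, 25539), (26684, 25500), (26685, 25501), (26686, 25542), (26687, 25543)]
    ⟨e3 q26624 (flp_h L788382) q27030, e3 q26625 (flp_h L795336) q27738, e3 q26626 L783833 q25435, e3 q26627 L783843 q25436, e3 q26628 L783852 q25437, e3 q26629 (flp_h L795920) q27826, e3 q26630 (flp_h L795932) q27827, e3 q26631 (flp_h L795942) q27828, e3 q26632 L783878 q25441, e3 q26633 L783884 q25442, e3 q26634 L783888 q25443, e3 q26635 (flp_h L795966) q27831, e3 q26636 (flp_h L795972) q27832, e3 q26637 (flp_h L793471) q27522, e3 q26638 (flp_h L790502) q27220, e3 q26639 L783912 q25450, e3 q26640 (flp_h L791086) q27278, e3 q26641 (flp_h L788116) q27008, e3 q26642 (flp_h L794036) q27581, e3 q26643 (flp_h L794048) q27582, e3 q26644 (flp_h L795580) q27772, e3 q26645 (flp_h L787964) q26997, e3 q26646 (flp_h L788132) q27009, e3 q26647 (flp_h L792459) q27413,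 e3 q26648 L783966 q25460, e3 q26649 (flp_h L796030) q27843, e3 q26650 (flp_h L793437) q27519, e3 q26651 L783980 q25463, e3 q26652 (flp_h L794222) q27599, e3 q26653 (flp_h L794234) q27600, e3 q26654 L784002 q25467, e3 q26655 L784008 q25468, e3 q26656 (flp_h L796054) q27847, e3 q26657 (flp_h L796062) q27848, e3 q26658 (flp_h L792219) q27385, e3 q26659 (flp_h L794990) q27689, e3 q26660 (flp_h L795000) q27690, e3 q26661 L784038 q25473, e3 q26662 L784044 q25474, e3 q26663 (flp_h L796094) q27854, e3 q26664 (flp_h L796100) q27855, e3 q26665 (flp_h L787108) q26931, e3 q26666 (flp_h L787122) q26932, e3 q26667 (flp_h L793012) q27467, e3 q26668 (flp_h L787474) q26959, e3 q26669 (flp_h L787488) q26960, e3 q26670 (flp_h L794890) q27675, e3 q26671 (flp_h L791915) q27353, e3 q26672 L784107 q25483, e3 q26673 (flp_h L796159) q27864, e3 q26674 (flp_h L793097) q27476, e3 q26675 (flp_h L792414) q27408, e3 q26676 (flp_h L792424) q27409, e3 q26677 L784133 q25489, e3 q26678 L784139 q25490, e3 q26679 L784144 q25491, e3 q26680 (flp_h L796179) q27868,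 e3 q26681 (flp_h L796187) q27869, e3 q26682 (flp_h L796193) q27870, e3 q26683 L784174 q25539, e3 q26684 L784180 q25500, e3 q26685 L784186 q25501, e3 q26686 L784193 q25542, e3 q26687 L784199 q25543, trivial⟩ (by decide +kernel)

theorem ce_h_417 : ∀ r, r < 64 → sm gh (Qf (26688 + r)) = Qf (tab Gen.h (26688 + r)) :=
  edges_tab (sm gh) Qf (tab Gen.h) 26688 [(26688, 25502), (26689, 25503), (26690, 25546), (26691, 25504), (26692, 27381), (26693, 27382), (26694, 27876), (26695, 27877), (26696, 27878), (26697, 27881), (26698, 27882), (26699, 26930), (26700, 27651), (26701, 27247), (26702, 27248), (26703, 27504), (26704, 26764), (26705, 26765), (26706, 27786), (26707, 27787), (26708, 27899), (26709, 25557), (26710, 25555), (26711, 25556), (26712, 25525), (26713, 26891), (26714, 26892), (26715, 25537), (26716, 25535), (26717, 25538), (26718, 25536), (26719, 25534), (26720, 26763), (26721, 26766), (26722, 27415), (26723, 27416), (26724, 27907), (26725, 27905), (26726, 27906), (26727, 27904), (26728, 27914), (26729, 27874), (26730,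 27875), (26731, 25550), (26732, 25551), (26733, 25552), (26734, 27879), (26735, 27880), (26736, 25553), (26737, 25554), (26738, 27602), (26739, 27884), (26740, 27601), (26741, 27603), (26742, 27918), (26743, 27919), (26744, 27922), (26745, 27901), (26746, 27900), (26747, 27802), (26748, 26748), (26749, 26381), (26750, 26382), (26751, 26383)]
    ⟨e3 q26688 L784208 q25502, e3 q26689 L784214 q25503, e3 q26690 L784218 q25546, e3 q26691 L784224 q25504, e3 q26692 (flp_h L792190) q27381, e3 q26693 (flp_h L792198) q27382, e3 q26694 (flp_h L796240) q27876, e3 q26695 (flp_h L796248) q27877, e3 q26696 (flp_h L796253) q27878, e3 q26697 (flp_h L796275) q27881, e3 q26698 (flp_h L796281) q27882, e3 q26699 (flp_h L787094) q26930, e3 q26700 (flp_h L794689) q27651, e3 q26701 (flp_h L790734) q27247, e3 q26702 (flp_h L790748) q27248, e3 q26703 (flp_h L793323) q27504, e3 q26704 (flp_h L784844) q26764, e3 q26705 (flp_h L784860) q26765, e3 q26706 (flp_h L795665) q27786, e3 q26707 (flp_h L795671) q27787, e3 q26708 L796378 q27899, e3 q26709 L784335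 q25557, e3 q26710 L784345 q25555, e3 q26711 L784357 q25556, e3 q26712 L784367 q25525, e3 q26713 (flp_h L786611) q26891, e3 q26714 (flp_h L786625) q26892, e3 q26715 L784389 q25537, e3 q26716 L784401 q25535, e3 q26717 L784411 q25538, e3 q26718 L784421 q25536, e3 q26719 L784427 q25534, e3 q26720 (flp_h L784828) q26763, e3 q26721 (flp_h L784874) q26766, e3 q26722 (flp_h L792489) q27415, e3 q26723 (flp_h L792501) q27416, e3 q26724 (flp_h L796453) q27907, e3 q26725 (flp_h L796435) q27905, e3 q26726 (flp_h L796445) q27906, e3 q26727 (flp_h L796425) q27904, e3 q26728 L796493 q27914, e3 q26729 (flp_h L796223) q27874, e3 q26730 (flp_h L796231) q27875, e3 q26731 L784495 q25550, e3 q26732 L784503 q25551, e3 q26733 L784509 q25552, e3 q26734 (flp_h L796259) q27879, e3 q26735 (flp_h L796267) q27880, e3 q26736 L784527 q25553, e3 q26737 L784533 q25554, e3 q26738 (flp_h L794258) q27602, e3 q26739 (flp_h L796288) q27884, e3 q26740 (flp_h L794246) q27601, e3 q26741 (flp_h L794270) q27603, e3 q26742 (flp_h L796523) q27918, e3 q26743 (flp_h L796531)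 q27919, e3 q26744 (flp_h L796549) q27922, e3 q26745 (flp_h L796399) q27901, e3 q26746 (flp_h L796389) q27900, e3 q26747 (flp_h L795763) q27802, e3 q26748 L784591 q26748, e3 q26749 L784605 q26381, e3 q26750 L784621 q26382, e3 q26751 L784639 q26383, trivial⟩ (by decide +kernel)

theorem ce_h_418 : ∀ r, r < 64 → sm gh (Qf (26752 + r)) = Qf (tab Gen.h (26752 + r)) :=
  edges_tab (sm gh) Qf (tab Gen.h) 26752 [(26752, 25633), (26753, 25635), (26754, 25767), (26755, 25769), (26756, 25651), (26757, 25652), (26758, 25653), (26759, 27937), (26760, 25578), (26761, 25687), (26762, 25707), (26763, 26720), (26764, 26704), (26765, 26705), (26766, 26721), (26767, 25784), (26768, 26363), (26769, 25807), (26770, 25809), (26771, 25810), (26772, 25811), (26773, 25812), (26774, 27948), (26775, 26117), (26776, 25595), (26777, 26777), (26778, 25612), (26779, 25613), (26780, 25931), (26781, 26781), (26782, 26782), (26783, 25603), (26784, 25926), (26785, 27958), (26786, 27959), (26787, 26787), (26788, 25619), (26789, 25620), (26790, 25621), (26791,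 25690), (26792, 25609), (26793, 27970), (26794, 27971), (26795, 26795), (26796, 25990), (26797, 27951), (26798, 27952), (26799, 27953), (26800, 25642), (26801, 25616), (26802, 25617), (26803, 27983), (26804, 27984), (26805, 27985), (26806, 27966), (26807, 27967), (26808, 27968), (26809, 26809), (26810, 26810), (26811, 26811), (26812, 26812), (26813, 27995), (26814, 26343), (26815, 26455)]
    ⟨e3 q26752 L784657 q25633, e3 q26753 L784673 q25635, e3 q26754 L784691 q25767, e3 q26755 L784707 q25769, e3 q26756 L784719 q25651, e3 q26757 L784733 q25652, e3 q26758 L784745 q25653, e3 q26759 L796743 q27937, e3 q26760 (flp_h L784765) q25578, e3 q26761 L784792 q25687, e3 q26762 L784810 q25707, e3 q26763 L784828 q26720, e3 q26764 L784844 q26704, e3 q26765 L784860 q26705, e3 q26766 L784874 q26721, e3 q26767 L784890 q25784, e3 q26768 L784908 q26363, e3 q26769 L784926 q25807, e3 q26770 L784940 q25809, e3 q26771 L784956 q25810, e3 q26772 L784974 q25811, e3 q26773 L784986 q25812, e3 q26774 L796925 q27948, e3 q26775 L785018 q26117, e3 q26776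 (flp_h L785020) q25595, e3 q26777 L785048 q26777, e3 q26778 L785063 q25612, e3 q26779 L785075 q25613, e3 q26780 L785095 q25931, e3 q26781 L785106 q26781, e3 q26782 L785123 q26782, e3 q26783 L785140 q25603, e3 q26784 L785156 q25926, e3 q26785 (flp_h L797091) q27958, e3 q26786 (flp_h L797107) q27959, e3 q26787 L785190 q26787, e3 q26788 L785202 q25619, e3 q26789 L785214 q25620, e3 q26790 L785227 q25621, e3 q26791 L785245 q25690, e3 q26792 L785265 q25609, e3 q26793 (flp_h L797257) q27970, e3 q26794 (flp_h L797273) q27971, e3 q26795 L785305 q26795, e3 q26796 L785324 q25990, e3 q26797 (flp_h L796983) q27951, e3 q26798 (flp_h L796999) q27952, e3 q26799 (flp_h L797016) q27953, e3 q26800 L785376 q25642, e3 q26801 L785386 q25616, e3 q26802 L785396 q25617, e3 q26803 (flp_h L797442) q27983, e3 q26804 (flp_h L797454) q27984, e3 q26805 (flp_h L797463) q27985, e3 q26806 (flp_h L797195) q27966, e3 q26807 (flp_h L797209) q27967, e3 q26808 (flp_h L797223) q27968, e3 q26809 L785483 q26809, e3 q26810 L785498 q26810, e3 q26811 L785515 q26811,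 e3 q26812 L785528 q26812, e3 q26813 L797596 q27995, e3 q26814 L785559 q26343, e3 q26815 L785571 q26455, trivial⟩ (by decide +kernel)

theorem ce_h_419 : ∀ r, r < 64 → sm gh (Qf (26816 + r)) = Qf (tab Gen.h (26816 + r)) :=
  edges_tab (sm gh) Qf (tab Gen.h) 26816 [(26816, 26456), (26817, 26457), (26818, 26458), (26819, 26459), (26820, 25668), (26821, 25953), (26822, 25954), (26823, 27930), (26824, 26561), (26825, 27931), (26826, 25724), (26827, 25638), (26828, 25639), (26829, 28012), (26830, 28013), (26831, 25720), (26832, 25645), (26833, 25646), (26834, 27981), (26835, 27982), (26836, 25647), (26837, 25648), (26838, 25649), (26839, 28018), (26840, 28019), (26841, 28020), (26842, 28024), (26843, 28025), (26844, 28026), (26845, 28027), (26846, 27934), (26847, 27935), (26848, 28037), (26849, 26849), (26850, 26850), (26851, 26851), (26852, 25664), (26853, 25665), (26854, 26170), (26855, 28041), (26856, 25663), (26857, 25666), (26858, 26858), (26859, 26859), (26860, 26860), (26861, 26044), (26862, 26604), (26863, 26535), (26864,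 25826), (26865, 25844), (26866, 26607), (26867, 26608), (26868, 26584), (26869, 25683), (26870, 25684), (26871, 28053), (26872, 28054), (26873, 26576), (26874, 26577), (26875, 27939), (26876, 25694), (26877, 25695), (26878, 25696), (26879, 27969)]
    ⟨e3 q26816 L785585 q26456, e3 q26817 L785599 q26457, e3 q26818 L785613 q26458, e3 q26819 L785627 q26459, e3 q26820 L785639 q25668, e3 q26821 L785655 q25953, e3 q26822 L785667 q25954, e3 q26823 (flp_h L796641) q27930, e3 q26824 L785687 q26561, e3 q26825 (flp_h L796659) q27931, e3 q26826 L785715 q25724, e3 q26827 L785727 q25638, e3 q26828 L785741 q25639, e3 q26829 (flp_h L797841) q28012, e3 q26830 (flp_h L797855) q28013, e3 q26831 L785791 q25720, e3 q26832 L785803 q25645, e3 q26833 L785817 q25646, e3 q26834 (flp_h L797415) q27981, e3 q26835 (flp_h L797431) q27982, e3 q26836 L785852 q25647, e3 q26837 L785864 q25648, e3 q26838 L785878 q25649, e3 q26839 (flp_h L797934) q28018, e3 q26840 (flp_h L797948) q28019, e3 q26841 (flp_h L797959) q28020, e3 q26842 (flp_h L798009) q28024, e3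 q26843 (flp_h L798021) q28025, e3 q26844 (flp_h L798035) q28026, e3 q26845 (flp_h L798047) q28027, e3 q26846 (flp_h L796709) q27934, e3 q26847 (flp_h L796723) q27935, e3 q26848 L798159 q28037, e3 q26849 L785996 q26849, e3 q26850 L786011 q26850, e3 q26851 L786026 q26851, e3 q26852 L786044 q25664, e3 q26853 L786058 q25665, e3 q26854 L786073 q26170, e3 q26855 L798216 q28041, e3 q26856 (flp_h L786089) q25663, e3 q26857 (flp_h L786101) q25666, e3 q26858 L786127 q26858, e3 q26859 L786140 q26859, e3 q26860 L786155 q26860, e3 q26861 L786171 q26044, e3 q26862 L786187 q26604, e3 q26863 L786207 q26535, e3 q26864 L786223 q25826, e3 q26865 L786235 q25844, e3 q26866 L786247 q26607, e3 q26867 L786261 q26608, e3 q26868 L786277 q26584, e3 q26869 L786291 q25683, e3 q26870 L786307 q25684, e3 q26871 (flp_h L798412) q28053, e3 q26872 (flp_h L798428) q28054, e3 q26873 L786350 q26576, e3 q26874 L786366 q26577, e3 q26875 (flp_h L796789) q27939, e3 q26876 L786394 q25694, e3 q26877 L786410 q25695, e3 q26878 L786425 q25696, e3 q26879 (flp_h L797241)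 q27969, trivial⟩ (by decide +kernel)

theorem ce_h_420 : ∀ r, r < 64 → sm gh (Qf (26880 + r)) = Qf (tab Gen.h (26880 + r)) :=
  edges_tab (sm gh) Qf (tab Gen.h) 26880 [(26880, 25692), (26881, 25693), (26882, 28063), (26883, 28064), (26884, 28059), (26885, 28060), (26886, 28061), (26887, 25998), (26888, 25999), (26889, 26592), (26890, 26593), (26891, 26713), (26892, 26714), (26893, 25859), (26894, 25860), (26895, 26571), (26896, 26572), (26897, 26578), (26898, 26579), (26899, 26165), (26900, 26900), (26901, 25713), (26902, 26332), (26903, 28081), (26904, 28082), (26905, 26905), (26906, 25740), (26907, 25741), (26908, 25742), (26909, 25743), (26910, 26269), (26911, 26911), (26912, 28016), (26913, 28017), (26914, 26914), (26915, 26915), (26916, 25725), (26917, 25726), (26918, 28010), (26919, 28011), (26920, 28100), (26921, 28101), (26922, 28102), (26923, 26923), (26924, 25758), (26925, 25759), (26926, 25760), (26927, 26186), (26928, 26202), (26929, 26203), (26930, 26699), (26931, 26665), (26932, 26666), (26933, 25737), (26934,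 25738), (26935, 28120), (26936, 28121), (26937, 26273), (26938, 28089), (26939, 28090), (26940, 28091), (26941, 28092), (26942, 28093), (26943, 25745)]
    ⟨e3 q26880 L786453 q25692, e3 q26881 L786469 q25693, e3 q26882 (flp_h L798570) q28063, e3 q26883 (flp_h L798586) q28064, e3 q26884 (flp_h L798508) q28059, e3 q26885 (flp_h L798524) q28060, e3 q26886 (flp_h L798540) q28061, e3 q26887 L786556 q25998, e3 q26888 L786568 q25999, e3 q26889 L786583 q26592, e3 q26890 L786595 q26593, e3 q26891 L786611 q26713, e3 q26892 L786625 q26714, e3 q26893 L786641 q25859, e3 q26894 L786657 q25860, e3 q26895 L786673 q26571, e3 q26896 L786687 q26572, e3 q26897 L786703 q26578, e3 q26898 L786713 q26579, e3 q26899 L786733 q26165, e3 q26900 L786745 q26900, e3 q26901 L786762 q25713, e3 q26902 L786778 q26332, e3 q26903 (flp_h L798848) q28081, e3 q26904 (flp_h L798864) q28082, e3 q26905 L786812 q26905, e3 q26906 L786830 q25740, e3 q26907 L786840 q25741, e3 q26908 L786852 q25742, e3 q26909 L786863 q25743, e3 q26910 L786883 q26269, e3 q26911 L786895 q26911,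 e3 q26912 (flp_h L797903) q28016, e3 q26913 (flp_h L797919) q28017, e3 q26914 L786922 q26914, e3 q26915 L786929 q26915, e3 q26916 L786941 q25725, e3 q26917 L786953 q25726, e3 q26918 (flp_h L797807) q28010, e3 q26919 (flp_h L797823) q28011, e3 q26920 (flp_h L799087) q28100, e3 q26921 (flp_h L799099) q28101, e3 q26922 (flp_h L799108) q28102, e3 q26923 L787012 q26923, e3 q26924 L787023 q25758, e3 q26925 L787035 q25759, e3 q26926 L787045 q25760, e3 q26927 L787063 q26186, e3 q26928 L787071 q26202, e3 q26929 L787081 q26203, e3 q26930 L787094 q26699, e3 q26931 L787108 q26665, e3 q26932 L787122 q26666, e3 q26933 L787138 q25737, e3 q26934 L787150 q25738, e3 q26935 (flp_h L799317) q28120, e3 q26936 (flp_h L799331) q28121, e3 q26937 L787187 q26273, e3 q26938 (flp_h L798956) q28089, e3 q26939 (flp_h L798972) q28090, e3 q26940 (flp_h L798983) q28091, e3 q26941 (flp_h L798997) q28092, e3 q26942 (flp_h L799009) q28093, e3 q26943 L787259 q25745, trivial⟩ (by decide +kernel)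

theorem ce_h_421 : ∀ r, r < 64 → sm gh (Qf (26944 + r)) = Qf (tab Gen.h (26944 + r)) :=
  edges_tab (sm gh) Qf (tab Gen.h) 26944 [(26944, 25746), (26945, 28131), (26946, 28132), (26947, 25751), (26948, 25795), (26949, 25796), (26950, 25752), (26951, 25753), (26952, 25754), (26953, 28135), (26954, 28138), (26955, 28139), (26956, 28141), (26957, 26179), (26958, 26180), (26959, 26668), (26960, 26669), (26961, 28110), (26962, 28111), (26963, 28151), (26964, 26964), (26965, 28152), (26966, 25764), (26967, 25889), (26968, 25909), (26969, 25910), (26970, 27932), (26971, 26570), (26972, 27933), (26973, 26364), (26974, 25794), (26975, 26365), (26976, 26366), (26977, 25787), (26978, 26367), (26979, 26368), (26980, 26200), (26981, 25818), (26982, 25901), (26983, 25871), (26984, 25911), (26985, 25912), (26986, 25913), (26987, 26559), (26988, 26560), (26989, 26169), (26990, 25786), (26991, 28177), (26992, 28166), (26993, 26223), (26994, 26224), (26995, 25792), (26996, 25793), (26997, 26645), (26998, 28182), (26999, 28183), (27000, 28163),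 (27001, 28136), (27002, 28137), (27003, 25803), (27004, 25804), (27005, 25805), (27006, 25806), (27007, 26106)]
    ⟨e3 q26944 L787275 q25746, e3 q26945 (flp_h L799457) q28131, e3 q26946 (flp_h L799473) q28132, e3 q26947 L787320 q25751, e3 q26948 L787334 q25795, e3 q26949 L787350 q25796, e3 q26950 L787361 q25752, e3 q26951 L787369 q25753, e3 q26952 L787380 q25754, e3 q26953 (flp_h L799517) q28135, e3 q26954 (flp_h L799559) q28138, e3 q26955 (flp_h L799567) q28139, e3 q26956 (flp_h L799582) q28141, e3 q26957 L787442 q26179, e3 q26958 L787458 q26180, e3 q26959 L787474 q26668, e3 q26960 L787488 q26669, e3 q26961 (flp_h L799191) q28110, e3 q26962 (flp_h L799203) q28111, e3 q26963 L799714 q28151, e3 q26964 L787534 q26964, e3 q26965 L799724 q28152, e3 q26966 (flp_h L787552) q25764, e3 q26967 L787577 q25889, e3 q26968 L787587 q25909, e3 q26969 L787599 q25910, e3 q26970 (flp_h L796677) q27932, e3 q26971 L787616 q26570, e3 q26972 (flp_h L796695) q27933, e3 q26973 L787638 q26364, e3 q26974 L787654 q25794, e3 q26975 L787670 q26365, e3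 q26976 L787680 q26366, e3 q26977 L787692 q25787, e3 q26978 L787708 q26367, e3 q26979 L787718 q26368, e3 q26980 L787728 q26200, e3 q26981 L787742 q25818, e3 q26982 L787754 q25901, e3 q26983 L787770 q25871, e3 q26984 L787784 q25911, e3 q26985 L787796 q25912, e3 q26986 L787810 q25913, e3 q26987 L787822 q26559, e3 q26988 L787834 q26560, e3 q26989 (flp_h L787848) q26169, e3 q26990 L787860 q25786, e3 q26991 (flp_h L800059) q28177, e3 q26992 (flp_h L799917) q28166, e3 q26993 L787902 q26223, e3 q26994 L787918 q26224, e3 q26995 L787936 q25792, e3 q26996 L787948 q25793, e3 q26997 L787964 q26645, e3 q26998 (flp_h L800139) q28182, e3 q26999 (flp_h L800151) q28183, e3 q27000 (flp_h L799877) q28163, e3 q27001 (flp_h L799533) q28136, e3 q27002 (flp_h L799549) q28137, e3 q27003 L788038 q25803, e3 q27004 L788050 q25804, e3 q27005 L788064 q25805, e3 q27006 L788080 q25806, e3 q27007 L788100 q26106, trivial⟩ (by decide +kernel)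

theorem ce_h_422 : ∀ r, r < 64 → sm gh (Qf (27008 + r)) = Qf (tab Gen.h (27008 + r)) :=
  edges_tab (sm gh) Qf (tab Gen.h) 27008 [(27008, 26641), (27009, 26646), (27010, 28189), (27011, 28190), (27012, 28191), (27013, 27943), (27014, 26587), (27015, 27944), (27016, 27945), (27017, 27946), (27018, 28201), (27019, 25813), (27020, 26159), (27021, 28169), (27022, 28153), (27023, 26026), (27024, 26029), (27025, 26074), (27026, 28047), (27027, 28048), (27028, 26610), (27029, 26611), (27030, 26624), (27031, 26030), (27032, 26031), (27033, 26056), (27034, 26057), (27035, 26032), (27036, 26033), (27037, 26034), (27038, 25840), (27039, 25982), (27040, 28218), (27041, 28219), (27042, 27042), (27043, 25852), (27044, 25853), (27045, 25854), (27046, 28049), (27047, 26107), (27048, 26108), (27049, 25848), (27050, 25849), (27051, 28231), (27052, 28232), (27053, 28233), (27054, 26599), (27055, 26600), (27056, 28225), (27057, 28226), (27058, 28227), (27059, 26229), (27060, 26054), (27061, 26058), (27062, 28073), (27063, 28074), (27064, 25863),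 (27065, 25864), (27066, 28245), (27067, 28246), (27068, 26119), (27069, 26065), (27070, 26066), (27071, 26067)]
    ⟨e3 q27008 L788116 q26641, e3 q27009 L788132 q26646, e3 q27010 (flp_h L800235) q28189, e3 q27011 (flp_h L800247) q28190, e3 q27012 (flp_h L800263) q28191, e3 q27013 (flp_h L796861) q27943, e3 q27014 L788176 q26587, e3 q27015 (flp_h L796877) q27944, e3 q27016 (flp_h L796893) q27945, e3 q27017 (flp_h L796911) q27946, e3 q27018 L800377 q28201, e3 q27019 (flp_h L788208) q25813, e3 q27020 L788234 q26159, e3 q27021 (flp_h L799953) q28169, e3 q27022 (flp_h L799752) q28153, e3 q27023 L788272 q26026, e3 q27024 L788288 q26029, e3 q27025 L788306 q26074, e3 q27026 (flp_h L798321) q28047, e3 q27027 (flp_h L798337) q28048, e3 q27028 L788352 q26610, e3 q27029 L788368 q26611, e3 q27030 L788382 q26624, e3 q27031 L788400 q26030, e3 q27032 L788416 q26031, e3 q27033 L788428 q26056, e3 q27034 L788440 q26057, e3 q27035 L788456 q26032, e3 q27036 L788470 q26033, e3 q27037 L788482 q26034, e3 q27038 L788500 q25840, e3 q27039 L788516 q25982,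 e3 q27040 (flp_h L800651) q28218, e3 q27041 (flp_h L800667) q28219, e3 q27042 L788544 q27042, e3 q27043 L788558 q25852, e3 q27044 L788570 q25853, e3 q27045 L788583 q25854, e3 q27046 (flp_h L798352) q28049, e3 q27047 L788611 q26107, e3 q27048 L788627 q26108, e3 q27049 L788643 q25848, e3 q27050 L788655 q25849, e3 q27051 (flp_h L800827) q28231, e3 q27052 (flp_h L800841) q28232, e3 q27053 (flp_h L800854) q28233, e3 q27054 L788704 q26599, e3 q27055 L788720 q26600, e3 q27056 (flp_h L800739) q28225, e3 q27057 (flp_h L800753) q28226, e3 q27058 (flp_h L800767) q28227, e3 q27059 (flp_h L788766) q26229, e3 q27060 L788780 q26054, e3 q27061 L788792 q26058, e3 q27062 (flp_h L798724) q28073, e3 q27063 (flp_h L798740) q28074, e3 q27064 L788828 q25863, e3 q27065 L788842 q25864, e3 q27066 (flp_h L801014) q28245, e3 q27067 (flp_h L801028) q28246, e3 q27068 L788874 q26119, e3 q27069 L788886 q26065, e3 q27070 L788900 q26066, e3 q27071 L788910 q26067, trivial⟩ (by decide +kernel)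

theorem ce_h_423 : ∀ r, r < 64 → sm gh (Qf (27072 + r)) = Qf (tab Gen.h (27072 + r)) :=
  edges_tab (sm gh) Qf (tab Gen.h) 27072 [(27072, 26068), (27073, 28171), (27074, 26601), (27075, 26077), (27076, 25875), (27077, 28255), (27078, 25877), (27079, 25878), (27080, 28257), (27081, 28258), (27082, 26082), (27083, 25888), (27084, 25883), (27085, 26243), (27086, 28262), (27087, 28263), (27088, 27088), (27089, 25896), (27090, 25897), (27091, 25898), (27092, 26228), (27093, 28261), (27094, 28154), (27095, 28155), (27096, 25893), (27097, 25894), (27098, 26250), (27099, 28277), (27100, 28278), (27101, 28279), (27102, 28270), (27103, 28271), (27104, 28272), (27105, 28287), (27106, 26109), (27107, 28170), (27108, 26116), (27109, 26118), (27110, 26120), (27111, 26252), (27112, 26253), (27113, 26254), (27114, 28006), (27115, 28156), (27116, 28157), (27117, 28158), (27118, 28172), (27119, 28173), (27120, 28174), (27121, 26132), (27122, 26133), (27123, 28304), (27124, 28305), (27125, 25919), (27126, 27126), (27127, 25923), (27128, 26112),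 (27129, 28307), (27130, 25943), (27131, 25944), (27132, 25945), (27133, 27960), (27134, 27961), (27135, 27135)]
    ⟨e3 q27072 L788916 q26068, e3 q27073 (flp_h L799981) q28171, e3 q27074 L788942 q26601, e3 q27075 L788954 q26077, e3 q27076 L788972 q25875, e3 q27077 (flp_h L801148) q28255, e3 q27078 L788998 q25877, e3 q27079 L789012 q25878, e3 q27080 (flp_h L801178) q28257, e3 q27081 (flp_h L801192) q28258, e3 q27082 L789045 q26082, e3 q27083 L789057 q25888, e3 q27084 L789077 q25883, e3 q27085 L789093 q26243, e3 q27086 (flp_h L801246) q28262, e3 q27087 (flp_h L801262) q28263, e3 q27088 L789131 q27088, e3 q27089 L789143 q25896, e3 q27090 L789155 q25897, e3 q27091 L789168 q25898, e3 q27092 L789184 q26228, e3 q27093 (flp_h L801230) q28261, e3 q27094 (flp_h L799764) q28154, e3 q27095 (flp_h L799780) q28155, e3 q27096 L789236 q25893, e3 q27097 L789246 q25894, e3 q27098 L789261 q26250, e3 q27099 (flp_h L801454) q28277, e3 q27100 (flp_h L801466) q28278, e3 q27101 (flp_h L801477) q28279, e3 q27102 (flp_h L801358) q28270, e3 q27103 (flp_h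 L801372) q28271, e3 q27104 (flp_h L801386) q28272, e3 q27105 L801565 q28287, e3 q27106 L789345 q26109, e3 q27107 (flp_h L799965) q28170, e3 q27108 L789363 q26116, e3 q27109 L789375 q26118, e3 q27110 L789383 q26120, e3 q27111 L789391 q26252, e3 q27112 L789403 q26253, e3 q27113 L789415 q26254, e3 q27114 (flp_h L797757) q28006, e3 q27115 (flp_h L799795) q28156, e3 q27116 (flp_h L799807) q28157, e3 q27117 (flp_h L799818) q28158, e3 q27118 (flp_h L799997) q28172, e3 q27119 (flp_h L800009) q28173, e3 q27120 (flp_h L800023) q28174, e3 q27121 L789499 q26132, e3 q27122 L789507 q26133, e3 q27123 L801762 q28304, e3 q27124 L801774 q28305, e3 q27125 (flp_h L789535) q25919, e3 q27126 L789560 q27126, e3 q27127 L789575 q25923, e3 q27128 L789591 q26112, e3 q27129 (flp_h L801811) q28307, e3 q27130 L789611 q25943, e3 q27131 L789621 q25944, e3 q27132 L789632 q25945, e3 q27133 (flp_h L797122) q27960, e3 q27134 (flp_h L797138) q27961, e3 q27135 L789662 q27135, trivial⟩ (by decide +kernel)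

theorem ce_h_424 : ∀ r, r < 64 → sm gh (Qf (27136 + r)) = Qf (tab Gen.h (27136 + r)) :=
  edges_tab (sm gh) Qf (tab Gen.h) 27136 [(27136, 27136), (27137, 26163), (27138, 25932), (27139, 25933), (27140, 27954), (27141, 27955), (27142, 28321), (27143, 28322), (27144, 28323), (27145, 27145), (27146, 25960), (27147, 25961), (27148, 25962), (27149, 26516), (27150, 25969), (27151, 25941), (27152, 25942), (27153, 28338), (27154, 28339), (27155, 28311), (27156, 28312), (27157, 28313), (27158, 25947), (27159, 25948), (27160, 28344), (27161, 28345), (27162, 28346), (27163, 25993), (27164, 25994), (27165, 25955), (27166, 25956), (27167, 25957), (27168, 28004), (27169, 28005), (27170, 28353), (27171, 28354), (27172, 28356), (27173, 26460), (27174, 26461), (27175, 28332), (27176, 28333), (27177, 28365), (27178, 25963), (27179, 26230), (27180, 26231), (27181, 26232), (27182, 26094), (27183, 25972), (27184, 25973), (27185, 28336), (27186, 28337), (27187, 25974), (27188, 25975), (27189, 28371), (27190, 28372), (27191, 28375), (27192, 28376),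 (27193, 26255), (27194, 26256), (27195, 25980), (27196, 28381), (27197, 25985), (27198, 25986), (27199, 28220)]
    ⟨e3 q27136 L789669 q27136, e3 q27137 L789687 q26163, e3 q27138 L789693 q25932, e3 q27139 L789701 q25933, e3 q27140 (flp_h L797032) q27954, e3 q27141 (flp_h L797048) q27955, e3 q27142 (flp_h L801976) q28321, e3 q27143 (flp_h L801984) q28322, e3 q27144 (flp_h L801989) q28323, e3 q27145 L789748 q27145, e3 q27146 L789759 q25960, e3 q27147 L789771 q25961, e3 q27148 L789781 q25962, e3 q27149 L789793 q26516, e3 q27150 L789813 q25969, e3 q27151 L789825 q25941, e3 q27152 L789837 q25942, e3 q27153 (flp_h L802146) q28338, e3 q27154 (flp_h L802160) q28339, e3 q27155 (flp_h L801864) q28311, e3 q27156 (flp_h L801876) q28312, e3 q27157 (flp_h L801888) q28313, e3 q27158 L789892 q25947, e3 q27159 L789906 q25948, e3 q27160 (flp_h L802212) q28344, e3 q27161 (flp_h L802226) q28345, e3 q27162 (flp_h L802237) q28346, e3 q27163 L789957 q25993, e3 q27164 L789965 q25994, e3 q27165 L789974 q25955, e3 q27166 L789982 q25956, e3 q27167 L789987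 q25957, e3 q27168 (flp_h L797731) q28004, e3 q27169 (flp_h L797745) q28005, e3 q27170 (flp_h L802318) q28353, e3 q27171 (flp_h L802326) q28354, e3 q27172 (flp_h L802337) q28356, e3 q27173 L790037 q26460, e3 q27174 L790051 q26461, e3 q27175 (flp_h L802070) q28332, e3 q27176 (flp_h L802082) q28333, e3 q27177 L802413 q28365, e3 q27178 (flp_h L790075) q25963, e3 q27179 L790088 q26230, e3 q27180 L790096 q26231, e3 q27181 L790108 q26232, e3 q27182 L790124 q26094, e3 q27183 L790132 q25972, e3 q27184 L790142 q25973, e3 q27185 (flp_h L802117) q28336, e3 q27186 (flp_h L802133) q28337, e3 q27187 L790177 q25974, e3 q27188 L790187 q25975, e3 q27189 (flp_h L802491) q28371, e3 q27190 (flp_h L802501) q28372, e3 q27191 (flp_h L802535) q28375, e3 q27192 (flp_h L802545) q28376, e3 q27193 L790229 q26255, e3 q27194 L790239 q26256, e3 q27195 L790251 q25980, e3 q27196 (flp_h L802593) q28381, e3 q27197 L790275 q25985, e3 q27198 L790287 q25986, e3 q27199 (flp_h L800682) q28220, trivial⟩ (by decide +kernel)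

theorem ce_h_425 : ∀ r, r < 64 → sm gh (Qf (27200 + r)) = Qf (tab Gen.h (27200 + r)) :=
  edges_tab (sm gh) Qf (tab Gen.h) 27200 [(27200, 28221), (27201, 25987), (27202, 25988), (27203, 25989), (27204, 28383), (27205, 28384), (27206, 28385), (27207, 28389), (27208, 28390), (27209, 28391), (27210, 27976), (27211, 27977), (27212, 26000), (27213, 26001), (27214, 26002), (27215, 28350), (27216, 28351), (27217, 28352), (27218, 26003), (27219, 26004), (27220, 26638), (27221, 26005), (27222, 26006), (27223, 28069), (27224, 28070), (27225, 28400), (27226, 28401), (27227, 28419), (27228, 28403), (27229, 28409), (27230, 28411), (27231, 28413), (27232, 26294), (27233, 26296), (27234, 26297), (27235, 26299), (27236, 28425), (27237, 26012), (27238, 26014), (27239, 28366), (27240, 27240), (27241, 26017), (27242, 27242), (27243, 28084), (27244, 27244), (27245, 26140), (27246, 28204), (27247, 26701), (27248, 26702), (27249, 28205), (27250, 28212), (27251, 28213), (27252, 28216), (27253, 28217), (27254, 26045), (27255, 26046), (27256, 26047),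 (27257, 26523), (27258, 26524), (27259, 26525), (27260, 26048), (27261, 26049), (27262, 26050), (27263, 26075)]
    ⟨e3 q27200 (flp_h L800698) q28221, e3 q27201 L790320 q25987, e3 q27202 L790332 q25988, e3 q27203 L790344 q25989, e3 q27204 (flp_h L802619) q28383, e3 q27205 (flp_h L802631) q28384, e3 q27206 (flp_h L802642) q28385, e3 q27207 (flp_h L802694) q28389, e3 q27208 (flp_h L802706) q28390, e3 q27209 (flp_h L802718) q28391, e3 q27210 (flp_h L797347) q27976, e3 q27211 (flp_h L797363) q27977, e3 q27212 L790439 q26000, e3 q27213 L790445 q26001, e3 q27214 L790450 q26002, e3 q27215 (flp_h L802293) q28350, e3 q27216 (flp_h L802303) q28351, e3 q27217 (flp_h L802310) q28352, e3 q27218 L790482 q26003, e3 q27219 L790490 q26004, e3 q27220 L790502 q26638, e3 q27221 L790508 q26005, e3 q27222 L790516 q26006, e3 q27223 (flp_h L798666) q28069, e3 q27224 (flp_h L798678) q28070, e3 q27225 (flp_h L802815) q28400, e3 q27226 (flp_h L802821) q28401, e3 q27227 L802964 q28419, e3 q27228 (flp_h L802832) q28403, e3 q27229 (flp_h L802888) q28409,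 e3 q27230 (flp_h L802906) q28411, e3 q27231 (flp_h L802924) q28413, e3 q27232 L790588 q26294, e3 q27233 L790596 q26296, e3 q27234 L790606 q26297, e3 q27235 L790614 q26299, e3 q27236 L803008 q28425, e3 q27237 (flp_h L790620) q26012, e3 q27238 (flp_h L790626) q26014, e3 q27239 (flp_h L802428) q28366, e3 q27240 L790650 q27240, e3 q27241 (flp_h L790651) q26017, e3 q27242 L790677 q27242, e3 q27243 (flp_h L798895) q28084, e3 q27244 L790700 q27244, e3 q27245 L790714 q26140, e3 q27246 (flp_h L800427) q28204, e3 q27247 L790734 q26701, e3 q27248 L790748 q26702, e3 q27249 (flp_h L800445) q28205, e3 q27250 (flp_h L800559) q28212, e3 q27251 (flp_h L800575) q28213, e3 q27252 (flp_h L800621) q28216, e3 q27253 (flp_h L800635) q28217, e3 q27254 L790818 q26045, e3 q27255 L790828 q26046, e3 q27256 L790839 q26047, e3 q27257 L790847 q26523, e3 q27258 L790857 q26524, e3 q27259 L790867 q26525, e3 q27260 L790875 q26048, e3 q27261 L790883 q26049, e3 q27262 L790893 q26050, e3 q27263 L790905 q26075, trivial⟩ (by decide +kernel)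

theorem ce_h_426 : ∀ r, r < 64 → sm gh (Qf (27264 + r)) = Qf (tab Gen.h (27264 + r)) :=
  edges_tab (sm gh) Qf (tab Gen.h) 27264 [(27264, 26076), (27265, 28044), (27266, 28436), (27267, 28437), (27268, 28438), (27269, 28442), (27270, 28443), (27271, 26073), (27272, 26562), (27273, 26563), (27274, 28242), (27275, 26606), (27276, 28214), (27277, 28215), (27278, 26640), (27279, 26062), (27280, 26605), (27281, 26580), (27282, 26581), (27283, 28249), (27284, 28250), (27285, 28251), (27286, 28460), (27287, 26069), (27288, 26499), (27289, 26609), (27290, 28451), (27291, 28206), (27292, 28445), (27293, 28446), (27294, 28254), (27295, 26080), (27296, 26081), (27297, 28466), (27298, 28467), (27299, 26095), (27300, 26096), (27301, 26097), (27302, 26463), (27303, 26464), (27304, 26465), (27305, 26466), (27306, 26315), (27307, 26143), (27308, 26098), (27309, 26099), (27310, 26100), (27311, 26615), (27312, 26616), (27313, 26617), (27314, 28369), (27315, 28370), (27316, 28470), (27317, 28471), (27318, 28472), (27319, 28480), (27320, 28481),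 (27321, 28494), (27322, 27322), (27323, 27323), (27324, 28496), (27325, 26104), (27326, 26508), (27327, 26509)]
    ⟨e3 q27264 L790919 q26076, e3 q27265 (flp_h L798271) q28044, e3 q27266 (flp_h L803146) q28436, e3 q27267 (flp_h L803156) q28437, e3 q27268 (flp_h L803166) q28438, e3 q27269 (flp_h L803206) q28442, e3 q27270 (flp_h L803214) q28443, e3 q27271 L791004 q26073, e3 q27272 L791016 q26562, e3 q27273 L791026 q26563, e3 q27274 (flp_h L800976) q28242, e3 q27275 L791050 q26606, e3 q27276 (flp_h L800589) q28214, e3 q27277 (flp_h L800603) q28215, e3 q27278 L791086 q26640, e3 q27279 L791104 q26062, e3 q27280 L791122 q26605, e3 q27281 L791134 q26580, e3 q27282 L791146 q26581, e3 q27283 (flp_h L801068) q28249, e3 q27284 (flp_h L801082) q28250, e3 q27285 (flp_h L801092) q28251, e3 q27286 L803408 q28460, e3 q27287 (flp_h L791182) q26069, e3 q27288 L791206 q26499, e3 q27289 L791218 q26609, e3 q27290 (flp_h L803317) q28451, e3 q27291 (flp_h L800463) q28206, e3 q27292 (flp_h L803235) q28445, e3 q27293 (flp_h L803249) q28446, e3 q27294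 (flp_h L801134) q28254, e3 q27295 L791274 q26080, e3 q27296 L791284 q26081, e3 q27297 (flp_h L803486) q28466, e3 q27298 (flp_h L803496) q28467, e3 q27299 L791310 q26095, e3 q27300 L791322 q26096, e3 q27301 L791337 q26097, e3 q27302 L791349 q26463, e3 q27303 L791361 q26464, e3 q27304 L791372 q26465, e3 q27305 L791386 q26466, e3 q27306 L791400 q26315, e3 q27307 L791411 q26143, e3 q27308 L791421 q26098, e3 q27309 L791429 q26099, e3 q27310 L791439 q26100, e3 q27311 L791451 q26615, e3 q27312 L791465 q26616, e3 q27313 L791482 q26617, e3 q27314 (flp_h L802462) q28369, e3 q27315 (flp_h L802478) q28370, e3 q27316 (flp_h L803529) q28470, e3 q27317 (flp_h L803541) q28471, e3 q27318 (flp_h L803557) q28472, e3 q27319 (flp_h L803654) q28480, e3 q27320 (flp_h L803662) q28481, e3 q27321 L803803 q28494, e3 q27322 L791580 q27322, e3 q27323 L791587 q27323, e3 q27324 L803823 q28496, e3 q27325 (flp_h L791605) q26104, e3 q27326 L791622 q26508, e3 q27327 L791636 q26509, trivial⟩ (by decide +kernel)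

theorem ce_h_427 : ∀ r, r < 64 → sm gh (Qf (27328 + r)) = Qf (tab Gen.h (27328 + r)) :=
  edges_tab (sm gh) Qf (tab Gen.h) 27328 [(27328, 28192), (27329, 28229), (27330, 28230), (27331, 28288), (27332, 26113), (27333, 26114), (27334, 26115), (27335, 28308), (27336, 28309), (27337, 28503), (27338, 28504), (27339, 28505), (27340, 28290), (27341, 27949), (27342, 26549), (27343, 28291), (27344, 28248), (27345, 28412), (27346, 26498), (27347, 26123), (27348, 28518), (27349, 26418), (27350, 26419), (27351, 26129), (27352, 26130), (27353, 26671), (27354, 26131), (27355, 28521), (27356, 28522), (27357, 28527), (27358, 28302), (27359, 28529), (27360, 26134), (27361, 27361), (27362, 28430), (27363, 28428), (27364, 26141), (27365, 28105), (27366, 26181), (27367, 26198), (27368, 26482), (27369, 26483), (27370, 26484), (27371, 26187), (27372, 26188), (27373, 26189), (27374, 26190), (27375, 26191), (27376, 26384), (27377, 26385), (27378, 26334), (27379, 26335), (27380, 26158), (27381, 26692), (27382, 26693), (27383, 28548), (27384, 28203),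 (27385, 26658), (27386, 28556), (27387, 26322), (27388, 26323), (27389, 26166), (27390, 26167), (27391, 28320)]
    ⟨e3 q27328 (flp_h L800283) q28192, e3 q27329 (flp_h L800795) q28229, e3 q27330 (flp_h L800811) q28230, e3 q27331 (flp_h L801586) q28288, e3 q27332 L791687 q26113, e3 q27333 L791699 q26114, e3 q27334 L791712 q26115, e3 q27335 (flp_h L801827) q28308, e3 q27336 (flp_h L801843) q28309, e3 q27337 (flp_h L803909) q28503, e3 q27338 (flp_h L803923) q28504, e3 q27339 (flp_h L803937) q28505, e3 q27340 (flp_h L801608) q28290, e3 q27341 (flp_h L796951) q27949, e3 q27342 L791796 q26549, e3 q27343 (flp_h L801622) q28291, e3 q27344 (flp_h L801054) q28248, e3 q27345 (flp_h L802918) q28412, e3 q27346 L791832 q26498, e3 q27347 L791846 q26123, e3 q27348 (flp_h L804075) q28518, e3 q27349 L791872 q26418, e3 q27350 L791884 q26419, e3 q27351 L791895 q26129, e3 q27352 L791903 q26130, e3 q27353 L791915 q26671, e3 q27354 L791927 q26131, e3 q27355 (flp_h L804109) q28521, e3 q27356 (flp_h L804117) q28522, e3 q27357 L804164 q28527, e3 q27358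 (flp_h L801750) q28302, e3 q27359 L804180 q28529, e3 q27360 (flp_h L791971) q26134, e3 q27361 L791985 q27361, e3 q27362 (flp_h L803065) q28430, e3 q27363 (flp_h L803043) q28428, e3 q27364 (flp_h L792006) q26141, e3 q27365 (flp_h L799139) q28105, e3 q27366 L792027 q26181, e3 q27367 L792043 q26198, e3 q27368 L792055 q26482, e3 q27369 L792069 q26483, e3 q27370 L792078 q26484, e3 q27371 L792086 q26187, e3 q27372 L792094 q26188, e3 q27373 L792103 q26189, e3 q27374 L792111 q26190, e3 q27375 L792117 q26191, e3 q27376 L792127 q26384, e3 q27377 L792139 q26385, e3 q27378 L792155 q26334, e3 q27379 L792165 q26335, e3 q27380 L792178 q26158, e3 q27381 L792190 q26692, e3 q27382 L792198 q26693, e3 q27383 (flp_h L804385) q28548, e3 q27384 (flp_h L800409) q28203, e3 q27385 L792219 q26658, e3 q27386 (flp_h L804452) q28556, e3 q27387 L792233 q26322, e3 q27388 L792245 q26323, e3 q27389 L792259 q26166, e3 q27390 L792273 q26167, e3 q27391 (flp_h L801964) q28320, trivial⟩ (by decide +kernel)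

theorem ce_h_428 : ∀ r, r < 64 → sm gh (Qf (27392 + r)) = Qf (tab Gen.h (27392 + r)) :=
  edges_tab (sm gh) Qf (tab Gen.h) 27392 [(27392, 26168), (27393, 28078), (27394, 28079), (27395, 28558), (27396, 28559), (27397, 28038), (27398, 28561), (27399, 28176), (27400, 28009), (27401, 28040), (27402, 26204), (27403, 26205), (27404, 26206), (27405, 26207), (27406, 28578), (27407, 26258), (27408, 26675), (27409, 26676), (27410, 28145), (27411, 28146), (27412, 28532), (27413, 26647), (27414, 26442), (27415, 26722), (27416, 26723), (27417, 28113), (27418, 28114), (27419, 28537), (27420, 28538), (27421, 28427), (27422, 28539), (27423, 28540), (27424, 28596), (27425, 26193), (27426, 28597), (27427, 26272), (27428, 26199), (27429, 26277), (27430, 26201), (27431, 28533), (27432, 28599), (27433, 28168), (27434, 28115), (27435, 28116), (27436, 28573), (27437, 28574), (27438, 28608), (27439, 28576), (27440, 28611), (27441, 26208), (27442, 27442), (27443, 27443), (27444, 28615), (27445, 28475), (27446, 26215), (27447, 28618), (27448, 26217),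 (27449, 28620), (27450, 26218), (27451, 26320), (27452, 26249), (27453, 26225), (27454, 26487), (27455, 26488)]
    ⟨e3 q27392 L792301 q26168, e3 q27393 (flp_h L798804) q28078, e3 q27394 (flp_h L798820) q28079, e3 q27395 (flp_h L804478) q28558, e3 q27396 (flp_h L804492) q28559, e3 q27397 L798185 q28038, e3 q27398 (flp_h L804518) q28561, e3 q27399 L800047 q28176, e3 q27400 L797795 q28009, e3 q27401 (flp_h L798214) q28040, e3 q27402 L792363 q26204, e3 q27403 L792375 q26205, e3 q27404 L792383 q26206, e3 q27405 L792389 q26207, e3 q27406 L804632 q28578, e3 q27407 L792404 q26258, e3 q27408 L792414 q26675, e3 q27409 L792424 q26676, e3 q27410 (flp_h L799638) q28145, e3 q27411 (flp_h L799654) q28146, e3 q27412 (flp_h L804208) q28532, e3 q27413 L792459 q26647, e3 q27414 L792475 q26442, e3 q27415 L792489 q26722, e3 q27416 L792501 q26723, e3 q27417 (flp_h L799224) q28113, e3 q27418 (flp_h L799240) q28114, e3 q27419 (flp_h L804270) q28537, e3 q27420 (flp_h L804278) q28538, e3 q27421 (flp_h L803029) q28427, e3 q27422 (flp_h L804286) q28539,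 e3 q27423 (flp_h L804294) q28540, e3 q27424 L804816 q28596, e3 q27425 L792585 q26193, e3 q27426 (flp_h L804836) q28597, e3 q27427 L792607 q26272, e3 q27428 L792619 q26199, e3 q27429 L792629 q26277, e3 q27430 L792641 q26201, e3 q27431 (flp_h L804222) q28533, e3 q27432 (flp_h L804860) q28599, e3 q27433 (flp_h L799941) q28168, e3 q27434 (flp_h L799251) q28115, e3 q27435 (flp_h L799263) q28116, e3 q27436 (flp_h L804599) q28573, e3 q27437 (flp_h L804611) q28574, e3 q27438 L804956 q28608, e3 q27439 (flp_h L804626) q28576, e3 q27440 L804990 q28611, e3 q27441 (flp_h L792739) q26208, e3 q27442 L792757 q27442, e3 q27443 L792770 q27443, e3 q27444 L805032 q28615, e3 q27445 (flp_h L803592) q28475, e3 q27446 (flp_h L792793) q26215, e3 q27447 L805062 q28618, e3 q27448 (flp_h L792814) q26217, e3 q27449 L805086 q28620, e3 q27450 (flp_h L792837) q26218, e3 q27451 L792855 q26320, e3 q27452 L792865 q26249, e3 q27453 L792877 q26225, e3 q27454 L792889 q26487, e3 q27455 L792901 q26488, trivial⟩ (by decide +kernel)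

theorem ce_h_429 : ∀ r, r < 64 → sm gh (Qf (27456 + r)) = Qf (tab Gen.h (27456 + r)) :=
  edges_tab (sm gh) Qf (tab Gen.h) 27456 [(27456, 28180), (27457, 28181), (27458, 26235), (27459, 28623), (27460, 26236), (27461, 26234), (27462, 28273), (27463, 28241), (27464, 28367), (27465, 28368), (27466, 28637), (27467, 26667), (27468, 28631), (27469, 28629), (27470, 28630), (27471, 26244), (27472, 26245), (27473, 26491), (27474, 26246), (27475, 26247), (27476, 26674), (27477, 26248), (27478, 28264), (27479, 28265), (27480, 28641), (27481, 28642), (27482, 28621), (27483, 28644), (27484, 28645), (27485, 28657), (27486, 28622), (27487, 28280), (27488, 26597), (27489, 28292), (27490, 28293), (27491, 28664), (27492, 28295), (27493, 28380), (27494, 28667), (27495, 26257), (27496, 28579), (27497, 26263), (27498, 26264), (27499, 26265), (27500, 26266), (27501, 28669), (27502, 28670), (27503, 28671), (27504, 26703), (27505, 26283), (27506, 26284), (27507, 28094), (27508, 28095), (27509, 26285), (27510, 26286), (27511, 26287), (27512, 28598),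 (27513, 28124), (27514, 26288), (27515, 26289), (27516, 28692), (27517, 26291), (27518, 28600), (27519, 26650)]
    ⟨e3 q27456 (flp_h L800103) q28180, e3 q27457 (flp_h L800119) q28181, e3 q27458 L792929 q26235, e3 q27459 (flp_h L805133) q28623, e3 q27460 L792955 q26236, e3 q27461 L792971 q26234, e3 q27462 (flp_h L801402) q28273, e3 q27463 L800960 q28241, e3 q27464 (flp_h L802436) q28367, e3 q27465 (flp_h L802446) q28368, e3 q27466 L805261 q28637, e3 q27467 L793012 q26667, e3 q27468 (flp_h L805226) q28631, e3 q27469 (flp_h L805190) q28629, e3 q27470 (flp_h L805210) q28630, e3 q27471 L793046 q26244, e3 q27472 L793056 q26245, e3 q27473 L793071 q26491, e3 q27474 L793081 q26246, e3 q27475 L793089 q26247, e3 q27476 L793097 q26674, e3 q27477 L793107 q26248, e3 q27478 (flp_h L801277) q28264, e3 q27479 (flp_h L801293) q28265, e3 q27480 (flp_h L805310) q28641, e3 q27481 (flp_h L805322) q28642, e3 q27482 (flp_h L805107) q28621, e3 q27483 (flp_h L805346) q28644, e3 q27484 (flp_h L805354) q28645, e3 q27485 L805455 q28657, e3 q27486 (flp_h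 L805119) q28622, e3 q27487 (flp_h L801495) q28280, e3 q27488 L793205 q26597, e3 q27489 (flp_h L801632) q28292, e3 q27490 (flp_h L801644) q28293, e3 q27491 L805505 q28664, e3 q27492 (flp_h L801672) q28295, e3 q27493 (flp_h L802581) q28380, e3 q27494 L805527 q28667, e3 q27495 (flp_h L793241) q26257, e3 q27496 (flp_h L804649) q28579, e3 q27497 L793263 q26263, e3 q27498 L793269 q26264, e3 q27499 L793277 q26265, e3 q27500 L793289 q26266, e3 q27501 (flp_h L805549) q28669, e3 q27502 (flp_h L805559) q28670, e3 q27503 (flp_h L805567) q28671, e3 q27504 L793323 q26703, e3 q27505 L793335 q26283, e3 q27506 L793345 q26284, e3 q27507 (flp_h L799023) q28094, e3 q27508 (flp_h L799039) q28095, e3 q27509 L793369 q26285, e3 q27510 L793377 q26286, e3 q27511 L793382 q26287, e3 q27512 (flp_h L804848) q28598, e3 q27513 (flp_h L799365) q28124, e3 q27514 L793402 q26288, e3 q27515 L793408 q26289, e3 q27516 L805727 q28692, e3 q27517 L793419 q26291, e3 q27518 (flp_h L804872) q28600, e3 q27519 L793437 q26650, trivial⟩ (by decide +kernel)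

theorem ce_h_430 : ∀ r, r < 64 → sm gh (Qf (27520 + r)) = Qf (tab Gen.h (27520 + r)) :=
  edges_tab (sm gh) Qf (tab Gen.h) 27520 [(27520, 28083), (27521, 26292), (27522, 26637), (27523, 26293), (27524, 26358), (27525, 28675), (27526, 28676), (27527, 28677), (27528, 28681), (27529, 28682), (27530, 28684), (27531, 28688), (27532, 28706), (27533, 28690), (27534, 26290), (27535, 28696), (27536, 28422), (27537, 26596), (27538, 28478), (27539, 28423), (27540, 28711), (27541, 26298), (27542, 28714), (27543, 28715), (27544, 26300), (27545, 28612), (27546, 27546), (27547, 28718), (27548, 27548), (27549, 26305), (27550, 28479), (27551, 26321), (27552, 28557), (27553, 26309), (27554, 28724), (27555, 28725), (27556, 26311), (27557, 28617), (27558, 26504), (27559, 28619), (27560, 28727), (27561, 26317), (27562, 26318), (27563, 28546), (27564, 28547), (27565, 27565), (27566, 26325), (27567, 26329), (27568, 28003), (27569, 26359), (27570, 26397), (27571, 26370), (27572, 26413), (27573, 26462), (27574, 27996), (27575, 26612), (27576, 26613),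 (27577, 26614), (27578, 26353), (27579, 26354), (27580, 26355), (27581, 26642), (27582, 26643), (27583, 28733)]
    ⟨e3 q27520 (flp_h L798879) q28083, e3 q27521 L793461 q26292, e3 q27522 L793471 q26637, e3 q27523 L793479 q26293, e3 q27524 L793491 q26358, e3 q27525 (flp_h L805606) q28675, e3 q27526 (flp_h L805616) q28676, e3 q27527 (flp_h L805625) q28677, e3 q27528 (flp_h L805658) q28681, e3 q27529 (flp_h L805666) q28682, e3 q27530 (flp_h L805677) q28684, e3 q27531 (flp_h L805702) q28688, e3 q27532 L805864 q28706, e3 q27533 (flp_h L805714) q28690, e3 q27534 (flp_h L793563) q26290, e3 q27535 (flp_h L805778) q28696, e3 q27536 (flp_h L802990) q28422, e3 q27537 L793593 q26596, e3 q27538 (flp_h L803634) q28478, e3 q27539 (flp_h L803000) q28423, e3 q27540 L805912 q28711, e3 q27541 (flp_h L793621) q26298, e3 q27542 L805936 q28714, e3 q27543 L805940 q28715, e3 q27544 (flp_h L793639) q26300, e3 q27545 (flp_h L805006) q28612, e3 q27546 L793653 q27546, e3 q27547 L805960 q28718, e3 q27548 L793669 q27548, e3 q27549 (flp_h L793675) q26305,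 e3 q27550 (flp_h L803644) q28479, e3 q27551 L793704 q26321, e3 q27552 (flp_h L804466) q28557, e3 q27553 (flp_h L793714) q26309, e3 q27554 L806012 q28724, e3 q27555 L806024 q28725, e3 q27556 (flp_h L793736) q26311, e3 q27557 (flp_h L805060) q28617, e3 q27558 L793761 q26504, e3 q27559 (flp_h L805084) q28619, e3 q27560 L806042 q28727, e3 q27561 (flp_h L793783) q26317, e3 q27562 (flp_h L793795) q26318, e3 q27563 (flp_h L804355) q28546, e3 q27564 (flp_h L804369) q28547, e3 q27565 L793838 q27565, e3 q27566 (flp_h L793839) q26325, e3 q27567 (flp_h L793850) q26329, e3 q27568 (flp_h L797717) q28003, e3 q27569 L793875 q26359, e3 q27570 L793888 q26397, e3 q27571 L793904 q26370, e3 q27572 L793920 q26413, e3 q27573 L793934 q26462, e3 q27574 (flp_h L797623) q27996, e3 q27575 L793956 q26612, e3 q27576 L793968 q26613, e3 q27577 L793984 q26614, e3 q27578 L793996 q26353, e3 q27579 L794010 q26354, e3 q27580 L794024 q26355, e3 q27581 L794036 q26642, e3 q27582 L794048 q26643, e3 q27583 (flp_h L806115) q28733, trivial⟩ (by decide +kernel)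

theorem ce_h_431 : ∀ r, r < 64 → sm gh (Qf (27584 + r)) = Qf (tab Gen.h (27584 + r)) :=
  edges_tab (sm gh) Qf (tab Gen.h) 27584 [(27584, 28734), (27585, 26517), (27586, 28697), (27587, 28698), (27588, 26362), (27589, 26375), (27590, 28162), (27591, 28164), (27592, 28165), (27593, 28167), (27594, 26533), (27595, 26373), (27596, 26374), (27597, 28743), (27598, 28744), (27599, 26652), (27600, 26653), (27601, 26740), (27602, 26738), (27603, 26741), (27604, 27927), (27605, 27928), (27606, 27929), (27607, 28542), (27608, 28543), (27609, 28544), (27610, 26390), (27611, 26391), (27612, 26392), (27613, 26393), (27614, 26394), (27615, 28758), (27616, 28759), (27617, 28760), (27618, 28761), (27619, 28762), (27620, 28763), (27621, 26556), (27622, 26400), (27623, 26401), (27624, 26402), (27625, 28769), (27626, 28770), (27627, 28772), (27628, 26408), (27629, 26409), (27630, 26410), (27631, 26411), (27632, 26412), (27633, 28775), (27634, 28776), (27635, 28778), (27636, 28779), (27637, 26415), (27638, 28729), (27639, 28519), (27640, 28520),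 (27641, 28551), (27642, 26423), (27643, 26424), (27644, 28785), (27645, 28786), (27646, 26427), (27647, 26428)]
    ⟨e3 q27584 (flp_h L806129) q28734, e3 q27585 L794078 q26517, e3 q27586 (flp_h L805790) q28697, e3 q27587 (flp_h L805800) q28698, e3 q27588 L794114 q26362, e3 q27589 L794130 q26375, e3 q27590 (flp_h L799861) q28162, e3 q27591 (flp_h L799895) q28164, e3 q27592 (flp_h L799905) q28165, e3 q27593 (flp_h L799933) q28167, e3 q27594 L794180 q26533, e3 q27595 L794188 q26373, e3 q27596 L794196 q26374, e3 q27597 (flp_h L806224) q28743, e3 q27598 (flp_h L806232) q28744, e3 q27599 L794222 q26652, e3 q27600 L794234 q26653, e3 q27601 L794246 q26740, e3 q27602 L794258 q26738, e3 q27603 L794270 q26741, e3 q27604 (flp_h L796587) q27927, e3 q27605 (flp_h L796603) q27928, e3 q27606 (flp_h L796623) q27929, e3 q27607 (flp_h L804307) q28542, e3 q27608 (flp_h L804321) q28543, e3 q27609 (flp_h L804333) q28544, e3 q27610 L794322 q26390, e3 q27611 L794332 q26391, e3 q27612 L794343 q26392, e3 q27613 L794355 q26393, e3 q27614 L794367 q26394,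 e3 q27615 (flp_h L806360) q28758, e3 q27616 (flp_h L806370) q28759, e3 q27617 (flp_h L806380) q28760, e3 q27618 (flp_h L806392) q28761, e3 q27619 (flp_h L806406) q28762, e3 q27620 (flp_h L806414) q28763, e3 q27621 L794433 q26556, e3 q27622 L794443 q26400, e3 q27623 L794453 q26401, e3 q27624 L794461 q26402, e3 q27625 (flp_h L806472) q28769, e3 q27626 (flp_h L806482) q28770, e3 q27627 (flp_h L806494) q28772, e3 q27628 L794495 q26408, e3 q27629 L794505 q26409, e3 q27630 L794513 q26410, e3 q27631 L794523 q26411, e3 q27632 L794531 q26412, e3 q27633 (flp_h L806524) q28775, e3 q27634 (flp_h L806534) q28776, e3 q27635 (flp_h L806555) q28778, e3 q27636 (flp_h L806561) q28779, e3 q27637 L794568 q26415, e3 q27638 (flp_h L806068) q28729, e3 q27639 (flp_h L804085) q28519, e3 q27640 (flp_h L804099) q28520, e3 q27641 (flp_h L804416) q28551, e3 q27642 L794616 q26423, e3 q27643 L794624 q26424, e3 q27644 (flp_h L806623) q28785, e3 q27645 (flp_h L806631) q28786, e3 q27646 L794648 q26427, e3 q27647 L794656 q26428, trivial⟩ (by decide +kernel)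

theorem ce_h_432 : ∀ r, r < 64 → sm gh (Qf (27648 + r)) = Qf (tab Gen.h (27648 + r)) :=
  edges_tab (sm gh) Qf (tab Gen.h) 27648 [(27648, 28789), (27649, 28790), (27650, 28791), (27651, 26700), (27652, 26432), (27653, 26433), (27654, 28795), (27655, 28796), (27656, 26470), (27657, 26471), (27658, 26437), (27659, 26438), (27660, 28801), (27661, 28802), (27662, 26443), (27663, 26444), (27664, 28586), (27665, 28805), (27666, 28806), (27667, 26450), (27668, 26502), (27669, 26503), (27670, 26451), (27671, 26452), (27672, 28691), (27673, 28810), (27674, 28814), (27675, 26670), (27676, 27997), (27677, 27998), (27678, 27999), (27679, 28000), (27680, 28001), (27681, 28002), (27682, 28361), (27683, 28362), (27684, 28824), (27685, 28473), (27686, 28474), (27687, 28476), (27688, 28477), (27689, 26659), (27690, 26660), (27691, 26475), (27692, 26476), (27693, 28799), (27694, 28800), (27695, 28719), (27696, 26477), (27697, 26478), (27698, 26479), (27699, 26480), (27700, 28830), (27701, 28831), (27702, 28837), (27703, 28838), (27704, 28839),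 (27705, 28534), (27706, 28535), (27707, 28536), (27708, 26492), (27709, 26493), (27710, 28624), (27711, 28625)]
    ⟨e3 q27648 (flp_h L806654) q28789, e3 q27649 (flp_h L806662) q28790, e3 q27650 (flp_h L806667) q28791, e3 q27651 L794689 q26700, e3 q27652 L794699 q26432, e3 q27653 L794707 q26433, e3 q27654 (flp_h L806701) q28795, e3 q27655 (flp_h L806711) q28796, e3 q27656 L794738 q26470, e3 q27657 L794748 q26471, e3 q27658 L794761 q26437, e3 q27659 L794769 q26438, e3 q27660 (flp_h L806767) q28801, e3 q27661 (flp_h L806775) q28802, e3 q27662 L794791 q26443, e3 q27663 L794799 q26444, e3 q27664 (flp_h L804724) q28586, e3 q27665 (flp_h L806796) q28805, e3 q27666 (flp_h L806804) q28806, e3 q27667 L794839 q26450, e3 q27668 L794843 q26502, e3 q27669 L794851 q26503, e3 q27670 L794857 q26451, e3 q27671 L794863 q26452, e3 q27672 L805725 q28691, e3 q27673 (flp_h L806841) q28810, e3 q27674 (flp_h L806866) q28814, e3 q27675 L794890 q26670, e3 q27676 (flp_h L797635) q27997, e3 q27677 (flp_h L797649) q27998, e3 q27678 (flp_h L797663) q27999,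 e3 q27679 (flp_h L797679) q28000, e3 q27680 (flp_h L797693) q28001, e3 q27681 (flp_h L797707) q28002, e3 q27682 (flp_h L802381) q28361, e3 q27683 (flp_h L802395) q28362, e3 q27684 L806917 q28824, e3 q27685 (flp_h L803569) q28473, e3 q27686 (flp_h L803581) q28474, e3 q27687 (flp_h L803606) q28476, e3 q27688 (flp_h L803620) q28477, e3 q27689 L794990 q26659, e3 q27690 L795000 q26660, e3 q27691 L795013 q26475, e3 q27692 L795021 q26476, e3 q27693 (flp_h L806745) q28799, e3 q27694 (flp_h L806755) q28800, e3 q27695 (flp_h L805976) q28719, e3 q27696 L795049 q26477, e3 q27697 L795057 q26478, e3 q27698 L795065 q26479, e3 q27699 L795071 q26480, e3 q27700 (flp_h L806982) q28830, e3 q27701 (flp_h L806990) q28831, e3 q27702 (flp_h L807033) q28837, e3 q27703 (flp_h L807041) q28838, e3 q27704 (flp_h L807047) q28839, e3 q27705 (flp_h L804236) q28534, e3 q27706 (flp_h L804250) q28535, e3 q27707 (flp_h L804258) q28536, e3 q27708 L795139 q26492, e3 q27709 L795147 q26493, e3 q27710 (flp_h L805145) q28624, e3 q27711 (flp_h L805157) q28625, trivial⟩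 (by decide +kernel)

theorem ce_h_433 : ∀ r, r < 64 → sm gh (Qf (27712 + r)) = Qf (tab Gen.h (27712 + r)) :=
  edges_tab (sm gh) Qf (tab Gen.h) 27712 [(27712, 26494), (27713, 26495), (27714, 28643), (27715, 28845), (27716, 28846), (27717, 28850), (27718, 26510), (27719, 26511), (27720, 28517), (27721, 28461), (27722, 26512), (27723, 26513), (27724, 28444), (27725, 28811), (27726, 28812), (27727, 28707), (27728, 26514), (27729, 26515), (27730, 28497), (27731, 28498), (27732, 28853), (27733, 28854), (27734, 28859), (27735, 28863), (27736, 28335), (27737, 27737), (27738, 26625), (27739, 26602), (27740, 28439), (27741, 28440), (27742, 28441), (27743, 26538), (27744, 26539), (27745, 26530), (27746, 26531), (27747, 26532), (27748, 28872), (27749, 28873), (27750, 28875), (27751, 28046), (27752, 27950), (27753, 26543), (27754, 26544), (27755, 26545), (27756, 28869), (27757, 28870), (27758, 28871), (27759, 26546), (27760, 26547), (27761, 26548), (27762, 28881), (27763, 28882), (27764, 28884), (27765, 28888), (27766, 28889), (27767,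 28514), (27768, 26554), (27769, 26555), (27770, 28894), (27771, 28895), (27772, 26644), (27773, 28175), (27774, 28008), (27775, 28452)]
    ⟨e3 q27712 L795165 q26494, e3 q27713 L795173 q26495, e3 q27714 (flp_h L805334) q28643, e3 q27715 (flp_h L807097) q28845, e3 q27716 (flp_h L807105) q28846, e3 q27717 (flp_h L807130) q28850, e3 q27718 L795215 q26510, e3 q27719 L795225 q26511, e3 q27720 (flp_h L804059) q28517, e3 q27721 (flp_h L803432) q28461, e3 q27722 L795243 q26512, e3 q27723 L795249 q26513, e3 q27724 (flp_h L803225) q28444, e3 q27725 (flp_h L806845) q28811, e3 q27726 (flp_h L806853) q28812, e3 q27727 (flp_h L805880) q28707, e3 q27728 L795274 q26514, e3 q27729 L795280 q26515, e3 q27730 (flp_h L803842) q28497, e3 q27731 (flp_h L803856) q28498, e3 q27732 (flp_h L807160) q28853, e3 q27733 (flp_h L807170) q28854, e3 q27734 (flp_h L807202) q28859, e3 q27735 (flp_h L807224) q28863, e3 q27736 (flp_h L802103) q28335, e3 q27737 L795323 q27737, e3 q27738 L795336 q26625, e3 q27739 L795352 q26602, e3 q27740 (flp_h L803176) q28439,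 e3 q27741 (flp_h L803186) q28440, e3 q27742 (flp_h L803198) q28441, e3 q27743 L795382 q26538, e3 q27744 L795390 q26539, e3 q27745 L795397 q26530, e3 q27746 L795403 q26531, e3 q27747 L795408 q26532, e3 q27748 (flp_h L807285) q28872, e3 q27749 (flp_h L807291) q28873, e3 q27750 (flp_h L807302) q28875, e3 q27751 (flp_h L798305) q28046, e3 q27752 (flp_h L796971) q27950, e3 q27753 L795455 q26543, e3 q27754 L795461 q26544, e3 q27755 L795466 q26545, e3 q27756 (flp_h L807262) q28869, e3 q27757 (flp_h L807272) q28870, e3 q27758 (flp_h L807279) q28871, e3 q27759 L795496 q26546, e3 q27760 L795502 q26547, e3 q27761 L795508 q26548, e3 q27762 (flp_h L807351) q28881, e3 q27763 (flp_h L807357) q28882, e3 q27764 (flp_h L807372) q28884, e3 q27765 (flp_h L807402) q28888, e3 q27766 (flp_h L807408) q28889, e3 q27767 (flp_h L804029) q28514, e3 q27768 L795550 q26554, e3 q27769 L795560 q26555, e3 q27770 (flp_h L807438) q28894, e3 q27771 (flp_h L807448) q28895, e3 q27772 L795580 q26644, e3 q27773 (flp_h L800035) q28175, e3 q27774 (flp_h L797781) q28008,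 e3 q27775 (flp_h L803331) q28452, trivial⟩ (by decide +kernel)

theorem ce_h_434 : ∀ r, r < 64 → sm gh (Qf (27776 + r)) = Qf (tab Gen.h (27776 + r)) :=
  edges_tab (sm gh) Qf (tab Gen.h) 27776 [(27776, 28453), (27777, 26588), (27778, 26589), (27779, 26568), (27780, 26569), (27781, 28874), (27782, 28903), (27783, 28160), (27784, 28075), (27785, 28076), (27786, 26706), (27787, 26707), (27788, 28057), (27789, 28058), (27790, 28077), (27791, 28456), (27792, 28457), (27793, 26585), (27794, 26586), (27795, 28052), (27796, 28910), (27797, 28197), (27798, 28900), (27799, 28901), (27800, 26595), (27801, 28071), (27802, 26747), (27803, 28708), (27804, 28659), (27805, 28237), (27806, 28238), (27807, 28253), (27808, 28045), (27809, 28050), (27810, 28051), (27811, 28462), (27812, 28209), (27813, 28210), (27814, 28731), (27815, 28732), (27816, 28502), (27817, 28483), (27818, 28484), (27819, 28485), (27820, 26621), (27821, 26622), (27822, 26623), (27823, 28926), (27824, 28927), (27825, 28211), (27826, 26629), (27827, 26630), (27828, 26631),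 (27829, 28930), (27830, 28931), (27831, 26635), (27832, 26636), (27833, 28777), (27834, 28934), (27835, 28695), (27836, 28410), (27837, 28193), (27838, 28736), (27839, 28737)]
    ⟨e3 q27776 (flp_h L803341) q28453, e3 q27777 L795610 q26588, e3 q27778 L795618 q26589, e3 q27779 L795624 q26568, e3 q27780 L795630 q26569, e3 q27781 (flp_h L807296) q28874, e3 q27782 (flp_h L807502) q28903, e3 q27783 (flp_h L799840) q28160, e3 q27784 (flp_h L798758) q28075, e3 q27785 (flp_h L798772) q28076, e3 q27786 L795665 q26706, e3 q27787 L795671 q26707, e3 q27788 (flp_h L798474) q28057, e3 q27789 (flp_h L798490) q28058, e3 q27790 (flp_h L798788) q28077, e3 q27791 (flp_h L803374) q28456, e3 q27792 (flp_h L803386) q28457, e3 q27793 L795705 q26585, e3 q27794 L795713 q26586, e3 q27795 (flp_h L798398) q28052, e3 q27796 (flp_h L807548) q28910, e3 q27797 (flp_h L800345) q28197, e3 q27798 (flp_h L807481) q28900, e3 q27799 (flp_h L807489) q28901, e3 q27800 L795749 q26595, e3 q27801 (flp_h L798692) q28071, e3 q27802 L795763 q26747, e3 q27803 (flp_h L805888)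 q28708, e3 q27804 (flp_h L805479) q28659, e3 q27805 (flp_h L800906) q28237, e3 q27806 (flp_h L800922) q28238, e3 q27807 (flp_h L801120) q28253, e3 q27808 (flp_h L798289) q28045, e3 q27809 (flp_h L798366) q28050, e3 q27810 (flp_h L798380) q28051, e3 q27811 (flp_h L803446) q28462, e3 q27812 (flp_h L800509) q28209, e3 q27813 (flp_h L800525) q28210, e3 q27814 (flp_h L806085) q28731, e3 q27815 (flp_h L806097) q28732, e3 q27816 (flp_h L803901) q28502, e3 q27817 (flp_h L803681) q28483, e3 q27818 (flp_h L803695) q28484, e3 q27819 (flp_h L803713) q28485, e3 q27820 L795878 q26621, e3 q27821 L795886 q26622, e3 q27822 L795892 q26623, e3 q27823 (flp_h L807658) q28926, e3 q27824 (flp_h L807666) q28927, e3 q27825 (flp_h L800541) q28211, e3 q27826 L795920 q26629, e3 q27827 L795932 q26630, e3 q27828 L795942 q26631, e3 q27829 (flp_h L807685) q28930, e3 q27830 (flp_h L807697) q28931, e3 q27831 L795966 q26635, e3 q27832 L795972 q26636, e3 q27833 (flp_h L806545) q28777, e3 q27834 (flp_h L807718) q28934, e3 q27835 (flp_h L805768) q28695, e3 q27836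 (flp_h L802900) q28410, e3 q27837 (flp_h L800301) q28193, e3 q27838 (flp_h L806154) q28736, e3 q27839 (flp_h L806166) q28737, trivial⟩ (by decide +kernel)

theorem ce_h_435 : ∀ r, r < 64 → sm gh (Qf (27840 + r)) = Qf (tab Gen.h (27840 + r)) :=
  edges_tab (sm gh) Qf (tab Gen.h) 27840 [(27840, 28454), (27841, 28184), (27842, 28585), (27843, 26649), (27844, 28693), (27845, 28747), (27846, 28748), (27847, 26656), (27848, 26657), (27849, 28941), (27850, 28942), (27851, 28555), (27852, 28828), (27853, 28829), (27854, 26663), (27855, 26664), (27856, 28947), (27857, 28118), (27858, 28119), (27859, 28638), (27860, 28147), (27861, 28148), (27862, 28672), (27863, 28524), (27864, 26673), (27865, 28647), (27866, 28580), (27867, 28581), (27868, 26680), (27869, 26681), (27870, 26682), (27871, 28955), (27872, 28956), (27873, 28960), (27874, 26729), (27875, 26730), (27876, 26694), (27877, 26695), (27878, 26696), (27879, 26734), (27880, 26735), (27881, 26697), (27882, 26698), (27883, 28745), (27884, 26739), (27885, 28549), (27886, 28550),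 (27887, 28964), (27888, 28965), (27889, 28970), (27890, 28117), (27891, 28432), (27892, 28433), (27893, 28468), (27894, 27941), (27895, 27942), (27896, 28883), (27897, 28907), (27898, 28981), (27899, 26708), (27900, 26746), (27901, 26745), (27902, 28751), (27903, 28072)]
    ⟨e3 q27840 (flp_h L803354) q28454, e3 q27841 (flp_h L800169) q28184, e3 q27842 (flp_h L804708) q28585, e3 q27843 L796030 q26649, e3 q27844 (flp_h L805744) q28693, e3 q27845 (flp_h L806257) q28747, e3 q27846 (flp_h L806271) q28748, e3 q27847 L796054 q26656, e3 q27848 L796062 q26657, e3 q27849 (flp_h L807760) q28941, e3 q27850 (flp_h L807768) q28942, e3 q27851 (flp_h L804444) q28555, e3 q27852 (flp_h L806960) q28828, e3 q27853 (flp_h L806970) q28829, e3 q27854 L796094 q26663, e3 q27855 L796100 q26664, e3 q27856 (flp_h L807796) q28947, e3 q27857 (flp_h L799289) q28118, e3 q27858 (flp_h L799303) q28119, e3 q27859 (flp_h L805280) q28638, e3 q27860 (flp_h L799672) q28147, e3 q27861 (flp_h L799686) q28148, e3 q27862 (flp_h L805576) q28672, e3 q27863 (flp_h L804138)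 q28524, e3 q27864 L796159 q26673, e3 q27865 (flp_h L805369) q28647, e3 q27866 (flp_h L804663) q28580, e3 q27867 (flp_h L804673) q28581, e3 q27868 L796179 q26680, e3 q27869 L796187 q26681, e3 q27870 L796193 q26682, e3 q27871 (flp_h L807845) q28955, e3 q27872 (flp_h L807853) q28956, e3 q27873 L807874 q28960, e3 q27874 L796223 q26729, e3 q27875 L796231 q26730, e3 q27876 L796240 q26694, e3 q27877 L796248 q26695, e3 q27878 L796253 q26696, e3 q27879 L796259 q26734, e3 q27880 L796267 q26735, e3 q27881 L796275 q26697, e3 q27882 L796281 q26698, e3 q27883 (flp_h L806239) q28745, e3 q27884 L796288 q26739, e3 q27885 (flp_h L804397) q28549, e3 q27886 (flp_h L804407) q28550, e3 q27887 (flp_h L807909) q28964, e3 q27888 (flp_h L807917) q28965, e3 q27889 (flp_h L807949) q28970, e3 q27890 (flp_h L799277) q28117, e3 q27891 (flp_h L803092) q28432, e3 q27892 (flp_h L803106) q28433, e3 q27893 (flp_h L803513) q28468, e3 q27894 (flp_h L796827) q27941, e3 q27895 (flp_h L796843) q27942, e3 q27896 (flp_h L807366) q28883, e3 q27897 (flp_h L807526) q28907,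 e3 q27898 L808010 q28981, e3 q27899 (flp_h L796378) q26708, e3 q27900 L796389 q26746, e3 q27901 L796399 q26745, e3 q27902 (flp_h L806307) q28751, e3 q27903 (flp_h L798708) q28072, trivial⟩ (by decide +kernel)

theorem ce_h_436 : ∀ r, r < 64 → sm gh (Qf (27904 + r)) = Qf (tab Gen.h (27904 + r)) :=
  edges_tab (sm gh) Qf (tab Gen.h) 27904 [(27904, 26727), (27905, 26725), (27906, 26726), (27907, 26724), (27908, 27940), (27909, 28587), (27910, 28986), (27911, 28985), (27912, 28984), (27913, 28989), (27914, 26728), (27915, 28961), (27916, 28962), (27917, 28963), (27918, 26742), (27919, 26743), (27920, 28967), (27921, 28968), (27922, 26744), (27923, 28750), (27924, 28749), (27925, 28993), (27926, 28982), (27927, 27604), (27928, 27605), (27929, 27606), (27930, 26823), (27931, 26825), (27932, 26970), (27933, 26972), (27934, 26846), (27935, 26847), (27936, 29002), (27937, 26759), (27938, 27938), (27939, 26875), (27940, 27908), (27941, 27894), (27942, 27895), (27943, 27013), (27944, 27015), (27945, 27016), (27946, 27017), (27947, 29009),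 (27948, 26774), (27949, 27341), (27950, 27752), (27951, 26797), (27952, 26798), (27953, 26799), (27954, 27140), (27955, 27141), (27956, 27956), (27957, 27957), (27958, 26785), (27959, 26786), (27960, 27133), (27961, 27134), (27962, 29020), (27963, 29021), (27964, 29022), (27965, 27965), (27966, 26806), (27967, 26807)]
    ⟨e3 q27904 L796425 q26727, e3 q27905 L796435 q26725, e3 q27906 L796445 q26726, e3 q27907 L796453 q26724, e3 q27908 (flp_h L796809) q27940, e3 q27909 (flp_h L804738) q28587, e3 q27910 (flp_h L808062) q28986, e3 q27911 (flp_h L808054) q28985, e3 q27912 (flp_h L808042) q28984, e3 q27913 L808078 q28989, e3 q27914 (flp_h L796493) q26728, e3 q27915 (flp_h L807884) q28961, e3 q27916 (flp_h L807894) q28962, e3 q27917 (flp_h L807901) q28963, e3 q27918 L796523 q26742, e3 q27919 L796531 q26743, e3 q27920 (flp_h L807928) q28967, e3 q27921 (flp_h L807936) q28968, e3 q27922 L796549 q26744, e3 q27923 (flp_h L806293) q28750, e3 q27924 (flp_h L806281) q28749, e3 q27925 (flp_h L808110) q28993, e3 q27926 (flp_h L808022) q28982,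 e3 q27927 L796587 q27604, e3 q27928 L796603 q27605, e3 q27929 L796623 q27606, e3 q27930 L796641 q26823, e3 q27931 L796659 q26825, e3 q27932 L796677 q26970, e3 q27933 L796695 q26972, e3 q27934 L796709 q26846, e3 q27935 L796723 q26847, e3 q27936 L808234 q29002, e3 q27937 (flp_h L796743) q26759, e3 q27938 L796774 q27938, e3 q27939 L796789 q26875, e3 q27940 L796809 q27908, e3 q27941 L796827 q27894, e3 q27942 L796843 q27895, e3 q27943 L796861 q27013, e3 q27944 L796877 q27015, e3 q27945 L796893 q27016, e3 q27946 L796911 q27017, e3 q27947 L808358 q29009, e3 q27948 (flp_h L796925) q26774, e3 q27949 L796951 q27341, e3 q27950 L796971 q27752, e3 q27951 L796983 q26797, e3 q27952 L796999 q26798, e3 q27953 L797016 q26799, e3 q27954 L797032 q27140, e3 q27955 L797048 q27141, e3 q27956 L797066 q27956, e3 q27957 L797077 q27957, e3 q27958 L797091 q26785, e3 q27959 L797107 q26786, e3 q27960 L797122 q27133, e3 q27961 L797138 q27134, e3 q27962 (flp_h L808542) q29020, e3 q27963 (flp_h L808558) q29021, e3 q27964 (flp_h L808571) q29022, e3 q27965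 L797184 q27965, e3 q27966 L797195 q26806, e3 q27967 L797209 q26807, trivial⟩ (by decide +kernel)

theorem ce_h_437 : ∀ r, r < 64 → sm gh (Qf (27968 + r)) = Qf (tab Gen.h (27968 + r)) :=
  edges_tab (sm gh) Qf (tab Gen.h) 27968 [(27968, 26808), (27969, 26879), (27970, 26793), (27971, 26794), (27972, 29034), (27973, 29035), (27974, 29036), (27975, 27975), (27976, 27210), (27977, 27211), (27978, 29011), (27979, 29012), (27980, 29013), (27981, 26834), (27982, 26835), (27983, 26803), (27984, 26804), (27985, 26805), (27986, 29050), (27987, 29051), (27988, 29053), (27989, 29030), (27990, 29031), (27991, 29058), (27992, 27992), (27993, 27993), (27994, 29060), (27995, 26813), (27996, 27574), (27997, 27676), (27998, 27677), (27999, 27678), (28000, 27679), (28001, 27680), (28002, 27681), (28003, 27568), (28004, 27168), (28005, 27169), (28006, 27114), (28007, 28998), (28008, 27774), (28009, 27400), (28010, 26918), (28011, 26919), (28012, 26829), (28013, 26830), (28014, 29078), (28015, 29079), (28016, 26912), (28017, 26913), (28018, 26839),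 (28019, 26840), (28020, 26841), (28021, 29047), (28022, 29048), (28023, 29049), (28024, 26842), (28025, 26843), (28026, 26844), (28027, 26845), (28028, 29084), (28029, 29085), (28030, 29098), (28031, 29087)]
    ⟨e3 q27968 L797223 q26808, e3 q27969 L797241 q26879, e3 q27970 L797257 q26793, e3 q27971 L797273 q26794, e3 q27972 (flp_h L808737) q29034, e3 q27973 (flp_h L808753) q29035, e3 q27974 (flp_h L808766) q29036, e3 q27975 L797330 q27975, e3 q27976 L797347 q27210, e3 q27977 L797363 q27211, e3 q27978 (flp_h L808398) q29011, e3 q27979 (flp_h L808414) q29012, e3 q27980 (flp_h L808432) q29013, e3 q27981 L797415 q26834, e3 q27982 L797431 q26835, e3 q27983 L797442 q26803, e3 q27984 L797454 q26804, e3 q27985 L797463 q26805, e3 q27986 (flp_h L808975) q29050, e3 q27987 (flp_h L808987) q29051, e3 q27988 (flp_h L809004) q29053, e3 q27989 (flp_h L808676) q29030, e3 q27990 (flp_h L808690) q29031, e3 q27991 L809066 q29058, e3 q27992 L797561 q27992, e3 q27993 L797576 q27993, e3 q27994 L809094 q29060, e3 q27995 (flp_h L797596) q26813, e3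 q27996 L797623 q27574, e3 q27997 L797635 q27676, e3 q27998 L797649 q27677, e3 q27999 L797663 q27678, e3 q28000 L797679 q27679, e3 q28001 L797693 q27680, e3 q28002 L797707 q27681, e3 q28003 L797717 q27568, e3 q28004 L797731 q27168, e3 q28005 L797745 q27169, e3 q28006 L797757 q27114, e3 q28007 (flp_h L808176) q28998, e3 q28008 L797781 q27774, e3 q28009 (flp_h L797795) q27400, e3 q28010 L797807 q26918, e3 q28011 L797823 q26919, e3 q28012 L797841 q26829, e3 q28013 L797855 q26830, e3 q28014 (flp_h L809372) q29078, e3 q28015 (flp_h L809386) q29079, e3 q28016 L797903 q26912, e3 q28017 L797919 q26913, e3 q28018 L797934 q26839, e3 q28019 L797948 q26840, e3 q28020 L797959 q26841, e3 q28021 (flp_h L808930) q29047, e3 q28022 (flp_h L808946) q29048, e3 q28023 (flp_h L808959) q29049, e3 q28024 L798009 q26842, e3 q28025 L798021 q26843, e3 q28026 L798035 q26844, e3 q28027 L798047 q26845, e3 q28028 (flp_h L809469) q29084, e3 q28029 (flp_h L809483) q29085, e3 q28030 L809646 q29098, e3 q28031 (flp_h L809504) q29087, trivial⟩ (by decide +kernel)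

theorem ce_h_438 : ∀ r, r < 64 → sm gh (Qf (28032 + r)) = Qf (tab Gen.h (28032 + r)) :=
  edges_tab (sm gh) Qf (tab Gen.h) 28032 [(28032, 29092), (28033, 29093), (28034, 29094), (28035, 29000), (28036, 29102), (28037, 26848), (28038, 27397), (28039, 28039), (28040, 27401), (28041, 26855), (28042, 29061), (28043, 28043), (28044, 27265), (28045, 27808), (28046, 27751), (28047, 27026), (28048, 27027), (28049, 27046), (28050, 27809), (28051, 27810), (28052, 27795), (28053, 26871), (28054, 26872), (28055, 29112), (28056, 29113), (28057, 27788), (28058, 27789), (28059, 26884), (28060, 26885), (28061, 26886), (28062, 29033), (28063, 26882), (28064, 26883), (28065, 29120), (28066, 29121), (28067, 29117), (28068, 29118), (28069, 27223), (28070, 27224), (28071, 27801), (28072, 27903), (28073, 27062), (28074, 27063), (28075, 27784), (28076, 27785), (28077, 27790), (28078, 27393), (28079, 27394), (28080, 28080), (28081, 26903), (28082, 26904), (28083, 27520), (28084, 27243), (28085, 29134), (28086, 29135), (28087, 29136), (28088, 28088),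 (28089, 26938), (28090, 26939), (28091, 26940), (28092, 26941), (28093, 26942), (28094, 27507), (28095, 27508)]
    ⟨e3 q28032 (flp_h L809574) q29092, e3 q28033 (flp_h L809588) q29093, e3 q28034 (flp_h L809600) q29094, e3 q28035 (flp_h L808214) q29000, e3 q28036 L809696 q29102, e3 q28037 (flp_h L798159) q26848, e3 q28038 (flp_h L798185) q27397, e3 q28039 L798197 q28039, e3 q28040 L798214 q27401, e3 q28041 (flp_h L798216) q26855, e3 q28042 (flp_h L809124) q29061, e3 q28043 L798258 q28043, e3 q28044 L798271 q27265, e3 q28045 L798289 q27808, e3 q28046 L798305 q27751, e3 q28047 L798321 q27026, e3 q28048 L798337 q27027, e3 q28049 L798352 q27046, e3 q28050 L798366 q27809, e3 q28051 L798380 q27810, e3 q28052 L798398 q27795, e3 q28053 L798412 q26871, e3 q28054 L798428 q26872, e3 q28055 (flp_h L809863) q29112, e3 q28056 (flp_h L809879) q29113, e3 q28057 L798474 q27788, e3 q28058 L798490 q27789, e3 q28059 L798508 q26884, e3 q28060 L798524 q26885, e3 q28061 L798540 q26886, e3 q28062 (flp_h L808721) q29033, e3 q28063 L798570 q26882, e3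 q28064 L798586 q26883, e3 q28065 (flp_h L810001) q29120, e3 q28066 (flp_h L810017) q29121, e3 q28067 (flp_h L809950) q29117, e3 q28068 (flp_h L809966) q29118, e3 q28069 L798666 q27223, e3 q28070 L798678 q27224, e3 q28071 L798692 q27801, e3 q28072 L798708 q27903, e3 q28073 L798724 q27062, e3 q28074 L798740 q27063, e3 q28075 L798758 q27784, e3 q28076 L798772 q27785, e3 q28077 L798788 q27790, e3 q28078 L798804 q27393, e3 q28079 L798820 q27394, e3 q28080 L798834 q28080, e3 q28081 L798848 q26903, e3 q28082 L798864 q26904, e3 q28083 L798879 q27520, e3 q28084 L798895 q27243, e3 q28085 (flp_h L810225) q29134, e3 q28086 (flp_h L810241) q29135, e3 q28087 (flp_h L810254) q29136, e3 q28088 L798941 q28088, e3 q28089 L798956 q26938, e3 q28090 L798972 q26939, e3 q28091 L798983 q26940, e3 q28092 L798997 q26941, e3 q28093 L799009 q26942, e3 q28094 L799023 q27507, e3 q28095 L799039 q27508, trivial⟩ (by decide +kernel)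

theorem ce_h_439 : ∀ r, r < 64 → sm gh (Qf (28096 + r)) = Qf (tab Gen.h (28096 + r)) :=
  edges_tab (sm gh) Qf (tab Gen.h) 28096 [(28096, 29081), (28097, 29082), (28098, 29083), (28099, 29156), (28100, 26920), (28101, 26921), (28102, 26922), (28103, 29076), (28104, 29077), (28105, 27365), (28106, 29157), (28107, 29158), (28108, 29160), (28109, 29104), (28110, 26961), (28111, 26962), (28112, 29170), (28113, 27417), (28114, 27418), (28115, 27434), (28116, 27435), (28117, 27890), (28118, 27857), (28119, 27858), (28120, 26935), (28121, 26936), (28122, 29179), (28123, 29180), (28124, 27513), (28125, 29144), (28126, 29145), (28127, 29146), (28128, 29147), (28129, 29148), (28130, 29189), (28131, 26945), (28132, 26946), (28133, 29190), (28134, 29191), (28135, 26953), (28136, 27001), (28137, 27002), (28138, 26954), (28139, 26955), (28140, 29052), (28141, 26956), (28142, 29194), (28143, 29198), (28144, 29200), (28145, 27410), (28146, 27411), (28147, 27860), (28148, 27861), (28149, 29168), (28150, 29207), (28151, 26963), (28152, 26965),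 (28153, 27022), (28154, 27094), (28155, 27095), (28156, 27115), (28157, 27116), (28158, 27117), (28159, 28999)]
    ⟨e3 q28096 (flp_h L809420) q29081, e3 q28097 (flp_h L809436) q29082, e3 q28098 (flp_h L809449) q29083, e3 q28099 L810501 q29156, e3 q28100 L799087 q26920, e3 q28101 L799099 q26921, e3 q28102 L799108 q26922, e3 q28103 (flp_h L809336) q29076, e3 q28104 (flp_h L809352) q29077, e3 q28105 L799139 q27365, e3 q28106 (flp_h L810518) q29157, e3 q28107 (flp_h L810530) q29158, e3 q28108 (flp_h L810551) q29160, e3 q28109 (flp_h L809733) q29104, e3 q28110 L799191 q26961, e3 q28111 L799203 q26962, e3 q28112 L810646 q29170, e3 q28113 L799224 q27417, e3 q28114 L799240 q27418, e3 q28115 L799251 q27434, e3 q28116 L799263 q27435, e3 q28117 L799277 q27890, e3 q28118 L799289 q27857, e3 q28119 L799303 q27858, e3 q28120 L799317 q26935, e3 q28121 L799331 q26936, e3 q28122 (flp_h L810777) q29179, e3 q28123 (flp_h L810791) q29180, e3 q28124 L799365 q27513, e3 q28125 (flp_h L810361) q29144, e3 q28126 (flp_h L810377) q29145, e3 q28127 (flp_h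 L810390) q29146, e3 q28128 (flp_h L810406) q29147, e3 q28129 (flp_h L810420) q29148, e3 q28130 L810898 q29189, e3 q28131 L799457 q26945, e3 q28132 L799473 q26946, e3 q28133 (flp_h L810924) q29190, e3 q28134 (flp_h L810940) q29191, e3 q28135 L799517 q26953, e3 q28136 L799533 q27001, e3 q28137 L799549 q27002, e3 q28138 L799559 q26954, e3 q28139 L799567 q26955, e3 q28140 (flp_h L808996) q29052, e3 q28141 L799582 q26956, e3 q28142 (flp_h L810991) q29194, e3 q28143 (flp_h L811054) q29198, e3 q28144 (flp_h L811070) q29200, e3 q28145 L799638 q27410, e3 q28146 L799654 q27411, e3 q28147 L799672 q27860, e3 q28148 L799686 q27861, e3 q28149 (flp_h L810634) q29168, e3 q28150 L811173 q29207, e3 q28151 (flp_h L799714) q26963, e3 q28152 (flp_h L799724) q26965, e3 q28153 L799752 q27022, e3 q28154 L799764 q27094, e3 q28155 L799780 q27095, e3 q28156 L799795 q27115, e3 q28157 L799807 q27116, e3 q28158 L799818 q27117, e3 q28159 (flp_h L808196) q28999, trivial⟩ (by decide +kernel)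

theorem ce_h_440 : ∀ r, r < 64 → sm gh (Qf (28160 + r)) = Qf (tab Gen.h (28160 + r)) :=
  edges_tab (sm gh) Qf (tab Gen.h) 28160 [(28160, 27783), (28161, 29217), (28162, 27590), (28163, 27000), (28164, 27591), (28165, 27592), (28166, 26992), (28167, 27593), (28168, 27433), (28169, 27021), (28170, 27107), (28171, 27073), (28172, 27118), (28173, 27119), (28174, 27120), (28175, 27773), (28176, 27399), (28177, 26991), (28178, 29230), (28179, 29221), (28180, 27456), (28181, 27457), (28182, 26998), (28183, 26999), (28184, 27841), (28185, 29234), (28186, 29219), (28187, 29195), (28188, 29196), (28189, 27010), (28190, 27011), (28191, 27012), (28192, 27328), (28193, 27837), (28194, 29237), (28195, 29238), (28196, 29005), (28197, 27797), (28198, 29006), (28199, 29243), (28200, 29223), (28201, 27018), (28202, 29208), (28203, 27384), (28204, 27246), (28205, 27249), (28206, 27291), (28207, 29107), (28208, 29108), (28209, 27812), (28210, 27813), (28211, 27825), (28212, 27250), (28213, 27251), (28214, 27276), (28215, 27277), (28216, 27252),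 (28217, 27253), (28218, 27040), (28219, 27041), (28220, 27199), (28221, 27200), (28222, 29254), (28223, 29255)]
    ⟨e3 q28160 L799840 q27783, e3 q28161 L811296 q29217, e3 q28162 L799861 q27590, e3 q28163 L799877 q27000, e3 q28164 L799895 q27591, e3 q28165 L799905 q27592, e3 q28166 L799917 q26992, e3 q28167 L799933 q27593, e3 q28168 L799941 q27433, e3 q28169 L799953 q27021, e3 q28170 L799965 q27107, e3 q28171 L799981 q27073, e3 q28172 L799997 q27118, e3 q28173 L800009 q27119, e3 q28174 L800023 q27120, e3 q28175 L800035 q27773, e3 q28176 (flp_h L800047) q27399, e3 q28177 L800059 q26991, e3 q28178 (flp_h L811497) q29230, e3 q28179 (flp_h L811361) q29221, e3 q28180 L800103 q27456, e3 q28181 L800119 q27457, e3 q28182 L800139 q26998, e3 q28183 L800151 q26999, e3 q28184 L800169 q27841, e3 q28185 (flp_h L811565) q29234, e3 q28186 (flp_h L811333) q29219, e3 q28187 (flp_h L811009) q29195, e3 q28188 (flp_h L811025) q29196, e3 q28189 L800235 q27010, e3 q28190 L800247 q27011, e3 q28191 L800263 q27012, e3 q28192 L800283 q27328, e3 q28193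 L800301 q27837, e3 q28194 (flp_h L811611) q29237, e3 q28195 (flp_h L811627) q29238, e3 q28196 (flp_h L808300) q29005, e3 q28197 L800345 q27797, e3 q28198 (flp_h L808318) q29006, e3 q28199 L811697 q29243, e3 q28200 (flp_h L811389) q29223, e3 q28201 (flp_h L800377) q27018, e3 q28202 (flp_h L811195) q29208, e3 q28203 L800409 q27384, e3 q28204 L800427 q27246, e3 q28205 L800445 q27249, e3 q28206 L800463 q27291, e3 q28207 (flp_h L809781) q29107, e3 q28208 (flp_h L809797) q29108, e3 q28209 L800509 q27812, e3 q28210 L800525 q27813, e3 q28211 L800541 q27825, e3 q28212 L800559 q27250, e3 q28213 L800575 q27251, e3 q28214 L800589 q27276, e3 q28215 L800603 q27277, e3 q28216 L800621 q27252, e3 q28217 L800635 q27253, e3 q28218 L800651 q27040, e3 q28219 L800667 q27041, e3 q28220 L800682 q27199, e3 q28221 L800698 q27200, e3 q28222 (flp_h L811891) q29254, e3 q28223 (flp_h L811907) q29255, trivial⟩ (by decide +kernel)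

theorem ce_h_441 : ∀ r, r < 64 → sm gh (Qf (28224 + r)) = Qf (tab Gen.h (28224 + r)) :=
  edges_tab (sm gh) Qf (tab Gen.h) 28224 [(28224, 29256), (28225, 27056), (28226, 27057), (28227, 27058), (28228, 29109), (28229, 27329), (28230, 27330), (28231, 27051), (28232, 27052), (28233, 27053), (28234, 29268), (28235, 29269), (28236, 29271), (28237, 27805), (28238, 27806), (28239, 29263), (28240, 29264), (28241, 27463), (28242, 27274), (28243, 29128), (28244, 29129), (28245, 27066), (28246, 27067), (28247, 29279), (28248, 27344), (28249, 27283), (28250, 27284), (28251, 27285), (28252, 29225), (28253, 27807), (28254, 27294), (28255, 27077), (28256, 29283), (28257, 27080), (28258, 27081), (28259, 29285), (28260, 29286), (28261, 27093), (28262, 27086), (28263, 27087), (28264, 27478), (28265, 27479), (28266, 29289), (28267, 29290), (28268, 29291), (28269, 28269), (28270, 27102), (28271, 27103), (28272, 27104), (28273, 27462), (28274, 29288), (28275, 29209), (28276, 29210), (28277, 27099), (28278, 27100), (28279, 27101), (28280, 27487),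 (28281, 29305), (28282, 29306), (28283, 29308), (28284, 29299), (28285, 29300), (28286, 29314), (28287, 27105)]
    ⟨e3 q28224 (flp_h L811920) q29256, e3 q28225 L800739 q27056, e3 q28226 L800753 q27057, e3 q28227 L800767 q27058, e3 q28228 (flp_h L809813) q29109, e3 q28229 L800795 q27329, e3 q28230 L800811 q27330, e3 q28231 L800827 q27051, e3 q28232 L800841 q27052, e3 q28233 L800854 q27053, e3 q28234 (flp_h L812094) q29268, e3 q28235 (flp_h L812108) q29269, e3 q28236 (flp_h L812131) q29271, e3 q28237 L800906 q27805, e3 q28238 L800922 q27806, e3 q28239 (flp_h L812015) q29263, e3 q28240 (flp_h L812029) q29264, e3 q28241 (flp_h L800960) q27463, e3 q28242 L800976 q27274, e3 q28243 (flp_h L810127) q29128, e3 q28244 (flp_h L810143) q29129, e3 q28245 L801014 q27066, e3 q28246 L801028 q27067, e3 q28247 (flp_h L812253) q29279, e3 q28248 L801054 q27344, e3 q28249 L801068 q27283, e3 q28250 L801082 q27284, e3 q28251 L801092 q27285, e3 q28252 (flp_h L811419) q29225, e3 q28253 L801120 q27807, e3 q28254 L801134 q27294, e3 q28255 L801148 q27077,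 e3 q28256 (flp_h L812321) q29283, e3 q28257 L801178 q27080, e3 q28258 L801192 q27081, e3 q28259 (flp_h L812353) q29285, e3 q28260 (flp_h L812367) q29286, e3 q28261 L801230 q27093, e3 q28262 L801246 q27086, e3 q28263 L801262 q27087, e3 q28264 L801277 q27478, e3 q28265 L801293 q27479, e3 q28266 (flp_h L812415) q29289, e3 q28267 (flp_h L812431) q29290, e3 q28268 (flp_h L812444) q29291, e3 q28269 L801345 q28269, e3 q28270 L801358 q27102, e3 q28271 L801372 q27103, e3 q28272 L801386 q27104, e3 q28273 L801402 q27462, e3 q28274 (flp_h L812399) q29288, e3 q28275 (flp_h L811207) q29209, e3 q28276 (flp_h L811223) q29210, e3 q28277 L801454 q27099, e3 q28278 L801466 q27100, e3 q28279 L801477 q27101, e3 q28280 L801495 q27487, e3 q28281 (flp_h L812646) q29305, e3 q28282 (flp_h L812658) q29306, e3 q28283 (flp_h L812677) q29308, e3 q28284 (flp_h L812557) q29299, e3 q28285 (flp_h L812571) q29300, e3 q28286 L812753 q29314, e3 q28287 (flp_h L801565) q27105, trivial⟩ (by decide +kernel)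

theorem ce_h_442 : ∀ r, r < 64 → sm gh (Qf (28288 + r)) = Qf (tab Gen.h (28288 + r)) :=
  edges_tab (sm gh) Qf (tab Gen.h) 28288 [(28288, 27331), (28289, 29224), (28290, 27340), (28291, 27343), (28292, 27489), (28293, 27490), (28294, 29073), (28295, 27492), (28296, 29211), (28297, 29212), (28298, 29323), (28299, 29214), (28300, 29226), (28301, 29227), (28302, 27358), (28303, 29326), (28304, 27123), (28305, 27124), (28306, 29315), (28307, 27129), (28308, 27335), (28309, 27336), (28310, 29329), (28311, 27155), (28312, 27156), (28313, 27157), (28314, 29023), (28315, 29024), (28316, 29025), (28317, 29342), (28318, 28318), (28319, 28319), (28320, 27391), (28321, 27142), (28322, 27143), (28323, 27144), (28324, 29014), (28325, 29015), (28326, 29016), (28327, 29344), (28328, 29345), (28329, 29347), (28330, 29348), (28331, 28331), (28332, 27175), (28333, 27176), (28334, 29360), (28335, 27736), (28336, 27185), (28337, 27186), (28338, 27153), (28339, 27154), (28340, 29363), (28341, 29364), (28342, 29333), (28343, 29334), (28344, 27160),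 (28345, 27161), (28346, 27162), (28347, 29368), (28348, 29369), (28349, 29371), (28350, 27215), (28351, 27216)]
    ⟨e3 q28288 L801586 q27331, e3 q28289 (flp_h L811403) q29224, e3 q28290 L801608 q27340, e3 q28291 L801622 q27343, e3 q28292 L801632 q27489, e3 q28293 L801644 q27490, e3 q28294 (flp_h L809294) q29073, e3 q28295 L801672 q27492, e3 q28296 (flp_h L811239) q29211, e3 q28297 (flp_h L811251) q29212, e3 q28298 L812890 q29323, e3 q28299 (flp_h L811270) q29214, e3 q28300 (flp_h L811437) q29226, e3 q28301 (flp_h L811451) q29227, e3 q28302 L801750 q27358, e3 q28303 L812926 q29326, e3 q28304 (flp_h L801762) q27123, e3 q28305 (flp_h L801774) q27124, e3 q28306 (flp_h L812782) q29315, e3 q28307 L801811 q27129, e3 q28308 L801827 q27335, e3 q28309 L801843 q27336, e3 q28310 (flp_h L812977) q29329, e3 q28311 L801864 q27155, e3 q28312 L801876 q27156, e3 q28313 L801888 q27157, e3 q28314 (flp_h L808587) q29023, e3 q28315 (flp_h L808603) q29024, e3 q28316 (flp_h L808616) q29025, e3 q28317 L813116 q29342, e3 q28318 L801934 q28318, e3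 q28319 L801947 q28319, e3 q28320 L801964 q27391, e3 q28321 L801976 q27142, e3 q28322 L801984 q27143, e3 q28323 L801989 q27144, e3 q28324 (flp_h L808448) q29014, e3 q28325 (flp_h L808464) q29015, e3 q28326 (flp_h L808478) q29016, e3 q28327 (flp_h L813147) q29344, e3 q28328 (flp_h L813155) q29345, e3 q28329 (flp_h L813168) q29347, e3 q28330 (flp_h L813173) q29348, e3 q28331 L802057 q28331, e3 q28332 L802070 q27175, e3 q28333 L802082 q27176, e3 q28334 L813279 q29360, e3 q28335 L802103 q27736, e3 q28336 L802117 q27185, e3 q28337 L802133 q27186, e3 q28338 L802146 q27153, e3 q28339 L802160 q27154, e3 q28340 (flp_h L813328) q29363, e3 q28341 (flp_h L813342) q29364, e3 q28342 (flp_h L813033) q29333, e3 q28343 (flp_h L813045) q29334, e3 q28344 L802212 q27160, e3 q28345 L802226 q27161, e3 q28346 L802237 q27162, e3 q28347 (flp_h L813387) q29368, e3 q28348 (flp_h L813401) q29369, e3 q28349 (flp_h L813428) q29371, e3 q28350 L802293 q27215, e3 q28351 L802303 q27216, trivial⟩ (by decide +kernel)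

theorem ce_h_443 : ∀ r, r < 64 → sm gh (Qf (28352 + r)) = Qf (tab Gen.h (28352 + r)) :=
  edges_tab (sm gh) Qf (tab Gen.h) 28352 [(28352, 27217), (28353, 27170), (28354, 27171), (28355, 29270), (28356, 27172), (28357, 29070), (28358, 29071), (28359, 29378), (28360, 29380), (28361, 27682), (28362, 27683), (28363, 29358), (28364, 29386), (28365, 27177), (28366, 27239), (28367, 27464), (28368, 27465), (28369, 27314), (28370, 27315), (28371, 27189), (28372, 27190), (28373, 29361), (28374, 29362), (28375, 27191), (28376, 27192), (28377, 29391), (28378, 29392), (28379, 29396), (28380, 27493), (28381, 27196), (28382, 29398), (28383, 27204), (28384, 27205), (28385, 27206), (28386, 29257), (28387, 29258), (28388, 29259), (28389, 27207), (28390, 27208), (28391, 27209), (28392, 29399), (28393, 29400), (28394, 29402), (28395, 29406), (28396, 29407), (28397, 29041), (28398, 29042), (28399, 29043), (28400, 27225), (28401, 27226), (28402, 29419), (28403, 27228), (28404, 29374), (28405, 29375), (28406, 29138), (28407, 29377), (28408, 29173),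 (28409, 27229), (28410, 27836), (28411, 27230), (28412, 27345), (28413, 27231), (28414, 29125), (28415, 29126)]
    ⟨e3 q28352 L802310 q27217, e3 q28353 L802318 q27170, e3 q28354 L802326 q27171, e3 q28355 (flp_h L812121) q29270, e3 q28356 L802337 q27172, e3 q28357 (flp_h L809254) q29070, e3 q28358 (flp_h L809268) q29071, e3 q28359 (flp_h L813505) q29378, e3 q28360 (flp_h L813517) q29380, e3 q28361 L802381 q27682, e3 q28362 L802395 q27683, e3 q28363 (flp_h L813267) q29358, e3 q28364 L813564 q29386, e3 q28365 (flp_h L802413) q27177, e3 q28366 L802428 q27239, e3 q28367 L802436 q27464, e3 q28368 L802446 q27465, e3 q28369 L802462 q27314, e3 q28370 L802478 q27315, e3 q28371 L802491 q27189, e3 q28372 L802501 q27190, e3 q28373 (flp_h L813298) q29361, e3 q28374 (flp_h L813314) q29362, e3 q28375 L802535 q27191, e3 q28376 L802545 q27192, e3 q28377 (flp_h L813636) q29391, e3 q28378 (flp_h L813646) q29392, e3 q28379 (flp_h L813689) q29396, e3 q28380 L802581 q27493, e3 q28381 L802593 q27196, e3 q28382 (flp_h L813711) q29398, e3 q28383 L802619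 q27204, e3 q28384 L802631 q27205, e3 q28385 L802642 q27206, e3 q28386 (flp_h L811938) q29257, e3 q28387 (flp_h L811954) q29258, e3 q28388 (flp_h L811967) q29259, e3 q28389 L802694 q27207, e3 q28390 L802706 q27208, e3 q28391 L802718 q27209, e3 q28392 (flp_h L813725) q29399, e3 q28393 (flp_h L813737) q29400, e3 q28394 (flp_h L813758) q29402, e3 q28395 (flp_h L813812) q29406, e3 q28396 (flp_h L813826) q29407, e3 q28397 (flp_h L808842) q29041, e3 q28398 (flp_h L808858) q29042, e3 q28399 (flp_h L808872) q29043, e3 q28400 L802815 q27225, e3 q28401 L802821 q27226, e3 q28402 L813926 q29419, e3 q28403 L802832 q27228, e3 q28404 (flp_h L813470) q29374, e3 q28405 (flp_h L813480) q29375, e3 q28406 (flp_h L810286) q29138, e3 q28407 (flp_h L813495) q29377, e3 q28408 (flp_h L810694) q29173, e3 q28409 L802888 q27229, e3 q28410 L802900 q27836, e3 q28411 L802906 q27230, e3 q28412 L802918 q27345, e3 q28413 L802924 q27231, e3 q28414 (flp_h L810086) q29125, e3 q28415 (flp_h L810098) q29126, trivial⟩ (by decide +kernel)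

theorem ce_h_444 : ∀ r, r < 64 → sm gh (Qf (28416 + r)) = Qf (tab Gen.h (28416 + r)) :=
  edges_tab (sm gh) Qf (tab Gen.h) 28416 [(28416, 29415), (28417, 29434), (28418, 29417), (28419, 27227), (28420, 29426), (28421, 29428), (28422, 27536), (28423, 27539), (28424, 29437), (28425, 27236), (28426, 29387), (28427, 27421), (28428, 27363), (28429, 29139), (28430, 27362), (28431, 29245), (28432, 27891), (28433, 27892), (28434, 29251), (28435, 29253), (28436, 27266), (28437, 27267), (28438, 27268), (28439, 27740), (28440, 27741), (28441, 27742), (28442, 27269), (28443, 27270), (28444, 27724), (28445, 27292), (28446, 27293), (28447, 29105), (28448, 29441), (28449, 29442), (28450, 29446), (28451, 27290), (28452, 27775), (28453, 27776), (28454, 27840), (28455, 29252), (28456, 27791), (28457, 27792), (28458, 29281), (28459, 29455), (28460, 27286), (28461, 27721), (28462, 27811), (28463, 29246), (28464, 29448), (28465, 29449), (28466, 27297), (28467, 27298), (28468, 27893), (28469, 29458), (28470, 27316), (28471, 27317), (28472, 27318),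 (28473, 27685), (28474, 27686), (28475, 27445), (28476, 27687), (28477, 27688), (28478, 27538), (28479, 27550)]
    ⟨e3 q28416 (flp_h L813905) q29415, e3 q28417 L814075 q29434, e3 q28418 (flp_h L813917) q29417, e3 q28419 (flp_h L802964) q27227, e3 q28420 (flp_h L813999) q29426, e3 q28421 (flp_h L814019) q29428, e3 q28422 L802990 q27536, e3 q28423 L803000 q27539, e3 q28424 L814099 q29437, e3 q28425 (flp_h L803008) q27236, e3 q28426 (flp_h L813580) q29387, e3 q28427 L803029 q27421, e3 q28428 L803043 q27363, e3 q28429 (flp_h L810299) q29139, e3 q28430 L803065 q27362, e3 q28431 (flp_h L811731) q29245, e3 q28432 L803092 q27891, e3 q28433 L803106 q27892, e3 q28434 (flp_h L811839) q29251, e3 q28435 (flp_h L811875) q29253, e3 q28436 L803146 q27266, e3 q28437 L803156 q27267, e3 q28438 L803166 q27268, e3 q28439 L803176 q27740, e3 q28440 L803186 q27741, e3 q28441 L803198 q27742, e3 q28442 L803206 q27269, e3 q28443 L803214 q27270, e3 q28444 L803225 q27724, e3 q28445 L803235 q27292, e3 q28446 L803249 q27293, e3 q28447 (flp_h L809749) q29105,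 e3 q28448 (flp_h L814152) q29441, e3 q28449 (flp_h L814162) q29442, e3 q28450 (flp_h L814207) q29446, e3 q28451 L803317 q27290, e3 q28452 L803331 q27775, e3 q28453 L803341 q27776, e3 q28454 L803354 q27840, e3 q28455 (flp_h L811857) q29252, e3 q28456 L803374 q27791, e3 q28457 L803386 q27792, e3 q28458 (flp_h L812289) q29281, e3 q28459 L814312 q29455, e3 q28460 (flp_h L803408) q27286, e3 q28461 L803432 q27721, e3 q28462 L803446 q27811, e3 q28463 (flp_h L811751) q29246, e3 q28464 (flp_h L814229) q29448, e3 q28465 (flp_h L814243) q29449, e3 q28466 L803486 q27297, e3 q28467 L803496 q27298, e3 q28468 L803513 q27893, e3 q28469 (flp_h L814356) q29458, e3 q28470 L803529 q27316, e3 q28471 L803541 q27317, e3 q28472 L803557 q27318, e3 q28473 L803569 q27685, e3 q28474 L803581 q27686, e3 q28475 L803592 q27445, e3 q28476 L803606 q27687, e3 q28477 L803620 q27688, e3 q28478 L803634 q27538, e3 q28479 L803644 q27550, trivial⟩ (by decide +kernel)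

theorem ce_h_445 : ∀ r, r < 64 → sm gh (Qf (28480 + r)) = Qf (tab Gen.h (28480 + r)) :=
  edges_tab (sm gh) Qf (tab Gen.h) 28480 [(28480, 27319), (28481, 27320), (28482, 29473), (28483, 27817), (28484, 27818), (28485, 27819), (28486, 29389), (28487, 29390), (28488, 29328), (28489, 29460), (28490, 29461), (28491, 29483), (28492, 29471), (28493, 29485), (28494, 27321), (28495, 29486), (28496, 27324), (28497, 27730), (28498, 27731), (28499, 29239), (28500, 29266), (28501, 29267), (28502, 27816), (28503, 27337), (28504, 27338), (28505, 27339), (28506, 29330), (28507, 29331), (28508, 29492), (28509, 29493), (28510, 29429), (28511, 29316), (28512, 29008), (28513, 29430), (28514, 27767), (28515, 29280), (28516, 29427), (28517, 27720), (28518, 27348), (28519, 27639), (28520, 27640), (28521, 27355), (28522, 27356), (28523, 29510), (28524, 27863), (28525, 29508), (28526, 29512), (28527, 27357), (28528, 29513), (28529, 27359), (28530, 29164), (28531, 29439), (28532, 27412), (28533, 27431), (28534, 27705), (28535, 27706), (28536, 27707),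 (28537, 27419), (28538, 27420), (28539, 27422), (28540, 27423), (28541, 29524), (28542, 27607), (28543, 27608)]
    ⟨e3 q28480 L803654 q27319, e3 q28481 L803662 q27320, e3 q28482 L814529 q29473, e3 q28483 L803681 q27817, e3 q28484 L803695 q27818, e3 q28485 L803713 q27819, e3 q28486 (flp_h L813606) q29389, e3 q28487 (flp_h L813622) q29390, e3 q28488 (flp_h L812965) q29328, e3 q28489 (flp_h L814386) q29460, e3 q28490 (flp_h L814398) q29461, e3 q28491 L814647 q29483, e3 q28492 (flp_h L814519) q29471, e3 q28493 L814671 q29485, e3 q28494 (flp_h L803803) q27321, e3 q28495 L814679 q29486, e3 q28496 (flp_h L803823) q27324, e3 q28497 L803842 q27730, e3 q28498 L803856 q27731, e3 q28499 (flp_h L811649) q29239, e3 q28500 (flp_h L812060) q29266, e3 q28501 (flp_h L812076) q29267, e3 q28502 L803901 q27816, e3 q28503 L803909 q27337, e3 q28504 L803923 q27338, e3 q28505 L803937 q27339, e3 q28506 (flp_h L812993) q29330, e3 q28507 (flp_h L813009) q29331, e3 q28508 (flp_h L814759) q29492, e3 q28509 (flp_h L814773) q29493, e3 q28510 (flp_h L814033)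 q29429, e3 q28511 (flp_h L812796) q29316, e3 q28512 L808356 q29008, e3 q28513 (flp_h L814045) q29430, e3 q28514 L804029 q27767, e3 q28515 (flp_h L812273) q29280, e3 q28516 (flp_h L814011) q29427, e3 q28517 L804059 q27720, e3 q28518 L804075 q27348, e3 q28519 L804085 q27639, e3 q28520 L804099 q27640, e3 q28521 L804109 q27355, e3 q28522 L804117 q27356, e3 q28523 L814953 q29510, e3 q28524 L804138 q27863, e3 q28525 (flp_h L814943) q29508, e3 q28526 L814974 q29512, e3 q28527 (flp_h L804164) q27357, e3 q28528 L814982 q29513, e3 q28529 (flp_h L804180) q27359, e3 q28530 (flp_h L810594) q29164, e3 q28531 (flp_h L814123) q29439, e3 q28532 L804208 q27412, e3 q28533 L804222 q27431, e3 q28534 L804236 q27705, e3 q28535 L804250 q27706, e3 q28536 L804258 q27707, e3 q28537 L804270 q27419, e3 q28538 L804278 q27420, e3 q28539 L804286 q27422, e3 q28540 L804294 q27423, e3 q28541 L815084 q29524, e3 q28542 L804307 q27607, e3 q28543 L804321 q27608, trivial⟩ (by decide +kernel)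

theorem ce_h_446 : ∀ r, r < 64 → sm gh (Qf (28544 + r)) = Qf (tab Gen.h (28544 + r)) :=
  edges_tab (sm gh) Qf (tab Gen.h) 28544 [(28544, 27609), (28545, 29529), (28546, 27563), (28547, 27564), (28548, 27383), (28549, 27885), (28550, 27886), (28551, 27641), (28552, 29531), (28553, 29229), (28554, 29540), (28555, 27851), (28556, 27386), (28557, 27552), (28558, 27395), (28559, 27396), (28560, 29343), (28561, 27398), (28562, 29131), (28563, 29132), (28564, 29133), (28565, 29542), (28566, 29543), (28567, 29554), (28568, 29064), (28569, 29017), (28570, 29228), (28571, 29075), (28572, 29072), (28573, 27436), (28574, 27437), (28575, 29560), (28576, 27439), (28577, 29563), (28578, 27406), (28579, 27496), (28580, 27866), (28581, 27867), (28582, 29203), (28583, 29204), (28584, 29570), (28585, 27842), (28586, 27664), (28587, 27909), (28588, 29171), (28589, 29172), (28590, 29519), (28591, 29520), (28592, 29578), (28593, 29435), (28594, 29522), (28595, 29581), (28596, 27424), (28597, 27426), (28598, 27512), (28599, 27432), (28600, 27518),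 (28601, 29515), (28602, 29222), (28603, 29174), (28604, 29175), (28605, 29586), (28606, 29558), (28607, 29588)]
    ⟨e3 q28544 L804333 q27609, e3 q28545 (flp_h L815145) q29529, e3 q28546 L804355 q27563, e3 q28547 L804369 q27564, e3 q28548 L804385 q27383, e3 q28549 L804397 q27885, e3 q28550 L804407 q27886, e3 q28551 L804416 q27641, e3 q28552 (flp_h L815177) q29531, e3 q28553 (flp_h L811477) q29229, e3 q28554 L815254 q29540, e3 q28555 L804444 q27851, e3 q28556 L804452 q27386, e3 q28557 L804466 q27552, e3 q28558 L804478 q27395, e3 q28559 L804492 q27396, e3 q28560 (flp_h L813135) q29343, e3 q28561 L804518 q27398, e3 q28562 (flp_h L810179) q29131, e3 q28563 (flp_h L810195) q29132, e3 q28564 (flp_h L810209) q29133, e3 q28565 (flp_h L815287) q29542, e3 q28566 (flp_h L815301) q29543, e3 q28567 L815390 q29554, e3 q28568 L809168 q29064, e3 q28569 L808498 q29017, e3 q28570 L811465 q29228, e3 q28571 L809324 q29075, e3 q28572 (flp_h L809280) q29072, e3 q28573 L804599 q27436, e3 q28574 L804611 q27437, e3 q28575 L815437 q29560, e3 q28576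 L804626 q27439, e3 q28577 L815453 q29563, e3 q28578 (flp_h L804632) q27406, e3 q28579 L804649 q27496, e3 q28580 L804663 q27866, e3 q28581 L804673 q27867, e3 q28582 (flp_h L811117) q29203, e3 q28583 (flp_h L811133) q29204, e3 q28584 L815517 q29570, e3 q28585 L804708 q27842, e3 q28586 L804724 q27664, e3 q28587 L804738 q27909, e3 q28588 (flp_h L810665) q29171, e3 q28589 (flp_h L810681) q29172, e3 q28590 (flp_h L815053) q29519, e3 q28591 (flp_h L815061) q29520, e3 q28592 L815612 q29578, e3 q28593 (flp_h L814089) q29435, e3 q28594 (flp_h L815076) q29522, e3 q28595 L815646 q29581, e3 q28596 (flp_h L804816) q27424, e3 q28597 L804836 q27426, e3 q28598 L804848 q27512, e3 q28599 L804860 q27432, e3 q28600 L804872 q27518, e3 q28601 (flp_h L815002) q29515, e3 q28602 (flp_h L811377) q29222, e3 q28603 (flp_h L810710) q29174, e3 q28604 (flp_h L810722) q29175, e3 q28605 L815708 q29586, e3 q28606 (flp_h L815425) q29558, e3 q28607 L815732 q29588, trivial⟩ (by decide +kernel)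

theorem ce_h_447 : ∀ r, r < 64 → sm gh (Qf (28608 + r)) = Qf (tab Gen.h (28608 + r)) :=
  edges_tab (sm gh) Qf (tab Gen.h) 28608 [(28608, 27438), (28609, 29591), (28610, 29592), (28611, 27440), (28612, 27545), (28613, 29541), (28614, 29467), (28615, 27444), (28616, 29466), (28617, 27557), (28618, 27447), (28619, 27559), (28620, 27449), (28621, 27482), (28622, 27486), (28623, 27459), (28624, 27710), (28625, 27711), (28626, 29232), (28627, 29233), (28628, 29450), (28629, 27469), (28630, 27470), (28631, 27468), (28632, 29302), (28633, 29277), (28634, 29265), (28635, 29388), (28636, 29609), (28637, 27466), (28638, 27859), (28639, 29604), (28640, 29603), (28641, 27480), (28642, 27481), (28643, 27714), (28644, 27483), (28645, 27484), (28646, 29617), (28647, 27865), (28648, 29292), (28649, 29293), (28650, 29294), (28651, 29611), (28652, 29612), (28653, 29625), (28654, 29597), (28655, 29615), (28656, 29627), (28657, 27485), (28658, 29309), (28659, 27804), (28660, 29470), (28661, 29317), (28662, 29634), (28663, 29319), (28664, 27491),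 (28665, 29637), (28666, 29638), (28667, 27494), (28668, 29582), (28669, 27501), (28670, 27502), (28671, 27503)]
    ⟨e3 q28608 (flp_h L804956) q27438, e3 q28609 L815770 q29591, e3 q28610 L815778 q29592, e3 q28611 (flp_h L804990) q27440, e3 q28612 L805006 q27545, e3 q28613 (flp_h L815274) q29541, e3 q28614 (flp_h L814467) q29467, e3 q28615 (flp_h L805032) q27444, e3 q28616 (flp_h L814454) q29466, e3 q28617 L805060 q27557, e3 q28618 (flp_h L805062) q27447, e3 q28619 L805084 q27559, e3 q28620 (flp_h L805086) q27449, e3 q28621 L805107 q27482, e3 q28622 L805119 q27486, e3 q28623 L805133 q27459, e3 q28624 L805145 q27710, e3 q28625 L805157 q27711, e3 q28626 (flp_h L811531) q29232, e3 q28627 (flp_h L811547) q29233, e3 q28628 (flp_h L814262) q29450, e3 q28629 L805190 q27469, e3 q28630 L805210 q27470, e3 q28631 L805226 q27468, e3 q28632 (flp_h L812600) q29302, e3 q28633 L812225 q29277, e3 q28634 (flp_h L812046) q29265, e3 q28635 (flp_h L813590) q29388, e3 q28636 L815948 q29609, e3 q28637 (flp_h L805261) q27466, e3 q28638 L805280 q27859,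 e3 q28639 (flp_h L815919) q29604, e3 q28640 (flp_h L815899) q29603, e3 q28641 L805310 q27480, e3 q28642 L805322 q27481, e3 q28643 L805334 q27714, e3 q28644 L805346 q27483, e3 q28645 L805354 q27484, e3 q28646 L816027 q29617, e3 q28647 L805369 q27865, e3 q28648 (flp_h L812460) q29292, e3 q28649 (flp_h L812476) q29293, e3 q28650 (flp_h L812489) q29294, e3 q28651 (flp_h L815974) q29611, e3 q28652 (flp_h L815986) q29612, e3 q28653 L816104 q29625, e3 q28654 (flp_h L815840) q29597, e3 q28655 (flp_h L816019) q29615, e3 q28656 L816124 q29627, e3 q28657 (flp_h L805455) q27485, e3 q28658 (flp_h L812697) q29309, e3 q28659 L805479 q27804, e3 q28660 (flp_h L814507) q29470, e3 q28661 (flp_h L812812) q29317, e3 q28662 L816186 q29634, e3 q28663 (flp_h L812840) q29319, e3 q28664 (flp_h L805505) q27491, e3 q28665 L816206 q29637, e3 q28666 L816214 q29638, e3 q28667 (flp_h L805527) q27494, e3 q28668 (flp_h L815666) q29582, e3 q28669 L805549 q27501, e3 q28670 L805559 q27502, e3 q28671 L805567 q27503, trivial⟩ (by decide +kernel)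

theorem ce_h_448 : ∀ r, r < 64 → sm gh (Qf (28672 + r)) = Qf (tab Gen.h (28672 + r)) :=
  edges_tab (sm gh) Qf (tab Gen.h) 28672 [(28672, 27862), (28673, 29640), (28674, 29641), (28675, 27525), (28676, 27526), (28677, 27527), (28678, 29150), (28679, 29151), (28680, 29091), (28681, 27528), (28682, 27529), (28683, 29596), (28684, 27530), (28685, 29583), (28686, 29183), (28687, 29657), (28688, 27531), (28689, 29662), (28690, 27533), (28691, 27672), (28692, 27516), (28693, 27844), (28694, 29137), (28695, 27835), (28696, 27535), (28697, 27586), (28698, 27587), (28699, 29643), (28700, 29644), (28701, 29646), (28702, 29651), (28703, 29653), (28704, 29671), (28705, 29659), (28706, 27532), (28707, 27727), (28708, 27803), (28709, 29469), (28710, 29674), (28711, 27540), (28712, 29589), (28713, 29677), (28714, 27542), (28715, 27543), (28716, 29593), (28717, 29680), (28718, 27547), (28719, 27695), (28720, 29530), (28721, 29539), (28722, 29595), (28723, 29684), (28724, 27554), (28725, 27555), (28726, 29685), (28727, 27560), (28728, 29069),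 (28729, 27638), (28730, 29066), (28731, 27814), (28732, 27815), (28733, 27583), (28734, 27584), (28735, 29370)]
    ⟨e3 q28672 L805576 q27862, e3 q28673 (flp_h L816240) q29640, e3 q28674 (flp_h L816250) q29641, e3 q28675 L805606 q27525, e3 q28676 L805616 q27526, e3 q28677 L805625 q27527, e3 q28678 (flp_h L810443) q29150, e3 q28679 (flp_h L810459) q29151, e3 q28680 (flp_h L809556) q29091, e3 q28681 L805658 q27528, e3 q28682 L805666 q27529, e3 q28683 (flp_h L815828) q29596, e3 q28684 L805677 q27530, e3 q28685 (flp_h L815678) q29583, e3 q28686 (flp_h L810826) q29183, e3 q28687 L816375 q29657, e3 q28688 L805702 q27531, e3 q28689 L816405 q29662, e3 q28690 L805714 q27533, e3 q28691 (flp_h L805725) q27672, e3 q28692 (flp_h L805727) q27516, e3 q28693 L805744 q27844, e3 q28694 (flp_h L810270) q29137, e3 q28695 L805768 q27835, e3 q28696 L805778 q27535, e3 q28697 L805790 q27586, e3 q28698 L805800 q27587, e3 q28699 (flp_h L816270) q29643, e3 q28700 (flp_h L816280) q29644, e3 q28701 (flp_h L816299) q29646, e3 q28702 (flp_h L816340) q29651,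 e3 q28703 (flp_h L816352) q29653, e3 q28704 L816493 q29671, e3 q28705 (flp_h L816390) q29659, e3 q28706 (flp_h L805864) q27532, e3 q28707 L805880 q27727, e3 q28708 L805888 q27803, e3 q28709 (flp_h L814497) q29469, e3 q28710 L816521 q29674, e3 q28711 (flp_h L805912) q27540, e3 q28712 (flp_h L815754) q29589, e3 q28713 L816553 q29677, e3 q28714 (flp_h L805936) q27542, e3 q28715 (flp_h L805940) q27543, e3 q28716 (flp_h L815798) q29593, e3 q28717 L816573 q29680, e3 q28718 (flp_h L805960) q27547, e3 q28719 L805976 q27695, e3 q28720 (flp_h L815161) q29530, e3 q28721 L815252 q29539, e3 q28722 (flp_h L815819) q29595, e3 q28723 L816609 q29684, e3 q28724 (flp_h L806012) q27554, e3 q28725 (flp_h L806024) q27555, e3 q28726 L816619 q29685, e3 q28727 (flp_h L806042) q27560, e3 q28728 (flp_h L809238) q29069, e3 q28729 L806068 q27638, e3 q28730 (flp_h L809196) q29066, e3 q28731 L806085 q27814, e3 q28732 L806097 q27815, e3 q28733 L806115 q27583, e3 q28734 L806129 q27584, e3 q28735 (flp_h L813414) q29370, trivial⟩ (by decide +kernel)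

theorem ce_h_449 : ∀ r, r < 64 → sm gh (Qf (28736 + r)) = Qf (tab Gen.h (28736 + r)) :=
  edges_tab (sm gh) Qf (tab Gen.h) 28736 [(28736, 27838), (28737, 27839), (28738, 29689), (28739, 29666), (28740, 29667), (28741, 29218), (28742, 29220), (28743, 27597), (28744, 27598), (28745, 27883), (28746, 29693), (28747, 27845), (28748, 27846), (28749, 27924), (28750, 27923), (28751, 27902), (28752, 28996), (28753, 28997), (28754, 29701), (28755, 29525), (28756, 29526), (28757, 29528), (28758, 27615), (28759, 27616), (28760, 27617), (28761, 27618), (28762, 27619), (28763, 27620), (28764, 29704), (28765, 29705), (28766, 29707), (28767, 29708), (28768, 29709), (28769, 27625), (28770, 27626), (28771, 29686), (28772, 27627), (28773, 29713), (28774, 29715), (28775, 27633), (28776, 27634), (28777, 27833), (28778, 27635), (28779, 27636), (28780, 29717), (28781, 29719), (28782, 29505), (28783, 29506), (28784, 29535), (28785, 27644), (28786, 27645), (28787, 29663), (28788, 29722), (28789, 27648), (28790, 27649), (28791, 27650), (28792, 29724),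 (28793, 29725), (28794, 29727), (28795, 27654), (28796, 27655), (28797, 29730), (28798, 29731), (28799, 27693)]
    ⟨e3 q28736 L806154 q27838, e3 q28737 L806166 q27839, e3 q28738 (flp_h L816673) q29689, e3 q28739 (flp_h L816455) q29666, e3 q28740 (flp_h L816465) q29667, e3 q28741 (flp_h L811317) q29218, e3 q28742 (flp_h L811349) q29220, e3 q28743 L806224 q27597, e3 q28744 L806232 q27598, e3 q28745 L806239 q27883, e3 q28746 (flp_h L816721) q29693, e3 q28747 L806257 q27845, e3 q28748 L806271 q27846, e3 q28749 L806281 q27924, e3 q28750 L806293 q27923, e3 q28751 L806307 q27902, e3 q28752 (flp_h L808138) q28996, e3 q28753 (flp_h L808154) q28997, e3 q28754 L816791 q29701, e3 q28755 (flp_h L815101) q29525, e3 q28756 (flp_h L815115) q29526, e3 q28757 (flp_h L815135) q29528, e3 q28758 L806360 q27615, e3 q28759 L806370 q27616, e3 q28760 L806380 q27617, e3 q28761 L806392 q27618, e3 q28762 L806406 q27619, e3 q28763 L806414 q27620, e3 q28764 (flp_h L816826) q29704, e3 q28765 (flp_h L816836) q29705, e3 q28766 (flp_h L816859) q29707, e3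 q28767 (flp_h L816871) q29708, e3 q28768 (flp_h L816881) q29709, e3 q28769 L806472 q27625, e3 q28770 L806482 q27626, e3 q28771 (flp_h L816639) q29686, e3 q28772 L806494 q27627, e3 q28773 (flp_h L816921) q29713, e3 q28774 (flp_h L816935) q29715, e3 q28775 L806524 q27633, e3 q28776 L806534 q27634, e3 q28777 L806545 q27833, e3 q28778 L806555 q27635, e3 q28779 L806561 q27636, e3 q28780 (flp_h L816957) q29717, e3 q28781 (flp_h L816975) q29719, e3 q28782 (flp_h L814906) q29505, e3 q28783 (flp_h L814920) q29506, e3 q28784 (flp_h L815216) q29535, e3 q28785 L806623 q27644, e3 q28786 L806631 q27645, e3 q28787 (flp_h L816420) q29663, e3 q28788 (flp_h L817007) q29722, e3 q28789 L806654 q27648, e3 q28790 L806662 q27649, e3 q28791 L806667 q27650, e3 q28792 (flp_h L817023) q29724, e3 q28793 (flp_h L817031) q29725, e3 q28794 (flp_h L817046) q29727, e3 q28795 L806701 q27654, e3 q28796 L806711 q27655, e3 q28797 (flp_h L817074) q29730, e3 q28798 (flp_h L817084) q29731, e3 q28799 L806745 q27693, trivial⟩ (by decide +kernel)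

theorem ce_h_450 : ∀ r, r < 64 → sm gh (Qf (28800 + r)) = Qf (tab Gen.h (28800 + r)) :=
  edges_tab (sm gh) Qf (tab Gen.h) 28800 [(28800, 27694), (28801, 27660), (28802, 27661), (28803, 29197), (28804, 29737), (28805, 27665), (28806, 27666), (28807, 29119), (28808, 29571), (28809, 29739), (28810, 27673), (28811, 27725), (28812, 27726), (28813, 29726), (28814, 27674), (28815, 29661), (28816, 29062), (28817, 29063), (28818, 29553), (28819, 29065), (28820, 29067), (28821, 29068), (28822, 29384), (28823, 29751), (28824, 27684), (28825, 29463), (28826, 29464), (28827, 29468), (28828, 27852), (28829, 27853), (28830, 27700), (28831, 27701), (28832, 29443), (28833, 29734), (28834, 29735), (28835, 29628), (28836, 29681), (28837, 27702), (28838, 27703), (28839, 27704), (28840, 29757), (28841, 29762), (28842, 29763), (28843, 29516), (28844, 29517), (28845, 27715), (28846, 27716), (28847, 29654), (28848, 29598), (28849, 29599), (28850, 27717), (28851, 29614), (28852, 29766), (28853, 27732), (28854, 27733), (28855, 29114), (28856, 29504),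 (28857, 29456), (28858, 29567), (28859, 27734), (28860, 29447), (28861, 29741), (28862, 29672), (28863, 27735)]
    ⟨e3 q28800 L806755 q27694, e3 q28801 L806767 q27660, e3 q28802 L806775 q27661, e3 q28803 (flp_h L811046) q29197, e3 q28804 (flp_h L817142) q29737, e3 q28805 L806796 q27665, e3 q28806 L806804 q27666, e3 q28807 (flp_h L809987) q29119, e3 q28808 (flp_h L815546) q29571, e3 q28809 (flp_h L817158) q29739, e3 q28810 L806841 q27673, e3 q28811 L806845 q27725, e3 q28812 L806853 q27726, e3 q28813 (flp_h L817040) q29726, e3 q28814 L806866 q27674, e3 q28815 L816403 q29661, e3 q28816 (flp_h L809136) q29062, e3 q28817 (flp_h L809150) q29063, e3 q28818 L815388 q29553, e3 q28819 (flp_h L809180) q29065, e3 q28820 (flp_h L809214) q29067, e3 q28821 (flp_h L809228) q29068, e3 q28822 (flp_h L813552) q29384, e3 q28823 L817216 q29751, e3 q28824 (flp_h L806917) q27684, e3 q28825 (flp_h L814423) q29463, e3 q28826 (flp_h L814435) q29464, e3 q28827 (flp_h L814483) q29468, e3 q28828 L806960 q27852, e3 q28829 L806970 q27853, e3 q28830 L806982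 q27700, e3 q28831 L806990 q27701, e3 q28832 (flp_h L814177) q29443, e3 q28833 (flp_h L817113) q29734, e3 q28834 (flp_h L817123) q29735, e3 q28835 (flp_h L816144) q29628, e3 q28836 (flp_h L816587) q29681, e3 q28837 L807033 q27702, e3 q28838 L807041 q27703, e3 q28839 L807047 q27704, e3 q28840 (flp_h L817270) q29757, e3 q28841 (flp_h L817308) q29762, e3 q28842 (flp_h L817314) q29763, e3 q28843 (flp_h L815018) q29516, e3 q28844 (flp_h L815032) q29517, e3 q28845 L807097 q27715, e3 q28846 L807105 q27716, e3 q28847 (flp_h L816361) q29654, e3 q28848 (flp_h L815852) q29598, e3 q28849 (flp_h L815864) q29599, e3 q28850 L807130 q27717, e3 q28851 (flp_h L816007) q29614, e3 q28852 (flp_h L817338) q29766, e3 q28853 L807160 q27732, e3 q28854 L807170 q27733, e3 q28855 (flp_h L809900) q29114, e3 q28856 (flp_h L814894) q29504, e3 q28857 (flp_h L814338) q29456, e3 q28858 (flp_h L815499) q29567, e3 q28859 L807202 q27734, e3 q28860 (flp_h L814217) q29447, e3 q28861 (flp_h L817168) q29741, e3 q28862 (flp_h L816509) q29672, e3 q28863 L807224 q27735,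 trivial⟩ (by decide +kernel)

theorem ce_h_451 : ∀ r, r < 64 → sm gh (Qf (28864 + r)) = Qf (tab Gen.h (28864 + r)) :=
  edges_tab (sm gh) Qf (tab Gen.h) 28864 [(28864, 29487), (28865, 29488), (28866, 29769), (28867, 29444), (28868, 29445), (28869, 27756), (28870, 27757), (28871, 27758), (28872, 27748), (28873, 27749), (28874, 27781), (28875, 27750), (28876, 29782), (28877, 29784), (28878, 29106), (28879, 29010), (28880, 29003), (28881, 27762), (28882, 27763), (28883, 27896), (28884, 27764), (28885, 29778), (28886, 29779), (28887, 29781), (28888, 27765), (28889, 27766), (28890, 29790), (28891, 29792), (28892, 29795), (28893, 29502), (28894, 27770), (28895, 27771), (28896, 29401), (28897, 29798), (28898, 29074), (28899, 29452), (28900, 27798), (28901, 27799), (28902, 29732), (28903, 27782), (28904, 29783), (28905, 29215), (28906, 29130), (28907, 27897), (28908, 29116), (28909, 29454), (28910, 27796), (28911, 29241), (28912, 29800), (28913, 29629), (28914, 29274), (28915, 29275), (28916, 29110), (28917, 29111), (28918, 29489),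 (28919, 29249), (28920, 29250), (28921, 29365), (28922, 29688), (28923, 29491), (28924, 29474), (28925, 29475), (28926, 27823), (28927, 27824)]
    ⟨e3 q28864 (flp_h L814698) q29487, e3 q28865 (flp_h L814712) q29488, e3 q28866 (flp_h L817360) q29769, e3 q28867 (flp_h L814187) q29444, e3 q28868 (flp_h L814197) q29445, e3 q28869 L807262 q27756, e3 q28870 L807272 q27757, e3 q28871 L807279 q27758, e3 q28872 L807285 q27748, e3 q28873 L807291 q27749, e3 q28874 L807296 q27781, e3 q28875 L807302 q27750, e3 q28876 (flp_h L817446) q29782, e3 q28877 (flp_h L817458) q29784, e3 q28878 (flp_h L809765) q29106, e3 q28879 (flp_h L808386) q29010, e3 q28880 (flp_h L808266) q29003, e3 q28881 L807351 q27762, e3 q28882 L807357 q27763, e3 q28883 L807366 q27896, e3 q28884 L807372 q27764, e3 q28885 (flp_h L817413) q29778, e3 q28886 (flp_h L817423) q29779, e3 q28887 (flp_h L817438) q29781, e3 q28888 L807402 q27765, e3 q28889 L807408 q27766, e3 q28890 (flp_h L817507) q29790, e3 q28891 (flp_h L817523) q29792, e3 q28892 (flp_h L817545) q29795, e3 q28893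 (flp_h L814868) q29502, e3 q28894 L807438 q27770, e3 q28895 L807448 q27771, e3 q28896 (flp_h L813748) q29401, e3 q28897 (flp_h L817567) q29798, e3 q28898 (flp_h L809310) q29074, e3 q28899 (flp_h L814286) q29452, e3 q28900 L807481 q27798, e3 q28901 L807489 q27799, e3 q28902 (flp_h L817091) q29732, e3 q28903 L807502 q27782, e3 q28904 (flp_h L817452) q29783, e3 q28905 (flp_h L811284) q29215, e3 q28906 (flp_h L810161) q29130, e3 q28907 L807526 q27897, e3 q28908 (flp_h L809930) q29116, e3 q28909 (flp_h L814310) q29454, e3 q28910 L807548 q27796, e3 q28911 (flp_h L811679) q29241, e3 q28912 (flp_h L817579) q29800, e3 q28913 (flp_h L816154) q29629, e3 q28914 (flp_h L812177) q29274, e3 q28915 (flp_h L812193) q29275, e3 q28916 (flp_h L809829) q29110, e3 q28917 (flp_h L809843) q29111, e3 q28918 (flp_h L814731) q29489, e3 q28919 (flp_h L811801) q29249, e3 q28920 (flp_h L811817) q29250, e3 q28921 (flp_h L813353) q29365, e3 q28922 (flp_h L816655) q29688, e3 q28923 (flp_h L814749) q29491, e3 q28924 (flp_h L814548) q29474, e3 q28925 (flp_h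 L814562) q29475, e3 q28926 L807658 q27823, e3 q28927 L807666 q27824, trivial⟩ (by decide +kernel)

theorem ce_h_452 : ∀ r, r < 64 → sm gh (Qf (28928 + r)) = Qf (tab Gen.h (28928 + r)) :=
  edges_tab (sm gh) Qf (tab Gen.h) 28928 [(28928, 29706), (28929, 29812), (28930, 27829), (28931, 27830), (28932, 29192), (28933, 29814), (28934, 27834), (28935, 29718), (28936, 29425), (28937, 29691), (28938, 29453), (28939, 29695), (28940, 29696), (28941, 27849), (28942, 27850), (28943, 29821), (28944, 29538), (28945, 29754), (28946, 29755), (28947, 27856), (28948, 29177), (28949, 29178), (28950, 29476), (28951, 29205), (28952, 29642), (28953, 29565), (28954, 29566), (28955, 27871), (28956, 27872), (28957, 29831), (28958, 29829), (28959, 29833), (28960, 27873), (28961, 27915), (28962, 27916), (28963, 27917), (28964, 27887), (28965, 27888), (28966, 29122), (28967, 27920), (28968, 27921), (28969, 29534), (28970, 27889), (28971, 29694), (28972, 29532), (28973, 29533), (28974, 29838), (28975, 29440), (28976, 29459), (28977, 29004), (28978, 29791),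 (28979, 29850), (28980, 29851), (28981, 27898), (28982, 27926), (28983, 29698), (28984, 27912), (28985, 27911), (28986, 27910), (28987, 29853), (28988, 29854), (28989, 27913), (28990, 29834), (28991, 29835)]
    ⟨e3 q28928 (flp_h L816847) q29706, e3 q28929 (flp_h L817659) q29812, e3 q28930 L807685 q27829, e3 q28931 L807697 q27830, e3 q28932 (flp_h L810961) q29192, e3 q28933 (flp_h L817675) q29814, e3 q28934 L807718 q27834, e3 q28935 (flp_h L816967) q29718, e3 q28936 (flp_h L813993) q29425, e3 q28937 (flp_h L816697) q29691, e3 q28938 (flp_h L814298) q29453, e3 q28939 (flp_h L816737) q29695, e3 q28940 (flp_h L816751) q29696, e3 q28941 L807760 q27849, e3 q28942 L807768 q27850, e3 q28943 (flp_h L817717) q29821, e3 q28944 (flp_h L815240) q29538, e3 q28945 (flp_h L817241) q29754, e3 q28946 (flp_h L817251) q29755, e3 q28947 L807796 q27856, e3 q28948 (flp_h L810747) q29177, e3 q28949 (flp_h L810761) q29178, e3 q28950 (flp_h L814581) q29476, e3 q28951 (flp_h L811151) q29205, e3 q28952 (flp_h L816260) q29642, e3 q28953 (flp_h L815476)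 q29565, e3 q28954 (flp_h L815486) q29566, e3 q28955 L807845 q27871, e3 q28956 L807853 q27872, e3 q28957 L817770 q29831, e3 q28958 (flp_h L817764) q29829, e3 q28959 L817785 q29833, e3 q28960 (flp_h L807874) q27873, e3 q28961 L807884 q27915, e3 q28962 L807894 q27916, e3 q28963 L807901 q27917, e3 q28964 L807909 q27887, e3 q28965 L807917 q27888, e3 q28966 (flp_h L810038) q29122, e3 q28967 L807928 q27920, e3 q28968 L807936 q27921, e3 q28969 (flp_h L815208) q29534, e3 q28970 L807949 q27889, e3 q28971 (flp_h L816727) q29694, e3 q28972 (flp_h L815191) q29532, e3 q28973 (flp_h L815201) q29533, e3 q28974 (flp_h L817830) q29838, e3 q28975 (flp_h L814136) q29440, e3 q28976 (flp_h L814374) q29459, e3 q28977 (flp_h L808280) q29004, e3 q28978 (flp_h L817517) q29791, e3 q28979 L817895 q29850, e3 q28980 L817899 q29851, e3 q28981 (flp_h L808010) q27898, e3 q28982 L808022 q27926, e3 q28983 (flp_h L816775) q29698, e3 q28984 L808042 q27912, e3 q28985 L808054 q27911, e3 q28986 L808062 q27910, e3 q28987 (flp_h L817920) q29853, e3 q28988 L817922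 q29854, e3 q28989 (flp_h L808078) q27913, e3 q28990 (flp_h L817797) q29834, e3 q28991 (flp_h L817803) q29835, trivial⟩ (by decide +kernel)

theorem ce_h_453 : ∀ r, r < 64 → sm gh (Qf (28992 + r)) = Qf (tab Gen.h (28992 + r)) :=
  edges_tab (sm gh) Qf (tab Gen.h) 28992 [(28992, 29836), (28993, 27925), (28994, 29840), (28995, 29697), (28996, 28752), (28997, 28753), (28998, 28007), (28999, 28159), (29000, 28035), (29001, 29859), (29002, 27936), (29003, 28880), (29004, 28977), (29005, 28196), (29006, 28198), (29007, 29862), (29008, 28512), (29009, 27947), (29010, 28879), (29011, 27978), (29012, 27979), (29013, 27980), (29014, 28324), (29015, 28325), (29016, 28326), (29017, 28569), (29018, 29018), (29019, 29019), (29020, 27962), (29021, 27963), (29022, 27964), (29023, 28314), (29024, 28315), (29025, 28316), (29026, 29873), (29027, 29874), (29028, 29876), (29029, 29877), (29030, 27989), (29031, 27990), (29032, 29888), (29033, 28062), (29034, 27972), (29035, 27973), (29036, 27974), (29037, 29889), (29038, 29890), (29039, 29892),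 (29040, 29893), (29041, 28397), (29042, 28398), (29043, 28399), (29044, 29864), (29045, 29865), (29046, 29903), (29047, 28021), (29048, 28022), (29049, 28023), (29050, 27986), (29051, 27987), (29052, 28140), (29053, 27988), (29054, 29908), (29055, 29910)]
    ⟨e3 q28992 (flp_h L817813) q29836, e3 q28993 L808110 q27925, e3 q28994 (flp_h L817842) q29840, e3 q28995 (flp_h L816763) q29697, e3 q28996 L808138 q28752, e3 q28997 L808154 q28753, e3 q28998 L808176 q28007, e3 q28999 L808196 q28159, e3 q29000 L808214 q28035, e3 q29001 L817980 q29859, e3 q29002 (flp_h L808234) q27936, e3 q29003 L808266 q28880, e3 q29004 L808280 q28977, e3 q29005 L808300 q28196, e3 q29006 L808318 q28198, e3 q29007 L818034 q29862, e3 q29008 (flp_h L808356) q28512, e3 q29009 (flp_h L808358) q27947, e3 q29010 L808386 q28879, e3 q29011 L808398 q27978, e3 q29012 L808414 q27979, e3 q29013 L808432 q27980, e3 q29014 L808448 q28324, e3 q29015 L808464 q28325, e3 q29016 L808478 q28326, e3 q29017 (flp_h L808498) q28569, e3 q29018 L808510 q29018, e3 q29019 L808525 q29019,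 e3 q29020 L808542 q27962, e3 q29021 L808558 q27963, e3 q29022 L808571 q27964, e3 q29023 L808587 q28314, e3 q29024 L808603 q28315, e3 q29025 L808616 q28316, e3 q29026 (flp_h L818225) q29873, e3 q29027 (flp_h L818241) q29874, e3 q29028 (flp_h L818268) q29876, e3 q29029 (flp_h L818283) q29877, e3 q29030 L808676 q27989, e3 q29031 L808690 q27990, e3 q29032 L818429 q29888, e3 q29033 L808721 q28062, e3 q29034 L808737 q27972, e3 q29035 L808753 q27973, e3 q29036 L808766 q27974, e3 q29037 (flp_h L818452) q29889, e3 q29038 (flp_h L818468) q29890, e3 q29039 (flp_h L818499) q29892, e3 q29040 (flp_h L818514) q29893, e3 q29041 L808842 q28397, e3 q29042 L808858 q28398, e3 q29043 L808872 q28399, e3 q29044 (flp_h L818078) q29864, e3 q29045 (flp_h L818094) q29865, e3 q29046 L818662 q29903, e3 q29047 L808930 q28021, e3 q29048 L808946 q28022, e3 q29049 L808959 q28023, e3 q29050 L808975 q27986, e3 q29051 L808987 q27987, e3 q29052 L808996 q28140, e3 q29053 L809004 q27988, e3 q29054 (flp_h L818749) q29908, e3 q29055 (flp_h L818765) q29910, trivial⟩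 (by decide +kernel)

theorem ce_h_454 : ∀ r, r < 64 → sm gh (Qf (29056 + r)) = Qf (tab Gen.h (29056 + r)) :=
  edges_tab (sm gh) Qf (tab Gen.h) 29056 [(29056, 29886), (29057, 29914), (29058, 27991), (29059, 29916), (29060, 27994), (29061, 28042), (29062, 28816), (29063, 28817), (29064, 28568), (29065, 28819), (29066, 28730), (29067, 28820), (29068, 28821), (29069, 28728), (29070, 28357), (29071, 28358), (29072, 28572), (29073, 28294), (29074, 28898), (29075, 28571), (29076, 28103), (29077, 28104), (29078, 28014), (29079, 28015), (29080, 29929), (29081, 28096), (29082, 28097), (29083, 28098), (29084, 28028), (29085, 28029), (29086, 29938), (29087, 28031), (29088, 29904), (29089, 29905), (29090, 29907), (29091, 28680), (29092, 28032), (29093, 28033), (29094, 28034), (29095, 29934), (29096, 29946), (29097, 29936), (29098, 28030), (29099, 29942), (29100, 29943), (29101, 29949), (29102, 28036), (29103, 29915), (29104, 28109), (29105, 28447), (29106, 28878), (29107, 28207), (29108, 28208), (29109, 28228), (29110, 28916), (29111,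 28917), (29112, 28055), (29113, 28056), (29114, 28855), (29115, 29956), (29116, 28908), (29117, 28067), (29118, 28068), (29119, 28807)]
    ⟨e3 q29056 (flp_h L818413) q29886, e3 q29057 L818816 q29914, e3 q29058 (flp_h L809066) q27991, e3 q29059 L818844 q29916, e3 q29060 (flp_h L809094) q27994, e3 q29061 L809124 q28042, e3 q29062 L809136 q28816, e3 q29063 L809150 q28817, e3 q29064 (flp_h L809168) q28568, e3 q29065 L809180 q28819, e3 q29066 L809196 q28730, e3 q29067 L809214 q28820, e3 q29068 L809228 q28821, e3 q29069 L809238 q28728, e3 q29070 L809254 q28357, e3 q29071 L809268 q28358, e3 q29072 L809280 q28572, e3 q29073 L809294 q28294, e3 q29074 L809310 q28898, e3 q29075 (flp_h L809324) q28571, e3 q29076 L809336 q28103, e3 q29077 L809352 q28104, e3 q29078 L809372 q28014, e3 q29079 L809386 q28015, e3 q29080 (flp_h L819057) q29929, e3 q29081 L809420 q28096, e3 q29082 L809436 q28097, e3 q29083 L809449 q28098, e3 q29084 L809469 q28028, e3 q29085 L809483 q28029, e3 q29086 L819177 q29938, e3 q29087 L809504 q28031, e3 q29088 (flp_h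 L818688) q29904, e3 q29089 (flp_h L818704) q29905, e3 q29090 (flp_h L818731) q29907, e3 q29091 L809556 q28680, e3 q29092 L809574 q28032, e3 q29093 L809588 q28033, e3 q29094 L809600 q28034, e3 q29095 (flp_h L819136) q29934, e3 q29096 L819298 q29946, e3 q29097 (flp_h L819156) q29936, e3 q29098 (flp_h L809646) q28030, e3 q29099 (flp_h L819248) q29942, e3 q29100 (flp_h L819260) q29943, e3 q29101 L819346 q29949, e3 q29102 (flp_h L809696) q28036, e3 q29103 (flp_h L818842) q29915, e3 q29104 L809733 q28109, e3 q29105 L809749 q28447, e3 q29106 L809765 q28878, e3 q29107 L809781 q28207, e3 q29108 L809797 q28208, e3 q29109 L809813 q28228, e3 q29110 L809829 q28916, e3 q29111 L809843 q28917, e3 q29112 L809863 q28055, e3 q29113 L809879 q28056, e3 q29114 L809900 q28855, e3 q29115 (flp_h L819467) q29956, e3 q29116 L809930 q28908, e3 q29117 L809950 q28067, e3 q29118 L809966 q28068, e3 q29119 L809987 q28807, trivial⟩ (by decide +kernel)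

theorem ce_h_455 : ∀ r, r < 64 → sm gh (Qf (29120 + r)) = Qf (tab Gen.h (29120 + r)) :=
  edges_tab (sm gh) Qf (tab Gen.h) 29120 [(29120, 28065), (29121, 28066), (29122, 28966), (29123, 29960), (29124, 29958), (29125, 28414), (29126, 28415), (29127, 29964), (29128, 28243), (29129, 28244), (29130, 28906), (29131, 28562), (29132, 28563), (29133, 28564), (29134, 28085), (29135, 28086), (29136, 28087), (29137, 28694), (29138, 28406), (29139, 28429), (29140, 29969), (29141, 29970), (29142, 29972), (29143, 29973), (29144, 28125), (29145, 28126), (29146, 28127), (29147, 28128), (29148, 28129), (29149, 29988), (29150, 28678), (29151, 28679), (29152, 29930), (29153, 29931), (29154, 29994), (29155, 29933), (29156, 28099), (29157, 28106), (29158, 28107), (29159, 29875), (29160, 28108), (29161, 29927), (29162, 29928), (29163, 30003), (29164, 28530), (29165, 29995), (29166, 29997), (29167, 29947), (29168, 28149), (29169, 30008), (29170, 28112), (29171, 28588), (29172, 28589), (29173, 28408), (29174, 28603), (29175, 28604), (29176, 30016),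 (29177, 28948), (29178, 28949), (29179, 28122), (29180, 28123), (29181, 29891), (29182, 30018), (29183, 28686)]
    ⟨e3 q29120 L810001 q28065, e3 q29121 L810017 q28066, e3 q29122 L810038 q28966, e3 q29123 (flp_h L819535) q29960, e3 q29124 (flp_h L819501) q29958, e3 q29125 L810086 q28414, e3 q29126 L810098 q28415, e3 q29127 L819583 q29964, e3 q29128 L810127 q28243, e3 q29129 L810143 q28244, e3 q29130 L810161 q28906, e3 q29131 L810179 q28562, e3 q29132 L810195 q28563, e3 q29133 L810209 q28564, e3 q29134 L810225 q28085, e3 q29135 L810241 q28086, e3 q29136 L810254 q28087, e3 q29137 L810270 q28694, e3 q29138 L810286 q28406, e3 q29139 L810299 q28429, e3 q29140 (flp_h L819676) q29969, e3 q29141 (flp_h L819692) q29970, e3 q29142 (flp_h L819719) q29972, e3 q29143 (flp_h L819734) q29973, e3 q29144 L810361 q28125, e3 q29145 L810377 q28126, e3 q29146 L810390 q28127, e3 q29147 L810406 q28128, e3 q29148 L810420 q28129, e3 q29149 L819941 q29988, e3 q29150 L810443 q28678, e3 q29151 L810459 q28679, e3 q29152 (flp_h L819075) q29930, e3 q29153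 (flp_h L819091) q29931, e3 q29154 L820018 q29994, e3 q29155 (flp_h L819116) q29933, e3 q29156 (flp_h L810501) q28099, e3 q29157 L810518 q28106, e3 q29158 L810530 q28107, e3 q29159 (flp_h L818258) q29875, e3 q29160 L810551 q28108, e3 q29161 (flp_h L819021) q29927, e3 q29162 (flp_h L819037) q29928, e3 q29163 L820108 q30003, e3 q29164 L810594 q28530, e3 q29165 (flp_h L820036) q29995, e3 q29166 (flp_h L820054) q29997, e3 q29167 (flp_h L819326) q29947, e3 q29168 L810634 q28149, e3 q29169 L820158 q30008, e3 q29170 (flp_h L810646) q28112, e3 q29171 L810665 q28588, e3 q29172 L810681 q28589, e3 q29173 L810694 q28408, e3 q29174 L810710 q28603, e3 q29175 L810722 q28604, e3 q29176 L820266 q30016, e3 q29177 L810747 q28948, e3 q29178 L810761 q28949, e3 q29179 L810777 q28122, e3 q29180 L810791 q28123, e3 q29181 (flp_h L818485) q29891, e3 q29182 (flp_h L820303) q30018, e3 q29183 L810826 q28686, trivial⟩ (by decide +kernel)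

theorem ce_h_456 : ∀ r, r < 64 → sm gh (Qf (29184 + r)) = Qf (tab Gen.h (29184 + r)) :=
  edges_tab (sm gh) Qf (tab Gen.h) 29184 [(29184, 29982), (29185, 29983), (29186, 29985), (29187, 29986), (29188, 30024), (29189, 28130), (29190, 28133), (29191, 28134), (29192, 28932), (29193, 30025), (29194, 28142), (29195, 28187), (29196, 28188), (29197, 28803), (29198, 28143), (29199, 29909), (29200, 28144), (29201, 29911), (29202, 30030), (29203, 28582), (29204, 28583), (29205, 28951), (29206, 30035), (29207, 28150), (29208, 28202), (29209, 28275), (29210, 28276), (29211, 28296), (29212, 28297), (29213, 30044), (29214, 28299), (29215, 28905), (29216, 30047), (29217, 28161), (29218, 28741), (29219, 28186), (29220, 28742), (29221, 28179), (29222, 28602), (29223, 28200), (29224, 28289), (29225, 28252), (29226, 28300), (29227, 28301), (29228, 28570), (29229, 28553), (29230, 28178), (29231, 30050), (29232, 28626), (29233, 28627), (29234, 28185), (29235, 30049), (29236, 30027), (29237, 28194), (29238, 28195), (29239, 28499), (29240, 30056),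 (29241, 28911), (29242, 30051), (29243, 28199), (29244, 30036), (29245, 28431), (29246, 28463), (29247, 29952)]
    ⟨e3 q29184 (flp_h L819868) q29982, e3 q29185 (flp_h L819884) q29983, e3 q29186 (flp_h L819911) q29985, e3 q29187 (flp_h L819929) q29986, e3 q29188 L820379 q30024, e3 q29189 (flp_h L810898) q28130, e3 q29190 L810924 q28133, e3 q29191 L810940 q28134, e3 q29192 L810961 q28932, e3 q29193 (flp_h L820405) q30025, e3 q29194 L810991 q28142, e3 q29195 L811009 q28187, e3 q29196 L811025 q28188, e3 q29197 L811046 q28803, e3 q29198 L811054 q28143, e3 q29199 (flp_h L818757) q29909, e3 q29200 L811070 q28144, e3 q29201 (flp_h L818780) q29911, e3 q29202 (flp_h L820477) q30030, e3 q29203 L811117 q28582, e3 q29204 L811133 q28583, e3 q29205 L811151 q28951, e3 q29206 L820535 q30035, e3 q29207 (flp_h L811173) q28150, e3 q29208 L811195 q28202, e3 q29209 L811207 q28275, e3 q29210 L811223 q28276, e3 q29211 L811239 q28296, e3 q29212 L811251 q28297, e3 q29213 L820661 q30044, e3 q29214 L811270 q28299, e3 q29215 L811284 q28905, e3 q29216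 L820693 q30047, e3 q29217 (flp_h L811296) q28161, e3 q29218 L811317 q28741, e3 q29219 L811333 q28186, e3 q29220 L811349 q28742, e3 q29221 L811361 q28179, e3 q29222 L811377 q28602, e3 q29223 L811389 q28200, e3 q29224 L811403 q28289, e3 q29225 L811419 q28252, e3 q29226 L811437 q28300, e3 q29227 L811451 q28301, e3 q29228 (flp_h L811465) q28570, e3 q29229 L811477 q28553, e3 q29230 L811497 q28178, e3 q29231 (flp_h L820744) q30050, e3 q29232 L811531 q28626, e3 q29233 L811547 q28627, e3 q29234 L811565 q28185, e3 q29235 (flp_h L820724) q30049, e3 q29236 (flp_h L820439) q30027, e3 q29237 L811611 q28194, e3 q29238 L811627 q28195, e3 q29239 L811649 q28499, e3 q29240 (flp_h L820852) q30056, e3 q29241 L811679 q28911, e3 q29242 (flp_h L820762) q30051, e3 q29243 (flp_h L811697) q28199, e3 q29244 (flp_h L820559) q30036, e3 q29245 L811731 q28431, e3 q29246 L811751 q28463, e3 q29247 (flp_h L819398) q29952, trivial⟩ (by decide +kernel)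

theorem ce_h_457 : ∀ r, r < 64 → sm gh (Qf (29248 + r)) = Qf (tab Gen.h (29248 + r)) :=
  edges_tab (sm gh) Qf (tab Gen.h) 29248 [(29248, 29953), (29249, 28919), (29250, 28920), (29251, 28434), (29252, 28455), (29253, 28435), (29254, 28222), (29255, 28223), (29256, 28224), (29257, 28386), (29258, 28387), (29259, 28388), (29260, 30060), (29261, 30061), (29262, 30063), (29263, 28239), (29264, 28240), (29265, 28634), (29266, 28500), (29267, 28501), (29268, 28234), (29269, 28235), (29270, 28355), (29271, 28236), (29272, 30073), (29273, 30075), (29274, 28914), (29275, 28915), (29276, 30070), (29277, 28633), (29278, 29965), (29279, 28247), (29280, 28515), (29281, 28458), (29282, 30052), (29283, 28256), (29284, 30080), (29285, 28259), (29286, 28260), (29287, 30081), (29288, 28274), (29289, 28266), (29290, 28267), (29291, 28268), (29292, 28648), (29293, 28649), (29294, 28650), (29295, 30082), (29296, 30083), (29297, 30085), (29298, 30086), (29299, 28284), (29300, 28285), (29301, 30097), (29302, 28632), (29303, 30037), (29304, 30038),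 (29305, 28281), (29306, 28282), (29307, 29954), (29308, 28283), (29309, 28658), (29310, 30099), (29311, 30101)]
    ⟨e3 q29248 (flp_h L819414) q29953, e3 q29249 L811801 q28919, e3 q29250 L811817 q28920, e3 q29251 L811839 q28434, e3 q29252 L811857 q28455, e3 q29253 L811875 q28435, e3 q29254 L811891 q28222, e3 q29255 L811907 q28223, e3 q29256 L811920 q28224, e3 q29257 L811938 q28386, e3 q29258 L811954 q28387, e3 q29259 L811967 q28388, e3 q29260 (flp_h L820922) q30060, e3 q29261 (flp_h L820938) q30061, e3 q29262 (flp_h L820965) q30063, e3 q29263 L812015 q28239, e3 q29264 L812029 q28240, e3 q29265 L812046 q28634, e3 q29266 L812060 q28500, e3 q29267 L812076 q28501, e3 q29268 L812094 q28234, e3 q29269 L812108 q28235, e3 q29270 L812121 q28355, e3 q29271 L812131 q28236, e3 q29272 (flp_h L821120) q30073, e3 q29273 (flp_h L821144) q30075, e3 q29274 L812177 q28914, e3 q29275 L812193 q28915, e3 q29276 (flp_h L821072) q30070, e3 q29277 (flp_h L812225) q28633, e3 q29278 (flp_h L819610) q29965, e3 q29279 L812253 q28247, e3 q29280 L812273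 q28515, e3 q29281 L812289 q28458, e3 q29282 (flp_h L820778) q30052, e3 q29283 L812321 q28256, e3 q29284 (flp_h L821239) q30080, e3 q29285 L812353 q28259, e3 q29286 L812367 q28260, e3 q29287 (flp_h L821255) q30081, e3 q29288 L812399 q28274, e3 q29289 L812415 q28266, e3 q29290 L812431 q28267, e3 q29291 L812444 q28268, e3 q29292 L812460 q28648, e3 q29293 L812476 q28649, e3 q29294 L812489 q28650, e3 q29295 (flp_h L821275) q30082, e3 q29296 (flp_h L821291) q30083, e3 q29297 (flp_h L821318) q30085, e3 q29298 (flp_h L821333) q30086, e3 q29299 L812557 q28284, e3 q29300 L812571 q28285, e3 q29301 L821485 q30097, e3 q29302 L812600 q28632, e3 q29303 (flp_h L820573) q30037, e3 q29304 (flp_h L820589) q30038, e3 q29305 L812646 q28281, e3 q29306 L812658 q28282, e3 q29307 (flp_h L819435) q29954, e3 q29308 L812677 q28283, e3 q29309 L812697 q28658, e3 q29310 (flp_h L821526) q30099, e3 q29311 (flp_h L821544) q30101, trivial⟩ (by decide +kernel)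

theorem ce_h_458 : ∀ r, r < 64 → sm gh (Qf (29312 + r)) = Qf (tab Gen.h (29312 + r)) :=
  edges_tab (sm gh) Qf (tab Gen.h) 29312 [(29312, 30095), (29313, 30105), (29314, 28286), (29315, 28306), (29316, 28511), (29317, 28661), (29318, 29925), (29319, 28663), (29320, 30040), (29321, 30111), (29322, 30042), (29323, 28298), (29324, 30053), (29325, 30113), (29326, 28303), (29327, 30106), (29328, 28488), (29329, 28310), (29330, 28506), (29331, 28507), (29332, 30115), (29333, 28342), (29334, 28343), (29335, 30102), (29336, 29878), (29337, 29879), (29338, 30125), (29339, 29881), (29340, 29882), (29341, 30091), (29342, 28317), (29343, 28560), (29344, 28327), (29345, 28328), (29346, 30062), (29347, 28329), (29348, 28330), (29349, 29867), (29350, 29868), (29351, 30137), (29352, 29870), (29353, 29871), (29354, 30128), (29355, 30130), (29356, 30132), (29357, 29978), (29358, 28363), (29359, 30144), (29360, 28334), (29361, 28373), (29362, 28374), (29363, 28340), (29364, 28341), (29365, 28921), (29366, 30148), (29367, 30119), (29368, 28347),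 (29369, 28348), (29370, 28735), (29371, 28349), (29372, 30150), (29373, 30152), (29374, 28404), (29375, 28405)]
    ⟨e3 q29312 (flp_h L821469) q30095, e3 q29313 L821599 q30105, e3 q29314 (flp_h L812753) q28286, e3 q29315 L812782 q28306, e3 q29316 L812796 q28511, e3 q29317 L812812 q28661, e3 q29318 (flp_h L818989) q29925, e3 q29319 L812840 q28663, e3 q29320 (flp_h L820622) q30040, e3 q29321 L821703 q30111, e3 q29322 (flp_h L820640) q30042, e3 q29323 (flp_h L812890) q28298, e3 q29324 (flp_h L820798) q30053, e3 q29325 L821733 q30113, e3 q29326 (flp_h L812926) q28303, e3 q29327 (flp_h L821627) q30106, e3 q29328 L812965 q28488, e3 q29329 L812977 q28310, e3 q29330 L812993 q28506, e3 q29331 L813009 q28507, e3 q29332 (flp_h L821771) q30115, e3 q29333 L813033 q28342, e3 q29334 L813045 q28343, e3 q29335 (flp_h L821559) q30102, e3 q29336 (flp_h L818303) q29878, e3 q29337 (flp_h L818319) q29879, e3 q29338 L821882 q30125, e3 q29339 (flp_h L818344) q29881, e3 q29340 (flp_h L818359) q29882, e3 q29341 (flp_h L821409) q30091, e3 q29342 (flp_h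 L813116) q28317, e3 q29343 L813135 q28560, e3 q29344 L813147 q28327, e3 q29345 L813155 q28328, e3 q29346 (flp_h L820955) q30062, e3 q29347 L813168 q28329, e3 q29348 L813173 q28330, e3 q29349 (flp_h L818127) q29867, e3 q29350 (flp_h L818143) q29868, e3 q29351 L821992 q30137, e3 q29352 (flp_h L818171) q29870, e3 q29353 (flp_h L818187) q29871, e3 q29354 (flp_h L821928) q30128, e3 q29355 (flp_h L821942) q30130, e3 q29356 (flp_h L821953) q30132, e3 q29357 (flp_h L819812) q29978, e3 q29358 L813267 q28363, e3 q29359 L822058 q30144, e3 q29360 (flp_h L813279) q28334, e3 q29361 L813298 q28373, e3 q29362 L813314 q28374, e3 q29363 L813328 q28340, e3 q29364 L813342 q28341, e3 q29365 L813353 q28921, e3 q29366 (flp_h L822123) q30148, e3 q29367 (flp_h L821830) q30119, e3 q29368 L813387 q28347, e3 q29369 L813401 q28348, e3 q29370 L813414 q28735, e3 q29371 L813428 q28349, e3 q29372 (flp_h L822147) q30150, e3 q29373 (flp_h L822173) q30152, e3 q29374 L813470 q28404, e3 q29375 L813480 q28405, trivial⟩ (by decide +kernel)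

theorem ce_h_459 : ∀ r, r < 64 → sm gh (Qf (29376 + r)) = Qf (tab Gen.h (29376 + r)) :=
  edges_tab (sm gh) Qf (tab Gen.h) 29376 [(29376, 29976), (29377, 28407), (29378, 28359), (29379, 30074), (29380, 28360), (29381, 30076), (29382, 29923), (29383, 30159), (29384, 28822), (29385, 30163), (29386, 28364), (29387, 28426), (29388, 28635), (29389, 28486), (29390, 28487), (29391, 28377), (29392, 28378), (29393, 30043), (29394, 30146), (29395, 30147), (29396, 28379), (29397, 30167), (29398, 28382), (29399, 28392), (29400, 28393), (29401, 28896), (29402, 28394), (29403, 30064), (29404, 30065), (29405, 30067), (29406, 28395), (29407, 28396), (29408, 30170), (29409, 30172), (29410, 30175), (29411, 29897), (29412, 29898), (29413, 30181), (29414, 29900), (29415, 28416), (29416, 30186), (29417, 28418), (29418, 30039), (29419, 28402), (29420, 30154), (29421, 29975), (29422, 30156), (29423, 29977), (29424, 30013), (29425, 28936), (29426, 28420), (29427, 28516), (29428, 28421), (29429, 28510), (29430, 28513), (29431, 29962), (29432, 30198),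 (29433, 30183), (29434, 28417), (29435, 28593), (29436, 30194), (29437, 28424), (29438, 30164), (29439, 28531)]
    ⟨e3 q29376 (flp_h L819787) q29976, e3 q29377 L813495 q28407, e3 q29378 L813505 q28359, e3 q29379 (flp_h L821134) q30074, e3 q29380 L813517 q28360, e3 q29381 (flp_h L821161) q30076, e3 q29382 (flp_h L818963) q29923, e3 q29383 (flp_h L822240) q30159, e3 q29384 L813552 q28822, e3 q29385 L822262 q30163, e3 q29386 (flp_h L813564) q28364, e3 q29387 L813580 q28426, e3 q29388 L813590 q28635, e3 q29389 L813606 q28486, e3 q29390 L813622 q28487, e3 q29391 L813636 q28377, e3 q29392 L813646 q28378, e3 q29393 L820659 q30043, e3 q29394 (flp_h L822091) q30146, e3 q29395 (flp_h L822107) q30147, e3 q29396 L813689 q28379, e3 q29397 (flp_h L822320) q30167, e3 q29398 L813711 q28382, e3 q29399 L813725 q28392, e3 q29400 L813737 q28393, e3 q29401 L813748 q28896, e3 q29402 L813758 q28394, e3 q29403 (flp_h L820985) q30064, e3 q29404 (flp_h L821001) q30065, e3 q29405 (flp_h L821032) q30067, e3 q29406 L813812 q28395, e3 q29407 L813826 q28396,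 e3 q29408 (flp_h L822354) q30170, e3 q29409 (flp_h L822374) q30172, e3 q29410 (flp_h L822418) q30175, e3 q29411 (flp_h L818580) q29897, e3 q29412 (flp_h L818596) q29898, e3 q29413 L822469 q30181, e3 q29414 (flp_h L818626) q29900, e3 q29415 L813905 q28416, e3 q29416 L822499 q30186, e3 q29417 L813917 q28418, e3 q29418 (flp_h L820610) q30039, e3 q29419 (flp_h L813926) q28402, e3 q29420 (flp_h L822203) q30154, e3 q29421 (flp_h L819770) q29975, e3 q29422 (flp_h L822219) q30156, e3 q29423 (flp_h L819797) q29977, e3 q29424 (flp_h L820234) q30013, e3 q29425 L813993 q28936, e3 q29426 L813999 q28420, e3 q29427 L814011 q28516, e3 q29428 L814019 q28421, e3 q29429 L814033 q28510, e3 q29430 L814045 q28513, e3 q29431 (flp_h L819567) q29962, e3 q29432 L822637 q30198, e3 q29433 (flp_h L822484) q30183, e3 q29434 (flp_h L814075) q28417, e3 q29435 L814089 q28593, e3 q29436 (flp_h L822593) q30194, e3 q29437 (flp_h L814099) q28424, e3 q29438 (flp_h L822278) q30164, e3 q29439 L814123 q28531, trivial⟩ (by decide +kernel)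

theorem ce_h_460 : ∀ r, r < 64 → sm gh (Qf (29440 + r)) = Qf (tab Gen.h (29440 + r)) :=
  edges_tab (sm gh) Qf (tab Gen.h) 29440 [(29440, 28975), (29441, 28448), (29442, 28449), (29443, 28832), (29444, 28867), (29445, 28868), (29446, 28450), (29447, 28860), (29448, 28464), (29449, 28465), (29450, 28628), (29451, 30201), (29452, 28899), (29453, 28938), (29454, 28909), (29455, 28459), (29456, 28857), (29457, 30206), (29458, 28469), (29459, 28976), (29460, 28489), (29461, 28490), (29462, 30215), (29463, 28825), (29464, 28826), (29465, 30220), (29466, 28616), (29467, 28614), (29468, 28827), (29469, 28709), (29470, 28660), (29471, 28492), (29472, 30226), (29473, 28482), (29474, 28924), (29475, 28925), (29476, 28950), (29477, 30165), (29478, 30166), (29479, 30232), (29480, 30112), (29481, 30213), (29482, 30234), (29483, 28491), (29484, 30235), (29485, 28493), (29486, 28495), (29487, 28864), (29488, 28865), (29489, 28918), (29490, 30072), (29491, 28923), (29492, 28508), (29493, 28509), (29494, 30187), (29495, 30116), (29496, 30117),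 (29497, 30197), (29498, 30240), (29499, 30195), (29500, 29861), (29501, 30196), (29502, 28893), (29503, 30193)]
    ⟨e3 q29440 L814136 q28975, e3 q29441 L814152 q28448, e3 q29442 L814162 q28449, e3 q29443 L814177 q28832, e3 q29444 L814187 q28867, e3 q29445 L814197 q28868, e3 q29446 L814207 q28450, e3 q29447 L814217 q28860, e3 q29448 L814229 q28464, e3 q29449 L814243 q28465, e3 q29450 L814262 q28628, e3 q29451 (flp_h L822669) q30201, e3 q29452 L814286 q28899, e3 q29453 L814298 q28938, e3 q29454 L814310 q28909, e3 q29455 (flp_h L814312) q28459, e3 q29456 L814338 q28857, e3 q29457 (flp_h L822724) q30206, e3 q29458 L814356 q28469, e3 q29459 L814374 q28976, e3 q29460 L814386 q28489, e3 q29461 L814398 q28490, e3 q29462 L822836 q30215, e3 q29463 L814423 q28825, e3 q29464 L814435 q28826, e3 q29465 L822894 q30220, e3 q29466 L814454 q28616, e3 q29467 L814467 q28614, e3 q29468 L814483 q28827, e3 q29469 L814497 q28709, e3 q29470 L814507 q28660, e3 q29471 L814519 q28492, e3 q29472 L822960 q30226, e3 q29473 (flp_h L814529) q28482, e3 q29474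 L814548 q28924, e3 q29475 L814562 q28925, e3 q29476 L814581 q28950, e3 q29477 (flp_h L822292) q30165, e3 q29478 (flp_h L822308) q30166, e3 q29479 L823026 q30232, e3 q29480 (flp_h L821731) q30112, e3 q29481 (flp_h L822822) q30213, e3 q29482 L823050 q30234, e3 q29483 (flp_h L814647) q28491, e3 q29484 L823060 q30235, e3 q29485 (flp_h L814671) q28493, e3 q29486 (flp_h L814679) q28495, e3 q29487 L814698 q28864, e3 q29488 L814712 q28865, e3 q29489 L814731 q28918, e3 q29490 (flp_h L821102) q30072, e3 q29491 L814749 q28923, e3 q29492 L814759 q28508, e3 q29493 L814773 q28509, e3 q29494 (flp_h L822514) q30187, e3 q29495 (flp_h L821789) q30116, e3 q29496 (flp_h L821805) q30117, e3 q29497 (flp_h L822633) q30197, e3 q29498 (flp_h L823131) q30240, e3 q29499 (flp_h L822607) q30195, e3 q29500 L818032 q29861, e3 q29501 (flp_h L822619) q30196, e3 q29502 L814868 q28893, e3 q29503 (flp_h L822585) q30193, trivial⟩ (by decide +kernel)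

theorem ce_h_461 : ∀ r, r < 64 → sm gh (Qf (29504 + r)) = Qf (tab Gen.h (29504 + r)) :=
  edges_tab (sm gh) Qf (tab Gen.h) 29504 [(29504, 28856), (29505, 28782), (29506, 28783), (29507, 30249), (29508, 28525), (29509, 30252), (29510, 28523), (29511, 30253), (29512, 28526), (29513, 28528), (29514, 30001), (29515, 28601), (29516, 28843), (29517, 28844), (29518, 29937), (29519, 28590), (29520, 28591), (29521, 30259), (29522, 28594), (29523, 30262), (29524, 28541), (29525, 28755), (29526, 28756), (29527, 30268), (29528, 28757), (29529, 28545), (29530, 28720), (29531, 28552), (29532, 28972), (29533, 28973), (29534, 28969), (29535, 28784), (29536, 30054), (29537, 30275), (29538, 28944), (29539, 28721), (29540, 28554), (29541, 28613), (29542, 28565), (29543, 28566), (29544, 30127), (29545, 29966), (29546, 29967), (29547, 30282), (29548, 29968), (29549, 29872), (29550, 30277), (29551, 30288), (29552, 29918), (29553, 28818), (29554, 28567), (29555, 29869), (29556, 29926), (29557, 29924), (29558, 28606), (29559, 30293), (29560, 28575),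 (29561, 30296), (29562, 30297), (29563, 28577), (29564, 30145), (29565, 28953), (29566, 28954), (29567, 28858)]
    ⟨e3 q29504 L814894 q28856, e3 q29505 L814906 q28782, e3 q29506 L814920 q28783, e3 q29507 L823227 q30249, e3 q29508 L814943 q28525, e3 q29509 L823251 q30252, e3 q29510 (flp_h L814953) q28523, e3 q29511 L823259 q30253, e3 q29512 (flp_h L814974) q28526, e3 q29513 (flp_h L814982) q28528, e3 q29514 (flp_h L820093) q30001, e3 q29515 L815002 q28601, e3 q29516 L815018 q28843, e3 q29517 L815032 q28844, e3 q29518 L819175 q29937, e3 q29519 L815053 q28590, e3 q29520 L815061 q28591, e3 q29521 L823315 q30259, e3 q29522 L815076 q28594, e3 q29523 L823335 q30262, e3 q29524 (flp_h L815084) q28541, e3 q29525 L815101 q28755, e3 q29526 L815115 q28756, e3 q29527 L823402 q30268, e3 q29528 L815135 q28757, e3 q29529 L815145 q28545, e3 q29530 L815161 q28720, e3 q29531 L815177 q28552, e3 q29532 L815191 q28972, e3 q29533 L815201 q28973, e3 q29534 L815208 q28969, e3 q29535 L815216 q28784, e3 q29536 (flp_h L820812) q30054, e3 q29537 L823474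 q30275, e3 q29538 L815240 q28944, e3 q29539 (flp_h L815252) q28721, e3 q29540 (flp_h L815254) q28554, e3 q29541 L815274 q28613, e3 q29542 L815287 q28565, e3 q29543 L815301 q28566, e3 q29544 (flp_h L821916) q30127, e3 q29545 (flp_h L819630) q29966, e3 q29546 (flp_h L819646) q29967, e3 q29547 L823547 q30282, e3 q29548 (flp_h L819658) q29968, e3 q29549 (flp_h L818205) q29872, e3 q29550 (flp_h L823508) q30277, e3 q29551 L823593 q30288, e3 q29552 L818889 q29918, e3 q29553 (flp_h L815388) q28818, e3 q29554 (flp_h L815390) q28567, e3 q29555 L818161 q29869, e3 q29556 L819007 q29926, e3 q29557 (flp_h L818975) q29924, e3 q29558 L815425 q28606, e3 q29559 L823634 q30293, e3 q29560 (flp_h L815437) q28575, e3 q29561 L823659 q30296, e3 q29562 L823667 q30297, e3 q29563 (flp_h L815453) q28577, e3 q29564 (flp_h L822077) q30145, e3 q29565 L815476 q28953, e3 q29566 L815486 q28954, e3 q29567 L815499 q28858, trivial⟩ (by decide +kernel)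

theorem ce_h_462 : ∀ r, r < 64 → sm gh (Qf (29568 + r)) = Qf (tab Gen.h (29568 + r)) :=
  edges_tab (sm gh) Qf (tab Gen.h) 29568 [(29568, 30034), (29569, 30303), (29570, 28584), (29571, 28808), (29572, 30010), (29573, 30011), (29574, 30276), (29575, 30257), (29576, 30309), (29577, 30199), (29578, 28592), (29579, 30312), (29580, 30218), (29581, 28595), (29582, 28668), (29583, 28685), (29584, 30014), (29585, 30315), (29586, 28605), (29587, 30316), (29588, 28607), (29589, 28712), (29590, 30318), (29591, 28609), (29592, 28610), (29593, 28716), (29594, 30221), (29595, 28722), (29596, 28683), (29597, 28654), (29598, 28848), (29599, 28849), (29600, 30066), (29601, 30055), (29602, 30207), (29603, 28640), (29604, 28639), (29605, 30079), (29606, 30071), (29607, 30331), (29608, 30332), (29609, 28636), (29610, 30326), (29611, 28651), (29612, 28652), (29613, 30162), (29614, 28851), (29615, 28655), (29616, 30337), (29617, 28646), (29618, 30087), (29619, 30088), (29620, 30090), (29621, 30333), (29622, 30344), (29623, 30321), (29624, 30345),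 (29625, 28653), (29626, 30347), (29627, 28656), (29628, 28835), (29629, 28913), (29630, 30223), (29631, 30351)]
    ⟨e3 q29568 (flp_h L820527) q30034, e3 q29569 L823719 q30303, e3 q29570 (flp_h L815517) q28584, e3 q29571 L815546 q28808, e3 q29572 (flp_h L820193) q30010, e3 q29573 (flp_h L820209) q30011, e3 q29574 (flp_h L823496) q30276, e3 q29575 (flp_h L823305) q30257, e3 q29576 L823791 q30309, e3 q29577 (flp_h L822651) q30199, e3 q29578 (flp_h L815612) q28592, e3 q29579 L823823 q30312, e3 q29580 (flp_h L822877) q30218, e3 q29581 (flp_h L815646) q28595, e3 q29582 L815666 q28668, e3 q29583 L815678 q28685, e3 q29584 (flp_h L820250) q30014, e3 q29585 L823859 q30315, e3 q29586 (flp_h L815708) q28605, e3 q29587 L823871 q30316, e3 q29588 (flp_h L815732) q28607, e3 q29589 L815754 q28712, e3 q29590 L823897 q30318, e3 q29591 (flp_h L815770) q28609, e3 q29592 (flp_h L815778) q28610, e3 q29593 L815798 q28716, e3 q29594 (flp_h L822915) q30221, e3 q29595 L815819 q28722, e3 q29596 L815828 q28683, e3 q29597 L815840 q28654, e3 q29598 L815852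 q28848, e3 q29599 L815864 q28849, e3 q29600 (flp_h L821018) q30066, e3 q29601 (flp_h L820832) q30055, e3 q29602 (flp_h L822742) q30207, e3 q29603 L815899 q28640, e3 q29604 L815919 q28639, e3 q29605 L821225 q30079, e3 q29606 (flp_h L821088) q30071, e3 q29607 L824024 q30331, e3 q29608 L824036 q30332, e3 q29609 (flp_h L815948) q28636, e3 q29610 (flp_h L823992) q30326, e3 q29611 L815974 q28651, e3 q29612 L815986 q28652, e3 q29613 (flp_h L822258) q30162, e3 q29614 L816007 q28851, e3 q29615 L816019 q28655, e3 q29616 L824076 q30337, e3 q29617 (flp_h L816027) q28646, e3 q29618 (flp_h L821353) q30087, e3 q29619 (flp_h L821369) q30088, e3 q29620 (flp_h L821394) q30090, e3 q29621 (flp_h L824053) q30333, e3 q29622 L824147 q30344, e3 q29623 (flp_h L823941) q30321, e3 q29624 L824155 q30345, e3 q29625 (flp_h L816104) q28653, e3 q29626 L824173 q30347, e3 q29627 (flp_h L816124) q28656, e3 q29628 L816144 q28835, e3 q29629 L816154 q28913, e3 q29630 (flp_h L822941) q30223, e3 q29631 L824215 q30351, trivial⟩ (by decide +kernel)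

theorem ce_h_463 : ∀ r, r < 64 → sm gh (Qf (29632 + r)) = Qf (tab Gen.h (29632 + r)) :=
  edges_tab (sm gh) Qf (tab Gen.h) 29632 [(29632, 30108), (29633, 30274), (29634, 28662), (29635, 30310), (29636, 30354), (29637, 28665), (29638, 28666), (29639, 30313), (29640, 28673), (29641, 28674), (29642, 28952), (29643, 28699), (29644, 28700), (29645, 30219), (29646, 28701), (29647, 29989), (29648, 29990), (29649, 30365), (29650, 29941), (29651, 28702), (29652, 30320), (29653, 28703), (29654, 28847), (29655, 30020), (29656, 30372), (29657, 28687), (29658, 30376), (29659, 28705), (29660, 30378), (29661, 28815), (29662, 28689), (29663, 28787), (29664, 30373), (29665, 29974), (29666, 28739), (29667, 28740), (29668, 30358), (29669, 30360), (29670, 30367), (29671, 28704), (29672, 28862), (29673, 30222), (29674, 28710), (29675, 30317), (29676, 30385), (29677, 28713), (29678, 30319), (29679, 29922), (29680, 28717), (29681, 28836), (29682, 30267), (29683, 30389), (29684, 28723), (29685, 28726), (29686, 28771), (29687, 29920), (29688, 28922),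 (29689, 28738), (29690, 30151), (29691, 28937), (29692, 30381), (29693, 28746), (29694, 28971), (29695, 28939)]
    ⟨e3 q29632 (flp_h L821659) q30108, e3 q29633 L823472 q30274, e3 q29634 (flp_h L816186) q28662, e3 q29635 (flp_h L823807) q30310, e3 q29636 L824239 q30354, e3 q29637 (flp_h L816206) q28665, e3 q29638 (flp_h L816214) q28666, e3 q29639 (flp_h L823843) q30313, e3 q29640 L816240 q28673, e3 q29641 L816250 q28674, e3 q29642 L816260 q28952, e3 q29643 L816270 q28699, e3 q29644 L816280 q28700, e3 q29645 L822892 q30219, e3 q29646 L816299 q28701, e3 q29647 (flp_h L819968) q29989, e3 q29648 (flp_h L819984) q29990, e3 q29649 L824333 q30365, e3 q29650 (flp_h L819228) q29941, e3 q29651 L816340 q28702, e3 q29652 (flp_h L823927) q30320, e3 q29653 L816352 q28703, e3 q29654 L816361 q28847, e3 q29655 (flp_h L820329) q30020, e3 q29656 L824376 q30372, e3 q29657 (flp_h L816375) q28687, e3 q29658 L824403 q30376, e3 q29659 L816390 q28705, e3 q29660 L824420 q30378, e3 q29661 (flp_h L816403) q28815, e3 q29662 (flp_h L816405) q28689, e3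 q29663 L816420 q28787, e3 q29664 (flp_h L824387) q30373, e3 q29665 (flp_h L819754) q29974, e3 q29666 L816455 q28739, e3 q29667 L816465 q28740, e3 q29668 (flp_h L824282) q30358, e3 q29669 (flp_h L824298) q30360, e3 q29670 (flp_h L824348) q30367, e3 q29671 (flp_h L816493) q28704, e3 q29672 L816509 q28862, e3 q29673 (flp_h L822931) q30222, e3 q29674 (flp_h L816521) q28710, e3 q29675 (flp_h L823895) q30317, e3 q29676 L824489 q30385, e3 q29677 (flp_h L816553) q28713, e3 q29678 (flp_h L823917) q30319, e3 q29679 (flp_h L818945) q29922, e3 q29680 (flp_h L816573) q28717, e3 q29681 L816587 q28836, e3 q29682 L823400 q30267, e3 q29683 L824525 q30389, e3 q29684 (flp_h L816609) q28723, e3 q29685 (flp_h L816619) q28726, e3 q29686 L816639 q28771, e3 q29687 (flp_h L818917) q29920, e3 q29688 L816655 q28922, e3 q29689 L816673 q28738, e3 q29690 (flp_h L822159) q30151, e3 q29691 L816697 q28937, e3 q29692 (flp_h L824455) q30381, e3 q29693 L816721 q28746, e3 q29694 L816727 q28971, e3 q29695 L816737 q28939, trivial⟩ (by decide +kernel)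

theorem ce_h_464 : ∀ r, r < 64 → sm gh (Qf (29696 + r)) = Qf (tab Gen.h (29696 + r)) :=
  edges_tab (sm gh) Qf (tab Gen.h) 29696 [(29696, 28940), (29697, 28995), (29698, 28983), (29699, 29857), (29700, 30399), (29701, 28754), (29702, 30264), (29703, 30266), (29704, 28764), (29705, 28765), (29706, 28928), (29707, 28766), (29708, 28767), (29709, 28768), (29710, 30402), (29711, 30404), (29712, 30405), (29713, 28773), (29714, 30390), (29715, 28774), (29716, 30408), (29717, 28780), (29718, 28935), (29719, 28781), (29720, 30247), (29721, 30271), (29722, 28788), (29723, 30379), (29724, 28792), (29725, 28793), (29726, 28813), (29727, 28794), (29728, 30414), (29729, 30416), (29730, 28797), (29731, 28798), (29732, 28902), (29733, 30418), (29734, 28833), (29735, 28834), (29736, 29906), (29737, 28804), (29738, 30028), (29739, 28809), (29740, 29959), (29741, 28861), (29742, 30415), (29743, 30375), (29744, 30377), (29745, 29917), (29746, 30287), (29747, 29919), (29748, 29921), (29749, 30433), (29750, 30434), (29751, 28823), (29752, 30294),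 (29753, 30216), (29754, 28945), (29755, 28946), (29756, 29984), (29757, 28840), (29758, 30202), (29759, 30420)]
    ⟨e3 q29696 L816751 q28940, e3 q29697 L816763 q28995, e3 q29698 L816775 q28983, e3 q29699 (flp_h L817954) q29857, e3 q29700 L824624 q30399, e3 q29701 (flp_h L816791) q28754, e3 q29702 (flp_h L823366) q30264, e3 q29703 (flp_h L823386) q30266, e3 q29704 L816826 q28764, e3 q29705 L816836 q28765, e3 q29706 L816847 q28928, e3 q29707 L816859 q28766, e3 q29708 L816871 q28767, e3 q29709 L816881 q28768, e3 q29710 (flp_h L824661) q30402, e3 q29711 (flp_h L824683) q30404, e3 q29712 (flp_h L824691) q30405, e3 q29713 L816921 q28773, e3 q29714 (flp_h L824543) q30390, e3 q29715 L816935 q28774, e3 q29716 (flp_h L824715) q30408, e3 q29717 L816957 q28780, e3 q29718 L816967 q28935, e3 q29719 L816975 q28781, e3 q29720 (flp_h L823211) q30247, e3 q29721 (flp_h L823442) q30271, e3 q29722 L817007 q28788, e3 q29723 (flp_h L824433) q30379, e3 q29724 L817023 q28792, e3 q29725 L817031 q28793, e3 q29726 L817040 q28813, e3 q29727 L817046 q28794,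 e3 q29728 (flp_h L824773) q30414, e3 q29729 (flp_h L824789) q30416, e3 q29730 L817074 q28797, e3 q29731 L817084 q28798, e3 q29732 L817091 q28902, e3 q29733 (flp_h L824807) q30418, e3 q29734 L817113 q28833, e3 q29735 L817123 q28834, e3 q29736 (flp_h L818721) q29906, e3 q29737 L817142 q28804, e3 q29738 (flp_h L820459) q30028, e3 q29739 L817158 q28809, e3 q29740 (flp_h L819521) q29959, e3 q29741 L817168 q28861, e3 q29742 (flp_h L824783) q30415, e3 q29743 L824401 q30375, e3 q29744 L824418 q30377, e3 q29745 (flp_h L818871) q29917, e3 q29746 L823591 q30287, e3 q29747 (flp_h L818901) q29919, e3 q29748 (flp_h L818935) q29921, e3 q29749 L824899 q30433, e3 q29750 L824903 q30434, e3 q29751 (flp_h L817216) q28823, e3 q29752 (flp_h L823653) q30294, e3 q29753 (flp_h L822859) q30216, e3 q29754 L817241 q28945, e3 q29755 L817251 q28946, e3 q29756 (flp_h L819901) q29984, e3 q29757 L817270 q28840, e3 q29758 (flp_h L822683) q30202, e3 q29759 (flp_h L824823) q30420, trivial⟩ (by decide +kernel)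

theorem ce_h_465 : ∀ r, r < 64 → sm gh (Qf (29760 + r)) = Qf (tab Gen.h (29760 + r)) :=
  edges_tab (sm gh) Qf (tab Gen.h) 29760 [(29760, 30348), (29761, 30346), (29762, 28841), (29763, 28842), (29764, 30442), (29765, 30255), (29766, 28852), (29767, 30369), (29768, 30323), (29769, 28866), (29770, 29957), (29771, 30210), (29772, 30300), (29773, 30204), (29774, 30205), (29775, 30383), (29776, 30236), (29777, 30203), (29778, 28885), (29779, 28886), (29780, 30084), (29781, 28887), (29782, 28876), (29783, 28904), (29784, 28877), (29785, 30454), (29786, 29951), (29787, 29863), (29788, 30009), (29789, 29860), (29790, 28890), (29791, 28978), (29792, 28891), (29793, 30450), (29794, 30452), (29795, 28892), (29796, 30460), (29797, 30246), (29798, 28897), (29799, 30171), (29800, 28912), (29801, 30419), (29802, 30453), (29803, 30455), (29804, 30078), (29805, 29955), (29806, 30237), (29807, 30059), (29808, 30149), (29809, 30238), (29810, 30239), (29811, 30227), (29812, 28929), (29813, 30403), (29814, 28933), (29815, 30026), (29816, 30409),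 (29817, 30410), (29818, 30208), (29819, 30209), (29820, 30395), (29821, 28943), (29822, 30273), (29823, 30436)]
    ⟨e3 q29760 (flp_h L824193) q30348, e3 q29761 (flp_h L824171) q30346, e3 q29762 L817308 q28841, e3 q29763 L817314 q28842, e3 q29764 (flp_h L824965) q30442, e3 q29765 (flp_h L823287) q30255, e3 q29766 L817338 q28852, e3 q29767 (flp_h L824363) q30369, e3 q29768 (flp_h L823960) q30323, e3 q29769 L817360 q28866, e3 q29770 (flp_h L819487) q29957, e3 q29771 (flp_h L822783) q30210, e3 q29772 (flp_h L823702) q30300, e3 q29773 (flp_h L822705) q30204, e3 q29774 (flp_h L822711) q30205, e3 q29775 (flp_h L824477) q30383, e3 q29776 (flp_h L823080) q30236, e3 q29777 (flp_h L822693) q30203, e3 q29778 L817413 q28885, e3 q29779 L817423 q28886, e3 q29780 (flp_h L821308) q30084, e3 q29781 L817438 q28887, e3 q29782 L817446 q28876, e3 q29783 L817452 q28904, e3 q29784 L817458 q28877, e3 q29785 (flp_h L825044) q30454, e3 q29786 (flp_h L819380) q29951, e3 q29787 (flp_h L818064) q29863, e3 q29788 (flp_h L820179) q30009, e3 q29789 (flp_h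 L818012) q29860, e3 q29790 L817507 q28890, e3 q29791 L817517 q28978, e3 q29792 L817523 q28891, e3 q29793 (flp_h L825014) q30450, e3 q29794 (flp_h L825030) q30452, e3 q29795 L817545 q28892, e3 q29796 (flp_h L825091) q30460, e3 q29797 (flp_h L823197) q30246, e3 q29798 L817567 q28897, e3 q29799 (flp_h L822364) q30171, e3 q29800 L817579 q28912, e3 q29801 (flp_h L824815) q30419, e3 q29802 (flp_h L825038) q30453, e3 q29803 (flp_h L825048) q30455, e3 q29804 (flp_h L821199) q30078, e3 q29805 (flp_h L819447) q29955, e3 q29806 (flp_h L823098) q30237, e3 q29807 (flp_h L820902) q30059, e3 q29808 (flp_h L822133) q30149, e3 q29809 (flp_h L823110) q30238, e3 q29810 (flp_h L823118) q30239, e3 q29811 (flp_h L822978) q30227, e3 q29812 L817659 q28929, e3 q29813 (flp_h L824671) q30403, e3 q29814 L817675 q28933, e3 q29815 (flp_h L820425) q30026, e3 q29816 (flp_h L824729) q30409, e3 q29817 (flp_h L824737) q30410, e3 q29818 (flp_h L822754) q30208, e3 q29819 (flp_h L822762) q30209, e3 q29820 (flp_h L824597) q30395, e3 q29821 L817717 q28943, e3 q29822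 (flp_h L823458) q30273, e3 q29823 (flp_h L824918) q30436, trivial⟩ (by decide +kernel)

theorem ce_h_466 : ∀ r, r < 64 → sm gh (Qf (29824 + r)) = Qf (tab Gen.h (29824 + r)) :=
  edges_tab (sm gh) Qf (tab Gen.h) 29824 [(29824, 30017), (29825, 30228), (29826, 30356), (29827, 30357), (29828, 30299), (29829, 28958), (29830, 30484), (29831, 28957), (29832, 30486), (29833, 28959), (29834, 28990), (29835, 28991), (29836, 28992), (29837, 29971), (29838, 28974), (29839, 29961), (29840, 28994), (29841, 30270), (29842, 30393), (29843, 30394), (29844, 30269), (29845, 30211), (29846, 30212), (29847, 30459), (29848, 30461), (29849, 30498), (29850, 28979), (29851, 28980), (29852, 30396), (29853, 28987), (29854, 28988), (29855, 30487), (29856, 30488), (29857, 29699), (29858, 30501), (29859, 29001), (29860, 29789), (29861, 29500), (29862, 29007), (29863, 29787), (29864, 29044), (29865, 29045), (29866, 30506), (29867, 29349), (29868, 29350), (29869, 29555), (29870, 29352), (29871, 29353), (29872, 29549), (29873, 29026), (29874, 29027), (29875,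 29159), (29876, 29028), (29877, 29029), (29878, 29336), (29879, 29337), (29880, 30521), (29881, 29339), (29882, 29340), (29883, 30512), (29884, 30514), (29885, 30516), (29886, 29056), (29887, 30527)]
    ⟨e3 q29824 (flp_h L820285) q30017, e3 q29825 (flp_h L822996) q30228, e3 q29826 (flp_h L824263) q30356, e3 q29827 (flp_h L824269) q30357, e3 q29828 (flp_h L823688) q30299, e3 q29829 L817764 q28958, e3 q29830 L825240 q30484, e3 q29831 (flp_h L817770) q28957, e3 q29832 L825255 q30486, e3 q29833 (flp_h L817785) q28959, e3 q29834 L817797 q28990, e3 q29835 L817803 q28991, e3 q29836 L817813 q28992, e3 q29837 (flp_h L819709) q29971, e3 q29838 L817830 q28974, e3 q29839 (flp_h L819555) q29961, e3 q29840 L817842 q28994, e3 q29841 (flp_h L823432) q30270, e3 q29842 (flp_h L824578) q30393, e3 q29843 (flp_h L824582) q30394, e3 q29844 (flp_h L823424) q30269, e3 q29845 (flp_h L822797) q30211, e3 q29846 (flp_h L822807) q30212, e3 q29847 (flp_h L825085) q30459, e3 q29848 (flp_h L825101) q30461, e3 q29849 L825328 q30498, e3 q29850 (flp_h L817895)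 q28979, e3 q29851 (flp_h L817899) q28980, e3 q29852 (flp_h L824609) q30396, e3 q29853 L817920 q28987, e3 q29854 (flp_h L817922) q28988, e3 q29855 (flp_h L825267) q30487, e3 q29856 (flp_h L825275) q30488, e3 q29857 L817954 q29699, e3 q29858 L825343 q30501, e3 q29859 (flp_h L817980) q29001, e3 q29860 L818012 q29789, e3 q29861 (flp_h L818032) q29500, e3 q29862 (flp_h L818034) q29007, e3 q29863 L818064 q29787, e3 q29864 L818078 q29044, e3 q29865 L818094 q29045, e3 q29866 L825429 q30506, e3 q29867 L818127 q29349, e3 q29868 L818143 q29350, e3 q29869 (flp_h L818161) q29555, e3 q29870 L818171 q29352, e3 q29871 L818187 q29353, e3 q29872 L818205 q29549, e3 q29873 L818225 q29026, e3 q29874 L818241 q29027, e3 q29875 L818258 q29159, e3 q29876 L818268 q29028, e3 q29877 L818283 q29029, e3 q29878 L818303 q29336, e3 q29879 L818319 q29337, e3 q29880 L825656 q30521, e3 q29881 L818344 q29339, e3 q29882 L818359 q29340, e3 q29883 (flp_h L825540) q30512, e3 q29884 (flp_h L825566) q30514, e3 q29885 (flp_h L825593) q30516, e3 q29886 L818413 q29056,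 e3 q29887 L825730 q30527, trivial⟩ (by decide +kernel)

theorem ce_h_467 : ∀ r, r < 64 → sm gh (Qf (29888 + r)) = Qf (tab Gen.h (29888 + r)) :=
  edges_tab (sm gh) Qf (tab Gen.h) 29888 [(29888, 29032), (29889, 29037), (29890, 29038), (29891, 29181), (29892, 29039), (29893, 29040), (29894, 30529), (29895, 30531), (29896, 30532), (29897, 29411), (29898, 29412), (29899, 30538), (29900, 29414), (29901, 30504), (29902, 30540), (29903, 29046), (29904, 29088), (29905, 29089), (29906, 29736), (29907, 29090), (29908, 29054), (29909, 29199), (29910, 29055), (29911, 29201), (29912, 30546), (29913, 30550), (29914, 29057), (29915, 29103), (29916, 29059), (29917, 29745), (29918, 29552), (29919, 29747), (29920, 29687), (29921, 29748), (29922, 29679), (29923, 29382), (29924, 29557), (29925, 29318), (29926, 29556), (29927, 29161), (29928, 29162), (29929, 29080), (29930, 29152), (29931, 29153), (29932, 30563), (29933, 29155), (29934, 29095), (29935, 30568), (29936, 29097), (29937, 29518), (29938, 29086), (29939, 30541), (29940, 30543), (29941,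 29650), (29942, 29099), (29943, 29100), (29944, 30573), (29945, 30565), (29946, 29096), (29947, 29167), (29948, 30572), (29949, 29101), (29950, 30551), (29951, 29786)]
    ⟨e3 q29888 (flp_h L818429) q29032, e3 q29889 L818452 q29037, e3 q29890 L818468 q29038, e3 q29891 L818485 q29181, e3 q29892 L818499 q29039, e3 q29893 L818514 q29040, e3 q29894 (flp_h L825767) q30529, e3 q29895 (flp_h L825797) q30531, e3 q29896 (flp_h L825813) q30532, e3 q29897 L818580 q29411, e3 q29898 L818596 q29412, e3 q29899 L825903 q30538, e3 q29900 L818626 q29414, e3 q29901 (flp_h L825409) q30504, e3 q29902 L825937 q30540, e3 q29903 (flp_h L818662) q29046, e3 q29904 L818688 q29088, e3 q29905 L818704 q29089, e3 q29906 L818721 q29736, e3 q29907 L818731 q29090, e3 q29908 L818749 q29054, e3 q29909 L818757 q29199, e3 q29910 L818765 q29055, e3 q29911 L818780 q29201, e3 q29912 (flp_h L826030) q30546, e3 q29913 L826070 q30550, e3 q29914 (flp_h L818816) q29057, e3 q29915 L818842 q29103, e3 q29916 (flp_h L818844) q29059, e3 q29917 L818871 q29745, e3 q29918 (flp_h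 L818889) q29552, e3 q29919 L818901 q29747, e3 q29920 L818917 q29687, e3 q29921 L818935 q29748, e3 q29922 L818945 q29679, e3 q29923 L818963 q29382, e3 q29924 L818975 q29557, e3 q29925 L818989 q29318, e3 q29926 (flp_h L819007) q29556, e3 q29927 L819021 q29161, e3 q29928 L819037 q29162, e3 q29929 L819057 q29080, e3 q29930 L819075 q29152, e3 q29931 L819091 q29153, e3 q29932 L826281 q30563, e3 q29933 L819116 q29155, e3 q29934 L819136 q29095, e3 q29935 L826347 q30568, e3 q29936 L819156 q29097, e3 q29937 (flp_h L819175) q29518, e3 q29938 (flp_h L819177) q29086, e3 q29939 (flp_h L825963) q30541, e3 q29940 (flp_h L825989) q30543, e3 q29941 L819228 q29650, e3 q29942 L819248 q29099, e3 q29943 L819260 q29100, e3 q29944 L826426 q30573, e3 q29945 (flp_h L826316) q30565, e3 q29946 (flp_h L819298) q29096, e3 q29947 L819326 q29167, e3 q29948 (flp_h L826420) q30572, e3 q29949 (flp_h L819346) q29101, e3 q29950 (flp_h L826098) q30551, e3 q29951 L819380 q29786, trivial⟩ (by decide +kernel)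

theorem ce_h_468 : ∀ r, r < 64 → sm gh (Qf (29952 + r)) = Qf (tab Gen.h (29952 + r)) :=
  edges_tab (sm gh) Qf (tab Gen.h) 29952 [(29952, 29247), (29953, 29248), (29954, 29307), (29955, 29805), (29956, 29115), (29957, 29770), (29958, 29124), (29959, 29740), (29960, 29123), (29961, 29839), (29962, 29431), (29963, 30586), (29964, 29127), (29965, 29278), (29966, 29545), (29967, 29546), (29968, 29548), (29969, 29140), (29970, 29141), (29971, 29837), (29972, 29142), (29973, 29143), (29974, 29665), (29975, 29421), (29976, 29376), (29977, 29423), (29978, 29357), (29979, 30590), (29980, 30592), (29981, 30594), (29982, 29184), (29983, 29185), (29984, 29756), (29985, 29186), (29986, 29187), (29987, 30608), (29988, 29149), (29989, 29647), (29990, 29648), (29991, 30559), (29992, 30612), (29993, 30561), (29994, 29154), (29995, 29165), (29996, 30513), (29997, 29166), (29998, 30515), (29999, 30558), (30000, 30622), (30001, 29514), (30002, 30623), (30003, 29163), (30004, 30614), (30005, 30574), (30006, 30626), (30007, 30627), (30008, 29169),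 (30009, 29788), (30010, 29572), (30011, 29573), (30012, 30633), (30013, 29424), (30014, 29584), (30015, 30636)]
    ⟨e3 q29952 L819398 q29247, e3 q29953 L819414 q29248, e3 q29954 L819435 q29307, e3 q29955 L819447 q29805, e3 q29956 L819467 q29115, e3 q29957 L819487 q29770, e3 q29958 L819501 q29124, e3 q29959 L819521 q29740, e3 q29960 L819535 q29123, e3 q29961 L819555 q29839, e3 q29962 L819567 q29431, e3 q29963 L826634 q30586, e3 q29964 (flp_h L819583) q29127, e3 q29965 L819610 q29278, e3 q29966 L819630 q29545, e3 q29967 L819646 q29546, e3 q29968 L819658 q29548, e3 q29969 L819676 q29140, e3 q29970 L819692 q29141, e3 q29971 L819709 q29837, e3 q29972 L819719 q29142, e3 q29973 L819734 q29143, e3 q29974 L819754 q29665, e3 q29975 L819770 q29421, e3 q29976 L819787 q29376, e3 q29977 L819797 q29423, e3 q29978 L819812 q29357, e3 q29979 (flp_h L826707) q30590, e3 q29980 (flp_h L826733) q30592, e3 q29981 (flp_h L826762) q30594, e3 q29982 L819868 q29184, e3 q29983 L819884 q29185, e3 q29984 L819901 q29756, e3 q29985 L819911 q29186, e3 q29986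 L819929 q29187, e3 q29987 L826947 q30608, e3 q29988 (flp_h L819941) q29149, e3 q29989 L819968 q29647, e3 q29990 L819984 q29648, e3 q29991 (flp_h L826234) q30559, e3 q29992 L826997 q30612, e3 q29993 (flp_h L826258) q30561, e3 q29994 (flp_h L820018) q29154, e3 q29995 L820036 q29165, e3 q29996 (flp_h L825556) q30513, e3 q29997 L820054 q29166, e3 q29998 (flp_h L825581) q30515, e3 q29999 (flp_h L826214) q30558, e3 q30000 L827106 q30622, e3 q30001 L820093 q29514, e3 q30002 L827120 q30623, e3 q30003 (flp_h L820108) q29163, e3 q30004 (flp_h L827027) q30614, e3 q30005 (flp_h L826456) q30574, e3 q30006 L827157 q30626, e3 q30007 L827167 q30627, e3 q30008 (flp_h L820158) q29169, e3 q30009 L820179 q29788, e3 q30010 L820193 q29572, e3 q30011 L820209 q29573, e3 q30012 L827249 q30633, e3 q30013 L820234 q29424, e3 q30014 L820250 q29584, e3 q30015 L827283 q30636, trivial⟩ (by decide +kernel)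

theorem ce_h_469 : ∀ r, r < 64 → sm gh (Qf (30016 + r)) = Qf (tab Gen.h (30016 + r)) :=
  edges_tab (sm gh) Qf (tab Gen.h) 30016 [(30016, 29176), (30017, 29824), (30018, 29182), (30019, 30530), (30020, 29655), (30021, 30602), (30022, 30604), (30023, 30641), (30024, 29188), (30025, 29193), (30026, 29815), (30027, 29236), (30028, 29738), (30029, 30545), (30030, 29202), (30031, 30547), (30032, 30548), (30033, 30549), (30034, 29568), (30035, 29206), (30036, 29244), (30037, 29303), (30038, 29304), (30039, 29418), (30040, 29320), (30041, 30657), (30042, 29322), (30043, 29393), (30044, 29213), (30045, 30659), (30046, 30660), (30047, 29216), (30048, 30637), (30049, 29235), (30050, 29231), (30051, 29242), (30052, 29282), (30053, 29324), (30054, 29536), (30055, 29601), (30056, 29240), (30057, 30650), (30058, 30576), (30059, 29807), (30060, 29260), (30061, 29261), (30062, 29346), (30063, 29262), (30064, 29403), (30065, 29404), (30066, 29600), (30067, 29405), (30068, 30662), (30069, 30664), (30070, 29276), (30071, 29606), (30072, 29490),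 (30073, 29272), (30074, 29379), (30075, 29273), (30076, 29381), (30077, 30672), (30078, 29804), (30079, 29605)]
    ⟨e3 q30016 (flp_h L820266) q29176, e3 q30017 L820285 q29824, e3 q30018 L820303 q29182, e3 q30019 (flp_h L825783) q30530, e3 q30020 L820329 q29655, e3 q30021 (flp_h L826879) q30602, e3 q30022 (flp_h L826905) q30604, e3 q30023 L827343 q30641, e3 q30024 (flp_h L820379) q29188, e3 q30025 L820405 q29193, e3 q30026 L820425 q29815, e3 q30027 L820439 q29236, e3 q30028 L820459 q29738, e3 q30029 (flp_h L826020) q30545, e3 q30030 L820477 q29202, e3 q30031 (flp_h L826040) q30547, e3 q30032 (flp_h L826053) q30548, e3 q30033 (flp_h L826066) q30549, e3 q30034 L820527 q29568, e3 q30035 (flp_h L820535) q29206, e3 q30036 L820559 q29244, e3 q30037 L820573 q29303, e3 q30038 L820589 q29304, e3 q30039 L820610 q29418, e3 q30040 L820622 q29320, e3 q30041 L827573 q30657, e3 q30042 L820640 q29322, e3 q30043 (flp_h L820659) q29393, e3 q30044 (flp_h L820661) q29213, e3 q30045 L827597 q30659, e3 q30046 L827607 q30660, e3 q30047 (flp_h L820693)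 q29216, e3 q30048 (flp_h L827304) q30637, e3 q30049 L820724 q29235, e3 q30050 L820744 q29231, e3 q30051 L820762 q29242, e3 q30052 L820778 q29282, e3 q30053 L820798 q29324, e3 q30054 L820812 q29536, e3 q30055 L820832 q29601, e3 q30056 L820852 q29240, e3 q30057 (flp_h L827488) q30650, e3 q30058 (flp_h L826482) q30576, e3 q30059 L820902 q29807, e3 q30060 L820922 q29260, e3 q30061 L820938 q29261, e3 q30062 L820955 q29346, e3 q30063 L820965 q29262, e3 q30064 L820985 q29403, e3 q30065 L821001 q29404, e3 q30066 L821018 q29600, e3 q30067 L821032 q29405, e3 q30068 (flp_h L827638) q30662, e3 q30069 (flp_h L827664) q30664, e3 q30070 L821072 q29276, e3 q30071 L821088 q29606, e3 q30072 L821102 q29490, e3 q30073 L821120 q29272, e3 q30074 L821134 q29379, e3 q30075 L821144 q29273, e3 q30076 L821161 q29381, e3 q30077 (flp_h L827783) q30672, e3 q30078 L821199 q29804, e3 q30079 (flp_h L821225) q29605, trivial⟩ (by decide +kernel)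

theorem ce_h_470 : ∀ r, r < 64 → sm gh (Qf (30080 + r)) = Qf (tab Gen.h (30080 + r)) :=
  edges_tab (sm gh) Qf (tab Gen.h) 30080 [(30080, 29284), (30081, 29287), (30082, 29295), (30083, 29296), (30084, 29780), (30085, 29297), (30086, 29298), (30087, 29618), (30088, 29619), (30089, 30683), (30090, 29620), (30091, 29341), (30092, 30675), (30093, 30677), (30094, 30678), (30095, 29312), (30096, 30689), (30097, 29301), (30098, 30651), (30099, 29310), (30100, 30577), (30101, 29311), (30102, 29335), (30103, 30691), (30104, 30695), (30105, 29313), (30106, 29327), (30107, 30557), (30108, 29632), (30109, 30697), (30110, 30654), (30111, 29321), (30112, 29480), (30113, 29325), (30114, 30696), (30115, 29332), (30116, 29495), (30117, 29496), (30118, 30694), (30119, 29367), (30120, 30693), (30121, 30517), (30122, 30707), (30123, 30519), (30124, 30684), (30125, 29338), (30126, 30522), (30127, 29544), (30128, 29354), (30129, 30663), (30130, 29355), (30131, 30587), (30132, 29356), (30133, 30507), (30134, 30720), (30135, 30509), (30136, 30723),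 (30137, 29351), (30138, 30511), (30139, 30710), (30140, 30713), (30141, 30599), (30142, 30727), (30143, 30728)]
    ⟨e3 q30080 L821239 q29284, e3 q30081 L821255 q29287, e3 q30082 L821275 q29295, e3 q30083 L821291 q29296, e3 q30084 L821308 q29780, e3 q30085 L821318 q29297, e3 q30086 L821333 q29298, e3 q30087 L821353 q29618, e3 q30088 L821369 q29619, e3 q30089 L827939 q30683, e3 q30090 L821394 q29620, e3 q30091 L821409 q29341, e3 q30092 (flp_h L827836) q30675, e3 q30093 (flp_h L827862) q30677, e3 q30094 (flp_h L827876) q30678, e3 q30095 L821469 q29312, e3 q30096 L828021 q30689, e3 q30097 (flp_h L821485) q29301, e3 q30098 (flp_h L827502) q30651, e3 q30099 L821526 q29310, e3 q30100 (flp_h L826502) q30577, e3 q30101 L821544 q29311, e3 q30102 L821559 q29335, e3 q30103 (flp_h L828053) q30691, e3 q30104 L828091 q30695, e3 q30105 (flp_h L821599) q29313, e3 q30106 L821627 q29327, e3 q30107 (flp_h L826196) q30557, e3 q30108 L821659 q29632, e3 q30109 L828123 q30697, e3 q30110 (flp_h L827544) q30654, e3 q30111 (flp_h L821703) q29321, e3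 q30112 L821731 q29480, e3 q30113 (flp_h L821733) q29325, e3 q30114 (flp_h L828121) q30696, e3 q30115 L821771 q29332, e3 q30116 L821789 q29495, e3 q30117 L821805 q29496, e3 q30118 (flp_h L828087) q30694, e3 q30119 L821830 q29367, e3 q30120 (flp_h L828074) q30693, e3 q30121 (flp_h L825613) q30517, e3 q30122 L828246 q30707, e3 q30123 (flp_h L825637) q30519, e3 q30124 (flp_h L827960) q30684, e3 q30125 (flp_h L821882) q29338, e3 q30126 (flp_h L825677) q30522, e3 q30127 L821916 q29544, e3 q30128 L821928 q29354, e3 q30129 (flp_h L827654) q30663, e3 q30130 L821942 q29355, e3 q30131 (flp_h L826663) q30587, e3 q30132 L821953 q29356, e3 q30133 (flp_h L825458) q30507, e3 q30134 L828366 q30720, e3 q30135 (flp_h L825486) q30509, e3 q30136 L828399 q30723, e3 q30137 (flp_h L821992) q29351, e3 q30138 (flp_h L825520) q30511, e3 q30139 (flp_h L828280) q30710, e3 q30140 (flp_h L828299) q30713, e3 q30141 (flp_h L826837) q30599, e3 q30142 L828446 q30727, e3 q30143 L828456 q30728, trivial⟩ (by decide +kernel)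

theorem ce_h_471 : ∀ r, r < 64 → sm gh (Qf (30144 + r)) = Qf (tab Gen.h (30144 + r)) :=
  edges_tab (sm gh) Qf (tab Gen.h) 30144 [(30144, 29359), (30145, 29564), (30146, 29394), (30147, 29395), (30148, 29366), (30149, 29808), (30150, 29372), (30151, 29690), (30152, 29373), (30153, 30734), (30154, 29420), (30155, 30596), (30156, 29422), (30157, 30598), (30158, 30671), (30159, 29383), (30160, 30673), (30161, 30674), (30162, 29613), (30163, 29385), (30164, 29438), (30165, 29477), (30166, 29478), (30167, 29397), (30168, 30656), (30169, 30730), (30170, 29408), (30171, 29799), (30172, 29409), (30173, 30665), (30174, 30667), (30175, 29410), (30176, 30750), (30177, 30535), (30178, 30757), (30179, 30537), (30180, 30758), (30181, 29413), (30182, 30761), (30183, 29433), (30184, 30763), (30185, 30652), (30186, 29416), (30187, 29494), (30188, 30715), (30189, 30595), (30190, 30737), (30191, 30597), (30192, 30631), (30193, 29503), (30194, 29436), (30195, 29499), (30196, 29501), (30197, 29497), (30198, 29432), (30199, 29577), (30200, 30745),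 (30201, 29451), (30202, 29758), (30203, 29777), (30204, 29773), (30205, 29774), (30206, 29457), (30207, 29602)]
    ⟨e3 q30144 (flp_h L822058) q29359, e3 q30145 L822077 q29564, e3 q30146 L822091 q29394, e3 q30147 L822107 q29395, e3 q30148 L822123 q29366, e3 q30149 L822133 q29808, e3 q30150 L822147 q29372, e3 q30151 L822159 q29690, e3 q30152 L822173 q29373, e3 q30153 (flp_h L828544) q30734, e3 q30154 L822203 q29420, e3 q30155 (flp_h L826798) q30596, e3 q30156 L822219 q29422, e3 q30157 (flp_h L826823) q30598, e3 q30158 (flp_h L827771) q30671, e3 q30159 L822240 q29383, e3 q30160 (flp_h L827797) q30673, e3 q30161 (flp_h L827816) q30674, e3 q30162 L822258 q29613, e3 q30163 (flp_h L822262) q29385, e3 q30164 L822278 q29438, e3 q30165 L822292 q29477, e3 q30166 L822308 q29478, e3 q30167 L822320 q29397, e3 q30168 L827571 q30656, e3 q30169 (flp_h L828489) q30730, e3 q30170 L822354 q29408, e3 q30171 L822364 q29799, e3 q30172 L822374 q29409, e3 q30173 (flp_h L827684) q30665, e3 q30174 (flp_h L827714) q30667, e3 q30175 L822418 q29410, e3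 q30176 (flp_h L828707) q30750, e3 q30177 (flp_h L825865) q30535, e3 q30178 L828769 q30757, e3 q30179 (flp_h L825895) q30537, e3 q30180 L828775 q30758, e3 q30181 (flp_h L822469) q29413, e3 q30182 L828800 q30761, e3 q30183 L822484 q29433, e3 q30184 L828813 q30763, e3 q30185 (flp_h L827522) q30652, e3 q30186 (flp_h L822499) q29416, e3 q30187 L822514 q29494, e3 q30188 (flp_h L828323) q30715, e3 q30189 (flp_h L826782) q30595, e3 q30190 (flp_h L828577) q30737, e3 q30191 (flp_h L826808) q30597, e3 q30192 (flp_h L827226) q30631, e3 q30193 L822585 q29503, e3 q30194 L822593 q29436, e3 q30195 L822607 q29499, e3 q30196 L822619 q29501, e3 q30197 L822633 q29497, e3 q30198 (flp_h L822637) q29432, e3 q30199 L822651 q29577, e3 q30200 (flp_h L828648) q30745, e3 q30201 L822669 q29451, e3 q30202 L822683 q29758, e3 q30203 L822693 q29777, e3 q30204 L822705 q29773, e3 q30205 L822711 q29774, e3 q30206 L822724 q29457, e3 q30207 L822742 q29602, trivial⟩ (by decide +kernel)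

theorem ce_h_472 : ∀ r, r < 64 → sm gh (Qf (30208 + r)) = Qf (tab Gen.h (30208 + r)) :=
  edges_tab (sm gh) Qf (tab Gen.h) 30208 [(30208, 29818), (30209, 29819), (30210, 29771), (30211, 29845), (30212, 29846), (30213, 29481), (30214, 30781), (30215, 29462), (30216, 29753), (30217, 30786), (30218, 29580), (30219, 29645), (30220, 29465), (30221, 29594), (30222, 29673), (30223, 29630), (30224, 30790), (30225, 30791), (30226, 29472), (30227, 29811), (30228, 29825), (30229, 30746), (30230, 30796), (30231, 30698), (30232, 29479), (30233, 30797), (30234, 29482), (30235, 29484), (30236, 29776), (30237, 29806), (30238, 29809), (30239, 29810), (30240, 29498), (30241, 30764), (30242, 30700), (30243, 30770), (30244, 30768), (30245, 30769), (30246, 29797), (30247, 29720), (30248, 30806), (30249, 29507), (30250, 30808), (30251, 30809), (30252, 29509), (30253, 29511), (30254, 30619), (30255, 29765), (30256, 30567), (30257, 29575), (30258, 30814), (30259, 29521), (30260, 30816), (30261, 30817), (30262, 29523), (30263, 30605), (30264, 29702),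 (30265, 30822), (30266, 29703), (30267, 29682), (30268, 29527), (30269, 29844), (30270, 29841), (30271, 29721)]
    ⟨e3 q30208 L822754 q29818, e3 q30209 L822762 q29819, e3 q30210 L822783 q29771, e3 q30211 L822797 q29845, e3 q30212 L822807 q29846, e3 q30213 L822822 q29481, e3 q30214 L829035 q30781, e3 q30215 (flp_h L822836) q29462, e3 q30216 L822859 q29753, e3 q30217 L829092 q30786, e3 q30218 L822877 q29580, e3 q30219 (flp_h L822892) q29645, e3 q30220 (flp_h L822894) q29465, e3 q30221 L822915 q29594, e3 q30222 L822931 q29673, e3 q30223 L822941 q29630, e3 q30224 L829138 q30790, e3 q30225 L829148 q30791, e3 q30226 (flp_h L822960) q29472, e3 q30227 L822978 q29811, e3 q30228 L822996 q29825, e3 q30229 (flp_h L828662) q30746, e3 q30230 L829208 q30796, e3 q30231 (flp_h L828153) q30698, e3 q30232 (flp_h L823026) q29479, e3 q30233 L829216 q30797, e3 q30234 (flp_h L823050) q29482, e3 q30235 (flp_h L823060) q29484, e3 q30236 L823080 q29776, e3 q30237 L823098 q29806, e3 q30238 L823110 q29809, e3 q30239 L823118 q29810, e3 q30240 L823131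 q29498, e3 q30241 (flp_h L828826) q30764, e3 q30242 (flp_h L828181) q30700, e3 q30243 (flp_h L828906) q30770, e3 q30244 (flp_h L828878) q30768, e3 q30245 (flp_h L828892) q30769, e3 q30246 L823197 q29797, e3 q30247 L823211 q29720, e3 q30248 L829327 q30806, e3 q30249 (flp_h L823227) q29507, e3 q30250 L829343 q30808, e3 q30251 L829353 q30809, e3 q30252 (flp_h L823251) q29509, e3 q30253 (flp_h L823259) q29511, e3 q30254 (flp_h L827083) q30619, e3 q30255 L823287 q29765, e3 q30256 L826345 q30567, e3 q30257 L823305 q29575, e3 q30258 L829398 q30814, e3 q30259 (flp_h L823315) q29521, e3 q30260 L829414 q30816, e3 q30261 L829424 q30817, e3 q30262 (flp_h L823335) q29523, e3 q30263 (flp_h L826922) q30605, e3 q30264 L823366 q29702, e3 q30265 L829481 q30822, e3 q30266 L823386 q29703, e3 q30267 (flp_h L823400) q29682, e3 q30268 (flp_h L823402) q29527, e3 q30269 L823424 q29844, e3 q30270 L823432 q29841, e3 q30271 L823442 q29721, trivial⟩ (by decide +kernel)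

theorem ce_h_473 : ∀ r, r < 64 → sm gh (Qf (30272 + r)) = Qf (tab Gen.h (30272 + r)) :=
  edges_tab (sm gh) Qf (tab Gen.h) 30272 [(30272, 30827), (30273, 29822), (30274, 29633), (30275, 29537), (30276, 29574), (30277, 29550), (30278, 30588), (30279, 30833), (30280, 30589), (30281, 30722), (30282, 29547), (30283, 30510), (30284, 30837), (30285, 30552), (30286, 30840), (30287, 29746), (30288, 29551), (30289, 30508), (30290, 30556), (30291, 30842), (30292, 30843), (30293, 29559), (30294, 29752), (30295, 30846), (30296, 29561), (30297, 29562), (30298, 30729), (30299, 29828), (30300, 29772), (30301, 30853), (30302, 30854), (30303, 29569), (30304, 30629), (30305, 30828), (30306, 30857), (30307, 30771), (30308, 30787), (30309, 29576), (30310, 29635), (30311, 30783), (30312, 29579), (30313, 29639), (30314, 30860), (30315, 29585), (30316, 29587), (30317, 29675), (30318, 29590), (30319, 29678), (30320, 29652), (30321, 29623), (30322, 30714), (30323, 29768), (30324, 30666), (30325, 30775), (30326, 29610), (30327, 30776), (30328, 30669),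 (30329, 30670), (30330, 30870), (30331, 29607), (30332, 29608), (30333, 29621), (30334, 30744), (30335, 30874)]
    ⟨e3 q30272 L829538 q30827, e3 q30273 L823458 q29822, e3 q30274 (flp_h L823472) q29633, e3 q30275 (flp_h L823474) q29537, e3 q30276 L823496 q29574, e3 q30277 L823508 q29550, e3 q30278 (flp_h L826677) q30588, e3 q30279 L829601 q30833, e3 q30280 (flp_h L826689) q30589, e3 q30281 L828397 q30722, e3 q30282 (flp_h L823547) q29547, e3 q30283 (flp_h L825502) q30510, e3 q30284 L829637 q30837, e3 q30285 L826116 q30552, e3 q30286 L829662 q30840, e3 q30287 (flp_h L823591) q29746, e3 q30288 (flp_h L823593) q29551, e3 q30289 L825476 q30508, e3 q30290 (flp_h L826180) q30556, e3 q30291 L829681 q30842, e3 q30292 L829691 q30843, e3 q30293 (flp_h L823634) q29559, e3 q30294 L823653 q29752, e3 q30295 L829717 q30846, e3 q30296 (flp_h L823659) q29561, e3 q30297 (flp_h L823667) q29562, e3 q30298 (flp_h L828475) q30729, e3 q30299 L823688 q29828, e3 q30300 L823702 q29772, e3 q30301 L829782 q30853, e3 q30302 L829800 q30854, e3 q30303 (flp_h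 L823719) q29569, e3 q30304 (flp_h L827202) q30629, e3 q30305 (flp_h L829562) q30828, e3 q30306 L829845 q30857, e3 q30307 (flp_h L828918) q30771, e3 q30308 (flp_h L829112) q30787, e3 q30309 (flp_h L823791) q29576, e3 q30310 L823807 q29635, e3 q30311 (flp_h L829067) q30783, e3 q30312 (flp_h L823823) q29579, e3 q30313 L823843 q29639, e3 q30314 L829875 q30860, e3 q30315 (flp_h L823859) q29585, e3 q30316 (flp_h L823871) q29587, e3 q30317 L823895 q29675, e3 q30318 (flp_h L823897) q29590, e3 q30319 L823917 q29678, e3 q30320 L823927 q29652, e3 q30321 L823941 q29623, e3 q30322 (flp_h L828306) q30714, e3 q30323 L823960 q29768, e3 q30324 (flp_h L827700) q30666, e3 q30325 (flp_h L828967) q30775, e3 q30326 L823992 q29610, e3 q30327 (flp_h L828977) q30776, e3 q30328 (flp_h L827746) q30669, e3 q30329 (flp_h L827754) q30670, e3 q30330 L829975 q30870, e3 q30331 (flp_h L824024) q29607, e3 q30332 (flp_h L824036) q29608, e3 q30333 L824053 q29621, e3 q30334 (flp_h L828636) q30744, e3 q30335 L830010 q30874, trivial⟩ (by decide +kernel)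

theorem ce_h_474 : ∀ r, r < 64 → sm gh (Qf (30336 + r)) = Qf (tab Gen.h (30336 + r)) :=
  edges_tab (sm gh) Qf (tab Gen.h) 30336 [(30336, 30875), (30337, 29616), (30338, 30544), (30339, 30679), (30340, 30681), (30341, 30879), (30342, 30863), (30343, 30880), (30344, 29622), (30345, 29624), (30346, 29761), (30347, 29626), (30348, 29760), (30349, 30788), (30350, 30826), (30351, 29631), (30352, 30858), (30353, 30885), (30354, 29636), (30355, 30859), (30356, 29826), (30357, 29827), (30358, 29668), (30359, 30785), (30360, 29669), (30361, 30609), (30362, 30894), (30363, 30571), (30364, 30740), (30365, 29649), (30366, 30862), (30367, 29670), (30368, 30848), (30369, 29767), (30370, 30899), (30371, 30900), (30372, 29656), (30373, 29664), (30374, 30904), (30375, 29743), (30376, 29658), (30377, 29744), (30378, 29660), (30379, 29723), (30380, 30901), (30381, 29692), (30382, 30888), (30383, 29775), (30384, 30861), (30385, 29676), (30386, 30555), (30387, 30554), (30388, 30821), (30389, 29683), (30390, 29714), (30391, 30733), (30392, 30735),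 (30393, 29842), (30394, 29843), (30395, 29820), (30396, 29852), (30397, 30914), (30398, 30915), (30399, 29700)]
    ⟨e3 q30336 L830020 q30875, e3 q30337 (flp_h L824076) q29616, e3 q30338 (flp_h L826006) q30544, e3 q30339 (flp_h L827896) q30679, e3 q30340 (flp_h L827920) q30681, e3 q30341 L830059 q30879, e3 q30342 (flp_h L829923) q30863, e3 q30343 L830067 q30880, e3 q30344 (flp_h L824147) q29622, e3 q30345 (flp_h L824155) q29624, e3 q30346 L824171 q29761, e3 q30347 (flp_h L824173) q29626, e3 q30348 L824193 q29760, e3 q30349 (flp_h L829126) q30788, e3 q30350 L829536 q30826, e3 q30351 (flp_h L824215) q29631, e3 q30352 (flp_h L829861) q30858, e3 q30353 L830115 q30885, e3 q30354 (flp_h L824239) q29636, e3 q30355 (flp_h L829873) q30859, e3 q30356 L824263 q29826, e3 q30357 L824269 q29827, e3 q30358 L824282 q29668, e3 q30359 L829090 q30785, e3 q30360 L824298 q29669, e3 q30361 (flp_h L826973) q30609, e3 q30362 L830197 q30894, e3 q30363 (flp_h L826400) q30571, e3 q30364 (flp_h L828601) q30740, e3 q30365 (flp_h L824333) q29649, e3 q30366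 (flp_h L829909) q30862, e3 q30367 L824348 q29670, e3 q30368 (flp_h L829742) q30848, e3 q30369 L824363 q29767, e3 q30370 L830230 q30899, e3 q30371 L830234 q30900, e3 q30372 (flp_h L824376) q29656, e3 q30373 L824387 q29664, e3 q30374 L830262 q30904, e3 q30375 (flp_h L824401) q29743, e3 q30376 (flp_h L824403) q29658, e3 q30377 (flp_h L824418) q29744, e3 q30378 (flp_h L824420) q29660, e3 q30379 L824433 q29723, e3 q30380 (flp_h L830247) q30901, e3 q30381 L824455 q29692, e3 q30382 (flp_h L830155) q30888, e3 q30383 L824477 q29775, e3 q30384 (flp_h L829899) q30861, e3 q30385 (flp_h L824489) q29676, e3 q30386 (flp_h L826162) q30555, e3 q30387 (flp_h L826146) q30554, e3 q30388 L829479 q30821, e3 q30389 (flp_h L824525) q29683, e3 q30390 L824543 q29714, e3 q30391 (flp_h L828528) q30733, e3 q30392 (flp_h L828560) q30735, e3 q30393 L824578 q29842, e3 q30394 L824582 q29843, e3 q30395 L824597 q29820, e3 q30396 L824609 q29852, e3 q30397 L830352 q30914, e3 q30398 L830362 q30915, e3 q30399 (flp_h L824624) q29700, trivial⟩ (by decide +kernel)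

theorem ce_h_475 : ∀ r, r < 64 → sm gh (Qf (30400 + r)) = Qf (tab Gen.h (30400 + r)) :=
  edges_tab (sm gh) Qf (tab Gen.h) 30400 [(30400, 30528), (30401, 30820), (30402, 29710), (30403, 29813), (30404, 29711), (30405, 29712), (30406, 30919), (30407, 30909), (30408, 29716), (30409, 29816), (30410, 29817), (30411, 30824), (30412, 30905), (30413, 30907), (30414, 29728), (30415, 29742), (30416, 29729), (30417, 30923), (30418, 29733), (30419, 29801), (30420, 29759), (30421, 30542), (30422, 30644), (30423, 30645), (30424, 30580), (30425, 30581), (30426, 30922), (30427, 30924), (30428, 30903), (30429, 30836), (30430, 30553), (30431, 30839), (30432, 30935), (30433, 29749), (30434, 29750), (30435, 30844), (30436, 29823), (30437, 30603), (30438, 30772), (30439, 30773), (30440, 30882), (30441, 30881), (30442, 29764), (30443, 30896), (30444, 30897), (30445, 30578), (30446, 30579), (30447, 30850), (30448, 30851), (30449, 30774), (30450, 29793), (30451, 30676), (30452, 29794), (30453, 29802), (30454, 29785), (30455, 29803), (30456, 30503),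 (30457, 30628), (30458, 30502), (30459, 29847), (30460, 29796), (30461, 29848), (30462, 30947), (30463, 30749)]
    ⟨e3 q30400 (flp_h L825753) q30528, e3 q30401 (flp_h L829465) q30820, e3 q30402 L824661 q29710, e3 q30403 L824671 q29813, e3 q30404 L824683 q29711, e3 q30405 L824691 q29712, e3 q30406 (flp_h L830406) q30919, e3 q30407 (flp_h L830318) q30909, e3 q30408 L824715 q29716, e3 q30409 L824729 q29816, e3 q30410 L824737 q29817, e3 q30411 (flp_h L829511) q30824, e3 q30412 (flp_h L830278) q30905, e3 q30413 (flp_h L830297) q30907, e3 q30414 L824773 q29728, e3 q30415 L824783 q29742, e3 q30416 L824789 q29729, e3 q30417 (flp_h L830442) q30923, e3 q30418 L824807 q29733, e3 q30419 L824815 q29801, e3 q30420 L824823 q29759, e3 q30421 (flp_h L825979) q30542, e3 q30422 (flp_h L827410) q30644, e3 q30423 (flp_h L827422) q30645, e3 q30424 (flp_h L826555) q30580, e3 q30425 (flp_h L826567) q30581, e3 q30426 (flp_h L830436) q30922, e3 q30427 (flp_h L830450) q30924, e3 q30428 L830260 q30903, e3 q30429 L829635 q30836, e3 q30430 (flp_h L826130)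 q30553, e3 q30431 L829660 q30839, e3 q30432 L830523 q30935, e3 q30433 (flp_h L824899) q29749, e3 q30434 (flp_h L824903) q29750, e3 q30435 (flp_h L829712) q30844, e3 q30436 L824918 q29823, e3 q30437 (flp_h L826895) q30603, e3 q30438 (flp_h L828932) q30772, e3 q30439 (flp_h L828942) q30773, e3 q30440 (flp_h L830095) q30882, e3 q30441 (flp_h L830083) q30881, e3 q30442 L824965 q29764, e3 q30443 (flp_h L830215) q30896, e3 q30444 (flp_h L830222) q30897, e3 q30445 (flp_h L826520) q30578, e3 q30446 (flp_h L826532) q30579, e3 q30447 (flp_h L829761) q30850, e3 q30448 (flp_h L829769) q30851, e3 q30449 (flp_h L828951) q30774, e3 q30450 L825014 q29793, e3 q30451 (flp_h L827852) q30676, e3 q30452 L825030 q29794, e3 q30453 L825038 q29802, e3 q30454 L825044 q29785, e3 q30455 L825048 q29803, e3 q30456 (flp_h L825395) q30503, e3 q30457 (flp_h L827188) q30628, e3 q30458 (flp_h L825377) q30502, e3 q30459 L825085 q29847, e3 q30460 L825091 q29796, e3 q30461 L825101 q29848, e3 q30462 (flp_h L830606) q30947, e3 q30463 (flp_h L828695) q30749, trivial⟩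 (by decide +kernel)

theorem ce_h_476 : ∀ r, r < 64 → sm gh (Qf (30464 + r)) = Qf (tab Gen.h (30464 + r)) :=
  edges_tab (sm gh) Qf (tab Gen.h) 30464 [(30464, 30751), (30465, 30925), (30466, 30926), (30467, 30949), (30468, 30798), (30469, 30799), (30470, 30731), (30471, 30732), (30472, 30800), (30473, 30917), (30474, 30918), (30475, 30642), (30476, 30643), (30477, 30920), (30478, 30777), (30479, 30792), (30480, 30793), (30481, 30886), (30482, 30967), (30483, 30968), (30484, 29830), (30485, 30593), (30486, 29832), (30487, 29855), (30488, 29856), (30489, 30591), (30490, 30582), (30491, 30583), (30492, 30823), (30493, 30825), (30494, 30912), (30495, 30778), (30496, 30953), (30497, 30978), (30498, 29849), (30499, 30743), (30500, 30970), (30501, 29858), (30502, 30458), (30503, 30456), (30504, 29901), (30505, 30983), (30506, 29866), (30507, 30133), (30508, 30289), (30509, 30135), (30510, 30283), (30511, 30138), (30512, 29883), (30513, 29996), (30514, 29884), (30515, 29998), (30516, 29885), (30517, 30121), (30518, 30999), (30519,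 30123), (30520, 31002), (30521, 29880), (30522, 30126), (30523, 30989), (30524, 30992), (30525, 31005), (30526, 31006), (30527, 29887)]
    ⟨e3 q30464 (flp_h L828719) q30751, e3 q30465 (flp_h L830459) q30925, e3 q30466 (flp_h L830465) q30926, e3 q30467 (flp_h L830621) q30949, e3 q30468 (flp_h L829242) q30798, e3 q30469 (flp_h L829252) q30799, e3 q30470 (flp_h L828503) q30731, e3 q30471 (flp_h L828511) q30732, e3 q30472 (flp_h L829267) q30800, e3 q30473 (flp_h L830387) q30917, e3 q30474 (flp_h L830395) q30918, e3 q30475 (flp_h L827375) q30642, e3 q30476 (flp_h L827387) q30643, e3 q30477 (flp_h L830418) q30920, e3 q30478 (flp_h L828992) q30777, e3 q30479 (flp_h L829169) q30792, e3 q30480 (flp_h L829179) q30793, e3 q30481 (flp_h L830133) q30886, e3 q30482 L830739 q30967, e3 q30483 L830747 q30968, e3 q30484 (flp_h L825240) q29830, e3 q30485 (flp_h L826748) q30593, e3 q30486 (flp_h L825255) q29832, e3 q30487 L825267 q29855, e3 q30488 L825275 q29856, e3 q30489 (flp_h L826723) q30591, e3 q30490 (flp_h L826590) q30582, e3 q30491 (flp_h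 L826602) q30583, e3 q30492 (flp_h L829501) q30823, e3 q30493 (flp_h L829519) q30825, e3 q30494 (flp_h L830344) q30912, e3 q30495 (flp_h L829006) q30778, e3 q30496 (flp_h L830658) q30953, e3 q30497 L830810 q30978, e3 q30498 (flp_h L825328) q29849, e3 q30499 (flp_h L828628) q30743, e3 q30500 (flp_h L830768) q30970, e3 q30501 (flp_h L825343) q29858, e3 q30502 L825377 q30458, e3 q30503 L825395 q30456, e3 q30504 L825409 q29901, e3 q30505 L830870 q30983, e3 q30506 (flp_h L825429) q29866, e3 q30507 L825458 q30133, e3 q30508 (flp_h L825476) q30289, e3 q30509 L825486 q30135, e3 q30510 L825502 q30283, e3 q30511 L825520 q30138, e3 q30512 L825540 q29883, e3 q30513 L825556 q29996, e3 q30514 L825566 q29884, e3 q30515 L825581 q29998, e3 q30516 L825593 q29885, e3 q30517 L825613 q30121, e3 q30518 L831120 q30999, e3 q30519 L825637 q30123, e3 q30520 L831165 q31002, e3 q30521 (flp_h L825656) q29880, e3 q30522 L825677 q30126, e3 q30523 (flp_h L830982) q30989, e3 q30524 (flp_h L831023) q30992, e3 q30525 L831206 q31005, e3 q30526 L831218 q31006,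 e3 q30527 (flp_h L825730) q29887, trivial⟩ (by decide +kernel)

theorem ce_h_477 : ∀ r, r < 64 → sm gh (Qf (30528 + r)) = Qf (tab Gen.h (30528 + r)) :=
  edges_tab (sm gh) Qf (tab Gen.h) 30528 [(30528, 30400), (30529, 29894), (30530, 30019), (30531, 29895), (30532, 29896), (30533, 31009), (30534, 31011), (30535, 30177), (30536, 31015), (30537, 30179), (30538, 29899), (30539, 31016), (30540, 29902), (30541, 29939), (30542, 30421), (30543, 29940), (30544, 30338), (30545, 30029), (30546, 29912), (30547, 30031), (30548, 30032), (30549, 30033), (30550, 29913), (30551, 29950), (30552, 30285), (30553, 30430), (30554, 30387), (30555, 30386), (30556, 30290), (30557, 30107), (30558, 29999), (30559, 29991), (30560, 31032), (30561, 29993), (30562, 31033), (30563, 29932), (30564, 31036), (30565, 29945), (30566, 31038), (30567, 30256), (30568, 29935), (30569, 30994), (30570, 31018), (30571, 30363), (30572, 29948), (30573, 29944), (30574, 30005), (30575, 31026), (30576, 30058), (30577, 30100), (30578, 30445), (30579, 30446), (30580, 30424),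 (30581, 30425), (30582, 30490), (30583, 30491), (30584, 31048), (30585, 31049), (30586, 29963), (30587, 30131), (30588, 30278), (30589, 30280), (30590, 29979), (30591, 30489)]
    ⟨e3 q30528 L825753 q30400, e3 q30529 L825767 q29894, e3 q30530 L825783 q30019, e3 q30531 L825797 q29895, e3 q30532 L825813 q29896, e3 q30533 (flp_h L831273) q31009, e3 q30534 (flp_h L831306) q31011, e3 q30535 L825865 q30177, e3 q30536 L831370 q31015, e3 q30537 L825895 q30179, e3 q30538 (flp_h L825903) q29899, e3 q30539 L831388 q31016, e3 q30540 (flp_h L825937) q29902, e3 q30541 L825963 q29939, e3 q30542 L825979 q30421, e3 q30543 L825989 q29940, e3 q30544 L826006 q30338, e3 q30545 L826020 q30029, e3 q30546 L826030 q29912, e3 q30547 L826040 q30031, e3 q30548 L826053 q30032, e3 q30549 L826066 q30033, e3 q30550 (flp_h L826070) q29913, e3 q30551 L826098 q29950, e3 q30552 (flp_h L826116) q30285, e3 q30553 L826130 q30430, e3 q30554 L826146 q30387, e3 q30555 L826162 q30386, e3 q30556 L826180 q30290, e3 q30557 L826196 q30107, e3 q30558 L826214 q29999, e3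 q30559 L826234 q29991, e3 q30560 L831628 q31032, e3 q30561 L826258 q29993, e3 q30562 L831640 q31033, e3 q30563 (flp_h L826281) q29932, e3 q30564 L831685 q31036, e3 q30565 L826316 q29945, e3 q30566 L831716 q31038, e3 q30567 (flp_h L826345) q30256, e3 q30568 (flp_h L826347) q29935, e3 q30569 (flp_h L831057) q30994, e3 q30570 (flp_h L831430) q31018, e3 q30571 L826400 q30363, e3 q30572 L826420 q29948, e3 q30573 (flp_h L826426) q29944, e3 q30574 L826456 q30005, e3 q30575 (flp_h L831549) q31026, e3 q30576 L826482 q30058, e3 q30577 L826502 q30100, e3 q30578 L826520 q30445, e3 q30579 L826532 q30446, e3 q30580 L826555 q30424, e3 q30581 L826567 q30425, e3 q30582 L826590 q30490, e3 q30583 L826602 q30491, e3 q30584 L831884 q31048, e3 q30585 L831900 q31049, e3 q30586 (flp_h L826634) q29963, e3 q30587 L826663 q30131, e3 q30588 L826677 q30278, e3 q30589 L826689 q30280, e3 q30590 L826707 q29979, e3 q30591 L826723 q30489, trivial⟩ (by decide +kernel)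

theorem ce_h_478 : ∀ r, r < 64 → sm gh (Qf (30592 + r)) = Qf (tab Gen.h (30592 + r)) :=
  edges_tab (sm gh) Qf (tab Gen.h) 30592 [(30592, 29980), (30593, 30485), (30594, 29981), (30595, 30189), (30596, 30155), (30597, 30191), (30598, 30157), (30599, 30141), (30600, 31053), (30601, 31056), (30602, 30021), (30603, 30437), (30604, 30022), (30605, 30263), (30606, 31068), (30607, 31069), (30608, 29987), (30609, 30361), (30610, 31070), (30611, 31029), (30612, 29992), (30613, 30988), (30614, 30004), (30615, 30990), (30616, 30991), (30617, 30993), (30618, 31077), (30619, 30254), (30620, 31079), (30621, 31080), (30622, 30000), (30623, 30002), (30624, 31041), (30625, 31082), (30626, 30006), (30627, 30007), (30628, 30457), (30629, 30304), (30630, 31089), (30631, 30192), (30632, 31021), (30633, 30012), (30634, 31091), (30635, 31092), (30636, 30015), (30637, 30048), (30638, 31008), (30639, 31010), (30640, 31064), (30641, 30023), (30642, 30475), (30643, 30476), (30644, 30422), (30645, 30423), (30646, 31022), (30647, 31023), (30648, 31024),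 (30649, 31025), (30650, 30057), (30651, 30098), (30652, 30185), (30653, 31105), (30654, 30110), (30655, 31107)]
    ⟨e3 q30592 L826733 q29980, e3 q30593 L826748 q30485, e3 q30594 L826762 q29981, e3 q30595 L826782 q30189, e3 q30596 L826798 q30155, e3 q30597 L826808 q30191, e3 q30598 L826823 q30157, e3 q30599 L826837 q30141, e3 q30600 (flp_h L831973) q31053, e3 q30601 (flp_h L832016) q31056, e3 q30602 L826879 q30021, e3 q30603 L826895 q30437, e3 q30604 L826905 q30022, e3 q30605 L826922 q30263, e3 q30606 L832186 q31068, e3 q30607 L832202 q31069, e3 q30608 (flp_h L826947) q29987, e3 q30609 L826973 q30361, e3 q30610 L832217 q31070, e3 q30611 (flp_h L831593) q31029, e3 q30612 (flp_h L826997) q29992, e3 q30613 (flp_h L830970) q30988, e3 q30614 L827027 q30004, e3 q30615 (flp_h L830996) q30990, e3 q30616 (flp_h L831011) q30991, e3 q30617 (flp_h L831038) q30993, e3 q30618 L832290 q31077, e3 q30619 L827083 q30254, e3 q30620 L832313 q31079, e3 q30621 L832328 q31080, e3 q30622 (flp_h L827106) q30000, e3 q30623 (flp_h L827120) q30002, e3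 q30624 (flp_h L831781) q31041, e3 q30625 L832351 q31082, e3 q30626 (flp_h L827157) q30006, e3 q30627 (flp_h L827167) q30007, e3 q30628 L827188 q30457, e3 q30629 L827202 q30304, e3 q30630 L832451 q31089, e3 q30631 L827226 q30192, e3 q30632 (flp_h L831476) q31021, e3 q30633 (flp_h L827249) q30012, e3 q30634 L832475 q31091, e3 q30635 L832485 q31092, e3 q30636 (flp_h L827283) q30015, e3 q30637 L827304 q30048, e3 q30638 (flp_h L831257) q31008, e3 q30639 (flp_h L831289) q31010, e3 q30640 (flp_h L832139) q31064, e3 q30641 (flp_h L827343) q30023, e3 q30642 L827375 q30475, e3 q30643 L827387 q30476, e3 q30644 L827410 q30422, e3 q30645 L827422 q30423, e3 q30646 (flp_h L831490) q31022, e3 q30647 (flp_h L831504) q31023, e3 q30648 (flp_h L831517) q31024, e3 q30649 (flp_h L831529) q31025, e3 q30650 L827488 q30057, e3 q30651 L827502 q30098, e3 q30652 L827522 q30185, e3 q30653 L832663 q31105, e3 q30654 L827544 q30110, e3 q30655 L832694 q31107, trivial⟩ (by decide +kernel)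

theorem ce_h_479 : ∀ r, r < 64 → sm gh (Qf (30656 + r)) = Qf (tab Gen.h (30656 + r)) :=
  edges_tab (sm gh) Qf (tab Gen.h) 30656 [(30656, 30168), (30657, 30041), (30658, 31109), (30659, 30045), (30660, 30046), (30661, 31093), (30662, 30068), (30663, 30129), (30664, 30069), (30665, 30173), (30666, 30324), (30667, 30174), (30668, 31114), (30669, 30328), (30670, 30329), (30671, 30158), (30672, 30077), (30673, 30160), (30674, 30161), (30675, 30092), (30676, 30451), (30677, 30093), (30678, 30094), (30679, 30339), (30680, 31130), (30681, 30340), (30682, 31001), (30683, 30089), (30684, 30124), (30685, 31123), (30686, 31125), (30687, 31134), (30688, 31111), (30689, 30096), (30690, 31042), (30691, 30103), (30692, 31043), (30693, 30120), (30694, 30118), (30695, 30104), (30696, 30114), (30697, 30109), (30698, 30231), (30699, 31139), (30700, 30242), (30701, 31138), (30702, 31136), (30703, 31137), (30704, 31145), (30705, 30996), (30706, 31131), (30707, 30122), (30708, 31000), (30709, 31113), (30710, 30139), (30711, 31115), (30712, 31050),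 (30713, 30140), (30714, 30322), (30715, 30188), (30716, 31155), (30717, 30985), (30718, 31158), (30719, 31160)]
    ⟨e3 q30656 (flp_h L827571) q30168, e3 q30657 (flp_h L827573) q30041, e3 q30658 L832718 q31109, e3 q30659 (flp_h L827597) q30045, e3 q30660 (flp_h L827607) q30046, e3 q30661 (flp_h L832506) q31093, e3 q30662 L827638 q30068, e3 q30663 L827654 q30129, e3 q30664 L827664 q30069, e3 q30665 L827684 q30173, e3 q30666 L827700 q30324, e3 q30667 L827714 q30174, e3 q30668 (flp_h L832786) q31114, e3 q30669 L827746 q30328, e3 q30670 L827754 q30329, e3 q30671 L827771 q30158, e3 q30672 L827783 q30077, e3 q30673 L827797 q30160, e3 q30674 L827816 q30161, e3 q30675 L827836 q30092, e3 q30676 L827852 q30451, e3 q30677 L827862 q30093, e3 q30678 L827876 q30094, e3 q30679 L827896 q30339, e3 q30680 L833032 q31130, e3 q30681 L827920 q30340, e3 q30682 L831163 q31001, e3 q30683 (flp_h L827939) q30089, e3 q30684 L827960 q30124, e3 q30685 (flp_h L832940) q31123, e3 q30686 (flp_h L832969) q31125, e3 q30687 L833090 q31134, e3 q30688 (flp_h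 L832749) q31111, e3 q30689 (flp_h L828021) q30096, e3 q30690 (flp_h L831799) q31042, e3 q30691 L828053 q30103, e3 q30692 (flp_h L831811) q31043, e3 q30693 L828074 q30120, e3 q30694 L828087 q30118, e3 q30695 (flp_h L828091) q30104, e3 q30696 L828121 q30114, e3 q30697 (flp_h L828123) q30109, e3 q30698 L828153 q30231, e3 q30699 (flp_h L833167) q31139, e3 q30700 L828181 q30242, e3 q30701 (flp_h L833147) q31138, e3 q30702 (flp_h L833122) q31136, e3 q30703 (flp_h L833135) q31137, e3 q30704 L833238 q31145, e3 q30705 (flp_h L831089) q30996, e3 q30706 (flp_h L833052) q31131, e3 q30707 (flp_h L828246) q30122, e3 q30708 (flp_h L831140) q31000, e3 q30709 (flp_h L832774) q31113, e3 q30710 L828280 q30139, e3 q30711 (flp_h L832802) q31115, e3 q30712 (flp_h L831929) q31050, e3 q30713 L828299 q30140, e3 q30714 L828306 q30322, e3 q30715 L828323 q30188, e3 q30716 L833337 q31155, e3 q30717 (flp_h L830914) q30985, e3 q30718 L833366 q31158, e3 q30719 L833389 q31160, trivial⟩ (by decide +kernel)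

theorem ce_h_480 : ∀ r, r < 64 → sm gh (Qf (30720 + r)) = Qf (tab Gen.h (30720 + r)) :=
  edges_tab (sm gh) Qf (tab Gen.h) 30720 [(30720, 30134), (30721, 30987), (30722, 30281), (30723, 30136), (30724, 31149), (30725, 31061), (30726, 31163), (30727, 30142), (30728, 30143), (30729, 30298), (30730, 30169), (30731, 30470), (30732, 30471), (30733, 30391), (30734, 30153), (30735, 30392), (30736, 31057), (30737, 30190), (30738, 31059), (30739, 31060), (30740, 30364), (30741, 31120), (30742, 31121), (30743, 30499), (30744, 30334), (30745, 30200), (30746, 30229), (30747, 31104), (30748, 31106), (30749, 30463), (30750, 30176), (30751, 30464), (30752, 31117), (30753, 31180), (30754, 31014), (30755, 31182), (30756, 31183), (30757, 30178), (30758, 30180), (30759, 31186), (30760, 31101), (30761, 30182), (30762, 31102), (30763, 30184), (30764, 30241), (30765, 31152), (30766, 31058), (30767, 31086), (30768, 30244), (30769, 30245), (30770, 30243), (30771, 30307), (30772, 30438), (30773, 30439), (30774, 30449), (30775, 30325), (30776, 30327),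 (30777, 30478), (30778, 30495), (30779, 31198), (30780, 31199), (30781, 30214), (30782, 31202), (30783, 30311)]
    ⟨e3 q30720 (flp_h L828366) q30134, e3 q30721 (flp_h L830948) q30987, e3 q30722 (flp_h L828397) q30281, e3 q30723 (flp_h L828399) q30136, e3 q30724 (flp_h L833280) q31149, e3 q30725 (flp_h L832093) q31061, e3 q30726 L833428 q31163, e3 q30727 (flp_h L828446) q30142, e3 q30728 (flp_h L828456) q30143, e3 q30729 L828475 q30298, e3 q30730 L828489 q30169, e3 q30731 L828503 q30470, e3 q30732 L828511 q30471, e3 q30733 L828528 q30391, e3 q30734 L828544 q30153, e3 q30735 L828560 q30392, e3 q30736 (flp_h L832038) q31057, e3 q30737 L828577 q30190, e3 q30738 (flp_h L832064) q31059, e3 q30739 (flp_h L832079) q31060, e3 q30740 L828601 q30364, e3 q30741 (flp_h L832886) q31120, e3 q30742 (flp_h L832906) q31121, e3 q30743 L828628 q30499, e3 q30744 L828636 q30334, e3 q30745 L828648 q30200, e3 q30746 L828662 q30229, e3 q30747 L832661 q31104, e3 q30748 L832692 q31106, e3 q30749 L828695 q30463, e3 q30750 L828707 q30176, e3 q30751 L828719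 q30464, e3 q30752 (flp_h L832839) q31117, e3 q30753 L833602 q31180, e3 q30754 (flp_h L831362) q31014, e3 q30755 L833615 q31182, e3 q30756 L833622 q31183, e3 q30757 (flp_h L828769) q30178, e3 q30758 (flp_h L828775) q30180, e3 q30759 L833647 q31186, e3 q30760 (flp_h L832618) q31101, e3 q30761 (flp_h L828800) q30182, e3 q30762 (flp_h L832630) q31102, e3 q30763 (flp_h L828813) q30184, e3 q30764 L828826 q30241, e3 q30765 (flp_h L833311) q31152, e3 q30766 (flp_h L832050) q31058, e3 q30767 (flp_h L832416) q31086, e3 q30768 L828878 q30244, e3 q30769 L828892 q30245, e3 q30770 L828906 q30243, e3 q30771 L828918 q30307, e3 q30772 L828932 q30438, e3 q30773 L828942 q30439, e3 q30774 L828951 q30449, e3 q30775 L828967 q30325, e3 q30776 L828977 q30327, e3 q30777 L828992 q30478, e3 q30778 L829006 q30495, e3 q30779 L833792 q31198, e3 q30780 L833806 q31199, e3 q30781 (flp_h L829035) q30214, e3 q30782 L833843 q31202, e3 q30783 L829067 q30311, trivial⟩ (by decide +kernel)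

theorem ce_h_481 : ∀ r, r < 64 → sm gh (Qf (30784 + r)) = Qf (tab Gen.h (30784 + r)) :=
  edges_tab (sm gh) Qf (tab Gen.h) 30784 [(30784, 31205), (30785, 30359), (30786, 30217), (30787, 30308), (30788, 30349), (30789, 31207), (30790, 30224), (30791, 30225), (30792, 30479), (30793, 30480), (30794, 31209), (30795, 31140), (30796, 30230), (30797, 30233), (30798, 30468), (30799, 30469), (30800, 30472), (30801, 31187), (30802, 31189), (30803, 31191), (30804, 31214), (30805, 31215), (30806, 30248), (30807, 31217), (30808, 30250), (30809, 30251), (30810, 31035), (30811, 31037), (30812, 31220), (30813, 31221), (30814, 30258), (30815, 31223), (30816, 30260), (30817, 30261), (30818, 31066), (30819, 31227), (30820, 30401), (30821, 30388), (30822, 30265), (30823, 30492), (30824, 30411), (30825, 30493), (30826, 30350), (30827, 30272), (30828, 30305), (30829, 31232), (30830, 31051), (30831, 31235), (30832, 31159), (30833, 30279), (30834, 30986), (30835, 31238), (30836, 30429), (30837, 30284), (30838, 30984), (30839, 30431), (30840, 30286),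 (30841, 31240), (30842, 30291), (30843, 30292), (30844, 30435), (30845, 31243), (30846, 30295), (30847, 31164)]
    ⟨e3 q30784 L833884 q31205, e3 q30785 (flp_h L829090) q30359, e3 q30786 (flp_h L829092) q30217, e3 q30787 L829112 q30308, e3 q30788 L829126 q30349, e3 q30789 L833902 q31207, e3 q30790 (flp_h L829138) q30224, e3 q30791 (flp_h L829148) q30225, e3 q30792 L829169 q30479, e3 q30793 L829179 q30480, e3 q30794 L833926 q31209, e3 q30795 (flp_h L833185) q31140, e3 q30796 (flp_h L829208) q30230, e3 q30797 (flp_h L829216) q30233, e3 q30798 L829242 q30468, e3 q30799 L829252 q30469, e3 q30800 L829267 q30472, e3 q30801 (flp_h L833663) q31187, e3 q30802 (flp_h L833686) q31189, e3 q30803 (flp_h L833711) q31191, e3 q30804 L833987 q31214, e3 q30805 L833999 q31215, e3 q30806 (flp_h L829327) q30248, e3 q30807 L834017 q31217, e3 q30808 (flp_h L829343) q30250, e3 q30809 (flp_h L829353) q30251, e3 q30810 L831683 q31035, e3 q30811 L831714 q31037, e3 q30812 L834045 q31220, e3 q30813 L834055 q31221, e3 q30814 (flp_h L829398) q30258, e3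 q30815 L834069 q31223, e3 q30816 (flp_h L829414) q30260, e3 q30817 (flp_h L829424) q30261, e3 q30818 (flp_h L832170) q31066, e3 q30819 L834114 q31227, e3 q30820 L829465 q30401, e3 q30821 (flp_h L829479) q30388, e3 q30822 (flp_h L829481) q30265, e3 q30823 L829501 q30492, e3 q30824 L829511 q30411, e3 q30825 L829519 q30493, e3 q30826 (flp_h L829536) q30350, e3 q30827 (flp_h L829538) q30272, e3 q30828 L829562 q30305, e3 q30829 L834172 q31232, e3 q30830 (flp_h L831941) q31051, e3 q30831 L834201 q31235, e3 q30832 L833387 q31159, e3 q30833 (flp_h L829601) q30279, e3 q30834 (flp_h L830930) q30986, e3 q30835 L834225 q31238, e3 q30836 (flp_h L829635) q30429, e3 q30837 (flp_h L829637) q30284, e3 q30838 L830902 q30984, e3 q30839 (flp_h L829660) q30431, e3 q30840 (flp_h L829662) q30286, e3 q30841 L834244 q31240, e3 q30842 (flp_h L829681) q30291, e3 q30843 (flp_h L829691) q30292, e3 q30844 L829712 q30435, e3 q30845 L834281 q31243, e3 q30846 (flp_h L829717) q30295, e3 q30847 (flp_h L833448) q31164, trivial⟩ (by decide +kernel)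

theorem ce_h_482 : ∀ r, r < 64 → sm gh (Qf (30848 + r)) = Qf (tab Gen.h (30848 + r)) :=
  edges_tab (sm gh) Qf (tab Gen.h) 30848 [(30848, 30368), (30849, 31165), (30850, 30447), (30851, 30448), (30852, 31249), (30853, 30301), (30854, 30302), (30855, 31229), (30856, 31203), (30857, 30306), (30858, 30352), (30859, 30355), (30860, 30314), (30861, 30384), (30862, 30366), (30863, 30342), (30864, 31151), (30865, 31116), (30866, 31118), (30867, 31194), (30868, 31119), (30869, 31255), (30870, 30330), (30871, 31174), (30872, 31175), (30873, 31258), (30874, 30335), (30875, 30336), (30876, 31020), (30877, 31127), (30878, 31261), (30879, 30341), (30880, 30343), (30881, 30441), (30882, 30440), (30883, 31226), (30884, 31250), (30885, 30353), (30886, 30481), (30887, 31201), (30888, 30382), (30889, 31204), (30890, 31267), (30891, 31040), (30892, 31269), (30893, 31171), (30894, 30362), (30895, 31244), (30896, 30443), (30897, 30444), (30898, 31273), (30899, 30370), (30900, 30371), (30901, 30380), (30902, 31277), (30903, 30428), (30904, 30374),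 (30905, 30412), (30906, 31274), (30907, 30413), (30908, 31275), (30909, 30407), (30910, 31027), (30911, 31167)]
    ⟨e3 q30848 L829742 q30368, e3 q30849 (flp_h L833459) q31165, e3 q30850 L829761 q30447, e3 q30851 L829769 q30448, e3 q30852 L834338 q31249, e3 q30853 (flp_h L829782) q30301, e3 q30854 (flp_h L829800) q30302, e3 q30855 (flp_h L834150) q31229, e3 q30856 (flp_h L833867) q31203, e3 q30857 (flp_h L829845) q30306, e3 q30858 L829861 q30352, e3 q30859 L829873 q30355, e3 q30860 (flp_h L829875) q30314, e3 q30861 L829899 q30384, e3 q30862 L829909 q30366, e3 q30863 L829923 q30342, e3 q30864 (flp_h L833293) q31151, e3 q30865 (flp_h L832823) q31116, e3 q30866 (flp_h L832857) q31118, e3 q30867 (flp_h L833746) q31194, e3 q30868 (flp_h L832872) q31119, e3 q30869 L834400 q31255, e3 q30870 (flp_h L829975) q30330, e3 q30871 (flp_h L833549) q31174, e3 q30872 (flp_h L833560) q31175, e3 q30873 L834428 q31258, e3 q30874 (flp_h L830010) q30335, e3 q30875 (flp_h L830020) q30336, e3 q30876 (flp_h L831461) q31020, e3 q30877 (flp_h L833001)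 q31127, e3 q30878 L834457 q31261, e3 q30879 (flp_h L830059) q30341, e3 q30880 (flp_h L830067) q30343, e3 q30881 L830083 q30441, e3 q30882 L830095 q30440, e3 q30883 L834112 q31226, e3 q30884 (flp_h L834364) q31250, e3 q30885 (flp_h L830115) q30353, e3 q30886 L830133 q30481, e3 q30887 L833841 q31201, e3 q30888 L830155 q30382, e3 q30889 L833882 q31204, e3 q30890 L834508 q31267, e3 q30891 (flp_h L831757) q31040, e3 q30892 L834521 q31269, e3 q30893 (flp_h L833520) q31171, e3 q30894 (flp_h L830197) q30362, e3 q30895 (flp_h L834298) q31244, e3 q30896 L830215 q30443, e3 q30897 L830222 q30444, e3 q30898 L834546 q31273, e3 q30899 (flp_h L830230) q30370, e3 q30900 (flp_h L830234) q30371, e3 q30901 L830247 q30380, e3 q30902 L834582 q31277, e3 q30903 (flp_h L830260) q30428, e3 q30904 (flp_h L830262) q30374, e3 q30905 L830278 q30412, e3 q30906 (flp_h L834560) q31274, e3 q30907 L830297 q30413, e3 q30908 (flp_h L834569) q31275, e3 q30909 L830318 q30407, e3 q30910 (flp_h L831563) q31027, e3 q30911 (flp_h L833485) q31167, trivial⟩ (by decide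 +kernel)

theorem ce_h_483 : ∀ r, r < 64 → sm gh (Qf (30912 + r)) = Qf (tab Gen.h (30912 + r)) :=
  edges_tab (sm gh) Qf (tab Gen.h) 30912 [(30912, 30494), (30913, 31283), (30914, 30397), (30915, 30398), (30916, 31007), (30917, 30473), (30918, 30474), (30919, 30406), (30920, 30477), (30921, 31278), (30922, 30426), (30923, 30417), (30924, 30427), (30925, 30465), (30926, 30466), (30927, 31017), (30928, 31019), (30929, 31096), (30930, 31045), (30931, 31289), (30932, 31276), (30933, 31237), (30934, 31296), (30935, 30432), (30936, 31241), (30937, 31242), (30938, 31063), (30939, 31065), (30940, 31192), (30941, 31262), (30942, 31271), (30943, 31044), (30944, 31247), (30945, 31193), (30946, 31122), (30947, 30462), (30948, 31124), (30949, 30467), (30950, 31083), (30951, 30980), (30952, 31084), (30953, 30496), (30954, 31177), (30955, 31290), (30956, 31304), (30957, 31210), (30958, 31166), (30959, 31211), (30960, 31286), (30961, 31095), (30962, 31287), (30963, 31195), (30964, 31208), (30965, 31263), (30966, 31315), (30967, 30482), (30968,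 30483), (30969, 31055), (30970, 30500), (30971, 31052), (30972, 31054), (30973, 31046), (30974, 31228), (30975, 31281)]
    ⟨e3 q30912 L830344 q30494, e3 q30913 L834638 q31283, e3 q30914 (flp_h L830352) q30397, e3 q30915 (flp_h L830362) q30398, e3 q30916 (flp_h L831241) q31007, e3 q30917 L830387 q30473, e3 q30918 L830395 q30474, e3 q30919 L830406 q30406, e3 q30920 L830418 q30477, e3 q30921 (flp_h L834597) q31278, e3 q30922 L830436 q30426, e3 q30923 L830442 q30417, e3 q30924 L830450 q30427, e3 q30925 L830459 q30465, e3 q30926 L830465 q30466, e3 q30927 (flp_h L831418) q31017, e3 q30928 (flp_h L831446) q31019, e3 q30929 (flp_h L832550) q31096, e3 q30930 (flp_h L831848) q31045, e3 q30931 (flp_h L834699) q31289, e3 q30932 L834580 q31276, e3 q30933 L834223 q31237, e3 q30934 L834743 q31296, e3 q30935 (flp_h L830523) q30432, e3 q30936 (flp_h L834266) q31241, e3 q30937 (flp_h L834279) q31242, e3 q30938 (flp_h L832127) q31063, e3 q30939 (flp_h L832155) q31065, e3 q30940 (flp_h L833725) q31192, e3 q30941 (flp_h L834473) q31262, e3 q30942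 (flp_h L834539) q31271, e3 q30943 (flp_h L831830) q31044, e3 q30944 (flp_h L834327) q31247, e3 q30945 (flp_h L833731) q31193, e3 q30946 (flp_h L832928) q31122, e3 q30947 L830606 q30462, e3 q30948 (flp_h L832954) q31124, e3 q30949 L830621 q30467, e3 q30950 (flp_h L832375) q31083, e3 q30951 (flp_h L830837) q30980, e3 q30952 (flp_h L832390) q31084, e3 q30953 L830658 q30496, e3 q30954 (flp_h L833582) q31177, e3 q30955 (flp_h L834707) q31290, e3 q30956 (flp_h L834800) q31304, e3 q30957 (flp_h L833946) q31210, e3 q30958 (flp_h L833469) q31166, e3 q30959 (flp_h L833958) q31211, e3 q30960 (flp_h L834671) q31286, e3 q30961 (flp_h L832532) q31095, e3 q30962 (flp_h L834679) q31287, e3 q30963 (flp_h L833760) q31195, e3 q30964 (flp_h L833920) q31208, e3 q30965 (flp_h L834481) q31263, e3 q30966 L834876 q31315, e3 q30967 (flp_h L830739) q30482, e3 q30968 (flp_h L830747) q30483, e3 q30969 (flp_h L832002) q31055, e3 q30970 L830768 q30500, e3 q30971 (flp_h L831961) q31052, e3 q30972 (flp_h L831987) q31054, e3 q30973 (flp_h L831866) q31046,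 e3 q30974 (flp_h L834136) q31228, e3 q30975 (flp_h L834626) q31281, trivial⟩ (by decide +kernel)

theorem ce_h_484 : ∀ r, r < 64 → sm gh (Qf (30976 + r)) = Qf (tab Gen.h (30976 + r)) :=
  edges_tab (sm gh) Qf (tab Gen.h) 30976 [(30976, 31196), (30977, 31306), (30978, 30497), (30979, 31173), (30980, 30951), (30981, 31323), (30982, 31324), (30983, 30505), (30984, 30838), (30985, 30717), (30986, 30834), (30987, 30721), (30988, 30613), (30989, 30523), (30990, 30615), (30991, 30616), (30992, 30524), (30993, 30617), (30994, 30569), (30995, 31335), (30996, 30705), (30997, 31338), (30998, 31340), (30999, 30518), (31000, 30708), (31001, 30682), (31002, 30520), (31003, 31329), (31004, 31342), (31005, 30525), (31006, 30526), (31007, 30916), (31008, 30638), (31009, 30533), (31010, 30639), (31011, 30534), (31012, 31346), (31013, 31347), (31014, 30754), (31015, 30536), (31016, 30539), (31017, 30927), (31018, 30570), (31019, 30928), (31020, 30876), (31021, 30632), (31022, 30646), (31023, 30647), (31024, 30648), (31025, 30649), (31026, 30575),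 (31027, 30910), (31028, 31358), (31029, 30611), (31030, 31360), (31031, 31361), (31032, 30560), (31033, 30562), (31034, 31364), (31035, 30810), (31036, 30564), (31037, 30811), (31038, 30566), (31039, 31332)]
    ⟨e3 q30976 (flp_h L833773) q31196, e3 q30977 (flp_h L834819) q31306, e3 q30978 (flp_h L830810) q30497, e3 q30979 (flp_h L833541) q31173, e3 q30980 L830837 q30951, e3 q30981 L834938 q31323, e3 q30982 L834956 q31324, e3 q30983 (flp_h L830870) q30505, e3 q30984 (flp_h L830902) q30838, e3 q30985 L830914 q30717, e3 q30986 L830930 q30834, e3 q30987 L830948 q30721, e3 q30988 L830970 q30613, e3 q30989 L830982 q30523, e3 q30990 L830996 q30615, e3 q30991 L831011 q30616, e3 q30992 L831023 q30524, e3 q30993 L831038 q30617, e3 q30994 L831057 q30569, e3 q30995 L835134 q31335, e3 q30996 L831089 q30705, e3 q30997 L835179 q31338, e3 q30998 L835208 q31340, e3 q30999 (flp_h L831120) q30518, e3 q31000 L831140 q30708, e3 q31001 (flp_h L831163) q30682, e3 q31002 (flp_h L831165) q30520, e3 q31003 (flp_h L835053) q31329, e3 q31004 L835237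 q31342, e3 q31005 (flp_h L831206) q30525, e3 q31006 (flp_h L831218) q30526, e3 q31007 L831241 q30916, e3 q31008 L831257 q30638, e3 q31009 L831273 q30533, e3 q31010 L831289 q30639, e3 q31011 L831306 q30534, e3 q31012 (flp_h L835310) q31346, e3 q31013 L835318 q31347, e3 q31014 L831362 q30754, e3 q31015 (flp_h L831370) q30536, e3 q31016 (flp_h L831388) q30539, e3 q31017 L831418 q30927, e3 q31018 L831430 q30570, e3 q31019 L831446 q30928, e3 q31020 L831461 q30876, e3 q31021 L831476 q30632, e3 q31022 L831490 q30646, e3 q31023 L831504 q30647, e3 q31024 L831517 q30648, e3 q31025 L831529 q30649, e3 q31026 L831549 q30575, e3 q31027 L831563 q30910, e3 q31028 L835483 q31358, e3 q31029 L831593 q30611, e3 q31030 L835512 q31360, e3 q31031 L835525 q31361, e3 q31032 (flp_h L831628) q30560, e3 q31033 (flp_h L831640) q30562, e3 q31034 L835570 q31364, e3 q31035 (flp_h L831683) q30810, e3 q31036 (flp_h L831685) q30564, e3 q31037 (flp_h L831714) q30811, e3 q31038 (flp_h L831716) q30566, e3 q31039 (flp_h L835098) q31332, trivial⟩ (by decide +kernel)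

theorem ce_h_485 : ∀ r, r < 64 → sm gh (Qf (31040 + r)) = Qf (tab Gen.h (31040 + r)) :=
  edges_tab (sm gh) Qf (tab Gen.h) 31040 [(31040, 30891), (31041, 30624), (31042, 30690), (31043, 30692), (31044, 30943), (31045, 30930), (31046, 30973), (31047, 31372), (31048, 30584), (31049, 30585), (31050, 30712), (31051, 30830), (31052, 30971), (31053, 30600), (31054, 30972), (31055, 30969), (31056, 30601), (31057, 30736), (31058, 30766), (31059, 30738), (31060, 30739), (31061, 30725), (31062, 31377), (31063, 30938), (31064, 30640), (31065, 30939), (31066, 30818), (31067, 31387), (31068, 30606), (31069, 30607), (31070, 30610), (31071, 31327), (31072, 31328), (31073, 31330), (31074, 31331), (31075, 31394), (31076, 31395), (31077, 30618), (31078, 31396), (31079, 30620), (31080, 30621), (31081, 31397), (31082, 30625), (31083, 30950), (31084, 30952), (31085, 31401), (31086, 30767), (31087, 31403), (31088, 31351), (31089, 30630), (31090, 31405), (31091, 30634), (31092, 30635), (31093, 30661), (31094, 31345), (31095, 30961), (31096, 30929),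 (31097, 31352), (31098, 31353), (31099, 31354), (31100, 31355), (31101, 30760), (31102, 30762), (31103, 31416)]
    ⟨e3 q31040 L831757 q30891, e3 q31041 L831781 q30624, e3 q31042 L831799 q30690, e3 q31043 L831811 q30692, e3 q31044 L831830 q30943, e3 q31045 L831848 q30930, e3 q31046 L831866 q30973, e3 q31047 L835705 q31372, e3 q31048 (flp_h L831884) q30584, e3 q31049 (flp_h L831900) q30585, e3 q31050 L831929 q30712, e3 q31051 L831941 q30830, e3 q31052 L831961 q30971, e3 q31053 L831973 q30600, e3 q31054 L831987 q30972, e3 q31055 L832002 q30969, e3 q31056 L832016 q30601, e3 q31057 L832038 q30736, e3 q31058 L832050 q30766, e3 q31059 L832064 q30738, e3 q31060 L832079 q30739, e3 q31061 L832093 q30725, e3 q31062 (flp_h L835798) q31377, e3 q31063 L832127 q30938, e3 q31064 L832139 q30640, e3 q31065 L832155 q30939, e3 q31066 L832170 q30818, e3 q31067 L835944 q31387, e3 q31068 (flp_h L832186) q30606, e3 q31069 (flp_h L832202) q30607, e3 q31070 (flp_h L832217) q30610, e3 q31071 (flp_h L835023) q31327, e3 q31072 (flp_h L835039) q31328,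 e3 q31073 (flp_h L835070) q31330, e3 q31074 (flp_h L835080) q31331, e3 q31075 L836029 q31394, e3 q31076 L836045 q31395, e3 q31077 (flp_h L832290) q30618, e3 q31078 L836061 q31396, e3 q31079 (flp_h L832313) q30620, e3 q31080 (flp_h L832328) q30621, e3 q31081 L836076 q31397, e3 q31082 (flp_h L832351) q30625, e3 q31083 L832375 q30950, e3 q31084 L832390 q30952, e3 q31085 L836133 q31401, e3 q31086 L832416 q30767, e3 q31087 L836162 q31403, e3 q31088 (flp_h L835393) q31351, e3 q31089 (flp_h L832451) q30630, e3 q31090 L836186 q31405, e3 q31091 (flp_h L832475) q30634, e3 q31092 (flp_h L832485) q30635, e3 q31093 L832506 q30661, e3 q31094 (flp_h L835292) q31345, e3 q31095 L832532 q30961, e3 q31096 L832550 q30929, e3 q31097 (flp_h L835407) q31352, e3 q31098 (flp_h L835422) q31353, e3 q31099 (flp_h L835436) q31354, e3 q31100 (flp_h L835449) q31355, e3 q31101 L832618 q30760, e3 q31102 L832630 q30762, e3 q31103 L836350 q31416, trivial⟩ (by decide +kernel)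

theorem ce_h_486 : ∀ r, r < 64 → sm gh (Qf (31104 + r)) = Qf (tab Gen.h (31104 + r)) :=
  edges_tab (sm gh) Qf (tab Gen.h) 31104 [(31104, 30747), (31105, 30653), (31106, 30748), (31107, 30655), (31108, 31417), (31109, 30658), (31110, 31406), (31111, 30688), (31112, 31407), (31113, 30709), (31114, 30668), (31115, 30711), (31116, 30865), (31117, 30752), (31118, 30866), (31119, 30868), (31120, 30741), (31121, 30742), (31122, 30946), (31123, 30685), (31124, 30948), (31125, 30686), (31126, 31429), (31127, 30877), (31128, 31420), (31129, 31339), (31130, 30680), (31131, 30706), (31132, 31426), (31133, 31418), (31134, 30687), (31135, 31367), (31136, 30702), (31137, 30703), (31138, 30701), (31139, 30699), (31140, 30795), (31141, 31435), (31142, 31436), (31143, 31434), (31144, 31430), (31145, 30704), (31146, 31336), (31147, 31421), (31148, 31373), (31149, 30724), (31150, 31374), (31151, 30864), (31152, 30765), (31153, 31447), (31154, 31449), (31155, 30716), (31156, 31326), (31157, 31451), (31158, 30718), (31159, 30832), (31160, 30719),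 (31161, 31381), (31162, 31452), (31163, 30726), (31164, 30847), (31165, 30849), (31166, 30958), (31167, 30911)]
    ⟨e3 q31104 (flp_h L832661) q30747, e3 q31105 (flp_h L832663) q30653, e3 q31106 (flp_h L832692) q30748, e3 q31107 (flp_h L832694) q30655, e3 q31108 L836366 q31417, e3 q31109 (flp_h L832718) q30658, e3 q31110 (flp_h L836210) q31406, e3 q31111 L832749 q30688, e3 q31112 (flp_h L836223) q31407, e3 q31113 L832774 q30709, e3 q31114 L832786 q30668, e3 q31115 L832802 q30711, e3 q31116 L832823 q30865, e3 q31117 L832839 q30752, e3 q31118 L832857 q30866, e3 q31119 L832872 q30868, e3 q31120 L832886 q30741, e3 q31121 L832906 q30742, e3 q31122 L832928 q30946, e3 q31123 L832940 q30685, e3 q31124 L832954 q30948, e3 q31125 L832969 q30686, e3 q31126 L836538 q31429, e3 q31127 L833001 q30877, e3 q31128 (flp_h L836408) q31420, e3 q31129 L835206 q31339, e3 q31130 (flp_h L833032) q30680, e3 q31131 L833052 q30706, e3 q31132 (flp_h L836502) q31426, e3 q31133 (flp_h L836387) q31418, e3 q31134 (flp_h L833090) q30687, e3 q31135 (flp_h L835629)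 q31367, e3 q31136 L833122 q30702, e3 q31137 L833135 q30703, e3 q31138 L833147 q30701, e3 q31139 L833167 q30699, e3 q31140 L833185 q30795, e3 q31141 (flp_h L836631) q31435, e3 q31142 (flp_h L836644) q31436, e3 q31143 (flp_h L836617) q31434, e3 q31144 (flp_h L836562) q31430, e3 q31145 (flp_h L833238) q30704, e3 q31146 (flp_h L835158) q31336, e3 q31147 (flp_h L836422) q31421, e3 q31148 (flp_h L835737) q31373, e3 q31149 L833280 q30724, e3 q31150 (flp_h L835754) q31374, e3 q31151 L833293 q30864, e3 q31152 L833311 q30765, e3 q31153 L836759 q31447, e3 q31154 L836783 q31449, e3 q31155 (flp_h L833337) q30716, e3 q31156 (flp_h L835005) q31326, e3 q31157 L836810 q31451, e3 q31158 (flp_h L833366) q30718, e3 q31159 (flp_h L833387) q30832, e3 q31160 (flp_h L833389) q30719, e3 q31161 (flp_h L835863) q31381, e3 q31162 L836823 q31452, e3 q31163 (flp_h L833428) q30726, e3 q31164 L833448 q30847, e3 q31165 L833459 q30849, e3 q31166 L833469 q30958, e3 q31167 L833485 q30911, trivial⟩ (by decide +kernel)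

theorem ce_h_487 : ∀ r, r < 64 → sm gh (Qf (31168 + r)) = Qf (tab Gen.h (31168 + r)) :=
  edges_tab (sm gh) Qf (tab Gen.h) 31168 [(31168, 31379), (31169, 31380), (31170, 31382), (31171, 30893), (31172, 31424), (31173, 30979), (31174, 30871), (31175, 30872), (31176, 31415), (31177, 30954), (31178, 31466), (31179, 31467), (31180, 30753), (31181, 31468), (31182, 30755), (31183, 30756), (31184, 31470), (31185, 31413), (31186, 30759), (31187, 30801), (31188, 31442), (31189, 30802), (31190, 31444), (31191, 30803), (31192, 30940), (31193, 30945), (31194, 30867), (31195, 30963), (31196, 30976), (31197, 31476), (31198, 30779), (31199, 30780), (31200, 31479), (31201, 30887), (31202, 30782), (31203, 30856), (31204, 30889), (31205, 30784), (31206, 31480), (31207, 30789), (31208, 30964), (31209, 30794), (31210, 30957), (31211, 30959), (31212, 31471), (31213, 31485), (31214, 30804), (31215, 30805), (31216, 31486), (31217, 30807), (31218, 31363), (31219, 31489), (31220, 30812), (31221, 30813), (31222, 31490), (31223, 30815), (31224, 31384),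 (31225, 31385), (31226, 30883), (31227, 30819), (31228, 30974), (31229, 30855), (31230, 31495), (31231, 31448)]
    ⟨e3 q31168 (flp_h L835831) q31379, e3 q31169 (flp_h L835847) q31380, e3 q31170 (flp_h L835880) q31382, e3 q31171 L833520 q30893, e3 q31172 (flp_h L836471) q31424, e3 q31173 L833541 q30979, e3 q31174 L833549 q30871, e3 q31175 L833560 q30872, e3 q31176 L836348 q31415, e3 q31177 L833582 q30954, e3 q31178 L836976 q31466, e3 q31179 L836984 q31467, e3 q31180 (flp_h L833602) q30753, e3 q31181 L836998 q31468, e3 q31182 (flp_h L833615) q30755, e3 q31183 (flp_h L833622) q30756, e3 q31184 L837016 q31470, e3 q31185 (flp_h L836317) q31413, e3 q31186 (flp_h L833647) q30759, e3 q31187 L833663 q30801, e3 q31188 (flp_h L836708) q31442, e3 q31189 L833686 q30802, e3 q31190 (flp_h L836734) q31444, e3 q31191 L833711 q30803, e3 q31192 L833725 q30940, e3 q31193 L833731 q30945, e3 q31194 L833746 q30867, e3 q31195 L833760 q30963, e3 q31196 L833773 q30976, e3 q31197 L837092 q31476, e3 q31198 (flp_h L833792) q30779, e3 q31199 (flp_h L833806)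 q30780, e3 q31200 L837131 q31479, e3 q31201 (flp_h L833841) q30887, e3 q31202 (flp_h L833843) q30782, e3 q31203 L833867 q30856, e3 q31204 (flp_h L833882) q30889, e3 q31205 (flp_h L833884) q30784, e3 q31206 L837143 q31480, e3 q31207 (flp_h L833902) q30789, e3 q31208 L833920 q30964, e3 q31209 (flp_h L833926) q30794, e3 q31210 L833946 q30957, e3 q31211 L833958 q30959, e3 q31212 (flp_h L837031) q31471, e3 q31213 L837212 q31485, e3 q31214 (flp_h L833987) q30804, e3 q31215 (flp_h L833999) q30805, e3 q31216 L837224 q31486, e3 q31217 (flp_h L834017) q30807, e3 q31218 L835568 q31363, e3 q31219 L837253 q31489, e3 q31220 (flp_h L834045) q30812, e3 q31221 (flp_h L834055) q30813, e3 q31222 L837263 q31490, e3 q31223 (flp_h L834069) q30815, e3 q31224 (flp_h L835912) q31384, e3 q31225 (flp_h L835927) q31385, e3 q31226 (flp_h L834112) q30883, e3 q31227 (flp_h L834114) q30819, e3 q31228 L834136 q30974, e3 q31229 L834150 q30855, e3 q31230 L837310 q31495, e3 q31231 L836781 q31448, trivial⟩ (by decide +kernel)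

theorem ce_h_488 : ∀ r, r < 64 → sm gh (Qf (31232 + r)) = Qf (tab Gen.h (31232 + r)) :=
  edges_tab (sm gh) Qf (tab Gen.h) 31232 [(31232, 30829), (31233, 31325), (31234, 31450), (31235, 30831), (31236, 31497), (31237, 30933), (31238, 30835), (31239, 31498), (31240, 30841), (31241, 30936), (31242, 30937), (31243, 30845), (31244, 30895), (31245, 31453), (31246, 31443), (31247, 30944), (31248, 31504), (31249, 30852), (31250, 30884), (31251, 31441), (31252, 31422), (31253, 31474), (31254, 31423), (31255, 30869), (31256, 31461), (31257, 31507), (31258, 30873), (31259, 31349), (31260, 31350), (31261, 30878), (31262, 30941), (31263, 30965), (31264, 31478), (31265, 31512), (31266, 31458), (31267, 30890), (31268, 31459), (31269, 30892), (31270, 31500), (31271, 30942), (31272, 31514), (31273, 30898), (31274, 30906), (31275, 30908), (31276, 30932), (31277, 30902), (31278, 30921), (31279, 31515), (31280, 31455), (31281, 30975), (31282, 31518), (31283, 30913), (31284, 31343), (31285, 31344), (31286, 30960), (31287, 30962), (31288, 31516),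 (31289, 30931), (31290, 30955), (31291, 31348), (31292, 31410), (31293, 31369), (31294, 31521), (31295, 31496)]
    ⟨e3 q31232 (flp_h L834172) q30829, e3 q31233 (flp_h L834985) q31325, e3 q31234 L836808 q31450, e3 q31235 (flp_h L834201) q30831, e3 q31236 L837329 q31497, e3 q31237 (flp_h L834223) q30933, e3 q31238 (flp_h L834225) q30835, e3 q31239 L837338 q31498, e3 q31240 (flp_h L834244) q30841, e3 q31241 L834266 q30936, e3 q31242 L834279 q30937, e3 q31243 (flp_h L834281) q30845, e3 q31244 L834298 q30895, e3 q31245 (flp_h L836842) q31453, e3 q31246 (flp_h L836719) q31443, e3 q31247 L834327 q30944, e3 q31248 L837404 q31504, e3 q31249 (flp_h L834338) q30852, e3 q31250 L834364 q30884, e3 q31251 (flp_h L836690) q31441, e3 q31252 (flp_h L836440) q31422, e3 q31253 (flp_h L837070) q31474, e3 q31254 (flp_h L836454) q31423, e3 q31255 (flp_h L834400) q30869, e3 q31256 (flp_h L836935) q31461, e3 q31257 L837445 q31507, e3 q31258 (flp_h L834428) q30873, e3 q31259 (flp_h L835364) q31349, e3 q31260 (flp_h L835379) q31350, e3 q31261 (flp_h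 L834457) q30878, e3 q31262 L834473 q30941, e3 q31263 L834481 q30965, e3 q31264 L837129 q31478, e3 q31265 L837488 q31512, e3 q31266 (flp_h L836897) q31458, e3 q31267 (flp_h L834508) q30890, e3 q31268 (flp_h L836912) q31459, e3 q31269 (flp_h L834521) q30892, e3 q31270 (flp_h L837372) q31500, e3 q31271 L834539 q30942, e3 q31272 L837503 q31514, e3 q31273 (flp_h L834546) q30898, e3 q31274 L834560 q30906, e3 q31275 L834569 q30908, e3 q31276 (flp_h L834580) q30932, e3 q31277 (flp_h L834582) q30902, e3 q31278 L834597 q30921, e3 q31279 (flp_h L837516) q31515, e3 q31280 (flp_h L836869) q31455, e3 q31281 L834626 q30975, e3 q31282 L837538 q31518, e3 q31283 (flp_h L834638) q30913, e3 q31284 (flp_h L835263) q31343, e3 q31285 (flp_h L835278) q31344, e3 q31286 L834671 q30960, e3 q31287 L834679 q30962, e3 q31288 (flp_h L837527) q31516, e3 q31289 L834699 q30931, e3 q31290 L834707 q30955, e3 q31291 (flp_h L835348) q31348, e3 q31292 (flp_h L836269) q31410, e3 q31293 (flp_h L835666) q31369, e3 q31294 (flp_h L837572) q31521, e3 q31295 L837327 q31496,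 trivial⟩ (by decide +kernel)

theorem ce_h_489 : ∀ r, r < 64 → sm gh (Qf (31296 + r)) = Qf (tab Gen.h (31296 + r)) :=
  edges_tab (sm gh) Qf (tab Gen.h) 31296 [(31296, 30934), (31297, 31499), (31298, 31383), (31299, 31473), (31300, 31513), (31301, 31368), (31302, 31503), (31303, 31425), (31304, 30956), (31305, 31398), (31306, 30977), (31307, 31463), (31308, 31522), (31309, 31482), (31310, 31454), (31311, 31520), (31312, 31409), (31313, 31481), (31314, 31528), (31315, 30966), (31316, 31376), (31317, 31378), (31318, 31375), (31319, 31370), (31320, 31492), (31321, 31460), (31322, 31532), (31323, 30981), (31324, 30982), (31325, 31233), (31326, 31156), (31327, 31071), (31328, 31072), (31329, 31003), (31330, 31073), (31331, 31074), (31332, 31039), (31333, 31541), (31334, 31543), (31335, 30995), (31336, 31146), (31337, 31545), (31338, 30997), (31339, 31129), (31340, 30998), (31341, 31546), (31342, 31004), (31343, 31284), (31344, 31285), (31345, 31094), (31346, 31012), (31347, 31013), (31348, 31291), (31349, 31259), (31350, 31260),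 (31351, 31088), (31352, 31097), (31353, 31098), (31354, 31099), (31355, 31100), (31356, 31557), (31357, 31558), (31358, 31028), (31359, 31559)]
    ⟨e3 q31296 (flp_h L834743) q30934, e3 q31297 (flp_h L837361) q31499, e3 q31298 (flp_h L835896) q31383, e3 q31299 (flp_h L837055) q31473, e3 q31300 (flp_h L837501) q31513, e3 q31301 (flp_h L835647) q31368, e3 q31302 (flp_h L837399) q31503, e3 q31303 (flp_h L836486) q31425, e3 q31304 L834800 q30956, e3 q31305 (flp_h L836101) q31398, e3 q31306 L834819 q30977, e3 q31307 (flp_h L836956) q31463, e3 q31308 (flp_h L837581) q31522, e3 q31309 (flp_h L837179) q31482, e3 q31310 (flp_h L836852) q31454, e3 q31311 (flp_h L837561) q31520, e3 q31312 (flp_h L836250) q31409, e3 q31313 (flp_h L837162) q31481, e3 q31314 L837623 q31528, e3 q31315 (flp_h L834876) q30966, e3 q31316 (flp_h L835782) q31376, e3 q31317 (flp_h L835815) q31378, e3 q31318 (flp_h L835766) q31375, e3 q31319 (flp_h L835685) q31370, e3 q31320 (flp_h L837288) q31492, e3 q31321 (flp_h L836925) q31460, e3 q31322 L837662 q31532, e3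 q31323 (flp_h L834938) q30981, e3 q31324 (flp_h L834956) q30982, e3 q31325 L834985 q31233, e3 q31326 L835005 q31156, e3 q31327 L835023 q31071, e3 q31328 L835039 q31072, e3 q31329 L835053 q31003, e3 q31330 L835070 q31073, e3 q31331 L835080 q31074, e3 q31332 L835098 q31039, e3 q31333 L837810 q31541, e3 q31334 L837842 q31543, e3 q31335 (flp_h L835134) q30995, e3 q31336 L835158 q31146, e3 q31337 L837877 q31545, e3 q31338 (flp_h L835179) q30997, e3 q31339 (flp_h L835206) q31129, e3 q31340 (flp_h L835208) q30998, e3 q31341 L837894 q31546, e3 q31342 (flp_h L835237) q31004, e3 q31343 L835263 q31284, e3 q31344 L835278 q31285, e3 q31345 L835292 q31094, e3 q31346 L835310 q31012, e3 q31347 (flp_h L835318) q31013, e3 q31348 L835348 q31291, e3 q31349 L835364 q31259, e3 q31350 L835379 q31260, e3 q31351 L835393 q31088, e3 q31352 L835407 q31097, e3 q31353 L835422 q31098, e3 q31354 L835436 q31099, e3 q31355 L835449 q31100, e3 q31356 L838070 q31557, e3 q31357 L838084 q31558, e3 q31358 (flp_h L835483) q31028, e3 q31359 L838102 q31559, trivial⟩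 (by decide +kernel)

theorem ce_h_490 : ∀ r, r < 64 → sm gh (Qf (31360 + r)) = Qf (tab Gen.h (31360 + r)) :=
  edges_tab (sm gh) Qf (tab Gen.h) 31360 [(31360, 31030), (31361, 31031), (31362, 31561), (31363, 31218), (31364, 31034), (31365, 31536), (31366, 31538), (31367, 31135), (31368, 31301), (31369, 31293), (31370, 31319), (31371, 31564), (31372, 31047), (31373, 31148), (31374, 31150), (31375, 31318), (31376, 31316), (31377, 31062), (31378, 31317), (31379, 31168), (31380, 31169), (31381, 31161), (31382, 31170), (31383, 31298), (31384, 31224), (31385, 31225), (31386, 31572), (31387, 31067), (31388, 31533), (31389, 31534), (31390, 31535), (31391, 31537), (31392, 31576), (31393, 31577), (31394, 31075), (31395, 31076), (31396, 31078), (31397, 31081), (31398, 31305), (31399, 31581), (31400, 31551), (31401, 31085), (31402, 31552), (31403, 31087), (31404, 31582), (31405, 31090), (31406, 31110), (31407, 31112), (31408, 31548), (31409, 31312), (31410, 31292), (31411, 31553), (31412, 31554), (31413, 31185), (31414, 31587), (31415,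 31176), (31416, 31103), (31417, 31108), (31418, 31133), (31419, 31583), (31420, 31128), (31421, 31147), (31422, 31252), (31423, 31254)]
    ⟨e3 q31360 (flp_h L835512) q31030, e3 q31361 (flp_h L835525) q31031, e3 q31362 L838136 q31561, e3 q31363 (flp_h L835568) q31218, e3 q31364 (flp_h L835570) q31034, e3 q31365 (flp_h L837739) q31536, e3 q31366 (flp_h L837773) q31538, e3 q31367 L835629 q31135, e3 q31368 L835647 q31301, e3 q31369 L835666 q31293, e3 q31370 L835685 q31319, e3 q31371 L838188 q31564, e3 q31372 (flp_h L835705) q31047, e3 q31373 L835737 q31148, e3 q31374 L835754 q31150, e3 q31375 L835766 q31318, e3 q31376 L835782 q31316, e3 q31377 L835798 q31062, e3 q31378 L835815 q31317, e3 q31379 L835831 q31168, e3 q31380 L835847 q31169, e3 q31381 L835863 q31161, e3 q31382 L835880 q31170, e3 q31383 L835896 q31298, e3 q31384 L835912 q31224, e3 q31385 L835927 q31225, e3 q31386 L838322 q31572, e3 q31387 (flp_h L835944) q31067, e3 q31388 (flp_h L837690) q31533, e3 q31389 (flp_h L837707) q31534, e3 q31390 (flp_h L837719) q31535, e3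 q31391 (flp_h L837754) q31537, e3 q31392 L838373 q31576, e3 q31393 L838390 q31577, e3 q31394 (flp_h L836029) q31075, e3 q31395 (flp_h L836045) q31076, e3 q31396 (flp_h L836061) q31078, e3 q31397 (flp_h L836076) q31081, e3 q31398 L836101 q31305, e3 q31399 L838454 q31581, e3 q31400 (flp_h L837985) q31551, e3 q31401 (flp_h L836133) q31085, e3 q31402 (flp_h L838002) q31552, e3 q31403 (flp_h L836162) q31087, e3 q31404 L838468 q31582, e3 q31405 (flp_h L836186) q31090, e3 q31406 L836210 q31110, e3 q31407 L836223 q31112, e3 q31408 (flp_h L837935) q31548, e3 q31409 L836250 q31312, e3 q31410 L836269 q31292, e3 q31411 (flp_h L838021) q31553, e3 q31412 (flp_h L838035) q31554, e3 q31413 L836317 q31185, e3 q31414 L838544 q31587, e3 q31415 (flp_h L836348) q31176, e3 q31416 (flp_h L836350) q31103, e3 q31417 (flp_h L836366) q31108, e3 q31418 L836387 q31133, e3 q31419 (flp_h L838491) q31583, e3 q31420 L836408 q31128, e3 q31421 L836422 q31147, e3 q31422 L836440 q31252, e3 q31423 L836454 q31254, trivial⟩ (by decide +kernel)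

theorem ce_h_491 : ∀ r, r < 64 → sm gh (Qf (31424 + r)) = Qf (tab Gen.h (31424 + r)) :=
  edges_tab (sm gh) Qf (tab Gen.h) 31424 [(31424, 31172), (31425, 31303), (31426, 31132), (31427, 31590), (31428, 31542), (31429, 31126), (31430, 31144), (31431, 31544), (31432, 31588), (31433, 31563), (31434, 31143), (31435, 31141), (31436, 31142), (31437, 31597), (31438, 31596), (31439, 31591), (31440, 31565), (31441, 31251), (31442, 31188), (31443, 31246), (31444, 31190), (31445, 31603), (31446, 31605), (31447, 31153), (31448, 31231), (31449, 31154), (31450, 31234), (31451, 31157), (31452, 31162), (31453, 31245), (31454, 31310), (31455, 31280), (31456, 31568), (31457, 31569), (31458, 31266), (31459, 31268), (31460, 31321), (31461, 31256), (31462, 31586), (31463, 31307), (31464, 31611), (31465, 31612), (31466, 31178), (31467, 31179), (31468, 31181), (31469, 31585), (31470, 31184), (31471, 31212), (31472, 31601), (31473, 31299), (31474, 31253), (31475, 31615), (31476, 31197), (31477, 31617), (31478, 31264), (31479, 31200), (31480, 31206),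 (31481, 31313), (31482, 31309), (31483, 31613), (31484, 31618), (31485, 31213), (31486, 31216), (31487, 31560)]
    ⟨e3 q31424 L836471 q31172, e3 q31425 L836486 q31303, e3 q31426 L836502 q31132, e3 q31427 (flp_h L838595) q31590, e3 q31428 L837840 q31542, e3 q31429 (flp_h L836538) q31126, e3 q31430 L836562 q31144, e3 q31431 L837875 q31544, e3 q31432 (flp_h L838574) q31588, e3 q31433 (flp_h L838181) q31563, e3 q31434 L836617 q31143, e3 q31435 L836631 q31141, e3 q31436 L836644 q31142, e3 q31437 (flp_h L838706) q31597, e3 q31438 (flp_h L838692) q31596, e3 q31439 (flp_h L838609) q31591, e3 q31440 (flp_h L838221) q31565, e3 q31441 L836690 q31251, e3 q31442 L836708 q31188, e3 q31443 L836719 q31246, e3 q31444 L836734 q31190, e3 q31445 L838767 q31603, e3 q31446 L838790 q31605, e3 q31447 (flp_h L836759) q31153, e3 q31448 (flp_h L836781) q31231, e3 q31449 (flp_h L836783) q31154, e3 q31450 (flp_h L836808) q31234, e3 q31451 (flp_h L836810) q31157, e3 q31452 (flp_h L836823) q31162, e3 q31453 L836842 q31245, e3 q31454 L836852 q31310, e3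 q31455 L836869 q31280, e3 q31456 (flp_h L838266) q31568, e3 q31457 (flp_h L838283) q31569, e3 q31458 L836897 q31266, e3 q31459 L836912 q31268, e3 q31460 L836925 q31321, e3 q31461 L836935 q31256, e3 q31462 L838542 q31586, e3 q31463 L836956 q31307, e3 q31464 L838854 q31611, e3 q31465 L838861 q31612, e3 q31466 (flp_h L836976) q31178, e3 q31467 (flp_h L836984) q31179, e3 q31468 (flp_h L836998) q31181, e3 q31469 (flp_h L838520) q31585, e3 q31470 (flp_h L837016) q31184, e3 q31471 L837031 q31212, e3 q31472 (flp_h L838752) q31601, e3 q31473 L837055 q31299, e3 q31474 L837070 q31253, e3 q31475 L838899 q31615, e3 q31476 (flp_h L837092) q31197, e3 q31477 L838929 q31617, e3 q31478 (flp_h L837129) q31264, e3 q31479 (flp_h L837131) q31200, e3 q31480 (flp_h L837143) q31206, e3 q31481 L837162 q31313, e3 q31482 L837179 q31309, e3 q31483 (flp_h L838884) q31613, e3 q31484 L838942 q31618, e3 q31485 (flp_h L837212) q31213, e3 q31486 (flp_h L837224) q31216, e3 q31487 L838134 q31560, trivial⟩ (by decide +kernel)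

theorem ce_h_492 : ∀ r, r < 64 → sm gh (Qf (31488 + r)) = Qf (tab Gen.h (31488 + r)) :=
  edges_tab (sm gh) Qf (tab Gen.h) 31488 [(31488, 31619), (31489, 31219), (31490, 31222), (31491, 31571), (31492, 31320), (31493, 31622), (31494, 31604), (31495, 31230), (31496, 31295), (31497, 31236), (31498, 31239), (31499, 31297), (31500, 31270), (31501, 31606), (31502, 31600), (31503, 31302), (31504, 31248), (31505, 31592), (31506, 31609), (31507, 31257), (31508, 31550), (31509, 31616), (31510, 31627), (31511, 31608), (31512, 31265), (31513, 31300), (31514, 31272), (31515, 31279), (31516, 31288), (31517, 31628), (31518, 31282), (31519, 31547), (31520, 31311), (31521, 31294), (31522, 31308), (31523, 31549), (31524, 31623), (31525, 31570), (31526, 31593), (31527, 31578), (31528, 31314), (31529, 31567), (31530, 31566), (31531, 31631), (31532, 31322), (31533, 31388), (31534, 31389), (31535, 31390), (31536, 31365), (31537, 31391), (31538, 31366), (31539, 31636), (31540, 31638), (31541, 31333), (31542, 31428), (31543, 31334), (31544, 31431),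 (31545, 31337), (31546, 31341), (31547, 31519), (31548, 31408), (31549, 31523), (31550, 31508), (31551, 31400)]
    ⟨e3 q31488 L838955 q31619, e3 q31489 (flp_h L837253) q31219, e3 q31490 (flp_h L837263) q31222, e3 q31491 (flp_h L838316) q31571, e3 q31492 L837288 q31320, e3 q31493 L838982 q31622, e3 q31494 L838788 q31604, e3 q31495 (flp_h L837310) q31230, e3 q31496 (flp_h L837327) q31295, e3 q31497 (flp_h L837329) q31236, e3 q31498 (flp_h L837338) q31239, e3 q31499 L837361 q31297, e3 q31500 L837372 q31270, e3 q31501 (flp_h L838813) q31606, e3 q31502 (flp_h L838736) q31600, e3 q31503 L837399 q31302, e3 q31504 (flp_h L837404) q31248, e3 q31505 (flp_h L838628) q31592, e3 q31506 (flp_h L838845) q31609, e3 q31507 (flp_h L837445) q31257, e3 q31508 (flp_h L837969) q31550, e3 q31509 L838927 q31616, e3 q31510 L839031 q31627, e3 q31511 (flp_h L838832) q31608, e3 q31512 (flp_h L837488) q31265, e3 q31513 L837501 q31300, e3 q31514 (flp_h L837503) q31272, e3 q31515 L837516 q31279, e3 q31516 L837527 q31288, e3 q31517 (flp_h L839045) q31628,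 e3 q31518 (flp_h L837538) q31282, e3 q31519 (flp_h L837921) q31547, e3 q31520 L837561 q31311, e3 q31521 L837572 q31294, e3 q31522 L837581 q31308, e3 q31523 (flp_h L837952) q31549, e3 q31524 (flp_h L839002) q31623, e3 q31525 (flp_h L838299) q31570, e3 q31526 (flp_h L838645) q31593, e3 q31527 (flp_h L838421) q31578, e3 q31528 (flp_h L837623) q31314, e3 q31529 (flp_h L838250) q31567, e3 q31530 (flp_h L838233) q31566, e3 q31531 L839063 q31631, e3 q31532 (flp_h L837662) q31322, e3 q31533 L837690 q31388, e3 q31534 L837707 q31389, e3 q31535 L837719 q31390, e3 q31536 L837739 q31365, e3 q31537 L837754 q31391, e3 q31538 L837773 q31366, e3 q31539 L839148 q31636, e3 q31540 L839181 q31638, e3 q31541 (flp_h L837810) q31333, e3 q31542 (flp_h L837840) q31428, e3 q31543 (flp_h L837842) q31334, e3 q31544 (flp_h L837875) q31431, e3 q31545 (flp_h L837877) q31337, e3 q31546 (flp_h L837894) q31341, e3 q31547 L837921 q31519, e3 q31548 L837935 q31408, e3 q31549 L837952 q31523, e3 q31550 L837969 q31508, e3 q31551 L837985 q31400, trivial⟩ (by decide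 +kernel)

theorem ce_h_493 : ∀ r, r < 64 → sm gh (Qf (31552 + r)) = Qf (tab Gen.h (31552 + r)) :=
  edges_tab (sm gh) Qf (tab Gen.h) 31552 [(31552, 31402), (31553, 31411), (31554, 31412), (31555, 31644), (31556, 31645), (31557, 31356), (31558, 31357), (31559, 31359), (31560, 31487), (31561, 31362), (31562, 31634), (31563, 31433), (31564, 31371), (31565, 31440), (31566, 31530), (31567, 31529), (31568, 31456), (31569, 31457), (31570, 31525), (31571, 31491), (31572, 31386), (31573, 31632), (31574, 31633), (31575, 31652), (31576, 31392), (31577, 31393), (31578, 31527), (31579, 31654), (31580, 31641), (31581, 31399), (31582, 31404), (31583, 31419), (31584, 31642), (31585, 31469), (31586, 31462), (31587, 31414), (31588, 31432), (31589, 31655), (31590, 31427), (31591, 31439), (31592, 31505), (31593, 31526), (31594, 31656), (31595, 31637), (31596, 31438), (31597, 31437), (31598, 31658), (31599, 31647), (31600, 31502), (31601, 31472), (31602, 31662), (31603, 31445), (31604, 31494), (31605, 31446), (31606, 31501), (31607, 31649), (31608,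 31511), (31609, 31506), (31610, 31664), (31611, 31464), (31612, 31465), (31613, 31483), (31614, 31660), (31615, 31475)]
    ⟨e3 q31552 L838002 q31402, e3 q31553 L838021 q31411, e3 q31554 L838035 q31412, e3 q31555 L839283 q31644, e3 q31556 L839298 q31645, e3 q31557 (flp_h L838070) q31356, e3 q31558 (flp_h L838084) q31357, e3 q31559 (flp_h L838102) q31359, e3 q31560 (flp_h L838134) q31487, e3 q31561 (flp_h L838136) q31362, e3 q31562 (flp_h L839125) q31634, e3 q31563 L838181 q31433, e3 q31564 (flp_h L838188) q31371, e3 q31565 L838221 q31440, e3 q31566 L838233 q31530, e3 q31567 L838250 q31529, e3 q31568 L838266 q31456, e3 q31569 L838283 q31457, e3 q31570 L838299 q31525, e3 q31571 L838316 q31491, e3 q31572 (flp_h L838322) q31386, e3 q31573 (flp_h L839093) q31632, e3 q31574 (flp_h L839105) q31633, e3 q31575 L839420 q31652, e3 q31576 (flp_h L838373) q31392, e3 q31577 (flp_h L838390) q31393, e3 q31578 L838421 q31527, e3 q31579 L839454 q31654, e3 q31580 (flp_h L839243) q31641, e3 q31581 (flp_h L838454) q31399, e3 q31582 (flp_h L838468)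 q31404, e3 q31583 L838491 q31419, e3 q31584 (flp_h L839262) q31642, e3 q31585 L838520 q31469, e3 q31586 (flp_h L838542) q31462, e3 q31587 (flp_h L838544) q31414, e3 q31588 L838574 q31432, e3 q31589 (flp_h L839482) q31655, e3 q31590 L838595 q31427, e3 q31591 L838609 q31439, e3 q31592 L838628 q31505, e3 q31593 L838645 q31526, e3 q31594 (flp_h L839495) q31656, e3 q31595 L839179 q31637, e3 q31596 L838692 q31438, e3 q31597 L838706 q31437, e3 q31598 (flp_h L839525) q31658, e3 q31599 (flp_h L839350) q31647, e3 q31600 L838736 q31502, e3 q31601 L838752 q31472, e3 q31602 L839568 q31662, e3 q31603 (flp_h L838767) q31445, e3 q31604 (flp_h L838788) q31494, e3 q31605 (flp_h L838790) q31446, e3 q31606 L838813 q31501, e3 q31607 (flp_h L839380) q31649, e3 q31608 L838832 q31511, e3 q31609 L838845 q31506, e3 q31610 L839594 q31664, e3 q31611 (flp_h L838854) q31464, e3 q31612 (flp_h L838861) q31465, e3 q31613 L838884 q31483, e3 q31614 (flp_h L839549) q31660, e3 q31615 (flp_h L838899) q31475, trivial⟩ (by decide +kernel)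

theorem ce_h_494 : ∀ r, r < 55 → sm gh (Qf (31616 + r)) = Qf (tab Gen.h (31616 + r)) :=
  edges_tab (sm gh) Qf (tab Gen.h) 31616 [(31616, 31509), (31617, 31477), (31618, 31484), (31619, 31488), (31620, 31650), (31621, 31661), (31622, 31493), (31623, 31524), (31624, 31659), (31625, 31640), (31626, 31663), (31627, 31510), (31628, 31517), (31629, 31639), (31630, 31648), (31631, 31531), (31632, 31573), (31633, 31574), (31634, 31562), (31635, 31668), (31636, 31539), (31637, 31595), (31638, 31540), (31639, 31629), (31640, 31625), (31641, 31580), (31642, 31584), (31643, 31670), (31644, 31555), (31645, 31556), (31646, 31666), (31647, 31599), (31648, 31630), (31649, 31607), (31650, 31620), (31651, 31665), (31652, 31575), (31653, 31669), (31654, 31579), (31655, 31589), (31656, 31594), (31657, 31667), (31658, 31598), (31659, 31624), (31660, 31614), (31661, 31621), (31662, 31602), (31663, 31626), (31664, 31610), (31665, 31651), (31666, 31646), (31667, 31657), (31668, 31635), (31669, 31653), (31670, 31643)]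
    ⟨e3 q31616 (flp_h L838927) q31509, e3 q31617 (flp_h L838929) q31477, e3 q31618 (flp_h L838942) q31484, e3 q31619 (flp_h L838955) q31488, e3 q31620 (flp_h L839397) q31650, e3 q31621 (flp_h L839566) q31661, e3 q31622 (flp_h L838982) q31493, e3 q31623 L839002 q31524, e3 q31624 (flp_h L839534) q31659, e3 q31625 (flp_h L839227) q31640, e3 q31626 (flp_h L839588) q31663, e3 q31627 (flp_h L839031) q31510, e3 q31628 L839045 q31517, e3 q31629 (flp_h L839214) q31639, e3 q31630 (flp_h L839363) q31648, e3 q31631 (flp_h L839063) q31531, e3 q31632 L839093 q31573, e3 q31633 L839105 q31574, e3 q31634 L839125 q31562, e3 q31635 L839664 q31668, e3 q31636 (flp_h L839148) q31539, e3 q31637 (flp_h L839179) q31595, e3 q31638 (flp_h L839181) q31540, e3 q31639 L839214 q31629, e3 q31640 L839227 q31625, e3 q31641 L839243 q31580, e3 q31642 L839262 q31584, e3 q31643 L839702 q31670, e3 q31644 (flp_h L839283) q31555, e3 q31645 (flp_h L839298) q31556, e3 q31646 (flp_h L839637) q31666, e3 q31647 L839350 q31599, e3 q31648 L839363 q31630, e3 q31649 L839380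 q31607, e3 q31650 L839397 q31620, e3 q31651 (flp_h L839616) q31665, e3 q31652 (flp_h L839420) q31575, e3 q31653 (flp_h L839694) q31669, e3 q31654 (flp_h L839454) q31579, e3 q31655 L839482 q31589, e3 q31656 L839495 q31594, e3 q31657 (flp_h L839662) q31667, e3 q31658 L839525 q31598, e3 q31659 L839534 q31624, e3 q31660 L839549 q31614, e3 q31661 L839566 q31621, e3 q31662 (flp_h L839568) q31602, e3 q31663 L839588 q31626, e3 q31664 (flp_h L839594) q31610, e3 q31665 L839616 q31651, e3 q31666 L839637 q31646, e3 q31667 L839662 q31657, e3 q31668 (flp_h L839664) q31635, e3 q31669 L839694 q31653, e3 q31670 (flp_h L839702) q31643, trivial⟩ (by decide +kernel)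

theorem cl_h : ∀ i, i < 31671 → sm gh (Qf i) = Qf (tab Gen.h i) :=
  all_of_chunks (fun i => sm gh (Qf i) = Qf (tab Gen.h i)) 494 55
    ⟨ce_h_0, ce_h_1, ce_h_2, ce_h_3, ce_h_4, ce_h_5, ce_h_6, ce_h_7, ce_h_8, ce_h_9, ce_h_10, ce_h_11, ce_h_12, ce_h_13, ce_h_14, ce_h_15, ce_h_16, ce_h_17, ce_h_18, ce_h_19, ce_h_20, ce_h_21, ce_h_22, ce_h_23, ce_h_24, ce_h_25, ce_h_26, ce_h_27, ce_h_28, ce_h_29, ce_h_30, ce_h_31, ce_h_32, ce_h_33, ce_h_34, ce_h_35, ce_h_36, ce_h_37, ce_h_38, ce_h_39, ce_h_40, ce_h_41, ce_h_42, ce_h_43, ce_h_44, ce_h_45, ce_h_46, ce_h_47, ce_h_48, ce_h_49, ce_h_50, ce_h_51, ce_h_52, ce_h_53, ce_h_54, ce_h_55, ce_h_56, ce_h_57, ce_h_58, ce_h_59, ce_h_60, ce_h_61, ce_h_62, ce_h_63, ce_h_64, ce_h_65, ce_h_66, ce_h_67, ce_h_68, ce_h_69, ce_h_70, ce_h_71, ce_h_72, ce_h_73, ce_h_74, ce_h_75, ce_h_76, ce_h_77, ce_h_78, ce_h_79, ce_h_80, ce_h_81, ce_h_82, ce_h_83, ce_h_84, ce_h_85, ce_h_86, ce_h_87, ce_h_88, ce_h_89, ce_h_90, ce_h_91, ce_h_92, ce_h_93, ce_h_94, ce_h_95, ce_h_96, ce_h_97, ce_h_98, ce_h_99, ce_h_100,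 ce_h_101, ce_h_102, ce_h_103, ce_h_104, ce_h_105, ce_h_106, ce_h_107, ce_h_108, ce_h_109, ce_h_110, ce_h_111, ce_h_112, ce_h_113, ce_h_114, ce_h_115, ce_h_116, ce_h_117, ce_h_118, ce_h_119, ce_h_120, ce_h_121, ce_h_122, ce_h_123, ce_h_124, ce_h_125, ce_h_126, ce_h_127, ce_h_128, ce_h_129, ce_h_130, ce_h_131, ce_h_132, ce_h_133, ce_h_134, ce_h_135, ce_h_136, ce_h_137, ce_h_138, ce_h_139, ce_h_140, ce_h_141, ce_h_142, ce_h_143, ce_h_144, ce_h_145, ce_h_146, ce_h_147, ce_h_148, ce_h_149, ce_h_150, ce_h_151, ce_h_152, ce_h_153, ce_h_154, ce_h_155, ce_h_156, ce_h_157, ce_h_158, ce_h_159, ce_h_160, ce_h_161, ce_h_162, ce_h_163, ce_h_164, ce_h_165, ce_h_166, ce_h_167, ce_h_168, ce_h_169, ce_h_170, ce_h_171, ce_h_172, ce_h_173, ce_h_174, ce_h_175, ce_h_176, ce_h_177, ce_h_178, ce_h_179, ce_h_180, ce_h_181, ce_h_182, ce_h_183, ce_h_184, ce_h_185, ce_h_186, ce_h_187, ce_h_188, ce_h_189, ce_h_190, ce_h_191, ce_h_192, ce_h_193, ce_h_194, ce_h_195, ce_h_196, ce_h_197, ce_h_198, ce_h_199, ce_h_200, ce_h_201, ce_h_202, ce_h_203, ce_h_204,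 ce_h_205, ce_h_206, ce_h_207, ce_h_208, ce_h_209, ce_h_210, ce_h_211, ce_h_212, ce_h_213, ce_h_214, ce_h_215, ce_h_216, ce_h_217, ce_h_218, ce_h_219, ce_h_220, ce_h_221, ce_h_222, ce_h_223, ce_h_224, ce_h_225, ce_h_226, ce_h_227, ce_h_228, ce_h_229, ce_h_230, ce_h_231, ce_h_232, ce_h_233, ce_h_234, ce_h_235, ce_h_236, ce_h_237, ce_h_238, ce_h_239, ce_h_240, ce_h_241, ce_h_242, ce_h_243, ce_h_244, ce_h_245, ce_h_246, ce_h_247, ce_h_248, ce_h_249, ce_h_250, ce_h_251, ce_h_252, ce_h_253, ce_h_254, ce_h_255, ce_h_256, ce_h_257, ce_h_258, ce_h_259, ce_h_260, ce_h_261, ce_h_262, ce_h_263, ce_h_264, ce_h_265, ce_h_266, ce_h_267, ce_h_268, ce_h_269, ce_h_270, ce_h_271, ce_h_272, ce_h_273, ce_h_274, ce_h_275, ce_h_276, ce_h_277, ce_h_278, ce_h_279, ce_h_280, ce_h_281, ce_h_282, ce_h_283, ce_h_284, ce_h_285, ce_h_286, ce_h_287, ce_h_288, ce_h_289, ce_h_290, ce_h_291, ce_h_292, ce_h_293, ce_h_294, ce_h_295, ce_h_296, ce_h_297, ce_h_298, ce_h_299, ce_h_300, ce_h_301, ce_h_302, ce_h_303, ce_h_304, ce_h_305, ce_h_306, ce_h_307, ce_h_308,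 ce_h_309, ce_h_310, ce_h_311, ce_h_312, ce_h_313, ce_h_314, ce_h_315, ce_h_316, ce_h_317, ce_h_318, ce_h_319, ce_h_320, ce_h_321, ce_h_322, ce_h_323, ce_h_324, ce_h_325, ce_h_326, ce_h_327, ce_h_328, ce_h_329, ce_h_330, ce_h_331, ce_h_332, ce_h_333, ce_h_334, ce_h_335, ce_h_336, ce_h_337, ce_h_338, ce_h_339, ce_h_340, ce_h_341, ce_h_342, ce_h_343, ce_h_344, ce_h_345, ce_h_346, ce_h_347, ce_h_348, ce_h_349, ce_h_350, ce_h_351, ce_h_352, ce_h_353, ce_h_354, ce_h_355, ce_h_356, ce_h_357, ce_h_358, ce_h_359, ce_h_360, ce_h_361, ce_h_362, ce_h_363, ce_h_364, ce_h_365, ce_h_366, ce_h_367, ce_h_368, ce_h_369, ce_h_370, ce_h_371, ce_h_372, ce_h_373, ce_h_374, ce_h_375, ce_h_376, ce_h_377, ce_h_378, ce_h_379, ce_h_380, ce_h_381, ce_h_382, ce_h_383, ce_h_384, ce_h_385, ce_h_386, ce_h_387, ce_h_388, ce_h_389, ce_h_390, ce_h_391, ce_h_392, ce_h_393, ce_h_394, ce_h_395, ce_h_396, ce_h_397, ce_h_398, ce_h_399, ce_h_400, ce_h_401, ce_h_402, ce_h_403, ce_h_404, ce_h_405, ce_h_406, ce_h_407, ce_h_408, ce_h_409, ce_h_410, ce_h_411, ce_h_412,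 ce_h_413, ce_h_414, ce_h_415, ce_h_416, ce_h_417, ce_h_418, ce_h_419, ce_h_420, ce_h_421, ce_h_422, ce_h_423, ce_h_424, ce_h_425, ce_h_426, ce_h_427, ce_h_428, ce_h_429, ce_h_430, ce_h_431, ce_h_432, ce_h_433, ce_h_434, ce_h_435, ce_h_436, ce_h_437, ce_h_438, ce_h_439, ce_h_440, ce_h_441, ce_h_442, ce_h_443, ce_h_444, ce_h_445, ce_h_446, ce_h_447, ce_h_448, ce_h_449, ce_h_450, ce_h_451, ce_h_452, ce_h_453, ce_h_454, ce_h_455, ce_h_456, ce_h_457, ce_h_458, ce_h_459, ce_h_460, ce_h_461, ce_h_462, ce_h_463, ce_h_464, ce_h_465, ce_h_466, ce_h_467, ce_h_468, ce_h_469, ce_h_470, ce_h_471, ce_h_472, ce_h_473, ce_h_474, ce_h_475, ce_h_476, ce_h_477, ce_h_478, ce_h_479, ce_h_480, ce_h_481, ce_h_482, ce_h_483, ce_h_484, ce_h_485, ce_h_486, ce_h_487, ce_h_488, ce_h_489, ce_h_490, ce_h_491, ce_h_492, ce_h_493, trivial⟩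
    ce_h_494


end Cfsg.Agent.Helper28.FicA
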