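import Cfsg.Agent.Helper28.FicC0

/-!
# The Fi₂₃ presentation, cosets of the subgroup generated by a, …, i: the action of the generator i (helper28; generated)
-/

set_option autoImplicit false
set_option maxRecDepth 100000
set_option linter.unusedSimpArgs false
set_option linter.constructorNameAsVariable false

noncomputable section

namespace Cfsg.Agent.Helper28.FicA

open Cfsg.Spor Cfsg.Spor.Fi23 Cfsg.Agent.Helper28.CosetTable

theorem ce_i_0 : ∀ r, r < 64 → sm gi (Qf (0 + r)) = Qf (tab Gen.i (0 + r)) :=
  edges_tab (sm gi) Qf (tab Gen.i) 0 [(0, 0), (1, 1), (2, 2), (3, 3), (4, 4), (5, 5), (6, 6), (7, 10), (8, 8), (9, 14), (10, 7), (11, 11), (12, 17), (13, 19), (14, 9), (15, 21), (16, 24), (17, 12), (18, 26), (19, 13), (20, 30), (21, 15), (22, 32), (23, 34), (24, 16), (25, 37), (26, 18), (27, 27), (28, 41), (29, 43), (30, 20), (31, 47), (32, 22), (33, 50), (34, 23), (35, 35), (36, 53), (37, 25), (38, 38), (39, 57), (40, 60), (41, 28), (42, 63), (43, 29), (44, 44), (45, 67), (46, 69), (47, 31), (48, 48), (49, 73), (50, 33),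 (51, 51), (52, 76), (53, 36), (54, 54), (55, 55), (56, 82), (57, 39), (58, 86), (59, 88), (60, 40), (61, 61), (62, 92), (63, 42)]
    ⟨e3 q0 L8 q0, e3 q1 L18 q1, e3 q2 L27 q2, e3 q3 L37 q3, e3 q4 L47 q4, e3 q5 L56 q5, e3 q6 L65 q6, e3 q7 L94 q10, e3 q8 L83 q8, e3 q9 L131 q14, e3 q10 (flp_i L94) q7, e3 q11 L112 q11, e3 q12 L159 q17, e3 q13 L177 q19, e3 q14 (flp_i L131) q9, e3 q15 L195 q21, e3 q16 L222 q24, e3 q17 (flp_i L159) q12, e3 q18 L239 q26, e3 q19 (flp_i L177) q13, e3 q20 L275 q30, e3 q21 (flp_i L195) q15, e3 q22 L293 q32, e3 q23 L310 q34, e3 q24 (flp_i L222) q16, e3 q25 L336 q37, e3 q26 (flp_i L239) q18, e3 q27 L256 q27, e3 q28 L372 q41, e3 q29 L391 q43, e3 q30 (flp_i L275) q20, e3 q31 L426 q47, e3 q32 (flp_i L293) q22, e3 q33 L452 q50, e3 q34 (flp_i L310) q23, e3 q35 L327 q35, e3 q36 L479 q53, e3 q37 (flp_i L336) q25, e3 q38 L353 q38, e3 q39 L514 q57, e3 q40 L541 q60, e3 q41 (flp_i L372) q28, e3 q42 L570 q63, e3 q43 (flp_i L391) q29, e3 q44 L410 q44, e3 q45 L605 q67, e3 q46 L622 q69, e3 q47 (flp_i L426) q31, e3 q48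 L443 q48, e3 q49 L659 q73, e3 q50 (flp_i L452) q33, e3 q51 L469 q51, e3 q52 L686 q76, e3 q53 (flp_i L479) q36, e3 q54 L496 q54, e3 q55 L502 q55, e3 q56 L739 q82, e3 q57 (flp_i L514) q39, e3 q58 L776 q86, e3 q59 L795 q88, e3 q60 (flp_i L541) q40, e3 q61 L560 q61, e3 q62 L836 q92, e3 q63 (flp_i L570) q42, trivial⟩ (by decide +kernel)

theorem ce_i_1 : ∀ r, r < 64 → sm gi (Qf (64 + r)) = Qf (tab Gen.i (64 + r)) :=
  edges_tab (sm gi) Qf (tab Gen.i) 64 [(64, 64), (65, 98), (66, 99), (67, 45), (68, 102), (69, 46), (70, 70), (71, 71), (72, 106), (73, 49), (74, 74), (75, 75), (76, 52), (77, 77), (78, 78), (79, 79), (80, 118), (81, 120), (82, 56), (83, 83), (84, 126), (85, 127), (86, 58), (87, 130), (88, 59), (89, 89), (90, 90), (91, 134), (92, 62), (93, 93), (94, 94), (95, 140), (96, 143), (97, 144), (98, 65), (99, 66), (100, 146), (101, 148), (102, 68), (103, 103), (104, 104), (105, 105), (106, 72), (107, 107), (108, 108), (109, 109), (110, 110), (111, 111), (112, 112), (113, 113), (114, 114), (115, 167), (116, 171), (117, 172),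 (118, 80), (119, 175), (120, 81), (121, 121), (122, 122), (123, 182), (124, 185), (125, 186), (126, 84), (127, 85)]
    ⟨e3 q64 L589 q64, e3 q65 L888 q98, e3 q66 L897 q99, e3 q67 (flp_i L605) q45, e3 q68 L921 q102, e3 q69 (flp_i L622) q46, e3 q70 L640 q70, e3 q71 L647 q71, e3 q72 L954 q106, e3 q73 (flp_i L659) q49, e3 q74 L676 q74, e3 q75 L683 q75, e3 q76 (flp_i L686) q52, e3 q77 L704 q77, e3 q78 L711 q78, e3 q79 L720 q79, e3 q80 L1057 q118, e3 q81 L1076 q120, e3 q82 (flp_i L739) q56, e3 q83 L758 q83, e3 q84 L1132 q126, e3 q85 L1142 q127, e3 q86 (flp_i L776) q58, e3 q87 L1169 q130, e3 q88 (flp_i L795) q59, e3 q89 L815 q89, e3 q90 L823 q90, e3 q91 L1206 q134, e3 q92 (flp_i L836) q62, e3 q93 L855 q93, e3 q94 L863 q94, e3 q95 L1261 q140, e3 q96 L1286 q143, e3 q97 L1295 q144, e3 q98 (flp_i L888) q65, e3 q99 (flp_i L897) q66, e3 q100 (flp_i L1317) q146, e3 q101 L1326 q148, e3 q102 (flp_i L921) q68, e3 q103 L939 q103, e3 q104 L945 q104, e3 q105 L953 q105, e3 q106 (flp_i L954) q72, e3 q107 L972 q107, e3 q108 L980 q108, e3 q109 L988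 q109, e3 q110 L998 q110, e3 q111 L1005 q111, e3 q112 L1014 q112, e3 q113 L1021 q113, e3 q114 L1031 q114, e3 q115 L1489 q167, e3 q116 L1524 q171, e3 q117 L1534 q172, e3 q118 (flp_i L1057) q80, e3 q119 L1561 q175, e3 q120 (flp_i L1076) q81, e3 q121 L1096 q121, e3 q122 L1105 q122, e3 q123 L1626 q182, e3 q124 L1654 q185, e3 q125 L1664 q186, e3 q126 (flp_i L1132) q84, e3 q127 (flp_i L1142) q85, trivial⟩ (by decide +kernel)

theorem ce_i_2 : ∀ r, r < 64 → sm gi (Qf (128 + r)) = Qf (tab Gen.i (128 + r)) :=
  edges_tab (sm gi) Qf (tab Gen.i) 128 [(128, 188), (129, 190), (130, 87), (131, 131), (132, 132), (133, 133), (134, 91), (135, 135), (136, 136), (137, 137), (138, 204), (139, 206), (140, 95), (141, 209), (142, 210), (143, 96), (144, 97), (145, 212), (146, 100), (147, 214), (148, 101), (149, 149), (150, 150), (151, 151), (152, 152), (153, 153), (154, 154), (155, 155), (156, 156), (157, 157), (158, 158), (159, 159), (160, 160), (161, 161), (162, 162), (163, 163), (164, 164), (165, 242), (166, 244), (167, 115), (168, 248), (169,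 251), (170, 252), (171, 116), (172, 117), (173, 254), (174, 256), (175, 119), (176, 176), (177, 177), (178, 178), (179, 179), (180, 266), (181, 268), (182, 123), (183, 271), (184, 272), (185, 124), (186, 125), (187, 274), (188, 128), (189, 276), (190, 129), (191, 191)]
    ⟨e3 q128 (flp_i L1689) q188, e3 q129 L1699 q190, e3 q130 (flp_i L1169) q87, e3 q131 L1189 q131, e3 q132 L1196 q132, e3 q133 L1205 q133, e3 q134 (flp_i L1206) q91, e3 q135 L1226 q135, e3 q136 L1235 q136, e3 q137 L1245 q137, e3 q138 L1827 q204, e3 q139 L1843 q206, e3 q140 (flp_i L1261) q95, e3 q141 L1868 q209, e3 q142 L1878 q210, e3 q143 (flp_i L1286) q96, e3 q144 (flp_i L1295) q97, e3 q145 (flp_i L1900) q212, e3 q146 L1317 q100, e3 q147 (flp_i L1915) q214, e3 q148 (flp_i L1326) q101, e3 q149 L1345 q149, e3 q150 L1352 q150, e3 q151 L1357 q151, e3 q152 L1365 q152, e3 q153 L1374 q153, e3 q154 L1385 q154, e3 q155 L1393 q155, e3 q156 L1401 q156, e3 q157 L1408 q157, e3 q158 L1417 q158, e3 q159 L1427 q159, e3 q160 L1436 q160, e3 q161 L1444 q161, e3 q162 L1453 q162,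 e3 q163 L1461 q163, e3 q164 L1470 q164, e3 q165 L2142 q242, e3 q166 L2160 q244, e3 q167 (flp_i L1489) q115, e3 q168 L2195 q248, e3 q169 L2223 q251, e3 q170 L2233 q252, e3 q171 (flp_i L1524) q116, e3 q172 (flp_i L1534) q117, e3 q173 (flp_i L2258) q254, e3 q174 L2269 q256, e3 q175 (flp_i L1561) q119, e3 q176 L1581 q176, e3 q177 L1589 q177, e3 q178 L1597 q178, e3 q179 L1608 q179, e3 q180 L2362 q266, e3 q181 L2380 q268, e3 q182 (flp_i L1626) q123, e3 q183 L2408 q271, e3 q184 L2419 q272, e3 q185 (flp_i L1654) q124, e3 q186 (flp_i L1664) q125, e3 q187 (flp_i L2444) q274, e3 q188 L1689 q128, e3 q189 (flp_i L2461) q276, e3 q190 (flp_i L1699) q129, e3 q191 L1720 q191, trivial⟩ (by decide +kernel)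

theorem ce_i_3 : ∀ r, r < 64 → sm gi (Qf (192 + r)) = Qf (tab Gen.i (192 + r)) :=
  edges_tab (sm gi) Qf (tab Gen.i) 192 [(192, 192), (193, 193), (194, 194), (195, 195), (196, 196), (197, 197), (198, 198), (199, 199), (200, 200), (201, 295), (202, 297), (203, 299), (204, 138), (205, 302), (206, 139), (207, 303), (208, 305), (209, 141), (210, 142), (211, 307), (212, 145), (213, 309), (214, 147), (215, 312), (216, 313), (217, 217), (218, 218), (219, 219), (220, 220), (221, 221), (222, 222), (223, 223), (224, 224), (225, 225), (226, 226), (227, 227), (228, 228), (229, 229), (230, 230), (231, 231), (232, 232), (233, 233), (234, 234), (235, 235), (236, 236), (237, 237), (238, 238), (239, 349), (240, 352), (241, 354), (242, 165), (243, 357), (244, 166), (245, 358), (246, 363), (247, 365), (248, 168), (249, 368), (250, 369), (251, 169), (252, 170), (253, 371), (254, 173), (255, 373)]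
    ⟨e3 q192 L1728 q192, e3 q193 L1735 q193, e3 q194 L1744 q194, e3 q195 L1754 q195, e3 q196 L1766 q196, e3 q197 L1775 q197, e3 q198 L1785 q198, e3 q199 L1793 q199, e3 q200 L1802 q200, e3 q201 L2627 q295, e3 q202 L2645 q297, e3 q203 L2662 q299, e3 q204 (flp_i L1827) q138, e3 q205 L2685 q302, e3 q206 (flp_i L1843) q139, e3 q207 (flp_i L2701) q303, e3 q208 L2709 q305, e3 q209 (flp_i L1868) q141, e3 q210 (flp_i L1878) q142, e3 q211 (flp_i L2733) q307, e3 q212 L1900 q145, e3 q213 (flp_i L2749) q309, e3 q214 L1915 q147, e3 q215 (flp_i L2771) q312, e3 q216 (flp_i L2780) q313, e3 q217 L1943 q217, e3 q218 L1950 q218, e3 q219 L1956 q219, e3 q220 L1963 q220, e3 q221 L1971 q221, e3 q222 L1979 q222, e3 q223 L1987 q223, e3 q224 L1994 q224, e3 q225 L2004 q225, e3 q226 L2012 q226, e3 q227 L2020 q227, e3 q228 L2028 q228, e3 q229 L2037 q229, e3 q230 L2047 q230, e3 q231 L2056 q231, e3 q232 L2065 q232, e3 q233 L2074 q233, e3 q234 L2083 q234, e3 q235 L2089 q235, e3 q236 L2099 q236, e3 q237 L2107 q237, e3 q238 L2114 q238, e3 q239 L3076 q349, e3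 q240 L3104 q352, e3 q241 L3124 q354, e3 q242 (flp_i L2142) q165, e3 q243 L3152 q357, e3 q244 (flp_i L2160) q166, e3 q245 (flp_i L3170) q358, e3 q246 L3205 q363, e3 q247 L3225 q365, e3 q248 (flp_i L2195) q168, e3 q249 L3253 q368, e3 q250 L3264 q369, e3 q251 (flp_i L2223) q169, e3 q252 (flp_i L2233) q170, e3 q253 (flp_i L3289) q371, e3 q254 L2258 q173, e3 q255 (flp_i L3308) q373, trivial⟩ (by decide +kernel)

theorem ce_i_4 : ∀ r, r < 64 → sm gi (Qf (256 + r)) = Qf (tab Gen.i (256 + r)) :=
  edges_tab (sm gi) Qf (tab Gen.i) 256 [(256, 174), (257, 257), (258, 258), (259, 259), (260, 260), (261, 261), (262, 262), (263, 388), (264, 390), (265, 392), (266, 180), (267, 395), (268, 181), (269, 396), (270, 398), (271, 183), (272, 184), (273, 400), (274, 187), (275, 402), (276, 189), (277, 405), (278, 406), (279, 279), (280, 280), (281, 281), (282, 282), (283, 283), (284, 284), (285, 285), (286, 286), (287, 287), (288, 288), (289, 289), (290, 290), (291, 291), (292, 292), (293, 431), (294, 433), (295, 201), (296, 436), (297, 202), (298,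 439), (299, 203), (300, 440), (301, 443), (302, 205), (303, 207), (304, 445), (305, 208), (306, 448), (307, 211), (308, 450), (309, 213), (310, 453), (311, 454), (312, 215), (313, 216), (314, 458), (315, 459), (316, 460), (317, 317), (318, 318), (319, 319)]
    ⟨e3 q256 (flp_i L2269) q174, e3 q257 L2290 q257, e3 q258 L2299 q258, e3 q259 L2305 q259, e3 q260 L2314 q260, e3 q261 L2326 q261, e3 q262 L2334 q262, e3 q263 L3435 q388, e3 q264 L3455 q390, e3 q265 L3474 q392, e3 q266 (flp_i L2362) q180, e3 q267 L3502 q395, e3 q268 (flp_i L2380) q181, e3 q269 (flp_i L3520) q396, e3 q270 L3529 q398, e3 q271 (flp_i L2408) q183, e3 q272 (flp_i L2419) q184, e3 q273 (flp_i L3556) q400, e3 q274 L2444 q187, e3 q275 (flp_i L3574) q402, e3 q276 L2461 q189, e3 q277 (flp_i L3601) q405, e3 q278 (flp_i L3611) q406, e3 q279 L2493 q279, e3 q280 L2501 q280, e3 q281 L2509 q281, e3 q282 L2517 q282, e3 q283 L2525 q283, e3 q284 L2534 q284, e3 q285 L2543 q285, e3 q286 L2551 q286, e3 q287 L2562 q287, e3 q288 L2572 q288, e3 q289 L2581 q289, e3 q290 L2589 q290,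 e3 q291 L2599 q291, e3 q292 L2608 q292, e3 q293 L3828 q431, e3 q294 L3845 q433, e3 q295 (flp_i L2627) q201, e3 q296 L3869 q436, e3 q297 (flp_i L2645) q202, e3 q298 L3894 q439, e3 q299 (flp_i L2662) q203, e3 q300 (flp_i L3910) q440, e3 q301 L3927 q443, e3 q302 (flp_i L2685) q205, e3 q303 L2701 q207, e3 q304 (flp_i L3947) q445, e3 q305 (flp_i L2709) q208, e3 q306 (flp_i L3970) q448, e3 q307 L2733 q211, e3 q308 (flp_i L3987) q450, e3 q309 L2749 q213, e3 q310 (flp_i L4011) q453, e3 q311 (flp_i L4019) q454, e3 q312 L2771 q215, e3 q313 L2780 q216, e3 q314 (flp_i L4051) q458, e3 q315 (flp_i L4061) q459, e3 q316 (flp_i L4069) q460, e3 q317 L2813 q317, e3 q318 L2819 q318, e3 q319 L2827 q319, trivial⟩ (by decide +kernel)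

theorem ce_i_5 : ∀ r, r < 64 → sm gi (Qf (320 + r)) = Qf (tab Gen.i (320 + r)) :=
  edges_tab (sm gi) Qf (tab Gen.i) 320 [(320, 320), (321, 321), (322, 322), (323, 323), (324, 324), (325, 325), (326, 326), (327, 327), (328, 328), (329, 329), (330, 330), (331, 331), (332, 332), (333, 333), (334, 334), (335, 335), (336, 336), (337, 337), (338, 338), (339, 339), (340, 340), (341, 341), (342, 342), (343, 343), (344, 344), (345, 442), (346, 502), (347, 506), (348, 507), (349, 239), (350, 510), (351, 512), (352, 240), (353, 514), (354, 241), (355, 515), (356, 517), (357, 243), (358, 245), (359, 519), (360, 524), (361, 526), (362, 528), (363, 246), (364, 530), (365, 247), (366, 531), (367, 533), (368, 249), (369, 250), (370, 535), (371, 253), (372, 537), (373, 255), (374, 540), (375, 541), (376, 376), (377, 377), (378, 378), (379, 379), (380, 380), (381, 381), (382, 382), (383, 383)]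
    ⟨e3 q320 L2836 q320, e3 q321 L2843 q321, e3 q322 L2849 q322, e3 q323 L2859 q323, e3 q324 L2867 q324, e3 q325 L2875 q325, e3 q326 L2881 q326, e3 q327 L2890 q327, e3 q328 L2899 q328, e3 q329 L2908 q329, e3 q330 L2916 q330, e3 q331 L2926 q331, e3 q332 L2933 q332, e3 q333 L2944 q333, e3 q334 L2953 q334, e3 q335 L2959 q335, e3 q336 L2969 q336, e3 q337 L2979 q337, e3 q338 L2987 q338, e3 q339 L2996 q339, e3 q340 L3005 q340, e3 q341 L3011 q341, e3 q342 L3020 q342, e3 q343 L3030 q343, e3 q344 L3038 q344, e3 q345 L494763 q442, e3 q346 L4433 q502, e3 q347 L4471 q506, e3 q348 L4481 q507, e3 q349 (flp_i L3076) q239, e3 q350 L4512 q510, e3 q351 L4533 q512, e3 q352 (flp_i L3104) q240, e3 q353 L4551 q514, e3 q354 (flp_i L3124) q241, e3 q355 (flp_i L4571) q515, e3 q356 L4581 q517, e3 q357 (flp_i L3152) q243, e3 q358 L3170 q245, e3 q359 (flp_i L4606) q519, e3 q360 L4642 q524, e3 q361 L4662 q526, e3 q362 L4683 q528, e3 q363 (flp_i L3205) q246, e3 q364 L4701 q530, e3 q365 (flp_i L3225) q247, e3 q366 (flp_i L4721) q531, e3 q367 L4731 q533,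 e3 q368 (flp_i L3253) q249, e3 q369 (flp_i L3264) q250, e3 q370 (flp_i L4758) q535, e3 q371 L3289 q253, e3 q372 (flp_i L4778) q537, e3 q373 L3308 q255, e3 q374 (flp_i L4803) q540, e3 q375 (flp_i L4813) q541, e3 q376 L3339 q376, e3 q377 L3348 q377, e3 q378 L3355 q378, e3 q379 L3363 q379, e3 q380 L3370 q380, e3 q381 L3380 q381, e3 q382 L3389 q382, e3 q383 L3396 q383, trivial⟩ (by decide +kernel)

theorem ce_i_6 : ∀ r, r < 64 → sm gi (Qf (384 + r)) = Qf (tab Gen.i (384 + r)) :=
  edges_tab (sm gi) Qf (tab Gen.i) 384 [(384, 384), (385, 385), (386, 562), (387, 564), (388, 263), (389, 567), (390, 264), (391, 570), (392, 265), (393, 571), (394, 573), (395, 267), (396, 269), (397, 575), (398, 270), (399, 578), (400, 273), (401, 580), (402, 275), (403, 583), (404, 584), (405, 277), (406, 278), (407, 588), (408, 589), (409, 590), (410, 410), (411, 411), (412, 412), (413, 413), (414, 414), (415, 415), (416, 416), (417, 417), (418, 418), (419, 419), (420, 420), (421, 421), (422, 422), (423, 423), (424, 424), (425, 425), (426, 426), (427,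 427), (428, 428), (429, 621), (430, 623), (431, 293), (432, 627), (433, 294), (434, 628), (435, 631), (436, 296), (437, 632), (438, 635), (439, 298), (440, 300), (441, 637), (442, 345), (443, 301), (444, 444), (445, 304), (446, 641), (447, 642)]
    ⟨e3 q384 L3406 q384, e3 q385 L3415 q385, e3 q386 L4993 q562, e3 q387 L5012 q564, e3 q388 (flp_i L3435) q263, e3 q389 L5039 q567, e3 q390 (flp_i L3455) q264, e3 q391 L5069 q570, e3 q392 (flp_i L3474) q265, e3 q393 (flp_i L5087) q571, e3 q394 L5096 q573, e3 q395 (flp_i L3502) q267, e3 q396 L3520 q269, e3 q397 (flp_i L5121) q575, e3 q398 (flp_i L3529) q270, e3 q399 (flp_i L5148) q578, e3 q400 L3556 q273, e3 q401 (flp_i L5167) q580, e3 q402 L3574 q275, e3 q403 (flp_i L5196) q583, e3 q404 (flp_i L5205) q584, e3 q405 L3601 q277, e3 q406 L3611 q278, e3 q407 (flp_i L5239) q588, e3 q408 (flp_i L5250) q589, e3 q409 (flp_i L5259) q590, e3 q410 L3647 q410, e3 q411 L3655 q411, e3 q412 L3664 q412, e3 q413 L3673 q413, e3 q414 L3681 q414, e3 q415 L3688 q415, e3 q416 L3697 q416, e3 q417 L3706 q417,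 e3 q418 L3716 q418, e3 q419 L3723 q419, e3 q420 L3733 q420, e3 q421 L3744 q421, e3 q422 L3754 q422, e3 q423 L3762 q423, e3 q424 L3773 q424, e3 q425 L3781 q425, e3 q426 L3791 q426, e3 q427 L3801 q427, e3 q428 L3809 q428, e3 q429 L5529 q621, e3 q430 L5547 q623, e3 q431 (flp_i L3828) q293, e3 q432 L5579 q627, e3 q433 (flp_i L3845) q294, e3 q434 (flp_i L5595) q628, e3 q435 L5612 q631, e3 q436 (flp_i L3869) q296, e3 q437 (flp_i L5630) q632, e3 q438 L5648 q635, e3 q439 (flp_i L3894) q298, e3 q440 L3910 q300, e3 q441 (flp_i L5668) q637, e3 q442 (flp_i L494763) q345, e3 q443 (flp_i L3927) q301, e3 q444 L3941 q444, e3 q445 L3947 q304, e3 q446 (flp_i L5714) q641, e3 q447 (flp_i L5721) q642, trivial⟩ (by decide +kernel)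

theorem ce_i_7 : ∀ r, r < 64 → sm gi (Qf (448 + r)) = Qf (tab Gen.i (448 + r)) :=
  edges_tab (sm gi) Qf (tab Gen.i) 448 [(448, 306), (449, 646), (450, 308), (451, 649), (452, 650), (453, 310), (454, 311), (455, 654), (456, 655), (457, 656), (458, 314), (459, 315), (460, 316), (461, 662), (462, 663), (463, 664), (464, 665), (465, 666), (466, 466), (467, 467), (468, 468), (469, 469), (470, 470), (471, 471), (472, 472), (473, 473), (474, 474), (475, 475), (476, 476), (477, 477), (478, 478), (479, 479), (480, 480), (481, 481), (482, 482), (483, 483), (484, 484), (485, 485), (486, 486), (487, 487), (488, 488), (489, 643), (490, 490), (491, 491), (492, 492), (493, 493), (494, 494), (495, 495), (496, 496), (497, 497), (498, 498), (499, 634), (500, 500), (501, 715), (502, 346), (503, 719), (504, 721), (505, 722), (506, 347), (507, 348), (508, 724), (509, 727), (510, 350), (511, 729)]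
    ⟨e3 q448 L3970 q306, e3 q449 (flp_i L5753) q646, e3 q450 L3987 q308, e3 q451 (flp_i L5779) q649, e3 q452 (flp_i L5788) q650, e3 q453 L4011 q310, e3 q454 L4019 q311, e3 q455 (flp_i L5820) q654, e3 q456 (flp_i L5829) q655, e3 q457 (flp_i L5836) q656, e3 q458 L4051 q314, e3 q459 L4061 q315, e3 q460 L4069 q316, e3 q461 (flp_i L5884) q662, e3 q462 (flp_i L5894) q663, e3 q463 (flp_i L5900) q664, e3 q464 (flp_i L5910) q665, e3 q465 (flp_i L5917) q666, e3 q466 L4115 q466, e3 q467 L4124 q467, e3 q468 L4133 q468, e3 q469 L4141 q469, e3 q470 L4146 q470, e3 q471 L4156 q471, e3 q472 L4163 q472, e3 q473 L4167 q473, e3 q474 L4176 q474, e3 q475 L4185 q475, e3 q476 L4193 q476, e3 q477 L4202 q477, e3 q478 L4208 q478, e3 q479 L4216 q479, e3 q480 L4225 q480, e3 q481 L4236 q481, e3 q482 L4245 q482, e3 q483 L4255 q483, e3 q484 L4265 q484, e3 q485 L4270 q485, e3 q486 L4277 q486, e3 q487 L4288 q487, e3 q488 L4296 q488, e3 q489 (flp_i L594488) q643, e3 q490 L4311 q490, e3 q491 L4321 q491, e3 q492 L4328 q492, e3 q493 L4339 q493, e3 q494 L4347 q494,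 e3 q495 L4358 q495, e3 q496 L4365 q496, e3 q497 L4372 q497, e3 q498 L4381 q498, e3 q499 (flp_i L564460) q634, e3 q500 L4398 q500, e3 q501 L6400 q715, e3 q502 (flp_i L4433) q346, e3 q503 L6439 q719, e3 q504 L6461 q721, e3 q505 L6472 q722, e3 q506 (flp_i L4471) q347, e3 q507 (flp_i L4481) q348, e3 q508 (flp_i L6503) q724, e3 q509 L6522 q727, e3 q510 (flp_i L4512) q350, e3 q511 L6542 q729, trivial⟩ (by decide +kernel)

theorem ce_i_8 : ∀ r, r < 64 → sm gi (Qf (512 + r)) = Qf (tab Gen.i (512 + r)) :=
  edges_tab (sm gi) Qf (tab Gen.i) 512 [(512, 351), (513, 730), (514, 353), (515, 355), (516, 733), (517, 356), (518, 518), (519, 359), (520, 738), (521, 739), (522, 745), (523, 747), (524, 360), (525, 750), (526, 361), (527, 752), (528, 362), (529, 753), (530, 364), (531, 366), (532, 756), (533, 367), (534, 759), (535, 370), (536, 761), (537, 372), (538, 764), (539, 765), (540, 374), (541, 375), (542, 769), (543, 770), (544, 771), (545, 545), (546, 546), (547, 547), (548, 548), (549, 549), (550, 550), (551, 551), (552, 552), (553,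 553), (554, 554), (555, 555), (556, 556), (557, 797), (558, 558), (559, 559), (560, 800), (561, 802), (562, 386), (563, 806), (564, 387), (565, 807), (566, 810), (567, 389), (568, 811), (569, 813), (570, 391), (571, 393), (572, 815), (573, 394), (574, 574), (575, 397)]
    ⟨e3 q512 (flp_i L4533) q351, e3 q513 (flp_i L6562) q730, e3 q514 (flp_i L4551) q353, e3 q515 L4571 q355, e3 q516 (flp_i L6589) q733, e3 q517 (flp_i L4581) q356, e3 q518 L4599 q518, e3 q519 L4606 q359, e3 q520 (flp_i L6631) q738, e3 q521 (flp_i L6641) q739, e3 q522 L6686 q745, e3 q523 L6707 q747, e3 q524 (flp_i L4642) q360, e3 q525 L6736 q750, e3 q526 (flp_i L4662) q361, e3 q527 L6756 q752, e3 q528 (flp_i L4683) q362, e3 q529 (flp_i L6776) q753, e3 q530 (flp_i L4701) q364, e3 q531 L4721 q366, e3 q532 (flp_i L6803) q756, e3 q533 (flp_i L4731) q367, e3 q534 (flp_i L6829) q759, e3 q535 L4758 q370, e3 q536 (flp_i L6850) q761, e3 q537 L4778 q372, e3 q538 (flp_i L6877) q764, e3 q539 (flp_i L6886) q765, e3 q540 L4803 q374, e3 q541 L4813 q375, e3 q542 (flp_i L6920)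 q769, e3 q543 (flp_i L6932) q770, e3 q544 (flp_i L6942) q771, e3 q545 L4851 q545, e3 q546 L4858 q546, e3 q547 L4867 q547, e3 q548 L4875 q548, e3 q549 L4884 q549, e3 q550 L4892 q550, e3 q551 L4902 q551, e3 q552 L4912 q552, e3 q553 L4918 q553, e3 q554 L4928 q554, e3 q555 L4936 q555, e3 q556 L4945 q556, e3 q557 L7158 q797, e3 q558 L4962 q558, e3 q559 L4972 q559, e3 q560 L7188 q800, e3 q561 L7208 q802, e3 q562 (flp_i L4993) q386, e3 q563 L7246 q806, e3 q564 (flp_i L5012) q387, e3 q565 (flp_i L7264) q807, e3 q566 L7285 q810, e3 q567 (flp_i L5039) q389, e3 q568 (flp_i L7305) q811, e3 q569 L7315 q813, e3 q570 (flp_i L5069) q391, e3 q571 L5087 q393, e3 q572 (flp_i L7340) q815, e3 q573 (flp_i L5096) q394, e3 q574 L5114 q574, e3 q575 L5121 q397, trivial⟩ (by decide +kernel)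

theorem ce_i_9 : ∀ r, r < 64 → sm gi (Qf (576 + r)) = Qf (tab Gen.i (576 + r)) :=
  edges_tab (sm gi) Qf (tab Gen.i) 576 [(576, 819), (577, 820), (578, 399), (579, 824), (580, 401), (581, 827), (582, 828), (583, 403), (584, 404), (585, 832), (586, 833), (587, 834), (588, 407), (589, 408), (590, 409), (591, 840), (592, 841), (593, 842), (594, 843), (595, 844), (596, 596), (597, 597), (598, 598), (599, 599), (600, 600), (601, 601), (602, 602), (603, 603), (604, 604), (605, 605), (606, 606), (607, 607), (608, 608), (609, 609), (610, 610), (611, 611), (612, 612), (613, 613), (614, 614), (615, 615), (616, 616), (617, 617), (618, 618), (619, 882), (620, 884), (621, 429), (622, 888), (623, 430), (624, 889), (625, 893), (626, 894), (627, 432), (628, 434), (629, 896), (630, 900), (631, 435), (632, 437), (633, 902), (634, 499), (635, 438), (636, 636), (637, 441), (638, 906), (639, 907)]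
    ⟨e3 q576 (flp_i L7385) q819, e3 q577 (flp_i L7393) q820, e3 q578 L5148 q399, e3 q579 (flp_i L7428) q824, e3 q580 L5167 q401, e3 q581 (flp_i L7459) q827, e3 q582 (flp_i L7469) q828, e3 q583 L5196 q403, e3 q584 L5205 q404, e3 q585 (flp_i L7503) q832, e3 q586 (flp_i L7513) q833, e3 q587 (flp_i L7521) q834, e3 q588 L5239 q407, e3 q589 L5250 q408, e3 q590 L5259 q409, e3 q591 (flp_i L7573) q840, e3 q592 (flp_i L7584) q841, e3 q593 (flp_i L7592) q842, e3 q594 (flp_i L7604) q843, e3 q595 (flp_i L7612) q844, e3 q596 L5312 q596, e3 q597 L5322 q597, e3 q598 L5331 q598, e3 q599 L5340 q599, e3 q600 L5346 q600, e3 q601 L5355 q601, e3 q602 L5363 q602, e3 q603 L5369 q603, e3 q604 L5380 q604, e3 q605 L5390 q605, e3 q606 L5399 q606, e3 q607 L5407 q607, e3 q608 L5415 q608, e3 q609 L5424 q609, e3 q610 L5433 q610, e3 q611 L5445 q611, e3 q612 L5455 q612, e3 q613 L5464 q613, e3 q614 L5475 q614, e3 q615 L5482 q615, e3 q616 L5491 q616, e3 q617 L5503 q617, e3 q618 L5511 q618, e3 q619 L7944 q882, e3 q620 L7961 q884, e3 q621 (flp_i L5529) q429, e3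 q622 L7995 q888, e3 q623 (flp_i L5547) q430, e3 q624 (flp_i L8013) q889, e3 q625 L8039 q893, e3 q626 L8047 q894, e3 q627 (flp_i L5579) q432, e3 q628 L5595 q434, e3 q629 (flp_i L8068) q896, e3 q630 L8093 q900, e3 q631 (flp_i L5612) q435, e3 q632 L5630 q437, e3 q633 (flp_i L8116) q902, e3 q634 L564460 q499, e3 q635 (flp_i L5648) q438, e3 q636 L5662 q636, e3 q637 L5668 q441, e3 q638 (flp_i L8164) q906, e3 q639 (flp_i L8172) q907, trivial⟩ (by decide +kernel)

theorem ce_i_10 : ∀ r, r < 64 → sm gi (Qf (640 + r)) = Qf (tab Gen.i (640 + r)) :=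
  edges_tab (sm gi) Qf (tab Gen.i) 640 [(640, 640), (641, 446), (642, 447), (643, 489), (644, 912), (645, 913), (646, 449), (647, 918), (648, 919), (649, 451), (650, 452), (651, 923), (652, 924), (653, 925), (654, 455), (655, 456), (656, 457), (657, 931), (658, 932), (659, 933), (660, 934), (661, 935), (662, 461), (663, 462), (664, 463), (665, 464), (666, 465), (667, 943), (668, 944), (669, 945), (670, 946), (671, 948), (672, 949), (673, 673), (674, 674), (675, 675), (676, 676), (677, 677), (678, 678), (679, 679), (680, 680), (681, 681), (682, 682), (683, 683), (684, 684), (685, 914), (686, 686), (687, 687), (688, 688), (689, 689), (690, 690), (691, 691), (692, 692), (693, 693), (694, 694), (695, 695), (696, 696), (697, 697), (698, 698), (699, 699), (700, 908), (701, 701), (702, 702), (703, 703)]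
    ⟨e3 q640 L5707 q640, e3 q641 L5714 q446, e3 q642 L5721 q447, e3 q643 L594488 q489, e3 q644 (flp_i L8240) q912, e3 q645 (flp_i L8248) q913, e3 q646 L5753 q449, e3 q647 (flp_i L8292) q918, e3 q648 (flp_i L8302) q919, e3 q649 L5779 q451, e3 q650 L5788 q452, e3 q651 (flp_i L8338) q923, e3 q652 (flp_i L8348) q924, e3 q653 (flp_i L8354) q925, e3 q654 L5820 q455, e3 q655 L5829 q456, e3 q656 L5836 q457, e3 q657 (flp_i L8403) q931, e3 q658 (flp_i L8412) q932, e3 q659 (flp_i L8417) q933, e3 q660 (flp_i L8426) q934, e3 q661 (flp_i L8436) q935, e3 q662 L5884 q461, e3 q663 L5894 q462, e3 q664 L5900 q463, e3 q665 L5910 q464, e3 q666 L5917 q465, e3 q667 (flp_i L8497) q943, e3 q668 (flp_i L8505) q944, e3 q669 (flp_i L8515) q945, e3 q670 (flp_i L8523) q946, e3 q671 (flp_i L8538) q948, e3 q672 (flp_i L8547) q949, e3 q673 L5975 q673, e3 q674 L5984 q674, e3 q675 L5991 q675, e3 q676 L6001 q676, e3 q677 L6009 q677, e3 q678 L6014 q678, e3 q679 L6022 q679, e3 q680 L6029 q680, e3 q681 L6038 q681, e3 q682 L6044 q682, e3 q683 L6053 q683, e3 q684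 L6062 q684, e3 q685 (flp_i L598215) q914, e3 q686 L6076 q686, e3 q687 L6083 q687, e3 q688 L6092 q688, e3 q689 L6099 q689, e3 q690 L6107 q690, e3 q691 L6118 q691, e3 q692 L6129 q692, e3 q693 L6135 q693, e3 q694 L6144 q694, e3 q695 L6153 q695, e3 q696 L6165 q696, e3 q697 L6172 q697, e3 q698 L6180 q698, e3 q699 L6188 q699, e3 q700 L598156 q908, e3 q701 L6202 q701, e3 q702 L6234 q702, e3 q703 L6242 q703, trivial⟩ (by decide +kernel)

theorem ce_i_11 : ∀ r, r < 64 → sm gi (Qf (704 + r)) = Qf (tab Gen.i (704 + r)) :=
  edges_tab (sm gi) Qf (tab Gen.i) 704 [(704, 704), (705, 705), (706, 899), (707, 707), (708, 708), (709, 709), (710, 710), (711, 711), (712, 891), (713, 1002), (714, 1003), (715, 501), (716, 716), (717, 1008), (718, 1009), (719, 503), (720, 1011), (721, 504), (722, 505), (723, 1013), (724, 508), (725, 1015), (726, 1018), (727, 509), (728, 1019), (729, 511), (730, 513), (731, 1022), (732, 732), (733, 516), (734, 1026), (735, 1027), (736, 736), (737, 737), (738, 520), (739, 521), (740, 1034), (741, 1035), (742, 1036),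 (743, 1043), (744, 1045), (745, 522), (746, 1048), (747, 523), (748, 1049), (749, 1051), (750, 525), (751, 1052), (752, 527), (753, 529), (754, 1055), (755, 755), (756, 532), (757, 1059), (758, 1060), (759, 534), (760, 1064), (761, 536), (762, 1067), (763, 1068), (764, 538), (765, 539), (766, 1072), (767, 1073)]
    ⟨e3 q704 L6251 q704, e3 q705 L6261 q705, e3 q706 (flp_i L564486) q899, e3 q707 L6278 q707, e3 q708 L6288 q708, e3 q709 L6296 q709, e3 q710 L6312 q710, e3 q711 L6327 q711, e3 q712 L487898 q891, e3 q713 L9183 q1002, e3 q714 L9193 q1003, e3 q715 (flp_i L6400) q501, e3 q716 L6418 q716, e3 q717 L9243 q1008, e3 q718 L9254 q1009, e3 q719 (flp_i L6439) q503, e3 q720 L9275 q1011, e3 q721 (flp_i L6461) q504, e3 q722 (flp_i L6472) q505, e3 q723 (flp_i L9308) q1013, e3 q724 L6503 q508, e3 q725 (flp_i L9322) q1015, e3 q726 L9339 q1018, e3 q727 (flp_i L6522) q509, e3 q728 (flp_i L9361) q1019, e3 q729 (flp_i L6542) q511, e3 q730 L6562 q513, e3 q731 (flp_i L9389) q1022, e3 q732 L6581 q732, e3 q733 L6589 q516, e3 q734 (flp_i L9423)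 q1026, e3 q735 (flp_i L9432) q1027, e3 q736 L6616 q736, e3 q737 L6623 q737, e3 q738 L6631 q520, e3 q739 L6641 q521, e3 q740 (flp_i L9491) q1034, e3 q741 (flp_i L9501) q1035, e3 q742 (flp_i L9509) q1036, e3 q743 L9560 q1043, e3 q744 L9582 q1045, e3 q745 (flp_i L6686) q522, e3 q746 L9612 q1048, e3 q747 (flp_i L6707) q523, e3 q748 (flp_i L9632) q1049, e3 q749 L9643 q1051, e3 q750 (flp_i L6736) q525, e3 q751 (flp_i L9665) q1052, e3 q752 (flp_i L6756) q527, e3 q753 L6776 q529, e3 q754 (flp_i L9693) q1055, e3 q755 L6795 q755, e3 q756 L6803 q532, e3 q757 (flp_i L9726) q1059, e3 q758 (flp_i L9734) q1060, e3 q759 L6829 q534, e3 q760 (flp_i L9771) q1064, e3 q761 L6850 q536, e3 q762 (flp_i L9800) q1067, e3 q763 (flp_i L9810) q1068, e3 q764 L6877 q538, e3 q765 L6886 q539, e3 q766 (flp_i L9844) q1072, e3 q767 (flp_i L9855) q1073, trivial⟩ (by decide +kernel)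

theorem ce_i_12 : ∀ r, r < 64 → sm gi (Qf (768 + r)) = Qf (tab Gen.i (768 + r)) :=
  edges_tab (sm gi) Qf (tab Gen.i) 768 [(768, 1074), (769, 542), (770, 543), (771, 544), (772, 1080), (773, 1081), (774, 1082), (775, 1083), (776, 1084), (777, 777), (778, 778), (779, 779), (780, 780), (781, 781), (782, 782), (783, 783), (784, 784), (785, 785), (786, 786), (787, 787), (788, 788), (789, 789), (790, 790), (791, 1115), (792, 792), (793, 793), (794, 794), (795, 795), (796, 1121), (797, 557), (798, 798), (799, 1123), (800, 560), (801, 1127), (802, 561), (803, 1128), (804, 1131), (805, 1132), (806, 563), (807, 565), (808, 1134), (809, 1137), (810, 566), (811, 568), (812, 1139), (813, 569), (814, 814), (815, 572), (816, 1143), (817, 1144), (818, 818), (819, 576), (820, 577), (821, 1149), (822, 1150), (823, 1151), (824, 579), (825, 1157), (826, 1158), (827, 581), (828, 582), (829, 1162), (830, 1163), (831, 1164)]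
    ⟨e3 q768 (flp_i L9864) q1074, e3 q769 L6920 q542, e3 q770 L6932 q543, e3 q771 L6942 q544, e3 q772 (flp_i L9917) q1080, e3 q773 (flp_i L9929) q1081, e3 q774 (flp_i L9936) q1082, e3 q775 (flp_i L9946) q1083, e3 q776 (flp_i L9955) q1084, e3 q777 L6993 q777, e3 q778 L7003 q778, e3 q779 L7011 q779, e3 q780 L7021 q780, e3 q781 L7028 q781, e3 q782 L7038 q782, e3 q783 L7047 q783, e3 q784 L7052 q784, e3 q785 L7061 q785, e3 q786 L7072 q786, e3 q787 L7082 q787, e3 q788 L7089 q788, e3 q789 L7099 q789, e3 q790 L7108 q790, e3 q791 L10217 q1115, e3 q792 L7122 q792, e3 q793 L7132 q793, e3 q794 L7139 q794, e3 q795 L7148 q795, e3 q796 L10267 q1121, e3 q797 (flp_i L7158) q557, e3 q798 L7176 q798, e3 q799 L10285 q1123, e3 q800 (flp_i L7188) q560, e3 q801 L10325 q1127, e3 q802 (flp_i L7208) q561, e3 q803 (flp_i L10345) q1128, e3 q804 L10366 q1131, e3 q805 L10377 q1132, e3 q806 (flp_i L7246) q563, e3 q807 L7264 q565, e3 q808 (flp_i L10401) q1134, e3 q809 L10419 q1137, e3 q810 (flp_i L7285) q566, e3 q811 L7305 q568, e3 q812 (flp_i L10447) q1139,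 e3 q813 (flp_i L7315) q569, e3 q814 L7333 q814, e3 q815 L7340 q572, e3 q816 (flp_i L10494) q1143, e3 q817 (flp_i L10503) q1144, e3 q818 L7376 q818, e3 q819 L7385 q576, e3 q820 L7393 q577, e3 q821 (flp_i L10561) q1149, e3 q822 (flp_i L10570) q1150, e3 q823 (flp_i L10579) q1151, e3 q824 L7428 q579, e3 q825 (flp_i L10630) q1157, e3 q826 (flp_i L10641) q1158, e3 q827 L7459 q581, e3 q828 L7469 q582, e3 q829 (flp_i L10679) q1162, e3 q830 (flp_i L10690) q1163, e3 q831 (flp_i L10697) q1164, trivial⟩ (by decide +kernel)

theorem ce_i_13 : ∀ r, r < 64 → sm gi (Qf (832 + r)) = Qf (tab Gen.i (832 + r)) :=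
  edges_tab (sm gi) Qf (tab Gen.i) 832 [(832, 585), (833, 586), (834, 587), (835, 1170), (836, 1171), (837, 1172), (838, 1173), (839, 1174), (840, 591), (841, 592), (842, 593), (843, 594), (844, 595), (845, 1182), (846, 1183), (847, 1184), (848, 1185), (849, 1187), (850, 1188), (851, 851), (852, 852), (853, 853), (854, 854), (855, 855), (856, 856), (857, 857), (858, 858), (859, 859), (860, 860), (861, 861), (862, 862), (863, 1217), (864, 864), (865, 865), (866, 866), (867, 867), (868, 868), (869, 869), (870, 870), (871, 871), (872, 872), (873, 873), (874, 874), (875, 875), (876, 876), (877, 877), (878, 1234), (879, 879), (880, 880), (881, 1152), (882, 619), (883, 1239), (884, 620), (885, 1240), (886, 1244), (887, 1245), (888, 622), (889, 624), (890, 1247), (891, 712), (892, 1252), (893, 625), (894, 626), (895, 895)]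
    ⟨e3 q832 L7503 q585, e3 q833 L7513 q586, e3 q834 L7521 q587, e3 q835 (flp_i L10750) q1170, e3 q836 (flp_i L10760) q1171, e3 q837 (flp_i L10767) q1172, e3 q838 (flp_i L10778) q1173, e3 q839 (flp_i L10789) q1174, e3 q840 L7573 q591, e3 q841 L7584 q592, e3 q842 L7592 q593, e3 q843 L7604 q594, e3 q844 L7612 q595, e3 q845 (flp_i L10858) q1182, e3 q846 (flp_i L10866) q1183, e3 q847 (flp_i L10875) q1184, e3 q848 (flp_i L10885) q1185, e3 q849 (flp_i L10904) q1187, e3 q850 (flp_i L10914) q1188, e3 q851 L7675 q851, e3 q852 L7685 q852, e3 q853 L7693 q853, e3 q854 L7702 q854, e3 q855 L7711 q855, e3 q856 L7718 q856, e3 q857 L7728 q857, e3 q858 L7736 q858, e3 q859 L7746 q859, e3 q860 L7752 q860, e3 q861 L7760 q861, e3 q862 L7771 q862, e3 q863 L11161 q1217, e3 q864 L7789 q864, e3 q865 L7797 q865, e3 q866 L7807 q866, e3 q867 L7813 q867, e3 q868 L7823 q868, e3 q869 L7833 q869, e3 q870 L7845 q870, e3 q871 L7853 q871, e3 q872 L7864 q872, e3 q873 L7874 q873, e3 q874 L7887 q874, e3 q875 L7894 q875, e3 q876 L7901 q876, e3 q877 L7911 q877, e3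 q878 L11316 q1234, e3 q879 L7929 q879, e3 q880 L7934 q880, e3 q881 (flp_i L594477) q1152, e3 q882 (flp_i L7944) q619, e3 q883 L11373 q1239, e3 q884 (flp_i L7961) q620, e3 q885 (flp_i L11391) q1240, e3 q886 L11419 q1244, e3 q887 L11428 q1245, e3 q888 (flp_i L7995) q622, e3 q889 L8013 q624, e3 q890 (flp_i L11452) q1247, e3 q891 (flp_i L487898) q712, e3 q892 L11494 q1252, e3 q893 (flp_i L8039) q625, e3 q894 (flp_i L8047) q626, e3 q895 L8061 q895, trivial⟩ (by decide +kernel)

theorem ce_i_14 : ∀ r, r < 64 → sm gi (Qf (896 + r)) = Qf (tab Gen.i (896 + r)) :=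
  edges_tab (sm gi) Qf (tab Gen.i) 896 [(896, 629), (897, 1255), (898, 1256), (899, 706), (900, 630), (901, 901), (902, 633), (903, 1261), (904, 1262), (905, 905), (906, 638), (907, 639), (908, 700), (909, 1267), (910, 1268), (911, 911), (912, 644), (913, 645), (914, 685), (915, 1274), (916, 1275), (917, 1276), (918, 647), (919, 648), (920, 1283), (921, 1284), (922, 1285), (923, 651), (924, 652), (925, 653), (926, 1291), (927, 1292), (928, 1293), (929, 1294), (930, 1295), (931, 657), (932, 658), (933, 659), (934, 660), (935, 661), (936, 1303), (937, 1304), (938, 1305), (939, 1306), (940, 1277), (941, 1308), (942, 1309), (943, 667), (944, 668), (945, 669), (946, 670), (947, 947), (948, 671), (949, 672), (950, 1318), (951, 1319), (952, 1320), (953, 1321), (954, 1323), (955, 1324), (956, 1325), (957, 1327), (958, 958), (959, 959)]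
    ⟨e3 q896 L8068 q629, e3 q897 (flp_i L11532) q1255, e3 q898 (flp_i L11539) q1256, e3 q899 L564486 q706, e3 q900 (flp_i L8093) q630, e3 q901 L8109 q901, e3 q902 L8116 q633, e3 q903 (flp_i L11597) q1261, e3 q904 (flp_i L11606) q1262, e3 q905 L8157 q905, e3 q906 L8164 q638, e3 q907 L8172 q639, e3 q908 (flp_i L598156) q700, e3 q909 (flp_i L11680) q1267, e3 q910 (flp_i L11687) q1268, e3 q911 L8225 q911, e3 q912 L8240 q644, e3 q913 L8248 q645, e3 q914 L598215 q685, e3 q915 (flp_i L11791) q1274, e3 q916 (flp_i L11801) q1275, e3 q917 (flp_i L11810) q1276, e3 q918 L8292 q647, e3 q919 L8302 q648, e3 q920 (flp_i L11869) q1283, e3 q921 (flp_i L11880) q1284, e3 q922 (flp_i L11888) q1285, e3 q923 L8338 q651, e3 q924 L8348 q652, e3 q925 L8354 q653, e3 q926 (flp_i L11941) q1291, e3 q927 (flp_i L11951) q1292, e3 q928 (flp_i L11957) q1293, e3 q929 (flp_i L11965) q1294, e3 q930 (flp_i L11973) q1295, e3 q931 L8403 q657, e3 q932 L8412 q658, e3 q933 L8417 q659, e3 q934 L8426 q660, e3 q935 L8436 q661, e3 q936 (flp_i L12036) q1303, e3 q937 (flp_i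 L12043) q1304, e3 q938 (flp_i L12053) q1305, e3 q939 (flp_i L12062) q1306, e3 q940 L447811 q1277, e3 q941 (flp_i L12076) q1308, e3 q942 (flp_i L12084) q1309, e3 q943 L8497 q667, e3 q944 L8505 q668, e3 q945 L8515 q669, e3 q946 L8523 q670, e3 q947 L8532 q947, e3 q948 L8538 q671, e3 q949 L8547 q672, e3 q950 (flp_i L12170) q1318, e3 q951 (flp_i L12180) q1319, e3 q952 (flp_i L12187) q1320, e3 q953 (flp_i L12198) q1321, e3 q954 (flp_i L12215) q1323, e3 q955 (flp_i L12222) q1324, e3 q956 (flp_i L12230) q1325, e3 q957 (flp_i L12247) q1327, e3 q958 L8620 q958, e3 q959 L8629 q959, trivial⟩ (by decide +kernel)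

theorem ce_i_15 : ∀ r, r < 64 → sm gi (Qf (960 + r)) = Qf (tab Gen.i (960 + r)) :=
  edges_tab (sm gi) Qf (tab Gen.i) 960 [(960, 960), (961, 961), (962, 962), (963, 963), (964, 964), (965, 965), (966, 966), (967, 1269), (968, 968), (969, 969), (970, 970), (971, 971), (972, 972), (973, 973), (974, 974), (975, 1278), (976, 976), (977, 977), (978, 978), (979, 979), (980, 980), (981, 981), (982, 982), (983, 1263), (984, 984), (985, 985), (986, 986), (987, 987), (988, 988), (989, 1257), (990, 990), (991, 991), (992, 992), (993, 993), (994, 994), (995, 995), (996, 1242), (997, 997), (998, 998), (999, 1250), (1000, 1379), (1001, 1381), (1002, 713), (1003, 714), (1004, 1004), (1005, 1005), (1006, 1388), (1007, 1389), (1008, 717), (1009, 718), (1010, 1391), (1011, 720), (1012, 1393), (1013, 723), (1014, 1395), (1015, 725), (1016, 1398), (1017, 1399), (1018, 726), (1019, 728), (1020, 1404), (1021, 1021), (1022, 731), (1023, 1408)]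
    ⟨e3 q960 L8635 q960, e3 q961 L8645 q961, e3 q962 L8652 q962, e3 q963 L8661 q963, e3 q964 L8668 q964, e3 q965 L8676 q965, e3 q966 L8683 q966, e3 q967 (flp_i L447873) q1269, e3 q968 L8696 q968, e3 q969 L8706 q969, e3 q970 L8712 q970, e3 q971 L8721 q971, e3 q972 L8739 q972, e3 q973 L8755 q973, e3 q974 L8762 q974, e3 q975 (flp_i L598250) q1278, e3 q976 L8783 q976, e3 q977 L8791 q977, e3 q978 L8800 q978, e3 q979 L8812 q979, e3 q980 L8820 q980, e3 q981 L8830 q981, e3 q982 L8839 q982, e3 q983 (flp_i L598089) q1263, e3 q984 L8853 q984, e3 q985 L8862 q985, e3 q986 L8870 q986, e3 q987 L8887 q987, e3 q988 L8900 q988, e3 q989 L597599 q1257, e3 q990 L8955 q990, e3 q991 L8965 q991, e3 q992 L8983 q992, e3 q993 L8999 q993, e3 q994 L9008 q994, e3 q995 L9017 q995, e3 q996 L564501 q1242, e3 q997 L9054 q997, e3 q998 L9085 q998, e3 q999 (flp_i L564468) q1250, e3 q1000 L13081 q1379, e3 q1001 L13101 q1381, e3 q1002 (flp_i L9183) q713, e3 q1003 (flp_i L9193) q714, e3 q1004 L9212 q1004, e3 q1005 L9219 q1005, e3 q1006 L13170 q1388, e3 q1007 L13181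 q1389, e3 q1008 (flp_i L9243) q717, e3 q1009 (flp_i L9254) q718, e3 q1010 (flp_i L13214) q1391, e3 q1011 (flp_i L9275) q720, e3 q1012 (flp_i L13234) q1393, e3 q1013 L9308 q723, e3 q1014 (flp_i L13249) q1395, e3 q1015 L9322 q725, e3 q1016 (flp_i L13273) q1398, e3 q1017 (flp_i L13283) q1399, e3 q1018 (flp_i L9339) q726, e3 q1019 L9361 q728, e3 q1020 (flp_i L13327) q1404, e3 q1021 L9381 q1021, e3 q1022 L9389 q731, e3 q1023 (flp_i L13363) q1408, trivial⟩ (by decide +kernel)

theorem ce_i_16 : ∀ r, r < 64 → sm gi (Qf (1024 + r)) = Qf (tab Gen.i (1024 + r)) :=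
  edges_tab (sm gi) Qf (tab Gen.i) 1024 [(1024, 1409), (1025, 1025), (1026, 734), (1027, 735), (1028, 1415), (1029, 1416), (1030, 1417), (1031, 1031), (1032, 1032), (1033, 1033), (1034, 740), (1035, 741), (1036, 742), (1037, 1428), (1038, 1429), (1039, 1430), (1040, 1431), (1041, 1432), (1042, 1441), (1043, 743), (1044, 1444), (1045, 744), (1046, 1445), (1047, 1447), (1048, 746), (1049, 748), (1050, 1449), (1051, 749), (1052, 751), (1053, 1453), (1054, 1054), (1055, 754), (1056, 1457), (1057, 1458), (1058, 1058), (1059, 757), (1060, 758), (1061, 1464), (1062, 1465), (1063, 1466), (1064, 760), (1065, 1472), (1066, 1473), (1067, 762), (1068, 763), (1069, 1477), (1070, 1478), (1071, 1479), (1072, 766), (1073, 767), (1074, 768), (1075, 1485), (1076, 1486), (1077, 1487), (1078, 1488), (1079, 1489), (1080, 772), (1081, 773), (1082, 774), (1083, 775), (1084, 776), (1085, 1497), (1086, 1498), (1087, 1499)]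
    ⟨e3 q1024 (flp_i L13373) q1409, e3 q1025 L9414 q1025, e3 q1026 L9423 q734, e3 q1027 L9432 q735, e3 q1028 (flp_i L13424) q1415, e3 q1029 (flp_i L13433) q1416, e3 q1030 (flp_i L13440) q1417, e3 q1031 L9465 q1031, e3 q1032 L9474 q1032, e3 q1033 L9484 q1033, e3 q1034 L9491 q740, e3 q1035 L9501 q741, e3 q1036 L9509 q742, e3 q1037 (flp_i L13536) q1428, e3 q1038 (flp_i L13546) q1429, e3 q1039 (flp_i L13553) q1430, e3 q1040 (flp_i L13564) q1431, e3 q1041 (flp_i L13571) q1432, e3 q1042 L13640 q1441, e3 q1043 (flp_i L9560) q743, e3 q1044 L13671 q1444, e3 q1045 (flp_i L9582) q744, e3 q1046 (flp_i L13693) q1445, e3 q1047 L13705 q1447, e3 q1048 (flp_i L9612) q746, e3 q1049 L9632 q748, e3 q1050 (flp_i L13734) q1449, e3 q1051 (flp_i L9643) q749, e3 q1052 L9665 q751, e3 q1053 (flp_i L13770) q1453, e3 q1054 L9685 q1054, e3 q1055 L9693 q754, e3 q1056 (flp_i L13805) q1457, e3 q1057 (flp_i L13814) q1458, e3 q1058 L9718 q1058, e3 q1059 L9726 q757, e3 q1060 L9734 q758, e3 q1061 (flp_i L13864) q1464, e3 q1062 (flp_i L13874) q1465, e3 q1063 (flp_i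 L13884) q1466, e3 q1064 L9771 q760, e3 q1065 (flp_i L13934) q1472, e3 q1066 (flp_i L13945) q1473, e3 q1067 L9800 q762, e3 q1068 L9810 q763, e3 q1069 (flp_i L13983) q1477, e3 q1070 (flp_i L13995) q1478, e3 q1071 (flp_i L14003) q1479, e3 q1072 L9844 q766, e3 q1073 L9855 q767, e3 q1074 L9864 q768, e3 q1075 (flp_i L14057) q1485, e3 q1076 (flp_i L14068) q1486, e3 q1077 (flp_i L14074) q1487, e3 q1078 (flp_i L14083) q1488, e3 q1079 (flp_i L14095) q1489, e3 q1080 L9917 q772, e3 q1081 L9929 q773, e3 q1082 L9936 q774, e3 q1083 L9946 q775, e3 q1084 L9955 q776, e3 q1085 (flp_i L14164) q1497, e3 q1086 (flp_i L14172) q1498, e3 q1087 (flp_i L14182) q1499, trivial⟩ (by decide +kernel)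

theorem ce_i_17 : ∀ r, r < 64 → sm gi (Qf (1088 + r)) = Qf (tab Gen.i (1088 + r)) :=
  edges_tab (sm gi) Qf (tab Gen.i) 1088 [(1088, 1500), (1089, 1513), (1090, 1502), (1091, 1503), (1092, 1092), (1093, 1093), (1094, 1094), (1095, 1095), (1096, 1096), (1097, 1097), (1098, 1098), (1099, 1099), (1100, 1100), (1101, 1101), (1102, 1102), (1103, 1103), (1104, 1536), (1105, 1105), (1106, 1106), (1107, 1107), (1108, 1108), (1109, 1109), (1110, 1544), (1111, 1111), (1112, 1112), (1113, 1113), (1114, 1550), (1115, 791), (1116, 1116), (1117, 1117), (1118, 1555), (1119, 1119), (1120, 1557), (1121, 796), (1122, 1560), (1123, 799), (1124, 1561), (1125, 1564), (1126, 1565), (1127, 801), (1128, 803), (1129, 1567), (1130, 1571), (1131, 804), (1132, 805), (1133, 1133), (1134, 808), (1135, 1574), (1136, 1575), (1137, 809), (1138, 1138), (1139, 812), (1140, 1580), (1141, 1581), (1142, 1142), (1143, 816), (1144, 817), (1145, 1586), (1146, 1587), (1147, 1588), (1148, 1148), (1149, 821), (1150, 822), (1151, 823)]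
    ⟨e3 q1088 (flp_i L14191) q1500, e3 q1089 L14289 q1513, e3 q1090 (flp_i L14206) q1502, e3 q1091 (flp_i L14217) q1503, e3 q1092 L10024 q1092, e3 q1093 L10035 q1093, e3 q1094 L10044 q1094, e3 q1095 L10054 q1095, e3 q1096 L10064 q1096, e3 q1097 L10070 q1097, e3 q1098 L10078 q1098, e3 q1099 L10087 q1099, e3 q1100 L10098 q1100, e3 q1101 L10104 q1101, e3 q1102 L10113 q1102, e3 q1103 L10123 q1103, e3 q1104 L14486 q1536, e3 q1105 L10137 q1105, e3 q1106 L10146 q1106, e3 q1107 L10155 q1107, e3 q1108 L10166 q1108, e3 q1109 L10175 q1109, e3 q1110 L14555 q1544, e3 q1111 L10190 q1111, e3 q1112 L10198 q1112, e3 q1113 L10207 q1113, e3 q1114 L14608 q1550, e3 q1115 (flp_i L10217) q791, e3 q1116 L10232 q1116, e3 q1117 L10241 q1117, e3 q1118 L14650 q1555, e3 q1119 L10257 q1119, e3 q1120 L14668 q1557, e3 q1121 (flp_i L10267) q796, e3 q1122 L14697 q1560, e3 q1123 (flp_i L10285) q799, e3 q1124 (flp_i L14717) q1561, e3 q1125 L14739 q1564, e3 q1126 L14751 q1565, e3 q1127 (flp_i L10325) q801, e3 q1128 L10345 q803, e3 q1129 (flp_i L14778) q1567,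 e3 q1130 L14807 q1571, e3 q1131 (flp_i L10366) q804, e3 q1132 (flp_i L10377) q805, e3 q1133 L10393 q1133, e3 q1134 L10401 q808, e3 q1135 (flp_i L14855) q1574, e3 q1136 (flp_i L14863) q1575, e3 q1137 (flp_i L10419) q809, e3 q1138 L10439 q1138, e3 q1139 L10447 q812, e3 q1140 (flp_i L14918) q1580, e3 q1141 (flp_i L14928) q1581, e3 q1142 L10485 q1142, e3 q1143 L10494 q816, e3 q1144 L10503 q817, e3 q1145 (flp_i L14991) q1586, e3 q1146 (flp_i L15001) q1587, e3 q1147 (flp_i L15009) q1588, e3 q1148 L10554 q1148, e3 q1149 L10561 q821, e3 q1150 L10570 q822, e3 q1151 L10579 q823, trivial⟩ (by decide +kernel)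

theorem ce_i_18 : ∀ r, r < 64 → sm gi (Qf (1152 + r)) = Qf (tab Gen.i (1152 + r)) :=
  edges_tab (sm gi) Qf (tab Gen.i) 1152 [(1152, 881), (1153, 1595), (1154, 1596), (1155, 1597), (1156, 1598), (1157, 825), (1158, 826), (1159, 1606), (1160, 1607), (1161, 1608), (1162, 829), (1163, 830), (1164, 831), (1165, 1614), (1166, 1615), (1167, 1616), (1168, 1617), (1169, 1618), (1170, 835), (1171, 836), (1172, 837), (1173, 838), (1174, 839), (1175, 1626), (1176, 1627), (1177, 1628), (1178, 1629), (1179, 1642), (1180, 1631), (1181, 1632), (1182, 845), (1183, 846), (1184, 847), (1185, 848), (1186, 1186), (1187, 849), (1188, 850), (1189, 1644), (1190, 1645), (1191, 1646), (1192, 1647), (1193, 1649), (1194, 1650), (1195, 1651), (1196, 1653), (1197, 1197), (1198, 1198), (1199, 1199), (1200, 1200), (1201, 1201), (1202, 1202), (1203, 1203), (1204, 1204), (1205, 1205), (1206, 1679), (1207, 1207), (1208, 1208), (1209, 1209), (1210, 1210), (1211, 1211), (1212, 1212), (1213, 1599), (1214, 1214), (1215, 1215)]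
    ⟨e3 q1152 L594477 q881, e3 q1153 (flp_i L15111) q1595, e3 q1154 (flp_i L15118) q1596, e3 q1155 (flp_i L15130) q1597, e3 q1156 (flp_i L15140) q1598, e3 q1157 L10630 q825, e3 q1158 L10641 q826, e3 q1159 (flp_i L15206) q1606, e3 q1160 (flp_i L15218) q1607, e3 q1161 (flp_i L15227) q1608, e3 q1162 L10679 q829, e3 q1163 L10690 q830, e3 q1164 L10697 q831, e3 q1165 (flp_i L15284) q1614, e3 q1166 (flp_i L15295) q1615, e3 q1167 (flp_i L15303) q1616, e3 q1168 (flp_i L15313) q1617, e3 q1169 (flp_i L15322) q1618, e3 q1170 L10750 q835, e3 q1171 L10760 q836, e3 q1172 L10767 q837, e3 q1173 L10778 q838, e3 q1174 L10789 q839, e3 q1175 (flp_i L15393) q1626, e3 q1176 (flp_i L15400) q1627, e3 q1177 (flp_i L15409) q1628, e3 q1178 (flp_i L15420) q1629, e3 q1179 L15519 q1642, e3 q1180 (flp_i L15438) q1631, e3 q1181 (flp_i L15447) q1632, e3 q1182 L10858 q845, e3 q1183 L10866 q846, e3 q1184 L10875 q847, e3 q1185 L10885 q848, e3 q1186 L10896 q1186, e3 q1187 L10904 q849, e3 q1188 L10914 q850, e3 q1189 (flp_i L15546) q1644, e3 q1190 (flp_i L15557)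 q1645, e3 q1191 (flp_i L15564) q1646, e3 q1192 (flp_i L15574) q1647, e3 q1193 (flp_i L15590) q1649, e3 q1194 (flp_i L15599) q1650, e3 q1195 (flp_i L15609) q1651, e3 q1196 (flp_i L15630) q1653, e3 q1197 L10993 q1197, e3 q1198 L11003 q1198, e3 q1199 L11011 q1199, e3 q1200 L11023 q1200, e3 q1201 L11031 q1201, e3 q1202 L11041 q1202, e3 q1203 L11048 q1203, e3 q1204 L11055 q1204, e3 q1205 L11064 q1205, e3 q1206 L15851 q1679, e3 q1207 L11081 q1207, e3 q1208 L11092 q1208, e3 q1209 L11100 q1209, e3 q1210 L11110 q1210, e3 q1211 L11118 q1211, e3 q1212 L11127 q1212, e3 q1213 L594151 q1599, e3 q1214 L11142 q1214, e3 q1215 L11151 q1215, trivial⟩ (by decide +kernel)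

theorem ce_i_19 : ∀ r, r < 64 → sm gi (Qf (1216 + r)) = Qf (tab Gen.i (1216 + r)) :=
  edges_tab (sm gi) Qf (tab Gen.i) 1216 [(1216, 1691), (1217, 863), (1218, 1218), (1219, 1219), (1220, 1220), (1221, 1221), (1222, 1222), (1223, 1223), (1224, 1224), (1225, 1702), (1226, 1226), (1227, 1227), (1228, 1228), (1229, 1229), (1230, 1230), (1231, 1589), (1232, 1232), (1233, 1710), (1234, 878), (1235, 1235), (1236, 1467), (1237, 1714), (1238, 1716), (1239, 883), (1240, 885), (1241, 1718), (1242, 996), (1243, 1723), (1244, 886), (1245, 887), (1246, 1246), (1247, 890), (1248, 1726), (1249, 1727), (1250, 999), (1251, 1733), (1252, 892), (1253, 1253), (1254, 1254), (1255, 897), (1256, 898), (1257, 989), (1258, 1736), (1259, 1737), (1260, 1260), (1261, 903), (1262, 904), (1263, 983), (1264, 1743), (1265, 1744), (1266, 1266), (1267, 909), (1268, 910), (1269, 967), (1270, 1750), (1271, 1751), (1272, 1752), (1273, 1273), (1274, 915), (1275, 916), (1276, 917), (1277, 940), (1278, 975), (1279, 1760)]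
    ⟨e3 q1216 L15974 q1691, e3 q1217 (flp_i L11161) q863, e3 q1218 L11178 q1218, e3 q1219 L11187 q1219, e3 q1220 L11195 q1220, e3 q1221 L11208 q1221, e3 q1222 L11216 q1222, e3 q1223 L11225 q1223, e3 q1224 L11236 q1224, e3 q1225 L16080 q1702, e3 q1226 L11254 q1226, e3 q1227 L11265 q1227, e3 q1228 L11274 q1228, e3 q1229 L11281 q1229, e3 q1230 L11290 q1230, e3 q1231 (flp_i L594495) q1589, e3 q1232 L11305 q1232, e3 q1233 L16163 q1710, e3 q1234 (flp_i L11316) q878, e3 q1235 L11331 q1235, e3 q1236 L453661 q1467, e3 q1237 L16233 q1714, e3 q1238 L16250 q1716, e3 q1239 (flp_i L11373) q883, e3 q1240 L11391 q885, e3 q1241 (flp_i L16274) q1718, e3 q1242 (flp_i L564501) q996, e3 q1243 L16320 q1723, e3 q1244 (flp_i L11419) q886, e3 q1245 (flp_i L11428) q887, e3 q1246 L11444 q1246, e3 q1247 L11452 q890, e3 q1248 (flp_i L16363) q1726, e3 q1249 (flp_i L16371) q1727, e3 q1250 L564468 q999, e3 q1251 L16434 q1733, e3 q1252 (flp_i L11494) q892, e3 q1253 L11517 q1253, e3 q1254 L11524 q1254, e3 q1255 L11532 q897, e3 q1256 L11539 q898, e3 q1257 (flp_i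 L597599) q989, e3 q1258 (flp_i L16494) q1736, e3 q1259 (flp_i L16500) q1737, e3 q1260 L11589 q1260, e3 q1261 L11597 q903, e3 q1262 L11606 q904, e3 q1263 L598089 q983, e3 q1264 (flp_i L16591) q1743, e3 q1265 (flp_i L16600) q1744, e3 q1266 L11664 q1266, e3 q1267 L11680 q909, e3 q1268 L11687 q910, e3 q1269 L447873 q967, e3 q1270 (flp_i L16710) q1750, e3 q1271 (flp_i L16719) q1751, e3 q1272 (flp_i L16726) q1752, e3 q1273 L11770 q1273, e3 q1274 L11791 q915, e3 q1275 L11801 q916, e3 q1276 L11810 q917, e3 q1277 (flp_i L447811) q940, e3 q1278 L598250 q975, e3 q1279 (flp_i L16890) q1760, trivial⟩ (by decide +kernel)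

theorem ce_i_20 : ∀ r, r < 64 → sm gi (Qf (1280 + r)) = Qf (tab Gen.i (1280 + r)) :=
  edges_tab (sm gi) Qf (tab Gen.i) 1280 [(1280, 1763), (1281, 1761), (1282, 1762), (1283, 920), (1284, 921), (1285, 922), (1286, 1771), (1287, 1772), (1288, 1773), (1289, 1774), (1290, 1775), (1291, 926), (1292, 927), (1293, 928), (1294, 929), (1295, 930), (1296, 1783), (1297, 1784), (1298, 1785), (1299, 1786), (1300, 1753), (1301, 1788), (1302, 1789), (1303, 936), (1304, 937), (1305, 938), (1306, 939), (1307, 1765), (1308, 941), (1309, 942), (1310, 1798), (1311, 1799), (1312, 1800), (1313, 1801), (1314, 1802), (1315, 1803), (1316, 1764), (1317, 1805), (1318, 950), (1319, 951), (1320, 952), (1321, 953), (1322, 1322), (1323, 954), (1324, 955), (1325, 956), (1326, 1326), (1327, 957), (1328, 1815), (1329, 1816), (1330, 1818), (1331, 1819), (1332, 1821), (1333, 1822), (1334, 1824), (1335, 1825), (1336, 1827), (1337, 1337), (1338, 1338), (1339, 1339), (1340, 1340), (1341, 1745), (1342, 1342), (1343, 1343)]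
    ⟨e3 q1280 (flp_i L598224) q1763, e3 q1281 (flp_i L16903) q1761, e3 q1282 (flp_i L16911) q1762, e3 q1283 L11869 q920, e3 q1284 L11880 q921, e3 q1285 L11888 q922, e3 q1286 (flp_i L17000) q1771, e3 q1287 (flp_i L17011) q1772, e3 q1288 (flp_i L17018) q1773, e3 q1289 (flp_i L17028) q1774, e3 q1290 (flp_i L17036) q1775, e3 q1291 L11941 q926, e3 q1292 L11951 q927, e3 q1293 L11957 q928, e3 q1294 L11965 q929, e3 q1295 L11973 q930, e3 q1296 (flp_i L17106) q1783, e3 q1297 (flp_i L17114) q1784, e3 q1298 (flp_i L17123) q1785, e3 q1299 (flp_i L17130) q1786, e3 q1300 (flp_i L598207) q1753, e3 q1301 (flp_i L17144) q1788, e3 q1302 (flp_i L17155) q1789, e3 q1303 L12036 q936, e3 q1304 L12043 q937, e3 q1305 L12053 q938, e3 q1306 L12062 q939, e3 q1307 L598305 q1765, e3 q1308 L12076 q941, e3 q1309 L12084 q942, e3 q1310 (flp_i L17240) q1798, e3 q1311 (flp_i L17250) q1799, e3 q1312 (flp_i L17268) q1800, e3 q1313 (flp_i L17285) q1801, e3 q1314 (flp_i L17290) q1802, e3 q1315 (flp_i L17299) q1803, e3 q1316 L598350 q1764, e3 q1317 (flp_i L17321)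 q1805, e3 q1318 L12170 q950, e3 q1319 L12180 q951, e3 q1320 L12187 q952, e3 q1321 L12198 q953, e3 q1322 L12208 q1322, e3 q1323 L12215 q954, e3 q1324 L12222 q955, e3 q1325 L12230 q956, e3 q1326 L12240 q1326, e3 q1327 L12247 q957, e3 q1328 (flp_i L17446) q1815, e3 q1329 (flp_i L17456) q1816, e3 q1330 (flp_i L17473) q1818, e3 q1331 (flp_i L17483) q1819, e3 q1332 (flp_i L17499) q1821, e3 q1333 (flp_i L17508) q1822, e3 q1334 (flp_i L17527) q1824, e3 q1335 (flp_i L17535) q1825, e3 q1336 (flp_i L17551) q1827, e3 q1337 L12329 q1337, e3 q1338 L12337 q1338, e3 q1339 L12347 q1339, e3 q1340 L12356 q1340, e3 q1341 L598142 q1745, e3 q1342 L12370 q1342, e3 q1343 L12378 q1343, trivial⟩ (by decide +kernel)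

theorem ce_i_21 : ∀ r, r < 64 → sm gi (Qf (1344 + r)) = Qf (tab Gen.i (1344 + r)) :=
  edges_tab (sm gi) Qf (tab Gen.i) 1344 [(1344, 1344), (1345, 1345), (1346, 1346), (1347, 1347), (1348, 1348), (1349, 1349), (1350, 1754), (1351, 1351), (1352, 1352), (1353, 1353), (1354, 1354), (1355, 1355), (1356, 1356), (1357, 1766), (1358, 1358), (1359, 1359), (1360, 1360), (1361, 1361), (1362, 1362), (1363, 1363), (1364, 1364), (1365, 1728), (1366, 1366), (1367, 1367), (1368, 1738), (1369, 1369), (1370, 1370), (1371, 1371), (1372, 1372), (1373, 1373), (1374, 1721), (1375, 1712), (1376, 1376), (1377, 1731), (1378, 1878), (1379, 1000), (1380, 1880), (1381, 1001), (1382, 1382), (1383, 1383), (1384, 1384), (1385, 1385), (1386, 1386), (1387, 1889), (1388, 1006), (1389, 1007), (1390, 1891), (1391, 1010), (1392, 1893), (1393, 1012), (1394, 1896), (1395, 1014), (1396, 1899), (1397, 1900), (1398, 1016), (1399, 1017), (1400, 1904), (1401, 1905), (1402, 1906), (1403, 1403), (1404, 1020), (1405, 1913), (1406, 1914), (1407, 1407)]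
    ⟨e3 q1344 L12387 q1344, e3 q1345 L12395 q1345, e3 q1346 L12412 q1346, e3 q1347 L12427 q1347, e3 q1348 L12433 q1348, e3 q1349 L12442 q1349, e3 q1350 L598150 q1754, e3 q1351 L12465 q1351, e3 q1352 L12482 q1352, e3 q1353 L12498 q1353, e3 q1354 L12523 q1354, e3 q1355 L12547 q1355, e3 q1356 L12555 q1356, e3 q1357 (flp_i L559290) q1766, e3 q1358 L12578 q1358, e3 q1359 L12587 q1359, e3 q1360 L12597 q1360, e3 q1361 L12616 q1361, e3 q1362 L12633 q1362, e3 q1363 L12641 q1363, e3 q1364 L12648 q1364, e3 q1365 (flp_i L448352) q1728, e3 q1366 L12682 q1366, e3 q1367 L12712 q1367, e3 q1368 L448402 q1738, e3 q1369 L12802 q1369, e3 q1370 L12820 q1370, e3 q1371 L12846 q1371, e3 q1372 L12855 q1372, e3 q1373 L12884 q1373, e3 q1374 (flp_i L564493) q1721, e3 q1375 (flp_i L564477) q1712, e3 q1376 L12945 q1376, e3 q1377 (flp_i L495394) q1731, e3 q1378 L18683 q1878, e3 q1379 (flp_i L13081) q1000, e3 q1380 L18704 q1880, e3 q1381 (flp_i L13101) q1001, e3 q1382 L13120 q1382, e3 q1383 L13130 q1383, e3 q1384 L13137 q1384, e3 q1385 L13147 q1385, e3 q1386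 L13156 q1386, e3 q1387 L18792 q1889, e3 q1388 (flp_i L13170) q1006, e3 q1389 (flp_i L13181) q1007, e3 q1390 (flp_i L18826) q1891, e3 q1391 L13214 q1010, e3 q1392 (flp_i L18843) q1893, e3 q1393 L13234 q1012, e3 q1394 (flp_i L18867) q1896, e3 q1395 L13249 q1014, e3 q1396 (flp_i L18893) q1899, e3 q1397 (flp_i L18904) q1900, e3 q1398 L13273 q1016, e3 q1399 L13283 q1017, e3 q1400 (flp_i L18935) q1904, e3 q1401 (flp_i L18945) q1905, e3 q1402 (flp_i L18955) q1906, e3 q1403 L13318 q1403, e3 q1404 L13327 q1020, e3 q1405 (flp_i L19012) q1913, e3 q1406 (flp_i L19023) q1914, e3 q1407 L13354 q1407, trivial⟩ (by decide +kernel)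

theorem ce_i_22 : ∀ r, r < 64 → sm gi (Qf (1408 + r)) = Qf (tab Gen.i (1408 + r)) :=
  edges_tab (sm gi) Qf (tab Gen.i) 1408 [(1408, 1023), (1409, 1024), (1410, 1920), (1411, 1921), (1412, 1922), (1413, 1413), (1414, 1414), (1415, 1028), (1416, 1029), (1417, 1030), (1418, 1931), (1419, 1932), (1420, 1933), (1421, 1934), (1422, 1935), (1423, 1423), (1424, 1424), (1425, 1425), (1426, 1426), (1427, 1427), (1428, 1037), (1429, 1038), (1430, 1039), (1431, 1040), (1432, 1041), (1433, 1951), (1434, 1952), (1435, 1953), (1436, 1954), (1437, 1967), (1438, 1956), (1439, 1957), (1440, 1970), (1441, 1042), (1442, 1971), (1443, 1973), (1444, 1044), (1445, 1046), (1446, 1975), (1447, 1047), (1448, 1448), (1449, 1050), (1450, 1980), (1451, 1981), (1452, 1452), (1453, 1053), (1454, 1986), (1455, 1987), (1456, 1456), (1457, 1056), (1458, 1057), (1459, 1993), (1460, 1994), (1461, 1995), (1462, 1462), (1463, 1463), (1464, 1061), (1465, 1062), (1466, 1063), (1467, 1236), (1468, 2003), (1469, 2004), (1470, 2005), (1471, 2006)]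
    ⟨e3 q1408 L13363 q1023, e3 q1409 L13373 q1024, e3 q1410 (flp_i L19079) q1920, e3 q1411 (flp_i L19089) q1921, e3 q1412 (flp_i L19095) q1922, e3 q1413 L13406 q1413, e3 q1414 L13415 q1414, e3 q1415 L13424 q1028, e3 q1416 L13433 q1029, e3 q1417 L13440 q1030, e3 q1418 (flp_i L19176) q1931, e3 q1419 (flp_i L19185) q1932, e3 q1420 (flp_i L19191) q1933, e3 q1421 (flp_i L19201) q1934, e3 q1422 (flp_i L19211) q1935, e3 q1423 L13490 q1423, e3 q1424 L13499 q1424, e3 q1425 L13509 q1425, e3 q1426 L13520 q1426, e3 q1427 L13528 q1427, e3 q1428 L13536 q1037, e3 q1429 L13546 q1038, e3 q1430 L13553 q1039, e3 q1431 L13564 q1040, e3 q1432 L13571 q1041, e3 q1433 (flp_i L19346) q1951, e3 q1434 (flp_i L19354) q1952, e3 q1435 (flp_i L19364) q1953, e3 q1436 (flp_i L19373) q1954, e3 q1437 L19470 q1967, e3 q1438 (flp_i L19388) q1956, e3 q1439 (flp_i L19397) q1957, e3 q1440 L19498 q1970, e3 q1441 (flp_i L13640) q1042, e3 q1442 (flp_i L19520) q1971, e3 q1443 L19532 q1973, e3 q1444 (flp_i L13671) q1044, e3 q1445 L13693 q1046, e3 q1446 (flp_i L19564)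 q1975, e3 q1447 (flp_i L13705) q1047, e3 q1448 L13725 q1448, e3 q1449 L13734 q1050, e3 q1450 (flp_i L19611) q1980, e3 q1451 (flp_i L19619) q1981, e3 q1452 L13761 q1452, e3 q1453 L13770 q1053, e3 q1454 (flp_i L19663) q1986, e3 q1455 (flp_i L19673) q1987, e3 q1456 L13797 q1456, e3 q1457 L13805 q1056, e3 q1458 L13814 q1057, e3 q1459 (flp_i L19728) q1993, e3 q1460 (flp_i L19739) q1994, e3 q1461 (flp_i L19748) q1995, e3 q1462 L13848 q1462, e3 q1463 L13858 q1463, e3 q1464 L13864 q1061, e3 q1465 L13874 q1062, e3 q1466 L13884 q1063, e3 q1467 (flp_i L453661) q1236, e3 q1468 (flp_i L19836) q2003, e3 q1469 (flp_i L19842) q2004, e3 q1470 (flp_i L19852) q2005, e3 q1471 (flp_i L19863) q2006, trivial⟩ (by decide +kernel)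

theorem ce_i_23 : ∀ r, r < 64 → sm gi (Qf (1472 + r)) = Qf (tab Gen.i (1472 + r)) :=
  edges_tab (sm gi) Qf (tab Gen.i) 1472 [(1472, 1065), (1473, 1066), (1474, 2014), (1475, 2015), (1476, 2016), (1477, 1069), (1478, 1070), (1479, 1071), (1480, 2022), (1481, 2023), (1482, 2024), (1483, 2025), (1484, 2026), (1485, 1075), (1486, 1076), (1487, 1077), (1488, 1078), (1489, 1079), (1490, 2034), (1491, 2035), (1492, 2036), (1493, 2037), (1494, 2050), (1495, 2039), (1496, 2040), (1497, 1085), (1498, 1086), (1499, 1087), (1500, 1088), (1501, 2061), (1502, 1090), (1503, 1091), (1504, 2052), (1505, 2053), (1506, 2054), (1507, 2055), (1508, 2072), (1509, 2057), (1510, 2058), (1511, 2059), (1512, 2078), (1513, 1089), (1514, 2062), (1515, 1515), (1516, 1516), (1517, 1517), (1518, 1518), (1519, 1519), (1520, 1520), (1521, 1521), (1522, 1522), (1523, 1523), (1524, 2095), (1525, 1525), (1526, 1526), (1527, 1527), (1528, 1528), (1529, 1529), (1530, 1530), (1531, 2106), (1532, 1532), (1533, 1533), (1534, 1534), (1535, 2112)]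
    ⟨e3 q1472 L13934 q1065, e3 q1473 L13945 q1066, e3 q1474 (flp_i L19927) q2014, e3 q1475 (flp_i L19940) q2015, e3 q1476 (flp_i L19950) q2016, e3 q1477 L13983 q1069, e3 q1478 L13995 q1070, e3 q1479 L14003 q1071, e3 q1480 (flp_i L20008) q2022, e3 q1481 (flp_i L20020) q2023, e3 q1482 (flp_i L20027) q2024, e3 q1483 (flp_i L20035) q2025, e3 q1484 (flp_i L20045) q2026, e3 q1485 L14057 q1075, e3 q1486 L14068 q1076, e3 q1487 L14074 q1077, e3 q1488 L14083 q1078, e3 q1489 L14095 q1079, e3 q1490 (flp_i L20116) q2034, e3 q1491 (flp_i L20123) q2035, e3 q1492 (flp_i L20133) q2036, e3 q1493 (flp_i L20143) q2037, e3 q1494 L20237 q2050, e3 q1495 (flp_i L20158) q2039, e3 q1496 (flp_i L20168) q2040, e3 q1497 L14164 q1085, e3 q1498 L14172 q1086, e3 q1499 L14182 q1087, e3 q1500 L14191 q1088, e3 q1501 L20332 q2061, e3 q1502 L14206 q1090, e3 q1503 L14217 q1091, e3 q1504 (flp_i L20260) q2052, e3 q1505 (flp_i L20271) q2053, e3 q1506 (flp_i L20277) q2054, e3 q1507 (flp_i L20289) q2055, e3 q1508 L20423 q2072, e3 q1509 (flp_i L20305) q2057, e3 q1510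 (flp_i L20313) q2058, e3 q1511 (flp_i L20321) q2059, e3 q1512 L20471 q2078, e3 q1513 (flp_i L14289) q1089, e3 q1514 (flp_i L20348) q2062, e3 q1515 L14315 q1515, e3 q1516 L14326 q1516, e3 q1517 L14333 q1517, e3 q1518 L14343 q1518, e3 q1519 L14352 q1519, e3 q1520 L14363 q1520, e3 q1521 L14370 q1521, e3 q1522 L14378 q1522, e3 q1523 L14386 q1523, e3 q1524 L20619 q2095, e3 q1525 L14400 q1525, e3 q1526 L14412 q1526, e3 q1527 L14419 q1527, e3 q1528 L14429 q1528, e3 q1529 L14436 q1529, e3 q1530 L14447 q1530, e3 q1531 L20710 q2106, e3 q1532 L14462 q1532, e3 q1533 L14468 q1533, e3 q1534 L14478 q1534, e3 q1535 L20758 q2112, trivial⟩ (by decide +kernel)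

theorem ce_i_24 : ∀ r, r < 64 → sm gi (Qf (1536 + r)) = Qf (tab Gen.i (1536 + r)) :=
  edges_tab (sm gi) Qf (tab Gen.i) 1536 [(1536, 1104), (1537, 1537), (1538, 1538), (1539, 2116), (1540, 1540), (1541, 1541), (1542, 1542), (1543, 2122), (1544, 1110), (1545, 1545), (1546, 1546), (1547, 2127), (1548, 1548), (1549, 2129), (1550, 1114), (1551, 1551), (1552, 1552), (1553, 2134), (1554, 2136), (1555, 1118), (1556, 2137), (1557, 1120), (1558, 2139), (1559, 2141), (1560, 1122), (1561, 1124), (1562, 2143), (1563, 2147), (1564, 1125), (1565, 1126), (1566, 1566), (1567, 1129), (1568, 2150), (1569, 2151), (1570, 2156), (1571, 1130), (1572, 1572), (1573, 1573), (1574, 1135), (1575, 1136), (1576, 2159), (1577, 2160), (1578, 2161), (1579, 1579), (1580, 1140), (1581, 1141), (1582, 2168), (1583, 2169), (1584, 2170), (1585, 1585), (1586, 1145), (1587, 1146), (1588, 1147), (1589, 1231), (1590, 2177), (1591, 2178), (1592, 2179), (1593, 2180), (1594, 1594), (1595, 1153), (1596, 1154), (1597, 1155), (1598, 1156), (1599, 1213)]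
    ⟨e3 q1536 (flp_i L14486) q1104, e3 q1537 L14500 q1537, e3 q1538 L14511 q1538, e3 q1539 L20794 q2116, e3 q1540 L14528 q1540, e3 q1541 L14536 q1541, e3 q1542 L14545 q1542, e3 q1543 L20849 q2122, e3 q1544 (flp_i L14555) q1110, e3 q1545 L14571 q1545, e3 q1546 L14580 q1546, e3 q1547 L20889 q2127, e3 q1548 L14598 q1548, e3 q1549 L20908 q2129, e3 q1550 (flp_i L14608) q1114, e3 q1551 L14622 q1551, e3 q1552 L14632 q1552, e3 q1553 L20951 q2134, e3 q1554 L20967 q2136, e3 q1555 (flp_i L14650) q1118, e3 q1556 L20976 q2137, e3 q1557 (flp_i L14668) q1120, e3 q1558 L20997 q2139, e3 q1559 L21018 q2141, e3 q1560 (flp_i L14697) q1122, e3 q1561 L14717 q1124, e3 q1562 (flp_i L21045) q2143, e3 q1563 L21076 q2147, e3 q1564 (flp_i L14739) q1125, e3 q1565 (flp_i L14751) q1126, e3 q1566 L14769 q1566, e3 q1567 L14778 q1129, e3 q1568 (flp_i L21129) q2150, e3 q1569 (flp_i L21138) q2151, e3 q1570 L21178 q2156, e3 q1571 (flp_i L14807) q1130, e3 q1572 L14837 q1572, e3 q1573 L14845 q1573, e3 q1574 L14855 q1135, e3 q1575 L14863 q1136, e3 q1576 (flp_i L21243)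 q2159, e3 q1577 (flp_i L21252) q2160, e3 q1578 (flp_i L21259) q2161, e3 q1579 L14908 q1579, e3 q1580 L14918 q1140, e3 q1581 L14928 q1141, e3 q1582 (flp_i L21340) q2168, e3 q1583 (flp_i L21351) q2169, e3 q1584 (flp_i L21361) q2170, e3 q1585 L14984 q1585, e3 q1586 L14991 q1145, e3 q1587 L15001 q1146, e3 q1588 L15009 q1147, e3 q1589 L594495 q1231, e3 q1590 (flp_i L21468) q2177, e3 q1591 (flp_i L21476) q2178, e3 q1592 (flp_i L21487) q2179, e3 q1593 (flp_i L21495) q2180, e3 q1594 L15095 q1594, e3 q1595 L15111 q1153, e3 q1596 L15118 q1154, e3 q1597 L15130 q1155, e3 q1598 L15140 q1156, e3 q1599 (flp_i L594151) q1213, trivial⟩ (by decide +kernel)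

theorem ce_i_25 : ∀ r, r < 64 → sm gi (Qf (1600 + r)) = Qf (tab Gen.i (1600 + r)) :=
  edges_tab (sm gi) Qf (tab Gen.i) 1600 [(1600, 2189), (1601, 2190), (1602, 2191), (1603, 2203), (1604, 2192), (1605, 2193), (1606, 1159), (1607, 1160), (1608, 1161), (1609, 2205), (1610, 2206), (1611, 2207), (1612, 2208), (1613, 2209), (1614, 1165), (1615, 1166), (1616, 1167), (1617, 1168), (1618, 1169), (1619, 2217), (1620, 2218), (1621, 2219), (1622, 2220), (1623, 2233), (1624, 2222), (1625, 2223), (1626, 1175), (1627, 1176), (1628, 1177), (1629, 1178), (1630, 2244), (1631, 1180), (1632, 1181), (1633, 2235), (1634, 2236), (1635, 2237), (1636, 2238), (1637, 2194), (1638, 2240), (1639, 2241), (1640, 2242), (1641, 2259), (1642, 1179), (1643, 2245), (1644, 1189), (1645, 1190), (1646, 1191), (1647, 1192), (1648, 1648), (1649, 1193), (1650, 1194), (1651, 1195), (1652, 1652), (1653, 1196), (1654, 2260), (1655, 2261), (1656, 2263), (1657, 2264), (1658, 2266), (1659, 2267), (1660, 2269), (1661, 2270), (1662, 2272), (1663, 1663)]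
    ⟨e3 q1600 (flp_i L21642) q2189, e3 q1601 (flp_i L21650) q2190, e3 q1602 (flp_i L21662) q2191, e3 q1603 L21761 q2203, e3 q1604 (flp_i L21679) q2192, e3 q1605 (flp_i L21688) q2193, e3 q1606 L15206 q1159, e3 q1607 L15218 q1160, e3 q1608 L15227 q1161, e3 q1609 (flp_i L21787) q2205, e3 q1610 (flp_i L21799) q2206, e3 q1611 (flp_i L21808) q2207, e3 q1612 (flp_i L21820) q2208, e3 q1613 (flp_i L21829) q2209, e3 q1614 L15284 q1165, e3 q1615 L15295 q1166, e3 q1616 L15303 q1167, e3 q1617 L15313 q1168, e3 q1618 L15322 q1169, e3 q1619 (flp_i L21907) q2217, e3 q1620 (flp_i L21915) q2218, e3 q1621 (flp_i L21923) q2219, e3 q1622 (flp_i L21932) q2220, e3 q1623 L22033 q2233, e3 q1624 (flp_i L21950) q2222, e3 q1625 (flp_i L21962) q2223, e3 q1626 L15393 q1175, e3 q1627 L15400 q1176, e3 q1628 L15409 q1177, e3 q1629 L15420 q1178, e3 q1630 L22132 q2244, e3 q1631 L15438 q1180, e3 q1632 L15447 q1181, e3 q1633 (flp_i L22060) q2235, e3 q1634 (flp_i L22071) q2236, e3 q1635 (flp_i L22079) q2237, e3 q1636 (flp_i L22088) q2238, e3 q1637 (flp_i L591061)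 q2194, e3 q1638 (flp_i L22104) q2240, e3 q1639 (flp_i L22111) q2241, e3 q1640 (flp_i L22122) q2242, e3 q1641 L22271 q2259, e3 q1642 (flp_i L15519) q1179, e3 q1643 (flp_i L22150) q2245, e3 q1644 L15546 q1189, e3 q1645 L15557 q1190, e3 q1646 L15564 q1191, e3 q1647 L15574 q1192, e3 q1648 L15584 q1648, e3 q1649 L15590 q1193, e3 q1650 L15599 q1194, e3 q1651 L15609 q1195, e3 q1652 L15621 q1652, e3 q1653 L15630 q1196, e3 q1654 (flp_i L22287) q2260, e3 q1655 (flp_i L22298) q2261, e3 q1656 (flp_i L22318) q2263, e3 q1657 (flp_i L22327) q2264, e3 q1658 (flp_i L22343) q2266, e3 q1659 (flp_i L22352) q2267, e3 q1660 (flp_i L22370) q2269, e3 q1661 (flp_i L22380) q2270, e3 q1662 (flp_i L22400) q2272, e3 q1663 L15717 q1663, trivial⟩ (by decide +kernel)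

theorem ce_i_26 : ∀ r, r < 64 → sm gi (Qf (1664 + r)) = Qf (tab Gen.i (1664 + r)) :=
  edges_tab (sm gi) Qf (tab Gen.i) 1664 [(1664, 1664), (1665, 1665), (1666, 1666), (1667, 2294), (1668, 1668), (1669, 1669), (1670, 1670), (1671, 1671), (1672, 1672), (1673, 1673), (1674, 2181), (1675, 1675), (1676, 1676), (1677, 1677), (1678, 2309), (1679, 1206), (1680, 1680), (1681, 1681), (1682, 1682), (1683, 1683), (1684, 1684), (1685, 2007), (1686, 1686), (1687, 2195), (1688, 1688), (1689, 1689), (1690, 2319), (1691, 1216), (1692, 1692), (1693, 1693), (1694, 1694), (1695, 1695), (1696, 1696), (1697, 2171), (1698, 1698), (1699, 1699), (1700, 1700), (1701, 2331), (1702, 1225), (1703, 1703), (1704, 1704), (1705, 1705), (1706, 1996), (1707, 1707), (1708, 2162), (1709, 2339), (1710, 1233), (1711, 1907), (1712, 1375), (1713, 2344), (1714, 1237), (1715, 2345), (1716, 1238), (1717, 1717), (1718, 1241), (1719, 2348), (1720, 2349), (1721, 1374), (1722, 2355), (1723, 1243), (1724, 1724), (1725, 1725), (1726, 1248), (1727, 1249)]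
    ⟨e3 q1664 L15725 q1664, e3 q1665 L15734 q1665, e3 q1666 L15745 q1666, e3 q1667 L22592 q2294, e3 q1668 L15763 q1668, e3 q1669 L15772 q1669, e3 q1670 L15783 q1670, e3 q1671 L15792 q1671, e3 q1672 L15800 q1672, e3 q1673 L15808 q1673, e3 q1674 (flp_i L452797) q2181, e3 q1675 L15822 q1675, e3 q1676 L15830 q1676, e3 q1677 L15841 q1677, e3 q1678 L22745 q2309, e3 q1679 (flp_i L15851) q1206, e3 q1680 L15870 q1680, e3 q1681 L15878 q1681, e3 q1682 L15888 q1682, e3 q1683 L15907 q1683, e3 q1684 L15914 q1684, e3 q1685 L593343 q2007, e3 q1686 L15931 q1686, e3 q1687 L593357 q2195, e3 q1688 L15954 q1688, e3 q1689 L15964 q1689, e3 q1690 L22883 q2319, e3 q1691 (flp_i L15974) q1216, e3 q1692 L15992 q1692, e3 q1693 L16003 q1693, e3 q1694 L16014 q1694, e3 q1695 L16021 q1695, e3 q1696 L16032 q1696, e3 q1697 L594519 q2171, e3 q1698 L16048 q1698, e3 q1699 L16058 q1699, e3 q1700 L16067 q1700, e3 q1701 L23015 q2331, e3 q1702 (flp_i L16080) q1225, e3 q1703 L16096 q1703, e3 q1704 L16106 q1704, e3 q1705 L16123 q1705, e3 q1706 (flp_i L593300) q1996,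 e3 q1707 L16137 q1707, e3 q1708 (flp_i L452600) q2162, e3 q1709 L23134 q2339, e3 q1710 (flp_i L16163) q1233, e3 q1711 (flp_i L593306) q1907, e3 q1712 L564477 q1375, e3 q1713 L23219 q2344, e3 q1714 (flp_i L16233) q1237, e3 q1715 L23237 q2345, e3 q1716 (flp_i L16250) q1238, e3 q1717 L16266 q1717, e3 q1718 L16274 q1241, e3 q1719 (flp_i L23271) q2348, e3 q1720 (flp_i L23280) q2349, e3 q1721 L564493 q1374, e3 q1722 L23346 q2355, e3 q1723 (flp_i L16320) q1243, e3 q1724 L16346 q1724, e3 q1725 L16354 q1725, e3 q1726 L16363 q1248, e3 q1727 L16371 q1249, trivial⟩ (by decide +kernel)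

theorem ce_i_27 : ∀ r, r < 64 → sm gi (Qf (1728 + r)) = Qf (tab Gen.i (1728 + r)) :=
  edges_tab (sm gi) Qf (tab Gen.i) 1728 [(1728, 1365), (1729, 2358), (1730, 2359), (1731, 1377), (1732, 1732), (1733, 1251), (1734, 1734), (1735, 1735), (1736, 1258), (1737, 1259), (1738, 1368), (1739, 2368), (1740, 2369), (1741, 2370), (1742, 1742), (1743, 1264), (1744, 1265), (1745, 1341), (1746, 2378), (1747, 2379), (1748, 2380), (1749, 1749), (1750, 1270), (1751, 1271), (1752, 1272), (1753, 1300), (1754, 1350), (1755, 2388), (1756, 2391), (1757, 2389), (1758, 2390), (1759, 1759), (1760, 1279), (1761, 1281), (1762, 1282), (1763, 1280), (1764, 1316), (1765, 1307), (1766, 1357), (1767, 2400), (1768, 2401), (1769, 2403), (1770, 2402), (1771, 1286), (1772, 1287), (1773, 1288), (1774, 1289), (1775, 1290), (1776, 2412), (1777, 2413), (1778, 2414), (1779, 2415), (1780, 2381), (1781, 2417), (1782, 2418), (1783, 1296), (1784, 1297), (1785, 1298), (1786, 1299), (1787, 2393), (1788, 1301), (1789, 1302), (1790, 2427), (1791, 2428)]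
    ⟨e3 q1728 L448352 q1365, e3 q1729 (flp_i L23414) q2358, e3 q1730 (flp_i L23422) q2359, e3 q1731 L495394 q1377, e3 q1732 L411986 q1732, e3 q1733 (flp_i L16434) q1251, e3 q1734 L16463 q1734, e3 q1735 L16479 q1735, e3 q1736 L16494 q1258, e3 q1737 L16500 q1259, e3 q1738 (flp_i L448402) q1368, e3 q1739 (flp_i L23604) q2368, e3 q1740 (flp_i L23612) q2369, e3 q1741 (flp_i L23622) q2370, e3 q1742 L16573 q1742, e3 q1743 L16591 q1264, e3 q1744 L16600 q1265, e3 q1745 (flp_i L598142) q1341, e3 q1746 (flp_i L23752) q2378, e3 q1747 (flp_i L23763) q2379, e3 q1748 (flp_i L23770) q2380, e3 q1749 L16688 q1749, e3 q1750 L16710 q1270, e3 q1751 L16719 q1271, e3 q1752 L16726 q1272, e3 q1753 L598207 q1300, e3 q1754 (flp_i L598150) q1350, e3 q1755 (flp_i L23940) q2388, e3 q1756 L598170 q2391, e3 q1757 (flp_i L23953) q2389, e3 q1758 (flp_i L23964) q2390, e3 q1759 L16857 q1759, e3 q1760 L16890 q1279, e3 q1761 L16903 q1281, e3 q1762 L16911 q1282, e3 q1763 L598224 q1280, e3 q1764 (flp_i L598350) q1316, e3 q1765 (flp_i L598305) q1307, e3 q1766 L559290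 q1357, e3 q1767 (flp_i L24216) q2400, e3 q1768 (flp_i L24226) q2401, e3 q1769 (flp_i L598258) q2403, e3 q1770 (flp_i L24248) q2402, e3 q1771 L17000 q1286, e3 q1772 L17011 q1287, e3 q1773 L17018 q1288, e3 q1774 L17028 q1289, e3 q1775 L17036 q1290, e3 q1776 (flp_i L24377) q2412, e3 q1777 (flp_i L24386) q2413, e3 q1778 (flp_i L24397) q2414, e3 q1779 (flp_i L24406) q2415, e3 q1780 L598662 q2381, e3 q1781 (flp_i L24421) q2417, e3 q1782 (flp_i L24430) q2418, e3 q1783 L17106 q1296, e3 q1784 L17114 q1297, e3 q1785 L17123 q1298, e3 q1786 L17130 q1299, e3 q1787 (flp_i L579272) q2393, e3 q1788 L17144 q1301, e3 q1789 L17155 q1302, e3 q1790 (flp_i L24529) q2427, e3 q1791 (flp_i L24538) q2428, trivial⟩ (by decide +kernel)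

theorem ce_i_28 : ∀ r, r < 64 → sm gi (Qf (1792 + r)) = Qf (tab Gen.i (1792 + r)) :=
  edges_tab (sm gi) Qf (tab Gen.i) 1792 [(1792, 2429), (1793, 2430), (1794, 2431), (1795, 2432), (1796, 2392), (1797, 2434), (1798, 1310), (1799, 1311), (1800, 1312), (1801, 1313), (1802, 1314), (1803, 1315), (1804, 2406), (1805, 1317), (1806, 2444), (1807, 2445), (1808, 2446), (1809, 2447), (1810, 2448), (1811, 2449), (1812, 2404), (1813, 2451), (1814, 2405), (1815, 1328), (1816, 1329), (1817, 1817), (1818, 1330), (1819, 1331), (1820, 1820), (1821, 1332), (1822, 1333), (1823, 1823), (1824, 1334), (1825, 1335), (1826, 1826), (1827, 1336), (1828, 1828), (1829, 2462), (1830, 2463), (1831, 2465), (1832, 2466), (1833, 2468), (1834, 2469), (1835, 2470), (1836, 2473), (1837, 2475), (1838, 2477), (1839, 2478), (1840, 1840), (1841, 1841), (1842, 1842), (1843, 1843), (1844, 1844), (1845, 1845), (1846, 2382), (1847, 1847), (1848, 1848), (1849, 1849), (1850, 1850), (1851, 1851), (1852, 1852), (1853, 1853), (1854, 2372), (1855, 1855)]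
    ⟨e3 q1792 (flp_i L24555) q2429, e3 q1793 (flp_i L24572) q2430, e3 q1794 (flp_i L24578) q2431, e3 q1795 (flp_i L24586) q2432, e3 q1796 L598656 q2392, e3 q1797 (flp_i L24611) q2434, e3 q1798 L17240 q1310, e3 q1799 L17250 q1311, e3 q1800 L17268 q1312, e3 q1801 L17285 q1313, e3 q1802 L17290 q1314, e3 q1803 L17299 q1315, e3 q1804 (flp_i L447747) q2406, e3 q1805 L17321 q1317, e3 q1806 (flp_i L24745) q2444, e3 q1807 (flp_i L24762) q2445, e3 q1808 (flp_i L24783) q2446, e3 q1809 (flp_i L24794) q2447, e3 q1810 (flp_i L24821) q2448, e3 q1811 (flp_i L24830) q2449, e3 q1812 (flp_i L598242) q2404, e3 q1813 (flp_i L24842) q2451, e3 q1814 (flp_i L598523) q2405, e3 q1815 L17446 q1328, e3 q1816 L17456 q1329, e3 q1817 L17466 q1817, e3 q1818 L17473 q1330, e3 q1819 L17483 q1331, e3 q1820 L17493 q1820, e3 q1821 L17499 q1332, e3 q1822 L17508 q1333, e3 q1823 L17519 q1823, e3 q1824 L17527 q1334, e3 q1825 L17535 q1335, e3 q1826 L17544 q1826, e3 q1827 L17551 q1336, e3 q1828 L17561 q1828, e3 q1829 (flp_i L25036) q2462, e3 q1830 (flp_i L25047) q2463,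 e3 q1831 (flp_i L25064) q2465, e3 q1832 (flp_i L25073) q2466, e3 q1833 (flp_i L25092) q2468, e3 q1834 (flp_i L25101) q2469, e3 q1835 (flp_i L25110) q2470, e3 q1836 (flp_i L25136) q2473, e3 q1837 (flp_i L25154) q2475, e3 q1838 (flp_i L25169) q2477, e3 q1839 (flp_i L25178) q2478, e3 q1840 L17655 q1840, e3 q1841 L17665 q1841, e3 q1842 L17685 q1842, e3 q1843 L17701 q1843, e3 q1844 L17708 q1844, e3 q1845 L17717 q1845, e3 q1846 L598668 q2382, e3 q1847 L17741 q1847, e3 q1848 L17760 q1848, e3 q1849 L17775 q1849, e3 q1850 L17798 q1850, e3 q1851 L17808 q1851, e3 q1852 L17834 q1852, e3 q1853 L17841 q1853, e3 q1854 (flp_i L598044) q2372, e3 q1855 L17857 q1855, trivial⟩ (by decide +kernel)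

theorem ce_i_29 : ∀ r, r < 64 → sm gi (Qf (1856 + r)) = Qf (tab Gen.i (1856 + r)) :=
  edges_tab (sm gi) Qf (tab Gen.i) 1856 [(1856, 2394), (1857, 1857), (1858, 1858), (1859, 1859), (1860, 2407), (1861, 1861), (1862, 1862), (1863, 1863), (1864, 1864), (1865, 1865), (1866, 2360), (1867, 2350), (1868, 1868), (1869, 2371), (1870, 1870), (1871, 1871), (1872, 1872), (1873, 1873), (1874, 2341), (1875, 2353), (1876, 2364), (1877, 2525), (1878, 1378), (1879, 1879), (1880, 1380), (1881, 1881), (1882, 1882), (1883, 1883), (1884, 1884), (1885, 1885), (1886, 1886), (1887, 1887), (1888, 1888), (1889, 1387), (1890, 2542), (1891, 1390), (1892, 2544), (1893, 1392), (1894, 2547), (1895, 2548), (1896, 1394), (1897, 2552), (1898, 2553), (1899, 1396), (1900, 1397), (1901, 2557), (1902, 2558), (1903, 2559), (1904, 1400), (1905, 1401), (1906, 1402), (1907, 1711), (1908, 2565), (1909, 2566), (1910, 2567), (1911, 2568), (1912, 1912), (1913, 1405), (1914, 1406), (1915, 2578), (1916, 2579), (1917, 2580), (1918, 1918), (1919, 1919)]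
    ⟨e3 q1856 (flp_i L598529) q2394, e3 q1857 L17905 q1857, e3 q1858 L17929 q1858, e3 q1859 L17969 q1859, e3 q1860 L598475 q2407, e3 q1861 L18019 q1861, e3 q1862 L18036 q1862, e3 q1863 L18063 q1863, e3 q1864 L18071 q1864, e3 q1865 L18098 q1865, e3 q1866 (flp_i L598057) q2360, e3 q1867 (flp_i L597700) q2350, e3 q1868 L18155 q1868, e3 q1869 (flp_i L597555) q2371, e3 q1870 L18307 q1870, e3 q1871 L18317 q1871, e3 q1872 L18391 q1872, e3 q1873 L18427 q1873, e3 q1874 (flp_i L557919) q2341, e3 q1875 L558123 q2353, e3 q1876 (flp_i L557605) q2364, e3 q1877 L26711 q2525, e3 q1878 (flp_i L18683) q1378, e3 q1879 L18703 q1879, e3 q1880 (flp_i L18704) q1380, e3 q1881 L18724 q1881, e3 q1882 L18732 q1882, e3 q1883 L18742 q1883, e3 q1884 L18752 q1884, e3 q1885 L18762 q1885, e3 q1886 L18771 q1886, e3 q1887 L18781 q1887, e3 q1888 L18790 q1888, e3 q1889 (flp_i L18792) q1387, e3 q1890 (flp_i L26884) q2542, e3 q1891 L18826 q1390, e3 q1892 (flp_i L26902) q2544, e3 q1893 L18843 q1392, e3 q1894 (flp_i L26928) q2547, e3 q1895 (flp_i L26938) q2548, e3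 q1896 L18867 q1394, e3 q1897 (flp_i L26969) q2552, e3 q1898 (flp_i L26981) q2553, e3 q1899 L18893 q1396, e3 q1900 L18904 q1397, e3 q1901 (flp_i L27016) q2557, e3 q1902 (flp_i L27027) q2558, e3 q1903 (flp_i L27036) q2559, e3 q1904 L18935 q1400, e3 q1905 L18945 q1401, e3 q1906 L18955 q1402, e3 q1907 L593306 q1711, e3 q1908 (flp_i L27093) q2565, e3 q1909 (flp_i L27099) q2566, e3 q1910 (flp_i L27112) q2567, e3 q1911 (flp_i L27123) q2568, e3 q1912 L19002 q1912, e3 q1913 L19012 q1405, e3 q1914 L19023 q1406, e3 q1915 (flp_i L27206) q2578, e3 q1916 (flp_i L27217) q2579, e3 q1917 (flp_i L27225) q2580, e3 q1918 L19060 q1918, e3 q1919 L19070 q1919, trivial⟩ (by decide +kernel)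

theorem ce_i_30 : ∀ r, r < 64 → sm gi (Qf (1920 + r)) = Qf (tab Gen.i (1920 + r)) :=
  edges_tab (sm gi) Qf (tab Gen.i) 1920 [(1920, 1410), (1921, 1411), (1922, 1412), (1923, 2589), (1924, 2590), (1925, 2591), (1926, 2592), (1927, 2593), (1928, 1928), (1929, 1929), (1930, 1930), (1931, 1418), (1932, 1419), (1933, 1420), (1934, 1421), (1935, 1422), (1936, 2606), (1937, 2607), (1938, 2608), (1939, 2609), (1940, 2622), (1941, 2611), (1942, 2612), (1943, 1943), (1944, 1944), (1945, 1945), (1946, 1946), (1947, 1947), (1948, 1948), (1949, 1949), (1950, 1950), (1951, 1433), (1952, 1434), (1953, 1435), (1954, 1436), (1955, 2645), (1956, 1438), (1957, 1439), (1958, 2636), (1959, 2637), (1960, 2638), (1961, 2639), (1962, 2656), (1963, 2641), (1964, 2642), (1965, 2643), (1966, 2662), (1967, 1437), (1968, 2646), (1969, 2664), (1970, 1440), (1971, 1442), (1972, 2666), (1973, 1443), (1974, 1974), (1975, 1446), (1976, 2671), (1977, 2672), (1978, 1978), (1979, 1979), (1980, 1450), (1981, 1451), (1982, 2679), (1983, 2680)]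
    ⟨e3 q1920 L19079 q1410, e3 q1921 L19089 q1411, e3 q1922 L19095 q1412, e3 q1923 (flp_i L27309) q2589, e3 q1924 (flp_i L27319) q2590, e3 q1925 (flp_i L27326) q2591, e3 q1926 (flp_i L27335) q2592, e3 q1927 (flp_i L27343) q2593, e3 q1928 L19146 q1928, e3 q1929 L19156 q1929, e3 q1930 L19165 q1930, e3 q1931 L19176 q1418, e3 q1932 L19185 q1419, e3 q1933 L19191 q1420, e3 q1934 L19201 q1421, e3 q1935 L19211 q1422, e3 q1936 (flp_i L27456) q2606, e3 q1937 (flp_i L27463) q2607, e3 q1938 (flp_i L27473) q2608, e3 q1939 (flp_i L27483) q2609, e3 q1940 L27576 q2622, e3 q1941 (flp_i L27498) q2611, e3 q1942 (flp_i L27506) q2612, e3 q1943 L19273 q1943, e3 q1944 L19283 q1944, e3 q1945 L19292 q1945, e3 q1946 L19302 q1946, e3 q1947 L19313 q1947, e3 q1948 L19319 q1948, e3 q1949 L19329 q1949, e3 q1950 L19336 q1950, e3 q1951 L19346 q1433, e3 q1952 L19354 q1434, e3 q1953 L19364 q1435, e3 q1954 L19373 q1436, e3 q1955 L27780 q2645, e3 q1956 L19388 q1438, e3 q1957 L19397 q1439, e3 q1958 (flp_i L27707) q2636, e3 q1959 (flp_i L27718) q2637, e3 q1960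 (flp_i L27726) q2638, e3 q1961 (flp_i L27737) q2639, e3 q1962 L27872 q2656, e3 q1963 (flp_i L27752) q2641, e3 q1964 (flp_i L27760) q2642, e3 q1965 (flp_i L27770) q2643, e3 q1966 L27920 q2662, e3 q1967 (flp_i L19470) q1437, e3 q1968 (flp_i L27796) q2646, e3 q1969 L27939 q2664, e3 q1970 (flp_i L19498) q1440, e3 q1971 L19520 q1442, e3 q1972 (flp_i L27971) q2666, e3 q1973 (flp_i L19532) q1443, e3 q1974 L19554 q1974, e3 q1975 L19564 q1446, e3 q1976 (flp_i L28022) q2671, e3 q1977 (flp_i L28031) q2672, e3 q1978 L19593 q1978, e3 q1979 L19602 q1979, e3 q1980 L19611 q1450, e3 q1981 L19619 q1451, e3 q1982 (flp_i L28095) q2679, e3 q1983 (flp_i L28105) q2680, trivial⟩ (by decide +kernel)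

theorem ce_i_31 : ∀ r, r < 64 → sm gi (Qf (1984 + r)) = Qf (tab Gen.i (1984 + r)) :=
  edges_tab (sm gi) Qf (tab Gen.i) 1984 [(1984, 2681), (1985, 1985), (1986, 1454), (1987, 1455), (1988, 2689), (1989, 2690), (1990, 2691), (1991, 1991), (1992, 1992), (1993, 1459), (1994, 1460), (1995, 1461), (1996, 1706), (1997, 2699), (1998, 2700), (1999, 2701), (2000, 2702), (2001, 2001), (2002, 2002), (2003, 1468), (2004, 1469), (2005, 1470), (2006, 1471), (2007, 1685), (2008, 2713), (2009, 2714), (2010, 2715), (2011, 2728), (2012, 2717), (2013, 2718), (2014, 1474), (2015, 1475), (2016, 1476), (2017, 2730), (2018, 2731), (2019, 2732), (2020, 2733), (2021, 2734), (2022, 1480), (2023, 1481), (2024, 1482), (2025, 1483), (2026, 1484), (2027, 2742), (2028, 2743), (2029, 2744), (2030, 2745), (2031, 2758), (2032, 2747), (2033, 2748), (2034, 1490), (2035, 1491), (2036, 1492), (2037, 1493), (2038, 2769), (2039, 1495), (2040, 1496), (2041, 2760), (2042, 2761), (2043, 2762), (2044, 2763), (2045, 2780), (2046, 2765), (2047, 2766)]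
    ⟨e3 q1984 (flp_i L28113) q2681, e3 q1985 L19654 q1985, e3 q1986 L19663 q1454, e3 q1987 L19673 q1455, e3 q1988 (flp_i L28184) q2689, e3 q1989 (flp_i L28196) q2690, e3 q1990 (flp_i L28207) q2691, e3 q1991 L19711 q1991, e3 q1992 L19722 q1992, e3 q1993 L19728 q1459, e3 q1994 L19739 q1460, e3 q1995 L19748 q1461, e3 q1996 L593300 q1706, e3 q1997 (flp_i L28299) q2699, e3 q1998 (flp_i L28306) q2700, e3 q1999 (flp_i L28315) q2701, e3 q2000 (flp_i L28324) q2702, e3 q2001 L19808 q2001, e3 q2002 L19818 q2002, e3 q2003 L19836 q1468, e3 q2004 L19842 q1469, e3 q2005 L19852 q1470, e3 q2006 L19863 q1471, e3 q2007 (flp_i L593343) q1685, e3 q2008 (flp_i L28447) q2713, e3 q2009 (flp_i L28456) q2714, e3 q2010 (flp_i L28467) q2715, e3 q2011 L28561 q2728, e3 q2012 (flp_i L28481) q2717, e3 q2013 (flp_i L28491) q2718, e3 q2014 L19927 q1474, e3 q2015 L19940 q1475, e3 q2016 L19950 q1476, e3 q2017 (flp_i L28585) q2730, e3 q2018 (flp_i L28598) q2731, e3 q2019 (flp_i L28606) q2732, e3 q2020 (flp_i L28616) q2733, e3 q2021 (flp_i L28626) q2734, e3 q2022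 L20008 q1480, e3 q2023 L20020 q1481, e3 q2024 L20027 q1482, e3 q2025 L20035 q1483, e3 q2026 L20045 q1484, e3 q2027 (flp_i L28704) q2742, e3 q2028 (flp_i L28712) q2743, e3 q2029 (flp_i L28721) q2744, e3 q2030 (flp_i L28729) q2745, e3 q2031 L28825 q2758, e3 q2032 (flp_i L28744) q2747, e3 q2033 (flp_i L28757) q2748, e3 q2034 L20116 q1490, e3 q2035 L20123 q1491, e3 q2036 L20133 q1492, e3 q2037 L20143 q1493, e3 q2038 L28918 q2769, e3 q2039 L20158 q1495, e3 q2040 L20168 q1496, e3 q2041 (flp_i L28848) q2760, e3 q2042 (flp_i L28859) q2761, e3 q2043 (flp_i L28866) q2762, e3 q2044 (flp_i L28877) q2763, e3 q2045 L29004 q2780, e3 q2046 (flp_i L28894) q2765, e3 q2047 (flp_i L28900) q2766, trivial⟩ (by decide +kernel)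

theorem ce_i_32 : ∀ r, r < 64 → sm gi (Qf (2048 + r)) = Qf (tab Gen.i (2048 + r)) :=
  edges_tab (sm gi) Qf (tab Gen.i) 2048 [(2048, 2767), (2049, 2786), (2050, 1494), (2051, 2770), (2052, 1504), (2053, 1505), (2054, 1506), (2055, 1507), (2056, 2647), (2057, 1509), (2058, 1510), (2059, 1511), (2060, 2798), (2061, 1501), (2062, 1514), (2063, 2640), (2064, 2787), (2065, 2652), (2066, 2788), (2067, 2789), (2068, 2649), (2069, 2790), (2070, 2791), (2071, 2811), (2072, 1508), (2073, 2793), (2074, 2794), (2075, 2816), (2076, 2796), (2077, 2818), (2078, 1512), (2079, 2079), (2080, 2080), (2081, 2081), (2082, 2082), (2083, 2828), (2084, 2084), (2085, 2085), (2086, 2086), (2087, 2087), (2088, 2088), (2089, 2089), (2090, 2839), (2091, 2091), (2092, 2092), (2093, 2093), (2094, 2845), (2095, 1524), (2096, 2096), (2097, 2097), (2098, 2098), (2099, 2851), (2100, 2100), (2101, 2101), (2102, 2857), (2103, 2103), (2104, 2104), (2105, 2862), (2106, 1531), (2107, 2107), (2108, 2108), (2109, 2867), (2110, 2110), (2111, 2869)]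
    ⟨e3 q2048 (flp_i L28909) q2767, e3 q2049 L29048 q2786, e3 q2050 (flp_i L20237) q1494, e3 q2051 (flp_i L28933) q2770, e3 q2052 L20260 q1504, e3 q2053 L20271 q1505, e3 q2054 L20277 q1506, e3 q2055 L20289 q1507, e3 q2056 (flp_i L536705) q2647, e3 q2057 L20305 q1509, e3 q2058 L20313 q1510, e3 q2059 L20321 q1511, e3 q2060 L29189 q2798, e3 q2061 (flp_i L20332) q1501, e3 q2062 L20348 q1514, e3 q2063 L563423 q2640, e3 q2064 (flp_i L29074) q2787, e3 q2065 (flp_i L524331) q2652, e3 q2066 (flp_i L29092) q2788, e3 q2067 (flp_i L29103) q2789, e3 q2068 L524343 q2649, e3 q2069 (flp_i L29117) q2790, e3 q2070 (flp_i L29125) q2791, e3 q2071 L29330 q2811, e3 q2072 (flp_i L20423) q1508, e3 q2073 (flp_i L29153) q2793, e3 q2074 (flp_i L29162) q2794, e3 q2075 L29365 q2816, e3 q2076 (flp_i L29178) q2796, e3 q2077 L29382 q2818, e3 q2078 (flp_i L20471) q1512, e3 q2079 L20490 q2079, e3 q2080 L20498 q2080, e3 q2081 L20508 q2081, e3 q2082 L20518 q2082, e3 q2083 L29473 q2828, e3 q2084 L20533 q2084, e3 q2085 L20543 q2085, e3 q2086 L20553 q2086, e3 q2087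 L20562 q2087, e3 q2088 L20569 q2088, e3 q2089 L20579 q2089, e3 q2090 L29567 q2839, e3 q2091 L20594 q2091, e3 q2092 L20601 q2092, e3 q2093 L20610 q2093, e3 q2094 L29617 q2845, e3 q2095 (flp_i L20619) q1524, e3 q2096 L20635 q2096, e3 q2097 L20642 q2097, e3 q2098 L20653 q2098, e3 q2099 L29677 q2851, e3 q2100 L20670 q2100, e3 q2101 L20679 q2101, e3 q2102 L29727 q2857, e3 q2103 L20692 q2103, e3 q2104 L20702 q2104, e3 q2105 L29766 q2862, e3 q2106 (flp_i L20710) q1531, e3 q2107 L20725 q2107, e3 q2108 L20735 q2108, e3 q2109 L29807 q2867, e3 q2110 L20750 q2110, e3 q2111 L29823 q2869, trivial⟩ (by decide +kernel)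

theorem ce_i_33 : ∀ r, r < 64 → sm gi (Qf (2112 + r)) = Qf (tab Gen.i (2112 + r)) :=
  edges_tab (sm gi) Qf (tab Gen.i) 2112 [(2112, 1535), (2113, 2113), (2114, 2114), (2115, 2874), (2116, 1539), (2117, 2117), (2118, 2118), (2119, 2879), (2120, 2120), (2121, 2881), (2122, 1543), (2123, 2123), (2124, 2124), (2125, 2886), (2126, 2888), (2127, 1547), (2128, 2889), (2129, 1549), (2130, 2130), (2131, 2893), (2132, 2892), (2133, 2891), (2134, 1553), (2135, 2896), (2136, 1554), (2137, 1556), (2138, 2899), (2139, 1558), (2140, 2900), (2141, 1559), (2142, 2142), (2143, 1562), (2144, 2903), (2145, 2904), (2146, 2909), (2147, 1563), (2148, 2148), (2149, 2149), (2150, 1568), (2151, 1569), (2152, 2912), (2153, 2913), (2154, 2914), (2155, 2155), (2156, 1570), (2157, 2157), (2158, 2158), (2159, 1576), (2160, 1577), (2161, 1578), (2162, 1708), (2163, 2922), (2164, 2923), (2165, 2924), (2166, 2925), (2167, 2167), (2168, 1582), (2169, 1583), (2170, 1584), (2171, 1697), (2172, 2934), (2173, 2935), (2174, 2936), (2175, 2937)]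
    ⟨e3 q2112 (flp_i L20758) q1535, e3 q2113 L20773 q2113, e3 q2114 L20783 q2114, e3 q2115 L29869 q2874, e3 q2116 (flp_i L20794) q1539, e3 q2117 L20812 q2117, e3 q2118 L20821 q2118, e3 q2119 L29911 q2879, e3 q2120 L20839 q2120, e3 q2121 L29930 q2881, e3 q2122 (flp_i L20849) q1543, e3 q2123 L20863 q2123, e3 q2124 L20873 q2124, e3 q2125 L29972 q2886, e3 q2126 L29989 q2888, e3 q2127 (flp_i L20889) q1547, e3 q2128 L29996 q2889, e3 q2129 (flp_i L20908) q1549, e3 q2130 L20925 q2130, e3 q2131 L30032 q2893, e3 q2132 L630113 q2892, e3 q2133 (flp_i L630239) q2891, e3 q2134 (flp_i L20951) q1553, e3 q2135 L30083 q2896, e3 q2136 (flp_i L20967) q1554, e3 q2137 (flp_i L20976) q1556, e3 q2138 L30121 q2899, e3 q2139 (flp_i L20997) q1558, e3 q2140 L30145 q2900, e3 q2141 (flp_i L21018) q1559, e3 q2142 L21036 q2142, e3 q2143 L21045 q1562, e3 q2144 (flp_i L30184) q2903, e3 q2145 (flp_i L30194) q2904, e3 q2146 L30234 q2909, e3 q2147 (flp_i L21076) q1563, e3 q2148 L21109 q2148, e3 q2149 L21118 q2149, e3 q2150 L21129 q1568, e3 q2151 L21138 q1569,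 e3 q2152 (flp_i L30306) q2912, e3 q2153 (flp_i L30316) q2913, e3 q2154 (flp_i L30325) q2914, e3 q2155 L411653 q2155, e3 q2156 (flp_i L21178) q1570, e3 q2157 L21217 q2157, e3 q2158 L21236 q2158, e3 q2159 L21243 q1576, e3 q2160 L21252 q1577, e3 q2161 L21259 q1578, e3 q2162 L452600 q1708, e3 q2163 (flp_i L30478) q2922, e3 q2164 (flp_i L30485) q2923, e3 q2165 (flp_i L30495) q2924, e3 q2166 (flp_i L30506) q2925, e3 q2167 L21332 q2167, e3 q2168 L21340 q1582, e3 q2169 L21351 q1583, e3 q2170 L21361 q1584, e3 q2171 (flp_i L594519) q1697, e3 q2172 (flp_i L30633) q2934, e3 q2173 (flp_i L30642) q2935, e3 q2174 (flp_i L30655) q2936, e3 q2175 (flp_i L30663) q2937, trivial⟩ (by decide +kernel)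

theorem ce_i_34 : ∀ r, r < 64 → sm gi (Qf (2176 + r)) = Qf (tab Gen.i (2176 + r)) :=
  edges_tab (sm gi) Qf (tab Gen.i) 2176 [(2176, 2176), (2177, 1590), (2178, 1591), (2179, 1592), (2180, 1593), (2181, 1674), (2182, 2946), (2183, 2947), (2184, 2948), (2185, 2960), (2186, 2949), (2187, 2950), (2188, 2188), (2189, 1600), (2190, 1601), (2191, 1602), (2192, 1604), (2193, 1605), (2194, 1637), (2195, 1687), (2196, 2963), (2197, 2964), (2198, 2978), (2199, 2965), (2200, 2966), (2201, 2967), (2202, 2984), (2203, 1603), (2204, 2968), (2205, 1609), (2206, 1610), (2207, 1611), (2208, 1612), (2209, 1613), (2210, 2985), (2211, 2986), (2212, 2987), (2213, 2988), (2214, 3001), (2215, 2990), (2216, 2991), (2217, 1619), (2218, 1620), (2219, 1621), (2220, 1622), (2221, 3012), (2222, 1624), (2223, 1625), (2224, 3003), (2225, 3004), (2226, 3005), (2227, 3006), (2228, 2951), (2229, 3008), (2230, 3009), (2231, 3010), (2232, 3027), (2233, 1623), (2234, 3013), (2235, 1633), (2236, 1634), (2237, 1635), (2238, 1636), (2239, 2971)]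
    ⟨e3 q2176 L21452 q2176, e3 q2177 L21468 q1590, e3 q2178 L21476 q1591, e3 q2179 L21487 q1592, e3 q2180 L21495 q1593, e3 q2181 L452797 q1674, e3 q2182 (flp_i L30818) q2946, e3 q2183 (flp_i L30825) q2947, e3 q2184 (flp_i L30835) q2948, e3 q2185 L30936 q2960, e3 q2186 (flp_i L30852) q2949, e3 q2187 (flp_i L30864) q2950, e3 q2188 L21627 q2188, e3 q2189 L21642 q1600, e3 q2190 L21650 q1601, e3 q2191 L21662 q1602, e3 q2192 L21679 q1604, e3 q2193 L21688 q1605, e3 q2194 L591061 q1637, e3 q2195 (flp_i L593357) q1687, e3 q2196 (flp_i L31088) q2963, e3 q2197 (flp_i L31099) q2964, e3 q2198 L31232 q2978, e3 q2199 (flp_i L31112) q2965, e3 q2200 (flp_i L31121) q2966, e3 q2201 (flp_i L31133) q2967, e3 q2202 L31283 q2984, e3 q2203 (flp_i L21761) q1603, e3 q2204 (flp_i L31161) q2968, e3 q2205 L21787 q1609, e3 q2206 L21799 q1610, e3 q2207 L21808 q1611, e3 q2208 L21820 q1612, e3 q2209 L21829 q1613, e3 q2210 (flp_i L31303) q2985, e3 q2211 (flp_i L31312) q2986, e3 q2212 (flp_i L31322) q2987, e3 q2213 (flp_i L31333) q2988, e3 q2214 L31444 q3001,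 e3 q2215 (flp_i L31352) q2990, e3 q2216 (flp_i L31362) q2991, e3 q2217 L21907 q1619, e3 q2218 L21915 q1620, e3 q2219 L21923 q1621, e3 q2220 L21932 q1622, e3 q2221 L31545 q3012, e3 q2222 L21950 q1624, e3 q2223 L21962 q1625, e3 q2224 (flp_i L31474) q3003, e3 q2225 (flp_i L31484) q3004, e3 q2226 (flp_i L31492) q3005, e3 q2227 (flp_i L31500) q3006, e3 q2228 L594165 q2951, e3 q2229 (flp_i L31516) q3008, e3 q2230 (flp_i L31524) q3009, e3 q2231 (flp_i L31534) q3010, e3 q2232 L31687 q3027, e3 q2233 (flp_i L22033) q1623, e3 q2234 (flp_i L31565) q3013, e3 q2235 L22060 q1633, e3 q2236 L22071 q1634, e3 q2237 L22079 q1635, e3 q2238 L22088 q1636, e3 q2239 (flp_i L591087) q2971, trivial⟩ (by decide +kernel)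

theorem ce_i_35 : ∀ r, r < 64 → sm gi (Qf (2240 + r)) = Qf (tab Gen.i (2240 + r)) :=
  edges_tab (sm gi) Qf (tab Gen.i) 2240 [(2240, 1638), (2241, 1639), (2242, 1640), (2243, 3041), (2244, 1630), (2245, 1643), (2246, 3028), (2247, 3029), (2248, 3030), (2249, 3031), (2250, 2969), (2251, 3033), (2252, 3034), (2253, 2970), (2254, 3036), (2255, 3037), (2256, 3057), (2257, 3039), (2258, 3059), (2259, 1641), (2260, 1654), (2261, 1655), (2262, 2262), (2263, 1656), (2264, 1657), (2265, 2265), (2266, 1658), (2267, 1659), (2268, 2268), (2269, 1660), (2270, 1661), (2271, 2271), (2272, 1662), (2273, 2273), (2274, 2633), (2275, 3060), (2276, 3061), (2277, 3062), (2278, 3064), (2279, 3065), (2280, 3066), (2281, 3068), (2282, 3070), (2283, 3072), (2284, 3073), (2285, 2285), (2286, 2286), (2287, 2287), (2288, 2288), (2289, 2938), (2290, 2290), (2291, 2291), (2292, 2292), (2293, 3101), (2294, 1667), (2295, 2295), (2296, 2296), (2297, 2297), (2298, 2298), (2299, 2299), (2300, 2703), (2301, 2301), (2302, 2302), (2303, 2952)]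
    ⟨e3 q2240 L22104 q1638, e3 q2241 L22111 q1639, e3 q2242 L22122 q1640, e3 q2243 L31826 q3041, e3 q2244 (flp_i L22132) q1630, e3 q2245 L22150 q1643, e3 q2246 (flp_i L31701) q3028, e3 q2247 (flp_i L31712) q3029, e3 q2248 (flp_i L31732) q3030, e3 q2249 (flp_i L31739) q3031, e3 q2250 L456107 q2969, e3 q2251 (flp_i L31752) q3033, e3 q2252 (flp_i L31763) q3034, e3 q2253 L580479 q2970, e3 q2254 (flp_i L31789) q3036, e3 q2255 (flp_i L31800) q3037, e3 q2256 L32001 q3057, e3 q2257 (flp_i L31816) q3039, e3 q2258 L32019 q3059, e3 q2259 (flp_i L22271) q1641, e3 q2260 L22287 q1654, e3 q2261 L22298 q1655, e3 q2262 L22310 q2262, e3 q2263 L22318 q1656, e3 q2264 L22327 q1657, e3 q2265 L22337 q2265, e3 q2266 L22343 q1658, e3 q2267 L22352 q1659, e3 q2268 L22363 q2268, e3 q2269 L22370 q1660, e3 q2270 L22380 q1661, e3 q2271 L22391 q2271, e3 q2272 L22400 q1662, e3 q2273 L22412 q2273, e3 q2274 L563415 q2633, e3 q2275 (flp_i L32044) q3060, e3 q2276 (flp_i L32063) q3061, e3 q2277 (flp_i L32074) q3062, e3 q2278 (flp_i L32096) q3064, e3 q2279 (flp_i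 L32105) q3065, e3 q2280 (flp_i L32113) q3066, e3 q2281 (flp_i L32138) q3068, e3 q2282 (flp_i L32156) q3070, e3 q2283 (flp_i L32173) q3072, e3 q2284 (flp_i L32184) q3073, e3 q2285 L22516 q2285, e3 q2286 L22527 q2286, e3 q2287 L22536 q2287, e3 q2288 L22546 q2288, e3 q2289 L594530 q2938, e3 q2290 L22561 q2290, e3 q2291 L22570 q2291, e3 q2292 L22581 q2292, e3 q2293 L32450 q3101, e3 q2294 (flp_i L22592) q1667, e3 q2295 L22611 q2295, e3 q2296 L22622 q2296, e3 q2297 L22631 q2297, e3 q2298 L22649 q2298, e3 q2299 L22657 q2299, e3 q2300 L594171 q2703, e3 q2301 L22671 q2301, e3 q2302 L22681 q2302, e3 q2303 L594159 q2952, trivial⟩ (by decide +kernel)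

theorem ce_i_36 : ∀ r, r < 64 → sm gi (Qf (2304 + r)) = Qf (tab Gen.i (2304 + r)) :=
  edges_tab (sm gi) Qf (tab Gen.i) 2304 [(2304, 2304), (2305, 2305), (2306, 3117), (2307, 2307), (2308, 3119), (2309, 1678), (2310, 2310), (2311, 2311), (2312, 2312), (2313, 2313), (2314, 2720), (2315, 2719), (2316, 2316), (2317, 2972), (2318, 3127), (2319, 1690), (2320, 2320), (2321, 2321), (2322, 2322), (2323, 2323), (2324, 2692), (2325, 2325), (2326, 2326), (2327, 2915), (2328, 2328), (2329, 3141), (2330, 3142), (2331, 1701), (2332, 2332), (2333, 2333), (2334, 2334), (2335, 2682), (2336, 2560), (2337, 2926), (2338, 3150), (2339, 1709), (2340, 2569), (2341, 1874), (2342, 3156), (2343, 3157), (2344, 1713), (2345, 1715), (2346, 2346), (2347, 2347), (2348, 1719), (2349, 1720), (2350, 1867), (2351, 3161), (2352, 3162), (2353, 1875), (2354, 2354), (2355, 1722), (2356, 2356), (2357, 2357), (2358, 1729), (2359, 1730), (2360, 1866), (2361, 3171), (2362, 3172), (2363, 3173), (2364, 1876), (2365, 2365), (2366, 2366), (2367, 2367)]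
    ⟨e3 q2304 L22706 q2304, e3 q2305 L22715 q2305, e3 q2306 L32643 q3117, e3 q2307 L22735 q2307, e3 q2308 L32662 q3119, e3 q2309 (flp_i L22745) q1678, e3 q2310 L22769 q2310, e3 q2311 L22789 q2311, e3 q2312 L22818 q2312, e3 q2313 L22826 q2313, e3 q2314 (flp_i L453609) q2720, e3 q2315 (flp_i L593315) q2719, e3 q2316 L22856 q2316, e3 q2317 L580509 q2972, e3 q2318 L32816 q3127, e3 q2319 (flp_i L22883) q1690, e3 q2320 L22899 q2320, e3 q2321 L22911 q2321, e3 q2322 L22931 q2322, e3 q2323 L22942 q2323, e3 q2324 (flp_i L593171) q2692, e3 q2325 L22957 q2325, e3 q2326 L22965 q2326, e3 q2327 L594354 q2915, e3 q2328 L22994 q2328, e3 q2329 L33004 q3141, e3 q2330 L33014 q3142, e3 q2331 (flp_i L23015) q1701, e3 q2332 L23042 q2332, e3 q2333 L23059 q2333, e3 q2334 L23087 q2334, e3 q2335 L594375 q2682, e3 q2336 (flp_i L548669) q2560, e3 q2337 L594369 q2926, e3 q2338 L33168 q3150, e3 q2339 (flp_i L23134) q1709, e3 q2340 (flp_i L574929) q2569, e3 q2341 L557919 q1874, e3 q2342 L33288 q3156, e3 q2343 L33297 q3157, e3 q2344 (flp_i L23219) q1713,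 e3 q2345 (flp_i L23237) q1715, e3 q2346 L23254 q2346, e3 q2347 L23262 q2347, e3 q2348 L23271 q1719, e3 q2349 L23280 q1720, e3 q2350 L597700 q1867, e3 q2351 (flp_i L33376) q3161, e3 q2352 (flp_i L33383) q3162, e3 q2353 (flp_i L558123) q1875, e3 q2354 L411664 q2354, e3 q2355 (flp_i L23346) q1722, e3 q2356 L23379 q2356, e3 q2357 L23397 q2357, e3 q2358 L23414 q1729, e3 q2359 L23422 q1730, e3 q2360 L598057 q1866, e3 q2361 (flp_i L33584) q3171, e3 q2362 (flp_i L33594) q3172, e3 q2363 (flp_i L33604) q3173, e3 q2364 L557605 q1876, e3 q2365 L410396 q2365, e3 q2366 L23556 q2366, e3 q2367 L23581 q2367, trivial⟩ (by decide +kernel)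

theorem ce_i_37 : ∀ r, r < 64 → sm gi (Qf (2368 + r)) = Qf (tab Gen.i (2368 + r)) :=
  edges_tab (sm gi) Qf (tab Gen.i) 2368 [(2368, 1739), (2369, 1740), (2370, 1741), (2371, 1869), (2372, 1854), (2373, 3183), (2374, 2374), (2375, 3184), (2376, 3185), (2377, 2377), (2378, 1746), (2379, 1747), (2380, 1748), (2381, 1780), (2382, 1846), (2383, 3195), (2384, 3198), (2385, 3196), (2386, 3197), (2387, 2387), (2388, 1755), (2389, 1757), (2390, 1758), (2391, 1756), (2392, 1796), (2393, 1787), (2394, 1856), (2395, 3207), (2396, 3208), (2397, 3210), (2398, 3209), (2399, 2399), (2400, 1767), (2401, 1768), (2402, 1770), (2403, 1769), (2404, 1812), (2405, 1814), (2406, 1804), (2407, 1860), (2408, 3219), (2409, 3221), (2410, 3220), (2411, 3222), (2412, 1776), (2413, 1777), (2414, 1778), (2415, 1779), (2416, 3200), (2417, 1781), (2418, 1782), (2419, 3232), (2420, 3233), (2421, 3234), (2422, 3235), (2423, 3236), (2424, 3237), (2425, 3199), (2426, 3239), (2427, 1790), (2428, 1791), (2429, 1792), (2430, 1793), (2431, 1794)]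
    ⟨e3 q2368 L23604 q1739, e3 q2369 L23612 q1740, e3 q2370 L23622 q1741, e3 q2371 L597555 q1869, e3 q2372 L598044 q1854, e3 q2373 (flp_i L33863) q3183, e3 q2374 L412704 q2374, e3 q2375 (flp_i L33876) q3184, e3 q2376 (flp_i L33886) q3185, e3 q2377 L23727 q2377, e3 q2378 L23752 q1746, e3 q2379 L23763 q1747, e3 q2380 L23770 q1748, e3 q2381 (flp_i L598662) q1780, e3 q2382 (flp_i L598668) q1846, e3 q2383 (flp_i L34088) q3195, e3 q2384 (flp_i L587207) q3198, e3 q2385 (flp_i L34102) q3196, e3 q2386 (flp_i L34111) q3197, e3 q2387 L23906 q2387, e3 q2388 L23940 q1755, e3 q2389 L23953 q1757, e3 q2390 L23964 q1758, e3 q2391 (flp_i L598170) q1756, e3 q2392 (flp_i L598656) q1796, e3 q2393 L579272 q1787, e3 q2394 L598529 q1856, e3 q2395 (flp_i L34377) q3207, e3 q2396 (flp_i L34386) q3208, e3 q2397 L600539 q3210, e3 q2398 (flp_i L34411) q3209, e3 q2399 L24160 q2399, e3 q2400 L24216 q1767, e3 q2401 L24226 q1768, e3 q2402 L24248 q1770, e3 q2403 L598258 q1769, e3 q2404 L598242 q1812, e3 q2405 L598523 q1814, e3 q2406 L447747 q1804, e3 q2407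 (flp_i L598475) q1860, e3 q2408 (flp_i L34807) q3219, e3 q2409 L587701 q3221, e3 q2410 (flp_i L34823) q3220, e3 q2411 (flp_i L587433) q3222, e3 q2412 L24377 q1776, e3 q2413 L24386 q1777, e3 q2414 L24397 q1778, e3 q2415 L24406 q1779, e3 q2416 L600628 q3200, e3 q2417 L24421 q1781, e3 q2418 L24430 q1782, e3 q2419 (flp_i L35035) q3232, e3 q2420 (flp_i L35046) q3233, e3 q2421 (flp_i L35066) q3234, e3 q2422 (flp_i L35084) q3235, e3 q2423 (flp_i L35091) q3236, e3 q2424 (flp_i L35099) q3237, e3 q2425 (flp_i L598685) q3199, e3 q2426 (flp_i L35125) q3239, e3 q2427 L24529 q1790, e3 q2428 L24538 q1791, e3 q2429 L24555 q1792, e3 q2430 L24572 q1793, e3 q2431 L24578 q1794, trivial⟩ (by decide +kernel)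

theorem ce_i_38 : ∀ r, r < 64 → sm gi (Qf (2432 + r)) = Qf (tab Gen.i (2432 + r)) :=
  edges_tab (sm gi) Qf (tab Gen.i) 2432 [(2432, 1795), (2433, 3213), (2434, 1797), (2435, 3245), (2436, 3246), (2437, 3247), (2438, 3248), (2439, 3249), (2440, 3250), (2441, 3211), (2442, 3252), (2443, 3212), (2444, 1806), (2445, 1807), (2446, 1808), (2447, 1809), (2448, 1810), (2449, 1811), (2450, 3224), (2451, 1813), (2452, 3226), (2453, 3259), (2454, 3260), (2455, 3261), (2456, 3262), (2457, 3263), (2458, 3264), (2459, 3265), (2460, 3223), (2461, 3225), (2462, 1829), (2463, 1830), (2464, 2464), (2465, 1831), (2466, 1832), (2467, 2467), (2468, 1833), (2469, 1834), (2470, 1835), (2471, 2471), (2472, 2472), (2473, 1836), (2474, 2474), (2475, 1837), (2476, 2476), (2477, 1838), (2478, 1839), (2479, 2479), (2480, 2480), (2481, 2481), (2482, 3273), (2483, 3274), (2484, 3275), (2485, 3277), (2486, 3279), (2487, 3281), (2488, 3282), (2489, 3284), (2490, 3287), (2491, 3288), (2492, 3292), (2493, 2493), (2494, 2494), (2495, 2495)]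
    ⟨e3 q2432 L24586 q1795, e3 q2433 L600623 q3213, e3 q2434 L24611 q1797, e3 q2435 (flp_i L35276) q3245, e3 q2436 (flp_i L35293) q3246, e3 q2437 (flp_i L35315) q3247, e3 q2438 (flp_i L35325) q3248, e3 q2439 (flp_i L35355) q3249, e3 q2440 (flp_i L35362) q3250, e3 q2441 L599439 q3211, e3 q2442 (flp_i L35375) q3252, e3 q2443 L447499 q3212, e3 q2444 L24745 q1806, e3 q2445 L24762 q1807, e3 q2446 L24783 q1808, e3 q2447 L24794 q1809, e3 q2448 L24821 q1810, e3 q2449 L24830 q1811, e3 q2450 L598310 q3224, e3 q2451 L24842 q1813, e3 q2452 L600494 q3226, e3 q2453 (flp_i L35600) q3259, e3 q2454 (flp_i L35611) q3260, e3 q2455 (flp_i L35638) q3261, e3 q2456 (flp_i L35684) q3262, e3 q2457 (flp_i L35700) q3263, e3 q2458 (flp_i L35724) q3264, e3 q2459 (flp_i L35733) q3265, e3 q2460 L560354 q3223, e3 q2461 (flp_i L447556) q3225, e3 q2462 L25036 q1829, e3 q2463 L25047 q1830, e3 q2464 L25058 q2464, e3 q2465 L25064 q1831, e3 q2466 L25073 q1832, e3 q2467 L25084 q2467, e3 q2468 L25092 q1833, e3 q2469 L25101 q1834, e3 q2470 L25110 q1835, e3 q2471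 L25121 q2471, e3 q2472 L25127 q2472, e3 q2473 L25136 q1836, e3 q2474 L25146 q2474, e3 q2475 L25154 q1837, e3 q2476 L25165 q2476, e3 q2477 L25169 q1838, e3 q2478 L25178 q1839, e3 q2479 L25188 q2479, e3 q2480 L25193 q2480, e3 q2481 L25203 q2481, e3 q2482 (flp_i L36017) q3273, e3 q2483 (flp_i L36035) q3274, e3 q2484 (flp_i L36045) q3275, e3 q2485 (flp_i L36073) q3277, e3 q2486 (flp_i L36091) q3279, e3 q2487 (flp_i L36108) q3281, e3 q2488 (flp_i L36118) q3282, e3 q2489 (flp_i L36137) q3284, e3 q2490 (flp_i L36171) q3287, e3 q2491 (flp_i L36181) q3288, e3 q2492 (flp_i L36217) q3292, e3 q2493 L25310 q2493, e3 q2494 L25326 q2494, e3 q2495 L25353 q2495, trivial⟩ (by decide +kernel)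

theorem ce_i_39 : ∀ r, r < 64 → sm gi (Qf (2496 + r)) = Qf (tab Gen.i (2496 + r)) :=
  edges_tab (sm gi) Qf (tab Gen.i) 2496 [(2496, 2496), (2497, 2497), (2498, 2498), (2499, 3175), (2500, 2500), (2501, 3201), (2502, 2502), (2503, 2503), (2504, 2504), (2505, 2505), (2506, 2506), (2507, 2507), (2508, 3189), (2509, 3187), (2510, 3214), (2511, 2511), (2512, 2512), (2513, 2513), (2514, 2514), (2515, 2515), (2516, 3163), (2517, 3174), (2518, 3186), (2519, 2519), (2520, 2520), (2521, 3153), (2522, 3152), (2523, 3167), (2524, 3321), (2525, 1877), (2526, 2526), (2527, 2527), (2528, 2528), (2529, 2529), (2530, 2530), (2531, 2531), (2532, 2532), (2533, 2533), (2534, 2534), (2535, 2535), (2536, 2536), (2537, 2537), (2538, 2538), (2539, 2539), (2540, 2540), (2541, 2541), (2542, 1890), (2543, 3347), (2544, 1892), (2545, 3350), (2546, 3351), (2547, 1894), (2548, 1895), (2549, 3355), (2550, 3356), (2551, 3357), (2552, 1897), (2553, 1898), (2554, 3363), (2555, 3364), (2556, 3365), (2557, 1901), (2558, 1902), (2559, 1903)]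
    ⟨e3 q2496 L25363 q2496, e3 q2497 L25390 q2497, e3 q2498 L25399 q2498, e3 q2499 L447957 q3175, e3 q2500 L25415 q2500, e3 q2501 (flp_i L598692) q3201, e3 q2502 L25463 q2502, e3 q2503 L25473 q2503, e3 q2504 L25499 q2504, e3 q2505 L25547 q2505, e3 q2506 L25565 q2506, e3 q2507 L25588 q2507, e3 q2508 (flp_i L448054) q3189, e3 q2509 L597523 q3187, e3 q2510 L598490 q3214, e3 q2511 L25684 q2511, e3 q2512 L25808 q2512, e3 q2513 L25816 q2513, e3 q2514 L25889 q2514, e3 q2515 L25923 q2515, e3 q2516 L448263 q3163, e3 q2517 (flp_i L448458) q3174, e3 q2518 L597530 q3186, e3 q2519 L26233 q2519, e3 q2520 L26343 q2520, e3 q2521 (flp_i L557884) q3153, e3 q2522 (flp_i L495721) q3152, e3 q2523 L495352 q3167, e3 q2524 L38300 q3321, e3 q2525 (flp_i L26711) q1877, e3 q2526 L26732 q2526, e3 q2527 L26739 q2527, e3 q2528 L26750 q2528, e3 q2529 L26759 q2529, e3 q2530 L26770 q2530, e3 q2531 L26779 q2531, e3 q2532 L26788 q2532, e3 q2533 L26799 q2533, e3 q2534 L26808 q2534, e3 q2535 L26819 q2535, e3 q2536 L26827 q2536, e3 q2537 L26836 q2537, e3 q2538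 L26846 q2538, e3 q2539 L26851 q2539, e3 q2540 L26862 q2540, e3 q2541 L26872 q2541, e3 q2542 L26884 q1890, e3 q2543 (flp_i L38554) q3347, e3 q2544 L26902 q1892, e3 q2545 (flp_i L38582) q3350, e3 q2546 (flp_i L38593) q3351, e3 q2547 L26928 q1894, e3 q2548 L26938 q1895, e3 q2549 (flp_i L38629) q3355, e3 q2550 (flp_i L38639) q3356, e3 q2551 (flp_i L38647) q3357, e3 q2552 L26969 q1897, e3 q2553 L26981 q1898, e3 q2554 (flp_i L38696) q3363, e3 q2555 (flp_i L38708) q3364, e3 q2556 (flp_i L38719) q3365, e3 q2557 L27016 q1901, e3 q2558 L27027 q1902, e3 q2559 L27036 q1903, trivial⟩ (by decide +kernel)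

theorem ce_i_40 : ∀ r, r < 64 → sm gi (Qf (2560 + r)) = Qf (tab Gen.i (2560 + r)) :=
  edges_tab (sm gi) Qf (tab Gen.i) 2560 [(2560, 2336), (2561, 3371), (2562, 3372), (2563, 3373), (2564, 3374), (2565, 1908), (2566, 1909), (2567, 1910), (2568, 1911), (2569, 2340), (2570, 3382), (2571, 3383), (2572, 3384), (2573, 3397), (2574, 3386), (2575, 3387), (2576, 2576), (2577, 2577), (2578, 1915), (2579, 1916), (2580, 1917), (2581, 3402), (2582, 3403), (2583, 3404), (2584, 3405), (2585, 3406), (2586, 2586), (2587, 2587), (2588, 2588), (2589, 1923), (2590, 1924), (2591, 1925), (2592, 1926), (2593, 1927), (2594, 3419), (2595, 3420), (2596, 3421), (2597, 3422), (2598, 3435), (2599, 3424), (2600, 3425), (2601, 2601), (2602, 2602), (2603, 2603), (2604, 2604), (2605, 2605), (2606, 1936), (2607, 1937), (2608, 1938), (2609, 1939), (2610, 3453), (2611, 1941), (2612, 1942), (2613, 3444), (2614, 3445), (2615, 3446), (2616, 3447), (2617, 3464), (2618, 3449), (2619, 3450), (2620, 3451), (2621, 3470), (2622, 1940), (2623, 3454)]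
    ⟨e3 q2560 L548669 q2336, e3 q2561 (flp_i L38781) q3371, e3 q2562 (flp_i L38788) q3372, e3 q2563 (flp_i L38800) q3373, e3 q2564 (flp_i L38809) q3374, e3 q2565 L27093 q1908, e3 q2566 L27099 q1909, e3 q2567 L27112 q1910, e3 q2568 L27123 q1911, e3 q2569 L574929 q2340, e3 q2570 (flp_i L38880) q3382, e3 q2571 (flp_i L38891) q3383, e3 q2572 (flp_i L38902) q3384, e3 q2573 L39001 q3397, e3 q2574 (flp_i L38920) q3386, e3 q2575 (flp_i L38930) q3387, e3 q2576 L27185 q2576, e3 q2577 L27196 q2577, e3 q2578 L27206 q1915, e3 q2579 L27217 q1916, e3 q2580 L27225 q1917, e3 q2581 (flp_i L39058) q3402, e3 q2582 (flp_i L39069) q3403, e3 q2583 (flp_i L39077) q3404, e3 q2584 (flp_i L39088) q3405, e3 q2585 (flp_i L39096) q3406, e3 q2586 L27280 q2586, e3 q2587 L27291 q2587, e3 q2588 L27299 q2588, e3 q2589 L27309 q1923, e3 q2590 L27319 q1924, e3 q2591 L27326 q1925, e3 q2592 L27335 q1926, e3 q2593 L27343 q1927, e3 q2594 (flp_i L39217) q3419, e3 q2595 (flp_i L39225) q3420, e3 q2596 (flp_i L39234) q3421, e3 q2597 (flp_i L39242) q3422, e3 q2598 L39337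 q3435, e3 q2599 (flp_i L39257) q3424, e3 q2600 (flp_i L39268) q3425, e3 q2601 L27410 q2601, e3 q2602 L27420 q2602, e3 q2603 L27425 q2603, e3 q2604 L27436 q2604, e3 q2605 L27448 q2605, e3 q2606 L27456 q1936, e3 q2607 L27463 q1937, e3 q2608 L27473 q1938, e3 q2609 L27483 q1939, e3 q2610 L39496 q3453, e3 q2611 L27498 q1941, e3 q2612 L27506 q1942, e3 q2613 (flp_i L39425) q3444, e3 q2614 (flp_i L39436) q3445, e3 q2615 (flp_i L39445) q3446, e3 q2616 (flp_i L39455) q3447, e3 q2617 L39584 q3464, e3 q2618 (flp_i L39471) q3449, e3 q2619 (flp_i L39477) q3450, e3 q2620 (flp_i L39488) q3451, e3 q2621 L39628 q3470, e3 q2622 (flp_i L27576) q1940, e3 q2623 (flp_i L39511) q3454, trivial⟩ (by decide +kernel)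

theorem ce_i_41 : ∀ r, r < 64 → sm gi (Qf (2624 + r)) = Qf (tab Gen.i (2624 + r)) :=
  edges_tab (sm gi) Qf (tab Gen.i) 2624 [(2624, 2624), (2625, 2625), (2626, 2626), (2627, 2627), (2628, 2628), (2629, 2629), (2630, 2630), (2631, 2631), (2632, 2632), (2633, 2274), (2634, 2634), (2635, 2635), (2636, 1958), (2637, 1959), (2638, 1960), (2639, 1961), (2640, 2063), (2641, 1963), (2642, 1964), (2643, 1965), (2644, 3493), (2645, 1955), (2646, 1968), (2647, 2056), (2648, 3482), (2649, 2068), (2650, 3483), (2651, 3484), (2652, 2065), (2653, 3485), (2654, 3486), (2655, 3506), (2656, 1962), (2657, 3488), (2658, 3489), (2659, 3511), (2660, 3491), (2661, 3513), (2662, 1966), (2663, 3514), (2664, 1969), (2665, 2665), (2666, 1972), (2667, 3517), (2668, 3518), (2669, 2669), (2670, 2670), (2671, 1976), (2672, 1977), (2673, 3525), (2674, 3526), (2675, 3527), (2676, 2676), (2677, 2677), (2678, 2678), (2679, 1982), (2680, 1983), (2681, 1984), (2682, 2335), (2683, 3537), (2684, 3538), (2685, 3539), (2686, 3540), (2687, 2687)]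
    ⟨e3 q2624 L27600 q2624, e3 q2625 L27610 q2625, e3 q2626 L27616 q2626, e3 q2627 L27627 q2627, e3 q2628 L27637 q2628, e3 q2629 L27649 q2629, e3 q2630 L27656 q2630, e3 q2631 L27666 q2631, e3 q2632 L27673 q2632, e3 q2633 (flp_i L563415) q2274, e3 q2634 L27689 q2634, e3 q2635 L27698 q2635, e3 q2636 L27707 q1958, e3 q2637 L27718 q1959, e3 q2638 L27726 q1960, e3 q2639 L27737 q1961, e3 q2640 (flp_i L563423) q2063, e3 q2641 L27752 q1963, e3 q2642 L27760 q1964, e3 q2643 L27770 q1965, e3 q2644 L39927 q3493, e3 q2645 (flp_i L27780) q1955, e3 q2646 L27796 q1968, e3 q2647 L536705 q2056, e3 q2648 (flp_i L39811) q3482, e3 q2649 (flp_i L524343) q2068, e3 q2650 (flp_i L39828) q3483, e3 q2651 (flp_i L39838) q3484, e3 q2652 L524331 q2065, e3 q2653 (flp_i L39854) q3485, e3 q2654 (flp_i L39864) q3486, e3 q2655 L40078 q3506, e3 q2656 (flp_i L27872) q1962, e3 q2657 (flp_i L39890) q3488, e3 q2658 (flp_i L39899) q3489, e3 q2659 L40115 q3511, e3 q2660 (flp_i L39917) q3491, e3 q2661 L40133 q3513, e3 q2662 (flp_i L27920) q1966, e3 q2663 L40141 q3514,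 e3 q2664 (flp_i L27939) q1969, e3 q2665 L27961 q2665, e3 q2666 L27971 q1972, e3 q2667 (flp_i L40184) q3517, e3 q2668 (flp_i L40194) q3518, e3 q2669 L28002 q2669, e3 q2670 L28012 q2670, e3 q2671 L28022 q1976, e3 q2672 L28031 q1977, e3 q2673 (flp_i L40261) q3525, e3 q2674 (flp_i L40272) q3526, e3 q2675 (flp_i L40282) q3527, e3 q2676 L28069 q2676, e3 q2677 L28079 q2677, e3 q2678 L28089 q2678, e3 q2679 L28095 q1982, e3 q2680 L28105 q1983, e3 q2681 L28113 q1984, e3 q2682 (flp_i L594375) q2335, e3 q2683 (flp_i L40395) q3537, e3 q2684 (flp_i L40401) q3538, e3 q2685 (flp_i L40409) q3539, e3 q2686 (flp_i L40421) q3540, e3 q2687 L28165 q2687, trivial⟩ (by decide +kernel)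

theorem ce_i_42 : ∀ r, r < 64 → sm gi (Qf (2688 + r)) = Qf (tab Gen.i (2688 + r)) :=
  edges_tab (sm gi) Qf (tab Gen.i) 2688 [(2688, 2688), (2689, 1988), (2690, 1989), (2691, 1990), (2692, 2324), (2693, 3550), (2694, 3551), (2695, 3552), (2696, 3553), (2697, 2697), (2698, 2698), (2699, 1997), (2700, 1998), (2701, 1999), (2702, 2000), (2703, 2300), (2704, 3564), (2705, 3565), (2706, 3566), (2707, 3579), (2708, 3568), (2709, 3569), (2710, 2710), (2711, 2711), (2712, 2712), (2713, 2008), (2714, 2009), (2715, 2010), (2716, 3592), (2717, 2012), (2718, 2013), (2719, 2315), (2720, 2314), (2721, 3585), (2722, 3586), (2723, 3603), (2724, 3588), (2725, 3589), (2726, 3590), (2727, 3609), (2728, 2011), (2729, 3593), (2730, 2017), (2731, 2018), (2732, 2019), (2733, 2020), (2734, 2021), (2735, 3610), (2736, 3611), (2737, 3612), (2738, 3613), (2739, 3626), (2740, 3615), (2741, 3616), (2742, 2027), (2743, 2028), (2744, 2029), (2745, 2030), (2746, 3637), (2747, 2032), (2748, 2033), (2749, 3628), (2750, 3629), (2751, 3630)]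
    ⟨e3 q2688 L28177 q2688, e3 q2689 L28184 q1988, e3 q2690 L28196 q1989, e3 q2691 L28207 q1990, e3 q2692 L593171 q2324, e3 q2693 (flp_i L40530) q3550, e3 q2694 (flp_i L40538) q3551, e3 q2695 (flp_i L40549) q3552, e3 q2696 (flp_i L40558) q3553, e3 q2697 L28272 q2697, e3 q2698 L28281 q2698, e3 q2699 L28299 q1997, e3 q2700 L28306 q1998, e3 q2701 L28315 q1999, e3 q2702 L28324 q2000, e3 q2703 (flp_i L594171) q2300, e3 q2704 (flp_i L40690) q3564, e3 q2705 (flp_i L40698) q3565, e3 q2706 (flp_i L40707) q3566, e3 q2707 L40803 q3579, e3 q2708 (flp_i L40721) q3568, e3 q2709 (flp_i L40734) q3569, e3 q2710 L28409 q2710, e3 q2711 L28420 q2711, e3 q2712 L28431 q2712, e3 q2713 L28447 q2008, e3 q2714 L28456 q2009, e3 q2715 L28467 q2010, e3 q2716 L40961 q3592, e3 q2717 L28481 q2012, e3 q2718 L28491 q2013, e3 q2719 L593315 q2315, e3 q2720 L453609 q2314, e3 q2721 (flp_i L40906) q3585, e3 q2722 (flp_i L40919) q3586, e3 q2723 L41045 q3603, e3 q2724 (flp_i L40933) q3588, e3 q2725 (flp_i L40941) q3589, e3 q2726 (flp_i L40951) q3590, e3 q2727 L41092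 q3609, e3 q2728 (flp_i L28561) q2011, e3 q2729 (flp_i L40975) q3593, e3 q2730 L28585 q2017, e3 q2731 L28598 q2018, e3 q2732 L28606 q2019, e3 q2733 L28616 q2020, e3 q2734 L28626 q2021, e3 q2735 (flp_i L41112) q3610, e3 q2736 (flp_i L41121) q3611, e3 q2737 (flp_i L41132) q3612, e3 q2738 (flp_i L41142) q3613, e3 q2739 L41248 q3626, e3 q2740 (flp_i L41158) q3615, e3 q2741 (flp_i L41169) q3616, e3 q2742 L28704 q2027, e3 q2743 L28712 q2028, e3 q2744 L28721 q2029, e3 q2745 L28729 q2030, e3 q2746 L41343 q3637, e3 q2747 L28744 q2032, e3 q2748 L28757 q2033, e3 q2749 (flp_i L41274) q3628, e3 q2750 (flp_i L41284) q3629, e3 q2751 (flp_i L41291) q3630, trivial⟩ (by decide +kernel)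

theorem ce_i_43 : ∀ r, r < 64 → sm gi (Qf (2752 + r)) = Qf (tab Gen.i (2752 + r)) :=
  edges_tab (sm gi) Qf (tab Gen.i) 2752 [(2752, 3631), (2753, 3648), (2754, 3633), (2755, 3634), (2756, 3635), (2757, 3654), (2758, 2031), (2759, 3638), (2760, 2041), (2761, 2042), (2762, 2043), (2763, 2044), (2764, 3664), (2765, 2046), (2766, 2047), (2767, 2048), (2768, 3670), (2769, 2038), (2770, 2051), (2771, 3655), (2772, 3656), (2773, 3677), (2774, 3658), (2775, 3659), (2776, 3683), (2777, 3661), (2778, 3662), (2779, 3688), (2780, 2045), (2781, 3665), (2782, 3666), (2783, 3693), (2784, 3668), (2785, 3695), (2786, 2049), (2787, 2064), (2788, 2066), (2789, 2067), (2790, 2069), (2791, 2070), (2792, 3494), (2793, 2073), (2794, 2074), (2795, 3709), (2796, 2076), (2797, 3711), (2798, 2060), (2799, 3487), (2800, 3696), (2801, 3697), (2802, 3501), (2803, 3698), (2804, 3699), (2805, 3700), (2806, 3497), (2807, 3701), (2808, 3727), (2809, 3703), (2810, 3729), (2811, 2071), (2812, 3705), (2813, 3706), (2814, 3734), (2815, 3736)]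
    ⟨e3 q2752 (flp_i L41301) q3631, e3 q2753 L41431 q3648, e3 q2754 (flp_i L41318) q3633, e3 q2755 (flp_i L41325) q3634, e3 q2756 (flp_i L41333) q3635, e3 q2757 L41477 q3654, e3 q2758 (flp_i L28825) q2031, e3 q2759 (flp_i L41360) q3638, e3 q2760 L28848 q2041, e3 q2761 L28859 q2042, e3 q2762 L28866 q2043, e3 q2763 L28877 q2044, e3 q2764 L41561 q3664, e3 q2765 L28894 q2046, e3 q2766 L28900 q2047, e3 q2767 L28909 q2048, e3 q2768 L41610 q3670, e3 q2769 (flp_i L28918) q2038, e3 q2770 L28933 q2051, e3 q2771 (flp_i L41489) q3655, e3 q2772 (flp_i L41501) q3656, e3 q2773 L41666 q3677, e3 q2774 (flp_i L41520) q3658, e3 q2775 (flp_i L41529) q3659, e3 q2776 L41711 q3683, e3 q2777 (flp_i L41541) q3661, e3 q2778 (flp_i L41551) q3662, e3 q2779 L41746 q3688, e3 q2780 (flp_i L29004) q2045, e3 q2781 (flp_i L41578) q3665, e3 q2782 (flp_i L41588) q3666, e3 q2783 L41783 q3693, e3 q2784 (flp_i L41601) q3668, e3 q2785 L41797 q3695, e3 q2786 (flp_i L29048) q2049, e3 q2787 L29074 q2064, e3 q2788 L29092 q2066, e3 q2789 L29103 q2067, e3 q2790 L29117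 q2069, e3 q2791 L29125 q2070, e3 q2792 (flp_i L563517) q3494, e3 q2793 L29153 q2073, e3 q2794 L29162 q2074, e3 q2795 L41997 q3709, e3 q2796 L29178 q2076, e3 q2797 L42015 q3711, e3 q2798 (flp_i L29189) q2060, e3 q2799 (flp_i L563378) q3487, e3 q2800 (flp_i L41839) q3696, e3 q2801 (flp_i L41848) q3697, e3 q2802 (flp_i L545986) q3501, e3 q2803 (flp_i L41879) q3698, e3 q2804 (flp_i L41888) q3699, e3 q2805 (flp_i L41897) q3700, e3 q2806 (flp_i L524293) q3497, e3 q2807 (flp_i L41931) q3701, e3 q2808 L42197 q3727, e3 q2809 (flp_i L41947) q3703, e3 q2810 L42214 q3729, e3 q2811 (flp_i L29330) q2071, e3 q2812 (flp_i L41972) q3705, e3 q2813 (flp_i L41981) q3706, e3 q2814 L42253 q3734, e3 q2815 L42268 q3736, trivial⟩ (by decide +kernel)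

theorem ce_i_44 : ∀ r, r < 64 → sm gi (Qf (2816 + r)) = Qf (tab Gen.i (2816 + r)) :=
  edges_tab (sm gi) Qf (tab Gen.i) 2816 [(2816, 2075), (2817, 3737), (2818, 2077), (2819, 2819), (2820, 2820), (2821, 2821), (2822, 2822), (2823, 3747), (2824, 2824), (2825, 2825), (2826, 2826), (2827, 3753), (2828, 2083), (2829, 2829), (2830, 2830), (2831, 2831), (2832, 3759), (2833, 2833), (2834, 2834), (2835, 3765), (2836, 2836), (2837, 2837), (2838, 3770), (2839, 2090), (2840, 2840), (2841, 2841), (2842, 3775), (2843, 2843), (2844, 3777), (2845, 2094), (2846, 2846), (2847, 3781), (2848, 2848), (2849, 2849), (2850, 3786), (2851, 2099), (2852, 2852), (2853, 2853), (2854, 2854), (2855, 3792), (2856, 3794), (2857, 2102), (2858, 2858), (2859, 3799), (2860, 2860), (2861, 3801), (2862, 2105), (2863, 2863), (2864, 2864), (2865, 3806), (2866, 3808), (2867, 2109), (2868, 3809), (2869, 2111), (2870, 2870), (2871, 3814), (2872, 2872), (2873, 3816), (2874, 2115), (2875, 2875), (2876, 2876), (2877, 3821), (2878, 3823), (2879, 2119)]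
    ⟨e3 q2816 (flp_i L29365) q2075, e3 q2817 L42276 q3737, e3 q2818 (flp_i L29382) q2077, e3 q2819 L29399 q2819, e3 q2820 L29410 q2820, e3 q2821 L29418 q2821, e3 q2822 L29430 q2822, e3 q2823 L42370 q3747, e3 q2824 L29446 q2824, e3 q2825 L29454 q2825, e3 q2826 L29463 q2826, e3 q2827 L42424 q3753, e3 q2828 (flp_i L29473) q2083, e3 q2829 L29489 q2829, e3 q2830 L29499 q2830, e3 q2831 L29509 q2831, e3 q2832 L42486 q3759, e3 q2833 L29526 q2833, e3 q2834 L29536 q2834, e3 q2835 L42537 q3765, e3 q2836 L29549 q2836, e3 q2837 L29558 q2837, e3 q2838 L42578 q3770, e3 q2839 (flp_i L29567) q2090, e3 q2840 L29584 q2840, e3 q2841 L29592 q2841, e3 q2842 L42615 q3775, e3 q2843 L29608 q2843, e3 q2844 L42631 q3777, e3 q2845 (flp_i L29617) q2094, e3 q2846 L29642 q2846, e3 q2847 L42693 q3781, e3 q2848 L29657 q2848, e3 q2849 L29668 q2849, e3 q2850 L42737 q3786, e3 q2851 (flp_i L29677) q2099, e3 q2852 L29694 q2852, e3 q2853 L29702 q2853, e3 q2854 L29712 q2854, e3 q2855 L42788 q3792, e3 q2856 L42804 q3794, e3 q2857 (flp_i L29727) q2102, e3 q2858 L29743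 q2858, e3 q2859 L42844 q3799, e3 q2860 L29758 q2860, e3 q2861 L42860 q3801, e3 q2862 (flp_i L29766) q2105, e3 q2863 L29780 q2863, e3 q2864 L29790 q2864, e3 q2865 L42899 q3806, e3 q2866 L42916 q3808, e3 q2867 (flp_i L29807) q2109, e3 q2868 L42923 q3809, e3 q2869 (flp_i L29823) q2111, e3 q2870 L29838 q2870, e3 q2871 L42967 q3814, e3 q2872 L29858 q2872, e3 q2873 L42988 q3816, e3 q2874 (flp_i L29869) q2115, e3 q2875 L29884 q2875, e3 q2876 L29894 q2876, e3 q2877 L43032 q3821, e3 q2878 L43047 q3823, e3 q2879 (flp_i L29911) q2119, trivial⟩ (by decide +kernel)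

theorem ce_i_45 : ∀ r, r < 64 → sm gi (Qf (2880 + r)) = Qf (tab Gen.i (2880 + r)) :=
  edges_tab (sm gi) Qf (tab Gen.i) 2880 [(2880, 3824), (2881, 2121), (2882, 2882), (2883, 3828), (2884, 3830), (2885, 3832), (2886, 2125), (2887, 3834), (2888, 2126), (2889, 2128), (2890, 2890), (2891, 2133), (2892, 2132), (2893, 2131), (2894, 3826), (2895, 3838), (2896, 2135), (2897, 3841), (2898, 3842), (2899, 2138), (2900, 2140), (2901, 2901), (2902, 2902), (2903, 2144), (2904, 2145), (2905, 3846), (2906, 3847), (2907, 3848), (2908, 2908), (2909, 2146), (2910, 2910), (2911, 2911), (2912, 2152), (2913, 2153), (2914, 2154), (2915, 2327), (2916, 3856), (2917, 3857), (2918, 3858), (2919, 3859), (2920, 2920), (2921, 2921), (2922, 2163), (2923, 2164), (2924, 2165), (2925, 2166), (2926, 2337), (2927, 3869), (2928, 3870), (2929, 3871), (2930, 2930), (2931, 3872), (2932, 3873), (2933, 2933), (2934, 2172), (2935, 2173), (2936, 2174), (2937, 2175), (2938, 2289), (2939, 3885), (2940, 3886), (2941, 3887), (2942, 3899), (2943, 3888)]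
    ⟨e3 q2880 L43055 q3824, e3 q2881 (flp_i L29930) q2121, e3 q2882 L29947 q2882, e3 q2883 L43090 q3828, e3 q2884 L43106 q3830, e3 q2885 L43124 q3832, e3 q2886 (flp_i L29972) q2125, e3 q2887 L43137 q3834, e3 q2888 (flp_i L29989) q2126, e3 q2889 (flp_i L29996) q2128, e3 q2890 L30012 q2890, e3 q2891 L630239 q2133, e3 q2892 (flp_i L630113) q2132, e3 q2893 (flp_i L30032) q2131, e3 q2894 L647549 q3826, e3 q2895 L43254 q3838, e3 q2896 (flp_i L30083) q2135, e3 q2897 L43292 q3841, e3 q2898 L43304 q3842, e3 q2899 (flp_i L30121) q2138, e3 q2900 (flp_i L30145) q2140, e3 q2901 L30164 q2901, e3 q2902 L30173 q2902, e3 q2903 L30184 q2144, e3 q2904 L30194 q2145, e3 q2905 (flp_i L43387) q3846, e3 q2906 (flp_i L43398) q3847, e3 q2907 (flp_i L43406) q3848, e3 q2908 L411644 q2908, e3 q2909 (flp_i L30234) q2146, e3 q2910 L30277 q2910, e3 q2911 L30298 q2911, e3 q2912 L30306 q2152, e3 q2913 L30316 q2153, e3 q2914 L30325 q2154, e3 q2915 (flp_i L594354) q2327, e3 q2916 (flp_i L43572) q3856, e3 q2917 (flp_i L43580) q3857, e3 q2918 (flp_i L43592) q3858,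 e3 q2919 (flp_i L43603) q3859, e3 q2920 L30433 q2920, e3 q2921 L30460 q2921, e3 q2922 L30478 q2163, e3 q2923 L30485 q2164, e3 q2924 L30495 q2165, e3 q2925 L30506 q2166, e3 q2926 (flp_i L594369) q2337, e3 q2927 (flp_i L43816) q3869, e3 q2928 (flp_i L43823) q3870, e3 q2929 (flp_i L43834) q3871, e3 q2930 L412715 q2930, e3 q2931 (flp_i L43851) q3872, e3 q2932 (flp_i L43862) q3873, e3 q2933 L30615 q2933, e3 q2934 L30633 q2172, e3 q2935 L30642 q2173, e3 q2936 L30655 q2174, e3 q2937 L30663 q2175, e3 q2938 (flp_i L594530) q2289, e3 q2939 (flp_i L44047) q3885, e3 q2940 (flp_i L44056) q3886, e3 q2941 (flp_i L44068) q3887, e3 q2942 L44179 q3899, e3 q2943 (flp_i L44086) q3888, trivial⟩ (by decide +kernel)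

theorem ce_i_46 : ∀ r, r < 64 → sm gi (Qf (2944 + r)) = Qf (tab Gen.i (2944 + r)) :=
  edges_tab (sm gi) Qf (tab Gen.i) 2944 [(2944, 3889), (2945, 2945), (2946, 2182), (2947, 2183), (2948, 2184), (2949, 2186), (2950, 2187), (2951, 2228), (2952, 2303), (2953, 3902), (2954, 3903), (2955, 3917), (2956, 3904), (2957, 3905), (2958, 3906), (2959, 3923), (2960, 2185), (2961, 3907), (2962, 2962), (2963, 2196), (2964, 2197), (2965, 2199), (2966, 2200), (2967, 2201), (2968, 2204), (2969, 2250), (2970, 2253), (2971, 2239), (2972, 2317), (2973, 3924), (2974, 3930), (2975, 3925), (2976, 3926), (2977, 3945), (2978, 2198), (2979, 3927), (2980, 3928), (2981, 3950), (2982, 3929), (2983, 3952), (2984, 2202), (2985, 2210), (2986, 2211), (2987, 2212), (2988, 2213), (2989, 3962), (2990, 2215), (2991, 2216), (2992, 3953), (2993, 3954), (2994, 3955), (2995, 3956), (2996, 3890), (2997, 3958), (2998, 3959), (2999, 3960), (3000, 3973), (3001, 2214), (3002, 3963), (3003, 2224), (3004, 2225), (3005, 2226), (3006, 2227), (3007, 3910)]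
    ⟨e3 q2944 (flp_i L44096) q3889, e3 q2945 L30799 q2945, e3 q2946 L30818 q2182, e3 q2947 L30825 q2183, e3 q2948 L30835 q2184, e3 q2949 L30852 q2186, e3 q2950 L30864 q2187, e3 q2951 (flp_i L594165) q2228, e3 q2952 (flp_i L594159) q2303, e3 q2953 (flp_i L44335) q3902, e3 q2954 (flp_i L44345) q3903, e3 q2955 L44481 q3917, e3 q2956 (flp_i L44358) q3904, e3 q2957 (flp_i L44368) q3905, e3 q2958 (flp_i L44379) q3906, e3 q2959 L44534 q3923, e3 q2960 (flp_i L30936) q2185, e3 q2961 (flp_i L44410) q3907, e3 q2962 L31062 q2962, e3 q2963 L31088 q2196, e3 q2964 L31099 q2197, e3 q2965 L31112 q2199, e3 q2966 L31121 q2200, e3 q2967 L31133 q2201, e3 q2968 L31161 q2204, e3 q2969 (flp_i L456107) q2250, e3 q2970 (flp_i L580479) q2253, e3 q2971 L591087 q2239, e3 q2972 (flp_i L580509) q2317, e3 q2973 (flp_i L44743) q3924, e3 q2974 (flp_i L591068) q3930, e3 q2975 (flp_i L44758) q3925, e3 q2976 (flp_i L44768) q3926, e3 q2977 L44978 q3945, e3 q2978 (flp_i L31232) q2198, e3 q2979 (flp_i L44790) q3927, e3 q2980 (flp_i L44802) q3928, e3 q2981 L45023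 q3950, e3 q2982 (flp_i L44822) q3929, e3 q2983 L45043 q3952, e3 q2984 (flp_i L31283) q2202, e3 q2985 L31303 q2210, e3 q2986 L31312 q2211, e3 q2987 L31322 q2212, e3 q2988 L31333 q2213, e3 q2989 L45140 q3962, e3 q2990 L31352 q2215, e3 q2991 L31362 q2216, e3 q2992 (flp_i L45061) q3953, e3 q2993 (flp_i L45073) q3954, e3 q2994 (flp_i L45082) q3955, e3 q2995 (flp_i L45092) q3956, e3 q2996 (flp_i L594110) q3890, e3 q2997 (flp_i L45109) q3958, e3 q2998 (flp_i L45118) q3959, e3 q2999 (flp_i L45128) q3960, e3 q3000 L45297 q3973, e3 q3001 (flp_i L31444) q2214, e3 q3002 (flp_i L45160) q3963, e3 q3003 L31474 q2224, e3 q3004 L31484 q2225, e3 q3005 L31492 q2226, e3 q3006 L31500 q2227, e3 q3007 L601117 q3910, trivial⟩ (by decide +kernel)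

theorem ce_i_47 : ∀ r, r < 64 → sm gi (Qf (3008 + r)) = Qf (tab Gen.i (3008 + r)) :=
  edges_tab (sm gi) Qf (tab Gen.i) 3008 [(3008, 2229), (3009, 2230), (3010, 2231), (3011, 3987), (3012, 2221), (3013, 2234), (3014, 3974), (3015, 3975), (3016, 3976), (3017, 3977), (3018, 3908), (3019, 3979), (3020, 3980), (3021, 3909), (3022, 3982), (3023, 3983), (3024, 4000), (3025, 3985), (3026, 4001), (3027, 2232), (3028, 2246), (3029, 2247), (3030, 2248), (3031, 2249), (3032, 3932), (3033, 2251), (3034, 2252), (3035, 3935), (3036, 2254), (3037, 2255), (3038, 4017), (3039, 2257), (3040, 4019), (3041, 2243), (3042, 4002), (3043, 4003), (3044, 4004), (3045, 4005), (3046, 4006), (3047, 4007), (3048, 3931), (3049, 3594), (3050, 4009), (3051, 3933), (3052, 4011), (3053, 3934), (3054, 4013), (3055, 4014), (3056, 4035), (3057, 2256), (3058, 4036), (3059, 2258), (3060, 2275), (3061, 2276), (3062, 2277), (3063, 3063), (3064, 2278), (3065, 2279), (3066, 2280), (3067, 3067), (3068, 2281), (3069, 3069), (3070, 2282), (3071, 3071)]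
    ⟨e3 q3008 L31516 q2229, e3 q3009 L31524 q2230, e3 q3010 L31534 q2231, e3 q3011 L45441 q3987, e3 q3012 (flp_i L31545) q2221, e3 q3013 L31565 q2234, e3 q3014 (flp_i L45314) q3974, e3 q3015 (flp_i L45324) q3975, e3 q3016 (flp_i L45344) q3976, e3 q3017 (flp_i L45352) q3977, e3 q3018 (flp_i L591344) q3908, e3 q3019 (flp_i L45365) q3979, e3 q3020 (flp_i L45375) q3980, e3 q3021 (flp_i L591363) q3909, e3 q3022 (flp_i L45404) q3982, e3 q3023 (flp_i L45413) q3983, e3 q3024 L45623 q4000, e3 q3025 (flp_i L45430) q3985, e3 q3026 L45640 q4001, e3 q3027 (flp_i L31687) q2232, e3 q3028 L31701 q2246, e3 q3029 L31712 q2247, e3 q3030 L31732 q2248, e3 q3031 L31739 q2249, e3 q3032 L591122 q3932, e3 q3033 L31752 q2251, e3 q3034 L31763 q2252, e3 q3035 L590807 q3935, e3 q3036 L31789 q2254, e3 q3037 L31800 q2255, e3 q3038 L45844 q4017, e3 q3039 L31816 q2257, e3 q3040 L45862 q4019, e3 q3041 (flp_i L31826) q2243, e3 q3042 (flp_i L45665) q4002, e3 q3043 (flp_i L45682) q4003, e3 q3044 (flp_i L45695) q4004, e3 q3045 (flp_i L45727) q4005, e3 q3046 (flp_i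 L45735) q4006, e3 q3047 (flp_i L45742) q4007, e3 q3048 (flp_i L591047) q3931, e3 q3049 (flp_i L591052) q3594, e3 q3050 (flp_i L45771) q4009, e3 q3051 L580386 q3933, e3 q3052 (flp_i L45787) q4011, e3 q3053 (flp_i L468958) q3934, e3 q3054 (flp_i L45813) q4013, e3 q3055 (flp_i L45824) q4014, e3 q3056 L46110 q4035, e3 q3057 (flp_i L32001) q2256, e3 q3058 L46119 q4036, e3 q3059 (flp_i L32019) q2258, e3 q3060 L32044 q2275, e3 q3061 L32063 q2276, e3 q3062 L32074 q2277, e3 q3063 L32087 q3063, e3 q3064 L32096 q2278, e3 q3065 L32105 q2279, e3 q3066 L32113 q2280, e3 q3067 L32124 q3067, e3 q3068 L32138 q2281, e3 q3069 L32148 q3069, e3 q3070 L32156 q2282, e3 q3071 L32167 q3071, trivial⟩ (by decide +kernel)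

theorem ce_i_48 : ∀ r, r < 64 → sm gi (Qf (3072 + r)) = Qf (tab Gen.i (3072 + r)) :=
  edges_tab (sm gi) Qf (tab Gen.i) 3072 [(3072, 2283), (3073, 2284), (3074, 3074), (3075, 3075), (3076, 3076), (3077, 3480), (3078, 4037), (3079, 4038), (3080, 4039), (3081, 4041), (3082, 4043), (3083, 4044), (3084, 4046), (3085, 4048), (3086, 4049), (3087, 4053), (3088, 3088), (3089, 3089), (3090, 3090), (3091, 3091), (3092, 3554), (3093, 3093), (3094, 3094), (3095, 3891), (3096, 3096), (3097, 3097), (3098, 4082), (3099, 3099), (3100, 4083), (3101, 2293), (3102, 3102), (3103, 3103), (3104, 3104), (3105, 3105), (3106, 3106), (3107, 3107), (3108, 3571), (3109, 3570), (3110, 3110), (3111, 3875), (3112, 3112), (3113, 3911), (3114, 3114), (3115, 4099), (3116, 4100), (3117, 2306), (3118, 4101), (3119, 2308), (3120, 3120), (3121, 3121), (3122, 3122), (3123, 3597), (3124, 3595), (3125, 3388), (3126, 3936), (3127, 2318), (3128, 3128), (3129, 3129), (3130, 3130), (3131, 3131), (3132, 3132), (3133, 3528), (3134, 3366), (3135, 3135)]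
    ⟨e3 q3072 L32173 q2283, e3 q3073 L32184 q2284, e3 q3074 L32196 q3074, e3 q3075 L32203 q3075, e3 q3076 L32215 q3076, e3 q3077 (flp_i L563368) q3480, e3 q3078 (flp_i L46156) q4037, e3 q3079 (flp_i L46165) q4038, e3 q3080 (flp_i L46194) q4039, e3 q3081 (flp_i L46216) q4041, e3 q3082 (flp_i L46235) q4043, e3 q3083 (flp_i L46244) q4044, e3 q3084 (flp_i L46262) q4046, e3 q3085 (flp_i L46294) q4048, e3 q3086 (flp_i L46304) q4049, e3 q3087 (flp_i L46342) q4053, e3 q3088 L32316 q3088, e3 q3089 L32327 q3089, e3 q3090 L32346 q3090, e3 q3091 L32355 q3091, e3 q3092 (flp_i L594116) q3554, e3 q3093 L32372 q3093, e3 q3094 L32382 q3094, e3 q3095 L594535 q3891, e3 q3096 L32408 q3096, e3 q3097 L32419 q3097, e3 q3098 L46701 q4082, e3 q3099 L32439 q3099, e3 q3100 L46723 q4083, e3 q3101 (flp_i L32450) q2293, e3 q3102 L32476 q3102, e3 q3103 L32493 q3103, e3 q3104 L32505 q3104, e3 q3105 L32536 q3105, e3 q3106 L32542 q3106, e3 q3107 L32550 q3107, e3 q3108 (flp_i L453444) q3571, e3 q3109 L592256 q3570, e3 q3110 L32582 q3110, e3 q3111 L453059 q3875,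 e3 q3112 L32600 q3112, e3 q3113 L594679 q3911, e3 q3114 L32625 q3114, e3 q3115 L46983 q4099, e3 q3116 L47002 q4100, e3 q3117 (flp_i L32643) q2306, e3 q3118 L47010 q4101, e3 q3119 (flp_i L32662) q2308, e3 q3120 L32699 q3120, e3 q3121 L32734 q3121, e3 q3122 L32762 q3122, e3 q3123 (flp_i L593499) q3597, e3 q3124 L593349 q3595, e3 q3125 L475720 q3388, e3 q3126 (flp_i L593484) q3936, e3 q3127 (flp_i L32816) q2318, e3 q3128 L32845 q3128, e3 q3129 L32863 q3129, e3 q3130 L32873 q3130, e3 q3131 L32905 q3131, e3 q3132 L32912 q3132, e3 q3133 (flp_i L594329) q3528, e3 q3134 (flp_i L574813) q3366, e3 q3135 L32948 q3135, trivial⟩ (by decide +kernel)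

theorem ce_i_49 : ∀ r, r < 64 → sm gi (Qf (3136 + r)) = Qf (tab Gen.i (3136 + r)) :=
  edges_tab (sm gi) Qf (tab Gen.i) 3136 [(3136, 3860), (3137, 3849), (3138, 3138), (3139, 4119), (3140, 4120), (3141, 2329), (3142, 2330), (3143, 3143), (3144, 3144), (3145, 3541), (3146, 3358), (3147, 3375), (3148, 3874), (3149, 4128), (3150, 2338), (3151, 3389), (3152, 2522), (3153, 2521), (3154, 4136), (3155, 3155), (3156, 2342), (3157, 2343), (3158, 3158), (3159, 3159), (3160, 3160), (3161, 2351), (3162, 2352), (3163, 2516), (3164, 4140), (3165, 4141), (3166, 4142), (3167, 2523), (3168, 3168), (3169, 3169), (3170, 3170), (3171, 2361), (3172, 2362), (3173, 2363), (3174, 2517), (3175, 2499), (3176, 4146), (3177, 3177), (3178, 4147), (3179, 4148), (3180, 3180), (3181, 3181), (3182, 3182), (3183, 2373), (3184, 2375), (3185, 2376), (3186, 2518), (3187, 2509), (3188, 3188), (3189, 2508), (3190, 4153), (3191, 4154), (3192, 3192), (3193, 4155), (3194, 3194), (3195, 2383), (3196, 2385), (3197, 2386), (3198, 2384), (3199, 2425)]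
    ⟨e3 q3136 (flp_i L594324) q3860, e3 q3137 L452659 q3849, e3 q3138 L32984 q3138, e3 q3139 L47437 q4119, e3 q3140 L47457 q4120, e3 q3141 (flp_i L33004) q2329, e3 q3142 (flp_i L33014) q2330, e3 q3143 L33051 q3143, e3 q3144 L33102 q3144, e3 q3145 (flp_i L453140) q3541, e3 q3146 (flp_i L548745) q3358, e3 q3147 L574901 q3375, e3 q3148 (flp_i L578222) q3874, e3 q3149 L47649 q4128, e3 q3150 (flp_i L33168) q2338, e3 q3151 L476158 q3389, e3 q3152 L495721 q2522, e3 q3153 L557884 q2521, e3 q3154 L47826 q4136, e3 q3155 L411843 q3155, e3 q3156 (flp_i L33288) q2342, e3 q3157 (flp_i L33297) q2343, e3 q3158 L33332 q3158, e3 q3159 L33339 q3159, e3 q3160 L33358 q3160, e3 q3161 L33376 q2351, e3 q3162 L33383 q2352, e3 q3163 (flp_i L448263) q2516, e3 q3164 (flp_i L47962) q4140, e3 q3165 (flp_i L47971) q4141, e3 q3166 (flp_i L47979) q4142, e3 q3167 (flp_i L495352) q2523, e3 q3168 L411974 q3168, e3 q3169 L33529 q3169, e3 q3170 L33558 q3170, e3 q3171 L33584 q2361, e3 q3172 L33594 q2362, e3 q3173 L33604 q2363, e3 q3174 L448458 q2517, e3 q3175 (flp_i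 L447957) q2499, e3 q3176 (flp_i L48270) q4146, e3 q3177 L412784 q3177, e3 q3178 (flp_i L48284) q4147, e3 q3179 (flp_i L48292) q4148, e3 q3180 L411980 q3180, e3 q3181 L33791 q3181, e3 q3182 L33831 q3182, e3 q3183 L33863 q2373, e3 q3184 L33876 q2375, e3 q3185 L33886 q2376, e3 q3186 (flp_i L597530) q2518, e3 q3187 (flp_i L597523) q2509, e3 q3188 L440837 q3188, e3 q3189 L448054 q2508, e3 q3190 (flp_i L48688) q4153, e3 q3191 (flp_i L48698) q4154, e3 q3192 L441697 q3192, e3 q3193 (flp_i L48720) q4155, e3 q3194 L34049 q3194, e3 q3195 L34088 q2383, e3 q3196 L34102 q2385, e3 q3197 L34111 q2386, e3 q3198 L587207 q2384, e3 q3199 L598685 q2425, trivial⟩ (by decide +kernel)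

theorem ce_i_50 : ∀ r, r < 64 → sm gi (Qf (3200 + r)) = Qf (tab Gen.i (3200 + r)) :=
  edges_tab (sm gi) Qf (tab Gen.i) 3200 [(3200, 2416), (3201, 2501), (3202, 4160), (3203, 4161), (3204, 4162), (3205, 4157), (3206, 3206), (3207, 2395), (3208, 2396), (3209, 2398), (3210, 2397), (3211, 2441), (3212, 2443), (3213, 2433), (3214, 2510), (3215, 4164), (3216, 4166), (3217, 4165), (3218, 4167), (3219, 2408), (3220, 2410), (3221, 2409), (3222, 2411), (3223, 2460), (3224, 2450), (3225, 2461), (3226, 2452), (3227, 4170), (3228, 4171), (3229, 4173), (3230, 4172), (3231, 4174), (3232, 2419), (3233, 2420), (3234, 2421), (3235, 2422), (3236, 2423), (3237, 2424), (3238, 4163), (3239, 2426), (3240, 4178), (3241, 4179), (3242, 4180), (3243, 4181), (3244, 4182), (3245, 2435), (3246, 2436), (3247, 2437), (3248, 2438), (3249, 2439), (3250, 2440), (3251, 4168), (3252, 2442), (3253, 4169), (3254, 4186), (3255, 4187), (3256, 4188), (3257, 4189), (3258, 4190), (3259, 2453), (3260, 2454), (3261, 2455), (3262, 2456), (3263, 2457)]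
    ⟨e3 q3200 (flp_i L600628) q2416, e3 q3201 L598692 q2501, e3 q3202 (flp_i L49029) q4160, e3 q3203 (flp_i L49038) q4161, e3 q3204 (flp_i L600635) q4162, e3 q3205 L625997 q4157, e3 q3206 L34322 q3206, e3 q3207 L34377 q2395, e3 q3208 L34386 q2396, e3 q3209 L34411 q2398, e3 q3210 (flp_i L600539) q2397, e3 q3211 (flp_i L599439) q2441, e3 q3212 (flp_i L447499) q2443, e3 q3213 (flp_i L600623) q2433, e3 q3214 (flp_i L598490) q2510, e3 q3215 (flp_i L49481) q4164, e3 q3216 (flp_i L446606) q4166, e3 q3217 (flp_i L49498) q4165, e3 q3218 L600517 q4167, e3 q3219 L34807 q2408, e3 q3220 L34823 q2410, e3 q3221 (flp_i L587701) q2409, e3 q3222 L587433 q2411, e3 q3223 (flp_i L560354) q2460, e3 q3224 (flp_i L598310) q2450, e3 q3225 L447556 q2461, e3 q3226 (flp_i L600494) q2452, e3 q3227 (flp_i L50127) q4170, e3 q3228 (flp_i L50137) q4171, e3 q3229 (flp_i L560390) q4173, e3 q3230 (flp_i L587731) q4172, e3 q3231 L600395 q4174, e3 q3232 L35035 q2419, e3 q3233 L35046 q2420, e3 q3234 L35066 q2421, e3 q3235 L35084 q2422, e3 q3236 L35091 q2423, e3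 q3237 L35099 q2424, e3 q3238 (flp_i L598714) q4163, e3 q3239 L35125 q2426, e3 q3240 (flp_i L50472) q4178, e3 q3241 (flp_i L50490) q4179, e3 q3242 (flp_i L50516) q4180, e3 q3243 (flp_i L50526) q4181, e3 q3244 (flp_i L50557) q4182, e3 q3245 L35276 q2435, e3 q3246 L35293 q2436, e3 q3247 L35315 q2437, e3 q3248 L35325 q2438, e3 q3249 L35355 q2439, e3 q3250 L35362 q2440, e3 q3251 L599466 q4168, e3 q3252 L35375 q2442, e3 q3253 (flp_i L447458) q4169, e3 q3254 (flp_i L50831) q4186, e3 q3255 (flp_i L50841) q4187, e3 q3256 (flp_i L50871) q4188, e3 q3257 (flp_i L50917) q4189, e3 q3258 (flp_i L50934) q4190, e3 q3259 L35600 q2453, e3 q3260 L35611 q2454, e3 q3261 L35638 q2455, e3 q3262 L35684 q2456, e3 q3263 L35700 q2457, trivial⟩ (by decide +kernel)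

theorem ce_i_51 : ∀ r, r < 64 → sm gi (Qf (3264 + r)) = Qf (tab Gen.i (3264 + r)) :=
  edges_tab (sm gi) Qf (tab Gen.i) 3264 [(3264, 2458), (3265, 2459), (3266, 4175), (3267, 4176), (3268, 4177), (3269, 4193), (3270, 4194), (3271, 4195), (3272, 4196), (3273, 2482), (3274, 2483), (3275, 2484), (3276, 3276), (3277, 2485), (3278, 3278), (3279, 2486), (3280, 3280), (3281, 2487), (3282, 2488), (3283, 3283), (3284, 2489), (3285, 3285), (3286, 3286), (3287, 2490), (3288, 2491), (3289, 3289), (3290, 3290), (3291, 3291), (3292, 2492), (3293, 3293), (3294, 3294), (3295, 3295), (3296, 3296), (3297, 4200), (3298, 4201), (3299, 4202), (3300, 4203), (3301, 4205), (3302, 4207), (3303, 4208), (3304, 4212), (3305, 4213), (3306, 4214), (3307, 4197), (3308, 3308), (3309, 3309), (3310, 3310), (3311, 3311), (3312, 3312), (3313, 3313), (3314, 3314), (3315, 3315), (3316, 3316), (3317, 3317), (3318, 3318), (3319, 4132), (3320, 4131), (3321, 2524), (3322, 3322), (3323, 3323), (3324, 3324), (3325, 3325), (3326, 3326), (3327, 3327)]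
    ⟨e3 q3264 L35724 q2458, e3 q3265 L35733 q2459, e3 q3266 L560305 q4175, e3 q3267 (flp_i L560740) q4176, e3 q3268 L447593 q4177, e3 q3269 (flp_i L51338) q4193, e3 q3270 (flp_i L51354) q4194, e3 q3271 (flp_i L51447) q4195, e3 q3272 (flp_i L51458) q4196, e3 q3273 L36017 q2482, e3 q3274 L36035 q2483, e3 q3275 L36045 q2484, e3 q3276 L36057 q3276, e3 q3277 L36073 q2485, e3 q3278 L36083 q3278, e3 q3279 L36091 q2486, e3 q3280 L36102 q3280, e3 q3281 L36108 q2487, e3 q3282 L36118 q2488, e3 q3283 L36129 q3283, e3 q3284 L36137 q2489, e3 q3285 L36148 q3285, e3 q3286 L36155 q3286, e3 q3287 L36171 q2490, e3 q3288 L36181 q2491, e3 q3289 L36192 q3289, e3 q3290 L36199 q3290, e3 q3291 L36210 q3291, e3 q3292 L36217 q2492, e3 q3293 L36226 q3293, e3 q3294 L36235 q3294, e3 q3295 L36240 q3295, e3 q3296 L36247 q3296, e3 q3297 (flp_i L51904) q4200, e3 q3298 (flp_i L51913) q4201, e3 q3299 (flp_i L51940) q4202, e3 q3300 (flp_i L51951) q4203, e3 q3301 (flp_i L51972) q4205, e3 q3302 (flp_i L52009) q4207, e3 q3303 (flp_i L52019) q4208, e3 q3304 (flp_i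 L52055) q4212, e3 q3305 (flp_i L52068) q4213, e3 q3306 (flp_i L52079) q4214, e3 q3307 L624243 q4197, e3 q3308 L36388 q3308, e3 q3309 L36398 q3309, e3 q3310 L36425 q3310, e3 q3311 L36480 q3311, e3 q3312 L36498 q3312, e3 q3313 L36641 q3313, e3 q3314 L36659 q3314, e3 q3315 L36756 q3315, e3 q3316 L37087 q3316, e3 q3317 L37196 q3317, e3 q3318 L37675 q3318, e3 q3319 (flp_i L557868) q4132, e3 q3320 (flp_i L557678) q4131, e3 q3321 (flp_i L38300) q2524, e3 q3322 L38321 q3322, e3 q3323 L38329 q3323, e3 q3324 L38337 q3324, e3 q3325 L38345 q3325, e3 q3326 L38356 q3326, e3 q3327 L38368 q3327, trivial⟩ (by decide +kernel)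

theorem ce_i_52 : ∀ r, r < 64 → sm gi (Qf (3328 + r)) = Qf (tab Gen.i (3328 + r)) :=
  edges_tab (sm gi) Qf (tab Gen.i) 3328 [(3328, 3328), (3329, 3329), (3330, 3330), (3331, 3331), (3332, 3332), (3333, 3333), (3334, 3334), (3335, 3335), (3336, 3336), (3337, 3337), (3338, 3338), (3339, 3339), (3340, 3340), (3341, 3341), (3342, 3342), (3343, 3343), (3344, 4273), (3345, 3345), (3346, 3346), (3347, 2543), (3348, 4275), (3349, 4276), (3350, 2545), (3351, 2546), (3352, 4280), (3353, 4281), (3354, 4282), (3355, 2549), (3356, 2550), (3357, 2551), (3358, 3146), (3359, 4288), (3360, 4289), (3361, 4290), (3362, 4291), (3363, 2554), (3364, 2555), (3365, 2556), (3366, 3134), (3367, 4299), (3368, 4300), (3369, 4301), (3370, 4302), (3371, 2561), (3372, 2562), (3373, 2563), (3374, 2564), (3375, 3147), (3376, 4310), (3377, 4311), (3378, 4312), (3379, 4325), (3380, 4314), (3381, 4315), (3382, 2570), (3383, 2571), (3384, 2572), (3385, 4334), (3386, 2574), (3387, 2575), (3388, 3125), (3389, 3151), (3390, 4327), (3391, 4328)]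
    ⟨e3 q3328 L38378 q3328, e3 q3329 L38387 q3329, e3 q3330 L38397 q3330, e3 q3331 L38404 q3331, e3 q3332 L38415 q3332, e3 q3333 L38427 q3333, e3 q3334 L38437 q3334, e3 q3335 L38446 q3335, e3 q3336 L38457 q3336, e3 q3337 L38463 q3337, e3 q3338 L38473 q3338, e3 q3339 L38481 q3339, e3 q3340 L38493 q3340, e3 q3341 L38499 q3341, e3 q3342 L38509 q3342, e3 q3343 L38518 q3343, e3 q3344 L55389 q4273, e3 q3345 L38535 q3345, e3 q3346 L38544 q3346, e3 q3347 L38554 q2543, e3 q3348 (flp_i L55416) q4275, e3 q3349 (flp_i L55428) q4276, e3 q3350 L38582 q2545, e3 q3351 L38593 q2546, e3 q3352 (flp_i L55464) q4280, e3 q3353 (flp_i L55475) q4281, e3 q3354 (flp_i L55485) q4282, e3 q3355 L38629 q2549, e3 q3356 L38639 q2550, e3 q3357 L38647 q2551, e3 q3358 L548745 q3146, e3 q3359 (flp_i L55549) q4288, e3 q3360 (flp_i L55555) q4289, e3 q3361 (flp_i L55566) q4290, e3 q3362 (flp_i L55578) q4291, e3 q3363 L38696 q2554, e3 q3364 L38708 q2555, e3 q3365 L38719 q2556, e3 q3366 L574813 q3134, e3 q3367 (flp_i L55652) q4299, e3 q3368 (flp_i L55660) q4300,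 e3 q3369 (flp_i L55674) q4301, e3 q3370 (flp_i L55683) q4302, e3 q3371 L38781 q2561, e3 q3372 L38788 q2562, e3 q3373 L38800 q2563, e3 q3374 L38809 q2564, e3 q3375 (flp_i L574901) q3147, e3 q3376 (flp_i L55762) q4310, e3 q3377 (flp_i L55772) q4311, e3 q3378 (flp_i L55781) q4312, e3 q3379 L55882 q4325, e3 q3380 (flp_i L55799) q4314, e3 q3381 (flp_i L55812) q4315, e3 q3382 L38880 q2570, e3 q3383 L38891 q2571, e3 q3384 L38902 q2572, e3 q3385 L55984 q4334, e3 q3386 L38920 q2574, e3 q3387 L38930 q2575, e3 q3388 (flp_i L475720) q3125, e3 q3389 (flp_i L476158) q3151, e3 q3390 (flp_i L55924) q4327, e3 q3391 (flp_i L55936) q4328, trivial⟩ (by decide +kernel)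

theorem ce_i_53 : ∀ r, r < 64 → sm gi (Qf (3392 + r)) = Qf (tab Gen.i (3392 + r)) :=
  edges_tab (sm gi) Qf (tab Gen.i) 3392 [(3392, 4345), (3393, 4330), (3394, 4331), (3395, 4332), (3396, 4351), (3397, 2573), (3398, 4335), (3399, 3399), (3400, 3400), (3401, 3401), (3402, 2581), (3403, 2582), (3404, 2583), (3405, 2584), (3406, 2585), (3407, 4357), (3408, 4358), (3409, 4359), (3410, 4360), (3411, 4373), (3412, 4362), (3413, 4363), (3414, 3414), (3415, 3415), (3416, 3416), (3417, 3417), (3418, 3418), (3419, 2594), (3420, 2595), (3421, 2596), (3422, 2597), (3423, 4391), (3424, 2599), (3425, 2600), (3426, 4382), (3427, 4383), (3428, 4384), (3429, 4385), (3430, 4402), (3431, 4387), (3432, 4388), (3433, 4389), (3434, 4408), (3435, 2598), (3436, 4392), (3437, 3437), (3438, 3438), (3439, 3439), (3440, 3440), (3441, 4418), (3442, 3442), (3443, 3443), (3444, 2613), (3445, 2614), (3446, 2615), (3447, 2616), (3448, 4429), (3449, 2618), (3450, 2619), (3451, 2620), (3452, 4435), (3453, 2610), (3454, 2623), (3455, 4420)]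
    ⟨e3 q3392 L56074 q4345, e3 q3393 (flp_i L55953) q4330, e3 q3394 (flp_i L55961) q4331, e3 q3395 (flp_i L55973) q4332, e3 q3396 L56121 q4351, e3 q3397 (flp_i L39001) q2573, e3 q3398 (flp_i L56002) q4335, e3 q3399 L39025 q3399, e3 q3400 L39037 q3400, e3 q3401 L39047 q3401, e3 q3402 L39058 q2581, e3 q3403 L39069 q2582, e3 q3404 L39077 q2583, e3 q3405 L39088 q2584, e3 q3406 L39096 q2585, e3 q3407 (flp_i L56191) q4357, e3 q3408 (flp_i L56200) q4358, e3 q3409 (flp_i L56211) q4359, e3 q3410 (flp_i L56221) q4360, e3 q3411 L56326 q4373, e3 q3412 (flp_i L56237) q4362, e3 q3413 (flp_i L56246) q4363, e3 q3414 L39169 q3414, e3 q3415 L39180 q3415, e3 q3416 L39186 q3416, e3 q3417 L39196 q3417, e3 q3418 L39206 q3418, e3 q3419 L39217 q2594, e3 q3420 L39225 q2595, e3 q3421 L39234 q2596, e3 q3422 L39242 q2597, e3 q3423 L56488 q4391, e3 q3424 L39257 q2599, e3 q3425 L39268 q2600, e3 q3426 (flp_i L56418) q4382, e3 q3427 (flp_i L56428) q4383, e3 q3428 (flp_i L56437) q4384, e3 q3429 (flp_i L56446) q4385, e3 q3430 L56578 q4402, e3 q3431 (flp_i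 L56462) q4387, e3 q3432 (flp_i L56469) q4388, e3 q3433 (flp_i L56479) q4389, e3 q3434 L56624 q4408, e3 q3435 (flp_i L39337) q2598, e3 q3436 (flp_i L56505) q4392, e3 q3437 L39363 q3437, e3 q3438 L39369 q3438, e3 q3439 L39379 q3439, e3 q3440 L39389 q3440, e3 q3441 L56708 q4418, e3 q3442 L39407 q3442, e3 q3443 L39417 q3443, e3 q3444 L39425 q2613, e3 q3445 L39436 q2614, e3 q3446 L39445 q2615, e3 q3447 L39455 q2616, e3 q3448 L56807 q4429, e3 q3449 L39471 q2618, e3 q3450 L39477 q2619, e3 q3451 L39488 q2620, e3 q3452 L56856 q4435, e3 q3453 (flp_i L39496) q2610, e3 q3454 L39511 q2623, e3 q3455 (flp_i L56735) q4420, trivial⟩ (by decide +kernel)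

theorem ce_i_54 : ∀ r, r < 64 → sm gi (Qf (3456 + r)) = Qf (tab Gen.i (3456 + r)) :=
  edges_tab (sm gi) Qf (tab Gen.i) 3456 [(3456, 4421), (3457, 4442), (3458, 4423), (3459, 4424), (3460, 4448), (3461, 4426), (3462, 4427), (3463, 4453), (3464, 2617), (3465, 4430), (3466, 4431), (3467, 4458), (3468, 4433), (3469, 4460), (3470, 2621), (3471, 3471), (3472, 3472), (3473, 3473), (3474, 3474), (3475, 3475), (3476, 3476), (3477, 3477), (3478, 3478), (3479, 3479), (3480, 3077), (3481, 3481), (3482, 2648), (3483, 2650), (3484, 2651), (3485, 2653), (3486, 2654), (3487, 2799), (3488, 2657), (3489, 2658), (3490, 4486), (3491, 2660), (3492, 4488), (3493, 2644), (3494, 2792), (3495, 4473), (3496, 4474), (3497, 2806), (3498, 4475), (3499, 4476), (3500, 4477), (3501, 2802), (3502, 4478), (3503, 4504), (3504, 4480), (3505, 4506), (3506, 2655), (3507, 4482), (3508, 4483), (3509, 4511), (3510, 4513), (3511, 2659), (3512, 4514), (3513, 2661), (3514, 2663), (3515, 3515), (3516, 3516), (3517, 2667), (3518, 2668), (3519, 4519)]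
    ⟨e3 q3456 (flp_i L56746) q4421, e3 q3457 L56914 q4442, e3 q3458 (flp_i L56764) q4423, e3 q3459 (flp_i L56772) q4424, e3 q3460 L56957 q4448, e3 q3461 (flp_i L56786) q4426, e3 q3462 (flp_i L56798) q4427, e3 q3463 L56995 q4453, e3 q3464 (flp_i L39584) q2617, e3 q3465 (flp_i L56823) q4430, e3 q3466 (flp_i L56833) q4431, e3 q3467 L57034 q4458, e3 q3468 (flp_i L56848) q4433, e3 q3469 L57049 q4460, e3 q3470 (flp_i L39628) q2621, e3 q3471 L39660 q3471, e3 q3472 L39670 q3472, e3 q3473 L39687 q3473, e3 q3474 L39698 q3474, e3 q3475 L39718 q3475, e3 q3476 L39733 q3476, e3 q3477 L39750 q3477, e3 q3478 L39756 q3478, e3 q3479 L39763 q3479, e3 q3480 L563368 q3077, e3 q3481 L39790 q3481, e3 q3482 L39811 q2648, e3 q3483 L39828 q2650, e3 q3484 L39838 q2651, e3 q3485 L39854 q2653, e3 q3486 L39864 q2654, e3 q3487 L563378 q2799, e3 q3488 L39890 q2657, e3 q3489 L39899 q2658, e3 q3490 L57488 q4486, e3 q3491 L39917 q2660, e3 q3492 L57507 q4488, e3 q3493 (flp_i L39927) q2644, e3 q3494 L563517 q2792, e3 q3495 (flp_i L57326) q4473, e3 q3496 (flp_i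 L57337) q4474, e3 q3497 L524293 q2806, e3 q3498 (flp_i L57366) q4475, e3 q3499 (flp_i L57375) q4476, e3 q3500 (flp_i L57385) q4477, e3 q3501 L545986 q2802, e3 q3502 (flp_i L57419) q4478, e3 q3503 L57718 q4504, e3 q3504 (flp_i L57437) q4480, e3 q3505 L57736 q4506, e3 q3506 (flp_i L40078) q2655, e3 q3507 (flp_i L57460) q4482, e3 q3508 (flp_i L57471) q4483, e3 q3509 L57775 q4511, e3 q3510 L57791 q4513, e3 q3511 (flp_i L40115) q2659, e3 q3512 L57800 q4514, e3 q3513 (flp_i L40133) q2661, e3 q3514 (flp_i L40141) q2663, e3 q3515 L40164 q3515, e3 q3516 L40174 q3516, e3 q3517 L40184 q2667, e3 q3518 L40194 q2668, e3 q3519 (flp_i L57859) q4519, trivial⟩ (by decide +kernel)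

theorem ce_i_55 : ∀ r, r < 64 → sm gi (Qf (3520 + r)) = Qf (tab Gen.i (3520 + r)) :=
  edges_tab (sm gi) Qf (tab Gen.i) 3520 [(3520, 4520), (3521, 4521), (3522, 3522), (3523, 3523), (3524, 3524), (3525, 2673), (3526, 2674), (3527, 2675), (3528, 3133), (3529, 4531), (3530, 4532), (3531, 4533), (3532, 4534), (3533, 3533), (3534, 3534), (3535, 3535), (3536, 3536), (3537, 2683), (3538, 2684), (3539, 2685), (3540, 2686), (3541, 3145), (3542, 4547), (3543, 4548), (3544, 4549), (3545, 4562), (3546, 4551), (3547, 4552), (3548, 3548), (3549, 3549), (3550, 2693), (3551, 2694), (3552, 2695), (3553, 2696), (3554, 3092), (3555, 4567), (3556, 4568), (3557, 4569), (3558, 4582), (3559, 4571), (3560, 4572), (3561, 3561), (3562, 3562), (3563, 3563), (3564, 2704), (3565, 2705), (3566, 2706), (3567, 4595), (3568, 2708), (3569, 2709), (3570, 3109), (3571, 3108), (3572, 4588), (3573, 4589), (3574, 4606), (3575, 4591), (3576, 4592), (3577, 4593), (3578, 4612), (3579, 2707), (3580, 4596), (3581, 3581), (3582, 4616), (3583, 3583)]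
    ⟨e3 q3520 (flp_i L57871) q4520, e3 q3521 (flp_i L57880) q4521, e3 q3522 L40232 q3522, e3 q3523 L40243 q3523, e3 q3524 L40254 q3524, e3 q3525 L40261 q2673, e3 q3526 L40272 q2674, e3 q3527 L40282 q2675, e3 q3528 L594329 q3133, e3 q3529 (flp_i L58001) q4531, e3 q3530 (flp_i L58008) q4532, e3 q3531 (flp_i L58018) q4533, e3 q3532 (flp_i L58030) q4534, e3 q3533 L40336 q3533, e3 q3534 L40345 q3534, e3 q3535 L40367 q3535, e3 q3536 L40375 q3536, e3 q3537 L40395 q2683, e3 q3538 L40401 q2684, e3 q3539 L40409 q2685, e3 q3540 L40421 q2686, e3 q3541 L453140 q3145, e3 q3542 (flp_i L58184) q4547, e3 q3543 (flp_i L58192) q4548, e3 q3544 (flp_i L58202) q4549, e3 q3545 L58294 q4562, e3 q3546 (flp_i L58216) q4551, e3 q3547 (flp_i L58228) q4552, e3 q3548 L40499 q3548, e3 q3549 L40510 q3549, e3 q3550 L40530 q2693, e3 q3551 L40538 q2694, e3 q3552 L40549 q2695, e3 q3553 L40558 q2696, e3 q3554 L594116 q3092, e3 q3555 (flp_i L58381) q4567, e3 q3556 (flp_i L58391) q4568, e3 q3557 (flp_i L58402) q4569, e3 q3558 L58508 q4582, e3 q3559 (flp_i L58417)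 q4571, e3 q3560 (flp_i L58428) q4572, e3 q3561 L40651 q3561, e3 q3562 L40661 q3562, e3 q3563 L40670 q3563, e3 q3564 L40690 q2704, e3 q3565 L40698 q2705, e3 q3566 L40707 q2706, e3 q3567 L58669 q4595, e3 q3568 L40721 q2708, e3 q3569 L40734 q2709, e3 q3570 (flp_i L592256) q3109, e3 q3571 L453444 q3108, e3 q3572 (flp_i L58614) q4588, e3 q3573 (flp_i L58626) q4589, e3 q3574 L58755 q4606, e3 q3575 (flp_i L58640) q4591, e3 q3576 (flp_i L58649) q4592, e3 q3577 (flp_i L58658) q4593, e3 q3578 L58804 q4612, e3 q3579 (flp_i L40803) q2707, e3 q3580 (flp_i L58685) q4596, e3 q3581 L40855 q3581, e3 q3582 L58890 q4616, e3 q3583 L40872 q3583, trivial⟩ (by decide +kernel)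

theorem ce_i_56 : ∀ r, r < 64 → sm gi (Qf (3584 + r)) = Qf (tab Gen.i (3584 + r)) :=
  edges_tab (sm gi) Qf (tab Gen.i) 3584 [(3584, 3584), (3585, 2721), (3586, 2722), (3587, 4623), (3588, 2724), (3589, 2725), (3590, 2726), (3591, 4629), (3592, 2716), (3593, 2729), (3594, 3049), (3595, 3124), (3596, 4636), (3597, 3123), (3598, 4618), (3599, 4642), (3600, 4620), (3601, 4621), (3602, 4647), (3603, 2723), (3604, 4624), (3605, 4625), (3606, 4652), (3607, 4627), (3608, 4654), (3609, 2727), (3610, 2735), (3611, 2736), (3612, 2737), (3613, 2738), (3614, 4664), (3615, 2740), (3616, 2741), (3617, 4655), (3618, 4656), (3619, 4657), (3620, 4658), (3621, 4675), (3622, 4660), (3623, 4661), (3624, 4662), (3625, 4681), (3626, 2739), (3627, 4665), (3628, 2749), (3629, 2750), (3630, 2751), (3631, 2752), (3632, 4691), (3633, 2754), (3634, 2755), (3635, 2756), (3636, 4697), (3637, 2746), (3638, 2759), (3639, 4682), (3640, 4683), (3641, 4704), (3642, 4685), (3643, 4686), (3644, 4710), (3645, 4688), (3646, 4689), (3647, 4715)]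
    ⟨e3 q3584 L40882 q3584, e3 q3585 L40906 q2721, e3 q3586 L40919 q2722, e3 q3587 L58985 q4623, e3 q3588 L40933 q2724, e3 q3589 L40941 q2725, e3 q3590 L40951 q2726, e3 q3591 L59037 q4629, e3 q3592 (flp_i L40961) q2716, e3 q3593 L40975 q2729, e3 q3594 L591052 q3049, e3 q3595 (flp_i L593349) q3124, e3 q3596 L59094 q4636, e3 q3597 L593499 q3123, e3 q3598 (flp_i L58953) q4618, e3 q3599 L59143 q4642, e3 q3600 (flp_i L58967) q4620, e3 q3601 (flp_i L58976) q4621, e3 q3602 L59178 q4647, e3 q3603 (flp_i L41045) q2723, e3 q3604 (flp_i L58999) q4624, e3 q3605 (flp_i L59010) q4625, e3 q3606 L59216 q4652, e3 q3607 (flp_i L59027) q4627, e3 q3608 L59233 q4654, e3 q3609 (flp_i L41092) q2727, e3 q3610 L41112 q2735, e3 q3611 L41121 q2736, e3 q3612 L41132 q2737, e3 q3613 L41142 q2738, e3 q3614 L59326 q4664, e3 q3615 L41158 q2740, e3 q3616 L41169 q2741, e3 q3617 (flp_i L59249) q4655, e3 q3618 (flp_i L59261) q4656, e3 q3619 (flp_i L59269) q4657, e3 q3620 (flp_i L59281) q4658, e3 q3621 L59425 q4675, e3 q3622 (flp_i L59299) q4660, e3 q3623 (flp_i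 L59307) q4661, e3 q3624 (flp_i L59315) q4662, e3 q3625 L59475 q4681, e3 q3626 (flp_i L41248) q2739, e3 q3627 (flp_i L59343) q4665, e3 q3628 L41274 q2749, e3 q3629 L41284 q2750, e3 q3630 L41291 q2751, e3 q3631 L41301 q2752, e3 q3632 L59562 q4691, e3 q3633 L41318 q2754, e3 q3634 L41325 q2755, e3 q3635 L41333 q2756, e3 q3636 L59613 q4697, e3 q3637 (flp_i L41343) q2746, e3 q3638 L41360 q2759, e3 q3639 (flp_i L59490) q4682, e3 q3640 (flp_i L59501) q4683, e3 q3641 L59668 q4704, e3 q3642 (flp_i L59520) q4685, e3 q3643 (flp_i L59530) q4686, e3 q3644 L59715 q4710, e3 q3645 (flp_i L59542) q4688, e3 q3646 (flp_i L59551) q4689, e3 q3647 L59752 q4715, trivial⟩ (by decide +kernel)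

theorem ce_i_57 : ∀ r, r < 64 → sm gi (Qf (3648 + r)) = Qf (tab Gen.i (3648 + r)) :=
  edges_tab (sm gi) Qf (tab Gen.i) 3648 [(3648, 2753), (3649, 4692), (3650, 4693), (3651, 4720), (3652, 4695), (3653, 4722), (3654, 2757), (3655, 2771), (3656, 2772), (3657, 4729), (3658, 2774), (3659, 2775), (3660, 4735), (3661, 2777), (3662, 2778), (3663, 4740), (3664, 2764), (3665, 2781), (3666, 2782), (3667, 4745), (3668, 2784), (3669, 4747), (3670, 2768), (3671, 4723), (3672, 4724), (3673, 4752), (3674, 4726), (3675, 4727), (3676, 4757), (3677, 2773), (3678, 4730), (3679, 4731), (3680, 4732), (3681, 4764), (3682, 4766), (3683, 2776), (3684, 4736), (3685, 4771), (3686, 4738), (3687, 4773), (3688, 2779), (3689, 4741), (3690, 4742), (3691, 4778), (3692, 4780), (3693, 2783), (3694, 4781), (3695, 2785), (3696, 2800), (3697, 2801), (3698, 2803), (3699, 2804), (3700, 2805), (3701, 2807), (3702, 4489), (3703, 2809), (3704, 4490), (3705, 2812), (3706, 2813), (3707, 4796), (3708, 4798), (3709, 2795), (3710, 4799), (3711, 2797)]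
    ⟨e3 q3648 (flp_i L41431) q2753, e3 q3649 (flp_i L59581) q4692, e3 q3650 (flp_i L59589) q4693, e3 q3651 L59785 q4720, e3 q3652 (flp_i L59603) q4695, e3 q3653 L59799 q4722, e3 q3654 (flp_i L41477) q2757, e3 q3655 L41489 q2771, e3 q3656 L41501 q2772, e3 q3657 L59862 q4729, e3 q3658 L41520 q2774, e3 q3659 L41529 q2775, e3 q3660 L59912 q4735, e3 q3661 L41541 q2777, e3 q3662 L41551 q2778, e3 q3663 L59952 q4740, e3 q3664 (flp_i L41561) q2764, e3 q3665 L41578 q2781, e3 q3666 L41588 q2782, e3 q3667 L59993 q4745, e3 q3668 L41601 q2784, e3 q3669 L60008 q4747, e3 q3670 (flp_i L41610) q2768, e3 q3671 (flp_i L59813) q4723, e3 q3672 (flp_i L59825) q4724, e3 q3673 L60063 q4752, e3 q3674 (flp_i L59840) q4726, e3 q3675 (flp_i L59851) q4727, e3 q3676 L60104 q4757, e3 q3677 (flp_i L41666) q2773, e3 q3678 (flp_i L59881) q4730, e3 q3679 (flp_i L59889) q4731, e3 q3680 (flp_i L59897) q4732, e3 q3681 L60156 q4764, e3 q3682 L60170 q4766, e3 q3683 (flp_i L41711) q2776, e3 q3684 (flp_i L59927) q4736, e3 q3685 L60209 q4771, e3 q3686 (flp_i L59942)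 q4738, e3 q3687 L60225 q4773, e3 q3688 (flp_i L41746) q2779, e3 q3689 (flp_i L59967) q4741, e3 q3690 (flp_i L59976) q4742, e3 q3691 L60262 q4778, e3 q3692 L60277 q4780, e3 q3693 (flp_i L41783) q2783, e3 q3694 L60285 q4781, e3 q3695 (flp_i L41797) q2785, e3 q3696 L41839 q2800, e3 q3697 L41848 q2801, e3 q3698 L41879 q2803, e3 q3699 L41888 q2804, e3 q3700 L41897 q2805, e3 q3701 L41931 q2807, e3 q3702 L562810 q4489, e3 q3703 L41947 q2809, e3 q3704 (flp_i L563531) q4490, e3 q3705 L41972 q2812, e3 q3706 L41981 q2813, e3 q3707 L60577 q4796, e3 q3708 L60593 q4798, e3 q3709 (flp_i L41997) q2795, e3 q3710 L60600 q4799, e3 q3711 (flp_i L42015) q2797, trivial⟩ (by decide +kernel)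

theorem ce_i_58 : ∀ r, r < 64 → sm gi (Qf (3712 + r)) = Qf (tab Gen.i (3712 + r)) :=
  edges_tab (sm gi) Qf (tab Gen.i) 3712 [(3712, 4479), (3713, 4481), (3714, 4782), (3715, 4497), (3716, 4783), (3717, 4499), (3718, 4784), (3719, 4785), (3720, 4492), (3721, 4786), (3722, 4494), (3723, 4787), (3724, 4788), (3725, 4819), (3726, 4821), (3727, 2808), (3728, 4822), (3729, 2810), (3730, 4792), (3731, 4826), (3732, 4828), (3733, 4830), (3734, 2814), (3735, 4832), (3736, 2815), (3737, 2817), (3738, 3738), (3739, 3739), (3740, 4839), (3741, 3741), (3742, 3742), (3743, 4845), (3744, 3744), (3745, 3745), (3746, 4850), (3747, 2823), (3748, 3748), (3749, 3749), (3750, 4855), (3751, 3751), (3752, 4857), (3753, 2827), (3754, 3754), (3755, 4861), (3756, 3756), (3757, 3757), (3758, 4866), (3759, 2832), (3760, 3760), (3761, 3761), (3762, 3762), (3763, 4873), (3764, 4875), (3765, 2835), (3766, 3766), (3767, 4880), (3768, 3768), (3769, 4882), (3770, 2838), (3771, 3771), (3772, 3772), (3773, 4887), (3774, 4889), (3775, 2842)]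
    ⟨e3 q3712 L489774 q4479, e3 q3713 L563289 q4481, e3 q3714 (flp_i L60367) q4782, e3 q3715 (flp_i L562760) q4497, e3 q3716 (flp_i L60385) q4783, e3 q3717 (flp_i L546004) q4499, e3 q3718 (flp_i L60412) q4784, e3 q3719 (flp_i L60423) q4785, e3 q3720 (flp_i L562747) q4492, e3 q3721 (flp_i L60441) q4786, e3 q3722 (flp_i L536639) q4494, e3 q3723 (flp_i L60492) q4787, e3 q3724 (flp_i L60501) q4788, e3 q3725 L60859 q4819, e3 q3726 L60872 q4821, e3 q3727 (flp_i L42197) q2808, e3 q3728 L60881 q4822, e3 q3729 (flp_i L42214) q2810, e3 q3730 (flp_i L60553) q4792, e3 q3731 L60911 q4826, e3 q3732 L60926 q4828, e3 q3733 L60943 q4830, e3 q3734 (flp_i L42253) q2814, e3 q3735 L60958 q4832, e3 q3736 (flp_i L42268) q2815, e3 q3737 (flp_i L42276) q2817, e3 q3738 L42294 q3738, e3 q3739 L42306 q3739, e3 q3740 L61033 q4839, e3 q3741 L42324 q3741, e3 q3742 L42335 q3742, e3 q3743 L61090 q4845, e3 q3744 L42351 q3744, e3 q3745 L42360 q3745, e3 q3746 L61134 q4850, e3 q3747 (flp_i L42370) q2823, e3 q3748 L42387 q3748, e3 q3749 L42397 q3749, e3 q3750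 L61176 q4855, e3 q3751 L42414 q3751, e3 q3752 L61195 q4857, e3 q3753 (flp_i L42424) q2827, e3 q3754 L42451 q3754, e3 q3755 L61256 q4861, e3 q3756 L42466 q3756, e3 q3757 L42476 q3757, e3 q3758 L61302 q4866, e3 q3759 (flp_i L42486) q2832, e3 q3760 L42505 q3760, e3 q3761 L42511 q3761, e3 q3762 L42520 q3762, e3 q3763 L61360 q4873, e3 q3764 L61376 q4875, e3 q3765 (flp_i L42537) q2835, e3 q3766 L42553 q3766, e3 q3767 L61414 q4880, e3 q3768 L42569 q3768, e3 q3769 L61430 q4882, e3 q3770 (flp_i L42578) q2838, e3 q3771 L42590 q3771, e3 q3772 L42601 q3772, e3 q3773 L61472 q4887, e3 q3774 L61487 q4889, e3 q3775 (flp_i L42615) q2842, trivial⟩ (by decide +kernel)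

theorem ce_i_59 : ∀ r, r < 64 → sm gi (Qf (3776 + r)) = Qf (tab Gen.i (3776 + r)) :=
  edges_tab (sm gi) Qf (tab Gen.i) 3776 [(3776, 4890), (3777, 2844), (3778, 3778), (3779, 3779), (3780, 4895), (3781, 2847), (3782, 3782), (3783, 4900), (3784, 3784), (3785, 4902), (3786, 2850), (3787, 3787), (3788, 4907), (3789, 3789), (3790, 4910), (3791, 4912), (3792, 2855), (3793, 4914), (3794, 2856), (3795, 3795), (3796, 3796), (3797, 4919), (3798, 4921), (3799, 2859), (3800, 4922), (3801, 2861), (3802, 3802), (3803, 4926), (3804, 4928), (3805, 4930), (3806, 2865), (3807, 4932), (3808, 2866), (3809, 2868), (3810, 3810), (3811, 3811), (3812, 4938), (3813, 4940), (3814, 2871), (3815, 4941), (3816, 2873), (3817, 3817), (3818, 4945), (3819, 4947), (3820, 4949), (3821, 2877), (3822, 4951), (3823, 2878), (3824, 2880), (3825, 3825), (3826, 2894), (3827, 4956), (3828, 2883), (3829, 4954), (3830, 2884), (3831, 4953), (3832, 2885), (3833, 4960), (3834, 2887), (3835, 4933), (3836, 4943), (3837, 4963), (3838, 2895), (3839, 4966)]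
    ⟨e3 q3776 L61493 q4890, e3 q3777 (flp_i L42631) q2844, e3 q3778 L42665 q3778, e3 q3779 L42676 q3779, e3 q3780 L61594 q4895, e3 q3781 (flp_i L42693) q2847, e3 q3782 L42711 q3782, e3 q3783 L61657 q4900, e3 q3784 L42728 q3784, e3 q3785 L61675 q4902, e3 q3786 (flp_i L42737) q2850, e3 q3787 L42754 q3787, e3 q3788 L61716 q4907, e3 q3789 L42771 q3789, e3 q3790 L61741 q4910, e3 q3791 L61755 q4912, e3 q3792 (flp_i L42788) q2855, e3 q3793 L61770 q4914, e3 q3794 (flp_i L42804) q2856, e3 q3795 L42816 q3795, e3 q3796 L42826 q3796, e3 q3797 L61817 q4919, e3 q3798 L61832 q4921, e3 q3799 (flp_i L42844) q2859, e3 q3800 L61840 q4922, e3 q3801 (flp_i L42860) q2861, e3 q3802 L42875 q3802, e3 q3803 L61873 q4926, e3 q3804 L61889 q4928, e3 q3805 L61907 q4930, e3 q3806 (flp_i L42899) q2865, e3 q3807 L61921 q4932, e3 q3808 (flp_i L42916) q2866, e3 q3809 (flp_i L42923) q2868, e3 q3810 L42937 q3810, e3 q3811 L42948 q3811, e3 q3812 L61975 q4938, e3 q3813 L61993 q4940, e3 q3814 (flp_i L42967) q2871, e3 q3815 L62002 q4941, e3 q3816 (flp_i L42988) q2873,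 e3 q3817 L43006 q3817, e3 q3818 L62039 q4945, e3 q3819 L62056 q4947, e3 q3820 L62072 q4949, e3 q3821 (flp_i L43032) q2877, e3 q3822 L62087 q4951, e3 q3823 (flp_i L43047) q2878, e3 q3824 (flp_i L43055) q2880, e3 q3825 L43071 q3825, e3 q3826 (flp_i L647549) q2894, e3 q3827 L62142 q4956, e3 q3828 (flp_i L43090) q2883, e3 q3829 L647418 q4954, e3 q3830 (flp_i L43106) q2884, e3 q3831 L647398 q4953, e3 q3832 (flp_i L43124) q2885, e3 q3833 L62194 q4960, e3 q3834 (flp_i L43137) q2887, e3 q3835 (flp_i L61935) q4933, e3 q3836 (flp_i L628050) q4943, e3 q3837 L62348 q4963, e3 q3838 (flp_i L43254) q2895, e3 q3839 L62394 q4966, trivial⟩ (by decide +kernel)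

theorem ce_i_60 : ∀ r, r < 64 → sm gi (Qf (3840 + r)) = Qf (tab Gen.i (3840 + r)) :=
  edges_tab (sm gi) Qf (tab Gen.i) 3840 [(3840, 3840), (3841, 2897), (3842, 2898), (3843, 3843), (3844, 3844), (3845, 3845), (3846, 2905), (3847, 2906), (3848, 2907), (3849, 3137), (3850, 4970), (3851, 4971), (3852, 4972), (3853, 4973), (3854, 3854), (3855, 3855), (3856, 2916), (3857, 2917), (3858, 2918), (3859, 2919), (3860, 3136), (3861, 4979), (3862, 4980), (3863, 4981), (3864, 3864), (3865, 4982), (3866, 4983), (3867, 3867), (3868, 3868), (3869, 2927), (3870, 2928), (3871, 2929), (3872, 2931), (3873, 2932), (3874, 3148), (3875, 3111), (3876, 4992), (3877, 4993), (3878, 3878), (3879, 4994), (3880, 4995), (3881, 4996), (3882, 3882), (3883, 4997), (3884, 3884), (3885, 2939), (3886, 2940), (3887, 2941), (3888, 2943), (3889, 2944), (3890, 2996), (3891, 3095), (3892, 5009), (3893, 5010), (3894, 5024), (3895, 5011), (3896, 5012), (3897, 5013), (3898, 5026), (3899, 2942), (3900, 5014), (3901, 3901), (3902, 2953), (3903, 2954)]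
    ⟨e3 q3840 L411631 q3840, e3 q3841 (flp_i L43292) q2897, e3 q3842 (flp_i L43304) q2898, e3 q3843 L43349 q3843, e3 q3844 L43357 q3844, e3 q3845 L43379 q3845, e3 q3846 L43387 q2905, e3 q3847 L43398 q2906, e3 q3848 L43406 q2907, e3 q3849 (flp_i L452659) q3137, e3 q3850 (flp_i L62549) q4970, e3 q3851 (flp_i L62558) q4971, e3 q3852 (flp_i L62569) q4972, e3 q3853 (flp_i L62578) q4973, e3 q3854 L43521 q3854, e3 q3855 L43552 q3855, e3 q3856 L43572 q2916, e3 q3857 L43580 q2917, e3 q3858 L43592 q2918, e3 q3859 L43603 q2919, e3 q3860 L594324 q3136, e3 q3861 (flp_i L62812) q4979, e3 q3862 (flp_i L62821) q4980, e3 q3863 (flp_i L62834) q4981, e3 q3864 L438828 q3864, e3 q3865 (flp_i L62852) q4982, e3 q3866 (flp_i L62861) q4983, e3 q3867 L43755 q3867, e3 q3868 L43800 q3868, e3 q3869 L43816 q2927, e3 q3870 L43823 q2928, e3 q3871 L43834 q2929, e3 q3872 L43851 q2931, e3 q3873 L43862 q2932, e3 q3874 L578222 q3148, e3 q3875 (flp_i L453059) q3111, e3 q3876 (flp_i L63189) q4992, e3 q3877 (flp_i L63198) q4993, e3 q3878 L438819 q3878, e3 q3879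 (flp_i L63212) q4994, e3 q3880 (flp_i L63220) q4995, e3 q3881 (flp_i L63232) q4996, e3 q3882 L412724 q3882, e3 q3883 (flp_i L63260) q4997, e3 q3884 L44027 q3884, e3 q3885 L44047 q2939, e3 q3886 L44056 q2940, e3 q3887 L44068 q2941, e3 q3888 L44086 q2943, e3 q3889 L44096 q2944, e3 q3890 L594110 q2996, e3 q3891 (flp_i L594535) q3095, e3 q3892 (flp_i L63535) q5009, e3 q3893 (flp_i L63547) q5010, e3 q3894 L63697 q5024, e3 q3895 (flp_i L63561) q5011, e3 q3896 (flp_i L63572) q5012, e3 q3897 (flp_i L63583) q5013, e3 q3898 L63754 q5026, e3 q3899 (flp_i L44179) q2942, e3 q3900 (flp_i L63615) q5014, e3 q3901 L44310 q3901, e3 q3902 L44335 q2953, e3 q3903 L44345 q2954, trivial⟩ (by decide +kernel)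

theorem ce_i_61 : ∀ r, r < 64 → sm gi (Qf (3904 + r)) = Qf (tab Gen.i (3904 + r)) :=
  edges_tab (sm gi) Qf (tab Gen.i) 3904 [(3904, 2956), (3905, 2957), (3906, 2958), (3907, 2961), (3908, 3018), (3909, 3021), (3910, 3007), (3911, 3113), (3912, 5027), (3913, 5033), (3914, 5028), (3915, 5029), (3916, 5048), (3917, 2955), (3918, 5030), (3919, 5031), (3920, 5049), (3921, 5032), (3922, 5050), (3923, 2959), (3924, 2973), (3925, 2975), (3926, 2976), (3927, 2979), (3928, 2980), (3929, 2982), (3930, 2974), (3931, 3048), (3932, 3032), (3933, 3051), (3934, 3053), (3935, 3035), (3936, 3126), (3937, 5051), (3938, 5052), (3939, 5057), (3940, 4630), (3941, 5053), (3942, 5076), (3943, 5054), (3944, 5078), (3945, 2977), (3946, 5055), (3947, 5056), (3948, 5079), (3949, 5080), (3950, 2981), (3951, 5081), (3952, 2983), (3953, 2992), (3954, 2993), (3955, 2994), (3956, 2995), (3957, 5017), (3958, 2997), (3959, 2998), (3960, 2999), (3961, 5093), (3962, 2989), (3963, 3002), (3964, 5082), (3965, 5083), (3966, 5084), (3967, 5085)]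
    ⟨e3 q3904 L44358 q2956, e3 q3905 L44368 q2957, e3 q3906 L44379 q2958, e3 q3907 L44410 q2961, e3 q3908 L591344 q3018, e3 q3909 L591363 q3021, e3 q3910 (flp_i L601117) q3007, e3 q3911 (flp_i L594679) q3113, e3 q3912 (flp_i L63968) q5027, e3 q3913 (flp_i L551696) q5033, e3 q3914 (flp_i L63983) q5028, e3 q3915 (flp_i L63992) q5029, e3 q3916 L64208 q5048, e3 q3917 (flp_i L44481) q2955, e3 q3918 (flp_i L64017) q5030, e3 q3919 (flp_i L64027) q5031, e3 q3920 L64248 q5049, e3 q3921 (flp_i L64048) q5032, e3 q3922 L64268 q5050, e3 q3923 (flp_i L44534) q2959, e3 q3924 L44743 q2973, e3 q3925 L44758 q2975, e3 q3926 L44768 q2976, e3 q3927 L44790 q2979, e3 q3928 L44802 q2980, e3 q3929 L44822 q2982, e3 q3930 L591068 q2974, e3 q3931 L591047 q3048, e3 q3932 (flp_i L591122) q3032, e3 q3933 (flp_i L580386) q3051, e3 q3934 L468958 q3053, e3 q3935 (flp_i L590807) q3035, e3 q3936 L593484 q3126, e3 q3937 (flp_i L64597) q5051, e3 q3938 (flp_i L64606) q5052, e3 q3939 L590860 q5057, e3 q3940 L506234 q4630, e3 q3941 (flp_i L64639) q5053, e3 q3942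 L64948 q5076, e3 q3943 (flp_i L64655) q5054, e3 q3944 L64964 q5078, e3 q3945 (flp_i L44978) q2977, e3 q3946 (flp_i L64680) q5055, e3 q3947 (flp_i L64692) q5056, e3 q3948 L65009 q5079, e3 q3949 L65019 q5080, e3 q3950 (flp_i L45023) q2981, e3 q3951 L65029 q5081, e3 q3952 (flp_i L45043) q2983, e3 q3953 L45061 q2992, e3 q3954 L45073 q2993, e3 q3955 L45082 q2994, e3 q3956 L45092 q2995, e3 q3957 L591152 q5017, e3 q3958 L45109 q2997, e3 q3959 L45118 q2998, e3 q3960 L45128 q2999, e3 q3961 L65186 q5093, e3 q3962 (flp_i L45140) q2989, e3 q3963 L45160 q3002, e3 q3964 (flp_i L65047) q5082, e3 q3965 (flp_i L65059) q5083, e3 q3966 (flp_i L65080) q5084, e3 q3967 (flp_i L65089) q5085, trivial⟩ (by decide +kernel)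

theorem ce_i_62 : ∀ r, r < 64 → sm gi (Qf (3968 + r)) = Qf (tab Gen.i (3968 + r)) :=
  edges_tab (sm gi) Qf (tab Gen.i) 3968 [(3968, 5015), (3969, 5087), (3970, 5088), (3971, 5016), (3972, 5090), (3973, 3000), (3974, 3014), (3975, 3015), (3976, 3016), (3977, 3017), (3978, 5035), (3979, 3019), (3980, 3020), (3981, 5038), (3982, 3022), (3983, 3023), (3984, 5115), (3985, 3025), (3986, 5117), (3987, 3011), (3988, 5102), (3989, 5103), (3990, 5104), (3991, 5105), (3992, 5106), (3993, 5107), (3994, 5034), (3995, 4597), (3996, 5109), (3997, 5036), (3998, 5111), (3999, 5037), (4000, 3024), (4001, 3026), (4002, 3042), (4003, 3043), (4004, 3044), (4005, 3045), (4006, 3046), (4007, 3047), (4008, 5060), (4009, 3050), (4010, 5062), (4011, 3052), (4012, 5064), (4013, 3054), (4014, 3055), (4015, 5146), (4016, 5147), (4017, 3038), (4018, 5148), (4019, 3040), (4020, 5129), (4021, 5130), (4022, 5131), (4023, 5132), (4024, 5133), (4025, 5134), (4026, 5058), (4027, 5136), (4028, 5059), (4029, 4631), (4030, 4336), (4031, 5138)]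
    ⟨e3 q3968 L591282 q5015, e3 q3969 (flp_i L65105) q5087, e3 q3970 (flp_i L65115) q5088, e3 q3971 (flp_i L594096) q5016, e3 q3972 (flp_i L65145) q5090, e3 q3973 (flp_i L45297) q3000, e3 q3974 L45314 q3014, e3 q3975 L45324 q3015, e3 q3976 L45344 q3016, e3 q3977 L45352 q3017, e3 q3978 (flp_i L456041) q5035, e3 q3979 L45365 q3019, e3 q3980 L45375 q3020, e3 q3981 (flp_i L588981) q5038, e3 q3982 L45404 q3022, e3 q3983 L45413 q3023, e3 q3984 L65614 q5115, e3 q3985 L45430 q3025, e3 q3986 L65632 q5117, e3 q3987 (flp_i L45441) q3011, e3 q3988 (flp_i L65435) q5102, e3 q3989 (flp_i L65452) q5103, e3 q3990 (flp_i L65464) q5104, e3 q3991 (flp_i L65499) q5105, e3 q3992 (flp_i L65505) q5106, e3 q3993 (flp_i L65512) q5107, e3 q3994 L455829 q5034, e3 q3995 (flp_i L502911) q4597, e3 q3996 (flp_i L65543) q5109, e3 q3997 L577758 q5036, e3 q3998 (flp_i L65560) q5111, e3 q3999 (flp_i L591384) q5037, e3 q4000 (flp_i L45623) q3024, e3 q4001 (flp_i L45640) q3026, e3 q4002 L45665 q3042, e3 q4003 L45682 q3043, e3 q4004 L45695 q3044, e3 q4005 L45727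 q3045, e3 q4006 L45735 q3046, e3 q4007 L45742 q3047, e3 q4008 (flp_i L591076) q5060, e3 q4009 L45771 q3050, e3 q4010 L469025 q5062, e3 q4011 L45787 q3052, e3 q4012 L601097 q5064, e3 q4013 L45813 q3054, e3 q4014 L45824 q3055, e3 q4015 L66210 q5146, e3 q4016 L66229 q5147, e3 q4017 (flp_i L45844) q3038, e3 q4018 L66239 q5148, e3 q4019 (flp_i L45862) q3040, e3 q4020 (flp_i L65958) q5129, e3 q4021 (flp_i L65967) q5130, e3 q4022 (flp_i L66004) q5131, e3 q4023 (flp_i L66024) q5132, e3 q4024 (flp_i L66052) q5133, e3 q4025 (flp_i L66062) q5134, e3 q4026 (flp_i L590489) q5058, e3 q4027 (flp_i L66076) q5136, e3 q4028 (flp_i L591375) q5059, e3 q4029 (flp_i L502777) q4631, e3 q4030 L575521 q4336, e3 q4031 (flp_i L66117) q5138, trivial⟩ (by decide +kernel)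

theorem ce_i_63 : ∀ r, r < 64 → sm gi (Qf (4032 + r)) = Qf (tab Gen.i (4032 + r)) :=
  edges_tab (sm gi) Qf (tab Gen.i) 4032 [(4032, 5139), (4033, 5061), (4034, 5063), (4035, 3056), (4036, 3058), (4037, 3078), (4038, 3079), (4039, 3080), (4040, 4040), (4041, 3081), (4042, 4042), (4043, 3082), (4044, 3083), (4045, 4045), (4046, 3084), (4047, 4047), (4048, 3085), (4049, 3086), (4050, 4050), (4051, 4051), (4052, 4052), (4053, 3087), (4054, 4054), (4055, 4055), (4056, 4056), (4057, 4057), (4058, 4470), (4059, 4472), (4060, 5164), (4061, 5165), (4062, 5166), (4063, 5167), (4064, 5168), (4065, 5172), (4066, 5200), (4067, 5174), (4068, 5175), (4069, 5179), (4070, 4070), (4071, 4071), (4072, 4072), (4073, 4073), (4074, 4074), (4075, 4075), (4076, 4574), (4077, 4573), (4078, 4078), (4079, 4985), (4080, 4080), (4081, 5018), (4082, 3098), (4083, 3100), (4084, 4084), (4085, 4085), (4086, 4086), (4087, 4087), (4088, 4088), (4089, 4089), (4090, 4554), (4091, 4091), (4092, 4600), (4093, 4598), (4094, 4316), (4095, 4095)]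
    ⟨e3 q4032 (flp_i L66128) q5139, e3 q4033 L580498 q5061, e3 q4034 (flp_i L590715) q5063, e3 q4035 (flp_i L46110) q3056, e3 q4036 (flp_i L46119) q3058, e3 q4037 L46156 q3078, e3 q4038 L46165 q3079, e3 q4039 L46194 q3080, e3 q4040 L46206 q4040, e3 q4041 L46216 q3081, e3 q4042 L46229 q4042, e3 q4043 L46235 q3082, e3 q4044 L46244 q3083, e3 q4045 L46255 q4045, e3 q4046 L46262 q3084, e3 q4047 L46273 q4047, e3 q4048 L46294 q3085, e3 q4049 L46304 q3086, e3 q4050 L46315 q4050, e3 q4051 L46322 q4051, e3 q4052 L46333 q4052, e3 q4053 L46342 q3087, e3 q4054 L46353 q4054, e3 q4055 L46364 q4055, e3 q4056 L46371 q4056, e3 q4057 L46380 q4057, e3 q4058 (flp_i L561587) q4470, e3 q4059 L563282 q4472, e3 q4060 (flp_i L66646) q5164, e3 q4061 (flp_i L66656) q5165, e3 q4062 (flp_i L66676) q5166, e3 q4063 (flp_i L66713) q5167, e3 q4064 (flp_i L66725) q5168, e3 q4065 (flp_i L66766) q5172, e3 q4066 L67022 q5200, e3 q4067 (flp_i L66778) q5174, e3 q4068 (flp_i L66789) q5175, e3 q4069 (flp_i L66846) q5179, e3 q4070 L46508 q4070, e3 q4071 L46528 q4071,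 e3 q4072 L46540 q4072, e3 q4073 L46572 q4073, e3 q4074 L46582 q4074, e3 q4075 L46590 q4075, e3 q4076 (flp_i L594101) q4574, e3 q4077 (flp_i L592128) q4573, e3 q4078 L46625 q4078, e3 q4079 (flp_i L594091) q4985, e3 q4080 L46643 q4080, e3 q4081 L452876 q5018, e3 q4082 (flp_i L46701) q3098, e3 q4083 (flp_i L46723) q3100, e3 q4084 L46757 q4084, e3 q4085 L46766 q4085, e3 q4086 L46803 q4086, e3 q4087 L46825 q4087, e3 q4088 L46850 q4088, e3 q4089 L46859 q4089, e3 q4090 (flp_i L593862) q4554, e3 q4091 L46877 q4091, e3 q4092 L593517 q4600, e3 q4093 L593523 q4598, e3 q4094 (flp_i L574923) q4316, e3 q4095 L46922 q4095, trivial⟩ (by decide +kernel)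

theorem ce_i_64 : ∀ r, r < 64 → sm gi (Qf (4096 + r)) = Qf (tab Gen.i (4096 + r)) :=
  edges_tab (sm gi) Qf (tab Gen.i) 4096 [(4096, 5001), (4097, 4999), (4098, 5039), (4099, 3115), (4100, 3116), (4101, 3118), (4102, 4102), (4103, 4637), (4104, 4634), (4105, 4633), (4106, 4337), (4107, 4107), (4108, 4108), (4109, 4109), (4110, 4110), (4111, 4111), (4112, 4535), (4113, 4522), (4114, 4283), (4115, 4303), (4116, 4116), (4117, 4974), (4118, 4984), (4119, 3139), (4120, 3140), (4121, 4121), (4122, 5247), (4123, 4553), (4124, 4292), (4125, 4317), (4126, 4998), (4127, 5253), (4128, 3149), (4129, 4129), (4130, 4339), (4131, 3320), (4132, 3319), (4133, 4133), (4134, 5261), (4135, 4135), (4136, 3154), (4137, 4137), (4138, 4138), (4139, 4139), (4140, 3164), (4141, 3165), (4142, 3166), (4143, 4143), (4144, 4144), (4145, 4145), (4146, 3176), (4147, 3178), (4148, 3179), (4149, 4149), (4150, 4150), (4151, 4151), (4152, 4152), (4153, 3190), (4154, 3191), (4155, 3193), (4156, 4156), (4157, 3205), (4158, 4158), (4159, 4159)]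
    ⟨e3 q4096 L593918 q5001, e3 q4097 (flp_i L593857) q4999, e3 q4098 (flp_i L594641) q5039, e3 q4099 (flp_i L46983) q3115, e3 q4100 (flp_i L47002) q3116, e3 q4101 (flp_i L47010) q3118, e3 q4102 L47064 q4102, e3 q4103 L453516 q4637, e3 q4104 L592429 q4634, e3 q4105 L567933 q4633, e3 q4106 (flp_i L575090) q4337, e3 q4107 L47220 q4107, e3 q4108 L47228 q4108, e3 q4109 L47269 q4109, e3 q4110 L47309 q4110, e3 q4111 L47319 q4111, e3 q4112 L593782 q4535, e3 q4113 (flp_i L594302) q4522, e3 q4114 L548631 q4283, e3 q4115 L475870 q4303, e3 q4116 L47381 q4116, e3 q4117 (flp_i L594295) q4974, e3 q4118 (flp_i L531787) q4984, e3 q4119 (flp_i L47437) q3139, e3 q4120 (flp_i L47457) q3140, e3 q4121 L47508 q4121, e3 q4122 L68549 q5247, e3 q4123 L593788 q4553, e3 q4124 (flp_i L548697) q4292, e3 q4125 (flp_i L475927) q4317, e3 q4126 (flp_i L566673) q4998, e3 q4127 L68647 q5253, e3 q4128 (flp_i L47649) q3149, e3 q4129 L47665 q4129, e3 q4130 (flp_i L575100) q4339, e3 q4131 L557678 q3320, e3 q4132 L557868 q3319, e3 q4133 L410498 q4133, e3 q4134 L68888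 q5261, e3 q4135 L411831 q4135, e3 q4136 (flp_i L47826) q3154, e3 q4137 L47890 q4137, e3 q4138 L47906 q4138, e3 q4139 L47935 q4139, e3 q4140 L47962 q3164, e3 q4141 L47971 q3165, e3 q4142 L47979 q3166, e3 q4143 L410844 q4143, e3 q4144 L48188 q4144, e3 q4145 L48233 q4145, e3 q4146 L48270 q3176, e3 q4147 L48284 q3178, e3 q4148 L48292 q3179, e3 q4149 L440848 q4149, e3 q4150 L410881 q4150, e3 q4151 L48580 q4151, e3 q4152 L48635 q4152, e3 q4153 L48688 q3190, e3 q4154 L48698 q3191, e3 q4155 L48720 q3193, e3 q4156 L439727 q4156, e3 q4157 (flp_i L625997) q3205, e3 q4158 L440823 q4158, e3 q4159 L48964 q4159, trivial⟩ (by decide +kernel)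

theorem ce_i_65 : ∀ r, r < 64 → sm gi (Qf (4160 + r)) = Qf (tab Gen.i (4160 + r)) :=
  edges_tab (sm gi) Qf (tab Gen.i) 4160 [(4160, 3202), (4161, 3203), (4162, 3204), (4163, 3238), (4164, 3215), (4165, 3217), (4166, 3216), (4167, 3218), (4168, 3251), (4169, 3253), (4170, 3227), (4171, 3228), (4172, 3230), (4173, 3229), (4174, 3231), (4175, 3266), (4176, 3267), (4177, 3268), (4178, 3240), (4179, 3241), (4180, 3242), (4181, 3243), (4182, 3244), (4183, 5092), (4184, 5091), (4185, 5114), (4186, 3254), (4187, 3255), (4188, 3256), (4189, 3257), (4190, 3258), (4191, 5116), (4192, 5113), (4193, 3269), (4194, 3270), (4195, 3271), (4196, 3272), (4197, 3307), (4198, 5144), (4199, 5143), (4200, 3297), (4201, 3298), (4202, 3299), (4203, 3300), (4204, 4204), (4205, 3301), (4206, 4206), (4207, 3302), (4208, 3303), (4209, 4209), (4210, 4210), (4211, 4211), (4212, 3304), (4213, 3305), (4214, 3306), (4215, 4215), (4216, 4216), (4217, 4217), (4218, 4218), (4219, 4219), (4220, 4220), (4221, 4221), (4222, 5271), (4223, 5272)]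
    ⟨e3 q4160 L49029 q3202, e3 q4161 L49038 q3203, e3 q4162 L600635 q3204, e3 q4163 L598714 q3238, e3 q4164 L49481 q3215, e3 q4165 L49498 q3217, e3 q4166 L446606 q3216, e3 q4167 (flp_i L600517) q3218, e3 q4168 (flp_i L599466) q3251, e3 q4169 L447458 q3253, e3 q4170 L50127 q3227, e3 q4171 L50137 q3228, e3 q4172 L587731 q3230, e3 q4173 L560390 q3229, e3 q4174 (flp_i L600395) q3231, e3 q4175 (flp_i L560305) q3266, e3 q4176 L560740 q3267, e3 q4177 (flp_i L447593) q3268, e3 q4178 L50472 q3240, e3 q4179 L50490 q3241, e3 q4180 L50516 q3242, e3 q4181 L50526 q3243, e3 q4182 L50557 q3244, e3 q4183 L623383 q5092, e3 q4184 L626112 q5091, e3 q4185 (flp_i L605802) q5114, e3 q4186 L50831 q3254, e3 q4187 L50841 q3255, e3 q4188 L50871 q3256, e3 q4189 L50917 q3257, e3 q4190 L50934 q3258, e3 q4191 (flp_i L623038) q5116, e3 q4192 (flp_i L623018) q5113, e3 q4193 L51338 q3269, e3 q4194 L51354 q3270, e3 q4195 L51447 q3271, e3 q4196 L51458 q3272, e3 q4197 (flp_i L624243) q3307, e3 q4198 L624781 q5144, e3 q4199 L624209 q5143, e3 q4200 L51904 q3297,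 e3 q4201 L51913 q3298, e3 q4202 L51940 q3299, e3 q4203 L51951 q3300, e3 q4204 L51963 q4204, e3 q4205 L51972 q3301, e3 q4206 L51984 q4206, e3 q4207 L52009 q3302, e3 q4208 L52019 q3303, e3 q4209 L52030 q4209, e3 q4210 L52037 q4210, e3 q4211 L52048 q4211, e3 q4212 L52055 q3304, e3 q4213 L52068 q3305, e3 q4214 L52079 q3306, e3 q4215 L52091 q4215, e3 q4216 L52107 q4216, e3 q4217 L52114 q4217, e3 q4218 L52149 q4218, e3 q4219 L52159 q4219, e3 q4220 L52166 q4220, e3 q4221 L52209 q4221, e3 q4222 (flp_i L74981) q5271, e3 q4223 (flp_i L74991) q5272, trivial⟩ (by decide +kernel)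

theorem ce_i_66 : ∀ r, r < 64 → sm gi (Qf (4224 + r)) = Qf (tab Gen.i (4224 + r)) :=
  edges_tab (sm gi) Qf (tab Gen.i) 4224 [(4224, 5273), (4225, 5274), (4226, 5275), (4227, 5276), (4228, 5145), (4229, 4229), (4230, 4230), (4231, 4231), (4232, 4232), (4233, 5256), (4234, 5258), (4235, 4235), (4236, 4236), (4237, 4237), (4238, 4238), (4239, 4239), (4240, 4240), (4241, 4241), (4242, 4242), (4243, 4243), (4244, 4244), (4245, 4245), (4246, 4246), (4247, 4247), (4248, 4248), (4249, 4249), (4250, 4250), (4251, 4251), (4252, 4252), (4253, 4253), (4254, 4254), (4255, 4255), (4256, 4256), (4257, 4257), (4258, 4258), (4259, 4259), (4260, 4260), (4261, 5329), (4262, 4262), (4263, 4263), (4264, 4264), (4265, 4265), (4266, 4266), (4267, 4267), (4268, 5340), (4269, 4269), (4270, 4270), (4271, 4271), (4272, 5346), (4273, 3344), (4274, 4274), (4275, 3348), (4276, 3349), (4277, 5347), (4278, 5348), (4279, 5349), (4280, 3352), (4281, 3353), (4282, 3354), (4283, 4114), (4284, 5355), (4285, 5356), (4286, 5357), (4287, 5358)]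
    ⟨e3 q4224 (flp_i L75010) q5273, e3 q4225 (flp_i L75057) q5274, e3 q4226 (flp_i L75072) q5275, e3 q4227 (flp_i L75084) q5276, e3 q4228 (flp_i L624361) q5145, e3 q4229 L52405 q4229, e3 q4230 L52423 q4230, e3 q4231 L52784 q4231, e3 q4232 L53377 q4232, e3 q4233 L557706 q5256, e3 q4234 L557836 q5258, e3 q4235 L55048 q4235, e3 q4236 L55056 q4236, e3 q4237 L55065 q4237, e3 q4238 L55074 q4238, e3 q4239 L55083 q4239, e3 q4240 L55092 q4240, e3 q4241 L55100 q4241, e3 q4242 L55111 q4242, e3 q4243 L55122 q4243, e3 q4244 L55132 q4244, e3 q4245 L55143 q4245, e3 q4246 L55152 q4246, e3 q4247 L55164 q4247, e3 q4248 L55174 q4248, e3 q4249 L55179 q4249, e3 q4250 L55188 q4250, e3 q4251 L55199 q4251, e3 q4252 L55210 q4252, e3 q4253 L55222 q4253, e3 q4254 L55229 q4254, e3 q4255 L55241 q4255, e3 q4256 L55249 q4256, e3 q4257 L55261 q4257, e3 q4258 L55268 q4258, e3 q4259 L55277 q4259, e3 q4260 L55284 q4260, e3 q4261 L79725 q5329, e3 q4262 L55301 q4262, e3 q4263 L55313 q4263, e3 q4264 L55320 q4264, e3 q4265 L55331 q4265, e3 q4266 L55337 q4266, e3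 q4267 L55347 q4267, e3 q4268 L79820 q5340, e3 q4269 L55364 q4269, e3 q4270 L55370 q4270, e3 q4271 L55379 q4271, e3 q4272 L79871 q5346, e3 q4273 (flp_i L55389) q3344, e3 q4274 L55406 q4274, e3 q4275 L55416 q3348, e3 q4276 L55428 q3349, e3 q4277 (flp_i L79890) q5347, e3 q4278 (flp_i L79902) q5348, e3 q4279 (flp_i L79911) q5349, e3 q4280 L55464 q3352, e3 q4281 L55475 q3353, e3 q4282 L55485 q3354, e3 q4283 (flp_i L548631) q4114, e3 q4284 (flp_i L79977) q5355, e3 q4285 (flp_i L79984) q5356, e3 q4286 (flp_i L79997) q5357, e3 q4287 (flp_i L80009) q5358, trivial⟩ (by decide +kernel)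

theorem ce_i_67 : ∀ r, r < 64 → sm gi (Qf (4288 + r)) = Qf (tab Gen.i (4288 + r)) :=
  edges_tab (sm gi) Qf (tab Gen.i) 4288 [(4288, 3359), (4289, 3360), (4290, 3361), (4291, 3362), (4292, 4124), (4293, 5366), (4294, 5367), (4295, 5368), (4296, 5381), (4297, 5370), (4298, 5371), (4299, 3367), (4300, 3368), (4301, 3369), (4302, 3370), (4303, 4115), (4304, 5383), (4305, 5384), (4306, 5385), (4307, 5398), (4308, 5387), (4309, 5388), (4310, 3376), (4311, 3377), (4312, 3378), (4313, 5407), (4314, 3380), (4315, 3381), (4316, 4094), (4317, 4125), (4318, 5400), (4319, 5401), (4320, 5418), (4321, 5403), (4322, 5404), (4323, 5405), (4324, 5424), (4325, 3379), (4326, 5408), (4327, 3390), (4328, 3391), (4329, 5430), (4330, 3393), (4331, 3394), (4332, 3395), (4333, 5436), (4334, 3385), (4335, 3398), (4336, 4030), (4337, 4106), (4338, 5443), (4339, 4130), (4340, 5425), (4341, 5449), (4342, 5427), (4343, 5428), (4344, 5454), (4345, 3392), (4346, 5431), (4347, 5432), (4348, 5459), (4349, 5434), (4350, 5461), (4351, 3396)]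
    ⟨e3 q4288 L55549 q3359, e3 q4289 L55555 q3360, e3 q4290 L55566 q3361, e3 q4291 L55578 q3362, e3 q4292 L548697 q4124, e3 q4293 (flp_i L80083) q5366, e3 q4294 (flp_i L80093) q5367, e3 q4295 (flp_i L80103) q5368, e3 q4296 L80200 q5381, e3 q4297 (flp_i L80121) q5370, e3 q4298 (flp_i L80133) q5371, e3 q4299 L55652 q3367, e3 q4300 L55660 q3368, e3 q4301 L55674 q3369, e3 q4302 L55683 q3370, e3 q4303 (flp_i L475870) q4115, e3 q4304 (flp_i L80234) q5383, e3 q4305 (flp_i L80246) q5384, e3 q4306 (flp_i L80257) q5385, e3 q4307 L80368 q5398, e3 q4308 (flp_i L80276) q5387, e3 q4309 (flp_i L80287) q5388, e3 q4310 L55762 q3376, e3 q4311 L55772 q3377, e3 q4312 L55781 q3378, e3 q4313 L80472 q5407, e3 q4314 L55799 q3380, e3 q4315 L55812 q3381, e3 q4316 L574923 q4094, e3 q4317 L475927 q4125, e3 q4318 (flp_i L80412) q5400, e3 q4319 (flp_i L80423) q5401, e3 q4320 L80564 q5418, e3 q4321 (flp_i L80440) q5403, e3 q4322 (flp_i L80449) q5404, e3 q4323 (flp_i L80460) q5405, e3 q4324 L80613 q5424, e3 q4325 (flp_i L55882) q3379, e3 q4326 (flp_i L80492)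 q5408, e3 q4327 L55924 q3390, e3 q4328 L55936 q3391, e3 q4329 L80704 q5430, e3 q4330 L55953 q3393, e3 q4331 L55961 q3394, e3 q4332 L55973 q3395, e3 q4333 L80762 q5436, e3 q4334 (flp_i L55984) q3385, e3 q4335 L56002 q3398, e3 q4336 (flp_i L575521) q4030, e3 q4337 L575090 q4106, e3 q4338 L80823 q5443, e3 q4339 L575100 q4130, e3 q4340 (flp_i L80667) q5425, e3 q4341 L80870 q5449, e3 q4342 (flp_i L80683) q5427, e3 q4343 (flp_i L80694) q5428, e3 q4344 L80908 q5454, e3 q4345 (flp_i L56074) q3392, e3 q4346 (flp_i L80721) q5431, e3 q4347 (flp_i L80732) q5432, e3 q4348 L80948 q5459, e3 q4349 (flp_i L80751) q5434, e3 q4350 L80966 q5461, e3 q4351 (flp_i L56121) q3396, trivial⟩ (by decide +kernel)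

theorem ce_i_68 : ∀ r, r < 64 → sm gi (Qf (4352 + r)) = Qf (tab Gen.i (4352 + r)) :=
  edges_tab (sm gi) Qf (tab Gen.i) 4352 [(4352, 4352), (4353, 4353), (4354, 4354), (4355, 4355), (4356, 4356), (4357, 3407), (4358, 3408), (4359, 3409), (4360, 3410), (4361, 5478), (4362, 3412), (4363, 3413), (4364, 5469), (4365, 5470), (4366, 5471), (4367, 5472), (4368, 5489), (4369, 5474), (4370, 5475), (4371, 5476), (4372, 5495), (4373, 3411), (4374, 5479), (4375, 4375), (4376, 4376), (4377, 4377), (4378, 4378), (4379, 5505), (4380, 4380), (4381, 4381), (4382, 3426), (4383, 3427), (4384, 3428), (4385, 3429), (4386, 5516), (4387, 3431), (4388, 3432), (4389, 3433), (4390, 5522), (4391, 3423), (4392, 3436), (4393, 5507), (4394, 5508), (4395, 5529), (4396, 5510), (4397, 5511), (4398, 5535), (4399, 5513), (4400, 5514), (4401, 5540), (4402, 3430), (4403, 5517), (4404, 5518), (4405, 5545), (4406, 5520), (4407, 5547), (4408, 3434), (4409, 4409), (4410, 4410), (4411, 4411), (4412, 4412), (4413, 5557), (4414, 4414), (4415, 4415)]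
    ⟨e3 q4352 L56139 q4352, e3 q4353 L56151 q4353, e3 q4354 L56158 q4354, e3 q4355 L56170 q4355, e3 q4356 L56180 q4356, e3 q4357 L56191 q3407, e3 q4358 L56200 q3408, e3 q4359 L56211 q3409, e3 q4360 L56221 q3410, e3 q4361 L81132 q5478, e3 q4362 L56237 q3412, e3 q4363 L56246 q3413, e3 q4364 (flp_i L81054) q5469, e3 q4365 (flp_i L81066) q5470, e3 q4366 (flp_i L81076) q5471, e3 q4367 (flp_i L81087) q5472, e3 q4368 L81233 q5489, e3 q4369 (flp_i L81104) q5474, e3 q4370 (flp_i L81112) q5475, e3 q4371 (flp_i L81122) q5476, e3 q4372 L81283 q5495, e3 q4373 (flp_i L56326) q3411, e3 q4374 (flp_i L81149) q5479, e3 q4375 L56355 q4375, e3 q4376 L56362 q4376, e3 q4377 L56371 q4377, e3 q4378 L56379 q4378, e3 q4379 L81369 q5505, e3 q4380 L56397 q4380, e3 q4381 L56410 q4381, e3 q4382 L56418 q3426, e3 q4383 L56428 q3427, e3 q4384 L56437 q3428, e3 q4385 L56446 q3429, e3 q4386 L81470 q5516, e3 q4387 L56462 q3431, e3 q4388 L56469 q3432, e3 q4389 L56479 q3433, e3 q4390 L81521 q5522, e3 q4391 (flp_i L56488) q3423, e3 q4392 L56505 q3436, e3 q4393 (flp_i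 L81398) q5507, e3 q4394 (flp_i L81408) q5508, e3 q4395 L81578 q5529, e3 q4396 (flp_i L81426) q5510, e3 q4397 (flp_i L81435) q5511, e3 q4398 L81623 q5535, e3 q4399 (flp_i L81449) q5513, e3 q4400 (flp_i L81460) q5514, e3 q4401 L81663 q5540, e3 q4402 (flp_i L56578) q3430, e3 q4403 (flp_i L81488) q5517, e3 q4404 (flp_i L81496) q5518, e3 q4405 L81698 q5545, e3 q4406 (flp_i L81512) q5520, e3 q4407 L81713 q5547, e3 q4408 (flp_i L56624) q3434, e3 q4409 L56636 q4409, e3 q4410 L56647 q4410, e3 q4411 L56654 q4411, e3 q4412 L56664 q4412, e3 q4413 L81798 q5557, e3 q4414 L56682 q4414, e3 q4415 L56688 q4415, trivial⟩ (by decide +kernel)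

theorem ce_i_69 : ∀ r, r < 64 → sm gi (Qf (4416 + r)) = Qf (tab Gen.i (4416 + r)) :=
  edges_tab (sm gi) Qf (tab Gen.i) 4416 [(4416, 4416), (4417, 5563), (4418, 3441), (4419, 4419), (4420, 3455), (4421, 3456), (4422, 5570), (4423, 3458), (4424, 3459), (4425, 5576), (4426, 3461), (4427, 3462), (4428, 5581), (4429, 3448), (4430, 3465), (4431, 3466), (4432, 5586), (4433, 3468), (4434, 5588), (4435, 3452), (4436, 5564), (4437, 5565), (4438, 5595), (4439, 5567), (4440, 5568), (4441, 5600), (4442, 3457), (4443, 5571), (4444, 5572), (4445, 5573), (4446, 5607), (4447, 5609), (4448, 3460), (4449, 5577), (4450, 5614), (4451, 5579), (4452, 5616), (4453, 3463), (4454, 5582), (4455, 5583), (4456, 5621), (4457, 5623), (4458, 3467), (4459, 5624), (4460, 3469), (4461, 4461), (4462, 4462), (4463, 4463), (4464, 4464), (4465, 4465), (4466, 4466), (4467, 4467), (4468, 4468), (4469, 4469), (4470, 4058), (4471, 4471), (4472, 4059), (4473, 3495), (4474, 3496), (4475, 3498), (4476, 3499), (4477, 3500), (4478, 3502), (4479, 3712)]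
    ⟨e3 q4416 L56698 q4416, e3 q4417 L81851 q5563, e3 q4418 (flp_i L56708) q3441, e3 q4419 L56726 q4419, e3 q4420 L56735 q3455, e3 q4421 L56746 q3456, e3 q4422 L81918 q5570, e3 q4423 L56764 q3458, e3 q4424 L56772 q3459, e3 q4425 L81966 q5576, e3 q4426 L56786 q3461, e3 q4427 L56798 q3462, e3 q4428 L82009 q5581, e3 q4429 (flp_i L56807) q3448, e3 q4430 L56823 q3465, e3 q4431 L56833 q3466, e3 q4432 L82052 q5586, e3 q4433 L56848 q3468, e3 q4434 L82068 q5588, e3 q4435 (flp_i L56856) q3452, e3 q4436 (flp_i L81867) q5564, e3 q4437 (flp_i L81878) q5565, e3 q4438 L82122 q5595, e3 q4439 (flp_i L81895) q5567, e3 q4440 (flp_i L81908) q5568, e3 q4441 L82166 q5600, e3 q4442 (flp_i L56914) q3457, e3 q4443 (flp_i L81936) q5571, e3 q4444 (flp_i L81944) q5572, e3 q4445 (flp_i L81953) q5573, e3 q4446 L82217 q5607, e3 q4447 L82231 q5609, e3 q4448 (flp_i L56957) q3460, e3 q4449 (flp_i L81983) q5577, e3 q4450 L82272 q5614, e3 q4451 (flp_i L82000) q5579, e3 q4452 L82289 q5616, e3 q4453 (flp_i L56995) q3463, e3 q4454 (flp_i L82023) q5582, e3 q4455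 (flp_i L82034) q5583, e3 q4456 L82326 q5621, e3 q4457 L82342 q5623, e3 q4458 (flp_i L57034) q3467, e3 q4459 L82351 q5624, e3 q4460 (flp_i L57049) q3469, e3 q4461 L57106 q4461, e3 q4462 L57114 q4462, e3 q4463 L57124 q4463, e3 q4464 L57153 q4464, e3 q4465 L57191 q4465, e3 q4466 L57212 q4466, e3 q4467 L57220 q4467, e3 q4468 L57249 q4468, e3 q4469 L57256 q4469, e3 q4470 L561587 q4058, e3 q4471 L57270 q4471, e3 q4472 (flp_i L563282) q4059, e3 q4473 L57326 q3495, e3 q4474 L57337 q3496, e3 q4475 L57366 q3498, e3 q4476 L57375 q3499, e3 q4477 L57385 q3500, e3 q4478 L57419 q3502, e3 q4479 (flp_i L489774) q3712, trivial⟩ (by decide +kernel)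

theorem ce_i_70 : ∀ r, r < 64 → sm gi (Qf (4480 + r)) = Qf (tab Gen.i (4480 + r)) :=
  edges_tab (sm gi) Qf (tab Gen.i) 4480 [(4480, 3504), (4481, 3713), (4482, 3507), (4483, 3508), (4484, 5650), (4485, 5652), (4486, 3490), (4487, 5653), (4488, 3492), (4489, 3702), (4490, 3704), (4491, 5636), (4492, 3720), (4493, 5637), (4494, 3722), (4495, 5638), (4496, 5639), (4497, 3715), (4498, 5640), (4499, 3717), (4500, 5641), (4501, 5642), (4502, 5673), (4503, 5675), (4504, 3503), (4505, 5676), (4506, 3505), (4507, 5646), (4508, 5680), (4509, 5682), (4510, 5684), (4511, 3509), (4512, 5686), (4513, 3510), (4514, 3512), (4515, 4515), (4516, 4516), (4517, 4517), (4518, 4518), (4519, 3519), (4520, 3520), (4521, 3521), (4522, 4113), (4523, 5693), (4524, 5694), (4525, 5695), (4526, 5696), (4527, 4527), (4528, 4528), (4529, 4529), (4530, 4530), (4531, 3529), (4532, 3530), (4533, 3531), (4534, 3532), (4535, 4112), (4536, 5708), (4537, 5709), (4538, 5710), (4539, 5723), (4540, 5712), (4541, 5713), (4542, 4542), (4543, 4543)]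
    ⟨e3 q4480 L57437 q3504, e3 q4481 (flp_i L563289) q3713, e3 q4482 L57460 q3507, e3 q4483 L57471 q3508, e3 q4484 L82998 q5650, e3 q4485 L83015 q5652, e3 q4486 (flp_i L57488) q3490, e3 q4487 L83023 q5653, e3 q4488 (flp_i L57507) q3492, e3 q4489 (flp_i L562810) q3702, e3 q4490 L563531 q3704, e3 q4491 (flp_i L82786) q5636, e3 q4492 L562747 q3720, e3 q4493 (flp_i L82806) q5637, e3 q4494 L536639 q3722, e3 q4495 (flp_i L82833) q5638, e3 q4496 (flp_i L82843) q5639, e3 q4497 L562760 q3715, e3 q4498 (flp_i L82862) q5640, e3 q4499 L546004 q3717, e3 q4500 (flp_i L82909) q5641, e3 q4501 (flp_i L82920) q5642, e3 q4502 L83349 q5673, e3 q4503 L83363 q5675, e3 q4504 (flp_i L57718) q3503, e3 q4505 L83373 q5676, e3 q4506 (flp_i L57736) q3505, e3 q4507 (flp_i L82973) q5646, e3 q4508 L83406 q5680, e3 q4509 L83422 q5682, e3 q4510 L83438 q5684, e3 q4511 (flp_i L57775) q3509, e3 q4512 L83453 q5686, e3 q4513 (flp_i L57791) q3510, e3 q4514 (flp_i L57800) q3512, e3 q4515 L57820 q4515, e3 q4516 L57829 q4516, e3 q4517 L57840 q4517, e3 q4518 L57852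 q4518, e3 q4519 L57859 q3519, e3 q4520 L57871 q3520, e3 q4521 L57880 q3521, e3 q4522 L594302 q4113, e3 q4523 (flp_i L83555) q5693, e3 q4524 (flp_i L83563) q5694, e3 q4525 (flp_i L83572) q5695, e3 q4526 (flp_i L83582) q5696, e3 q4527 L57935 q4527, e3 q4528 L57945 q4528, e3 q4529 L57969 q4529, e3 q4530 L57979 q4530, e3 q4531 L58001 q3529, e3 q4532 L58008 q3530, e3 q4533 L58018 q3531, e3 q4534 L58030 q3532, e3 q4535 (flp_i L593782) q4112, e3 q4536 (flp_i L83749) q5708, e3 q4537 (flp_i L83759) q5709, e3 q4538 (flp_i L83771) q5710, e3 q4539 L83873 q5723, e3 q4540 (flp_i L83786) q5712, e3 q4541 (flp_i L83796) q5713, e3 q4542 L58109 q4542, e3 q4543 L58118 q4543, trivial⟩ (by decide +kernel)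

theorem ce_i_71 : ∀ r, r < 64 → sm gi (Qf (4544 + r)) = Qf (tab Gen.i (4544 + r)) :=
  edges_tab (sm gi) Qf (tab Gen.i) 4544 [(4544, 4544), (4545, 4545), (4546, 4546), (4547, 3542), (4548, 3543), (4549, 3544), (4550, 5739), (4551, 3546), (4552, 3547), (4553, 4123), (4554, 4090), (4555, 5732), (4556, 5733), (4557, 5747), (4558, 5735), (4559, 5736), (4560, 5737), (4561, 5753), (4562, 3545), (4563, 5740), (4564, 4564), (4565, 4565), (4566, 4566), (4567, 3555), (4568, 3556), (4569, 3557), (4570, 5765), (4571, 3559), (4572, 3560), (4573, 4077), (4574, 4076), (4575, 5758), (4576, 5759), (4577, 5776), (4578, 5761), (4579, 5762), (4580, 5763), (4581, 5782), (4582, 3558), (4583, 5766), (4584, 4584), (4585, 5786), (4586, 4586), (4587, 4587), (4588, 3572), (4589, 3573), (4590, 5793), (4591, 3575), (4592, 3576), (4593, 3577), (4594, 5799), (4595, 3567), (4596, 3580), (4597, 3995), (4598, 4093), (4599, 5806), (4600, 4092), (4601, 5788), (4602, 5812), (4603, 5790), (4604, 5791), (4605, 5817), (4606, 3574), (4607, 5794)]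
    ⟨e3 q4544 L58146 q4544, e3 q4545 L58155 q4545, e3 q4546 L58167 q4546, e3 q4547 L58184 q3542, e3 q4548 L58192 q3543, e3 q4549 L58202 q3544, e3 q4550 L84074 q5739, e3 q4551 L58216 q3546, e3 q4552 L58228 q3547, e3 q4553 (flp_i L593788) q4123, e3 q4554 L593862 q4090, e3 q4555 (flp_i L84022) q5732, e3 q4556 (flp_i L84033) q5733, e3 q4557 L84156 q5747, e3 q4558 (flp_i L84048) q5735, e3 q4559 (flp_i L84055) q5736, e3 q4560 (flp_i L84065) q5737, e3 q4561 L84201 q5753, e3 q4562 (flp_i L58294) q3545, e3 q4563 (flp_i L84089) q5740, e3 q4564 L58339 q4564, e3 q4565 L58351 q4565, e3 q4566 L58360 q4566, e3 q4567 L58381 q3555, e3 q4568 L58391 q3556, e3 q4569 L58402 q3557, e3 q4570 L84367 q5765, e3 q4571 L58417 q3559, e3 q4572 L58428 q3560, e3 q4573 L592128 q4077, e3 q4574 L594101 q4076, e3 q4575 (flp_i L84307) q5758, e3 q4576 (flp_i L84321) q5759, e3 q4577 L84464 q5776, e3 q4578 (flp_i L84336) q5761, e3 q4579 (flp_i L84346) q5762, e3 q4580 (flp_i L84355) q5763, e3 q4581 L84517 q5782, e3 q4582 (flp_i L58508) q3558, e3 q4583 (flp_i L84383)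 q5766, e3 q4584 L58561 q4584, e3 q4585 L84605 q5786, e3 q4586 L58578 q4586, e3 q4587 L58591 q4587, e3 q4588 L58614 q3572, e3 q4589 L58626 q3573, e3 q4590 L84702 q5793, e3 q4591 L58640 q3575, e3 q4592 L58649 q3576, e3 q4593 L58658 q3577, e3 q4594 L84756 q5799, e3 q4595 (flp_i L58669) q3567, e3 q4596 L58685 q3580, e3 q4597 L502911 q3995, e3 q4598 (flp_i L593523) q4093, e3 q4599 L84812 q5806, e3 q4600 (flp_i L593517) q4092, e3 q4601 (flp_i L84670) q5788, e3 q4602 L84863 q5812, e3 q4603 (flp_i L84684) q5790, e3 q4604 (flp_i L84692) q5791, e3 q4605 L84900 q5817, e3 q4606 (flp_i L58755) q3574, e3 q4607 (flp_i L84718) q5794, trivial⟩ (by decide +kernel)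

theorem ce_i_72 : ∀ r, r < 64 → sm gi (Qf (4608 + r)) = Qf (tab Gen.i (4608 + r)) :=
  edges_tab (sm gi) Qf (tab Gen.i) 4608 [(4608, 5795), (4609, 5822), (4610, 5797), (4611, 5824), (4612, 3578), (4613, 4613), (4614, 4614), (4615, 5829), (4616, 3582), (4617, 4617), (4618, 3598), (4619, 5833), (4620, 3600), (4621, 3601), (4622, 5838), (4623, 3587), (4624, 3604), (4625, 3605), (4626, 5843), (4627, 3607), (4628, 5845), (4629, 3591), (4630, 3940), (4631, 4029), (4632, 5852), (4633, 4105), (4634, 4104), (4635, 5857), (4636, 3596), (4637, 4103), (4638, 5830), (4639, 5831), (4640, 5864), (4641, 5866), (4642, 3599), (4643, 5834), (4644, 5871), (4645, 5836), (4646, 5873), (4647, 3602), (4648, 5839), (4649, 5840), (4650, 5878), (4651, 5880), (4652, 3606), (4653, 5881), (4654, 3608), (4655, 3617), (4656, 3618), (4657, 3619), (4658, 3620), (4659, 5891), (4660, 3622), (4661, 3623), (4662, 3624), (4663, 5897), (4664, 3614), (4665, 3627), (4666, 5882), (4667, 5883), (4668, 5904), (4669, 5885), (4670, 5886), (4671, 5910)]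
    ⟨e3 q4608 (flp_i L84727) q5795, e3 q4609 L84934 q5822, e3 q4610 (flp_i L84745) q5797, e3 q4611 L84951 q5824, e3 q4612 (flp_i L58804) q3578, e3 q4613 L58871 q4613, e3 q4614 L58880 q4614, e3 q4615 L85091 q5829, e3 q4616 (flp_i L58890) q3582, e3 q4617 L58907 q4617, e3 q4618 L58953 q3598, e3 q4619 L85209 q5833, e3 q4620 L58967 q3600, e3 q4621 L58976 q3601, e3 q4622 L85249 q5838, e3 q4623 (flp_i L58985) q3587, e3 q4624 L58999 q3604, e3 q4625 L59010 q3605, e3 q4626 L85291 q5843, e3 q4627 L59027 q3607, e3 q4628 L85309 q5845, e3 q4629 (flp_i L59037) q3591, e3 q4630 (flp_i L506234) q3940, e3 q4631 L502777 q4029, e3 q4632 L85368 q5852, e3 q4633 (flp_i L567933) q4105, e3 q4634 (flp_i L592429) q4104, e3 q4635 L85407 q5857, e3 q4636 (flp_i L59094) q3596, e3 q4637 (flp_i L453516) q4103, e3 q4638 (flp_i L85181) q5830, e3 q4639 (flp_i L85191) q5831, e3 q4640 L85468 q5864, e3 q4641 L85485 q5866, e3 q4642 (flp_i L59143) q3599, e3 q4643 (flp_i L85225) q5834, e3 q4644 L85521 q5871, e3 q4645 (flp_i L85240) q5836, e3 q4646 L85536 q5873, e3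 q4647 (flp_i L59178) q3602, e3 q4648 (flp_i L85264) q5839, e3 q4649 (flp_i L85274) q5840, e3 q4650 L85575 q5878, e3 q4651 L85592 q5880, e3 q4652 (flp_i L59216) q3606, e3 q4653 L85599 q5881, e3 q4654 (flp_i L59233) q3608, e3 q4655 L59249 q3617, e3 q4656 L59261 q3618, e3 q4657 L59269 q3619, e3 q4658 L59281 q3620, e3 q4659 L85695 q5891, e3 q4660 L59299 q3622, e3 q4661 L59307 q3623, e3 q4662 L59315 q3624, e3 q4663 L85750 q5897, e3 q4664 (flp_i L59326) q3614, e3 q4665 L59343 q3627, e3 q4666 (flp_i L85615) q5882, e3 q4667 (flp_i L85628) q5883, e3 q4668 L85814 q5904, e3 q4669 (flp_i L85648) q5885, e3 q4670 (flp_i L85659) q5886, e3 q4671 L85867 q5910, trivial⟩ (by decide +kernel)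

theorem ce_i_73 : ∀ r, r < 64 → sm gi (Qf (4672 + r)) = Qf (tab Gen.i (4672 + r)) :=
  edges_tab (sm gi) Qf (tab Gen.i) 4672 [(4672, 5888), (4673, 5889), (4674, 5915), (4675, 3621), (4676, 5892), (4677, 5893), (4678, 5920), (4679, 5895), (4680, 5922), (4681, 3625), (4682, 3639), (4683, 3640), (4684, 5929), (4685, 3642), (4686, 3643), (4687, 5935), (4688, 3645), (4689, 3646), (4690, 5940), (4691, 3632), (4692, 3649), (4693, 3650), (4694, 5945), (4695, 3652), (4696, 5947), (4697, 3636), (4698, 5923), (4699, 5924), (4700, 5952), (4701, 5926), (4702, 5927), (4703, 5957), (4704, 3641), (4705, 5930), (4706, 5931), (4707, 5932), (4708, 5964), (4709, 5966), (4710, 3644), (4711, 5936), (4712, 5971), (4713, 5938), (4714, 5973), (4715, 3647), (4716, 5941), (4717, 5942), (4718, 5978), (4719, 5980), (4720, 3651), (4721, 5981), (4722, 3653), (4723, 3671), (4724, 3672), (4725, 5986), (4726, 3674), (4727, 3675), (4728, 5991), (4729, 3657), (4730, 3678), (4731, 3679), (4732, 3680), (4733, 5998), (4734, 5999), (4735, 3660)]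
    ⟨e3 q4672 (flp_i L85674) q5888, e3 q4673 (flp_i L85683) q5889, e3 q4674 L85907 q5915, e3 q4675 (flp_i L59425) q3621, e3 q4676 (flp_i L85714) q5892, e3 q4677 (flp_i L85724) q5893, e3 q4678 L85945 q5920, e3 q4679 (flp_i L85739) q5895, e3 q4680 L85962 q5922, e3 q4681 (flp_i L59475) q3625, e3 q4682 L59490 q3639, e3 q4683 L59501 q3640, e3 q4684 L86024 q5929, e3 q4685 L59520 q3642, e3 q4686 L59530 q3643, e3 q4687 L86076 q5935, e3 q4688 L59542 q3645, e3 q4689 L59551 q3646, e3 q4690 L86118 q5940, e3 q4691 (flp_i L59562) q3632, e3 q4692 L59581 q3649, e3 q4693 L59589 q3650, e3 q4694 L86155 q5945, e3 q4695 L59603 q3652, e3 q4696 L86170 q5947, e3 q4697 (flp_i L59613) q3636, e3 q4698 (flp_i L85976) q5923, e3 q4699 (flp_i L85987) q5924, e3 q4700 L86228 q5952, e3 q4701 (flp_i L86002) q5926, e3 q4702 (flp_i L86012) q5927, e3 q4703 L86271 q5957, e3 q4704 (flp_i L59668) q3641, e3 q4705 (flp_i L86045) q5930, e3 q4706 (flp_i L86051) q5931, e3 q4707 (flp_i L86059) q5932, e3 q4708 L86321 q5964, e3 q4709 L86335 q5966, e3 q4710 (flp_i L59715)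 q3644, e3 q4711 (flp_i L86091) q5936, e3 q4712 L86372 q5971, e3 q4713 (flp_i L86107) q5938, e3 q4714 L86388 q5973, e3 q4715 (flp_i L59752) q3647, e3 q4716 (flp_i L86131) q5941, e3 q4717 (flp_i L86141) q5942, e3 q4718 L86428 q5978, e3 q4719 L86441 q5980, e3 q4720 (flp_i L59785) q3651, e3 q4721 L86448 q5981, e3 q4722 (flp_i L59799) q3653, e3 q4723 L59813 q3671, e3 q4724 L59825 q3672, e3 q4725 L86509 q5986, e3 q4726 L59840 q3674, e3 q4727 L59851 q3675, e3 q4728 L86555 q5991, e3 q4729 (flp_i L59862) q3657, e3 q4730 L59881 q3678, e3 q4731 L59889 q3679, e3 q4732 L59897 q3680, e3 q4733 L86613 q5998, e3 q4734 L86628 q5999, e3 q4735 (flp_i L59912) q3660, trivial⟩ (by decide +kernel)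

theorem ce_i_74 : ∀ r, r < 64 → sm gi (Qf (4736 + r)) = Qf (tab Gen.i (4736 + r)) :=
  edges_tab (sm gi) Qf (tab Gen.i) 4736 [(4736, 3684), (4737, 6004), (4738, 3686), (4739, 6006), (4740, 3663), (4741, 3689), (4742, 3690), (4743, 6011), (4744, 6013), (4745, 3667), (4746, 6014), (4747, 3669), (4748, 5982), (4749, 5983), (4750, 5984), (4751, 6022), (4752, 3673), (4753, 5987), (4754, 6027), (4755, 5989), (4756, 6029), (4757, 3676), (4758, 5992), (4759, 5993), (4760, 6036), (4761, 5995), (4762, 6039), (4763, 6041), (4764, 3681), (4765, 6043), (4766, 3682), (4767, 6000), (4768, 6001), (4769, 6048), (4770, 6050), (4771, 3685), (4772, 6051), (4773, 3687), (4774, 6007), (4775, 6055), (4776, 6057), (4777, 6059), (4778, 3691), (4779, 6061), (4780, 3692), (4781, 3694), (4782, 3714), (4783, 3716), (4784, 3718), (4785, 3719), (4786, 3721), (4787, 3723), (4788, 3724), (4789, 5655), (4790, 5654), (4791, 5656), (4792, 3730), (4793, 6077), (4794, 6079), (4795, 6081), (4796, 3707), (4797, 6083), (4798, 3708), (4799, 3710)]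
    ⟨e3 q4736 L59927 q3684, e3 q4737 L86669 q6004, e3 q4738 L59942 q3686, e3 q4739 L86686 q6006, e3 q4740 (flp_i L59952) q3663, e3 q4741 L59967 q3689, e3 q4742 L59976 q3690, e3 q4743 L86725 q6011, e3 q4744 L86741 q6013, e3 q4745 (flp_i L59993) q3667, e3 q4746 L86748 q6014, e3 q4747 (flp_i L60008) q3669, e3 q4748 (flp_i L86465) q5982, e3 q4749 (flp_i L86480) q5983, e3 q4750 (flp_i L86490) q5984, e3 q4751 L86845 q6022, e3 q4752 (flp_i L60063) q3673, e3 q4753 (flp_i L86527) q5987, e3 q4754 L86908 q6027, e3 q4755 (flp_i L86544) q5989, e3 q4756 L86926 q6029, e3 q4757 (flp_i L60104) q3676, e3 q4758 (flp_i L86569) q5992, e3 q4759 (flp_i L86581) q5993, e3 q4760 L86972 q6036, e3 q4761 (flp_i L86596) q5995, e3 q4762 L86994 q6039, e3 q4763 L87007 q6041, e3 q4764 (flp_i L60156) q3681, e3 q4765 L87023 q6043, e3 q4766 (flp_i L60170) q3682, e3 q4767 (flp_i L86640) q6000, e3 q4768 (flp_i L86650) q6001, e3 q4769 L87070 q6048, e3 q4770 L87085 q6050, e3 q4771 (flp_i L60209) q3685, e3 q4772 L87094 q6051, e3 q4773 (flp_i L60225) q3687, e3 q4774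 (flp_i L86702) q6007, e3 q4775 L87123 q6055, e3 q4776 L87138 q6057, e3 q4777 L87155 q6059, e3 q4778 (flp_i L60262) q3691, e3 q4779 L87171 q6061, e3 q4780 (flp_i L60277) q3692, e3 q4781 (flp_i L60285) q3694, e3 q4782 L60367 q3714, e3 q4783 L60385 q3716, e3 q4784 L60412 q3718, e3 q4785 L60423 q3719, e3 q4786 L60441 q3721, e3 q4787 L60492 q3723, e3 q4788 L60501 q3724, e3 q4789 (flp_i L489608) q5655, e3 q4790 L562041 q5654, e3 q4791 L563565 q5656, e3 q4792 L60553 q3730, e3 q4793 L87593 q6077, e3 q4794 L87609 q6079, e3 q4795 L87627 q6081, e3 q4796 (flp_i L60577) q3707, e3 q4797 L87640 q6083, e3 q4798 (flp_i L60593) q3708, e3 q4799 (flp_i L60600) q3710, trivial⟩ (by decide +kernel)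

theorem ce_i_75 : ∀ r, r < 64 → sm gi (Qf (4800 + r)) = Qf (tab Gen.i (4800 + r)) :=
  edges_tab (sm gi) Qf (tab Gen.i) 4800 [(4800, 5644), (4801, 5643), (4802, 5645), (4803, 6063), (4804, 6064), (4805, 5666), (4806, 5667), (4807, 5668), (4808, 6065), (4809, 6098), (4810, 6067), (4811, 6068), (4812, 5659), (4813, 5660), (4814, 5661), (4815, 6069), (4816, 6107), (4817, 6109), (4818, 6111), (4819, 3725), (4820, 6113), (4821, 3726), (4822, 3728), (4823, 6074), (4824, 6117), (4825, 6120), (4826, 3731), (4827, 6122), (4828, 3732), (4829, 6124), (4830, 3733), (4831, 6127), (4832, 3735), (4833, 6062), (4834, 4834), (4835, 6132), (4836, 4836), (4837, 4837), (4838, 6137), (4839, 3740), (4840, 4840), (4841, 4841), (4842, 4842), (4843, 6144), (4844, 6146), (4845, 3743), (4846, 4846), (4847, 6151), (4848, 4848), (4849, 6153), (4850, 3746), (4851, 4851), (4852, 4852), (4853, 6158), (4854, 6160), (4855, 3750), (4856, 6161), (4857, 3752), (4858, 4858), (4859, 4859), (4860, 6167), (4861, 3755), (4862, 4862), (4863, 6172)]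
    ⟨e3 q4800 (flp_i L562592) q5644, e3 q4801 (flp_i L562585) q5643, e3 q4802 L563270 q5645, e3 q4803 (flp_i L87329) q6063, e3 q4804 (flp_i L87339) q6064, e3 q4805 (flp_i L562783) q5666, e3 q4806 L508715 q5667, e3 q4807 L546027 q5668, e3 q4808 (flp_i L87396) q6065, e3 q4809 L87886 q6098, e3 q4810 (flp_i L87409) q6067, e3 q4811 (flp_i L87419) q6068, e3 q4812 (flp_i L562777) q5659, e3 q4813 L546637 q5660, e3 q4814 (flp_i L524208) q5661, e3 q4815 (flp_i L87513) q6069, e3 q4816 L87977 q6107, e3 q4817 L87993 q6109, e3 q4818 L88008 q6111, e3 q4819 (flp_i L60859) q3725, e3 q4820 L88025 q6113, e3 q4821 (flp_i L60872) q3726, e3 q4822 (flp_i L60881) q3728, e3 q4823 (flp_i L87576) q6074, e3 q4824 L88054 q6117, e3 q4825 L88075 q6120, e3 q4826 (flp_i L60911) q3731, e3 q4827 L88091 q6122, e3 q4828 (flp_i L60926) q3732, e3 q4829 L88108 q6124, e3 q4830 (flp_i L60943) q3733, e3 q4831 L88132 q6127, e3 q4832 (flp_i L60958) q3735, e3 q4833 (flp_i L87185) q6062, e3 q4834 L60994 q4834, e3 q4835 L88208 q6132, e3 q4836 L61012 q4836, e3 q4837 L61022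 q4837, e3 q4838 L88257 q6137, e3 q4839 (flp_i L61033) q3740, e3 q4840 L61052 q4840, e3 q4841 L61062 q4841, e3 q4842 L61071 q4842, e3 q4843 L88323 q6144, e3 q4844 L88342 q6146, e3 q4845 (flp_i L61090) q3743, e3 q4846 L61107 q4846, e3 q4847 L88384 q6151, e3 q4848 L61124 q4848, e3 q4849 L88403 q6153, e3 q4850 (flp_i L61134) q3746, e3 q4851 L61148 q4851, e3 q4852 L61158 q4852, e3 q4853 L88444 q6158, e3 q4854 L88461 q6160, e3 q4855 (flp_i L61176) q3750, e3 q4856 L88469 q6161, e3 q4857 (flp_i L61195) q3752, e3 q4858 L61227 q4858, e3 q4859 L61237 q4859, e3 q4860 L88581 q6167, e3 q4861 (flp_i L61256) q3755, e3 q4862 L61274 q4862, e3 q4863 L88642 q6172, trivial⟩ (by decide +kernel)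

theorem ce_i_76 : ∀ r, r < 64 → sm gi (Qf (4864 + r)) = Qf (tab Gen.i (4864 + r)) :=
  edges_tab (sm gi) Qf (tab Gen.i) 4864 [(4864, 4864), (4865, 6174), (4866, 3758), (4867, 4867), (4868, 4868), (4869, 6181), (4870, 4870), (4871, 6184), (4872, 6186), (4873, 3763), (4874, 6188), (4875, 3764), (4876, 4876), (4877, 4877), (4878, 6193), (4879, 6195), (4880, 3767), (4881, 6196), (4882, 3769), (4883, 4883), (4884, 6200), (4885, 6202), (4886, 6204), (4887, 3773), (4888, 6206), (4889, 3774), (4890, 3776), (4891, 4891), (4892, 6212), (4893, 4893), (4894, 6214), (4895, 3780), (4896, 4896), (4897, 4897), (4898, 6219), (4899, 6221), (4900, 3783), (4901, 6222), (4902, 3785), (4903, 4903), (4904, 4904), (4905, 6227), (4906, 6230), (4907, 3788), (4908, 6232), (4909, 6234), (4910, 3790), (4911, 6236), (4912, 3791), (4913, 6238), (4914, 3793), (4915, 4915), (4916, 6242), (4917, 6244), (4918, 6246), (4919, 3797), (4920, 6248), (4921, 3798), (4922, 3800), (4923, 4923), (4924, 6252), (4925, 6255), (4926, 3803), (4927, 6257)]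
    ⟨e3 q4864 L61292 q4864, e3 q4865 L88660 q6174, e3 q4866 (flp_i L61302) q3758, e3 q4867 L61314 q4867, e3 q4868 L61325 q4868, e3 q4869 L88716 q6181, e3 q4870 L61343 q4870, e3 q4871 L88743 q6184, e3 q4872 L88758 q6186, e3 q4873 (flp_i L61360) q3763, e3 q4874 L88771 q6188, e3 q4875 (flp_i L61376) q3764, e3 q4876 L61388 q4876, e3 q4877 L61399 q4877, e3 q4878 L88821 q6193, e3 q4879 L88834 q6195, e3 q4880 (flp_i L61414) q3767, e3 q4881 L88841 q6196, e3 q4882 (flp_i L61430) q3769, e3 q4883 L61448 q4883, e3 q4884 L88876 q6200, e3 q4885 L88892 q6202, e3 q4886 L88908 q6204, e3 q4887 (flp_i L61472) q3773, e3 q4888 L88920 q6206, e3 q4889 (flp_i L61487) q3774, e3 q4890 (flp_i L61493) q3776, e3 q4891 L61556 q4891, e3 q4892 L89052 q6212, e3 q4893 L61575 q4893, e3 q4894 L89080 q6214, e3 q4895 (flp_i L61594) q3780, e3 q4896 L61626 q4896, e3 q4897 L61637 q4897, e3 q4898 L89166 q6219, e3 q4899 L89184 q6221, e3 q4900 (flp_i L61657) q3783, e3 q4901 L89193 q6222, e3 q4902 (flp_i L61675) q3785, e3 q4903 L61689 q4903, e3 q4904 L61699 q4904, e3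 q4905 L89235 q6227, e3 q4906 L89259 q6230, e3 q4907 (flp_i L61716) q3788, e3 q4908 L89274 q6232, e3 q4909 L89290 q6234, e3 q4910 (flp_i L61741) q3790, e3 q4911 L89305 q6236, e3 q4912 (flp_i L61755) q3791, e3 q4913 L89326 q6238, e3 q4914 (flp_i L61770) q3793, e3 q4915 L61792 q4915, e3 q4916 L89367 q6242, e3 q4917 L89384 q6244, e3 q4918 L89400 q6246, e3 q4919 (flp_i L61817) q3797, e3 q4920 L89416 q6248, e3 q4921 (flp_i L61832) q3798, e3 q4922 (flp_i L61840) q3800, e3 q4923 L61854 q4923, e3 q4924 L89448 q6252, e3 q4925 L89472 q6255, e3 q4926 (flp_i L61873) q3803, e3 q4927 L89489 q6257, trivial⟩ (by decide +kernel)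

theorem ce_i_77 : ∀ r, r < 64 → sm gi (Qf (4928 + r)) = Qf (tab Gen.i (4928 + r)) :=
  edges_tab (sm gi) Qf (tab Gen.i) 4928 [(4928, 3804), (4929, 6259), (4930, 3805), (4931, 6262), (4932, 3807), (4933, 3835), (4934, 4934), (4935, 6267), (4936, 6269), (4937, 6271), (4938, 3812), (4939, 6273), (4940, 3813), (4941, 3815), (4942, 4942), (4943, 3836), (4944, 6278), (4945, 3818), (4946, 6280), (4947, 3819), (4948, 6282), (4949, 3820), (4950, 6285), (4951, 3822), (4952, 6249), (4953, 3831), (4954, 3829), (4955, 6121), (4956, 3827), (4957, 6275), (4958, 6260), (4959, 6288), (4960, 3833), (4961, 6263), (4962, 6265), (4963, 3837), (4964, 6291), (4965, 4965), (4966, 3839), (4967, 4967), (4968, 4968), (4969, 4969), (4970, 3850), (4971, 3851), (4972, 3852), (4973, 3853), (4974, 4117), (4975, 6295), (4976, 6296), (4977, 4977), (4978, 4978), (4979, 3861), (4980, 3862), (4981, 3863), (4982, 3865), (4983, 3866), (4984, 4118), (4985, 4079), (4986, 6300), (4987, 6301), (4988, 4988), (4989, 6302), (4990, 4990), (4991, 4991)]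
    ⟨e3 q4928 (flp_i L61889) q3804, e3 q4929 L89504 q6259, e3 q4930 (flp_i L61907) q3805, e3 q4931 L89528 q6262, e3 q4932 (flp_i L61921) q3807, e3 q4933 L61935 q3835, e3 q4934 L61946 q4934, e3 q4935 L89573 q6267, e3 q4936 L89592 q6269, e3 q4937 L89611 q6271, e3 q4938 (flp_i L61975) q3812, e3 q4939 L89626 q6273, e3 q4940 (flp_i L61993) q3813, e3 q4941 (flp_i L62002) q3815, e3 q4942 L62019 q4942, e3 q4943 L628050 q3836, e3 q4944 L89684 q6278, e3 q4945 (flp_i L62039) q3818, e3 q4946 L89699 q6280, e3 q4947 (flp_i L62056) q3819, e3 q4948 L89715 q6282, e3 q4949 (flp_i L62072) q3820, e3 q4950 L89736 q6285, e3 q4951 (flp_i L62087) q3822, e3 q4952 (flp_i L89429) q6249, e3 q4953 (flp_i L647398) q3831, e3 q4954 (flp_i L647418) q3829, e3 q4955 (flp_i L647412) q6121, e3 q4956 (flp_i L62142) q3827, e3 q4957 L647540 q6275, e3 q4958 (flp_i L89518) q6260, e3 q4959 L89876 q6288, e3 q4960 (flp_i L62194) q3833, e3 q4961 (flp_i L89542) q6263, e3 q4962 L647559 q6265, e3 q4963 (flp_i L62348) q3837, e3 q4964 L90117 q6291, e3 q4965 L411696 q4965,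 e3 q4966 (flp_i L62394) q3839, e3 q4967 L62479 q4967, e3 q4968 L62498 q4968, e3 q4969 L62529 q4969, e3 q4970 L62549 q3850, e3 q4971 L62558 q3851, e3 q4972 L62569 q3852, e3 q4973 L62578 q3853, e3 q4974 L594295 q4117, e3 q4975 (flp_i L90348) q6295, e3 q4976 (flp_i L90356) q6296, e3 q4977 L62745 q4977, e3 q4978 L62795 q4978, e3 q4979 L62812 q3861, e3 q4980 L62821 q3862, e3 q4981 L62834 q3863, e3 q4982 L62852 q3865, e3 q4983 L62861 q3866, e3 q4984 L531787 q4118, e3 q4985 L594091 q4079, e3 q4986 (flp_i L90751) q6300, e3 q4987 (flp_i L90762) q6301, e3 q4988 L400300 q4988, e3 q4989 (flp_i L90777) q6302, e3 q4990 L63102 q4990, e3 q4991 L63164 q4991, trivial⟩ (by decide +kernel)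

theorem ce_i_78 : ∀ r, r < 64 → sm gi (Qf (4992 + r)) = Qf (tab Gen.i (4992 + r)) :=
  edges_tab (sm gi) Qf (tab Gen.i) 4992 [(4992, 3876), (4993, 3877), (4994, 3879), (4995, 3880), (4996, 3881), (4997, 3883), (4998, 4126), (4999, 4097), (5000, 5000), (5001, 4096), (5002, 6308), (5003, 5003), (5004, 6309), (5005, 6310), (5006, 5006), (5007, 6311), (5008, 5008), (5009, 3892), (5010, 3893), (5011, 3895), (5012, 3896), (5013, 3897), (5014, 3900), (5015, 3968), (5016, 3971), (5017, 3957), (5018, 4081), (5019, 6318), (5020, 6321), (5021, 6319), (5022, 6320), (5023, 6329), (5024, 3894), (5025, 6313), (5026, 3898), (5027, 3912), (5028, 3914), (5029, 3915), (5030, 3918), (5031, 3919), (5032, 3921), (5033, 3913), (5034, 3994), (5035, 3978), (5036, 3997), (5037, 3999), (5038, 3981), (5039, 4098), (5040, 6330), (5041, 6331), (5042, 6334), (5043, 5800), (5044, 6332), (5045, 6347), (5046, 6333), (5047, 6348), (5048, 3916), (5049, 3920), (5050, 3922), (5051, 3937), (5052, 3938), (5053, 3941), (5054, 3943), (5055, 3946)]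
    ⟨e3 q4992 L63189 q3876, e3 q4993 L63198 q3877, e3 q4994 L63212 q3879, e3 q4995 L63220 q3880, e3 q4996 L63232 q3881, e3 q4997 L63260 q3883, e3 q4998 L566673 q4126, e3 q4999 L593857 q4097, e3 q5000 L440832 q5000, e3 q5001 (flp_i L593918) q4096, e3 q5002 (flp_i L91314) q6308, e3 q5003 L439040 q5003, e3 q5004 (flp_i L91327) q6309, e3 q5005 (flp_i L91338) q6310, e3 q5006 L438953 q5006, e3 q5007 (flp_i L91362) q6311, e3 q5008 L63504 q5008, e3 q5009 L63535 q3892, e3 q5010 L63547 q3893, e3 q5011 L63561 q3895, e3 q5012 L63572 q3896, e3 q5013 L63583 q3897, e3 q5014 L63615 q3900, e3 q5015 (flp_i L591282) q3968, e3 q5016 L594096 q3971, e3 q5017 (flp_i L591152) q3957, e3 q5018 (flp_i L452876) q4081, e3 q5019 (flp_i L91832) q6318, e3 q5020 (flp_i L576161) q6321, e3 q5021 (flp_i L91850) q6319, e3 q5022 (flp_i L91859) q6320, e3 q5023 L92098 q6329, e3 q5024 (flp_i L63697) q3894, e3 q5025 (flp_i L622712) q6313, e3 q5026 (flp_i L63754) q3898, e3 q5027 L63968 q3912, e3 q5028 L63983 q3914, e3 q5029 L63992 q3915, e3 q5030 L64017 q3918, e3 q5031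 L64027 q3919, e3 q5032 L64048 q3921, e3 q5033 L551696 q3913, e3 q5034 (flp_i L455829) q3994, e3 q5035 L456041 q3978, e3 q5036 (flp_i L577758) q3997, e3 q5037 L591384 q3999, e3 q5038 L588981 q3981, e3 q5039 L594641 q4098, e3 q5040 (flp_i L92497) q6330, e3 q5041 (flp_i L92506) q6331, e3 q5042 (flp_i L591370) q6334, e3 q5043 L576303 q5800, e3 q5044 (flp_i L92541) q6332, e3 q5045 L92849 q6347, e3 q5046 (flp_i L92558) q6333, e3 q5047 L92865 q6348, e3 q5048 (flp_i L64208) q3916, e3 q5049 (flp_i L64248) q3920, e3 q5050 (flp_i L64268) q3922, e3 q5051 L64597 q3937, e3 q5052 L64606 q3938, e3 q5053 L64639 q3941, e3 q5054 L64655 q3943, e3 q5055 L64680 q3946, trivial⟩ (by decide +kernel)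

theorem ce_i_79 : ∀ r, r < 64 → sm gi (Qf (5056 + r)) = Qf (tab Gen.i (5056 + r)) :=
  edges_tab (sm gi) Qf (tab Gen.i) 5056 [(5056, 3947), (5057, 3939), (5058, 4026), (5059, 4028), (5060, 4008), (5061, 4033), (5062, 4010), (5063, 4034), (5064, 4012), (5065, 6349), (5066, 6350), (5067, 6354), (5068, 6351), (5069, 6355), (5070, 5846), (5071, 5437), (5072, 6352), (5073, 6353), (5074, 6374), (5075, 6376), (5076, 3942), (5077, 6377), (5078, 3944), (5079, 3948), (5080, 3949), (5081, 3951), (5082, 3964), (5083, 3965), (5084, 3966), (5085, 3967), (5086, 6323), (5087, 3969), (5088, 3970), (5089, 6324), (5090, 3972), (5091, 4184), (5092, 4183), (5093, 3961), (5094, 6378), (5095, 6379), (5096, 6380), (5097, 6381), (5098, 6382), (5099, 6383), (5100, 6322), (5101, 5767), (5102, 3988), (5103, 3989), (5104, 3990), (5105, 3991), (5106, 3992), (5107, 3993), (5108, 6337), (5109, 3996), (5110, 6338), (5111, 3998), (5112, 6339), (5113, 4192), (5114, 4185), (5115, 3984), (5116, 4191), (5117, 3986), (5118, 6390), (5119, 6391)]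
    ⟨e3 q5056 L64692 q3947, e3 q5057 (flp_i L590860) q3939, e3 q5058 L590489 q4026, e3 q5059 L591375 q4028, e3 q5060 L591076 q4008, e3 q5061 (flp_i L580498) q4033, e3 q5062 (flp_i L469025) q4010, e3 q5063 L590715 q4034, e3 q5064 (flp_i L601097) q4012, e3 q5065 (flp_i L93422) q6349, e3 q5066 (flp_i L93433) q6350, e3 q5067 L551351 q6354, e3 q5068 (flp_i L93451) q6351, e3 q5069 (flp_i L505680) q6355, e3 q5070 L553995 q5846, e3 q5071 (flp_i L554569) q5437, e3 q5072 (flp_i L93498) q6352, e3 q5073 (flp_i L93508) q6353, e3 q5074 L93963 q6374, e3 q5075 L93978 q6376, e3 q5076 (flp_i L64948) q3942, e3 q5077 L93987 q6377, e3 q5078 (flp_i L64964) q3944, e3 q5079 (flp_i L65009) q3948, e3 q5080 (flp_i L65019) q3949, e3 q5081 (flp_i L65029) q3951, e3 q5082 L65047 q3964, e3 q5083 L65059 q3965, e3 q5084 L65080 q3966, e3 q5085 L65089 q3967, e3 q5086 (flp_i L591189) q6323, e3 q5087 L65105 q3969, e3 q5088 L65115 q3970, e3 q5089 L601203 q6324, e3 q5090 L65145 q3972, e3 q5091 (flp_i L626112) q4184, e3 q5092 (flp_i L623383) q4183, e3 q5093 (flp_i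 L65186) q3961, e3 q5094 (flp_i L94090) q6378, e3 q5095 (flp_i L94110) q6379, e3 q5096 (flp_i L94122) q6380, e3 q5097 (flp_i L94158) q6381, e3 q5098 (flp_i L94168) q6382, e3 q5099 (flp_i L94175) q6383, e3 q5100 (flp_i L591340) q6322, e3 q5101 (flp_i L576168) q5767, e3 q5102 L65435 q3988, e3 q5103 L65452 q3989, e3 q5104 L65464 q3990, e3 q5105 L65499 q3991, e3 q5106 L65505 q3992, e3 q5107 L65512 q3993, e3 q5108 L601124 q6337, e3 q5109 L65543 q3996, e3 q5110 L601122 q6338, e3 q5111 L65560 q3998, e3 q5112 (flp_i L591413) q6339, e3 q5113 L623018 q4192, e3 q5114 L605802 q4185, e3 q5115 (flp_i L65614) q3984, e3 q5116 L623038 q4191, e3 q5117 (flp_i L65632) q3986, e3 q5118 (flp_i L94664) q6390, e3 q5119 (flp_i L94673) q6391, trivial⟩ (by decide +kernel)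

theorem ce_i_80 : ∀ r, r < 64 → sm gi (Qf (5120 + r)) = Qf (tab Gen.i (5120 + r)) :=
  edges_tab (sm gi) Qf (tab Gen.i) 5120 [(5120, 6392), (5121, 6393), (5122, 6394), (5123, 6395), (5124, 6335), (5125, 6397), (5126, 6336), (5127, 5801), (5128, 5409), (5129, 4020), (5130, 4021), (5131, 4022), (5132, 4023), (5133, 4024), (5134, 4025), (5135, 6358), (5136, 4027), (5137, 6360), (5138, 4031), (5139, 4032), (5140, 6361), (5141, 6362), (5142, 6363), (5143, 4199), (5144, 4198), (5145, 4228), (5146, 4015), (5147, 4016), (5148, 4018), (5149, 6408), (5150, 6409), (5151, 6410), (5152, 6411), (5153, 6412), (5154, 6413), (5155, 6430), (5156, 6415), (5157, 6416), (5158, 6357), (5159, 6356), (5160, 6359), (5161, 5849), (5162, 5848), (5163, 5438), (5164, 4060), (5165, 4061), (5166, 4062), (5167, 4063), (5168, 4064), (5169, 5169), (5170, 5170), (5171, 5171), (5172, 4065), (5173, 6449), (5174, 4067), (5175, 4068), (5176, 5176), (5177, 5177), (5178, 5178), (5179, 4069), (5180, 5180), (5181, 5181), (5182, 5182), (5183, 5183)]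
    ⟨e3 q5120 (flp_i L94712) q6392, e3 q5121 (flp_i L94733) q6393, e3 q5122 (flp_i L94760) q6394, e3 q5123 (flp_i L94769) q6395, e3 q5124 (flp_i L591348) q6335, e3 q5125 (flp_i L94784) q6397, e3 q5126 L591502 q6336, e3 q5127 L591811 q5801, e3 q5128 (flp_i L575497) q5409, e3 q5129 L65958 q4020, e3 q5130 L65967 q4021, e3 q5131 L66004 q4022, e3 q5132 L66024 q4023, e3 q5133 L66052 q4024, e3 q5134 L66062 q4025, e3 q5135 L590795 q6358, e3 q5136 L66076 q4027, e3 q5137 (flp_i L591404) q6360, e3 q5138 L66117 q4031, e3 q5139 L66128 q4032, e3 q5140 L590281 q6361, e3 q5141 (flp_i L580394) q6362, e3 q5142 L590764 q6363, e3 q5143 (flp_i L624209) q4199, e3 q5144 (flp_i L624781) q4198, e3 q5145 L624361 q4228, e3 q5146 (flp_i L66210) q4015, e3 q5147 (flp_i L66229) q4016, e3 q5148 (flp_i L66239) q4018, e3 q5149 (flp_i L95448) q6408, e3 q5150 (flp_i L95460) q6409, e3 q5151 (flp_i L95478) q6410, e3 q5152 (flp_i L95531) q6411, e3 q5153 (flp_i L95544) q6412, e3 q5154 (flp_i L95607) q6413, e3 q5155 L96151 q6430, e3 q5156 (flp_i L95619) q6415, e3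 q5157 (flp_i L95628) q6416, e3 q5158 (flp_i L590681) q6357, e3 q5159 L590566 q6356, e3 q5160 L591507 q6359, e3 q5161 (flp_i L576015) q5849, e3 q5162 (flp_i L575857) q5848, e3 q5163 L555037 q5438, e3 q5164 L66646 q4060, e3 q5165 L66656 q4061, e3 q5166 L66676 q4062, e3 q5167 L66713 q4063, e3 q5168 L66725 q4064, e3 q5169 L66738 q5169, e3 q5170 L66747 q5170, e3 q5171 L66760 q5171, e3 q5172 L66766 q4065, e3 q5173 L96576 q6449, e3 q5174 L66778 q4067, e3 q5175 L66789 q4068, e3 q5176 L66801 q5176, e3 q5177 L66807 q5177, e3 q5178 L66817 q5178, e3 q5179 L66846 q4069, e3 q5180 L66856 q5180, e3 q5181 L66866 q5181, e3 q5182 L66873 q5182, e3 q5183 L66880 q5183, trivial⟩ (by decide +kernel)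

theorem ce_i_81 : ∀ r, r < 64 → sm gi (Qf (5184 + r)) = Qf (tab Gen.i (5184 + r)) :=
  edges_tab (sm gi) Qf (tab Gen.i) 5184 [(5184, 5184), (5185, 5185), (5186, 5186), (5187, 5187), (5188, 5188), (5189, 5634), (5190, 5633), (5191, 5635), (5192, 6437), (5193, 6468), (5194, 6439), (5195, 6440), (5196, 6420), (5197, 6445), (5198, 6446), (5199, 6474), (5200, 4066), (5201, 6450), (5202, 5202), (5203, 5203), (5204, 5204), (5205, 5205), (5206, 5206), (5207, 5207), (5208, 5715), (5209, 5209), (5210, 5770), (5211, 5768), (5212, 5389), (5213, 5213), (5214, 5214), (5215, 5215), (5216, 5216), (5217, 5217), (5218, 6490), (5219, 5219), (5220, 5742), (5221, 5741), (5222, 5807), (5223, 5804), (5224, 5803), (5225, 5410), (5226, 6312), (5227, 5227), (5228, 5855), (5229, 5853), (5230, 5440), (5231, 5441), (5232, 5232), (5233, 5233), (5234, 5234), (5235, 5235), (5236, 6508), (5237, 5237), (5238, 5697), (5239, 5714), (5240, 5350), (5241, 5359), (5242, 5390), (5243, 6303), (5244, 5244), (5245, 6515), (5246, 6518), (5247, 4122)]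
    ⟨e3 q5184 L66901 q5184, e3 q5185 L66909 q5185, e3 q5186 L66917 q5186, e3 q5187 L66926 q5187, e3 q5188 L66934 q5188, e3 q5189 L490774 q5634, e3 q5190 L561129 q5633, e3 q5191 L563261 q5635, e3 q5192 (flp_i L96414) q6437, e3 q5193 L96842 q6468, e3 q5194 (flp_i L96428) q6439, e3 q5195 (flp_i L96440) q6440, e3 q5196 (flp_i L624458) q6420, e3 q5197 (flp_i L96553) q6445, e3 q5198 (flp_i L96561) q6446, e3 q5199 L96895 q6474, e3 q5200 (flp_i L67022) q4066, e3 q5201 (flp_i L96591) q6450, e3 q5202 L67075 q5202, e3 q5203 L67084 q5203, e3 q5204 L67124 q5204, e3 q5205 L67146 q5205, e3 q5206 L67176 q5206, e3 q5207 L67185 q5207, e3 q5208 (flp_i L593763) q5715, e3 q5209 L67203 q5209, e3 q5210 (flp_i L594082) q5770, e3 q5211 L593552 q5768, e3 q5212 L574893 q5389, e3 q5213 L67445 q5213, e3 q5214 L67455 q5214, e3 q5215 L67475 q5215, e3 q5216 L67527 q5216, e3 q5217 L67586 q5217, e3 q5218 L97716 q6490, e3 q5219 L67602 q5219, e3 q5220 (flp_i L593887) q5742, e3 q5221 (flp_i L567612) q5741, e3 q5222 L593608 q5807, e3 q5223 (flp_i L593503) q5804,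 e3 q5224 (flp_i L591999) q5803, e3 q5225 L575248 q5410, e3 q5226 (flp_i L566459) q6312, e3 q5227 L67792 q5227, e3 q5228 (flp_i L593476) q5855, e3 q5229 (flp_i L483497) q5853, e3 q5230 (flp_i L555087) q5440, e3 q5231 L475579 q5441, e3 q5232 L68056 q5232, e3 q5233 L68067 q5233, e3 q5234 L68137 q5234, e3 q5235 L68190 q5235, e3 q5236 L98501 q6508, e3 q5237 L68205 q5237, e3 q5238 L453194 q5697, e3 q5239 (flp_i L593767) q5714, e3 q5240 (flp_i L567230) q5350, e3 q5241 L567452 q5359, e3 q5242 (flp_i L574806) q5390, e3 q5243 L566333 q6303, e3 q5244 L68398 q5244, e3 q5245 L98874 q6515, e3 q5246 L98992 q6518, e3 q5247 (flp_i L68549) q4122, trivial⟩ (by decide +kernel)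

theorem ce_i_82 : ∀ r, r < 64 → sm gi (Qf (5248 + r)) = Qf (tab Gen.i (5248 + r)) :=
  edges_tab (sm gi) Qf (tab Gen.i) 5248 [(5248, 5376), (5249, 5372), (5250, 5373), (5251, 5412), (5252, 5310), (5253, 4127), (5254, 5254), (5255, 5444), (5256, 4233), (5257, 5257), (5258, 4234), (5259, 5259), (5260, 5260), (5261, 4134), (5262, 5262), (5263, 5263), (5264, 5264), (5265, 5265), (5266, 5266), (5267, 5267), (5268, 5268), (5269, 5269), (5270, 5270), (5271, 4222), (5272, 4223), (5273, 4224), (5274, 4225), (5275, 4226), (5276, 4227), (5277, 5277), (5278, 5278), (5279, 5279), (5280, 5280), (5281, 5281), (5282, 6532), (5283, 6533), (5284, 6534), (5285, 6535), (5286, 6522), (5287, 5287), (5288, 5288), (5289, 5289), (5290, 5290), (5291, 5291), (5292, 5292), (5293, 5293), (5294, 5294), (5295, 5295), (5296, 5296), (5297, 5297), (5298, 5298), (5299, 5299), (5300, 5300), (5301, 5301), (5302, 5302), (5303, 5303), (5304, 5304), (5305, 5305), (5306, 5306), (5307, 5307), (5308, 5308), (5309, 5309), (5310, 5252), (5311, 5311)]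
    ⟨e3 q5248 (flp_i L644656) q5376, e3 q5249 L567430 q5372, e3 q5250 L574730 q5373, e3 q5251 L574722 q5412, e3 q5252 (flp_i L643295) q5310, e3 q5253 (flp_i L68647) q4127, e3 q5254 L68662 q5254, e3 q5255 (flp_i L476083) q5444, e3 q5256 (flp_i L557706) q4233, e3 q5257 L411837 q5257, e3 q5258 (flp_i L557836) q4234, e3 q5259 L410513 q5259, e3 q5260 L411818 q5260, e3 q5261 (flp_i L68888) q4134, e3 q5262 L68990 q5262, e3 q5263 L69016 q5263, e3 q5264 L69059 q5264, e3 q5265 L410868 q5265, e3 q5266 L69437 q5266, e3 q5267 L69496 q5267, e3 q5268 L411080 q5268, e3 q5269 L70022 q5269, e3 q5270 L399685 q5270, e3 q5271 L74981 q4222, e3 q5272 L74991 q4223, e3 q5273 L75010 q4224, e3 q5274 L75057 q4225, e3 q5275 L75072 q4226, e3 q5276 L75084 q4227, e3 q5277 L75097 q5277, e3 q5278 L75115 q5278, e3 q5279 L75244 q5279, e3 q5280 L75255 q5280, e3 q5281 L75283 q5281, e3 q5282 (flp_i L108503) q6532, e3 q5283 (flp_i L108513) q6533, e3 q5284 (flp_i L108528) q6534, e3 q5285 (flp_i L108539) q6535, e3 q5286 (flp_i L495249) q6522, e3 q5287 L79344 q5287,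 e3 q5288 L79353 q5288, e3 q5289 L79363 q5289, e3 q5290 L79373 q5290, e3 q5291 L79383 q5291, e3 q5292 L79393 q5292, e3 q5293 L79402 q5293, e3 q5294 L79411 q5294, e3 q5295 L79416 q5295, e3 q5296 L79426 q5296, e3 q5297 L79436 q5297, e3 q5298 L79447 q5298, e3 q5299 L79459 q5299, e3 q5300 L79467 q5300, e3 q5301 L79479 q5301, e3 q5302 L79490 q5302, e3 q5303 L79496 q5303, e3 q5304 L79507 q5304, e3 q5305 L79518 q5305, e3 q5306 L79528 q5306, e3 q5307 L79534 q5307, e3 q5308 L79543 q5308, e3 q5309 L79551 q5309, e3 q5310 L643295 q5252, e3 q5311 L79568 q5311, trivial⟩ (by decide +kernel)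

theorem ce_i_83 : ∀ r, r < 64 → sm gi (Qf (5312 + r)) = Qf (tab Gen.i (5312 + r)) :=
  edges_tab (sm gi) Qf (tab Gen.i) 5312 [(5312, 5312), (5313, 5313), (5314, 5314), (5315, 5315), (5316, 5316), (5317, 6580), (5318, 5318), (5319, 5319), (5320, 5320), (5321, 5321), (5322, 5322), (5323, 5323), (5324, 6591), (5325, 5325), (5326, 5326), (5327, 5327), (5328, 6597), (5329, 4261), (5330, 5330), (5331, 5331), (5332, 5332), (5333, 6604), (5334, 5334), (5335, 5335), (5336, 6610), (5337, 5337), (5338, 5338), (5339, 6615), (5340, 4268), (5341, 5341), (5342, 5342), (5343, 6620), (5344, 5344), (5345, 6622), (5346, 4272), (5347, 4277), (5348, 4278), (5349, 4279), (5350, 5240), (5351, 6623), (5352, 6624), (5353, 6625), (5354, 6626), (5355, 4284), (5356, 4285), (5357, 4286), (5358, 4287), (5359, 5241), (5360, 6634), (5361, 6635), (5362, 6636), (5363, 6649), (5364, 6638), (5365, 6639), (5366, 4293), (5367, 4294), (5368, 4295), (5369, 6658), (5370, 4297), (5371, 4298), (5372, 5249), (5373, 5250), (5374, 6651), (5375, 6652)]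
    ⟨e3 q5312 L79579 q5312, e3 q5313 L79591 q5313, e3 q5314 L79599 q5314, e3 q5315 L79610 q5315, e3 q5316 L79619 q5316, e3 q5317 L115024 q6580, e3 q5318 L79637 q5318, e3 q5319 L79647 q5319, e3 q5320 L79657 q5320, e3 q5321 L79667 q5321, e3 q5322 L79673 q5322, e3 q5323 L79682 q5323, e3 q5324 L115122 q6591, e3 q5325 L79699 q5325, e3 q5326 L79706 q5326, e3 q5327 L79714 q5327, e3 q5328 L115175 q6597, e3 q5329 (flp_i L79725) q4261, e3 q5330 L79744 q5330, e3 q5331 L79751 q5331, e3 q5332 L79761 q5332, e3 q5333 L115236 q6604, e3 q5334 L79780 q5334, e3 q5335 L79788 q5335, e3 q5336 L115287 q6610, e3 q5337 L79801 q5337, e3 q5338 L79810 q5338, e3 q5339 L115327 q6615, e3 q5340 (flp_i L79820) q4268, e3 q5341 L79837 q5341, e3 q5342 L79846 q5342, e3 q5343 L115369 q6620, e3 q5344 L79861 q5344, e3 q5345 L115387 q6622, e3 q5346 (flp_i L79871) q4272, e3 q5347 L79890 q4277, e3 q5348 L79902 q4278, e3 q5349 L79911 q4279, e3 q5350 L567230 q5240, e3 q5351 (flp_i L115418) q6623, e3 q5352 (flp_i L115426) q6624, e3 q5353 (flp_i L115438) q6625, e3 q5354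 (flp_i L115448) q6626, e3 q5355 L79977 q4284, e3 q5356 L79984 q4285, e3 q5357 L79997 q4286, e3 q5358 L80009 q4287, e3 q5359 (flp_i L567452) q5241, e3 q5360 (flp_i L115527) q6634, e3 q5361 (flp_i L115539) q6635, e3 q5362 (flp_i L115551) q6636, e3 q5363 L115658 q6649, e3 q5364 (flp_i L115570) q6638, e3 q5365 (flp_i L115580) q6639, e3 q5366 L80083 q4293, e3 q5367 L80093 q4294, e3 q5368 L80103 q4295, e3 q5369 L115758 q6658, e3 q5370 L80121 q4297, e3 q5371 L80133 q4298, e3 q5372 (flp_i L567430) q5249, e3 q5373 (flp_i L574730) q5250, e3 q5374 (flp_i L115701) q6651, e3 q5375 (flp_i L115711) q6652, trivial⟩ (by decide +kernel)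

theorem ce_i_84 : ∀ r, r < 64 → sm gi (Qf (5376 + r)) = Qf (tab Gen.i (5376 + r)) :=
  edges_tab (sm gi) Qf (tab Gen.i) 5376 [(5376, 5248), (5377, 6654), (5378, 6655), (5379, 6656), (5380, 6671), (5381, 4296), (5382, 6659), (5383, 4304), (5384, 4305), (5385, 4306), (5386, 6679), (5387, 4308), (5388, 4309), (5389, 5212), (5390, 5242), (5391, 6672), (5392, 6673), (5393, 6690), (5394, 6675), (5395, 6676), (5396, 6677), (5397, 6696), (5398, 4307), (5399, 6680), (5400, 4318), (5401, 4319), (5402, 6702), (5403, 4321), (5404, 4322), (5405, 4323), (5406, 6708), (5407, 4313), (5408, 4326), (5409, 5128), (5410, 5225), (5411, 6715), (5412, 5251), (5413, 6697), (5414, 6721), (5415, 6699), (5416, 6700), (5417, 6726), (5418, 4320), (5419, 6703), (5420, 6704), (5421, 6731), (5422, 6706), (5423, 6733), (5424, 4324), (5425, 4340), (5426, 6738), (5427, 4342), (5428, 4343), (5429, 6743), (5430, 4329), (5431, 4346), (5432, 4347), (5433, 6748), (5434, 4349), (5435, 6750), (5436, 4333), (5437, 5071), (5438, 5163), (5439, 6757)]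
    ⟨e3 q5376 L644656 q5248, e3 q5377 (flp_i L115729) q6654, e3 q5378 (flp_i L115736) q6655, e3 q5379 (flp_i L115748) q6656, e3 q5380 L115891 q6671, e3 q5381 (flp_i L80200) q4296, e3 q5382 (flp_i L115777) q6659, e3 q5383 L80234 q4304, e3 q5384 L80246 q4305, e3 q5385 L80257 q4306, e3 q5386 L115992 q6679, e3 q5387 L80276 q4308, e3 q5388 L80287 q4309, e3 q5389 (flp_i L574893) q5212, e3 q5390 L574806 q5242, e3 q5391 (flp_i L115927) q6672, e3 q5392 (flp_i L115940) q6673, e3 q5393 L116095 q6690, e3 q5394 (flp_i L115958) q6675, e3 q5395 (flp_i L115968) q6676, e3 q5396 (flp_i L115979) q6677, e3 q5397 L116148 q6696, e3 q5398 (flp_i L80368) q4307, e3 q5399 (flp_i L116012) q6680, e3 q5400 L80412 q4318, e3 q5401 L80423 q4319, e3 q5402 L116242 q6702, e3 q5403 L80440 q4321, e3 q5404 L80449 q4322, e3 q5405 L80460 q4323, e3 q5406 L116302 q6708, e3 q5407 (flp_i L80472) q4313, e3 q5408 L80492 q4326, e3 q5409 L575497 q5128, e3 q5410 (flp_i L575248) q5225, e3 q5411 L116362 q6715, e3 q5412 (flp_i L574722) q5251, e3 q5413 (flp_i L116205) q6697,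 e3 q5414 L116411 q6721, e3 q5415 (flp_i L116221) q6699, e3 q5416 (flp_i L116231) q6700, e3 q5417 L116451 q6726, e3 q5418 (flp_i L80564) q4320, e3 q5419 (flp_i L116261) q6703, e3 q5420 (flp_i L116270) q6704, e3 q5421 L116487 q6731, e3 q5422 (flp_i L116290) q6706, e3 q5423 L116505 q6733, e3 q5424 (flp_i L80613) q4324, e3 q5425 L80667 q4340, e3 q5426 L116631 q6738, e3 q5427 L80683 q4342, e3 q5428 L80694 q4343, e3 q5429 L116676 q6743, e3 q5430 (flp_i L80704) q4329, e3 q5431 L80721 q4346, e3 q5432 L80732 q4347, e3 q5433 L116724 q6748, e3 q5434 L80751 q4349, e3 q5435 L116745 q6750, e3 q5436 (flp_i L80762) q4333, e3 q5437 L554569 q5071, e3 q5438 (flp_i L555037) q5163, e3 q5439 L116805 q6757, trivial⟩ (by decide +kernel)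

theorem ce_i_85 : ∀ r, r < 64 → sm gi (Qf (5440 + r)) = Qf (tab Gen.i (5440 + r)) :=
  edges_tab (sm gi) Qf (tab Gen.i) 5440 [(5440, 5230), (5441, 5231), (5442, 6762), (5443, 4338), (5444, 5255), (5445, 6734), (5446, 6735), (5447, 6769), (5448, 6771), (5449, 4341), (5450, 6739), (5451, 6776), (5452, 6741), (5453, 6778), (5454, 4344), (5455, 6744), (5456, 6745), (5457, 6783), (5458, 6785), (5459, 4348), (5460, 6786), (5461, 4350), (5462, 5462), (5463, 5463), (5464, 5464), (5465, 5465), (5466, 6796), (5467, 5467), (5468, 5468), (5469, 4364), (5470, 4365), (5471, 4366), (5472, 4367), (5473, 6807), (5474, 4369), (5475, 4370), (5476, 4371), (5477, 6813), (5478, 4361), (5479, 4374), (5480, 6798), (5481, 6799), (5482, 6820), (5483, 6801), (5484, 6802), (5485, 6826), (5486, 6804), (5487, 6805), (5488, 6831), (5489, 4368), (5490, 6808), (5491, 6809), (5492, 6836), (5493, 6811), (5494, 6838), (5495, 4372), (5496, 5496), (5497, 5497), (5498, 5498), (5499, 5499), (5500, 6848), (5501, 5501), (5502, 5502), (5503, 5503)]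
    ⟨e3 q5440 L555087 q5230, e3 q5441 (flp_i L475579) q5231, e3 q5442 L116847 q6762, e3 q5443 (flp_i L80823) q4338, e3 q5444 L476083 q5255, e3 q5445 (flp_i L116602) q6734, e3 q5446 (flp_i L116613) q6735, e3 q5447 L116907 q6769, e3 q5448 L116924 q6771, e3 q5449 (flp_i L80870) q4341, e3 q5450 (flp_i L116649) q6739, e3 q5451 L116962 q6776, e3 q5452 (flp_i L116666) q6741, e3 q5453 L116978 q6778, e3 q5454 (flp_i L80908) q4344, e3 q5455 (flp_i L116692) q6744, e3 q5456 (flp_i L116704) q6745, e3 q5457 L117017 q6783, e3 q5458 L117035 q6785, e3 q5459 (flp_i L80948) q4348, e3 q5460 L117043 q6786, e3 q5461 (flp_i L80966) q4350, e3 q5462 L80984 q5462, e3 q5463 L80992 q5463, e3 q5464 L81003 q5464, e3 q5465 L81013 q5465, e3 q5466 L117138 q6796, e3 q5467 L81032 q5467, e3 q5468 L81043 q5468, e3 q5469 L81054 q4364, e3 q5470 L81066 q4365, e3 q5471 L81076 q4366, e3 q5472 L81087 q4367, e3 q5473 L117250 q6807, e3 q5474 L81104 q4369, e3 q5475 L81112 q4370, e3 q5476 L81122 q4371, e3 q5477 L117305 q6813, e3 q5478 (flp_i L81132) q4361, e3 q5479 L81149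 q4374, e3 q5480 (flp_i L117170) q6798, e3 q5481 (flp_i L117182) q6799, e3 q5482 L117371 q6820, e3 q5483 (flp_i L117201) q6801, e3 q5484 (flp_i L117211) q6802, e3 q5485 L117422 q6826, e3 q5486 (flp_i L117228) q6804, e3 q5487 (flp_i L117239) q6805, e3 q5488 L117465 q6831, e3 q5489 (flp_i L81233) q4368, e3 q5490 (flp_i L117268) q6808, e3 q5491 (flp_i L117278) q6809, e3 q5492 L117505 q6836, e3 q5493 (flp_i L117295) q6811, e3 q5494 L117523 q6838, e3 q5495 (flp_i L81283) q4372, e3 q5496 L81298 q5496, e3 q5497 L81308 q5497, e3 q5498 L81315 q5498, e3 q5499 L81324 q5499, e3 q5500 L117608 q6848, e3 q5501 L81342 q5501, e3 q5502 L81349 q5502, e3 q5503 L81358 q5503, trivial⟩ (by decide +kernel)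

theorem ce_i_86 : ∀ r, r < 64 → sm gi (Qf (5504 + r)) = Qf (tab Gen.i (5504 + r)) :=
  edges_tab (sm gi) Qf (tab Gen.i) 5504 [(5504, 6854), (5505, 4379), (5506, 5506), (5507, 4393), (5508, 4394), (5509, 6861), (5510, 4396), (5511, 4397), (5512, 6867), (5513, 4399), (5514, 4400), (5515, 6872), (5516, 4386), (5517, 4403), (5518, 4404), (5519, 6877), (5520, 4406), (5521, 6879), (5522, 4390), (5523, 6855), (5524, 6856), (5525, 6886), (5526, 6858), (5527, 6859), (5528, 6891), (5529, 4395), (5530, 6862), (5531, 6863), (5532, 6864), (5533, 6898), (5534, 6900), (5535, 4398), (5536, 6868), (5537, 6905), (5538, 6870), (5539, 6907), (5540, 4401), (5541, 6873), (5542, 6874), (5543, 6912), (5544, 6914), (5545, 4405), (5546, 6915), (5547, 4407), (5548, 5548), (5549, 5549), (5550, 6921), (5551, 5551), (5552, 5552), (5553, 6927), (5554, 5554), (5555, 5555), (5556, 6932), (5557, 4413), (5558, 5558), (5559, 5559), (5560, 6937), (5561, 5561), (5562, 6939), (5563, 4417), (5564, 4436), (5565, 4437), (5566, 6946), (5567, 4439)]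
    ⟨e3 q5504 L117663 q6854, e3 q5505 (flp_i L81369) q4379, e3 q5506 L81389 q5506, e3 q5507 L81398 q4393, e3 q5508 L81408 q4394, e3 q5509 L117729 q6861, e3 q5510 L81426 q4396, e3 q5511 L81435 q4397, e3 q5512 L117779 q6867, e3 q5513 L81449 q4399, e3 q5514 L81460 q4400, e3 q5515 L117824 q6872, e3 q5516 (flp_i L81470) q4386, e3 q5517 L81488 q4403, e3 q5518 L81496 q4404, e3 q5519 L117863 q6877, e3 q5520 L81512 q4406, e3 q5521 L117879 q6879, e3 q5522 (flp_i L81521) q4390, e3 q5523 (flp_i L117679) q6855, e3 q5524 (flp_i L117689) q6856, e3 q5525 L117936 q6886, e3 q5526 (flp_i L117706) q6858, e3 q5527 (flp_i L117718) q6859, e3 q5528 L117982 q6891, e3 q5529 (flp_i L81578) q4395, e3 q5530 (flp_i L117749) q6862, e3 q5531 (flp_i L117755) q6863, e3 q5532 (flp_i L117764) q6864, e3 q5533 L118031 q6898, e3 q5534 L118045 q6900, e3 q5535 (flp_i L81623) q4398, e3 q5536 (flp_i L117796) q6868, e3 q5537 L118084 q6905, e3 q5538 (flp_i L117814) q6870, e3 q5539 L118101 q6907, e3 q5540 (flp_i L81663) q4401, e3 q5541 (flp_i L117836) q6873, e3 q5542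 (flp_i L117848) q6874, e3 q5543 L118141 q6912, e3 q5544 L118155 q6914, e3 q5545 (flp_i L81698) q4405, e3 q5546 L118163 q6915, e3 q5547 (flp_i L81713) q4407, e3 q5548 L81727 q5548, e3 q5549 L81737 q5549, e3 q5550 L118224 q6921, e3 q5551 L81757 q5551, e3 q5552 L81765 q5552, e3 q5553 L118276 q6927, e3 q5554 L81778 q5554, e3 q5555 L81788 q5555, e3 q5556 L118317 q6932, e3 q5557 (flp_i L81798) q4413, e3 q5558 L81816 q5558, e3 q5559 L81826 q5559, e3 q5560 L118362 q6937, e3 q5561 L81841 q5561, e3 q5562 L118380 q6939, e3 q5563 (flp_i L81851) q4417, e3 q5564 L81867 q4436, e3 q5565 L81878 q4437, e3 q5566 L118441 q6946, e3 q5567 L81895 q4439, trivial⟩ (by decide +kernel)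

theorem ce_i_87 : ∀ r, r < 64 → sm gi (Qf (5568 + r)) = Qf (tab Gen.i (5568 + r)) :=
  edges_tab (sm gi) Qf (tab Gen.i) 5568 [(5568, 4440), (5569, 6951), (5570, 4422), (5571, 4443), (5572, 4444), (5573, 4445), (5574, 6958), (5575, 6960), (5576, 4425), (5577, 4449), (5578, 6965), (5579, 4451), (5580, 6967), (5581, 4428), (5582, 4454), (5583, 4455), (5584, 6972), (5585, 6974), (5586, 4432), (5587, 6975), (5588, 4434), (5589, 6940), (5590, 6979), (5591, 6942), (5592, 6943), (5593, 6986), (5594, 6987), (5595, 4438), (5596, 6947), (5597, 6992), (5598, 6949), (5599, 6994), (5600, 4441), (5601, 6952), (5602, 6953), (5603, 7001), (5604, 6955), (5605, 7004), (5606, 7006), (5607, 4446), (5608, 7008), (5609, 4447), (5610, 6961), (5611, 6962), (5612, 7014), (5613, 7016), (5614, 4450), (5615, 7017), (5616, 4452), (5617, 6968), (5618, 7021), (5619, 7023), (5620, 7025), (5621, 4456), (5622, 7027), (5623, 4457), (5624, 4459), (5625, 5625), (5626, 5626), (5627, 5627), (5628, 5628), (5629, 5629), (5630, 5630), (5631, 5631)]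
    ⟨e3 q5568 L81908 q4440, e3 q5569 L118490 q6951, e3 q5570 (flp_i L81918) q4422, e3 q5571 L81936 q4443, e3 q5572 L81944 q4444, e3 q5573 L81953 q4445, e3 q5574 L118547 q6958, e3 q5575 L118562 q6960, e3 q5576 (flp_i L81966) q4425, e3 q5577 L81983 q4449, e3 q5578 L118605 q6965, e3 q5579 L82000 q4451, e3 q5580 L118623 q6967, e3 q5581 (flp_i L82009) q4428, e3 q5582 L82023 q4454, e3 q5583 L82034 q4455, e3 q5584 L118662 q6972, e3 q5585 L118679 q6974, e3 q5586 (flp_i L82052) q4432, e3 q5587 L118687 q6975, e3 q5588 (flp_i L82068) q4434, e3 q5589 (flp_i L118396) q6940, e3 q5590 L118723 q6979, e3 q5591 (flp_i L118413) q6942, e3 q5592 (flp_i L118424) q6943, e3 q5593 L118785 q6986, e3 q5594 L118803 q6987, e3 q5595 (flp_i L82122) q4438, e3 q5596 (flp_i L118461) q6947, e3 q5597 L118850 q6992, e3 q5598 (flp_i L118480) q6949, e3 q5599 L118869 q6994, e3 q5600 (flp_i L82166) q4441, e3 q5601 (flp_i L118505) q6952, e3 q5602 (flp_i L118516) q6953, e3 q5603 L118918 q7001, e3 q5604 (flp_i L118532) q6955, e3 q5605 L118940 q7004, e3 q5606 L118951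 q7006, e3 q5607 (flp_i L82217) q4446, e3 q5608 L118966 q7008, e3 q5609 (flp_i L82231) q4447, e3 q5610 (flp_i L118573) q6961, e3 q5611 (flp_i L118585) q6962, e3 q5612 L119013 q7014, e3 q5613 L119029 q7016, e3 q5614 (flp_i L82272) q4450, e3 q5615 L119039 q7017, e3 q5616 (flp_i L82289) q4452, e3 q5617 (flp_i L118638) q6968, e3 q5618 L119071 q7021, e3 q5619 L119087 q7023, e3 q5620 L119103 q7025, e3 q5621 (flp_i L82326) q4456, e3 q5622 L119119 q7027, e3 q5623 (flp_i L82342) q4457, e3 q5624 (flp_i L82351) q4459, e3 q5625 L82454 q5625, e3 q5626 L82464 q5626, e3 q5627 L82482 q5627, e3 q5628 L82576 q5628, e3 q5629 L82620 q5629, e3 q5630 L82636 q5630, e3 q5631 L82660 q5631, trivial⟩ (by decide +kernel)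

theorem ce_i_88 : ∀ r, r < 64 → sm gi (Qf (5632 + r)) = Qf (tab Gen.i (5632 + r)) :=
  edges_tab (sm gi) Qf (tab Gen.i) 5632 [(5632, 5632), (5633, 5190), (5634, 5189), (5635, 5191), (5636, 4491), (5637, 4493), (5638, 4495), (5639, 4496), (5640, 4498), (5641, 4500), (5642, 4501), (5643, 4801), (5644, 4800), (5645, 4802), (5646, 4507), (5647, 7052), (5648, 7054), (5649, 7056), (5650, 4484), (5651, 7058), (5652, 4485), (5653, 4487), (5654, 4790), (5655, 4789), (5656, 4791), (5657, 7038), (5658, 7039), (5659, 4812), (5660, 4813), (5661, 4814), (5662, 7040), (5663, 7073), (5664, 7042), (5665, 7043), (5666, 4805), (5667, 4806), (5668, 4807), (5669, 7044), (5670, 7082), (5671, 7084), (5672, 7086), (5673, 4502), (5674, 7088), (5675, 4503), (5676, 4505), (5677, 7049), (5678, 7092), (5679, 7095), (5680, 4508), (5681, 7097), (5682, 4509), (5683, 7099), (5684, 4510), (5685, 7102), (5686, 4512), (5687, 7028), (5688, 5688), (5689, 5689), (5690, 5690), (5691, 5691), (5692, 5692), (5693, 4523), (5694, 4524), (5695, 4525)]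
    ⟨e3 q5632 L82668 q5632, e3 q5633 (flp_i L561129) q5190, e3 q5634 (flp_i L490774) q5189, e3 q5635 (flp_i L563261) q5191, e3 q5636 L82786 q4491, e3 q5637 L82806 q4493, e3 q5638 L82833 q4495, e3 q5639 L82843 q4496, e3 q5640 L82862 q4498, e3 q5641 L82909 q4500, e3 q5642 L82920 q4501, e3 q5643 L562585 q4801, e3 q5644 L562592 q4800, e3 q5645 (flp_i L563270) q4802, e3 q5646 L82973 q4507, e3 q5647 L120089 q7052, e3 q5648 L120106 q7054, e3 q5649 L120123 q7056, e3 q5650 (flp_i L82998) q4484, e3 q5651 L120136 q7058, e3 q5652 (flp_i L83015) q4485, e3 q5653 (flp_i L83023) q4487, e3 q5654 (flp_i L562041) q4790, e3 q5655 L489608 q4789, e3 q5656 (flp_i L563565) q4791, e3 q5657 (flp_i L119808) q7038, e3 q5658 (flp_i L119820) q7039, e3 q5659 L562777 q4812, e3 q5660 (flp_i L546637) q4813, e3 q5661 L524208 q4814, e3 q5662 (flp_i L119877) q7040, e3 q5663 L120454 q7073, e3 q5664 (flp_i L119891) q7042, e3 q5665 (flp_i L119903) q7043, e3 q5666 L562783 q4805, e3 q5667 (flp_i L508715) q4806, e3 q5668 (flp_i L546027) q4807, e3 q5669 (flp_i L120003)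 q7044, e3 q5670 L120600 q7082, e3 q5671 L120617 q7084, e3 q5672 L120631 q7086, e3 q5673 (flp_i L83349) q4502, e3 q5674 L120648 q7088, e3 q5675 (flp_i L83363) q4503, e3 q5676 (flp_i L83373) q4505, e3 q5677 (flp_i L120068) q7049, e3 q5678 L120681 q7092, e3 q5679 L120705 q7095, e3 q5680 (flp_i L83406) q4508, e3 q5681 L120722 q7097, e3 q5682 (flp_i L83422) q4509, e3 q5683 L120737 q7099, e3 q5684 (flp_i L83438) q4510, e3 q5685 L120760 q7102, e3 q5686 (flp_i L83453) q4512, e3 q5687 (flp_i L119135) q7028, e3 q5688 L83479 q5688, e3 q5689 L83488 q5689, e3 q5690 L83499 q5690, e3 q5691 L83524 q5691, e3 q5692 L83533 q5692, e3 q5693 L83555 q4523, e3 q5694 L83563 q4524, e3 q5695 L83572 q4525, trivial⟩ (by decide +kernel)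

theorem ce_i_89 : ∀ r, r < 64 → sm gi (Qf (5696 + r)) = Qf (tab Gen.i (5696 + r)) :=
  edges_tab (sm gi) Qf (tab Gen.i) 5696 [(5696, 4526), (5697, 5238), (5698, 7104), (5699, 7105), (5700, 6631), (5701, 7111), (5702, 6561), (5703, 5703), (5704, 5704), (5705, 5705), (5706, 5706), (5707, 5707), (5708, 4536), (5709, 4537), (5710, 4538), (5711, 7118), (5712, 4540), (5713, 4541), (5714, 5239), (5715, 5208), (5716, 7113), (5717, 7114), (5718, 7125), (5719, 7116), (5720, 7117), (5721, 6648), (5722, 7129), (5723, 4539), (5724, 6569), (5725, 5725), (5726, 5726), (5727, 5727), (5728, 5728), (5729, 7130), (5730, 5730), (5731, 5731), (5732, 4555), (5733, 4556), (5734, 7136), (5735, 4558), (5736, 4559), (5737, 4560), (5738, 7140), (5739, 4550), (5740, 4563), (5741, 5221), (5742, 5220), (5743, 7131), (5744, 7133), (5745, 7134), (5746, 7150), (5747, 4557), (5748, 7137), (5749, 7138), (5750, 7155), (5751, 6670), (5752, 7157), (5753, 4561), (5754, 5754), (5755, 7159), (5756, 5756), (5757, 5757), (5758, 4575), (5759, 4576)]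
    ⟨e3 q5696 L83582 q4526, e3 q5697 (flp_i L453194) q5238, e3 q5698 (flp_i L120901) q7104, e3 q5699 (flp_i L120910) q7105, e3 q5700 L632831 q6631, e3 q5701 L643390 q7111, e3 q5702 (flp_i L643181) q6561, e3 q5703 L83666 q5703, e3 q5704 L83677 q5704, e3 q5705 L83708 q5705, e3 q5706 L83719 q5706, e3 q5707 L83731 q5707, e3 q5708 L83749 q4536, e3 q5709 L83759 q4537, e3 q5710 L83771 q4538, e3 q5711 L121246 q7118, e3 q5712 L83786 q4540, e3 q5713 L83796 q4541, e3 q5714 L593767 q5239, e3 q5715 L593763 q5208, e3 q5716 (flp_i L121189) q7113, e3 q5717 (flp_i L121202) q7114, e3 q5718 L121339 q7125, e3 q5719 (flp_i L121218) q7116, e3 q5720 (flp_i L121226) q7117, e3 q5721 L644812 q6648, e3 q5722 L121388 q7129, e3 q5723 (flp_i L83873) q4539, e3 q5724 (flp_i L633011) q6569, e3 q5725 L83913 q5725, e3 q5726 L83923 q5726, e3 q5727 L83934 q5727, e3 q5728 L83970 q5728, e3 q5729 L121534 q7130, e3 q5730 L83987 q5730, e3 q5731 L83999 q5731, e3 q5732 L84022 q4555, e3 q5733 L84033 q4556, e3 q5734 L121627 q7136, e3 q5735 L84048 q4558, e3 q5736 L84055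 q4559, e3 q5737 L84065 q4560, e3 q5738 L121677 q7140, e3 q5739 (flp_i L84074) q4550, e3 q5740 L84089 q4563, e3 q5741 L567612 q5221, e3 q5742 L593887 q5220, e3 q5743 (flp_i L121596) q7131, e3 q5744 (flp_i L121608) q7133, e3 q5745 (flp_i L121618) q7134, e3 q5746 L121810 q7150, e3 q5747 (flp_i L84156) q4557, e3 q5748 (flp_i L121643) q7137, e3 q5749 (flp_i L121653) q7138, e3 q5750 L121846 q7155, e3 q5751 (flp_i L644639) q6670, e3 q5752 L121860 q7157, e3 q5753 (flp_i L84201) q4561, e3 q5754 L84249 q5754, e3 q5755 L121955 q7159, e3 q5756 L84267 q5756, e3 q5757 L84278 q5757, e3 q5758 L84307 q4575, e3 q5759 L84321 q4576, trivial⟩ (by decide +kernel)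

theorem ce_i_90 : ∀ r, r < 64 → sm gi (Qf (5760 + r)) = Qf (tab Gen.i (5760 + r)) :=
  edges_tab (sm gi) Qf (tab Gen.i) 5760 [(5760, 7165), (5761, 4578), (5762, 4579), (5763, 4580), (5764, 7171), (5765, 4570), (5766, 4583), (5767, 5101), (5768, 5211), (5769, 7178), (5770, 5210), (5771, 7160), (5772, 7184), (5773, 7162), (5774, 7163), (5775, 7189), (5776, 4577), (5777, 7166), (5778, 7167), (5779, 7194), (5780, 7169), (5781, 7196), (5782, 4581), (5783, 5783), (5784, 5784), (5785, 7199), (5786, 4585), (5787, 5787), (5788, 4601), (5789, 7203), (5790, 4603), (5791, 4604), (5792, 7208), (5793, 4590), (5794, 4607), (5795, 4608), (5796, 7213), (5797, 4610), (5798, 7215), (5799, 4594), (5800, 5043), (5801, 5127), (5802, 7222), (5803, 5224), (5804, 5223), (5805, 7227), (5806, 4599), (5807, 5222), (5808, 7200), (5809, 7201), (5810, 7234), (5811, 7236), (5812, 4602), (5813, 7204), (5814, 7241), (5815, 7206), (5816, 7243), (5817, 4605), (5818, 7209), (5819, 7210), (5820, 7248), (5821, 7250), (5822, 4609), (5823, 7251)]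
    ⟨e3 q5760 L122063 q7165, e3 q5761 L84336 q4578, e3 q5762 L84346 q4579, e3 q5763 L84355 q4580, e3 q5764 L122121 q7171, e3 q5765 (flp_i L84367) q4570, e3 q5766 L84383 q4583, e3 q5767 L576168 q5101, e3 q5768 (flp_i L593552) q5211, e3 q5769 L122186 q7178, e3 q5770 L594082 q5210, e3 q5771 (flp_i L122027) q7160, e3 q5772 L122243 q7184, e3 q5773 (flp_i L122044) q7162, e3 q5774 (flp_i L122052) q7163, e3 q5775 L122283 q7189, e3 q5776 (flp_i L84464) q4577, e3 q5777 (flp_i L122079) q7166, e3 q5778 (flp_i L122090) q7167, e3 q5779 L122322 q7194, e3 q5780 (flp_i L122109) q7169, e3 q5781 L122342 q7196, e3 q5782 (flp_i L84517) q4581, e3 q5783 L84586 q5783, e3 q5784 L84594 q5784, e3 q5785 L122484 q7199, e3 q5786 (flp_i L84605) q4585, e3 q5787 L84624 q5787, e3 q5788 L84670 q4601, e3 q5789 L122603 q7203, e3 q5790 L84684 q4603, e3 q5791 L84692 q4604, e3 q5792 L122645 q7208, e3 q5793 (flp_i L84702) q4590, e3 q5794 L84718 q4607, e3 q5795 L84727 q4608, e3 q5796 L122683 q7213, e3 q5797 L84745 q4610, e3 q5798 L122701 q7215, e3 q5799 (flp_i L84756)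 q4594, e3 q5800 (flp_i L576303) q5043, e3 q5801 (flp_i L591811) q5127, e3 q5802 L122763 q7222, e3 q5803 L591999 q5224, e3 q5804 L593503 q5223, e3 q5805 L122804 q7227, e3 q5806 (flp_i L84812) q4599, e3 q5807 (flp_i L593608) q5222, e3 q5808 (flp_i L122573) q7200, e3 q5809 (flp_i L122583) q7201, e3 q5810 L122863 q7234, e3 q5811 L122880 q7236, e3 q5812 (flp_i L84863) q4602, e3 q5813 (flp_i L122619) q7204, e3 q5814 L122914 q7241, e3 q5815 (flp_i L122635) q7206, e3 q5816 L122929 q7243, e3 q5817 (flp_i L84900) q4605, e3 q5818 (flp_i L122658) q7209, e3 q5819 (flp_i L122669) q7210, e3 q5820 L122971 q7248, e3 q5821 L122986 q7250, e3 q5822 (flp_i L84934) q4609, e3 q5823 L122992 q7251, trivial⟩ (by decide +kernel)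

theorem ce_i_91 : ∀ r, r < 64 → sm gi (Qf (5824 + r)) = Qf (tab Gen.i (5824 + r)) :=
  edges_tab (sm gi) Qf (tab Gen.i) 5824 [(5824, 4611), (5825, 5825), (5826, 7254), (5827, 5827), (5828, 7256), (5829, 4615), (5830, 4638), (5831, 4639), (5832, 7262), (5833, 4619), (5834, 4643), (5835, 7267), (5836, 4645), (5837, 7269), (5838, 4622), (5839, 4648), (5840, 4649), (5841, 7274), (5842, 7276), (5843, 4626), (5844, 7277), (5845, 4628), (5846, 5070), (5847, 7281), (5848, 5162), (5849, 5161), (5850, 7288), (5851, 7289), (5852, 4632), (5853, 5229), (5854, 7294), (5855, 5228), (5856, 7296), (5857, 4635), (5858, 7257), (5859, 7258), (5860, 7303), (5861, 7260), (5862, 7306), (5863, 7308), (5864, 4640), (5865, 7310), (5866, 4641), (5867, 7263), (5868, 7264), (5869, 7315), (5870, 7317), (5871, 4644), (5872, 7318), (5873, 4646), (5874, 7270), (5875, 7322), (5876, 7324), (5877, 7326), (5878, 4650), (5879, 7328), (5880, 4651), (5881, 4653), (5882, 4666), (5883, 4667), (5884, 7336), (5885, 4669), (5886, 4670), (5887, 7342)]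
    ⟨e3 q5824 (flp_i L84951) q4611, e3 q5825 L85066 q5825, e3 q5826 L123192 q7254, e3 q5827 L85081 q5827, e3 q5828 L123210 q7256, e3 q5829 (flp_i L85091) q4615, e3 q5830 L85181 q4638, e3 q5831 L85191 q4639, e3 q5832 L123385 q7262, e3 q5833 (flp_i L85209) q4619, e3 q5834 L85225 q4643, e3 q5835 L123441 q7267, e3 q5836 L85240 q4645, e3 q5837 L123457 q7269, e3 q5838 (flp_i L85249) q4622, e3 q5839 L85264 q4648, e3 q5840 L85274 q4649, e3 q5841 L123498 q7274, e3 q5842 L123516 q7276, e3 q5843 (flp_i L85291) q4626, e3 q5844 L123522 q7277, e3 q5845 (flp_i L85309) q4628, e3 q5846 (flp_i L553995) q5070, e3 q5847 L123568 q7281, e3 q5848 L575857 q5162, e3 q5849 L576015 q5161, e3 q5850 L123628 q7288, e3 q5851 L123645 q7289, e3 q5852 (flp_i L85368) q4632, e3 q5853 L483497 q5229, e3 q5854 L123685 q7294, e3 q5855 L593476 q5228, e3 q5856 L123702 q7296, e3 q5857 (flp_i L85407) q4635, e3 q5858 (flp_i L123333) q7257, e3 q5859 (flp_i L123346) q7258, e3 q5860 L123757 q7303, e3 q5861 (flp_i L123365) q7260, e3 q5862 L123784 q7306, e3 q5863 L123800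 q7308, e3 q5864 (flp_i L85468) q4640, e3 q5865 L123818 q7310, e3 q5866 (flp_i L85485) q4641, e3 q5867 (flp_i L123415) q7263, e3 q5868 (flp_i L123424) q7264, e3 q5869 L123864 q7315, e3 q5870 L123877 q7317, e3 q5871 (flp_i L85521) q4644, e3 q5872 L123885 q7318, e3 q5873 (flp_i L85536) q4646, e3 q5874 (flp_i L123473) q7270, e3 q5875 L123915 q7322, e3 q5876 L123930 q7324, e3 q5877 L123949 q7326, e3 q5878 (flp_i L85575) q4650, e3 q5879 L123964 q7328, e3 q5880 (flp_i L85592) q4651, e3 q5881 (flp_i L85599) q4653, e3 q5882 L85615 q4666, e3 q5883 L85628 q4667, e3 q5884 L124040 q7336, e3 q5885 L85648 q4669, e3 q5886 L85659 q4670, e3 q5887 L124098 q7342, trivial⟩ (by decide +kernel)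

theorem ce_i_92 : ∀ r, r < 64 → sm gi (Qf (5888 + r)) = Qf (tab Gen.i (5888 + r)) :=
  edges_tab (sm gi) Qf (tab Gen.i) 5888 [(5888, 4672), (5889, 4673), (5890, 7347), (5891, 4659), (5892, 4676), (5893, 4677), (5894, 7352), (5895, 4679), (5896, 7354), (5897, 4663), (5898, 7330), (5899, 7331), (5900, 7359), (5901, 7333), (5902, 7334), (5903, 7364), (5904, 4668), (5905, 7337), (5906, 7338), (5907, 7339), (5908, 7371), (5909, 7373), (5910, 4671), (5911, 7343), (5912, 7378), (5913, 7345), (5914, 7380), (5915, 4674), (5916, 7348), (5917, 7349), (5918, 7385), (5919, 7387), (5920, 4678), (5921, 7388), (5922, 4680), (5923, 4698), (5924, 4699), (5925, 7393), (5926, 4701), (5927, 4702), (5928, 7398), (5929, 4684), (5930, 4705), (5931, 4706), (5932, 4707), (5933, 7405), (5934, 7406), (5935, 4687), (5936, 4711), (5937, 7411), (5938, 4713), (5939, 7413), (5940, 4690), (5941, 4716), (5942, 4717), (5943, 7418), (5944, 7420), (5945, 4694), (5946, 7421), (5947, 4696), (5948, 7389), (5949, 7390), (5950, 7391), (5951, 7429)]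
    ⟨e3 q5888 L85674 q4672, e3 q5889 L85683 q4673, e3 q5890 L124143 q7347, e3 q5891 (flp_i L85695) q4659, e3 q5892 L85714 q4676, e3 q5893 L85724 q4677, e3 q5894 L124185 q7352, e3 q5895 L85739 q4679, e3 q5896 L124203 q7354, e3 q5897 (flp_i L85750) q4663, e3 q5898 (flp_i L123986) q7330, e3 q5899 (flp_i L123999) q7331, e3 q5900 L124267 q7359, e3 q5901 (flp_i L124017) q7333, e3 q5902 (flp_i L124027) q7334, e3 q5903 L124313 q7364, e3 q5904 (flp_i L85814) q4668, e3 q5905 (flp_i L124061) q7337, e3 q5906 (flp_i L124071) q7338, e3 q5907 (flp_i L124079) q7339, e3 q5908 L124371 q7371, e3 q5909 L124388 q7373, e3 q5910 (flp_i L85867) q4671, e3 q5911 (flp_i L124114) q7343, e3 q5912 L124429 q7378, e3 q5913 (flp_i L124131) q7345, e3 q5914 L124448 q7380, e3 q5915 (flp_i L85907) q4674, e3 q5916 (flp_i L124158) q7348, e3 q5917 (flp_i L124167) q7349, e3 q5918 L124487 q7385, e3 q5919 L124502 q7387, e3 q5920 (flp_i L85945) q4678, e3 q5921 L124511 q7388, e3 q5922 (flp_i L85962) q4680, e3 q5923 L85976 q4698, e3 q5924 L85987 q4699, e3 q5925 L124574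 q7393, e3 q5926 L86002 q4701, e3 q5927 L86012 q4702, e3 q5928 L124622 q7398, e3 q5929 (flp_i L86024) q4684, e3 q5930 L86045 q4705, e3 q5931 L86051 q4706, e3 q5932 L86059 q4707, e3 q5933 L124678 q7405, e3 q5934 L124693 q7406, e3 q5935 (flp_i L86076) q4687, e3 q5936 L86091 q4711, e3 q5937 L124732 q7411, e3 q5938 L86107 q4713, e3 q5939 L124749 q7413, e3 q5940 (flp_i L86118) q4690, e3 q5941 L86131 q4716, e3 q5942 L86141 q4717, e3 q5943 L124791 q7418, e3 q5944 L124805 q7420, e3 q5945 (flp_i L86155) q4694, e3 q5946 L124811 q7421, e3 q5947 (flp_i L86170) q4696, e3 q5948 (flp_i L124528) q7389, e3 q5949 (flp_i L124543) q7390, e3 q5950 (flp_i L124553) q7391, e3 q5951 L124910 q7429, trivial⟩ (by decide +kernel)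

theorem ce_i_93 : ∀ r, r < 64 → sm gi (Qf (5952 + r)) = Qf (tab Gen.i (5952 + r)) :=
  edges_tab (sm gi) Qf (tab Gen.i) 5952 [(5952, 4700), (5953, 7394), (5954, 7434), (5955, 7396), (5956, 7436), (5957, 4703), (5958, 7399), (5959, 7400), (5960, 7443), (5961, 7402), (5962, 7446), (5963, 7448), (5964, 4708), (5965, 7450), (5966, 4709), (5967, 7407), (5968, 7408), (5969, 7455), (5970, 7457), (5971, 4712), (5972, 7458), (5973, 4714), (5974, 7414), (5975, 7462), (5976, 7464), (5977, 7466), (5978, 4718), (5979, 7468), (5980, 4719), (5981, 4721), (5982, 4748), (5983, 4749), (5984, 4750), (5985, 7476), (5986, 4725), (5987, 4753), (5988, 7480), (5989, 4755), (5990, 7482), (5991, 4728), (5992, 4758), (5993, 4759), (5994, 7489), (5995, 4761), (5996, 7492), (5997, 7494), (5998, 4733), (5999, 4734), (6000, 4767), (6001, 4768), (6002, 7499), (6003, 7501), (6004, 4737), (6005, 7502), (6006, 4739), (6007, 4774), (6008, 7506), (6009, 7508), (6010, 7510), (6011, 4743), (6012, 7512), (6013, 4744), (6014, 4746), (6015, 7470)]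
    ⟨e3 q5952 (flp_i L86228) q4700, e3 q5953 (flp_i L124592) q7394, e3 q5954 L124971 q7434, e3 q5955 (flp_i L124610) q7396, e3 q5956 L124989 q7436, e3 q5957 (flp_i L86271) q4703, e3 q5958 (flp_i L124634) q7399, e3 q5959 (flp_i L124645) q7400, e3 q5960 L125034 q7443, e3 q5961 (flp_i L124661) q7402, e3 q5962 L125058 q7446, e3 q5963 L125072 q7448, e3 q5964 (flp_i L86321) q4708, e3 q5965 L125086 q7450, e3 q5966 (flp_i L86335) q4709, e3 q5967 (flp_i L124705) q7407, e3 q5968 (flp_i L124716) q7408, e3 q5969 L125136 q7455, e3 q5970 L125149 q7457, e3 q5971 (flp_i L86372) q4712, e3 q5972 L125157 q7458, e3 q5973 (flp_i L86388) q4714, e3 q5974 (flp_i L124768) q7414, e3 q5975 L125188 q7462, e3 q5976 L125203 q7464, e3 q5977 L125218 q7466, e3 q5978 (flp_i L86428) q4718, e3 q5979 L125232 q7468, e3 q5980 (flp_i L86441) q4719, e3 q5981 (flp_i L86448) q4721, e3 q5982 L86465 q4748, e3 q5983 L86480 q4749, e3 q5984 L86490 q4750, e3 q5985 L125344 q7476, e3 q5986 (flp_i L86509) q4725, e3 q5987 L86527 q4753, e3 q5988 L125410 q7480, e3 q5989 L86544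 q4755, e3 q5990 L125429 q7482, e3 q5991 (flp_i L86555) q4728, e3 q5992 L86569 q4758, e3 q5993 L86581 q4759, e3 q5994 L125482 q7489, e3 q5995 L86596 q4761, e3 q5996 L125505 q7492, e3 q5997 L125519 q7494, e3 q5998 (flp_i L86613) q4733, e3 q5999 (flp_i L86628) q4734, e3 q6000 L86640 q4767, e3 q6001 L86650 q4768, e3 q6002 L125581 q7499, e3 q6003 L125597 q7501, e3 q6004 (flp_i L86669) q4737, e3 q6005 L125605 q7502, e3 q6006 (flp_i L86686) q4739, e3 q6007 L86702 q4774, e3 q6008 L125637 q7506, e3 q6009 L125653 q7508, e3 q6010 L125671 q7510, e3 q6011 (flp_i L86725) q4743, e3 q6012 L125685 q7512, e3 q6013 (flp_i L86741) q4744, e3 q6014 (flp_i L86748) q4746, e3 q6015 (flp_i L125251) q7470, trivial⟩ (by decide +kernel)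

theorem ce_i_94 : ∀ r, r < 64 → sm gi (Qf (6016 + r)) = Qf (tab Gen.i (6016 + r)) :=
  edges_tab (sm gi) Qf (tab Gen.i) 6016 [(6016, 7471), (6017, 7048), (6018, 7472), (6019, 7523), (6020, 7474), (6021, 7525), (6022, 4751), (6023, 7477), (6024, 7478), (6025, 7530), (6026, 7532), (6027, 4754), (6028, 7533), (6029, 4756), (6030, 7483), (6031, 7538), (6032, 7485), (6033, 7486), (6034, 7543), (6035, 7546), (6036, 4760), (6037, 7548), (6038, 7550), (6039, 4762), (6040, 7552), (6041, 4763), (6042, 7554), (6043, 4765), (6044, 7495), (6045, 7558), (6046, 7560), (6047, 7562), (6048, 4769), (6049, 7564), (6050, 4770), (6051, 4772), (6052, 7503), (6053, 7568), (6054, 7571), (6055, 4775), (6056, 7573), (6057, 4776), (6058, 7575), (6059, 4777), (6060, 7578), (6061, 4779), (6062, 4833), (6063, 4803), (6064, 4804), (6065, 4808), (6066, 7584), (6067, 4810), (6068, 4811), (6069, 4815), (6070, 7062), (6071, 7063), (6072, 7060), (6073, 6980), (6074, 4823), (6075, 7594), (6076, 7597), (6077, 4793), (6078, 7599), (6079, 4794)]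
    ⟨e3 q6016 (flp_i L125260) q7471, e3 q6017 L547105 q7048, e3 q6018 (flp_i L125304) q7472, e3 q6019 L125826 q7523, e3 q6020 (flp_i L125323) q7474, e3 q6021 L125854 q7525, e3 q6022 (flp_i L86845) q4751, e3 q6023 (flp_i L125378) q7477, e3 q6024 (flp_i L125389) q7478, e3 q6025 L125946 q7530, e3 q6026 L125964 q7532, e3 q6027 (flp_i L86908) q4754, e3 q6028 L125974 q7533, e3 q6029 (flp_i L86926) q4756, e3 q6030 (flp_i L125447) q7483, e3 q6031 L126012 q7538, e3 q6032 (flp_i L125460) q7485, e3 q6033 (flp_i L125468) q7486, e3 q6034 L126044 q7543, e3 q6035 L126062 q7546, e3 q6036 (flp_i L86972) q4760, e3 q6037 L126076 q7548, e3 q6038 L126091 q7550, e3 q6039 (flp_i L86994) q4762, e3 q6040 L126108 q7552, e3 q6041 (flp_i L87007) q4763, e3 q6042 L126130 q7554, e3 q6043 (flp_i L87023) q4765, e3 q6044 (flp_i L125555) q7495, e3 q6045 L126169 q7558, e3 q6046 L126186 q7560, e3 q6047 L126203 q7562, e3 q6048 (flp_i L87070) q4769, e3 q6049 L126222 q7564, e3 q6050 (flp_i L87085) q4770, e3 q6051 (flp_i L87094) q4772, e3 q6052 (flp_i L125620) q7503,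 e3 q6053 L126253 q7568, e3 q6054 L126274 q7571, e3 q6055 (flp_i L87123) q4775, e3 q6056 L126291 q7573, e3 q6057 (flp_i L87138) q4776, e3 q6058 L126309 q7575, e3 q6059 (flp_i L87155) q4777, e3 q6060 L126335 q7578, e3 q6061 (flp_i L87171) q4779, e3 q6062 L87185 q4833, e3 q6063 L87329 q4803, e3 q6064 L87339 q4804, e3 q6065 L87396 q4808, e3 q6066 L126686 q7584, e3 q6067 L87409 q4810, e3 q6068 L87419 q4811, e3 q6069 L87513 q4815, e3 q6070 (flp_i L563068) q7062, e3 q6071 L563018 q7063, e3 q6072 L562827 q7060, e3 q6073 (flp_i L553307) q6980, e3 q6074 L87576 q4823, e3 q6075 L126926 q7594, e3 q6076 L126948 q7597, e3 q6077 (flp_i L87593) q4793, e3 q6078 L126963 q7599, e3 q6079 (flp_i L87609) q4794, trivial⟩ (by decide +kernel)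

theorem ce_i_95 : ∀ r, r < 64 → sm gi (Qf (6080 + r)) = Qf (tab Gen.i (6080 + r)) :=
  edges_tab (sm gi) Qf (tab Gen.i) 6080 [(6080, 7601), (6081, 4795), (6082, 7604), (6083, 4797), (6084, 7513), (6085, 7047), (6086, 7609), (6087, 7045), (6088, 7046), (6089, 7580), (6090, 7075), (6091, 7076), (6092, 7077), (6093, 7078), (6094, 7581), (6095, 7582), (6096, 7622), (6097, 7624), (6098, 4809), (6099, 7585), (6100, 7065), (6101, 7066), (6102, 7067), (6103, 7068), (6104, 7586), (6105, 7633), (6106, 7636), (6107, 4816), (6108, 7638), (6109, 4817), (6110, 7640), (6111, 4818), (6112, 7643), (6113, 4820), (6114, 7565), (6115, 7646), (6116, 7649), (6117, 4824), (6118, 7648), (6119, 7647), (6120, 4825), (6121, 4955), (6122, 4827), (6123, 7655), (6124, 4829), (6125, 7576), (6126, 7657), (6127, 4831), (6128, 7579), (6129, 6129), (6130, 6130), (6131, 7662), (6132, 4835), (6133, 6133), (6134, 7665), (6135, 6135), (6136, 7667), (6137, 4838), (6138, 6138), (6139, 6139), (6140, 7670), (6141, 6141), (6142, 7673), (6143, 7675)]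
    ⟨e3 q6080 L126978 q7601, e3 q6081 (flp_i L87627) q4795, e3 q6082 L127001 q7604, e3 q6083 (flp_i L87640) q4797, e3 q6084 (flp_i L125699) q7513, e3 q6085 L562545 q7047, e3 q6086 L127133 q7609, e3 q6087 L562540 q7045, e3 q6088 L562531 q7046, e3 q6089 (flp_i L126590) q7580, e3 q6090 L546233 q7075, e3 q6091 L562913 q7076, e3 q6092 L546714 q7077, e3 q6093 (flp_i L546651) q7078, e3 q6094 (flp_i L126661) q7581, e3 q6095 (flp_i L126670) q7582, e3 q6096 L127341 q7622, e3 q6097 L127354 q7624, e3 q6098 (flp_i L87886) q4809, e3 q6099 (flp_i L126702) q7585, e3 q6100 (flp_i L546401) q7065, e3 q6101 L562906 q7066, e3 q6102 (flp_i L562488) q7067, e3 q6103 (flp_i L546610) q7068, e3 q6104 (flp_i L126831) q7586, e3 q6105 L127459 q7633, e3 q6106 L127479 q7636, e3 q6107 (flp_i L87977) q4816, e3 q6108 L127494 q7638, e3 q6109 (flp_i L87993) q4817, e3 q6110 L127513 q7640, e3 q6111 (flp_i L88008) q4818, e3 q6112 L127536 q7643, e3 q6113 (flp_i L88025) q4820, e3 q6114 (flp_i L126236) q7565, e3 q6115 L127558 q7646, e3 q6116 L127582 q7649, e3 q6117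 (flp_i L88054) q4824, e3 q6118 (flp_i L628546) q7648, e3 q6119 (flp_i L647053) q7647, e3 q6120 (flp_i L88075) q4825, e3 q6121 L647412 q4955, e3 q6122 (flp_i L88091) q4827, e3 q6123 L127659 q7655, e3 q6124 (flp_i L88108) q4829, e3 q6125 (flp_i L126325) q7576, e3 q6126 L127677 q7657, e3 q6127 (flp_i L88132) q4831, e3 q6128 (flp_i L126350) q7579, e3 q6129 L88177 q6129, e3 q6130 L88187 q6130, e3 q6131 L127811 q7662, e3 q6132 (flp_i L88208) q4835, e3 q6133 L88227 q6133, e3 q6134 L127879 q7665, e3 q6135 L88246 q6135, e3 q6136 L127900 q7667, e3 q6137 (flp_i L88257) q4838, e3 q6138 L88273 q6138, e3 q6139 L88284 q6139, e3 q6140 L127960 q7670, e3 q6141 L88303 q6141, e3 q6142 L127989 q7673, e3 q6143 L128005 q7675, trivial⟩ (by decide +kernel)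

theorem ce_i_96 : ∀ r, r < 64 → sm gi (Qf (6144 + r)) = Qf (tab Gen.i (6144 + r)) :=
  edges_tab (sm gi) Qf (tab Gen.i) 6144 [(6144, 4843), (6145, 7677), (6146, 4844), (6147, 6147), (6148, 6148), (6149, 7681), (6150, 7683), (6151, 4847), (6152, 7684), (6153, 4849), (6154, 6154), (6155, 7687), (6156, 7689), (6157, 7691), (6158, 4853), (6159, 7693), (6160, 4854), (6161, 4856), (6162, 6162), (6163, 6163), (6164, 7697), (6165, 6165), (6166, 7699), (6167, 4860), (6168, 6168), (6169, 6169), (6170, 7703), (6171, 7705), (6172, 4863), (6173, 7706), (6174, 4865), (6175, 6175), (6176, 7708), (6177, 6177), (6178, 6178), (6179, 7712), (6180, 7715), (6181, 4869), (6182, 7717), (6183, 7719), (6184, 4871), (6185, 7721), (6186, 4872), (6187, 7723), (6188, 4874), (6189, 6189), (6190, 7726), (6191, 7728), (6192, 7730), (6193, 4878), (6194, 7732), (6195, 4879), (6196, 4881), (6197, 6197), (6198, 7736), (6199, 7739), (6200, 4884), (6201, 7741), (6202, 4885), (6203, 7743), (6204, 4886), (6205, 7746), (6206, 4888), (6207, 6207)]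
    ⟨e3 q6144 (flp_i L88323) q4843, e3 q6145 L128022 q7677, e3 q6146 (flp_i L88342) q4844, e3 q6147 L88355 q6147, e3 q6148 L88365 q6148, e3 q6149 L128074 q7681, e3 q6150 L128089 q7683, e3 q6151 (flp_i L88384) q4847, e3 q6152 L128098 q7684, e3 q6153 (flp_i L88403) q4849, e3 q6154 L88419 q6154, e3 q6155 L128134 q7687, e3 q6156 L128151 q7689, e3 q6157 L128169 q7691, e3 q6158 (flp_i L88444) q4853, e3 q6159 L128183 q7693, e3 q6160 (flp_i L88461) q4854, e3 q6161 (flp_i L88469) q4856, e3 q6162 L88530 q6162, e3 q6163 L88542 q6163, e3 q6164 L128345 q7697, e3 q6165 L88562 q6165, e3 q6166 L128375 q7699, e3 q6167 (flp_i L88581) q4860, e3 q6168 L88613 q6168, e3 q6169 L88625 q6169, e3 q6170 L128463 q7703, e3 q6171 L128479 q7705, e3 q6172 (flp_i L88642) q4863, e3 q6173 L128487 q7706, e3 q6174 (flp_i L88660) q4865, e3 q6175 L88678 q6175, e3 q6176 L128529 q7708, e3 q6177 L88691 q6177, e3 q6178 L88702 q6178, e3 q6179 L128571 q7712, e3 q6180 L128591 q7715, e3 q6181 (flp_i L88716) q4869, e3 q6182 L128606 q7717, e3 q6183 L128623 q7719, e3 q6184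 (flp_i L88743) q4871, e3 q6185 L128639 q7721, e3 q6186 (flp_i L88758) q4872, e3 q6187 L128660 q7723, e3 q6188 (flp_i L88771) q4874, e3 q6189 L88796 q6189, e3 q6190 L128702 q7726, e3 q6191 L128719 q7728, e3 q6192 L128733 q7730, e3 q6193 (flp_i L88821) q4878, e3 q6194 L128747 q7732, e3 q6195 (flp_i L88834) q4879, e3 q6196 (flp_i L88841) q4881, e3 q6197 L88857 q6197, e3 q6198 L128776 q7736, e3 q6199 L128802 q7739, e3 q6200 (flp_i L88876) q4884, e3 q6201 L128817 q7741, e3 q6202 (flp_i L88892) q4885, e3 q6203 L128830 q7743, e3 q6204 (flp_i L88908) q4886, e3 q6205 L128851 q7746, e3 q6206 (flp_i L88920) q4888, e3 q6207 L88932 q6207, trivial⟩ (by decide +kernel)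

theorem ce_i_97 : ∀ r, r < 64 → sm gi (Qf (6208 + r)) = Qf (tab Gen.i (6208 + r)) :=
  edges_tab (sm gi) Qf (tab Gen.i) 6208 [(6208, 6208), (6209, 6209), (6210, 7751), (6211, 7753), (6212, 4892), (6213, 7754), (6214, 4894), (6215, 6215), (6216, 7757), (6217, 7759), (6218, 7761), (6219, 4898), (6220, 7763), (6221, 4899), (6222, 4901), (6223, 6223), (6224, 7767), (6225, 7769), (6226, 7772), (6227, 4905), (6228, 7775), (6229, 7777), (6230, 4906), (6231, 7780), (6232, 4908), (6233, 7782), (6234, 4909), (6235, 7784), (6236, 4911), (6237, 7786), (6238, 4913), (6239, 6239), (6240, 7789), (6241, 7792), (6242, 4916), (6243, 7794), (6244, 4917), (6245, 7796), (6246, 4918), (6247, 7799), (6248, 4920), (6249, 4952), (6250, 7801), (6251, 7802), (6252, 4924), (6253, 7804), (6254, 7805), (6255, 4925), (6256, 7806), (6257, 4927), (6258, 7809), (6259, 4929), (6260, 4958), (6261, 7810), (6262, 4931), (6263, 4961), (6264, 6264), (6265, 4962), (6266, 7815), (6267, 4935), (6268, 7817), (6269, 4936), (6270, 7819), (6271, 4937)]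
    ⟨e3 q6208 L89022 q6208, e3 q6209 L89033 q6209, e3 q6210 L129046 q7751, e3 q6211 L129074 q7753, e3 q6212 (flp_i L89052) q4892, e3 q6213 L129091 q7754, e3 q6214 (flp_i L89080) q4894, e3 q6215 L89138 q6215, e3 q6216 L129196 q7757, e3 q6217 L129215 q7759, e3 q6218 L129234 q7761, e3 q6219 (flp_i L89166) q4898, e3 q6220 L129250 q7763, e3 q6221 (flp_i L89184) q4899, e3 q6222 (flp_i L89193) q4901, e3 q6223 L89210 q6223, e3 q6224 L129293 q7767, e3 q6225 L129309 q7769, e3 q6226 L129335 q7772, e3 q6227 (flp_i L89235) q4905, e3 q6228 L129356 q7775, e3 q6229 L129372 q7777, e3 q6230 (flp_i L89259) q4906, e3 q6231 L129395 q7780, e3 q6232 (flp_i L89274) q4908, e3 q6233 L129408 q7782, e3 q6234 (flp_i L89290) q4909, e3 q6235 L129430 q7784, e3 q6236 (flp_i L89305) q4911, e3 q6237 L129453 q7786, e3 q6238 (flp_i L89326) q4913, e3 q6239 L89347 q6239, e3 q6240 L129493 q7789, e3 q6241 L129516 q7792, e3 q6242 (flp_i L89367) q4916, e3 q6243 L129532 q7794, e3 q6244 (flp_i L89384) q4917, e3 q6245 L129549 q7796, e3 q6246 (flp_i L89400) q4918, e3 q6247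 L129572 q7799, e3 q6248 (flp_i L89416) q4920, e3 q6249 L89429 q4952, e3 q6250 L129597 q7801, e3 q6251 L129623 q7802, e3 q6252 (flp_i L89448) q4924, e3 q6253 L129648 q7804, e3 q6254 L129657 q7805, e3 q6255 (flp_i L89472) q4925, e3 q6256 (flp_i L628224) q7806, e3 q6257 (flp_i L89489) q4927, e3 q6258 L129706 q7809, e3 q6259 (flp_i L89504) q4929, e3 q6260 L89518 q4958, e3 q6261 L129722 q7810, e3 q6262 (flp_i L89528) q4931, e3 q6263 L89542 q4961, e3 q6264 L89551 q6264, e3 q6265 (flp_i L647559) q4962, e3 q6266 L129794 q7815, e3 q6267 (flp_i L89573) q4935, e3 q6268 L129812 q7817, e3 q6269 (flp_i L89592) q4936, e3 q6270 L129828 q7819, e3 q6271 (flp_i L89611) q4937, trivial⟩ (by decide +kernel)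

theorem ce_i_98 : ∀ r, r < 64 → sm gi (Qf (6272 + r)) = Qf (tab Gen.i (6272 + r)) :=
  edges_tab (sm gi) Qf (tab Gen.i) 6272 [(6272, 7822), (6273, 4939), (6274, 7764), (6275, 4957), (6276, 7827), (6277, 7652), (6278, 4944), (6279, 7825), (6280, 4946), (6281, 7824), (6282, 4948), (6283, 7797), (6284, 7830), (6285, 4950), (6286, 7800), (6287, 7812), (6288, 4959), (6289, 7811), (6290, 6290), (6291, 4964), (6292, 6292), (6293, 6293), (6294, 6294), (6295, 4975), (6296, 4976), (6297, 7107), (6298, 6298), (6299, 6299), (6300, 4986), (6301, 4987), (6302, 4989), (6303, 5243), (6304, 6304), (6305, 7120), (6306, 6306), (6307, 6307), (6308, 5002), (6309, 5004), (6310, 5005), (6311, 5007), (6312, 5226), (6313, 5025), (6314, 6314), (6315, 7179), (6316, 7143), (6317, 6317), (6318, 5019), (6319, 5021), (6320, 5022), (6321, 5020), (6322, 5100), (6323, 5086), (6324, 5089), (6325, 7836), (6326, 7837), (6327, 7838), (6328, 7172), (6329, 5023), (6330, 5040), (6331, 5041), (6332, 5044), (6333, 5046), (6334, 5042), (6335, 5124)]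
    ⟨e3 q6272 L129853 q7822, e3 q6273 (flp_i L89626) q4939, e3 q6274 (flp_i L129266) q7764, e3 q6275 (flp_i L647540) q4957, e3 q6276 L129925 q7827, e3 q6277 L646360 q7652, e3 q6278 (flp_i L89684) q4944, e3 q6279 (flp_i L646228) q7825, e3 q6280 (flp_i L89699) q4946, e3 q6281 (flp_i L629457) q7824, e3 q6282 (flp_i L89715) q4948, e3 q6283 (flp_i L129562) q7797, e3 q6284 L129995 q7830, e3 q6285 (flp_i L89736) q4950, e3 q6286 (flp_i L129586) q7800, e3 q6287 (flp_i L646122) q7812, e3 q6288 (flp_i L89876) q4959, e3 q6289 (flp_i L129736) q7811, e3 q6290 L411561 q6290, e3 q6291 (flp_i L90117) q4964, e3 q6292 L90251 q6292, e3 q6293 L90279 q6293, e3 q6294 L90327 q6294, e3 q6295 L90348 q4975, e3 q6296 L90356 q4976, e3 q6297 (flp_i L609695) q7107, e3 q6298 L90654 q6298, e3 q6299 L90720 q6299, e3 q6300 L90751 q4986, e3 q6301 L90762 q4987, e3 q6302 L90777 q4989, e3 q6303 (flp_i L566333) q5243, e3 q6304 L440844 q6304, e3 q6305 (flp_i L621822) q7120, e3 q6306 L439102 q6306, e3 q6307 L91181 q6307, e3 q6308 L91314 q5002, e3 q6309 L91327 q5004,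 e3 q6310 L91338 q5005, e3 q6311 L91362 q5007, e3 q6312 L566459 q5226, e3 q6313 L622712 q5025, e3 q6314 L440818 q6314, e3 q6315 (flp_i L621805) q7179, e3 q6316 (flp_i L619727) q7143, e3 q6317 L439016 q6317, e3 q6318 L91832 q5019, e3 q6319 L91850 q5021, e3 q6320 L91859 q5022, e3 q6321 L576161 q5020, e3 q6322 L591340 q5100, e3 q6323 L591189 q5086, e3 q6324 (flp_i L601203) q5089, e3 q6325 (flp_i L133096) q7836, e3 q6326 (flp_i L133105) q7837, e3 q6327 L591301 q7838, e3 q6328 L474402 q7172, e3 q6329 (flp_i L92098) q5023, e3 q6330 L92497 q5040, e3 q6331 L92506 q5041, e3 q6332 L92541 q5044, e3 q6333 L92558 q5046, e3 q6334 L591370 q5042, e3 q6335 L591348 q5124, trivial⟩ (by decide +kernel)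

theorem ce_i_99 : ∀ r, r < 64 → sm gi (Qf (6336 + r)) = Qf (tab Gen.i (6336 + r)) :=
  edges_tab (sm gi) Qf (tab Gen.i) 6336 [(6336, 5126), (6337, 5108), (6338, 5110), (6339, 5112), (6340, 7843), (6341, 7844), (6342, 7846), (6343, 7845), (6344, 7847), (6345, 7216), (6346, 6709), (6347, 5045), (6348, 5047), (6349, 5065), (6350, 5066), (6351, 5068), (6352, 5072), (6353, 5073), (6354, 5067), (6355, 5069), (6356, 5159), (6357, 5158), (6358, 5135), (6359, 5160), (6360, 5137), (6361, 5140), (6362, 5141), (6363, 5142), (6364, 7856), (6365, 7873), (6366, 7858), (6367, 7859), (6368, 7861), (6369, 7860), (6370, 7862), (6371, 7279), (6372, 7278), (6373, 6751), (6374, 5074), (6375, 7881), (6376, 5075), (6377, 5077), (6378, 5094), (6379, 5095), (6380, 5096), (6381, 5097), (6382, 5098), (6383, 5099), (6384, 7839), (6385, 7882), (6386, 7883), (6387, 7884), (6388, 7173), (6389, 6681), (6390, 5118), (6391, 5119), (6392, 5120), (6393, 5121), (6394, 5122), (6395, 5123), (6396, 7849), (6397, 5125), (6398, 7850), (6399, 7889)]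
    ⟨e3 q6336 (flp_i L591502) q5126, e3 q6337 (flp_i L601124) q5108, e3 q6338 (flp_i L601122) q5110, e3 q6339 L591413 q5112, e3 q6340 (flp_i L134070) q7843, e3 q6341 (flp_i L134080) q7844, e3 q6342 (flp_i L552461) q7846, e3 q6343 (flp_i L134099) q7845, e3 q6344 (flp_i L591393) q7847, e3 q6345 (flp_i L576345) q7216, e3 q6346 L554676 q6709, e3 q6347 (flp_i L92849) q5045, e3 q6348 (flp_i L92865) q5047, e3 q6349 L93422 q5065, e3 q6350 L93433 q5066, e3 q6351 L93451 q5068, e3 q6352 L93498 q5072, e3 q6353 L93508 q5073, e3 q6354 (flp_i L551351) q5067, e3 q6355 L505680 q5069, e3 q6356 (flp_i L590566) q5159, e3 q6357 L590681 q5158, e3 q6358 (flp_i L590795) q5135, e3 q6359 (flp_i L591507) q5160, e3 q6360 L591404 q5137, e3 q6361 (flp_i L590281) q5140, e3 q6362 L580394 q5141, e3 q6363 (flp_i L590764) q5142, e3 q6364 (flp_i L135476) q7856, e3 q6365 L136082 q7873, e3 q6366 (flp_i L135491) q7858, e3 q6367 (flp_i L135502) q7859, e3 q6368 L551619 q7861, e3 q6369 (flp_i L590494) q7860, e3 q6370 (flp_i L590720) q7862, e3 q6371 L554026 q7279,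 e3 q6372 (flp_i L554372) q7278, e3 q6373 L502200 q6751, e3 q6374 (flp_i L93963) q5074, e3 q6375 L136299 q7881, e3 q6376 (flp_i L93978) q5075, e3 q6377 (flp_i L93987) q5077, e3 q6378 L94090 q5094, e3 q6379 L94110 q5095, e3 q6380 L94122 q5096, e3 q6381 L94158 q5097, e3 q6382 L94168 q5098, e3 q6383 L94175 q5099, e3 q6384 L455976 q7839, e3 q6385 (flp_i L136411) q7882, e3 q6386 (flp_i L136420) q7883, e3 q6387 (flp_i L136516) q7884, e3 q6388 L591789 q7173, e3 q6389 L575391 q6681, e3 q6390 L94664 q5118, e3 q6391 L94673 q5119, e3 q6392 L94712 q5120, e3 q6393 L94733 q5121, e3 q6394 L94760 q5122, e3 q6395 L94769 q5123, e3 q6396 (flp_i L473901) q7849, e3 q6397 L94784 q5125, e3 q6398 L601105 q7850, e3 q6399 (flp_i L137270) q7889, trivial⟩ (by decide +kernel)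

theorem ce_i_100 : ∀ r, r < 64 → sm gi (Qf (6400 + r)) = Qf (tab Gen.i (6400 + r)) :=
  edges_tab (sm gi) Qf (tab Gen.i) 6400 [(6400, 7890), (6401, 7891), (6402, 7892), (6403, 7899), (6404, 7848), (6405, 7219), (6406, 7218), (6407, 6710), (6408, 5149), (6409, 5150), (6410, 5151), (6411, 5152), (6412, 5153), (6413, 5154), (6414, 7912), (6415, 5156), (6416, 5157), (6417, 7865), (6418, 7866), (6419, 7867), (6420, 5196), (6421, 7868), (6422, 7904), (6423, 7919), (6424, 7906), (6425, 7907), (6426, 7908), (6427, 7909), (6428, 7924), (6429, 7926), (6430, 5155), (6431, 7863), (6432, 7282), (6433, 7285), (6434, 7283), (6435, 6753), (6436, 6754), (6437, 5192), (6438, 7936), (6439, 5194), (6440, 5195), (6441, 6441), (6442, 6442), (6443, 6443), (6444, 6444), (6445, 5197), (6446, 5198), (6447, 7943), (6448, 7945), (6449, 5173), (6450, 5201), (6451, 6451), (6452, 6452), (6453, 6453), (6454, 6454), (6455, 6455), (6456, 6456), (6457, 6457), (6458, 6458), (6459, 6459), (6460, 7037), (6461, 7036), (6462, 7955), (6463, 7034)]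
    ⟨e3 q6400 (flp_i L137281) q7890, e3 q6401 (flp_i L137300) q7891, e3 q6402 (flp_i L137428) q7892, e3 q6403 L137999 q7899, e3 q6404 (flp_i L576831) q7848, e3 q6405 (flp_i L591908) q7219, e3 q6406 (flp_i L591902) q7218, e3 q6407 (flp_i L554896) q6710, e3 q6408 L95448 q5149, e3 q6409 L95460 q5150, e3 q6410 L95478 q5151, e3 q6411 L95531 q5152, e3 q6412 L95544 q5153, e3 q6413 L95607 q5154, e3 q6414 L138669 q7912, e3 q6415 L95619 q5156, e3 q6416 L95628 q5157, e3 q6417 L590775 q7865, e3 q6418 (flp_i L547154) q7866, e3 q6419 (flp_i L456371) q7867, e3 q6420 L624458 q5196, e3 q6421 L580349 q7868, e3 q6422 (flp_i L138427) q7904, e3 q6423 L139175 q7919, e3 q6424 (flp_i L138443) q7906, e3 q6425 (flp_i L138454) q7907, e3 q6426 (flp_i L138645) q7908, e3 q6427 (flp_i L138654) q7909, e3 q6428 L139411 q7924, e3 q6429 L139423 q7926, e3 q6430 (flp_i L96151) q5155, e3 q6431 L456686 q7863, e3 q6432 (flp_i L590483) q7282, e3 q6433 (flp_i L590708) q7285, e3 q6434 L567948 q7283, e3 q6435 (flp_i L501456) q6753, e3 q6436 L575693 q6754, e3 q6437 L96414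 q5192, e3 q6438 L139768 q7936, e3 q6439 L96428 q5194, e3 q6440 L96440 q5195, e3 q6441 L96517 q6441, e3 q6442 L96529 q6442, e3 q6443 L96538 q6443, e3 q6444 L96547 q6444, e3 q6445 L96553 q5197, e3 q6446 L96561 q5198, e3 q6447 L139964 q7943, e3 q6448 L139983 q7945, e3 q6449 (flp_i L96576) q5173, e3 q6450 L96591 q5201, e3 q6451 L96602 q6451, e3 q6452 L96613 q6452, e3 q6453 L96619 q6453, e3 q6454 L96624 q6454, e3 q6455 L96706 q6455, e3 q6456 L96712 q6456, e3 q6457 L96742 q6457, e3 q6458 L96760 q6458, e3 q6459 L96768 q6459, e3 q6460 (flp_i L561595) q7037, e3 q6461 (flp_i L561727) q7036, e3 q6462 L140248 q7955, e3 q6463 L543839 q7034, trivial⟩ (by decide +kernel)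

theorem ce_i_101 : ∀ r, r < 64 → sm gi (Qf (6464 + r)) = Qf (tab Gen.i (6464 + r)) :=
  edges_tab (sm gi) Qf (tab Gen.i) 6464 [(6464, 7035), (6465, 7933), (6466, 7934), (6467, 7961), (6468, 5193), (6469, 7915), (6470, 7938), (6471, 7939), (6472, 7965), (6473, 7966), (6474, 5199), (6475, 6475), (6476, 6476), (6477, 6477), (6478, 6478), (6479, 7968), (6480, 7119), (6481, 7176), (6482, 7175), (6483, 6682), (6484, 6484), (6485, 7973), (6486, 6486), (6487, 6487), (6488, 7975), (6489, 7978), (6490, 5218), (6491, 7142), (6492, 6665), (6493, 7141), (6494, 7225), (6495, 7223), (6496, 6712), (6497, 6713), (6498, 7291), (6499, 7290), (6500, 6758), (6501, 6760), (6502, 6502), (6503, 7989), (6504, 6504), (6505, 6505), (6506, 7991), (6507, 7994), (6508, 5236), (6509, 7106), (6510, 6644), (6511, 6640), (6512, 6627), (6513, 6641), (6514, 6684), (6515, 5245), (6516, 6653), (6517, 7132), (6518, 5246), (6519, 6660), (6520, 6661), (6521, 6716), (6522, 5286), (6523, 6523), (6524, 6524), (6525, 6525), (6526, 6526), (6527, 6527)]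
    ⟨e3 q6464 L561143 q7035, e3 q6465 (flp_i L139742) q7933, e3 q6466 (flp_i L139751) q7934, e3 q6467 L140297 q7961, e3 q6468 (flp_i L96842) q5193, e3 q6469 L616651 q7915, e3 q6470 (flp_i L139933) q7938, e3 q6471 (flp_i L139943) q7939, e3 q6472 L140341 q7965, e3 q6473 L140348 q7966, e3 q6474 (flp_i L96895) q5199, e3 q6475 L96971 q6475, e3 q6476 L96981 q6476, e3 q6477 L97001 q6477, e3 q6478 L97134 q6478, e3 q6479 L140719 q7968, e3 q6480 (flp_i L567596) q7119, e3 q6481 L591613 q7176, e3 q6482 L592090 q7175, e3 q6483 (flp_i L575331) q6682, e3 q6484 L97522 q6484, e3 q6485 L141274 q7973, e3 q6486 L97540 q6486, e3 q6487 L97701 q6487, e3 q6488 L141493 q7975, e3 q6489 L141513 q7978, e3 q6490 (flp_i L97716) q5218, e3 q6491 L567682 q7142, e3 q6492 L644793 q6665, e3 q6493 L567676 q7141, e3 q6494 (flp_i L593492) q7225, e3 q6495 (flp_i L591990) q7223, e3 q6496 (flp_i L554774) q6712, e3 q6497 L575230 q6713, e3 q6498 L567923 q7291, e3 q6499 L567940 q7290, e3 q6500 (flp_i L575095) q6758, e3 q6501 (flp_i L575197) q6760, e3 q6502 L98311 q6502,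 e3 q6503 L142342 q7989, e3 q6504 L98328 q6504, e3 q6505 L98485 q6505, e3 q6506 L142574 q7991, e3 q6507 L142598 q7994, e3 q6508 (flp_i L98501) q5236, e3 q6509 (flp_i L593753) q7106, e3 q6510 L644799 q6644, e3 q6511 (flp_i L484177) q6640, e3 q6512 L484447 q6627, e3 q6513 L574745 q6641, e3 q6514 L574738 q6684, e3 q6515 (flp_i L98874) q5245, e3 q6516 (flp_i L644735) q6653, e3 q6517 L641777 q7132, e3 q6518 (flp_i L98992) q5246, e3 q6519 (flp_i L484312) q6660, e3 q6520 (flp_i L567085) q6661, e3 q6521 (flp_i L574607) q6716, e3 q6522 L495249 q5286, e3 q6523 L411824 q6523, e3 q6524 L411086 q6524, e3 q6525 L410530 q6525, e3 q6526 L411520 q6526, e3 q6527 L99600 q6527, trivial⟩ (by decide +kernel)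

theorem ce_i_102 : ∀ r, r < 64 → sm gi (Qf (6528 + r)) = Qf (tab Gen.i (6528 + r)) :=
  edges_tab (sm gi) Qf (tab Gen.i) 6528 [(6528, 6528), (6529, 6529), (6530, 6530), (6531, 6531), (6532, 5282), (6533, 5283), (6534, 5284), (6535, 5285), (6536, 7956), (6537, 7999), (6538, 6538), (6539, 6539), (6540, 6540), (6541, 6541), (6542, 6542), (6543, 6543), (6544, 6544), (6545, 6545), (6546, 6546), (6547, 6547), (6548, 6548), (6549, 6549), (6550, 6550), (6551, 6551), (6552, 6552), (6553, 6553), (6554, 6554), (6555, 6555), (6556, 6556), (6557, 6557), (6558, 6558), (6559, 6559), (6560, 6560), (6561, 5702), (6562, 6562), (6563, 6563), (6564, 6564), (6565, 6565), (6566, 6566), (6567, 6567), (6568, 6568), (6569, 5724), (6570, 6570), (6571, 6571), (6572, 6572), (6573, 6573), (6574, 6574), (6575, 8011), (6576, 6576), (6577, 6577), (6578, 6578), (6579, 8014), (6580, 5317), (6581, 6581), (6582, 6582), (6583, 6583), (6584, 8017), (6585, 6585), (6586, 6586), (6587, 8020), (6588, 6588), (6589, 6589), (6590, 8023), (6591, 5324)]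
    ⟨e3 q6528 L99642 q6528, e3 q6529 L411091 q6529, e3 q6530 L100270 q6530, e3 q6531 L411011 q6531, e3 q6532 L108503 q5282, e3 q6533 L108513 q5283, e3 q6534 L108528 q5284, e3 q6535 L108539 q5285, e3 q6536 L616673 q7956, e3 q6537 (flp_i L557739) q7999, e3 q6538 L114585 q6538, e3 q6539 L114594 q6539, e3 q6540 L114603 q6540, e3 q6541 L114614 q6541, e3 q6542 L114623 q6542, e3 q6543 L114632 q6543, e3 q6544 L114642 q6544, e3 q6545 L114648 q6545, e3 q6546 L114660 q6546, e3 q6547 L114670 q6547, e3 q6548 L114693 q6548, e3 q6549 L114702 q6549, e3 q6550 L114718 q6550, e3 q6551 L114729 q6551, e3 q6552 L114740 q6552, e3 q6553 L114752 q6553, e3 q6554 L114759 q6554, e3 q6555 L114769 q6555, e3 q6556 L114778 q6556, e3 q6557 L114791 q6557, e3 q6558 L114798 q6558, e3 q6559 L114809 q6559, e3 q6560 L114819 q6560, e3 q6561 L643181 q5702, e3 q6562 L114837 q6562, e3 q6563 L114846 q6563, e3 q6564 L114865 q6564, e3 q6565 L114880 q6565, e3 q6566 L114898 q6566, e3 q6567 L114903 q6567, e3 q6568 L114912 q6568, e3 q6569 L633011 q5724, e3 q6570 L114939 q6570,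 e3 q6571 L114948 q6571, e3 q6572 L114960 q6572, e3 q6573 L114967 q6573, e3 q6574 L114978 q6574, e3 q6575 L166560 q8011, e3 q6576 L114996 q6576, e3 q6577 L115004 q6577, e3 q6578 L115012 q6578, e3 q6579 L166617 q8014, e3 q6580 (flp_i L115024) q5317, e3 q6581 L115043 q6581, e3 q6582 L115053 q6582, e3 q6583 L115062 q6583, e3 q6584 L166680 q8017, e3 q6585 L115081 q6585, e3 q6586 L115090 q6586, e3 q6587 L166733 q8020, e3 q6588 L115103 q6588, e3 q6589 L115111 q6589, e3 q6590 L166775 q8023, e3 q6591 (flp_i L115122) q5324, trivial⟩ (by decide +kernel)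

theorem ce_i_103 : ∀ r, r < 64 → sm gi (Qf (6592 + r)) = Qf (tab Gen.i (6592 + r)) :=
  edges_tab (sm gi) Qf (tab Gen.i) 6592 [(6592, 6592), (6593, 6593), (6594, 8026), (6595, 6595), (6596, 8028), (6597, 5328), (6598, 6598), (6599, 6599), (6600, 8032), (6601, 6601), (6602, 6602), (6603, 8035), (6604, 5333), (6605, 6605), (6606, 6606), (6607, 6607), (6608, 8039), (6609, 8041), (6610, 5336), (6611, 6611), (6612, 8044), (6613, 6613), (6614, 8046), (6615, 5339), (6616, 6616), (6617, 6617), (6618, 8050), (6619, 8052), (6620, 5343), (6621, 8053), (6622, 5345), (6623, 5351), (6624, 5352), (6625, 5353), (6626, 5354), (6627, 6512), (6628, 8054), (6629, 8055), (6630, 8056), (6631, 5700), (6632, 8058), (6633, 8059), (6634, 5360), (6635, 5361), (6636, 5362), (6637, 8071), (6638, 5364), (6639, 5365), (6640, 6511), (6641, 6513), (6642, 8064), (6643, 8065), (6644, 6510), (6645, 8067), (6646, 8068), (6647, 8069), (6648, 5721), (6649, 5363), (6650, 8072), (6651, 5374), (6652, 5375), (6653, 6516), (6654, 5377), (6655, 5378)]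
    ⟨e3 q6592 L115141 q6592, e3 q6593 L115148 q6593, e3 q6594 L166813 q8026, e3 q6595 L115164 q6595, e3 q6596 L166831 q8028, e3 q6597 (flp_i L115175) q5328, e3 q6598 L115189 q6598, e3 q6599 L115200 q6599, e3 q6600 L166893 q8032, e3 q6601 L115215 q6601, e3 q6602 L115225 q6602, e3 q6603 L166938 q8035, e3 q6604 (flp_i L115236) q5333, e3 q6605 L115255 q6605, e3 q6606 L115263 q6606, e3 q6607 L115271 q6607, e3 q6608 L166998 q8039, e3 q6609 L167015 q8041, e3 q6610 (flp_i L115287) q5336, e3 q6611 L115302 q6611, e3 q6612 L167056 q8044, e3 q6613 L115317 q6613, e3 q6614 L167074 q8046, e3 q6615 (flp_i L115327) q5339, e3 q6616 L115342 q6616, e3 q6617 L115351 q6617, e3 q6618 L167115 q8050, e3 q6619 L167133 q8052, e3 q6620 (flp_i L115369) q5343, e3 q6621 L167142 q8053, e3 q6622 (flp_i L115387) q5345, e3 q6623 L115418 q5351, e3 q6624 L115426 q5352, e3 q6625 L115438 q5353, e3 q6626 L115448 q5354, e3 q6627 (flp_i L484447) q6512, e3 q6628 (flp_i L167171) q8054, e3 q6629 (flp_i L167182) q8055, e3 q6630 (flp_i L167192) q8056, e3 q6631 (flp_i L632831)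 q5700, e3 q6632 (flp_i L167211) q8058, e3 q6633 (flp_i L167224) q8059, e3 q6634 L115527 q5360, e3 q6635 L115539 q5361, e3 q6636 L115551 q5362, e3 q6637 L167411 q8071, e3 q6638 L115570 q5364, e3 q6639 L115580 q5365, e3 q6640 L484177 q6511, e3 q6641 (flp_i L574745) q6513, e3 q6642 (flp_i L167349) q8064, e3 q6643 (flp_i L167361) q8065, e3 q6644 (flp_i L644799) q6510, e3 q6645 (flp_i L167380) q8067, e3 q6646 (flp_i L167388) q8068, e3 q6647 (flp_i L167400) q8069, e3 q6648 (flp_i L644812) q5721, e3 q6649 (flp_i L115658) q5363, e3 q6650 (flp_i L167430) q8072, e3 q6651 L115701 q5374, e3 q6652 L115711 q5375, e3 q6653 L644735 q6516, e3 q6654 L115729 q5377, e3 q6655 L115736 q5378, trivial⟩ (by decide +kernel)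

theorem ce_i_104 : ∀ r, r < 64 → sm gi (Qf (6656 + r)) = Qf (tab Gen.i (6656 + r)) :=
  edges_tab (sm gi) Qf (tab Gen.i) 6656 [(6656, 5379), (6657, 8089), (6658, 5369), (6659, 5382), (6660, 6519), (6661, 6520), (6662, 8080), (6663, 8081), (6664, 8082), (6665, 6492), (6666, 8084), (6667, 8085), (6668, 8102), (6669, 8087), (6670, 5751), (6671, 5380), (6672, 5391), (6673, 5392), (6674, 8108), (6675, 5394), (6676, 5395), (6677, 5396), (6678, 8114), (6679, 5386), (6680, 5399), (6681, 6389), (6682, 6483), (6683, 8121), (6684, 6514), (6685, 8103), (6686, 8126), (6687, 8105), (6688, 8106), (6689, 8131), (6690, 5393), (6691, 8109), (6692, 8110), (6693, 8136), (6694, 8112), (6695, 8138), (6696, 5397), (6697, 5413), (6698, 8143), (6699, 5415), (6700, 5416), (6701, 8148), (6702, 5402), (6703, 5419), (6704, 5420), (6705, 8153), (6706, 5422), (6707, 8155), (6708, 5406), (6709, 6346), (6710, 6407), (6711, 8162), (6712, 6496), (6713, 6497), (6714, 8167), (6715, 5411), (6716, 6521), (6717, 8139), (6718, 8140), (6719, 8174)]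
    ⟨e3 q6656 L115748 q5379, e3 q6657 L167705 q8089, e3 q6658 (flp_i L115758) q5369, e3 q6659 L115777 q5382, e3 q6660 L484312 q6519, e3 q6661 L567085 q6520, e3 q6662 (flp_i L167613) q8080, e3 q6663 (flp_i L167627) q8081, e3 q6664 (flp_i L167639) q8082, e3 q6665 (flp_i L644793) q6492, e3 q6666 (flp_i L167668) q8084, e3 q6667 (flp_i L167678) q8085, e3 q6668 L167881 q8102, e3 q6669 (flp_i L167695) q8087, e3 q6670 L644639 q5751, e3 q6671 (flp_i L115891) q5380, e3 q6672 L115927 q5391, e3 q6673 L115940 q5392, e3 q6674 L167997 q8108, e3 q6675 L115958 q5394, e3 q6676 L115968 q5395, e3 q6677 L115979 q5396, e3 q6678 L168061 q8114, e3 q6679 (flp_i L115992) q5386, e3 q6680 L116012 q5399, e3 q6681 (flp_i L575391) q6389, e3 q6682 L575331 q6483, e3 q6683 L168130 q8121, e3 q6684 (flp_i L574738) q6514, e3 q6685 (flp_i L167956) q8103, e3 q6686 L168185 q8126, e3 q6687 (flp_i L167975) q8105, e3 q6688 (flp_i L167985) q8106, e3 q6689 L168228 q8131, e3 q6690 (flp_i L116095) q5393, e3 q6691 (flp_i L168016) q8109, e3 q6692 (flp_i L168027) q8110, e3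 q6693 L168269 q8136, e3 q6694 (flp_i L168048) q8112, e3 q6695 L168290 q8138, e3 q6696 (flp_i L116148) q5397, e3 q6697 L116205 q5413, e3 q6698 L168417 q8143, e3 q6699 L116221 q5415, e3 q6700 L116231 q5416, e3 q6701 L168464 q8148, e3 q6702 (flp_i L116242) q5402, e3 q6703 L116261 q5419, e3 q6704 L116270 q5420, e3 q6705 L168508 q8153, e3 q6706 L116290 q5422, e3 q6707 L168529 q8155, e3 q6708 (flp_i L116302) q5406, e3 q6709 (flp_i L554676) q6346, e3 q6710 L554896 q6407, e3 q6711 L168592 q8162, e3 q6712 L554774 q6496, e3 q6713 (flp_i L575230) q6497, e3 q6714 L168636 q8167, e3 q6715 (flp_i L116362) q5411, e3 q6716 L574607 q6521, e3 q6717 (flp_i L168386) q8139, e3 q6718 (flp_i L168397) q8140, e3 q6719 L168694 q8174, trivial⟩ (by decide +kernel)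

theorem ce_i_105 : ∀ r, r < 64 → sm gi (Qf (6720 + r)) = Qf (tab Gen.i (6720 + r)) :=
  edges_tab (sm gi) Qf (tab Gen.i) 6720 [(6720, 8176), (6721, 5414), (6722, 8144), (6723, 8181), (6724, 8146), (6725, 8183), (6726, 5417), (6727, 8149), (6728, 8150), (6729, 8188), (6730, 8190), (6731, 5421), (6732, 8191), (6733, 5423), (6734, 5445), (6735, 5446), (6736, 8198), (6737, 8199), (6738, 5426), (6739, 5450), (6740, 8204), (6741, 5452), (6742, 8206), (6743, 5429), (6744, 5455), (6745, 5456), (6746, 8211), (6747, 8213), (6748, 5433), (6749, 8214), (6750, 5435), (6751, 6373), (6752, 8219), (6753, 6435), (6754, 6436), (6755, 8226), (6756, 8228), (6757, 5439), (6758, 6500), (6759, 8233), (6760, 6501), (6761, 8235), (6762, 5442), (6763, 8192), (6764, 8193), (6765, 8242), (6766, 8195), (6767, 8245), (6768, 8247), (6769, 5447), (6770, 8249), (6771, 5448), (6772, 8200), (6773, 8201), (6774, 8255), (6775, 8257), (6776, 5451), (6777, 8258), (6778, 5453), (6779, 8207), (6780, 8262), (6781, 8264), (6782, 8266), (6783, 5457)]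
    ⟨e3 q6720 L168711 q8176, e3 q6721 (flp_i L116411) q5414, e3 q6722 (flp_i L168435) q8144, e3 q6723 L168747 q8181, e3 q6724 (flp_i L168453) q8146, e3 q6725 L168763 q8183, e3 q6726 (flp_i L116451) q5417, e3 q6727 (flp_i L168478) q8149, e3 q6728 (flp_i L168491) q8150, e3 q6729 L168805 q8188, e3 q6730 L168821 q8190, e3 q6731 (flp_i L116487) q5421, e3 q6732 L168828 q8191, e3 q6733 (flp_i L116505) q5423, e3 q6734 L116602 q5445, e3 q6735 L116613 q5446, e3 q6736 L169013 q8198, e3 q6737 L169033 q8199, e3 q6738 (flp_i L116631) q5426, e3 q6739 L116649 q5450, e3 q6740 L169077 q8204, e3 q6741 L116666 q5452, e3 q6742 L169096 q8206, e3 q6743 (flp_i L116676) q5429, e3 q6744 L116692 q5455, e3 q6745 L116704 q5456, e3 q6746 L169141 q8211, e3 q6747 L169162 q8213, e3 q6748 (flp_i L116724) q5433, e3 q6749 L169171 q8214, e3 q6750 (flp_i L116745) q5435, e3 q6751 (flp_i L502200) q6373, e3 q6752 L169218 q8219, e3 q6753 L501456 q6435, e3 q6754 (flp_i L575693) q6436, e3 q6755 L169280 q8226, e3 q6756 L169297 q8228, e3 q6757 (flp_i L116805) q5439, e3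 q6758 L575095 q6500, e3 q6759 L169339 q8233, e3 q6760 L575197 q6501, e3 q6761 L169357 q8235, e3 q6762 (flp_i L116847) q5442, e3 q6763 (flp_i L168961) q8192, e3 q6764 (flp_i L168973) q8193, e3 q6765 L169415 q8242, e3 q6766 (flp_i L168993) q8195, e3 q6767 L169442 q8245, e3 q6768 L169456 q8247, e3 q6769 (flp_i L116907) q5447, e3 q6770 L169473 q8249, e3 q6771 (flp_i L116924) q5448, e3 q6772 (flp_i L169046) q8200, e3 q6773 (flp_i L169057) q8201, e3 q6774 L169519 q8255, e3 q6775 L169533 q8257, e3 q6776 (flp_i L116962) q5451, e3 q6777 L169542 q8258, e3 q6778 (flp_i L116978) q5453, e3 q6779 (flp_i L169113) q8207, e3 q6780 L169575 q8262, e3 q6781 L169591 q8264, e3 q6782 L169609 q8266, e3 q6783 (flp_i L117017) q5457, trivial⟩ (by decide +kernel)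

theorem ce_i_106 : ∀ r, r < 64 → sm gi (Qf (6784 + r)) = Qf (tab Gen.i (6784 + r)) :=
  edges_tab (sm gi) Qf (tab Gen.i) 6784 [(6784, 8268), (6785, 5458), (6786, 5460), (6787, 6787), (6788, 6788), (6789, 6789), (6790, 6790), (6791, 8279), (6792, 6792), (6793, 6793), (6794, 6794), (6795, 8285), (6796, 5466), (6797, 6797), (6798, 5480), (6799, 5481), (6800, 8292), (6801, 5483), (6802, 5484), (6803, 8298), (6804, 5486), (6805, 5487), (6806, 8303), (6807, 5473), (6808, 5490), (6809, 5491), (6810, 8308), (6811, 5493), (6812, 8310), (6813, 5477), (6814, 8286), (6815, 8287), (6816, 8317), (6817, 8289), (6818, 8290), (6819, 8322), (6820, 5482), (6821, 8293), (6822, 8294), (6823, 8295), (6824, 8329), (6825, 8331), (6826, 5485), (6827, 8299), (6828, 8336), (6829, 8301), (6830, 8338), (6831, 5488), (6832, 8304), (6833, 8305), (6834, 8343), (6835, 8345), (6836, 5492), (6837, 8346), (6838, 5494), (6839, 6839), (6840, 6840), (6841, 8353), (6842, 6842), (6843, 6843), (6844, 8359), (6845, 6845), (6846, 6846), (6847, 8364)]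
    ⟨e3 q6784 L169624 q8268, e3 q6785 (flp_i L117035) q5458, e3 q6786 (flp_i L117043) q5460, e3 q6787 L117059 q6787, e3 q6788 L117071 q6788, e3 q6789 L117079 q6789, e3 q6790 L117090 q6790, e3 q6791 L169728 q8279, e3 q6792 L117109 q6792, e3 q6793 L117117 q6793, e3 q6794 L117126 q6794, e3 q6795 L169787 q8285, e3 q6796 (flp_i L117138) q5466, e3 q6797 L117158 q6797, e3 q6798 L117170 q5480, e3 q6799 L117182 q5481, e3 q6800 L169862 q8292, e3 q6801 L117201 q5483, e3 q6802 L117211 q5484, e3 q6803 L169918 q8298, e3 q6804 L117228 q5486, e3 q6805 L117239 q5487, e3 q6806 L169966 q8303, e3 q6807 (flp_i L117250) q5473, e3 q6808 L117268 q5490, e3 q6809 L117278 q5491, e3 q6810 L170010 q8308, e3 q6811 L117295 q5493, e3 q6812 L170029 q8310, e3 q6813 (flp_i L117305) q5477, e3 q6814 (flp_i L169806) q8286, e3 q6815 (flp_i L169818) q8287, e3 q6816 L170092 q8317, e3 q6817 (flp_i L169838) q8289, e3 q6818 (flp_i L169850) q8290, e3 q6819 L170141 q8322, e3 q6820 (flp_i L117371) q5482, e3 q6821 (flp_i L169882) q8293, e3 q6822 (flp_i L169892) q8294, e3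 q6823 (flp_i L169901) q8295, e3 q6824 L170198 q8329, e3 q6825 L170215 q8331, e3 q6826 (flp_i L117422) q5485, e3 q6827 (flp_i L169936) q8299, e3 q6828 L170258 q8336, e3 q6829 (flp_i L169955) q8301, e3 q6830 L170278 q8338, e3 q6831 (flp_i L117465) q5488, e3 q6832 (flp_i L169980) q8304, e3 q6833 (flp_i L169991) q8305, e3 q6834 L170317 q8343, e3 q6835 L170333 q8345, e3 q6836 (flp_i L117505) q5492, e3 q6837 L170343 q8346, e3 q6838 (flp_i L117523) q5494, e3 q6839 L117537 q6839, e3 q6840 L117546 q6840, e3 q6841 L170405 q8353, e3 q6842 L117566 q6842, e3 q6843 L117575 q6843, e3 q6844 L170459 q8359, e3 q6845 L117588 q6845, e3 q6846 L117597 q6846, e3 q6847 L170502 q8364, trivial⟩ (by decide +kernel)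

theorem ce_i_107 : ∀ r, r < 64 → sm gi (Qf (6848 + r)) = Qf (tab Gen.i (6848 + r)) :=
  edges_tab (sm gi) Qf (tab Gen.i) 6848 [(6848, 5500), (6849, 6849), (6850, 6850), (6851, 8369), (6852, 6852), (6853, 8371), (6854, 5504), (6855, 5523), (6856, 5524), (6857, 8378), (6858, 5526), (6859, 5527), (6860, 8383), (6861, 5509), (6862, 5530), (6863, 5531), (6864, 5532), (6865, 8390), (6866, 8392), (6867, 5512), (6868, 5536), (6869, 8397), (6870, 5538), (6871, 8399), (6872, 5515), (6873, 5541), (6874, 5542), (6875, 8404), (6876, 8406), (6877, 5519), (6878, 8407), (6879, 5521), (6880, 8372), (6881, 8411), (6882, 8374), (6883, 8375), (6884, 8418), (6885, 8419), (6886, 5525), (6887, 8379), (6888, 8424), (6889, 8381), (6890, 8426), (6891, 5528), (6892, 8384), (6893, 8385), (6894, 8433), (6895, 8387), (6896, 8436), (6897, 8438), (6898, 5533), (6899, 8440), (6900, 5534), (6901, 8393), (6902, 8394), (6903, 8446), (6904, 8448), (6905, 5537), (6906, 8449), (6907, 5539), (6908, 8400), (6909, 8453), (6910, 8455), (6911, 8457)]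
    ⟨e3 q6848 (flp_i L117608) q5500, e3 q6849 L117628 q6849, e3 q6850 L117636 q6850, e3 q6851 L170543 q8369, e3 q6852 L117652 q6852, e3 q6853 L170561 q8371, e3 q6854 (flp_i L117663) q5504, e3 q6855 L117679 q5523, e3 q6856 L117689 q5524, e3 q6857 L170625 q8378, e3 q6858 L117706 q5526, e3 q6859 L117718 q5527, e3 q6860 L170676 q8383, e3 q6861 (flp_i L117729) q5509, e3 q6862 L117749 q5530, e3 q6863 L117755 q5531, e3 q6864 L117764 q5532, e3 q6865 L170731 q8390, e3 q6866 L170746 q8392, e3 q6867 (flp_i L117779) q5512, e3 q6868 L117796 q5536, e3 q6869 L170787 q8397, e3 q6870 L117814 q5538, e3 q6871 L170805 q8399, e3 q6872 (flp_i L117824) q5515, e3 q6873 L117836 q5541, e3 q6874 L117848 q5542, e3 q6875 L170847 q8404, e3 q6876 L170862 q8406, e3 q6877 (flp_i L117863) q5519, e3 q6878 L170869 q8407, e3 q6879 (flp_i L117879) q5521, e3 q6880 (flp_i L170578) q8372, e3 q6881 L170907 q8411, e3 q6882 (flp_i L170595) q8374, e3 q6883 (flp_i L170606) q8375, e3 q6884 L170969 q8418, e3 q6885 L170987 q8419, e3 q6886 (flp_i L117936) q5525, e3 q6887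 (flp_i L170645) q8379, e3 q6888 L171032 q8424, e3 q6889 (flp_i L170665) q8381, e3 q6890 L171051 q8426, e3 q6891 (flp_i L117982) q5528, e3 q6892 (flp_i L170689) q8384, e3 q6893 (flp_i L170699) q8385, e3 q6894 L171099 q8433, e3 q6895 (flp_i L170716) q8387, e3 q6896 L171123 q8436, e3 q6897 L171135 q8438, e3 q6898 (flp_i L118031) q5533, e3 q6899 L171148 q8440, e3 q6900 (flp_i L118045) q5534, e3 q6901 (flp_i L170757) q8393, e3 q6902 (flp_i L170770) q8394, e3 q6903 L171198 q8446, e3 q6904 L171212 q8448, e3 q6905 (flp_i L118084) q5537, e3 q6906 L171221 q8449, e3 q6907 (flp_i L118101) q5539, e3 q6908 (flp_i L170823) q8400, e3 q6909 L171255 q8453, e3 q6910 L171271 q8455, e3 q6911 L171285 q8457, trivial⟩ (by decide +kernel)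

theorem ce_i_108 : ∀ r, r < 64 → sm gi (Qf (6912 + r)) = Qf (tab Gen.i (6912 + r)) :=
  edges_tab (sm gi) Qf (tab Gen.i) 6912 [(6912, 5543), (6913, 8459), (6914, 5544), (6915, 5546), (6916, 6916), (6917, 6917), (6918, 8466), (6919, 6919), (6920, 8469), (6921, 5550), (6922, 6922), (6923, 6923), (6924, 6924), (6925, 8475), (6926, 8477), (6927, 5553), (6928, 6928), (6929, 8481), (6930, 6930), (6931, 8483), (6932, 5556), (6933, 6933), (6934, 6934), (6935, 8488), (6936, 8490), (6937, 5560), (6938, 8491), (6939, 5562), (6940, 5589), (6941, 8495), (6942, 5591), (6943, 5592), (6944, 8501), (6945, 8502), (6946, 5566), (6947, 5596), (6948, 8506), (6949, 5598), (6950, 8508), (6951, 5569), (6952, 5601), (6953, 5602), (6954, 8515), (6955, 5604), (6956, 8518), (6957, 8520), (6958, 5574), (6959, 8522), (6960, 5575), (6961, 5610), (6962, 5611), (6963, 8528), (6964, 8530), (6965, 5578), (6966, 8531), (6967, 5580), (6968, 5617), (6969, 8535), (6970, 8537), (6971, 8539), (6972, 5584), (6973, 8541), (6974, 5585), (6975, 5587)]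
    ⟨e3 q6912 (flp_i L118141) q5543, e3 q6913 L171299 q8459, e3 q6914 (flp_i L118155) q5544, e3 q6915 (flp_i L118163) q5546, e3 q6916 L118176 q6916, e3 q6917 L118187 q6917, e3 q6918 L171365 q8466, e3 q6919 L118213 q6919, e3 q6920 L171411 q8469, e3 q6921 (flp_i L118224) q5550, e3 q6922 L118244 q6922, e3 q6923 L118252 q6923, e3 q6924 L118260 q6924, e3 q6925 L171472 q8475, e3 q6926 L171489 q8477, e3 q6927 (flp_i L118276) q5553, e3 q6928 L118292 q6928, e3 q6929 L171533 q8481, e3 q6930 L118307 q6930, e3 q6931 L171551 q8483, e3 q6932 (flp_i L118317) q5556, e3 q6933 L118333 q6933, e3 q6934 L118343 q6934, e3 q6935 L171594 q8488, e3 q6936 L171613 q8490, e3 q6937 (flp_i L118362) q5560, e3 q6938 L171622 q8491, e3 q6939 (flp_i L118380) q5562, e3 q6940 L118396 q5589, e3 q6941 L171664 q8495, e3 q6942 L118413 q5591, e3 q6943 L118424 q5592, e3 q6944 L171733 q8501, e3 q6945 L171752 q8502, e3 q6946 (flp_i L118441) q5566, e3 q6947 L118461 q5596, e3 q6948 L171801 q8506, e3 q6949 L118480 q5598, e3 q6950 L171821 q8508, e3 q6951 (flp_i L118490)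 q5569, e3 q6952 L118505 q5601, e3 q6953 L118516 q5602, e3 q6954 L171877 q8515, e3 q6955 L118532 q5604, e3 q6956 L171900 q8518, e3 q6957 L171912 q8520, e3 q6958 (flp_i L118547) q5574, e3 q6959 L171925 q8522, e3 q6960 (flp_i L118562) q5575, e3 q6961 L118573 q5610, e3 q6962 L118585 q5611, e3 q6963 L171973 q8528, e3 q6964 L171990 q8530, e3 q6965 (flp_i L118605) q5578, e3 q6966 L171999 q8531, e3 q6967 (flp_i L118623) q5580, e3 q6968 L118638 q5617, e3 q6969 L172034 q8535, e3 q6970 L172051 q8537, e3 q6971 L172068 q8539, e3 q6972 (flp_i L118662) q5584, e3 q6973 L172082 q8541, e3 q6974 (flp_i L118679) q5585, e3 q6975 (flp_i L118687) q5587, trivial⟩ (by decide +kernel)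

theorem ce_i_109 : ∀ r, r < 64 → sm gi (Qf (6976 + r)) = Qf (tab Gen.i (6976 + r)) :=
  edges_tab (sm gi) Qf (tab Gen.i) 6976 [(6976, 8492), (6977, 8493), (6978, 8548), (6979, 5590), (6980, 6073), (6981, 8496), (6982, 8555), (6983, 8498), (6984, 8558), (6985, 8560), (6986, 5593), (6987, 5594), (6988, 8503), (6989, 8504), (6990, 8566), (6991, 8568), (6992, 5597), (6993, 8569), (6994, 5599), (6995, 8509), (6996, 8574), (6997, 8511), (6998, 8512), (6999, 8579), (7000, 8582), (7001, 5603), (7002, 8584), (7003, 8586), (7004, 5605), (7005, 8588), (7006, 5606), (7007, 8591), (7008, 5608), (7009, 7009), (7010, 8524), (7011, 8596), (7012, 8598), (7013, 8600), (7014, 5612), (7015, 8602), (7016, 5613), (7017, 5615), (7018, 8532), (7019, 8606), (7020, 8609), (7021, 5618), (7022, 8611), (7023, 5619), (7024, 8613), (7025, 5620), (7026, 8616), (7027, 5622), (7028, 5687), (7029, 7029), (7030, 7030), (7031, 7031), (7032, 7032), (7033, 7033), (7034, 6463), (7035, 6464), (7036, 6461), (7037, 6460), (7038, 5657), (7039, 5658)]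
    ⟨e3 q6976 (flp_i L171638) q8492, e3 q6977 (flp_i L171648) q8493, e3 q6978 L172147 q8548, e3 q6979 (flp_i L118723) q5590, e3 q6980 L553307 q6073, e3 q6981 (flp_i L171694) q8496, e3 q6982 L172229 q8555, e3 q6983 (flp_i L171714) q8498, e3 q6984 L172257 q8558, e3 q6985 L172272 q8560, e3 q6986 (flp_i L118785) q5593, e3 q6987 (flp_i L118803) q5594, e3 q6988 (flp_i L171766) q8503, e3 q6989 (flp_i L171779) q8504, e3 q6990 L172346 q8566, e3 q6991 L172365 q8568, e3 q6992 (flp_i L118850) q5597, e3 q6993 L172376 q8569, e3 q6994 (flp_i L118869) q5599, e3 q6995 (flp_i L171837) q8509, e3 q6996 L172415 q8574, e3 q6997 (flp_i L171851) q8511, e3 q6998 (flp_i L171861) q8512, e3 q6999 L172450 q8579, e3 q7000 L172470 q8582, e3 q7001 (flp_i L118918) q5603, e3 q7002 L172484 q8584, e3 q7003 L172497 q8586, e3 q7004 (flp_i L118940) q5605, e3 q7005 L172511 q8588, e3 q7006 (flp_i L118951) q5606, e3 q7007 L172530 q8591, e3 q7008 (flp_i L118966) q5608, e3 q7009 L118978 q7009, e3 q7010 (flp_i L171946) q8524, e3 q7011 L172572 q8596, e3 q7012 L172590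 q8598, e3 q7013 L172606 q8600, e3 q7014 (flp_i L119013) q5612, e3 q7015 L172625 q8602, e3 q7016 (flp_i L119029) q5613, e3 q7017 (flp_i L119039) q5615, e3 q7018 (flp_i L172013) q8532, e3 q7019 L172660 q8606, e3 q7020 L172684 q8609, e3 q7021 (flp_i L119071) q5618, e3 q7022 L172702 q8611, e3 q7023 (flp_i L119087) q5619, e3 q7024 L172718 q8613, e3 q7025 (flp_i L119103) q5620, e3 q7026 L172743 q8616, e3 q7027 (flp_i L119119) q5622, e3 q7028 L119135 q5687, e3 q7029 L119306 q7029, e3 q7030 L119317 q7030, e3 q7031 L119547 q7031, e3 q7032 L119556 q7032, e3 q7033 L119609 q7033, e3 q7034 (flp_i L543839) q6463, e3 q7035 (flp_i L561143) q6464, e3 q7036 L561727 q6461, e3 q7037 L561595 q6460, e3 q7038 L119808 q5657, e3 q7039 L119820 q5658, trivial⟩ (by decide +kernel)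

theorem ce_i_110 : ∀ r, r < 64 → sm gi (Qf (7040 + r)) = Qf (tab Gen.i (7040 + r)) :=
  edges_tab (sm gi) Qf (tab Gen.i) 7040 [(7040, 5662), (7041, 8626), (7042, 5664), (7043, 5665), (7044, 5669), (7045, 6087), (7046, 6088), (7047, 6085), (7048, 6017), (7049, 5677), (7050, 8636), (7051, 8639), (7052, 5647), (7053, 8641), (7054, 5648), (7055, 8643), (7056, 5649), (7057, 8646), (7058, 5651), (7059, 8542), (7060, 6072), (7061, 8651), (7062, 6070), (7063, 6071), (7064, 8622), (7065, 6100), (7066, 6101), (7067, 6102), (7068, 6103), (7069, 8623), (7070, 8624), (7071, 8664), (7072, 8666), (7073, 5663), (7074, 8627), (7075, 6090), (7076, 6091), (7077, 6092), (7078, 6093), (7079, 8628), (7080, 8675), (7081, 8678), (7082, 5670), (7083, 8680), (7084, 5671), (7085, 8682), (7086, 5672), (7087, 8685), (7088, 5674), (7089, 8603), (7090, 8688), (7091, 8691), (7092, 5678), (7093, 8694), (7094, 8695), (7095, 5679), (7096, 8698), (7097, 5681), (7098, 8701), (7099, 5683), (7100, 8614), (7101, 8703), (7102, 5685), (7103, 8617)]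
    ⟨e3 q7040 L119877 q5662, e3 q7041 L173895 q8626, e3 q7042 L119891 q5664, e3 q7043 L119903 q5665, e3 q7044 L120003 q5669, e3 q7045 (flp_i L562540) q6087, e3 q7046 (flp_i L562531) q6088, e3 q7047 (flp_i L562545) q6085, e3 q7048 (flp_i L547105) q6017, e3 q7049 L120068 q5677, e3 q7050 L174158 q8636, e3 q7051 L174183 q8639, e3 q7052 (flp_i L120089) q5647, e3 q7053 L174199 q8641, e3 q7054 (flp_i L120106) q5648, e3 q7055 L174212 q8643, e3 q7056 (flp_i L120123) q5649, e3 q7057 L174234 q8646, e3 q7058 (flp_i L120136) q5651, e3 q7059 (flp_i L172098) q8542, e3 q7060 (flp_i L562827) q6072, e3 q7061 L174428 q8651, e3 q7062 L563068 q6070, e3 q7063 (flp_i L563018) q6071, e3 q7064 (flp_i L173795) q8622, e3 q7065 L546401 q6100, e3 q7066 (flp_i L562906) q6101, e3 q7067 L562488 q6102, e3 q7068 L546610 q6103, e3 q7069 (flp_i L173868) q8623, e3 q7070 (flp_i L173878) q8624, e3 q7071 L174700 q8664, e3 q7072 L174721 q8666, e3 q7073 (flp_i L120454) q5663, e3 q7074 (flp_i L173912) q8627, e3 q7075 (flp_i L546233) q6090, e3 q7076 (flp_i L562913)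 q6091, e3 q7077 (flp_i L546714) q6092, e3 q7078 L546651 q6093, e3 q7079 (flp_i L174055) q8628, e3 q7080 L174908 q8675, e3 q7081 L174931 q8678, e3 q7082 (flp_i L120600) q5670, e3 q7083 L174947 q8680, e3 q7084 (flp_i L120617) q5671, e3 q7085 L174964 q8682, e3 q7086 (flp_i L120631) q5672, e3 q7087 L174986 q8685, e3 q7088 (flp_i L120648) q5674, e3 q7089 (flp_i L172641) q8603, e3 q7090 L175012 q8688, e3 q7091 L175037 q8691, e3 q7092 (flp_i L120681) q5678, e3 q7093 L175061 q8694, e3 q7094 L175071 q8695, e3 q7095 (flp_i L120705) q5679, e3 q7096 L175094 q8698, e3 q7097 (flp_i L120722) q5681, e3 q7098 L175118 q8701, e3 q7099 (flp_i L120737) q5683, e3 q7100 (flp_i L172732) q8614, e3 q7101 L175134 q8703, e3 q7102 (flp_i L120760) q5685, e3 q7103 (flp_i L172760) q8617, trivial⟩ (by decide +kernel)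

theorem ce_i_111 : ∀ r, r < 64 → sm gi (Qf (7104 + r)) = Qf (tab Gen.i (7104 + r)) :=
  edges_tab (sm gi) Qf (tab Gen.i) 7104 [(7104, 5698), (7105, 5699), (7106, 6509), (7107, 6297), (7108, 8706), (7109, 8063), (7110, 8707), (7111, 5701), (7112, 8057), (7113, 5716), (7114, 5717), (7115, 8712), (7116, 5719), (7117, 5720), (7118, 5711), (7119, 6480), (7120, 6305), (7121, 8709), (7122, 8711), (7123, 8077), (7124, 8718), (7125, 5718), (7126, 8079), (7127, 8719), (7128, 8070), (7129, 5722), (7130, 5729), (7131, 5743), (7132, 6517), (7133, 5744), (7134, 5745), (7135, 8727), (7136, 5734), (7137, 5748), (7138, 5749), (7139, 8729), (7140, 5738), (7141, 6493), (7142, 6491), (7143, 6316), (7144, 8722), (7145, 8723), (7146, 8725), (7147, 8737), (7148, 8097), (7149, 8739), (7150, 5746), (7151, 8728), (7152, 8100), (7153, 8744), (7154, 8746), (7155, 5750), (7156, 8088), (7157, 5752), (7158, 8747), (7159, 5755), (7160, 5771), (7161, 8751), (7162, 5773), (7163, 5774), (7164, 8756), (7165, 5760), (7166, 5777), (7167, 5778)]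
    ⟨e3 q7104 L120901 q5698, e3 q7105 L120910 q5699, e3 q7106 L593753 q6509, e3 q7107 L609695 q6297, e3 q7108 (flp_i L175339) q8706, e3 q7109 (flp_i L643411) q8063, e3 q7110 L641925 q8707, e3 q7111 (flp_i L643390) q5701, e3 q7112 (flp_i L643429) q8057, e3 q7113 L121189 q5716, e3 q7114 L121202 q5717, e3 q7115 L175807 q8712, e3 q7116 L121218 q5719, e3 q7117 L121226 q5720, e3 q7118 (flp_i L121246) q5711, e3 q7119 L567596 q6480, e3 q7120 L621822 q6305, e3 q7121 (flp_i L175772) q8709, e3 q7122 (flp_i L175787) q8711, e3 q7123 (flp_i L644828) q8077, e3 q7124 L176012 q8718, e3 q7125 (flp_i L121339) q5718, e3 q7126 (flp_i L644405) q8079, e3 q7127 (flp_i L644325) q8719, e3 q7128 L644789 q8070, e3 q7129 (flp_i L121388) q5722, e3 q7130 (flp_i L121534) q5729, e3 q7131 L121596 q5743, e3 q7132 (flp_i L641777) q6517, e3 q7133 L121608 q5744, e3 q7134 L121618 q5745, e3 q7135 L176447 q8727, e3 q7136 (flp_i L121627) q5734, e3 q7137 L121643 q5748, e3 q7138 L121653 q5749, e3 q7139 L176487 q8729, e3 q7140 (flp_i L121677) q5738, e3 q7141 (flp_i L567676)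 q6493, e3 q7142 (flp_i L567682) q6491, e3 q7143 L619727 q6316, e3 q7144 (flp_i L176382) q8722, e3 q7145 (flp_i L176391) q8723, e3 q7146 (flp_i L176423) q8725, e3 q7147 L176701 q8737, e3 q7148 L631408 q8097, e3 q7149 L176715 q8739, e3 q7150 (flp_i L121810) q5746, e3 q7151 (flp_i L176461) q8728, e3 q7152 (flp_i L631581) q8100, e3 q7153 L176755 q8744, e3 q7154 L176770 q8746, e3 q7155 (flp_i L121846) q5750, e3 q7156 (flp_i L631450) q8088, e3 q7157 (flp_i L121860) q5752, e3 q7158 L176930 q8747, e3 q7159 (flp_i L121955) q5755, e3 q7160 L122027 q5771, e3 q7161 L177064 q8751, e3 q7162 L122044 q5773, e3 q7163 L122052 q5774, e3 q7164 L177109 q8756, e3 q7165 (flp_i L122063) q5760, e3 q7166 L122079 q5777, e3 q7167 L122090 q5778, trivial⟩ (by decide +kernel)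

theorem ce_i_112 : ∀ r, r < 64 → sm gi (Qf (7168 + r)) = Qf (tab Gen.i (7168 + r)) :=
  edges_tab (sm gi) Qf (tab Gen.i) 7168 [(7168, 8757), (7169, 5780), (7170, 8758), (7171, 5764), (7172, 6328), (7173, 6388), (7174, 8765), (7175, 6482), (7176, 6481), (7177, 8770), (7178, 5769), (7179, 6315), (7180, 8748), (7181, 8749), (7182, 8776), (7183, 8778), (7184, 5772), (7185, 8752), (7186, 8783), (7187, 8754), (7188, 8785), (7189, 5775), (7190, 8721), (7191, 8101), (7192, 8789), (7193, 8791), (7194, 5779), (7195, 8792), (7196, 5781), (7197, 8793), (7198, 8794), (7199, 5785), (7200, 5808), (7201, 5809), (7202, 8800), (7203, 5789), (7204, 5813), (7205, 8805), (7206, 5815), (7207, 8807), (7208, 5792), (7209, 5818), (7210, 5819), (7211, 8810), (7212, 8811), (7213, 5796), (7214, 8812), (7215, 5798), (7216, 6345), (7217, 8816), (7218, 6406), (7219, 6405), (7220, 8823), (7221, 8824), (7222, 5802), (7223, 6495), (7224, 8829), (7225, 6494), (7226, 8831), (7227, 5805), (7228, 8795), (7229, 8796), (7230, 8838), (7231, 8798)]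
    ⟨e3 q7168 L177152 q8757, e3 q7169 L122109 q5780, e3 q7170 L177173 q8758, e3 q7171 (flp_i L122121) q5764, e3 q7172 (flp_i L474402) q6328, e3 q7173 (flp_i L591789) q6388, e3 q7174 L177241 q8765, e3 q7175 (flp_i L592090) q6482, e3 q7176 (flp_i L591613) q6481, e3 q7177 L177285 q8770, e3 q7178 (flp_i L122186) q5769, e3 q7179 L621805 q6315, e3 q7180 (flp_i L177032) q8748, e3 q7181 (flp_i L177042) q8749, e3 q7182 L177352 q8776, e3 q7183 L177372 q8778, e3 q7184 (flp_i L122243) q5772, e3 q7185 (flp_i L177081) q8752, e3 q7186 L177410 q8783, e3 q7187 (flp_i L177098) q8754, e3 q7188 L177428 q8785, e3 q7189 (flp_i L122283) q5775, e3 q7190 (flp_i L640388) q8721, e3 q7191 (flp_i L644420) q8101, e3 q7192 L177469 q8789, e3 q7193 L177486 q8791, e3 q7194 (flp_i L122322) q5779, e3 q7195 L177494 q8792, e3 q7196 (flp_i L122342) q5781, e3 q7197 L177695 q8793, e3 q7198 L177713 q8794, e3 q7199 (flp_i L122484) q5785, e3 q7200 L122573 q5808, e3 q7201 L122583 q5809, e3 q7202 L177891 q8800, e3 q7203 (flp_i L122603) q5789, e3 q7204 L122619 q5813, e3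 q7205 L177945 q8805, e3 q7206 L122635 q5815, e3 q7207 L177961 q8807, e3 q7208 (flp_i L122645) q5792, e3 q7209 L122658 q5818, e3 q7210 L122669 q5819, e3 q7211 L178005 q8810, e3 q7212 L178021 q8811, e3 q7213 (flp_i L122683) q5796, e3 q7214 L178026 q8812, e3 q7215 (flp_i L122701) q5798, e3 q7216 L576345 q6345, e3 q7217 L178074 q8816, e3 q7218 L591902 q6406, e3 q7219 L591908 q6405, e3 q7220 L178134 q8823, e3 q7221 L178151 q8824, e3 q7222 (flp_i L122763) q5802, e3 q7223 L591990 q6495, e3 q7224 L178189 q8829, e3 q7225 L593492 q6494, e3 q7226 L178206 q8831, e3 q7227 (flp_i L122804) q5805, e3 q7228 (flp_i L177839) q8795, e3 q7229 (flp_i L177851) q8796, e3 q7230 L178260 q8838, e3 q7231 (flp_i L177871) q8798, trivial⟩ (by decide +kernel)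

theorem ce_i_113 : ∀ r, r < 64 → sm gi (Qf (7232 + r)) = Qf (tab Gen.i (7232 + r)) :=
  edges_tab (sm gi) Qf (tab Gen.i) 7232 [(7232, 8841), (7233, 8843), (7234, 5810), (7235, 8845), (7236, 5811), (7237, 8801), (7238, 8802), (7239, 8850), (7240, 8852), (7241, 5814), (7242, 8853), (7243, 5816), (7244, 8808), (7245, 8857), (7246, 8859), (7247, 8861), (7248, 5820), (7249, 8863), (7250, 5821), (7251, 5823), (7252, 8866), (7253, 8868), (7254, 5826), (7255, 8869), (7256, 5828), (7257, 5858), (7258, 5859), (7259, 8876), (7260, 5861), (7261, 8878), (7262, 5832), (7263, 5867), (7264, 5868), (7265, 8883), (7266, 8885), (7267, 5835), (7268, 8886), (7269, 5837), (7270, 5874), (7271, 8890), (7272, 8892), (7273, 8894), (7274, 5841), (7275, 8896), (7276, 5842), (7277, 5844), (7278, 6372), (7279, 6371), (7280, 8903), (7281, 5847), (7282, 6432), (7283, 6434), (7284, 8910), (7285, 6433), (7286, 8913), (7287, 8915), (7288, 5850), (7289, 5851), (7290, 6499), (7291, 6498), (7292, 8920), (7293, 8922), (7294, 5854), (7295, 8923)]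
    ⟨e3 q7232 L178289 q8841, e3 q7233 L178306 q8843, e3 q7234 (flp_i L122863) q5810, e3 q7235 L178322 q8845, e3 q7236 (flp_i L122880) q5811, e3 q7237 (flp_i L177921) q8801, e3 q7238 (flp_i L177931) q8802, e3 q7239 L178371 q8850, e3 q7240 L178382 q8852, e3 q7241 (flp_i L122914) q5814, e3 q7242 L178389 q8853, e3 q7243 (flp_i L122929) q5816, e3 q7244 (flp_i L177980) q8808, e3 q7245 L178421 q8857, e3 q7246 L178436 q8859, e3 q7247 L178453 q8861, e3 q7248 (flp_i L122971) q5820, e3 q7249 L178466 q8863, e3 q7250 (flp_i L122986) q5821, e3 q7251 (flp_i L122992) q5823, e3 q7252 L178758 q8866, e3 q7253 L178776 q8868, e3 q7254 (flp_i L123192) q5826, e3 q7255 L178785 q8869, e3 q7256 (flp_i L123210) q5828, e3 q7257 L123333 q5858, e3 q7258 L123346 q5859, e3 q7259 L179042 q8876, e3 q7260 L123365 q5861, e3 q7261 L179070 q8878, e3 q7262 (flp_i L123385) q5832, e3 q7263 L123415 q5867, e3 q7264 L123424 q5868, e3 q7265 L179150 q8883, e3 q7266 L179164 q8885, e3 q7267 (flp_i L123441) q5835, e3 q7268 L179171 q8886, e3 q7269 (flp_i L123457) q5837, e3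 q7270 L123473 q5874, e3 q7271 L179204 q8890, e3 q7272 L179220 q8892, e3 q7273 L179240 q8894, e3 q7274 (flp_i L123498) q5841, e3 q7275 L179253 q8896, e3 q7276 (flp_i L123516) q5842, e3 q7277 (flp_i L123522) q5844, e3 q7278 L554372 q6372, e3 q7279 (flp_i L554026) q6371, e3 q7280 L179326 q8903, e3 q7281 (flp_i L123568) q5847, e3 q7282 L590483 q6432, e3 q7283 (flp_i L567948) q6434, e3 q7284 L179410 q8910, e3 q7285 L590708 q6433, e3 q7286 L179437 q8913, e3 q7287 L179453 q8915, e3 q7288 (flp_i L123628) q5850, e3 q7289 (flp_i L123645) q5851, e3 q7290 (flp_i L567940) q6499, e3 q7291 (flp_i L567923) q6498, e3 q7292 L179521 q8920, e3 q7293 L179537 q8922, e3 q7294 (flp_i L123685) q5854, e3 q7295 L179546 q8923, trivial⟩ (by decide +kernel)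

theorem ce_i_114 : ∀ r, r < 64 → sm gi (Qf (7296 + r)) = Qf (tab Gen.i (7296 + r)) :=
  edges_tab (sm gi) Qf (tab Gen.i) 7296 [(7296, 5856), (7297, 8870), (7298, 8928), (7299, 8872), (7300, 8873), (7301, 8933), (7302, 8936), (7303, 5860), (7304, 8938), (7305, 8940), (7306, 5862), (7307, 8942), (7308, 5863), (7309, 8944), (7310, 5865), (7311, 8879), (7312, 8948), (7313, 8950), (7314, 8952), (7315, 5869), (7316, 8954), (7317, 5870), (7318, 5872), (7319, 8887), (7320, 8958), (7321, 8961), (7322, 5875), (7323, 8963), (7324, 5876), (7325, 8965), (7326, 5877), (7327, 8968), (7328, 5879), (7329, 7329), (7330, 5898), (7331, 5899), (7332, 8974), (7333, 5901), (7334, 5902), (7335, 8979), (7336, 5884), (7337, 5905), (7338, 5906), (7339, 5907), (7340, 8986), (7341, 8987), (7342, 5887), (7343, 5911), (7344, 8992), (7345, 5913), (7346, 8994), (7347, 5890), (7348, 5916), (7349, 5917), (7350, 8995), (7351, 8996), (7352, 5894), (7353, 8997), (7354, 5896), (7355, 8970), (7356, 8971), (7357, 8972), (7358, 9005), (7359, 5900)]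
    ⟨e3 q7296 (flp_i L123702) q5856, e3 q7297 (flp_i L178998) q8870, e3 q7298 L179588 q8928, e3 q7299 (flp_i L179014) q8872, e3 q7300 (flp_i L179024) q8873, e3 q7301 L179629 q8933, e3 q7302 L179651 q8936, e3 q7303 (flp_i L123757) q5860, e3 q7304 L179668 q8938, e3 q7305 L179686 q8940, e3 q7306 (flp_i L123784) q5862, e3 q7307 L179705 q8942, e3 q7308 (flp_i L123800) q5863, e3 q7309 L179730 q8944, e3 q7310 (flp_i L123818) q5865, e3 q7311 (flp_i L179126) q8879, e3 q7312 L179769 q8948, e3 q7313 L179784 q8950, e3 q7314 L179799 q8952, e3 q7315 (flp_i L123864) q5869, e3 q7316 L179815 q8954, e3 q7317 (flp_i L123877) q5870, e3 q7318 (flp_i L123885) q5872, e3 q7319 (flp_i L179186) q8887, e3 q7320 L179844 q8958, e3 q7321 L179866 q8961, e3 q7322 (flp_i L123915) q5875, e3 q7323 L179883 q8963, e3 q7324 (flp_i L123930) q5876, e3 q7325 L179900 q8965, e3 q7326 (flp_i L123949) q5877, e3 q7327 L179925 q8968, e3 q7328 (flp_i L123964) q5879, e3 q7329 L123978 q7329, e3 q7330 L123986 q5898, e3 q7331 L123999 q5899, e3 q7332 L180001 q8974, e3 q7333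 L124017 q5901, e3 q7334 L124027 q5902, e3 q7335 L180052 q8979, e3 q7336 (flp_i L124040) q5884, e3 q7337 L124061 q5905, e3 q7338 L124071 q5906, e3 q7339 L124079 q5907, e3 q7340 L180116 q8986, e3 q7341 L180134 q8987, e3 q7342 (flp_i L124098) q5887, e3 q7343 L124114 q5911, e3 q7344 L180177 q8992, e3 q7345 L124131 q5913, e3 q7346 L180197 q8994, e3 q7347 (flp_i L124143) q5890, e3 q7348 L124158 q5916, e3 q7349 L124167 q5917, e3 q7350 L180238 q8995, e3 q7351 L180254 q8996, e3 q7352 (flp_i L124185) q5894, e3 q7353 L180262 q8997, e3 q7354 (flp_i L124203) q5896, e3 q7355 (flp_i L179950) q8970, e3 q7356 (flp_i L179968) q8971, e3 q7357 (flp_i L179978) q8972, e3 q7358 L180373 q9005, e3 q7359 (flp_i L124267) q5900, trivial⟩ (by decide +kernel)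

theorem ce_i_115 : ∀ r, r < 64 → sm gi (Qf (7360 + r)) = Qf (tab Gen.i (7360 + r)) :=
  edges_tab (sm gi) Qf (tab Gen.i) 7360 [(7360, 8975), (7361, 9010), (7362, 8977), (7363, 9012), (7364, 5903), (7365, 8980), (7366, 8981), (7367, 9019), (7368, 8983), (7369, 9022), (7370, 9024), (7371, 5908), (7372, 9026), (7373, 5909), (7374, 8988), (7375, 8989), (7376, 9031), (7377, 9033), (7378, 5912), (7379, 9034), (7380, 5914), (7381, 8745), (7382, 9038), (7383, 9040), (7384, 9042), (7385, 5918), (7386, 9044), (7387, 5919), (7388, 5921), (7389, 5948), (7390, 5949), (7391, 5950), (7392, 9053), (7393, 5925), (7394, 5953), (7395, 9058), (7396, 5955), (7397, 9060), (7398, 5928), (7399, 5958), (7400, 5959), (7401, 9067), (7402, 5961), (7403, 9070), (7404, 9072), (7405, 5933), (7406, 5934), (7407, 5967), (7408, 5968), (7409, 9077), (7410, 9079), (7411, 5937), (7412, 9080), (7413, 5939), (7414, 5974), (7415, 9084), (7416, 9085), (7417, 9086), (7418, 5943), (7419, 9088), (7420, 5944), (7421, 5946), (7422, 9046), (7423, 9047)]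
    ⟨e3 q7360 (flp_i L180020) q8975, e3 q7361 L180441 q9010, e3 q7362 (flp_i L180039) q8977, e3 q7363 L180462 q9012, e3 q7364 (flp_i L124313) q5903, e3 q7365 (flp_i L180068) q8980, e3 q7366 (flp_i L180079) q8981, e3 q7367 L180511 q9019, e3 q7368 (flp_i L180096) q8983, e3 q7369 L180537 q9022, e3 q7370 L180552 q9024, e3 q7371 (flp_i L124371) q5908, e3 q7372 L180570 q9026, e3 q7373 (flp_i L124388) q5909, e3 q7374 (flp_i L180147) q8988, e3 q7375 (flp_i L180157) q8989, e3 q7376 L180622 q9031, e3 q7377 L180637 q9033, e3 q7378 (flp_i L124429) q5912, e3 q7379 L180647 q9034, e3 q7380 (flp_i L124448) q5914, e3 q7381 (flp_i L634867) q8745, e3 q7382 L180679 q9038, e3 q7383 L180695 q9040, e3 q7384 L180712 q9042, e3 q7385 (flp_i L124487) q5918, e3 q7386 L180728 q9044, e3 q7387 (flp_i L124502) q5919, e3 q7388 (flp_i L124511) q5921, e3 q7389 L124528 q5948, e3 q7390 L124543 q5949, e3 q7391 L124553 q5950, e3 q7392 L180845 q9053, e3 q7393 (flp_i L124574) q5925, e3 q7394 L124592 q5953, e3 q7395 L180909 q9058, e3 q7396 L124610 q5955, e3 q7397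 L180928 q9060, e3 q7398 (flp_i L124622) q5928, e3 q7399 L124634 q5958, e3 q7400 L124645 q5959, e3 q7401 L180980 q9067, e3 q7402 L124661 q5961, e3 q7403 L181005 q9070, e3 q7404 L181020 q9072, e3 q7405 (flp_i L124678) q5933, e3 q7406 (flp_i L124693) q5934, e3 q7407 L124705 q5967, e3 q7408 L124716 q5968, e3 q7409 L181083 q9077, e3 q7410 L181097 q9079, e3 q7411 (flp_i L124732) q5937, e3 q7412 L181104 q9080, e3 q7413 (flp_i L124749) q5939, e3 q7414 L124768 q5974, e3 q7415 L181138 q9084, e3 q7416 L181154 q9085, e3 q7417 L181170 q9086, e3 q7418 (flp_i L124791) q5943, e3 q7419 L181182 q9088, e3 q7420 (flp_i L124805) q5944, e3 q7421 (flp_i L124811) q5946, e3 q7422 (flp_i L180750) q9046, e3 q7423 (flp_i L180759) q9047, trivial⟩ (by decide +kernel)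

theorem ce_i_116 : ∀ r, r < 64 → sm gi (Qf (7424 + r)) = Qf (tab Gen.i (7424 + r)) :=
  edges_tab (sm gi) Qf (tab Gen.i) 7424 [(7424, 9048), (7425, 9049), (7426, 9099), (7427, 9051), (7428, 9101), (7429, 5951), (7430, 9054), (7431, 9055), (7432, 9106), (7433, 9108), (7434, 5954), (7435, 9109), (7436, 5956), (7437, 9061), (7438, 9114), (7439, 9063), (7440, 9064), (7441, 9119), (7442, 9122), (7443, 5960), (7444, 9124), (7445, 9126), (7446, 5962), (7447, 9128), (7448, 5963), (7449, 9130), (7450, 5965), (7451, 9073), (7452, 9134), (7453, 9136), (7454, 9138), (7455, 5969), (7456, 9140), (7457, 5970), (7458, 5972), (7459, 9081), (7460, 9144), (7461, 9147), (7462, 5975), (7463, 9149), (7464, 5976), (7465, 9151), (7466, 5977), (7467, 9154), (7468, 5979), (7469, 7469), (7470, 6015), (7471, 6016), (7472, 6018), (7473, 9162), (7474, 6020), (7475, 9164), (7476, 5985), (7477, 6023), (7478, 6024), (7479, 9168), (7480, 5988), (7481, 9169), (7482, 5990), (7483, 6030), (7484, 9174), (7485, 6032), (7486, 6033), (7487, 9179)]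
    ⟨e3 q7424 (flp_i L180791) q9048, e3 q7425 (flp_i L180804) q9049, e3 q7426 L181319 q9099, e3 q7427 (flp_i L180824) q9051, e3 q7428 L181349 q9101, e3 q7429 (flp_i L124910) q5951, e3 q7430 (flp_i L180879) q9054, e3 q7431 (flp_i L180891) q9055, e3 q7432 L181443 q9106, e3 q7433 L181459 q9108, e3 q7434 (flp_i L124971) q5954, e3 q7435 L181468 q9109, e3 q7436 (flp_i L124989) q5956, e3 q7437 (flp_i L180947) q9061, e3 q7438 L181502 q9114, e3 q7439 (flp_i L180958) q9063, e3 q7440 (flp_i L180968) q9064, e3 q7441 L181535 q9119, e3 q7442 L181551 q9122, e3 q7443 (flp_i L125034) q5960, e3 q7444 L181565 q9124, e3 q7445 L181581 q9126, e3 q7446 (flp_i L125058) q5962, e3 q7447 L181599 q9128, e3 q7448 (flp_i L125072) q5963, e3 q7449 L181621 q9130, e3 q7450 (flp_i L125086) q5965, e3 q7451 (flp_i L181057) q9073, e3 q7452 L181661 q9134, e3 q7453 L181678 q9136, e3 q7454 L181693 q9138, e3 q7455 (flp_i L125136) q5969, e3 q7456 L181710 q9140, e3 q7457 (flp_i L125149) q5970, e3 q7458 (flp_i L125157) q5972, e3 q7459 (flp_i L181121) q9081, e3 q7460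 L181738 q9144, e3 q7461 L181761 q9147, e3 q7462 (flp_i L125188) q5975, e3 q7463 L181776 q9149, e3 q7464 (flp_i L125203) q5976, e3 q7465 L181792 q9151, e3 q7466 (flp_i L125218) q5977, e3 q7467 L181815 q9154, e3 q7468 (flp_i L125232) q5979, e3 q7469 L125244 q7469, e3 q7470 L125251 q6015, e3 q7471 L125260 q6016, e3 q7472 L125304 q6018, e3 q7473 L181967 q9162, e3 q7474 L125323 q6020, e3 q7475 L181996 q9164, e3 q7476 (flp_i L125344) q5985, e3 q7477 L125378 q6023, e3 q7478 L125389 q6024, e3 q7479 L182088 q9168, e3 q7480 (flp_i L125410) q5988, e3 q7481 L182116 q9169, e3 q7482 (flp_i L125429) q5990, e3 q7483 L125447 q6030, e3 q7484 L182159 q9174, e3 q7485 L125460 q6032, e3 q7486 L125468 q6033, e3 q7487 L182195 q9179, trivial⟩ (by decide +kernel)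

theorem ce_i_117 : ∀ r, r < 64 → sm gi (Qf (7488 + r)) = Qf (tab Gen.i (7488 + r)) :=
  edges_tab (sm gi) Qf (tab Gen.i) 7488 [(7488, 9182), (7489, 5994), (7490, 9184), (7491, 9186), (7492, 5996), (7493, 9187), (7494, 5997), (7495, 6044), (7496, 9191), (7497, 9193), (7498, 9195), (7499, 6002), (7500, 9197), (7501, 6003), (7502, 6005), (7503, 6052), (7504, 9200), (7505, 9203), (7506, 6008), (7507, 9205), (7508, 6009), (7509, 9207), (7510, 6010), (7511, 9210), (7512, 6012), (7513, 6084), (7514, 8633), (7515, 9156), (7516, 9157), (7517, 8632), (7518, 9220), (7519, 9158), (7520, 9159), (7521, 9225), (7522, 9227), (7523, 6019), (7524, 9228), (7525, 6021), (7526, 9165), (7527, 9232), (7528, 9234), (7529, 9236), (7530, 6025), (7531, 9238), (7532, 6026), (7533, 6028), (7534, 9170), (7535, 9171), (7536, 9244), (7537, 9247), (7538, 6031), (7539, 9175), (7540, 9251), (7541, 9253), (7542, 9256), (7543, 6034), (7544, 9259), (7545, 9261), (7546, 6035), (7547, 9264), (7548, 6037), (7549, 9266), (7550, 6038), (7551, 9268)]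
    ⟨e3 q7488 L182215 q9182, e3 q7489 (flp_i L125482) q5994, e3 q7490 L182228 q9184, e3 q7491 L182244 q9186, e3 q7492 (flp_i L125505) q5996, e3 q7493 L182259 q9187, e3 q7494 (flp_i L125519) q5997, e3 q7495 L125555 q6044, e3 q7496 L182319 q9191, e3 q7497 L182337 q9193, e3 q7498 L182355 q9195, e3 q7499 (flp_i L125581) q6002, e3 q7500 L182372 q9197, e3 q7501 (flp_i L125597) q6003, e3 q7502 (flp_i L125605) q6005, e3 q7503 L125620 q6052, e3 q7504 L182403 q9200, e3 q7505 L182425 q9203, e3 q7506 (flp_i L125637) q6008, e3 q7507 L182441 q9205, e3 q7508 (flp_i L125653) q6009, e3 q7509 L182457 q9207, e3 q7510 (flp_i L125671) q6010, e3 q7511 L182482 q9210, e3 q7512 (flp_i L125685) q6012, e3 q7513 L125699 q6084, e3 q7514 (flp_i L508178) q8633, e3 q7515 (flp_i L181845) q9156, e3 q7516 (flp_i L181862) q9157, e3 q7517 (flp_i L508288) q8632, e3 q7518 L182678 q9220, e3 q7519 (flp_i L181939) q9158, e3 q7520 (flp_i L181949) q9159, e3 q7521 L182720 q9225, e3 q7522 L182744 q9227, e3 q7523 (flp_i L125826) q6019, e3 q7524 L182762 q9228, e3 q7525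 (flp_i L125854) q6021, e3 q7526 (flp_i L182059) q9165, e3 q7527 L182876 q9232, e3 q7528 L182895 q9234, e3 q7529 L182915 q9236, e3 q7530 (flp_i L125946) q6025, e3 q7531 L182934 q9238, e3 q7532 (flp_i L125964) q6026, e3 q7533 (flp_i L125974) q6028, e3 q7534 (flp_i L182133) q9170, e3 q7535 (flp_i L182143) q9171, e3 q7536 L182988 q9244, e3 q7537 L183010 q9247, e3 q7538 (flp_i L126012) q6031, e3 q7539 (flp_i L182174) q9175, e3 q7540 L183032 q9251, e3 q7541 L183043 q9253, e3 q7542 L183064 q9256, e3 q7543 (flp_i L126044) q6034, e3 q7544 L183082 q9259, e3 q7545 L183094 q9261, e3 q7546 (flp_i L126062) q6035, e3 q7547 L183113 q9264, e3 q7548 (flp_i L126076) q6037, e3 q7549 L183128 q9266, e3 q7550 (flp_i L126091) q6038, e3 q7551 L183152 q9268, trivial⟩ (by decide +kernel)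

theorem ce_i_118 : ∀ r, r < 64 → sm gi (Qf (7552 + r)) = Qf (tab Gen.i (7552 + r)) :=
  edges_tab (sm gi) Qf (tab Gen.i) 7552 [(7552, 6040), (7553, 9270), (7554, 6042), (7555, 9188), (7556, 9273), (7557, 9276), (7558, 6045), (7559, 9278), (7560, 6046), (7561, 9280), (7562, 6047), (7563, 9283), (7564, 6049), (7565, 6114), (7566, 9286), (7567, 9289), (7568, 6053), (7569, 9292), (7570, 9293), (7571, 6054), (7572, 9296), (7573, 6056), (7574, 9299), (7575, 6058), (7576, 6125), (7577, 9301), (7578, 6060), (7579, 6128), (7580, 6089), (7581, 6094), (7582, 6095), (7583, 9309), (7584, 6066), (7585, 6099), (7586, 6104), (7587, 8652), (7588, 8648), (7589, 8649), (7590, 8549), (7591, 8543), (7592, 9319), (7593, 9322), (7594, 6075), (7595, 9325), (7596, 9326), (7597, 6076), (7598, 9329), (7599, 6078), (7600, 9332), (7601, 6080), (7602, 9208), (7603, 9334), (7604, 6082), (7605, 9211), (7606, 8630), (7607, 8631), (7608, 9341), (7609, 6086), (7610, 8629), (7611, 9304), (7612, 8668), (7613, 8669), (7614, 8670), (7615, 8671)]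
    ⟨e3 q7552 (flp_i L126108) q6040, e3 q7553 L183177 q9270, e3 q7554 (flp_i L126130) q6042, e3 q7555 (flp_i L182300) q9188, e3 q7556 L183214 q9273, e3 q7557 L183236 q9276, e3 q7558 (flp_i L126169) q6045, e3 q7559 L183253 q9278, e3 q7560 (flp_i L126186) q6046, e3 q7561 L183274 q9280, e3 q7562 (flp_i L126203) q6047, e3 q7563 L183301 q9283, e3 q7564 (flp_i L126222) q6049, e3 q7565 L126236 q6114, e3 q7566 L183327 q9286, e3 q7567 L183351 q9289, e3 q7568 (flp_i L126253) q6053, e3 q7569 L183375 q9292, e3 q7570 L183382 q9293, e3 q7571 (flp_i L126274) q6054, e3 q7572 L183405 q9296, e3 q7573 (flp_i L126291) q6056, e3 q7574 L183434 q9299, e3 q7575 (flp_i L126309) q6058, e3 q7576 L126325 q6125, e3 q7577 L183453 q9301, e3 q7578 (flp_i L126335) q6060, e3 q7579 L126350 q6128, e3 q7580 L126590 q6089, e3 q7581 L126661 q6094, e3 q7582 L126670 q6095, e3 q7583 L183974 q9309, e3 q7584 (flp_i L126686) q6066, e3 q7585 L126702 q6099, e3 q7586 L126831 q6104, e3 q7587 (flp_i L489456) q8652, e3 q7588 (flp_i L562205) q8648, e3 q7589 L513397 q8649, e3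 q7590 (flp_i L542967) q8549, e3 q7591 L552091 q8543, e3 q7592 L184293 q9319, e3 q7593 L184318 q9322, e3 q7594 (flp_i L126926) q6075, e3 q7595 L184338 q9325, e3 q7596 L184346 q9326, e3 q7597 (flp_i L126948) q6076, e3 q7598 L184367 q9329, e3 q7599 (flp_i L126963) q6078, e3 q7600 L184393 q9332, e3 q7601 (flp_i L126978) q6080, e3 q7602 (flp_i L182473) q9208, e3 q7603 L184409 q9334, e3 q7604 (flp_i L127001) q6082, e3 q7605 (flp_i L182495) q9211, e3 q7606 L561830 q8630, e3 q7607 (flp_i L561862) q8631, e3 q7608 L184601 q9341, e3 q7609 (flp_i L127133) q6086, e3 q7610 L563160 q8629, e3 q7611 (flp_i L183847) q9304, e3 q7612 (flp_i L562956) q8668, e3 q7613 L546370 q8669, e3 q7614 (flp_i L546160) q8670, e3 q7615 (flp_i L512886) q8671, trivial⟩ (by decide +kernel)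

theorem ce_i_119 : ∀ r, r < 64 → sm gi (Qf (7616 + r)) = Qf (tab Gen.i (7616 + r)) :=
  edges_tab (sm gi) Qf (tab Gen.i) 7616 [(7616, 8672), (7617, 9305), (7618, 9306), (7619, 9355), (7620, 9357), (7621, 9359), (7622, 6096), (7623, 9361), (7624, 6097), (7625, 9310), (7626, 8654), (7627, 8655), (7628, 8656), (7629, 8657), (7630, 8658), (7631, 9370), (7632, 9373), (7633, 6105), (7634, 9376), (7635, 9377), (7636, 6106), (7637, 9380), (7638, 6108), (7639, 9383), (7640, 6110), (7641, 9281), (7642, 9385), (7643, 6112), (7644, 9284), (7645, 8693), (7646, 6115), (7647, 6119), (7648, 6118), (7649, 6116), (7650, 9372), (7651, 9294), (7652, 6277), (7653, 9297), (7654, 9390), (7655, 6123), (7656, 9300), (7657, 6126), (7658, 9302), (7659, 9303), (7660, 9396), (7661, 9397), (7662, 6131), (7663, 9399), (7664, 9401), (7665, 6134), (7666, 9402), (7667, 6136), (7668, 9403), (7669, 9406), (7670, 6140), (7671, 9408), (7672, 9410), (7673, 6142), (7674, 9412), (7675, 6143), (7676, 9414), (7677, 6145), (7678, 9416), (7679, 9418)]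
    ⟨e3 q7616 (flp_i L543424) q8672, e3 q7617 (flp_i L183940) q9305, e3 q7618 (flp_i L183952) q9306, e3 q7619 L184876 q9355, e3 q7620 L184890 q9357, e3 q7621 L184905 q9359, e3 q7622 (flp_i L127341) q6096, e3 q7623 L184920 q9361, e3 q7624 (flp_i L127354) q6097, e3 q7625 (flp_i L184008) q9310, e3 q7626 (flp_i L562949) q8654, e3 q7627 L508981 q8655, e3 q7628 L562353 q8656, e3 q7629 (flp_i L508871) q8657, e3 q7630 L546516 q8658, e3 q7631 L185046 q9370, e3 q7632 L185069 q9373, e3 q7633 (flp_i L127459) q6105, e3 q7634 L185091 q9376, e3 q7635 L185097 q9377, e3 q7636 (flp_i L127479) q6106, e3 q7637 L185121 q9380, e3 q7638 (flp_i L127494) q6108, e3 q7639 L185147 q9383, e3 q7640 (flp_i L127513) q6110, e3 q7641 (flp_i L183290) q9281, e3 q7642 L185165 q9385, e3 q7643 (flp_i L127536) q6112, e3 q7644 (flp_i L183317) q9284, e3 q7645 (flp_i L647087) q8693, e3 q7646 (flp_i L127558) q6115, e3 q7647 L647053 q6119, e3 q7648 L628546 q6118, e3 q7649 (flp_i L127582) q6116, e3 q7650 L647077 q9372, e3 q7651 (flp_i L183394) q9294, e3 q7652 (flp_i L646360)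 q6277, e3 q7653 (flp_i L183423) q9297, e3 q7654 L185328 q9390, e3 q7655 (flp_i L127659) q6123, e3 q7656 (flp_i L183451) q9300, e3 q7657 (flp_i L127677) q6126, e3 q7658 (flp_i L183468) q9302, e3 q7659 (flp_i L183474) q9303, e3 q7660 L185534 q9396, e3 q7661 L185566 q9397, e3 q7662 (flp_i L127811) q6131, e3 q7663 L185661 q9399, e3 q7664 L185679 q9401, e3 q7665 (flp_i L127879) q6134, e3 q7666 L185689 q9402, e3 q7667 (flp_i L127900) q6136, e3 q7668 L185779 q9403, e3 q7669 L185803 q9406, e3 q7670 (flp_i L127960) q6140, e3 q7671 L185821 q9408, e3 q7672 L185839 q9410, e3 q7673 (flp_i L127989) q6142, e3 q7674 L185856 q9412, e3 q7675 (flp_i L128005) q6143, e3 q7676 L185880 q9414, e3 q7677 (flp_i L128022) q6145, e3 q7678 L185925 q9416, e3 q7679 L185943 q9418, trivial⟩ (by decide +kernel)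

theorem ce_i_120 : ∀ r, r < 64 → sm gi (Qf (7680 + r)) = Qf (tab Gen.i (7680 + r)) :=
  edges_tab (sm gi) Qf (tab Gen.i) 7680 [(7680, 9420), (7681, 6149), (7682, 9422), (7683, 6150), (7684, 6152), (7685, 9425), (7686, 9428), (7687, 6155), (7688, 9430), (7689, 6156), (7690, 9432), (7691, 6157), (7692, 9435), (7693, 6159), (7694, 7694), (7695, 9437), (7696, 9439), (7697, 6164), (7698, 9440), (7699, 6166), (7700, 9442), (7701, 9444), (7702, 9446), (7703, 6170), (7704, 9448), (7705, 6171), (7706, 6173), (7707, 9452), (7708, 6176), (7709, 9453), (7710, 9454), (7711, 9457), (7712, 6179), (7713, 9460), (7714, 9462), (7715, 6180), (7716, 9465), (7717, 6182), (7718, 9467), (7719, 6183), (7720, 9469), (7721, 6185), (7722, 9471), (7723, 6187), (7724, 9473), (7725, 9476), (7726, 6190), (7727, 9478), (7728, 6191), (7729, 9480), (7730, 6192), (7731, 9483), (7732, 6194), (7733, 7733), (7734, 9485), (7735, 9487), (7736, 6198), (7737, 9490), (7738, 9491), (7739, 6199), (7740, 9494), (7741, 6201), (7742, 9497), (7743, 6203)]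
    ⟨e3 q7680 L185959 q9420, e3 q7681 (flp_i L128074) q6149, e3 q7682 L185975 q9422, e3 q7683 (flp_i L128089) q6150, e3 q7684 (flp_i L128098) q6152, e3 q7685 L186009 q9425, e3 q7686 L186033 q9428, e3 q7687 (flp_i L128134) q6155, e3 q7688 L186050 q9430, e3 q7689 (flp_i L128151) q6156, e3 q7690 L186065 q9432, e3 q7691 (flp_i L128169) q6157, e3 q7692 L186088 q9435, e3 q7693 (flp_i L128183) q6159, e3 q7694 L128199 q7694, e3 q7695 L186361 q9437, e3 q7696 L186385 q9439, e3 q7697 (flp_i L128345) q6164, e3 q7698 L186402 q9440, e3 q7699 (flp_i L128375) q6166, e3 q7700 L186510 q9442, e3 q7701 L186529 q9444, e3 q7702 L186546 q9446, e3 q7703 (flp_i L128463) q6170, e3 q7704 L186560 q9448, e3 q7705 (flp_i L128479) q6171, e3 q7706 (flp_i L128487) q6173, e3 q7707 L186630 q9452, e3 q7708 (flp_i L128529) q6176, e3 q7709 L186662 q9453, e3 q7710 L186678 q9454, e3 q7711 L186701 q9457, e3 q7712 (flp_i L128571) q6179, e3 q7713 L186718 q9460, e3 q7714 L186731 q9462, e3 q7715 (flp_i L128591) q6180, e3 q7716 L186750 q9465, e3 q7717 (flp_i L128606)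 q6182, e3 q7718 L186766 q9467, e3 q7719 (flp_i L128623) q6183, e3 q7720 L186790 q9469, e3 q7721 (flp_i L128639) q6185, e3 q7722 L186812 q9471, e3 q7723 (flp_i L128660) q6187, e3 q7724 L186854 q9473, e3 q7725 L186879 q9476, e3 q7726 (flp_i L128702) q6190, e3 q7727 L186893 q9478, e3 q7728 (flp_i L128719) q6191, e3 q7729 L186908 q9480, e3 q7730 (flp_i L128733) q6192, e3 q7731 L186928 q9483, e3 q7732 (flp_i L128747) q6194, e3 q7733 L128758 q7733, e3 q7734 L186948 q9485, e3 q7735 L186975 q9487, e3 q7736 (flp_i L128776) q6198, e3 q7737 L186998 q9490, e3 q7738 L187007 q9491, e3 q7739 (flp_i L128802) q6199, e3 q7740 L187029 q9494, e3 q7741 (flp_i L128817) q6201, e3 q7742 L187051 q9497, e3 q7743 (flp_i L128830) q6203, trivial⟩ (by decide +kernel)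

theorem ce_i_121 : ∀ r, r < 64 → sm gi (Qf (7744 + r)) = Qf (tab Gen.i (7744 + r)) :=
  edges_tab (sm gi) Qf (tab Gen.i) 7744 [(7744, 7744), (7745, 9499), (7746, 6205), (7747, 7747), (7748, 9503), (7749, 9505), (7750, 9507), (7751, 6210), (7752, 9509), (7753, 6211), (7754, 6213), (7755, 9512), (7756, 9515), (7757, 6216), (7758, 9517), (7759, 6217), (7760, 9519), (7761, 6218), (7762, 9522), (7763, 6220), (7764, 6274), (7765, 9525), (7766, 9528), (7767, 6224), (7768, 9531), (7769, 6225), (7770, 9534), (7771, 9536), (7772, 6226), (7773, 9540), (7774, 9542), (7775, 6228), (7776, 9545), (7777, 6229), (7778, 7778), (7779, 9548), (7780, 6231), (7781, 9550), (7782, 6233), (7783, 9552), (7784, 6235), (7785, 9553), (7786, 6237), (7787, 9554), (7788, 9556), (7789, 6240), (7790, 9559), (7791, 9560), (7792, 6241), (7793, 9563), (7794, 6243), (7795, 9566), (7796, 6245), (7797, 6283), (7798, 9568), (7799, 6247), (7800, 6286), (7801, 6250), (7802, 6251), (7803, 9564), (7804, 6253), (7805, 6254), (7806, 6256), (7807, 9561)]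
    ⟨e3 q7744 L128844 q7744, e3 q7745 L187066 q9499, e3 q7746 (flp_i L128851) q6205, e3 q7747 L128863 q7747, e3 q7748 L187337 q9503, e3 q7749 L187355 q9505, e3 q7750 L187385 q9507, e3 q7751 (flp_i L129046) q6210, e3 q7752 L187408 q9509, e3 q7753 (flp_i L129074) q6211, e3 q7754 (flp_i L129091) q6213, e3 q7755 L187564 q9512, e3 q7756 L187591 q9515, e3 q7757 (flp_i L129196) q6216, e3 q7758 L187610 q9517, e3 q7759 (flp_i L129215) q6217, e3 q7760 L187627 q9519, e3 q7761 (flp_i L129234) q6218, e3 q7762 L187654 q9522, e3 q7763 (flp_i L129250) q6220, e3 q7764 L129266 q6274, e3 q7765 L187688 q9525, e3 q7766 L187711 q9528, e3 q7767 (flp_i L129293) q6224, e3 q7768 L187736 q9531, e3 q7769 (flp_i L129309) q6225, e3 q7770 L187759 q9534, e3 q7771 L187773 q9536, e3 q7772 (flp_i L129335) q6226, e3 q7773 L187804 q9540, e3 q7774 L187820 q9542, e3 q7775 (flp_i L129356) q6228, e3 q7776 L187841 q9545, e3 q7777 (flp_i L129372) q6229, e3 q7778 L129386 q7778, e3 q7779 L187864 q9548, e3 q7780 (flp_i L129395) q6231, e3 q7781 L187888 q9550, e3 q7782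 (flp_i L129408) q6233, e3 q7783 L187910 q9552, e3 q7784 (flp_i L129430) q6235, e3 q7785 L187934 q9553, e3 q7786 (flp_i L129453) q6237, e3 q7787 L187974 q9554, e3 q7788 L187999 q9556, e3 q7789 (flp_i L129493) q6240, e3 q7790 L188025 q9559, e3 q7791 L188032 q9560, e3 q7792 (flp_i L129516) q6241, e3 q7793 L188058 q9563, e3 q7794 (flp_i L129532) q6243, e3 q7795 L188083 q9566, e3 q7796 (flp_i L129549) q6245, e3 q7797 L129562 q6283, e3 q7798 L188099 q9568, e3 q7799 (flp_i L129572) q6247, e3 q7800 L129586 q6286, e3 q7801 (flp_i L129597) q6250, e3 q7802 (flp_i L129623) q6251, e3 q7803 L629074 q9564, e3 q7804 (flp_i L129648) q6253, e3 q7805 (flp_i L129657) q6254, e3 q7806 L628224 q6256, e3 q7807 L647391 q9561, trivial⟩ (by decide +kernel)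

theorem ce_i_122 : ∀ r, r < 64 → sm gi (Qf (7808 + r)) = Qf (tab Gen.i (7808 + r)) :=
  edges_tab (sm gi) Qf (tab Gen.i) 7808 [(7808, 9573), (7809, 6258), (7810, 6261), (7811, 6289), (7812, 6287), (7813, 9578), (7814, 9389), (7815, 6266), (7816, 9580), (7817, 6268), (7818, 9582), (7819, 6270), (7820, 9520), (7821, 9584), (7822, 6272), (7823, 9523), (7824, 6281), (7825, 6279), (7826, 9379), (7827, 6276), (7828, 9575), (7829, 9567), (7830, 6284), (7831, 9569), (7832, 9570), (7833, 9574), (7834, 7834), (7835, 8768), (7836, 6325), (7837, 6326), (7838, 6327), (7839, 6384), (7840, 8762), (7841, 8759), (7842, 8115), (7843, 6340), (7844, 6341), (7845, 6343), (7846, 6342), (7847, 6344), (7848, 6404), (7849, 6396), (7850, 6398), (7851, 8820), (7852, 9596), (7853, 8814), (7854, 8813), (7855, 8156), (7856, 6364), (7857, 9602), (7858, 6366), (7859, 6367), (7860, 6369), (7861, 6368), (7862, 6370), (7863, 6431), (7864, 9608), (7865, 6417), (7866, 6418), (7867, 6419), (7868, 6421), (7869, 9599), (7870, 9600), (7871, 9614)]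
    ⟨e3 q7808 L188278 q9573, e3 q7809 (flp_i L129706) q6258, e3 q7810 (flp_i L129722) q6261, e3 q7811 L129736 q6289, e3 q7812 L646122 q6287, e3 q7813 L188392 q9578, e3 q7814 L629617 q9389, e3 q7815 (flp_i L129794) q6266, e3 q7816 L188427 q9580, e3 q7817 (flp_i L129812) q6268, e3 q7818 L188454 q9582, e3 q7819 (flp_i L129828) q6270, e3 q7820 (flp_i L187643) q9520, e3 q7821 L188470 q9584, e3 q7822 (flp_i L129853) q6272, e3 q7823 (flp_i L187669) q9523, e3 q7824 L629457 q6281, e3 q7825 L646228 q6279, e3 q7826 (flp_i L629369) q9379, e3 q7827 (flp_i L129925) q6276, e3 q7828 L646238 q9575, e3 q7829 (flp_i L188097) q9567, e3 q7830 (flp_i L129995) q6284, e3 q7831 (flp_i L188115) q9569, e3 q7832 (flp_i L188121) q9570, e3 q7833 (flp_i L188310) q9574, e3 q7834 L411548 q7834, e3 q7835 L621702 q8768, e3 q7836 L133096 q6325, e3 q7837 L133105 q6326, e3 q7838 (flp_i L591301) q6327, e3 q7839 (flp_i L455976) q6384, e3 q7840 (flp_i L607684) q8762, e3 q7841 (flp_i L576148) q8759, e3 q7842 (flp_i L576154) q8115, e3 q7843 L134070 q6340, e3 q7844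 L134080 q6341, e3 q7845 L134099 q6343, e3 q7846 L552461 q6342, e3 q7847 L591393 q6344, e3 q7848 L576831 q6404, e3 q7849 L473901 q6396, e3 q7850 (flp_i L601105) q6398, e3 q7851 L622248 q8820, e3 q7852 L195273 q9596, e3 q7853 L576520 q8814, e3 q7854 L591830 q8813, e3 q7855 (flp_i L554705) q8156, e3 q7856 L135476 q6364, e3 q7857 L196758 q9602, e3 q7858 L135491 q6366, e3 q7859 L135502 q6367, e3 q7860 L590494 q6369, e3 q7861 (flp_i L551619) q6368, e3 q7862 L590720 q6370, e3 q7863 (flp_i L456686) q6431, e3 q7864 L197335 q9608, e3 q7865 (flp_i L590775) q6417, e3 q7866 L547154 q6418, e3 q7867 L456371 q6419, e3 q7868 (flp_i L580349) q6421, e3 q7869 (flp_i L196730) q9599, e3 q7870 (flp_i L196740) q9600, e3 q7871 L197635 q9614, trivial⟩ (by decide +kernel)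

theorem ce_i_123 : ∀ r, r < 64 → sm gi (Qf (7872 + r)) = Qf (tab Gen.i (7872 + r)) :=
  edges_tab (sm gi) Qf (tab Gen.i) 7872 [(7872, 9617), (7873, 6365), (7874, 9604), (7875, 9603), (7876, 8898), (7877, 8901), (7878, 8899), (7879, 8215), (7880, 8216), (7881, 6375), (7882, 6385), (7883, 6386), (7884, 6387), (7885, 8999), (7886, 9625), (7887, 8761), (7888, 8116), (7889, 6399), (7890, 6400), (7891, 6401), (7892, 6402), (7893, 9631), (7894, 9003), (7895, 9092), (7896, 9633), (7897, 9634), (7898, 9636), (7899, 6403), (7900, 8817), (7901, 8818), (7902, 8158), (7903, 8159), (7904, 6422), (7905, 9644), (7906, 6424), (7907, 6425), (7908, 6426), (7909, 6427), (7910, 9649), (7911, 9651), (7912, 6414), (7913, 9609), (7914, 8621), (7915, 6469), (7916, 9641), (7917, 9642), (7918, 9656), (7919, 6423), (7920, 9645), (7921, 9658), (7922, 9659), (7923, 9661), (7924, 6428), (7925, 9663), (7926, 6429), (7927, 8904), (7928, 8220), (7929, 8907), (7930, 8906), (7931, 8221), (7932, 8223), (7933, 6465), (7934, 6466), (7935, 9672)]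
    ⟨e3 q7872 L197657 q9617, e3 q7873 (flp_i L136082) q6365, e3 q7874 (flp_i L590463) q9604, e3 q7875 L551365 q9603, e3 q7876 (flp_i L505908) q8898, e3 q7877 L554242 q8901, e3 q7878 L554269 q8899, e3 q7879 L555050 q8215, e3 q7880 (flp_i L554413) q8216, e3 q7881 (flp_i L136299) q6375, e3 q7882 L136411 q6385, e3 q7883 L136420 q6386, e3 q7884 L136516 q6387, e3 q7885 (flp_i L612459) q8999, e3 q7886 L198891 q9625, e3 q7887 (flp_i L455423) q8761, e3 q7888 L575362 q8116, e3 q7889 L137270 q6399, e3 q7890 L137281 q6400, e3 q7891 L137300 q6401, e3 q7892 L137428 q6402, e3 q7893 L199597 q9631, e3 q7894 L622611 q9003, e3 q7895 L622258 q9092, e3 q7896 L200112 q9633, e3 q7897 L200420 q9634, e3 q7898 L200435 q9636, e3 q7899 (flp_i L137999) q6403, e3 q7900 L591815 q8817, e3 q7901 L591928 q8818, e3 q7902 L591805 q8158, e3 q7903 L501576 q8159, e3 q7904 L138427 q6422, e3 q7905 L201066 q9644, e3 q7906 L138443 q6424, e3 q7907 L138454 q6425, e3 q7908 L138645 q6426, e3 q7909 L138654 q6427, e3 q7910 L201377 q9649, e3 q7911 L201398 q9651, e3 q7912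 (flp_i L138669) q6414, e3 q7913 L508118 q9609, e3 q7914 L420192 q8621, e3 q7915 (flp_i L616651) q6469, e3 q7916 (flp_i L201036) q9641, e3 q7917 (flp_i L201047) q9642, e3 q7918 L202108 q9656, e3 q7919 (flp_i L139175) q6423, e3 q7920 (flp_i L201345) q9645, e3 q7921 L202394 q9658, e3 q7922 L202409 q9659, e3 q7923 L202423 q9661, e3 q7924 (flp_i L139411) q6428, e3 q7925 L202437 q9663, e3 q7926 (flp_i L139423) q6429, e3 q7927 (flp_i L590451) q8904, e3 q7928 L555044 q8220, e3 q7929 (flp_i L575998) q8907, e3 q7930 L483722 q8906, e3 q7931 L555022 q8221, e3 q7932 L502331 q8223, e3 q7933 L139742 q6465, e3 q7934 L139751 q6466, e3 q7935 L202879 q9672, trivial⟩ (by decide +kernel)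

theorem ce_i_124 : ∀ r, r < 64 → sm gi (Qf (7936 + r)) = Qf (tab Gen.i (7936 + r)) :=
  edges_tab (sm gi) Qf (tab Gen.i) 7936 [(7936, 6438), (7937, 7937), (7938, 6470), (7939, 6471), (7940, 9677), (7941, 9679), (7942, 9681), (7943, 6447), (7944, 9683), (7945, 6448), (7946, 7946), (7947, 7947), (7948, 7948), (7949, 7949), (7950, 8620), (7951, 9685), (7952, 8618), (7953, 8619), (7954, 9688), (7955, 6462), (7956, 6536), (7957, 9669), (7958, 9652), (7959, 9691), (7960, 9692), (7961, 6467), (7962, 9673), (7963, 9695), (7964, 9696), (7965, 6472), (7966, 6473), (7967, 9698), (7968, 6479), (7969, 8713), (7970, 8766), (7971, 8118), (7972, 8119), (7973, 6485), (7974, 9703), (7975, 6488), (7976, 8083), (7977, 9706), (7978, 6489), (7979, 8730), (7980, 8095), (7981, 8090), (7982, 8826), (7983, 8825), (7984, 8163), (7985, 8165), (7986, 8916), (7987, 8229), (7988, 8230), (7989, 6503), (7990, 9715), (7991, 6506), (7992, 8066), (7993, 8710), (7994, 6507), (7995, 8060), (7996, 8073), (7997, 8724), (7998, 8091), (7999, 6537)]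
    ⟨e3 q7936 (flp_i L139768) q6438, e3 q7937 L139920 q7937, e3 q7938 L139933 q6470, e3 q7939 L139943 q6471, e3 q7940 L203132 q9677, e3 q7941 L203148 q9679, e3 q7942 L203169 q9681, e3 q7943 (flp_i L139964) q6447, e3 q7944 L203191 q9683, e3 q7945 (flp_i L139983) q6448, e3 q7946 L140018 q7946, e3 q7947 L140025 q7947, e3 q7948 L140030 q7948, e3 q7949 L140047 q7949, e3 q7950 (flp_i L561445) q8620, e3 q7951 L203499 q9685, e3 q7952 (flp_i L543798) q8618, e3 q7953 L561390 q8619, e3 q7954 L203540 q9688, e3 q7955 (flp_i L140248) q6462, e3 q7956 (flp_i L616673) q6536, e3 q7957 (flp_i L202844) q9669, e3 q7958 L614457 q9652, e3 q7959 L203590 q9691, e3 q7960 L203598 q9692, e3 q7961 (flp_i L140297) q6467, e3 q7962 (flp_i L203100) q9673, e3 q7963 L203626 q9695, e3 q7964 L203640 q9696, e3 q7965 (flp_i L140341) q6472, e3 q7966 (flp_i L140348) q6473, e3 q7967 L204223 q9698, e3 q7968 (flp_i L140719) q6479, e3 q7969 L483983 q8713, e3 q7970 L567559 q8766, e3 q7971 L554784 q8118, e3 q7972 (flp_i L574636) q8119, e3 q7973 (flp_i L141274) q6485, e3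 q7974 L205297 q9703, e3 q7975 (flp_i L141493) q6488, e3 q7976 L644771 q8083, e3 q7977 L205333 q9706, e3 q7978 (flp_i L141513) q6489, e3 q7979 (flp_i L567696) q8730, e3 q7980 (flp_i L644666) q8095, e3 q7981 (flp_i L567606) q8090, e3 q7982 L591941 q8826, e3 q7983 L567708 q8825, e3 q7984 (flp_i L501782) q8163, e3 q7985 (flp_i L575203) q8165, e3 q7986 (flp_i L567887) q8916, e3 q7987 L483597 q8229, e3 q7988 (flp_i L502319) q8230, e3 q7989 (flp_i L142342) q6503, e3 q7990 L206796 q9715, e3 q7991 (flp_i L142574) q6506, e3 q7992 L644779 q8066, e3 q7993 (flp_i L641830) q8710, e3 q7994 (flp_i L142598) q6507, e3 q7995 L567437 q8060, e3 q7996 L567444 q8073, e3 q7997 (flp_i L645093) q8724, e3 q7998 L567303 q8091, e3 q7999 L557739 q6537, trivial⟩ (by decide +kernel)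

theorem ce_i_125 : ∀ r, r < 64 → sm gi (Qf (8000 + r)) = Qf (tab Gen.i (8000 + r)) :=
  edges_tab (sm gi) Qf (tab Gen.i) 8000 [(8000, 8000), (8001, 8001), (8002, 8002), (8003, 8003), (8004, 8004), (8005, 8005), (8006, 8006), (8007, 8007), (8008, 9718), (8009, 9720), (8010, 9721), (8011, 6575), (8012, 9722), (8013, 9723), (8014, 6579), (8015, 9725), (8016, 9726), (8017, 6584), (8018, 9728), (8019, 9730), (8020, 6587), (8021, 9732), (8022, 9733), (8023, 6590), (8024, 9734), (8025, 9735), (8026, 6594), (8027, 9736), (8028, 6596), (8029, 9738), (8030, 9740), (8031, 9742), (8032, 6600), (8033, 9744), (8034, 9745), (8035, 6603), (8036, 9746), (8037, 9748), (8038, 9750), (8039, 6608), (8040, 9752), (8041, 6609), (8042, 9755), (8043, 9757), (8044, 6612), (8045, 9758), (8046, 6614), (8047, 9760), (8048, 9762), (8049, 9764), (8050, 6618), (8051, 9766), (8052, 6619), (8053, 6621), (8054, 6628), (8055, 6629), (8056, 6630), (8057, 7112), (8058, 6632), (8059, 6633), (8060, 7995), (8061, 9768), (8062, 9769), (8063, 7109)]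
    ⟨e3 q8000 L411812 q8000, e3 q8001 L410978 q8001, e3 q8002 L410946 q8002, e3 q8003 L411804 q8003, e3 q8004 L411531 q8004, e3 q8005 L411000 q8005, e3 q8006 L411022 q8006, e3 q8007 L495204 q8007, e3 q8008 L241456 q9718, e3 q8009 L241515 q9720, e3 q8010 L241560 q9721, e3 q8011 (flp_i L166560) q6575, e3 q8012 L241603 q9722, e3 q8013 L241624 q9723, e3 q8014 (flp_i L166617) q6579, e3 q8015 L241686 q9725, e3 q8016 L241733 q9726, e3 q8017 (flp_i L166680) q6584, e3 q8018 L241791 q9728, e3 q8019 L241808 q9730, e3 q8020 (flp_i L166733) q6587, e3 q8021 L241847 q9732, e3 q8022 L241865 q9733, e3 q8023 (flp_i L166775) q6590, e3 q8024 L241909 q9734, e3 q8025 L241925 q9735, e3 q8026 (flp_i L166813) q6594, e3 q8027 L241933 q9736, e3 q8028 (flp_i L166831) q6596, e3 q8029 L241977 q9738, e3 q8030 L242041 q9740, e3 q8031 L242060 q9742, e3 q8032 (flp_i L166893) q6600, e3 q8033 L242106 q9744, e3 q8034 L242126 q9745, e3 q8035 (flp_i L166938) q6603, e3 q8036 L242181 q9746, e3 q8037 L242207 q9748, e3 q8038 L242222 q9750, e3 q8039 (flp_i L166998)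 q6608, e3 q8040 L242240 q9752, e3 q8041 (flp_i L167015) q6609, e3 q8042 L242290 q9755, e3 q8043 L242306 q9757, e3 q8044 (flp_i L167056) q6612, e3 q8045 L242316 q9758, e3 q8046 (flp_i L167074) q6614, e3 q8047 L242349 q9760, e3 q8048 L242366 q9762, e3 q8049 L242385 q9764, e3 q8050 (flp_i L167115) q6618, e3 q8051 L242402 q9766, e3 q8052 (flp_i L167133) q6619, e3 q8053 (flp_i L167142) q6621, e3 q8054 L167171 q6628, e3 q8055 L167182 q6629, e3 q8056 L167192 q6630, e3 q8057 L643429 q7112, e3 q8058 L167211 q6632, e3 q8059 L167224 q6633, e3 q8060 (flp_i L567437) q7995, e3 q8061 (flp_i L242451) q9768, e3 q8062 (flp_i L242462) q9769, e3 q8063 L643411 q7109, trivial⟩ (by decide +kernel)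

theorem ce_i_126 : ∀ r, r < 64 → sm gi (Qf (8064 + r)) = Qf (tab Gen.i (8064 + r)) :=
  edges_tab (sm gi) Qf (tab Gen.i) 8064 [(8064, 6642), (8065, 6643), (8066, 7992), (8067, 6645), (8068, 6646), (8069, 6647), (8070, 7128), (8071, 6637), (8072, 6650), (8073, 7996), (8074, 9772), (8075, 9773), (8076, 9774), (8077, 7123), (8078, 9776), (8079, 7126), (8080, 6662), (8081, 6663), (8082, 6664), (8083, 7976), (8084, 6666), (8085, 6667), (8086, 9793), (8087, 6669), (8088, 7156), (8089, 6657), (8090, 7981), (8091, 7998), (8092, 9783), (8093, 9784), (8094, 9785), (8095, 7980), (8096, 9787), (8097, 7148), (8098, 9789), (8099, 9790), (8100, 7152), (8101, 7191), (8102, 6668), (8103, 6685), (8104, 9808), (8105, 6687), (8106, 6688), (8107, 9813), (8108, 6674), (8109, 6691), (8110, 6692), (8111, 9818), (8112, 6694), (8113, 9820), (8114, 6678), (8115, 7842), (8116, 7888), (8117, 9827), (8118, 7971), (8119, 7972), (8120, 9830), (8121, 6683), (8122, 9804), (8123, 9805), (8124, 9837), (8125, 9839), (8126, 6686), (8127, 9809)]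
    ⟨e3 q8064 L167349 q6642, e3 q8065 L167361 q6643, e3 q8066 (flp_i L644779) q7992, e3 q8067 L167380 q6645, e3 q8068 L167388 q6646, e3 q8069 L167400 q6647, e3 q8070 (flp_i L644789) q7128, e3 q8071 (flp_i L167411) q6637, e3 q8072 L167430 q6650, e3 q8073 (flp_i L567444) q7996, e3 q8074 (flp_i L242723) q9772, e3 q8075 (flp_i L242740) q9773, e3 q8076 (flp_i L242752) q9774, e3 q8077 L644828 q7123, e3 q8078 (flp_i L242794) q9776, e3 q8079 L644405 q7126, e3 q8080 L167613 q6662, e3 q8081 L167627 q6663, e3 q8082 L167639 q6664, e3 q8083 (flp_i L644771) q7976, e3 q8084 L167668 q6666, e3 q8085 L167678 q6667, e3 q8086 L243248 q9793, e3 q8087 L167695 q6669, e3 q8088 L631450 q7156, e3 q8089 (flp_i L167705) q6657, e3 q8090 L567606 q7981, e3 q8091 (flp_i L567303) q7998, e3 q8092 (flp_i L243131) q9783, e3 q8093 (flp_i L243141) q9784, e3 q8094 (flp_i L243175) q9785, e3 q8095 L644666 q7980, e3 q8096 (flp_i L243192) q9787, e3 q8097 (flp_i L631408) q7148, e3 q8098 (flp_i L243217) q9789, e3 q8099 (flp_i L243230) q9790, e3 q8100 L631581 q7152, e3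 q8101 L644420 q7191, e3 q8102 (flp_i L167881) q6668, e3 q8103 L167956 q6685, e3 q8104 L243687 q9808, e3 q8105 L167975 q6687, e3 q8106 L167985 q6688, e3 q8107 L243737 q9813, e3 q8108 (flp_i L167997) q6674, e3 q8109 L168016 q6691, e3 q8110 L168027 q6692, e3 q8111 L243786 q9818, e3 q8112 L168048 q6694, e3 q8113 L243810 q9820, e3 q8114 (flp_i L168061) q6678, e3 q8115 L576154 q7842, e3 q8116 (flp_i L575362) q7888, e3 q8117 L243879 q9827, e3 q8118 (flp_i L554784) q7971, e3 q8119 L574636 q7972, e3 q8120 L243926 q9830, e3 q8121 (flp_i L168130) q6683, e3 q8122 (flp_i L243654) q9804, e3 q8123 (flp_i L243665) q9805, e3 q8124 L243992 q9837, e3 q8125 L244012 q9839, e3 q8126 (flp_i L168185) q6686, e3 q8127 (flp_i L243706) q9809, trivial⟩ (by decide +kernel)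

theorem ce_i_127 : ∀ r, r < 64 → sm gi (Qf (8128 + r)) = Qf (tab Gen.i (8128 + r)) :=
  edges_tab (sm gi) Qf (tab Gen.i) 8128 [(8128, 9844), (8129, 9811), (8130, 9845), (8131, 6689), (8132, 9814), (8133, 9815), (8134, 9846), (8135, 9847), (8136, 6693), (8137, 9848), (8138, 6695), (8139, 6717), (8140, 6718), (8141, 9855), (8142, 9856), (8143, 6698), (8144, 6722), (8145, 9861), (8146, 6724), (8147, 9863), (8148, 6701), (8149, 6727), (8150, 6728), (8151, 9868), (8152, 9870), (8153, 6705), (8154, 9871), (8155, 6707), (8156, 7855), (8157, 9876), (8158, 7902), (8159, 7903), (8160, 9883), (8161, 9885), (8162, 6711), (8163, 7984), (8164, 9890), (8165, 7985), (8166, 9891), (8167, 6714), (8168, 9849), (8169, 9850), (8170, 9898), (8171, 9852), (8172, 9901), (8173, 9903), (8174, 6719), (8175, 9905), (8176, 6720), (8177, 9857), (8178, 9858), (8179, 9911), (8180, 9913), (8181, 6723), (8182, 9914), (8183, 6725), (8184, 9864), (8185, 9918), (8186, 9919), (8187, 9920), (8188, 6729), (8189, 9922), (8190, 6730), (8191, 6732)]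
    ⟨e3 q8128 L244052 q9844, e3 q8129 (flp_i L243725) q9811, e3 q8130 L244071 q9845, e3 q8131 (flp_i L168228) q6689, e3 q8132 (flp_i L243753) q9814, e3 q8133 (flp_i L243765) q9815, e3 q8134 L244112 q9846, e3 q8135 L244130 q9847, e3 q8136 (flp_i L168269) q6693, e3 q8137 L244139 q9848, e3 q8138 (flp_i L168290) q6695, e3 q8139 L168386 q6717, e3 q8140 L168397 q6718, e3 q8141 L244326 q9855, e3 q8142 L244346 q9856, e3 q8143 (flp_i L168417) q6698, e3 q8144 L168435 q6722, e3 q8145 L244388 q9861, e3 q8146 L168453 q6724, e3 q8147 L244407 q9863, e3 q8148 (flp_i L168464) q6701, e3 q8149 L168478 q6727, e3 q8150 L168491 q6728, e3 q8151 L244455 q9868, e3 q8152 L244474 q9870, e3 q8153 (flp_i L168508) q6705, e3 q8154 L244482 q9871, e3 q8155 (flp_i L168529) q6707, e3 q8156 L554705 q7855, e3 q8157 L244531 q9876, e3 q8158 (flp_i L591805) q7902, e3 q8159 (flp_i L501576) q7903, e3 q8160 L244593 q9883, e3 q8161 L244610 q9885, e3 q8162 (flp_i L168592) q6711, e3 q8163 L501782 q7984, e3 q8164 L244650 q9890, e3 q8165 L575203 q7985, e3 q8166 L244668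 q9891, e3 q8167 (flp_i L168636) q6714, e3 q8168 (flp_i L244274) q9849, e3 q8169 (flp_i L244285) q9850, e3 q8170 L244725 q9898, e3 q8171 (flp_i L244306) q9852, e3 q8172 L244754 q9901, e3 q8173 L244769 q9903, e3 q8174 (flp_i L168694) q6719, e3 q8175 L244784 q9905, e3 q8176 (flp_i L168711) q6720, e3 q8177 (flp_i L244359) q9857, e3 q8178 (flp_i L244371) q9858, e3 q8179 L244833 q9911, e3 q8180 L244845 q9913, e3 q8181 (flp_i L168747) q6723, e3 q8182 L244853 q9914, e3 q8183 (flp_i L168763) q6725, e3 q8184 (flp_i L244427) q9864, e3 q8185 L244888 q9918, e3 q8186 L244904 q9919, e3 q8187 L244920 q9920, e3 q8188 (flp_i L168805) q6729, e3 q8189 L244933 q9922, e3 q8190 (flp_i L168821) q6730, e3 q8191 (flp_i L168828) q6732, trivial⟩ (by decide +kernel)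

theorem ce_i_128 : ∀ r, r < 64 → sm gi (Qf (8192 + r)) = Qf (tab Gen.i (8192 + r)) :=
  edges_tab (sm gi) Qf (tab Gen.i) 8192 [(8192, 6763), (8193, 6764), (8194, 9930), (8195, 6766), (8196, 9933), (8197, 9935), (8198, 6736), (8199, 6737), (8200, 6772), (8201, 6773), (8202, 9941), (8203, 9943), (8204, 6740), (8205, 9944), (8206, 6742), (8207, 6779), (8208, 9948), (8209, 9950), (8210, 9952), (8211, 6746), (8212, 9954), (8213, 6747), (8214, 6749), (8215, 7879), (8216, 7880), (8217, 9962), (8218, 9964), (8219, 6752), (8220, 7928), (8221, 7931), (8222, 9971), (8223, 7932), (8224, 9974), (8225, 9976), (8226, 6755), (8227, 9978), (8228, 6756), (8229, 7987), (8230, 7988), (8231, 9984), (8232, 9986), (8233, 6759), (8234, 9987), (8235, 6761), (8236, 9924), (8237, 9992), (8238, 9926), (8239, 9927), (8240, 9997), (8241, 10000), (8242, 6765), (8243, 10002), (8244, 10004), (8245, 6767), (8246, 10006), (8247, 6768), (8248, 10009), (8249, 6770), (8250, 8250), (8251, 9937), (8252, 10014), (8253, 10016), (8254, 10018), (8255, 6774)]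
    ⟨e3 q8192 L168961 q6763, e3 q8193 L168973 q6764, e3 q8194 L245214 q9930, e3 q8195 L168993 q6766, e3 q8196 L245244 q9933, e3 q8197 L245261 q9935, e3 q8198 (flp_i L169013) q6736, e3 q8199 (flp_i L169033) q6737, e3 q8200 L169046 q6772, e3 q8201 L169057 q6773, e3 q8202 L245333 q9941, e3 q8203 L245350 q9943, e3 q8204 (flp_i L169077) q6740, e3 q8205 L245360 q9944, e3 q8206 (flp_i L169096) q6742, e3 q8207 L169113 q6779, e3 q8208 L245398 q9948, e3 q8209 L245417 q9950, e3 q8210 L245438 q9952, e3 q8211 (flp_i L169141) q6746, e3 q8212 L245455 q9954, e3 q8213 (flp_i L169162) q6747, e3 q8214 (flp_i L169171) q6749, e3 q8215 (flp_i L555050) q7879, e3 q8216 L554413 q7880, e3 q8217 L245535 q9962, e3 q8218 L245562 q9964, e3 q8219 (flp_i L169218) q6752, e3 q8220 (flp_i L555044) q7928, e3 q8221 (flp_i L555022) q7931, e3 q8222 L245622 q9971, e3 q8223 (flp_i L502331) q7932, e3 q8224 L245649 q9974, e3 q8225 L245663 q9976, e3 q8226 (flp_i L169280) q6755, e3 q8227 L245680 q9978, e3 q8228 (flp_i L169297) q6756, e3 q8229 (flp_i L483597) q7987, e3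 q8230 L502319 q7988, e3 q8231 L245730 q9984, e3 q8232 L245747 q9986, e3 q8233 (flp_i L169339) q6759, e3 q8234 L245757 q9987, e3 q8235 (flp_i L169357) q6761, e3 q8236 (flp_i L245165) q9924, e3 q8237 L245800 q9992, e3 q8238 (flp_i L245182) q9926, e3 q8239 (flp_i L245194) q9927, e3 q8240 L245844 q9997, e3 q8241 L245868 q10000, e3 q8242 (flp_i L169415) q6765, e3 q8243 L245885 q10002, e3 q8244 L245901 q10004, e3 q8245 (flp_i L169442) q6767, e3 q8246 L245917 q10006, e3 q8247 (flp_i L169456) q6768, e3 q8248 L245939 q10009, e3 q8249 (flp_i L169473) q6770, e3 q8250 L169487 q8250, e3 q8251 (flp_i L245306) q9937, e3 q8252 L245981 q10014, e3 q8253 L245997 q10016, e3 q8254 L246011 q10018, e3 q8255 (flp_i L169519) q6774, trivial⟩ (by decide +kernel)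

theorem ce_i_129 : ∀ r, r < 64 → sm gi (Qf (8256 + r)) = Qf (tab Gen.i (8256 + r)) :=
  edges_tab (sm gi) Qf (tab Gen.i) 8256 [(8256, 10020), (8257, 6775), (8258, 6777), (8259, 9945), (8260, 10024), (8261, 10027), (8262, 6780), (8263, 10029), (8264, 6781), (8265, 10031), (8266, 6782), (8267, 10034), (8268, 6784), (8269, 8269), (8270, 8270), (8271, 8271), (8272, 10042), (8273, 8273), (8274, 8274), (8275, 10046), (8276, 8276), (8277, 8277), (8278, 10050), (8279, 6791), (8280, 8280), (8281, 8281), (8282, 10054), (8283, 8283), (8284, 10056), (8285, 6795), (8286, 6814), (8287, 6815), (8288, 10063), (8289, 6817), (8290, 6818), (8291, 10068), (8292, 6800), (8293, 6821), (8294, 6822), (8295, 6823), (8296, 10075), (8297, 10077), (8298, 6803), (8299, 6827), (8300, 10082), (8301, 6829), (8302, 10084), (8303, 6806), (8304, 6832), (8305, 6833), (8306, 10089), (8307, 10091), (8308, 6810), (8309, 10092), (8310, 6812), (8311, 10057), (8312, 10096), (8313, 10059), (8314, 10060), (8315, 10103), (8316, 10104), (8317, 6816), (8318, 10064), (8319,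 10109)]
    ⟨e3 q8256 L246027 q10020, e3 q8257 (flp_i L169533) q6775, e3 q8258 (flp_i L169542) q6777, e3 q8259 (flp_i L245376) q9945, e3 q8260 L246060 q10024, e3 q8261 L246085 q10027, e3 q8262 (flp_i L169575) q6780, e3 q8263 L246103 q10029, e3 q8264 (flp_i L169591) q6781, e3 q8265 L246118 q10031, e3 q8266 (flp_i L169609) q6782, e3 q8267 L246142 q10034, e3 q8268 (flp_i L169624) q6784, e3 q8269 L169640 q8269, e3 q8270 L169649 q8270, e3 q8271 L169660 q8271, e3 q8272 L246220 q10042, e3 q8273 L169681 q8273, e3 q8274 L169691 q8274, e3 q8275 L246280 q10046, e3 q8276 L169707 q8276, e3 q8277 L169716 q8277, e3 q8278 L246326 q10050, e3 q8279 (flp_i L169728) q6791, e3 q8280 L169748 q8280, e3 q8281 L169758 q8281, e3 q8282 L246372 q10054, e3 q8283 L169775 q8283, e3 q8284 L246393 q10056, e3 q8285 (flp_i L169787) q6795, e3 q8286 L169806 q6814, e3 q8287 L169818 q6815, e3 q8288 L246463 q10063, e3 q8289 L169838 q6817, e3 q8290 L169850 q6818, e3 q8291 L246517 q10068, e3 q8292 (flp_i L169862) q6800, e3 q8293 L169882 q6821, e3 q8294 L169892 q6822,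 e3 q8295 L169901 q6823, e3 q8296 L246580 q10075, e3 q8297 L246598 q10077, e3 q8298 (flp_i L169918) q6803, e3 q8299 L169936 q6827, e3 q8300 L246643 q10082, e3 q8301 L169955 q6829, e3 q8302 L246664 q10084, e3 q8303 (flp_i L169966) q6806, e3 q8304 L169980 q6832, e3 q8305 L169991 q6833, e3 q8306 L246705 q10089, e3 q8307 L246722 q10091, e3 q8308 (flp_i L170010) q6810, e3 q8309 L246731 q10092, e3 q8310 (flp_i L170029) q6812, e3 q8311 (flp_i L246411) q10057, e3 q8312 L246774 q10096, e3 q8313 (flp_i L246431) q10059, e3 q8314 (flp_i L246442) q10060, e3 q8315 L246843 q10103, e3 q8316 L246864 q10104, e3 q8317 (flp_i L170092) q6816, e3 q8318 (flp_i L246484) q10064, e3 q8319 L246913 q10109, trivial⟩ (by decide +kernel)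

theorem ce_i_130 : ∀ r, r < 64 → sm gi (Qf (8320 + r)) = Qf (tab Gen.i (8320 + r)) :=
  edges_tab (sm gi) Qf (tab Gen.i) 8320 [(8320, 10066), (8321, 10111), (8322, 6819), (8323, 10069), (8324, 10070), (8325, 10118), (8326, 10072), (8327, 10121), (8328, 10123), (8329, 6824), (8330, 10125), (8331, 6825), (8332, 10078), (8333, 10079), (8334, 10131), (8335, 10133), (8336, 6828), (8337, 10134), (8338, 6830), (8339, 10085), (8340, 10136), (8341, 10137), (8342, 10138), (8343, 6834), (8344, 10140), (8345, 6835), (8346, 6837), (8347, 8347), (8348, 8348), (8349, 10146), (8350, 8350), (8351, 8351), (8352, 10151), (8353, 6841), (8354, 8354), (8355, 8355), (8356, 8356), (8357, 10155), (8358, 10157), (8359, 6844), (8360, 8360), (8361, 10161), (8362, 8362), (8363, 10163), (8364, 6847), (8365, 8365), (8366, 8366), (8367, 10168), (8368, 10170), (8369, 6851), (8370, 10171), (8371, 6853), (8372, 6880), (8373, 10175), (8374, 6882), (8375, 6883), (8376, 10182), (8377, 10183), (8378, 6857), (8379, 6887), (8380, 10188), (8381, 6889), (8382, 10190),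 (8383, 6860)]
    ⟨e3 q8320 (flp_i L246505) q10066, e3 q8321 L246935 q10111, e3 q8322 (flp_i L170141) q6819, e3 q8323 (flp_i L246534) q10069, e3 q8324 (flp_i L246544) q10070, e3 q8325 L246987 q10118, e3 q8326 (flp_i L246562) q10072, e3 q8327 L247013 q10121, e3 q8328 L247026 q10123, e3 q8329 (flp_i L170198) q6824, e3 q8330 L247043 q10125, e3 q8331 (flp_i L170215) q6825, e3 q8332 (flp_i L246610) q10078, e3 q8333 (flp_i L246622) q10079, e3 q8334 L247095 q10131, e3 q8335 L247111 q10133, e3 q8336 (flp_i L170258) q6828, e3 q8337 L247122 q10134, e3 q8338 (flp_i L170278) q6830, e3 q8339 (flp_i L246680) q10085, e3 q8340 L247157 q10136, e3 q8341 L247174 q10137, e3 q8342 L247190 q10138, e3 q8343 (flp_i L170317) q6834, e3 q8344 L247206 q10140, e3 q8345 (flp_i L170333) q6835, e3 q8346 (flp_i L170343) q6837, e3 q8347 L170358 q8347, e3 q8348 L170368 q8348, e3 q8349 L247277 q10146, e3 q8350 L170383 q8350, e3 q8351 L170393 q8351, e3 q8352 L247325 q10151, e3 q8353 (flp_i L170405) q6841, e3 q8354 L170427 q8354, e3 q8355 L170433 q8355, e3 q8356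 L170441 q8356, e3 q8357 L247384 q10155, e3 q8358 L247401 q10157, e3 q8359 (flp_i L170459) q6844, e3 q8360 L170475 q8360, e3 q8361 L247443 q10161, e3 q8362 L170491 q8362, e3 q8363 L247461 q10163, e3 q8364 (flp_i L170502) q6847, e3 q8365 L170516 q8365, e3 q8366 L170527 q8366, e3 q8367 L247507 q10168, e3 q8368 L247524 q10170, e3 q8369 (flp_i L170543) q6851, e3 q8370 L247532 q10171, e3 q8371 (flp_i L170561) q6853, e3 q8372 L170578 q6880, e3 q8373 L247576 q10175, e3 q8374 L170595 q6882, e3 q8375 L170606 q6883, e3 q8376 L247645 q10182, e3 q8377 L247664 q10183, e3 q8378 (flp_i L170625) q6857, e3 q8379 L170645 q6887, e3 q8380 L247711 q10188, e3 q8381 L170665 q6889, e3 q8382 L247731 q10190, e3 q8383 (flp_i L170676) q6860, trivial⟩ (by decide +kernel)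

theorem ce_i_131 : ∀ r, r < 64 → sm gi (Qf (8384 + r)) = Qf (tab Gen.i (8384 + r)) :=
  edges_tab (sm gi) Qf (tab Gen.i) 8384 [(8384, 6892), (8385, 6893), (8386, 10197), (8387, 6895), (8388, 10200), (8389, 10202), (8390, 6865), (8391, 10204), (8392, 6866), (8393, 6901), (8394, 6902), (8395, 10210), (8396, 10212), (8397, 6869), (8398, 10213), (8399, 6871), (8400, 6908), (8401, 10217), (8402, 10219), (8403, 10221), (8404, 6875), (8405, 10223), (8406, 6876), (8407, 6878), (8408, 10172), (8409, 10173), (8410, 10230), (8411, 6881), (8412, 10176), (8413, 10177), (8414, 10237), (8415, 10179), (8416, 10240), (8417, 10242), (8418, 6884), (8419, 6885), (8420, 10184), (8421, 10185), (8422, 10248), (8423, 10250), (8424, 6888), (8425, 10251), (8426, 6890), (8427, 10191), (8428, 10256), (8429, 10193), (8430, 10194), (8431, 10261), (8432, 10264), (8433, 6894), (8434, 10266), (8435, 10268), (8436, 6896), (8437, 10270), (8438, 6897), (8439, 10273), (8440, 6899), (8441, 8441), (8442, 10206), (8443, 10278), (8444, 10280), (8445, 10282), (8446,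 6903), (8447, 10284)]
    ⟨e3 q8384 L170689 q6892, e3 q8385 L170699 q6893, e3 q8386 L247786 q10197, e3 q8387 L170716 q6895, e3 q8388 L247811 q10200, e3 q8389 L247824 q10202, e3 q8390 (flp_i L170731) q6865, e3 q8391 L247835 q10204, e3 q8392 (flp_i L170746) q6866, e3 q8393 L170757 q6901, e3 q8394 L170770 q6902, e3 q8395 L247886 q10210, e3 q8396 L247901 q10212, e3 q8397 (flp_i L170787) q6869, e3 q8398 L247909 q10213, e3 q8399 (flp_i L170805) q6871, e3 q8400 L170823 q6908, e3 q8401 L247946 q10217, e3 q8402 L247963 q10219, e3 q8403 L247978 q10221, e3 q8404 (flp_i L170847) q6875, e3 q8405 L247990 q10223, e3 q8406 (flp_i L170862) q6876, e3 q8407 (flp_i L170869) q6878, e3 q8408 (flp_i L247548) q10172, e3 q8409 (flp_i L247558) q10173, e3 q8410 L248052 q10230, e3 q8411 (flp_i L170907) q6881, e3 q8412 (flp_i L247593) q10176, e3 q8413 (flp_i L247605) q10177, e3 q8414 L248133 q10237, e3 q8415 (flp_i L247626) q10179, e3 q8416 L248163 q10240, e3 q8417 L248179 q10242, e3 q8418 (flp_i L170969) q6884, e3 q8419 (flp_i L170987) q6885, e3 q8420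 (flp_i L247678) q10184, e3 q8421 (flp_i L247692) q10185, e3 q8422 L248254 q10248, e3 q8423 L248271 q10250, e3 q8424 (flp_i L171032) q6888, e3 q8425 L248281 q10251, e3 q8426 (flp_i L171051) q6890, e3 q8427 (flp_i L247748) q10191, e3 q8428 L248316 q10256, e3 q8429 (flp_i L247760) q10193, e3 q8430 (flp_i L247772) q10194, e3 q8431 L248352 q10261, e3 q8432 L248370 q10264, e3 q8433 (flp_i L171099) q6894, e3 q8434 L248384 q10266, e3 q8435 L248398 q10268, e3 q8436 (flp_i L171123) q6896, e3 q8437 L248413 q10270, e3 q8438 (flp_i L171135) q6897, e3 q8439 L248432 q10273, e3 q8440 (flp_i L171148) q6899, e3 q8441 L171162 q8441, e3 q8442 (flp_i L247859) q10206, e3 q8443 L248475 q10278, e3 q8444 L248493 q10280, e3 q8445 L248507 q10282, e3 q8446 (flp_i L171198) q6903, e3 q8447 L248524 q10284, trivial⟩ (by decide +kernel)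

theorem ce_i_132 : ∀ r, r < 64 → sm gi (Qf (8448 + r)) = Qf (tab Gen.i (8448 + r)) :=
  edges_tab (sm gi) Qf (tab Gen.i) 8448 [(8448, 6904), (8449, 6906), (8450, 10214), (8451, 10288), (8452, 10291), (8453, 6909), (8454, 10292), (8455, 6910), (8456, 10294), (8457, 6911), (8458, 10297), (8459, 6913), (8460, 8460), (8461, 8461), (8462, 10301), (8463, 8463), (8464, 10304), (8465, 10305), (8466, 6918), (8467, 8467), (8468, 10307), (8469, 6920), (8470, 8470), (8471, 10310), (8472, 8472), (8473, 10313), (8474, 10315), (8475, 6925), (8476, 10317), (8477, 6926), (8478, 8478), (8479, 8479), (8480, 10321), (8481, 6929), (8482, 10322), (8483, 6931), (8484, 8484), (8485, 10325), (8486, 10327), (8487, 10329), (8488, 6935), (8489, 10331), (8490, 6936), (8491, 6938), (8492, 6976), (8493, 6977), (8494, 10336), (8495, 6941), (8496, 6981), (8497, 10341), (8498, 6983), (8499, 10344), (8500, 10346), (8501, 6944), (8502, 6945), (8503, 6988), (8504, 6989), (8505, 10351), (8506, 6948), (8507, 10352), (8508, 6950), (8509, 6995), (8510, 10357), (8511,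 6997)]
    ⟨e3 q8448 (flp_i L171212) q6904, e3 q8449 (flp_i L171221) q6906, e3 q8450 (flp_i L247925) q10214, e3 q8451 L248556 q10288, e3 q8452 L248582 q10291, e3 q8453 (flp_i L171255) q6909, e3 q8454 L248598 q10292, e3 q8455 (flp_i L171271) q6910, e3 q8456 L248612 q10294, e3 q8457 (flp_i L171285) q6911, e3 q8458 L248634 q10297, e3 q8459 (flp_i L171299) q6913, e3 q8460 L171313 q8460, e3 q8461 L171322 q8461, e3 q8462 L248683 q10301, e3 q8463 L171347 q8463, e3 q8464 L248748 q10304, e3 q8465 L248767 q10305, e3 q8466 (flp_i L171365) q6918, e3 q8467 L171400 q8467, e3 q8468 L248836 q10307, e3 q8469 (flp_i L171411) q6920, e3 q8470 L171438 q8470, e3 q8471 L248893 q10310, e3 q8472 L171454 q8472, e3 q8473 L248919 q10313, e3 q8474 L248934 q10315, e3 q8475 (flp_i L171472) q6925, e3 q8476 L248952 q10317, e3 q8477 (flp_i L171489) q6926, e3 q8478 L171503 q8478, e3 q8479 L171513 q8479, e3 q8480 L249004 q10321, e3 q8481 (flp_i L171533) q6929, e3 q8482 L249031 q10322, e3 q8483 (flp_i L171551) q6931, e3 q8484 L171568 q8484, e3 q8485 L249066 q10325,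 e3 q8486 L249084 q10327, e3 q8487 L249104 q10329, e3 q8488 (flp_i L171594) q6935, e3 q8489 L249122 q10331, e3 q8490 (flp_i L171613) q6936, e3 q8491 (flp_i L171622) q6938, e3 q8492 L171638 q6976, e3 q8493 L171648 q6977, e3 q8494 L249195 q10336, e3 q8495 (flp_i L171664) q6941, e3 q8496 L171694 q6981, e3 q8497 L249284 q10341, e3 q8498 L171714 q6983, e3 q8499 L249313 q10344, e3 q8500 L249329 q10346, e3 q8501 (flp_i L171733) q6944, e3 q8502 (flp_i L171752) q6945, e3 q8503 L171766 q6988, e3 q8504 L171779 q6989, e3 q8505 L249402 q10351, e3 q8506 (flp_i L171801) q6948, e3 q8507 L249432 q10352, e3 q8508 (flp_i L171821) q6950, e3 q8509 L171837 q6995, e3 q8510 L249476 q10357, e3 q8511 L171851 q6997, trivial⟩ (by decide +kernel)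

theorem ce_i_133 : ∀ r, r < 64 → sm gi (Qf (8512 + r)) = Qf (tab Gen.i (8512 + r)) :=
  edges_tab (sm gi) Qf (tab Gen.i) 8512 [(8512, 6998), (8513, 10362), (8514, 10365), (8515, 6954), (8516, 10367), (8517, 10369), (8518, 6956), (8519, 10371), (8520, 6957), (8521, 10374), (8522, 6959), (8523, 8523), (8524, 7010), (8525, 10379), (8526, 10381), (8527, 10383), (8528, 6963), (8529, 10385), (8530, 6964), (8531, 6966), (8532, 7018), (8533, 10388), (8534, 10391), (8535, 6969), (8536, 10393), (8537, 6970), (8538, 10395), (8539, 6971), (8540, 10398), (8541, 6973), (8542, 7059), (8543, 7591), (8544, 10332), (8545, 10406), (8546, 10334), (8547, 10408), (8548, 6978), (8549, 7590), (8550, 10413), (8551, 10337), (8552, 10338), (8553, 10418), (8554, 10421), (8555, 6982), (8556, 10423), (8557, 10425), (8558, 6984), (8559, 10426), (8560, 6985), (8561, 8561), (8562, 10348), (8563, 10431), (8564, 10433), (8565, 10435), (8566, 6990), (8567, 10437), (8568, 6991), (8569, 6993), (8570, 10353), (8571, 10354), (8572, 10443), (8573, 10446), (8574,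 6996), (8575, 10358)]
    ⟨e3 q8512 L171861 q6998, e3 q8513 L249515 q10362, e3 q8514 L249537 q10365, e3 q8515 (flp_i L171877) q6954, e3 q8516 L249550 q10367, e3 q8517 L249564 q10369, e3 q8518 (flp_i L171900) q6956, e3 q8519 L249576 q10371, e3 q8520 (flp_i L171912) q6957, e3 q8521 L249594 q10374, e3 q8522 (flp_i L171925) q6959, e3 q8523 L171937 q8523, e3 q8524 L171946 q7010, e3 q8525 L249636 q10379, e3 q8526 L249655 q10381, e3 q8527 L249672 q10383, e3 q8528 (flp_i L171973) q6963, e3 q8529 L249689 q10385, e3 q8530 (flp_i L171990) q6964, e3 q8531 (flp_i L171999) q6966, e3 q8532 L172013 q7018, e3 q8533 L249724 q10388, e3 q8534 L249749 q10391, e3 q8535 (flp_i L172034) q6969, e3 q8536 L249766 q10393, e3 q8537 (flp_i L172051) q6970, e3 q8538 L249780 q10395, e3 q8539 (flp_i L172068) q6971, e3 q8540 L249804 q10398, e3 q8541 (flp_i L172082) q6973, e3 q8542 L172098 q7059, e3 q8543 (flp_i L552091) q7591, e3 q8544 (flp_i L249159) q10332, e3 q8545 L249876 q10406, e3 q8546 (flp_i L249177) q10334, e3 q8547 L249901 q10408, e3 q8548 (flp_i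 L172147) q6978, e3 q8549 L542967 q7590, e3 q8550 L250006 q10413, e3 q8551 (flp_i L249252) q10337, e3 q8552 (flp_i L249264) q10338, e3 q8553 L250051 q10418, e3 q8554 L250077 q10421, e3 q8555 (flp_i L172229) q6982, e3 q8556 L250095 q10423, e3 q8557 L250112 q10425, e3 q8558 (flp_i L172257) q6984, e3 q8559 L250130 q10426, e3 q8560 (flp_i L172272) q6985, e3 q8561 L172307 q8561, e3 q8562 (flp_i L249372) q10348, e3 q8563 L250204 q10431, e3 q8564 L250224 q10433, e3 q8565 L250243 q10435, e3 q8566 (flp_i L172346) q6990, e3 q8567 L250262 q10437, e3 q8568 (flp_i L172365) q6991, e3 q8569 (flp_i L172376) q6993, e3 q8570 (flp_i L249448) q10353, e3 q8571 (flp_i L249459) q10354, e3 q8572 L250320 q10443, e3 q8573 L250342 q10446, e3 q8574 (flp_i L172415) q6996, e3 q8575 (flp_i L249492) q10358, trivial⟩ (by decide +kernel)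

theorem ce_i_134 : ∀ r, r < 64 → sm gi (Qf (8576 + r)) = Qf (tab Gen.i (8576 + r)) :=
  edges_tab (sm gi) Qf (tab Gen.i) 8576 [(8576, 10450), (8577, 10452), (8578, 10455), (8579, 6999), (8580, 10458), (8581, 10460), (8582, 7000), (8583, 10463), (8584, 7002), (8585, 10465), (8586, 7003), (8587, 10468), (8588, 7005), (8589, 8589), (8590, 10471), (8591, 7007), (8592, 8592), (8593, 10376), (8594, 10475), (8595, 10478), (8596, 7011), (8597, 10480), (8598, 7012), (8599, 10482), (8600, 7013), (8601, 10485), (8602, 7015), (8603, 7089), (8604, 10488), (8605, 10491), (8606, 7019), (8607, 10494), (8608, 10495), (8609, 7020), (8610, 10498), (8611, 7022), (8612, 10501), (8613, 7024), (8614, 7100), (8615, 10503), (8616, 7026), (8617, 7103), (8618, 7952), (8619, 7953), (8620, 7950), (8621, 7914), (8622, 7064), (8623, 7069), (8624, 7070), (8625, 10512), (8626, 7041), (8627, 7074), (8628, 7079), (8629, 7610), (8630, 7606), (8631, 7607), (8632, 7517), (8633, 7514), (8634, 10521), (8635, 10524), (8636, 7050), (8637, 10523), (8638, 10522), (8639,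 7051)]
    ⟨e3 q8576 L250370 q10450, e3 q8577 L250383 q10452, e3 q8578 L250404 q10455, e3 q8579 (flp_i L172450) q6999, e3 q8580 L250423 q10458, e3 q8581 L250439 q10460, e3 q8582 (flp_i L172470) q7000, e3 q8583 L250458 q10463, e3 q8584 (flp_i L172484) q7002, e3 q8585 L250470 q10465, e3 q8586 (flp_i L172497) q7003, e3 q8587 L250489 q10468, e3 q8588 (flp_i L172511) q7005, e3 q8589 L172523 q8589, e3 q8590 L250511 q10471, e3 q8591 (flp_i L172530) q7007, e3 q8592 L172544 q8592, e3 q8593 (flp_i L249613) q10376, e3 q8594 L250550 q10475, e3 q8595 L250575 q10478, e3 q8596 (flp_i L172572) q7011, e3 q8597 L250593 q10480, e3 q8598 (flp_i L172590) q7012, e3 q8599 L250612 q10482, e3 q8600 (flp_i L172606) q7013, e3 q8601 L250638 q10485, e3 q8602 (flp_i L172625) q7015, e3 q8603 L172641 q7089, e3 q8604 L250668 q10488, e3 q8605 L250693 q10491, e3 q8606 (flp_i L172660) q7019, e3 q8607 L250720 q10494, e3 q8608 L250729 q10495, e3 q8609 (flp_i L172684) q7020, e3 q8610 L250754 q10498, e3 q8611 (flp_i L172702) q7022, e3 q8612 L250780 q10501, e3 q8613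 (flp_i L172718) q7024, e3 q8614 L172732 q7100, e3 q8615 L250797 q10503, e3 q8616 (flp_i L172743) q7026, e3 q8617 L172760 q7103, e3 q8618 L543798 q7952, e3 q8619 (flp_i L561390) q7953, e3 q8620 L561445 q7950, e3 q8621 (flp_i L420192) q7914, e3 q8622 L173795 q7064, e3 q8623 L173868 q7069, e3 q8624 L173878 q7070, e3 q8625 L252534 q10512, e3 q8626 (flp_i L173895) q7041, e3 q8627 L173912 q7074, e3 q8628 L174055 q7079, e3 q8629 (flp_i L563160) q7610, e3 q8630 (flp_i L561830) q7606, e3 q8631 L561862 q7607, e3 q8632 L508288 q7517, e3 q8633 L508178 q7514, e3 q8634 L252887 q10521, e3 q8635 L252913 q10524, e3 q8636 (flp_i L174158) q7050, e3 q8637 (flp_i L615553) q10523, e3 q8638 L616007 q10522, e3 q8639 (flp_i L174183) q7051, trivial⟩ (by decide +kernel)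

theorem ce_i_135 : ∀ r, r < 64 → sm gi (Qf (8640 + r)) = Qf (tab Gen.i (8640 + r)) :=
  edges_tab (sm gi) Qf (tab Gen.i) 8640 [(8640, 10506), (8641, 7053), (8642, 10528), (8643, 7055), (8644, 10396), (8645, 10530), (8646, 7057), (8647, 10399), (8648, 7588), (8649, 7589), (8650, 10537), (8651, 7061), (8652, 7587), (8653, 10507), (8654, 7626), (8655, 7627), (8656, 7628), (8657, 7629), (8658, 7630), (8659, 10508), (8660, 10509), (8661, 10551), (8662, 10553), (8663, 10555), (8664, 7071), (8665, 10557), (8666, 7072), (8667, 10513), (8668, 7612), (8669, 7613), (8670, 7614), (8671, 7615), (8672, 7616), (8673, 10566), (8674, 10569), (8675, 7080), (8676, 10572), (8677, 10573), (8678, 7081), (8679, 10576), (8680, 7083), (8681, 10579), (8682, 7085), (8683, 10483), (8684, 10581), (8685, 7087), (8686, 10486), (8687, 10586), (8688, 7090), (8689, 10585), (8690, 10584), (8691, 7091), (8692, 10591), (8693, 7645), (8694, 7093), (8695, 7094), (8696, 10496), (8697, 10595), (8698, 7096), (8699, 10499), (8700, 10597), (8701, 7098), (8702, 10502),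 (8703, 7101)]
    ⟨e3 q8640 L616074 q10506, e3 q8641 (flp_i L174199) q7053, e3 q8642 L252992 q10528, e3 q8643 (flp_i L174212) q7055, e3 q8644 (flp_i L249794) q10396, e3 q8645 L253006 q10530, e3 q8646 (flp_i L174234) q7057, e3 q8647 (flp_i L249819) q10399, e3 q8648 L562205 q7588, e3 q8649 (flp_i L513397) q7589, e3 q8650 L253300 q10537, e3 q8651 (flp_i L174428) q7061, e3 q8652 L489456 q7587, e3 q8653 (flp_i L252399) q10507, e3 q8654 L562949 q7626, e3 q8655 (flp_i L508981) q7627, e3 q8656 (flp_i L562353) q7628, e3 q8657 L508871 q7629, e3 q8658 (flp_i L546516) q7630, e3 q8659 (flp_i L252500) q10508, e3 q8660 (flp_i L252511) q10509, e3 q8661 L253683 q10551, e3 q8662 L253698 q10553, e3 q8663 L253719 q10555, e3 q8664 (flp_i L174700) q7071, e3 q8665 L253742 q10557, e3 q8666 (flp_i L174721) q7072, e3 q8667 (flp_i L252570) q10513, e3 q8668 L562956 q7612, e3 q8669 (flp_i L546370) q7613, e3 q8670 L546160 q7614, e3 q8671 L512886 q7615, e3 q8672 L543424 q7616, e3 q8673 L253988 q10566, e3 q8674 L254012 q10569, e3 q8675 (flp_i L174908) q7080,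 e3 q8676 L254037 q10572, e3 q8677 L254045 q10573, e3 q8678 (flp_i L174931) q7081, e3 q8679 L254071 q10576, e3 q8680 (flp_i L174947) q7083, e3 q8681 L254094 q10579, e3 q8682 (flp_i L174964) q7085, e3 q8683 (flp_i L250626) q10483, e3 q8684 L254110 q10581, e3 q8685 (flp_i L174986) q7087, e3 q8686 (flp_i L250656) q10486, e3 q8687 L254152 q10586, e3 q8688 (flp_i L175012) q7090, e3 q8689 L628488 q10585, e3 q8690 L647126 q10584, e3 q8691 (flp_i L175037) q7091, e3 q8692 L254218 q10591, e3 q8693 L647087 q7645, e3 q8694 (flp_i L175061) q7093, e3 q8695 (flp_i L175071) q7094, e3 q8696 (flp_i L250744) q10496, e3 q8697 L254270 q10595, e3 q8698 (flp_i L175094) q7096, e3 q8699 (flp_i L250770) q10499, e3 q8700 L254288 q10597, e3 q8701 (flp_i L175118) q7098, e3 q8702 (flp_i L250795) q10502, e3 q8703 (flp_i L175134) q7101, trivial⟩ (by decide +kernel)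

theorem ce_i_136 : ∀ r, r < 64 → sm gi (Qf (8704 + r)) = Qf (tab Gen.i (8704 + r)) :=
  edges_tab (sm gi) Qf (tab Gen.i) 8704 [(8704, 10504), (8705, 10505), (8706, 7108), (8707, 7110), (8708, 9770), (8709, 7121), (8710, 7993), (8711, 7122), (8712, 7115), (8713, 7969), (8714, 10603), (8715, 9782), (8716, 10604), (8717, 9775), (8718, 7124), (8719, 7127), (8720, 9777), (8721, 7190), (8722, 7144), (8723, 7145), (8724, 7997), (8725, 7146), (8726, 10611), (8727, 7135), (8728, 7151), (8729, 7139), (8730, 7979), (8731, 10607), (8732, 10608), (8733, 10610), (8734, 9800), (8735, 10618), (8736, 10619), (8737, 7147), (8738, 9788), (8739, 7149), (8740, 9803), (8741, 10620), (8742, 9791), (8743, 10625), (8744, 7153), (8745, 7381), (8746, 7154), (8747, 7158), (8748, 7180), (8749, 7181), (8750, 10632), (8751, 7161), (8752, 7185), (8753, 10633), (8754, 7187), (8755, 10634), (8756, 7164), (8757, 7168), (8758, 7170), (8759, 7841), (8760, 10637), (8761, 7887), (8762, 7840), (8763, 10641), (8764, 10642), (8765, 7174), (8766, 7970), (8767, 10646)]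
    ⟨e3 q8704 (flp_i L250814) q10504, e3 q8705 (flp_i L250822) q10505, e3 q8706 L175339 q7108, e3 q8707 (flp_i L641925) q7110, e3 q8708 L643339 q9770, e3 q8709 L175772 q7121, e3 q8710 L641830 q7993, e3 q8711 L175787 q7122, e3 q8712 (flp_i L175807) q7115, e3 q8713 (flp_i L483983) q7969, e3 q8714 (flp_i L255259) q10603, e3 q8715 (flp_i L644983) q9782, e3 q8716 L645013 q10604, e3 q8717 (flp_i L631275) q9775, e3 q8718 (flp_i L176012) q7124, e3 q8719 L644325 q7127, e3 q8720 L631669 q9777, e3 q8721 L640388 q7190, e3 q8722 L176382 q7144, e3 q8723 L176391 q7145, e3 q8724 L645093 q7997, e3 q8725 L176423 q7146, e3 q8726 L256257 q10611, e3 q8727 (flp_i L176447) q7135, e3 q8728 L176461 q7151, e3 q8729 (flp_i L176487) q7139, e3 q8730 L567696 q7979, e3 q8731 (flp_i L256156) q10607, e3 q8732 (flp_i L256169) q10608, e3 q8733 (flp_i L256230) q10610, e3 q8734 (flp_i L644611) q9800, e3 q8735 L256656 q10618, e3 q8736 L256669 q10619, e3 q8737 (flp_i L176701) q7147, e3 q8738 (flp_i L644728) q9788, e3 q8739 (flp_i L176715) q7149, e3 q8740 L644467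 q9803, e3 q8741 L641000 q10620, e3 q8742 L644573 q9791, e3 q8743 L256739 q10625, e3 q8744 (flp_i L176755) q7153, e3 q8745 L634867 q7381, e3 q8746 (flp_i L176770) q7154, e3 q8747 (flp_i L176930) q7158, e3 q8748 L177032 q7180, e3 q8749 L177042 q7181, e3 q8750 L257193 q10632, e3 q8751 (flp_i L177064) q7161, e3 q8752 L177081 q7185, e3 q8753 L257254 q10633, e3 q8754 L177098 q7187, e3 q8755 L257273 q10634, e3 q8756 (flp_i L177109) q7164, e3 q8757 (flp_i L177152) q7168, e3 q8758 (flp_i L177173) q7170, e3 q8759 L576148 q7841, e3 q8760 L257394 q10637, e3 q8761 L455423 q7887, e3 q8762 L607684 q7840, e3 q8763 L257461 q10641, e3 q8764 L257481 q10642, e3 q8765 (flp_i L177241) q7174, e3 q8766 (flp_i L567559) q7970, e3 q8767 L257523 q10646, trivial⟩ (by decide +kernel)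

theorem ce_i_137 : ∀ r, r < 64 → sm gi (Qf (8768 + r)) = Qf (tab Gen.i (8768 + r)) :=
  edges_tab (sm gi) Qf (tab Gen.i) 8768 [(8768, 7835), (8769, 10648), (8770, 7177), (8771, 10628), (8772, 10629), (8773, 10653), (8774, 10654), (8775, 10656), (8776, 7182), (8777, 10658), (8778, 7183), (8779, 10606), (8780, 9801), (8781, 10662), (8782, 10664), (8783, 7186), (8784, 10665), (8785, 7188), (8786, 10666), (8787, 9923), (8788, 10668), (8789, 7192), (8790, 10670), (8791, 7193), (8792, 7195), (8793, 7197), (8794, 7198), (8795, 7228), (8796, 7229), (8797, 10677), (8798, 7231), (8799, 10679), (8800, 7202), (8801, 7237), (8802, 7238), (8803, 10682), (8804, 10684), (8805, 7205), (8806, 10685), (8807, 7207), (8808, 7244), (8809, 10686), (8810, 7211), (8811, 7212), (8812, 7214), (8813, 7854), (8814, 7853), (8815, 10692), (8816, 7217), (8817, 7900), (8818, 7901), (8819, 10696), (8820, 7851), (8821, 10699), (8822, 10701), (8823, 7220), (8824, 7221), (8825, 7983), (8826, 7982), (8827, 10706), (8828, 10707), (8829, 7224), (8830, 10708), (8831,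 7226)]
    ⟨e3 q8768 (flp_i L621702) q7835, e3 q8769 L257543 q10648, e3 q8770 (flp_i L177285) q7177, e3 q8771 (flp_i L257137) q10628, e3 q8772 (flp_i L257149) q10629, e3 q8773 L257601 q10653, e3 q8774 L257632 q10654, e3 q8775 L257650 q10656, e3 q8776 (flp_i L177352) q7182, e3 q8777 L257670 q10658, e3 q8778 (flp_i L177372) q7183, e3 q8779 L636116 q10606, e3 q8780 (flp_i L645176) q9801, e3 q8781 L257721 q10662, e3 q8782 L257734 q10664, e3 q8783 (flp_i L177410) q7186, e3 q8784 L257743 q10665, e3 q8785 (flp_i L177428) q7188, e3 q8786 L257776 q10666, e3 q8787 (flp_i L641215) q9923, e3 q8788 L257811 q10668, e3 q8789 (flp_i L177469) q7192, e3 q8790 L257826 q10670, e3 q8791 (flp_i L177486) q7193, e3 q8792 (flp_i L177494) q7195, e3 q8793 (flp_i L177695) q7197, e3 q8794 (flp_i L177713) q7198, e3 q8795 L177839 q7228, e3 q8796 L177851 q7229, e3 q8797 L258404 q10677, e3 q8798 L177871 q7231, e3 q8799 L258434 q10679, e3 q8800 (flp_i L177891) q7202, e3 q8801 L177921 q7237, e3 q8802 L177931 q7238, e3 q8803 L258516 q10682, e3 q8804 L258528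 q10684, e3 q8805 (flp_i L177945) q7205, e3 q8806 L258534 q10685, e3 q8807 (flp_i L177961) q7207, e3 q8808 L177980 q7244, e3 q8809 L258569 q10686, e3 q8810 (flp_i L178005) q7211, e3 q8811 (flp_i L178021) q7212, e3 q8812 (flp_i L178026) q7214, e3 q8813 (flp_i L591830) q7854, e3 q8814 (flp_i L576520) q7853, e3 q8815 L258684 q10692, e3 q8816 (flp_i L178074) q7217, e3 q8817 (flp_i L591815) q7900, e3 q8818 (flp_i L591928) q7901, e3 q8819 L258767 q10696, e3 q8820 (flp_i L622248) q7851, e3 q8821 L258796 q10699, e3 q8822 L258813 q10701, e3 q8823 (flp_i L178134) q7220, e3 q8824 (flp_i L178151) q7221, e3 q8825 (flp_i L567708) q7983, e3 q8826 (flp_i L591941) q7982, e3 q8827 L258882 q10706, e3 q8828 L258896 q10707, e3 q8829 (flp_i L178189) q7224, e3 q8830 L258904 q10708, e3 q8831 (flp_i L178206) q7226, trivial⟩ (by decide +kernel)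

theorem ce_i_138 : ∀ r, r < 64 → sm gi (Qf (8832 + r)) = Qf (tab Gen.i (8832 + r)) :=
  edges_tab (sm gi) Qf (tab Gen.i) 8832 [(8832, 10671), (8833, 10712), (8834, 10673), (8835, 10674), (8836, 10717), (8837, 10720), (8838, 7230), (8839, 10721), (8840, 10723), (8841, 7232), (8842, 10725), (8843, 7233), (8844, 10727), (8845, 7235), (8846, 10680), (8847, 10731), (8848, 10733), (8849, 10735), (8850, 7239), (8851, 10737), (8852, 7240), (8853, 7242), (8854, 10622), (8855, 10741), (8856, 10744), (8857, 7245), (8858, 10746), (8859, 7246), (8860, 10748), (8861, 7247), (8862, 10751), (8863, 7249), (8864, 10627), (8865, 10754), (8866, 7252), (8867, 10756), (8868, 7253), (8869, 7255), (8870, 7297), (8871, 10762), (8872, 7299), (8873, 7300), (8874, 10767), (8875, 10769), (8876, 7259), (8877, 10770), (8878, 7261), (8879, 7311), (8880, 10774), (8881, 10776), (8882, 10778), (8883, 7265), (8884, 10780), (8885, 7266), (8886, 7268), (8887, 7319), (8888, 10782), (8889, 10784), (8890, 7271), (8891, 10786), (8892, 7272), (8893, 10788), (8894,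 7273), (8895, 10791)]
    ⟨e3 q8832 (flp_i L258362) q10671, e3 q8833 L258942 q10712, e3 q8834 (flp_i L258376) q10673, e3 q8835 (flp_i L258388) q10674, e3 q8836 L258984 q10717, e3 q8837 L259004 q10720, e3 q8838 (flp_i L178260) q7230, e3 q8839 L259021 q10721, e3 q8840 L259040 q10723, e3 q8841 (flp_i L178289) q7232, e3 q8842 L259060 q10725, e3 q8843 (flp_i L178306) q7233, e3 q8844 L259085 q10727, e3 q8845 (flp_i L178322) q7235, e3 q8846 (flp_i L258492) q10680, e3 q8847 L259125 q10731, e3 q8848 L259140 q10733, e3 q8849 L259153 q10735, e3 q8850 (flp_i L178371) q7239, e3 q8851 L259167 q10737, e3 q8852 (flp_i L178382) q7240, e3 q8853 (flp_i L178389) q7242, e3 q8854 L634965 q10622, e3 q8855 L259193 q10741, e3 q8856 L259217 q10744, e3 q8857 (flp_i L178421) q7245, e3 q8858 L259232 q10746, e3 q8859 (flp_i L178436) q7246, e3 q8860 L259247 q10748, e3 q8861 (flp_i L178453) q7247, e3 q8862 L259269 q10751, e3 q8863 (flp_i L178466) q7249, e3 q8864 (flp_i L256764) q10627, e3 q8865 L259735 q10754, e3 q8866 (flp_i L178758) q7252, e3 q8867 L259752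 q10756, e3 q8868 (flp_i L178776) q7253, e3 q8869 (flp_i L178785) q7255, e3 q8870 L178998 q7297, e3 q8871 L260110 q10762, e3 q8872 L179014 q7299, e3 q8873 L179024 q7300, e3 q8874 L260155 q10767, e3 q8875 L260179 q10769, e3 q8876 (flp_i L179042) q7259, e3 q8877 L260195 q10770, e3 q8878 (flp_i L179070) q7261, e3 q8879 L179126 q7311, e3 q8880 L260294 q10774, e3 q8881 L260310 q10776, e3 q8882 L260326 q10778, e3 q8883 (flp_i L179150) q7265, e3 q8884 L260340 q10780, e3 q8885 (flp_i L179164) q7266, e3 q8886 (flp_i L179171) q7268, e3 q8887 L179186 q7319, e3 q8888 L260369 q10782, e3 q8889 L260392 q10784, e3 q8890 (flp_i L179204) q7271, e3 q8891 L260408 q10786, e3 q8892 (flp_i L179220) q7272, e3 q8893 L260423 q10788, e3 q8894 (flp_i L179240) q7273, e3 q8895 L260447 q10791, trivial⟩ (by decide +kernel)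

theorem ce_i_139 : ∀ r, r < 64 → sm gi (Qf (8896 + r)) = Qf (tab Gen.i (8896 + r)) :=
  edges_tab (sm gi) Qf (tab Gen.i) 8896 [(8896, 7275), (8897, 8897), (8898, 7876), (8899, 7878), (8900, 10799), (8901, 7877), (8902, 10801), (8903, 7280), (8904, 7927), (8905, 10806), (8906, 7930), (8907, 7929), (8908, 10811), (8909, 10814), (8910, 7284), (8911, 10816), (8912, 10818), (8913, 7286), (8914, 10819), (8915, 7287), (8916, 7986), (8917, 10823), (8918, 10825), (8919, 10827), (8920, 7292), (8921, 10829), (8922, 7293), (8923, 7295), (8924, 10758), (8925, 10759), (8926, 10836), (8927, 10839), (8928, 7298), (8929, 10763), (8930, 10843), (8931, 10845), (8932, 10848), (8933, 7301), (8934, 10851), (8935, 10853), (8936, 7302), (8937, 10856), (8938, 7304), (8939, 10858), (8940, 7305), (8941, 10860), (8942, 7307), (8943, 10862), (8944, 7309), (8945, 10771), (8946, 10865), (8947, 10868), (8948, 7312), (8949, 10870), (8950, 7313), (8951, 10872), (8952, 7314), (8953, 10875), (8954, 7316), (8955, 8955), (8956, 10878), (8957, 10881), (8958, 7320),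 (8959, 10884)]
    ⟨e3 q8896 (flp_i L179253) q7275, e3 q8897 L179267 q8897, e3 q8898 L505908 q7876, e3 q8899 (flp_i L554269) q7878, e3 q8900 L260524 q10799, e3 q8901 (flp_i L554242) q7877, e3 q8902 L260554 q10801, e3 q8903 (flp_i L179326) q7280, e3 q8904 L590451 q7927, e3 q8905 L260673 q10806, e3 q8906 (flp_i L483722) q7930, e3 q8907 L575998 q7929, e3 q8908 L260714 q10811, e3 q8909 L260738 q10814, e3 q8910 (flp_i L179410) q7284, e3 q8911 L260755 q10816, e3 q8912 L260773 q10818, e3 q8913 (flp_i L179437) q7286, e3 q8914 L260792 q10819, e3 q8915 (flp_i L179453) q7287, e3 q8916 L567887 q7986, e3 q8917 L260859 q10823, e3 q8918 L260876 q10825, e3 q8919 L260894 q10827, e3 q8920 (flp_i L179521) q7292, e3 q8921 L260910 q10829, e3 q8922 (flp_i L179537) q7293, e3 q8923 (flp_i L179546) q7295, e3 q8924 (flp_i L260080) q10758, e3 q8925 (flp_i L260091) q10759, e3 q8926 L260967 q10836, e3 q8927 L260991 q10839, e3 q8928 (flp_i L179588) q7298, e3 q8929 (flp_i L260128) q10763, e3 q8930 L261021 q10843, e3 q8931 L261036 q10845, e3 q8932 L261061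 q10848, e3 q8933 (flp_i L179629) q7301, e3 q8934 L261082 q10851, e3 q8935 L261096 q10853, e3 q8936 (flp_i L179651) q7302, e3 q8937 L261120 q10856, e3 q8938 (flp_i L179668) q7304, e3 q8939 L261137 q10858, e3 q8940 (flp_i L179686) q7305, e3 q8941 L261164 q10860, e3 q8942 (flp_i L179705) q7307, e3 q8943 L261192 q10862, e3 q8944 (flp_i L179730) q7309, e3 q8945 (flp_i L260276) q10771, e3 q8946 L261232 q10865, e3 q8947 L261251 q10868, e3 q8948 (flp_i L179769) q7312, e3 q8949 L261266 q10870, e3 q8950 (flp_i L179784) q7313, e3 q8951 L261284 q10872, e3 q8952 (flp_i L179799) q7314, e3 q8953 L261306 q10875, e3 q8954 (flp_i L179815) q7316, e3 q8955 L179827 q8955, e3 q8956 L261328 q10878, e3 q8957 L261353 q10881, e3 q8958 (flp_i L179844) q7320, e3 q8959 L261376 q10884, trivial⟩ (by decide +kernel)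

theorem ce_i_140 : ∀ r, r < 64 → sm gi (Qf (8960 + r)) = Qf (tab Gen.i (8960 + r)) :=
  edges_tab (sm gi) Qf (tab Gen.i) 8960 [(8960, 10885), (8961, 7321), (8962, 10888), (8963, 7323), (8964, 10891), (8965, 7325), (8966, 8966), (8967, 10893), (8968, 7327), (8969, 8969), (8970, 7355), (8971, 7356), (8972, 7357), (8973, 10901), (8974, 7332), (8975, 7360), (8976, 10906), (8977, 7362), (8978, 10908), (8979, 7335), (8980, 7365), (8981, 7366), (8982, 10913), (8983, 7368), (8984, 10916), (8985, 10918), (8986, 7340), (8987, 7341), (8988, 7374), (8989, 7375), (8990, 10919), (8991, 10921), (8992, 7344), (8993, 10922), (8994, 7346), (8995, 7350), (8996, 7351), (8997, 7353), (8998, 10896), (8999, 7885), (9000, 10897), (9001, 10898), (9002, 10929), (9003, 7894), (9004, 10931), (9005, 7358), (9006, 10902), (9007, 10903), (9008, 10936), (9009, 10938), (9010, 7361), (9011, 10939), (9012, 7363), (9013, 10635), (9014, 10942), (9015, 10910), (9016, 10688), (9017, 10947), (9018, 10950), (9019, 7367), (9020, 10951), (9021, 10952), (9022, 7369),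 (9023, 10954)]
    ⟨e3 q8960 L261385 q10885, e3 q8961 (flp_i L179866) q7321, e3 q8962 L261406 q10888, e3 q8963 (flp_i L179883) q7323, e3 q8964 L261434 q10891, e3 q8965 (flp_i L179900) q7325, e3 q8966 L179916 q8966, e3 q8967 L261452 q10893, e3 q8968 (flp_i L179925) q7327, e3 q8969 L179940 q8969, e3 q8970 L179950 q7355, e3 q8971 L179968 q7356, e3 q8972 L179978 q7357, e3 q8973 L261586 q10901, e3 q8974 (flp_i L180001) q7332, e3 q8975 L180020 q7360, e3 q8976 L261657 q10906, e3 q8977 L180039 q7362, e3 q8978 L261679 q10908, e3 q8979 (flp_i L180052) q7335, e3 q8980 L180068 q7365, e3 q8981 L180079 q7366, e3 q8982 L261735 q10913, e3 q8983 L180096 q7368, e3 q8984 L261762 q10916, e3 q8985 L261778 q10918, e3 q8986 (flp_i L180116) q7340, e3 q8987 (flp_i L180134) q7341, e3 q8988 L180147 q7374, e3 q8989 L180157 q7375, e3 q8990 L261847 q10919, e3 q8991 L261863 q10921, e3 q8992 (flp_i L180177) q7344, e3 q8993 L261872 q10922, e3 q8994 (flp_i L180197) q7346, e3 q8995 (flp_i L180238) q7350, e3 q8996 (flp_i L180254) q7351, e3 q8997 (flp_i L180262)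 q7353, e3 q8998 (flp_i L261482) q10896, e3 q8999 L612459 q7885, e3 q9000 (flp_i L261528) q10897, e3 q9001 (flp_i L261541) q10898, e3 q9002 L262113 q10929, e3 q9003 (flp_i L622611) q7894, e3 q9004 L262145 q10931, e3 q9005 (flp_i L180373) q7358, e3 q9006 (flp_i L261624) q10902, e3 q9007 (flp_i L261635) q10903, e3 q9008 L262246 q10936, e3 q9009 L262264 q10938, e3 q9010 (flp_i L180441) q7361, e3 q9011 L262275 q10939, e3 q9012 (flp_i L180462) q7363, e3 q9013 L611973 q10635, e3 q9014 L262314 q10942, e3 q9015 (flp_i L261710) q10910, e3 q9016 L611256 q10688, e3 q9017 L262349 q10947, e3 q9018 L262369 q10950, e3 q9019 (flp_i L180511) q7367, e3 q9020 L262386 q10951, e3 q9021 L262403 q10952, e3 q9022 (flp_i L180537) q7369, e3 q9023 L262422 q10954, trivial⟩ (by decide +kernel)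

theorem ce_i_141 : ∀ r, r < 64 → sm gi (Qf (9024 + r)) = Qf (tab Gen.i (9024 + r)) :=
  edges_tab (sm gi) Qf (tab Gen.i) 9024 [(9024, 7370), (9025, 10956), (9026, 7372), (9027, 10626), (9028, 10960), (9029, 10962), (9030, 10964), (9031, 7376), (9032, 10966), (9033, 7377), (9034, 7379), (9035, 10624), (9036, 10752), (9037, 10971), (9038, 7382), (9039, 10973), (9040, 7383), (9041, 10975), (9042, 7384), (9043, 10978), (9044, 7386), (9045, 9045), (9046, 7422), (9047, 7423), (9048, 7424), (9049, 7425), (9050, 10987), (9051, 7427), (9052, 10989), (9053, 7392), (9054, 7430), (9055, 7431), (9056, 10994), (9057, 10996), (9058, 7395), (9059, 10997), (9060, 7397), (9061, 7437), (9062, 11001), (9063, 7439), (9064, 7440), (9065, 11006), (9066, 11009), (9067, 7401), (9068, 11011), (9069, 11013), (9070, 7403), (9071, 11014), (9072, 7404), (9073, 7451), (9074, 11018), (9075, 11019), (9076, 11021), (9077, 7409), (9078, 11023), (9079, 7410), (9080, 7412), (9081, 7459), (9082, 11025), (9083, 11027), (9084, 7415), (9085, 7416), (9086, 7417),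 (9087, 11030)]
    ⟨e3 q9024 (flp_i L180552) q7370, e3 q9025 L262447 q10956, e3 q9026 (flp_i L180570) q7372, e3 q9027 L641147 q10626, e3 q9028 L262490 q10960, e3 q9029 L262508 q10962, e3 q9030 L262525 q10964, e3 q9031 (flp_i L180622) q7376, e3 q9032 L262544 q10966, e3 q9033 (flp_i L180637) q7377, e3 q9034 (flp_i L180647) q7379, e3 q9035 L641131 q10624, e3 q9036 L634823 q10752, e3 q9037 L262598 q10971, e3 q9038 (flp_i L180679) q7382, e3 q9039 L262615 q10973, e3 q9040 (flp_i L180695) q7383, e3 q9041 L262633 q10975, e3 q9042 (flp_i L180712) q7384, e3 q9043 L262658 q10978, e3 q9044 (flp_i L180728) q7386, e3 q9045 L180744 q9045, e3 q9046 L180750 q7422, e3 q9047 L180759 q7423, e3 q9048 L180791 q7424, e3 q9049 L180804 q7425, e3 q9050 L262813 q10987, e3 q9051 L180824 q7427, e3 q9052 L262844 q10989, e3 q9053 (flp_i L180845) q7392, e3 q9054 L180879 q7430, e3 q9055 L180891 q7431, e3 q9056 L262938 q10994, e3 q9057 L262955 q10996, e3 q9058 (flp_i L180909) q7395, e3 q9059 L262963 q10997, e3 q9060 (flp_i L180928) q7397, e3 q9061 L180947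 q7437, e3 q9062 L263002 q11001, e3 q9063 L180958 q7439, e3 q9064 L180968 q7440, e3 q9065 L263039 q11006, e3 q9066 L263057 q11009, e3 q9067 (flp_i L180980) q7401, e3 q9068 L263070 q11011, e3 q9069 L263087 q11013, e3 q9070 (flp_i L181005) q7403, e3 q9071 L263103 q11014, e3 q9072 (flp_i L181020) q7404, e3 q9073 L181057 q7451, e3 q9074 L263164 q11018, e3 q9075 L263182 q11019, e3 q9076 L263198 q11021, e3 q9077 (flp_i L181083) q7409, e3 q9078 L263213 q11023, e3 q9079 (flp_i L181097) q7410, e3 q9080 (flp_i L181104) q7412, e3 q9081 L181121 q7459, e3 q9082 L263241 q11025, e3 q9083 L263265 q11027, e3 q9084 (flp_i L181138) q7415, e3 q9085 (flp_i L181154) q7416, e3 q9086 (flp_i L181170) q7417, e3 q9087 L263315 q11030, trivial⟩ (by decide +kernel)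

theorem ce_i_142 : ∀ r, r < 64 → sm gi (Qf (9088 + r)) = Qf (tab Gen.i (9088 + r)) :=
  edges_tab (sm gi) Qf (tab Gen.i) 9088 [(9088, 7419), (9089, 9089), (9090, 10926), (9091, 10980), (9092, 7895), (9093, 10981), (9094, 11037), (9095, 10983), (9096, 10984), (9097, 11042), (9098, 11044), (9099, 7426), (9100, 11045), (9101, 7428), (9102, 10990), (9103, 11049), (9104, 11051), (9105, 11053), (9106, 7432), (9107, 11055), (9108, 7433), (9109, 7435), (9110, 10998), (9111, 10689), (9112, 11061), (9113, 11064), (9114, 7438), (9115, 11002), (9116, 11068), (9117, 11070), (9118, 11073), (9119, 7441), (9120, 11076), (9121, 11078), (9122, 7442), (9123, 11080), (9124, 7444), (9125, 11082), (9126, 7445), (9127, 11084), (9128, 7447), (9129, 11086), (9130, 7449), (9131, 11015), (9132, 11089), (9133, 11092), (9134, 7452), (9135, 11094), (9136, 7453), (9137, 11096), (9138, 7454), (9139, 11099), (9140, 7456), (9141, 9141), (9142, 11102), (9143, 11105), (9144, 7460), (9145, 11108), (9146, 11109), (9147, 7461), (9148, 11112), (9149, 7463), (9150,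 11115), (9151, 7465)]
    ⟨e3 q9088 (flp_i L181182) q7419, e3 q9089 L181194 q9089, e3 q9090 L617625 q10926, e3 q9091 (flp_i L262691) q10980, e3 q9092 (flp_i L622258) q7895, e3 q9093 (flp_i L262770) q10981, e3 q9094 L263504 q11037, e3 q9095 (flp_i L262785) q10983, e3 q9096 (flp_i L262797) q10984, e3 q9097 L263547 q11042, e3 q9098 L263569 q11044, e3 q9099 (flp_i L181319) q7426, e3 q9100 L263587 q11045, e3 q9101 (flp_i L181349) q7428, e3 q9102 (flp_i L262909) q10990, e3 q9103 L263704 q11049, e3 q9104 L263723 q11051, e3 q9105 L263741 q11053, e3 q9106 (flp_i L181443) q7432, e3 q9107 L263758 q11055, e3 q9108 (flp_i L181459) q7433, e3 q9109 (flp_i L181468) q7435, e3 q9110 (flp_i L262980) q10998, e3 q9111 L607008 q10689, e3 q9112 L263806 q11061, e3 q9113 L263824 q11064, e3 q9114 (flp_i L181502) q7438, e3 q9115 (flp_i L263017) q11002, e3 q9116 L263848 q11068, e3 q9117 L263860 q11070, e3 q9118 L263880 q11073, e3 q9119 (flp_i L181535) q7441, e3 q9120 L263896 q11076, e3 q9121 L263906 q11078, e3 q9122 (flp_i L181551) q7442, e3 q9123 L263922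 q11080, e3 q9124 (flp_i L181565) q7444, e3 q9125 L263940 q11082, e3 q9126 (flp_i L181581) q7445, e3 q9127 L263966 q11084, e3 q9128 (flp_i L181599) q7447, e3 q9129 L263990 q11086, e3 q9130 (flp_i L181621) q7449, e3 q9131 (flp_i L263145) q11015, e3 q9132 L264029 q11089, e3 q9133 L264053 q11092, e3 q9134 (flp_i L181661) q7452, e3 q9135 L264068 q11094, e3 q9136 (flp_i L181678) q7453, e3 q9137 L264087 q11096, e3 q9138 (flp_i L181693) q7454, e3 q9139 L264111 q11099, e3 q9140 (flp_i L181710) q7456, e3 q9141 L181722 q9141, e3 q9142 L264132 q11102, e3 q9143 L264157 q11105, e3 q9144 (flp_i L181738) q7460, e3 q9145 L264179 q11108, e3 q9146 L264186 q11109, e3 q9147 (flp_i L181761) q7461, e3 q9148 L264208 q11112, e3 q9149 (flp_i L181776) q7463, e3 q9150 L264233 q11115, e3 q9151 (flp_i L181792) q7465, trivial⟩ (by decide +kernel)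

theorem ce_i_143 : ∀ r, r < 64 → sm gi (Qf (9152 + r)) = Qf (tab Gen.i (9152 + r)) :=
  edges_tab (sm gi) Qf (tab Gen.i) 9152 [(9152, 9152), (9153, 11117), (9154, 7467), (9155, 9155), (9156, 7515), (9157, 7516), (9158, 7519), (9159, 7520), (9160, 11126), (9161, 11127), (9162, 7473), (9163, 11128), (9164, 7475), (9165, 7526), (9166, 11131), (9167, 11132), (9168, 7479), (9169, 7481), (9170, 7534), (9171, 7535), (9172, 11138), (9173, 11140), (9174, 7484), (9175, 7539), (9176, 11144), (9177, 11146), (9178, 11149), (9179, 7487), (9180, 11152), (9181, 11153), (9182, 7488), (9183, 11156), (9184, 7490), (9185, 11158), (9186, 7491), (9187, 7493), (9188, 7555), (9189, 11161), (9190, 11164), (9191, 7496), (9192, 11166), (9193, 7497), (9194, 11168), (9195, 7498), (9196, 11170), (9197, 7500), (9198, 11172), (9199, 11175), (9200, 7504), (9201, 11178), (9202, 11179), (9203, 7505), (9204, 11182), (9205, 7507), (9206, 11185), (9207, 7509), (9208, 7602), (9209, 11187), (9210, 7511), (9211, 7605), (9212, 10519), (9213, 11193), (9214, 11120),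 (9215, 11121)]
    ⟨e3 q9152 L181808 q9152, e3 q9153 L264251 q11117, e3 q9154 (flp_i L181815) q7467, e3 q9155 L181828 q9155, e3 q9156 L181845 q7515, e3 q9157 L181862 q7516, e3 q9158 L181939 q7519, e3 q9159 L181949 q7520, e3 q9160 L264511 q11126, e3 q9161 L264537 q11127, e3 q9162 (flp_i L181967) q7473, e3 q9163 L264554 q11128, e3 q9164 (flp_i L181996) q7475, e3 q9165 L182059 q7526, e3 q9166 L264666 q11131, e3 q9167 L264686 q11132, e3 q9168 (flp_i L182088) q7479, e3 q9169 (flp_i L182116) q7481, e3 q9170 L182133 q7534, e3 q9171 L182143 q7535, e3 q9172 L264782 q11138, e3 q9173 L264806 q11140, e3 q9174 (flp_i L182159) q7484, e3 q9175 L182174 q7539, e3 q9176 L264830 q11144, e3 q9177 L264843 q11146, e3 q9178 L264866 q11149, e3 q9179 (flp_i L182195) q7487, e3 q9180 L264883 q11152, e3 q9181 L264895 q11153, e3 q9182 (flp_i L182215) q7488, e3 q9183 L264915 q11156, e3 q9184 (flp_i L182228) q7490, e3 q9185 L264928 q11158, e3 q9186 (flp_i L182244) q7491, e3 q9187 (flp_i L182259) q7493, e3 q9188 L182300 q7555, e3 q9189 L265010 q11161, e3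 q9190 L265033 q11164, e3 q9191 (flp_i L182319) q7496, e3 q9192 L265049 q11166, e3 q9193 (flp_i L182337) q7497, e3 q9194 L265068 q11168, e3 q9195 (flp_i L182355) q7498, e3 q9196 L265094 q11170, e3 q9197 (flp_i L182372) q7500, e3 q9198 L265118 q11172, e3 q9199 L265143 q11175, e3 q9200 (flp_i L182403) q7504, e3 q9201 L265166 q11178, e3 q9202 L265173 q11179, e3 q9203 (flp_i L182425) q7505, e3 q9204 L265196 q11182, e3 q9205 (flp_i L182441) q7507, e3 q9206 L265224 q11185, e3 q9207 (flp_i L182457) q7509, e3 q9208 L182473 q7602, e3 q9209 L265241 q11187, e3 q9210 (flp_i L182482) q7511, e3 q9211 L182495 q7605, e3 q9212 (flp_i L552155) q10519, e3 q9213 L265312 q11193, e3 q9214 (flp_i L264301) q11120, e3 q9215 (flp_i L264310) q11121, trivial⟩ (by decide +kernel)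

theorem ce_i_144 : ∀ r, r < 64 → sm gi (Qf (9216 + r)) = Qf (tab Gen.i (9216 + r)) :=
  edges_tab (sm gi) Qf (tab Gen.i) 9216 [(9216, 10516), (9217, 10518), (9218, 11200), (9219, 11201), (9220, 7518), (9221, 11122), (9222, 11205), (9223, 11207), (9224, 11209), (9225, 7521), (9226, 11211), (9227, 7522), (9228, 7524), (9229, 11129), (9230, 11215), (9231, 11218), (9232, 7527), (9233, 11220), (9234, 7528), (9235, 11222), (9236, 7529), (9237, 11224), (9238, 7531), (9239, 11133), (9240, 11134), (9241, 11230), (9242, 11232), (9243, 11235), (9244, 7536), (9245, 11238), (9246, 11240), (9247, 7537), (9248, 11141), (9249, 11244), (9250, 11247), (9251, 7540), (9252, 11250), (9253, 7541), (9254, 11253), (9255, 11255), (9256, 7542), (9257, 11259), (9258, 11261), (9259, 7544), (9260, 11264), (9261, 7545), (9262, 11241), (9263, 11267), (9264, 7547), (9265, 11269), (9266, 7549), (9267, 11271), (9268, 7551), (9269, 11272), (9270, 7553), (9271, 11274), (9272, 11277), (9273, 7556), (9274, 11280), (9275, 11281), (9276, 7557), (9277, 11284), (9278,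 7559), (9279, 11287)]
    ⟨e3 q9216 L546979 q10516, e3 q9217 L561834 q10518, e3 q9218 L265562 q11200, e3 q9219 L265590 q11201, e3 q9220 (flp_i L182678) q7518, e3 q9221 (flp_i L264484) q11122, e3 q9222 L265620 q11205, e3 q9223 L265635 q11207, e3 q9224 L265662 q11209, e3 q9225 (flp_i L182720) q7521, e3 q9226 L265684 q11211, e3 q9227 (flp_i L182744) q7522, e3 q9228 (flp_i L182762) q7524, e3 q9229 (flp_i L264645) q11129, e3 q9230 L265850 q11215, e3 q9231 L265876 q11218, e3 q9232 (flp_i L182876) q7527, e3 q9233 L265896 q11220, e3 q9234 (flp_i L182895) q7528, e3 q9235 L265917 q11222, e3 q9236 (flp_i L182915) q7529, e3 q9237 L265948 q11224, e3 q9238 (flp_i L182934) q7531, e3 q9239 (flp_i L264747) q11133, e3 q9240 (flp_i L264759) q11134, e3 q9241 L266004 q11230, e3 q9242 L266017 q11232, e3 q9243 L266042 q11235, e3 q9244 (flp_i L182988) q7536, e3 q9245 L266063 q11238, e3 q9246 L266077 q11240, e3 q9247 (flp_i L183010) q7537, e3 q9248 (flp_i L264815) q11141, e3 q9249 L266102 q11244, e3 q9250 L266118 q11247, e3 q9251 (flp_i L183032) q7540,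 e3 q9252 L266138 q11250, e3 q9253 (flp_i L183043) q7541, e3 q9254 L266159 q11253, e3 q9255 L266171 q11255, e3 q9256 (flp_i L183064) q7542, e3 q9257 L266195 q11259, e3 q9258 L266209 q11261, e3 q9259 (flp_i L183082) q7544, e3 q9260 L266227 q11264, e3 q9261 (flp_i L183094) q7545, e3 q9262 (flp_i L266087) q11241, e3 q9263 L266247 q11267, e3 q9264 (flp_i L183113) q7547, e3 q9265 L266273 q11269, e3 q9266 (flp_i L183128) q7549, e3 q9267 L266298 q11271, e3 q9268 (flp_i L183152) q7551, e3 q9269 L266322 q11272, e3 q9270 (flp_i L183177) q7553, e3 q9271 L266360 q11274, e3 q9272 L266385 q11277, e3 q9273 (flp_i L183214) q7556, e3 q9274 L266411 q11280, e3 q9275 L266417 q11281, e3 q9276 (flp_i L183236) q7557, e3 q9277 L266444 q11284, e3 q9278 (flp_i L183253) q7559, e3 q9279 L266474 q11287, trivial⟩ (by decide +kernel)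

theorem ce_i_145 : ∀ r, r < 64 → sm gi (Qf (9280 + r)) = Qf (tab Gen.i (9280 + r)) :=
  edges_tab (sm gi) Qf (tab Gen.i) 9280 [(9280, 7561), (9281, 7641), (9282, 11289), (9283, 7563), (9284, 7644), (9285, 11292), (9286, 7566), (9287, 11294), (9288, 11295), (9289, 7567), (9290, 11299), (9291, 11296), (9292, 7569), (9293, 7570), (9294, 7651), (9295, 11302), (9296, 7572), (9297, 7653), (9298, 11303), (9299, 7574), (9300, 7656), (9301, 7577), (9302, 7658), (9303, 7659), (9304, 7611), (9305, 7617), (9306, 7618), (9307, 11313), (9308, 11314), (9309, 7583), (9310, 7625), (9311, 10538), (9312, 10534), (9313, 10409), (9314, 10533), (9315, 10410), (9316, 10400), (9317, 9956), (9318, 11324), (9319, 7592), (9320, 11323), (9321, 11322), (9322, 7593), (9323, 11328), (9324, 10520), (9325, 7595), (9326, 7596), (9327, 11180), (9328, 11332), (9329, 7598), (9330, 11183), (9331, 11334), (9332, 7600), (9333, 11186), (9334, 7603), (9335, 11188), (9336, 11189), (9337, 10517), (9338, 10515), (9339, 11342), (9340, 11343), (9341, 7608), (9342, 10514),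 (9343, 10558)]
    ⟨e3 q9280 (flp_i L183274) q7561, e3 q9281 L183290 q7641, e3 q9282 L266494 q11289, e3 q9283 (flp_i L183301) q7563, e3 q9284 L183317 q7644, e3 q9285 L266534 q11292, e3 q9286 (flp_i L183327) q7566, e3 q9287 L266561 q11294, e3 q9288 L266570 q11295, e3 q9289 (flp_i L183351) q7567, e3 q9290 L266603 q11299, e3 q9291 (flp_i L646944) q11296, e3 q9292 (flp_i L183375) q7569, e3 q9293 (flp_i L183382) q7570, e3 q9294 L183394 q7651, e3 q9295 L266651 q11302, e3 q9296 (flp_i L183405) q7572, e3 q9297 L183423 q7653, e3 q9298 L266672 q11303, e3 q9299 (flp_i L183434) q7574, e3 q9300 L183451 q7656, e3 q9301 (flp_i L183453) q7577, e3 q9302 L183468 q7658, e3 q9303 L183474 q7659, e3 q9304 L183847 q7611, e3 q9305 L183940 q7617, e3 q9306 L183952 q7618, e3 q9307 L267433 q11313, e3 q9308 L267448 q11314, e3 q9309 (flp_i L183974) q7583, e3 q9310 L184008 q7625, e3 q9311 L563009 q10538, e3 q9312 L563022 q10534, e3 q9313 L542853 q10409, e3 q9314 L542830 q10533, e3 q9315 (flp_i L542946) q10410, e3 q9316 L552076 q10400, e3 q9317 L551301 q9956,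 e3 q9318 L267913 q11324, e3 q9319 (flp_i L184293) q7592, e3 q9320 L615605 q11323, e3 q9321 L615850 q11322, e3 q9322 (flp_i L184318) q7593, e3 q9323 L267975 q11328, e3 q9324 (flp_i L615883) q10520, e3 q9325 (flp_i L184338) q7595, e3 q9326 (flp_i L184346) q7596, e3 q9327 (flp_i L265186) q11180, e3 q9328 L268017 q11332, e3 q9329 (flp_i L184367) q7598, e3 q9330 (flp_i L265214) q11183, e3 q9331 L268035 q11334, e3 q9332 (flp_i L184393) q7600, e3 q9333 (flp_i L265239) q11186, e3 q9334 (flp_i L184409) q7603, e3 q9335 (flp_i L265254) q11188, e3 q9336 (flp_i L265260) q11189, e3 q9337 L513255 q10517, e3 q9338 (flp_i L490504) q10515, e3 q9339 L268320 q11342, e3 q9340 L268336 q11343, e3 q9341 (flp_i L184601) q7608, e3 q9342 (flp_i L490075) q10514, e3 q9343 (flp_i L562292) q10558, trivial⟩ (by decide +kernel)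

theorem ce_i_146 : ∀ r, r < 64 → sm gi (Qf (9344 + r)) = Qf (tab Gen.i (9344 + r)) :=
  edges_tab (sm gi) Qf (tab Gen.i) 9344 [(9344, 10559), (9345, 10560), (9346, 10561), (9347, 10562), (9348, 10563), (9349, 10564), (9350, 11309), (9351, 11353), (9352, 11311), (9353, 11356), (9354, 11359), (9355, 7619), (9356, 11361), (9357, 7620), (9358, 11363), (9359, 7621), (9360, 11365), (9361, 7623), (9362, 10539), (9363, 10540), (9364, 10541), (9365, 10542), (9366, 10543), (9367, 10544), (9368, 10545), (9369, 10590), (9370, 7631), (9371, 11376), (9372, 7650), (9373, 7632), (9374, 11375), (9375, 11374), (9376, 7634), (9377, 7635), (9378, 11282), (9379, 7826), (9380, 7637), (9381, 11285), (9382, 11382), (9383, 7639), (9384, 11288), (9385, 7642), (9386, 11290), (9387, 11291), (9388, 11346), (9389, 7814), (9390, 7654), (9391, 11304), (9392, 11305), (9393, 11306), (9394, 11307), (9395, 11308), (9396, 7660), (9397, 7661), (9398, 11390), (9399, 7663), (9400, 11391), (9401, 7664), (9402, 7666), (9403, 7668), (9404, 11395), (9405, 11397), (9406,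 7669), (9407, 11399)]
    ⟨e3 q9344 L509036 q10559, e3 q9345 (flp_i L546238) q10560, e3 q9346 L546196 q10561, e3 q9347 L546140 q10562, e3 q9348 (flp_i L543412) q10563, e3 q9349 (flp_i L543180) q10564, e3 q9350 (flp_i L267402) q11309, e3 q9351 L268690 q11353, e3 q9352 (flp_i L267416) q11311, e3 q9353 L268712 q11356, e3 q9354 L268731 q11359, e3 q9355 (flp_i L184876) q7619, e3 q9356 L268746 q11361, e3 q9357 (flp_i L184890) q7620, e3 q9358 L268763 q11363, e3 q9359 (flp_i L184905) q7621, e3 q9360 L268785 q11365, e3 q9361 (flp_i L184920) q7623, e3 q9362 (flp_i L562303) q10539, e3 q9363 L562337 q10540, e3 q9364 L546481 q10541, e3 q9365 (flp_i L546382) q10542, e3 q9366 L546477 q10543, e3 q9367 L546497 q10544, e3 q9368 (flp_i L543211) q10545, e3 q9369 L646852 q10590, e3 q9370 (flp_i L185046) q7631, e3 q9371 L268980 q11376, e3 q9372 (flp_i L647077) q7650, e3 q9373 (flp_i L185069) q7632, e3 q9374 L646475 q11375, e3 q9375 L646481 q11374, e3 q9376 (flp_i L185091) q7634, e3 q9377 (flp_i L185097) q7635, e3 q9378 (flp_i L266431) q11282, e3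 q9379 L629369 q7826, e3 q9380 (flp_i L185121) q7637, e3 q9381 (flp_i L266462) q11285, e3 q9382 L269085 q11382, e3 q9383 (flp_i L185147) q7639, e3 q9384 (flp_i L266492) q11288, e3 q9385 (flp_i L185165) q7642, e3 q9386 (flp_i L266512) q11290, e3 q9387 (flp_i L266517) q11291, e3 q9388 L629668 q11346, e3 q9389 (flp_i L629617) q7814, e3 q9390 (flp_i L185328) q7654, e3 q9391 (flp_i L266689) q11304, e3 q9392 (flp_i L266696) q11305, e3 q9393 (flp_i L266706) q11306, e3 q9394 (flp_i L266713) q11307, e3 q9395 (flp_i L266719) q11308, e3 q9396 (flp_i L185534) q7660, e3 q9397 (flp_i L185566) q7661, e3 q9398 L269868 q11390, e3 q9399 (flp_i L185661) q7663, e3 q9400 L269884 q11391, e3 q9401 (flp_i L185679) q7664, e3 q9402 (flp_i L185689) q7666, e3 q9403 (flp_i L185779) q7668, e3 q9404 L270068 q11395, e3 q9405 L270085 q11397, e3 q9406 (flp_i L185803) q7669, e3 q9407 L270110 q11399, trivial⟩ (by decide +kernel)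

theorem ce_i_147 : ∀ r, r < 64 → sm gi (Qf (9408 + r)) = Qf (tab Gen.i (9408 + r)) :=
  edges_tab (sm gi) Qf (tab Gen.i) 9408 [(9408, 7671), (9409, 11400), (9410, 7672), (9411, 11402), (9412, 7674), (9413, 11398), (9414, 7676), (9415, 11405), (9416, 7678), (9417, 11406), (9418, 7679), (9419, 11408), (9420, 7680), (9421, 11411), (9422, 7682), (9423, 9423), (9424, 11415), (9425, 7685), (9426, 11418), (9427, 11419), (9428, 7686), (9429, 11422), (9430, 7688), (9431, 11425), (9432, 7690), (9433, 9433), (9434, 11427), (9435, 7692), (9436, 9436), (9437, 7695), (9438, 11430), (9439, 7696), (9440, 7698), (9441, 11433), (9442, 7700), (9443, 11434), (9444, 7701), (9445, 11435), (9446, 7702), (9447, 11438), (9448, 7704), (9449, 9449), (9450, 11442), (9451, 11444), (9452, 7707), (9453, 7709), (9454, 7710), (9455, 11447), (9456, 11449), (9457, 7711), (9458, 11453), (9459, 11455), (9460, 7713), (9461, 11458), (9462, 7714), (9463, 11403), (9464, 11461), (9465, 7716), (9466, 11463), (9467, 7718), (9468, 11465), (9469, 7720), (9470, 11450),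 (9471, 7722)]
    ⟨e3 q9408 (flp_i L185821) q7671, e3 q9409 L270126 q11400, e3 q9410 (flp_i L185839) q7672, e3 q9411 L270149 q11402, e3 q9412 (flp_i L185856) q7674, e3 q9413 (flp_i L648755) q11398, e3 q9414 (flp_i L185880) q7676, e3 q9415 L270244 q11405, e3 q9416 (flp_i L185925) q7678, e3 q9417 L270260 q11406, e3 q9418 (flp_i L185943) q7679, e3 q9419 L270277 q11408, e3 q9420 (flp_i L185959) q7680, e3 q9421 L270299 q11411, e3 q9422 (flp_i L185975) q7682, e3 q9423 L185990 q9423, e3 q9424 L270352 q11415, e3 q9425 (flp_i L186009) q7685, e3 q9426 L270375 q11418, e3 q9427 L270384 q11419, e3 q9428 (flp_i L186033) q7686, e3 q9429 L270407 q11422, e3 q9430 (flp_i L186050) q7688, e3 q9431 L270433 q11425, e3 q9432 (flp_i L186065) q7690, e3 q9433 L186079 q9433, e3 q9434 L270448 q11427, e3 q9435 (flp_i L186088) q7692, e3 q9436 L186104 q9436, e3 q9437 (flp_i L186361) q7695, e3 q9438 L270926 q11430, e3 q9439 (flp_i L186385) q7696, e3 q9440 (flp_i L186402) q7698, e3 q9441 L271110 q11433, e3 q9442 (flp_i L186510) q7700, e3 q9443 L271127 q11434,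 e3 q9444 (flp_i L186529) q7701, e3 q9445 L271142 q11435, e3 q9446 (flp_i L186546) q7702, e3 q9447 L271166 q11438, e3 q9448 (flp_i L186560) q7704, e3 q9449 L186574 q9449, e3 q9450 L271267 q11442, e3 q9451 L271281 q11444, e3 q9452 (flp_i L186630) q7707, e3 q9453 (flp_i L186662) q7709, e3 q9454 (flp_i L186678) q7710, e3 q9455 L271378 q11447, e3 q9456 L271391 q11449, e3 q9457 (flp_i L186701) q7711, e3 q9458 L271417 q11453, e3 q9459 L271430 q11455, e3 q9460 (flp_i L186718) q7713, e3 q9461 L271447 q11458, e3 q9462 (flp_i L186731) q7714, e3 q9463 (flp_i L633585) q11403, e3 q9464 L271469 q11461, e3 q9465 (flp_i L186750) q7716, e3 q9466 L271495 q11463, e3 q9467 (flp_i L186766) q7718, e3 q9468 L271518 q11465, e3 q9469 (flp_i L186790) q7720, e3 q9470 (flp_i L648246) q11450, e3 q9471 (flp_i L186812) q7722, trivial⟩ (by decide +kernel)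

theorem ce_i_148 : ∀ r, r < 64 → sm gi (Qf (9472 + r)) = Qf (tab Gen.i (9472 + r)) :=
  edges_tab (sm gi) Qf (tab Gen.i) 9472 [(9472, 11466), (9473, 7724), (9474, 11469), (9475, 11470), (9476, 7725), (9477, 11473), (9478, 7727), (9479, 11476), (9480, 7729), (9481, 9481), (9482, 11478), (9483, 7731), (9484, 9484), (9485, 7734), (9486, 11482), (9487, 7735), (9488, 11486), (9489, 11487), (9490, 7737), (9491, 7738), (9492, 9492), (9493, 11491), (9494, 7740), (9495, 9495), (9496, 11493), (9497, 7742), (9498, 9498), (9499, 7745), (9500, 9500), (9501, 9501), (9502, 11500), (9503, 7748), (9504, 11502), (9505, 7749), (9506, 11504), (9507, 7750), (9508, 11507), (9509, 7752), (9510, 9510), (9511, 11510), (9512, 7755), (9513, 11513), (9514, 11514), (9515, 7756), (9516, 11517), (9517, 7758), (9518, 11520), (9519, 7760), (9520, 7820), (9521, 11522), (9522, 7762), (9523, 7823), (9524, 11526), (9525, 7765), (9526, 11529), (9527, 11531), (9528, 7766), (9529, 11535), (9530, 11537), (9531, 7768), (9532, 11541), (9533, 11543), (9534, 7770),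 (9535, 11546)]
    ⟨e3 q9472 L271607 q11466, e3 q9473 (flp_i L186854) q7724, e3 q9474 L271631 q11469, e3 q9475 L271638 q11470, e3 q9476 (flp_i L186879) q7725, e3 q9477 L271663 q11473, e3 q9478 (flp_i L186893) q7727, e3 q9479 L271684 q11476, e3 q9480 (flp_i L186908) q7729, e3 q9481 L186921 q9481, e3 q9482 L271699 q11478, e3 q9483 (flp_i L186928) q7731, e3 q9484 L186940 q9484, e3 q9485 (flp_i L186948) q7734, e3 q9486 L271760 q11482, e3 q9487 (flp_i L186975) q7735, e3 q9488 L271802 q11486, e3 q9489 L271817 q11487, e3 q9490 (flp_i L186998) q7737, e3 q9491 (flp_i L187007) q7738, e3 q9492 L187022 q9492, e3 q9493 L271848 q11491, e3 q9494 (flp_i L187029) q7740, e3 q9495 L187043 q9495, e3 q9496 L271863 q11493, e3 q9497 (flp_i L187051) q7742, e3 q9498 L187065 q9498, e3 q9499 (flp_i L187066) q7745, e3 q9500 L187078 q9500, e3 q9501 L187083 q9501, e3 q9502 L272317 q11500, e3 q9503 (flp_i L187337) q7748, e3 q9504 L272346 q11502, e3 q9505 (flp_i L187355) q7749, e3 q9506 L272371 q11504, e3 q9507 (flp_i L187385) q7750, e3 q9508 L272421 q11507,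 e3 q9509 (flp_i L187408) q7752, e3 q9510 L187443 q9510, e3 q9511 L272644 q11510, e3 q9512 (flp_i L187564) q7755, e3 q9513 L272672 q11513, e3 q9514 L272681 q11514, e3 q9515 (flp_i L187591) q7756, e3 q9516 L272708 q11517, e3 q9517 (flp_i L187610) q7758, e3 q9518 L272737 q11520, e3 q9519 (flp_i L187627) q7760, e3 q9520 L187643 q7820, e3 q9521 L272754 q11522, e3 q9522 (flp_i L187654) q7762, e3 q9523 L187669 q7823, e3 q9524 L272814 q11526, e3 q9525 (flp_i L187688) q7765, e3 q9526 L272838 q11529, e3 q9527 L272853 q11531, e3 q9528 (flp_i L187711) q7766, e3 q9529 L272884 q11535, e3 q9530 L272901 q11537, e3 q9531 (flp_i L187736) q7768, e3 q9532 L272935 q11541, e3 q9533 L272949 q11543, e3 q9534 (flp_i L187759) q7770, e3 q9535 L272972 q11546, trivial⟩ (by decide +kernel)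

theorem ce_i_149 : ∀ r, r < 64 → sm gi (Qf (9536 + r)) = Qf (tab Gen.i (9536 + r)) :=
  edges_tab (sm gi) Qf (tab Gen.i) 9536 [(9536, 7771), (9537, 9537), (9538, 11549), (9539, 11551), (9540, 7773), (9541, 11554), (9542, 7774), (9543, 9543), (9544, 11558), (9545, 7776), (9546, 9546), (9547, 11561), (9548, 7779), (9549, 11563), (9550, 7781), (9551, 11564), (9552, 7783), (9553, 7785), (9554, 7787), (9555, 11565), (9556, 7788), (9557, 11567), (9558, 11569), (9559, 7790), (9560, 7791), (9561, 7807), (9562, 11570), (9563, 7793), (9564, 7803), (9565, 11572), (9566, 7795), (9567, 7829), (9568, 7798), (9569, 7831), (9570, 7832), (9571, 11518), (9572, 11515), (9573, 7808), (9574, 7833), (9575, 7828), (9576, 11580), (9577, 11380), (9578, 7813), (9579, 11578), (9580, 7816), (9581, 11577), (9582, 7818), (9583, 11521), (9584, 7821), (9585, 11523), (9586, 11524), (9587, 11371), (9588, 11573), (9589, 11574), (9590, 11575), (9591, 11576), (9592, 9592), (9593, 9821), (9594, 11591), (9595, 11592), (9596, 7852), (9597, 9872), (9598, 9873),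 (9599, 7869)]
    ⟨e3 q9536 (flp_i L187773) q7771, e3 q9537 L187788 q9537, e3 q9538 L272994 q11549, e3 q9539 L273011 q11551, e3 q9540 (flp_i L187804) q7773, e3 q9541 L273033 q11554, e3 q9542 (flp_i L187820) q7774, e3 q9543 L187833 q9543, e3 q9544 L273065 q11558, e3 q9545 (flp_i L187841) q7776, e3 q9546 L187856 q9546, e3 q9547 L273095 q11561, e3 q9548 (flp_i L187864) q7779, e3 q9549 L273119 q11563, e3 q9550 (flp_i L187888) q7781, e3 q9551 L273141 q11564, e3 q9552 (flp_i L187910) q7783, e3 q9553 (flp_i L187934) q7785, e3 q9554 (flp_i L187974) q7787, e3 q9555 L273257 q11565, e3 q9556 (flp_i L187999) q7788, e3 q9557 L273302 q11567, e3 q9558 L273314 q11569, e3 q9559 (flp_i L188025) q7790, e3 q9560 (flp_i L188032) q7791, e3 q9561 (flp_i L647391) q7807, e3 q9562 (flp_i L629412) q11570, e3 q9563 (flp_i L188058) q7793, e3 q9564 (flp_i L629074) q7803, e3 q9565 L273366 q11572, e3 q9566 (flp_i L188083) q7795, e3 q9567 L188097 q7829, e3 q9568 (flp_i L188099) q7798, e3 q9569 L188115 q7831, e3 q9570 L188121 q7832, e3 q9571 (flp_i L646682)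 q11518, e3 q9572 (flp_i L629581) q11515, e3 q9573 (flp_i L188278) q7808, e3 q9574 L188310 q7833, e3 q9575 (flp_i L646238) q7828, e3 q9576 L273792 q11580, e3 q9577 L646370 q11380, e3 q9578 (flp_i L188392) q7813, e3 q9579 (flp_i L645860) q11578, e3 q9580 (flp_i L188427) q7816, e3 q9581 (flp_i L646210) q11577, e3 q9582 (flp_i L188454) q7818, e3 q9583 (flp_i L272752) q11521, e3 q9584 (flp_i L188470) q7821, e3 q9585 (flp_i L272770) q11523, e3 q9586 (flp_i L272778) q11524, e3 q9587 L646338 q11371, e3 q9588 (flp_i L273388) q11573, e3 q9589 (flp_i L273399) q11574, e3 q9590 (flp_i L273407) q11575, e3 q9591 (flp_i L273413) q11576, e3 q9592 L411538 q9592, e3 q9593 (flp_i L501931) q9821, e3 q9594 L283016 q11591, e3 q9595 L283575 q11592, e3 q9596 (flp_i L195273) q7852, e3 q9597 L501898 q9872, e3 q9598 (flp_i L554902) q9873, e3 q9599 L196730 q7869, trivial⟩ (by decide +kernel)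

theorem ce_i_150 : ∀ r, r < 64 → sm gi (Qf (9600 + r)) = Qf (tab Gen.i (9600 + r)) :=
  edges_tab (sm gi) Qf (tab Gen.i) 9600 [(9600, 7870), (9601, 11597), (9602, 7857), (9603, 7875), (9604, 7874), (9605, 11599), (9606, 11601), (9607, 11602), (9608, 7864), (9609, 7913), (9610, 10803), (9611, 11604), (9612, 11605), (9613, 11607), (9614, 7871), (9615, 11608), (9616, 11609), (9617, 7872), (9618, 10793), (9619, 10796), (9620, 10795), (9621, 9957), (9622, 9959), (9623, 11612), (9624, 11613), (9625, 7886), (9626, 9823), (9627, 9824), (9628, 11615), (9629, 11616), (9630, 11617), (9631, 7893), (9632, 11618), (9633, 7896), (9634, 7897), (9635, 11620), (9636, 7898), (9637, 9877), (9638, 10693), (9639, 9878), (9640, 9880), (9641, 7916), (9642, 7917), (9643, 11626), (9644, 7905), (9645, 7920), (9646, 11628), (9647, 11629), (9648, 11631), (9649, 7910), (9650, 11632), (9651, 7911), (9652, 7958), (9653, 11191), (9654, 11634), (9655, 11635), (9656, 7918), (9657, 11637), (9658, 7921), (9659, 7922), (9660, 11639), (9661, 7923), (9662, 11641),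 (9663, 7925)]
    ⟨e3 q9600 L196740 q7870, e3 q9601 L286081 q11597, e3 q9602 (flp_i L196758) q7857, e3 q9603 (flp_i L551365) q7875, e3 q9604 L590463 q7874, e3 q9605 L286652 q11599, e3 q9606 L286935 q11601, e3 q9607 L286958 q11602, e3 q9608 (flp_i L197335) q7864, e3 q9609 (flp_i L508118) q7913, e3 q9610 L617279 q10803, e3 q9611 L287353 q11604, e3 q9612 L287370 q11605, e3 q9613 L287394 q11607, e3 q9614 (flp_i L197635) q7871, e3 q9615 L287410 q11608, e3 q9616 L287426 q11609, e3 q9617 (flp_i L197657) q7872, e3 q9618 L551293 q10793, e3 q9619 L554250 q10796, e3 q9620 (flp_i L567759) q10795, e3 q9621 (flp_i L502365) q9957, e3 q9622 (flp_i L502244) q9959, e3 q9623 L288232 q11612, e3 q9624 L288806 q11613, e3 q9625 (flp_i L198891) q7886, e3 q9626 L591783 q9823, e3 q9627 (flp_i L554802) q9824, e3 q9628 L289866 q11615, e3 q9629 L290180 q11616, e3 q9630 L290197 q11617, e3 q9631 (flp_i L199597) q7893, e3 q9632 L290943 q11618, e3 q9633 (flp_i L200112) q7896, e3 q9634 (flp_i L200420) q7897, e3 q9635 L291429 q11620, e3 q9636 (flp_i L200435)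 q7898, e3 q9637 L501877 q9877, e3 q9638 (flp_i L591904) q10693, e3 q9639 (flp_i L554898) q9878, e3 q9640 (flp_i L554888) q9880, e3 q9641 L201036 q7916, e3 q9642 L201047 q7917, e3 q9643 L292285 q11626, e3 q9644 (flp_i L201066) q7905, e3 q9645 L201345 q7920, e3 q9646 L292716 q11628, e3 q9647 L292732 q11629, e3 q9648 L292755 q11631, e3 q9649 (flp_i L201377) q7910, e3 q9650 L292776 q11632, e3 q9651 (flp_i L201398) q7911, e3 q9652 (flp_i L614457) q7958, e3 q9653 L616047 q11191, e3 q9654 L293789 q11634, e3 q9655 L293808 q11635, e3 q9656 (flp_i L202108) q7918, e3 q9657 L294130 q11637, e3 q9658 (flp_i L202394) q7921, e3 q9659 (flp_i L202409) q7922, e3 q9660 L294197 q11639, e3 q9661 (flp_i L202423) q7923, e3 q9662 L294217 q11641, e3 q9663 (flp_i L202437) q7925, trivial⟩ (by decide +kernel)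

theorem ce_i_151 : ∀ r, r < 64 → sm gi (Qf (9664 + r)) = Qf (tab Gen.i (9664 + r)) :=
  edges_tab (sm gi) Qf (tab Gen.i) 9664 [(9664, 10802), (9665, 9965), (9666, 10807), (9667, 9967), (9668, 9968), (9669, 7957), (9670, 11647), (9671, 11648), (9672, 7935), (9673, 7962), (9674, 11651), (9675, 11652), (9676, 11653), (9677, 7940), (9678, 11654), (9679, 7941), (9680, 11655), (9681, 7942), (9682, 11656), (9683, 7944), (9684, 11657), (9685, 7951), (9686, 11658), (9687, 11659), (9688, 7954), (9689, 11661), (9690, 11662), (9691, 7959), (9692, 7960), (9693, 11664), (9694, 11666), (9695, 7963), (9696, 7964), (9697, 11668), (9698, 7967), (9699, 9778), (9700, 10643), (9701, 9828), (9702, 11671), (9703, 7974), (9704, 9786), (9705, 10609), (9706, 7977), (9707, 10612), (9708, 9794), (9709, 10702), (9710, 9886), (9711, 9887), (9712, 10820), (9713, 9980), (9714, 9771), (9715, 7990), (9716, 9780), (9717, 9797), (9718, 8008), (9719, 11679), (9720, 8009), (9721, 8010), (9722, 8012), (9723, 8013), (9724, 11681), (9725, 8015), (9726, 8016), (9727,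 11683)]
    ⟨e3 q9664 (flp_i L567756) q10802, e3 q9665 (flp_i L534164) q9965, e3 q9666 (flp_i L567752) q10807, e3 q9667 (flp_i L567862) q9967, e3 q9668 L502275 q9968, e3 q9669 L202844 q7957, e3 q9670 L294801 q11647, e3 q9671 L294819 q11648, e3 q9672 (flp_i L202879) q7935, e3 q9673 L203100 q7962, e3 q9674 L295124 q11651, e3 q9675 L295148 q11652, e3 q9676 L295170 q11653, e3 q9677 (flp_i L203132) q7940, e3 q9678 L295194 q11654, e3 q9679 (flp_i L203148) q7941, e3 q9680 L295218 q11655, e3 q9681 (flp_i L203169) q7942, e3 q9682 L295253 q11656, e3 q9683 (flp_i L203191) q7944, e3 q9684 L295629 q11657, e3 q9685 (flp_i L203499) q7951, e3 q9686 L295686 q11658, e3 q9687 L295695 q11659, e3 q9688 (flp_i L203540) q7954, e3 q9689 L295727 q11661, e3 q9690 L295743 q11662, e3 q9691 (flp_i L203590) q7959, e3 q9692 (flp_i L203598) q7960, e3 q9693 L295773 q11664, e3 q9694 L295785 q11666, e3 q9695 (flp_i L203626) q7963, e3 q9696 (flp_i L203640) q7964, e3 q9697 L296680 q11668, e3 q9698 (flp_i L204223) q7967, e3 q9699 (flp_i L567590) q9778, e3 q9700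 L549885 q10643, e3 q9701 (flp_i L501670) q9828, e3 q9702 L298221 q11671, e3 q9703 (flp_i L205297) q7974, e3 q9704 (flp_i L645102) q9786, e3 q9705 L630963 q10609, e3 q9706 (flp_i L205333) q7977, e3 q9707 L483826 q10612, e3 q9708 L567034 q9794, e3 q9709 (flp_i L483795) q10702, e3 q9710 (flp_i L567860) q9886, e3 q9711 L501798 q9887, e3 q9712 (flp_i L483771) q10820, e3 q9713 (flp_i L567857) q9980, e3 q9714 (flp_i L641846) q9771, e3 q9715 (flp_i L206796) q7990, e3 q9716 (flp_i L644906) q9780, e3 q9717 (flp_i L634552) q9797, e3 q9718 (flp_i L241456) q8008, e3 q9719 L350814 q11679, e3 q9720 (flp_i L241515) q8009, e3 q9721 (flp_i L241560) q8010, e3 q9722 (flp_i L241603) q8012, e3 q9723 (flp_i L241624) q8013, e3 q9724 L351078 q11681, e3 q9725 (flp_i L241686) q8015, e3 q9726 (flp_i L241733) q8016, e3 q9727 L351240 q11683, trivial⟩ (by decide +kernel)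

theorem ce_i_152 : ∀ r, r < 64 → sm gi (Qf (9728 + r)) = Qf (tab Gen.i (9728 + r)) :=
  edges_tab (sm gi) Qf (tab Gen.i) 9728 [(9728, 8018), (9729, 11685), (9730, 8019), (9731, 11687), (9732, 8021), (9733, 8022), (9734, 8024), (9735, 8025), (9736, 8027), (9737, 11690), (9738, 8029), (9739, 11691), (9740, 8030), (9741, 11693), (9742, 8031), (9743, 11695), (9744, 8033), (9745, 8034), (9746, 8036), (9747, 11697), (9748, 8037), (9749, 11699), (9750, 8038), (9751, 11702), (9752, 8040), (9753, 9753), (9754, 11705), (9755, 8042), (9756, 11707), (9757, 8043), (9758, 8045), (9759, 11710), (9760, 8047), (9761, 11712), (9762, 8048), (9763, 11714), (9764, 8049), (9765, 11717), (9766, 8051), (9767, 9767), (9768, 8061), (9769, 8062), (9770, 8708), (9771, 9714), (9772, 8074), (9773, 8075), (9774, 8076), (9775, 8717), (9776, 8078), (9777, 8720), (9778, 9699), (9779, 11719), (9780, 9716), (9781, 11720), (9782, 8715), (9783, 8092), (9784, 8093), (9785, 8094), (9786, 9704), (9787, 8096), (9788, 8738), (9789, 8098), (9790, 8099), (9791, 8742)]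
    ⟨e3 q9728 (flp_i L241791) q8018, e3 q9729 L351256 q11685, e3 q9730 (flp_i L241808) q8019, e3 q9731 L351323 q11687, e3 q9732 (flp_i L241847) q8021, e3 q9733 (flp_i L241865) q8022, e3 q9734 (flp_i L241909) q8024, e3 q9735 (flp_i L241925) q8025, e3 q9736 (flp_i L241933) q8027, e3 q9737 L351512 q11690, e3 q9738 (flp_i L241977) q8029, e3 q9739 L351617 q11691, e3 q9740 (flp_i L242041) q8030, e3 q9741 L351637 q11693, e3 q9742 (flp_i L242060) q8031, e3 q9743 L351712 q11695, e3 q9744 (flp_i L242106) q8033, e3 q9745 (flp_i L242126) q8034, e3 q9746 (flp_i L242181) q8036, e3 q9747 L351859 q11697, e3 q9748 (flp_i L242207) q8037, e3 q9749 L351877 q11699, e3 q9750 (flp_i L242222) q8038, e3 q9751 L351902 q11702, e3 q9752 (flp_i L242240) q8040, e3 q9753 L242256 q9753, e3 q9754 L351979 q11705, e3 q9755 (flp_i L242290) q8042, e3 q9756 L351998 q11707, e3 q9757 (flp_i L242306) q8043, e3 q9758 (flp_i L242316) q8045, e3 q9759 L352056 q11710, e3 q9760 (flp_i L242349) q8047, e3 q9761 L352074 q11712, e3 q9762 (flp_i L242366) q8048, e3 q9763 L352092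 q11714, e3 q9764 (flp_i L242385) q8049, e3 q9765 L352120 q11717, e3 q9766 (flp_i L242402) q8051, e3 q9767 L242420 q9767, e3 q9768 L242451 q8061, e3 q9769 L242462 q8062, e3 q9770 (flp_i L643339) q8708, e3 q9771 L641846 q9714, e3 q9772 L242723 q8074, e3 q9773 L242740 q8075, e3 q9774 L242752 q8076, e3 q9775 L631275 q8717, e3 q9776 L242794 q8078, e3 q9777 (flp_i L631669) q8720, e3 q9778 L567590 q9699, e3 q9779 (flp_i L352613) q11719, e3 q9780 L644906 q9716, e3 q9781 (flp_i L352660) q11720, e3 q9782 L644983 q8715, e3 q9783 L243131 q8092, e3 q9784 L243141 q8093, e3 q9785 L243175 q8094, e3 q9786 L645102 q9704, e3 q9787 L243192 q8096, e3 q9788 L644728 q8738, e3 q9789 L243217 q8098, e3 q9790 L243230 q8099, e3 q9791 (flp_i L644573) q8742, trivial⟩ (by decide +kernel)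

theorem ce_i_153 : ∀ r, r < 64 → sm gi (Qf (9792 + r)) = Qf (tab Gen.i (9792 + r)) :=
  edges_tab (sm gi) Qf (tab Gen.i) 9792 [(9792, 11732), (9793, 8086), (9794, 9708), (9795, 11723), (9796, 11724), (9797, 9717), (9798, 11725), (9799, 11726), (9800, 8734), (9801, 8780), (9802, 11729), (9803, 8740), (9804, 8122), (9805, 8123), (9806, 11745), (9807, 11746), (9808, 8104), (9809, 8127), (9810, 11751), (9811, 8129), (9812, 11753), (9813, 8107), (9814, 8132), (9815, 8133), (9816, 11755), (9817, 11756), (9818, 8111), (9819, 11757), (9820, 8113), (9821, 9593), (9822, 11762), (9823, 9626), (9824, 9627), (9825, 11766), (9826, 11768), (9827, 8117), (9828, 9701), (9829, 11770), (9830, 8120), (9831, 11739), (9832, 11740), (9833, 11777), (9834, 11742), (9835, 11778), (9836, 11780), (9837, 8124), (9838, 11782), (9839, 8125), (9840, 11747), (9841, 11748), (9842, 11784), (9843, 11786), (9844, 8128), (9845, 8130), (9846, 8134), (9847, 8135), (9848, 8137), (9849, 8168), (9850, 8169), (9851, 11793), (9852, 8171), (9853, 11796), (9854, 11798),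 (9855, 8141)]
    ⟨e3 q9792 L353391 q11732, e3 q9793 (flp_i L243248) q8086, e3 q9794 (flp_i L567034) q9708, e3 q9795 (flp_i L353199) q11723, e3 q9796 (flp_i L353211) q11724, e3 q9797 L634552 q9717, e3 q9798 (flp_i L353276) q11725, e3 q9799 (flp_i L353289) q11726, e3 q9800 L644611 q8734, e3 q9801 L645176 q8780, e3 q9802 (flp_i L353345) q11729, e3 q9803 (flp_i L644467) q8740, e3 q9804 L243654 q8122, e3 q9805 L243665 q8123, e3 q9806 L354038 q11745, e3 q9807 L354061 q11746, e3 q9808 (flp_i L243687) q8104, e3 q9809 L243706 q8127, e3 q9810 L354107 q11751, e3 q9811 L243725 q8129, e3 q9812 L354129 q11753, e3 q9813 (flp_i L243737) q8107, e3 q9814 L243753 q8132, e3 q9815 L243765 q8133, e3 q9816 L354176 q11755, e3 q9817 L354197 q11756, e3 q9818 (flp_i L243786) q8111, e3 q9819 L354207 q11757, e3 q9820 (flp_i L243810) q8113, e3 q9821 L501931 q9593, e3 q9822 L354261 q11762, e3 q9823 (flp_i L591783) q9626, e3 q9824 L554802 q9627, e3 q9825 L354330 q11766, e3 q9826 L354350 q11768, e3 q9827 (flp_i L243879) q8117, e3 q9828 L501670 q9701, e3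 q9829 L354394 q11770, e3 q9830 (flp_i L243926) q8120, e3 q9831 (flp_i L353982) q11739, e3 q9832 (flp_i L353993) q11740, e3 q9833 L354476 q11777, e3 q9834 (flp_i L354015) q11742, e3 q9835 L354507 q11778, e3 q9836 L354523 q11780, e3 q9837 (flp_i L243992) q8124, e3 q9838 L354542 q11782, e3 q9839 (flp_i L244012) q8125, e3 q9840 (flp_i L354075) q11747, e3 q9841 (flp_i L354086) q11748, e3 q9842 L354593 q11784, e3 q9843 L354607 q11786, e3 q9844 (flp_i L244052) q8128, e3 q9845 (flp_i L244071) q8130, e3 q9846 (flp_i L244112) q8134, e3 q9847 (flp_i L244130) q8135, e3 q9848 (flp_i L244139) q8137, e3 q9849 L244274 q8168, e3 q9850 L244285 q8169, e3 q9851 L354986 q11793, e3 q9852 L244306 q8171, e3 q9853 L355018 q11796, e3 q9854 L355036 q11798, e3 q9855 (flp_i L244326) q8141, trivial⟩ (by decide +kernel)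

theorem ce_i_154 : ∀ r, r < 64 → sm gi (Qf (9856 + r)) = Qf (tab Gen.i (9856 + r)) :=
  edges_tab (sm gi) Qf (tab Gen.i) 9856 [(9856, 8142), (9857, 8177), (9858, 8178), (9859, 11804), (9860, 11806), (9861, 8145), (9862, 11807), (9863, 8147), (9864, 8184), (9865, 11811), (9866, 11813), (9867, 11815), (9868, 8151), (9869, 11817), (9870, 8152), (9871, 8154), (9872, 9597), (9873, 9598), (9874, 11825), (9875, 11827), (9876, 8157), (9877, 9637), (9878, 9639), (9879, 11833), (9880, 9640), (9881, 11834), (9882, 11836), (9883, 8160), (9884, 11838), (9885, 8161), (9886, 9710), (9887, 9711), (9888, 11842), (9889, 11843), (9890, 8164), (9891, 8166), (9892, 11787), (9893, 11848), (9894, 11789), (9895, 11790), (9896, 11853), (9897, 11856), (9898, 8170), (9899, 11857), (9900, 11859), (9901, 8172), (9902, 11861), (9903, 8173), (9904, 11864), (9905, 8175), (9906, 9906), (9907, 11800), (9908, 11869), (9909, 11870), (9910, 11872), (9911, 8179), (9912, 11874), (9913, 8180), (9914, 8182), (9915, 11808), (9916, 11876), (9917, 11877), (9918, 8185),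 (9919, 8186)]
    ⟨e3 q9856 (flp_i L244346) q8142, e3 q9857 L244359 q8177, e3 q9858 L244371 q8178, e3 q9859 L355109 q11804, e3 q9860 L355124 q11806, e3 q9861 (flp_i L244388) q8145, e3 q9862 L355133 q11807, e3 q9863 (flp_i L244407) q8147, e3 q9864 L244427 q8184, e3 q9865 L355173 q11811, e3 q9866 L355192 q11813, e3 q9867 L355211 q11815, e3 q9868 (flp_i L244455) q8151, e3 q9869 L355226 q11817, e3 q9870 (flp_i L244474) q8152, e3 q9871 (flp_i L244482) q8154, e3 q9872 (flp_i L501898) q9597, e3 q9873 L554902 q9598, e3 q9874 L355303 q11825, e3 q9875 L355331 q11827, e3 q9876 (flp_i L244531) q8157, e3 q9877 (flp_i L501877) q9637, e3 q9878 L554898 q9639, e3 q9879 L355389 q11833, e3 q9880 L554888 q9640, e3 q9881 L355418 q11834, e3 q9882 L355433 q11836, e3 q9883 (flp_i L244593) q8160, e3 q9884 L355448 q11838, e3 q9885 (flp_i L244610) q8161, e3 q9886 L567860 q9710, e3 q9887 (flp_i L501798) q9711, e3 q9888 L355501 q11842, e3 q9889 L355516 q11843, e3 q9890 (flp_i L244650) q8164, e3 q9891 (flp_i L244668) q8166, e3 q9892 (flp_i L354939) q11787,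 e3 q9893 L355564 q11848, e3 q9894 (flp_i L354954) q11789, e3 q9895 (flp_i L354968) q11790, e3 q9896 L355609 q11853, e3 q9897 L355631 q11856, e3 q9898 (flp_i L244725) q8170, e3 q9899 L355648 q11857, e3 q9900 L355665 q11859, e3 q9901 (flp_i L244754) q8172, e3 q9902 L355682 q11861, e3 q9903 (flp_i L244769) q8173, e3 q9904 L355704 q11864, e3 q9905 (flp_i L244784) q8175, e3 q9906 L244800 q9906, e3 q9907 (flp_i L355082) q11800, e3 q9908 L355747 q11869, e3 q9909 L355763 q11870, e3 q9910 L355775 q11872, e3 q9911 (flp_i L244833) q8179, e3 q9912 L355789 q11874, e3 q9913 (flp_i L244845) q8180, e3 q9914 (flp_i L244853) q8182, e3 q9915 (flp_i L355151) q11808, e3 q9916 L355819 q11876, e3 q9917 L355846 q11877, e3 q9918 (flp_i L244888) q8185, e3 q9919 (flp_i L244904) q8186, trivial⟩ (by decide +kernel)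

theorem ce_i_155 : ∀ r, r < 64 → sm gi (Qf (9920 + r)) = Qf (tab Gen.i (9920 + r)) :=
  edges_tab (sm gi) Qf (tab Gen.i) 9920 [(9920, 8187), (9921, 11879), (9922, 8189), (9923, 8787), (9924, 8236), (9925, 11884), (9926, 8238), (9927, 8239), (9928, 11889), (9929, 11892), (9930, 8194), (9931, 11894), (9932, 11896), (9933, 8196), (9934, 11897), (9935, 8197), (9936, 9936), (9937, 8251), (9938, 11902), (9939, 11904), (9940, 11906), (9941, 8202), (9942, 11908), (9943, 8203), (9944, 8205), (9945, 8259), (9946, 11912), (9947, 11915), (9948, 8208), (9949, 11917), (9950, 8209), (9951, 11919), (9952, 8210), (9953, 11922), (9954, 8212), (9955, 9955), (9956, 9317), (9957, 9621), (9958, 11930), (9959, 9622), (9960, 11933), (9961, 11936), (9962, 8217), (9963, 11937), (9964, 8218), (9965, 9665), (9966, 11943), (9967, 9667), (9968, 9668), (9969, 11948), (9970, 11951), (9971, 8222), (9972, 11952), (9973, 11954), (9974, 8224), (9975, 11956), (9976, 8225), (9977, 11959), (9978, 8227), (9979, 9979), (9980, 9713), (9981, 11964), (9982, 11965),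 (9983, 11967)]
    ⟨e3 q9920 (flp_i L244920) q8187, e3 q9921 L355896 q11879, e3 q9922 (flp_i L244933) q8189, e3 q9923 L641215 q8787, e3 q9924 L245165 q8236, e3 q9925 L356276 q11884, e3 q9926 L245182 q8238, e3 q9927 L245194 q8239, e3 q9928 L356324 q11889, e3 q9929 L356350 q11892, e3 q9930 (flp_i L245214) q8194, e3 q9931 L356368 q11894, e3 q9932 L356387 q11896, e3 q9933 (flp_i L245244) q8196, e3 q9934 L356405 q11897, e3 q9935 (flp_i L245261) q8197, e3 q9936 L245298 q9936, e3 q9937 L245306 q8251, e3 q9938 L356478 q11902, e3 q9939 L356497 q11904, e3 q9940 L356514 q11906, e3 q9941 (flp_i L245333) q8202, e3 q9942 L356532 q11908, e3 q9943 (flp_i L245350) q8203, e3 q9944 (flp_i L245360) q8205, e3 q9945 L245376 q8259, e3 q9946 L356569 q11912, e3 q9947 L356597 q11915, e3 q9948 (flp_i L245398) q8208, e3 q9949 L356616 q11917, e3 q9950 (flp_i L245417) q8209, e3 q9951 L356633 q11919, e3 q9952 (flp_i L245438) q8210, e3 q9953 L356662 q11922, e3 q9954 (flp_i L245455) q8212, e3 q9955 L245475 q9955, e3 q9956 (flp_i L551301) q9317, e3 q9957 L502365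 q9621, e3 q9958 L356750 q11930, e3 q9959 L502244 q9622, e3 q9960 L356781 q11933, e3 q9961 L356807 q11936, e3 q9962 (flp_i L245535) q8217, e3 q9963 L356826 q11937, e3 q9964 (flp_i L245562) q8218, e3 q9965 L534164 q9665, e3 q9966 L356898 q11943, e3 q9967 L567862 q9667, e3 q9968 (flp_i L502275) q9668, e3 q9969 L356942 q11948, e3 q9970 L356968 q11951, e3 q9971 (flp_i L245622) q8222, e3 q9972 L356985 q11952, e3 q9973 L357001 q11954, e3 q9974 (flp_i L245649) q8224, e3 q9975 L357017 q11956, e3 q9976 (flp_i L245663) q8225, e3 q9977 L357039 q11959, e3 q9978 (flp_i L245680) q8227, e3 q9979 L245694 q9979, e3 q9980 L567857 q9713, e3 q9981 L357084 q11964, e3 q9982 L357102 q11965, e3 q9983 L357119 q11967, trivial⟩ (by decide +kernel)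

theorem ce_i_156 : ∀ r, r < 64 → sm gi (Qf (9984 + r)) = Qf (tab Gen.i (9984 + r)) :=
  edges_tab (sm gi) Qf (tab Gen.i) 9984 [(9984, 8231), (9985, 11968), (9986, 8232), (9987, 8234), (9988, 11880), (9989, 11881), (9990, 11975), (9991, 11978), (9992, 8237), (9993, 11885), (9994, 11982), (9995, 11984), (9996, 11987), (9997, 8240), (9998, 11990), (9999, 11992), (10000, 8241), (10001, 11995), (10002, 8243), (10003, 11997), (10004, 8244), (10005, 12000), (10006, 8246), (10007, 10007), (10008, 12003), (10009, 8248), (10010, 10010), (10011, 11899), (10012, 12007), (10013, 12010), (10014, 8252), (10015, 12012), (10016, 8253), (10017, 12014), (10018, 8254), (10019, 12017), (10020, 8256), (10021, 10021), (10022, 12019), (10023, 12021), (10024, 8260), (10025, 12024), (10026, 12025), (10027, 8261), (10028, 12028), (10029, 8263), (10030, 12031), (10031, 8265), (10032, 10032), (10033, 12033), (10034, 8267), (10035, 10035), (10036, 10036), (10037, 10037), (10038, 12039), (10039, 10039), (10040, 10040), (10041, 12042), (10042, 8272), (10043,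 10043), (10044, 12044), (10045, 12046), (10046, 8275), (10047, 12048)]
    ⟨e3 q9984 (flp_i L245730) q8231, e3 q9985 L357135 q11968, e3 q9986 (flp_i L245747) q8232, e3 q9987 (flp_i L245757) q8234, e3 q9988 (flp_i L356244) q11880, e3 q9989 (flp_i L356256) q11881, e3 q9990 L357196 q11975, e3 q9991 L357220 q11978, e3 q9992 (flp_i L245800) q8237, e3 q9993 (flp_i L356295) q11885, e3 q9994 L357256 q11982, e3 q9995 L357273 q11984, e3 q9996 L357298 q11987, e3 q9997 (flp_i L245844) q8240, e3 q9998 L357320 q11990, e3 q9999 L357338 q11992, e3 q10000 (flp_i L245868) q8241, e3 q10001 L357362 q11995, e3 q10002 (flp_i L245885) q8243, e3 q10003 L357376 q11997, e3 q10004 (flp_i L245901) q8244, e3 q10005 L357398 q12000, e3 q10006 (flp_i L245917) q8246, e3 q10007 L245931 q10007, e3 q10008 L357423 q12003, e3 q10009 (flp_i L245939) q8248, e3 q10010 L245955 q10010, e3 q10011 (flp_i L356456) q11899, e3 q10012 L357465 q12007, e3 q10013 L357487 q12010, e3 q10014 (flp_i L245981) q8252, e3 q10015 L357503 q12012, e3 q10016 (flp_i L245997) q8253, e3 q10017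 L357519 q12014, e3 q10018 (flp_i L246011) q8254, e3 q10019 L357540 q12017, e3 q10020 (flp_i L246027) q8256, e3 q10021 L246041 q10021, e3 q10022 L357566 q12019, e3 q10023 L357592 q12021, e3 q10024 (flp_i L246060) q8260, e3 q10025 L357618 q12024, e3 q10026 L357629 q12025, e3 q10027 (flp_i L246085) q8261, e3 q10028 L357652 q12028, e3 q10029 (flp_i L246103) q8263, e3 q10030 L357677 q12031, e3 q10031 (flp_i L246118) q8265, e3 q10032 L246132 q10032, e3 q10033 L357693 q12033, e3 q10034 (flp_i L246142) q8267, e3 q10035 L246159 q10035, e3 q10036 L246167 q10036, e3 q10037 L246179 q10037, e3 q10038 L357779 q12039, e3 q10039 L246197 q10039, e3 q10040 L246207 q10040, e3 q10041 L357830 q12042, e3 q10042 (flp_i L246220) q8272, e3 q10043 L246242 q10043, e3 q10044 L357897 q12044, e3 q10045 L357917 q12046, e3 q10046 (flp_i L246280) q8275, e3 q10047 L357963 q12048, trivial⟩ (by decide +kernel)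

theorem ce_i_157 : ∀ r, r < 64 → sm gi (Qf (10048 + r)) = Qf (tab Gen.i (10048 + r)) :=
  edges_tab (sm gi) Qf (tab Gen.i) 10048 [(10048, 10048), (10049, 12050), (10050, 8278), (10051, 10051), (10052, 12053), (10053, 12055), (10054, 8282), (10055, 12056), (10056, 8284), (10057, 8311), (10058, 12060), (10059, 8313), (10060, 8314), (10061, 12067), (10062, 12068), (10063, 8288), (10064, 8318), (10065, 12073), (10066, 8320), (10067, 12075), (10068, 8291), (10069, 8323), (10070, 8324), (10071, 12082), (10072, 8326), (10073, 12085), (10074, 12087), (10075, 8296), (10076, 12089), (10077, 8297), (10078, 8332), (10079, 8333), (10080, 12095), (10081, 12097), (10082, 8300), (10083, 12098), (10084, 8302), (10085, 8339), (10086, 12101), (10087, 12103), (10088, 12104), (10089, 8306), (10090, 12106), (10091, 8307), (10092, 8309), (10093, 12057), (10094, 12058), (10095, 12113), (10096, 8312), (10097, 12061), (10098, 12062), (10099, 12120), (10100, 12064), (10101, 12123), (10102, 12125), (10103, 8315), (10104, 8316), (10105, 12069), (10106,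 12070), (10107, 12131), (10108, 12133), (10109, 8319), (10110, 12134), (10111, 8321)]
    ⟨e3 q10048 L246314 q10048, e3 q10049 L357984 q12050, e3 q10050 (flp_i L246326) q8278, e3 q10051 L246352 q10051, e3 q10052 L358029 q12053, e3 q10053 L358048 q12055, e3 q10054 (flp_i L246372) q8282, e3 q10055 L358058 q12056, e3 q10056 (flp_i L246393) q8284, e3 q10057 L246411 q8311, e3 q10058 L358107 q12060, e3 q10059 L246431 q8313, e3 q10060 L246442 q8314, e3 q10061 L358183 q12067, e3 q10062 L358205 q12068, e3 q10063 (flp_i L246463) q8288, e3 q10064 L246484 q8318, e3 q10065 L358256 q12073, e3 q10066 L246505 q8320, e3 q10067 L358279 q12075, e3 q10068 (flp_i L246517) q8291, e3 q10069 L246534 q8323, e3 q10070 L246544 q8324, e3 q10071 L358338 q12082, e3 q10072 L246562 q8326, e3 q10073 L358365 q12085, e3 q10074 L358379 q12087, e3 q10075 (flp_i L246580) q8296, e3 q10076 L358394 q12089, e3 q10077 (flp_i L246598) q8297, e3 q10078 L246610 q8332, e3 q10079 L246622 q8333, e3 q10080 L358447 q12095, e3 q10081 L358464 q12097, e3 q10082 (flp_i L246643)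 q8300, e3 q10083 L358474 q12098, e3 q10084 (flp_i L246664) q8302, e3 q10085 L246680 q8339, e3 q10086 L358512 q12101, e3 q10087 L358530 q12103, e3 q10088 L358547 q12104, e3 q10089 (flp_i L246705) q8306, e3 q10090 L358561 q12106, e3 q10091 (flp_i L246722) q8307, e3 q10092 (flp_i L246731) q8309, e3 q10093 (flp_i L358077) q12057, e3 q10094 (flp_i L358087) q12058, e3 q10095 L358633 q12113, e3 q10096 (flp_i L246774) q8312, e3 q10097 (flp_i L358127) q12061, e3 q10098 (flp_i L358139) q12062, e3 q10099 L358724 q12120, e3 q10100 (flp_i L358161) q12064, e3 q10101 L358756 q12123, e3 q10102 L358773 q12125, e3 q10103 (flp_i L246843) q8315, e3 q10104 (flp_i L246864) q8316, e3 q10105 (flp_i L358220) q12069, e3 q10106 (flp_i L358233) q12070, e3 q10107 L358854 q12131, e3 q10108 L358873 q12133, e3 q10109 (flp_i L246913) q8319, e3 q10110 L358885 q12134, e3 q10111 (flp_i L246935) q8321, trivial⟩ (by decide +kernel)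

theorem ce_i_158 : ∀ r, r < 64 → sm gi (Qf (10112 + r)) = Qf (tab Gen.i (10112 + r)) :=
  edges_tab (sm gi) Qf (tab Gen.i) 10112 [(10112, 12076), (10113, 12139), (10114, 12078), (10115, 12079), (10116, 12144), (10117, 12147), (10118, 8325), (10119, 12148), (10120, 12150), (10121, 8327), (10122, 12152), (10123, 8328), (10124, 12155), (10125, 8330), (10126, 10126), (10127, 12091), (10128, 12158), (10129, 12159), (10130, 12161), (10131, 8334), (10132, 12163), (10133, 8335), (10134, 8337), (10135, 12099), (10136, 8340), (10137, 8341), (10138, 8342), (10139, 12167), (10140, 8344), (10141, 10141), (10142, 12170), (10143, 10143), (10144, 12173), (10145, 12174), (10146, 8349), (10147, 10147), (10148, 12177), (10149, 10149), (10150, 12179), (10151, 8352), (10152, 12180), (10153, 12182), (10154, 12184), (10155, 8357), (10156, 12186), (10157, 8358), (10158, 10158), (10159, 12190), (10160, 12192), (10161, 8361), (10162, 12193), (10163, 8363), (10164, 10164), (10165, 12196), (10166, 12198), (10167, 12200), (10168, 8367), (10169, 12202),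 (10170, 8368), (10171, 8370), (10172, 8408), (10173, 8409), (10174, 12209), (10175, 8373)]
    ⟨e3 q10112 (flp_i L358295) q12076, e3 q10113 L358925 q12139, e3 q10114 (flp_i L358309) q12078, e3 q10115 (flp_i L358320) q12079, e3 q10116 L358963 q12144, e3 q10117 L358985 q12147, e3 q10118 (flp_i L246987) q8325, e3 q10119 L359002 q12148, e3 q10120 L359017 q12150, e3 q10121 (flp_i L247013) q8327, e3 q10122 L359033 q12152, e3 q10123 (flp_i L247026) q8328, e3 q10124 L359055 q12155, e3 q10125 (flp_i L247043) q8330, e3 q10126 L247059 q10126, e3 q10127 (flp_i L358419) q12091, e3 q10128 L359101 q12158, e3 q10129 L359120 q12159, e3 q10130 L359136 q12161, e3 q10131 (flp_i L247095) q8334, e3 q10132 L359155 q12163, e3 q10133 (flp_i L247111) q8335, e3 q10134 (flp_i L247122) q8337, e3 q10135 (flp_i L358490) q12099, e3 q10136 (flp_i L247157) q8340, e3 q10137 (flp_i L247174) q8341, e3 q10138 (flp_i L247190) q8342, e3 q10139 L359274 q12167, e3 q10140 (flp_i L247206) q8344, e3 q10141 L247224 q10141, e3 q10142 L359328 q12170, e3 q10143 L247257 q10143,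 e3 q10144 L359393 q12173, e3 q10145 L359412 q12174, e3 q10146 (flp_i L247277) q8349, e3 q10147 L247295 q10147, e3 q10148 L359459 q12177, e3 q10149 L247313 q10149, e3 q10150 L359479 q12179, e3 q10151 (flp_i L247325) q8352, e3 q10152 L359535 q12180, e3 q10153 L359563 q12182, e3 q10154 L359579 q12184, e3 q10155 (flp_i L247384) q8357, e3 q10156 L359595 q12186, e3 q10157 (flp_i L247401) q8358, e3 q10158 L247415 q10158, e3 q10159 L359650 q12190, e3 q10160 L359665 q12192, e3 q10161 (flp_i L247443) q8361, e3 q10162 L359674 q12193, e3 q10163 (flp_i L247461) q8363, e3 q10164 L247481 q10164, e3 q10165 L359711 q12196, e3 q10166 L359729 q12198, e3 q10167 L359747 q12200, e3 q10168 (flp_i L247507) q8367, e3 q10169 L359763 q12202, e3 q10170 (flp_i L247524) q8368, e3 q10171 (flp_i L247532) q8370, e3 q10172 L247548 q8408, e3 q10173 L247558 q8409, e3 q10174 L359833 q12209, e3 q10175 (flp_i L247576) q8373, trivial⟩ (by decide +kernel)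

theorem ce_i_159 : ∀ r, r < 64 → sm gi (Qf (10176 + r)) = Qf (tab Gen.i (10176 + r)) :=
  edges_tab (sm gi) Qf (tab Gen.i) 10176 [(10176, 8412), (10177, 8413), (10178, 12216), (10179, 8415), (10180, 12219), (10181, 12221), (10182, 8376), (10183, 8377), (10184, 8420), (10185, 8421), (10186, 12227), (10187, 12229), (10188, 8380), (10189, 12230), (10190, 8382), (10191, 8427), (10192, 12235), (10193, 8429), (10194, 8430), (10195, 12240), (10196, 12243), (10197, 8386), (10198, 12245), (10199, 12247), (10200, 8388), (10201, 12249), (10202, 8389), (10203, 12252), (10204, 8391), (10205, 10205), (10206, 8442), (10207, 12257), (10208, 12259), (10209, 12261), (10210, 8395), (10211, 12263), (10212, 8396), (10213, 8398), (10214, 8450), (10215, 12267), (10216, 12270), (10217, 8401), (10218, 12272), (10219, 8402), (10220, 12274), (10221, 8403), (10222, 12277), (10223, 8405), (10224, 10224), (10225, 12204), (10226, 12205), (10227, 12286), (10228, 12207), (10229, 12288), (10230, 8410), (10231, 12210), (10232, 12293), (10233, 12212), (10234,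 12213), (10235, 12298), (10236, 12301), (10237, 8414), (10238, 12303), (10239, 12305)]
    ⟨e3 q10176 L247593 q8412, e3 q10177 L247605 q8413, e3 q10178 L359921 q12216, e3 q10179 L247626 q8415, e3 q10180 L359952 q12219, e3 q10181 L359969 q12221, e3 q10182 (flp_i L247645) q8376, e3 q10183 (flp_i L247664) q8377, e3 q10184 L247678 q8420, e3 q10185 L247692 q8421, e3 q10186 L360043 q12227, e3 q10187 L360061 q12229, e3 q10188 (flp_i L247711) q8380, e3 q10189 L360070 q12230, e3 q10190 (flp_i L247731) q8382, e3 q10191 L247748 q8427, e3 q10192 L360110 q12235, e3 q10193 L247760 q8429, e3 q10194 L247772 q8430, e3 q10195 L360150 q12240, e3 q10196 L360170 q12243, e3 q10197 (flp_i L247786) q8386, e3 q10198 L360183 q12245, e3 q10199 L360198 q12247, e3 q10200 (flp_i L247811) q8388, e3 q10201 L360211 q12249, e3 q10202 (flp_i L247824) q8389, e3 q10203 L360229 q12252, e3 q10204 (flp_i L247835) q8391, e3 q10205 L247849 q10205, e3 q10206 L247859 q8442, e3 q10207 L360272 q12257, e3 q10208 L360291 q12259, e3 q10209 L360306 q12261, e3 q10210 (flp_i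 L247886) q8395, e3 q10211 L360321 q12263, e3 q10212 (flp_i L247901) q8396, e3 q10213 (flp_i L247909) q8398, e3 q10214 L247925 q8450, e3 q10215 L360353 q12267, e3 q10216 L360380 q12270, e3 q10217 (flp_i L247946) q8401, e3 q10218 L360395 q12272, e3 q10219 (flp_i L247963) q8402, e3 q10220 L360407 q12274, e3 q10221 (flp_i L247978) q8403, e3 q10222 L360428 q12277, e3 q10223 (flp_i L247990) q8405, e3 q10224 L248004 q10224, e3 q10225 (flp_i L359786) q12204, e3 q10226 (flp_i L359796) q12205, e3 q10227 L360494 q12286, e3 q10228 (flp_i L359815) q12207, e3 q10229 L360521 q12288, e3 q10230 (flp_i L248052) q8410, e3 q10231 (flp_i L359873) q12210, e3 q10232 L360623 q12293, e3 q10233 (flp_i L359889) q12212, e3 q10234 (flp_i L359903) q12213, e3 q10235 L360669 q12298, e3 q10236 L360693 q12301, e3 q10237 (flp_i L248133) q8414, e3 q10238 L360711 q12303, e3 q10239 L360729 q12305, trivial⟩ (by decide +kernel)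

theorem ce_i_160 : ∀ r, r < 64 → sm gi (Qf (10240 + r)) = Qf (tab Gen.i (10240 + r)) :=
  edges_tab (sm gi) Qf (tab Gen.i) 10240 [(10240, 8416), (10241, 12306), (10242, 8417), (10243, 10243), (10244, 12223), (10245, 12311), (10246, 12313), (10247, 12315), (10248, 8422), (10249, 12317), (10250, 8423), (10251, 8425), (10252, 12231), (10253, 12232), (10254, 12324), (10255, 12327), (10256, 8428), (10257, 12236), (10258, 12331), (10259, 12333), (10260, 12336), (10261, 8431), (10262, 12339), (10263, 12341), (10264, 8432), (10265, 12344), (10266, 8434), (10267, 12346), (10268, 8435), (10269, 12349), (10270, 8437), (10271, 10271), (10272, 12352), (10273, 8439), (10274, 10274), (10275, 12254), (10276, 12356), (10277, 12359), (10278, 8443), (10279, 12361), (10280, 8444), (10281, 12363), (10282, 8445), (10283, 12366), (10284, 8447), (10285, 10285), (10286, 12368), (10287, 12370), (10288, 8451), (10289, 12373), (10290, 12374), (10291, 8452), (10292, 8454), (10293, 12378), (10294, 8456), (10295, 10295), (10296, 12380), (10297, 8458),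 (10298, 10298), (10299, 12384), (10300, 12385), (10301, 8462), (10302, 12387), (10303, 12389)]
    ⟨e3 q10240 (flp_i L248163) q8416, e3 q10241 L360748 q12306, e3 q10242 (flp_i L248179) q8417, e3 q10243 L248214 q10243, e3 q10244 (flp_i L360013) q12223, e3 q10245 L360823 q12311, e3 q10246 L360843 q12313, e3 q10247 L360860 q12315, e3 q10248 (flp_i L248254) q8422, e3 q10249 L360877 q12317, e3 q10250 (flp_i L248271) q8423, e3 q10251 (flp_i L248281) q8425, e3 q10252 (flp_i L360086) q12231, e3 q10253 (flp_i L360096) q12232, e3 q10254 L360929 q12324, e3 q10255 L360947 q12327, e3 q10256 (flp_i L248316) q8428, e3 q10257 (flp_i L360126) q12236, e3 q10258 L360977 q12331, e3 q10259 L360991 q12333, e3 q10260 L361011 q12336, e3 q10261 (flp_i L248352) q8431, e3 q10262 L361028 q12339, e3 q10263 L361042 q12341, e3 q10264 (flp_i L248370) q8432, e3 q10265 L361058 q12344, e3 q10266 (flp_i L248384) q8434, e3 q10267 L361073 q12346, e3 q10268 (flp_i L248398) q8435, e3 q10269 L361094 q12349, e3 q10270 (flp_i L248413) q8437, e3 q10271 L248423 q10271,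 e3 q10272 L361115 q12352, e3 q10273 (flp_i L248432) q8439, e3 q10274 L248446 q10274, e3 q10275 (flp_i L360249) q12254, e3 q10276 L361156 q12356, e3 q10277 L361183 q12359, e3 q10278 (flp_i L248475) q8443, e3 q10279 L361199 q12361, e3 q10280 (flp_i L248493) q8444, e3 q10281 L361216 q12363, e3 q10282 (flp_i L248507) q8445, e3 q10283 L361239 q12366, e3 q10284 (flp_i L248524) q8447, e3 q10285 L248538 q10285, e3 q10286 L361264 q12368, e3 q10287 L361290 q12370, e3 q10288 (flp_i L248556) q8451, e3 q10289 L361315 q12373, e3 q10290 L361324 q12374, e3 q10291 (flp_i L248582) q8452, e3 q10292 (flp_i L248598) q8454, e3 q10293 L361370 q12378, e3 q10294 (flp_i L248612) q8456, e3 q10295 L248626 q10295, e3 q10296 L361386 q12380, e3 q10297 (flp_i L248634) q8458, e3 q10298 L248649 q10298, e3 q10299 L361462 q12384, e3 q10300 L361488 q12385, e3 q10301 (flp_i L248683) q8462, e3 q10302 L361578 q12387, e3 q10303 L361595 q12389, trivial⟩ (by decide +kernel)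

theorem ce_i_161 : ∀ r, r < 64 → sm gi (Qf (10304 + r)) = Qf (tab Gen.i (10304 + r)) :=
  edges_tab (sm gi) Qf (tab Gen.i) 10304 [(10304, 8464), (10305, 8465), (10306, 12391), (10307, 8468), (10308, 12392), (10309, 12394), (10310, 8471), (10311, 12396), (10312, 12398), (10313, 8473), (10314, 12400), (10315, 8474), (10316, 12403), (10317, 8476), (10318, 10318), (10319, 12405), (10320, 12406), (10321, 8480), (10322, 8482), (10323, 12407), (10324, 12409), (10325, 8485), (10326, 12410), (10327, 8486), (10328, 12411), (10329, 8487), (10330, 12412), (10331, 8489), (10332, 8544), (10333, 12417), (10334, 8546), (10335, 12419), (10336, 8494), (10337, 8551), (10338, 8552), (10339, 12424), (10340, 12426), (10341, 8497), (10342, 12428), (10343, 12430), (10344, 8499), (10345, 12431), (10346, 8500), (10347, 10347), (10348, 8562), (10349, 12435), (10350, 12436), (10351, 8505), (10352, 8507), (10353, 8570), (10354, 8571), (10355, 12442), (10356, 12444), (10357, 8510), (10358, 8575), (10359, 12448), (10360, 12450), (10361, 12453), (10362,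 8513), (10363, 12456), (10364, 12458), (10365, 8514), (10366, 12461), (10367, 8516)]
    ⟨e3 q10304 (flp_i L248748) q8464, e3 q10305 (flp_i L248767) q8465, e3 q10306 L361704 q12391, e3 q10307 (flp_i L248836) q8468, e3 q10308 L361789 q12392, e3 q10309 L361811 q12394, e3 q10310 (flp_i L248893) q8471, e3 q10311 L361827 q12396, e3 q10312 L361844 q12398, e3 q10313 (flp_i L248919) q8473, e3 q10314 L361862 q12400, e3 q10315 (flp_i L248934) q8474, e3 q10316 L361887 q12403, e3 q10317 (flp_i L248952) q8476, e3 q10318 L248968 q10318, e3 q10319 L361931 q12405, e3 q10320 L361950 q12406, e3 q10321 (flp_i L249004) q8480, e3 q10322 (flp_i L249031) q8482, e3 q10323 L362024 q12407, e3 q10324 L362050 q12409, e3 q10325 (flp_i L249066) q8485, e3 q10326 L362069 q12410, e3 q10327 (flp_i L249084) q8486, e3 q10328 L362088 q12411, e3 q10329 (flp_i L249104) q8487, e3 q10330 L362118 q12412, e3 q10331 (flp_i L249122) q8489, e3 q10332 L249159 q8544, e3 q10333 L362201 q12417, e3 q10334 L249177 q8546, e3 q10335 L362228 q12419, e3 q10336 (flp_i L249195) q8494,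 e3 q10337 L249252 q8551, e3 q10338 L249264 q8552, e3 q10339 L362387 q12424, e3 q10340 L362415 q12426, e3 q10341 (flp_i L249284) q8497, e3 q10342 L362432 q12428, e3 q10343 L362450 q12430, e3 q10344 (flp_i L249313) q8499, e3 q10345 L362466 q12431, e3 q10346 (flp_i L249329) q8500, e3 q10347 L249362 q10347, e3 q10348 L249372 q8562, e3 q10349 L362539 q12435, e3 q10350 L362560 q12436, e3 q10351 (flp_i L249402) q8505, e3 q10352 (flp_i L249432) q8507, e3 q10353 L249448 q8570, e3 q10354 L249459 q8571, e3 q10355 L362659 q12442, e3 q10356 L362683 q12444, e3 q10357 (flp_i L249476) q8510, e3 q10358 L249492 q8575, e3 q10359 L362713 q12448, e3 q10360 L362728 q12450, e3 q10361 L362751 q12453, e3 q10362 (flp_i L249515) q8513, e3 q10363 L362769 q12456, e3 q10364 L362785 q12458, e3 q10365 (flp_i L249537) q8514, e3 q10366 L362805 q12461, e3 q10367 (flp_i L249550) q8516, trivial⟩ (by decide +kernel)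

theorem ce_i_162 : ∀ r, r < 64 → sm gi (Qf (10368 + r)) = Qf (tab Gen.i (10368 + r)) :=
  edges_tab (sm gi) Qf (tab Gen.i) 10368 [(10368, 12463), (10369, 8517), (10370, 12466), (10371, 8519), (10372, 10372), (10373, 12469), (10374, 8521), (10375, 10375), (10376, 8593), (10377, 12473), (10378, 12476), (10379, 8525), (10380, 12478), (10381, 8526), (10382, 12480), (10383, 8527), (10384, 12481), (10385, 8529), (10386, 12483), (10387, 12486), (10388, 8533), (10389, 12489), (10390, 12490), (10391, 8534), (10392, 12492), (10393, 8536), (10394, 12494), (10395, 8538), (10396, 8644), (10397, 12496), (10398, 8540), (10399, 8647), (10400, 9316), (10401, 12503), (10402, 12413), (10403, 12414), (10404, 12508), (10405, 12510), (10406, 8545), (10407, 12511), (10408, 8547), (10409, 9313), (10410, 9315), (10411, 12517), (10412, 12519), (10413, 8550), (10414, 12420), (10415, 12523), (10416, 12525), (10417, 12528), (10418, 8553), (10419, 12531), (10420, 12532), (10421, 8554), (10422, 12535), (10423, 8556), (10424, 12537), (10425, 8557), (10426,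 8559), (10427, 10427), (10428, 12433), (10429, 12542), (10430, 12545), (10431, 8563)]
    ⟨e3 q10368 L362815 q12463, e3 q10369 (flp_i L249564) q8517, e3 q10370 L362833 q12466, e3 q10371 (flp_i L249576) q8519, e3 q10372 L249588 q10372, e3 q10373 L362852 q12469, e3 q10374 (flp_i L249594) q8521, e3 q10375 L249606 q10375, e3 q10376 L249613 q8593, e3 q10377 L362891 q12473, e3 q10378 L362917 q12476, e3 q10379 (flp_i L249636) q8525, e3 q10380 L362934 q12478, e3 q10381 (flp_i L249655) q8526, e3 q10382 L362951 q12480, e3 q10383 (flp_i L249672) q8527, e3 q10384 L362976 q12481, e3 q10385 (flp_i L249689) q8529, e3 q10386 L363004 q12483, e3 q10387 L363030 q12486, e3 q10388 (flp_i L249724) q8533, e3 q10389 L363056 q12489, e3 q10390 L363065 q12490, e3 q10391 (flp_i L249749) q8534, e3 q10392 L363090 q12492, e3 q10393 (flp_i L249766) q8536, e3 q10394 L363115 q12494, e3 q10395 (flp_i L249780) q8538, e3 q10396 L249794 q8644, e3 q10397 L363130 q12496, e3 q10398 (flp_i L249804) q8540, e3 q10399 L249819 q8647, e3 q10400 (flp_i L552076) q9316, e3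 q10401 L363207 q12503, e3 q10402 (flp_i L362171) q12413, e3 q10403 (flp_i L362182) q12414, e3 q10404 L363247 q12508, e3 q10405 L363269 q12510, e3 q10406 (flp_i L249876) q8545, e3 q10407 L363286 q12511, e3 q10408 (flp_i L249901) q8547, e3 q10409 (flp_i L542853) q9313, e3 q10410 L542946 q9315, e3 q10411 L363455 q12517, e3 q10412 L363483 q12519, e3 q10413 (flp_i L250006) q8550, e3 q10414 (flp_i L362358) q12420, e3 q10415 L363519 q12523, e3 q10416 L363536 q12525, e3 q10417 L363563 q12528, e3 q10418 (flp_i L250051) q8553, e3 q10419 L363586 q12531, e3 q10420 L363606 q12532, e3 q10421 (flp_i L250077) q8554, e3 q10422 L363631 q12535, e3 q10423 (flp_i L250095) q8556, e3 q10424 L363647 q12537, e3 q10425 (flp_i L250112) q8557, e3 q10426 (flp_i L250130) q8559, e3 q10427 L250146 q10427, e3 q10428 (flp_i L362514) q12433, e3 q10429 L363747 q12542, e3 q10430 L363776 q12545, e3 q10431 (flp_i L250204) q8563, trivial⟩ (by decide +kernel)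

theorem ce_i_163 : ∀ r, r < 64 → sm gi (Qf (10432 + r)) = Qf (tab Gen.i (10432 + r)) :=
  edges_tab (sm gi) Qf (tab Gen.i) 10432 [(10432, 12547), (10433, 8564), (10434, 12549), (10435, 8565), (10436, 12551), (10437, 8567), (10438, 12437), (10439, 12438), (10440, 12557), (10441, 12559), (10442, 12562), (10443, 8572), (10444, 12565), (10445, 12567), (10446, 8573), (10447, 12445), (10448, 12571), (10449, 12574), (10450, 8576), (10451, 12577), (10452, 8577), (10453, 12580), (10454, 12582), (10455, 8578), (10456, 12586), (10457, 12588), (10458, 8580), (10459, 12591), (10460, 8581), (10461, 12568), (10462, 12594), (10463, 8583), (10464, 12597), (10465, 8585), (10466, 10466), (10467, 12600), (10468, 8587), (10469, 10469), (10470, 12603), (10471, 8590), (10472, 10472), (10473, 12606), (10474, 12609), (10475, 8594), (10476, 12612), (10477, 12613), (10478, 8595), (10479, 12616), (10480, 8597), (10481, 12619), (10482, 8599), (10483, 8683), (10484, 12621), (10485, 8601), (10486, 8686), (10487, 12626), (10488, 8604), (10489, 12629), (10490,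 12630), (10491, 8605), (10492, 12634), (10493, 12636), (10494, 8607), (10495, 8608)]
    ⟨e3 q10432 L363797 q12547, e3 q10433 (flp_i L250224) q8564, e3 q10434 L363816 q12549, e3 q10435 (flp_i L250243) q8565, e3 q10436 L363846 q12551, e3 q10437 (flp_i L250262) q8567, e3 q10438 (flp_i L362624) q12437, e3 q10439 (flp_i L362635) q12438, e3 q10440 L363908 q12557, e3 q10441 L363923 q12559, e3 q10442 L363946 q12562, e3 q10443 (flp_i L250320) q8572, e3 q10444 L363968 q12565, e3 q10445 L363985 q12567, e3 q10446 (flp_i L250342) q8573, e3 q10447 (flp_i L362694) q12445, e3 q10448 L364013 q12571, e3 q10449 L364033 q12574, e3 q10450 (flp_i L250370) q8576, e3 q10451 L364055 q12577, e3 q10452 (flp_i L250383) q8577, e3 q10453 L364075 q12580, e3 q10454 L364087 q12582, e3 q10455 (flp_i L250404) q8578, e3 q10456 L364112 q12586, e3 q10457 L364129 q12588, e3 q10458 (flp_i L250423) q8580, e3 q10459 L364150 q12591, e3 q10460 (flp_i L250439) q8581, e3 q10461 (flp_i L363996) q12568, e3 q10462 L364170 q12594, e3 q10463 (flp_i L250458) q8583, e3 q10464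 L364191 q12597, e3 q10465 (flp_i L250470) q8585, e3 q10466 L250482 q10466, e3 q10467 L364211 q12600, e3 q10468 (flp_i L250489) q8587, e3 q10469 L250503 q10469, e3 q10470 L364231 q12603, e3 q10471 (flp_i L250511) q8590, e3 q10472 L250524 q10472, e3 q10473 L364271 q12606, e3 q10474 L364297 q12609, e3 q10475 (flp_i L250550) q8594, e3 q10476 L364326 q12612, e3 q10477 L364334 q12613, e3 q10478 (flp_i L250575) q8595, e3 q10479 L364363 q12616, e3 q10480 (flp_i L250593) q8597, e3 q10481 L364390 q12619, e3 q10482 (flp_i L250612) q8599, e3 q10483 L250626 q8683, e3 q10484 L364408 q12621, e3 q10485 (flp_i L250638) q8601, e3 q10486 L250656 q8686, e3 q10487 L364456 q12626, e3 q10488 (flp_i L250668) q8604, e3 q10489 L364484 q12629, e3 q10490 L364493 q12630, e3 q10491 (flp_i L250693) q8605, e3 q10492 L364528 q12634, e3 q10493 L364542 q12636, e3 q10494 (flp_i L250720) q8607, e3 q10495 (flp_i L250729) q8608, trivial⟩ (by decide +kernel)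

theorem ce_i_164 : ∀ r, r < 64 → sm gi (Qf (10496 + r)) = Qf (tab Gen.i (10496 + r)) :=
  edges_tab (sm gi) Qf (tab Gen.i) 10496 [(10496, 8696), (10497, 12640), (10498, 8610), (10499, 8699), (10500, 12642), (10501, 8612), (10502, 8702), (10503, 8615), (10504, 8704), (10505, 8705), (10506, 8640), (10507, 8653), (10508, 8659), (10509, 8660), (10510, 12652), (10511, 12653), (10512, 8625), (10513, 8667), (10514, 9342), (10515, 9338), (10516, 9216), (10517, 9337), (10518, 9217), (10519, 9212), (10520, 9324), (10521, 8634), (10522, 8638), (10523, 8637), (10524, 8635), (10525, 12656), (10526, 12491), (10527, 12493), (10528, 8642), (10529, 12495), (10530, 8645), (10531, 12497), (10532, 12498), (10533, 9314), (10534, 9312), (10535, 12665), (10536, 12666), (10537, 8650), (10538, 9311), (10539, 9362), (10540, 9363), (10541, 9364), (10542, 9365), (10543, 9366), (10544, 9367), (10545, 9368), (10546, 12648), (10547, 12676), (10548, 12650), (10549, 12679), (10550, 12682), (10551, 8661), (10552, 12684), (10553, 8662), (10554, 12686), (10555,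 8663), (10556, 12688), (10557, 8665), (10558, 9343), (10559, 9344)]
    ⟨e3 q10496 L250744 q8696, e3 q10497 L364582 q12640, e3 q10498 (flp_i L250754) q8610, e3 q10499 L250770 q8699, e3 q10500 L364601 q12642, e3 q10501 (flp_i L250780) q8612, e3 q10502 L250795 q8702, e3 q10503 (flp_i L250797) q8615, e3 q10504 L250814 q8704, e3 q10505 L250822 q8705, e3 q10506 (flp_i L616074) q8640, e3 q10507 L252399 q8653, e3 q10508 L252500 q8659, e3 q10509 L252511 q8660, e3 q10510 L367164 q12652, e3 q10511 L367181 q12653, e3 q10512 (flp_i L252534) q8625, e3 q10513 L252570 q8667, e3 q10514 L490075 q9342, e3 q10515 L490504 q9338, e3 q10516 (flp_i L546979) q9216, e3 q10517 (flp_i L513255) q9337, e3 q10518 (flp_i L561834) q9217, e3 q10519 L552155 q9212, e3 q10520 L615883 q9324, e3 q10521 (flp_i L252887) q8634, e3 q10522 (flp_i L616007) q8638, e3 q10523 L615553 q8637, e3 q10524 (flp_i L252913) q8635, e3 q10525 L615943 q12656, e3 q10526 (flp_i L363081) q12491, e3 q10527 (flp_i L363106) q12493, e3 q10528 (flp_i L252992) q8642, e3 q10529 (flp_i L363128)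 q12495, e3 q10530 (flp_i L253006) q8645, e3 q10531 (flp_i L363145) q12497, e3 q10532 (flp_i L363153) q12498, e3 q10533 (flp_i L542830) q9314, e3 q10534 (flp_i L563022) q9312, e3 q10535 L368294 q12665, e3 q10536 L368311 q12666, e3 q10537 (flp_i L253300) q8650, e3 q10538 (flp_i L563009) q9311, e3 q10539 L562303 q9362, e3 q10540 (flp_i L562337) q9363, e3 q10541 (flp_i L546481) q9364, e3 q10542 L546382 q9365, e3 q10543 (flp_i L546477) q9366, e3 q10544 (flp_i L546497) q9367, e3 q10545 L543211 q9368, e3 q10546 (flp_i L367128) q12648, e3 q10547 L368825 q12676, e3 q10548 (flp_i L367143) q12650, e3 q10549 L368850 q12679, e3 q10550 L368872 q12682, e3 q10551 (flp_i L253683) q8661, e3 q10552 L368897 q12684, e3 q10553 (flp_i L253698) q8662, e3 q10554 L368920 q12686, e3 q10555 (flp_i L253719) q8663, e3 q10556 L368965 q12688, e3 q10557 (flp_i L253742) q8665, e3 q10558 L562292 q9343, e3 q10559 (flp_i L509036) q9344, trivial⟩ (by decide +kernel)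

theorem ce_i_165 : ∀ r, r < 64 → sm gi (Qf (10560 + r)) = Qf (tab Gen.i (10560 + r)) :=
  edges_tab (sm gi) Qf (tab Gen.i) 10560 [(10560, 9345), (10561, 9346), (10562, 9347), (10563, 9348), (10564, 9349), (10565, 12697), (10566, 8673), (10567, 12700), (10568, 12701), (10569, 8674), (10570, 12705), (10571, 12707), (10572, 8676), (10573, 8677), (10574, 12614), (10575, 12711), (10576, 8679), (10577, 12617), (10578, 12713), (10579, 8681), (10580, 12620), (10581, 8684), (10582, 12622), (10583, 12623), (10584, 8690), (10585, 8689), (10586, 8687), (10587, 12696), (10588, 12631), (10589, 12720), (10590, 9369), (10591, 8692), (10592, 12637), (10593, 12638), (10594, 12724), (10595, 8697), (10596, 12641), (10597, 8700), (10598, 12643), (10599, 12644), (10600, 12645), (10601, 12646), (10602, 12647), (10603, 8714), (10604, 8716), (10605, 11721), (10606, 8779), (10607, 8731), (10608, 8732), (10609, 9705), (10610, 8733), (10611, 8726), (10612, 9707), (10613, 12731), (10614, 11738), (10615, 12733), (10616, 11727), (10617, 12737), (10618,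 8735), (10619, 8736), (10620, 8741), (10621, 11730), (10622, 8854), (10623, 11731)]
    ⟨e3 q10560 L546238 q9345, e3 q10561 (flp_i L546196) q9346, e3 q10562 (flp_i L546140) q9347, e3 q10563 L543412 q9348, e3 q10564 L543180 q9349, e3 q10565 L369324 q12697, e3 q10566 (flp_i L253988) q8673, e3 q10567 L369350 q12700, e3 q10568 L369358 q12701, e3 q10569 (flp_i L254012) q8674, e3 q10570 L369393 q12705, e3 q10571 L369409 q12707, e3 q10572 (flp_i L254037) q8676, e3 q10573 (flp_i L254045) q8677, e3 q10574 (flp_i L364351) q12614, e3 q10575 L369443 q12711, e3 q10576 (flp_i L254071) q8679, e3 q10577 (flp_i L364379) q12617, e3 q10578 L369461 q12713, e3 q10579 (flp_i L254094) q8681, e3 q10580 (flp_i L364406) q12620, e3 q10581 (flp_i L254110) q8684, e3 q10582 (flp_i L364428) q12622, e3 q10583 (flp_i L364435) q12623, e3 q10584 (flp_i L647126) q8690, e3 q10585 (flp_i L628488) q8689, e3 q10586 (flp_i L254152) q8687, e3 q10587 (flp_i L647140) q12696, e3 q10588 (flp_i L364508) q12631, e3 q10589 L369625 q12720, e3 q10590 (flp_i L646852) q9369,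 e3 q10591 (flp_i L254218) q8692, e3 q10592 (flp_i L364561) q12637, e3 q10593 (flp_i L364571) q12638, e3 q10594 L369703 q12724, e3 q10595 (flp_i L254270) q8697, e3 q10596 (flp_i L364599) q12641, e3 q10597 (flp_i L254288) q8700, e3 q10598 (flp_i L364616) q12643, e3 q10599 (flp_i L364623) q12644, e3 q10600 (flp_i L364634) q12645, e3 q10601 (flp_i L364643) q12646, e3 q10602 (flp_i L364649) q12647, e3 q10603 L255259 q8714, e3 q10604 (flp_i L645013) q8716, e3 q10605 (flp_i L644751) q11721, e3 q10606 (flp_i L636116) q8779, e3 q10607 L256156 q8731, e3 q10608 L256169 q8732, e3 q10609 (flp_i L630963) q9705, e3 q10610 L256230 q8733, e3 q10611 (flp_i L256257) q8726, e3 q10612 (flp_i L483826) q9707, e3 q10613 (flp_i L372546) q12731, e3 q10614 (flp_i L644444) q11738, e3 q10615 (flp_i L635062) q12733, e3 q10616 (flp_i L644553) q11727, e3 q10617 L373280 q12737, e3 q10618 (flp_i L256656) q8735, e3 q10619 (flp_i L256669) q8736, e3 q10620 (flp_i L641000) q8741, e3 q10621 (flp_i L635057) q11730, e3 q10622 (flp_i L634965) q8854, e3 q10623 (flp_i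 L634999) q11731, trivial⟩ (by decide +kernel)

theorem ce_i_166 : ∀ r, r < 64 → sm gi (Qf (10624 + r)) = Qf (tab Gen.i (10624 + r)) :=
  edges_tab (sm gi) Qf (tab Gen.i) 10624 [(10624, 9035), (10625, 8743), (10626, 9027), (10627, 8864), (10628, 8771), (10629, 8772), (10630, 12742), (10631, 12743), (10632, 8750), (10633, 8753), (10634, 8755), (10635, 9013), (10636, 12745), (10637, 8760), (10638, 12747), (10639, 12748), (10640, 12750), (10641, 8763), (10642, 8764), (10643, 9700), (10644, 12753), (10645, 12754), (10646, 8767), (10647, 12755), (10648, 8769), (10649, 12757), (10650, 11763), (10651, 12760), (10652, 12763), (10653, 8773), (10654, 8774), (10655, 12765), (10656, 8775), (10657, 12767), (10658, 8777), (10659, 12768), (10660, 11875), (10661, 12771), (10662, 8781), (10663, 12773), (10664, 8782), (10665, 8784), (10666, 8786), (10667, 11818), (10668, 8788), (10669, 12775), (10670, 8790), (10671, 8832), (10672, 12779), (10673, 8834), (10674, 8835), (10675, 12783), (10676, 12785), (10677, 8797), (10678, 12786), (10679, 8799),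 (10680, 8846), (10681, 12787), (10682, 8803), (10683, 12788), (10684, 8804), (10685, 8806), (10686, 8809), (10687, 11754)]
    ⟨e3 q10624 (flp_i L641131) q9035, e3 q10625 (flp_i L256739) q8743, e3 q10626 (flp_i L641147) q9027, e3 q10627 L256764 q8864, e3 q10628 L257137 q8771, e3 q10629 L257149 q8772, e3 q10630 L374037 q12742, e3 q10631 L374069 q12743, e3 q10632 (flp_i L257193) q8750, e3 q10633 (flp_i L257254) q8753, e3 q10634 (flp_i L257273) q8755, e3 q10635 (flp_i L611973) q9013, e3 q10636 L374346 q12745, e3 q10637 (flp_i L257394) q8760, e3 q10638 L374439 q12747, e3 q10639 L374470 q12748, e3 q10640 L374488 q12750, e3 q10641 (flp_i L257461) q8763, e3 q10642 (flp_i L257481) q8764, e3 q10643 (flp_i L549885) q9700, e3 q10644 L374563 q12753, e3 q10645 L374579 q12754, e3 q10646 (flp_i L257523) q8767, e3 q10647 L374589 q12755, e3 q10648 (flp_i L257543) q8769, e3 q10649 L374632 q12757, e3 q10650 (flp_i L620521) q11763, e3 q10651 L374676 q12760, e3 q10652 L374700 q12763, e3 q10653 (flp_i L257601) q8773, e3 q10654 (flp_i L257632) q8774,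 e3 q10655 L374761 q12765, e3 q10656 (flp_i L257650) q8775, e3 q10657 L374789 q12767, e3 q10658 (flp_i L257670) q8777, e3 q10659 L374832 q12768, e3 q10660 (flp_i L641236) q11875, e3 q10661 L374863 q12771, e3 q10662 (flp_i L257721) q8781, e3 q10663 L374879 q12773, e3 q10664 (flp_i L257734) q8782, e3 q10665 (flp_i L257743) q8784, e3 q10666 (flp_i L257776) q8786, e3 q10667 (flp_i L641228) q11818, e3 q10668 (flp_i L257811) q8788, e3 q10669 L374990 q12775, e3 q10670 (flp_i L257826) q8790, e3 q10671 L258362 q8832, e3 q10672 L375825 q12779, e3 q10673 L258376 q8834, e3 q10674 L258388 q8835, e3 q10675 L375871 q12783, e3 q10676 L375893 q12785, e3 q10677 (flp_i L258404) q8797, e3 q10678 L375909 q12786, e3 q10679 (flp_i L258434) q8799, e3 q10680 L258492 q8846, e3 q10681 L376011 q12787, e3 q10682 (flp_i L258516) q8803, e3 q10683 L376053 q12788, e3 q10684 (flp_i L258528) q8804, e3 q10685 (flp_i L258534) q8806, e3 q10686 (flp_i L258569) q8809, e3 q10687 (flp_i L640272) q11754, trivial⟩ (by decide +kernel)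

theorem ce_i_167 : ∀ r, r < 64 → sm gi (Qf (10688 + r)) = Qf (tab Gen.i (10688 + r)) :=
  edges_tab (sm gi) Qf (tab Gen.i) 10688 [(10688, 9016), (10689, 9111), (10690, 12793), (10691, 12794), (10692, 8815), (10693, 9638), (10694, 12797), (10695, 12799), (10696, 8819), (10697, 12800), (10698, 12802), (10699, 8821), (10700, 12803), (10701, 8822), (10702, 9709), (10703, 12807), (10704, 12809), (10705, 12810), (10706, 8827), (10707, 8828), (10708, 8830), (10709, 12776), (10710, 12814), (10711, 12816), (10712, 8833), (10713, 12780), (10714, 12820), (10715, 12822), (10716, 12825), (10717, 8836), (10718, 12828), (10719, 12830), (10720, 8837), (10721, 8839), (10722, 12833), (10723, 8840), (10724, 12835), (10725, 8842), (10726, 12837), (10727, 8844), (10728, 12735), (10729, 12840), (10730, 12843), (10731, 8847), (10732, 12845), (10733, 8848), (10734, 12847), (10735, 8849), (10736, 12849), (10737, 8851), (10738, 12738), (10739, 12851), (10740, 12852), (10741, 8855), (10742, 12854), (10743, 12855), (10744, 8856), (10745, 12857), (10746,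 8858), (10747, 12859), (10748, 8860), (10749, 11812), (10750, 12861), (10751, 8862)]
    ⟨e3 q10688 (flp_i L611256) q9016, e3 q10689 (flp_i L607008) q9111, e3 q10690 L376223 q12793, e3 q10691 L376255 q12794, e3 q10692 (flp_i L258684) q8815, e3 q10693 L591904 q9638, e3 q10694 L376413 q12797, e3 q10695 L376435 q12799, e3 q10696 (flp_i L258767) q8819, e3 q10697 L376452 q12800, e3 q10698 L376471 q12802, e3 q10699 (flp_i L258796) q8821, e3 q10700 L376491 q12803, e3 q10701 (flp_i L258813) q8822, e3 q10702 L483795 q9709, e3 q10703 L376559 q12807, e3 q10704 L376576 q12809, e3 q10705 L376592 q12810, e3 q10706 (flp_i L258882) q8827, e3 q10707 (flp_i L258896) q8828, e3 q10708 (flp_i L258904) q8830, e3 q10709 (flp_i L375799) q12776, e3 q10710 L376657 q12814, e3 q10711 L376677 q12816, e3 q10712 (flp_i L258942) q8833, e3 q10713 (flp_i L375843) q12780, e3 q10714 L376709 q12820, e3 q10715 L376725 q12822, e3 q10716 L376749 q12825, e3 q10717 (flp_i L258984) q8836, e3 q10718 L376768 q12828, e3 q10719 L376780 q12830, e3 q10720 (flp_i L259004)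 q8837, e3 q10721 (flp_i L259021) q8839, e3 q10722 L376821 q12833, e3 q10723 (flp_i L259040) q8840, e3 q10724 L376850 q12835, e3 q10725 (flp_i L259060) q8842, e3 q10726 L376877 q12837, e3 q10727 (flp_i L259085) q8844, e3 q10728 (flp_i L641006) q12735, e3 q10729 L376919 q12840, e3 q10730 L376940 q12843, e3 q10731 (flp_i L259125) q8847, e3 q10732 L376953 q12845, e3 q10733 (flp_i L259140) q8848, e3 q10734 L376969 q12847, e3 q10735 (flp_i L259153) q8849, e3 q10736 L376988 q12849, e3 q10737 (flp_i L259167) q8851, e3 q10738 (flp_i L373306) q12738, e3 q10739 L377005 q12851, e3 q10740 L377031 q12852, e3 q10741 (flp_i L259193) q8855, e3 q10742 L377052 q12854, e3 q10743 L377061 q12855, e3 q10744 (flp_i L259217) q8856, e3 q10745 L377081 q12857, e3 q10746 (flp_i L259232) q8858, e3 q10747 L377105 q12859, e3 q10748 (flp_i L259247) q8860, e3 q10749 (flp_i L648989) q11812, e3 q10750 L377122 q12861, e3 q10751 (flp_i L259269) q8862, trivial⟩ (by decide +kernel)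

theorem ce_i_168 : ∀ r, r < 64 → sm gi (Qf (10752 + r)) = Qf (tab Gen.i (10752 + r)) :=
  edges_tab (sm gi) Qf (tab Gen.i) 10752 [(10752, 9036), (10753, 12865), (10754, 8865), (10755, 12868), (10756, 8867), (10757, 10757), (10758, 8924), (10759, 8925), (10760, 12875), (10761, 12876), (10762, 8871), (10763, 8929), (10764, 12880), (10765, 12882), (10766, 12884), (10767, 8874), (10768, 12886), (10769, 8875), (10770, 8877), (10771, 8945), (10772, 12888), (10773, 12890), (10774, 8880), (10775, 12892), (10776, 8881), (10777, 12894), (10778, 8882), (10779, 12897), (10780, 8884), (10781, 10781), (10782, 8888), (10783, 12900), (10784, 8889), (10785, 12903), (10786, 8891), (10787, 12906), (10788, 8893), (10789, 10789), (10790, 12908), (10791, 8895), (10792, 10792), (10793, 9618), (10794, 12913), (10795, 9620), (10796, 9619), (10797, 12918), (10798, 12919), (10799, 8900), (10800, 12920), (10801, 8902), (10802, 9664), (10803, 9610), (10804, 12924), (10805, 12926), (10806, 8905), (10807, 9666), (10808, 12930), (10809, 12932), (10810,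 12935), (10811, 8908), (10812, 12938), (10813, 12939), (10814, 8909), (10815, 12942)]
    ⟨e3 q10752 (flp_i L634823) q9036, e3 q10753 L377820 q12865, e3 q10754 (flp_i L259735) q8865, e3 q10755 L377848 q12868, e3 q10756 (flp_i L259752) q8867, e3 q10757 L259770 q10757, e3 q10758 L260080 q8924, e3 q10759 L260091 q8925, e3 q10760 L378395 q12875, e3 q10761 L378421 q12876, e3 q10762 (flp_i L260110) q8871, e3 q10763 L260128 q8929, e3 q10764 L378453 q12880, e3 q10765 L378470 q12882, e3 q10766 L378497 q12884, e3 q10767 (flp_i L260155) q8874, e3 q10768 L378517 q12886, e3 q10769 (flp_i L260179) q8875, e3 q10770 (flp_i L260195) q8877, e3 q10771 L260276 q8945, e3 q10772 L378662 q12888, e3 q10773 L378682 q12890, e3 q10774 (flp_i L260294) q8880, e3 q10775 L378696 q12892, e3 q10776 (flp_i L260310) q8881, e3 q10777 L378712 q12894, e3 q10778 (flp_i L260326) q8882, e3 q10779 L378733 q12897, e3 q10780 (flp_i L260340) q8884, e3 q10781 L260352 q10781, e3 q10782 (flp_i L260369) q8888, e3 q10783 L378801 q12900, e3 q10784 (flp_i L260392) q8889, e3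 q10785 L378831 q12903, e3 q10786 (flp_i L260408) q8891, e3 q10787 L378858 q12906, e3 q10788 (flp_i L260423) q8893, e3 q10789 L260439 q10789, e3 q10790 L378874 q12908, e3 q10791 (flp_i L260447) q8895, e3 q10792 L260460 q10792, e3 q10793 (flp_i L551293) q9618, e3 q10794 L378955 q12913, e3 q10795 L567759 q9620, e3 q10796 (flp_i L554250) q9619, e3 q10797 L379002 q12918, e3 q10798 L379028 q12919, e3 q10799 (flp_i L260524) q8900, e3 q10800 L379048 q12920, e3 q10801 (flp_i L260554) q8902, e3 q10802 L567756 q9664, e3 q10803 (flp_i L617279) q9610, e3 q10804 L379246 q12924, e3 q10805 L379272 q12926, e3 q10806 (flp_i L260673) q8905, e3 q10807 L567752 q9666, e3 q10808 L379302 q12930, e3 q10809 L379317 q12932, e3 q10810 L379344 q12935, e3 q10811 (flp_i L260714) q8908, e3 q10812 L379365 q12938, e3 q10813 L379381 q12939, e3 q10814 (flp_i L260738) q8909, e3 q10815 L379405 q12942, trivial⟩ (by decide +kernel)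

theorem ce_i_169 : ∀ r, r < 64 → sm gi (Qf (10816 + r)) = Qf (tab Gen.i (10816 + r)) :=
  edges_tab (sm gi) Qf (tab Gen.i) 10816 [(10816, 8911), (10817, 12944), (10818, 8912), (10819, 8914), (10820, 9712), (10821, 12947), (10822, 12950), (10823, 8917), (10824, 12952), (10825, 8918), (10826, 12954), (10827, 8919), (10828, 12957), (10829, 8921), (10830, 10830), (10831, 12870), (10832, 12871), (10833, 12963), (10834, 12965), (10835, 12968), (10836, 8926), (10837, 12971), (10838, 12973), (10839, 8927), (10840, 12877), (10841, 12977), (10842, 12980), (10843, 8930), (10844, 12983), (10845, 8931), (10846, 12986), (10847, 12988), (10848, 8932), (10849, 12992), (10850, 12994), (10851, 8934), (10852, 12997), (10853, 8935), (10854, 12974), (10855, 13000), (10856, 8937), (10857, 13002), (10858, 8939), (10859, 13004), (10860, 8941), (10861, 13005), (10862, 8943), (10863, 13007), (10864, 13010), (10865, 8946), (10866, 13013), (10867, 13014), (10868, 8947), (10869, 13017), (10870, 8949), (10871, 13020), (10872, 8951), (10873, 10873), (10874,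 13022), (10875, 8953), (10876, 10876), (10877, 13025), (10878, 8956), (10879, 13028)]
    ⟨e3 q10816 (flp_i L260755) q8911, e3 q10817 L379422 q12944, e3 q10818 (flp_i L260773) q8912, e3 q10819 (flp_i L260792) q8914, e3 q10820 L483771 q9712, e3 q10821 L379519 q12947, e3 q10822 L379542 q12950, e3 q10823 (flp_i L260859) q8917, e3 q10824 L379560 q12952, e3 q10825 (flp_i L260876) q8918, e3 q10826 L379578 q12954, e3 q10827 (flp_i L260894) q8919, e3 q10828 L379604 q12957, e3 q10829 (flp_i L260910) q8921, e3 q10830 L260925 q10830, e3 q10831 (flp_i L378355) q12870, e3 q10832 (flp_i L378368) q12871, e3 q10833 L379663 q12963, e3 q10834 L379679 q12965, e3 q10835 L379706 q12968, e3 q10836 (flp_i L260967) q8926, e3 q10837 L379729 q12971, e3 q10838 L379744 q12973, e3 q10839 (flp_i L260991) q8927, e3 q10840 (flp_i L378434) q12877, e3 q10841 L379777 q12977, e3 q10842 L379797 q12980, e3 q10843 (flp_i L261021) q8930, e3 q10844 L379821 q12983, e3 q10845 (flp_i L261036) q8931, e3 q10846 L379845 q12986, e3 q10847 L379859 q12988, e3 q10848 (flp_i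 L261061) q8932, e3 q10849 L379890 q12992, e3 q10850 L379905 q12994, e3 q10851 (flp_i L261082) q8934, e3 q10852 L379924 q12997, e3 q10853 (flp_i L261096) q8935, e3 q10854 (flp_i L379758) q12974, e3 q10855 L379949 q13000, e3 q10856 (flp_i L261120) q8937, e3 q10857 L379978 q13002, e3 q10858 (flp_i L261137) q8939, e3 q10859 L380006 q13004, e3 q10860 (flp_i L261164) q8941, e3 q10861 L380034 q13005, e3 q10862 (flp_i L261192) q8943, e3 q10863 L380074 q13007, e3 q10864 L380096 q13010, e3 q10865 (flp_i L261232) q8946, e3 q10866 L380119 q13013, e3 q10867 L380125 q13014, e3 q10868 (flp_i L261251) q8947, e3 q10869 L380148 q13017, e3 q10870 (flp_i L261266) q8949, e3 q10871 L380173 q13020, e3 q10872 (flp_i L261284) q8951, e3 q10873 L261298 q10873, e3 q10874 L380190 q13022, e3 q10875 (flp_i L261306) q8953, e3 q10876 L261320 q10876, e3 q10877 L380226 q13025, e3 q10878 (flp_i L261328) q8956, e3 q10879 L380252 q13028, trivial⟩ (by decide +kernel)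

theorem ce_i_170 : ∀ r, r < 64 → sm gi (Qf (10880 + r)) = Qf (tab Gen.i (10880 + r)) :=
  edges_tab (sm gi) Qf (tab Gen.i) 10880 [(10880, 13029), (10881, 8957), (10882, 13033), (10883, 13035), (10884, 8959), (10885, 8960), (10886, 10886), (10887, 13039), (10888, 8962), (10889, 10889), (10890, 13041), (10891, 8964), (10892, 10892), (10893, 8967), (10894, 10894), (10895, 10895), (10896, 8998), (10897, 9000), (10898, 9001), (10899, 13050), (10900, 13051), (10901, 8973), (10902, 9006), (10903, 9007), (10904, 13052), (10905, 13054), (10906, 8976), (10907, 13055), (10908, 8978), (10909, 13057), (10910, 9015), (10911, 13059), (10912, 13062), (10913, 8982), (10914, 13063), (10915, 13064), (10916, 8984), (10917, 13065), (10918, 8985), (10919, 8990), (10920, 13066), (10921, 8991), (10922, 8993), (10923, 10923), (10924, 13069), (10925, 12108), (10926, 9090), (10927, 13073), (10928, 13075), (10929, 9002), (10930, 13076), (10931, 9004), (10932, 12279), (10933, 13080), (10934, 13081), (10935, 13082), (10936, 9008), (10937, 13083), (10938,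 9009), (10939, 9011), (10940, 11758), (10941, 13086), (10942, 9014), (10943, 11819)]
    ⟨e3 q10880 L380263 q13029, e3 q10881 (flp_i L261353) q8957, e3 q10882 L380293 q13033, e3 q10883 L380307 q13035, e3 q10884 (flp_i L261376) q8959, e3 q10885 (flp_i L261385) q8960, e3 q10886 L261396 q10886, e3 q10887 L380340 q13039, e3 q10888 (flp_i L261406) q8962, e3 q10889 L261424 q10889, e3 q10890 L380360 q13041, e3 q10891 (flp_i L261434) q8964, e3 q10892 L261451 q10892, e3 q10893 (flp_i L261452) q8967, e3 q10894 L261467 q10894, e3 q10895 L261472 q10895, e3 q10896 L261482 q8998, e3 q10897 L261528 q9000, e3 q10898 L261541 q9001, e3 q10899 L380563 q13050, e3 q10900 L380596 q13051, e3 q10901 (flp_i L261586) q8973, e3 q10902 L261624 q9006, e3 q10903 L261635 q9007, e3 q10904 L380697 q13052, e3 q10905 L380716 q13054, e3 q10906 (flp_i L261657) q8976, e3 q10907 L380726 q13055, e3 q10908 (flp_i L261679) q8978, e3 q10909 L380770 q13057, e3 q10910 L261710 q9015, e3 q10911 L380809 q13059, e3 q10912 L380831 q13062, e3 q10913 (flp_i L261735) q8982,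 e3 q10914 L380847 q13063, e3 q10915 L380865 q13064, e3 q10916 (flp_i L261762) q8984, e3 q10917 L380882 q13065, e3 q10918 (flp_i L261778) q8985, e3 q10919 (flp_i L261847) q8990, e3 q10920 L381003 q13066, e3 q10921 (flp_i L261863) q8991, e3 q10922 (flp_i L261872) q8993, e3 q10923 L261972 q10923, e3 q10924 L381331 q13069, e3 q10925 (flp_i L611921) q12108, e3 q10926 (flp_i L617625) q9090, e3 q10927 L381376 q13073, e3 q10928 L381402 q13075, e3 q10929 (flp_i L262113) q9002, e3 q10930 L381423 q13076, e3 q10931 (flp_i L262145) q9004, e3 q10932 (flp_i L617644) q12279, e3 q10933 L381548 q13080, e3 q10934 L381568 q13081, e3 q10935 L381588 q13082, e3 q10936 (flp_i L262246) q9008, e3 q10937 L381607 q13083, e3 q10938 (flp_i L262264) q9009, e3 q10939 (flp_i L262275) q9011, e3 q10940 (flp_i L612347) q11758, e3 q10941 L381682 q13086, e3 q10942 (flp_i L262314) q9014, e3 q10943 (flp_i L617611) q11819, trivial⟩ (by decide +kernel)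

theorem ce_i_171 : ∀ r, r < 64 → sm gi (Qf (10944 + r)) = Qf (tab Gen.i (10944 + r)) :=
  edges_tab (sm gi) Qf (tab Gen.i) 10944 [(10944, 13090), (10945, 13091), (10946, 13093), (10947, 9017), (10948, 13096), (10949, 13098), (10950, 9018), (10951, 9020), (10952, 9021), (10953, 13101), (10954, 9023), (10955, 13103), (10956, 9025), (10957, 12739), (10958, 12862), (10959, 13108), (10960, 9028), (10961, 13109), (10962, 9029), (10963, 13111), (10964, 9030), (10965, 13114), (10966, 9032), (10967, 10967), (10968, 12860), (10969, 12863), (10970, 13117), (10971, 9037), (10972, 13120), (10973, 9039), (10974, 13122), (10975, 9041), (10976, 10976), (10977, 13124), (10978, 9043), (10979, 10979), (10980, 9091), (10981, 9093), (10982, 13130), (10983, 9095), (10984, 9096), (10985, 13135), (10986, 13137), (10987, 9050), (10988, 13138), (10989, 9052), (10990, 9102), (10991, 13142), (10992, 13143), (10993, 13145), (10994, 9056), (10995, 13147), (10996, 9057), (10997, 9059), (10998, 9110), (10999, 13151), (11000, 13154), (11001, 9062), (11002,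 9115), (11003, 13158), (11004, 13160), (11005, 13163), (11006, 9065), (11007, 13166)]
    ⟨e3 q10944 L381708 q13090, e3 q10945 L381721 q13091, e3 q10946 L381743 q13093, e3 q10947 (flp_i L262349) q9017, e3 q10948 L381763 q13096, e3 q10949 L381777 q13098, e3 q10950 (flp_i L262369) q9018, e3 q10951 (flp_i L262386) q9020, e3 q10952 (flp_i L262403) q9021, e3 q10953 L381842 q13101, e3 q10954 (flp_i L262422) q9023, e3 q10955 L381871 q13103, e3 q10956 (flp_i L262447) q9025, e3 q10957 (flp_i L641085) q12739, e3 q10958 (flp_i L641196) q12862, e3 q10959 L381935 q13108, e3 q10960 (flp_i L262490) q9028, e3 q10961 L381952 q13109, e3 q10962 (flp_i L262508) q9029, e3 q10963 L381973 q13111, e3 q10964 (flp_i L262525) q9030, e3 q10965 L381999 q13114, e3 q10966 (flp_i L262544) q9032, e3 q10967 L262560 q10967, e3 q10968 (flp_i L641177) q12860, e3 q10969 (flp_i L641184) q12863, e3 q10970 L382080 q13117, e3 q10971 (flp_i L262598) q9037, e3 q10972 L382103 q13120, e3 q10973 (flp_i L262615) q9039, e3 q10974 L382132 q13122, e3 q10975 (flp_i L262633)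 q9041, e3 q10976 L262649 q10976, e3 q10977 L382150 q13124, e3 q10978 (flp_i L262658) q9043, e3 q10979 L262675 q10979, e3 q10980 L262691 q9091, e3 q10981 L262770 q9093, e3 q10982 L382366 q13130, e3 q10983 L262785 q9095, e3 q10984 L262797 q9096, e3 q10985 L382413 q13135, e3 q10986 L382437 q13137, e3 q10987 (flp_i L262813) q9050, e3 q10988 L382454 q13138, e3 q10989 (flp_i L262844) q9052, e3 q10990 L262909 q9102, e3 q10991 L382569 q13142, e3 q10992 L382589 q13143, e3 q10993 L382608 q13145, e3 q10994 (flp_i L262938) q9056, e3 q10995 L382623 q13147, e3 q10996 (flp_i L262955) q9057, e3 q10997 (flp_i L262963) q9059, e3 q10998 L262980 q9110, e3 q10999 L382675 q13151, e3 q11000 L382695 q13154, e3 q11001 (flp_i L263002) q9062, e3 q11002 L263017 q9115, e3 q11003 L382721 q13158, e3 q11004 L382735 q13160, e3 q11005 L382757 q13163, e3 q11006 (flp_i L263039) q9065, e3 q11007 L382772 q13166, trivial⟩ (by decide +kernel)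

theorem ce_i_172 : ∀ r, r < 64 → sm gi (Qf (11008 + r)) = Qf (tab Gen.i (11008 + r)) :=
  edges_tab (sm gi) Qf (tab Gen.i) 11008 [(11008, 13167), (11009, 9066), (11010, 13169), (11011, 9068), (11012, 13171), (11013, 9069), (11014, 9071), (11015, 9131), (11016, 13172), (11017, 13175), (11018, 9074), (11019, 9075), (11020, 13176), (11021, 9076), (11022, 13179), (11023, 9078), (11024, 11024), (11025, 9082), (11026, 13181), (11027, 9083), (11028, 11028), (11029, 13183), (11030, 9087), (11031, 11031), (11032, 13186), (11033, 13126), (11034, 13127), (11035, 13190), (11036, 13192), (11037, 9094), (11038, 13131), (11039, 13196), (11040, 13198), (11041, 13200), (11042, 9097), (11043, 13202), (11044, 9098), (11045, 9100), (11046, 13139), (11047, 13206), (11048, 13209), (11049, 9103), (11050, 13210), (11051, 9104), (11052, 13211), (11053, 9105), (11054, 13214), (11055, 9107), (11056, 11056), (11057, 12914), (11058, 12790), (11059, 13218), (11060, 13220), (11061, 9112), (11062, 13223), (11063, 13225), (11064, 9113), (11065, 13155), (11066,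 13229), (11067, 13232), (11068, 9116), (11069, 13234), (11070, 9117), (11071, 13237)]
    ⟨e3 q11008 L382782 q13167, e3 q11009 (flp_i L263057) q9066, e3 q11010 L382799 q13169, e3 q11011 (flp_i L263070) q9068, e3 q11012 L382815 q13171, e3 q11013 (flp_i L263087) q9069, e3 q11014 (flp_i L263103) q9071, e3 q11015 L263145 q9131, e3 q11016 L382900 q13172, e3 q11017 L382925 q13175, e3 q11018 (flp_i L263164) q9074, e3 q11019 (flp_i L263182) q9075, e3 q11020 L382956 q13176, e3 q11021 (flp_i L263198) q9076, e3 q11022 L382979 q13179, e3 q11023 (flp_i L263213) q9078, e3 q11024 L263225 q11024, e3 q11025 (flp_i L263241) q9082, e3 q11026 L383052 q13181, e3 q11027 (flp_i L263265) q9083, e3 q11028 L263309 q11028, e3 q11029 L383114 q13183, e3 q11030 (flp_i L263315) q9087, e3 q11031 L263326 q11031, e3 q11032 L383175 q13186, e3 q11033 (flp_i L382203) q13126, e3 q11034 (flp_i L382338) q13127, e3 q11035 L383426 q13190, e3 q11036 L383450 q13192, e3 q11037 (flp_i L263504) q9094, e3 q11038 (flp_i L382385) q13131, e3 q11039 L383482 q13196, e3 q11040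 L383498 q13198, e3 q11041 L383524 q13200, e3 q11042 (flp_i L263547) q9097, e3 q11043 L383544 q13202, e3 q11044 (flp_i L263569) q9098, e3 q11045 (flp_i L263587) q9100, e3 q11046 (flp_i L382548) q13139, e3 q11047 L383711 q13206, e3 q11048 L383739 q13209, e3 q11049 (flp_i L263704) q9103, e3 q11050 L383757 q13210, e3 q11051 (flp_i L263723) q9104, e3 q11052 L383776 q13211, e3 q11053 (flp_i L263741) q9105, e3 q11054 L383804 q13214, e3 q11055 (flp_i L263758) q9107, e3 q11056 L263773 q11056, e3 q11057 (flp_i L615396) q12914, e3 q11058 (flp_i L622140) q12790, e3 q11059 L383854 q13218, e3 q11060 L383887 q13220, e3 q11061 (flp_i L263806) q9112, e3 q11062 L383904 q13223, e3 q11063 L383915 q13225, e3 q11064 (flp_i L263824) q9113, e3 q11065 (flp_i L382705) q13155, e3 q11066 L383939 q13229, e3 q11067 L383959 q13232, e3 q11068 (flp_i L263848) q9116, e3 q11069 L383977 q13234, e3 q11070 (flp_i L263860) q9117, e3 q11071 L383997 q13237, trivial⟩ (by decide +kernel)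

theorem ce_i_173 : ∀ r, r < 64 → sm gi (Qf (11072 + r)) = Qf (tab Gen.i (11072 + r)) :=
  edges_tab (sm gi) Qf (tab Gen.i) 11072 [(11072, 13239), (11073, 9118), (11074, 13243), (11075, 13245), (11076, 9120), (11077, 13248), (11078, 9121), (11079, 13226), (11080, 9123), (11081, 13251), (11082, 9125), (11083, 13253), (11084, 9127), (11085, 13254), (11086, 9129), (11087, 13256), (11088, 13259), (11089, 9132), (11090, 13262), (11091, 13263), (11092, 9133), (11093, 13266), (11094, 9135), (11095, 13269), (11096, 9137), (11097, 11097), (11098, 13271), (11099, 9139), (11100, 11100), (11101, 13274), (11102, 9142), (11103, 13277), (11104, 13278), (11105, 9143), (11106, 13282), (11107, 13284), (11108, 9145), (11109, 9146), (11110, 11110), (11111, 13288), (11112, 9148), (11113, 11113), (11114, 13290), (11115, 9150), (11116, 11116), (11117, 9153), (11118, 11118), (11119, 11119), (11120, 9214), (11121, 9215), (11122, 9221), (11123, 13299), (11124, 13301), (11125, 13302), (11126, 9160), (11127, 9161), (11128, 9163), (11129, 9229), (11130,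 13305), (11131, 9166), (11132, 9167), (11133, 9239), (11134, 9240), (11135, 13310)]
    ⟨e3 q11072 L384009 q13239, e3 q11073 (flp_i L263880) q9118, e3 q11074 L384031 q13243, e3 q11075 L384043 q13245, e3 q11076 (flp_i L263896) q9120, e3 q11077 L384059 q13248, e3 q11078 (flp_i L263906) q9121, e3 q11079 (flp_i L383923) q13226, e3 q11080 (flp_i L263922) q9123, e3 q11081 L384107 q13251, e3 q11082 (flp_i L263940) q9125, e3 q11083 L384133 q13253, e3 q11084 (flp_i L263966) q9127, e3 q11085 L384155 q13254, e3 q11086 (flp_i L263990) q9129, e3 q11087 L384194 q13256, e3 q11088 L384220 q13259, e3 q11089 (flp_i L264029) q9132, e3 q11090 L384244 q13262, e3 q11091 L384250 q13263, e3 q11092 (flp_i L264053) q9133, e3 q11093 L384276 q13266, e3 q11094 (flp_i L264068) q9135, e3 q11095 L384302 q13269, e3 q11096 (flp_i L264087) q9137, e3 q11097 L264103 q11097, e3 q11098 L384321 q13271, e3 q11099 (flp_i L264111) q9139, e3 q11100 L264125 q11100, e3 q11101 L384355 q13274, e3 q11102 (flp_i L264132) q9142, e3 q11103 L384379 q13277, e3 q11104 L384388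 q13278, e3 q11105 (flp_i L264157) q9143, e3 q11106 L384420 q13282, e3 q11107 L384433 q13284, e3 q11108 (flp_i L264179) q9145, e3 q11109 (flp_i L264186) q9146, e3 q11110 L264200 q11110, e3 q11111 L384466 q13288, e3 q11112 (flp_i L264208) q9148, e3 q11113 L264224 q11113, e3 q11114 L384484 q13290, e3 q11115 (flp_i L264233) q9150, e3 q11116 L264250 q11116, e3 q11117 (flp_i L264251) q9153, e3 q11118 L264264 q11118, e3 q11119 L264268 q11119, e3 q11120 L264301 q9214, e3 q11121 L264310 q9215, e3 q11122 L264484 q9221, e3 q11123 L384900 q13299, e3 q11124 L384917 q13301, e3 q11125 L384946 q13302, e3 q11126 (flp_i L264511) q9160, e3 q11127 (flp_i L264537) q9161, e3 q11128 (flp_i L264554) q9163, e3 q11129 L264645 q9229, e3 q11130 L385128 q13305, e3 q11131 (flp_i L264666) q9166, e3 q11132 (flp_i L264686) q9167, e3 q11133 L264747 q9239, e3 q11134 L264759 q9240, e3 q11135 L385281 q13310, trivial⟩ (by decide +kernel)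

theorem ce_i_174 : ∀ r, r < 64 → sm gi (Qf (11136 + r)) = Qf (tab Gen.i (11136 + r)) :=
  edges_tab (sm gi) Qf (tab Gen.i) 11136 [(11136, 13312), (11137, 13314), (11138, 9172), (11139, 13315), (11140, 9173), (11141, 9248), (11142, 13319), (11143, 13322), (11144, 9176), (11145, 13325), (11146, 9177), (11147, 13328), (11148, 13330), (11149, 9178), (11150, 13333), (11151, 13334), (11152, 9180), (11153, 9181), (11154, 13316), (11155, 13338), (11156, 9183), (11157, 13339), (11158, 9185), (11159, 13341), (11160, 13344), (11161, 9189), (11162, 13347), (11163, 13348), (11164, 9190), (11165, 13350), (11166, 9192), (11167, 13352), (11168, 9194), (11169, 13353), (11170, 9196), (11171, 13354), (11172, 9198), (11173, 13356), (11174, 13357), (11175, 9199), (11176, 13361), (11177, 13362), (11178, 9201), (11179, 9202), (11180, 9327), (11181, 13366), (11182, 9204), (11183, 9330), (11184, 13368), (11185, 9206), (11186, 9333), (11187, 9209), (11188, 9335), (11189, 9336), (11190, 12657), (11191, 9653), (11192, 13376), (11193, 9213), (11194,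 13187), (11195, 12658), (11196, 12655), (11197, 13382), (11198, 13384), (11199, 13385)]
    ⟨e3 q11136 L385296 q13312, e3 q11137 L385323 q13314, e3 q11138 (flp_i L264782) q9172, e3 q11139 L385357 q13315, e3 q11140 (flp_i L264806) q9173, e3 q11141 L264815 q9248, e3 q11142 L385384 q13319, e3 q11143 L385402 q13322, e3 q11144 (flp_i L264830) q9176, e3 q11145 L385422 q13325, e3 q11146 (flp_i L264843) q9177, e3 q11147 L385442 q13328, e3 q11148 L385454 q13330, e3 q11149 (flp_i L264866) q9178, e3 q11150 L385479 q13333, e3 q11151 L385492 q13334, e3 q11152 (flp_i L264883) q9180, e3 q11153 (flp_i L264895) q9181, e3 q11154 (flp_i L385369) q13316, e3 q11155 L385528 q13338, e3 q11156 (flp_i L264915) q9183, e3 q11157 L385553 q13339, e3 q11158 (flp_i L264928) q9185, e3 q11159 L385636 q13341, e3 q11160 L385662 q13344, e3 q11161 (flp_i L265010) q9189, e3 q11162 L385687 q13347, e3 q11163 L385693 q13348, e3 q11164 (flp_i L265033) q9190, e3 q11165 L385720 q13350, e3 q11166 (flp_i L265049) q9192, e3 q11167 L385749 q13352, e3 q11168 (flp_i L265068)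 q9194, e3 q11169 L385767 q13353, e3 q11170 (flp_i L265094) q9196, e3 q11171 L385807 q13354, e3 q11172 (flp_i L265118) q9198, e3 q11173 L385833 q13356, e3 q11174 L385842 q13357, e3 q11175 (flp_i L265143) q9199, e3 q11176 L385875 q13361, e3 q11177 L385885 q13362, e3 q11178 (flp_i L265166) q9201, e3 q11179 (flp_i L265173) q9202, e3 q11180 L265186 q9327, e3 q11181 L385919 q13366, e3 q11182 (flp_i L265196) q9204, e3 q11183 L265214 q9330, e3 q11184 L385938 q13368, e3 q11185 (flp_i L265224) q9206, e3 q11186 L265239 q9333, e3 q11187 (flp_i L265241) q9209, e3 q11188 L265254 q9335, e3 q11189 L265260 q9336, e3 q11190 (flp_i L546976) q12657, e3 q11191 (flp_i L616047) q9653, e3 q11192 L386068 q13376, e3 q11193 (flp_i L265312) q9213, e3 q11194 (flp_i L616065) q13187, e3 q11195 (flp_i L542819) q12658, e3 q11196 (flp_i L561822) q12655, e3 q11197 L386468 q13382, e3 q11198 L386485 q13384, e3 q11199 L386516 q13385, trivial⟩ (by decide +kernel)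

theorem ce_i_175 : ∀ r, r < 64 → sm gi (Qf (11200 + r)) = Qf (tab Gen.i (11200 + r)) :=
  edges_tab (sm gi) Qf (tab Gen.i) 11200 [(11200, 9218), (11201, 9219), (11202, 13296), (11203, 13389), (11204, 13392), (11205, 9222), (11206, 13394), (11207, 9223), (11208, 13396), (11209, 9224), (11210, 13399), (11211, 9226), (11212, 13386), (11213, 13402), (11214, 13405), (11215, 9230), (11216, 13408), (11217, 13409), (11218, 9231), (11219, 13411), (11220, 9233), (11221, 13413), (11222, 9235), (11223, 13414), (11224, 9237), (11225, 12911), (11226, 13418), (11227, 13307), (11228, 13421), (11229, 13424), (11230, 9241), (11231, 13427), (11232, 9242), (11233, 13430), (11234, 13432), (11235, 9243), (11236, 13436), (11237, 13438), (11238, 9245), (11239, 13441), (11240, 9246), (11241, 9262), (11242, 13444), (11243, 13447), (11244, 9249), (11245, 13450), (11246, 13452), (11247, 9250), (11248, 13456), (11249, 13458), (11250, 9252), (11251, 13462), (11252, 13464), (11253, 9254), (11254, 13467), (11255, 9255), (11256, 13433), (11257, 13470), (11258,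 13472), (11259, 9257), (11260, 13475), (11261, 9258), (11262, 13439), (11263, 13479)]
    ⟨e3 q11200 (flp_i L265562) q9218, e3 q11201 (flp_i L265590) q9219, e3 q11202 (flp_i L384881) q13296, e3 q11203 L386592 q13389, e3 q11204 L386614 q13392, e3 q11205 (flp_i L265620) q9222, e3 q11206 L386640 q13394, e3 q11207 (flp_i L265635) q9223, e3 q11208 L386665 q13396, e3 q11209 (flp_i L265662) q9224, e3 q11210 L386711 q13399, e3 q11211 (flp_i L265684) q9226, e3 q11212 (flp_i L386573) q13386, e3 q11213 L386917 q13402, e3 q11214 L386946 q13405, e3 q11215 (flp_i L265850) q9230, e3 q11216 L386974 q13408, e3 q11217 L386982 q13409, e3 q11218 (flp_i L265876) q9231, e3 q11219 L387010 q13411, e3 q11220 (flp_i L265896) q9233, e3 q11221 L387044 q13413, e3 q11222 (flp_i L265917) q9235, e3 q11223 L387065 q13414, e3 q11224 (flp_i L265948) q9237, e3 q11225 (flp_i L616109) q12911, e3 q11226 L387112 q13418, e3 q11227 (flp_i L385264) q13307, e3 q11228 L387135 q13421, e3 q11229 L387155 q13424, e3 q11230 (flp_i L266004) q9241, e3 q11231 L387179 q13427,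 e3 q11232 (flp_i L266017) q9242, e3 q11233 L387203 q13430, e3 q11234 L387217 q13432, e3 q11235 (flp_i L266042) q9243, e3 q11236 L387246 q13436, e3 q11237 L387261 q13438, e3 q11238 (flp_i L266063) q9245, e3 q11239 L387282 q13441, e3 q11240 (flp_i L266077) q9246, e3 q11241 L266087 q9262, e3 q11242 L387301 q13444, e3 q11243 L387320 q13447, e3 q11244 (flp_i L266102) q9249, e3 q11245 L387338 q13450, e3 q11246 L387350 q13452, e3 q11247 (flp_i L266118) q9250, e3 q11248 L387374 q13456, e3 q11249 L387389 q13458, e3 q11250 (flp_i L266138) q9252, e3 q11251 L387417 q13462, e3 q11252 L387431 q13464, e3 q11253 (flp_i L266159) q9254, e3 q11254 L387453 q13467, e3 q11255 (flp_i L266171) q9255, e3 q11256 (flp_i L387229) q13433, e3 q11257 L387472 q13470, e3 q11258 L387486 q13472, e3 q11259 (flp_i L266195) q9257, e3 q11260 L387506 q13475, e3 q11261 (flp_i L266209) q9258, e3 q11262 (flp_i L387274) q13439, e3 q11263 L387532 q13479, trivial⟩ (by decide +kernel)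

theorem ce_i_176 : ∀ r, r < 64 → sm gi (Qf (11264 + r)) = Qf (tab Gen.i (11264 + r)) :=
  edges_tab (sm gi) Qf (tab Gen.i) 11264 [(11264, 9260), (11265, 13442), (11266, 13482), (11267, 9263), (11268, 13484), (11269, 9265), (11270, 13485), (11271, 9267), (11272, 9269), (11273, 13487), (11274, 9271), (11275, 13490), (11276, 13491), (11277, 9272), (11278, 13495), (11279, 13497), (11280, 9274), (11281, 9275), (11282, 9378), (11283, 13501), (11284, 9277), (11285, 9381), (11286, 13503), (11287, 9279), (11288, 9384), (11289, 9282), (11290, 9386), (11291, 9387), (11292, 9285), (11293, 13499), (11294, 9287), (11295, 9288), (11296, 9291), (11297, 13509), (11298, 13492), (11299, 9290), (11300, 13358), (11301, 13510), (11302, 9295), (11303, 9298), (11304, 9391), (11305, 9392), (11306, 9393), (11307, 9394), (11308, 9395), (11309, 9350), (11310, 13516), (11311, 9352), (11312, 13518), (11313, 9307), (11314, 9308), (11315, 12663), (11316, 12513), (11317, 12661), (11318, 12499), (11319, 12512), (11320, 12500), (11321, 11924), (11322, 9321),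 (11323, 9320), (11324, 9318), (11325, 13520), (11326, 13513), (11327, 12654)]
    ⟨e3 q11264 (flp_i L266227) q9260, e3 q11265 (flp_i L387294) q13442, e3 q11266 L387555 q13482, e3 q11267 (flp_i L266247) q9263, e3 q11268 L387582 q13484, e3 q11269 (flp_i L266273) q9265, e3 q11270 L387604 q13485, e3 q11271 (flp_i L266298) q9267, e3 q11272 (flp_i L266322) q9269, e3 q11273 L387688 q13487, e3 q11274 (flp_i L266360) q9271, e3 q11275 L387717 q13490, e3 q11276 L387725 q13491, e3 q11277 (flp_i L266385) q9272, e3 q11278 L387763 q13495, e3 q11279 L387775 q13497, e3 q11280 (flp_i L266411) q9274, e3 q11281 (flp_i L266417) q9275, e3 q11282 L266431 q9378, e3 q11283 L387812 q13501, e3 q11284 (flp_i L266444) q9277, e3 q11285 L266462 q9381, e3 q11286 L387834 q13503, e3 q11287 (flp_i L266474) q9279, e3 q11288 L266492 q9384, e3 q11289 (flp_i L266494) q9282, e3 q11290 L266512 q9386, e3 q11291 L266517 q9387, e3 q11292 (flp_i L266534) q9285, e3 q11293 (flp_i L646929) q13499, e3 q11294 (flp_i L266561) q9287, e3 q11295 (flp_i L266570) q9288, e3 q11296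 L646944 q9291, e3 q11297 L388010 q13509, e3 q11298 (flp_i L629202) q13492, e3 q11299 (flp_i L266603) q9290, e3 q11300 (flp_i L645514) q13358, e3 q11301 L388078 q13510, e3 q11302 (flp_i L266651) q9295, e3 q11303 (flp_i L266672) q9298, e3 q11304 L266689 q9391, e3 q11305 L266696 q9392, e3 q11306 L266706 q9393, e3 q11307 L266713 q9394, e3 q11308 L266719 q9395, e3 q11309 L267402 q9350, e3 q11310 L389196 q13516, e3 q11311 L267416 q9352, e3 q11312 L389220 q13518, e3 q11313 (flp_i L267433) q9307, e3 q11314 (flp_i L267448) q9308, e3 q11315 (flp_i L562974) q12663, e3 q11316 (flp_i L542658) q12513, e3 q11317 (flp_i L513284) q12661, e3 q11318 (flp_i L542666) q12499, e3 q11319 (flp_i L513290) q12512, e3 q11320 (flp_i L542957) q12500, e3 q11321 (flp_i L542516) q11924, e3 q11322 (flp_i L615850) q9321, e3 q11323 (flp_i L615605) q9320, e3 q11324 (flp_i L267913) q9318, e3 q11325 (flp_i L615871) q13520, e3 q11326 (flp_i L615784) q13513, e3 q11327 (flp_i L615740) q12654, trivial⟩ (by decide +kernel)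

theorem ce_i_177 : ∀ r, r < 64 → sm gi (Qf (11328 + r)) = Qf (tab Gen.i (11328 + r)) :=
  edges_tab (sm gi) Qf (tab Gen.i) 11328 [(11328, 9323), (11329, 13363), (11330, 13364), (11331, 13525), (11332, 9328), (11333, 13367), (11334, 9331), (11335, 13369), (11336, 13370), (11337, 13371), (11338, 13372), (11339, 13373), (11340, 13530), (11341, 13531), (11342, 9339), (11343, 9340), (11344, 12689), (11345, 12690), (11346, 9388), (11347, 12691), (11348, 12692), (11349, 12693), (11350, 12694), (11351, 13540), (11352, 13543), (11353, 9351), (11354, 13545), (11355, 13548), (11356, 9353), (11357, 13551), (11358, 13552), (11359, 9354), (11360, 13554), (11361, 9356), (11362, 13556), (11363, 9358), (11364, 13557), (11365, 9360), (11366, 12667), (11367, 12668), (11368, 12669), (11369, 12670), (11370, 12671), (11371, 9587), (11372, 12672), (11373, 12704), (11374, 9375), (11375, 9374), (11376, 9371), (11377, 13534), (11378, 13559), (11379, 13498), (11380, 9577), (11381, 13502), (11382, 9382), (11383, 13504), (11384, 13505), (11385, 13506),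 (11386, 13507), (11387, 13508), (11388, 13511), (11389, 13512), (11390, 9398), (11391, 9400)]
    ⟨e3 q11328 (flp_i L267975) q9323, e3 q11329 (flp_i L385900) q13363, e3 q11330 (flp_i L385908) q13364, e3 q11331 L390065 q13525, e3 q11332 (flp_i L268017) q9328, e3 q11333 (flp_i L385936) q13367, e3 q11334 (flp_i L268035) q9331, e3 q11335 (flp_i L385953) q13369, e3 q11336 (flp_i L385960) q13370, e3 q11337 (flp_i L385971) q13371, e3 q11338 (flp_i L385978) q13372, e3 q11339 (flp_i L385986) q13373, e3 q11340 L390470 q13530, e3 q11341 L390495 q13531, e3 q11342 (flp_i L268320) q9339, e3 q11343 (flp_i L268336) q9340, e3 q11344 (flp_i L546151) q12689, e3 q11345 (flp_i L546174) q12690, e3 q11346 (flp_i L629668) q9388, e3 q11347 (flp_i L543416) q12691, e3 q11348 (flp_i L546209) q12692, e3 q11349 (flp_i L543351) q12693, e3 q11350 (flp_i L543188) q12694, e3 q11351 L390984 q13540, e3 q11352 L391005 q13543, e3 q11353 (flp_i L268690) q9351, e3 q11354 L391020 q13545, e3 q11355 L391042 q13548, e3 q11356 (flp_i L268712) q9353, e3 q11357 L391065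 q13551, e3 q11358 L391071 q13552, e3 q11359 (flp_i L268731) q9354, e3 q11360 L391093 q13554, e3 q11361 (flp_i L268746) q9356, e3 q11362 L391118 q13556, e3 q11363 (flp_i L268763) q9358, e3 q11364 L391135 q13557, e3 q11365 (flp_i L268785) q9360, e3 q11366 (flp_i L562308) q12667, e3 q11367 (flp_i L546411) q12668, e3 q11368 (flp_i L546388) q12669, e3 q11369 (flp_i L546451) q12670, e3 q11370 (flp_i L546392) q12671, e3 q11371 (flp_i L646338) q9587, e3 q11372 (flp_i L543222) q12672, e3 q11373 (flp_i L629239) q12704, e3 q11374 (flp_i L646481) q9375, e3 q11375 (flp_i L646475) q9374, e3 q11376 (flp_i L268980) q9371, e3 q11377 (flp_i L646444) q13534, e3 q11378 (flp_i L646308) q13559, e3 q11379 (flp_i L387789) q13498, e3 q11380 (flp_i L646370) q9577, e3 q11381 (flp_i L387832) q13502, e3 q11382 (flp_i L269085) q9382, e3 q11383 (flp_i L387854) q13504, e3 q11384 (flp_i L387860) q13505, e3 q11385 (flp_i L387871) q13506, e3 q11386 (flp_i L387878) q13507, e3 q11387 (flp_i L387883) q13508, e3 q11388 (flp_i L388116) q13511, e3 q11389 (flp_i L388124)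 q13512, e3 q11390 (flp_i L269868) q9398, e3 q11391 (flp_i L269884) q9400, trivial⟩ (by decide +kernel)

theorem ce_i_178 : ∀ r, r < 64 → sm gi (Qf (11392 + r)) = Qf (tab Gen.i (11392 + r)) :=
  edges_tab (sm gi) Qf (tab Gen.i) 11392 [(11392, 11392), (11393, 13574), (11394, 13576), (11395, 9404), (11396, 13577), (11397, 9405), (11398, 9413), (11399, 9407), (11400, 9409), (11401, 13578), (11402, 9411), (11403, 9463), (11404, 13580), (11405, 9415), (11406, 9417), (11407, 13583), (11408, 9419), (11409, 11409), (11410, 13585), (11411, 9421), (11412, 11412), (11413, 13588), (11414, 13589), (11415, 9424), (11416, 13591), (11417, 13592), (11418, 9426), (11419, 9427), (11420, 11420), (11421, 13595), (11422, 9429), (11423, 11423), (11424, 13597), (11425, 9431), (11426, 11426), (11427, 9434), (11428, 11428), (11429, 11429), (11430, 9438), (11431, 11752), (11432, 13604), (11433, 9441), (11434, 9443), (11435, 9445), (11436, 11436), (11437, 13608), (11438, 9447), (11439, 11439), (11440, 13612), (11441, 13615), (11442, 9450), (11443, 12732),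 (11444, 9451), (11445, 13618), (11446, 13620), (11447, 9455), (11448, 13622), (11449, 9456), (11450, 9470), (11451, 13625), (11452, 13627), (11453, 9458), (11454, 13630), (11455, 9459)]
    ⟨e3 q11392 L269902 q11392, e3 q11393 L649433 q13574, e3 q11394 L649450 q13576, e3 q11395 (flp_i L270068) q9404, e3 q11396 L649458 q13577, e3 q11397 (flp_i L270085) q9405, e3 q11398 L648755 q9413, e3 q11399 (flp_i L270110) q9407, e3 q11400 (flp_i L270126) q9409, e3 q11401 (flp_i L649477) q13578, e3 q11402 (flp_i L270149) q9411, e3 q11403 L633585 q9463, e3 q11404 L649490 q13580, e3 q11405 (flp_i L270244) q9415, e3 q11406 (flp_i L270260) q9417, e3 q11407 L649517 q13583, e3 q11408 (flp_i L270277) q9419, e3 q11409 L270290 q11409, e3 q11410 L649532 q13585, e3 q11411 (flp_i L270299) q9421, e3 q11412 L270315 q11412, e3 q11413 L649558 q13588, e3 q11414 L649568 q13589, e3 q11415 (flp_i L270352) q9424, e3 q11416 L649585 q13591, e3 q11417 L649593 q13592, e3 q11418 (flp_i L270375) q9426, e3 q11419 (flp_i L270384) q9427, e3 q11420 L270398 q11420, e3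 q11421 L649617 q13595, e3 q11422 (flp_i L270407) q9429, e3 q11423 L270425 q11423, e3 q11424 L649636 q13597, e3 q11425 (flp_i L270433) q9431, e3 q11426 L270447 q11426, e3 q11427 (flp_i L270448) q9434, e3 q11428 L270464 q11428, e3 q11429 L270471 q11429, e3 q11430 (flp_i L270926) q9438, e3 q11431 L649056 q11752, e3 q11432 L649692 q13604, e3 q11433 (flp_i L271110) q9441, e3 q11434 (flp_i L271127) q9443, e3 q11435 (flp_i L271142) q9445, e3 q11436 L271158 q11436, e3 q11437 L649730 q13608, e3 q11438 (flp_i L271166) q9447, e3 q11439 L271179 q11439, e3 q11440 L649759 q13612, e3 q11441 L649782 q13615, e3 q11442 (flp_i L271267) q9450, e3 q11443 (flp_i L649027) q12732, e3 q11444 (flp_i L271281) q9451, e3 q11445 L649807 q13618, e3 q11446 L649820 q13620, e3 q11447 (flp_i L271378) q9455, e3 q11448 L649835 q13622, e3 q11449 (flp_i L271391) q9456, e3 q11450 L648246 q9470, e3 q11451 L649858 q13625, e3 q11452 L649872 q13627, e3 q11453 (flp_i L271417) q9458, e3 q11454 L649890 q13630, e3 q11455 (flp_i L271430) q9459, trivial⟩ (by decide +kernel)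

theorem ce_i_179 : ∀ r, r < 64 → sm gi (Qf (11456 + r)) = Qf (tab Gen.i (11456 + r)) :=
  edges_tab (sm gi) Qf (tab Gen.i) 11456 [(11456, 13102), (11457, 13634), (11458, 9461), (11459, 13579), (11460, 13636), (11461, 9464), (11462, 13638), (11463, 9466), (11464, 13623), (11465, 9468), (11466, 9472), (11467, 13641), (11468, 13643), (11469, 9474), (11470, 9475), (11471, 11471), (11472, 13646), (11473, 9477), (11474, 11474), (11475, 13648), (11476, 9479), (11477, 11477), (11478, 9482), (11479, 11479), (11480, 11480), (11481, 13654), (11482, 9486), (11483, 11483), (11484, 13657), (11485, 13658), (11486, 9488), (11487, 9489), (11488, 11488), (11489, 11489), (11490, 13662), (11491, 9493), (11492, 11492), (11493, 9496), (11494, 11494), (11495, 11495), (11496, 11496), (11497, 11497), (11498, 11498), (11499, 13673), (11500, 9502), (11501, 13676), (11502, 9504), (11503, 13679), (11504, 9506), (11505, 11505), (11506, 13681), (11507, 9508), (11508, 11508), (11509, 13685), (11510, 9511), (11511, 13688), (11512, 13690), (11513, 9513),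 (11514, 9514), (11515, 9572), (11516, 13693), (11517, 9516), (11518, 9571), (11519, 13695)]
    ⟨e3 q11456 L649058 q13102, e3 q11457 L649915 q13634, e3 q11458 (flp_i L271447) q9461, e3 q11459 (flp_i L649486) q13579, e3 q11460 L649929 q13636, e3 q11461 (flp_i L271469) q9464, e3 q11462 L649947 q13638, e3 q11463 (flp_i L271495) q9466, e3 q11464 (flp_i L649851) q13623, e3 q11465 (flp_i L271518) q9468, e3 q11466 (flp_i L271607) q9472, e3 q11467 L649974 q13641, e3 q11468 L649988 q13643, e3 q11469 (flp_i L271631) q9474, e3 q11470 (flp_i L271638) q9475, e3 q11471 L271655 q11471, e3 q11472 L650011 q13646, e3 q11473 (flp_i L271663) q9477, e3 q11474 L271676 q11474, e3 q11475 L650026 q13648, e3 q11476 (flp_i L271684) q9479, e3 q11477 L271698 q11477, e3 q11478 (flp_i L271699) q9482, e3 q11479 L271713 q11479, e3 q11480 L271717 q11480, e3 q11481 L650067 q13654, e3 q11482 (flp_i L271760) q9486, e3 q11483 L271787 q11483, e3 q11484 L650093 q13657, e3 q11485 L650102 q13658, e3 q11486 (flp_i L271802) q9488, e3 q11487 (flp_i L271817) q9489, e3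 q11488 L271833 q11488, e3 q11489 L271840 q11489, e3 q11490 L650135 q13662, e3 q11491 (flp_i L271848) q9493, e3 q11492 L271862 q11492, e3 q11493 (flp_i L271863) q9496, e3 q11494 L271877 q11494, e3 q11495 L271883 q11495, e3 q11496 L271892 q11496, e3 q11497 L271898 q11497, e3 q11498 L271905 q11498, e3 q11499 L650217 q13673, e3 q11500 (flp_i L272317) q9502, e3 q11501 L650245 q13676, e3 q11502 (flp_i L272346) q9504, e3 q11503 L650274 q13679, e3 q11504 (flp_i L272371) q9506, e3 q11505 L272405 q11505, e3 q11506 L650291 q13681, e3 q11507 (flp_i L272421) q9508, e3 q11508 L272455 q11508, e3 q11509 L650331 q13685, e3 q11510 (flp_i L272644) q9511, e3 q11511 L650365 q13688, e3 q11512 L650378 q13690, e3 q11513 (flp_i L272672) q9513, e3 q11514 (flp_i L272681) q9514, e3 q11515 L629581 q9572, e3 q11516 L650412 q13693, e3 q11517 (flp_i L272708) q9516, e3 q11518 L646682 q9571, e3 q11519 L650433 q13695, trivial⟩ (by decide +kernel)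

theorem ce_i_180 : ∀ r, r < 64 → sm gi (Qf (11520 + r)) = Qf (tab Gen.i (11520 + r)) :=
  edges_tab (sm gi) Qf (tab Gen.i) 11520 [(11520, 9518), (11521, 9583), (11522, 9521), (11523, 9585), (11524, 9586), (11525, 13701), (11526, 9524), (11527, 13705), (11528, 13708), (11529, 9526), (11530, 13711), (11531, 9527), (11532, 11532), (11533, 13715), (11534, 13717), (11535, 9529), (11536, 13719), (11537, 9530), (11538, 11538), (11539, 13722), (11540, 13724), (11541, 9532), (11542, 13727), (11543, 9533), (11544, 11544), (11545, 13731), (11546, 9535), (11547, 11547), (11548, 13734), (11549, 9538), (11550, 13737), (11551, 9539), (11552, 11552), (11553, 13741), (11554, 9541), (11555, 11555), (11556, 11556), (11557, 13745), (11558, 9544), (11559, 11559), (11560, 13748), (11561, 9547), (11562, 13749), (11563, 9549), (11564, 9551), (11565, 9555), (11566, 13694), (11567, 9557), (11568, 13751), (11569, 9558), (11570, 9562), (11571, 13691), (11572, 9565), (11573, 9588), (11574, 9589), (11575, 9590), (11576, 9591), (11577, 9581), (11578, 9579),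 (11579, 13538), (11580, 9576), (11581, 13564), (11582, 13696), (11583, 13697)]
    ⟨e3 q11520 (flp_i L272737) q9518, e3 q11521 L272752 q9583, e3 q11522 (flp_i L272754) q9521, e3 q11523 L272770 q9585, e3 q11524 L272778 q9586, e3 q11525 L650487 q13701, e3 q11526 (flp_i L272814) q9524, e3 q11527 L650530 q13705, e3 q11528 L650554 q13708, e3 q11529 (flp_i L272838) q9526, e3 q11530 L650576 q13711, e3 q11531 (flp_i L272853) q9527, e3 q11532 L272866 q11532, e3 q11533 L650610 q13715, e3 q11534 L650629 q13717, e3 q11535 (flp_i L272884) q9529, e3 q11536 L650646 q13719, e3 q11537 (flp_i L272901) q9530, e3 q11538 L272918 q11538, e3 q11539 L650672 q13722, e3 q11540 L650687 q13724, e3 q11541 (flp_i L272935) q9532, e3 q11542 L650711 q13727, e3 q11543 (flp_i L272949) q9533, e3 q11544 L272963 q11544, e3 q11545 L650742 q13731, e3 q11546 (flp_i L272972) q9535, e3 q11547 L272986 q11547, e3 q11548 L650765 q13734, e3 q11549 (flp_i L272994) q9538, e3 q11550 L650788 q13737, e3 q11551 (flp_i L273011) q9539, e3 q11552 L273026 q11552, e3 q11553 L650822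 q13741, e3 q11554 (flp_i L273033) q9541, e3 q11555 L273048 q11555, e3 q11556 L273053 q11556, e3 q11557 L650849 q13745, e3 q11558 (flp_i L273065) q9544, e3 q11559 L273080 q11559, e3 q11560 L650873 q13748, e3 q11561 (flp_i L273095) q9547, e3 q11562 L650879 q13749, e3 q11563 (flp_i L273119) q9549, e3 q11564 (flp_i L273141) q9551, e3 q11565 (flp_i L273257) q9555, e3 q11566 (flp_i L650431) q13694, e3 q11567 (flp_i L273302) q9557, e3 q11568 L650891 q13751, e3 q11569 (flp_i L273314) q9558, e3 q11570 L629412 q9562, e3 q11571 (flp_i L650398) q13691, e3 q11572 (flp_i L273366) q9565, e3 q11573 L273388 q9588, e3 q11574 L273399 q9589, e3 q11575 L273407 q9590, e3 q11576 L273413 q9591, e3 q11577 L646210 q9581, e3 q11578 L645860 q9579, e3 q11579 (flp_i L648499) q13538, e3 q11580 (flp_i L273792) q9576, e3 q11581 (flp_i L648503) q13564, e3 q11582 (flp_i L650449) q13696, e3 q11583 (flp_i L650457) q13697, trivial⟩ (by decide +kernel)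

theorem ce_i_181 : ∀ r, r < 64 → sm gi (Qf (11584 + r)) = Qf (tab Gen.i (11584 + r)) :=
  edges_tab (sm gi) Qf (tab Gen.i) 11584 [(11584, 13698), (11585, 13699), (11586, 13700), (11587, 13756), (11588, 13752), (11589, 11589), (11590, 11759), (11591, 9594), (11592, 9595), (11593, 11820), (11594, 11822), (11595, 13759), (11596, 13760), (11597, 9601), (11598, 13761), (11599, 9605), (11600, 13762), (11601, 9606), (11602, 9607), (11603, 13763), (11604, 9611), (11605, 9612), (11606, 13764), (11607, 9613), (11608, 9615), (11609, 9616), (11610, 11926), (11611, 11927), (11612, 9623), (11613, 9624), (11614, 11764), (11615, 9628), (11616, 9629), (11617, 9630), (11618, 9632), (11619, 12850), (11620, 9635), (11621, 11828), (11622, 11829), (11623, 11830), (11624, 13769), (11625, 13770), (11626, 9643), (11627, 13772), (11628, 9646), (11629, 9647), (11630, 13773), (11631, 9648), (11632, 9650), (11633, 13775), (11634, 9654), (11635, 9655), (11636, 13777), (11637, 9657), (11638, 13779), (11639, 9660), (11640, 13781), (11641, 9662), (11642,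 11939), (11643, 11940), (11644, 12927), (11645, 11944), (11646, 13785), (11647, 9670)]
    ⟨e3 q11584 (flp_i L650469) q13698, e3 q11585 (flp_i L650477) q13699, e3 q11586 (flp_i L650485) q13700, e3 q11587 L650925 q13756, e3 q11588 (flp_i L650901) q13752, e3 q11589 L648184 q11589, e3 q11590 L648326 q11759, e3 q11591 (flp_i L283016) q9594, e3 q11592 (flp_i L283575) q9595, e3 q11593 (flp_i L648324) q11820, e3 q11594 L648334 q11822, e3 q11595 L650941 q13759, e3 q11596 L650957 q13760, e3 q11597 (flp_i L286081) q9601, e3 q11598 L650973 q13761, e3 q11599 (flp_i L286652) q9605, e3 q11600 L650991 q13762, e3 q11601 (flp_i L286935) q9606, e3 q11602 (flp_i L286958) q9607, e3 q11603 L651009 q13763, e3 q11604 (flp_i L287353) q9611, e3 q11605 (flp_i L287370) q9612, e3 q11606 L651019 q13764, e3 q11607 (flp_i L287394) q9613, e3 q11608 (flp_i L287410) q9615, e3 q11609 (flp_i L287426) q9616, e3 q11610 L648348 q11926, e3 q11611 L648332 q11927, e3 q11612 (flp_i L288232) q9623, e3 q11613 (flp_i L288806) q9624, e3 q11614 L648294 q11764, e3 q11615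 (flp_i L289866) q9628, e3 q11616 (flp_i L290180) q9629, e3 q11617 (flp_i L290197) q9630, e3 q11618 (flp_i L290943) q9632, e3 q11619 (flp_i L648322) q12850, e3 q11620 (flp_i L291429) q9635, e3 q11621 (flp_i L648320) q11828, e3 q11622 L648684 q11829, e3 q11623 (flp_i L648302) q11830, e3 q11624 L651056 q13769, e3 q11625 L651073 q13770, e3 q11626 (flp_i L292285) q9643, e3 q11627 L651093 q13772, e3 q11628 (flp_i L292716) q9646, e3 q11629 (flp_i L292732) q9647, e3 q11630 L651102 q13773, e3 q11631 (flp_i L292755) q9648, e3 q11632 (flp_i L292776) q9650, e3 q11633 L651125 q13775, e3 q11634 (flp_i L293789) q9654, e3 q11635 (flp_i L293808) q9655, e3 q11636 L651139 q13777, e3 q11637 (flp_i L294130) q9657, e3 q11638 L651151 q13779, e3 q11639 (flp_i L294197) q9660, e3 q11640 L651163 q13781, e3 q11641 (flp_i L294217) q9662, e3 q11642 L648465 q11939, e3 q11643 (flp_i L648336) q11940, e3 q11644 L648266 q12927, e3 q11645 (flp_i L648338) q11944, e3 q11646 L651189 q13785, e3 q11647 (flp_i L294801) q9670, trivial⟩ (by decide +kernel)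

theorem ce_i_182 : ∀ r, r < 64 → sm gi (Qf (11648 + r)) = Qf (tab Gen.i (11648 + r)) :=
  edges_tab (sm gi) Qf (tab Gen.i) 11648 [(11648, 9671), (11649, 13786), (11650, 13787), (11651, 9674), (11652, 9675), (11653, 9676), (11654, 9678), (11655, 9680), (11656, 9682), (11657, 9684), (11658, 9686), (11659, 9687), (11660, 13789), (11661, 9689), (11662, 9690), (11663, 13791), (11664, 9693), (11665, 13793), (11666, 9694), (11667, 11722), (11668, 9697), (11669, 11769), (11670, 13796), (11671, 9702), (11672, 11728), (11673, 11736), (11674, 11733), (11675, 12804), (11676, 11840), (11677, 11961), (11678, 13799), (11679, 9719), (11680, 13802), (11681, 9724), (11682, 13805), (11683, 9727), (11684, 13808), (11685, 9729), (11686, 11686), (11687, 9731), (11688, 13810), (11689, 13811), (11690, 9737), (11691, 9739), (11692, 13815), (11693, 9741), (11694, 11694), (11695, 9743), (11696, 13819), (11697, 9747), (11698, 13822), (11699, 9749), (11700, 11700), (11701, 13825), (11702, 9751), (11703, 11703), (11704, 13829), (11705, 9754), (11706,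 13831), (11707, 9756), (11708, 11708), (11709, 13834), (11710, 9759), (11711, 13837)]
    ⟨e3 q11648 (flp_i L294819) q9671, e3 q11649 L651198 q13786, e3 q11650 L651207 q13787, e3 q11651 (flp_i L295124) q9674, e3 q11652 (flp_i L295148) q9675, e3 q11653 (flp_i L295170) q9676, e3 q11654 (flp_i L295194) q9678, e3 q11655 (flp_i L295218) q9680, e3 q11656 (flp_i L295253) q9682, e3 q11657 (flp_i L295629) q9684, e3 q11658 (flp_i L295686) q9686, e3 q11659 (flp_i L295695) q9687, e3 q11660 L651220 q13789, e3 q11661 (flp_i L295727) q9689, e3 q11662 (flp_i L295743) q9690, e3 q11663 L651234 q13791, e3 q11664 (flp_i L295773) q9693, e3 q11665 L651248 q13793, e3 q11666 (flp_i L295785) q9694, e3 q11667 L648714 q11722, e3 q11668 (flp_i L296680) q9697, e3 q11669 L648296 q11769, e3 q11670 L651268 q13796, e3 q11671 (flp_i L298221) q9702, e3 q11672 L649267 q11728, e3 q11673 (flp_i L648710) q11736, e3 q11674 (flp_i L648280) q11733, e3 q11675 L648268 q12804, e3 q11676 (flp_i L648304) q11840, e3 q11677 L648270 q11961, e3 q11678 L651298 q13799, e3 q11679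 (flp_i L350814) q9719, e3 q11680 L651339 q13802, e3 q11681 (flp_i L351078) q9724, e3 q11682 L651384 q13805, e3 q11683 (flp_i L351240) q9727, e3 q11684 L651423 q13808, e3 q11685 (flp_i L351256) q9729, e3 q11686 L351274 q11686, e3 q11687 (flp_i L351323) q9731, e3 q11688 L651441 q13810, e3 q11689 L651456 q13811, e3 q11690 (flp_i L351512) q9737, e3 q11691 (flp_i L351617) q9739, e3 q11692 L651512 q13815, e3 q11693 (flp_i L351637) q9741, e3 q11694 L351655 q11694, e3 q11695 (flp_i L351712) q9743, e3 q11696 L651565 q13819, e3 q11697 (flp_i L351859) q9747, e3 q11698 L651607 q13822, e3 q11699 (flp_i L351877) q9749, e3 q11700 L351894 q11700, e3 q11701 L651642 q13825, e3 q11702 (flp_i L351902) q9751, e3 q11703 L351919 q11703, e3 q11704 L651683 q13829, e3 q11705 (flp_i L351979) q9754, e3 q11706 L651715 q13831, e3 q11707 (flp_i L351998) q9756, e3 q11708 L352015 q11708, e3 q11709 L651755 q13834, e3 q11710 (flp_i L352056) q9759, e3 q11711 L651795 q13837, trivial⟩ (by decide +kernel)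

theorem ce_i_183 : ∀ r, r < 64 → sm gi (Qf (11712 + r)) = Qf (tab Gen.i (11712 + r)) :=
  edges_tab (sm gi) Qf (tab Gen.i) 11712 [(11712, 9761), (11713, 13840), (11714, 9763), (11715, 11715), (11716, 13842), (11717, 9765), (11718, 11718), (11719, 9779), (11720, 9781), (11721, 10605), (11722, 11667), (11723, 9795), (11724, 9796), (11725, 9798), (11726, 9799), (11727, 10616), (11728, 11672), (11729, 9802), (11730, 10621), (11731, 10623), (11732, 9792), (11733, 11674), (11734, 13845), (11735, 13847), (11736, 11673), (11737, 13848), (11738, 10614), (11739, 9831), (11740, 9832), (11741, 13860), (11742, 9834), (11743, 13863), (11744, 13865), (11745, 9806), (11746, 9807), (11747, 9840), (11748, 9841), (11749, 13868), (11750, 13870), (11751, 9810), (11752, 11431), (11753, 9812), (11754, 10687), (11755, 9816), (11756, 9817), (11757, 9819), (11758, 10940), (11759, 11590), (11760, 13873), (11761, 13874), (11762, 9822), (11763, 10650), (11764, 11614), (11765, 13876), (11766, 9825), (11767, 13878), (11768, 9826), (11769, 11669), (11770,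 9829), (11771, 13854), (11772, 13883), (11773, 13856), (11774, 13857), (11775, 13885)]
    ⟨e3 q11712 (flp_i L352074) q9761, e3 q11713 L651833 q13840, e3 q11714 (flp_i L352092) q9763, e3 q11715 L352110 q11715, e3 q11716 L651852 q13842, e3 q11717 (flp_i L352120) q9765, e3 q11718 L352138 q11718, e3 q11719 L352613 q9779, e3 q11720 L352660 q9781, e3 q11721 L644751 q10605, e3 q11722 (flp_i L648714) q11667, e3 q11723 L353199 q9795, e3 q11724 L353211 q9796, e3 q11725 L353276 q9798, e3 q11726 L353289 q9799, e3 q11727 L644553 q10616, e3 q11728 (flp_i L649267) q11672, e3 q11729 L353345 q9802, e3 q11730 L635057 q10621, e3 q11731 L634999 q10623, e3 q11732 (flp_i L353391) q9792, e3 q11733 L648280 q11674, e3 q11734 (flp_i L651891) q13845, e3 q11735 (flp_i L651930) q13847, e3 q11736 L648710 q11673, e3 q11737 (flp_i L651948) q13848, e3 q11738 L644444 q10614, e3 q11739 L353982 q9831, e3 q11740 L353993 q9832, e3 q11741 L652142 q13860, e3 q11742 L354015 q9834, e3 q11743 L652184 q13863, e3 q11744 L652211 q13865, e3 q11745 (flp_i L354038) q9806,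 e3 q11746 (flp_i L354061) q9807, e3 q11747 L354075 q9840, e3 q11748 L354086 q9841, e3 q11749 L652257 q13868, e3 q11750 L652290 q13870, e3 q11751 (flp_i L354107) q9810, e3 q11752 (flp_i L649056) q11431, e3 q11753 (flp_i L354129) q9812, e3 q11754 L640272 q10687, e3 q11755 (flp_i L354176) q9816, e3 q11756 (flp_i L354197) q9817, e3 q11757 (flp_i L354207) q9819, e3 q11758 L612347 q10940, e3 q11759 (flp_i L648326) q11590, e3 q11760 L652341 q13873, e3 q11761 L652358 q13874, e3 q11762 (flp_i L354261) q9822, e3 q11763 L620521 q10650, e3 q11764 (flp_i L648294) q11614, e3 q11765 L652391 q13876, e3 q11766 (flp_i L354330) q9825, e3 q11767 L652422 q13878, e3 q11768 (flp_i L354350) q9826, e3 q11769 (flp_i L648296) q11669, e3 q11770 (flp_i L354394) q9829, e3 q11771 (flp_i L652058) q13854, e3 q11772 L652495 q13883, e3 q11773 (flp_i L652091) q13856, e3 q11774 (flp_i L652114) q13857, e3 q11775 L652522 q13885, trivial⟩ (by decide +kernel)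

theorem ce_i_184 : ∀ r, r < 64 → sm gi (Qf (11776 + r)) = Qf (tab Gen.i (11776 + r)) :=
  edges_tab (sm gi) Qf (tab Gen.i) 11776 [(11776, 13888), (11777, 9833), (11778, 9835), (11779, 13890), (11780, 9836), (11781, 13893), (11782, 9838), (11783, 11783), (11784, 9842), (11785, 13895), (11786, 9843), (11787, 9892), (11788, 13900), (11789, 9894), (11790, 9895), (11791, 13905), (11792, 13908), (11793, 9851), (11794, 13910), (11795, 13912), (11796, 9853), (11797, 13913), (11798, 9854), (11799, 11799), (11800, 9907), (11801, 13918), (11802, 13920), (11803, 13922), (11804, 9859), (11805, 13924), (11806, 9860), (11807, 9862), (11808, 9915), (11809, 13926), (11810, 13927), (11811, 9865), (11812, 10749), (11813, 9866), (11814, 13929), (11815, 9867), (11816, 13931), (11817, 9869), (11818, 10667), (11819, 10943), (11820, 11593), (11821, 13938), (11822, 11594), (11823, 13939), (11824, 13941), (11825, 9874), (11826, 13942), (11827, 9875), (11828, 11621), (11829, 11622), (11830, 11623), (11831, 13949), (11832, 13951), (11833, 9879), (11834,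 9881), (11835, 13953), (11836, 9882), (11837, 13956), (11838, 9884), (11839, 11839)]
    ⟨e3 q11776 L652568 q13888, e3 q11777 (flp_i L354476) q9833, e3 q11778 (flp_i L354507) q9835, e3 q11779 L652591 q13890, e3 q11780 (flp_i L354523) q9836, e3 q11781 L652628 q13893, e3 q11782 (flp_i L354542) q9838, e3 q11783 L354560 q11783, e3 q11784 (flp_i L354593) q9842, e3 q11785 L652648 q13895, e3 q11786 (flp_i L354607) q9843, e3 q11787 L354939 q9892, e3 q11788 L652722 q13900, e3 q11789 L354954 q9894, e3 q11790 L354968 q9895, e3 q11791 L652783 q13905, e3 q11792 L652815 q13908, e3 q11793 (flp_i L354986) q9851, e3 q11794 L652837 q13910, e3 q11795 L652863 q13912, e3 q11796 (flp_i L355018) q9853, e3 q11797 L652876 q13913, e3 q11798 (flp_i L355036) q9854, e3 q11799 L355073 q11799, e3 q11800 L355082 q9907, e3 q11801 L652949 q13918, e3 q11802 L652982 q13920, e3 q11803 L653009 q13922, e3 q11804 (flp_i L355109) q9859, e3 q11805 L653035 q13924, e3 q11806 (flp_i L355124) q9860, e3 q11807 (flp_i L355133) q9862, e3 q11808 L355151 q9915, e3 q11809 L653061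 q13926, e3 q11810 L653078 q13927, e3 q11811 (flp_i L355173) q9865, e3 q11812 L648989 q10749, e3 q11813 (flp_i L355192) q9866, e3 q11814 L653108 q13929, e3 q11815 (flp_i L355211) q9867, e3 q11816 L653136 q13931, e3 q11817 (flp_i L355226) q9869, e3 q11818 L641228 q10667, e3 q11819 L617611 q10943, e3 q11820 L648324 q11593, e3 q11821 L653235 q13938, e3 q11822 (flp_i L648334) q11594, e3 q11823 L653248 q13939, e3 q11824 L653280 q13941, e3 q11825 (flp_i L355303) q9874, e3 q11826 L653296 q13942, e3 q11827 (flp_i L355331) q9875, e3 q11828 L648320 q11621, e3 q11829 (flp_i L648684) q11622, e3 q11830 L648302 q11623, e3 q11831 L653401 q13949, e3 q11832 L653429 q13951, e3 q11833 (flp_i L355389) q9879, e3 q11834 (flp_i L355418) q9881, e3 q11835 L653452 q13953, e3 q11836 (flp_i L355433) q9882, e3 q11837 L653490 q13956, e3 q11838 (flp_i L355448) q9884, e3 q11839 L355464 q11839, trivial⟩ (by decide +kernel)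

theorem ce_i_185 : ∀ r, r < 64 → sm gi (Qf (11840 + r)) = Qf (tab Gen.i (11840 + r)) :=
  edges_tab (sm gi) Qf (tab Gen.i) 11840 [(11840, 11676), (11841, 13959), (11842, 9888), (11843, 9889), (11844, 13896), (11845, 13897), (11846, 13965), (11847, 13967), (11848, 9893), (11849, 13901), (11850, 13971), (11851, 13973), (11852, 13976), (11853, 9896), (11854, 13979), (11855, 13981), (11856, 9897), (11857, 9899), (11858, 13984), (11859, 9900), (11860, 13987), (11861, 9902), (11862, 11862), (11863, 13990), (11864, 9904), (11865, 11865), (11866, 13915), (11867, 13992), (11868, 13994), (11869, 9908), (11870, 9909), (11871, 13995), (11872, 9910), (11873, 13996), (11874, 9912), (11875, 10660), (11876, 9916), (11877, 9917), (11878, 13997), (11879, 9921), (11880, 9988), (11881, 9989), (11882, 14003), (11883, 14006), (11884, 9925), (11885, 9993), (11886, 14010), (11887, 14012), (11888, 14015), (11889, 9928), (11890, 14018), (11891, 14019), (11892, 9929), (11893, 14022), (11894, 9931), (11895, 14024), (11896, 9932), (11897, 9934), (11898,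 11898), (11899, 10011), (11900, 14029), (11901, 14032), (11902, 9938), (11903, 14034)]
    ⟨e3 q11840 L648304 q11676, e3 q11841 L653530 q13959, e3 q11842 (flp_i L355501) q9888, e3 q11843 (flp_i L355516) q9889, e3 q11844 (flp_i L652676) q13896, e3 q11845 (flp_i L652693) q13897, e3 q11846 L653617 q13965, e3 q11847 L653639 q13967, e3 q11848 (flp_i L355564) q9893, e3 q11849 (flp_i L652747) q13901, e3 q11850 L653687 q13971, e3 q11851 L653713 q13973, e3 q11852 L653757 q13976, e3 q11853 (flp_i L355609) q9896, e3 q11854 L653799 q13979, e3 q11855 L653817 q13981, e3 q11856 (flp_i L355631) q9897, e3 q11857 (flp_i L355648) q9899, e3 q11858 L653844 q13984, e3 q11859 (flp_i L355665) q9900, e3 q11860 L653880 q13987, e3 q11861 (flp_i L355682) q9902, e3 q11862 L355694 q11862, e3 q11863 L653904 q13990, e3 q11864 (flp_i L355704) q9904, e3 q11865 L355720 q11865, e3 q11866 (flp_i L652909) q13915, e3 q11867 L653921 q13992, e3 q11868 L653951 q13994, e3 q11869 (flp_i L355747) q9908, e3 q11870 (flp_i L355763) q9909, e3 q11871 L653969 q13995, e3 q11872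 (flp_i L355775) q9910, e3 q11873 L653985 q13996, e3 q11874 (flp_i L355789) q9912, e3 q11875 L641236 q10660, e3 q11876 (flp_i L355819) q9916, e3 q11877 (flp_i L355846) q9917, e3 q11878 L654003 q13997, e3 q11879 (flp_i L355896) q9921, e3 q11880 L356244 q9988, e3 q11881 L356256 q9989, e3 q11882 L654081 q14003, e3 q11883 L654121 q14006, e3 q11884 (flp_i L356276) q9925, e3 q11885 L356295 q9993, e3 q11886 L654167 q14010, e3 q11887 L654190 q14012, e3 q11888 L654223 q14015, e3 q11889 (flp_i L356324) q9928, e3 q11890 L654262 q14018, e3 q11891 L654273 q14019, e3 q11892 (flp_i L356350) q9929, e3 q11893 L654308 q14022, e3 q11894 (flp_i L356368) q9931, e3 q11895 L654330 q14024, e3 q11896 (flp_i L356387) q9932, e3 q11897 (flp_i L356405) q9934, e3 q11898 L356423 q11898, e3 q11899 L356456 q10011, e3 q11900 L654396 q14029, e3 q11901 L654431 q14032, e3 q11902 (flp_i L356478) q9938, e3 q11903 L654454 q14034, trivial⟩ (by decide +kernel)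

theorem ce_i_186 : ∀ r, r < 64 → sm gi (Qf (11904 + r)) = Qf (tab Gen.i (11904 + r)) :=
  edges_tab (sm gi) Qf (tab Gen.i) 11904 [(11904, 9939), (11905, 14036), (11906, 9940), (11907, 14039), (11908, 9942), (11909, 11909), (11910, 14041), (11911, 14043), (11912, 9946), (11913, 14046), (11914, 14047), (11915, 9947), (11916, 14049), (11917, 9949), (11918, 14051), (11919, 9951), (11920, 11920), (11921, 14053), (11922, 9953), (11923, 11923), (11924, 11321), (11925, 14060), (11926, 11610), (11927, 11611), (11928, 14065), (11929, 14068), (11930, 9958), (11931, 14069), (11932, 14071), (11933, 9960), (11934, 14072), (11935, 14073), (11936, 9961), (11937, 9963), (11938, 11938), (11939, 11642), (11940, 11643), (11941, 14081), (11942, 14084), (11943, 9966), (11944, 11645), (11945, 14088), (11946, 14090), (11947, 14093), (11948, 9969), (11949, 14094), (11950, 14096), (11951, 9970), (11952, 9972), (11953, 14099), (11954, 9973), (11955, 14102), (11956, 9975), (11957, 11957), (11958, 14105), (11959, 9977), (11960, 11960), (11961, 11677),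 (11962, 14108), (11963, 14110), (11964, 9981), (11965, 9982), (11966, 14111), (11967, 9983)]
    ⟨e3 q11904 (flp_i L356497) q9939, e3 q11905 L654478 q14036, e3 q11906 (flp_i L356514) q9940, e3 q11907 L654514 q14039, e3 q11908 (flp_i L356532) q9942, e3 q11909 L356550 q11909, e3 q11910 L654535 q14041, e3 q11911 L654567 q14043, e3 q11912 (flp_i L356569) q9946, e3 q11913 L654606 q14046, e3 q11914 L654617 q14047, e3 q11915 (flp_i L356597) q9947, e3 q11916 L654639 q14049, e3 q11917 (flp_i L356616) q9949, e3 q11918 L654662 q14051, e3 q11919 (flp_i L356633) q9951, e3 q11920 L356651 q11920, e3 q11921 L654684 q14053, e3 q11922 (flp_i L356662) q9953, e3 q11923 L356681 q11923, e3 q11924 L542516 q11321, e3 q11925 L654773 q14060, e3 q11926 (flp_i L648348) q11610, e3 q11927 (flp_i L648332) q11611, e3 q11928 L654829 q14065, e3 q11929 L654871 q14068, e3 q11930 (flp_i L356750) q9958, e3 q11931 L654882 q14069, e3 q11932 L654911 q14071, e3 q11933 (flp_i L356781) q9960, e3 q11934 L654927 q14072, e3 q11935 L654943 q14073, e3 q11936 (flp_i L356807)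 q9961, e3 q11937 (flp_i L356826) q9963, e3 q11938 L356862 q11938, e3 q11939 (flp_i L648465) q11642, e3 q11940 L648336 q11643, e3 q11941 L655029 q14081, e3 q11942 L655067 q14084, e3 q11943 (flp_i L356898) q9966, e3 q11944 L648338 q11645, e3 q11945 L655107 q14088, e3 q11946 L655130 q14090, e3 q11947 L655169 q14093, e3 q11948 (flp_i L356942) q9969, e3 q11949 L655177 q14094, e3 q11950 L655207 q14096, e3 q11951 (flp_i L356968) q9970, e3 q11952 (flp_i L356985) q9972, e3 q11953 L655238 q14099, e3 q11954 (flp_i L357001) q9973, e3 q11955 L655276 q14102, e3 q11956 (flp_i L357017) q9975, e3 q11957 L357031 q11957, e3 q11958 L655309 q14105, e3 q11959 (flp_i L357039) q9977, e3 q11960 L357055 q11960, e3 q11961 (flp_i L648270) q11677, e3 q11962 L655345 q14108, e3 q11963 L655375 q14110, e3 q11964 (flp_i L357084) q9981, e3 q11965 (flp_i L357102) q9982, e3 q11966 L655390 q14111, e3 q11967 (flp_i L357119) q9983, trivial⟩ (by decide +kernel)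

theorem ce_i_187 : ∀ r, r < 64 → sm gi (Qf (11968 + r)) = Qf (tab Gen.i (11968 + r)) :=
  edges_tab (sm gi) Qf (tab Gen.i) 11968 [(11968, 9985), (11969, 11969), (11970, 13998), (11971, 13999), (11972, 14119), (11973, 14121), (11974, 14124), (11975, 9990), (11976, 14127), (11977, 14129), (11978, 9991), (11979, 14007), (11980, 14133), (11981, 14136), (11982, 9994), (11983, 14139), (11984, 9995), (11985, 14142), (11986, 14144), (11987, 9996), (11988, 14148), (11989, 14150), (11990, 9998), (11991, 14153), (11992, 9999), (11993, 14130), (11994, 14156), (11995, 10001), (11996, 14159), (11997, 10003), (11998, 11998), (11999, 14162), (12000, 10005), (12001, 12001), (12002, 14165), (12003, 10008), (12004, 12004), (12005, 14167), (12006, 14169), (12007, 10012), (12008, 14172), (12009, 14173), (12010, 10013), (12011, 14176), (12012, 10015), (12013, 14179), (12014, 10017), (12015, 12015), (12016, 14181), (12017, 10019), (12018, 12018), (12019, 10022), (12020, 14185), (12021, 10023), (12022, 14189), (12023, 14190), (12024, 10025), (12025,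 10026), (12026, 12026), (12027, 14194), (12028, 10028), (12029, 12029), (12030, 14196), (12031, 10030)]
    ⟨e3 q11968 (flp_i L357135) q9985, e3 q11969 L357152 q11969, e3 q11970 (flp_i L654031) q13998, e3 q11971 (flp_i L654047) q13999, e3 q11972 L655485 q14119, e3 q11973 L655503 q14121, e3 q11974 L655528 q14124, e3 q11975 (flp_i L357196) q9990, e3 q11976 L655565 q14127, e3 q11977 L655587 q14129, e3 q11978 (flp_i L357220) q9991, e3 q11979 (flp_i L654140) q14007, e3 q11980 L655623 q14133, e3 q11981 L655647 q14136, e3 q11982 (flp_i L357256) q9994, e3 q11983 L655681 q14139, e3 q11984 (flp_i L357273) q9995, e3 q11985 L655710 q14142, e3 q11986 L655724 q14144, e3 q11987 (flp_i L357298) q9996, e3 q11988 L655770 q14148, e3 q11989 L655796 q14150, e3 q11990 (flp_i L357320) q9998, e3 q11991 L655822 q14153, e3 q11992 (flp_i L357338) q9999, e3 q11993 (flp_i L655602) q14130, e3 q11994 L655853 q14156, e3 q11995 (flp_i L357362) q10001, e3 q11996 L655887 q14159, e3 q11997 (flp_i L357376) q10003, e3 q11998 L357390 q11998, e3 q11999 L655910 q14162,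 e3 q12000 (flp_i L357398) q10005, e3 q12001 L357414 q12001, e3 q12002 L655934 q14165, e3 q12003 (flp_i L357423) q10008, e3 q12004 L357438 q12004, e3 q12005 L655950 q14167, e3 q12006 L655970 q14169, e3 q12007 (flp_i L357465) q10012, e3 q12008 L656006 q14172, e3 q12009 L656014 q14173, e3 q12010 (flp_i L357487) q10013, e3 q12011 L656049 q14176, e3 q12012 (flp_i L357503) q10015, e3 q12013 L656083 q14179, e3 q12014 (flp_i L357519) q10017, e3 q12015 L357531 q12015, e3 q12016 L656098 q14181, e3 q12017 (flp_i L357540) q10019, e3 q12018 L357556 q12018, e3 q12019 (flp_i L357566) q10022, e3 q12020 L656138 q14185, e3 q12021 (flp_i L357592) q10023, e3 q12022 L656184 q14189, e3 q12023 L656194 q14190, e3 q12024 (flp_i L357618) q10025, e3 q12025 (flp_i L357629) q10026, e3 q12026 L357643 q12026, e3 q12027 L656242 q14194, e3 q12028 (flp_i L357652) q10028, e3 q12029 L357668 q12029, e3 q12030 L656260 q14196, e3 q12031 (flp_i L357677) q10030, trivial⟩ (by decide +kernel)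

theorem ce_i_188 : ∀ r, r < 64 → sm gi (Qf (12032 + r)) = Qf (tab Gen.i (12032 + r)) :=
  edges_tab (sm gi) Qf (tab Gen.i) 12032 [(12032, 12032), (12033, 10033), (12034, 12034), (12035, 12035), (12036, 14202), (12037, 14204), (12038, 14205), (12039, 10038), (12040, 14207), (12041, 14208), (12042, 10041), (12043, 14210), (12044, 10044), (12045, 14211), (12046, 10045), (12047, 14214), (12048, 10047), (12049, 14215), (12050, 10049), (12051, 14217), (12052, 14218), (12053, 10052), (12054, 14220), (12055, 10053), (12056, 10055), (12057, 10093), (12058, 10094), (12059, 14226), (12060, 10058), (12061, 10097), (12062, 10098), (12063, 14233), (12064, 10100), (12065, 14235), (12066, 14237), (12067, 10061), (12068, 10062), (12069, 10105), (12070, 10106), (12071, 14242), (12072, 14244), (12073, 10065), (12074, 14245), (12075, 10067), (12076, 10112), (12077, 14249), (12078, 10114), (12079, 10115), (12080, 14254), (12081, 14257), (12082, 10071), (12083, 14259), (12084, 14260), (12085, 10073), (12086, 14262), (12087, 10074), (12088, 14264),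 (12089, 10076), (12090, 12090), (12091, 10127), (12092, 14268), (12093, 14270), (12094, 14271), (12095, 10080)]
    ⟨e3 q12032 L357692 q12032, e3 q12033 (flp_i L357693) q10033, e3 q12034 L357710 q12034, e3 q12035 L357717 q12035, e3 q12036 L656310 q14202, e3 q12037 L656342 q14204, e3 q12038 L656359 q14205, e3 q12039 (flp_i L357779) q10038, e3 q12040 L656389 q14207, e3 q12041 L656404 q14208, e3 q12042 (flp_i L357830) q10041, e3 q12043 L656437 q14210, e3 q12044 (flp_i L357897) q10044, e3 q12045 L656448 q14211, e3 q12046 (flp_i L357917) q10045, e3 q12047 L656487 q14214, e3 q12048 (flp_i L357963) q10047, e3 q12049 L656498 q14215, e3 q12050 (flp_i L357984) q10049, e3 q12051 L656532 q14217, e3 q12052 L656547 q14218, e3 q12053 (flp_i L358029) q10052, e3 q12054 L656571 q14220, e3 q12055 (flp_i L358048) q10053, e3 q12056 (flp_i L358058) q10055, e3 q12057 L358077 q10093, e3 q12058 L358087 q10094, e3 q12059 L656645 q14226, e3 q12060 (flp_i L358107) q10058, e3 q12061 L358127 q10097, e3 q12062 L358139 q10098, e3 q12063 L656729 q14233, e3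 q12064 L358161 q10100, e3 q12065 L656756 q14235, e3 q12066 L656782 q14237, e3 q12067 (flp_i L358183) q10061, e3 q12068 (flp_i L358205) q10062, e3 q12069 L358220 q10105, e3 q12070 L358233 q10106, e3 q12071 L656838 q14242, e3 q12072 L656862 q14244, e3 q12073 (flp_i L358256) q10065, e3 q12074 L656873 q14245, e3 q12075 (flp_i L358279) q10067, e3 q12076 L358295 q10112, e3 q12077 L656923 q14249, e3 q12078 L358309 q10114, e3 q12079 L358320 q10115, e3 q12080 L656971 q14254, e3 q12081 L656995 q14257, e3 q12082 (flp_i L358338) q10071, e3 q12083 L657017 q14259, e3 q12084 L657030 q14260, e3 q12085 (flp_i L358365) q10073, e3 q12086 L657052 q14262, e3 q12087 (flp_i L358379) q10074, e3 q12088 L657067 q14264, e3 q12089 (flp_i L358394) q10076, e3 q12090 L358410 q12090, e3 q12091 L358419 q10127, e3 q12092 L657120 q14268, e3 q12093 L657150 q14270, e3 q12094 L657162 q14271, e3 q12095 (flp_i L358447) q10080, trivial⟩ (by decide +kernel)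

theorem ce_i_189 : ∀ r, r < 64 → sm gi (Qf (12096 + r)) = Qf (tab Gen.i (12096 + r)) :=
  edges_tab (sm gi) Qf (tab Gen.i) 12096 [(12096, 14273), (12097, 10081), (12098, 10083), (12099, 10135), (12100, 13932), (12101, 10086), (12102, 14275), (12103, 10087), (12104, 10088), (12105, 14278), (12106, 10090), (12107, 12107), (12108, 10925), (12109, 14222), (12110, 14284), (12111, 14224), (12112, 14285), (12113, 10095), (12114, 14227), (12115, 14289), (12116, 14229), (12117, 14230), (12118, 14294), (12119, 14297), (12120, 10099), (12121, 14298), (12122, 14300), (12123, 10101), (12124, 14301), (12125, 10102), (12126, 12126), (12127, 14239), (12128, 14304), (12129, 14305), (12130, 14307), (12131, 10107), (12132, 14309), (12133, 10108), (12134, 10110), (12135, 13871), (12136, 14246), (12137, 14315), (12138, 14318), (12139, 10113), (12140, 14250), (12141, 14321), (12142, 14323), (12143, 14326), (12144, 10116), (12145, 14329), (12146, 14331), (12147, 10117), (12148, 10119), (12149, 14333), (12150, 10120), (12151, 14336), (12152, 10122),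 (12153, 12153), (12154, 14339), (12155, 10124), (12156, 12156), (12157, 14266), (12158, 10128), (12159, 10129)]
    ⟨e3 q12096 L657183 q14273, e3 q12097 (flp_i L358464) q10081, e3 q12098 (flp_i L358474) q10083, e3 q12099 L358490 q10135, e3 q12100 (flp_i L653159) q13932, e3 q12101 (flp_i L358512) q10086, e3 q12102 L657202 q14275, e3 q12103 (flp_i L358530) q10087, e3 q12104 (flp_i L358547) q10088, e3 q12105 L657243 q14278, e3 q12106 (flp_i L358561) q10090, e3 q12107 L358579 q12107, e3 q12108 L611921 q10925, e3 q12109 (flp_i L656605) q14222, e3 q12110 L657316 q14284, e3 q12111 (flp_i L656631) q14224, e3 q12112 L657327 q14285, e3 q12113 (flp_i L358633) q10095, e3 q12114 (flp_i L656668) q14227, e3 q12115 L657369 q14289, e3 q12116 (flp_i L656694) q14229, e3 q12117 (flp_i L656707) q14230, e3 q12118 L657419 q14294, e3 q12119 L657447 q14297, e3 q12120 (flp_i L358724) q10099, e3 q12121 L657457 q14298, e3 q12122 L657484 q14300, e3 q12123 (flp_i L358756) q10101, e3 q12124 L657498 q14301, e3 q12125 (flp_i L358773) q10102, e3 q12126 L358814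 q12126, e3 q12127 (flp_i L656811) q14239, e3 q12128 L657528 q14304, e3 q12129 L657538 q14305, e3 q12130 L657561 q14307, e3 q12131 (flp_i L358854) q10107, e3 q12132 L657582 q14309, e3 q12133 (flp_i L358873) q10108, e3 q12134 (flp_i L358885) q10110, e3 q12135 (flp_i L652318) q13871, e3 q12136 (flp_i L656897) q14246, e3 q12137 L657644 q14315, e3 q12138 L657666 q14318, e3 q12139 (flp_i L358925) q10113, e3 q12140 (flp_i L656944) q14250, e3 q12141 L657693 q14321, e3 q12142 L657714 q14323, e3 q12143 L657746 q14326, e3 q12144 (flp_i L358963) q10116, e3 q12145 L657771 q14329, e3 q12146 L657789 q14331, e3 q12147 (flp_i L358985) q10117, e3 q12148 (flp_i L359002) q10119, e3 q12149 L657803 q14333, e3 q12150 (flp_i L359017) q10120, e3 q12151 L657831 q14336, e3 q12152 (flp_i L359033) q10122, e3 q12153 L359047 q12153, e3 q12154 L657859 q14339, e3 q12155 (flp_i L359055) q10124, e3 q12156 L359072 q12156, e3 q12157 (flp_i L657099) q14266, e3 q12158 (flp_i L359101) q10128, e3 q12159 (flp_i L359120) q10129, trivial⟩ (by decide +kernel)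

theorem ce_i_190 : ∀ r, r < 64 → sm gi (Qf (12160 + r)) = Qf (tab Gen.i (12160 + r)) :=
  edges_tab (sm gi) Qf (tab Gen.i) 12160 [(12160, 14341), (12161, 10130), (12162, 14344), (12163, 10132), (12164, 12164), (12165, 12165), (12166, 14346), (12167, 10139), (12168, 12168), (12169, 14348), (12170, 10142), (12171, 14350), (12172, 14351), (12173, 10144), (12174, 10145), (12175, 14354), (12176, 14355), (12177, 10148), (12178, 14356), (12179, 10150), (12180, 10152), (12181, 14358), (12182, 10153), (12183, 14360), (12184, 10154), (12185, 14362), (12186, 10156), (12187, 12187), (12188, 14365), (12189, 14367), (12190, 10159), (12191, 14369), (12192, 10160), (12193, 10162), (12194, 14372), (12195, 14375), (12196, 10165), (12197, 14377), (12198, 10166), (12199, 14379), (12200, 10167), (12201, 14382), (12202, 10169), (12203, 12203), (12204, 10225), (12205, 10226), (12206, 14390), (12207, 10228), (12208, 14392), (12209, 10174), (12210, 10231), (12211, 14397), (12212, 10233), (12213, 10234), (12214, 14402), (12215, 14405), (12216, 10178),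 (12217, 14406), (12218, 14408), (12219, 10180), (12220, 14409), (12221, 10181), (12222, 12222), (12223, 10244)]
    ⟨e3 q12160 L657883 q14341, e3 q12161 (flp_i L359136) q10130, e3 q12162 L657916 q14344, e3 q12163 (flp_i L359155) q10132, e3 q12164 L359173 q12164, e3 q12165 L359264 q12165, e3 q12166 L657939 q14346, e3 q12167 (flp_i L359274) q10139, e3 q12168 L359293 q12168, e3 q12169 L657967 q14348, e3 q12170 (flp_i L359328) q10142, e3 q12171 L657999 q14350, e3 q12172 L658016 q14351, e3 q12173 (flp_i L359393) q10144, e3 q12174 (flp_i L359412) q10145, e3 q12175 L658052 q14354, e3 q12176 L658068 q14355, e3 q12177 (flp_i L359459) q10148, e3 q12178 L658078 q14356, e3 q12179 (flp_i L359479) q10150, e3 q12180 (flp_i L359535) q10152, e3 q12181 L658110 q14358, e3 q12182 (flp_i L359563) q10153, e3 q12183 L658135 q14360, e3 q12184 (flp_i L359579) q10154, e3 q12185 L658151 q14362, e3 q12186 (flp_i L359595) q10156, e3 q12187 L359613 q12187, e3 q12188 L658191 q14365, e3 q12189 L658222 q14367, e3 q12190 (flp_i L359650) q10159, e3 q12191 L658240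 q14369, e3 q12192 (flp_i L359665) q10160, e3 q12193 (flp_i L359674) q10162, e3 q12194 L658272 q14372, e3 q12195 L658314 q14375, e3 q12196 (flp_i L359711) q10165, e3 q12197 L658335 q14377, e3 q12198 (flp_i L359729) q10166, e3 q12199 L658352 q14379, e3 q12200 (flp_i L359747) q10167, e3 q12201 L658379 q14382, e3 q12202 (flp_i L359763) q10169, e3 q12203 L359779 q12203, e3 q12204 L359786 q10225, e3 q12205 L359796 q10226, e3 q12206 L658469 q14390, e3 q12207 L359815 q10228, e3 q12208 L658493 q14392, e3 q12209 (flp_i L359833) q10174, e3 q12210 L359873 q10231, e3 q12211 L658547 q14397, e3 q12212 L359889 q10233, e3 q12213 L359903 q10234, e3 q12214 L658597 q14402, e3 q12215 L658623 q14405, e3 q12216 (flp_i L359921) q10178, e3 q12217 L658631 q14406, e3 q12218 L658654 q14408, e3 q12219 (flp_i L359952) q10180, e3 q12220 L658664 q14409, e3 q12221 (flp_i L359969) q10181, e3 q12222 L360002 q12222, e3 q12223 L360013 q10244, trivial⟩ (by decide +kernel)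

theorem ce_i_191 : ∀ r, r < 64 → sm gi (Qf (12224 + r)) = Qf (tab Gen.i (12224 + r)) :=
  edges_tab (sm gi) Qf (tab Gen.i) 12224 [(12224, 14414), (12225, 14415), (12226, 14417), (12227, 10186), (12228, 14419), (12229, 10187), (12230, 10189), (12231, 10252), (12232, 10253), (12233, 14426), (12234, 14429), (12235, 10192), (12236, 10257), (12237, 14433), (12238, 14435), (12239, 14438), (12240, 10195), (12241, 14441), (12242, 14443), (12243, 10196), (12244, 14445), (12245, 10198), (12246, 14447), (12247, 10199), (12248, 14450), (12249, 10201), (12250, 12250), (12251, 14452), (12252, 10203), (12253, 12253), (12254, 10275), (12255, 14456), (12256, 14459), (12257, 10207), (12258, 14460), (12259, 10208), (12260, 14462), (12261, 10209), (12262, 14465), (12263, 10211), (12264, 12264), (12265, 14467), (12266, 14469), (12267, 10215), (12268, 14472), (12269, 14473), (12270, 10216), (12271, 14476), (12272, 10218), (12273, 14479), (12274, 10220), (12275, 12275), (12276, 14481), (12277, 10222), (12278, 12278), (12279, 10932), (12280, 14384),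 (12281, 14489), (12282, 14386), (12283, 14387), (12284, 14494), (12285, 14496), (12286, 10227), (12287, 14497)]
    ⟨e3 q12224 L658714 q14414, e3 q12225 L658727 q14415, e3 q12226 L658749 q14417, e3 q12227 (flp_i L360043) q10186, e3 q12228 L658764 q14419, e3 q12229 (flp_i L360061) q10187, e3 q12230 (flp_i L360070) q10189, e3 q12231 L360086 q10252, e3 q12232 L360096 q10253, e3 q12233 L658828 q14426, e3 q12234 L658848 q14429, e3 q12235 (flp_i L360110) q10192, e3 q12236 L360126 q10257, e3 q12237 L658880 q14433, e3 q12238 L658896 q14435, e3 q12239 L658918 q14438, e3 q12240 (flp_i L360150) q10195, e3 q12241 L658934 q14441, e3 q12242 L658950 q14443, e3 q12243 (flp_i L360170) q10196, e3 q12244 L658962 q14445, e3 q12245 (flp_i L360183) q10198, e3 q12246 L658975 q14447, e3 q12247 (flp_i L360198) q10199, e3 q12248 L659003 q14450, e3 q12249 (flp_i L360211) q10201, e3 q12250 L360221 q12250, e3 q12251 L659016 q14452, e3 q12252 (flp_i L360229) q10203, e3 q12253 L360241 q12253, e3 q12254 L360249 q10275, e3 q12255 L659064 q14456, e3 q12256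 L659096 q14459, e3 q12257 (flp_i L360272) q10207, e3 q12258 L659106 q14460, e3 q12259 (flp_i L360291) q10208, e3 q12260 L659121 q14462, e3 q12261 (flp_i L360306) q10209, e3 q12262 L659143 q14465, e3 q12263 (flp_i L360321) q10211, e3 q12264 L360335 q12264, e3 q12265 L659158 q14467, e3 q12266 L659189 q14469, e3 q12267 (flp_i L360353) q10215, e3 q12268 L659227 q14472, e3 q12269 L659240 q14473, e3 q12270 (flp_i L360380) q10216, e3 q12271 L659270 q14476, e3 q12272 (flp_i L360395) q10218, e3 q12273 L659303 q14479, e3 q12274 (flp_i L360407) q10220, e3 q12275 L360421 q12275, e3 q12276 L659321 q14481, e3 q12277 (flp_i L360428) q10222, e3 q12278 L360441 q12278, e3 q12279 L617644 q10932, e3 q12280 (flp_i L658407) q14384, e3 q12281 L659412 q14489, e3 q12282 (flp_i L658433) q14386, e3 q12283 (flp_i L658448) q14387, e3 q12284 L659462 q14494, e3 q12285 L659480 q14496, e3 q12286 (flp_i L360494) q10227, e3 q12287 L659488 q14497, trivial⟩ (by decide +kernel)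

theorem ce_i_192 : ∀ r, r < 64 → sm gi (Qf (12288 + r)) = Qf (tab Gen.i (12288 + r)) :=
  edges_tab (sm gi) Qf (tab Gen.i) 12288 [(12288, 10229), (12289, 14393), (12290, 14394), (12291, 14503), (12292, 14506), (12293, 10232), (12294, 14398), (12295, 14510), (12296, 14512), (12297, 14515), (12298, 10235), (12299, 14518), (12300, 14519), (12301, 10236), (12302, 14522), (12303, 10238), (12304, 14524), (12305, 10239), (12306, 10241), (12307, 12307), (12308, 14411), (12309, 14529), (12310, 14532), (12311, 10245), (12312, 14534), (12313, 10246), (12314, 14536), (12315, 10247), (12316, 14539), (12317, 10249), (12318, 12318), (12319, 14421), (12320, 14422), (12321, 14546), (12322, 14548), (12323, 14551), (12324, 10254), (12325, 14554), (12326, 14556), (12327, 10255), (12328, 14430), (12329, 14560), (12330, 14563), (12331, 10258), (12332, 14566), (12333, 10259), (12334, 14569), (12335, 14571), (12336, 10260), (12337, 14575), (12338, 14577), (12339, 10262), (12340, 14580), (12341, 10263), (12342, 14557), (12343, 14583), (12344, 10265),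 (12345, 14586), (12346, 10267), (12347, 12347), (12348, 14589), (12349, 10269), (12350, 12350), (12351, 14592)]
    ⟨e3 q12288 (flp_i L360521) q10229, e3 q12289 (flp_i L658515) q14393, e3 q12290 (flp_i L658529) q14394, e3 q12291 L659551 q14503, e3 q12292 L659575 q14506, e3 q12293 (flp_i L360623) q10232, e3 q12294 (flp_i L658567) q14398, e3 q12295 L659613 q14510, e3 q12296 L659631 q14512, e3 q12297 L659657 q14515, e3 q12298 (flp_i L360669) q10235, e3 q12299 L659678 q14518, e3 q12300 L659688 q14519, e3 q12301 (flp_i L360693) q10236, e3 q12302 L659714 q14522, e3 q12303 (flp_i L360711) q10238, e3 q12304 L659737 q14524, e3 q12305 (flp_i L360729) q10239, e3 q12306 (flp_i L360748) q10241, e3 q12307 L360762 q12307, e3 q12308 (flp_i L658687) q14411, e3 q12309 L659785 q14529, e3 q12310 L659816 q14532, e3 q12311 (flp_i L360823) q10245, e3 q12312 L659837 q14534, e3 q12313 (flp_i L360843) q10246, e3 q12314 L659856 q14536, e3 q12315 (flp_i L360860) q10247, e3 q12316 L659883 q14539, e3 q12317 (flp_i L360877) q10249, e3 q12318 L360894 q12318,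 e3 q12319 (flp_i L658791) q14421, e3 q12320 (flp_i L658803) q14422, e3 q12321 L659951 q14546, e3 q12322 L659964 q14548, e3 q12323 L659984 q14551, e3 q12324 (flp_i L360929) q10254, e3 q12325 L660013 q14554, e3 q12326 L660027 q14556, e3 q12327 (flp_i L360947) q10255, e3 q12328 (flp_i L658860) q14430, e3 q12329 L660054 q14560, e3 q12330 L660078 q14563, e3 q12331 (flp_i L360977) q10258, e3 q12332 L660106 q14566, e3 q12333 (flp_i L360991) q10259, e3 q12334 L660129 q14569, e3 q12335 L660141 q14571, e3 q12336 (flp_i L361011) q10260, e3 q12337 L660176 q14575, e3 q12338 L660191 q14577, e3 q12339 (flp_i L361028) q10262, e3 q12340 L660210 q14580, e3 q12341 (flp_i L361042) q10263, e3 q12342 (flp_i L660036) q14557, e3 q12343 L660232 q14583, e3 q12344 (flp_i L361058) q10265, e3 q12345 L660263 q14586, e3 q12346 (flp_i L361073) q10267, e3 q12347 L361087 q12347, e3 q12348 L660284 q14589, e3 q12349 (flp_i L361094) q10269, e3 q12350 L361106 q12350, e3 q12351 L660302 q14592, trivial⟩ (by decide +kernel)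

theorem ce_i_193 : ∀ r, r < 64 → sm gi (Qf (12352 + r)) = Qf (tab Gen.i (12352 + r)) :=
  edges_tab (sm gi) Qf (tab Gen.i) 12352 [(12352, 10272), (12353, 12353), (12354, 14594), (12355, 14597), (12356, 10276), (12357, 14600), (12358, 14601), (12359, 10277), (12360, 14603), (12361, 10279), (12362, 14606), (12363, 10281), (12364, 12364), (12365, 14608), (12366, 10283), (12367, 12367), (12368, 10286), (12369, 14611), (12370, 10287), (12371, 14615), (12372, 14616), (12373, 10289), (12374, 10290), (12375, 12375), (12376, 12376), (12377, 14619), (12378, 10293), (12379, 12379), (12380, 10296), (12381, 12381), (12382, 12382), (12383, 14623), (12384, 10299), (12385, 10300), (12386, 14626), (12387, 10302), (12388, 14627), (12389, 10303), (12390, 12390), (12391, 10306), (12392, 10308), (12393, 14629), (12394, 10309), (12395, 14630), (12396, 10311), (12397, 14632), (12398, 10312), (12399, 14635), (12400, 10314), (12401, 12401), (12402, 14637), (12403, 10316), (12404, 12404), (12405, 10319), (12406, 10320), (12407, 10323), (12408, 14640),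 (12409, 10324), (12410, 10326), (12411, 10328), (12412, 10330), (12413, 10402), (12414, 10403), (12415, 14645)]
    ⟨e3 q12352 (flp_i L361115) q10272, e3 q12353 L361129 q12353, e3 q12354 L660327 q14594, e3 q12355 L660356 q14597, e3 q12356 (flp_i L361156) q10276, e3 q12357 L660385 q14600, e3 q12358 L660393 q14601, e3 q12359 (flp_i L361183) q10277, e3 q12360 L660413 q14603, e3 q12361 (flp_i L361199) q10279, e3 q12362 L660444 q14606, e3 q12363 (flp_i L361216) q10281, e3 q12364 L361230 q12364, e3 q12365 L660463 q14608, e3 q12366 (flp_i L361239) q10283, e3 q12367 L361255 q12367, e3 q12368 (flp_i L361264) q10286, e3 q12369 L660487 q14611, e3 q12370 (flp_i L361290) q10287, e3 q12371 L660533 q14615, e3 q12372 L660545 q14616, e3 q12373 (flp_i L361315) q10289, e3 q12374 (flp_i L361324) q10290, e3 q12375 L361341 q12375, e3 q12376 L361362 q12376, e3 q12377 L660582 q14619, e3 q12378 (flp_i L361370) q10293, e3 q12379 L361385 q12379, e3 q12380 (flp_i L361386) q10296, e3 q12381 L361401 q12381, e3 q12382 L361407 q12382, e3 q12383 L660630 q14623,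 e3 q12384 (flp_i L361462) q10299, e3 q12385 (flp_i L361488) q10300, e3 q12386 L660667 q14626, e3 q12387 (flp_i L361578) q10302, e3 q12388 L660677 q14627, e3 q12389 (flp_i L361595) q10303, e3 q12390 L361633 q12390, e3 q12391 (flp_i L361704) q10306, e3 q12392 (flp_i L361789) q10308, e3 q12393 L660703 q14629, e3 q12394 (flp_i L361811) q10309, e3 q12395 L660721 q14630, e3 q12396 (flp_i L361827) q10311, e3 q12397 L660743 q14632, e3 q12398 (flp_i L361844) q10312, e3 q12399 L660779 q14635, e3 q12400 (flp_i L361862) q10314, e3 q12401 L361879 q12401, e3 q12402 L660802 q14637, e3 q12403 (flp_i L361887) q10316, e3 q12404 L361904 q12404, e3 q12405 (flp_i L361931) q10319, e3 q12406 (flp_i L361950) q10320, e3 q12407 (flp_i L362024) q10323, e3 q12408 L660832 q14640, e3 q12409 (flp_i L362050) q10324, e3 q12410 (flp_i L362069) q10326, e3 q12411 (flp_i L362088) q10328, e3 q12412 (flp_i L362118) q10330, e3 q12413 L362171 q10402, e3 q12414 L362182 q10403, e3 q12415 L660894 q14645, trivial⟩ (by decide +kernel)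

theorem ce_i_194 : ∀ r, r < 64 → sm gi (Qf (12416 + r)) = Qf (tab Gen.i (12416 + r)) :=
  edges_tab (sm gi) Qf (tab Gen.i) 12416 [(12416, 14647), (12417, 10333), (12418, 14648), (12419, 10335), (12420, 10414), (12421, 14652), (12422, 14654), (12423, 14656), (12424, 10339), (12425, 14657), (12426, 10340), (12427, 14660), (12428, 10342), (12429, 14662), (12430, 10343), (12431, 10345), (12432, 12432), (12433, 10428), (12434, 14666), (12435, 10349), (12436, 10350), (12437, 10438), (12438, 10439), (12439, 14672), (12440, 14674), (12441, 14676), (12442, 10355), (12443, 14677), (12444, 10356), (12445, 10447), (12446, 14681), (12447, 14684), (12448, 10359), (12449, 14687), (12450, 10360), (12451, 14690), (12452, 14692), (12453, 10361), (12454, 14694), (12455, 14695), (12456, 10363), (12457, 14698), (12458, 10364), (12459, 14678), (12460, 14701), (12461, 10366), (12462, 14704), (12463, 10368), (12464, 12464), (12465, 14707), (12466, 10370), (12467, 12467), (12468, 14710), (12469, 10373), (12470, 12470), (12471, 14713), (12472, 14716),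 (12473, 10377), (12474, 14719), (12475, 14720), (12476, 10378), (12477, 14721), (12478, 10380), (12479, 14722)]
    ⟨e3 q12416 L660921 q14647, e3 q12417 (flp_i L362201) q10333, e3 q12418 L660932 q14648, e3 q12419 (flp_i L362228) q10335, e3 q12420 L362358 q10414, e3 q12421 L660979 q14652, e3 q12422 L661002 q14654, e3 q12423 L661027 q14656, e3 q12424 (flp_i L362387) q10339, e3 q12425 L661037 q14657, e3 q12426 (flp_i L362415) q10340, e3 q12427 L661071 q14660, e3 q12428 (flp_i L362432) q10342, e3 q12429 L661085 q14662, e3 q12430 (flp_i L362450) q10343, e3 q12431 (flp_i L362466) q10345, e3 q12432 L362482 q12432, e3 q12433 L362514 q10428, e3 q12434 L661122 q14666, e3 q12435 (flp_i L362539) q10349, e3 q12436 (flp_i L362560) q10350, e3 q12437 L362624 q10438, e3 q12438 L362635 q10439, e3 q12439 L661192 q14672, e3 q12440 L661215 q14674, e3 q12441 L661238 q14676, e3 q12442 (flp_i L362659) q10355, e3 q12443 L661248 q14677, e3 q12444 (flp_i L362683) q10356, e3 q12445 L362694 q10447, e3 q12446 L661286 q14681, e3 q12447 L661312 q14684, e3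 q12448 (flp_i L362713) q10359, e3 q12449 L661344 q14687, e3 q12450 (flp_i L362728) q10360, e3 q12451 L661381 q14690, e3 q12452 L661395 q14692, e3 q12453 (flp_i L362751) q10361, e3 q12454 L661409 q14694, e3 q12455 L661422 q14695, e3 q12456 (flp_i L362769) q10363, e3 q12457 L661456 q14698, e3 q12458 (flp_i L362785) q10364, e3 q12459 (flp_i L661269) q14678, e3 q12460 L661479 q14701, e3 q12461 (flp_i L362805) q10366, e3 q12462 L661503 q14704, e3 q12463 (flp_i L362815) q10368, e3 q12464 L362827 q12464, e3 q12465 L661526 q14707, e3 q12466 (flp_i L362833) q10370, e3 q12467 L362845 q12467, e3 q12468 L661550 q14710, e3 q12469 (flp_i L362852) q10373, e3 q12470 L362863 q12470, e3 q12471 L661587 q14713, e3 q12472 L661628 q14716, e3 q12473 (flp_i L362891) q10377, e3 q12474 L661674 q14719, e3 q12475 L661686 q14720, e3 q12476 (flp_i L362917) q10378, e3 q12477 L661700 q14721, e3 q12478 (flp_i L362934) q10380, e3 q12479 L661715 q14722, trivial⟩ (by decide +kernel)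

theorem ce_i_195 : ∀ r, r < 64 → sm gi (Qf (12480 + r)) = Qf (tab Gen.i (12480 + r)) :=
  edges_tab (sm gi) Qf (tab Gen.i) 12480 [(12480, 10382), (12481, 10384), (12482, 14723), (12483, 10386), (12484, 14724), (12485, 14725), (12486, 10387), (12487, 14727), (12488, 14726), (12489, 10389), (12490, 10390), (12491, 10526), (12492, 10392), (12493, 10527), (12494, 10394), (12495, 10529), (12496, 10397), (12497, 10531), (12498, 10532), (12499, 11318), (12500, 11320), (12501, 14735), (12502, 14736), (12503, 10401), (12504, 14641), (12505, 14740), (12506, 14742), (12507, 14744), (12508, 10404), (12509, 14745), (12510, 10405), (12511, 10407), (12512, 11319), (12513, 11316), (12514, 14752), (12515, 14754), (12516, 14756), (12517, 10411), (12518, 14757), (12519, 10412), (12520, 14649), (12521, 14761), (12522, 14764), (12523, 10415), (12524, 14767), (12525, 10416), (12526, 14770), (12527, 14772), (12528, 10417), (12529, 14774), (12530, 14775), (12531, 10419), (12532, 10420), (12533, 14758), (12534, 14779), (12535, 10422), (12536, 14781),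 (12537, 10424), (12538, 12538), (12539, 12539), (12540, 14785), (12541, 14788), (12542, 10429), (12543, 14791)]
    ⟨e3 q12480 (flp_i L362951) q10382, e3 q12481 (flp_i L362976) q10384, e3 q12482 L661731 q14723, e3 q12483 (flp_i L363004) q10386, e3 q12484 L661747 q14724, e3 q12485 L661764 q14725, e3 q12486 (flp_i L363030) q10387, e3 q12487 L661798 q14727, e3 q12488 (flp_i L661796) q14726, e3 q12489 (flp_i L363056) q10389, e3 q12490 (flp_i L363065) q10390, e3 q12491 L363081 q10526, e3 q12492 (flp_i L363090) q10392, e3 q12493 L363106 q10527, e3 q12494 (flp_i L363115) q10394, e3 q12495 L363128 q10529, e3 q12496 (flp_i L363130) q10397, e3 q12497 L363145 q10531, e3 q12498 L363153 q10532, e3 q12499 L542666 q11318, e3 q12500 L542957 q11320, e3 q12501 L661898 q14735, e3 q12502 L661909 q14736, e3 q12503 (flp_i L363207) q10401, e3 q12504 (flp_i L660859) q14641, e3 q12505 L661945 q14740, e3 q12506 L661961 q14742, e3 q12507 L661976 q14744, e3 q12508 (flp_i L363247) q10404, e3 q12509 L661984 q14745, e3 q12510 (flp_i L363269) q10405, e3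 q12511 (flp_i L363286) q10407, e3 q12512 L513290 q11319, e3 q12513 L542658 q11316, e3 q12514 L662064 q14752, e3 q12515 L662087 q14754, e3 q12516 L662110 q14756, e3 q12517 (flp_i L363455) q10411, e3 q12518 L662120 q14757, e3 q12519 (flp_i L363483) q10412, e3 q12520 (flp_i L660952) q14649, e3 q12521 L662162 q14761, e3 q12522 L662190 q14764, e3 q12523 (flp_i L363519) q10415, e3 q12524 L662222 q14767, e3 q12525 (flp_i L363536) q10416, e3 q12526 L662252 q14770, e3 q12527 L662268 q14772, e3 q12528 (flp_i L363563) q10417, e3 q12529 L662284 q14774, e3 q12530 L662293 q14775, e3 q12531 (flp_i L363586) q10419, e3 q12532 (flp_i L363606) q10420, e3 q12533 (flp_i L662141) q14758, e3 q12534 L662331 q14779, e3 q12535 (flp_i L363631) q10422, e3 q12536 L662350 q14781, e3 q12537 (flp_i L363647) q10424, e3 q12538 L363663 q12538, e3 q12539 L363690 q12539, e3 q12540 L662385 q14785, e3 q12541 L662417 q14788, e3 q12542 (flp_i L363747) q10429, e3 q12543 L662452 q14791, trivial⟩ (by decide +kernel)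

theorem ce_i_196 : ∀ r, r < 64 → sm gi (Qf (12544 + r)) = Qf (tab Gen.i (12544 + r)) :=
  edges_tab (sm gi) Qf (tab Gen.i) 12544 [(12544, 14792), (12545, 10430), (12546, 14793), (12547, 10432), (12548, 14795), (12549, 10434), (12550, 14796), (12551, 10436), (12552, 14667), (12553, 14800), (12554, 14669), (12555, 14803), (12556, 14806), (12557, 10440), (12558, 14809), (12559, 10441), (12560, 14812), (12561, 14814), (12562, 10442), (12563, 14816), (12564, 14818), (12565, 10444), (12566, 14821), (12567, 10445), (12568, 10461), (12569, 14824), (12570, 14827), (12571, 10448), (12572, 14830), (12573, 14832), (12574, 10449), (12575, 14836), (12576, 14838), (12577, 10451), (12578, 14842), (12579, 14844), (12580, 10453), (12581, 14847), (12582, 10454), (12583, 14815), (12584, 14849), (12585, 14851), (12586, 10456), (12587, 14854), (12588, 10457), (12589, 14819), (12590, 14858), (12591, 10459), (12592, 14822), (12593, 14862), (12594, 10462), (12595, 12595), (12596, 14865), (12597, 10464), (12598, 12598), (12599, 14868), (12600, 10467),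 (12601, 12601), (12602, 12602), (12603, 10470), (12604, 12604), (12605, 14875), (12606, 10473), (12607, 14878)]
    ⟨e3 q12544 L662464 q14792, e3 q12545 (flp_i L363776) q10430, e3 q12546 L662476 q14793, e3 q12547 (flp_i L363797) q10432, e3 q12548 L662502 q14795, e3 q12549 (flp_i L363816) q10434, e3 q12550 L662514 q14796, e3 q12551 (flp_i L363846) q10436, e3 q12552 (flp_i L661144) q14667, e3 q12553 L662557 q14800, e3 q12554 (flp_i L661165) q14669, e3 q12555 L662583 q14803, e3 q12556 L662609 q14806, e3 q12557 (flp_i L363908) q10440, e3 q12558 L662636 q14809, e3 q12559 (flp_i L363923) q10441, e3 q12560 L662663 q14812, e3 q12561 L662678 q14814, e3 q12562 (flp_i L363946) q10442, e3 q12563 L662691 q14816, e3 q12564 L662715 q14818, e3 q12565 (flp_i L363968) q10444, e3 q12566 L662746 q14821, e3 q12567 (flp_i L363985) q10445, e3 q12568 L363996 q10461, e3 q12569 L662768 q14824, e3 q12570 L662789 q14827, e3 q12571 (flp_i L364013) q10448, e3 q12572 L662811 q14830, e3 q12573 L662825 q14832, e3 q12574 (flp_i L364033) q10449, e3 q12575 L662852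 q14836, e3 q12576 L662867 q14838, e3 q12577 (flp_i L364055) q10451, e3 q12578 L662894 q14842, e3 q12579 L662907 q14844, e3 q12580 (flp_i L364075) q10453, e3 q12581 L662928 q14847, e3 q12582 (flp_i L364087) q10454, e3 q12583 (flp_i L662689) q14815, e3 q12584 L662940 q14849, e3 q12585 L662963 q14851, e3 q12586 (flp_i L364112) q10456, e3 q12587 L662985 q14854, e3 q12588 (flp_i L364129) q10457, e3 q12589 (flp_i L662737) q14819, e3 q12590 L663022 q14858, e3 q12591 (flp_i L364150) q10459, e3 q12592 (flp_i L662759) q14822, e3 q12593 L663047 q14862, e3 q12594 (flp_i L364170) q10462, e3 q12595 L364184 q12595, e3 q12596 L663069 q14865, e3 q12597 (flp_i L364191) q10464, e3 q12598 L364203 q12598, e3 q12599 L663087 q14868, e3 q12600 (flp_i L364211) q10467, e3 q12601 L364226 q12601, e3 q12602 L364230 q12602, e3 q12603 (flp_i L364231) q10470, e3 q12604 L364244 q12604, e3 q12605 L663146 q14875, e3 q12606 (flp_i L364271) q10473, e3 q12607 L663176 q14878, trivial⟩ (by decide +kernel)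

theorem ce_i_197 : ∀ r, r < 64 → sm gi (Qf (12608 + r)) = Qf (tab Gen.i (12608 + r)) :=
  edges_tab (sm gi) Qf (tab Gen.i) 12608 [(12608, 14879), (12609, 10474), (12610, 14883), (12611, 14885), (12612, 10476), (12613, 10477), (12614, 10574), (12615, 14889), (12616, 10479), (12617, 10577), (12618, 14891), (12619, 10481), (12620, 10580), (12621, 10484), (12622, 10582), (12623, 10583), (12624, 14898), (12625, 14899), (12626, 10487), (12627, 14903), (12628, 14900), (12629, 10489), (12630, 10490), (12631, 10588), (12632, 14905), (12633, 14907), (12634, 10492), (12635, 14909), (12636, 10493), (12637, 10592), (12638, 10593), (12639, 14912), (12640, 10497), (12641, 10596), (12642, 10500), (12643, 10598), (12644, 10599), (12645, 10600), (12646, 10601), (12647, 10602), (12648, 10546), (12649, 14921), (12650, 10548), (12651, 14923), (12652, 10510), (12653, 10511), (12654, 11327), (12655, 11196), (12656, 10525), (12657, 11190), (12658, 11195), (12659, 14728), (12660, 14729), (12661, 11317), (12662, 14926), (12663, 11315), (12664, 14927),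 (12665, 10535), (12666, 10536), (12667, 11366), (12668, 11367), (12669, 11368), (12670, 11369), (12671, 11370)]
    ⟨e3 q12608 L663184 q14879, e3 q12609 (flp_i L364297) q10474, e3 q12610 L663228 q14883, e3 q12611 L663243 q14885, e3 q12612 (flp_i L364326) q10476, e3 q12613 (flp_i L364334) q10477, e3 q12614 L364351 q10574, e3 q12615 L663289 q14889, e3 q12616 (flp_i L364363) q10479, e3 q12617 L364379 q10577, e3 q12618 L663311 q14891, e3 q12619 (flp_i L364390) q10481, e3 q12620 L364406 q10580, e3 q12621 (flp_i L364408) q10484, e3 q12622 L364428 q10582, e3 q12623 L364435 q10583, e3 q12624 L663387 q14898, e3 q12625 L663401 q14899, e3 q12626 (flp_i L364456) q10487, e3 q12627 L663460 q14903, e3 q12628 (flp_i L663430) q14900, e3 q12629 (flp_i L364484) q10489, e3 q12630 (flp_i L364493) q10490, e3 q12631 L364508 q10588, e3 q12632 L663482 q14905, e3 q12633 L663506 q14907, e3 q12634 (flp_i L364528) q10492, e3 q12635 L663529 q14909, e3 q12636 (flp_i L364542) q10493, e3 q12637 L364561 q10592, e3 q12638 L364571 q10593, e3 q12639 L663566 q14912,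 e3 q12640 (flp_i L364582) q10497, e3 q12641 L364599 q10596, e3 q12642 (flp_i L364601) q10500, e3 q12643 L364616 q10598, e3 q12644 L364623 q10599, e3 q12645 L364634 q10600, e3 q12646 L364643 q10601, e3 q12647 L364649 q10602, e3 q12648 L367128 q10546, e3 q12649 L663654 q14921, e3 q12650 L367143 q10548, e3 q12651 L663678 q14923, e3 q12652 (flp_i L367164) q10510, e3 q12653 (flp_i L367181) q10511, e3 q12654 L615740 q11327, e3 q12655 L561822 q11196, e3 q12656 (flp_i L615943) q10525, e3 q12657 L546976 q11190, e3 q12658 L542819 q11195, e3 q12659 (flp_i L661826) q14728, e3 q12660 (flp_i L661833) q14729, e3 q12661 L513284 q11317, e3 q12662 L663720 q14926, e3 q12663 L562974 q11315, e3 q12664 L663733 q14927, e3 q12665 (flp_i L368294) q10535, e3 q12666 (flp_i L368311) q10536, e3 q12667 L562308 q11366, e3 q12668 L546411 q11367, e3 q12669 L546388 q11368, e3 q12670 L546451 q11369, e3 q12671 L546392 q11370, trivial⟩ (by decide +kernel)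

theorem ce_i_198 : ∀ r, r < 64 → sm gi (Qf (12672 + r)) = Qf (tab Gen.i (12672 + r)) :=
  edges_tab (sm gi) Qf (tab Gen.i) 12672 [(12672, 11372), (12673, 14918), (12674, 14936), (12675, 14939), (12676, 10547), (12677, 14940), (12678, 14942), (12679, 10549), (12680, 14945), (12681, 14946), (12682, 10550), (12683, 14948), (12684, 10552), (12685, 14950), (12686, 10554), (12687, 14951), (12688, 10556), (12689, 11344), (12690, 11345), (12691, 11347), (12692, 11348), (12693, 11349), (12694, 11350), (12695, 14959), (12696, 10587), (12697, 10565), (12698, 14958), (12699, 14957), (12700, 10567), (12701, 10568), (12702, 14880), (12703, 14963), (12704, 11373), (12705, 10570), (12706, 14966), (12707, 10571), (12708, 14886), (12709, 14887), (12710, 14970), (12711, 10575), (12712, 14890), (12713, 10578), (12714, 14892), (12715, 14893), (12716, 14894), (12717, 14895), (12718, 14896), (12719, 14929), (12720, 10589), (12721, 14908), (12722, 14910), (12723, 14911), (12724, 10594), (12725, 14913), (12726, 14914), (12727, 14915), (12728, 14916),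 (12729, 14917), (12730, 13960), (12731, 10613), (12732, 11443), (12733, 10615), (12734, 13849), (12735, 10728)]
    ⟨e3 q12672 L543222 q11372, e3 q12673 (flp_i L663627) q14918, e3 q12674 L663860 q14936, e3 q12675 L663888 q14939, e3 q12676 (flp_i L368825) q10547, e3 q12677 L663896 q14940, e3 q12678 L663916 q14942, e3 q12679 (flp_i L368850) q10549, e3 q12680 L663954 q14945, e3 q12681 L663966 q14946, e3 q12682 (flp_i L368872) q10550, e3 q12683 L663993 q14948, e3 q12684 (flp_i L368897) q10552, e3 q12685 L664019 q14950, e3 q12686 (flp_i L368920) q10554, e3 q12687 L664030 q14951, e3 q12688 (flp_i L368965) q10556, e3 q12689 L546151 q11344, e3 q12690 L546174 q11345, e3 q12691 L543416 q11347, e3 q12692 L546209 q11348, e3 q12693 L543351 q11349, e3 q12694 L543188 q11350, e3 q12695 L664152 q14959, e3 q12696 L647140 q10587, e3 q12697 (flp_i L369324) q10565, e3 q12698 L664150 q14958, e3 q12699 L664134 q14957, e3 q12700 (flp_i L369350) q10567, e3 q12701 (flp_i L369358) q10568, e3 q12702 (flp_i L663205) q14880, e3 q12703 L664209 q14963, e3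 q12704 L629239 q11373, e3 q12705 (flp_i L369393) q10570, e3 q12706 L664243 q14966, e3 q12707 (flp_i L369409) q10571, e3 q12708 (flp_i L663262) q14886, e3 q12709 (flp_i L663275) q14887, e3 q12710 L664294 q14970, e3 q12711 (flp_i L369443) q10575, e3 q12712 (flp_i L663309) q14890, e3 q12713 (flp_i L369461) q10578, e3 q12714 (flp_i L663329) q14892, e3 q12715 (flp_i L663337) q14893, e3 q12716 (flp_i L663353) q14894, e3 q12717 (flp_i L663362) q14895, e3 q12718 (flp_i L663371) q14896, e3 q12719 (flp_i L663771) q14929, e3 q12720 (flp_i L369625) q10589, e3 q12721 (flp_i L663527) q14908, e3 q12722 (flp_i L663552) q14910, e3 q12723 (flp_i L663562) q14911, e3 q12724 (flp_i L369703) q10594, e3 q12725 (flp_i L663583) q14913, e3 q12726 (flp_i L663591) q14914, e3 q12727 (flp_i L663601) q14915, e3 q12728 (flp_i L663609) q14916, e3 q12729 (flp_i L663616) q14917, e3 q12730 (flp_i L653564) q13960, e3 q12731 L372546 q10613, e3 q12732 L649027 q11443, e3 q12733 L635062 q10615, e3 q12734 (flp_i L651969) q13849, e3 q12735 L641006 q10728, trivial⟩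 (by decide +kernel)

theorem ce_i_199 : ∀ r, r < 64 → sm gi (Qf (12736 + r)) = Qf (tab Gen.i (12736 + r)) :=
  edges_tab (sm gi) Qf (tab Gen.i) 12736 [(12736, 13850), (12737, 10617), (12738, 10738), (12739, 10957), (12740, 14982), (12741, 14983), (12742, 10630), (12743, 10631), (12744, 14985), (12745, 10636), (12746, 14987), (12747, 10638), (12748, 10639), (12749, 14988), (12750, 10640), (12751, 14989), (12752, 14990), (12753, 10644), (12754, 10645), (12755, 10647), (12756, 14991), (12757, 10649), (12758, 14993), (12759, 14995), (12760, 10651), (12761, 14998), (12762, 15000), (12763, 10652), (12764, 15002), (12765, 10655), (12766, 15004), (12767, 10657), (12768, 10659), (12769, 13925), (12770, 15006), (12771, 10661), (12772, 15007), (12773, 10663), (12774, 15008), (12775, 10669), (12776, 10709), (12777, 15011), (12778, 15013), (12779, 10672), (12780, 10713), (12781, 15015), (12782, 15016), (12783, 10675), (12784, 15017), (12785, 10676), (12786, 10678), (12787, 10681), (12788, 10683), (12789, 13867), (12790, 11058), (12791,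 15022), (12792, 15023), (12793, 10690), (12794, 10691), (12795, 15025), (12796, 15027), (12797, 10694), (12798, 15028), (12799, 10695)]
    ⟨e3 q12736 (flp_i L651985) q13850, e3 q12737 (flp_i L373280) q10617, e3 q12738 L373306 q10738, e3 q12739 L641085 q10957, e3 q12740 L664428 q14982, e3 q12741 L664444 q14983, e3 q12742 (flp_i L374037) q10630, e3 q12743 (flp_i L374069) q10631, e3 q12744 L664470 q14985, e3 q12745 (flp_i L374346) q10636, e3 q12746 L664499 q14987, e3 q12747 (flp_i L374439) q10638, e3 q12748 (flp_i L374470) q10639, e3 q12749 L664507 q14988, e3 q12750 (flp_i L374488) q10640, e3 q12751 L664522 q14989, e3 q12752 L664538 q14990, e3 q12753 (flp_i L374563) q10644, e3 q12754 (flp_i L374579) q10645, e3 q12755 (flp_i L374589) q10647, e3 q12756 L664554 q14991, e3 q12757 (flp_i L374632) q10649, e3 q12758 L664576 q14993, e3 q12759 L664601 q14995, e3 q12760 (flp_i L374676) q10651, e3 q12761 L664634 q14998, e3 q12762 L664652 q15000, e3 q12763 (flp_i L374700) q10652, e3 q12764 L664670 q15002, e3 q12765 (flp_i L374761) q10655,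 e3 q12766 L664693 q15004, e3 q12767 (flp_i L374789) q10657, e3 q12768 (flp_i L374832) q10659, e3 q12769 (flp_i L653059) q13925, e3 q12770 L664716 q15006, e3 q12771 (flp_i L374863) q10661, e3 q12772 L664723 q15007, e3 q12773 (flp_i L374879) q10663, e3 q12774 L664736 q15008, e3 q12775 (flp_i L374990) q10669, e3 q12776 L375799 q10709, e3 q12777 L664778 q15011, e3 q12778 L664802 q15013, e3 q12779 (flp_i L375825) q10672, e3 q12780 L375843 q10713, e3 q12781 L664820 q15015, e3 q12782 L664834 q15016, e3 q12783 (flp_i L375871) q10675, e3 q12784 L664846 q15017, e3 q12785 (flp_i L375893) q10676, e3 q12786 (flp_i L375909) q10678, e3 q12787 (flp_i L376011) q10681, e3 q12788 (flp_i L376053) q10683, e3 q12789 (flp_i L652255) q13867, e3 q12790 L622140 q11058, e3 q12791 L664901 q15022, e3 q12792 L664916 q15023, e3 q12793 (flp_i L376223) q10690, e3 q12794 (flp_i L376255) q10691, e3 q12795 L664932 q15025, e3 q12796 L664958 q15027, e3 q12797 (flp_i L376413) q10694, e3 q12798 L664966 q15028, e3 q12799 (flp_i L376435) q10695, trivial⟩ (by decide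 +kernel)

theorem ce_i_200 : ∀ r, r < 64 → sm gi (Qf (12800 + r)) = Qf (tab Gen.i (12800 + r)) :=
  edges_tab (sm gi) Qf (tab Gen.i) 12800 [(12800, 10697), (12801, 15031), (12802, 10698), (12803, 10700), (12804, 11675), (12805, 15034), (12806, 15035), (12807, 10703), (12808, 15036), (12809, 10704), (12810, 10705), (12811, 13846), (12812, 15039), (12813, 15040), (12814, 10710), (12815, 15042), (12816, 10711), (12817, 13944), (12818, 15046), (12819, 15049), (12820, 10714), (12821, 15051), (12822, 10715), (12823, 15054), (12824, 15056), (12825, 10716), (12826, 15059), (12827, 15061), (12828, 10718), (12829, 15064), (12830, 10719), (12831, 15043), (12832, 15067), (12833, 10722), (12834, 15069), (12835, 10724), (12836, 15070), (12837, 10726), (12838, 15071), (12839, 15073), (12840, 10729), (12841, 15076), (12842, 15077), (12843, 10730), (12844, 15079), (12845, 10732), (12846, 15080), (12847, 10734), (12848, 13919), (12849, 10736), (12850, 11619), (12851, 10739), (12852, 10740), (12853, 15085), (12854, 10742), (12855, 10743), (12856,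 15087), (12857, 10745), (12858, 15088), (12859, 10747), (12860, 10968), (12861, 10750), (12862, 10958), (12863, 10969)]
    ⟨e3 q12800 (flp_i L376452) q10697, e3 q12801 L664995 q15031, e3 q12802 (flp_i L376471) q10698, e3 q12803 (flp_i L376491) q10700, e3 q12804 (flp_i L648268) q11675, e3 q12805 L665040 q15034, e3 q12806 L665053 q15035, e3 q12807 (flp_i L376559) q10703, e3 q12808 L665066 q15036, e3 q12809 (flp_i L376576) q10704, e3 q12810 (flp_i L376592) q10705, e3 q12811 (flp_i L651915) q13846, e3 q12812 L665104 q15039, e3 q12813 L665116 q15040, e3 q12814 (flp_i L376657) q10710, e3 q12815 L665138 q15042, e3 q12816 (flp_i L376677) q10711, e3 q12817 (flp_i L653338) q13944, e3 q12818 L665178 q15046, e3 q12819 L665202 q15049, e3 q12820 (flp_i L376709) q10714, e3 q12821 L665222 q15051, e3 q12822 (flp_i L376725) q10715, e3 q12823 L665253 q15054, e3 q12824 L665271 q15056, e3 q12825 (flp_i L376749) q10716, e3 q12826 L665296 q15059, e3 q12827 L665309 q15061, e3 q12828 (flp_i L376768) q10718, e3 q12829 L665326 q15064, e3 q12830 (flp_i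 L376780) q10719, e3 q12831 (flp_i L665154) q15043, e3 q12832 L665351 q15067, e3 q12833 (flp_i L376821) q10722, e3 q12834 L665371 q15069, e3 q12835 (flp_i L376850) q10724, e3 q12836 L665380 q15070, e3 q12837 (flp_i L376877) q10726, e3 q12838 L665393 q15071, e3 q12839 L665411 q15073, e3 q12840 (flp_i L376919) q10729, e3 q12841 L665446 q15076, e3 q12842 L665452 q15077, e3 q12843 (flp_i L376940) q10730, e3 q12844 L665474 q15079, e3 q12845 (flp_i L376953) q10732, e3 q12846 L665481 q15080, e3 q12847 (flp_i L376969) q10734, e3 q12848 L652980 q13919, e3 q12849 (flp_i L376988) q10736, e3 q12850 L648322 q11619, e3 q12851 (flp_i L377005) q10739, e3 q12852 (flp_i L377031) q10740, e3 q12853 L665531 q15085, e3 q12854 (flp_i L377052) q10742, e3 q12855 (flp_i L377061) q10743, e3 q12856 L665553 q15087, e3 q12857 (flp_i L377081) q10745, e3 q12858 L665562 q15088, e3 q12859 (flp_i L377105) q10747, e3 q12860 L641177 q10968, e3 q12861 (flp_i L377122) q10750, e3 q12862 L641196 q10958, e3 q12863 L641184 q10969, trivial⟩ (by decide +kernel)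

theorem ce_i_201 : ∀ r, r < 64 → sm gi (Qf (12864 + r)) = Qf (tab Gen.i (12864 + r)) :=
  edges_tab (sm gi) Qf (tab Gen.i) 12864 [(12864, 15094), (12865, 10753), (12866, 12866), (12867, 15096), (12868, 10755), (12869, 12869), (12870, 10831), (12871, 10832), (12872, 15102), (12873, 15104), (12874, 15105), (12875, 10760), (12876, 10761), (12877, 10840), (12878, 15108), (12879, 15111), (12880, 10764), (12881, 15113), (12882, 10765), (12883, 15115), (12884, 10766), (12885, 15118), (12886, 10768), (12887, 15106), (12888, 10772), (12889, 15121), (12890, 10773), (12891, 15124), (12892, 10775), (12893, 15127), (12894, 10777), (12895, 12895), (12896, 15129), (12897, 10779), (12898, 12898), (12899, 15133), (12900, 10783), (12901, 12901), (12902, 15136), (12903, 10785), (12904, 12904), (12905, 15138), (12906, 10787), (12907, 12907), (12908, 10790), (12909, 12909), (12910, 12910), (12911, 11225), (12912, 15145), (12913, 10794), (12914, 11057), (12915, 15148), (12916, 15150), (12917, 15151), (12918, 10797), (12919, 10798), (12920, 10800),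 (12921, 15154), (12922, 15156), (12923, 15158), (12924, 10804), (12925, 15159), (12926, 10805), (12927, 11644)]
    ⟨e3 q12864 L665630 q15094, e3 q12865 (flp_i L377820) q10753, e3 q12866 L377838 q12866, e3 q12867 L665651 q15096, e3 q12868 (flp_i L377848) q10755, e3 q12869 L377866 q12869, e3 q12870 L378355 q10831, e3 q12871 L378368 q10832, e3 q12872 L665718 q15102, e3 q12873 L665742 q15104, e3 q12874 L665756 q15105, e3 q12875 (flp_i L378395) q10760, e3 q12876 (flp_i L378421) q10761, e3 q12877 L378434 q10840, e3 q12878 L665791 q15108, e3 q12879 L665821 q15111, e3 q12880 (flp_i L378453) q10764, e3 q12881 L665842 q15113, e3 q12882 (flp_i L378470) q10765, e3 q12883 L665865 q15115, e3 q12884 (flp_i L378497) q10766, e3 q12885 L665904 q15118, e3 q12886 (flp_i L378517) q10768, e3 q12887 (flp_i L665779) q15106, e3 q12888 (flp_i L378662) q10772, e3 q12889 L665931 q15121, e3 q12890 (flp_i L378682) q10773, e3 q12891 L665960 q15124, e3 q12892 (flp_i L378696) q10775, e3 q12893 L665996 q15127, e3 q12894 (flp_i L378712) q10777, e3 q12895 L378726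 q12895, e3 q12896 L666017 q15129, e3 q12897 (flp_i L378733) q10779, e3 q12898 L378745 q12898, e3 q12899 L666056 q15133, e3 q12900 (flp_i L378801) q10783, e3 q12901 L378822 q12901, e3 q12902 L666081 q15136, e3 q12903 (flp_i L378831) q10785, e3 q12904 L378849 q12904, e3 q12905 L666101 q15138, e3 q12906 (flp_i L378858) q10787, e3 q12907 L378873 q12907, e3 q12908 (flp_i L378874) q10790, e3 q12909 L378887 q12909, e3 q12910 L378892 q12910, e3 q12911 L616109 q11225, e3 q12912 L666171 q15145, e3 q12913 (flp_i L378955) q10794, e3 q12914 L615396 q11057, e3 q12915 L666208 q15148, e3 q12916 L666232 q15150, e3 q12917 L666246 q15151, e3 q12918 (flp_i L379002) q10797, e3 q12919 (flp_i L379028) q10798, e3 q12920 (flp_i L379048) q10800, e3 q12921 L666277 q15154, e3 q12922 L666299 q15156, e3 q12923 L666322 q15158, e3 q12924 (flp_i L379246) q10804, e3 q12925 L666330 q15159, e3 q12926 (flp_i L379272) q10805, e3 q12927 (flp_i L648266) q11644, trivial⟩ (by decide +kernel)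

theorem ce_i_202 : ∀ r, r < 64 → sm gi (Qf (12928 + r)) = Qf (tab Gen.i (12928 + r)) :=
  edges_tab (sm gi) Qf (tab Gen.i) 12928 [(12928, 15163), (12929, 15166), (12930, 10808), (12931, 15169), (12932, 10809), (12933, 15172), (12934, 15174), (12935, 10810), (12936, 15176), (12937, 15177), (12938, 10812), (12939, 10813), (12940, 15160), (12941, 15181), (12942, 10815), (12943, 15182), (12944, 10817), (12945, 15184), (12946, 15187), (12947, 10821), (12948, 15190), (12949, 15191), (12950, 10822), (12951, 15194), (12952, 10824), (12953, 15197), (12954, 10826), (12955, 12955), (12956, 15199), (12957, 10828), (12958, 12958), (12959, 15203), (12960, 14076), (12961, 15206), (12962, 15209), (12963, 10833), (12964, 15211), (12965, 10834), (12966, 15214), (12967, 15216), (12968, 10835), (12969, 15219), (12970, 15220), (12971, 10837), (12972, 15223), (12973, 10838), (12974, 10854), (12975, 15226), (12976, 15229), (12977, 10841), (12978, 15232), (12979, 15234), (12980, 10842), (12981, 15238), (12982, 15240), (12983, 10844), (12984, 15244),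 (12985, 15246), (12986, 10846), (12987, 15249), (12988, 10847), (12989, 15217), (12990, 15252), (12991, 15254)]
    ⟨e3 q12928 L666364 q15163, e3 q12929 L666388 q15166, e3 q12930 (flp_i L379302) q10808, e3 q12931 L666418 q15169, e3 q12932 (flp_i L379317) q10809, e3 q12933 L666442 q15172, e3 q12934 L666460 q15174, e3 q12935 (flp_i L379344) q10810, e3 q12936 L666480 q15176, e3 q12937 L666489 q15177, e3 q12938 (flp_i L379365) q10812, e3 q12939 (flp_i L379381) q10813, e3 q12940 (flp_i L666345) q15160, e3 q12941 L666530 q15181, e3 q12942 (flp_i L379405) q10815, e3 q12943 L666544 q15182, e3 q12944 (flp_i L379422) q10817, e3 q12945 L666568 q15184, e3 q12946 L666600 q15187, e3 q12947 (flp_i L379519) q10821, e3 q12948 L666629 q15190, e3 q12949 L666637 q15191, e3 q12950 (flp_i L379542) q10822, e3 q12951 L666667 q15194, e3 q12952 (flp_i L379560) q10824, e3 q12953 L666698 q15197, e3 q12954 (flp_i L379578) q10826, e3 q12955 L379595 q12955, e3 q12956 L666716 q15199, e3 q12957 (flp_i L379604) q10828, e3 q12958 L379619 q12958, e3 q12959 L666755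 q15203, e3 q12960 (flp_i L654987) q14076, e3 q12961 L666786 q15206, e3 q12962 L666810 q15209, e3 q12963 (flp_i L379663) q10833, e3 q12964 L666828 q15211, e3 q12965 (flp_i L379679) q10834, e3 q12966 L666860 q15214, e3 q12967 L666877 q15216, e3 q12968 (flp_i L379706) q10835, e3 q12969 L666912 q15219, e3 q12970 L666920 q15220, e3 q12971 (flp_i L379729) q10837, e3 q12972 L666944 q15223, e3 q12973 (flp_i L379744) q10838, e3 q12974 L379758 q10854, e3 q12975 L666971 q15226, e3 q12976 L666994 q15229, e3 q12977 (flp_i L379777) q10841, e3 q12978 L667016 q15232, e3 q12979 L667030 q15234, e3 q12980 (flp_i L379797) q10842, e3 q12981 L667061 q15238, e3 q12982 L667080 q15240, e3 q12983 (flp_i L379821) q10844, e3 q12984 L667115 q15244, e3 q12985 L667130 q15246, e3 q12986 (flp_i L379845) q10846, e3 q12987 L667153 q15249, e3 q12988 (flp_i L379859) q10847, e3 q12989 (flp_i L666895) q15217, e3 q12990 L667183 q15252, e3 q12991 L667206 q15254, trivial⟩ (by decide +kernel)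

theorem ce_i_203 : ∀ r, r < 64 → sm gi (Qf (12992 + r)) = Qf (tab Gen.i (12992 + r)) :=
  edges_tab (sm gi) Qf (tab Gen.i) 12992 [(12992, 10849), (12993, 15257), (12994, 10850), (12995, 15221), (12996, 15261), (12997, 10852), (12998, 15224), (12999, 15263), (13000, 10855), (13001, 15265), (13002, 10857), (13003, 15266), (13004, 10859), (13005, 10861), (13006, 15268), (13007, 10863), (13008, 15271), (13009, 15272), (13010, 10864), (13011, 15276), (13012, 15278), (13013, 10866), (13014, 10867), (13015, 13015), (13016, 15282), (13017, 10869), (13018, 13018), (13019, 15284), (13020, 10871), (13021, 13021), (13022, 10874), (13023, 13023), (13024, 13024), (13025, 10877), (13026, 15291), (13027, 15292), (13028, 10879), (13029, 10880), (13030, 13030), (13031, 15295), (13032, 15296), (13033, 10882), (13034, 15298), (13035, 10883), (13036, 13036), (13037, 13037), (13038, 15301), (13039, 10887), (13040, 13040), (13041, 10890), (13042, 13042), (13043, 13043), (13044, 13044), (13045, 13045), (13046, 13046), (13047, 15306), (13048, 15308),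 (13049, 15310), (13050, 10899), (13051, 10900), (13052, 10904), (13053, 15312), (13054, 10905), (13055, 10907)]
    ⟨e3 q12992 (flp_i L379890) q10849, e3 q12993 L667228 q15257, e3 q12994 (flp_i L379905) q10850, e3 q12995 (flp_i L666932) q15221, e3 q12996 L667255 q15261, e3 q12997 (flp_i L379924) q10852, e3 q12998 (flp_i L666962) q15224, e3 q12999 L667270 q15263, e3 q13000 (flp_i L379949) q10855, e3 q13001 L667290 q15265, e3 q13002 (flp_i L379978) q10857, e3 q13003 L667299 q15266, e3 q13004 (flp_i L380006) q10859, e3 q13005 (flp_i L380034) q10861, e3 q13006 L667315 q15268, e3 q13007 (flp_i L380074) q10863, e3 q13008 L667341 q15271, e3 q13009 L667349 q15272, e3 q13010 (flp_i L380096) q10864, e3 q13011 L667382 q15276, e3 q13012 L667393 q15278, e3 q13013 (flp_i L380119) q10866, e3 q13014 (flp_i L380125) q10867, e3 q13015 L380138 q13015, e3 q13016 L667424 q15282, e3 q13017 (flp_i L380148) q10869, e3 q13018 L380164 q13018, e3 q13019 L667443 q15284, e3 q13020 (flp_i L380173) q10871, e3 q13021 L380189 q13021, e3 q13022 (flp_i L380190)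 q10874, e3 q13023 L380206 q13023, e3 q13024 L380210 q13024, e3 q13025 (flp_i L380226) q10877, e3 q13026 L667496 q15291, e3 q13027 L667506 q15292, e3 q13028 (flp_i L380252) q10879, e3 q13029 (flp_i L380263) q10880, e3 q13030 L380278 q13030, e3 q13031 L667539 q15295, e3 q13032 L667548 q15296, e3 q13033 (flp_i L380293) q10882, e3 q13034 L667562 q15298, e3 q13035 (flp_i L380307) q10883, e3 q13036 L380322 q13036, e3 q13037 L380329 q13037, e3 q13038 L667599 q15301, e3 q13039 (flp_i L380340) q10887, e3 q13040 L380359 q13040, e3 q13041 (flp_i L380360) q10890, e3 q13042 L380377 q13042, e3 q13043 L380383 q13043, e3 q13044 L380393 q13044, e3 q13045 L380399 q13045, e3 q13046 L380408 q13046, e3 q13047 L667657 q15306, e3 q13048 L667686 q15308, e3 q13049 L667710 q15310, e3 q13050 (flp_i L380563) q10899, e3 q13051 (flp_i L380596) q10900, e3 q13052 (flp_i L380697) q10904, e3 q13053 L667725 q15312, e3 q13054 (flp_i L380716) q10905, e3 q13055 (flp_i L380726) q10907, trivial⟩ (by decide +kernel)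

theorem ce_i_204 : ∀ r, r < 64 → sm gi (Qf (13056 + r)) = Qf (tab Gen.i (13056 + r)) :=
  edges_tab (sm gi) Qf (tab Gen.i) 13056 [(13056, 15315), (13057, 10909), (13058, 15316), (13059, 10911), (13060, 15318), (13061, 15319), (13062, 10912), (13063, 10914), (13064, 10915), (13065, 10917), (13066, 10920), (13067, 13067), (13068, 15323), (13069, 10924), (13070, 15325), (13071, 15326), (13072, 15327), (13073, 10927), (13074, 15328), (13075, 10928), (13076, 10930), (13077, 14484), (13078, 15090), (13079, 15331), (13080, 10933), (13081, 10934), (13082, 10935), (13083, 10937), (13084, 13084), (13085, 15335), (13086, 10941), (13087, 13933), (13088, 15082), (13089, 15340), (13090, 10944), (13091, 10945), (13092, 15342), (13093, 10946), (13094, 15346), (13095, 15348), (13096, 10948), (13097, 15351), (13098, 10949), (13099, 15336), (13100, 15354), (13101, 10953), (13102, 11456), (13103, 10955), (13104, 15089), (13105, 15091), (13106, 15355), (13107, 15356), (13108, 10959), (13109, 10961), (13110, 15358), (13111, 10963), (13112, 13112),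 (13113, 15360), (13114, 10965), (13115, 13115), (13116, 15092), (13117, 10970), (13118, 13118), (13119, 15364)]
    ⟨e3 q13056 L667752 q15315, e3 q13057 (flp_i L380770) q10909, e3 q13058 L667758 q15316, e3 q13059 (flp_i L380809) q10911, e3 q13060 L667771 q15318, e3 q13061 L667779 q15319, e3 q13062 (flp_i L380831) q10912, e3 q13063 (flp_i L380847) q10914, e3 q13064 (flp_i L380865) q10915, e3 q13065 (flp_i L380882) q10917, e3 q13066 (flp_i L381003) q10920, e3 q13067 L381019 q13067, e3 q13068 L667812 q15323, e3 q13069 (flp_i L381331) q10924, e3 q13070 L667826 q15325, e3 q13071 L667835 q15326, e3 q13072 L667851 q15327, e3 q13073 (flp_i L381376) q10927, e3 q13074 L667859 q15328, e3 q13075 (flp_i L381402) q10928, e3 q13076 (flp_i L381423) q10930, e3 q13077 (flp_i L659362) q14484, e3 q13078 (flp_i L665593) q15090, e3 q13079 L667885 q15331, e3 q13080 (flp_i L381548) q10933, e3 q13081 (flp_i L381568) q10934, e3 q13082 (flp_i L381588) q10935, e3 q13083 (flp_i L381607) q10937, e3 q13084 L381626 q13084, e3 q13085 L667922 q15335, e3 q13086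 (flp_i L381682) q10941, e3 q13087 (flp_i L653176) q13933, e3 q13088 (flp_i L665510) q15082, e3 q13089 L667955 q15340, e3 q13090 (flp_i L381708) q10944, e3 q13091 (flp_i L381721) q10945, e3 q13092 L667967 q15342, e3 q13093 (flp_i L381743) q10946, e3 q13094 L667993 q15346, e3 q13095 L668009 q15348, e3 q13096 (flp_i L381763) q10948, e3 q13097 L668029 q15351, e3 q13098 (flp_i L381777) q10949, e3 q13099 (flp_i L667933) q15336, e3 q13100 L668055 q15354, e3 q13101 (flp_i L381842) q10953, e3 q13102 (flp_i L649058) q11456, e3 q13103 (flp_i L381871) q10955, e3 q13104 (flp_i L665581) q15089, e3 q13105 (flp_i L665603) q15091, e3 q13106 L668067 q15355, e3 q13107 L668073 q15356, e3 q13108 (flp_i L381935) q10959, e3 q13109 (flp_i L381952) q10961, e3 q13110 L668093 q15358, e3 q13111 (flp_i L381973) q10963, e3 q13112 L381989 q13112, e3 q13113 L668112 q15360, e3 q13114 (flp_i L381999) q10965, e3 q13115 L382017 q13115, e3 q13116 (flp_i L665614) q15092, e3 q13117 (flp_i L382080) q10970, e3 q13118 L382093 q13118, e3 q13119 L668150 q15364, trivial⟩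 (by decide +kernel)

theorem ce_i_205 : ∀ r, r < 64 → sm gi (Qf (13120 + r)) = Qf (tab Gen.i (13120 + r)) :=
  edges_tab (sm gi) Qf (tab Gen.i) 13120 [(13120, 10972), (13121, 15365), (13122, 10974), (13123, 13123), (13124, 10977), (13125, 13125), (13126, 11033), (13127, 11034), (13128, 15370), (13129, 15371), (13130, 10982), (13131, 11038), (13132, 15374), (13133, 15376), (13134, 15378), (13135, 10985), (13136, 15379), (13137, 10986), (13138, 10988), (13139, 11046), (13140, 15381), (13141, 15383), (13142, 10991), (13143, 10992), (13144, 15385), (13145, 10993), (13146, 15388), (13147, 10995), (13148, 13148), (13149, 15391), (13150, 15393), (13151, 10999), (13152, 15395), (13153, 15396), (13154, 11000), (13155, 11065), (13156, 15399), (13157, 15402), (13158, 11003), (13159, 15403), (13160, 11004), (13161, 15405), (13162, 15407), (13163, 11005), (13164, 15411), (13165, 15412), (13166, 11007), (13167, 11008), (13168, 15397), (13169, 11010), (13170, 15415), (13171, 11012), (13172, 11016), (13173, 15417), (13174, 15418), (13175,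 11017), (13176, 11020), (13177, 13177), (13178, 15421), (13179, 11022), (13180, 13180), (13181, 11026), (13182, 13182), (13183, 11029)]
    ⟨e3 q13120 (flp_i L382103) q10972, e3 q13121 L668160 q15365, e3 q13122 (flp_i L382132) q10974, e3 q13123 L382149 q13123, e3 q13124 (flp_i L382150) q10977, e3 q13125 L382167 q13125, e3 q13126 L382203 q11033, e3 q13127 L382338 q11034, e3 q13128 L668215 q15370, e3 q13129 L668230 q15371, e3 q13130 (flp_i L382366) q10982, e3 q13131 L382385 q11038, e3 q13132 L668256 q15374, e3 q13133 L668282 q15376, e3 q13134 L668306 q15378, e3 q13135 (flp_i L382413) q10985, e3 q13136 L668314 q15379, e3 q13137 (flp_i L382437) q10986, e3 q13138 (flp_i L382454) q10988, e3 q13139 L382548 q11046, e3 q13140 L668328 q15381, e3 q13141 L668348 q15383, e3 q13142 (flp_i L382569) q10991, e3 q13143 (flp_i L382589) q10992, e3 q13144 L668364 q15385, e3 q13145 (flp_i L382608) q10993, e3 q13146 L668391 q15388, e3 q13147 (flp_i L382623) q10995, e3 q13148 L382638 q13148, e3 q13149 L668411 q15391, e3 q13150 L668425 q15393, e3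 q13151 (flp_i L382675) q10999, e3 q13152 L668436 q15395, e3 q13153 L668441 q15396, e3 q13154 (flp_i L382695) q11000, e3 q13155 L382705 q11065, e3 q13156 L668461 q15399, e3 q13157 L668483 q15402, e3 q13158 (flp_i L382721) q11003, e3 q13159 L668489 q15403, e3 q13160 (flp_i L382735) q11004, e3 q13161 L668502 q15405, e3 q13162 L668516 q15407, e3 q13163 (flp_i L382757) q11005, e3 q13164 L668543 q15411, e3 q13165 L668549 q15412, e3 q13166 (flp_i L382772) q11007, e3 q13167 (flp_i L382782) q11008, e3 q13168 (flp_i L668453) q15397, e3 q13169 (flp_i L382799) q11010, e3 q13170 L668566 q15415, e3 q13171 (flp_i L382815) q11012, e3 q13172 (flp_i L382900) q11016, e3 q13173 L668581 q15417, e3 q13174 L668587 q15418, e3 q13175 (flp_i L382925) q11017, e3 q13176 (flp_i L382956) q11020, e3 q13177 L382972 q13177, e3 q13178 L668613 q15421, e3 q13179 (flp_i L382979) q11022, e3 q13180 L382991 q13180, e3 q13181 (flp_i L383052) q11026, e3 q13182 L383067 q13182, e3 q13183 (flp_i L383114) q11029, trivial⟩ (by decide +kernel)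

theorem ce_i_206 : ∀ r, r < 64 → sm gi (Qf (13184 + r)) = Qf (tab Gen.i (13184 + r)) :=
  edges_tab (sm gi) Qf (tab Gen.i) 13184 [(13184, 13184), (13185, 13185), (13186, 11032), (13187, 11194), (13188, 15429), (13189, 15431), (13190, 11035), (13191, 15433), (13192, 11036), (13193, 14485), (13194, 15437), (13195, 15440), (13196, 11039), (13197, 15441), (13198, 11040), (13199, 15442), (13200, 11041), (13201, 15445), (13202, 11043), (13203, 15434), (13204, 15448), (13205, 15449), (13206, 11047), (13207, 15450), (13208, 15451), (13209, 11048), (13210, 11050), (13211, 11052), (13212, 13212), (13213, 15455), (13214, 11054), (13215, 13215), (13216, 13934), (13217, 15460), (13218, 11059), (13219, 15462), (13220, 11060), (13221, 15465), (13222, 15467), (13223, 11062), (13224, 15083), (13225, 11063), (13226, 11079), (13227, 15472), (13228, 15475), (13229, 11066), (13230, 15478), (13231, 15480), (13232, 11067), (13233, 15483), (13234, 11069), (13235, 15487), (13236, 15489), (13237, 11071), (13238, 15492), (13239, 11072), (13240, 15463),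 (13241, 15495), (13242, 15497), (13243, 11074), (13244, 15500), (13245, 11075), (13246, 15468), (13247, 15504)]
    ⟨e3 q13184 L383125 q13184, e3 q13185 L383129 q13185, e3 q13186 (flp_i L383175) q11032, e3 q13187 L616065 q11194, e3 q13188 L668667 q15429, e3 q13189 L668683 q15431, e3 q13190 (flp_i L383426) q11035, e3 q13191 L668696 q15433, e3 q13192 (flp_i L383450) q11036, e3 q13193 (flp_i L659376) q14485, e3 q13194 L668727 q15437, e3 q13195 L668753 q15440, e3 q13196 (flp_i L383482) q11039, e3 q13197 L668761 q15441, e3 q13198 (flp_i L383498) q11040, e3 q13199 L668769 q15442, e3 q13200 (flp_i L383524) q11041, e3 q13201 L668791 q15445, e3 q13202 (flp_i L383544) q11043, e3 q13203 (flp_i L668707) q15434, e3 q13204 L668811 q15448, e3 q13205 L668820 q15449, e3 q13206 (flp_i L383711) q11047, e3 q13207 L668831 q15450, e3 q13208 L668839 q15451, e3 q13209 (flp_i L383739) q11048, e3 q13210 (flp_i L383757) q11050, e3 q13211 (flp_i L383776) q11052, e3 q13212 L383795 q13212, e3 q13213 L668879 q15455, e3 q13214 (flp_i L383804) q11054, e3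 q13215 L383819 q13215, e3 q13216 (flp_i L653189) q13934, e3 q13217 L668912 q15460, e3 q13218 (flp_i L383854) q11059, e3 q13219 L668925 q15462, e3 q13220 (flp_i L383887) q11060, e3 q13221 L668944 q15465, e3 q13222 L668955 q15467, e3 q13223 (flp_i L383904) q11062, e3 q13224 (flp_i L665516) q15083, e3 q13225 (flp_i L383915) q11063, e3 q13226 L383923 q11079, e3 q13227 L668983 q15472, e3 q13228 L669005 q15475, e3 q13229 (flp_i L383939) q11066, e3 q13230 L669023 q15478, e3 q13231 L669037 q15480, e3 q13232 (flp_i L383959) q11067, e3 q13233 L669053 q15483, e3 q13234 (flp_i L383977) q11069, e3 q13235 L669079 q15487, e3 q13236 L669093 q15489, e3 q13237 (flp_i L383997) q11071, e3 q13238 L669115 q15492, e3 q13239 (flp_i L384009) q11072, e3 q13240 (flp_i L668936) q15463, e3 q13241 L669133 q15495, e3 q13242 L669145 q15497, e3 q13243 (flp_i L384031) q11074, e3 q13244 L669163 q15500, e3 q13245 (flp_i L384043) q11075, e3 q13246 (flp_i L668965) q15468, e3 q13247 L669185 q15504, trivial⟩ (by decide +kernel)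

theorem ce_i_207 : ∀ r, r < 64 → sm gi (Qf (13248 + r)) = Qf (tab Gen.i (13248 + r)) :=
  edges_tab (sm gi) Qf (tab Gen.i) 13248 [(13248, 11077), (13249, 15470), (13250, 15507), (13251, 11081), (13252, 15508), (13253, 11083), (13254, 11085), (13255, 15510), (13256, 11087), (13257, 15512), (13258, 15513), (13259, 11088), (13260, 15517), (13261, 15519), (13262, 11090), (13263, 11091), (13264, 13264), (13265, 15522), (13266, 11093), (13267, 13267), (13268, 15524), (13269, 11095), (13270, 13270), (13271, 11098), (13272, 13272), (13273, 13273), (13274, 11101), (13275, 15533), (13276, 15534), (13277, 11103), (13278, 11104), (13279, 13279), (13280, 15537), (13281, 15539), (13282, 11106), (13283, 15541), (13284, 11107), (13285, 13285), (13286, 13286), (13287, 15543), (13288, 11111), (13289, 13289), (13290, 11114), (13291, 13291), (13292, 13292), (13293, 13293), (13294, 13294), (13295, 13295), (13296, 11202), (13297, 15554), (13298, 15556), (13299, 11123), (13300, 15557), (13301, 11124), (13302, 11125), (13303, 14696), (13304, 15559),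 (13305, 11130), (13306, 15561), (13307, 11227), (13308, 15564), (13309, 15566), (13310, 11135), (13311, 15568)]
    ⟨e3 q13248 (flp_i L384059) q11077, e3 q13249 (flp_i L668977) q15470, e3 q13250 L669205 q15507, e3 q13251 (flp_i L384107) q11081, e3 q13252 L669215 q15508, e3 q13253 (flp_i L384133) q11083, e3 q13254 (flp_i L384155) q11085, e3 q13255 L669232 q15510, e3 q13256 (flp_i L384194) q11087, e3 q13257 L669249 q15512, e3 q13258 L669257 q15513, e3 q13259 (flp_i L384220) q11088, e3 q13260 L669294 q15517, e3 q13261 L669308 q15519, e3 q13262 (flp_i L384244) q11090, e3 q13263 (flp_i L384250) q11091, e3 q13264 L384266 q13264, e3 q13265 L669332 q15522, e3 q13266 (flp_i L384276) q11093, e3 q13267 L384292 q13267, e3 q13268 L669351 q15524, e3 q13269 (flp_i L384302) q11095, e3 q13270 L384320 q13270, e3 q13271 (flp_i L384321) q11098, e3 q13272 L384337 q13272, e3 q13273 L384340 q13273, e3 q13274 (flp_i L384355) q11101, e3 q13275 L669425 q15533, e3 q13276 L669433 q15534, e3 q13277 (flp_i L384379) q11103, e3 q13278 (flp_i L384388) q11104,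 e3 q13279 L384406 q13279, e3 q13280 L669464 q15537, e3 q13281 L669485 q15539, e3 q13282 (flp_i L384420) q11106, e3 q13283 L669500 q15541, e3 q13284 (flp_i L384433) q11107, e3 q13285 L384449 q13285, e3 q13286 L384457 q13286, e3 q13287 L669527 q15543, e3 q13288 (flp_i L384466) q11111, e3 q13289 L384483 q13289, e3 q13290 (flp_i L384484) q11114, e3 q13291 L384501 q13291, e3 q13292 L384507 q13292, e3 q13293 L384515 q13293, e3 q13294 L384520 q13294, e3 q13295 L384524 q13295, e3 q13296 L384881 q11202, e3 q13297 L669615 q15554, e3 q13298 L669631 q15556, e3 q13299 (flp_i L384900) q11123, e3 q13300 L669639 q15557, e3 q13301 (flp_i L384917) q11124, e3 q13302 (flp_i L384946) q11125, e3 q13303 (flp_i L661446) q14696, e3 q13304 L669656 q15559, e3 q13305 (flp_i L385128) q11130, e3 q13306 L669670 q15561, e3 q13307 L385264 q11227, e3 q13308 L669695 q15564, e3 q13309 L669709 q15566, e3 q13310 (flp_i L385281) q11135, e3 q13311 L669728 q15568, trivial⟩ (by decide +kernel)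

theorem ce_i_208 : ∀ r, r < 64 → sm gi (Qf (13312 + r)) = Qf (tab Gen.i (13312 + r)) :=
  edges_tab (sm gi) Qf (tab Gen.i) 13312 [(13312, 11136), (13313, 15570), (13314, 11137), (13315, 11139), (13316, 11154), (13317, 15574), (13318, 15577), (13319, 11142), (13320, 15580), (13321, 15582), (13322, 11143), (13323, 15586), (13324, 15588), (13325, 11145), (13326, 15591), (13327, 15593), (13328, 11147), (13329, 15595), (13330, 11148), (13331, 15571), (13332, 15597), (13333, 11150), (13334, 11151), (13335, 14658), (13336, 15572), (13337, 15601), (13338, 11155), (13339, 11157), (13340, 15603), (13341, 11159), (13342, 15606), (13343, 15607), (13344, 11160), (13345, 15610), (13346, 15612), (13347, 11162), (13348, 11163), (13349, 15614), (13350, 11165), (13351, 15615), (13352, 11167), (13353, 11169), (13354, 11171), (13355, 15616), (13356, 11173), (13357, 11174), (13358, 11300), (13359, 15617), (13360, 15618), (13361, 11176), (13362, 11177), (13363, 11329), (13364, 11330), (13365, 15620), (13366, 11181), (13367, 11333), (13368, 11184),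 (13369, 11335), (13370, 11336), (13371, 11337), (13372, 11338), (13373, 11339), (13374, 15624), (13375, 15625)]
    ⟨e3 q13312 (flp_i L385296) q11136, e3 q13313 L669743 q15570, e3 q13314 (flp_i L385323) q11137, e3 q13315 (flp_i L385357) q11139, e3 q13316 L385369 q11154, e3 q13317 L669775 q15574, e3 q13318 L669796 q15577, e3 q13319 (flp_i L385384) q11142, e3 q13320 L669814 q15580, e3 q13321 L669828 q15582, e3 q13322 (flp_i L385402) q11143, e3 q13323 L669853 q15586, e3 q13324 L669870 q15588, e3 q13325 (flp_i L385422) q11145, e3 q13326 L669897 q15591, e3 q13327 L669910 q15593, e3 q13328 (flp_i L385442) q11147, e3 q13329 L669925 q15595, e3 q13330 (flp_i L385454) q11148, e3 q13331 (flp_i L669759) q15571, e3 q13332 L669941 q15597, e3 q13333 (flp_i L385479) q11150, e3 q13334 (flp_i L385492) q11151, e3 q13335 (flp_i L661059) q14658, e3 q13336 (flp_i L669768) q15572, e3 q13337 L669971 q15601, e3 q13338 (flp_i L385528) q11155, e3 q13339 (flp_i L385553) q11157, e3 q13340 L669987 q15603, e3 q13341 (flp_i L385636) q11159, e3 q13342 L670015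 q15606, e3 q13343 L670023 q15607, e3 q13344 (flp_i L385662) q11160, e3 q13345 L670059 q15610, e3 q13346 L670070 q15612, e3 q13347 (flp_i L385687) q11162, e3 q13348 (flp_i L385693) q11163, e3 q13349 L670089 q15614, e3 q13350 (flp_i L385720) q11165, e3 q13351 L670099 q15615, e3 q13352 (flp_i L385749) q11167, e3 q13353 (flp_i L385767) q11169, e3 q13354 (flp_i L385807) q11171, e3 q13355 L670110 q15616, e3 q13356 (flp_i L385833) q11173, e3 q13357 (flp_i L385842) q11174, e3 q13358 L645514 q11300, e3 q13359 L670118 q15617, e3 q13360 L670129 q15618, e3 q13361 (flp_i L385875) q11176, e3 q13362 (flp_i L385885) q11177, e3 q13363 L385900 q11329, e3 q13364 L385908 q11330, e3 q13365 L670148 q15620, e3 q13366 (flp_i L385919) q11181, e3 q13367 L385936 q11333, e3 q13368 (flp_i L385938) q11184, e3 q13369 L385953 q11335, e3 q13370 L385960 q11336, e3 q13371 L385971 q11337, e3 q13372 L385978 q11338, e3 q13373 L385986 q11339, e3 q13374 L670191 q15624, e3 q13375 L670197 q15625, trivial⟩ (by decide +kernel)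

theorem ce_i_209 : ∀ r, r < 64 → sm gi (Qf (13376 + r)) = Qf (tab Gen.i (13376 + r)) :=
  edges_tab (sm gi) Qf (tab Gen.i) 13376 [(13376, 11192), (13377, 14498), (13378, 15627), (13379, 14730), (13380, 15629), (13381, 15631), (13382, 11197), (13383, 15632), (13384, 11198), (13385, 11199), (13386, 11212), (13387, 15635), (13388, 15638), (13389, 11203), (13390, 15641), (13391, 15642), (13392, 11204), (13393, 15645), (13394, 11206), (13395, 15648), (13396, 11208), (13397, 15633), (13398, 15650), (13399, 11210), (13400, 14856), (13401, 15653), (13402, 11213), (13403, 15656), (13404, 15657), (13405, 11214), (13406, 15660), (13407, 15662), (13408, 11216), (13409, 11217), (13410, 15664), (13411, 11219), (13412, 15665), (13413, 11221), (13414, 11223), (13415, 14056), (13416, 15666), (13417, 15669), (13418, 11226), (13419, 15671), (13420, 15674), (13421, 11228), (13422, 15677), (13423, 15679), (13424, 11229), (13425, 15683), (13426, 15684), (13427, 11231), (13428, 15688), (13429, 15690), (13430, 11233), (13431, 15693), (13432, 11234),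 (13433, 11256), (13434, 15695), (13435, 15696), (13436, 11236), (13437, 15699), (13438, 11237), (13439, 11262)]
    ⟨e3 q13376 (flp_i L386068) q11192, e3 q13377 (flp_i L659512) q14498, e3 q13378 L670218 q15627, e3 q13379 (flp_i L661847) q14730, e3 q13380 L670238 q15629, e3 q13381 L670254 q15631, e3 q13382 (flp_i L386468) q11197, e3 q13383 L670262 q15632, e3 q13384 (flp_i L386485) q11198, e3 q13385 (flp_i L386516) q11199, e3 q13386 L386573 q11212, e3 q13387 L670286 q15635, e3 q13388 L670311 q15638, e3 q13389 (flp_i L386592) q11203, e3 q13390 L670333 q15641, e3 q13391 L670343 q15642, e3 q13392 (flp_i L386614) q11204, e3 q13393 L670362 q15645, e3 q13394 (flp_i L386640) q11206, e3 q13395 L670388 q15648, e3 q13396 (flp_i L386665) q11208, e3 q13397 (flp_i L670277) q15633, e3 q13398 L670404 q15650, e3 q13399 (flp_i L386711) q11210, e3 q13400 (flp_i L663009) q14856, e3 q13401 L670427 q15653, e3 q13402 (flp_i L386917) q11213, e3 q13403 L670458 q15656, e3 q13404 L670468 q15657, e3 q13405 (flp_i L386946) q11214, e3 q13406 L670499 q15660,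 e3 q13407 L670512 q15662, e3 q13408 (flp_i L386974) q11216, e3 q13409 (flp_i L386982) q11217, e3 q13410 L670534 q15664, e3 q13411 (flp_i L387010) q11219, e3 q13412 L670544 q15665, e3 q13413 (flp_i L387044) q11221, e3 q13414 (flp_i L387065) q11223, e3 q13415 (flp_i L654727) q14056, e3 q13416 L670555 q15666, e3 q13417 L670577 q15669, e3 q13418 (flp_i L387112) q11226, e3 q13419 L670590 q15671, e3 q13420 L670613 q15674, e3 q13421 (flp_i L387135) q11228, e3 q13422 L670635 q15677, e3 q13423 L670649 q15679, e3 q13424 (flp_i L387155) q11229, e3 q13425 L670678 q15683, e3 q13426 L670687 q15684, e3 q13427 (flp_i L387179) q11231, e3 q13428 L670722 q15688, e3 q13429 L670737 q15690, e3 q13430 (flp_i L387203) q11233, e3 q13431 L670762 q15693, e3 q13432 (flp_i L387217) q11234, e3 q13433 L387229 q11256, e3 q13434 L670776 q15695, e3 q13435 L670783 q15696, e3 q13436 (flp_i L387246) q11236, e3 q13437 L670805 q15699, e3 q13438 (flp_i L387261) q11237, e3 q13439 L387274 q11262, trivial⟩ (by decide +kernel)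

theorem ce_i_210 : ∀ r, r < 64 → sm gi (Qf (13440 + r)) = Qf (tab Gen.i (13440 + r)) :=
  edges_tab (sm gi) Qf (tab Gen.i) 13440 [(13440, 15702), (13441, 11239), (13442, 11265), (13443, 15706), (13444, 11242), (13445, 15709), (13446, 15711), (13447, 11243), (13448, 15715), (13449, 15718), (13450, 11245), (13451, 15721), (13452, 11246), (13453, 15680), (13454, 15725), (13455, 15727), (13456, 11248), (13457, 15730), (13458, 11249), (13459, 15685), (13460, 15733), (13461, 15735), (13462, 11251), (13463, 15738), (13464, 11252), (13465, 15691), (13466, 15742), (13467, 11254), (13468, 15694), (13469, 15744), (13470, 11257), (13471, 15747), (13472, 11258), (13473, 15697), (13474, 15751), (13475, 11260), (13476, 15700), (13477, 14776), (13478, 15755), (13479, 11263), (13480, 15703), (13481, 15758), (13482, 11266), (13483, 15759), (13484, 11268), (13485, 11270), (13486, 15760), (13487, 11273), (13488, 15761), (13489, 15763), (13490, 11275), (13491, 11276), (13492, 11298), (13493, 15765), (13494, 15764), (13495, 11278), (13496, 15768),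 (13497, 11279), (13498, 11379), (13499, 11293), (13500, 15770), (13501, 11283), (13502, 11381), (13503, 11286)]
    ⟨e3 q13440 L670829 q15702, e3 q13441 (flp_i L387282) q11239, e3 q13442 L387294 q11265, e3 q13443 L670853 q15706, e3 q13444 (flp_i L387301) q11242, e3 q13445 L670874 q15709, e3 q13446 L670890 q15711, e3 q13447 (flp_i L387320) q11243, e3 q13448 L670912 q15715, e3 q13449 L670930 q15718, e3 q13450 (flp_i L387338) q11245, e3 q13451 L670946 q15721, e3 q13452 (flp_i L387350) q11246, e3 q13453 (flp_i L670657) q15680, e3 q13454 L670972 q15725, e3 q13455 L670989 q15727, e3 q13456 (flp_i L387374) q11248, e3 q13457 L671012 q15730, e3 q13458 (flp_i L387389) q11249, e3 q13459 (flp_i L670703) q15685, e3 q13460 L671035 q15733, e3 q13461 L671049 q15735, e3 q13462 (flp_i L387417) q11251, e3 q13463 L671073 q15738, e3 q13464 (flp_i L387431) q11252, e3 q13465 (flp_i L670752) q15691, e3 q13466 L671101 q15742, e3 q13467 (flp_i L387453) q11254, e3 q13468 (flp_i L670774) q15694, e3 q13469 L671113 q15744, e3 q13470 (flp_i L387472) q11257,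 e3 q13471 L671133 q15747, e3 q13472 (flp_i L387486) q11258, e3 q13473 (flp_i L670796) q15697, e3 q13474 L671163 q15751, e3 q13475 (flp_i L387506) q11260, e3 q13476 (flp_i L670820) q15700, e3 q13477 (flp_i L662314) q14776, e3 q13478 L671188 q15755, e3 q13479 (flp_i L387532) q11263, e3 q13480 (flp_i L670840) q15703, e3 q13481 L671208 q15758, e3 q13482 (flp_i L387555) q11266, e3 q13483 L671215 q15759, e3 q13484 (flp_i L387582) q11268, e3 q13485 (flp_i L387604) q11270, e3 q13486 L671223 q15760, e3 q13487 (flp_i L387688) q11273, e3 q13488 L671230 q15761, e3 q13489 L671252 q15763, e3 q13490 (flp_i L387717) q11275, e3 q13491 (flp_i L387725) q11276, e3 q13492 L629202 q11298, e3 q13493 L671280 q15765, e3 q13494 (flp_i L671278) q15764, e3 q13495 (flp_i L387763) q11278, e3 q13496 L671302 q15768, e3 q13497 (flp_i L387775) q11279, e3 q13498 L387789 q11379, e3 q13499 L646929 q11293, e3 q13500 L671314 q15770, e3 q13501 (flp_i L387812) q11283, e3 q13502 L387832 q11381, e3 q13503 (flp_i L387834) q11286, trivial⟩ (by decide +kernel)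

theorem ce_i_211 : ∀ r, r < 64 → sm gi (Qf (13504 + r)) = Qf (tab Gen.i (13504 + r)) :=
  edges_tab (sm gi) Qf (tab Gen.i) 13504 [(13504, 11383), (13505, 11384), (13506, 11385), (13507, 11386), (13508, 11387), (13509, 11297), (13510, 11301), (13511, 11388), (13512, 11389), (13513, 11326), (13514, 15776), (13515, 15777), (13516, 11310), (13517, 15778), (13518, 11312), (13519, 14749), (13520, 11325), (13521, 14731), (13522, 14747), (13523, 14057), (13524, 15619), (13525, 11331), (13526, 15621), (13527, 15622), (13528, 15623), (13529, 15781), (13530, 11340), (13531, 11341), (13532, 14952), (13533, 14953), (13534, 11377), (13535, 14954), (13536, 14955), (13537, 14956), (13538, 11579), (13539, 15785), (13540, 11351), (13541, 15788), (13542, 15789), (13543, 11352), (13544, 15792), (13545, 11354), (13546, 15795), (13547, 15796), (13548, 11355), (13549, 15799), (13550, 15801), (13551, 11357), (13552, 11358), (13553, 15803), (13554, 11360), (13555, 15804), (13556, 11362), (13557, 11364), (13558, 14928), (13559, 11378), (13560, 14930),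 (13561, 14931), (13562, 14932), (13563, 14933), (13564, 11581), (13565, 15806), (13566, 15769), (13567, 15771)]
    ⟨e3 q13504 L387854 q11383, e3 q13505 L387860 q11384, e3 q13506 L387871 q11385, e3 q13507 L387878 q11386, e3 q13508 L387883 q11387, e3 q13509 (flp_i L388010) q11297, e3 q13510 (flp_i L388078) q11301, e3 q13511 L388116 q11388, e3 q13512 L388124 q11389, e3 q13513 L615784 q11326, e3 q13514 L671379 q15776, e3 q13515 L671390 q15777, e3 q13516 (flp_i L389196) q11310, e3 q13517 L671397 q15778, e3 q13518 (flp_i L389220) q11312, e3 q13519 (flp_i L662037) q14749, e3 q13520 L615871 q11325, e3 q13521 (flp_i L661866) q14731, e3 q13522 (flp_i L662010) q14747, e3 q13523 (flp_i L654744) q14057, e3 q13524 (flp_i L670146) q15619, e3 q13525 (flp_i L390065) q11331, e3 q13526 (flp_i L670165) q15621, e3 q13527 (flp_i L670177) q15622, e3 q13528 (flp_i L670187) q15623, e3 q13529 L671423 q15781, e3 q13530 (flp_i L390470) q11340, e3 q13531 (flp_i L390495) q11341, e3 q13532 (flp_i L664055) q14952, e3 q13533 (flp_i L664069) q14953, e3 q13534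 L646444 q11377, e3 q13535 (flp_i L664085) q14954, e3 q13536 (flp_i L664102) q14955, e3 q13537 (flp_i L664116) q14956, e3 q13538 L648499 q11579, e3 q13539 L671454 q15785, e3 q13540 (flp_i L390984) q11351, e3 q13541 L671475 q15788, e3 q13542 L671481 q15789, e3 q13543 (flp_i L391005) q11352, e3 q13544 L671502 q15792, e3 q13545 (flp_i L391020) q11354, e3 q13546 L671528 q15795, e3 q13547 L671536 q15796, e3 q13548 (flp_i L391042) q11355, e3 q13549 L671559 q15799, e3 q13550 L671569 q15801, e3 q13551 (flp_i L391065) q11357, e3 q13552 (flp_i L391071) q11358, e3 q13553 L671585 q15803, e3 q13554 (flp_i L391093) q11360, e3 q13555 L671596 q15804, e3 q13556 (flp_i L391118) q11362, e3 q13557 (flp_i L391135) q11364, e3 q13558 (flp_i L663756) q14928, e3 q13559 L646308 q11378, e3 q13560 (flp_i L663786) q14930, e3 q13561 (flp_i L663802) q14931, e3 q13562 (flp_i L663815) q14932, e3 q13563 (flp_i L663831) q14933, e3 q13564 L648503 q11581, e3 q13565 L671610 q15806, e3 q13566 (flp_i L671312) q15769, e3 q13567 (flp_i L671334) q15771, trivial⟩ (by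 decide +kernel)

theorem ce_i_212 : ∀ r, r < 64 → sm gi (Qf (13568 + r)) = Qf (tab Gen.i (13568 + r)) :=
  edges_tab (sm gi) Qf (tab Gen.i) 13568 [(13568, 15772), (13569, 15773), (13570, 15774), (13571, 13571), (13572, 13572), (13573, 15811), (13574, 11393), (13575, 15812), (13576, 11394), (13577, 11396), (13578, 11401), (13579, 11459), (13580, 11404), (13581, 13581), (13582, 13582), (13583, 11407), (13584, 13584), (13585, 11410), (13586, 13586), (13587, 13587), (13588, 11413), (13589, 11414), (13590, 13590), (13591, 11416), (13592, 11417), (13593, 13593), (13594, 13594), (13595, 11421), (13596, 13596), (13597, 11424), (13598, 13598), (13599, 13599), (13600, 13600), (13601, 13601), (13602, 13602), (13603, 13861), (13604, 11432), (13605, 13605), (13606, 13606), (13607, 13607), (13608, 11437), (13609, 13609), (13610, 13610), (13611, 14311), (13612, 11440), (13613, 13851), (13614, 13880), (13615, 11441), (13616, 13852), (13617, 15838), (13618, 11445), (13619, 15840), (13620, 11446), (13621, 15841), (13622, 11448), (13623, 11464),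 (13624, 15844), (13625, 11451), (13626, 15846), (13627, 11452), (13628, 15003), (13629, 15849), (13630, 11454), (13631, 15353)]
    ⟨e3 q13568 (flp_i L671348) q15772, e3 q13569 (flp_i L671358) q15773, e3 q13570 (flp_i L671364) q15774, e3 q13571 L649415 q13571, e3 q13572 L649425 q13572, e3 q13573 L671639 q15811, e3 q13574 (flp_i L649433) q11393, e3 q13575 L671648 q15812, e3 q13576 (flp_i L649450) q11394, e3 q13577 (flp_i L649458) q11396, e3 q13578 L649477 q11401, e3 q13579 L649486 q11459, e3 q13580 (flp_i L649490) q11404, e3 q13581 L649506 q13581, e3 q13582 L649516 q13582, e3 q13583 (flp_i L649517) q11407, e3 q13584 L649531 q13584, e3 q13585 (flp_i L649532) q11410, e3 q13586 L649550 q13586, e3 q13587 L649556 q13587, e3 q13588 (flp_i L649558) q11413, e3 q13589 (flp_i L649568) q11414, e3 q13590 L649584 q13590, e3 q13591 (flp_i L649585) q11416, e3 q13592 (flp_i L649593) q11417, e3 q13593 L649609 q13593, e3 q13594 L649616 q13594, e3 q13595 (flp_i L649617) q11421, e3 q13596 L649635 q13596, e3 q13597 (flp_i L649636) q11424, e3 q13598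 L649650 q13598, e3 q13599 L649656 q13599, e3 q13600 L649667 q13600, e3 q13601 L649675 q13601, e3 q13602 L649684 q13602, e3 q13603 (flp_i L652171) q13861, e3 q13604 (flp_i L649692) q11432, e3 q13605 L649711 q13605, e3 q13606 L649720 q13606, e3 q13607 L649729 q13607, e3 q13608 (flp_i L649730) q11437, e3 q13609 L649744 q13609, e3 q13610 L649750 q13610, e3 q13611 (flp_i L657615) q14311, e3 q13612 (flp_i L649759) q11440, e3 q13613 (flp_i L652005) q13851, e3 q13614 (flp_i L652464) q13880, e3 q13615 (flp_i L649782) q11441, e3 q13616 (flp_i L652025) q13852, e3 q13617 L671869 q15838, e3 q13618 (flp_i L649807) q11445, e3 q13619 L671884 q15840, e3 q13620 (flp_i L649820) q11446, e3 q13621 L671890 q15841, e3 q13622 (flp_i L649835) q11448, e3 q13623 L649851 q11464, e3 q13624 L671916 q15844, e3 q13625 (flp_i L649858) q11451, e3 q13626 L671929 q15846, e3 q13627 (flp_i L649872) q11452, e3 q13628 L664691 q15003, e3 q13629 L671951 q15849, e3 q13630 (flp_i L649890) q11454, e3 q13631 L668053 q15353, trivial⟩ (by decide +kernel)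

theorem ce_i_213 : ∀ r, r < 64 → sm gi (Qf (13632 + r)) = Qf (tab Gen.i (13632 + r)) :=
  edges_tab (sm gi) Qf (tab Gen.i) 13632 [(13632, 14338), (13633, 15037), (13634, 11457), (13635, 14980), (13636, 11460), (13637, 15842), (13638, 11462), (13639, 13639), (13640, 15854), (13641, 11467), (13642, 15857), (13643, 11468), (13644, 13644), (13645, 13645), (13646, 11472), (13647, 13647), (13648, 11475), (13649, 13649), (13650, 13650), (13651, 13651), (13652, 13652), (13653, 13653), (13654, 11481), (13655, 13655), (13656, 15869), (13657, 11484), (13658, 11485), (13659, 13659), (13660, 13660), (13661, 13661), (13662, 11490), (13663, 13663), (13664, 13664), (13665, 13665), (13666, 13666), (13667, 13667), (13668, 13668), (13669, 13669), (13670, 13670), (13671, 13671), (13672, 15887), (13673, 11499), (13674, 13674), (13675, 15890), (13676, 11501), (13677, 13677), (13678, 15892), (13679, 11503), (13680, 13680), (13681, 11506), (13682, 13682), (13683, 13683), (13684, 15898), (13685, 11509), (13686, 15899), (13687, 15901), (13688, 11511),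 (13689, 15904), (13690, 11512), (13691, 11571), (13692, 15902), (13693, 11516), (13694, 11566), (13695, 11519)]
    ⟨e3 q13632 L657857 q14338, e3 q13633 (flp_i L665092) q15037, e3 q13634 (flp_i L649915) q11457, e3 q13635 (flp_i L664409) q14980, e3 q13636 (flp_i L649929) q11460, e3 q13637 (flp_i L671908) q15842, e3 q13638 (flp_i L649947) q11462, e3 q13639 L649965 q13639, e3 q13640 L671977 q15854, e3 q13641 (flp_i L649974) q11467, e3 q13642 L672002 q15857, e3 q13643 (flp_i L649988) q11468, e3 q13644 L650002 q13644, e3 q13645 L650010 q13645, e3 q13646 (flp_i L650011) q11472, e3 q13647 L650025 q13647, e3 q13648 (flp_i L650026) q11475, e3 q13649 L650042 q13649, e3 q13650 L650047 q13650, e3 q13651 L650056 q13651, e3 q13652 L650062 q13652, e3 q13653 L650066 q13653, e3 q13654 (flp_i L650067) q11481, e3 q13655 L650085 q13655, e3 q13656 L672090 q15869, e3 q13657 (flp_i L650093) q11484, e3 q13658 (flp_i L650102) q11485, e3 q13659 L650116 q13659, e3 q13660 L650125 q13660, e3 q13661 L650132 q13661, e3 q13662 (flp_i L650135) q11490, e3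 q13663 L650149 q13663, e3 q13664 L650155 q13664, e3 q13665 L650165 q13665, e3 q13666 L650172 q13666, e3 q13667 L650181 q13667, e3 q13668 L650188 q13668, e3 q13669 L650194 q13669, e3 q13670 L650201 q13670, e3 q13671 L650207 q13671, e3 q13672 L672233 q15887, e3 q13673 (flp_i L650217) q11499, e3 q13674 L650236 q13674, e3 q13675 L672264 q15890, e3 q13676 (flp_i L650245) q11501, e3 q13677 L650264 q13677, e3 q13678 L672283 q15892, e3 q13679 (flp_i L650274) q11503, e3 q13680 L650290 q13680, e3 q13681 (flp_i L650291) q11506, e3 q13682 L650307 q13682, e3 q13683 L650314 q13683, e3 q13684 L672337 q15898, e3 q13685 (flp_i L650331) q11509, e3 q13686 L672352 q15899, e3 q13687 L672371 q15901, e3 q13688 (flp_i L650365) q11511, e3 q13689 L672400 q15904, e3 q13690 (flp_i L650378) q11512, e3 q13691 L650398 q11571, e3 q13692 (flp_i L672391) q15902, e3 q13693 (flp_i L650412) q11516, e3 q13694 L650431 q11566, e3 q13695 (flp_i L650433) q11519, trivial⟩ (by decide +kernel)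

theorem ce_i_214 : ∀ r, r < 64 → sm gi (Qf (13696 + r)) = Qf (tab Gen.i (13696 + r)) :=
  edges_tab (sm gi) Qf (tab Gen.i) 13696 [(13696, 11582), (13697, 11583), (13698, 11584), (13699, 11585), (13700, 11586), (13701, 11525), (13702, 13702), (13703, 15906), (13704, 15912), (13705, 11527), (13706, 15916), (13707, 15918), (13708, 11528), (13709, 13709), (13710, 15921), (13711, 11530), (13712, 13712), (13713, 15905), (13714, 15926), (13715, 11533), (13716, 15927), (13717, 11534), (13718, 13718), (13719, 11536), (13720, 13720), (13721, 15931), (13722, 11539), (13723, 15934), (13724, 11540), (13725, 13725), (13726, 15937), (13727, 11542), (13728, 13728), (13729, 13729), (13730, 15941), (13731, 11545), (13732, 13732), (13733, 15944), (13734, 11548), (13735, 13735), (13736, 15947), (13737, 11550), (13738, 13738), (13739, 13739), (13740, 15950), (13741, 11553), (13742, 13742), (13743, 13743), (13744, 13744), (13745, 11557), (13746, 13746), (13747, 15954), (13748, 11560), (13749, 11562), (13750, 15955), (13751, 11568), (13752, 11588),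 (13753, 15958), (13754, 15907), (13755, 15908), (13756, 11587), (13757, 15957), (13758, 13935), (13759, 11595)]
    ⟨e3 q13696 L650449 q11582, e3 q13697 L650457 q11583, e3 q13698 L650469 q11584, e3 q13699 L650477 q11585, e3 q13700 L650485 q11586, e3 q13701 (flp_i L650487) q11525, e3 q13702 L650509 q13702, e3 q13703 (flp_i L672428) q15906, e3 q13704 L672482 q15912, e3 q13705 (flp_i L650530) q11527, e3 q13706 L672515 q15916, e3 q13707 L672530 q15918, e3 q13708 (flp_i L650554) q11528, e3 q13709 L650568 q13709, e3 q13710 L672559 q15921, e3 q13711 (flp_i L650576) q11530, e3 q13712 L650589 q13712, e3 q13713 (flp_i L672416) q15905, e3 q13714 L672604 q15926, e3 q13715 (flp_i L650610) q11533, e3 q13716 L672614 q15927, e3 q13717 (flp_i L650629) q11534, e3 q13718 L650645 q13718, e3 q13719 (flp_i L650646) q11536, e3 q13720 L650663 q13720, e3 q13721 L672646 q15931, e3 q13722 (flp_i L650672) q11539, e3 q13723 L672671 q15934, e3 q13724 (flp_i L650687) q11540, e3 q13725 L650703 q13725, e3 q13726 L672695 q15937, e3 q13727 (flp_i L650711) q11542,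 e3 q13728 L650725 q13728, e3 q13729 L650730 q13729, e3 q13730 L672723 q15941, e3 q13731 (flp_i L650742) q11545, e3 q13732 L650756 q13732, e3 q13733 L672751 q15944, e3 q13734 (flp_i L650765) q11548, e3 q13735 L650780 q13735, e3 q13736 L672779 q15947, e3 q13737 (flp_i L650788) q11550, e3 q13738 L650805 q13738, e3 q13739 L650812 q13739, e3 q13740 L672803 q15950, e3 q13741 (flp_i L650822) q11553, e3 q13742 L650837 q13742, e3 q13743 L650841 q13743, e3 q13744 L650848 q13744, e3 q13745 (flp_i L650849) q11557, e3 q13746 L650864 q13746, e3 q13747 L672831 q15954, e3 q13748 (flp_i L650873) q11560, e3 q13749 (flp_i L650879) q11562, e3 q13750 L672839 q15955, e3 q13751 (flp_i L650891) q11568, e3 q13752 L650901 q11588, e3 q13753 L672852 q15958, e3 q13754 (flp_i L672437) q15907, e3 q13755 (flp_i L672446) q15908, e3 q13756 (flp_i L650925) q11587, e3 q13757 (flp_i L672850) q15957, e3 q13758 (flp_i L653204) q13935, e3 q13759 (flp_i L650941) q11595, trivial⟩ (by decide +kernel)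

theorem ce_i_215 : ∀ r, r < 64 → sm gi (Qf (13760 + r)) = Qf (tab Gen.i (13760 + r)) :=
  edges_tab (sm gi) Qf (tab Gen.i) 13760 [(13760, 11596), (13761, 11598), (13762, 11600), (13763, 11603), (13764, 11606), (13765, 14061), (13766, 15081), (13767, 13945), (13768, 13946), (13769, 11624), (13770, 11625), (13771, 15960), (13772, 11627), (13773, 11630), (13774, 15962), (13775, 11633), (13776, 15964), (13777, 11636), (13778, 15967), (13779, 11638), (13780, 15968), (13781, 11640), (13782, 14077), (13783, 14085), (13784, 15969), (13785, 11646), (13786, 11649), (13787, 11650), (13788, 15971), (13789, 11660), (13790, 15973), (13791, 11663), (13792, 15975), (13793, 11665), (13794, 13794), (13795, 13853), (13796, 11670), (13797, 13958), (13798, 15978), (13799, 11678), (13800, 13800), (13801, 15981), (13802, 11680), (13803, 13803), (13804, 15984), (13805, 11682), (13806, 13806), (13807, 15987), (13808, 11684), (13809, 13809), (13810, 11688), (13811, 11689), (13812, 13812), (13813, 13813), (13814, 15993), (13815, 11692), (13816, 13816),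 (13817, 13817), (13818, 15997), (13819, 11696), (13820, 13820), (13821, 16000), (13822, 11698), (13823, 13823)]
    ⟨e3 q13760 (flp_i L650957) q11596, e3 q13761 (flp_i L650973) q11598, e3 q13762 (flp_i L650991) q11600, e3 q13763 (flp_i L651009) q11603, e3 q13764 (flp_i L651019) q11606, e3 q13765 (flp_i L654796) q14061, e3 q13766 (flp_i L665497) q15081, e3 q13767 (flp_i L653355) q13945, e3 q13768 (flp_i L653369) q13946, e3 q13769 (flp_i L651056) q11624, e3 q13770 (flp_i L651073) q11625, e3 q13771 L672865 q15960, e3 q13772 (flp_i L651093) q11627, e3 q13773 (flp_i L651102) q11630, e3 q13774 L672877 q15962, e3 q13775 (flp_i L651125) q11633, e3 q13776 L672889 q15964, e3 q13777 (flp_i L651139) q11636, e3 q13778 L672906 q15967, e3 q13779 (flp_i L651151) q11638, e3 q13780 L672913 q15968, e3 q13781 (flp_i L651163) q11640, e3 q13782 (flp_i L655001) q14077, e3 q13783 (flp_i L655082) q14085, e3 q13784 L672920 q15969, e3 q13785 (flp_i L651189) q11646, e3 q13786 (flp_i L651198) q11649, e3 q13787 (flp_i L651207) q11650, e3 q13788 L672934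 q15971, e3 q13789 (flp_i L651220) q11660, e3 q13790 L672949 q15973, e3 q13791 (flp_i L651234) q11663, e3 q13792 L672963 q15975, e3 q13793 (flp_i L651248) q11665, e3 q13794 L651259 q13794, e3 q13795 (flp_i L652043) q13853, e3 q13796 (flp_i L651268) q11670, e3 q13797 (flp_i L653524) q13958, e3 q13798 L672991 q15978, e3 q13799 (flp_i L651298) q11678, e3 q13800 L651324 q13800, e3 q13801 L673034 q15981, e3 q13802 (flp_i L651339) q11680, e3 q13803 L651369 q13803, e3 q13804 L673086 q15984, e3 q13805 (flp_i L651384) q11682, e3 q13806 L651413 q13806, e3 q13807 L673136 q15987, e3 q13808 (flp_i L651423) q11684, e3 q13809 L651440 q13809, e3 q13810 (flp_i L651441) q11688, e3 q13811 (flp_i L651456) q11689, e3 q13812 L651482 q13812, e3 q13813 L651499 q13813, e3 q13814 L673219 q15993, e3 q13815 (flp_i L651512) q11692, e3 q13816 L651535 q13816, e3 q13817 L651550 q13817, e3 q13818 L673274 q15997, e3 q13819 (flp_i L651565) q11696, e3 q13820 L651594 q13820, e3 q13821 L673318 q16000, e3 q13822 (flp_i L651607) q11698, e3 q13823 L651633 q13823,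 trivial⟩ (by decide +kernel)

theorem ce_i_216 : ∀ r, r < 64 → sm gi (Qf (13824 + r)) = Qf (tab Gen.i (13824 + r)) :=
  edges_tab (sm gi) Qf (tab Gen.i) 13824 [(13824, 16002), (13825, 11701), (13826, 13826), (13827, 13827), (13828, 16006), (13829, 11704), (13830, 13830), (13831, 11706), (13832, 13832), (13833, 16010), (13834, 11709), (13835, 13835), (13836, 16013), (13837, 11711), (13838, 13838), (13839, 16015), (13840, 11713), (13841, 13841), (13842, 11716), (13843, 13843), (13844, 13844), (13845, 11734), (13846, 12811), (13847, 11735), (13848, 11737), (13849, 12734), (13850, 12736), (13851, 13613), (13852, 13616), (13853, 13795), (13854, 11771), (13855, 16022), (13856, 11773), (13857, 11774), (13858, 16025), (13859, 16028), (13860, 11741), (13861, 13603), (13862, 16031), (13863, 11743), (13864, 16032), (13865, 11744), (13866, 13866), (13867, 12789), (13868, 11749), (13869, 16034), (13870, 11750), (13871, 12135), (13872, 16036), (13873, 11760), (13874, 11761), (13875, 16038), (13876, 11765), (13877, 16040), (13878, 11767),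 (13879, 13879), (13880, 13614), (13881, 16044), (13882, 16046), (13883, 11772), (13884, 16047), (13885, 11775), (13886, 16048), (13887, 16050)]
    ⟨e3 q13824 L673346 q16002, e3 q13825 (flp_i L651642) q11701, e3 q13826 L651658 q13826, e3 q13827 L651663 q13827, e3 q13828 L673381 q16006, e3 q13829 (flp_i L651683) q11704, e3 q13830 L651714 q13830, e3 q13831 (flp_i L651715) q11706, e3 q13832 L651741 q13832, e3 q13833 L673445 q16010, e3 q13834 (flp_i L651755) q11709, e3 q13835 L651781 q13835, e3 q13836 L673488 q16013, e3 q13837 (flp_i L651795) q11711, e3 q13838 L651821 q13838, e3 q13839 L673515 q16015, e3 q13840 (flp_i L651833) q11713, e3 q13841 L651851 q13841, e3 q13842 (flp_i L651852) q11716, e3 q13843 L651872 q13843, e3 q13844 L651878 q13844, e3 q13845 L651891 q11734, e3 q13846 L651915 q12811, e3 q13847 L651930 q11735, e3 q13848 L651948 q11737, e3 q13849 L651969 q12734, e3 q13850 L651985 q12736, e3 q13851 L652005 q13613, e3 q13852 L652025 q13616, e3 q13853 L652043 q13795, e3 q13854 L652058 q11771, e3 q13855 L673597 q16022, e3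 q13856 L652091 q11773, e3 q13857 L652114 q11774, e3 q13858 L673650 q16025, e3 q13859 L673696 q16028, e3 q13860 (flp_i L652142) q11741, e3 q13861 L652171 q13603, e3 q13862 L673739 q16031, e3 q13863 (flp_i L652184) q11743, e3 q13864 L673755 q16032, e3 q13865 (flp_i L652211) q11744, e3 q13866 L652238 q13866, e3 q13867 L652255 q12789, e3 q13868 (flp_i L652257) q11749, e3 q13869 L673784 q16034, e3 q13870 (flp_i L652290) q11750, e3 q13871 L652318 q12135, e3 q13872 L673819 q16036, e3 q13873 (flp_i L652341) q11760, e3 q13874 (flp_i L652358) q11761, e3 q13875 L673854 q16038, e3 q13876 (flp_i L652391) q11765, e3 q13877 L673886 q16040, e3 q13878 (flp_i L652422) q11767, e3 q13879 L652450 q13879, e3 q13880 L652464 q13614, e3 q13881 L673955 q16044, e3 q13882 L673989 q16046, e3 q13883 (flp_i L652495) q11772, e3 q13884 L674003 q16047, e3 q13885 (flp_i L652522) q11775, e3 q13886 L674019 q16048, e3 q13887 L674053 q16050, trivial⟩ (by decide +kernel)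

theorem ce_i_217 : ∀ r, r < 64 → sm gi (Qf (13888 + r)) = Qf (tab Gen.i (13888 + r)) :=
  edges_tab (sm gi) Qf (tab Gen.i) 13888 [(13888, 11776), (13889, 16053), (13890, 11779), (13891, 13891), (13892, 16056), (13893, 11781), (13894, 13894), (13895, 11785), (13896, 11844), (13897, 11845), (13898, 16061), (13899, 16064), (13900, 11788), (13901, 11849), (13902, 16068), (13903, 16070), (13904, 16073), (13905, 11791), (13906, 16076), (13907, 16077), (13908, 11792), (13909, 16080), (13910, 11794), (13911, 16082), (13912, 11795), (13913, 11797), (13914, 13914), (13915, 11866), (13916, 16085), (13917, 16087), (13918, 11801), (13919, 12848), (13920, 11802), (13921, 16089), (13922, 11803), (13923, 16091), (13924, 11805), (13925, 12769), (13926, 11809), (13927, 11810), (13928, 16094), (13929, 11814), (13930, 16095), (13931, 11816), (13932, 12100), (13933, 13087), (13934, 13216), (13935, 13758), (13936, 16101), (13937, 16103), (13938, 11821), (13939, 11823), (13940, 16104), (13941, 11824), (13942, 11826), (13943, 13943), (13944, 12817),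 (13945, 13767), (13946, 13768), (13947, 16108), (13948, 16109), (13949, 11831), (13950, 16111), (13951, 11832)]
    ⟨e3 q13888 (flp_i L652568) q11776, e3 q13889 L674092 q16053, e3 q13890 (flp_i L652591) q11779, e3 q13891 L652619 q13891, e3 q13892 L674139 q16056, e3 q13893 (flp_i L652628) q11781, e3 q13894 L652647 q13894, e3 q13895 (flp_i L652648) q11785, e3 q13896 L652676 q11844, e3 q13897 L652693 q11845, e3 q13898 L674215 q16061, e3 q13899 L674257 q16064, e3 q13900 (flp_i L652722) q11788, e3 q13901 L652747 q11849, e3 q13902 L674315 q16068, e3 q13903 L674345 q16070, e3 q13904 L674383 q16073, e3 q13905 (flp_i L652783) q11791, e3 q13906 L674412 q16076, e3 q13907 L674422 q16077, e3 q13908 (flp_i L652815) q11792, e3 q13909 L674456 q16080, e3 q13910 (flp_i L652837) q11794, e3 q13911 L674485 q16082, e3 q13912 (flp_i L652863) q11795, e3 q13913 (flp_i L652876) q11797, e3 q13914 L652898 q13914, e3 q13915 L652909 q11866, e3 q13916 L674524 q16085, e3 q13917 L674558 q16087, e3 q13918 (flp_i L652949) q11801, e3 q13919 (flp_i L652980) q12848,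 e3 q13920 (flp_i L652982) q11802, e3 q13921 L674589 q16089, e3 q13922 (flp_i L653009) q11803, e3 q13923 L674615 q16091, e3 q13924 (flp_i L653035) q11805, e3 q13925 L653059 q12769, e3 q13926 (flp_i L653061) q11809, e3 q13927 (flp_i L653078) q11810, e3 q13928 L674657 q16094, e3 q13929 (flp_i L653108) q11814, e3 q13930 L674672 q16095, e3 q13931 (flp_i L653136) q11816, e3 q13932 L653159 q12100, e3 q13933 L653176 q13087, e3 q13934 L653189 q13216, e3 q13935 L653204 q13758, e3 q13936 L674768 q16101, e3 q13937 L674801 q16103, e3 q13938 (flp_i L653235) q11821, e3 q13939 (flp_i L653248) q11823, e3 q13940 L674813 q16104, e3 q13941 (flp_i L653280) q11824, e3 q13942 (flp_i L653296) q11826, e3 q13943 L653325 q13943, e3 q13944 L653338 q12817, e3 q13945 L653355 q13767, e3 q13946 L653369 q13768, e3 q13947 L674877 q16108, e3 q13948 L674893 q16109, e3 q13949 (flp_i L653401) q11831, e3 q13950 L674923 q16111, e3 q13951 (flp_i L653429) q11832, trivial⟩ (by decide +kernel)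

theorem ce_i_218 : ∀ r, r < 64 → sm gi (Qf (13952 + r)) = Qf (tab Gen.i (13952 + r)) :=
  edges_tab (sm gi) Qf (tab Gen.i) 13952 [(13952, 16114), (13953, 11835), (13954, 13954), (13955, 16117), (13956, 11837), (13957, 13957), (13958, 13797), (13959, 11841), (13960, 12730), (13961, 16058), (13962, 16121), (13963, 16123), (13964, 16125), (13965, 11846), (13966, 16127), (13967, 11847), (13968, 16065), (13969, 16130), (13970, 16133), (13971, 11850), (13972, 16134), (13973, 11851), (13974, 16135), (13975, 16137), (13976, 11852), (13977, 16139), (13978, 16141), (13979, 11854), (13980, 16144), (13981, 11855), (13982, 16128), (13983, 16147), (13984, 11858), (13985, 13985), (13986, 16150), (13987, 11860), (13988, 13988), (13989, 16153), (13990, 11863), (13991, 13991), (13992, 11867), (13993, 16155), (13994, 11868), (13995, 11871), (13996, 11873), (13997, 11878), (13998, 11970), (13999, 11971), (14000, 16161), (14001, 16163), (14002, 16166), (14003, 11882), (14004, 16167), (14005, 16168), (14006, 11883), (14007, 11979), (14008, 16172),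 (14009, 16175), (14010, 11886), (14011, 16178), (14012, 11887), (14013, 16181), (14014, 16183), (14015, 11888)]
    ⟨e3 q13952 L674964 q16114, e3 q13953 (flp_i L653452) q11835, e3 q13954 L653478 q13954, e3 q13955 L675012 q16117, e3 q13956 (flp_i L653490) q11837, e3 q13957 L653512 q13957, e3 q13958 L653524 q13797, e3 q13959 (flp_i L653530) q11841, e3 q13960 L653564 q12730, e3 q13961 (flp_i L674179) q16058, e3 q13962 L675069 q16121, e3 q13963 L675099 q16123, e3 q13964 L675129 q16125, e3 q13965 (flp_i L653617) q11846, e3 q13966 L675156 q16127, e3 q13967 (flp_i L653639) q11847, e3 q13968 (flp_i L674281) q16065, e3 q13969 L675191 q16130, e3 q13970 L675229 q16133, e3 q13971 (flp_i L653687) q11850, e3 q13972 L675239 q16134, e3 q13973 (flp_i L653713) q11851, e3 q13974 L675255 q16135, e3 q13975 L675283 q16137, e3 q13976 (flp_i L653757) q11852, e3 q13977 L675305 q16139, e3 q13978 L675339 q16141, e3 q13979 (flp_i L653799) q11854, e3 q13980 L675375 q16144, e3 q13981 (flp_i L653817) q11855, e3 q13982 (flp_i L675177) q16128, e3 q13983 L675404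 q16147, e3 q13984 (flp_i L653844) q11858, e3 q13985 L653872 q13985, e3 q13986 L675446 q16150, e3 q13987 (flp_i L653880) q11860, e3 q13988 L653894 q13988, e3 q13989 L675472 q16153, e3 q13990 (flp_i L653904) q11863, e3 q13991 L653920 q13991, e3 q13992 (flp_i L653921) q11867, e3 q13993 L675499 q16155, e3 q13994 (flp_i L653951) q11868, e3 q13995 (flp_i L653969) q11871, e3 q13996 (flp_i L653985) q11873, e3 q13997 (flp_i L654003) q11878, e3 q13998 L654031 q11970, e3 q13999 L654047 q11971, e3 q14000 L675584 q16161, e3 q14001 L675608 q16163, e3 q14002 L675647 q16166, e3 q14003 (flp_i L654081) q11882, e3 q14004 L675657 q16167, e3 q14005 L675671 q16168, e3 q14006 (flp_i L654121) q11883, e3 q14007 L654140 q11979, e3 q14008 L675723 q16172, e3 q14009 L675755 q16175, e3 q14010 (flp_i L654167) q11886, e3 q14011 L675789 q16178, e3 q14012 (flp_i L654190) q11887, e3 q14013 L675829 q16181, e3 q14014 L675849 q16183, e3 q14015 (flp_i L654223) q11888, trivial⟩ (by decide +kernel)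

theorem ce_i_219 : ∀ r, r < 64 → sm gi (Qf (14016 + r)) = Qf (tab Gen.i (14016 + r)) :=
  edges_tab (sm gi) Qf (tab Gen.i) 14016 [(14016, 16185), (14017, 16186), (14018, 11890), (14019, 11891), (14020, 16169), (14021, 16190), (14022, 11893), (14023, 16192), (14024, 11895), (14025, 14025), (14026, 14026), (14027, 16195), (14028, 16197), (14029, 11900), (14030, 16200), (14031, 16201), (14032, 11901), (14033, 16203), (14034, 11903), (14035, 16205), (14036, 11905), (14037, 14037), (14038, 16207), (14039, 11907), (14040, 14040), (14041, 11910), (14042, 16210), (14043, 11911), (14044, 16213), (14045, 16214), (14046, 11913), (14047, 11914), (14048, 14048), (14049, 11916), (14050, 14050), (14051, 11918), (14052, 14052), (14053, 11921), (14054, 14054), (14055, 14055), (14056, 13415), (14057, 13523), (14058, 16227), (14059, 16228), (14060, 11925), (14061, 13765), (14062, 16232), (14063, 16234), (14064, 16237), (14065, 11928), (14066, 16238), (14067, 16239), (14068, 11929), (14069, 11931), (14070, 16242), (14071, 11932), (14072, 11934),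 (14073, 11935), (14074, 14074), (14075, 14075), (14076, 12960), (14077, 13782), (14078, 16249), (14079, 16251)]
    ⟨e3 q14016 L675871 q16185, e3 q14017 L675886 q16186, e3 q14018 (flp_i L654262) q11890, e3 q14019 (flp_i L654273) q11891, e3 q14020 (flp_i L675696) q16169, e3 q14021 L675930 q16190, e3 q14022 (flp_i L654308) q11893, e3 q14023 L675957 q16192, e3 q14024 (flp_i L654330) q11895, e3 q14025 L654352 q14025, e3 q14026 L654365 q14026, e3 q14027 L675992 q16195, e3 q14028 L676024 q16197, e3 q14029 (flp_i L654396) q11900, e3 q14030 L676065 q16200, e3 q14031 L676075 q16201, e3 q14032 (flp_i L654431) q11901, e3 q14033 L676103 q16203, e3 q14034 (flp_i L654454) q11903, e3 q14035 L676128 q16205, e3 q14036 (flp_i L654478) q11905, e3 q14037 L654498 q14037, e3 q14038 L676151 q16207, e3 q14039 (flp_i L654514) q11907, e3 q14040 L654534 q14040, e3 q14041 (flp_i L654535) q11910, e3 q14042 L676188 q16210, e3 q14043 (flp_i L654567) q11911, e3 q14044 L676233 q16213, e3 q14045 L676247 q16214, e3 q14046 (flp_i L654606) q11913, e3 q14047 (flp_i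 L654617) q11914, e3 q14048 L654638 q14048, e3 q14049 (flp_i L654639) q11916, e3 q14050 L654661 q14050, e3 q14051 (flp_i L654662) q11918, e3 q14052 L654683 q14052, e3 q14053 (flp_i L654684) q11921, e3 q14054 L654705 q14054, e3 q14055 L654712 q14055, e3 q14056 L654727 q13415, e3 q14057 L654744 q13523, e3 q14058 L676420 q16227, e3 q14059 L676433 q16228, e3 q14060 (flp_i L654773) q11925, e3 q14061 L654796 q13765, e3 q14062 L676487 q16232, e3 q14063 L676511 q16234, e3 q14064 L676554 q16237, e3 q14065 (flp_i L654829) q11928, e3 q14066 L676564 q16238, e3 q14067 L676578 q16239, e3 q14068 (flp_i L654871) q11929, e3 q14069 (flp_i L654882) q11931, e3 q14070 L676619 q16242, e3 q14071 (flp_i L654911) q11932, e3 q14072 (flp_i L654927) q11934, e3 q14073 (flp_i L654943) q11935, e3 q14074 L654967 q14074, e3 q14075 L654977 q14075, e3 q14076 L654987 q12960, e3 q14077 L655001 q13782, e3 q14078 L676711 q16249, e3 q14079 L676735 q16251, trivial⟩ (by decide +kernel)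

theorem ce_i_220 : ∀ r, r < 64 → sm gi (Qf (14080 + r)) = Qf (tab Gen.i (14080 + r)) :=
  edges_tab (sm gi) Qf (tab Gen.i) 14080 [(14080, 16254), (14081, 11941), (14082, 16255), (14083, 16256), (14084, 11942), (14085, 13783), (14086, 16260), (14087, 16263), (14088, 11945), (14089, 16264), (14090, 11946), (14091, 16265), (14092, 16267), (14093, 11947), (14094, 11949), (14095, 16271), (14096, 11950), (14097, 16257), (14098, 16274), (14099, 11953), (14100, 14100), (14101, 16277), (14102, 11955), (14103, 14103), (14104, 16280), (14105, 11958), (14106, 14106), (14107, 16282), (14108, 11962), (14109, 16283), (14110, 11963), (14111, 11966), (14112, 14112), (14113, 14113), (14114, 16156), (14115, 16289), (14116, 16158), (14117, 16292), (14118, 16295), (14119, 11972), (14120, 16298), (14121, 11973), (14122, 16301), (14123, 16303), (14124, 11974), (14125, 16305), (14126, 16306), (14127, 11976), (14128, 16309), (14129, 11977), (14130, 11993), (14131, 16312), (14132, 16315), (14133, 11980), (14134, 16318), (14135, 16320), (14136, 11981),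 (14137, 16323), (14138, 16325), (14139, 11983), (14140, 16329), (14141, 16331), (14142, 11985), (14143, 16334)]
    ⟨e3 q14080 L676776 q16254, e3 q14081 (flp_i L655029) q11941, e3 q14082 L676784 q16255, e3 q14083 L676798 q16256, e3 q14084 (flp_i L655067) q11942, e3 q14085 L655082 q13783, e3 q14086 L676846 q16260, e3 q14087 L676880 q16263, e3 q14088 (flp_i L655107) q11945, e3 q14089 L676890 q16264, e3 q14090 (flp_i L655130) q11946, e3 q14091 L676903 q16265, e3 q14092 L676929 q16267, e3 q14093 (flp_i L655169) q11947, e3 q14094 (flp_i L655177) q11949, e3 q14095 L676978 q16271, e3 q14096 (flp_i L655207) q11950, e3 q14097 (flp_i L676821) q16257, e3 q14098 L677015 q16274, e3 q14099 (flp_i L655238) q11953, e3 q14100 L655264 q14100, e3 q14101 L677052 q16277, e3 q14102 (flp_i L655276) q11955, e3 q14103 L655298 q14103, e3 q14104 L677088 q16280, e3 q14105 (flp_i L655309) q11958, e3 q14106 L655330 q14106, e3 q14107 L677110 q16282, e3 q14108 (flp_i L655345) q11962, e3 q14109 L677126 q16283, e3 q14110 (flp_i L655375) q11963, e3 q14111 (flp_i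 L655390) q11966, e3 q14112 L655417 q14112, e3 q14113 L655431 q14113, e3 q14114 (flp_i L675529) q16156, e3 q14115 L677208 q16289, e3 q14116 (flp_i L675556) q16158, e3 q14117 L677240 q16292, e3 q14118 L677266 q16295, e3 q14119 (flp_i L655485) q11972, e3 q14120 L677302 q16298, e3 q14121 (flp_i L655503) q11973, e3 q14122 L677340 q16301, e3 q14123 L677354 q16303, e3 q14124 (flp_i L655528) q11974, e3 q14125 L677371 q16305, e3 q14126 L677385 q16306, e3 q14127 (flp_i L655565) q11976, e3 q14128 L677422 q16309, e3 q14129 (flp_i L655587) q11977, e3 q14130 L655602 q11993, e3 q14131 L677454 q16312, e3 q14132 L677481 q16315, e3 q14133 (flp_i L655623) q11980, e3 q14134 L677507 q16318, e3 q14135 L677523 q16320, e3 q14136 (flp_i L655647) q11981, e3 q14137 L677550 q16323, e3 q14138 L677575 q16325, e3 q14139 (flp_i L655681) q11983, e3 q14140 L677627 q16329, e3 q14141 L677647 q16331, e3 q14142 (flp_i L655710) q11985, e3 q14143 L677675 q16334, trivial⟩ (by decide +kernel)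

theorem ce_i_221 : ∀ r, r < 64 → sm gi (Qf (14144 + r)) = Qf (tab Gen.i (14144 + r)) :=
  edges_tab (sm gi) Qf (tab Gen.i) 14144 [(14144, 11986), (14145, 16304), (14146, 16336), (14147, 16337), (14148, 11988), (14149, 16340), (14150, 11989), (14151, 16307), (14152, 16344), (14153, 11991), (14154, 16310), (14155, 16348), (14156, 11994), (14157, 14157), (14158, 16351), (14159, 11996), (14160, 14160), (14161, 16354), (14162, 11999), (14163, 14163), (14164, 14164), (14165, 12002), (14166, 14166), (14167, 12005), (14168, 16360), (14169, 12006), (14170, 16364), (14171, 16366), (14172, 12008), (14173, 12009), (14174, 14174), (14175, 16370), (14176, 12011), (14177, 14177), (14178, 16372), (14179, 12013), (14180, 14180), (14181, 12016), (14182, 14182), (14183, 14183), (14184, 16379), (14185, 12020), (14186, 14186), (14187, 16382), (14188, 16383), (14189, 12022), (14190, 12023), (14191, 14191), (14192, 14192), (14193, 16387), (14194, 12027), (14195, 14195), (14196, 12030), (14197, 14197), (14198, 14198), (14199, 14199), (14200, 14200),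 (14201, 14201), (14202, 12036), (14203, 16393), (14204, 12037), (14205, 12038), (14206, 16395), (14207, 12040)]
    ⟨e3 q14144 (flp_i L655724) q11986, e3 q14145 (flp_i L677369) q16304, e3 q14146 L677691 q16336, e3 q14147 L677706 q16337, e3 q14148 (flp_i L655770) q11988, e3 q14149 L677744 q16340, e3 q14150 (flp_i L655796) q11989, e3 q14151 (flp_i L677407) q16307, e3 q14152 L677786 q16344, e3 q14153 (flp_i L655822) q11991, e3 q14154 (flp_i L677443) q16310, e3 q14155 L677824 q16348, e3 q14156 (flp_i L655853) q11994, e3 q14157 L655879 q14157, e3 q14158 L677859 q16351, e3 q14159 (flp_i L655887) q11996, e3 q14160 L655901 q14160, e3 q14161 L677881 q16354, e3 q14162 (flp_i L655910) q11999, e3 q14163 L655927 q14163, e3 q14164 L655933 q14164, e3 q14165 (flp_i L655934) q12002, e3 q14166 L655949 q14166, e3 q14167 (flp_i L655950) q12005, e3 q14168 L677938 q16360, e3 q14169 (flp_i L655970) q12006, e3 q14170 L677987 q16364, e3 q14171 L678009 q16366, e3 q14172 (flp_i L656006) q12008, e3 q14173 (flp_i L656014) q12009, e3 q14174 L656038 q14174,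 e3 q14175 L678061 q16370, e3 q14176 (flp_i L656049) q12011, e3 q14177 L656071 q14177, e3 q14178 L678084 q16372, e3 q14179 (flp_i L656083) q12013, e3 q14180 L656097 q14180, e3 q14181 (flp_i L656098) q12016, e3 q14182 L656120 q14182, e3 q14183 L656126 q14183, e3 q14184 L678154 q16379, e3 q14185 (flp_i L656138) q12020, e3 q14186 L656160 q14186, e3 q14187 L678192 q16382, e3 q14188 L678203 q16383, e3 q14189 (flp_i L656184) q12022, e3 q14190 (flp_i L656194) q12023, e3 q14191 L656218 q14191, e3 q14192 L656232 q14192, e3 q14193 L678254 q16387, e3 q14194 (flp_i L656242) q12027, e3 q14195 L656259 q14195, e3 q14196 (flp_i L656260) q12030, e3 q14197 L656275 q14197, e3 q14198 L656281 q14198, e3 q14199 L656292 q14199, e3 q14200 L656300 q14200, e3 q14201 L656309 q14201, e3 q14202 (flp_i L656310) q12036, e3 q14203 L678310 q16393, e3 q14204 (flp_i L656342) q12037, e3 q14205 (flp_i L656359) q12038, e3 q14206 L678343 q16395, e3 q14207 (flp_i L656389) q12040, trivial⟩ (by decide +kernel)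

theorem ce_i_222 : ∀ r, r < 64 → sm gi (Qf (14208 + r)) = Qf (tab Gen.i (14208 + r)) :=
  edges_tab (sm gi) Qf (tab Gen.i) 14208 [(14208, 12041), (14209, 16396), (14210, 12043), (14211, 12045), (14212, 14212), (14213, 16399), (14214, 12047), (14215, 12049), (14216, 16401), (14217, 12051), (14218, 12052), (14219, 16403), (14220, 12054), (14221, 14221), (14222, 12109), (14223, 16408), (14224, 12111), (14225, 16410), (14226, 12059), (14227, 12114), (14228, 16414), (14229, 12116), (14230, 12117), (14231, 16419), (14232, 16422), (14233, 12063), (14234, 16423), (14235, 12065), (14236, 16424), (14237, 12066), (14238, 14238), (14239, 12127), (14240, 16428), (14241, 16429), (14242, 12071), (14243, 16430), (14244, 12072), (14245, 12074), (14246, 12136), (14247, 16433), (14248, 16436), (14249, 12077), (14250, 12140), (14251, 16439), (14252, 16441), (14253, 16442), (14254, 12080), (14255, 16444), (14256, 16446), (14257, 12081), (14258, 16448), (14259, 12083), (14260, 12084), (14261, 16450), (14262, 12086), (14263, 14263), (14264, 12088),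 (14265, 14265), (14266, 12157), (14267, 16096), (14268, 12092), (14269, 16453), (14270, 12093), (14271, 12094)]
    ⟨e3 q14208 (flp_i L656404) q12041, e3 q14209 L678359 q16396, e3 q14210 (flp_i L656437) q12043, e3 q14211 (flp_i L656448) q12045, e3 q14212 L656472 q14212, e3 q14213 L678402 q16399, e3 q14214 (flp_i L656487) q12047, e3 q14215 (flp_i L656498) q12049, e3 q14216 L678428 q16401, e3 q14217 (flp_i L656532) q12051, e3 q14218 (flp_i L656547) q12052, e3 q14219 L678462 q16403, e3 q14220 (flp_i L656571) q12054, e3 q14221 L656593 q14221, e3 q14222 L656605 q12109, e3 q14223 L678535 q16408, e3 q14224 L656631 q12111, e3 q14225 L678566 q16410, e3 q14226 (flp_i L656645) q12059, e3 q14227 L656668 q12114, e3 q14228 L678624 q16414, e3 q14229 L656694 q12116, e3 q14230 L656707 q12117, e3 q14231 L678694 q16419, e3 q14232 L678736 q16422, e3 q14233 (flp_i L656729) q12063, e3 q14234 L678746 q16423, e3 q14235 (flp_i L656756) q12065, e3 q14236 L678763 q16424, e3 q14237 (flp_i L656782) q12066, e3 q14238 L656801 q14238, e3 q14239 L656811 q12127,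 e3 q14240 L678821 q16428, e3 q14241 L678835 q16429, e3 q14242 (flp_i L656838) q12071, e3 q14243 L678850 q16430, e3 q14244 (flp_i L656862) q12072, e3 q14245 (flp_i L656873) q12074, e3 q14246 L656897 q12136, e3 q14247 L678888 q16433, e3 q14248 L678918 q16436, e3 q14249 (flp_i L656923) q12077, e3 q14250 L656944 q12140, e3 q14251 L678957 q16439, e3 q14252 L678988 q16441, e3 q14253 L679002 q16442, e3 q14254 (flp_i L656971) q12080, e3 q14255 L679020 q16444, e3 q14256 L679044 q16446, e3 q14257 (flp_i L656995) q12081, e3 q14258 L679060 q16448, e3 q14259 (flp_i L657017) q12083, e3 q14260 (flp_i L657030) q12084, e3 q14261 L679091 q16450, e3 q14262 (flp_i L657052) q12086, e3 q14263 L657066 q14263, e3 q14264 (flp_i L657067) q12088, e3 q14265 L657092 q14265, e3 q14266 L657099 q12157, e3 q14267 (flp_i L674695) q16096, e3 q14268 (flp_i L657120) q12092, e3 q14269 L679129 q16453, e3 q14270 (flp_i L657150) q12093, e3 q14271 (flp_i L657162) q12094, trivial⟩ (by decide +kernel)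

theorem ce_i_223 : ∀ r, r < 64 → sm gi (Qf (14272 + r)) = Qf (tab Gen.i (14272 + r)) :=
  edges_tab (sm gi) Qf (tab Gen.i) 14272 [(14272, 16455), (14273, 12096), (14274, 14274), (14275, 12102), (14276, 14276), (14277, 16457), (14278, 12105), (14279, 14279), (14280, 16460), (14281, 16405), (14282, 16462), (14283, 16464), (14284, 12110), (14285, 12112), (14286, 16411), (14287, 16467), (14288, 16470), (14289, 12115), (14290, 16415), (14291, 16473), (14292, 16475), (14293, 16478), (14294, 12118), (14295, 16481), (14296, 16482), (14297, 12119), (14298, 12121), (14299, 16485), (14300, 12122), (14301, 12124), (14302, 14302), (14303, 16426), (14304, 12128), (14305, 12129), (14306, 16489), (14307, 12130), (14308, 16491), (14309, 12132), (14310, 14310), (14311, 13611), (14312, 16495), (14313, 16497), (14314, 16500), (14315, 12137), (14316, 16503), (14317, 16505), (14318, 12138), (14319, 16097), (14320, 16508), (14321, 12141), (14322, 16509), (14323, 12142), (14324, 16511), (14325, 16512), (14326, 12143), (14327, 16516), (14328, 16518),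 (14329, 12145), (14330, 16521), (14331, 12146), (14332, 16506), (14333, 12149), (14334, 14334), (14335, 16525)]
    ⟨e3 q14272 L679162 q16455, e3 q14273 (flp_i L657183) q12096, e3 q14274 L657201 q14274, e3 q14275 (flp_i L657202) q12102, e3 q14276 L657230 q14276, e3 q14277 L679183 q16457, e3 q14278 (flp_i L657243) q12105, e3 q14279 L657268 q14279, e3 q14280 L679223 q16460, e3 q14281 (flp_i L678502) q16405, e3 q14282 L679250 q16462, e3 q14283 L679274 q16464, e3 q14284 (flp_i L657316) q12110, e3 q14285 (flp_i L657327) q12112, e3 q14286 (flp_i L678592) q16411, e3 q14287 L679302 q16467, e3 q14288 L679330 q16470, e3 q14289 (flp_i L657369) q12115, e3 q14290 (flp_i L678651) q16415, e3 q14291 L679365 q16473, e3 q14292 L679390 q16475, e3 q14293 L679426 q16478, e3 q14294 (flp_i L657419) q12118, e3 q14295 L679451 q16481, e3 q14296 L679463 q16482, e3 q14297 (flp_i L657447) q12119, e3 q14298 (flp_i L657457) q12121, e3 q14299 L679494 q16485, e3 q14300 (flp_i L657484) q12122, e3 q14301 (flp_i L657498) q12124, e3 q14302 L657516 q14302, e3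 q14303 (flp_i L678799) q16426, e3 q14304 (flp_i L657528) q12128, e3 q14305 (flp_i L657538) q12129, e3 q14306 L679543 q16489, e3 q14307 (flp_i L657561) q12130, e3 q14308 L679565 q16491, e3 q14309 (flp_i L657582) q12132, e3 q14310 L657603 q14310, e3 q14311 L657615 q13611, e3 q14312 L679612 q16495, e3 q14313 L679641 q16497, e3 q14314 L679677 q16500, e3 q14315 (flp_i L657644) q12137, e3 q14316 L679712 q16503, e3 q14317 L679732 q16505, e3 q14318 (flp_i L657666) q12138, e3 q14319 (flp_i L674714) q16097, e3 q14320 L679752 q16508, e3 q14321 (flp_i L657693) q12141, e3 q14322 L679760 q16509, e3 q14323 (flp_i L657714) q12142, e3 q14324 L679785 q16511, e3 q14325 L679797 q16512, e3 q14326 (flp_i L657746) q12143, e3 q14327 L679844 q16516, e3 q14328 L679867 q16518, e3 q14329 (flp_i L657771) q12145, e3 q14330 L679890 q16521, e3 q14331 (flp_i L657789) q12146, e3 q14332 (flp_i L679745) q16506, e3 q14333 (flp_i L657803) q12149, e3 q14334 L657824 q14334, e3 q14335 L679934 q16525, trivial⟩ (by decide +kernel)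

theorem ce_i_224 : ∀ r, r < 64 → sm gi (Qf (14336 + r)) = Qf (tab Gen.i (14336 + r)) :=
  edges_tab (sm gi) Qf (tab Gen.i) 14336 [(14336, 12151), (14337, 14337), (14338, 13632), (14339, 12154), (14340, 14340), (14341, 12160), (14342, 14342), (14343, 16529), (14344, 12162), (14345, 14345), (14346, 12166), (14347, 14347), (14348, 12169), (14349, 16534), (14350, 12171), (14351, 12172), (14352, 14352), (14353, 16536), (14354, 12175), (14355, 12176), (14356, 12178), (14357, 16539), (14358, 12181), (14359, 16541), (14360, 12183), (14361, 14361), (14362, 12185), (14363, 14363), (14364, 16545), (14365, 12188), (14366, 16546), (14367, 12189), (14368, 16548), (14369, 12191), (14370, 14370), (14371, 16550), (14372, 12194), (14373, 16551), (14374, 16552), (14375, 12195), (14376, 16554), (14377, 12197), (14378, 16556), (14379, 12199), (14380, 14380), (14381, 16558), (14382, 12201), (14383, 14383), (14384, 12280), (14385, 16562), (14386, 12282), (14387, 12283), (14388, 16567), (14389, 16568), (14390, 12206), (14391, 16569), (14392, 12208),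 (14393, 12289), (14394, 12290), (14395, 16574), (14396, 16577), (14397, 12211), (14398, 12294), (14399, 16581)]
    ⟨e3 q14336 (flp_i L657831) q12151, e3 q14337 L657847 q14337, e3 q14338 (flp_i L657857) q13632, e3 q14339 (flp_i L657859) q12154, e3 q14340 L657882 q14340, e3 q14341 (flp_i L657883) q12160, e3 q14342 L657903 q14342, e3 q14343 L679974 q16529, e3 q14344 (flp_i L657916) q12162, e3 q14345 L657938 q14345, e3 q14346 (flp_i L657939) q12166, e3 q14347 L657966 q14347, e3 q14348 (flp_i L657967) q12169, e3 q14349 L680040 q16534, e3 q14350 (flp_i L657999) q12171, e3 q14351 (flp_i L658016) q12172, e3 q14352 L658035 q14352, e3 q14353 L680072 q16536, e3 q14354 (flp_i L658052) q12175, e3 q14355 (flp_i L658068) q12176, e3 q14356 (flp_i L658078) q12178, e3 q14357 L680117 q16539, e3 q14358 (flp_i L658110) q12181, e3 q14359 L680143 q16541, e3 q14360 (flp_i L658135) q12183, e3 q14361 L658150 q14361, e3 q14362 (flp_i L658151) q12185, e3 q14363 L658174 q14363, e3 q14364 L680198 q16545, e3 q14365 (flp_i L658191) q12188, e3 q14366 L680215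 q16546, e3 q14367 (flp_i L658222) q12189, e3 q14368 L680241 q16548, e3 q14369 (flp_i L658240) q12191, e3 q14370 L658255 q14370, e3 q14371 L680270 q16550, e3 q14372 (flp_i L658272) q12194, e3 q14373 L680287 q16551, e3 q14374 L680300 q16552, e3 q14375 (flp_i L658314) q12195, e3 q14376 L680324 q16554, e3 q14377 (flp_i L658335) q12197, e3 q14378 L680353 q16556, e3 q14379 (flp_i L658352) q12199, e3 q14380 L658370 q14380, e3 q14381 L680376 q16558, e3 q14382 (flp_i L658379) q12201, e3 q14383 L658395 q14383, e3 q14384 L658407 q12280, e3 q14385 L680431 q16562, e3 q14386 L658433 q12282, e3 q14387 L658448 q12283, e3 q14388 L680495 q16567, e3 q14389 L680508 q16568, e3 q14390 (flp_i L658469) q12206, e3 q14391 L680518 q16569, e3 q14392 (flp_i L658493) q12208, e3 q14393 L658515 q12289, e3 q14394 L658529 q12290, e3 q14395 L680581 q16574, e3 q14396 L680617 q16577, e3 q14397 (flp_i L658547) q12211, e3 q14398 L658567 q12294, e3 q14399 L680663 q16581, trivial⟩ (by decide +kernel)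

theorem ce_i_225 : ∀ r, r < 64 → sm gi (Qf (14400 + r)) = Qf (tab Gen.i (14400 + r)) :=
  edges_tab (sm gi) Qf (tab Gen.i) 14400 [(14400, 16583), (14401, 16586), (14402, 12214), (14403, 16588), (14404, 16589), (14405, 12215), (14406, 12217), (14407, 16592), (14408, 12218), (14409, 12220), (14410, 14410), (14411, 12308), (14412, 16596), (14413, 16598), (14414, 12224), (14415, 12225), (14416, 16599), (14417, 12226), (14418, 16601), (14419, 12228), (14420, 14420), (14421, 12319), (14422, 12320), (14423, 16606), (14424, 16608), (14425, 16611), (14426, 12233), (14427, 16614), (14428, 16616), (14429, 12234), (14430, 12328), (14431, 16620), (14432, 16623), (14433, 12237), (14434, 16624), (14435, 12238), (14436, 16626), (14437, 16628), (14438, 12239), (14439, 16632), (14440, 16634), (14441, 12241), (14442, 16637), (14443, 12242), (14444, 16617), (14445, 12244), (14446, 16641), (14447, 12246), (14448, 14448), (14449, 16643), (14450, 12248), (14451, 14451), (14452, 12251), (14453, 14453), (14454, 16647), (14455, 16649), (14456, 12255),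 (14457, 16652), (14458, 16653), (14459, 12256), (14460, 12258), (14461, 16656), (14462, 12260), (14463, 14463)]
    ⟨e3 q14400 L680689 q16583, e3 q14401 L680725 q16586, e3 q14402 (flp_i L658597) q12214, e3 q14403 L680745 q16588, e3 q14404 L680755 q16589, e3 q14405 (flp_i L658623) q12215, e3 q14406 (flp_i L658631) q12217, e3 q14407 L680786 q16592, e3 q14408 (flp_i L658654) q12218, e3 q14409 (flp_i L658664) q12220, e3 q14410 L658678 q14410, e3 q14411 L658687 q12308, e3 q14412 L680835 q16596, e3 q14413 L680861 q16598, e3 q14414 (flp_i L658714) q12224, e3 q14415 (flp_i L658727) q12225, e3 q14416 L680874 q16599, e3 q14417 (flp_i L658749) q12226, e3 q14418 L680896 q16601, e3 q14419 (flp_i L658764) q12228, e3 q14420 L658781 q14420, e3 q14421 L658791 q12319, e3 q14422 L658803 q12320, e3 q14423 L680953 q16606, e3 q14424 L680972 q16608, e3 q14425 L680998 q16611, e3 q14426 (flp_i L658828) q12233, e3 q14427 L681023 q16614, e3 q14428 L681043 q16616, e3 q14429 (flp_i L658848) q12234, e3 q14430 L658860 q12328, e3 q14431 L681076 q16620, e3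 q14432 L681102 q16623, e3 q14433 (flp_i L658880) q12237, e3 q14434 L681110 q16624, e3 q14435 (flp_i L658896) q12238, e3 q14436 L681122 q16626, e3 q14437 L681134 q16628, e3 q14438 (flp_i L658918) q12239, e3 q14439 L681158 q16632, e3 q14440 L681176 q16634, e3 q14441 (flp_i L658934) q12241, e3 q14442 L681200 q16637, e3 q14443 (flp_i L658950) q12242, e3 q14444 (flp_i L681054) q16617, e3 q14445 (flp_i L658962) q12244, e3 q14446 L681242 q16641, e3 q14447 (flp_i L658975) q12246, e3 q14448 L658989 q14448, e3 q14449 L681255 q16643, e3 q14450 (flp_i L659003) q12248, e3 q14451 L659015 q14451, e3 q14452 (flp_i L659016) q12251, e3 q14453 L659038 q14453, e3 q14454 L681298 q16647, e3 q14455 L681331 q16649, e3 q14456 (flp_i L659064) q12255, e3 q14457 L681367 q16652, e3 q14458 L681375 q16653, e3 q14459 (flp_i L659096) q12256, e3 q14460 (flp_i L659106) q12258, e3 q14461 L681411 q16656, e3 q14462 (flp_i L659121) q12260, e3 q14463 L659135 q14463, trivial⟩ (by decide +kernel)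

theorem ce_i_226 : ∀ r, r < 64 → sm gi (Qf (14464 + r)) = Qf (tab Gen.i (14464 + r)) :=
  edges_tab (sm gi) Qf (tab Gen.i) 14464 [(14464, 16658), (14465, 12262), (14466, 14466), (14467, 12265), (14468, 16661), (14469, 12266), (14470, 16665), (14471, 16666), (14472, 12268), (14473, 12269), (14474, 14474), (14475, 16669), (14476, 12271), (14477, 14477), (14478, 16670), (14479, 12273), (14480, 14480), (14481, 12276), (14482, 14482), (14483, 14483), (14484, 13077), (14485, 13193), (14486, 16471), (14487, 16677), (14488, 16678), (14489, 12281), (14490, 16563), (14491, 16681), (14492, 16683), (14493, 16685), (14494, 12284), (14495, 16687), (14496, 12285), (14497, 12287), (14498, 13377), (14499, 16570), (14500, 16693), (14501, 16695), (14502, 16698), (14503, 12291), (14504, 16701), (14505, 16702), (14506, 12292), (14507, 16578), (14508, 16706), (14509, 16709), (14510, 12295), (14511, 16712), (14512, 12296), (14513, 16715), (14514, 16717), (14515, 12297), (14516, 16721), (14517, 16722), (14518, 12299), (14519, 12300), (14520, 16703),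 (14521, 16726), (14522, 12302), (14523, 16728), (14524, 12304), (14525, 14525), (14526, 14526), (14527, 16731)]
    ⟨e3 q14464 L681426 q16658, e3 q14465 (flp_i L659143) q12262, e3 q14466 L659157 q14466, e3 q14467 (flp_i L659158) q12265, e3 q14468 L681460 q16661, e3 q14469 (flp_i L659189) q12266, e3 q14470 L681514 q16665, e3 q14471 L681526 q16666, e3 q14472 (flp_i L659227) q12268, e3 q14473 (flp_i L659240) q12269, e3 q14474 L659258 q14474, e3 q14475 L681563 q16669, e3 q14476 (flp_i L659270) q12271, e3 q14477 L659296 q14477, e3 q14478 L681577 q16670, e3 q14479 (flp_i L659303) q12273, e3 q14480 L659320 q14480, e3 q14481 (flp_i L659321) q12276, e3 q14482 L659334 q14482, e3 q14483 L659344 q14483, e3 q14484 L659362 q13077, e3 q14485 L659376 q13193, e3 q14486 (flp_i L679351) q16471, e3 q14487 L681659 q16677, e3 q14488 L681670 q16678, e3 q14489 (flp_i L659412) q12281, e3 q14490 (flp_i L680459) q16563, e3 q14491 L681703 q16681, e3 q14492 L681726 q16683, e3 q14493 L681748 q16685, e3 q14494 (flp_i L659462) q12284, e3 q14495 L681767 q16687,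 e3 q14496 (flp_i L659480) q12285, e3 q14497 (flp_i L659488) q12287, e3 q14498 L659512 q13377, e3 q14499 (flp_i L680546) q16570, e3 q14500 L681829 q16693, e3 q14501 L681846 q16695, e3 q14502 L681872 q16698, e3 q14503 (flp_i L659551) q12291, e3 q14504 L681905 q16701, e3 q14505 L681914 q16702, e3 q14506 (flp_i L659575) q12292, e3 q14507 (flp_i L680637) q16578, e3 q14508 L681949 q16706, e3 q14509 L681979 q16709, e3 q14510 (flp_i L659613) q12295, e3 q14511 L682011 q16712, e3 q14512 (flp_i L659631) q12296, e3 q14513 L682034 q16715, e3 q14514 L682050 q16717, e3 q14515 (flp_i L659657) q12297, e3 q14516 L682089 q16721, e3 q14517 L682097 q16722, e3 q14518 (flp_i L659678) q12299, e3 q14519 (flp_i L659688) q12300, e3 q14520 (flp_i L681927) q16703, e3 q14521 L682132 q16726, e3 q14522 (flp_i L659714) q12302, e3 q14523 L682159 q16728, e3 q14524 (flp_i L659737) q12304, e3 q14525 L659755 q14525, e3 q14526 L659763 q14526, e3 q14527 L682183 q16731, trivial⟩ (by decide +kernel)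

theorem ce_i_227 : ∀ r, r < 64 → sm gi (Qf (14528 + r)) = Qf (tab Gen.i (14528 + r)) :=
  edges_tab (sm gi) Qf (tab Gen.i) 14528 [(14528, 16734), (14529, 12309), (14530, 16736), (14531, 16737), (14532, 12310), (14533, 16740), (14534, 12312), (14535, 16743), (14536, 12314), (14537, 14537), (14538, 16745), (14539, 12316), (14540, 14540), (14541, 16229), (14542, 16750), (14543, 16098), (14544, 16753), (14545, 16756), (14546, 12321), (14547, 16759), (14548, 12322), (14549, 16762), (14550, 16764), (14551, 12323), (14552, 16766), (14553, 16767), (14554, 12325), (14555, 16770), (14556, 12326), (14557, 12342), (14558, 16773), (14559, 16776), (14560, 12329), (14561, 16779), (14562, 16781), (14563, 12330), (14564, 16784), (14565, 16786), (14566, 12332), (14567, 16790), (14568, 16792), (14569, 12334), (14570, 16795), (14571, 12335), (14572, 16765), (14573, 16797), (14574, 16798), (14575, 12337), (14576, 16801), (14577, 12338), (14578, 16768), (14579, 16805), (14580, 12340), (14581, 16771), (14582, 16808), (14583, 12343), (14584, 14584),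 (14585, 16811), (14586, 12345), (14587, 14587), (14588, 16814), (14589, 12348), (14590, 14590), (14591, 14591)]
    ⟨e3 q14528 L682214 q16734, e3 q14529 (flp_i L659785) q12309, e3 q14530 L682235 q16736, e3 q14531 L682245 q16737, e3 q14532 (flp_i L659816) q12310, e3 q14533 L682278 q16740, e3 q14534 (flp_i L659837) q12312, e3 q14535 L682311 q16743, e3 q14536 (flp_i L659856) q12314, e3 q14537 L659873 q14537, e3 q14538 L682329 q16745, e3 q14539 (flp_i L659883) q12316, e3 q14540 L659900 q14540, e3 q14541 (flp_i L676459) q16229, e3 q14542 L682376 q16750, e3 q14543 (flp_i L674731) q16098, e3 q14544 L682407 q16753, e3 q14545 L682429 q16756, e3 q14546 (flp_i L659951) q12321, e3 q14547 L682459 q16759, e3 q14548 (flp_i L659964) q12322, e3 q14549 L682492 q16762, e3 q14550 L682504 q16764, e3 q14551 (flp_i L659984) q12323, e3 q14552 L682517 q16766, e3 q14553 L682530 q16767, e3 q14554 (flp_i L660013) q12325, e3 q14555 L682555 q16770, e3 q14556 (flp_i L660027) q12326, e3 q14557 L660036 q12342, e3 q14558 L682574 q16773, e3 q14559 L682600 q16776,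 e3 q14560 (flp_i L660054) q12329, e3 q14561 L682626 q16779, e3 q14562 L682642 q16781, e3 q14563 (flp_i L660078) q12330, e3 q14564 L682667 q16784, e3 q14565 L682687 q16786, e3 q14566 (flp_i L660106) q12332, e3 q14567 L682732 q16790, e3 q14568 L682749 q16792, e3 q14569 (flp_i L660129) q12334, e3 q14570 L682770 q16795, e3 q14571 (flp_i L660141) q12335, e3 q14572 (flp_i L682515) q16765, e3 q14573 L682782 q16797, e3 q14574 L682794 q16798, e3 q14575 (flp_i L660176) q12337, e3 q14576 L682818 q16801, e3 q14577 (flp_i L660191) q12338, e3 q14578 (flp_i L682546) q16768, e3 q14579 L682845 q16805, e3 q14580 (flp_i L660210) q12340, e3 q14581 (flp_i L682566) q16771, e3 q14582 L682863 q16808, e3 q14583 (flp_i L660232) q12343, e3 q14584 L660254 q14584, e3 q14585 L682894 q16811, e3 q14586 (flp_i L660263) q12345, e3 q14587 L660277 q14587, e3 q14588 L682916 q16814, e3 q14589 (flp_i L660284) q12348, e3 q14590 L660298 q14590, e3 q14591 L660301 q14591, trivial⟩ (by decide +kernel)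

theorem ce_i_228 : ∀ r, r < 64 → sm gi (Qf (14592 + r)) = Qf (tab Gen.i (14592 + r)) :=
  edges_tab (sm gi) Qf (tab Gen.i) 14592 [(14592, 12351), (14593, 14593), (14594, 12354), (14595, 16819), (14596, 16820), (14597, 12355), (14598, 16824), (14599, 16826), (14600, 12357), (14601, 12358), (14602, 14602), (14603, 12360), (14604, 14604), (14605, 16830), (14606, 12362), (14607, 14607), (14608, 12365), (14609, 14609), (14610, 14610), (14611, 12369), (14612, 14612), (14613, 16838), (14614, 16839), (14615, 12371), (14616, 12372), (14617, 14617), (14618, 14618), (14619, 12377), (14620, 14620), (14621, 14621), (14622, 14622), (14623, 12383), (14624, 14624), (14625, 16844), (14626, 12386), (14627, 12388), (14628, 14628), (14629, 12393), (14630, 12395), (14631, 16848), (14632, 12397), (14633, 14633), (14634, 16850), (14635, 12399), (14636, 14636), (14637, 12402), (14638, 14638), (14639, 14639), (14640, 12408), (14641, 12504), (14642, 16856), (14643, 16858), (14644, 16860), (14645, 12415), (14646, 16861), (14647, 12416), (14648, 12418),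 (14649, 12520), (14650, 16865), (14651, 16867), (14652, 12421), (14653, 16869), (14654, 12422), (14655, 16871)]
    ⟨e3 q14592 (flp_i L660302) q12351, e3 q14593 L660326 q14593, e3 q14594 (flp_i L660327) q12354, e3 q14595 L682956 q16819, e3 q14596 L682966 q16820, e3 q14597 (flp_i L660356) q12355, e3 q14598 L683009 q16824, e3 q14599 L683028 q16826, e3 q14600 (flp_i L660385) q12357, e3 q14601 (flp_i L660393) q12358, e3 q14602 L660412 q14602, e3 q14603 (flp_i L660413) q12360, e3 q14604 L660433 q14604, e3 q14605 L683068 q16830, e3 q14606 (flp_i L660444) q12362, e3 q14607 L660462 q14607, e3 q14608 (flp_i L660463) q12365, e3 q14609 L660481 q14609, e3 q14610 L660486 q14610, e3 q14611 (flp_i L660487) q12369, e3 q14612 L660508 q14612, e3 q14613 L683141 q16838, e3 q14614 L683154 q16839, e3 q14615 (flp_i L660533) q12371, e3 q14616 (flp_i L660545) q12372, e3 q14617 L660572 q14617, e3 q14618 L660581 q14618, e3 q14619 (flp_i L660582) q12377, e3 q14620 L660605 q14620, e3 q14621 L660614 q14621, e3 q14622 L660625 q14622, e3 q14623 (flp_i L660630)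 q12383, e3 q14624 L660651 q14624, e3 q14625 L683219 q16844, e3 q14626 (flp_i L660667) q12386, e3 q14627 (flp_i L660677) q12388, e3 q14628 L660702 q14628, e3 q14629 (flp_i L660703) q12393, e3 q14630 (flp_i L660721) q12395, e3 q14631 L683273 q16848, e3 q14632 (flp_i L660743) q12397, e3 q14633 L660764 q14633, e3 q14634 L683298 q16850, e3 q14635 (flp_i L660779) q12399, e3 q14636 L660801 q14636, e3 q14637 (flp_i L660802) q12402, e3 q14638 L660824 q14638, e3 q14639 L660829 q14639, e3 q14640 (flp_i L660832) q12408, e3 q14641 L660859 q12504, e3 q14642 L683373 q16856, e3 q14643 L683397 q16858, e3 q14644 L683424 q16860, e3 q14645 (flp_i L660894) q12415, e3 q14646 L683434 q16861, e3 q14647 (flp_i L660921) q12416, e3 q14648 (flp_i L660932) q12418, e3 q14649 L660952 q12520, e3 q14650 L683484 q16865, e3 q14651 L683506 q16867, e3 q14652 (flp_i L660979) q12421, e3 q14653 L683531 q16869, e3 q14654 (flp_i L661002) q12422, e3 q14655 L683552 q16871, trivial⟩ (by decide +kernel)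

theorem ce_i_229 : ∀ r, r < 64 → sm gi (Qf (14656 + r)) = Qf (tab Gen.i (14656 + r)) :=
  edges_tab (sm gi) Qf (tab Gen.i) 14656 [(14656, 12423), (14657, 12425), (14658, 13335), (14659, 16874), (14660, 12427), (14661, 16876), (14662, 12429), (14663, 14663), (14664, 14664), (14665, 16879), (14666, 12434), (14667, 12552), (14668, 16882), (14669, 12554), (14670, 16885), (14671, 16887), (14672, 12439), (14673, 16889), (14674, 12440), (14675, 16891), (14676, 12441), (14677, 12443), (14678, 12459), (14679, 16895), (14680, 16898), (14681, 12446), (14682, 16901), (14683, 16903), (14684, 12447), (14685, 16905), (14686, 16907), (14687, 12449), (14688, 16909), (14689, 16911), (14690, 12451), (14691, 16914), (14692, 12452), (14693, 16892), (14694, 12454), (14695, 12455), (14696, 13303), (14697, 16919), (14698, 12457), (14699, 16893), (14700, 16923), (14701, 12460), (14702, 14702), (14703, 16926), (14704, 12462), (14705, 14705), (14706, 16929), (14707, 12465), (14708, 14708), (14709, 14709), (14710, 12468), (14711, 14711), (14712, 16935),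 (14713, 12471), (14714, 16936), (14715, 16937), (14716, 12472), (14717, 16938), (14718, 16940), (14719, 12474)]
    ⟨e3 q14656 (flp_i L661027) q12423, e3 q14657 (flp_i L661037) q12425, e3 q14658 L661059 q13335, e3 q14659 L683587 q16874, e3 q14660 (flp_i L661071) q12427, e3 q14661 L683608 q16876, e3 q14662 (flp_i L661085) q12429, e3 q14663 L661101 q14663, e3 q14664 L661109 q14664, e3 q14665 L683631 q16879, e3 q14666 (flp_i L661122) q12434, e3 q14667 L661144 q12552, e3 q14668 L683663 q16882, e3 q14669 L661165 q12554, e3 q14670 L683699 q16885, e3 q14671 L683721 q16887, e3 q14672 (flp_i L661192) q12439, e3 q14673 L683745 q16889, e3 q14674 (flp_i L661215) q12440, e3 q14675 L683765 q16891, e3 q14676 (flp_i L661238) q12441, e3 q14677 (flp_i L661248) q12443, e3 q14678 L661269 q12459, e3 q14679 L683806 q16895, e3 q14680 L683835 q16898, e3 q14681 (flp_i L661286) q12446, e3 q14682 L683867 q16901, e3 q14683 L683883 q16903, e3 q14684 (flp_i L661312) q12447, e3 q14685 L683897 q16905, e3 q14686 L683920 q16907, e3 q14687 (flp_i L661344) q12449,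 e3 q14688 L683938 q16909, e3 q14689 L683966 q16911, e3 q14690 (flp_i L661381) q12451, e3 q14691 L684002 q16914, e3 q14692 (flp_i L661395) q12452, e3 q14693 (flp_i L683786) q16892, e3 q14694 (flp_i L661409) q12454, e3 q14695 (flp_i L661422) q12455, e3 q14696 L661446 q13303, e3 q14697 L684055 q16919, e3 q14698 (flp_i L661456) q12457, e3 q14699 (flp_i L683797) q16893, e3 q14700 L684091 q16923, e3 q14701 (flp_i L661479) q12460, e3 q14702 L661495 q14702, e3 q14703 L684122 q16926, e3 q14704 (flp_i L661503) q12462, e3 q14705 L661513 q14705, e3 q14706 L684142 q16929, e3 q14707 (flp_i L661526) q12465, e3 q14708 L661543 q14708, e3 q14709 L661547 q14709, e3 q14710 (flp_i L661550) q12468, e3 q14711 L661571 q14711, e3 q14712 L684207 q16935, e3 q14713 (flp_i L661587) q12471, e3 q14714 L684224 q16936, e3 q14715 L684240 q16937, e3 q14716 (flp_i L661628) q12472, e3 q14717 L684258 q16938, e3 q14718 L684290 q16940, e3 q14719 (flp_i L661674) q12474, trivial⟩ (by decide +kernel)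

theorem ce_i_230 : ∀ r, r < 64 → sm gi (Qf (14720 + r)) = Qf (tab Gen.i (14720 + r)) :=
  edges_tab (sm gi) Qf (tab Gen.i) 14720 [(14720, 12475), (14721, 12477), (14722, 12479), (14723, 12482), (14724, 12484), (14725, 12485), (14726, 12488), (14727, 12487), (14728, 12659), (14729, 12660), (14730, 13379), (14731, 13521), (14732, 16943), (14733, 16945), (14734, 16946), (14735, 12501), (14736, 12502), (14737, 16689), (14738, 16950), (14739, 16953), (14740, 12505), (14741, 16955), (14742, 12506), (14743, 16956), (14744, 12507), (14745, 12509), (14746, 16947), (14747, 13522), (14748, 16961), (14749, 13519), (14750, 16964), (14751, 16966), (14752, 12514), (14753, 16968), (14754, 12515), (14755, 16970), (14756, 12516), (14757, 12518), (14758, 12533), (14759, 16974), (14760, 16977), (14761, 12521), (14762, 16980), (14763, 16982), (14764, 12522), (14765, 16985), (14766, 16987), (14767, 12524), (14768, 16989), (14769, 16991), (14770, 12526), (14771, 16993), (14772, 12527), (14773, 16971), (14774, 12529), (14775, 12530), (14776, 13477),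 (14777, 16972), (14778, 16999), (14779, 12534), (14780, 14780), (14781, 12536), (14782, 14782), (14783, 14783)]
    ⟨e3 q14720 (flp_i L661686) q12475, e3 q14721 (flp_i L661700) q12477, e3 q14722 (flp_i L661715) q12479, e3 q14723 (flp_i L661731) q12482, e3 q14724 (flp_i L661747) q12484, e3 q14725 (flp_i L661764) q12485, e3 q14726 L661796 q12488, e3 q14727 (flp_i L661798) q12487, e3 q14728 L661826 q12659, e3 q14729 L661833 q12660, e3 q14730 L661847 q13379, e3 q14731 L661866 q13521, e3 q14732 L684332 q16943, e3 q14733 L684355 q16945, e3 q14734 L684367 q16946, e3 q14735 (flp_i L661898) q12501, e3 q14736 (flp_i L661909) q12502, e3 q14737 (flp_i L681794) q16689, e3 q14738 L684404 q16950, e3 q14739 L684426 q16953, e3 q14740 (flp_i L661945) q12505, e3 q14741 L684446 q16955, e3 q14742 (flp_i L661961) q12506, e3 q14743 L684455 q16956, e3 q14744 (flp_i L661976) q12507, e3 q14745 (flp_i L661984) q12509, e3 q14746 (flp_i L684384) q16947, e3 q14747 L662010 q13522, e3 q14748 L684497 q16961, e3 q14749 L662037 q13519, e3 q14750 L684537 q16964,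 e3 q14751 L684559 q16966, e3 q14752 (flp_i L662064) q12514, e3 q14753 L684583 q16968, e3 q14754 (flp_i L662087) q12515, e3 q14755 L684603 q16970, e3 q14756 (flp_i L662110) q12516, e3 q14757 (flp_i L662120) q12518, e3 q14758 L662141 q12533, e3 q14759 L684646 q16974, e3 q14760 L684677 q16977, e3 q14761 (flp_i L662162) q12521, e3 q14762 L684709 q16980, e3 q14763 L684727 q16982, e3 q14764 (flp_i L662190) q12522, e3 q14765 L684757 q16985, e3 q14766 L684778 q16987, e3 q14767 (flp_i L662222) q12524, e3 q14768 L684796 q16989, e3 q14769 L684815 q16991, e3 q14770 (flp_i L662252) q12526, e3 q14771 L684838 q16993, e3 q14772 (flp_i L662268) q12527, e3 q14773 (flp_i L684624) q16971, e3 q14774 (flp_i L662284) q12529, e3 q14775 (flp_i L662293) q12530, e3 q14776 L662314 q13477, e3 q14777 (flp_i L684635) q16972, e3 q14778 L684890 q16999, e3 q14779 (flp_i L662331) q12534, e3 q14780 L662349 q14780, e3 q14781 (flp_i L662350) q12536, e3 q14782 L662366 q14782, e3 q14783 L662372 q14783, trivial⟩ (by decide +kernel)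

theorem ce_i_231 : ∀ r, r < 64 → sm gi (Qf (14784 + r)) = Qf (tab Gen.i (14784 + r)) :=
  edges_tab (sm gi) Qf (tab Gen.i) 14784 [(14784, 17006), (14785, 12540), (14786, 17008), (14787, 17009), (14788, 12541), (14789, 17012), (14790, 17014), (14791, 12543), (14792, 12544), (14793, 12546), (14794, 17015), (14795, 12548), (14796, 12550), (14797, 16223), (14798, 17018), (14799, 17021), (14800, 12553), (14801, 17023), (14802, 17026), (14803, 12555), (14804, 17029), (14805, 17031), (14806, 12556), (14807, 17035), (14808, 17037), (14809, 12558), (14810, 17039), (14811, 17041), (14812, 12560), (14813, 17044), (14814, 12561), (14815, 12583), (14816, 12563), (14817, 17048), (14818, 12564), (14819, 12589), (14820, 17051), (14821, 12566), (14822, 12592), (14823, 17056), (14824, 12569), (14825, 17059), (14826, 17061), (14827, 12570), (14828, 17065), (14829, 17068), (14830, 12572), (14831, 17071), (14832, 12573), (14833, 17032), (14834, 17075), (14835, 17077), (14836, 12575), (14837, 17080), (14838, 12576), (14839, 17038), (14840, 17082),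 (14841, 17084), (14842, 12578), (14843, 17087), (14844, 12579), (14845, 17042), (14846, 17091), (14847, 12581)]
    ⟨e3 q14784 L684958 q17006, e3 q14785 (flp_i L662385) q12540, e3 q14786 L684985 q17008, e3 q14787 L684999 q17009, e3 q14788 (flp_i L662417) q12541, e3 q14789 L685036 q17012, e3 q14790 L685056 q17014, e3 q14791 (flp_i L662452) q12543, e3 q14792 (flp_i L662464) q12544, e3 q14793 (flp_i L662476) q12546, e3 q14794 L685069 q17015, e3 q14795 (flp_i L662502) q12548, e3 q14796 (flp_i L662514) q12550, e3 q14797 (flp_i L676376) q16223, e3 q14798 L685104 q17018, e3 q14799 L685126 q17021, e3 q14800 (flp_i L662557) q12553, e3 q14801 L685142 q17023, e3 q14802 L685169 q17026, e3 q14803 (flp_i L662583) q12555, e3 q14804 L685197 q17029, e3 q14805 L685215 q17031, e3 q14806 (flp_i L662609) q12556, e3 q14807 L685253 q17035, e3 q14808 L685271 q17037, e3 q14809 (flp_i L662636) q12558, e3 q14810 L685286 q17039, e3 q14811 L685304 q17041, e3 q14812 (flp_i L662663) q12560, e3 q14813 L685335 q17044, e3 q14814 (flp_i L662678) q12561, e3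 q14815 L662689 q12583, e3 q14816 (flp_i L662691) q12563, e3 q14817 L685373 q17048, e3 q14818 (flp_i L662715) q12564, e3 q14819 L662737 q12589, e3 q14820 L685407 q17051, e3 q14821 (flp_i L662746) q12566, e3 q14822 L662759 q12592, e3 q14823 L685444 q17056, e3 q14824 (flp_i L662768) q12569, e3 q14825 L685467 q17059, e3 q14826 L685483 q17061, e3 q14827 (flp_i L662789) q12570, e3 q14828 L685509 q17065, e3 q14829 L685531 q17068, e3 q14830 (flp_i L662811) q12572, e3 q14831 L685553 q17071, e3 q14832 (flp_i L662825) q12573, e3 q14833 (flp_i L685227) q17032, e3 q14834 L685586 q17075, e3 q14835 L685602 q17077, e3 q14836 (flp_i L662852) q12575, e3 q14837 L685624 q17080, e3 q14838 (flp_i L662867) q12576, e3 q14839 (flp_i L685284) q17038, e3 q14840 L685639 q17082, e3 q14841 L685652 q17084, e3 q14842 (flp_i L662894) q12578, e3 q14843 L685674 q17087, e3 q14844 (flp_i L662907) q12579, e3 q14845 (flp_i L685326) q17042, e3 q14846 L685707 q17091, e3 q14847 (flp_i L662928) q12581, trivial⟩ (by decide +kernel)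

theorem ce_i_232 : ∀ r, r < 64 → sm gi (Qf (14848 + r)) = Qf (tab Gen.i (14848 + r)) :=
  edges_tab (sm gi) Qf (tab Gen.i) 14848 [(14848, 17045), (14849, 12584), (14850, 17096), (14851, 12585), (14852, 17046), (14853, 17100), (14854, 12587), (14855, 17049), (14856, 13400), (14857, 17104), (14858, 12590), (14859, 17052), (14860, 17053), (14861, 17109), (14862, 12593), (14863, 14863), (14864, 17112), (14865, 12596), (14866, 14866), (14867, 14867), (14868, 12599), (14869, 14869), (14870, 14870), (14871, 14871), (14872, 14872), (14873, 17122), (14874, 17123), (14875, 12605), (14876, 17127), (14877, 17129), (14878, 12607), (14879, 12608), (14880, 12702), (14881, 17133), (14882, 17135), (14883, 12610), (14884, 17138), (14885, 12611), (14886, 12708), (14887, 12709), (14888, 17142), (14889, 12615), (14890, 12712), (14891, 12618), (14892, 12714), (14893, 12715), (14894, 12716), (14895, 12717), (14896, 12718), (14897, 17131), (14898, 12624), (14899, 12625), (14900, 12628), (14901, 17148), (14902, 17124), (14903, 12627), (14904, 17149),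 (14905, 12632), (14906, 17151), (14907, 12633), (14908, 12721), (14909, 12635), (14910, 12722), (14911, 12723)]
    ⟨e3 q14848 (flp_i L685346) q17045, e3 q14849 (flp_i L662940) q12584, e3 q14850 L685745 q17096, e3 q14851 (flp_i L662963) q12585, e3 q14852 (flp_i L685357) q17046, e3 q14853 L685785 q17100, e3 q14854 (flp_i L662985) q12587, e3 q14855 (flp_i L685397) q17049, e3 q14856 L663009 q13400, e3 q14857 L685818 q17104, e3 q14858 (flp_i L663022) q12590, e3 q14859 (flp_i L685421) q17052, e3 q14860 (flp_i L685426) q17053, e3 q14861 L685852 q17109, e3 q14862 (flp_i L663047) q12593, e3 q14863 L663062 q14863, e3 q14864 L685872 q17112, e3 q14865 (flp_i L663069) q12596, e3 q14866 L663081 q14866, e3 q14867 L663086 q14867, e3 q14868 (flp_i L663087) q12599, e3 q14869 L663102 q14869, e3 q14870 L663108 q14870, e3 q14871 L663112 q14871, e3 q14872 L663124 q14872, e3 q14873 L685959 q17122, e3 q14874 L685968 q17123, e3 q14875 (flp_i L663146) q12605, e3 q14876 L686030 q17127, e3 q14877 L686045 q17129, e3 q14878 (flp_i L663176) q12607, e3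 q14879 (flp_i L663184) q12608, e3 q14880 L663205 q12702, e3 q14881 L686094 q17133, e3 q14882 L686111 q17135, e3 q14883 (flp_i L663228) q12610, e3 q14884 L686145 q17138, e3 q14885 (flp_i L663243) q12611, e3 q14886 L663262 q12708, e3 q14887 L663275 q12709, e3 q14888 L686192 q17142, e3 q14889 (flp_i L663289) q12615, e3 q14890 L663309 q12712, e3 q14891 (flp_i L663311) q12618, e3 q14892 L663329 q12714, e3 q14893 L663337 q12715, e3 q14894 L663353 q12716, e3 q14895 L663362 q12717, e3 q14896 L663371 q12718, e3 q14897 (flp_i L686079) q17131, e3 q14898 (flp_i L663387) q12624, e3 q14899 (flp_i L663401) q12625, e3 q14900 L663430 q12628, e3 q14901 L686259 q17148, e3 q14902 (flp_i L685997) q17124, e3 q14903 (flp_i L663460) q12627, e3 q14904 L686272 q17149, e3 q14905 (flp_i L663482) q12632, e3 q14906 L686301 q17151, e3 q14907 (flp_i L663506) q12633, e3 q14908 L663527 q12721, e3 q14909 (flp_i L663529) q12635, e3 q14910 L663552 q12722, e3 q14911 L663562 q12723, trivial⟩ (by decide +kernel)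

theorem ce_i_233 : ∀ r, r < 64 → sm gi (Qf (14912 + r)) = Qf (tab Gen.i (14912 + r)) :=
  edges_tab (sm gi) Qf (tab Gen.i) 14912 [(14912, 12639), (14913, 12725), (14914, 12726), (14915, 12727), (14916, 12728), (14917, 12729), (14918, 12673), (14919, 17156), (14920, 17157), (14921, 12649), (14922, 17158), (14923, 12651), (14924, 17159), (14925, 17161), (14926, 12662), (14927, 12664), (14928, 13558), (14929, 12719), (14930, 13560), (14931, 13561), (14932, 13562), (14933, 13563), (14934, 17165), (14935, 17167), (14936, 12674), (14937, 17170), (14938, 17171), (14939, 12675), (14940, 12677), (14941, 17174), (14942, 12678), (14943, 17177), (14944, 17179), (14945, 12680), (14946, 12681), (14947, 17180), (14948, 12683), (14949, 17181), (14950, 12685), (14951, 12687), (14952, 13532), (14953, 13533), (14954, 13535), (14955, 13536), (14956, 13537), (14957, 12699), (14958, 12698), (14959, 12695), (14960, 17162), (14961, 17163), (14962, 17130), (14963, 12703), (14964, 17136), (14965, 17187), (14966, 12706), (14967, 17139), (14968, 17140),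 (14969, 17141), (14970, 12710), (14971, 17143), (14972, 17144), (14973, 17145), (14974, 17146), (14975, 17147)]
    ⟨e3 q14912 (flp_i L663566) q12639, e3 q14913 L663583 q12725, e3 q14914 L663591 q12726, e3 q14915 L663601 q12727, e3 q14916 L663609 q12728, e3 q14917 L663616 q12729, e3 q14918 L663627 q12673, e3 q14919 L686365 q17156, e3 q14920 L686377 q17157, e3 q14921 (flp_i L663654) q12649, e3 q14922 L686389 q17158, e3 q14923 (flp_i L663678) q12651, e3 q14924 L686403 q17159, e3 q14925 L686434 q17161, e3 q14926 (flp_i L663720) q12662, e3 q14927 (flp_i L663733) q12664, e3 q14928 L663756 q13558, e3 q14929 L663771 q12719, e3 q14930 L663786 q13560, e3 q14931 L663802 q13561, e3 q14932 L663815 q13562, e3 q14933 L663831 q13563, e3 q14934 L686497 q17165, e3 q14935 L686520 q17167, e3 q14936 (flp_i L663860) q12674, e3 q14937 L686552 q17170, e3 q14938 L686559 q17171, e3 q14939 (flp_i L663888) q12675, e3 q14940 (flp_i L663896) q12677, e3 q14941 L686594 q17174, e3 q14942 (flp_i L663916) q12678, e3 q14943 L686638 q17177, e3 q14944 L686659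 q17179, e3 q14945 (flp_i L663954) q12680, e3 q14946 (flp_i L663966) q12681, e3 q14947 L686675 q17180, e3 q14948 (flp_i L663993) q12683, e3 q14949 L686689 q17181, e3 q14950 (flp_i L664019) q12685, e3 q14951 (flp_i L664030) q12687, e3 q14952 L664055 q13532, e3 q14953 L664069 q13533, e3 q14954 L664085 q13535, e3 q14955 L664102 q13536, e3 q14956 L664116 q13537, e3 q14957 (flp_i L664134) q12699, e3 q14958 (flp_i L664150) q12698, e3 q14959 (flp_i L664152) q12695, e3 q14960 (flp_i L686461) q17162, e3 q14961 (flp_i L686478) q17163, e3 q14962 (flp_i L686064) q17130, e3 q14963 (flp_i L664209) q12703, e3 q14964 (flp_i L686136) q17136, e3 q14965 L686767 q17187, e3 q14966 (flp_i L664243) q12706, e3 q14967 (flp_i L686165) q17139, e3 q14968 (flp_i L686175) q17140, e3 q14969 (flp_i L686188) q17141, e3 q14970 (flp_i L664294) q12710, e3 q14971 (flp_i L686214) q17143, e3 q14972 (flp_i L686223) q17144, e3 q14973 (flp_i L686238) q17145, e3 q14974 (flp_i L686246) q17146, e3 q14975 (flp_i L686256) q17147, trivial⟩ (by decide +kernel)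

theorem ce_i_234 : ∀ r, r < 64 → sm gi (Qf (14976 + r)) = Qf (tab Gen.i (14976 + r)) :=
  edges_tab (sm gi) Qf (tab Gen.i) 14976 [(14976, 17150), (14977, 17152), (14978, 17153), (14979, 17154), (14980, 13635), (14981, 17196), (14982, 12740), (14983, 12741), (14984, 17198), (14985, 12744), (14986, 17199), (14987, 12746), (14988, 12749), (14989, 12751), (14990, 12752), (14991, 12756), (14992, 17202), (14993, 12758), (14994, 17203), (14995, 12759), (14996, 17206), (14997, 17208), (14998, 12761), (14999, 17210), (15000, 12762), (15001, 17201), (15002, 12764), (15003, 13628), (15004, 12766), (15005, 16092), (15006, 12770), (15007, 12772), (15008, 12774), (15009, 17213), (15010, 17214), (15011, 12777), (15012, 17215), (15013, 12778), (15014, 17218), (15015, 12781), (15016, 12782), (15017, 12784), (15018, 17216), (15019, 16023), (15020, 17223), (15021, 17224), (15022, 12791), (15023, 12792), (15024, 17227), (15025, 12795), (15026, 17229), (15027, 12796), (15028, 12798), (15029, 16142), (15030, 17232), (15031, 12801), (15032, 17233),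 (15033, 17234), (15034, 12805), (15035, 12806), (15036, 12808), (15037, 13633), (15038, 17236), (15039, 12812)]
    ⟨e3 q14976 (flp_i L686299) q17150, e3 q14977 (flp_i L686326) q17152, e3 q14978 (flp_i L686339) q17153, e3 q14979 (flp_i L686348) q17154, e3 q14980 L664409 q13635, e3 q14981 L686858 q17196, e3 q14982 (flp_i L664428) q12740, e3 q14983 (flp_i L664444) q12741, e3 q14984 L686884 q17198, e3 q14985 (flp_i L664470) q12744, e3 q14986 L686898 q17199, e3 q14987 (flp_i L664499) q12746, e3 q14988 (flp_i L664507) q12749, e3 q14989 (flp_i L664522) q12751, e3 q14990 (flp_i L664538) q12752, e3 q14991 (flp_i L664554) q12756, e3 q14992 L686932 q17202, e3 q14993 (flp_i L664576) q12758, e3 q14994 L686942 q17203, e3 q14995 (flp_i L664601) q12759, e3 q14996 L686979 q17206, e3 q14997 L687004 q17208, e3 q14998 (flp_i L664634) q12761, e3 q14999 L687021 q17210, e3 q15000 (flp_i L664652) q12762, e3 q15001 (flp_i L686930) q17201, e3 q15002 (flp_i L664670) q12764, e3 q15003 (flp_i L664691) q13628, e3 q15004 (flp_i L664693) q12766, e3 q15005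 (flp_i L674639) q16092, e3 q15006 (flp_i L664716) q12770, e3 q15007 (flp_i L664723) q12772, e3 q15008 (flp_i L664736) q12774, e3 q15009 L687055 q17213, e3 q15010 L687071 q17214, e3 q15011 (flp_i L664778) q12777, e3 q15012 L687085 q17215, e3 q15013 (flp_i L664802) q12778, e3 q15014 L687119 q17218, e3 q15015 (flp_i L664820) q12781, e3 q15016 (flp_i L664834) q12782, e3 q15017 (flp_i L664846) q12784, e3 q15018 (flp_i L687107) q17216, e3 q15019 (flp_i L673632) q16023, e3 q15020 L687171 q17223, e3 q15021 L687186 q17224, e3 q15022 (flp_i L664901) q12791, e3 q15023 (flp_i L664916) q12792, e3 q15024 L687216 q17227, e3 q15025 (flp_i L664932) q12795, e3 q15026 L687236 q17229, e3 q15027 (flp_i L664958) q12796, e3 q15028 (flp_i L664966) q12798, e3 q15029 (flp_i L675365) q16142, e3 q15030 L687268 q17232, e3 q15031 (flp_i L664995) q12801, e3 q15032 L687283 q17233, e3 q15033 L687300 q17234, e3 q15034 (flp_i L665040) q12805, e3 q15035 (flp_i L665053) q12806, e3 q15036 (flp_i L665066) q12808, e3 q15037 L665092 q13633, e3 q15038 L687329 q17236,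 e3 q15039 (flp_i L665104) q12812, trivial⟩ (by decide +kernel)

theorem ce_i_235 : ∀ r, r < 64 → sm gi (Qf (15040 + r)) = Qf (tab Gen.i (15040 + r)) :=
  edges_tab (sm gi) Qf (tab Gen.i) 15040 [(15040, 12813), (15041, 17239), (15042, 12815), (15043, 12831), (15044, 17242), (15045, 17245), (15046, 12818), (15047, 17248), (15048, 17250), (15049, 12819), (15050, 17253), (15051, 12821), (15052, 17256), (15053, 17258), (15054, 12823), (15055, 17261), (15056, 12824), (15057, 17237), (15058, 17263), (15059, 12826), (15060, 17266), (15061, 12827), (15062, 16112), (15063, 17270), (15064, 12829), (15065, 17240), (15066, 17272), (15067, 12832), (15068, 17273), (15069, 12834), (15070, 12836), (15071, 12838), (15072, 17274), (15073, 12839), (15074, 17275), (15075, 17277), (15076, 12841), (15077, 12842), (15078, 17278), (15079, 12844), (15080, 12846), (15081, 13766), (15082, 13088), (15083, 13224), (15084, 17281), (15085, 12853), (15086, 17282), (15087, 12856), (15088, 12858), (15089, 13104), (15090, 13078), (15091, 13105), (15092, 13116),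 (15093, 17284), (15094, 12864), (15095, 15095), (15096, 12867), (15097, 15097), (15098, 15098), (15099, 17291), (15100, 17293), (15101, 17295), (15102, 12872), (15103, 17296)]
    ⟨e3 q15040 (flp_i L665116) q12813, e3 q15041 L687361 q17239, e3 q15042 (flp_i L665138) q12815, e3 q15043 L665154 q12831, e3 q15044 L687393 q17242, e3 q15045 L687429 q17245, e3 q15046 (flp_i L665178) q12818, e3 q15047 L687453 q17248, e3 q15048 L687473 q17250, e3 q15049 (flp_i L665202) q12819, e3 q15050 L687501 q17253, e3 q15051 (flp_i L665222) q12821, e3 q15052 L687538 q17256, e3 q15053 L687557 q17258, e3 q15054 (flp_i L665253) q12823, e3 q15055 L687584 q17261, e3 q15056 (flp_i L665271) q12824, e3 q15057 (flp_i L687349) q17237, e3 q15058 L687606 q17263, e3 q15059 (flp_i L665296) q12826, e3 q15060 L687626 q17266, e3 q15061 (flp_i L665309) q12827, e3 q15062 (flp_i L674947) q16112, e3 q15063 L687653 q17270, e3 q15064 (flp_i L665326) q12829, e3 q15065 (flp_i L687381) q17240, e3 q15066 L687667 q17272, e3 q15067 (flp_i L665351) q12832, e3 q15068 L687678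 q17273, e3 q15069 (flp_i L665371) q12834, e3 q15070 (flp_i L665380) q12836, e3 q15071 (flp_i L665393) q12838, e3 q15072 L687691 q17274, e3 q15073 (flp_i L665411) q12839, e3 q15074 L687699 q17275, e3 q15075 L687724 q17277, e3 q15076 (flp_i L665446) q12841, e3 q15077 (flp_i L665452) q12842, e3 q15078 L687739 q17278, e3 q15079 (flp_i L665474) q12844, e3 q15080 (flp_i L665481) q12846, e3 q15081 L665497 q13766, e3 q15082 L665510 q13088, e3 q15083 L665516 q13224, e3 q15084 L687767 q17281, e3 q15085 (flp_i L665531) q12853, e3 q15086 L687782 q17282, e3 q15087 (flp_i L665553) q12856, e3 q15088 (flp_i L665562) q12858, e3 q15089 L665581 q13104, e3 q15090 L665593 q13078, e3 q15091 L665603 q13105, e3 q15092 L665614 q13116, e3 q15093 L687804 q17284, e3 q15094 (flp_i L665630) q12864, e3 q15095 L665650 q15095, e3 q15096 (flp_i L665651) q12867, e3 q15097 L665673 q15097, e3 q15098 L665679 q15098, e3 q15099 L687882 q17291, e3 q15100 L687909 q17293, e3 q15101 L687934 q17295, e3 q15102 (flp_i L665718) q12872, e3 q15103 L687944 q17296, trivial⟩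 (by decide +kernel)

theorem ce_i_236 : ∀ r, r < 64 → sm gi (Qf (15104 + r)) = Qf (tab Gen.i (15104 + r)) :=
  edges_tab (sm gi) Qf (tab Gen.i) 15104 [(15104, 12873), (15105, 12874), (15106, 12887), (15107, 17299), (15108, 12878), (15109, 17302), (15110, 17303), (15111, 12879), (15112, 17306), (15113, 12881), (15114, 17309), (15115, 12883), (15116, 17297), (15117, 17311), (15118, 12885), (15119, 17103), (15120, 17315), (15121, 12889), (15122, 15122), (15123, 17318), (15124, 12891), (15125, 15125), (15126, 17320), (15127, 12893), (15128, 15128), (15129, 12896), (15130, 15130), (15131, 15131), (15132, 17326), (15133, 12899), (15134, 15134), (15135, 17329), (15136, 12902), (15137, 15137), (15138, 12905), (15139, 15139), (15140, 15140), (15141, 15141), (15142, 15142), (15143, 15143), (15144, 17333), (15145, 12912), (15146, 17335), (15147, 17337), (15148, 12915), (15149, 17338), (15150, 12916), (15151, 12917), (15152, 16917), (15153, 17342), (15154, 12921), (15155, 17344), (15156, 12922), (15157, 17345), (15158, 12923), (15159,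 12925), (15160, 12940), (15161, 17349), (15162, 17352), (15163, 12928), (15164, 17355), (15165, 17357), (15166, 12929), (15167, 17361)]
    ⟨e3 q15104 (flp_i L665742) q12873, e3 q15105 (flp_i L665756) q12874, e3 q15106 L665779 q12887, e3 q15107 L687981 q17299, e3 q15108 (flp_i L665791) q12878, e3 q15109 L688009 q17302, e3 q15110 L688019 q17303, e3 q15111 (flp_i L665821) q12879, e3 q15112 L688050 q17306, e3 q15113 (flp_i L665842) q12881, e3 q15114 L688090 q17309, e3 q15115 (flp_i L665865) q12883, e3 q15116 (flp_i L687969) q17297, e3 q15117 L688112 q17311, e3 q15118 (flp_i L665904) q12885, e3 q15119 (flp_i L685816) q17103, e3 q15120 L688156 q17315, e3 q15121 (flp_i L665931) q12889, e3 q15122 L665949 q15122, e3 q15123 L688185 q17318, e3 q15124 (flp_i L665960) q12891, e3 q15125 L665984 q15125, e3 q15126 L688208 q17320, e3 q15127 (flp_i L665996) q12893, e3 q15128 L666016 q15128, e3 q15129 (flp_i L666017) q12896, e3 q15130 L666037 q15130, e3 q15131 L666043 q15131, e3 q15132 L688268 q17326, e3 q15133 (flp_i L666056) q12899, e3 q15134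 L666071 q15134, e3 q15135 L688300 q17329, e3 q15136 (flp_i L666081) q12902, e3 q15137 L666100 q15137, e3 q15138 (flp_i L666101) q12905, e3 q15139 L666116 q15139, e3 q15140 L666124 q15140, e3 q15141 L666137 q15141, e3 q15142 L666143 q15142, e3 q15143 L666156 q15143, e3 q15144 L688341 q17333, e3 q15145 (flp_i L666171) q12912, e3 q15146 L688369 q17335, e3 q15147 L688392 q17337, e3 q15148 (flp_i L666208) q12915, e3 q15149 L688402 q17338, e3 q15150 (flp_i L666232) q12916, e3 q15151 (flp_i L666246) q12917, e3 q15152 (flp_i L684042) q16917, e3 q15153 L688442 q17342, e3 q15154 (flp_i L666277) q12921, e3 q15155 L688462 q17344, e3 q15156 (flp_i L666299) q12922, e3 q15157 L688475 q17345, e3 q15158 (flp_i L666322) q12923, e3 q15159 (flp_i L666330) q12925, e3 q15160 L666345 q12940, e3 q15161 L688510 q17349, e3 q15162 L688537 q17352, e3 q15163 (flp_i L666364) q12928, e3 q15164 L688561 q17355, e3 q15165 L688579 q17357, e3 q15166 (flp_i L666388) q12929, e3 q15167 L688612 q17361, trivial⟩ (by decide +kernel)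

theorem ce_i_237 : ∀ r, r < 64 → sm gi (Qf (15168 + r)) = Qf (tab Gen.i (15168 + r)) :=
  edges_tab (sm gi) Qf (tab Gen.i) 15168 [(15168, 17363), (15169, 12931), (15170, 17365), (15171, 17367), (15172, 12933), (15173, 17369), (15174, 12934), (15175, 17346), (15176, 12936), (15177, 12937), (15178, 17347), (15179, 16916), (15180, 17374), (15181, 12941), (15182, 12943), (15183, 17376), (15184, 12945), (15185, 17379), (15186, 17380), (15187, 12946), (15188, 17384), (15189, 17386), (15190, 12948), (15191, 12949), (15192, 15192), (15193, 17390), (15194, 12951), (15195, 15195), (15196, 17392), (15197, 12953), (15198, 15198), (15199, 12956), (15200, 15200), (15201, 15201), (15202, 17400), (15203, 12959), (15204, 17402), (15205, 17405), (15206, 12961), (15207, 17408), (15208, 17410), (15209, 12962), (15210, 17413), (15211, 12964), (15212, 17416), (15213, 17418), (15214, 12966), (15215, 17421), (15216, 12967), (15217, 12989), (15218, 17423), (15219, 12969), (15220, 12970), (15221, 12995), (15222, 17428), (15223, 12972), (15224, 12998),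 (15225, 17432), (15226, 12975), (15227, 17435), (15228, 17437), (15229, 12976), (15230, 17441), (15231, 17444)]
    ⟨e3 q15168 L688635 q17363, e3 q15169 (flp_i L666418) q12931, e3 q15170 L688657 q17365, e3 q15171 L688672 q17367, e3 q15172 (flp_i L666442) q12933, e3 q15173 L688691 q17369, e3 q15174 (flp_i L666460) q12934, e3 q15175 (flp_i L688492) q17346, e3 q15176 (flp_i L666480) q12936, e3 q15177 (flp_i L666489) q12937, e3 q15178 (flp_i L688501) q17347, e3 q15179 (flp_i L684027) q16916, e3 q15180 L688738 q17374, e3 q15181 (flp_i L666530) q12941, e3 q15182 (flp_i L666544) q12943, e3 q15183 L688765 q17376, e3 q15184 (flp_i L666568) q12945, e3 q15185 L688799 q17379, e3 q15186 L688809 q17380, e3 q15187 (flp_i L666600) q12946, e3 q15188 L688854 q17384, e3 q15189 L688872 q17386, e3 q15190 (flp_i L666629) q12948, e3 q15191 (flp_i L666637) q12949, e3 q15192 L666658 q15192, e3 q15193 L688913 q17390, e3 q15194 (flp_i L666667) q12951, e3 q15195 L666688 q15195, e3 q15196 L688933 q17392, e3 q15197 (flp_i L666698) q12953, e3 q15198 L666715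 q15198, e3 q15199 (flp_i L666716) q12956, e3 q15200 L666736 q15200, e3 q15201 L666742 q15201, e3 q15202 L689011 q17400, e3 q15203 (flp_i L666755) q12959, e3 q15204 L689030 q17402, e3 q15205 L689061 q17405, e3 q15206 (flp_i L666786) q12961, e3 q15207 L689086 q17408, e3 q15208 L689105 q17410, e3 q15209 (flp_i L666810) q12962, e3 q15210 L689131 q17413, e3 q15211 (flp_i L666828) q12964, e3 q15212 L689168 q17416, e3 q15213 L689187 q17418, e3 q15214 (flp_i L666860) q12966, e3 q15215 L689219 q17421, e3 q15216 (flp_i L666877) q12967, e3 q15217 L666895 q12989, e3 q15218 L689241 q17423, e3 q15219 (flp_i L666912) q12969, e3 q15220 (flp_i L666920) q12970, e3 q15221 L666932 q12995, e3 q15222 L689291 q17428, e3 q15223 (flp_i L666944) q12972, e3 q15224 L666962 q12998, e3 q15225 L689325 q17432, e3 q15226 (flp_i L666971) q12975, e3 q15227 L689350 q17435, e3 q15228 L689372 q17437, e3 q15229 (flp_i L666994) q12976, e3 q15230 L689402 q17441, e3 q15231 L689422 q17444, trivial⟩ (by decide +kernel)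

theorem ce_i_238 : ∀ r, r < 64 → sm gi (Qf (15232 + r)) = Qf (tab Gen.i (15232 + r)) :=
  edges_tab (sm gi) Qf (tab Gen.i) 15232 [(15232, 12978), (15233, 17447), (15234, 12979), (15235, 17411), (15236, 17451), (15237, 17453), (15238, 12981), (15239, 17455), (15240, 12982), (15241, 17414), (15242, 17458), (15243, 17460), (15244, 12984), (15245, 17463), (15246, 12985), (15247, 17419), (15248, 17467), (15249, 12987), (15250, 17422), (15251, 17469), (15252, 12990), (15253, 17472), (15254, 12991), (15255, 17424), (15256, 17476), (15257, 12993), (15258, 17425), (15259, 17426), (15260, 17480), (15261, 12996), (15262, 17429), (15263, 12999), (15264, 17482), (15265, 13001), (15266, 13003), (15267, 17483), (15268, 13006), (15269, 17485), (15270, 17487), (15271, 13008), (15272, 13009), (15273, 15273), (15274, 17490), (15275, 17492), (15276, 13011), (15277, 17495), (15278, 13012), (15279, 15279), (15280, 15280), (15281, 17498), (15282, 13016), (15283, 15283), (15284, 13019), (15285, 15285), (15286, 15286), (15287, 15287), (15288, 15288),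 (15289, 15289), (15290, 15290), (15291, 13026), (15292, 13027), (15293, 15293), (15294, 15294), (15295, 13031)]
    ⟨e3 q15232 (flp_i L667016) q12978, e3 q15233 L689440 q17447, e3 q15234 (flp_i L667030) q12979, e3 q15235 (flp_i L689117) q17411, e3 q15236 L689475 q17451, e3 q15237 L689495 q17453, e3 q15238 (flp_i L667061) q12981, e3 q15239 L689512 q17455, e3 q15240 (flp_i L667080) q12982, e3 q15241 (flp_i L689150) q17414, e3 q15242 L689546 q17458, e3 q15243 L689563 q17460, e3 q15244 (flp_i L667115) q12984, e3 q15245 L689589 q17463, e3 q15246 (flp_i L667130) q12985, e3 q15247 (flp_i L689205) q17419, e3 q15248 L689618 q17467, e3 q15249 (flp_i L667153) q12987, e3 q15250 (flp_i L689239) q17422, e3 q15251 L689634 q17469, e3 q15252 (flp_i L667183) q12990, e3 q15253 L689668 q17472, e3 q15254 (flp_i L667206) q12991, e3 q15255 (flp_i L689263) q17424, e3 q15256 L689704 q17476, e3 q15257 (flp_i L667228) q12993, e3 q15258 (flp_i L689272) q17425, e3 q15259 (flp_i L689277) q17426, e3 q15260 L689727 q17480, e3 q15261 (flp_i L667255) q12996,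 e3 q15262 (flp_i L689310) q17429, e3 q15263 (flp_i L667270) q12999, e3 q15264 L689742 q17482, e3 q15265 (flp_i L667290) q13001, e3 q15266 (flp_i L667299) q13003, e3 q15267 L689751 q17483, e3 q15268 (flp_i L667315) q13006, e3 q15269 L689768 q17485, e3 q15270 L689783 q17487, e3 q15271 (flp_i L667341) q13008, e3 q15272 (flp_i L667349) q13009, e3 q15273 L667366 q15273, e3 q15274 L689811 q17490, e3 q15275 L689824 q17492, e3 q15276 (flp_i L667382) q13011, e3 q15277 L689846 q17495, e3 q15278 (flp_i L667393) q13012, e3 q15279 L667406 q15279, e3 q15280 L667414 q15280, e3 q15281 L689864 q17498, e3 q15282 (flp_i L667424) q13016, e3 q15283 L667442 q15283, e3 q15284 (flp_i L667443) q13019, e3 q15285 L667461 q15285, e3 q15286 L667466 q15286, e3 q15287 L667475 q15287, e3 q15288 L667481 q15288, e3 q15289 L667485 q15289, e3 q15290 L667495 q15290, e3 q15291 (flp_i L667496) q13026, e3 q15292 (flp_i L667506) q13027, e3 q15293 L667529 q15293, e3 q15294 L667538 q15294, e3 q15295 (flp_i L667539) q13031, trivial⟩ (by decide +kernel)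

theorem ce_i_239 : ∀ r, r < 64 → sm gi (Qf (15296 + r)) = Qf (tab Gen.i (15296 + r)) :=
  edges_tab (sm gi) Qf (tab Gen.i) 15296 [(15296, 13032), (15297, 15297), (15298, 13034), (15299, 15299), (15300, 15300), (15301, 13038), (15302, 15302), (15303, 15303), (15304, 15304), (15305, 17510), (15306, 13047), (15307, 17511), (15308, 13048), (15309, 17512), (15310, 13049), (15311, 17514), (15312, 13053), (15313, 15313), (15314, 17516), (15315, 13056), (15316, 13058), (15317, 17519), (15318, 13060), (15319, 13061), (15320, 17517), (15321, 15321), (15322, 17523), (15323, 13068), (15324, 17525), (15325, 13070), (15326, 13071), (15327, 13072), (15328, 13074), (15329, 17524), (15330, 17283), (15331, 13079), (15332, 15332), (15333, 15333), (15334, 17530), (15335, 13085), (15336, 13099), (15337, 17279), (15338, 17532), (15339, 17533), (15340, 13089), (15341, 17535), (15342, 13092), (15343, 17211), (15344, 17537), (15345, 17538), (15346, 13094), (15347, 17540), (15348, 13095), (15349, 17531), (15350, 17543), (15351, 13097), (15352, 17204),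 (15353, 13631), (15354, 13100), (15355, 13106), (15356, 13107), (15357, 15357), (15358, 13110), (15359, 15359)]
    ⟨e3 q15296 (flp_i L667548) q13032, e3 q15297 L667561 q15297, e3 q15298 (flp_i L667562) q13034, e3 q15299 L667586 q15299, e3 q15300 L667594 q15300, e3 q15301 (flp_i L667599) q13038, e3 q15302 L667620 q15302, e3 q15303 L667629 q15303, e3 q15304 L667638 q15304, e3 q15305 L689979 q17510, e3 q15306 (flp_i L667657) q13047, e3 q15307 L689993 q17511, e3 q15308 (flp_i L667686) q13048, e3 q15309 L690007 q17512, e3 q15310 (flp_i L667710) q13049, e3 q15311 L690025 q17514, e3 q15312 (flp_i L667725) q13053, e3 q15313 L667744 q15313, e3 q15314 L690043 q17516, e3 q15315 (flp_i L667752) q13056, e3 q15316 (flp_i L667758) q13058, e3 q15317 L690064 q17519, e3 q15318 (flp_i L667771) q13060, e3 q15319 (flp_i L667779) q13061, e3 q15320 (flp_i L690056) q17517, e3 q15321 L667802 q15321, e3 q15322 L690094 q17523, e3 q15323 (flp_i L667812) q13068, e3 q15324 L690111 q17525, e3 q15325 (flp_i L667826) q13070, e3 q15326 (flp_i L667835) q13071,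 e3 q15327 (flp_i L667851) q13072, e3 q15328 (flp_i L667859) q13074, e3 q15329 (flp_i L690109) q17524, e3 q15330 (flp_i L687802) q17283, e3 q15331 (flp_i L667885) q13079, e3 q15332 L667903 q15332, e3 q15333 L667914 q15333, e3 q15334 L690152 q17530, e3 q15335 (flp_i L667922) q13085, e3 q15336 L667933 q13099, e3 q15337 (flp_i L687759) q17279, e3 q15338 L690167 q17532, e3 q15339 L690175 q17533, e3 q15340 (flp_i L667955) q13089, e3 q15341 L690184 q17535, e3 q15342 (flp_i L667967) q13092, e3 q15343 (flp_i L687041) q17211, e3 q15344 L690198 q17537, e3 q15345 L690206 q17538, e3 q15346 (flp_i L667993) q13094, e3 q15347 L690222 q17540, e3 q15348 (flp_i L668009) q13095, e3 q15349 (flp_i L690165) q17531, e3 q15350 L690246 q17543, e3 q15351 (flp_i L668029) q13097, e3 q15352 (flp_i L686964) q17204, e3 q15353 (flp_i L668053) q13631, e3 q15354 (flp_i L668055) q13100, e3 q15355 (flp_i L668067) q13106, e3 q15356 (flp_i L668073) q13107, e3 q15357 L668092 q15357, e3 q15358 (flp_i L668093) q13110, e3 q15359 L668111 q15359, trivial⟩ (by decide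 +kernel)

theorem ce_i_240 : ∀ r, r < 64 → sm gi (Qf (15360 + r)) = Qf (tab Gen.i (15360 + r)) :=
  edges_tab (sm gi) Qf (tab Gen.i) 15360 [(15360, 13113), (15361, 15361), (15362, 15362), (15363, 15363), (15364, 13119), (15365, 13121), (15366, 15366), (15367, 15367), (15368, 17554), (15369, 17555), (15370, 13128), (15371, 13129), (15372, 17558), (15373, 17561), (15374, 13132), (15375, 17562), (15376, 13133), (15377, 17563), (15378, 13134), (15379, 13136), (15380, 17556), (15381, 13140), (15382, 17567), (15383, 13141), (15384, 17569), (15385, 13144), (15386, 15386), (15387, 17571), (15388, 13146), (15389, 15389), (15390, 17576), (15391, 13149), (15392, 17577), (15393, 13150), (15394, 17579), (15395, 13152), (15396, 13153), (15397, 13168), (15398, 17583), (15399, 13156), (15400, 17585), (15401, 17587), (15402, 13157), (15403, 13159), (15404, 17591), (15405, 13161), (15406, 17593), (15407, 13162), (15408, 17578), (15409, 17595), (15410, 17596), (15411, 13164), (15412, 13165), (15413, 17580), (15414, 17581), (15415, 13170), (15416,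 17601), (15417, 13173), (15418, 13174), (15419, 15419), (15420, 15420), (15421, 13178), (15422, 15422), (15423, 15423)]
    ⟨e3 q15360 (flp_i L668112) q13113, e3 q15361 L668132 q15361, e3 q15362 L668137 q15362, e3 q15363 L668147 q15363, e3 q15364 (flp_i L668150) q13119, e3 q15365 (flp_i L668160) q13121, e3 q15366 L668177 q15366, e3 q15367 L668187 q15367, e3 q15368 L690345 q17554, e3 q15369 L690360 q17555, e3 q15370 (flp_i L668215) q13128, e3 q15371 (flp_i L668230) q13129, e3 q15372 L690394 q17558, e3 q15373 L690424 q17561, e3 q15374 (flp_i L668256) q13132, e3 q15375 L690432 q17562, e3 q15376 (flp_i L668282) q13133, e3 q15377 L690446 q17563, e3 q15378 (flp_i L668306) q13134, e3 q15379 (flp_i L668314) q13136, e3 q15380 (flp_i L690380) q17556, e3 q15381 (flp_i L668328) q13140, e3 q15382 L690476 q17567, e3 q15383 (flp_i L668348) q13141, e3 q15384 L690494 q17569, e3 q15385 (flp_i L668364) q13144, e3 q15386 L668383 q15386, e3 q15387 L690512 q17571, e3 q15388 (flp_i L668391) q13146, e3 q15389 L668404 q15389, e3 q15390 L690553 q17576,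 e3 q15391 (flp_i L668411) q13149, e3 q15392 L690559 q17577, e3 q15393 (flp_i L668425) q13150, e3 q15394 L690574 q17579, e3 q15395 (flp_i L668436) q13152, e3 q15396 (flp_i L668441) q13153, e3 q15397 L668453 q13168, e3 q15398 L690599 q17583, e3 q15399 (flp_i L668461) q13156, e3 q15400 L690611 q17585, e3 q15401 L690627 q17587, e3 q15402 (flp_i L668483) q13157, e3 q15403 (flp_i L668489) q13159, e3 q15404 L690650 q17591, e3 q15405 (flp_i L668502) q13161, e3 q15406 L690665 q17593, e3 q15407 (flp_i L668516) q13162, e3 q15408 (flp_i L690572) q17578, e3 q15409 L690681 q17595, e3 q15410 L690687 q17596, e3 q15411 (flp_i L668543) q13164, e3 q15412 (flp_i L668549) q13165, e3 q15413 (flp_i L690583) q17580, e3 q15414 (flp_i L690591) q17581, e3 q15415 (flp_i L668566) q13170, e3 q15416 L690717 q17601, e3 q15417 (flp_i L668581) q13173, e3 q15418 (flp_i L668587) q13174, e3 q15419 L668604 q15419, e3 q15420 L668612 q15420, e3 q15421 (flp_i L668613) q13178, e3 q15422 L668627 q15422, e3 q15423 L668630 q15423, trivial⟩ (by decide +kernel)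

theorem ce_i_241 : ∀ r, r < 64 → sm gi (Qf (15424 + r)) = Qf (tab Gen.i (15424 + r)) :=
  edges_tab (sm gi) Qf (tab Gen.i) 15424 [(15424, 15424), (15425, 15425), (15426, 15426), (15427, 15427), (15428, 17610), (15429, 13188), (15430, 17611), (15431, 13189), (15432, 17613), (15433, 13191), (15434, 13203), (15435, 17616), (15436, 17618), (15437, 13194), (15438, 17620), (15439, 17621), (15440, 13195), (15441, 13197), (15442, 13199), (15443, 17612), (15444, 17625), (15445, 13201), (15446, 17614), (15447, 17628), (15448, 13204), (15449, 13205), (15450, 13207), (15451, 13208), (15452, 15452), (15453, 15453), (15454, 15454), (15455, 13213), (15456, 15456), (15457, 15457), (15458, 17638), (15459, 17639), (15460, 13217), (15461, 17641), (15462, 13219), (15463, 13240), (15464, 17643), (15465, 13221), (15466, 17221), (15467, 13222), (15468, 13246), (15469, 17280), (15470, 13249), (15471, 17649), (15472, 13227), (15473, 17652), (15474, 17653), (15475, 13228), (15476, 17657), (15477, 17660), (15478, 13230), (15479, 17663), (15480, 13231),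 (15481, 17640), (15482, 17665), (15483, 13233), (15484, 17262), (15485, 17667), (15486, 17669), (15487, 13235)]
    ⟨e3 q15424 L668639 q15424, e3 q15425 L668646 q15425, e3 q15426 L668651 q15426, e3 q15427 L668657 q15427, e3 q15428 L690784 q17610, e3 q15429 (flp_i L668667) q13188, e3 q15430 L690792 q17611, e3 q15431 (flp_i L668683) q13189, e3 q15432 L690809 q17613, e3 q15433 (flp_i L668696) q13191, e3 q15434 L668707 q13203, e3 q15435 L690828 q17616, e3 q15436 L690846 q17618, e3 q15437 (flp_i L668727) q13194, e3 q15438 L690862 q17620, e3 q15439 L690872 q17621, e3 q15440 (flp_i L668753) q13195, e3 q15441 (flp_i L668761) q13197, e3 q15442 (flp_i L668769) q13199, e3 q15443 (flp_i L690807) q17612, e3 q15444 L690900 q17625, e3 q15445 (flp_i L668791) q13201, e3 q15446 (flp_i L690820) q17614, e3 q15447 L690918 q17628, e3 q15448 (flp_i L668811) q13204, e3 q15449 (flp_i L668820) q13205, e3 q15450 (flp_i L668831) q13207, e3 q15451 (flp_i L668839) q13208, e3 q15452 L668857 q15452, e3 q15453 L668867 q15453, e3 q15454 L668878 q15454, e3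 q15455 (flp_i L668879) q13213, e3 q15456 L668895 q15456, e3 q15457 L668900 q15457, e3 q15458 L690998 q17638, e3 q15459 L691005 q17639, e3 q15460 (flp_i L668912) q13217, e3 q15461 L691015 q17641, e3 q15462 (flp_i L668925) q13219, e3 q15463 L668936 q13240, e3 q15464 L691030 q17643, e3 q15465 (flp_i L668944) q13221, e3 q15466 (flp_i L687155) q17221, e3 q15467 (flp_i L668955) q13222, e3 q15468 L668965 q13246, e3 q15469 (flp_i L687765) q17280, e3 q15470 L668977 q13249, e3 q15471 L691067 q17649, e3 q15472 (flp_i L668983) q13227, e3 q15473 L691087 q17652, e3 q15474 L691097 q17653, e3 q15475 (flp_i L669005) q13228, e3 q15476 L691121 q17657, e3 q15477 L691141 q17660, e3 q15478 (flp_i L669023) q13230, e3 q15479 L691159 q17663, e3 q15480 (flp_i L669037) q13231, e3 q15481 (flp_i L691013) q17640, e3 q15482 L691171 q17665, e3 q15483 (flp_i L669053) q13233, e3 q15484 (flp_i L687604) q17262, e3 q15485 L691185 q17667, e3 q15486 L691199 q17669, e3 q15487 (flp_i L669079) q13235, trivial⟩ (by decide +kernel)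

theorem ce_i_242 : ∀ r, r < 64 → sm gi (Qf (15488 + r)) = Qf (tab Gen.i (15488 + r)) :=
  edges_tab (sm gi) Qf (tab Gen.i) 15488 [(15488, 17672), (15489, 13236), (15490, 17642), (15491, 17676), (15492, 13238), (15493, 17254), (15494, 17678), (15495, 13241), (15496, 17680), (15497, 13242), (15498, 17644), (15499, 17683), (15500, 13244), (15501, 17645), (15502, 17646), (15503, 17687), (15504, 13247), (15505, 17268), (15506, 17689), (15507, 13250), (15508, 13252), (15509, 17690), (15510, 13255), (15511, 17692), (15512, 13257), (15513, 13258), (15514, 15514), (15515, 17694), (15516, 17696), (15517, 13260), (15518, 17699), (15519, 13261), (15520, 15520), (15521, 15521), (15522, 13265), (15523, 15523), (15524, 13268), (15525, 15525), (15526, 15526), (15527, 15527), (15528, 15528), (15529, 15529), (15530, 15530), (15531, 17711), (15532, 17712), (15533, 13275), (15534, 13276), (15535, 15535), (15536, 17714), (15537, 13280), (15538, 17716), (15539, 13281), (15540, 15540), (15541, 13283), (15542, 15542), (15543, 13287), (15544, 15544),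 (15545, 15545), (15546, 15546), (15547, 15547), (15548, 15548), (15549, 15549), (15550, 15550), (15551, 15551)]
    ⟨e3 q15488 L691223 q17672, e3 q15489 (flp_i L669093) q13236, e3 q15490 (flp_i L691028) q17642, e3 q15491 L691251 q17676, e3 q15492 (flp_i L669115) q13238, e3 q15493 (flp_i L687523) q17254, e3 q15494 L691263 q17678, e3 q15495 (flp_i L669133) q13241, e3 q15496 L691275 q17680, e3 q15497 (flp_i L669145) q13242, e3 q15498 (flp_i L691040) q17644, e3 q15499 L691295 q17683, e3 q15500 (flp_i L669163) q13244, e3 q15501 (flp_i L691048) q17645, e3 q15502 (flp_i L691052) q17646, e3 q15503 L691317 q17687, e3 q15504 (flp_i L669185) q13247, e3 q15505 (flp_i L687643) q17268, e3 q15506 L691329 q17689, e3 q15507 (flp_i L669205) q13250, e3 q15508 (flp_i L669215) q13252, e3 q15509 L691341 q17690, e3 q15510 (flp_i L669232) q13255, e3 q15511 L691358 q17692, e3 q15512 (flp_i L669249) q13257, e3 q15513 (flp_i L669257) q13258, e3 q15514 L669277 q15514, e3 q15515 L691377 q17694, e3 q15516 L691391 q17696, e3 q15517 (flp_i L669294) q13260,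 e3 q15518 L691417 q17699, e3 q15519 (flp_i L669308) q13261, e3 q15520 L669322 q15520, e3 q15521 L669331 q15521, e3 q15522 (flp_i L669332) q13265, e3 q15523 L669350 q15523, e3 q15524 (flp_i L669351) q13268, e3 q15525 L669371 q15525, e3 q15526 L669376 q15526, e3 q15527 L669385 q15527, e3 q15528 L669390 q15528, e3 q15529 L669393 q15529, e3 q15530 L669405 q15530, e3 q15531 L691502 q17711, e3 q15532 L691511 q17712, e3 q15533 (flp_i L669425) q13275, e3 q15534 (flp_i L669433) q13276, e3 q15535 L669455 q15535, e3 q15536 L691532 q17714, e3 q15537 (flp_i L669464) q13280, e3 q15538 L691549 q17716, e3 q15539 (flp_i L669485) q13281, e3 q15540 L669499 q15540, e3 q15541 (flp_i L669500) q13283, e3 q15542 L669526 q15542, e3 q15543 (flp_i L669527) q13287, e3 q15544 L669544 q15544, e3 q15545 L669554 q15545, e3 q15546 L669561 q15546, e3 q15547 L669567 q15547, e3 q15548 L669575 q15548, e3 q15549 L669578 q15549, e3 q15550 L669583 q15550, e3 q15551 L669595 q15551, trivial⟩ (by decide +kernel)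

theorem ce_i_243 : ∀ r, r < 64 → sm gi (Qf (15552 + r)) = Qf (tab Gen.i (15552 + r)) :=
  edges_tab (sm gi) Qf (tab Gen.i) 15552 [(15552, 17723), (15553, 17725), (15554, 13297), (15555, 17726), (15556, 13298), (15557, 13300), (15558, 16912), (15559, 13304), (15560, 17730), (15561, 13306), (15562, 17732), (15563, 17734), (15564, 13308), (15565, 17736), (15566, 13309), (15567, 17738), (15568, 13311), (15569, 17740), (15570, 13313), (15571, 13331), (15572, 13336), (15573, 17744), (15574, 13317), (15575, 17747), (15576, 17749), (15577, 13318), (15578, 17752), (15579, 17755), (15580, 13320), (15581, 17757), (15582, 13321), (15583, 17737), (15584, 17760), (15585, 17762), (15586, 13323), (15587, 17765), (15588, 13324), (15589, 17739), (15590, 17768), (15591, 13326), (15592, 17770), (15593, 13327), (15594, 16872), (15595, 13329), (15596, 17741), (15597, 13332), (15598, 16862), (15599, 16873), (15600, 17775), (15601, 13337), (15602, 17776), (15603, 13340), (15604, 17777), (15605, 17779), (15606, 13342), (15607, 13343), (15608, 17780),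 (15609, 17782), (15610, 13345), (15611, 17783), (15612, 13346), (15613, 17784), (15614, 13349), (15615, 13351)]
    ⟨e3 q15552 L691613 q17723, e3 q15553 L691630 q17725, e3 q15554 (flp_i L669615) q13297, e3 q15555 L691640 q17726, e3 q15556 (flp_i L669631) q13298, e3 q15557 (flp_i L669639) q13300, e3 q15558 (flp_i L683992) q16912, e3 q15559 (flp_i L669656) q13304, e3 q15560 L691667 q17730, e3 q15561 (flp_i L669670) q13306, e3 q15562 L691680 q17732, e3 q15563 L691695 q17734, e3 q15564 (flp_i L669695) q13308, e3 q15565 L691711 q17736, e3 q15566 (flp_i L669709) q13309, e3 q15567 L691723 q17738, e3 q15568 (flp_i L669728) q13311, e3 q15569 L691745 q17740, e3 q15570 (flp_i L669743) q13313, e3 q15571 L669759 q13331, e3 q15572 L669768 q13336, e3 q15573 L691774 q17744, e3 q15574 (flp_i L669775) q13317, e3 q15575 L691795 q17747, e3 q15576 L691813 q17749, e3 q15577 (flp_i L669796) q13318, e3 q15578 L691831 q17752, e3 q15579 L691849 q17755, e3 q15580 (flp_i L669814) q13320, e3 q15581 L691861 q17757, e3 q15582 (flp_i L669828) q13321, e3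 q15583 (flp_i L691721) q17737, e3 q15584 L691883 q17760, e3 q15585 L691899 q17762, e3 q15586 (flp_i L669853) q13323, e3 q15587 L691925 q17765, e3 q15588 (flp_i L669870) q13324, e3 q15589 (flp_i L691743) q17739, e3 q15590 L691951 q17768, e3 q15591 (flp_i L669897) q13326, e3 q15592 L691968 q17770, e3 q15593 (flp_i L669910) q13327, e3 q15594 (flp_i L683574) q16872, e3 q15595 (flp_i L669925) q13329, e3 q15596 (flp_i L691761) q17741, e3 q15597 (flp_i L669941) q13332, e3 q15598 (flp_i L683459) q16862, e3 q15599 (flp_i L683585) q16873, e3 q15600 L692002 q17775, e3 q15601 (flp_i L669971) q13337, e3 q15602 L692010 q17776, e3 q15603 (flp_i L669987) q13340, e3 q15604 L692017 q17777, e3 q15605 L692032 q17779, e3 q15606 (flp_i L670015) q13342, e3 q15607 (flp_i L670023) q13343, e3 q15608 L692041 q17780, e3 q15609 L692066 q17782, e3 q15610 (flp_i L670059) q13345, e3 q15611 L692079 q17783, e3 q15612 (flp_i L670070) q13346, e3 q15613 L692084 q17784, e3 q15614 (flp_i L670089) q13349, e3 q15615 (flp_i L670099) q13351, trivial⟩ (by decide +kernel)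

theorem ce_i_244 : ∀ r, r < 64 → sm gi (Qf (15616 + r)) = Qf (tab Gen.i (15616 + r)) :=
  edges_tab (sm gi) Qf (tab Gen.i) 15616 [(15616, 13355), (15617, 13359), (15618, 13360), (15619, 13524), (15620, 13365), (15621, 13526), (15622, 13527), (15623, 13528), (15624, 13374), (15625, 13375), (15626, 17789), (15627, 13378), (15628, 17791), (15629, 13380), (15630, 17792), (15631, 13381), (15632, 13383), (15633, 13397), (15634, 17797), (15635, 13387), (15636, 17800), (15637, 17801), (15638, 13388), (15639, 17805), (15640, 17807), (15641, 13390), (15642, 13391), (15643, 17793), (15644, 17811), (15645, 13393), (15646, 17794), (15647, 17813), (15648, 13395), (15649, 17089), (15650, 13398), (15651, 17098), (15652, 17816), (15653, 13401), (15654, 17817), (15655, 17818), (15656, 13403), (15657, 13404), (15658, 17819), (15659, 17821), (15660, 13406), (15661, 17823), (15662, 13407), (15663, 17824), (15664, 13410), (15665, 13412), (15666, 13416), (15667, 17827), (15668, 17828), (15669, 13417), (15670, 17832), (15671, 13419), (15672, 17835),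 (15673, 17836), (15674, 13420), (15675, 17840), (15676, 17843), (15677, 13422), (15678, 17846), (15679, 13423)]
    ⟨e3 q15616 (flp_i L670110) q13355, e3 q15617 (flp_i L670118) q13359, e3 q15618 (flp_i L670129) q13360, e3 q15619 L670146 q13524, e3 q15620 (flp_i L670148) q13365, e3 q15621 L670165 q13526, e3 q15622 L670177 q13527, e3 q15623 L670187 q13528, e3 q15624 (flp_i L670191) q13374, e3 q15625 (flp_i L670197) q13375, e3 q15626 L692136 q17789, e3 q15627 (flp_i L670218) q13378, e3 q15628 L692152 q17791, e3 q15629 (flp_i L670238) q13380, e3 q15630 L692162 q17792, e3 q15631 (flp_i L670254) q13381, e3 q15632 (flp_i L670262) q13383, e3 q15633 L670277 q13397, e3 q15634 L692200 q17797, e3 q15635 (flp_i L670286) q13387, e3 q15636 L692225 q17800, e3 q15637 L692237 q17801, e3 q15638 (flp_i L670311) q13388, e3 q15639 L692265 q17805, e3 q15640 L692279 q17807, e3 q15641 (flp_i L670333) q13390, e3 q15642 (flp_i L670343) q13391, e3 q15643 (flp_i L692174) q17793, e3 q15644 L692310 q17811, e3 q15645 (flp_i L670362) q13393, e3 q15646 (flp_i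 L692183) q17794, e3 q15647 L692328 q17813, e3 q15648 (flp_i L670388) q13395, e3 q15649 (flp_i L685695) q17089, e3 q15650 (flp_i L670404) q13398, e3 q15651 (flp_i L685773) q17098, e3 q15652 L692351 q17816, e3 q15653 (flp_i L670427) q13401, e3 q15654 L692360 q17817, e3 q15655 L692369 q17818, e3 q15656 (flp_i L670458) q13403, e3 q15657 (flp_i L670468) q13404, e3 q15658 L692383 q17819, e3 q15659 L692398 q17821, e3 q15660 (flp_i L670499) q13406, e3 q15661 L692415 q17823, e3 q15662 (flp_i L670512) q13407, e3 q15663 L692423 q17824, e3 q15664 (flp_i L670534) q13410, e3 q15665 (flp_i L670544) q13412, e3 q15666 (flp_i L670555) q13416, e3 q15667 L692447 q17827, e3 q15668 L692455 q17828, e3 q15669 (flp_i L670577) q13417, e3 q15670 L692480 q17832, e3 q15671 (flp_i L670590) q13419, e3 q15672 L692505 q17835, e3 q15673 L692515 q17836, e3 q15674 (flp_i L670613) q13420, e3 q15675 L692543 q17840, e3 q15676 L692563 q17843, e3 q15677 (flp_i L670635) q13422, e3 q15678 L692583 q17846, e3 q15679 (flp_i L670649) q13423, trivial⟩ (by decide +kernel)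

theorem ce_i_245 : ∀ r, r < 64 → sm gi (Qf (15680 + r)) = Qf (tab Gen.i (15680 + r)) :=
  edges_tab (sm gi) Qf (tab Gen.i) 15680 [(15680, 13453), (15681, 17850), (15682, 17851), (15683, 13425), (15684, 13426), (15685, 13459), (15686, 17854), (15687, 17856), (15688, 13428), (15689, 17859), (15690, 13429), (15691, 13465), (15692, 17862), (15693, 13431), (15694, 13468), (15695, 13434), (15696, 13435), (15697, 13473), (15698, 17867), (15699, 13437), (15700, 13476), (15701, 17870), (15702, 13440), (15703, 13480), (15704, 17873), (15705, 17875), (15706, 13443), (15707, 17878), (15708, 17881), (15709, 13445), (15710, 17884), (15711, 13446), (15712, 17837), (15713, 17887), (15714, 17890), (15715, 13448), (15716, 17894), (15717, 17896), (15718, 13449), (15719, 17844), (15720, 17900), (15721, 13451), (15722, 17847), (15723, 17904), (15724, 17906), (15725, 13454), (15726, 17908), (15727, 13455), (15728, 17852), (15729, 17912), (15730, 13457), (15731, 17853), (15732, 17915), (15733, 13460), (15734, 17918), (15735, 13461), (15736, 17857),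 (15737, 17922), (15738, 13463), (15739, 17860), (15740, 16992), (15741, 17926), (15742, 13466), (15743, 17863)]
    ⟨e3 q15680 L670657 q13453, e3 q15681 L692616 q17850, e3 q15682 L692625 q17851, e3 q15683 (flp_i L670678) q13425, e3 q15684 (flp_i L670687) q13426, e3 q15685 L670703 q13459, e3 q15686 L692655 q17854, e3 q15687 L692670 q17856, e3 q15688 (flp_i L670722) q13428, e3 q15689 L692696 q17859, e3 q15690 (flp_i L670737) q13429, e3 q15691 L670752 q13465, e3 q15692 L692721 q17862, e3 q15693 (flp_i L670762) q13431, e3 q15694 L670774 q13468, e3 q15695 (flp_i L670776) q13434, e3 q15696 (flp_i L670783) q13435, e3 q15697 L670796 q13473, e3 q15698 L692759 q17867, e3 q15699 (flp_i L670805) q13437, e3 q15700 L670820 q13476, e3 q15701 L692781 q17870, e3 q15702 (flp_i L670829) q13440, e3 q15703 L670840 q13480, e3 q15704 L692800 q17873, e3 q15705 L692812 q17875, e3 q15706 (flp_i L670853) q13443, e3 q15707 L692831 q17878, e3 q15708 L692857 q17881, e3 q15709 (flp_i L670874) q13445, e3 q15710 L692877 q17884, e3 q15711 (flp_i L670890) q13446,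 e3 q15712 (flp_i L692527) q17837, e3 q15713 L692895 q17887, e3 q15714 L692917 q17890, e3 q15715 (flp_i L670912) q13448, e3 q15716 L692939 q17894, e3 q15717 L692951 q17896, e3 q15718 (flp_i L670930) q13449, e3 q15719 (flp_i L692575) q17844, e3 q15720 L692975 q17900, e3 q15721 (flp_i L670946) q13451, e3 q15722 (flp_i L692593) q17847, e3 q15723 L692998 q17904, e3 q15724 L693015 q17906, e3 q15725 (flp_i L670972) q13454, e3 q15726 L693035 q17908, e3 q15727 (flp_i L670989) q13455, e3 q15728 (flp_i L692642) q17852, e3 q15729 L693070 q17912, e3 q15730 (flp_i L671012) q13457, e3 q15731 (flp_i L692653) q17853, e3 q15732 L693089 q17915, e3 q15733 (flp_i L671035) q13460, e3 q15734 L693113 q17918, e3 q15735 (flp_i L671049) q13461, e3 q15736 (flp_i L692685) q17857, e3 q15737 L693147 q17922, e3 q15738 (flp_i L671073) q13463, e3 q15739 (flp_i L692711) q17860, e3 q15740 (flp_i L684836) q16992, e3 q15741 L693175 q17926, e3 q15742 (flp_i L671101) q13466, e3 q15743 (flp_i L692733) q17863, trivial⟩ (by decide +kernel)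

theorem ce_i_246 : ∀ r, r < 64 → sm gi (Qf (15744 + r)) = Qf (tab Gen.i (15744 + r)) :=
  edges_tab (sm gi) Qf (tab Gen.i) 15744 [(15744, 13469), (15745, 17864), (15746, 17930), (15747, 13471), (15748, 17865), (15749, 16995), (15750, 17933), (15751, 13474), (15752, 17868), (15753, 17869), (15754, 16996), (15755, 13478), (15756, 17871), (15757, 17938), (15758, 13481), (15759, 13483), (15760, 13486), (15761, 13488), (15762, 17939), (15763, 13489), (15764, 13494), (15765, 13493), (15766, 17940), (15767, 17941), (15768, 13496), (15769, 13566), (15770, 13500), (15771, 13567), (15772, 13568), (15773, 13569), (15774, 13570), (15775, 17785), (15776, 13514), (15777, 13515), (15778, 13517), (15779, 17786), (15780, 17947), (15781, 13529), (15782, 17949), (15783, 17952), (15784, 17953), (15785, 13539), (15786, 17957), (15787, 17959), (15788, 13541), (15789, 13542), (15790, 15790), (15791, 17962), (15792, 13544), (15793, 17963), (15794, 17965), (15795, 13546), (15796, 13547), (15797, 17966), (15798, 17968), (15799, 13549), (15800, 17970),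 (15801, 13550), (15802, 17971), (15803, 13553), (15804, 13555), (15805, 17972), (15806, 13565), (15807, 17943)]
    ⟨e3 q15744 (flp_i L671113) q13469, e3 q15745 (flp_i L692740) q17864, e3 q15746 L693205 q17930, e3 q15747 (flp_i L671133) q13471, e3 q15748 (flp_i L692749) q17865, e3 q15749 (flp_i L684863) q16995, e3 q15750 L693227 q17933, e3 q15751 (flp_i L671163) q13474, e3 q15752 (flp_i L692773) q17868, e3 q15753 (flp_i L692778) q17869, e3 q15754 (flp_i L684874) q16996, e3 q15755 (flp_i L671188) q13478, e3 q15756 (flp_i L692792) q17871, e3 q15757 L693261 q17938, e3 q15758 (flp_i L671208) q13481, e3 q15759 (flp_i L671215) q13483, e3 q15760 (flp_i L671223) q13486, e3 q15761 (flp_i L671230) q13488, e3 q15762 L693270 q17939, e3 q15763 (flp_i L671252) q13489, e3 q15764 L671278 q13494, e3 q15765 (flp_i L671280) q13493, e3 q15766 (flp_i L693288) q17940, e3 q15767 L693290 q17941, e3 q15768 (flp_i L671302) q13496, e3 q15769 L671312 q13566, e3 q15770 (flp_i L671314) q13500, e3 q15771 L671334 q13567, e3 q15772 L671348 q13568, e3 q15773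 L671358 q13569, e3 q15774 L671364 q13570, e3 q15775 (flp_i L692107) q17785, e3 q15776 (flp_i L671379) q13514, e3 q15777 (flp_i L671390) q13515, e3 q15778 (flp_i L671397) q13517, e3 q15779 (flp_i L692118) q17786, e3 q15780 L693329 q17947, e3 q15781 (flp_i L671423) q13529, e3 q15782 L693344 q17949, e3 q15783 L693371 q17952, e3 q15784 L693379 q17953, e3 q15785 (flp_i L671454) q13539, e3 q15786 L693414 q17957, e3 q15787 L693426 q17959, e3 q15788 (flp_i L671475) q13541, e3 q15789 (flp_i L671481) q13542, e3 q15790 L671494 q15790, e3 q15791 L693447 q17962, e3 q15792 (flp_i L671502) q13544, e3 q15793 L693454 q17963, e3 q15794 L693470 q17965, e3 q15795 (flp_i L671528) q13546, e3 q15796 (flp_i L671536) q13547, e3 q15797 L693479 q17966, e3 q15798 L693491 q17968, e3 q15799 (flp_i L671559) q13549, e3 q15800 L693504 q17970, e3 q15801 (flp_i L671569) q13550, e3 q15802 L693509 q17971, e3 q15803 (flp_i L671585) q13553, e3 q15804 (flp_i L671596) q13555, e3 q15805 L693520 q17972, e3 q15806 (flp_i L671610) q13565, e3 q15807 (flp_i L693302) q17943,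 trivial⟩ (by decide +kernel)

theorem ce_i_247 : ∀ r, r < 64 → sm gi (Qf (15808 + r)) = Qf (tab Gen.i (15808 + r)) :=
  edges_tab (sm gi) Qf (tab Gen.i) 15808 [(15808, 17944), (15809, 17945), (15810, 15810), (15811, 13573), (15812, 13575), (15813, 15813), (15814, 15814), (15815, 15815), (15816, 15816), (15817, 15817), (15818, 15818), (15819, 15819), (15820, 15820), (15821, 15821), (15822, 15822), (15823, 15823), (15824, 15824), (15825, 15825), (15826, 15826), (15827, 15827), (15828, 15828), (15829, 15829), (15830, 15830), (15831, 16029), (15832, 15832), (15833, 15833), (15834, 15834), (15835, 15835), (15836, 15836), (15837, 17988), (15838, 13617), (15839, 17989), (15840, 13619), (15841, 13621), (15842, 13637), (15843, 17990), (15844, 13624), (15845, 16409), (15846, 13626), (15847, 16493), (15848, 16055), (15849, 13629), (15850, 16042), (15851, 16062), (15852, 16524), (15853, 17994), (15854, 13640), (15855, 15855), (15856, 17996), (15857, 13642), (15858, 15858), (15859, 15859), (15860, 15860), (15861, 15861), (15862, 15862),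 (15863, 15863), (15864, 15864), (15865, 15865), (15866, 15866), (15867, 15867), (15868, 15868), (15869, 13656), (15870, 15870), (15871, 15871)]
    ⟨e3 q15808 (flp_i L693311) q17944, e3 q15809 (flp_i L693319) q17945, e3 q15810 L671637 q15810, e3 q15811 (flp_i L671639) q13573, e3 q15812 (flp_i L671648) q13575, e3 q15813 L671664 q15813, e3 q15814 L671673 q15814, e3 q15815 L671683 q15815, e3 q15816 L671691 q15816, e3 q15817 L671697 q15817, e3 q15818 L671707 q15818, e3 q15819 L671715 q15819, e3 q15820 L671725 q15820, e3 q15821 L671732 q15821, e3 q15822 L671744 q15822, e3 q15823 L671756 q15823, e3 q15824 L671764 q15824, e3 q15825 L671774 q15825, e3 q15826 L671781 q15826, e3 q15827 L671790 q15827, e3 q15828 L671800 q15828, e3 q15829 L671808 q15829, e3 q15830 L671817 q15830, e3 q15831 (flp_i L673719) q16029, e3 q15832 L671834 q15832, e3 q15833 L671841 q15833, e3 q15834 L671851 q15834, e3 q15835 L671857 q15835, e3 q15836 L671863 q15836, e3 q15837 L693677 q17988, e3 q15838 (flp_i L671869) q13617, e3 q15839 L693684 q17989, e3 q15840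 (flp_i L671884) q13619, e3 q15841 (flp_i L671890) q13621, e3 q15842 L671908 q13637, e3 q15843 L693692 q17990, e3 q15844 (flp_i L671916) q13624, e3 q15845 (flp_i L678562) q16409, e3 q15846 (flp_i L671929) q13626, e3 q15847 (flp_i L679600) q16493, e3 q15848 L674137 q16055, e3 q15849 (flp_i L671951) q13629, e3 q15850 (flp_i L673935) q16042, e3 q15851 L674244 q16062, e3 q15852 L679932 q16524, e3 q15853 L693715 q17994, e3 q15854 (flp_i L671977) q13640, e3 q15855 L671995 q15855, e3 q15856 L693732 q17996, e3 q15857 (flp_i L672002) q13642, e3 q15858 L672016 q15858, e3 q15859 L672025 q15859, e3 q15860 L672034 q15860, e3 q15861 L672041 q15861, e3 q15862 L672047 q15862, e3 q15863 L672053 q15863, e3 q15864 L672057 q15864, e3 q15865 L672065 q15865, e3 q15866 L672069 q15866, e3 q15867 L672079 q15867, e3 q15868 L672087 q15868, e3 q15869 (flp_i L672090) q13656, e3 q15870 L672106 q15870, e3 q15871 L672114 q15871, trivial⟩ (by decide +kernel)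

theorem ce_i_248 : ∀ r, r < 64 → sm gi (Qf (15872 + r)) = Qf (tab Gen.i (15872 + r)) :=
  edges_tab (sm gi) Qf (tab Gen.i) 15872 [(15872, 15872), (15873, 15873), (15874, 15874), (15875, 15875), (15876, 15876), (15877, 15877), (15878, 15878), (15879, 15879), (15880, 15880), (15881, 15881), (15882, 15882), (15883, 15883), (15884, 15884), (15885, 15885), (15886, 18014), (15887, 13672), (15888, 15888), (15889, 18017), (15890, 13675), (15891, 15891), (15892, 13678), (15893, 15893), (15894, 15894), (15895, 15895), (15896, 15896), (15897, 15897), (15898, 13684), (15899, 13686), (15900, 18023), (15901, 13687), (15902, 13692), (15903, 18024), (15904, 13689), (15905, 13713), (15906, 13703), (15907, 13754), (15908, 13755), (15909, 15909), (15910, 18027), (15911, 18031), (15912, 13704), (15913, 15913), (15914, 18035), (15915, 18036), (15916, 13706), (15917, 18038), (15918, 13707), (15919, 15919), (15920, 15920), (15921, 13710), (15922, 15922), (15923, 15923), (15924, 18026), (15925, 18046), (15926, 13714), (15927, 13716), (15928, 15928),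 (15929, 15929), (15930, 18049), (15931, 13721), (15932, 15932), (15933, 18051), (15934, 13723), (15935, 15935)]
    ⟨e3 q15872 L672122 q15872, e3 q15873 L672130 q15873, e3 q15874 L672138 q15874, e3 q15875 L672145 q15875, e3 q15876 L672154 q15876, e3 q15877 L672162 q15877, e3 q15878 L672169 q15878, e3 q15879 L672178 q15879, e3 q15880 L672184 q15880, e3 q15881 L672191 q15881, e3 q15882 L672198 q15882, e3 q15883 L672205 q15883, e3 q15884 L672211 q15884, e3 q15885 L672219 q15885, e3 q15886 L693879 q18014, e3 q15887 (flp_i L672233) q13672, e3 q15888 L672251 q15888, e3 q15889 L693913 q18017, e3 q15890 (flp_i L672264) q13675, e3 q15891 L672282 q15891, e3 q15892 (flp_i L672283) q13678, e3 q15893 L672299 q15893, e3 q15894 L672306 q15894, e3 q15895 L672318 q15895, e3 q15896 L672325 q15896, e3 q15897 L672336 q15897, e3 q15898 (flp_i L672337) q13684, e3 q15899 (flp_i L672352) q13686, e3 q15900 L693975 q18023, e3 q15901 (flp_i L672371) q13687, e3 q15902 L672391 q13692, e3 q15903 L693982 q18024, e3 q15904 (flp_i L672400) q13689, e3 q15905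 L672416 q13713, e3 q15906 L672428 q13703, e3 q15907 L672437 q13754, e3 q15908 L672446 q13755, e3 q15909 L672462 q15909, e3 q15910 (flp_i L694012) q18027, e3 q15911 L694040 q18031, e3 q15912 (flp_i L672482) q13704, e3 q15913 L672504 q15913, e3 q15914 L694072 q18035, e3 q15915 L694078 q18036, e3 q15916 (flp_i L672515) q13706, e3 q15917 L694089 q18038, e3 q15918 (flp_i L672530) q13707, e3 q15919 L672545 q15919, e3 q15920 L672555 q15920, e3 q15921 (flp_i L672559) q13710, e3 q15922 L672574 q15922, e3 q15923 L672581 q15923, e3 q15924 (flp_i L694002) q18026, e3 q15925 L694160 q18046, e3 q15926 (flp_i L672604) q13714, e3 q15927 (flp_i L672614) q13716, e3 q15928 L672631 q15928, e3 q15929 L672639 q15929, e3 q15930 L694186 q18049, e3 q15931 (flp_i L672646) q13721, e3 q15932 L672662 q15932, e3 q15933 L694203 q18051, e3 q15934 (flp_i L672671) q13723, e3 q15935 L672687 q15935, trivial⟩ (by decide +kernel)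

theorem ce_i_249 : ∀ r, r < 64 → sm gi (Qf (15936 + r)) = Qf (tab Gen.i (15936 + r)) :=
  edges_tab (sm gi) Qf (tab Gen.i) 15936 [(15936, 18054), (15937, 13726), (15938, 15938), (15939, 15939), (15940, 15940), (15941, 13730), (15942, 15942), (15943, 18059), (15944, 13733), (15945, 15945), (15946, 18061), (15947, 13736), (15948, 15948), (15949, 15949), (15950, 13740), (15951, 15951), (15952, 15952), (15953, 15953), (15954, 13747), (15955, 13750), (15956, 18066), (15957, 13757), (15958, 13753), (15959, 18028), (15960, 13771), (15961, 18068), (15962, 13774), (15963, 18070), (15964, 13776), (15965, 17456), (15966, 18072), (15967, 13778), (15968, 13780), (15969, 13784), (15970, 15970), (15971, 13788), (15972, 15972), (15973, 13790), (15974, 15974), (15975, 13792), (15976, 15976), (15977, 18078), (15978, 13798), (15979, 15979), (15980, 18081), (15981, 13801), (15982, 15982), (15983, 18082), (15984, 13804), (15985, 15985), (15986, 18083), (15987, 13807), (15988, 15988), (15989, 15989), (15990, 15990), (15991, 15991), (15992, 18087),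 (15993, 13814), (15994, 15994), (15995, 15995), (15996, 18091), (15997, 13818), (15998, 15998), (15999, 18093)]
    ⟨e3 q15936 L694227 q18054, e3 q15937 (flp_i L672695) q13726, e3 q15938 L672709 q15938, e3 q15939 L672714 q15939, e3 q15940 L672722 q15940, e3 q15941 (flp_i L672723) q13730, e3 q15942 L672739 q15942, e3 q15943 L694262 q18059, e3 q15944 (flp_i L672751) q13733, e3 q15945 L672768 q15945, e3 q15946 L694284 q18061, e3 q15947 (flp_i L672779) q13736, e3 q15948 L672796 q15948, e3 q15949 L672802 q15949, e3 q15950 (flp_i L672803) q13740, e3 q15951 L672818 q15951, e3 q15952 L672824 q15952, e3 q15953 L672828 q15953, e3 q15954 (flp_i L672831) q13747, e3 q15955 (flp_i L672839) q13750, e3 q15956 (flp_i L694327) q18066, e3 q15957 L672850 q13757, e3 q15958 (flp_i L672852) q13753, e3 q15959 (flp_i L694019) q18028, e3 q15960 (flp_i L672865) q13771, e3 q15961 L694334 q18068, e3 q15962 (flp_i L672877) q13774, e3 q15963 L694348 q18070, e3 q15964 (flp_i L672889) q13776, e3 q15965 (flp_i L689531) q17456, e3 q15966 L694360 q18072, e3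 q15967 (flp_i L672906) q13778, e3 q15968 (flp_i L672913) q13780, e3 q15969 (flp_i L672920) q13784, e3 q15970 L672933 q15970, e3 q15971 (flp_i L672934) q13788, e3 q15972 L672948 q15972, e3 q15973 (flp_i L672949) q13790, e3 q15974 L672962 q15974, e3 q15975 (flp_i L672963) q13792, e3 q15976 L672976 q15976, e3 q15977 L694404 q18078, e3 q15978 (flp_i L672991) q13798, e3 q15979 L673017 q15979, e3 q15980 L694454 q18081, e3 q15981 (flp_i L673034) q13801, e3 q15982 L673067 q15982, e3 q15983 L694473 q18082, e3 q15984 (flp_i L673086) q13804, e3 q15985 L673120 q15985, e3 q15986 L694492 q18083, e3 q15987 (flp_i L673136) q13807, e3 q15988 L673157 q15988, e3 q15989 L673169 q15989, e3 q15990 L673186 q15990, e3 q15991 L673201 q15991, e3 q15992 L694559 q18087, e3 q15993 (flp_i L673219) q13814, e3 q15994 L673245 q15994, e3 q15995 L673255 q15995, e3 q15996 L694625 q18091, e3 q15997 (flp_i L673274) q13818, e3 q15998 L673304 q15998, e3 q15999 L694656 q18093, trivial⟩ (by decide +kernel)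

theorem ce_i_250 : ∀ r, r < 64 → sm gi (Qf (16000 + r)) = Qf (tab Gen.i (16000 + r)) :=
  edges_tab (sm gi) Qf (tab Gen.i) 16000 [(16000, 13821), (16001, 16001), (16002, 13824), (16003, 16003), (16004, 16004), (16005, 16005), (16006, 13828), (16007, 16007), (16008, 16008), (16009, 18100), (16010, 13833), (16011, 16011), (16012, 18102), (16013, 13836), (16014, 16014), (16015, 13839), (16016, 16016), (16017, 16017), (16018, 16018), (16019, 16019), (16020, 16020), (16021, 18109), (16022, 13855), (16023, 15019), (16024, 18111), (16025, 13858), (16026, 18113), (16027, 18114), (16028, 13859), (16029, 15831), (16030, 18116), (16031, 13862), (16032, 13864), (16033, 16033), (16034, 13869), (16035, 18118), (16036, 13872), (16037, 16037), (16038, 13875), (16039, 18120), (16040, 13877), (16041, 16041), (16042, 15850), (16043, 18122), (16044, 13881), (16045, 18123), (16046, 13882), (16047, 13884), (16048, 13886), (16049, 18128), (16050, 13887), (16051, 18124), (16052, 18130), (16053, 13889), (16054, 16054), (16055, 15848), (16056, 13892),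 (16057, 16057), (16058, 13961), (16059, 18134), (16060, 18136), (16061, 13898), (16062, 15851), (16063, 18139)]
    ⟨e3 q16000 (flp_i L673318) q13821, e3 q16001 L673345 q16001, e3 q16002 (flp_i L673346) q13824, e3 q16003 L673362 q16003, e3 q16004 L673369 q16004, e3 q16005 L673378 q16005, e3 q16006 (flp_i L673381) q13828, e3 q16007 L673415 q16007, e3 q16008 L673430 q16008, e3 q16009 L694761 q18100, e3 q16010 (flp_i L673445) q13833, e3 q16011 L673471 q16011, e3 q16012 L694792 q18102, e3 q16013 (flp_i L673488) q13836, e3 q16014 L673514 q16014, e3 q16015 (flp_i L673515) q13839, e3 q16016 L673535 q16016, e3 q16017 L673543 q16017, e3 q16018 L673559 q16018, e3 q16019 L673566 q16019, e3 q16020 L673576 q16020, e3 q16021 L694888 q18109, e3 q16022 (flp_i L673597) q13855, e3 q16023 L673632 q15019, e3 q16024 L694922 q18111, e3 q16025 (flp_i L673650) q13858, e3 q16026 L694955 q18113, e3 q16027 L694971 q18114, e3 q16028 (flp_i L673696) q13859, e3 q16029 L673719 q15831, e3 q16030 L694997 q18116, e3 q16031 (flp_i L673739) q13862, e3 q16032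 (flp_i L673755) q13864, e3 q16033 L673783 q16033, e3 q16034 (flp_i L673784) q13869, e3 q16035 L695030 q18118, e3 q16036 (flp_i L673819) q13872, e3 q16037 L673853 q16037, e3 q16038 (flp_i L673854) q13875, e3 q16039 L695066 q18120, e3 q16040 (flp_i L673886) q13877, e3 q16041 L673917 q16041, e3 q16042 L673935 q15850, e3 q16043 L695104 q18122, e3 q16044 (flp_i L673955) q13881, e3 q16045 L695122 q18123, e3 q16046 (flp_i L673989) q13882, e3 q16047 (flp_i L674003) q13884, e3 q16048 (flp_i L674019) q13886, e3 q16049 L695205 q18128, e3 q16050 (flp_i L674053) q13887, e3 q16051 (flp_i L695151) q18124, e3 q16052 L695235 q18130, e3 q16053 (flp_i L674092) q13889, e3 q16054 L674120 q16054, e3 q16055 (flp_i L674137) q15848, e3 q16056 (flp_i L674139) q13892, e3 q16057 L674164 q16057, e3 q16058 L674179 q13961, e3 q16059 L695297 q18134, e3 q16060 L695330 q18136, e3 q16061 (flp_i L674215) q13898, e3 q16062 (flp_i L674244) q15851, e3 q16063 L695384 q18139, trivial⟩ (by decide +kernel)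

theorem ce_i_251 : ∀ r, r < 64 → sm gi (Qf (16064 + r)) = Qf (tab Gen.i (16064 + r)) :=
  edges_tab (sm gi) Qf (tab Gen.i) 16064 [(16064, 13899), (16065, 13968), (16066, 18142), (16067, 18145), (16068, 13902), (16069, 18147), (16070, 13903), (16071, 18150), (16072, 18152), (16073, 13904), (16074, 18156), (16075, 18157), (16076, 13906), (16077, 13907), (16078, 18140), (16079, 18161), (16080, 13909), (16081, 18162), (16082, 13911), (16083, 16083), (16084, 16084), (16085, 13916), (16086, 18165), (16087, 13917), (16088, 18167), (16089, 13921), (16090, 18168), (16091, 13923), (16092, 15005), (16093, 18170), (16094, 13928), (16095, 13930), (16096, 14267), (16097, 14319), (16098, 14543), (16099, 18173), (16100, 18174), (16101, 13936), (16102, 18175), (16103, 13937), (16104, 13940), (16105, 16105), (16106, 16106), (16107, 18179), (16108, 13947), (16109, 13948), (16110, 18182), (16111, 13950), (16112, 15062), (16113, 18184), (16114, 13952), (16115, 16115), (16116, 18186), (16117, 13955), (16118, 16118), (16119, 18189), (16120, 18191),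 (16121, 13962), (16122, 18192), (16123, 13963), (16124, 18194), (16125, 13964), (16126, 18197), (16127, 13966)]
    ⟨e3 q16064 (flp_i L674257) q13899, e3 q16065 L674281 q13968, e3 q16066 L695427 q18142, e3 q16067 L695471 q18145, e3 q16068 (flp_i L674315) q13902, e3 q16069 L695499 q18147, e3 q16070 (flp_i L674345) q13903, e3 q16071 L695540 q18150, e3 q16072 L695562 q18152, e3 q16073 (flp_i L674383) q13904, e3 q16074 L695615 q18156, e3 q16075 L695627 q18157, e3 q16076 (flp_i L674412) q13906, e3 q16077 (flp_i L674422) q13907, e3 q16078 (flp_i L695409) q18140, e3 q16079 L695674 q18161, e3 q16080 (flp_i L674456) q13909, e3 q16081 L695689 q18162, e3 q16082 (flp_i L674485) q13911, e3 q16083 L674511 q16083, e3 q16084 L674523 q16084, e3 q16085 (flp_i L674524) q13916, e3 q16086 L695727 q18165, e3 q16087 (flp_i L674558) q13917, e3 q16088 L695760 q18167, e3 q16089 (flp_i L674589) q13921, e3 q16090 L695775 q18168, e3 q16091 (flp_i L674615) q13923, e3 q16092 L674639 q15005, e3 q16093 L695805 q18170, e3 q16094 (flp_i L674657) q13928, e3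 q16095 (flp_i L674672) q13930, e3 q16096 L674695 q14267, e3 q16097 L674714 q14319, e3 q16098 L674731 q14543, e3 q16099 L695853 q18173, e3 q16100 L695870 q18174, e3 q16101 (flp_i L674768) q13936, e3 q16102 L695886 q18175, e3 q16103 (flp_i L674801) q13937, e3 q16104 (flp_i L674813) q13940, e3 q16105 L674845 q16105, e3 q16106 L674862 q16106, e3 q16107 L695951 q18179, e3 q16108 (flp_i L674877) q13947, e3 q16109 (flp_i L674893) q13948, e3 q16110 L695999 q18182, e3 q16111 (flp_i L674923) q13950, e3 q16112 L674947 q15062, e3 q16113 L696029 q18184, e3 q16114 (flp_i L674964) q13952, e3 q16115 L674994 q16115, e3 q16116 L696062 q18186, e3 q16117 (flp_i L675012) q13955, e3 q16118 L675038 q16118, e3 q16119 L696117 q18189, e3 q16120 L696149 q18191, e3 q16121 (flp_i L675069) q13962, e3 q16122 L696163 q18192, e3 q16123 (flp_i L675099) q13963, e3 q16124 L696192 q18194, e3 q16125 (flp_i L675129) q13964, e3 q16126 L696232 q18197, e3 q16127 (flp_i L675156) q13966, trivial⟩ (by decide +kernel)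

theorem ce_i_252 : ∀ r, r < 64 → sm gi (Qf (16128 + r)) = Qf (tab Gen.i (16128 + r)) :=
  edges_tab (sm gi) Qf (tab Gen.i) 16128 [(16128, 13982), (16129, 18200), (16130, 13969), (16131, 18202), (16132, 18204), (16133, 13970), (16134, 13972), (16135, 13974), (16136, 18209), (16137, 13975), (16138, 18195), (16139, 13977), (16140, 18213), (16141, 13978), (16142, 15029), (16143, 18216), (16144, 13980), (16145, 18198), (16146, 18220), (16147, 13983), (16148, 16148), (16149, 18223), (16150, 13986), (16151, 16151), (16152, 16152), (16153, 13989), (16154, 16154), (16155, 13993), (16156, 14114), (16157, 18229), (16158, 14116), (16159, 18232), (16160, 18235), (16161, 14000), (16162, 18238), (16163, 14001), (16164, 18239), (16165, 18241), (16166, 14002), (16167, 14004), (16168, 14005), (16169, 14020), (16170, 18246), (16171, 18249), (16172, 14008), (16173, 18252), (16174, 18254), (16175, 14009), (16176, 18257), (16177, 18259), (16178, 14011), (16179, 18261), (16180, 18263), (16181, 14013), (16182, 18265), (16183, 14014), (16184, 18242),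 (16185, 14016), (16186, 14017), (16187, 18243), (16188, 18244), (16189, 18272), (16190, 14021), (16191, 16191)]
    ⟨e3 q16128 L675177 q13982, e3 q16129 L696273 q18200, e3 q16130 (flp_i L675191) q13969, e3 q16131 L696305 q18202, e3 q16132 L696335 q18204, e3 q16133 (flp_i L675229) q13970, e3 q16134 (flp_i L675239) q13972, e3 q16135 (flp_i L675255) q13974, e3 q16136 L696397 q18209, e3 q16137 (flp_i L675283) q13975, e3 q16138 (flp_i L696217) q18195, e3 q16139 (flp_i L675305) q13977, e3 q16140 L696461 q18213, e3 q16141 (flp_i L675339) q13978, e3 q16142 L675365 q15029, e3 q16143 L696507 q18216, e3 q16144 (flp_i L675375) q13980, e3 q16145 (flp_i L696257) q18198, e3 q16146 L696546 q18220, e3 q16147 (flp_i L675404) q13983, e3 q16148 L675432 q16148, e3 q16149 L696586 q18223, e3 q16150 (flp_i L675446) q13986, e3 q16151 L675466 q16151, e3 q16152 L675471 q16152, e3 q16153 (flp_i L675472) q13989, e3 q16154 L675498 q16154, e3 q16155 (flp_i L675499) q13993, e3 q16156 L675529 q14114, e3 q16157 L696662 q18229, e3 q16158 L675556 q14116, e3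 q16159 L696702 q18232, e3 q16160 L696738 q18235, e3 q16161 (flp_i L675584) q14000, e3 q16162 L696778 q18238, e3 q16163 (flp_i L675608) q14001, e3 q16164 L696789 q18239, e3 q16165 L696815 q18241, e3 q16166 (flp_i L675647) q14002, e3 q16167 (flp_i L675657) q14004, e3 q16168 (flp_i L675671) q14005, e3 q16169 L675696 q14020, e3 q16170 L696883 q18246, e3 q16171 L696922 q18249, e3 q16172 (flp_i L675723) q14008, e3 q16173 L696958 q18252, e3 q16174 L696980 q18254, e3 q16175 (flp_i L675755) q14009, e3 q16176 L697016 q18257, e3 q16177 L697039 q18259, e3 q16178 (flp_i L675789) q14011, e3 q16179 L697063 q18261, e3 q16180 L697092 q18263, e3 q16181 (flp_i L675829) q14013, e3 q16182 L697113 q18265, e3 q16183 (flp_i L675849) q14014, e3 q16184 (flp_i L696838) q18242, e3 q16185 (flp_i L675871) q14016, e3 q16186 (flp_i L675886) q14017, e3 q16187 (flp_i L696853) q18243, e3 q16188 (flp_i L696868) q18244, e3 q16189 L697202 q18272, e3 q16190 (flp_i L675930) q14021, e3 q16191 L675956 q16191, trivial⟩ (by decide +kernel)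

theorem ce_i_253 : ∀ r, r < 64 → sm gi (Qf (16192 + r)) = Qf (tab Gen.i (16192 + r)) :=
  edges_tab (sm gi) Qf (tab Gen.i) 16192 [(16192, 14023), (16193, 16193), (16194, 16194), (16195, 14027), (16196, 18277), (16197, 14028), (16198, 18280), (16199, 18282), (16200, 14030), (16201, 14031), (16202, 16202), (16203, 14033), (16204, 16204), (16205, 14035), (16206, 16206), (16207, 14038), (16208, 16208), (16209, 16209), (16210, 14042), (16211, 16211), (16212, 18292), (16213, 14044), (16214, 14045), (16215, 16215), (16216, 16216), (16217, 16217), (16218, 16218), (16219, 16219), (16220, 16220), (16221, 16221), (16222, 16222), (16223, 14797), (16224, 18301), (16225, 18303), (16226, 18304), (16227, 14058), (16228, 14059), (16229, 14541), (16230, 18308), (16231, 18311), (16232, 14062), (16233, 18313), (16234, 14063), (16235, 18314), (16236, 18316), (16237, 14064), (16238, 14066), (16239, 14067), (16240, 18305), (16241, 18320), (16242, 14070), (16243, 16243), (16244, 16244), (16245, 16245), (16246, 18324), (16247, 18326), (16248, 18329),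 (16249, 14078), (16250, 18330), (16251, 14079), (16252, 18331), (16253, 18333), (16254, 14080), (16255, 14082)]
    ⟨e3 q16192 (flp_i L675957) q14023, e3 q16193 L675979 q16193, e3 q16194 L675989 q16194, e3 q16195 (flp_i L675992) q14027, e3 q16196 L697260 q18277, e3 q16197 (flp_i L676024) q14028, e3 q16198 L697307 q18280, e3 q16199 L697332 q18282, e3 q16200 (flp_i L676065) q14030, e3 q16201 (flp_i L676075) q14031, e3 q16202 L676102 q16202, e3 q16203 (flp_i L676103) q14033, e3 q16204 L676127 q16204, e3 q16205 (flp_i L676128) q14035, e3 q16206 L676150 q16206, e3 q16207 (flp_i L676151) q14038, e3 q16208 L676177 q16208, e3 q16209 L676185 q16209, e3 q16210 (flp_i L676188) q14042, e3 q16211 L676218 q16211, e3 q16212 L697468 q18292, e3 q16213 (flp_i L676233) q14044, e3 q16214 (flp_i L676247) q14045, e3 q16215 L676270 q16215, e3 q16216 L676283 q16216, e3 q16217 L676295 q16217, e3 q16218 L676307 q16218, e3 q16219 L676313 q16219, e3 q16220 L676331 q16220, e3 q16221 L676341 q16221, e3 q16222 L676358 q16222, e3 q16223 L676376 q14797, e3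 q16224 L697608 q18301, e3 q16225 L697639 q18303, e3 q16226 L697653 q18304, e3 q16227 (flp_i L676420) q14058, e3 q16228 (flp_i L676433) q14059, e3 q16229 L676459 q14541, e3 q16230 L697708 q18308, e3 q16231 L697744 q18311, e3 q16232 (flp_i L676487) q14062, e3 q16233 L697770 q18313, e3 q16234 (flp_i L676511) q14063, e3 q16235 L697783 q18314, e3 q16236 L697812 q18316, e3 q16237 (flp_i L676554) q14064, e3 q16238 (flp_i L676564) q14066, e3 q16239 (flp_i L676578) q14067, e3 q16240 (flp_i L697682) q18305, e3 q16241 L697868 q18320, e3 q16242 (flp_i L676619) q14070, e3 q16243 L676649 q16243, e3 q16244 L676665 q16244, e3 q16245 L676679 q16245, e3 q16246 L697926 q18324, e3 q16247 L697952 q18326, e3 q16248 L697986 q18329, e3 q16249 (flp_i L676711) q14078, e3 q16250 L697996 q18330, e3 q16251 (flp_i L676735) q14079, e3 q16252 L698009 q18331, e3 q16253 L698039 q18333, e3 q16254 (flp_i L676776) q14080, e3 q16255 (flp_i L676784) q14082, trivial⟩ (by decide +kernel)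

theorem ce_i_254 : ∀ r, r < 64 → sm gi (Qf (16256 + r)) = Qf (tab Gen.i (16256 + r)) :=
  edges_tab (sm gi) Qf (tab Gen.i) 16256 [(16256, 14083), (16257, 14097), (16258, 18338), (16259, 18340), (16260, 14086), (16261, 18342), (16262, 18344), (16263, 14087), (16264, 14089), (16265, 14091), (16266, 18349), (16267, 14092), (16268, 18334), (16269, 18335), (16270, 18353), (16271, 14095), (16272, 18336), (16273, 18357), (16274, 14098), (16275, 16275), (16276, 18360), (16277, 14101), (16278, 16278), (16279, 16279), (16280, 14104), (16281, 16281), (16282, 14107), (16283, 14109), (16284, 16284), (16285, 16285), (16286, 16286), (16287, 18367), (16288, 18370), (16289, 14115), (16290, 18372), (16291, 18375), (16292, 14117), (16293, 18378), (16294, 18380), (16295, 14118), (16296, 18383), (16297, 18385), (16298, 14120), (16299, 18387), (16300, 18389), (16301, 14122), (16302, 18392), (16303, 14123), (16304, 14145), (16305, 14125), (16306, 14126), (16307, 14151), (16308, 18398), (16309, 14128), (16310, 14154), (16311, 18402), (16312, 14131),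 (16313, 18405), (16314, 18407), (16315, 14132), (16316, 18411), (16317, 18414), (16318, 14134), (16319, 18417)]
    ⟨e3 q16256 (flp_i L676798) q14083, e3 q16257 L676821 q14097, e3 q16258 L698105 q18338, e3 q16259 L698132 q18340, e3 q16260 (flp_i L676846) q14086, e3 q16261 L698160 q18342, e3 q16262 L698188 q18344, e3 q16263 (flp_i L676880) q14087, e3 q16264 (flp_i L676890) q14089, e3 q16265 (flp_i L676903) q14091, e3 q16266 L698247 q18349, e3 q16267 (flp_i L676929) q14092, e3 q16268 (flp_i L698062) q18334, e3 q16269 (flp_i L698077) q18335, e3 q16270 L698301 q18353, e3 q16271 (flp_i L676978) q14095, e3 q16272 (flp_i L698092) q18336, e3 q16273 L698356 q18357, e3 q16274 (flp_i L677015) q14098, e3 q16275 L677039 q16275, e3 q16276 L698396 q18360, e3 q16277 (flp_i L677052) q14101, e3 q16278 L677077 q16278, e3 q16279 L677083 q16279, e3 q16280 (flp_i L677088) q14104, e3 q16281 L677109 q16281, e3 q16282 (flp_i L677110) q14107, e3 q16283 (flp_i L677126) q14109, e3 q16284 L677157 q16284, e3 q16285 L677172 q16285, e3 q16286 L677182 q16286,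 e3 q16287 L698493 q18367, e3 q16288 L698525 q18370, e3 q16289 (flp_i L677208) q14115, e3 q16290 L698545 q18372, e3 q16291 L698576 q18375, e3 q16292 (flp_i L677240) q14117, e3 q16293 L698607 q18378, e3 q16294 L698624 q18380, e3 q16295 (flp_i L677266) q14118, e3 q16296 L698656 q18383, e3 q16297 L698681 q18385, e3 q16298 (flp_i L677302) q14120, e3 q16299 L698704 q18387, e3 q16300 L698733 q18389, e3 q16301 (flp_i L677340) q14122, e3 q16302 L698770 q18392, e3 q16303 (flp_i L677354) q14123, e3 q16304 L677369 q14145, e3 q16305 (flp_i L677371) q14125, e3 q16306 (flp_i L677385) q14126, e3 q16307 L677407 q14151, e3 q16308 L698841 q18398, e3 q16309 (flp_i L677422) q14128, e3 q16310 L677443 q14154, e3 q16311 L698885 q18402, e3 q16312 (flp_i L677454) q14131, e3 q16313 L698918 q18405, e3 q16314 L698944 q18407, e3 q16315 (flp_i L677481) q14132, e3 q16316 L698982 q18411, e3 q16317 L699020 q18414, e3 q16318 (flp_i L677507) q14134, e3 q16319 L699044 q18417, trivial⟩ (by decide +kernel)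

theorem ce_i_255 : ∀ r, r < 64 → sm gi (Qf (16320 + r)) = Qf (tab Gen.i (16320 + r)) :=
  edges_tab (sm gi) Qf (tab Gen.i) 16320 [(16320, 14135), (16321, 18381), (16322, 18420), (16323, 14137), (16324, 18423), (16325, 14138), (16326, 18386), (16327, 18425), (16328, 18427), (16329, 14140), (16330, 18430), (16331, 14141), (16332, 18390), (16333, 18434), (16334, 14143), (16335, 18393), (16336, 14146), (16337, 14147), (16338, 18394), (16339, 18441), (16340, 14149), (16341, 18395), (16342, 18396), (16343, 18444), (16344, 14152), (16345, 18399), (16346, 18400), (16347, 18449), (16348, 14155), (16349, 16349), (16350, 18452), (16351, 14158), (16352, 16352), (16353, 16353), (16354, 14161), (16355, 16355), (16356, 16356), (16357, 16357), (16358, 16358), (16359, 18461), (16360, 14168), (16361, 16361), (16362, 18464), (16363, 18466), (16364, 14170), (16365, 18469), (16366, 14171), (16367, 16367), (16368, 16368), (16369, 18472), (16370, 14175), (16371, 16371), (16372, 14178), (16373, 16373), (16374, 16374), (16375, 16375), (16376, 16376),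 (16377, 16377), (16378, 18480), (16379, 14184), (16380, 16380), (16381, 18483), (16382, 14187), (16383, 14188)]
    ⟨e3 q16320 (flp_i L677523) q14135, e3 q16321 (flp_i L698640) q18381, e3 q16322 L699075 q18420, e3 q16323 (flp_i L677550) q14137, e3 q16324 L699110 q18423, e3 q16325 (flp_i L677575) q14138, e3 q16326 (flp_i L698702) q18386, e3 q16327 L699137 q18425, e3 q16328 L699167 q18427, e3 q16329 (flp_i L677627) q14140, e3 q16330 L699205 q18430, e3 q16331 (flp_i L677647) q14141, e3 q16332 (flp_i L698755) q18390, e3 q16333 L699245 q18434, e3 q16334 (flp_i L677675) q14143, e3 q16335 (flp_i L698785) q18393, e3 q16336 (flp_i L677691) q14146, e3 q16337 (flp_i L677706) q14147, e3 q16338 (flp_i L698800) q18394, e3 q16339 L699325 q18441, e3 q16340 (flp_i L677744) q14149, e3 q16341 (flp_i L698817) q18395, e3 q16342 (flp_i L698824) q18396, e3 q16343 L699365 q18444, e3 q16344 (flp_i L677786) q14152, e3 q16345 (flp_i L698867) q18399, e3 q16346 (flp_i L698874) q18400, e3 q16347 L699416 q18449, e3 q16348 (flp_i L677824) q14155, e3 q16349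 L677851 q16349, e3 q16350 L699454 q18452, e3 q16351 (flp_i L677859) q14158, e3 q16352 L677873 q16352, e3 q16353 L677880 q16353, e3 q16354 (flp_i L677881) q14161, e3 q16355 L677898 q16355, e3 q16356 L677906 q16356, e3 q16357 L677912 q16357, e3 q16358 L677926 q16358, e3 q16359 L699545 q18461, e3 q16360 (flp_i L677938) q14168, e3 q16361 L677962 q16361, e3 q16362 L699585 q18464, e3 q16363 L699609 q18466, e3 q16364 (flp_i L677987) q14170, e3 q16365 L699647 q18469, e3 q16366 (flp_i L678009) q14171, e3 q16367 L678031 q16367, e3 q16368 L678048 q16368, e3 q16369 L699683 q18472, e3 q16370 (flp_i L678061) q14175, e3 q16371 L678083 q16371, e3 q16372 (flp_i L678084) q14178, e3 q16373 L678104 q16373, e3 q16374 L678109 q16374, e3 q16375 L678123 q16375, e3 q16376 L678131 q16376, e3 q16377 L678137 q16377, e3 q16378 L699771 q18480, e3 q16379 (flp_i L678154) q14184, e3 q16380 L678177 q16380, e3 q16381 L699813 q18483, e3 q16382 (flp_i L678192) q14187, e3 q16383 (flp_i L678203) q14188, trivial⟩ (by decide +kernel)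

theorem ce_i_256 : ∀ r, r < 64 → sm gi (Qf (16384 + r)) = Qf (tab Gen.i (16384 + r)) :=
  edges_tab (sm gi) Qf (tab Gen.i) 16384 [(16384, 16384), (16385, 16385), (16386, 16386), (16387, 14193), (16388, 16388), (16389, 16389), (16390, 16390), (16391, 16391), (16392, 16392), (16393, 14203), (16394, 16394), (16395, 14206), (16396, 14209), (16397, 16397), (16398, 16398), (16399, 14213), (16400, 16400), (16401, 14216), (16402, 16402), (16403, 14219), (16404, 16404), (16405, 14281), (16406, 18498), (16407, 18499), (16408, 14223), (16409, 15845), (16410, 14225), (16411, 14286), (16412, 18501), (16413, 18504), (16414, 14228), (16415, 14290), (16416, 18507), (16417, 18508), (16418, 18509), (16419, 14231), (16420, 18510), (16421, 18511), (16422, 14232), (16423, 14234), (16424, 14236), (16425, 16425), (16426, 14303), (16427, 18171), (16428, 14240), (16429, 14241), (16430, 14243), (16431, 16431), (16432, 18515), (16433, 14247), (16434, 18517), (16435, 18519), (16436, 14248), (16437, 18169), (16438, 18521), (16439, 14251), (16440, 18522),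 (16441, 14252), (16442, 14253), (16443, 18524), (16444, 14255), (16445, 18526), (16446, 14256), (16447, 18520)]
    ⟨e3 q16384 L678225 q16384, e3 q16385 L678241 q16385, e3 q16386 L678249 q16386, e3 q16387 (flp_i L678254) q14193, e3 q16388 L678271 q16388, e3 q16389 L678278 q16389, e3 q16390 L678288 q16390, e3 q16391 L678295 q16391, e3 q16392 L678305 q16392, e3 q16393 (flp_i L678310) q14203, e3 q16394 L678342 q16394, e3 q16395 (flp_i L678343) q14206, e3 q16396 (flp_i L678359) q14209, e3 q16397 L678386 q16397, e3 q16398 L678401 q16398, e3 q16399 (flp_i L678402) q14213, e3 q16400 L678427 q16400, e3 q16401 (flp_i L678428) q14216, e3 q16402 L678461 q16402, e3 q16403 (flp_i L678462) q14219, e3 q16404 L678486 q16404, e3 q16405 L678502 q14281, e3 q16406 L700040 q18498, e3 q16407 L700057 q18499, e3 q16408 (flp_i L678535) q14223, e3 q16409 L678562 q15845, e3 q16410 (flp_i L678566) q14225, e3 q16411 L678592 q14286, e3 q16412 L700091 q18501, e3 q16413 L700141 q18504, e3 q16414 (flp_i L678624) q14228, e3 q16415 L678651 q14290, e3 q16416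 L700188 q18507, e3 q16417 L700203 q18508, e3 q16418 L700221 q18509, e3 q16419 (flp_i L678694) q14231, e3 q16420 L700235 q18510, e3 q16421 L700251 q18511, e3 q16422 (flp_i L678736) q14232, e3 q16423 (flp_i L678746) q14234, e3 q16424 (flp_i L678763) q14236, e3 q16425 L678789 q16425, e3 q16426 L678799 q14303, e3 q16427 (flp_i L695833) q18171, e3 q16428 (flp_i L678821) q14240, e3 q16429 (flp_i L678835) q14241, e3 q16430 (flp_i L678850) q14243, e3 q16431 L678875 q16431, e3 q16432 L700313 q18515, e3 q16433 (flp_i L678888) q14247, e3 q16434 L700342 q18517, e3 q16435 L700368 q18519, e3 q16436 (flp_i L678918) q14248, e3 q16437 (flp_i L695801) q18169, e3 q16438 L700385 q18521, e3 q16439 (flp_i L678957) q14251, e3 q16440 L700401 q18522, e3 q16441 (flp_i L678988) q14252, e3 q16442 (flp_i L679002) q14253, e3 q16443 L700425 q18524, e3 q16444 (flp_i L679020) q14255, e3 q16445 L700447 q18526, e3 q16446 (flp_i L679044) q14256, e3 q16447 (flp_i L700383) q18520, trivial⟩ (by decide +kernel)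

theorem ce_i_257 : ∀ r, r < 64 → sm gi (Qf (16448 + r)) = Qf (tab Gen.i (16448 + r)) :=
  edges_tab (sm gi) Qf (tab Gen.i) 16448 [(16448, 14258), (16449, 16449), (16450, 14261), (16451, 16451), (16452, 16452), (16453, 14269), (16454, 16454), (16455, 14272), (16456, 16456), (16457, 14277), (16458, 16458), (16459, 18533), (16460, 14280), (16461, 18534), (16462, 14282), (16463, 18536), (16464, 14283), (16465, 18539), (16466, 18541), (16467, 14287), (16468, 18544), (16469, 18545), (16470, 14288), (16471, 14486), (16472, 18547), (16473, 14291), (16474, 18548), (16475, 14292), (16476, 18549), (16477, 18551), (16478, 14293), (16479, 18553), (16480, 18554), (16481, 14295), (16482, 14296), (16483, 18546), (16484, 18557), (16485, 14299), (16486, 16486), (16487, 16487), (16488, 18560), (16489, 14306), (16490, 16490), (16491, 14308), (16492, 16492), (16493, 15847), (16494, 18564), (16495, 14312), (16496, 18565), (16497, 14313), (16498, 18566), (16499, 18567), (16500, 14314), (16501, 18569), (16502, 18570), (16503, 14316), (16504, 18572),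 (16505, 14317), (16506, 14332), (16507, 18574), (16508, 14320), (16509, 14322), (16510, 18577), (16511, 14324)]
    ⟨e3 q16448 (flp_i L679060) q14258, e3 q16449 L679090 q16449, e3 q16450 (flp_i L679091) q14261, e3 q16451 L679113 q16451, e3 q16452 L679128 q16452, e3 q16453 (flp_i L679129) q14269, e3 q16454 L679161 q16454, e3 q16455 (flp_i L679162) q14272, e3 q16456 L679182 q16456, e3 q16457 (flp_i L679183) q14277, e3 q16458 L679208 q16458, e3 q16459 L700537 q18533, e3 q16460 (flp_i L679223) q14280, e3 q16461 L700551 q18534, e3 q16462 (flp_i L679250) q14282, e3 q16463 L700582 q18536, e3 q16464 (flp_i L679274) q14283, e3 q16465 L700619 q18539, e3 q16466 L700650 q18541, e3 q16467 (flp_i L679302) q14287, e3 q16468 L700693 q18544, e3 q16469 L700704 q18545, e3 q16470 (flp_i L679330) q14288, e3 q16471 L679351 q14486, e3 q16472 L700723 q18547, e3 q16473 (flp_i L679365) q14291, e3 q16474 L700733 q18548, e3 q16475 (flp_i L679390) q14292, e3 q16476 L700749 q18549, e3 q16477 L700779 q18551, e3 q16478 (flp_i L679426) q14293, e3 q16479 L700799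 q18553, e3 q16480 L700809 q18554, e3 q16481 (flp_i L679451) q14295, e3 q16482 (flp_i L679463) q14296, e3 q16483 (flp_i L700721) q18546, e3 q16484 L700838 q18557, e3 q16485 (flp_i L679494) q14299, e3 q16486 L679519 q16486, e3 q16487 L679529 q16487, e3 q16488 L700873 q18560, e3 q16489 (flp_i L679543) q14306, e3 q16490 L679564 q16490, e3 q16491 (flp_i L679565) q14308, e3 q16492 L679586 q16492, e3 q16493 L679600 q15847, e3 q16494 L700927 q18564, e3 q16495 (flp_i L679612) q14312, e3 q16496 L700939 q18565, e3 q16497 (flp_i L679641) q14313, e3 q16498 L700955 q18566, e3 q16499 L700966 q18567, e3 q16500 (flp_i L679677) q14314, e3 q16501 L700983 q18569, e3 q16502 L701000 q18570, e3 q16503 (flp_i L679712) q14316, e3 q16504 L701022 q18572, e3 q16505 (flp_i L679732) q14317, e3 q16506 L679745 q14332, e3 q16507 L701041 q18574, e3 q16508 (flp_i L679752) q14320, e3 q16509 (flp_i L679760) q14322, e3 q16510 L701066 q18577, e3 q16511 (flp_i L679785) q14324, trivial⟩ (by decide +kernel)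

theorem ce_i_258 : ∀ r, r < 64 → sm gi (Qf (16512 + r)) = Qf (tab Gen.i (16512 + r)) :=
  edges_tab (sm gi) Qf (tab Gen.i) 16512 [(16512, 14325), (16513, 18568), (16514, 18580), (16515, 18581), (16516, 14327), (16517, 18583), (16518, 14328), (16519, 18571), (16520, 18586), (16521, 14330), (16522, 18573), (16523, 16523), (16524, 15852), (16525, 14335), (16526, 16526), (16527, 16527), (16528, 16528), (16529, 14343), (16530, 16530), (16531, 16531), (16532, 16532), (16533, 16533), (16534, 14349), (16535, 16535), (16536, 14353), (16537, 16537), (16538, 18598), (16539, 14357), (16540, 16540), (16541, 14359), (16542, 16542), (16543, 16543), (16544, 16544), (16545, 14364), (16546, 14366), (16547, 16547), (16548, 14368), (16549, 16549), (16550, 14371), (16551, 14373), (16552, 14374), (16553, 16553), (16554, 14376), (16555, 16555), (16556, 14378), (16557, 16557), (16558, 14381), (16559, 16559), (16560, 16560), (16561, 18604), (16562, 14385), (16563, 14490), (16564, 18607), (16565, 18609), (16566, 18610), (16567, 14388), (16568, 14389),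 (16569, 14391), (16570, 14499), (16571, 18614), (16572, 18616), (16573, 18619), (16574, 14395), (16575, 18620)]
    ⟨e3 q16512 (flp_i L679797) q14325, e3 q16513 (flp_i L700981) q18568, e3 q16514 L701099 q18580, e3 q16515 L701115 q18581, e3 q16516 (flp_i L679844) q14327, e3 q16517 L701142 q18583, e3 q16518 (flp_i L679867) q14328, e3 q16519 (flp_i L701020) q18571, e3 q16520 L701169 q18586, e3 q16521 (flp_i L679890) q14330, e3 q16522 (flp_i L701039) q18573, e3 q16523 L679917 q16523, e3 q16524 (flp_i L679932) q15852, e3 q16525 (flp_i L679934) q14335, e3 q16526 L679956 q16526, e3 q16527 L679961 q16527, e3 q16528 L679973 q16528, e3 q16529 (flp_i L679974) q14343, e3 q16530 L680000 q16530, e3 q16531 L680007 q16531, e3 q16532 L680022 q16532, e3 q16533 L680039 q16533, e3 q16534 (flp_i L680040) q14349, e3 q16535 L680071 q16535, e3 q16536 (flp_i L680072) q14353, e3 q16537 L680100 q16537, e3 q16538 L701296 q18598, e3 q16539 (flp_i L680117) q14357, e3 q16540 L680142 q16540, e3 q16541 (flp_i L680143) q14359, e3 q16542 L680169 q16542, e3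 q16543 L680183 q16543, e3 q16544 L680193 q16544, e3 q16545 (flp_i L680198) q14364, e3 q16546 (flp_i L680215) q14366, e3 q16547 L680240 q16547, e3 q16548 (flp_i L680241) q14368, e3 q16549 L680269 q16549, e3 q16550 (flp_i L680270) q14371, e3 q16551 (flp_i L680287) q14373, e3 q16552 (flp_i L680300) q14374, e3 q16553 L680323 q16553, e3 q16554 (flp_i L680324) q14376, e3 q16555 L680352 q16555, e3 q16556 (flp_i L680353) q14378, e3 q16557 L680373 q16557, e3 q16558 (flp_i L680376) q14381, e3 q16559 L680400 q16559, e3 q16560 L680413 q16560, e3 q16561 L701400 q18604, e3 q16562 (flp_i L680431) q14385, e3 q16563 L680459 q14490, e3 q16564 L701442 q18607, e3 q16565 L701469 q18609, e3 q16566 L701484 q18610, e3 q16567 (flp_i L680495) q14388, e3 q16568 (flp_i L680508) q14389, e3 q16569 (flp_i L680518) q14391, e3 q16570 L680546 q14499, e3 q16571 L701531 q18614, e3 q16572 L701560 q18616, e3 q16573 L701602 q18619, e3 q16574 (flp_i L680581) q14395, e3 q16575 L701610 q18620, trivial⟩ (by decide +kernel)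

theorem ce_i_259 : ∀ r, r < 64 → sm gi (Qf (16576 + r)) = Qf (tab Gen.i (16576 + r)) :=
  edges_tab (sm gi) Qf (tab Gen.i) 16576 [(16576, 18621), (16577, 14396), (16578, 14507), (16579, 18625), (16580, 18628), (16581, 14399), (16582, 18629), (16583, 14400), (16584, 18630), (16585, 18632), (16586, 14401), (16587, 18634), (16588, 14403), (16589, 14404), (16590, 18622), (16591, 18637), (16592, 14407), (16593, 16593), (16594, 16594), (16595, 18640), (16596, 14412), (16597, 18641), (16598, 14413), (16599, 14416), (16600, 16600), (16601, 14418), (16602, 16602), (16603, 18646), (16604, 18648), (16605, 18651), (16606, 14423), (16607, 18652), (16608, 14424), (16609, 18654), (16610, 18656), (16611, 14425), (16612, 18658), (16613, 18659), (16614, 14427), (16615, 18662), (16616, 14428), (16617, 14444), (16618, 18665), (16619, 18667), (16620, 14431), (16621, 18670), (16622, 18672), (16623, 14432), (16624, 14434), (16625, 18675), (16626, 14436), (16627, 18678), (16628, 14437), (16629, 18657), (16630, 18680), (16631, 18681), (16632, 14439),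 (16633, 18684), (16634, 14440), (16635, 18660), (16636, 18687), (16637, 14442), (16638, 18663), (16639, 16639)]
    ⟨e3 q16576 L701623 q18621, e3 q16577 (flp_i L680617) q14396, e3 q16578 L680637 q14507, e3 q16579 L701672 q18625, e3 q16580 L701706 q18628, e3 q16581 (flp_i L680663) q14399, e3 q16582 L701716 q18629, e3 q16583 (flp_i L680689) q14400, e3 q16584 L701730 q18630, e3 q16585 L701758 q18632, e3 q16586 (flp_i L680725) q14401, e3 q16587 L701780 q18634, e3 q16588 (flp_i L680745) q14403, e3 q16589 (flp_i L680755) q14404, e3 q16590 (flp_i L701644) q18622, e3 q16591 L701808 q18637, e3 q16592 (flp_i L680786) q14407, e3 q16593 L680808 q16593, e3 q16594 L680819 q16594, e3 q16595 L701850 q18640, e3 q16596 (flp_i L680835) q14412, e3 q16597 L701867 q18641, e3 q16598 (flp_i L680861) q14413, e3 q16599 (flp_i L680874) q14416, e3 q16600 L680895 q16600, e3 q16601 (flp_i L680896) q14418, e3 q16602 L680921 q16602, e3 q16603 L701934 q18646, e3 q16604 L701960 q18648, e3 q16605 L701988 q18651, e3 q16606 (flp_i L680953) q14423, e3 q16607 L701996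 q18652, e3 q16608 (flp_i L680972) q14424, e3 q16609 L702017 q18654, e3 q16610 L702029 q18656, e3 q16611 (flp_i L680998) q14425, e3 q16612 L702044 q18658, e3 q16613 L702053 q18659, e3 q16614 (flp_i L681023) q14427, e3 q16615 L702088 q18662, e3 q16616 (flp_i L681043) q14428, e3 q16617 L681054 q14444, e3 q16618 L702121 q18665, e3 q16619 L702143 q18667, e3 q16620 (flp_i L681076) q14431, e3 q16621 L702169 q18670, e3 q16622 L702185 q18672, e3 q16623 (flp_i L681102) q14432, e3 q16624 (flp_i L681110) q14434, e3 q16625 L702207 q18675, e3 q16626 (flp_i L681122) q14436, e3 q16627 L702233 q18678, e3 q16628 (flp_i L681134) q14437, e3 q16629 (flp_i L702042) q18657, e3 q16630 L702245 q18680, e3 q16631 L702257 q18681, e3 q16632 (flp_i L681158) q14439, e3 q16633 L702289 q18684, e3 q16634 (flp_i L681176) q14440, e3 q16635 (flp_i L702071) q18660, e3 q16636 L702313 q18687, e3 q16637 (flp_i L681200) q14442, e3 q16638 (flp_i L702105) q18663, e3 q16639 L681226 q16639, trivial⟩ (by decide +kernel)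

theorem ce_i_260 : ∀ r, r < 64 → sm gi (Qf (16640 + r)) = Qf (tab Gen.i (16640 + r)) :=
  edges_tab (sm gi) Qf (tab Gen.i) 16640 [(16640, 18690), (16641, 14446), (16642, 16642), (16643, 14449), (16644, 16644), (16645, 16645), (16646, 16646), (16647, 14454), (16648, 18696), (16649, 14455), (16650, 18698), (16651, 18700), (16652, 14457), (16653, 14458), (16654, 16654), (16655, 16655), (16656, 14461), (16657, 16657), (16658, 14464), (16659, 16659), (16660, 16660), (16661, 14468), (16662, 16662), (16663, 18707), (16664, 18708), (16665, 14470), (16666, 14471), (16667, 16667), (16668, 16668), (16669, 14475), (16670, 14478), (16671, 16671), (16672, 16672), (16673, 16673), (16674, 18712), (16675, 18713), (16676, 18714), (16677, 14487), (16678, 14488), (16679, 18717), (16680, 18720), (16681, 14491), (16682, 18721), (16683, 14492), (16684, 18723), (16685, 14493), (16686, 18725), (16687, 14495), (16688, 18715), (16689, 14737), (16690, 18729), (16691, 18731), (16692, 18734), (16693, 14500), (16694, 18736), (16695, 14501), (16696, 18739),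 (16697, 18741), (16698, 14502), (16699, 18743), (16700, 18744), (16701, 14504), (16702, 14505), (16703, 14520)]
    ⟨e3 q16640 L702341 q18690, e3 q16641 (flp_i L681242) q14446, e3 q16642 L681254 q16642, e3 q16643 (flp_i L681255) q14449, e3 q16644 L681277 q16644, e3 q16645 L681280 q16645, e3 q16646 L681297 q16646, e3 q16647 (flp_i L681298) q14454, e3 q16648 L702410 q18696, e3 q16649 (flp_i L681331) q14455, e3 q16650 L702441 q18698, e3 q16651 L702467 q18700, e3 q16652 (flp_i L681367) q14457, e3 q16653 (flp_i L681375) q14458, e3 q16654 L681399 q16654, e3 q16655 L681410 q16655, e3 q16656 (flp_i L681411) q14461, e3 q16657 L681425 q16657, e3 q16658 (flp_i L681426) q14464, e3 q16659 L681452 q16659, e3 q16660 L681457 q16660, e3 q16661 (flp_i L681460) q14468, e3 q16662 L681488 q16662, e3 q16663 L702549 q18707, e3 q16664 L702562 q18708, e3 q16665 (flp_i L681514) q14470, e3 q16666 (flp_i L681526) q14471, e3 q16667 L681554 q16667, e3 q16668 L681562 q16668, e3 q16669 (flp_i L681563) q14475, e3 q16670 (flp_i L681577) q14478, e3 q16671 L681594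 q16671, e3 q16672 L681606 q16672, e3 q16673 L681617 q16673, e3 q16674 L702619 q18712, e3 q16675 L702635 q18713, e3 q16676 L702646 q18714, e3 q16677 (flp_i L681659) q14487, e3 q16678 (flp_i L681670) q14488, e3 q16679 L702680 q18717, e3 q16680 L702712 q18720, e3 q16681 (flp_i L681703) q14491, e3 q16682 L702722 q18721, e3 q16683 (flp_i L681726) q14492, e3 q16684 L702751 q18723, e3 q16685 (flp_i L681748) q14493, e3 q16686 L702766 q18725, e3 q16687 (flp_i L681767) q14495, e3 q16688 (flp_i L702668) q18715, e3 q16689 L681794 q14737, e3 q16690 L702812 q18729, e3 q16691 L702836 q18731, e3 q16692 L702864 q18734, e3 q16693 (flp_i L681829) q14500, e3 q16694 L702889 q18736, e3 q16695 (flp_i L681846) q14501, e3 q16696 L702928 q18739, e3 q16697 L702944 q18741, e3 q16698 (flp_i L681872) q14502, e3 q16699 L702961 q18743, e3 q16700 L702974 q18744, e3 q16701 (flp_i L681905) q14504, e3 q16702 (flp_i L681914) q14505, e3 q16703 L681927 q14520, trivial⟩ (by decide +kernel)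

theorem ce_i_261 : ∀ r, r < 64 → sm gi (Qf (16704 + r)) = Qf (tab Gen.i (16704 + r)) :=
  edges_tab (sm gi) Qf (tab Gen.i) 16704 [(16704, 18748), (16705, 18751), (16706, 14508), (16707, 18754), (16708, 18756), (16709, 14509), (16710, 18758), (16711, 18760), (16712, 14511), (16713, 18763), (16714, 18765), (16715, 14513), (16716, 18767), (16717, 14514), (16718, 18742), (16719, 18769), (16720, 18770), (16721, 14516), (16722, 14517), (16723, 18745), (16724, 18746), (16725, 18776), (16726, 14521), (16727, 16727), (16728, 14523), (16729, 16729), (16730, 16730), (16731, 14527), (16732, 18782), (16733, 18783), (16734, 14528), (16735, 18785), (16736, 14530), (16737, 14531), (16738, 16738), (16739, 18788), (16740, 14533), (16741, 16741), (16742, 18790), (16743, 14535), (16744, 16744), (16745, 14538), (16746, 16746), (16747, 16747), (16748, 18797), (16749, 18800), (16750, 14542), (16751, 18802), (16752, 18805), (16753, 14544), (16754, 18808), (16755, 18810), (16756, 14545), (16757, 18812), (16758, 18814), (16759, 14547), (16760, 18816),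 (16761, 18818), (16762, 14549), (16763, 18821), (16764, 14550), (16765, 14572), (16766, 14552), (16767, 14553)]
    ⟨e3 q16704 L703014 q18748, e3 q16705 L703044 q18751, e3 q16706 (flp_i L681949) q14508, e3 q16707 L703070 q18754, e3 q16708 L703090 q18756, e3 q16709 (flp_i L681979) q14509, e3 q16710 L703108 q18758, e3 q16711 L703130 q18760, e3 q16712 (flp_i L682011) q14511, e3 q16713 L703166 q18763, e3 q16714 L703181 q18765, e3 q16715 (flp_i L682034) q14513, e3 q16716 L703200 q18767, e3 q16717 (flp_i L682050) q14514, e3 q16718 (flp_i L702959) q18742, e3 q16719 L703216 q18769, e3 q16720 L703230 q18770, e3 q16721 (flp_i L682089) q14516, e3 q16722 (flp_i L682097) q14517, e3 q16723 (flp_i L702996) q18745, e3 q16724 (flp_i L703004) q18746, e3 q16725 L703281 q18776, e3 q16726 (flp_i L682132) q14521, e3 q16727 L682158 q16727, e3 q16728 (flp_i L682159) q14523, e3 q16729 L682177 q16729, e3 q16730 L682182 q16730, e3 q16731 (flp_i L682183) q14527, e3 q16732 L703349 q18782, e3 q16733 L703359 q18783, e3 q16734 (flp_i L682214) q14528, e3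 q16735 L703381 q18785, e3 q16736 (flp_i L682235) q14530, e3 q16737 (flp_i L682245) q14531, e3 q16738 L682266 q16738, e3 q16739 L703416 q18788, e3 q16740 (flp_i L682278) q14533, e3 q16741 L682299 q16741, e3 q16742 L703444 q18790, e3 q16743 (flp_i L682311) q14535, e3 q16744 L682328 q16744, e3 q16745 (flp_i L682329) q14538, e3 q16746 L682347 q16746, e3 q16747 L682354 q16747, e3 q16748 L703511 q18797, e3 q16749 L703541 q18800, e3 q16750 (flp_i L682376) q14542, e3 q16751 L703562 q18802, e3 q16752 L703594 q18805, e3 q16753 (flp_i L682407) q14544, e3 q16754 L703625 q18808, e3 q16755 L703640 q18810, e3 q16756 (flp_i L682429) q14545, e3 q16757 L703654 q18812, e3 q16758 L703674 q18814, e3 q16759 (flp_i L682459) q14547, e3 q16760 L703691 q18816, e3 q16761 L703716 q18818, e3 q16762 (flp_i L682492) q14549, e3 q16763 L703743 q18821, e3 q16764 (flp_i L682504) q14550, e3 q16765 L682515 q14572, e3 q16766 (flp_i L682517) q14552, e3 q16767 (flp_i L682530) q14553, trivial⟩ (by decide +kernel)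

theorem ce_i_262 : ∀ r, r < 64 → sm gi (Qf (16768 + r)) = Qf (tab Gen.i (16768 + r)) :=
  edges_tab (sm gi) Qf (tab Gen.i) 16768 [(16768, 14578), (16769, 18826), (16770, 14555), (16771, 14581), (16772, 18830), (16773, 14558), (16774, 18832), (16775, 18834), (16776, 14559), (16777, 18838), (16778, 18841), (16779, 14561), (16780, 18844), (16781, 14562), (16782, 18811), (16783, 18847), (16784, 14564), (16785, 18849), (16786, 14565), (16787, 18815), (16788, 18851), (16789, 18853), (16790, 14567), (16791, 18856), (16792, 14568), (16793, 18819), (16794, 18860), (16795, 14570), (16796, 18822), (16797, 14573), (16798, 14574), (16799, 18823), (16800, 18866), (16801, 14576), (16802, 18824), (16803, 18825), (16804, 18870), (16805, 14579), (16806, 18827), (16807, 18828), (16808, 14582), (16809, 16809), (16810, 18876), (16811, 14585), (16812, 16812), (16813, 16813), (16814, 14588), (16815, 16815), (16816, 16816), (16817, 16817), (16818, 18884), (16819, 14595), (16820, 14596), (16821, 16821), (16822, 18888), (16823, 18890), (16824, 14598),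 (16825, 18893), (16826, 14599), (16827, 16827), (16828, 16828), (16829, 16829), (16830, 14605), (16831, 16831)]
    ⟨e3 q16768 L682546 q14578, e3 q16769 L703787 q18826, e3 q16770 (flp_i L682555) q14555, e3 q16771 L682566 q14581, e3 q16772 L703815 q18830, e3 q16773 (flp_i L682574) q14558, e3 q16774 L703831 q18832, e3 q16775 L703853 q18834, e3 q16776 (flp_i L682600) q14559, e3 q16777 L703891 q18838, e3 q16778 L703919 q18841, e3 q16779 (flp_i L682626) q14561, e3 q16780 L703943 q18844, e3 q16781 (flp_i L682642) q14562, e3 q16782 (flp_i L703652) q18811, e3 q16783 L703966 q18847, e3 q16784 (flp_i L682667) q14564, e3 q16785 L703989 q18849, e3 q16786 (flp_i L682687) q14565, e3 q16787 (flp_i L703689) q18815, e3 q16788 L704009 q18851, e3 q16789 L704036 q18853, e3 q16790 (flp_i L682732) q14567, e3 q16791 L704068 q18856, e3 q16792 (flp_i L682749) q14568, e3 q16793 (flp_i L703734) q18819, e3 q16794 L704095 q18860, e3 q16795 (flp_i L682770) q14570, e3 q16796 (flp_i L703754) q18822, e3 q16797 (flp_i L682782) q14573, e3 q16798 (flp_i L682794)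 q14574, e3 q16799 (flp_i L703768) q18823, e3 q16800 L704145 q18866, e3 q16801 (flp_i L682818) q14576, e3 q16802 (flp_i L703778) q18824, e3 q16803 (flp_i L703784) q18825, e3 q16804 L704169 q18870, e3 q16805 (flp_i L682845) q14579, e3 q16806 (flp_i L703800) q18827, e3 q16807 (flp_i L703804) q18828, e3 q16808 (flp_i L682863) q14582, e3 q16809 L682885 q16809, e3 q16810 L704216 q18876, e3 q16811 (flp_i L682894) q14585, e3 q16812 L682910 q16812, e3 q16813 L682915 q16813, e3 q16814 (flp_i L682916) q14588, e3 q16815 L682936 q16815, e3 q16816 L682941 q16816, e3 q16817 L682944 q16817, e3 q16818 L704286 q18884, e3 q16819 (flp_i L682956) q14595, e3 q16820 (flp_i L682966) q14596, e3 q16821 L682985 q16821, e3 q16822 L704332 q18888, e3 q16823 L704355 q18890, e3 q16824 (flp_i L683009) q14598, e3 q16825 L704389 q18893, e3 q16826 (flp_i L683028) q14599, e3 q16827 L683045 q16827, e3 q16828 L683055 q16828, e3 q16829 L683067 q16829, e3 q16830 (flp_i L683068) q14605, e3 q16831 L683090 q16831, trivial⟩ (by decide +kernel)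

theorem ce_i_263 : ∀ r, r < 64 → sm gi (Qf (16832 + r)) = Qf (tab Gen.i (16832 + r)) :=
  edges_tab (sm gi) Qf (tab Gen.i) 16832 [(16832, 16832), (16833, 16833), (16834, 16834), (16835, 16835), (16836, 16836), (16837, 18901), (16838, 14613), (16839, 14614), (16840, 16840), (16841, 16841), (16842, 16842), (16843, 16843), (16844, 14625), (16845, 16845), (16846, 16846), (16847, 18904), (16848, 14631), (16849, 16849), (16850, 14634), (16851, 16851), (16852, 16852), (16853, 16853), (16854, 18909), (16855, 18912), (16856, 14642), (16857, 18914), (16858, 14643), (16859, 18915), (16860, 14644), (16861, 14646), (16862, 15598), (16863, 18919), (16864, 18921), (16865, 14650), (16866, 18923), (16867, 14651), (16868, 18925), (16869, 14653), (16870, 18927), (16871, 14655), (16872, 15594), (16873, 15599), (16874, 14659), (16875, 16875), (16876, 14661), (16877, 16877), (16878, 16878), (16879, 14665), (16880, 18934), (16881, 18937), (16882, 14668), (16883, 18939), (16884, 18941), (16885, 14670), (16886, 18943), (16887, 14671), (16888, 18946),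 (16889, 14673), (16890, 18948), (16891, 14675), (16892, 14693), (16893, 14699), (16894, 18953), (16895, 14679)]
    ⟨e3 q16832 L683095 q16832, e3 q16833 L683105 q16833, e3 q16834 L683112 q16834, e3 q16835 L683115 q16835, e3 q16836 L683127 q16836, e3 q16837 L704467 q18901, e3 q16838 (flp_i L683141) q14613, e3 q16839 (flp_i L683154) q14614, e3 q16840 L683179 q16840, e3 q16841 L683194 q16841, e3 q16842 L683201 q16842, e3 q16843 L683218 q16843, e3 q16844 (flp_i L683219) q14625, e3 q16845 L683244 q16845, e3 q16846 L683256 q16846, e3 q16847 L704509 q18904, e3 q16848 (flp_i L683273) q14631, e3 q16849 L683297 q16849, e3 q16850 (flp_i L683298) q14634, e3 q16851 L683327 q16851, e3 q16852 L683341 q16852, e3 q16853 L683348 q16853, e3 q16854 L704581 q18909, e3 q16855 L704617 q18912, e3 q16856 (flp_i L683373) q14642, e3 q16857 L704643 q18914, e3 q16858 (flp_i L683397) q14643, e3 q16859 L704654 q18915, e3 q16860 (flp_i L683424) q14644, e3 q16861 (flp_i L683434) q14646, e3 q16862 L683459 q15598, e3 q16863 L704707 q18919, e3 q16864 L704730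 q18921, e3 q16865 (flp_i L683484) q14650, e3 q16866 L704752 q18923, e3 q16867 (flp_i L683506) q14651, e3 q16868 L704776 q18925, e3 q16869 (flp_i L683531) q14653, e3 q16870 L704802 q18927, e3 q16871 (flp_i L683552) q14655, e3 q16872 L683574 q15594, e3 q16873 L683585 q15599, e3 q16874 (flp_i L683587) q14659, e3 q16875 L683607 q16875, e3 q16876 (flp_i L683608) q14661, e3 q16877 L683622 q16877, e3 q16878 L683628 q16878, e3 q16879 (flp_i L683631) q14665, e3 q16880 L704870 q18934, e3 q16881 L704900 q18937, e3 q16882 (flp_i L683663) q14668, e3 q16883 L704922 q18939, e3 q16884 L704945 q18941, e3 q16885 (flp_i L683699) q14670, e3 q16886 L704967 q18943, e3 q16887 (flp_i L683721) q14671, e3 q16888 L705002 q18946, e3 q16889 (flp_i L683745) q14673, e3 q16890 L705027 q18948, e3 q16891 (flp_i L683765) q14675, e3 q16892 L683786 q14693, e3 q16893 L683797 q14699, e3 q16894 L705081 q18953, e3 q16895 (flp_i L683806) q14679, trivial⟩ (by decide +kernel)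

theorem ce_i_264 : ∀ r, r < 64 → sm gi (Qf (16896 + r)) = Qf (tab Gen.i (16896 + r)) :=
  edges_tab (sm gi) Qf (tab Gen.i) 16896 [(16896, 18955), (16897, 18957), (16898, 14680), (16899, 18960), (16900, 18963), (16901, 14682), (16902, 18966), (16903, 14683), (16904, 18944), (16905, 14685), (16906, 18969), (16907, 14686), (16908, 18947), (16909, 14688), (16910, 18972), (16911, 14689), (16912, 15558), (16913, 18975), (16914, 14691), (16915, 18949), (16916, 15179), (16917, 15152), (16918, 18978), (16919, 14697), (16920, 18318), (16921, 18950), (16922, 18982), (16923, 14700), (16924, 16924), (16925, 18985), (16926, 14703), (16927, 16927), (16928, 16928), (16929, 14706), (16930, 16930), (16931, 16931), (16932, 16932), (16933, 16933), (16934, 18991), (16935, 14712), (16936, 14714), (16937, 14715), (16938, 14717), (16939, 18992), (16940, 14718), (16941, 18994), (16942, 18996), (16943, 14732), (16944, 18997), (16945, 14733), (16946, 14734), (16947, 14746), (16948, 19000), (16949, 19003), (16950, 14738), (16951, 19005), (16952, 19006),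 (16953, 14739), (16954, 19008), (16955, 14741), (16956, 14743), (16957, 18998), (16958, 18319), (16959, 19013)]
    ⟨e3 q16896 L705106 q18955, e3 q16897 L705128 q18957, e3 q16898 (flp_i L683835) q14680, e3 q16899 L705158 q18960, e3 q16900 L705204 q18963, e3 q16901 (flp_i L683867) q14682, e3 q16902 L705236 q18966, e3 q16903 (flp_i L683883) q14683, e3 q16904 (flp_i L704989) q18944, e3 q16905 (flp_i L683897) q14685, e3 q16906 L705265 q18969, e3 q16907 (flp_i L683920) q14686, e3 q16908 (flp_i L705025) q18947, e3 q16909 (flp_i L683938) q14688, e3 q16910 L705300 q18972, e3 q16911 (flp_i L683966) q14689, e3 q16912 L683992 q15558, e3 q16913 L705342 q18975, e3 q16914 (flp_i L684002) q14691, e3 q16915 (flp_i L705046) q18949, e3 q16916 L684027 q15179, e3 q16917 L684042 q15152, e3 q16918 L705364 q18978, e3 q16919 (flp_i L684055) q14697, e3 q16920 (flp_i L697851) q18318, e3 q16921 (flp_i L705053) q18950, e3 q16922 L705405 q18982, e3 q16923 (flp_i L684091) q14700, e3 q16924 L684108 q16924, e3 q16925 L705435 q18985, e3 q16926 (flp_i L684122)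 q14703, e3 q16927 L684134 q16927, e3 q16928 L684139 q16928, e3 q16929 (flp_i L684142) q14706, e3 q16930 L684163 q16930, e3 q16931 L684171 q16931, e3 q16932 L684177 q16932, e3 q16933 L684191 q16933, e3 q16934 L705495 q18991, e3 q16935 (flp_i L684207) q14712, e3 q16936 (flp_i L684224) q14714, e3 q16937 (flp_i L684240) q14715, e3 q16938 (flp_i L684258) q14717, e3 q16939 L705512 q18992, e3 q16940 (flp_i L684290) q14718, e3 q16941 L705540 q18994, e3 q16942 L705564 q18996, e3 q16943 (flp_i L684332) q14732, e3 q16944 L705574 q18997, e3 q16945 (flp_i L684355) q14733, e3 q16946 (flp_i L684367) q14734, e3 q16947 L684384 q14746, e3 q16948 L705606 q19000, e3 q16949 L705633 q19003, e3 q16950 (flp_i L684404) q14738, e3 q16951 L705649 q19005, e3 q16952 L705658 q19006, e3 q16953 (flp_i L684426) q14739, e3 q16954 L705674 q19008, e3 q16955 (flp_i L684446) q14741, e3 q16956 (flp_i L684455) q14743, e3 q16957 (flp_i L705593) q18998, e3 q16958 (flp_i L697866) q18319, e3 q16959 L705716 q19013, trivial⟩ (by decide +kernel)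

theorem ce_i_265 : ∀ r, r < 64 → sm gi (Qf (16960 + r)) = Qf (tab Gen.i (16960 + r)) :=
  edges_tab (sm gi) Qf (tab Gen.i) 16960 [(16960, 19016), (16961, 14748), (16962, 19018), (16963, 19020), (16964, 14750), (16965, 19022), (16966, 14751), (16967, 19025), (16968, 14753), (16969, 19027), (16970, 14755), (16971, 14773), (16972, 14777), (16973, 19032), (16974, 14759), (16975, 19034), (16976, 19036), (16977, 14760), (16978, 19039), (16979, 19042), (16980, 14762), (16981, 19044), (16982, 14763), (16983, 19023), (16984, 19047), (16985, 14765), (16986, 19050), (16987, 14766), (16988, 19026), (16989, 14768), (16990, 19053), (16991, 14769), (16992, 15740), (16993, 14771), (16994, 19028), (16995, 15749), (16996, 15754), (16997, 19029), (16998, 19059), (16999, 14778), (17000, 17000), (17001, 17001), (17002, 17002), (17003, 17003), (17004, 19065), (17005, 19066), (17006, 14784), (17007, 19068), (17008, 14786), (17009, 14787), (17010, 19070), (17011, 19072), (17012, 14789), (17013, 19074), (17014, 14790), (17015, 14794), (17016, 19076),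 (17017, 19079), (17018, 14798), (17019, 19082), (17020, 19084), (17021, 14799), (17022, 19088), (17023, 14801)]
    ⟨e3 q16960 L705754 q19016, e3 q16961 (flp_i L684497) q14748, e3 q16962 L705778 q19018, e3 q16963 L705805 q19020, e3 q16964 (flp_i L684537) q14750, e3 q16965 L705827 q19022, e3 q16966 (flp_i L684559) q14751, e3 q16967 L705862 q19025, e3 q16968 (flp_i L684583) q14753, e3 q16969 L705887 q19027, e3 q16970 (flp_i L684603) q14755, e3 q16971 L684624 q14773, e3 q16972 L684635 q14777, e3 q16973 L705941 q19032, e3 q16974 (flp_i L684646) q14759, e3 q16975 L705964 q19034, e3 q16976 L705986 q19036, e3 q16977 (flp_i L684677) q14760, e3 q16978 L706012 q19039, e3 q16979 L706042 q19042, e3 q16980 (flp_i L684709) q14762, e3 q16981 L706066 q19044, e3 q16982 (flp_i L684727) q14763, e3 q16983 (flp_i L705849) q19023, e3 q16984 L706095 q19047, e3 q16985 (flp_i L684757) q14765, e3 q16986 L706131 q19050, e3 q16987 (flp_i L684778) q14766, e3 q16988 (flp_i L705885) q19026, e3 q16989 (flp_i L684796) q14768, e3 q16990 L706162 q19053, e3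 q16991 (flp_i L684815) q14769, e3 q16992 L684836 q15740, e3 q16993 (flp_i L684838) q14771, e3 q16994 (flp_i L705906) q19028, e3 q16995 L684863 q15749, e3 q16996 L684874 q15754, e3 q16997 (flp_i L705913) q19029, e3 q16998 L706214 q19059, e3 q16999 (flp_i L684890) q14778, e3 q17000 L684909 q17000, e3 q17001 L684917 q17001, e3 q17002 L684924 q17002, e3 q17003 L684930 q17003, e3 q17004 L706271 q19065, e3 q17005 L706286 q19066, e3 q17006 (flp_i L684958) q14784, e3 q17007 L706312 q19068, e3 q17008 (flp_i L684985) q14786, e3 q17009 (flp_i L684999) q14787, e3 q17010 L706341 q19070, e3 q17011 L706367 q19072, e3 q17012 (flp_i L685036) q14789, e3 q17013 L706394 q19074, e3 q17014 (flp_i L685056) q14790, e3 q17015 (flp_i L685069) q14794, e3 q17016 L706417 q19076, e3 q17017 L706448 q19079, e3 q17018 (flp_i L685104) q14798, e3 q17019 L706468 q19082, e3 q17020 L706482 q19084, e3 q17021 (flp_i L685126) q14799, e3 q17022 L706516 q19088, e3 q17023 (flp_i L685142) q14801, trivial⟩ (by decide +kernel)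

theorem ce_i_266 : ∀ r, r < 64 → sm gi (Qf (17024 + r)) = Qf (tab Gen.i (17024 + r)) :=
  edges_tab (sm gi) Qf (tab Gen.i) 17024 [(17024, 19091), (17025, 19093), (17026, 14802), (17027, 19096), (17028, 19099), (17029, 14804), (17030, 19102), (17031, 14805), (17032, 14833), (17033, 19104), (17034, 19106), (17035, 14807), (17036, 19109), (17037, 14808), (17038, 14839), (17039, 14810), (17040, 19113), (17041, 14811), (17042, 14845), (17043, 19116), (17044, 14813), (17045, 14848), (17046, 14852), (17047, 19120), (17048, 14817), (17049, 14855), (17050, 19123), (17051, 14820), (17052, 14859), (17053, 14860), (17054, 19129), (17055, 19131), (17056, 14823), (17057, 19135), (17058, 19138), (17059, 14825), (17060, 19141), (17061, 14826), (17062, 19094), (17063, 19144), (17064, 19147), (17065, 14828), (17066, 19151), (17067, 19153), (17068, 14829), (17069, 19100), (17070, 19157), (17071, 14831), (17072, 19103), (17073, 19160), (17074, 19162), (17075, 14834), (17076, 19165), (17077, 14835), (17078, 19107), (17079, 19169), (17080, 14837),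 (17081, 19110), (17082, 14840), (17083, 19174), (17084, 14841), (17085, 19111), (17086, 19178), (17087, 14843)]
    ⟨e3 q17024 L706549 q19091, e3 q17025 L706569 q19093, e3 q17026 (flp_i L685169) q14802, e3 q17027 L706591 q19096, e3 q17028 L706621 q19099, e3 q17029 (flp_i L685197) q14804, e3 q17030 L706653 q19102, e3 q17031 (flp_i L685215) q14805, e3 q17032 L685227 q14833, e3 q17033 L706667 q19104, e3 q17034 L706690 q19106, e3 q17035 (flp_i L685253) q14807, e3 q17036 L706722 q19109, e3 q17037 (flp_i L685271) q14808, e3 q17038 L685284 q14839, e3 q17039 (flp_i L685286) q14810, e3 q17040 L706762 q19113, e3 q17041 (flp_i L685304) q14811, e3 q17042 L685326 q14845, e3 q17043 L706791 q19116, e3 q17044 (flp_i L685335) q14813, e3 q17045 L685346 q14848, e3 q17046 L685357 q14852, e3 q17047 L706826 q19120, e3 q17048 (flp_i L685373) q14817, e3 q17049 L685397 q14855, e3 q17050 L706868 q19123, e3 q17051 (flp_i L685407) q14820, e3 q17052 L685421 q14859, e3 q17053 L685426 q14860, e3 q17054 L706921 q19129, e3 q17055 L706937 q19131, e3 q17056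 (flp_i L685444) q14823, e3 q17057 L706972 q19135, e3 q17058 L706996 q19138, e3 q17059 (flp_i L685467) q14825, e3 q17060 L707016 q19141, e3 q17061 (flp_i L685483) q14826, e3 q17062 (flp_i L706581) q19094, e3 q17063 L707036 q19144, e3 q17064 L707060 q19147, e3 q17065 (flp_i L685509) q14828, e3 q17066 L707087 q19151, e3 q17067 L707103 q19153, e3 q17068 (flp_i L685531) q14829, e3 q17069 (flp_i L706643) q19100, e3 q17070 L707139 q19157, e3 q17071 (flp_i L685553) q14831, e3 q17072 (flp_i L706665) q19103, e3 q17073 L707157 q19160, e3 q17074 L707177 q19162, e3 q17075 (flp_i L685586) q14834, e3 q17076 L707202 q19165, e3 q17077 (flp_i L685602) q14835, e3 q17078 (flp_i L706714) q19107, e3 q17079 L707240 q19169, e3 q17080 (flp_i L685624) q14837, e3 q17081 (flp_i L706736) q19110, e3 q17082 (flp_i L685639) q14840, e3 q17083 L707279 q19174, e3 q17084 (flp_i L685652) q14841, e3 q17085 (flp_i L706746) q19111, e3 q17086 L707311 q19178, e3 q17087 (flp_i L685674) q14843, trivial⟩ (by decide +kernel)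

theorem ce_i_267 : ∀ r, r < 64 → sm gi (Qf (17088 + r)) = Qf (tab Gen.i (17088 + r)) :=
  edges_tab (sm gi) Qf (tab Gen.i) 17088 [(17088, 19114), (17089, 15649), (17090, 19182), (17091, 14846), (17092, 19117), (17093, 19118), (17094, 18438), (17095, 19187), (17096, 14850), (17097, 18437), (17098, 15651), (17099, 19190), (17100, 14853), (17101, 19121), (17102, 19122), (17103, 15119), (17104, 14857), (17105, 19124), (17106, 19125), (17107, 19126), (17108, 19199), (17109, 14861), (17110, 17110), (17111, 17111), (17112, 14864), (17113, 17113), (17114, 17114), (17115, 17115), (17116, 17116), (17117, 17117), (17118, 17118), (17119, 17119), (17120, 19211), (17121, 19213), (17122, 14873), (17123, 14874), (17124, 14902), (17125, 19215), (17126, 19214), (17127, 14876), (17128, 19218), (17129, 14877), (17130, 14962), (17131, 14897), (17132, 19220), (17133, 14881), (17134, 19222), (17135, 14882), (17136, 14964), (17137, 19224), (17138, 14884), (17139, 14967), (17140, 14968), (17141, 14969), (17142, 14888), (17143, 14971), (17144, 14972),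 (17145, 14973), (17146, 14974), (17147, 14975), (17148, 14901), (17149, 14904), (17150, 14976), (17151, 14906)]
    ⟨e3 q17088 (flp_i L706782) q19114, e3 q17089 L685695 q15649, e3 q17090 L707343 q19182, e3 q17091 (flp_i L685707) q14846, e3 q17092 (flp_i L706802) q19117, e3 q17093 (flp_i L706808) q19118, e3 q17094 (flp_i L699299) q18438, e3 q17095 L707383 q19187, e3 q17096 (flp_i L685745) q14850, e3 q17097 (flp_i L699282) q18437, e3 q17098 L685773 q15651, e3 q17099 L707417 q19190, e3 q17100 (flp_i L685785) q14853, e3 q17101 (flp_i L706853) q19121, e3 q17102 (flp_i L706860) q19122, e3 q17103 L685816 q15119, e3 q17104 (flp_i L685818) q14857, e3 q17105 (flp_i L706882) q19124, e3 q17106 (flp_i L706889) q19125, e3 q17107 (flp_i L706898) q19126, e3 q17108 L707494 q19199, e3 q17109 (flp_i L685852) q14861, e3 q17110 L685865 q17110, e3 q17111 L685871 q17111, e3 q17112 (flp_i L685872) q14864, e3 q17113 L685886 q17113, e3 q17114 L685891 q17114, e3 q17115 L685896 q17115, e3 q17116 L685906 q17116, e3 q17117 L685911 q17117, e3 q17118 L685919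 q17118, e3 q17119 L685929 q17119, e3 q17120 L707588 q19211, e3 q17121 L707617 q19213, e3 q17122 (flp_i L685959) q14873, e3 q17123 (flp_i L685968) q14874, e3 q17124 L685997 q14902, e3 q17125 L707650 q19215, e3 q17126 (flp_i L707648) q19214, e3 q17127 (flp_i L686030) q14876, e3 q17128 L707694 q19218, e3 q17129 (flp_i L686045) q14877, e3 q17130 L686064 q14962, e3 q17131 L686079 q14897, e3 q17132 L707713 q19220, e3 q17133 (flp_i L686094) q14881, e3 q17134 L707744 q19222, e3 q17135 (flp_i L686111) q14882, e3 q17136 L686136 q14964, e3 q17137 L707763 q19224, e3 q17138 (flp_i L686145) q14884, e3 q17139 L686165 q14967, e3 q17140 L686175 q14968, e3 q17141 L686188 q14969, e3 q17142 (flp_i L686192) q14888, e3 q17143 L686214 q14971, e3 q17144 L686223 q14972, e3 q17145 L686238 q14973, e3 q17146 L686246 q14974, e3 q17147 L686256 q14975, e3 q17148 (flp_i L686259) q14901, e3 q17149 (flp_i L686272) q14904, e3 q17150 L686299 q14976, e3 q17151 (flp_i L686301) q14906, trivial⟩ (by decide +kernel)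

theorem ce_i_268 : ∀ r, r < 64 → sm gi (Qf (17152 + r)) = Qf (tab Gen.i (17152 + r)) :=
  edges_tab (sm gi) Qf (tab Gen.i) 17152 [(17152, 14977), (17153, 14978), (17154, 14979), (17155, 19233), (17156, 14919), (17157, 14920), (17158, 14922), (17159, 14924), (17160, 19235), (17161, 14925), (17162, 14960), (17163, 14961), (17164, 19237), (17165, 14934), (17166, 19239), (17167, 14935), (17168, 19243), (17169, 19245), (17170, 14937), (17171, 14938), (17172, 17172), (17173, 19248), (17174, 14941), (17175, 19249), (17176, 19251), (17177, 14943), (17178, 19253), (17179, 14944), (17180, 14947), (17181, 14949), (17182, 19254), (17183, 19255), (17184, 19219), (17185, 19221), (17186, 19223), (17187, 14965), (17188, 19258), (17189, 19226), (17190, 19227), (17191, 19228), (17192, 19229), (17193, 19230), (17194, 19231), (17195, 19232), (17196, 14981), (17197, 19263), (17198, 14984), (17199, 14986), (17200, 18126), (17201, 15001), (17202, 14992), (17203, 14994), (17204, 15352), (17205, 19268), (17206, 14996), (17207, 19270), (17208, 14997),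 (17209, 18119), (17210, 14999), (17211, 15343), (17212, 19274), (17213, 15009), (17214, 15010), (17215, 15012)]
    ⟨e3 q17152 L686326 q14977, e3 q17153 L686339 q14978, e3 q17154 L686348 q14979, e3 q17155 L707853 q19233, e3 q17156 (flp_i L686365) q14919, e3 q17157 (flp_i L686377) q14920, e3 q17158 (flp_i L686389) q14922, e3 q17159 (flp_i L686403) q14924, e3 q17160 L707883 q19235, e3 q17161 (flp_i L686434) q14925, e3 q17162 L686461 q14960, e3 q17163 L686478 q14961, e3 q17164 L707914 q19237, e3 q17165 (flp_i L686497) q14934, e3 q17166 L707943 q19239, e3 q17167 (flp_i L686520) q14935, e3 q17168 L707992 q19243, e3 q17169 L708012 q19245, e3 q17170 (flp_i L686552) q14937, e3 q17171 (flp_i L686559) q14938, e3 q17172 L686580 q17172, e3 q17173 L708050 q19248, e3 q17174 (flp_i L686594) q14941, e3 q17175 L708065 q19249, e3 q17176 L708094 q19251, e3 q17177 (flp_i L686638) q14943, e3 q17178 L708123 q19253, e3 q17179 (flp_i L686659) q14944, e3 q17180 (flp_i L686675) q14947, e3 q17181 (flp_i L686689) q14949, e3 q17182 L708135 q19254, e3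 q17183 L708150 q19255, e3 q17184 (flp_i L707709) q19219, e3 q17185 (flp_i L707742) q19221, e3 q17186 (flp_i L707761) q19223, e3 q17187 (flp_i L686767) q14965, e3 q17188 (flp_i L708196) q19258, e3 q17189 (flp_i L707784) q19226, e3 q17190 (flp_i L707794) q19227, e3 q17191 (flp_i L707805) q19228, e3 q17192 (flp_i L707821) q19229, e3 q17193 (flp_i L707830) q19230, e3 q17194 (flp_i L707841) q19231, e3 q17195 (flp_i L707851) q19232, e3 q17196 (flp_i L686858) q14981, e3 q17197 (flp_i L708254) q19263, e3 q17198 (flp_i L686884) q14984, e3 q17199 (flp_i L686898) q14986, e3 q17200 (flp_i L695185) q18126, e3 q17201 L686930 q15001, e3 q17202 (flp_i L686932) q14992, e3 q17203 (flp_i L686942) q14994, e3 q17204 L686964 q15352, e3 q17205 L708312 q19268, e3 q17206 (flp_i L686979) q14996, e3 q17207 L708337 q19270, e3 q17208 (flp_i L687004) q14997, e3 q17209 (flp_i L695064) q18119, e3 q17210 (flp_i L687021) q14999, e3 q17211 L687041 q15343, e3 q17212 L708386 q19274, e3 q17213 (flp_i L687055) q15009, e3 q17214 (flp_i L687071) q15010, e3 q17215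 (flp_i L687085) q15012, trivial⟩ (by decide +kernel)

theorem ce_i_269 : ∀ r, r < 64 → sm gi (Qf (17216 + r)) = Qf (tab Gen.i (17216 + r)) :=
  edges_tab (sm gi) Qf (tab Gen.i) 17216 [(17216, 15018), (17217, 19277), (17218, 15014), (17219, 19275), (17220, 19276), (17221, 15466), (17222, 19281), (17223, 15020), (17224, 15021), (17225, 18211), (17226, 19284), (17227, 15024), (17228, 19286), (17229, 15026), (17230, 18207), (17231, 18214), (17232, 15030), (17233, 15032), (17234, 15033), (17235, 19288), (17236, 15038), (17237, 15057), (17238, 19290), (17239, 15041), (17240, 15065), (17241, 19293), (17242, 15044), (17243, 19295), (17244, 19296), (17245, 15045), (17246, 19299), (17247, 19302), (17248, 15047), (17249, 19305), (17250, 15048), (17251, 19289), (17252, 19307), (17253, 15050), (17254, 15493), (17255, 19310), (17256, 15052), (17257, 19313), (17258, 15053), (17259, 18180), (17260, 19316), (17261, 15055), (17262, 15484), (17263, 15058), (17264, 18176), (17265, 19319), (17266, 15060), (17267, 18183), (17268, 15505), (17269,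 19322), (17270, 15063), (17271, 19291), (17272, 15066), (17273, 15068), (17274, 15072), (17275, 15074), (17276, 19324), (17277, 15075), (17278, 15078), (17279, 15337)]
    ⟨e3 q17216 L687107 q15018, e3 q17217 L708428 q19277, e3 q17218 (flp_i L687119) q15014, e3 q17219 (flp_i L708412) q19275, e3 q17220 (flp_i L708426) q19276, e3 q17221 L687155 q15466, e3 q17222 L708476 q19281, e3 q17223 (flp_i L687171) q15020, e3 q17224 (flp_i L687186) q15021, e3 q17225 (flp_i L696443) q18211, e3 q17226 L708518 q19284, e3 q17227 (flp_i L687216) q15024, e3 q17228 L708534 q19286, e3 q17229 (flp_i L687236) q15026, e3 q17230 (flp_i L696383) q18207, e3 q17231 (flp_i L696493) q18214, e3 q17232 (flp_i L687268) q15030, e3 q17233 (flp_i L687283) q15032, e3 q17234 (flp_i L687300) q15033, e3 q17235 L708562 q19288, e3 q17236 (flp_i L687329) q15038, e3 q17237 L687349 q15057, e3 q17238 L708584 q19290, e3 q17239 (flp_i L687361) q15041, e3 q17240 L687381 q15065, e3 q17241 L708616 q19293, e3 q17242 (flp_i L687393) q15044, e3 q17243 L708636 q19295, e3 q17244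 L708646 q19296, e3 q17245 (flp_i L687429) q15045, e3 q17246 L708678 q19299, e3 q17247 L708712 q19302, e3 q17248 (flp_i L687453) q15047, e3 q17249 L708734 q19305, e3 q17250 (flp_i L687473) q15048, e3 q17251 (flp_i L708582) q19289, e3 q17252 L708752 q19307, e3 q17253 (flp_i L687501) q15050, e3 q17254 L687523 q15493, e3 q17255 L708789 q19310, e3 q17256 (flp_i L687538) q15052, e3 q17257 L708819 q19313, e3 q17258 (flp_i L687557) q15053, e3 q17259 (flp_i L695979) q18180, e3 q17260 L708848 q19316, e3 q17261 (flp_i L687584) q15055, e3 q17262 L687604 q15484, e3 q17263 (flp_i L687606) q15058, e3 q17264 (flp_i L695916) q18176, e3 q17265 L708876 q19319, e3 q17266 (flp_i L687626) q15060, e3 q17267 (flp_i L696027) q18183, e3 q17268 L687643 q15505, e3 q17269 L708892 q19322, e3 q17270 (flp_i L687653) q15063, e3 q17271 (flp_i L708604) q19291, e3 q17272 (flp_i L687667) q15066, e3 q17273 (flp_i L687678) q15068, e3 q17274 (flp_i L687691) q15072, e3 q17275 (flp_i L687699) q15074, e3 q17276 L708908 q19324, e3 q17277 (flp_i L687724) q15075, e3 q17278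 (flp_i L687739) q15078, e3 q17279 L687759 q15337, trivial⟩ (by decide +kernel)

theorem ce_i_270 : ∀ r, r < 64 → sm gi (Qf (17280 + r)) = Qf (tab Gen.i (17280 + r)) :=
  edges_tab (sm gi) Qf (tab Gen.i) 17280 [(17280, 15469), (17281, 15084), (17282, 15086), (17283, 15330), (17284, 15093), (17285, 17285), (17286, 17286), (17287, 17287), (17288, 17288), (17289, 17289), (17290, 19329), (17291, 15099), (17292, 19331), (17293, 15100), (17294, 19332), (17295, 15101), (17296, 15103), (17297, 15116), (17298, 19335), (17299, 15107), (17300, 19339), (17301, 19340), (17302, 15109), (17303, 15110), (17304, 19333), (17305, 19344), (17306, 15112), (17307, 19334), (17308, 19346), (17309, 15114), (17310, 19181), (17311, 15117), (17312, 18917), (17313, 19194), (17314, 19351), (17315, 15120), (17316, 17316), (17317, 19354), (17318, 15123), (17319, 17319), (17320, 15126), (17321, 17321), (17322, 17322), (17323, 17323), (17324, 17324), (17325, 17325), (17326, 15132), (17327, 17327), (17328, 17328), (17329, 15135), (17330, 17330), (17331, 17331),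 (17332, 17332), (17333, 15144), (17334, 19364), (17335, 15146), (17336, 19365), (17337, 15147), (17338, 15149), (17339, 18973), (17340, 19369), (17341, 19370), (17342, 15153), (17343, 19372)]
    ⟨e3 q17280 L687765 q15469, e3 q17281 (flp_i L687767) q15084, e3 q17282 (flp_i L687782) q15086, e3 q17283 L687802 q15330, e3 q17284 (flp_i L687804) q15093, e3 q17285 L687826 q17285, e3 q17286 L687834 q17286, e3 q17287 L687850 q17287, e3 q17288 L687857 q17288, e3 q17289 L687867 q17289, e3 q17290 L708970 q19329, e3 q17291 (flp_i L687882) q15099, e3 q17292 L708996 q19331, e3 q17293 (flp_i L687909) q15100, e3 q17294 L709008 q19332, e3 q17295 (flp_i L687934) q15101, e3 q17296 (flp_i L687944) q15103, e3 q17297 L687969 q15116, e3 q17298 L709045 q19335, e3 q17299 (flp_i L687981) q15107, e3 q17300 L709091 q19339, e3 q17301 L709101 q19340, e3 q17302 (flp_i L688009) q15109, e3 q17303 (flp_i L688019) q15110, e3 q17304 (flp_i L709028) q19333, e3 q17305 L709144 q19344, e3 q17306 (flp_i L688050) q15112, e3 q17307 (flp_i L709043) q19334, e3 q17308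 L709168 q19346, e3 q17309 (flp_i L688090) q15114, e3 q17310 (flp_i L707341) q19181, e3 q17311 (flp_i L688112) q15117, e3 q17312 (flp_i L704692) q18917, e3 q17313 (flp_i L707459) q19194, e3 q17314 L709224 q19351, e3 q17315 (flp_i L688156) q15120, e3 q17316 L688172 q17316, e3 q17317 L709254 q19354, e3 q17318 (flp_i L688185) q15123, e3 q17319 L688207 q17319, e3 q17320 (flp_i L688208) q15126, e3 q17321 L688230 q17321, e3 q17322 L688237 q17322, e3 q17323 L688251 q17323, e3 q17324 L688257 q17324, e3 q17325 L688265 q17325, e3 q17326 (flp_i L688268) q15132, e3 q17327 L688285 q17327, e3 q17328 L688293 q17328, e3 q17329 (flp_i L688300) q15135, e3 q17330 L688319 q17330, e3 q17331 L688327 q17331, e3 q17332 L688336 q17332, e3 q17333 (flp_i L688341) q15144, e3 q17334 L709368 q19364, e3 q17335 (flp_i L688369) q15146, e3 q17336 L709380 q19365, e3 q17337 (flp_i L688392) q15147, e3 q17338 (flp_i L688402) q15149, e3 q17339 (flp_i L705330) q18973, e3 q17340 L709423 q19369, e3 q17341 L709432 q19370, e3 q17342 (flp_i L688442) q15153, e3 q17343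 L709448 q19372, trivial⟩ (by decide +kernel)

theorem ce_i_271 : ∀ r, r < 64 → sm gi (Qf (17344 + r)) = Qf (tab Gen.i (17344 + r)) :=
  edges_tab (sm gi) Qf (tab Gen.i) 17344 [(17344, 15155), (17345, 15157), (17346, 15175), (17347, 15178), (17348, 19378), (17349, 15161), (17350, 19381), (17351, 19383), (17352, 15162), (17353, 19386), (17354, 19389), (17355, 15164), (17356, 19391), (17357, 15165), (17358, 19371), (17359, 19393), (17360, 19395), (17361, 15167), (17362, 19397), (17363, 15168), (17364, 19373), (17365, 15170), (17366, 19400), (17367, 15171), (17368, 19374), (17369, 15173), (17370, 18971), (17371, 18268), (17372, 18267), (17373, 19375), (17374, 15180), (17375, 19408), (17376, 15183), (17377, 19410), (17378, 19412), (17379, 15185), (17380, 15186), (17381, 17381), (17382, 19415), (17383, 19417), (17384, 15188), (17385, 19419), (17386, 15189), (17387, 17387), (17388, 17388), (17389, 19422), (17390, 15193), (17391, 17391), (17392, 15196), (17393, 17393), (17394, 17394), (17395, 17395), (17396, 17396), (17397, 17397),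 (17398, 19431), (17399, 19432), (17400, 15202), (17401, 19436), (17402, 15204), (17403, 19439), (17404, 19440), (17405, 15205), (17406, 19443), (17407, 19446)]
    ⟨e3 q17344 (flp_i L688462) q15155, e3 q17345 (flp_i L688475) q15157, e3 q17346 L688492 q15175, e3 q17347 L688501 q15178, e3 q17348 L709512 q19378, e3 q17349 (flp_i L688510) q15161, e3 q17350 L709537 q19381, e3 q17351 L709563 q19383, e3 q17352 (flp_i L688537) q15162, e3 q17353 L709587 q19386, e3 q17354 L709615 q19389, e3 q17355 (flp_i L688561) q15164, e3 q17356 L709631 q19391, e3 q17357 (flp_i L688579) q15165, e3 q17358 (flp_i L709446) q19371, e3 q17359 L709647 q19393, e3 q17360 L709667 q19395, e3 q17361 (flp_i L688612) q15167, e3 q17362 L709688 q19397, e3 q17363 (flp_i L688635) q15168, e3 q17364 (flp_i L709473) q19373, e3 q17365 (flp_i L688657) q15170, e3 q17366 L709721 q19400, e3 q17367 (flp_i L688672) q15171, e3 q17368 (flp_i L709483) q19374, e3 q17369 (flp_i L688691) q15173, e3 q17370 (flp_i L705298) q18971, e3 q17371 (flp_i L697163) q18268, e3 q17372 (flp_i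 L697148) q18267, e3 q17373 (flp_i L709490) q19375, e3 q17374 (flp_i L688738) q15180, e3 q17375 L709799 q19408, e3 q17376 (flp_i L688765) q15183, e3 q17377 L709827 q19410, e3 q17378 L709847 q19412, e3 q17379 (flp_i L688799) q15185, e3 q17380 (flp_i L688809) q15186, e3 q17381 L688834 q17381, e3 q17382 L709886 q19415, e3 q17383 L709904 q19417, e3 q17384 (flp_i L688854) q15188, e3 q17385 L709924 q19419, e3 q17386 (flp_i L688872) q15189, e3 q17387 L688891 q17387, e3 q17388 L688902 q17388, e3 q17389 L709956 q19422, e3 q17390 (flp_i L688913) q15193, e3 q17391 L688932 q17391, e3 q17392 (flp_i L688933) q15196, e3 q17393 L688951 q17393, e3 q17394 L688958 q17394, e3 q17395 L688972 q17395, e3 q17396 L688980 q17396, e3 q17397 L688988 q17397, e3 q17398 L710047 q19431, e3 q17399 L710056 q19432, e3 q17400 (flp_i L689011) q15202, e3 q17401 L710096 q19436, e3 q17402 (flp_i L689030) q15204, e3 q17403 L710126 q19439, e3 q17404 L710135 q19440, e3 q17405 (flp_i L689061) q15205, e3 q17406 L710165 q19443, e3 q17407 L710187 q19446, trivial⟩ (by decide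 +kernel)

theorem ce_i_272 : ∀ r, r < 64 → sm gi (Qf (17408 + r)) = Qf (tab Gen.i (17408 + r)) :=
  edges_tab (sm gi) Qf (tab Gen.i) 17408 [(17408, 15207), (17409, 19449), (17410, 15208), (17411, 15235), (17412, 19451), (17413, 15210), (17414, 15241), (17415, 19454), (17416, 15212), (17417, 19456), (17418, 15213), (17419, 15247), (17420, 19459), (17421, 15215), (17422, 15250), (17423, 15218), (17424, 15255), (17425, 15258), (17426, 15259), (17427, 19463), (17428, 15222), (17429, 15262), (17430, 19466), (17431, 19468), (17432, 15225), (17433, 19471), (17434, 19474), (17435, 15227), (17436, 19476), (17437, 15228), (17438, 19441), (17439, 19479), (17440, 19482), (17441, 15230), (17442, 19486), (17443, 19488), (17444, 15231), (17445, 19447), (17446, 19492), (17447, 15233), (17448, 19450), (17449, 19496), (17450, 19498), (17451, 15236), (17452, 19500), (17453, 15237), (17454, 19452), (17455, 15239), (17456, 15965), (17457, 19505), (17458, 15242), (17459, 19508), (17460, 15243), (17461, 19455), (17462, 19512), (17463, 15245), (17464,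 19457), (17465, 19458), (17466, 19516), (17467, 15248), (17468, 19460), (17469, 15251), (17470, 19188), (17471, 19520)]
    ⟨e3 q17408 (flp_i L689086) q15207, e3 q17409 L710213 q19449, e3 q17410 (flp_i L689105) q15208, e3 q17411 L689117 q15235, e3 q17412 L710233 q19451, e3 q17413 (flp_i L689131) q15210, e3 q17414 L689150 q15241, e3 q17415 L710272 q19454, e3 q17416 (flp_i L689168) q15212, e3 q17417 L710298 q19456, e3 q17418 (flp_i L689187) q15213, e3 q17419 L689205 q15247, e3 q17420 L710327 q19459, e3 q17421 (flp_i L689219) q15215, e3 q17422 L689239 q15250, e3 q17423 (flp_i L689241) q15218, e3 q17424 L689263 q15255, e3 q17425 L689272 q15258, e3 q17426 L689277 q15259, e3 q17427 L710372 q19463, e3 q17428 (flp_i L689291) q15222, e3 q17429 L689310 q15262, e3 q17430 L710399 q19466, e3 q17431 L710413 q19468, e3 q17432 (flp_i L689325) q15225, e3 q17433 L710436 q19471, e3 q17434 L710464 q19474, e3 q17435 (flp_i L689350) q15227, e3 q17436 L710480 q19476, e3 q17437 (flp_i L689372) q15228, e3 q17438 (flp_i L710155) q19441, e3 q17439 L710506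 q19479, e3 q17440 L710530 q19482, e3 q17441 (flp_i L689402) q15230, e3 q17442 L710555 q19486, e3 q17443 L710567 q19488, e3 q17444 (flp_i L689422) q15231, e3 q17445 (flp_i L710199) q19447, e3 q17446 L710593 q19492, e3 q17447 (flp_i L689440) q15233, e3 q17448 (flp_i L710231) q19450, e3 q17449 L710627 q19496, e3 q17450 L710649 q19498, e3 q17451 (flp_i L689475) q15236, e3 q17452 L710670 q19500, e3 q17453 (flp_i L689495) q15237, e3 q17454 (flp_i L710254) q19452, e3 q17455 (flp_i L689512) q15239, e3 q17456 L689531 q15965, e3 q17457 L710720 q19505, e3 q17458 (flp_i L689546) q15242, e3 q17459 L710754 q19508, e3 q17460 (flp_i L689563) q15243, e3 q17461 (flp_i L710296) q19455, e3 q17462 L710788 q19512, e3 q17463 (flp_i L689589) q15245, e3 q17464 (flp_i L710318) q19457, e3 q17465 (flp_i L710324) q19458, e3 q17466 L710814 q19516, e3 q17467 (flp_i L689618) q15248, e3 q17468 (flp_i L710347) q19460, e3 q17469 (flp_i L689634) q15251, e3 q17470 (flp_i L707409) q19188, e3 q17471 L710861 q19520, trivial⟩ (by decide +kernel)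

theorem ce_i_273 : ∀ r, r < 64 → sm gi (Qf (17472 + r)) = Qf (tab Gen.i (17472 + r)) :=
  edges_tab (sm gi) Qf (tab Gen.i) 17472 [(17472, 15253), (17473, 19461), (17474, 19462), (17475, 19523), (17476, 15256), (17477, 19349), (17478, 18981), (17479, 19193), (17480, 15260), (17481, 19464), (17482, 15264), (17483, 15267), (17484, 17484), (17485, 15269), (17486, 19530), (17487, 15270), (17488, 17488), (17489, 17489), (17490, 15274), (17491, 19535), (17492, 15275), (17493, 17493), (17494, 19538), (17495, 15277), (17496, 17496), (17497, 17497), (17498, 15281), (17499, 17499), (17500, 17500), (17501, 17501), (17502, 17502), (17503, 17503), (17504, 17504), (17505, 17505), (17506, 17506), (17507, 17507), (17508, 17508), (17509, 17509), (17510, 15305), (17511, 15307), (17512, 15309), (17513, 19546), (17514, 15311), (17515, 17515), (17516, 15314), (17517, 15320), (17518, 19264), (17519, 15317), (17520, 19551), (17521, 19547), (17522, 17522), (17523, 15322), (17524, 15329), (17525, 15324), (17526, 19265), (17527, 19555), (17528, 17528),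 (17529, 17529), (17530, 15334), (17531, 15349), (17532, 15338), (17533, 15339), (17534, 19272), (17535, 15341)]
    ⟨e3 q17472 (flp_i L689668) q15253, e3 q17473 (flp_i L710362) q19461, e3 q17474 (flp_i L710369) q19462, e3 q17475 L710895 q19523, e3 q17476 (flp_i L689704) q15256, e3 q17477 (flp_i L709215) q19349, e3 q17478 (flp_i L705401) q18981, e3 q17479 (flp_i L707445) q19193, e3 q17480 (flp_i L689727) q15260, e3 q17481 (flp_i L710391) q19464, e3 q17482 (flp_i L689742) q15264, e3 q17483 (flp_i L689751) q15267, e3 q17484 L689767 q17484, e3 q17485 (flp_i L689768) q15269, e3 q17486 L710947 q19530, e3 q17487 (flp_i L689783) q15270, e3 q17488 L689800 q17488, e3 q17489 L689810 q17489, e3 q17490 (flp_i L689811) q15274, e3 q17491 L710986 q19535, e3 q17492 (flp_i L689824) q15275, e3 q17493 L689841 q17493, e3 q17494 L711010 q19538, e3 q17495 (flp_i L689846) q15277, e3 q17496 L689858 q17496, e3 q17497 L689863 q17497, e3 q17498 (flp_i L689864) q15281, e3 q17499 L689884 q17499, e3 q17500 L689890 q17500, e3 q17501 L689900 q17501, e3 q17502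 L689907 q17502, e3 q17503 L689912 q17503, e3 q17504 L689924 q17504, e3 q17505 L689937 q17505, e3 q17506 L689945 q17506, e3 q17507 L689953 q17507, e3 q17508 L689962 q17508, e3 q17509 L689978 q17509, e3 q17510 (flp_i L689979) q15305, e3 q17511 (flp_i L689993) q15307, e3 q17512 (flp_i L690007) q15309, e3 q17513 (flp_i L711070) q19546, e3 q17514 (flp_i L690025) q15311, e3 q17515 L690042 q17515, e3 q17516 (flp_i L690043) q15314, e3 q17517 L690056 q15320, e3 q17518 (flp_i L708270) q19264, e3 q17519 (flp_i L690064) q15317, e3 q17520 (flp_i L711124) q19551, e3 q17521 (flp_i L711086) q19547, e3 q17522 L690091 q17522, e3 q17523 (flp_i L690094) q15322, e3 q17524 L690109 q15329, e3 q17525 (flp_i L690111) q15324, e3 q17526 (flp_i L708286) q19265, e3 q17527 (flp_i L711158) q19555, e3 q17528 L690144 q17528, e3 q17529 L690151 q17529, e3 q17530 (flp_i L690152) q15334, e3 q17531 L690165 q15349, e3 q17532 (flp_i L690167) q15338, e3 q17533 (flp_i L690175) q15339, e3 q17534 (flp_i L708370) q19272, e3 q17535 (flp_i L690184) q15341, trivial⟩ (by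 decide +kernel)

theorem ce_i_274 : ∀ r, r < 64 → sm gi (Qf (17536 + r)) = Qf (tab Gen.i (17536 + r)) :=
  edges_tab (sm gi) Qf (tab Gen.i) 17536 [(17536, 19271), (17537, 15344), (17538, 15345), (17539, 19559), (17540, 15347), (17541, 19267), (17542, 19560), (17543, 15350), (17544, 19266), (17545, 17545), (17546, 17546), (17547, 17547), (17548, 17548), (17549, 17549), (17550, 17550), (17551, 17551), (17552, 17552), (17553, 19577), (17554, 15368), (17555, 15369), (17556, 15380), (17557, 19580), (17558, 15372), (17559, 19582), (17560, 19583), (17561, 15373), (17562, 15375), (17563, 15377), (17564, 19578), (17565, 18864), (17566, 19588), (17567, 15382), (17568, 17568), (17569, 15384), (17570, 17570), (17571, 15387), (17572, 17572), (17573, 17573), (17574, 19595), (17575, 19596), (17576, 15390), (17577, 15392), (17578, 15408), (17579, 15394), (17580, 15413), (17581, 15414), (17582, 19601), (17583, 15398), (17584, 19605), (17585, 15400), (17586, 19607), (17587, 15401), (17588, 19597), (17589, 19282), (17590, 19609), (17591, 15404),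 (17592, 19598), (17593, 15406), (17594, 19585), (17595, 15409), (17596, 15410), (17597, 19599), (17598, 18863), (17599, 19600)]
    ⟨e3 q17536 (flp_i L708360) q19271, e3 q17537 (flp_i L690198) q15344, e3 q17538 (flp_i L690206) q15345, e3 q17539 (flp_i L711189) q19559, e3 q17540 (flp_i L690222) q15347, e3 q17541 (flp_i L708310) q19267, e3 q17542 (flp_i L711195) q19560, e3 q17543 (flp_i L690246) q15350, e3 q17544 (flp_i L708298) q19266, e3 q17545 L690268 q17545, e3 q17546 L690279 q17546, e3 q17547 L690292 q17547, e3 q17548 L690297 q17548, e3 q17549 L690308 q17549, e3 q17550 L690315 q17550, e3 q17551 L690320 q17551, e3 q17552 L690332 q17552, e3 q17553 L711317 q19577, e3 q17554 (flp_i L690345) q15368, e3 q17555 (flp_i L690360) q15369, e3 q17556 L690380 q15380, e3 q17557 L711359 q19580, e3 q17558 (flp_i L690394) q15372, e3 q17559 L711377 q19582, e3 q17560 L711387 q19583, e3 q17561 (flp_i L690424) q15373, e3 q17562 (flp_i L690432) q15375, e3 q17563 (flp_i L690446) q15377, e3 q17564 (flp_i L711343) q19578, e3 q17565 (flp_i L704135)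 q18864, e3 q17566 L711435 q19588, e3 q17567 (flp_i L690476) q15382, e3 q17568 L690493 q17568, e3 q17569 (flp_i L690494) q15384, e3 q17570 L690511 q17570, e3 q17571 (flp_i L690512) q15387, e3 q17572 L690534 q17572, e3 q17573 L690539 q17573, e3 q17574 L711494 q19595, e3 q17575 L711501 q19596, e3 q17576 (flp_i L690553) q15390, e3 q17577 (flp_i L690559) q15392, e3 q17578 L690572 q15408, e3 q17579 (flp_i L690574) q15394, e3 q17580 L690583 q15413, e3 q17581 L690591 q15414, e3 q17582 L711534 q19601, e3 q17583 (flp_i L690599) q15398, e3 q17584 L711562 q19605, e3 q17585 (flp_i L690611) q15400, e3 q17586 L711574 q19607, e3 q17587 (flp_i L690627) q15401, e3 q17588 (flp_i L711511) q19597, e3 q17589 (flp_i L708502) q19282, e3 q17590 L711588 q19609, e3 q17591 (flp_i L690650) q15404, e3 q17592 (flp_i L711519) q19598, e3 q17593 (flp_i L690665) q15406, e3 q17594 (flp_i L711417) q19585, e3 q17595 (flp_i L690681) q15409, e3 q17596 (flp_i L690687) q15410, e3 q17597 (flp_i L711525) q19599, e3 q17598 (flp_i L704123) q18863, e3 q17599 (flp_i L711529)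 q19600, trivial⟩ (by decide +kernel)

theorem ce_i_275 : ∀ r, r < 64 → sm gi (Qf (17600 + r)) = Qf (tab Gen.i (17600 + r)) :=
  edges_tab (sm gi) Qf (tab Gen.i) 17600 [(17600, 19619), (17601, 15416), (17602, 17602), (17603, 17603), (17604, 17604), (17605, 17605), (17606, 17606), (17607, 17607), (17608, 19625), (17609, 19626), (17610, 15428), (17611, 15430), (17612, 15443), (17613, 15432), (17614, 15446), (17615, 19632), (17616, 15435), (17617, 19633), (17618, 15436), (17619, 19635), (17620, 15438), (17621, 15439), (17622, 19627), (17623, 19287), (17624, 19628), (17625, 15444), (17626, 19629), (17627, 19630), (17628, 15447), (17629, 17629), (17630, 17630), (17631, 17631), (17632, 17632), (17633, 17633), (17634, 17634), (17635, 17635), (17636, 19646), (17637, 19648), (17638, 15458), (17639, 15459), (17640, 15481), (17641, 15461), (17642, 15490), (17643, 15464), (17644, 15498), (17645, 15501), (17646, 15502), (17647, 19657), (17648, 19659), (17649, 15471), (17650, 19662), (17651, 19663), (17652, 15473), (17653, 15474), (17654,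 19317), (17655, 19667), (17656, 19670), (17657, 15476), (17658, 19673), (17659, 19675), (17660, 15477), (17661, 19649), (17662, 19679), (17663, 15479)]
    ⟨e3 q17600 L711652 q19619, e3 q17601 (flp_i L690717) q15416, e3 q17602 L690730 q17602, e3 q17603 L690738 q17603, e3 q17604 L690743 q17604, e3 q17605 L690757 q17605, e3 q17606 L690762 q17606, e3 q17607 L690767 q17607, e3 q17608 L711696 q19625, e3 q17609 L711705 q19626, e3 q17610 (flp_i L690784) q15428, e3 q17611 (flp_i L690792) q15430, e3 q17612 L690807 q15443, e3 q17613 (flp_i L690809) q15432, e3 q17614 L690820 q15446, e3 q17615 L711750 q19632, e3 q17616 (flp_i L690828) q15435, e3 q17617 L711758 q19633, e3 q17618 (flp_i L690846) q15436, e3 q17619 L711776 q19635, e3 q17620 (flp_i L690862) q15438, e3 q17621 (flp_i L690872) q15439, e3 q17622 (flp_i L711717) q19627, e3 q17623 (flp_i L708560) q19287, e3 q17624 (flp_i L711727) q19628, e3 q17625 (flp_i L690900) q15444, e3 q17626 (flp_i L711733) q19629, e3 q17627 (flp_i L711739) q19630, e3 q17628 (flp_i L690918) q15447, e3 q17629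 L690936 q17629, e3 q17630 L690945 q17630, e3 q17631 L690955 q17631, e3 q17632 L690962 q17632, e3 q17633 L690972 q17633, e3 q17634 L690977 q17634, e3 q17635 L690982 q17635, e3 q17636 L711858 q19646, e3 q17637 L711868 q19648, e3 q17638 (flp_i L690998) q15458, e3 q17639 (flp_i L691005) q15459, e3 q17640 L691013 q15481, e3 q17641 (flp_i L691015) q15461, e3 q17642 L691028 q15490, e3 q17643 (flp_i L691030) q15464, e3 q17644 L691040 q15498, e3 q17645 L691048 q15501, e3 q17646 L691052 q15502, e3 q17647 L711929 q19657, e3 q17648 L711941 q19659, e3 q17649 (flp_i L691067) q15471, e3 q17650 L711959 q19662, e3 q17651 L711969 q19663, e3 q17652 (flp_i L691087) q15473, e3 q17653 (flp_i L691097) q15474, e3 q17654 (flp_i L708866) q19317, e3 q17655 L711995 q19667, e3 q17656 L712015 q19670, e3 q17657 (flp_i L691121) q15476, e3 q17658 L712033 q19673, e3 q17659 L712047 q19675, e3 q17660 (flp_i L691141) q15477, e3 q17661 (flp_i L711880) q19649, e3 q17662 L712073 q19679, e3 q17663 (flp_i L691159) q15479, trivial⟩ (by decide +kernel)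

theorem ce_i_276 : ∀ r, r < 64 → sm gi (Qf (17664 + r)) = Qf (tab Gen.i (17664 + r)) :=
  edges_tab (sm gi) Qf (tab Gen.i) 17664 [(17664, 19650), (17665, 15482), (17666, 19314), (17667, 15485), (17668, 19685), (17669, 15486), (17670, 19651), (17671, 19688), (17672, 15488), (17673, 19308), (17674, 19652), (17675, 19692), (17676, 15491), (17677, 19297), (17678, 15494), (17679, 18726), (17680, 15496), (17681, 19653), (17682, 19654), (17683, 15499), (17684, 19279), (17685, 18158), (17686, 19655), (17687, 15503), (17688, 19315), (17689, 15506), (17690, 15509), (17691, 17691), (17692, 15511), (17693, 17693), (17694, 15515), (17695, 19707), (17696, 15516), (17697, 17697), (17698, 19710), (17699, 15518), (17700, 17700), (17701, 17701), (17702, 17702), (17703, 17703), (17704, 17704), (17705, 17705), (17706, 17706), (17707, 17707), (17708, 17708), (17709, 17709), (17710, 17710), (17711, 15531), (17712, 15532), (17713, 17713), (17714, 15536), (17715, 17715), (17716, 15538), (17717, 17717), (17718, 17718), (17719, 17719), (17720, 17720),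 (17721, 17721), (17722, 19723), (17723, 15552), (17724, 19724), (17725, 15553), (17726, 15555), (17727, 18964)]
    ⟨e3 q17664 (flp_i L711886) q19650, e3 q17665 (flp_i L691171) q15482, e3 q17666 (flp_i L708838) q19314, e3 q17667 (flp_i L691185) q15485, e3 q17668 L712109 q19685, e3 q17669 (flp_i L691199) q15486, e3 q17670 (flp_i L711894) q19651, e3 q17671 L712133 q19688, e3 q17672 (flp_i L691223) q15488, e3 q17673 (flp_i L708776) q19308, e3 q17674 (flp_i L711900) q19652, e3 q17675 L712163 q19692, e3 q17676 (flp_i L691251) q15491, e3 q17677 (flp_i L708666) q19297, e3 q17678 (flp_i L691263) q15494, e3 q17679 (flp_i L702785) q18726, e3 q17680 (flp_i L691275) q15496, e3 q17681 (flp_i L711909) q19653, e3 q17682 (flp_i L711915) q19654, e3 q17683 (flp_i L691295) q15499, e3 q17684 (flp_i L708456) q19279, e3 q17685 (flp_i L695648) q18158, e3 q17686 (flp_i L711921) q19655, e3 q17687 (flp_i L691317) q15503, e3 q17688 (flp_i L708844) q19315, e3 q17689 (flp_i L691329) q15506, e3 q17690 (flp_i L691341) q15509, e3 q17691 L691357 q17691, e3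 q17692 (flp_i L691358) q15511, e3 q17693 L691376 q17693, e3 q17694 (flp_i L691377) q15515, e3 q17695 L712263 q19707, e3 q17696 (flp_i L691391) q15516, e3 q17697 L691409 q17697, e3 q17698 L712289 q19710, e3 q17699 (flp_i L691417) q15518, e3 q17700 L691433 q17700, e3 q17701 L691438 q17701, e3 q17702 L691449 q17702, e3 q17703 L691454 q17703, e3 q17704 L691465 q17704, e3 q17705 L691472 q17705, e3 q17706 L691477 q17706, e3 q17707 L691484 q17707, e3 q17708 L691487 q17708, e3 q17709 L691494 q17709, e3 q17710 L691501 q17710, e3 q17711 (flp_i L691502) q15531, e3 q17712 (flp_i L691511) q15532, e3 q17713 L691531 q17713, e3 q17714 (flp_i L691532) q15536, e3 q17715 L691548 q17715, e3 q17716 (flp_i L691549) q15538, e3 q17717 L691573 q17717, e3 q17718 L691583 q17718, e3 q17719 L691591 q17719, e3 q17720 L691596 q17720, e3 q17721 L691603 q17721, e3 q17722 L712376 q19723, e3 q17723 (flp_i L691613) q15552, e3 q17724 L712385 q19724, e3 q17725 (flp_i L691630) q15553, e3 q17726 (flp_i L691640) q15555, e3 q17727 (flp_i L705226) q18964, trivial⟩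 (by decide +kernel)

theorem ce_i_277 : ∀ r, r < 64 → sm gi (Qf (17728 + r)) = Qf (tab Gen.i (17728 + r)) :=
  edges_tab (sm gi) Qf (tab Gen.i) 17728 [(17728, 18968), (17729, 19727), (17730, 15560), (17731, 19730), (17732, 15562), (17733, 19731), (17734, 15563), (17735, 19733), (17736, 15565), (17737, 15583), (17738, 15567), (17739, 15589), (17740, 15569), (17741, 15596), (17742, 19738), (17743, 19740), (17744, 15573), (17745, 19743), (17746, 19746), (17747, 15575), (17748, 19749), (17749, 15576), (17750, 19732), (17751, 19753), (17752, 15578), (17753, 19756), (17754, 19757), (17755, 15579), (17756, 18924), (17757, 15581), (17758, 19734), (17759, 19762), (17760, 15584), (17761, 19764), (17762, 15585), (17763, 18926), (17764, 19766), (17765, 15587), (17766, 19735), (17767, 19768), (17768, 15590), (17769, 18916), (17770, 15592), (17771, 18928), (17772, 19736), (17773, 18354), (17774, 18929), (17775, 15600), (17776, 15602), (17777, 15604), (17778, 19773), (17779, 15605), (17780, 15608), (17781, 19774), (17782, 15609), (17783,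 15611), (17784, 15613), (17785, 15775), (17786, 15779), (17787, 19777), (17788, 19778), (17789, 15626), (17790, 19780), (17791, 15628)]
    ⟨e3 q17728 (flp_i L705263) q18968, e3 q17729 L712409 q19727, e3 q17730 (flp_i L691667) q15560, e3 q17731 L712427 q19730, e3 q17732 (flp_i L691680) q15562, e3 q17733 L712434 q19731, e3 q17734 (flp_i L691695) q15563, e3 q17735 L712450 q19733, e3 q17736 (flp_i L691711) q15565, e3 q17737 L691721 q15583, e3 q17738 (flp_i L691723) q15567, e3 q17739 L691743 q15589, e3 q17740 (flp_i L691745) q15569, e3 q17741 L691761 q15596, e3 q17742 L712493 q19738, e3 q17743 L712505 q19740, e3 q17744 (flp_i L691774) q15573, e3 q17745 L712524 q19743, e3 q17746 L712548 q19746, e3 q17747 (flp_i L691795) q15575, e3 q17748 L712572 q19749, e3 q17749 (flp_i L691813) q15576, e3 q17750 (flp_i L712448) q19732, e3 q17751 L712608 q19753, e3 q17752 (flp_i L691831) q15578, e3 q17753 L712625 q19756, e3 q17754 L712631 q19757, e3 q17755 (flp_i L691849) q15579, e3 q17756 (flp_i L704774) q18924, e3 q17757 (flp_i L691861) q15581,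 e3 q17758 (flp_i L712462) q19734, e3 q17759 L712666 q19762, e3 q17760 (flp_i L691883) q15584, e3 q17761 L712685 q19764, e3 q17762 (flp_i L691899) q15585, e3 q17763 (flp_i L704800) q18926, e3 q17764 L712703 q19766, e3 q17765 (flp_i L691925) q15587, e3 q17766 (flp_i L712477) q19735, e3 q17767 L712720 q19768, e3 q17768 (flp_i L691951) q15590, e3 q17769 (flp_i L704677) q18916, e3 q17770 (flp_i L691968) q15592, e3 q17771 (flp_i L704822) q18928, e3 q17772 (flp_i L712485) q19736, e3 q17773 (flp_i L698328) q18354, e3 q17774 (flp_i L704829) q18929, e3 q17775 (flp_i L692002) q15600, e3 q17776 (flp_i L692010) q15602, e3 q17777 (flp_i L692017) q15604, e3 q17778 L712756 q19773, e3 q17779 (flp_i L692032) q15605, e3 q17780 (flp_i L692041) q15608, e3 q17781 L712763 q19774, e3 q17782 (flp_i L692066) q15609, e3 q17783 (flp_i L692079) q15611, e3 q17784 (flp_i L692084) q15613, e3 q17785 L692107 q15775, e3 q17786 L692118 q15779, e3 q17787 L712783 q19777, e3 q17788 L712793 q19778, e3 q17789 (flp_i L692136) q15626, e3 q17790 L712807 q19780, e3 q17791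 (flp_i L692152) q15628, trivial⟩ (by decide +kernel)

theorem ce_i_278 : ∀ r, r < 64 → sm gi (Qf (17792 + r)) = Qf (tab Gen.i (17792 + r)) :=
  edges_tab (sm gi) Qf (tab Gen.i) 17792 [(17792, 15630), (17793, 15643), (17794, 15646), (17795, 19784), (17796, 19786), (17797, 15634), (17798, 19789), (17799, 19790), (17800, 15636), (17801, 15637), (17802, 19781), (17803, 19794), (17804, 19796), (17805, 15639), (17806, 19799), (17807, 15640), (17808, 19155), (17809, 19782), (17810, 19802), (17811, 15644), (17812, 19167), (17813, 15647), (17814, 19176), (17815, 18442), (17816, 15652), (17817, 15654), (17818, 15655), (17819, 15658), (17820, 19805), (17821, 15659), (17822, 19806), (17823, 15661), (17824, 15663), (17825, 19810), (17826, 19812), (17827, 15667), (17828, 15668), (17829, 19503), (17830, 19816), (17831, 19818), (17832, 15670), (17833, 19821), (17834, 19823), (17835, 15672), (17836, 15673), (17837, 15712), (17838, 19827), (17839, 19830), (17840, 15675), (17841, 19834), (17842, 19836), (17843, 15676), (17844, 15719), (17845,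 19839), (17846, 15678), (17847, 15722), (17848, 19842), (17849, 19843), (17850, 15681), (17851, 15682), (17852, 15728), (17853, 15731), (17854, 15686), (17855, 19847)]
    ⟨e3 q17792 (flp_i L692162) q15630, e3 q17793 L692174 q15643, e3 q17794 L692183 q15646, e3 q17795 L712841 q19784, e3 q17796 L712857 q19786, e3 q17797 (flp_i L692200) q15634, e3 q17798 L712878 q19789, e3 q17799 L712888 q19790, e3 q17800 (flp_i L692225) q15636, e3 q17801 (flp_i L692237) q15637, e3 q17802 (flp_i L712823) q19781, e3 q17803 L712922 q19794, e3 q17804 L712938 q19796, e3 q17805 (flp_i L692265) q15639, e3 q17806 L712956 q19799, e3 q17807 (flp_i L692279) q15640, e3 q17808 (flp_i L707127) q19155, e3 q17809 (flp_i L712831) q19782, e3 q17810 L712976 q19802, e3 q17811 (flp_i L692310) q15644, e3 q17812 (flp_i L707227) q19167, e3 q17813 (flp_i L692328) q15647, e3 q17814 (flp_i L707300) q19176, e3 q17815 (flp_i L699354) q18442, e3 q17816 (flp_i L692351) q15652, e3 q17817 (flp_i L692360) q15654, e3 q17818 (flp_i L692369) q15655, e3 q17819 (flp_i L692383) q15658,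 e3 q17820 L713002 q19805, e3 q17821 (flp_i L692398) q15659, e3 q17822 L713010 q19806, e3 q17823 (flp_i L692415) q15661, e3 q17824 (flp_i L692423) q15663, e3 q17825 L713038 q19810, e3 q17826 L713052 q19812, e3 q17827 (flp_i L692447) q15667, e3 q17828 (flp_i L692455) q15668, e3 q17829 (flp_i L710705) q19503, e3 q17830 L713076 q19816, e3 q17831 L713090 q19818, e3 q17832 (flp_i L692480) q15670, e3 q17833 L713111 q19821, e3 q17834 L713127 q19823, e3 q17835 (flp_i L692505) q15672, e3 q17836 (flp_i L692515) q15673, e3 q17837 L692527 q15712, e3 q17838 L713159 q19827, e3 q17839 L713181 q19830, e3 q17840 (flp_i L692543) q15675, e3 q17841 L713206 q19834, e3 q17842 L713220 q19836, e3 q17843 (flp_i L692563) q15676, e3 q17844 L692575 q15719, e3 q17845 L713242 q19839, e3 q17846 (flp_i L692583) q15678, e3 q17847 L692593 q15722, e3 q17848 L713260 q19842, e3 q17849 L713269 q19843, e3 q17850 (flp_i L692616) q15681, e3 q17851 (flp_i L692625) q15682, e3 q17852 L692642 q15728, e3 q17853 L692653 q15731, e3 q17854 (flp_i L692655) q15686, e3 q17855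 L713311 q19847, trivial⟩ (by decide +kernel)

theorem ce_i_279 : ∀ r, r < 64 → sm gi (Qf (17856 + r)) = Qf (tab Gen.i (17856 + r)) :=
  edges_tab (sm gi) Qf (tab Gen.i) 17856 [(17856, 15687), (17857, 15736), (17858, 19850), (17859, 15689), (17860, 15739), (17861, 19853), (17862, 15692), (17863, 15743), (17864, 15745), (17865, 15748), (17866, 19856), (17867, 15698), (17868, 15752), (17869, 15753), (17870, 15701), (17871, 15756), (17872, 19861), (17873, 15704), (17874, 19864), (17875, 15705), (17876, 19819), (17877, 19867), (17878, 15707), (17879, 19869), (17880, 19870), (17881, 15708), (17882, 19824), (17883, 19874), (17884, 15710), (17885, 19825), (17886, 19878), (17887, 15713), (17888, 19881), (17889, 19883), (17890, 15714), (17891, 19831), (17892, 19888), (17893, 19889), (17894, 15716), (17895, 19892), (17896, 15717), (17897, 19837), (17898, 19043), (17899, 19896), (17900, 15720), (17901, 19840), (17902, 19841), (17903, 19901), (17904, 15723), (17905, 19903), (17906, 15724), (17907, 19844), (17908, 15726), (17909, 19845),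 (17910, 19048), (17911, 19908), (17912, 15729), (17913, 19433), (17914, 19910), (17915, 15732), (17916, 19846), (17917, 19912), (17918, 15734), (17919, 19848)]
    ⟨e3 q17856 (flp_i L692670) q15687, e3 q17857 L692685 q15736, e3 q17858 L713337 q19850, e3 q17859 (flp_i L692696) q15689, e3 q17860 L692711 q15739, e3 q17861 L713361 q19853, e3 q17862 (flp_i L692721) q15692, e3 q17863 L692733 q15743, e3 q17864 L692740 q15745, e3 q17865 L692749 q15748, e3 q17866 L713385 q19856, e3 q17867 (flp_i L692759) q15698, e3 q17868 L692773 q15752, e3 q17869 L692778 q15753, e3 q17870 (flp_i L692781) q15701, e3 q17871 L692792 q15756, e3 q17872 L713421 q19861, e3 q17873 (flp_i L692800) q15704, e3 q17874 L713441 q19864, e3 q17875 (flp_i L692812) q15705, e3 q17876 (flp_i L713101) q19819, e3 q17877 L713462 q19867, e3 q17878 (flp_i L692831) q15707, e3 q17879 L713482 q19869, e3 q17880 L713492 q19870, e3 q17881 (flp_i L692857) q15708, e3 q17882 (flp_i L713143) q19824, e3 q17883 L713526 q19874, e3 q17884 (flp_i L692877) q15710, e3 q17885 (flp_i L713151)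 q19825, e3 q17886 L713550 q19878, e3 q17887 (flp_i L692895) q15713, e3 q17888 L713572 q19881, e3 q17889 L713588 q19883, e3 q17890 (flp_i L692917) q15714, e3 q17891 (flp_i L713193) q19831, e3 q17892 L713624 q19888, e3 q17893 L713632 q19889, e3 q17894 (flp_i L692939) q15716, e3 q17895 L713646 q19892, e3 q17896 (flp_i L692951) q15717, e3 q17897 (flp_i L713234) q19837, e3 q17898 (flp_i L706064) q19043, e3 q17899 L713668 q19896, e3 q17900 (flp_i L692975) q15720, e3 q17901 (flp_i L713254) q19840, e3 q17902 (flp_i L713258) q19841, e3 q17903 L713694 q19901, e3 q17904 (flp_i L692998) q15723, e3 q17905 L713714 q19903, e3 q17906 (flp_i L693015) q15724, e3 q17907 (flp_i L713290) q19844, e3 q17908 (flp_i L693035) q15726, e3 q17909 (flp_i L713301) q19845, e3 q17910 (flp_i L706122) q19048, e3 q17911 L713757 q19908, e3 q17912 (flp_i L693070) q15729, e3 q17913 (flp_i L710076) q19433, e3 q17914 L713771 q19910, e3 q17915 (flp_i L693089) q15732, e3 q17916 (flp_i L713309) q19846, e3 q17917 L713787 q19912, e3 q17918 (flp_i L693113) q15734, e3 q17919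 (flp_i L713326) q19848, trivial⟩ (by decide +kernel)

theorem ce_i_280 : ∀ r, r < 64 → sm gi (Qf (17920 + r)) = Qf (tab Gen.i (17920 + r)) :=
  edges_tab (sm gi) Qf (tab Gen.i) 17920 [(17920, 19052), (17921, 19915), (17922, 15737), (17923, 19851), (17924, 19852), (17925, 19054), (17926, 15741), (17927, 19854), (17928, 19521), (17929, 19921), (17930, 15746), (17931, 19518), (17932, 19855), (17933, 15750), (17934, 19857), (17935, 19858), (17936, 19057), (17937, 19859), (17938, 15757), (17939, 15762), (17940, 15766), (17941, 15767), (17942, 19927), (17943, 15807), (17944, 15808), (17945, 15809), (17946, 17946), (17947, 15780), (17948, 17948), (17949, 15782), (17950, 19932), (17951, 19934), (17952, 15783), (17953, 15784), (17954, 17954), (17955, 19937), (17956, 19939), (17957, 15786), (17958, 19942), (17959, 15787), (17960, 17960), (17961, 17961), (17962, 15791), (17963, 15793), (17964, 19945), (17965, 15794), (17966, 15797), (17967, 19947), (17968, 15798), (17969, 19948), (17970, 15800), (17971, 15802), (17972, 15805), (17973,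 19928), (17974, 19929), (17975, 17975), (17976, 17976), (17977, 17977), (17978, 17978), (17979, 17979), (17980, 17980), (17981, 17981), (17982, 17982), (17983, 17983)]
    ⟨e3 q17920 (flp_i L706160) q19052, e3 q17921 L713811 q19915, e3 q17922 (flp_i L693147) q15737, e3 q17923 (flp_i L713352) q19851, e3 q17924 (flp_i L713358) q19852, e3 q17925 (flp_i L706181) q19054, e3 q17926 (flp_i L693175) q15741, e3 q17927 (flp_i L713375) q19854, e3 q17928 (flp_i L710887) q19521, e3 q17929 L713853 q19921, e3 q17930 (flp_i L693205) q15746, e3 q17931 (flp_i L710845) q19518, e3 q17932 (flp_i L713382) q19855, e3 q17933 (flp_i L693227) q15750, e3 q17934 (flp_i L713399) q19857, e3 q17935 (flp_i L713406) q19858, e3 q17936 (flp_i L706202) q19057, e3 q17937 (flp_i L713414) q19859, e3 q17938 (flp_i L693261) q15757, e3 q17939 (flp_i L693270) q15762, e3 q17940 L693288 q15766, e3 q17941 (flp_i L693290) q15767, e3 q17942 (flp_i L713903) q19927, e3 q17943 L693302 q15807, e3 q17944 L693311 q15808, e3 q17945 L693319 q15809, e3 q17946 L693328 q17946, e3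 q17947 (flp_i L693329) q15780, e3 q17948 L693343 q17948, e3 q17949 (flp_i L693344) q15782, e3 q17950 L713943 q19932, e3 q17951 L713963 q19934, e3 q17952 (flp_i L693371) q15783, e3 q17953 (flp_i L693379) q15784, e3 q17954 L693396 q17954, e3 q17955 L713990 q19937, e3 q17956 L714006 q19939, e3 q17957 (flp_i L693414) q15786, e3 q17958 L714028 q19942, e3 q17959 (flp_i L693426) q15787, e3 q17960 L693439 q17960, e3 q17961 L693446 q17961, e3 q17962 (flp_i L693447) q15791, e3 q17963 (flp_i L693454) q15793, e3 q17964 L714048 q19945, e3 q17965 (flp_i L693470) q15794, e3 q17966 (flp_i L693479) q15797, e3 q17967 L714059 q19947, e3 q17968 (flp_i L693491) q15798, e3 q17969 L714066 q19948, e3 q17970 (flp_i L693504) q15800, e3 q17971 (flp_i L693509) q15802, e3 q17972 (flp_i L693520) q15805, e3 q17973 (flp_i L713907) q19928, e3 q17974 (flp_i L713919) q19929, e3 q17975 L693545 q17975, e3 q17976 L693555 q17976, e3 q17977 L693565 q17977, e3 q17978 L693571 q17978, e3 q17979 L693581 q17979, e3 q17980 L693587 q17980, e3 q17981 L693596 q17981, e3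 q17982 L693607 q17982, e3 q17983 L693620 q17983, trivial⟩ (by decide +kernel)

theorem ce_i_281 : ∀ r, r < 64 → sm gi (Qf (17984 + r)) = Qf (tab Gen.i (17984 + r)) :=
  edges_tab (sm gi) Qf (tab Gen.i) 17984 [(17984, 17984), (17985, 17985), (17986, 17986), (17987, 17987), (17988, 15837), (17989, 15839), (17990, 15843), (17991, 18496), (17992, 18137), (17993, 18138), (17994, 15853), (17995, 17995), (17996, 15856), (17997, 19954), (17998, 17998), (17999, 17999), (18000, 18000), (18001, 18001), (18002, 18002), (18003, 18003), (18004, 18004), (18005, 18005), (18006, 18006), (18007, 18007), (18008, 18008), (18009, 18009), (18010, 18010), (18011, 18011), (18012, 18012), (18013, 18013), (18014, 15886), (18015, 18015), (18016, 18016), (18017, 15889), (18018, 18018), (18019, 18019), (18020, 18020), (18021, 18021), (18022, 18022), (18023, 15900), (18024, 15903), (18025, 19967), (18026, 15924), (18027, 15910), (18028, 15959), (18029, 19969), (18030, 19970), (18031, 15911), (18032, 18032), (18033, 19974), (18034, 19975), (18035, 15914),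 (18036, 15915), (18037, 19977), (18038, 15917), (18039, 18039), (18040, 18040), (18041, 18041), (18042, 18042), (18043, 18043), (18044, 18044), (18045, 19968), (18046, 15925), (18047, 18047)]
    ⟨e3 q17984 L693635 q17984, e3 q17985 L693650 q17985, e3 q17986 L693667 q17986, e3 q17987 L693676 q17987, e3 q17988 (flp_i L693677) q15837, e3 q17989 (flp_i L693684) q15839, e3 q17990 (flp_i L693692) q15843, e3 q17991 (flp_i L700020) q18496, e3 q17992 (flp_i L695356) q18137, e3 q17993 (flp_i L695378) q18138, e3 q17994 (flp_i L693715) q15853, e3 q17995 L693731 q17995, e3 q17996 (flp_i L693732) q15856, e3 q17997 (flp_i L714103) q19954, e3 q17998 L693746 q17998, e3 q17999 L693753 q17999, e3 q18000 L693758 q18000, e3 q18001 L693768 q18001, e3 q18002 L693772 q18002, e3 q18003 L693777 q18003, e3 q18004 L693786 q18004, e3 q18005 L693796 q18005, e3 q18006 L693805 q18006, e3 q18007 L693813 q18007, e3 q18008 L693821 q18008, e3 q18009 L693831 q18009, e3 q18010 L693846 q18010, e3 q18011 L693863 q18011, e3 q18012 L693871 q18012, e3 q18013 L693878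 q18013, e3 q18014 (flp_i L693879) q15886, e3 q18015 L693899 q18015, e3 q18016 L693909 q18016, e3 q18017 (flp_i L693913) q15889, e3 q18018 L693933 q18018, e3 q18019 L693943 q18019, e3 q18020 L693955 q18020, e3 q18021 L693962 q18021, e3 q18022 L693974 q18022, e3 q18023 (flp_i L693975) q15900, e3 q18024 (flp_i L693982) q15903, e3 q18025 (flp_i L714218) q19967, e3 q18026 L694002 q15924, e3 q18027 L694012 q15910, e3 q18028 L694019 q15959, e3 q18029 (flp_i L714238) q19969, e3 q18030 L714242 q19970, e3 q18031 (flp_i L694040) q15911, e3 q18032 L694061 q18032, e3 q18033 L714280 q19974, e3 q18034 L714287 q19975, e3 q18035 (flp_i L694072) q15914, e3 q18036 (flp_i L694078) q15915, e3 q18037 (flp_i L714301) q19977, e3 q18038 (flp_i L694089) q15917, e3 q18039 L694106 q18039, e3 q18040 L694110 q18040, e3 q18041 L694121 q18041, e3 q18042 L694130 q18042, e3 q18043 L694138 q18043, e3 q18044 L694149 q18044, e3 q18045 (flp_i L714227) q19968, e3 q18046 (flp_i L694160) q15925, e3 q18047 L694179 q18047, trivial⟩ (by decide +kernel)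

theorem ce_i_282 : ∀ r, r < 64 → sm gi (Qf (18048 + r)) = Qf (tab Gen.i (18048 + r)) :=
  edges_tab (sm gi) Qf (tab Gen.i) 18048 [(18048, 18048), (18049, 15930), (18050, 18050), (18051, 15933), (18052, 18052), (18053, 18053), (18054, 15936), (18055, 18055), (18056, 18056), (18057, 18057), (18058, 18058), (18059, 15943), (18060, 18060), (18061, 15946), (18062, 18062), (18063, 18063), (18064, 18064), (18065, 18065), (18066, 15956), (18067, 19367), (18068, 15961), (18069, 19398), (18070, 15963), (18071, 19501), (18072, 15966), (18073, 18073), (18074, 18074), (18075, 18075), (18076, 18076), (18077, 18077), (18078, 15977), (18079, 18079), (18080, 18080), (18081, 15980), (18082, 15983), (18083, 15986), (18084, 18084), (18085, 18085), (18086, 18086), (18087, 15992), (18088, 18088), (18089, 18089), (18090, 20002), (18091, 15996), (18092, 18092), (18093, 15999), (18094, 18094), (18095, 18095), (18096, 18096), (18097, 18097), (18098, 18098), (18099, 18099), (18100, 16009), (18101, 18101), (18102, 16012), (18103, 18103), (18104, 18104),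 (18105, 18105), (18106, 18106), (18107, 18107), (18108, 20010), (18109, 16021), (18110, 20012), (18111, 16024)]
    ⟨e3 q18048 L694185 q18048, e3 q18049 (flp_i L694186) q15930, e3 q18050 L694202 q18050, e3 q18051 (flp_i L694203) q15933, e3 q18052 L694219 q18052, e3 q18053 L694226 q18053, e3 q18054 (flp_i L694227) q15936, e3 q18055 L694243 q18055, e3 q18056 L694248 q18056, e3 q18057 L694253 q18057, e3 q18058 L694261 q18058, e3 q18059 (flp_i L694262) q15943, e3 q18060 L694283 q18060, e3 q18061 (flp_i L694284) q15946, e3 q18062 L694303 q18062, e3 q18063 L694311 q18063, e3 q18064 L694317 q18064, e3 q18065 L694323 q18065, e3 q18066 L694327 q15956, e3 q18067 (flp_i L709413) q19367, e3 q18068 (flp_i L694334) q15961, e3 q18069 (flp_i L709713) q19398, e3 q18070 (flp_i L694348) q15963, e3 q18071 (flp_i L710688) q19501, e3 q18072 (flp_i L694360) q15966, e3 q18073 L694374 q18073, e3 q18074 L694383 q18074, e3 q18075 L694391 q18075, e3 q18076 L694399 q18076, e3 q18077 L694403 q18077, e3 q18078 (flp_i L694404) q15977, e3 q18079 L694436 q18079,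 e3 q18080 L694449 q18080, e3 q18081 (flp_i L694454) q15980, e3 q18082 (flp_i L694473) q15983, e3 q18083 (flp_i L694492) q15986, e3 q18084 L694525 q18084, e3 q18085 L694540 q18085, e3 q18086 L694555 q18086, e3 q18087 (flp_i L694559) q15992, e3 q18088 L694589 q18088, e3 q18089 L694603 q18089, e3 q18090 L714496 q20002, e3 q18091 (flp_i L694625) q15996, e3 q18092 L694655 q18092, e3 q18093 (flp_i L694656) q15999, e3 q18094 L694683 q18094, e3 q18095 L694694 q18095, e3 q18096 L694708 q18096, e3 q18097 L694722 q18097, e3 q18098 L694738 q18098, e3 q18099 L694760 q18099, e3 q18100 (flp_i L694761) q16009, e3 q18101 L694789 q18101, e3 q18102 (flp_i L694792) q16012, e3 q18103 L694820 q18103, e3 q18104 L694829 q18104, e3 q18105 L694845 q18105, e3 q18106 L694854 q18106, e3 q18107 L694867 q18107, e3 q18108 L714629 q20010, e3 q18109 (flp_i L694888) q16021, e3 q18110 L714664 q20012, e3 q18111 (flp_i L694922) q16024, trivial⟩ (by decide +kernel)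

theorem ce_i_283 : ∀ r, r < 64 → sm gi (Qf (18112 + r)) = Qf (tab Gen.i (18112 + r)) :=
  edges_tab (sm gi) Qf (tab Gen.i) 18112 [(18112, 20014), (18113, 16026), (18114, 16027), (18115, 20011), (18116, 16030), (18117, 18117), (18118, 16035), (18119, 17209), (18120, 16039), (18121, 18121), (18122, 16043), (18123, 16045), (18124, 16051), (18125, 20019), (18126, 17200), (18127, 20021), (18128, 16049), (18129, 20020), (18130, 16052), (18131, 18131), (18132, 18132), (18133, 20027), (18134, 16059), (18135, 20029), (18136, 16060), (18137, 17992), (18138, 17993), (18139, 16063), (18140, 16078), (18141, 20033), (18142, 16066), (18143, 20035), (18144, 20037), (18145, 16067), (18146, 20040), (18147, 16069), (18148, 20044), (18149, 20046), (18150, 16071), (18151, 20048), (18152, 16072), (18153, 20030), (18154, 20050), (18155, 20051), (18156, 16074), (18157, 16075), (18158, 17685), (18159, 20031), (18160, 20055), (18161, 16079), (18162, 16081), (18163, 18163), (18164, 18164), (18165, 16086), (18166, 20059), (18167, 16088), (18168, 16090),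 (18169, 16437), (18170, 16093), (18171, 16427), (18172, 20062), (18173, 16099), (18174, 16100), (18175, 16102)]
    ⟨e3 q18112 L714700 q20014, e3 q18113 (flp_i L694955) q16026, e3 q18114 (flp_i L694971) q16027, e3 q18115 (flp_i L714662) q20011, e3 q18116 (flp_i L694997) q16030, e3 q18117 L695029 q18117, e3 q18118 (flp_i L695030) q16035, e3 q18119 L695064 q17209, e3 q18120 (flp_i L695066) q16039, e3 q18121 L695103 q18121, e3 q18122 (flp_i L695104) q16043, e3 q18123 (flp_i L695122) q16045, e3 q18124 L695151 q16051, e3 q18125 (flp_i L714800) q20019, e3 q18126 L695185 q17200, e3 q18127 L714820 q20021, e3 q18128 (flp_i L695205) q16049, e3 q18129 (flp_i L714818) q20020, e3 q18130 (flp_i L695235) q16052, e3 q18131 L695269 q18131, e3 q18132 L695280 q18132, e3 q18133 L714912 q20027, e3 q18134 (flp_i L695297) q16059, e3 q18135 L714943 q20029, e3 q18136 (flp_i L695330) q16060, e3 q18137 L695356 q17992, e3 q18138 L695378 q17993, e3 q18139 (flp_i L695384) q16063, e3 q18140 L695409 q16078, e3 q18141 L715004 q20033, e3 q18142 (flp_i L695427)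 q16066, e3 q18143 L715036 q20035, e3 q18144 L715064 q20037, e3 q18145 (flp_i L695471) q16067, e3 q18146 L715104 q20040, e3 q18147 (flp_i L695499) q16069, e3 q18148 L715169 q20044, e3 q18149 L715196 q20046, e3 q18150 (flp_i L695540) q16071, e3 q18151 L715223 q20048, e3 q18152 (flp_i L695562) q16072, e3 q18153 (flp_i L714972) q20030, e3 q18154 L715245 q20050, e3 q18155 L715261 q20051, e3 q18156 (flp_i L695615) q16074, e3 q18157 (flp_i L695627) q16075, e3 q18158 L695648 q17685, e3 q18159 (flp_i L714986) q20031, e3 q18160 L715316 q20055, e3 q18161 (flp_i L695674) q16079, e3 q18162 (flp_i L695689) q16081, e3 q18163 L695715 q18163, e3 q18164 L695724 q18164, e3 q18165 (flp_i L695727) q16086, e3 q18166 L715374 q20059, e3 q18167 (flp_i L695760) q16088, e3 q18168 (flp_i L695775) q16090, e3 q18169 L695801 q16437, e3 q18170 (flp_i L695805) q16093, e3 q18171 L695833 q16427, e3 q18172 L715428 q20062, e3 q18173 (flp_i L695853) q16099, e3 q18174 (flp_i L695870) q16100, e3 q18175 (flp_i L695886) q16102, trivial⟩ (by decide +kernel)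

theorem ce_i_284 : ∀ r, r < 64 → sm gi (Qf (18176 + r)) = Qf (tab Gen.i (18176 + r)) :=
  edges_tab (sm gi) Qf (tab Gen.i) 18176 [(18176, 17264), (18177, 18177), (18178, 20066), (18179, 16107), (18180, 17259), (18181, 20068), (18182, 16110), (18183, 17267), (18184, 16113), (18185, 18185), (18186, 16116), (18187, 18187), (18188, 20072), (18189, 16119), (18190, 20074), (18191, 16120), (18192, 16122), (18193, 20078), (18194, 16124), (18195, 16138), (18196, 20080), (18197, 16126), (18198, 16145), (18199, 20083), (18200, 16129), (18201, 20085), (18202, 16131), (18203, 20088), (18204, 16132), (18205, 20075), (18206, 20076), (18207, 17230), (18208, 20091), (18209, 16136), (18210, 20079), (18211, 17225), (18212, 20094), (18213, 16140), (18214, 17231), (18215, 20096), (18216, 16143), (18217, 20081), (18218, 20082), (18219, 20100), (18220, 16146), (18221, 18221), (18222, 18222), (18223, 16149), (18224, 18224), (18225, 18225), (18226, 18226), (18227, 20107), (18228, 20110), (18229, 16157), (18230, 20112), (18231, 20115), (18232, 16159),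 (18233, 20117), (18234, 20119), (18235, 16160), (18236, 20121), (18237, 20123), (18238, 16162), (18239, 16164)]
    ⟨e3 q18176 L695916 q17264, e3 q18177 L695934 q18177, e3 q18178 L715497 q20066, e3 q18179 (flp_i L695951) q16107, e3 q18180 L695979 q17259, e3 q18181 L715529 q20068, e3 q18182 (flp_i L695999) q16110, e3 q18183 L696027 q17267, e3 q18184 (flp_i L696029) q16113, e3 q18185 L696057 q18185, e3 q18186 (flp_i L696062) q16116, e3 q18187 L696100 q18187, e3 q18188 L715601 q20072, e3 q18189 (flp_i L696117) q16119, e3 q18190 L715635 q20074, e3 q18191 (flp_i L696149) q16120, e3 q18192 (flp_i L696163) q16122, e3 q18193 L715696 q20078, e3 q18194 (flp_i L696192) q16124, e3 q18195 L696217 q16138, e3 q18196 L715725 q20080, e3 q18197 (flp_i L696232) q16126, e3 q18198 L696257 q16145, e3 q18199 L715765 q20083, e3 q18200 (flp_i L696273) q16129, e3 q18201 L715793 q20085, e3 q18202 (flp_i L696305) q16131, e3 q18203 L715845 q20088, e3 q18204 (flp_i L696335) q16132, e3 q18205 (flp_i L715661) q20075, e3 q18206 (flp_i L715679) q20076, e3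 q18207 L696383 q17230, e3 q18208 L715883 q20091, e3 q18209 (flp_i L696397) q16136, e3 q18210 (flp_i L715723) q20079, e3 q18211 L696443 q17225, e3 q18212 L715921 q20094, e3 q18213 (flp_i L696461) q16140, e3 q18214 L696493 q17231, e3 q18215 L715955 q20096, e3 q18216 (flp_i L696507) q16143, e3 q18217 (flp_i L715752) q20081, e3 q18218 (flp_i L715760) q20082, e3 q18219 L716001 q20100, e3 q18220 (flp_i L696546) q16146, e3 q18221 L696574 q18221, e3 q18222 L696585 q18222, e3 q18223 (flp_i L696586) q16149, e3 q18224 L696616 q18224, e3 q18225 L696625 q18225, e3 q18226 L696634 q18226, e3 q18227 L716101 q20107, e3 q18228 L716141 q20110, e3 q18229 (flp_i L696662) q16157, e3 q18230 L716167 q20112, e3 q18231 L716208 q20115, e3 q18232 (flp_i L696702) q16159, e3 q18233 L716234 q20117, e3 q18234 L716261 q20119, e3 q18235 (flp_i L696738) q16160, e3 q18236 L716285 q20121, e3 q18237 L716312 q20123, e3 q18238 (flp_i L696778) q16162, e3 q18239 (flp_i L696789) q16164, trivial⟩ (by decide +kernel)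

theorem ce_i_285 : ∀ r, r < 64 → sm gi (Qf (18240 + r)) = Qf (tab Gen.i (18240 + r)) :=
  edges_tab (sm gi) Qf (tab Gen.i) 18240 [(18240, 20126), (18241, 16165), (18242, 16184), (18243, 16187), (18244, 16188), (18245, 20131), (18246, 16170), (18247, 20133), (18248, 20135), (18249, 16171), (18250, 20138), (18251, 20141), (18252, 16173), (18253, 20143), (18254, 16174), (18255, 20120), (18256, 20146), (18257, 16176), (18258, 20149), (18259, 16177), (18260, 20124), (18261, 16179), (18262, 20152), (18263, 16180), (18264, 20125), (18265, 16182), (18266, 20127), (18267, 17372), (18268, 17371), (18269, 20128), (18270, 20129), (18271, 20161), (18272, 16189), (18273, 18273), (18274, 18274), (18275, 18275), (18276, 18276), (18277, 16196), (18278, 18278), (18279, 20169), (18280, 16198), (18281, 20172), (18282, 16199), (18283, 18283), (18284, 18284), (18285, 18285), (18286, 18286), (18287, 18287), (18288, 18288), (18289, 18289), (18290, 18290), (18291, 18291), (18292, 16212), (18293, 18293), (18294, 18294), (18295, 18295), (18296, 18296),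 (18297, 18297), (18298, 18298), (18299, 20181), (18300, 20183), (18301, 16224), (18302, 20184), (18303, 16225)]
    ⟨e3 q18240 L716353 q20126, e3 q18241 (flp_i L696815) q16165, e3 q18242 L696838 q16184, e3 q18243 L696853 q16187, e3 q18244 L696868 q16188, e3 q18245 L716424 q20131, e3 q18246 (flp_i L696883) q16170, e3 q18247 L716453 q20133, e3 q18248 L716479 q20135, e3 q18249 (flp_i L696922) q16171, e3 q18250 L716517 q20138, e3 q18251 L716559 q20141, e3 q18252 (flp_i L696958) q16173, e3 q18253 L716579 q20143, e3 q18254 (flp_i L696980) q16174, e3 q18255 (flp_i L716283) q20120, e3 q18256 L716614 q20146, e3 q18257 (flp_i L697016) q16176, e3 q18258 L716650 q20149, e3 q18259 (flp_i L697039) q16177, e3 q18260 (flp_i L716337) q20124, e3 q18261 (flp_i L697063) q16179, e3 q18262 L716689 q20152, e3 q18263 (flp_i L697092) q16180, e3 q18264 (flp_i L716351) q20125, e3 q18265 (flp_i L697113) q16182, e3 q18266 (flp_i L716378) q20127, e3 q18267 L697148 q17372, e3 q18268 L697163 q17371, e3 q18269 (flp_i L716389) q20128, e3 q18270 (flp_i L716403)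 q20129, e3 q18271 L716799 q20161, e3 q18272 (flp_i L697202) q16189, e3 q18273 L697225 q18273, e3 q18274 L697237 q18274, e3 q18275 L697246 q18275, e3 q18276 L697258 q18276, e3 q18277 (flp_i L697260) q16196, e3 q18278 L697292 q18278, e3 q18279 L716903 q20169, e3 q18280 (flp_i L697307) q16198, e3 q18281 L716945 q20172, e3 q18282 (flp_i L697332) q16199, e3 q18283 L697355 q18283, e3 q18284 L697371 q18284, e3 q18285 L697384 q18285, e3 q18286 L697398 q18286, e3 q18287 L697405 q18287, e3 q18288 L697422 q18288, e3 q18289 L697434 q18289, e3 q18290 L697448 q18290, e3 q18291 L697467 q18291, e3 q18292 (flp_i L697468) q16212, e3 q18293 L697495 q18293, e3 q18294 L697510 q18294, e3 q18295 L697520 q18295, e3 q18296 L697537 q18296, e3 q18297 L697554 q18297, e3 q18298 L697574 q18298, e3 q18299 L717073 q20181, e3 q18300 L717107 q20183, e3 q18301 (flp_i L697608) q16224, e3 q18302 L717121 q20184, e3 q18303 (flp_i L697639) q16225, trivial⟩ (by decide +kernel)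

theorem ce_i_286 : ∀ r, r < 64 → sm gi (Qf (18304 + r)) = Qf (tab Gen.i (18304 + r)) :=
  edges_tab (sm gi) Qf (tab Gen.i) 18304 [(18304, 16226), (18305, 16240), (18306, 20187), (18307, 20190), (18308, 16230), (18309, 20192), (18310, 20194), (18311, 16231), (18312, 20196), (18313, 16233), (18314, 16235), (18315, 20199), (18316, 16236), (18317, 20185), (18318, 16920), (18319, 16958), (18320, 16241), (18321, 18321), (18322, 18322), (18323, 20206), (18324, 16246), (18325, 20208), (18326, 16247), (18327, 20210), (18328, 20212), (18329, 16248), (18330, 16250), (18331, 16252), (18332, 20216), (18333, 16253), (18334, 16268), (18335, 16269), (18336, 16272), (18337, 20221), (18338, 16258), (18339, 20222), (18340, 16259), (18341, 20224), (18342, 16261), (18343, 20227), (18344, 16262), (18345, 20213), (18346, 20214), (18347, 20215), (18348, 20231), (18349, 16266), (18350, 20217), (18351, 20218), (18352, 20234), (18353, 16270), (18354, 17773), (18355, 20219), (18356, 20237), (18357, 16273), (18358, 18358), (18359, 18359), (18360, 16276),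 (18361, 18361), (18362, 18362), (18363, 18363), (18364, 18364), (18365, 18365), (18366, 20245), (18367, 16287)]
    ⟨e3 q18304 (flp_i L697653) q16226, e3 q18305 L697682 q16240, e3 q18306 L717165 q20187, e3 q18307 L717206 q20190, e3 q18308 (flp_i L697708) q16230, e3 q18309 L717232 q20192, e3 q18310 L717263 q20194, e3 q18311 (flp_i L697744) q16231, e3 q18312 L717285 q20196, e3 q18313 (flp_i L697770) q16233, e3 q18314 (flp_i L697783) q16235, e3 q18315 L717326 q20199, e3 q18316 (flp_i L697812) q16236, e3 q18317 (flp_i L717150) q20185, e3 q18318 L697851 q16920, e3 q18319 L697866 q16958, e3 q18320 (flp_i L697868) q16241, e3 q18321 L697898 q18321, e3 q18322 L697908 q18322, e3 q18323 L717437 q20206, e3 q18324 (flp_i L697926) q16246, e3 q18325 L717462 q20208, e3 q18326 (flp_i L697952) q16247, e3 q18327 L717490 q20210, e3 q18328 L717521 q20212, e3 q18329 (flp_i L697986) q16248, e3 q18330 (flp_i L697996) q16250, e3 q18331 (flp_i L698009) q16252, e3 q18332 L717572 q20216, e3 q18333 (flp_i L698039) q16253, e3 q18334 L698062 q16268, e3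 q18335 L698077 q16269, e3 q18336 L698092 q16272, e3 q18337 L717647 q20221, e3 q18338 (flp_i L698105) q16258, e3 q18339 L717660 q20222, e3 q18340 (flp_i L698132) q16259, e3 q18341 L717686 q20224, e3 q18342 (flp_i L698160) q16261, e3 q18343 L717734 q20227, e3 q18344 (flp_i L698188) q16262, e3 q18345 (flp_i L717539) q20213, e3 q18346 (flp_i L717554) q20214, e3 q18347 (flp_i L717570) q20215, e3 q18348 L717788 q20231, e3 q18349 (flp_i L698247) q16266, e3 q18350 (flp_i L717601) q20217, e3 q18351 (flp_i L717612) q20218, e3 q18352 L717826 q20234, e3 q18353 (flp_i L698301) q16270, e3 q18354 L698328 q17773, e3 q18355 (flp_i L717628) q20219, e3 q18356 L717872 q20237, e3 q18357 (flp_i L698356) q16273, e3 q18358 L698382 q18358, e3 q18359 L698391 q18359, e3 q18360 (flp_i L698396) q16276, e3 q18361 L698421 q18361, e3 q18362 L698431 q18362, e3 q18363 L698449 q18363, e3 q18364 L698466 q18364, e3 q18365 L698477 q18365, e3 q18366 L717980 q20245, e3 q18367 (flp_i L698493) q16287, trivial⟩ (by decide +kernel)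

theorem ce_i_287 : ∀ r, r < 64 → sm gi (Qf (18368 + r)) = Qf (tab Gen.i (18368 + r)) :=
  edges_tab (sm gi) Qf (tab Gen.i) 18368 [(18368, 20248), (18369, 20250), (18370, 16288), (18371, 20253), (18372, 16290), (18373, 20256), (18374, 20258), (18375, 16291), (18376, 20261), (18377, 20264), (18378, 16293), (18379, 20267), (18380, 16294), (18381, 16321), (18382, 20269), (18383, 16296), (18384, 20272), (18385, 16297), (18386, 16326), (18387, 16299), (18388, 20275), (18389, 16300), (18390, 16332), (18391, 20279), (18392, 16302), (18393, 16335), (18394, 16338), (18395, 16341), (18396, 16342), (18397, 20284), (18398, 16308), (18399, 16345), (18400, 16346), (18401, 20289), (18402, 16311), (18403, 20293), (18404, 20294), (18405, 16313), (18406, 20297), (18407, 16314), (18408, 20259), (18409, 20300), (18410, 20303), (18411, 16316), (18412, 20306), (18413, 20308), (18414, 16317), (18415, 20265), (18416, 20312), (18417, 16319), (18418, 20268), (18419, 20315), (18420, 16322), (18421, 20270), (18422, 20319), (18423, 16324), (18424, 20273),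 (18425, 16327), (18426, 20323), (18427, 16328), (18428, 20274), (18429, 20327), (18430, 16330), (18431, 20276)]
    ⟨e3 q18368 L718011 q20248, e3 q18369 L718032 q20250, e3 q18370 (flp_i L698525) q16288, e3 q18371 L718063 q20253, e3 q18372 (flp_i L698545) q16290, e3 q18373 L718099 q20256, e3 q18374 L718124 q20258, e3 q18375 (flp_i L698576) q16291, e3 q18376 L718156 q20261, e3 q18377 L718190 q20264, e3 q18378 (flp_i L698607) q16293, e3 q18379 L718224 q20267, e3 q18380 (flp_i L698624) q16294, e3 q18381 L698640 q16321, e3 q18382 L718242 q20269, e3 q18383 (flp_i L698656) q16296, e3 q18384 L718283 q20272, e3 q18385 (flp_i L698681) q16297, e3 q18386 L698702 q16326, e3 q18387 (flp_i L698704) q16299, e3 q18388 L718325 q20275, e3 q18389 (flp_i L698733) q16300, e3 q18390 L698755 q16332, e3 q18391 L718381 q20279, e3 q18392 (flp_i L698770) q16302, e3 q18393 L698785 q16335, e3 q18394 L698800 q16338, e3 q18395 L698817 q16341, e3 q18396 L698824 q16342, e3 q18397 L718441 q20284, e3 q18398 (flp_i L698841) q16308, e3 q18399 L698867 q16345, e3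 q18400 L698874 q16346, e3 q18401 L718506 q20289, e3 q18402 (flp_i L698885) q16311, e3 q18403 L718553 q20293, e3 q18404 L718565 q20294, e3 q18405 (flp_i L698918) q16313, e3 q18406 L718601 q20297, e3 q18407 (flp_i L698944) q16314, e3 q18408 (flp_i L718140) q20259, e3 q18409 L718639 q20300, e3 q18410 L718685 q20303, e3 q18411 (flp_i L698982) q16316, e3 q18412 L718719 q20306, e3 q18413 L718751 q20308, e3 q18414 (flp_i L699020) q16317, e3 q18415 (flp_i L718206) q20265, e3 q18416 L718789 q20312, e3 q18417 (flp_i L699044) q16319, e3 q18418 (flp_i L718240) q20268, e3 q18419 L718813 q20315, e3 q18420 (flp_i L699075) q16322, e3 q18421 (flp_i L718267) q20270, e3 q18422 L718863 q20319, e3 q18423 (flp_i L699110) q16324, e3 q18424 (flp_i L718309) q20273, e3 q18425 (flp_i L699137) q16327, e3 q18426 L718913 q20323, e3 q18427 (flp_i L699167) q16328, e3 q18428 (flp_i L718323) q20274, e3 q18429 L718971 q20327, e3 q18430 (flp_i L699205) q16330, e3 q18431 (flp_i L718357) q20276, trivial⟩ (by decide +kernel)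

theorem ce_i_288 : ∀ r, r < 64 → sm gi (Qf (18432 + r)) = Qf (tab Gen.i (18432 + r)) :=
  edges_tab (sm gi) Qf (tab Gen.i) 18432 [(18432, 20277), (18433, 20330), (18434, 16333), (18435, 20280), (18436, 20281), (18437, 17097), (18438, 17094), (18439, 20282), (18440, 20336), (18441, 16339), (18442, 17815), (18443, 20283), (18444, 16343), (18445, 20285), (18446, 20286), (18447, 20287), (18448, 20342), (18449, 16347), (18450, 18450), (18451, 18451), (18452, 16350), (18453, 18453), (18454, 18454), (18455, 18455), (18456, 18456), (18457, 18457), (18458, 18458), (18459, 18459), (18460, 20353), (18461, 16359), (18462, 18462), (18463, 20357), (18464, 16362), (18465, 20360), (18466, 16363), (18467, 18467), (18468, 20363), (18469, 16365), (18470, 18470), (18471, 18471), (18472, 16369), (18473, 18473), (18474, 18474), (18475, 18475), (18476, 18476), (18477, 18477), (18478, 18478), (18479, 18479), (18480, 16378), (18481, 18481), (18482, 18482), (18483, 16381), (18484, 18484), (18485, 18485), (18486, 18486), (18487, 18487), (18488, 18488),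 (18489, 18489), (18490, 18490), (18491, 18491), (18492, 18492), (18493, 18493), (18494, 18494), (18495, 18495)]
    ⟨e3 q18432 (flp_i L718363) q20277, e3 q18433 L719007 q20330, e3 q18434 (flp_i L699245) q16333, e3 q18435 (flp_i L718400) q20280, e3 q18436 (flp_i L718408) q20281, e3 q18437 L699282 q17097, e3 q18438 L699299 q17094, e3 q18439 (flp_i L718420) q20282, e3 q18440 L719077 q20336, e3 q18441 (flp_i L699325) q16339, e3 q18442 L699354 q17815, e3 q18443 (flp_i L718435) q20283, e3 q18444 (flp_i L699365) q16343, e3 q18445 (flp_i L718467) q20285, e3 q18446 (flp_i L718478) q20286, e3 q18447 (flp_i L718493) q20287, e3 q18448 L719155 q20342, e3 q18449 (flp_i L699416) q16347, e3 q18450 L699443 q18450, e3 q18451 L699453 q18451, e3 q18452 (flp_i L699454) q16350, e3 q18453 L699470 q18453, e3 q18454 L699477 q18454, e3 q18455 L699484 q18455, e3 q18456 L699496 q18456, e3 q18457 L699503 q18457, e3 q18458 L699513 q18458, e3 q18459 L699525 q18459, e3 q18460 L719273 q20353, e3 q18461 (flp_i L699545) q16359, e3 q18462 L699569 q18462, e3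 q18463 L719327 q20357, e3 q18464 (flp_i L699585) q16362, e3 q18465 L719371 q20360, e3 q18466 (flp_i L699609) q16363, e3 q18467 L699633 q18467, e3 q18468 L719409 q20363, e3 q18469 (flp_i L699647) q16365, e3 q18470 L699675 q18470, e3 q18471 L699682 q18471, e3 q18472 (flp_i L699683) q16369, e3 q18473 L699707 q18473, e3 q18474 L699715 q18474, e3 q18475 L699728 q18475, e3 q18476 L699735 q18476, e3 q18477 L699742 q18477, e3 q18478 L699754 q18478, e3 q18479 L699768 q18479, e3 q18480 (flp_i L699771) q16378, e3 q18481 L699796 q18481, e3 q18482 L699806 q18482, e3 q18483 (flp_i L699813) q16381, e3 q18484 L699837 q18484, e3 q18485 L699852 q18485, e3 q18486 L699861 q18486, e3 q18487 L699874 q18487, e3 q18488 L699882 q18488, e3 q18489 L699895 q18489, e3 q18490 L699917 q18490, e3 q18491 L699933 q18491, e3 q18492 L699951 q18492, e3 q18493 L699962 q18493, e3 q18494 L699984 q18494, e3 q18495 L700000 q18495, trivial⟩ (by decide +kernel)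

theorem ce_i_289 : ∀ r, r < 64 → sm gi (Qf (18496 + r)) = Qf (tab Gen.i (18496 + r)) :=
  edges_tab (sm gi) Qf (tab Gen.i) 18496 [(18496, 17991), (18497, 20376), (18498, 16406), (18499, 16407), (18500, 20378), (18501, 16412), (18502, 20379), (18503, 20380), (18504, 16413), (18505, 20060), (18506, 20382), (18507, 16416), (18508, 16417), (18509, 16418), (18510, 16420), (18511, 16421), (18512, 20381), (18513, 18513), (18514, 18514), (18515, 16432), (18516, 20389), (18517, 16434), (18518, 20391), (18519, 16435), (18520, 16447), (18521, 16438), (18522, 16440), (18523, 20388), (18524, 16443), (18525, 20390), (18526, 16445), (18527, 20392), (18528, 18528), (18529, 18529), (18530, 18530), (18531, 18531), (18532, 18532), (18533, 16459), (18534, 16461), (18535, 20405), (18536, 16463), (18537, 20403), (18538, 20407), (18539, 16465), (18540, 20408), (18541, 16466), (18542, 20410), (18543, 20411), (18544, 16468), (18545, 16469), (18546, 16483), (18547, 16472), (18548, 16474), (18549, 16476), (18550, 20417), (18551, 16477), (18552, 20409),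 (18553, 16479), (18554, 16480), (18555, 20412), (18556, 20413), (18557, 16484), (18558, 18558), (18559, 18559)]
    ⟨e3 q18496 L700020 q17991, e3 q18497 L719562 q20376, e3 q18498 (flp_i L700040) q16406, e3 q18499 (flp_i L700057) q16407, e3 q18500 L719598 q20378, e3 q18501 (flp_i L700091) q16412, e3 q18502 L719616 q20379, e3 q18503 L719633 q20380, e3 q18504 (flp_i L700141) q16413, e3 q18505 (flp_i L715406) q20060, e3 q18506 L719664 q20382, e3 q18507 (flp_i L700188) q16416, e3 q18508 (flp_i L700203) q16417, e3 q18509 (flp_i L700221) q16418, e3 q18510 (flp_i L700235) q16420, e3 q18511 (flp_i L700251) q16421, e3 q18512 (flp_i L719662) q20381, e3 q18513 L700295 q18513, e3 q18514 L700312 q18514, e3 q18515 (flp_i L700313) q16432, e3 q18516 L719774 q20389, e3 q18517 (flp_i L700342) q16434, e3 q18518 L719801 q20391, e3 q18519 (flp_i L700368) q16435, e3 q18520 L700383 q16447, e3 q18521 (flp_i L700385) q16438, e3 q18522 (flp_i L700401) q16440, e3 q18523 (flp_i L719772) q20388, e3 q18524 (flp_i L700425) q16443, e3 q18525 (flp_i L719799)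 q20390, e3 q18526 (flp_i L700447) q16445, e3 q18527 (flp_i L719824) q20392, e3 q18528 L700485 q18528, e3 q18529 L700490 q18529, e3 q18530 L700509 q18530, e3 q18531 L700516 q18531, e3 q18532 L700536 q18532, e3 q18533 (flp_i L700537) q16459, e3 q18534 (flp_i L700551) q16461, e3 q18535 L720002 q20405, e3 q18536 (flp_i L700582) q16463, e3 q18537 (flp_i L719988) q20403, e3 q18538 L720031 q20407, e3 q18539 (flp_i L700619) q16465, e3 q18540 L720049 q20408, e3 q18541 (flp_i L700650) q16466, e3 q18542 L720074 q20410, e3 q18543 L720091 q20411, e3 q18544 (flp_i L700693) q16468, e3 q18545 (flp_i L700704) q16469, e3 q18546 L700721 q16483, e3 q18547 (flp_i L700723) q16472, e3 q18548 (flp_i L700733) q16474, e3 q18549 (flp_i L700749) q16476, e3 q18550 L720165 q20417, e3 q18551 (flp_i L700779) q16477, e3 q18552 (flp_i L720072) q20409, e3 q18553 (flp_i L700799) q16479, e3 q18554 (flp_i L700809) q16480, e3 q18555 (flp_i L720119) q20412, e3 q18556 (flp_i L720129) q20413, e3 q18557 (flp_i L700838) q16484, e3 q18558 L700865 q18558, e3 q18559 L700872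 q18559, trivial⟩ (by decide +kernel)

theorem ce_i_290 : ∀ r, r < 64 → sm gi (Qf (18560 + r)) = Qf (tab Gen.i (18560 + r)) :=
  edges_tab (sm gi) Qf (tab Gen.i) 18560 [(18560, 16488), (18561, 18561), (18562, 18562), (18563, 18563), (18564, 16494), (18565, 16496), (18566, 16498), (18567, 16499), (18568, 16513), (18569, 16501), (18570, 16502), (18571, 16519), (18572, 16504), (18573, 16522), (18574, 16507), (18575, 20427), (18576, 20428), (18577, 16510), (18578, 20429), (18579, 20430), (18580, 16514), (18581, 16515), (18582, 20431), (18583, 16517), (18584, 20432), (18585, 20433), (18586, 16520), (18587, 20434), (18588, 20435), (18589, 18589), (18590, 18590), (18591, 18591), (18592, 18592), (18593, 18593), (18594, 18594), (18595, 18595), (18596, 18596), (18597, 18597), (18598, 16538), (18599, 18599), (18600, 18600), (18601, 18601), (18602, 18602), (18603, 18603), (18604, 16561), (18605, 20453), (18606, 20455), (18607, 16564), (18608, 20456), (18609, 16565), (18610, 16566), (18611, 20095), (18612, 20459), (18613, 20462), (18614,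 16571), (18615, 20463), (18616, 16572), (18617, 20464), (18618, 20466), (18619, 16573), (18620, 16575), (18621, 16576), (18622, 16590), (18623, 20471)]
    ⟨e3 q18560 (flp_i L700873) q16488, e3 q18561 L700904 q18561, e3 q18562 L700917 q18562, e3 q18563 L700926 q18563, e3 q18564 (flp_i L700927) q16494, e3 q18565 (flp_i L700939) q16496, e3 q18566 (flp_i L700955) q16498, e3 q18567 (flp_i L700966) q16499, e3 q18568 L700981 q16513, e3 q18569 (flp_i L700983) q16501, e3 q18570 (flp_i L701000) q16502, e3 q18571 L701020 q16519, e3 q18572 (flp_i L701022) q16504, e3 q18573 L701039 q16522, e3 q18574 (flp_i L701041) q16507, e3 q18575 (flp_i L720295) q20427, e3 q18576 (flp_i L720313) q20428, e3 q18577 (flp_i L701066) q16510, e3 q18578 (flp_i L720325) q20429, e3 q18579 (flp_i L720337) q20430, e3 q18580 (flp_i L701099) q16514, e3 q18581 (flp_i L701115) q16515, e3 q18582 (flp_i L720355) q20431, e3 q18583 (flp_i L701142) q16517, e3 q18584 (flp_i L720367) q20432, e3 q18585 (flp_i L720375) q20433, e3 q18586 (flp_i L701169) q16520, e3 q18587 (flp_i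 L720388) q20434, e3 q18588 (flp_i L720394) q20435, e3 q18589 L701201 q18589, e3 q18590 L701210 q18590, e3 q18591 L701217 q18591, e3 q18592 L701227 q18592, e3 q18593 L701241 q18593, e3 q18594 L701252 q18594, e3 q18595 L701259 q18595, e3 q18596 L701278 q18596, e3 q18597 L701295 q18597, e3 q18598 (flp_i L701296) q16538, e3 q18599 L701328 q18599, e3 q18600 L701346 q18600, e3 q18601 L701363 q18601, e3 q18602 L701382 q18602, e3 q18603 L701397 q18603, e3 q18604 (flp_i L701400) q16561, e3 q18605 L720586 q20453, e3 q18606 L720619 q20455, e3 q18607 (flp_i L701442) q16564, e3 q18608 L720631 q20456, e3 q18609 (flp_i L701469) q16565, e3 q18610 (flp_i L701484) q16566, e3 q18611 (flp_i L715953) q20095, e3 q18612 L720671 q20459, e3 q18613 L720715 q20462, e3 q18614 (flp_i L701531) q16571, e3 q18615 L720727 q20463, e3 q18616 (flp_i L701560) q16572, e3 q18617 L720741 q20464, e3 q18618 L720771 q20466, e3 q18619 (flp_i L701602) q16573, e3 q18620 (flp_i L701610) q16575, e3 q18621 (flp_i L701623) q16576, e3 q18622 L701644 q16590, e3 q18623 L720840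 q20471, trivial⟩ (by decide +kernel)

theorem ce_i_291 : ∀ r, r < 64 → sm gi (Qf (18624 + r)) = Qf (tab Gen.i (18624 + r)) :=
  edges_tab (sm gi) Qf (tab Gen.i) 18624 [(18624, 20473), (18625, 16579), (18626, 20475), (18627, 20477), (18628, 16580), (18629, 16582), (18630, 16584), (18631, 20481), (18632, 16585), (18633, 20467), (18634, 16587), (18635, 20468), (18636, 20469), (18637, 16591), (18638, 18638), (18639, 18639), (18640, 16595), (18641, 16597), (18642, 18642), (18643, 18643), (18644, 18644), (18645, 20492), (18646, 16603), (18647, 20494), (18648, 16604), (18649, 20497), (18650, 20499), (18651, 16605), (18652, 16607), (18653, 20502), (18654, 16609), (18655, 20505), (18656, 16610), (18657, 16629), (18658, 16612), (18659, 16613), (18660, 16635), (18661, 20510), (18662, 16615), (18663, 16638), (18664, 20514), (18665, 16618), (18666, 20515), (18667, 16619), (18668, 20518), (18669, 20520), (18670, 16621), (18671, 20523), (18672, 16622), (18673, 20500), (18674, 20501), (18675, 16625), (18676, 20503), (18677, 20527), (18678,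 16627), (18679, 20506), (18680, 16630), (18681, 16631), (18682, 20507), (18683, 20533), (18684, 16633), (18685, 20508), (18686, 20509), (18687, 16636)]
    ⟨e3 q18624 L720870 q20473, e3 q18625 (flp_i L701672) q16579, e3 q18626 L720896 q20475, e3 q18627 L720926 q20477, e3 q18628 (flp_i L701706) q16580, e3 q18629 (flp_i L701716) q16582, e3 q18630 (flp_i L701730) q16584, e3 q18631 L720972 q20481, e3 q18632 (flp_i L701758) q16585, e3 q18633 (flp_i L720794) q20467, e3 q18634 (flp_i L701780) q16587, e3 q18635 (flp_i L720808) q20468, e3 q18636 (flp_i L720822) q20469, e3 q18637 (flp_i L701808) q16591, e3 q18638 L701838 q18638, e3 q18639 L701845 q18639, e3 q18640 (flp_i L701850) q16595, e3 q18641 (flp_i L701867) q16597, e3 q18642 L701894 q18642, e3 q18643 L701909 q18643, e3 q18644 L701918 q18644, e3 q18645 L721128 q20492, e3 q18646 (flp_i L701934) q16603, e3 q18647 L721149 q20494, e3 q18648 (flp_i L701960) q16604, e3 q18649 L721182 q20497, e3 q18650 L721197 q20499, e3 q18651 (flp_i L701988) q16605, e3 q18652 (flp_i L701996) q16607,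 e3 q18653 L721225 q20502, e3 q18654 (flp_i L702017) q16609, e3 q18655 L721259 q20505, e3 q18656 (flp_i L702029) q16610, e3 q18657 L702042 q16629, e3 q18658 (flp_i L702044) q16612, e3 q18659 (flp_i L702053) q16613, e3 q18660 L702071 q16635, e3 q18661 L721303 q20510, e3 q18662 (flp_i L702088) q16615, e3 q18663 L702105 q16638, e3 q18664 L721355 q20514, e3 q18665 (flp_i L702121) q16618, e3 q18666 L721369 q20515, e3 q18667 (flp_i L702143) q16619, e3 q18668 L721395 q20518, e3 q18669 L721425 q20520, e3 q18670 (flp_i L702169) q16621, e3 q18671 L721455 q20523, e3 q18672 (flp_i L702185) q16622, e3 q18673 (flp_i L721211) q20500, e3 q18674 (flp_i L721223) q20501, e3 q18675 (flp_i L702207) q16625, e3 q18676 (flp_i L721242) q20503, e3 q18677 L721483 q20527, e3 q18678 (flp_i L702233) q16627, e3 q18679 (flp_i L721270) q20506, e3 q18680 (flp_i L702245) q16630, e3 q18681 (flp_i L702257) q16631, e3 q18682 (flp_i L721280) q20507, e3 q18683 L721543 q20533, e3 q18684 (flp_i L702289) q16633, e3 q18685 (flp_i L721292) q20508, e3 q18686 (flp_i L721298)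 q20509, e3 q18687 (flp_i L702313) q16636, trivial⟩ (by decide +kernel)

theorem ce_i_292 : ∀ r, r < 64 → sm gi (Qf (18688 + r)) = Qf (tab Gen.i (18688 + r)) :=
  edges_tab (sm gi) Qf (tab Gen.i) 18688 [(18688, 20511), (18689, 20512), (18690, 16640), (18691, 18691), (18692, 18692), (18693, 18693), (18694, 18694), (18695, 18695), (18696, 16648), (18697, 18697), (18698, 16650), (18699, 20544), (18700, 16651), (18701, 18701), (18702, 18702), (18703, 18703), (18704, 18704), (18705, 18705), (18706, 18706), (18707, 16663), (18708, 16664), (18709, 18709), (18710, 18710), (18711, 20551), (18712, 16674), (18713, 16675), (18714, 16676), (18715, 16688), (18716, 20554), (18717, 16679), (18718, 20557), (18719, 20558), (18720, 16680), (18721, 16682), (18722, 20561), (18723, 16684), (18724, 20552), (18725, 16686), (18726, 17679), (18727, 20566), (18728, 20569), (18729, 16690), (18730, 20572), (18731, 16691), (18732, 20575), (18733, 20577), (18734, 16692), (18735, 20579), (18736, 16694), (18737, 20581), (18738, 20583), (18739, 16696), (18740,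 20585), (18741, 16697), (18742, 16718), (18743, 16699), (18744, 16700), (18745, 16723), (18746, 16724), (18747, 20592), (18748, 16704), (18749, 20594), (18750, 20596), (18751, 16705)]
    ⟨e3 q18688 (flp_i L721330) q20511, e3 q18689 (flp_i L721334) q20512, e3 q18690 (flp_i L702341) q16640, e3 q18691 L702363 q18691, e3 q18692 L702368 q18692, e3 q18693 L702385 q18693, e3 q18694 L702392 q18694, e3 q18695 L702405 q18695, e3 q18696 (flp_i L702410) q16648, e3 q18697 L702440 q18697, e3 q18698 (flp_i L702441) q16650, e3 q18699 L721688 q20544, e3 q18700 (flp_i L702467) q16651, e3 q18701 L702489 q18701, e3 q18702 L702504 q18702, e3 q18703 L702519 q18703, e3 q18704 L702524 q18704, e3 q18705 L702535 q18705, e3 q18706 L702546 q18706, e3 q18707 (flp_i L702549) q16663, e3 q18708 (flp_i L702562) q16664, e3 q18709 L702588 q18709, e3 q18710 L702604 q18710, e3 q18711 L721786 q20551, e3 q18712 (flp_i L702619) q16674, e3 q18713 (flp_i L702635) q16675, e3 q18714 (flp_i L702646) q16676, e3 q18715 L702668 q16688, e3 q18716 L721824 q20554, e3 q18717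 (flp_i L702680) q16679, e3 q18718 L721861 q20557, e3 q18719 L721872 q20558, e3 q18720 (flp_i L702712) q16680, e3 q18721 (flp_i L702722) q16682, e3 q18722 L721902 q20561, e3 q18723 (flp_i L702751) q16684, e3 q18724 (flp_i L721810) q20552, e3 q18725 (flp_i L702766) q16686, e3 q18726 L702785 q17679, e3 q18727 L721963 q20566, e3 q18728 L722005 q20569, e3 q18729 (flp_i L702812) q16690, e3 q18730 L722037 q20572, e3 q18731 (flp_i L702836) q16691, e3 q18732 L722072 q20575, e3 q18733 L722091 q20577, e3 q18734 (flp_i L702864) q16692, e3 q18735 L722109 q20579, e3 q18736 (flp_i L702889) q16694, e3 q18737 L722132 q20581, e3 q18738 L722163 q20583, e3 q18739 (flp_i L702928) q16696, e3 q18740 L722189 q20585, e3 q18741 (flp_i L702944) q16697, e3 q18742 L702959 q16718, e3 q18743 (flp_i L702961) q16699, e3 q18744 (flp_i L702974) q16700, e3 q18745 L702996 q16723, e3 q18746 L703004 q16724, e3 q18747 L722262 q20592, e3 q18748 (flp_i L703014) q16704, e3 q18749 L722280 q20594, e3 q18750 L722304 q20596, e3 q18751 (flp_i L703044) q16705, trivial⟩ (by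 decide +kernel)

theorem ce_i_293 : ∀ r, r < 64 → sm gi (Qf (18752 + r)) = Qf (tab Gen.i (18752 + r)) :=
  edges_tab (sm gi) Qf (tab Gen.i) 18752 [(18752, 20600), (18753, 20602), (18754, 16707), (18755, 20604), (18756, 16708), (18757, 20578), (18758, 16710), (18759, 20607), (18760, 16711), (18761, 20580), (18762, 20609), (18763, 16713), (18764, 20611), (18765, 16714), (18766, 20584), (18767, 16716), (18768, 20586), (18769, 16719), (18770, 16720), (18771, 20587), (18772, 20588), (18773, 20589), (18774, 20590), (18775, 20622), (18776, 16725), (18777, 18777), (18778, 18778), (18779, 18779), (18780, 18780), (18781, 20626), (18782, 16732), (18783, 16733), (18784, 18784), (18785, 16735), (18786, 18786), (18787, 18787), (18788, 16739), (18789, 18789), (18790, 16742), (18791, 18791), (18792, 18792), (18793, 18793), (18794, 18794), (18795, 18795), (18796, 20638), (18797, 16748), (18798, 20641), (18799, 20643), (18800, 16749), (18801, 20646), (18802, 16751), (18803, 20648), (18804, 20650), (18805, 16752), (18806, 20653), (18807, 20656),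 (18808, 16754), (18809, 20659), (18810, 16755), (18811, 16782), (18812, 16757), (18813, 20662), (18814, 16758), (18815, 16787)]
    ⟨e3 q18752 L722346 q20600, e3 q18753 L722364 q20602, e3 q18754 (flp_i L703070) q16707, e3 q18755 L722384 q20604, e3 q18756 (flp_i L703090) q16708, e3 q18757 (flp_i L722107) q20578, e3 q18758 (flp_i L703108) q16710, e3 q18759 L722412 q20607, e3 q18760 (flp_i L703130) q16711, e3 q18761 (flp_i L722130) q20580, e3 q18762 L722436 q20609, e3 q18763 (flp_i L703166) q16713, e3 q18764 L722458 q20611, e3 q18765 (flp_i L703181) q16714, e3 q18766 (flp_i L722187) q20584, e3 q18767 (flp_i L703200) q16716, e3 q18768 (flp_i L722204) q20586, e3 q18769 (flp_i L703216) q16719, e3 q18770 (flp_i L703230) q16720, e3 q18771 (flp_i L722218) q20587, e3 q18772 (flp_i L722234) q20588, e3 q18773 (flp_i L722242) q20589, e3 q18774 (flp_i L722249) q20590, e3 q18775 L722558 q20622, e3 q18776 (flp_i L703281) q16725, e3 q18777 L703307 q18777, e3 q18778 L703317 q18778, e3 q18779 L703324 q18779, e3 q18780 L703331 q18780, e3 q18781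 L722608 q20626, e3 q18782 (flp_i L703349) q16732, e3 q18783 (flp_i L703359) q16733, e3 q18784 L703380 q18784, e3 q18785 (flp_i L703381) q16735, e3 q18786 L703402 q18786, e3 q18787 L703415 q18787, e3 q18788 (flp_i L703416) q16739, e3 q18789 L703443 q18789, e3 q18790 (flp_i L703444) q16742, e3 q18791 L703466 q18791, e3 q18792 L703473 q18792, e3 q18793 L703484 q18793, e3 q18794 L703491 q18794, e3 q18795 L703498 q18795, e3 q18796 L722758 q20638, e3 q18797 (flp_i L703511) q16748, e3 q18798 L722787 q20641, e3 q18799 L722806 q20643, e3 q18800 (flp_i L703541) q16749, e3 q18801 L722837 q20646, e3 q18802 (flp_i L703562) q16751, e3 q18803 L722859 q20648, e3 q18804 L722880 q20650, e3 q18805 (flp_i L703594) q16752, e3 q18806 L722910 q20653, e3 q18807 L722940 q20656, e3 q18808 (flp_i L703625) q16754, e3 q18809 L722970 q20659, e3 q18810 (flp_i L703640) q16755, e3 q18811 L703652 q16782, e3 q18812 (flp_i L703654) q16757, e3 q18813 L722996 q20662, e3 q18814 (flp_i L703674) q16758, e3 q18815 L703689 q16787, trivial⟩ (by decide +kernel)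

theorem ce_i_294 : ∀ r, r < 64 → sm gi (Qf (18816 + r)) = Qf (tab Gen.i (18816 + r)) :=
  edges_tab (sm gi) Qf (tab Gen.i) 18816 [(18816, 16760), (18817, 20665), (18818, 16761), (18819, 16793), (18820, 20668), (18821, 16763), (18822, 16796), (18823, 16799), (18824, 16802), (18825, 16803), (18826, 16769), (18827, 16806), (18828, 16807), (18829, 20678), (18830, 16772), (18831, 20682), (18832, 16774), (18833, 20684), (18834, 16775), (18835, 20651), (18836, 20687), (18837, 20690), (18838, 16777), (18839, 20694), (18840, 20696), (18841, 16778), (18842, 20657), (18843, 20700), (18844, 16780), (18845, 20660), (18846, 20703), (18847, 16783), (18848, 20661), (18849, 16785), (18850, 20663), (18851, 16788), (18852, 20709), (18853, 16789), (18854, 20664), (18855, 20712), (18856, 16791), (18857, 20666), (18858, 20667), (18859, 20716), (18860, 16794), (18861, 20669), (18862, 20670), (18863, 17598), (18864, 17565), (18865, 20671), (18866, 16800), (18867, 20483), (18868, 20672), (18869, 20673), (18870, 16804), (18871, 20674), (18872, 20675),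 (18873, 20676), (18874, 18874), (18875, 18875), (18876, 16810), (18877, 18877), (18878, 18878), (18879, 18879)]
    ⟨e3 q18816 (flp_i L703691) q16760, e3 q18817 L723033 q20665, e3 q18818 (flp_i L703716) q16761, e3 q18819 L703734 q16793, e3 q18820 L723062 q20668, e3 q18821 (flp_i L703743) q16763, e3 q18822 L703754 q16796, e3 q18823 L703768 q16799, e3 q18824 L703778 q16802, e3 q18825 L703784 q16803, e3 q18826 (flp_i L703787) q16769, e3 q18827 L703800 q16806, e3 q18828 L703804 q16807, e3 q18829 L723140 q20678, e3 q18830 (flp_i L703815) q16772, e3 q18831 L723176 q20682, e3 q18832 (flp_i L703831) q16774, e3 q18833 L723196 q20684, e3 q18834 (flp_i L703853) q16775, e3 q18835 (flp_i L722892) q20651, e3 q18836 L723228 q20687, e3 q18837 L723268 q20690, e3 q18838 (flp_i L703891) q16777, e3 q18839 L723307 q20694, e3 q18840 L723325 q20696, e3 q18841 (flp_i L703919) q16778, e3 q18842 (flp_i L722956) q20657, e3 q18843 L723357 q20700, e3 q18844 (flp_i L703943) q16780, e3 q18845 (flp_i L722982) q20660, e3 q18846 L723379 q20703, e3 q18847 (flp_i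 L703966) q16783, e3 q18848 (flp_i L722994) q20661, e3 q18849 (flp_i L703989) q16785, e3 q18850 (flp_i L723015) q20663, e3 q18851 (flp_i L704009) q16788, e3 q18852 L723444 q20709, e3 q18853 (flp_i L704036) q16789, e3 q18854 (flp_i L723031) q20664, e3 q18855 L723485 q20712, e3 q18856 (flp_i L704068) q16791, e3 q18857 (flp_i L723053) q20666, e3 q18858 (flp_i L723059) q20667, e3 q18859 L723511 q20716, e3 q18860 (flp_i L704095) q16794, e3 q18861 (flp_i L723073) q20669, e3 q18862 (flp_i L723079) q20670, e3 q18863 L704123 q17598, e3 q18864 L704135 q17565, e3 q18865 (flp_i L723090) q20671, e3 q18866 (flp_i L704145) q16800, e3 q18867 (flp_i L721014) q20483, e3 q18868 (flp_i L723103) q20672, e3 q18869 (flp_i L723110) q20673, e3 q18870 (flp_i L704169) q16804, e3 q18871 (flp_i L723118) q20674, e3 q18872 (flp_i L723124) q20675, e3 q18873 (flp_i L723132) q20676, e3 q18874 L704206 q18874, e3 q18875 L704215 q18875, e3 q18876 (flp_i L704216) q16810, e3 q18877 L704238 q18877, e3 q18878 L704243 q18878, e3 q18879 L704248 q18879, trivial⟩ (by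 decide +kernel)

theorem ce_i_295 : ∀ r, r < 64 → sm gi (Qf (18880 + r)) = Qf (tab Gen.i (18880 + r)) :=
  edges_tab (sm gi) Qf (tab Gen.i) 18880 [(18880, 18880), (18881, 18881), (18882, 18882), (18883, 20736), (18884, 16818), (18885, 18885), (18886, 18886), (18887, 20740), (18888, 16822), (18889, 20743), (18890, 16823), (18891, 18891), (18892, 20746), (18893, 16825), (18894, 18894), (18895, 18895), (18896, 18896), (18897, 18897), (18898, 18898), (18899, 18899), (18900, 18900), (18901, 16837), (18902, 18902), (18903, 18903), (18904, 16847), (18905, 18905), (18906, 18906), (18907, 18907), (18908, 20755), (18909, 16854), (18910, 20757), (18911, 20758), (18912, 16855), (18913, 20760), (18914, 16857), (18915, 16859), (18916, 17769), (18917, 17312), (18918, 20765), (18919, 16863), (18920, 20766), (18921, 16864), (18922, 20768), (18923, 16866), (18924, 17756), (18925, 16868), (18926, 17763), (18927, 16870), (18928, 17771), (18929, 17774), (18930, 18930), (18931, 18931), (18932, 18932), (18933, 20776), (18934, 16880), (18935, 20778),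 (18936, 20780), (18937, 16881), (18938, 20783), (18939, 16883), (18940, 20785), (18941, 16884), (18942, 20787), (18943, 16886)]
    ⟨e3 q18880 L704256 q18880, e3 q18881 L704265 q18881, e3 q18882 L704276 q18882, e3 q18883 L723678 q20736, e3 q18884 (flp_i L704286) q16818, e3 q18885 L704307 q18885, e3 q18886 L704317 q18886, e3 q18887 L723723 q20740, e3 q18888 (flp_i L704332) q16822, e3 q18889 L723763 q20743, e3 q18890 (flp_i L704355) q16823, e3 q18891 L704380 q18891, e3 q18892 L723803 q20746, e3 q18893 (flp_i L704389) q16825, e3 q18894 L704407 q18894, e3 q18895 L704414 q18895, e3 q18896 L704424 q18896, e3 q18897 L704437 q18897, e3 q18898 L704449 q18898, e3 q18899 L704458 q18899, e3 q18900 L704465 q18900, e3 q18901 (flp_i L704467) q16837, e3 q18902 L704494 q18902, e3 q18903 L704508 q18903, e3 q18904 (flp_i L704509) q16847, e3 q18905 L704537 q18905, e3 q18906 L704553 q18906, e3 q18907 L704565 q18907, e3 q18908 L723890 q20755, e3 q18909 (flp_i L704581) q16854, e3 q18910 L723918 q20757, e3 q18911 L723931 q20758, e3 q18912 (flp_i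 L704617) q16855, e3 q18913 L723955 q20760, e3 q18914 (flp_i L704643) q16857, e3 q18915 (flp_i L704654) q16859, e3 q18916 L704677 q17769, e3 q18917 L704692 q17312, e3 q18918 L724024 q20765, e3 q18919 (flp_i L704707) q16863, e3 q18920 L724037 q20766, e3 q18921 (flp_i L704730) q16864, e3 q18922 L724061 q20768, e3 q18923 (flp_i L704752) q16866, e3 q18924 L704774 q17756, e3 q18925 (flp_i L704776) q16868, e3 q18926 L704800 q17763, e3 q18927 (flp_i L704802) q16870, e3 q18928 L704822 q17771, e3 q18929 L704829 q17774, e3 q18930 L704846 q18930, e3 q18931 L704853 q18931, e3 q18932 L704860 q18932, e3 q18933 L724145 q20776, e3 q18934 (flp_i L704870) q16880, e3 q18935 L724164 q20778, e3 q18936 L724182 q20780, e3 q18937 (flp_i L704900) q16881, e3 q18938 L724213 q20783, e3 q18939 (flp_i L704922) q16883, e3 q18940 L724238 q20785, e3 q18941 (flp_i L704945) q16884, e3 q18942 L724262 q20787, e3 q18943 (flp_i L704967) q16886, trivial⟩ (by decide +kernel)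

theorem ce_i_296 : ∀ r, r < 64 → sm gi (Qf (18944 + r)) = Qf (tab Gen.i (18944 + r)) :=
  edges_tab (sm gi) Qf (tab Gen.i) 18944 [(18944, 16904), (18945, 20789), (18946, 16888), (18947, 16908), (18948, 16890), (18949, 16915), (18950, 16921), (18951, 20794), (18952, 20796), (18953, 16894), (18954, 20798), (18955, 16896), (18956, 20800), (18957, 16897), (18958, 20786), (18959, 20802), (18960, 16899), (18961, 20804), (18962, 20805), (18963, 16900), (18964, 17727), (18965, 20808), (18966, 16902), (18967, 20788), (18968, 17728), (18969, 16906), (18970, 20790), (18971, 17370), (18972, 16910), (18973, 17339), (18974, 20814), (18975, 16913), (18976, 20791), (18977, 20792), (18978, 16918), (18979, 20198), (18980, 20201), (18981, 17478), (18982, 16922), (18983, 18983), (18984, 18984), (18985, 16925), (18986, 18986), (18987, 18987), (18988, 18988), (18989, 18989), (18990, 18990), (18991, 16934), (18992, 16939), (18993, 20829), (18994, 16941), (18995, 20830), (18996, 16942), (18997, 16944), (18998, 16957), (18999, 20834), (19000, 16948),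 (19001, 20836), (19002, 20837), (19003, 16949), (19004, 20840), (19005, 16951), (19006, 16952), (19007, 20831)]
    ⟨e3 q18944 L704989 q16904, e3 q18945 L724284 q20789, e3 q18946 (flp_i L705002) q16888, e3 q18947 L705025 q16908, e3 q18948 (flp_i L705027) q16890, e3 q18949 L705046 q16915, e3 q18950 L705053 q16921, e3 q18951 L724347 q20794, e3 q18952 L724371 q20796, e3 q18953 (flp_i L705081) q16894, e3 q18954 L724388 q20798, e3 q18955 (flp_i L705106) q16896, e3 q18956 L724420 q20800, e3 q18957 (flp_i L705128) q16897, e3 q18958 (flp_i L724260) q20786, e3 q18959 L724436 q20802, e3 q18960 (flp_i L705158) q16899, e3 q18961 L724468 q20804, e3 q18962 L724484 q20805, e3 q18963 (flp_i L705204) q16900, e3 q18964 L705226 q17727, e3 q18965 L724524 q20808, e3 q18966 (flp_i L705236) q16902, e3 q18967 (flp_i L724282) q20788, e3 q18968 L705263 q17728, e3 q18969 (flp_i L705265) q16906, e3 q18970 (flp_i L724306) q20790, e3 q18971 L705298 q17370, e3 q18972 (flp_i L705300) q16910, e3 q18973 L705330 q17339, e3 q18974 L724581 q20814, e3 q18975 (flp_i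 L705342) q16913, e3 q18976 (flp_i L724316) q20791, e3 q18977 (flp_i L724324) q20792, e3 q18978 (flp_i L705364) q16918, e3 q18979 (flp_i L717324) q20198, e3 q18980 (flp_i L717367) q20201, e3 q18981 L705401 q17478, e3 q18982 (flp_i L705405) q16922, e3 q18983 L705424 q18983, e3 q18984 L705430 q18984, e3 q18985 (flp_i L705435) q16925, e3 q18986 L705457 q18986, e3 q18987 L705462 q18987, e3 q18988 L705471 q18988, e3 q18989 L705487 q18989, e3 q18990 L705494 q18990, e3 q18991 (flp_i L705495) q16934, e3 q18992 (flp_i L705512) q16939, e3 q18993 L724739 q20829, e3 q18994 (flp_i L705540) q16941, e3 q18995 L724753 q20830, e3 q18996 (flp_i L705564) q16942, e3 q18997 (flp_i L705574) q16944, e3 q18998 L705593 q16957, e3 q18999 L724796 q20834, e3 q19000 (flp_i L705606) q16948, e3 q19001 L724817 q20836, e3 q19002 L724828 q20837, e3 q19003 (flp_i L705633) q16949, e3 q19004 L724853 q20840, e3 q19005 (flp_i L705649) q16951, e3 q19006 (flp_i L705658) q16952, e3 q19007 (flp_i L724771) q20831, trivial⟩ (by decide +kernel)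

theorem ce_i_297 : ∀ r, r < 64 → sm gi (Qf (19008 + r)) = Qf (tab Gen.i (19008 + r)) :=
  edges_tab (sm gi) Qf (tab Gen.i) 19008 [(19008, 16954), (19009, 20832), (19010, 20200), (19011, 20202), (19012, 20846), (19013, 16959), (19014, 20848), (19015, 20850), (19016, 16960), (19017, 20853), (19018, 16962), (19019, 20855), (19020, 16963), (19021, 20857), (19022, 16965), (19023, 16983), (19024, 20860), (19025, 16967), (19026, 16988), (19027, 16969), (19028, 16994), (19029, 16997), (19030, 20866), (19031, 20868), (19032, 16973), (19033, 20872), (19034, 16975), (19035, 20875), (19036, 16976), (19037, 20856), (19038, 20878), (19039, 16978), (19040, 20882), (19041, 20883), (19042, 16979), (19043, 17898), (19044, 16981), (19045, 20858), (19046, 20888), (19047, 16984), (19048, 17910), (19049, 20890), (19050, 16986), (19051, 20861), (19052, 17920), (19053, 16990), (19054, 17925), (19055, 20862), (19056, 20863), (19057, 17936), (19058, 20864), (19059, 16998), (19060, 19060), (19061, 19061), (19062, 19062), (19063, 19063), (19064, 20903),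 (19065, 17004), (19066, 17005), (19067, 20904), (19068, 17007), (19069, 20906), (19070, 17010), (19071, 20908)]
    ⟨e3 q19008 (flp_i L705674) q16954, e3 q19009 (flp_i L724784) q20832, e3 q19010 (flp_i L717356) q20200, e3 q19011 (flp_i L717383) q20202, e3 q19012 L724907 q20846, e3 q19013 (flp_i L705716) q16959, e3 q19014 L724936 q20848, e3 q19015 L724958 q20850, e3 q19016 (flp_i L705754) q16960, e3 q19017 L724993 q20853, e3 q19018 (flp_i L705778) q16962, e3 q19019 L725020 q20855, e3 q19020 (flp_i L705805) q16963, e3 q19021 L725044 q20857, e3 q19022 (flp_i L705827) q16965, e3 q19023 L705849 q16983, e3 q19024 L725076 q20860, e3 q19025 (flp_i L705862) q16967, e3 q19026 L705885 q16988, e3 q19027 (flp_i L705887) q16969, e3 q19028 L705906 q16994, e3 q19029 L705913 q16997, e3 q19030 L725147 q20866, e3 q19031 L725169 q20868, e3 q19032 (flp_i L705941) q16973, e3 q19033 L725214 q20872, e3 q19034 (flp_i L705964) q16975, e3 q19035 L725248 q20875, e3 q19036 (flp_i L705986) q16976, e3 q19037 (flp_i L725042) q20856, e3 q19038 L725278 q20878,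 e3 q19039 (flp_i L706012) q16978, e3 q19040 L725323 q20882, e3 q19041 L725333 q20883, e3 q19042 (flp_i L706042) q16979, e3 q19043 L706064 q17898, e3 q19044 (flp_i L706066) q16981, e3 q19045 (flp_i L725064) q20858, e3 q19046 L725381 q20888, e3 q19047 (flp_i L706095) q16984, e3 q19048 L706122 q17910, e3 q19049 L725409 q20890, e3 q19050 (flp_i L706131) q16986, e3 q19051 (flp_i L725098) q20861, e3 q19052 L706160 q17920, e3 q19053 (flp_i L706162) q16990, e3 q19054 L706181 q17925, e3 q19055 (flp_i L725108) q20862, e3 q19056 (flp_i L725116) q20863, e3 q19057 L706202 q17936, e3 q19058 (flp_i L725129) q20864, e3 q19059 (flp_i L706214) q16998, e3 q19060 L706231 q19060, e3 q19061 L706239 q19061, e3 q19062 L706246 q19062, e3 q19063 L706253 q19063, e3 q19064 L725526 q20903, e3 q19065 (flp_i L706271) q17004, e3 q19066 (flp_i L706286) q17005, e3 q19067 L725544 q20904, e3 q19068 (flp_i L706312) q17007, e3 q19069 L725568 q20906, e3 q19070 (flp_i L706341) q17010, e3 q19071 L725596 q20908, trivial⟩ (by decide +kernel)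

theorem ce_i_298 : ∀ r, r < 64 → sm gi (Qf (19072 + r)) = Qf (tab Gen.i (19072 + r)) :=
  edges_tab (sm gi) Qf (tab Gen.i) 19072 [(19072, 17011), (19073, 20909), (19074, 17013), (19075, 20912), (19076, 17016), (19077, 20915), (19078, 20917), (19079, 17017), (19080, 20921), (19081, 20924), (19082, 17019), (19083, 20927), (19084, 17020), (19085, 20644), (19086, 20930), (19087, 20932), (19088, 17022), (19089, 20935), (19090, 20937), (19091, 17024), (19092, 20940), (19093, 17025), (19094, 17062), (19095, 20943), (19096, 17027), (19097, 20947), (19098, 20949), (19099, 17028), (19100, 17069), (19101, 20952), (19102, 17030), (19103, 17072), (19104, 17033), (19105, 20957), (19106, 17034), (19107, 17078), (19108, 20960), (19109, 17036), (19110, 17081), (19111, 17085), (19112, 20964), (19113, 17040), (19114, 17088), (19115, 20967), (19116, 17043), (19117, 17092), (19118, 17093), (19119, 20971), (19120, 17047), (19121, 17101), (19122, 17102), (19123, 17050), (19124, 17105), (19125, 17106), (19126, 17107), (19127, 20978), (19128, 20981),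 (19129, 17054), (19130, 20984), (19131, 17055), (19132, 20933), (19133, 20987), (19134, 20990), (19135, 17057)]
    ⟨e3 q19072 (flp_i L706367) q17011, e3 q19073 L725607 q20909, e3 q19074 (flp_i L706394) q17013, e3 q19075 L725643 q20912, e3 q19076 (flp_i L706417) q17016, e3 q19077 L725678 q20915, e3 q19078 L725696 q20917, e3 q19079 (flp_i L706448) q17017, e3 q19080 L725726 q20921, e3 q19081 L725752 q20924, e3 q19082 (flp_i L706468) q17019, e3 q19083 L725778 q20927, e3 q19084 (flp_i L706482) q17020, e3 q19085 (flp_i L722823) q20644, e3 q19086 L725805 q20930, e3 q19087 L725825 q20932, e3 q19088 (flp_i L706516) q17022, e3 q19089 L725854 q20935, e3 q19090 L725880 q20937, e3 q19091 (flp_i L706549) q17024, e3 q19092 L725912 q20940, e3 q19093 (flp_i L706569) q17025, e3 q19094 L706581 q17062, e3 q19095 L725940 q20943, e3 q19096 (flp_i L706591) q17027, e3 q19097 L725982 q20947, e3 q19098 L726008 q20949, e3 q19099 (flp_i L706621) q17028, e3 q19100 L706643 q17069, e3 q19101 L726038 q20952, e3 q19102 (flp_i L706653) q17030, e3 q19103 L706665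 q17072, e3 q19104 (flp_i L706667) q17033, e3 q19105 L726088 q20957, e3 q19106 (flp_i L706690) q17034, e3 q19107 L706714 q17078, e3 q19108 L726125 q20960, e3 q19109 (flp_i L706722) q17036, e3 q19110 L706736 q17081, e3 q19111 L706746 q17085, e3 q19112 L726163 q20964, e3 q19113 (flp_i L706762) q17040, e3 q19114 L706782 q17088, e3 q19115 L726201 q20967, e3 q19116 (flp_i L706791) q17043, e3 q19117 L706802 q17092, e3 q19118 L706808 q17093, e3 q19119 L726234 q20971, e3 q19120 (flp_i L706826) q17047, e3 q19121 L706853 q17101, e3 q19122 L706860 q17102, e3 q19123 (flp_i L706868) q17050, e3 q19124 L706882 q17105, e3 q19125 L706889 q17106, e3 q19126 L706898 q17107, e3 q19127 L726319 q20978, e3 q19128 L726351 q20981, e3 q19129 (flp_i L706921) q17054, e3 q19130 L726375 q20984, e3 q19131 (flp_i L706937) q17055, e3 q19132 (flp_i L725840) q20933, e3 q19133 L726404 q20987, e3 q19134 L726444 q20990, e3 q19135 (flp_i L706972) q17057, trivial⟩ (by decide +kernel)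

theorem ce_i_299 : ∀ r, r < 64 → sm gi (Qf (19136 + r)) = Qf (tab Gen.i (19136 + r)) :=
  edges_tab (sm gi) Qf (tab Gen.i) 19136 [(19136, 20994), (19137, 20996), (19138, 17058), (19139, 20938), (19140, 21000), (19141, 17060), (19142, 20941), (19143, 21003), (19144, 17063), (19145, 21006), (19146, 21008), (19147, 17064), (19148, 20944), (19149, 21013), (19150, 21014), (19151, 17066), (19152, 21017), (19153, 17067), (19154, 20950), (19155, 17808), (19156, 21021), (19157, 17070), (19158, 20953), (19159, 20954), (19160, 17073), (19161, 21026), (19162, 17074), (19163, 20955), (19164, 21030), (19165, 17076), (19166, 20958), (19167, 17812), (19168, 21034), (19169, 17079), (19170, 20961), (19171, 20962), (19172, 20324), (19173, 21039), (19174, 17083), (19175, 20322), (19176, 17814), (19177, 21042), (19178, 17086), (19179, 20965), (19180, 20966), (19181, 17310), (19182, 17090), (19183, 20968), (19184, 20969), (19185, 20970), (19186, 21053), (19187, 17095), (19188, 17470), (19189, 20334), (19190, 17099), (19191, 20972), (19192, 20341),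 (19193, 17479), (19194, 17313), (19195, 20973), (19196, 20974), (19197, 20975), (19198, 20976), (19199, 17108)]
    ⟨e3 q19136 L726481 q20994, e3 q19137 L726495 q20996, e3 q19138 (flp_i L706996) q17058, e3 q19139 (flp_i L725904) q20938, e3 q19140 L726533 q21000, e3 q19141 (flp_i L707016) q17060, e3 q19142 (flp_i L725926) q20941, e3 q19143 L726551 q21003, e3 q19144 (flp_i L707036) q17063, e3 q19145 L726574 q21006, e3 q19146 L726598 q21008, e3 q19147 (flp_i L707060) q17064, e3 q19148 (flp_i L725958) q20944, e3 q19149 L726638 q21013, e3 q19150 L726645 q21014, e3 q19151 (flp_i L707087) q17066, e3 q19152 L726665 q21017, e3 q19153 (flp_i L707103) q17067, e3 q19154 (flp_i L726028) q20950, e3 q19155 L707127 q17808, e3 q19156 L726699 q21021, e3 q19157 (flp_i L707139) q17070, e3 q19158 (flp_i L726052) q20953, e3 q19159 (flp_i L726058) q20954, e3 q19160 (flp_i L707157) q17073, e3 q19161 L726734 q21026, e3 q19162 (flp_i L707177) q17074, e3 q19163 (flp_i L726071) q20955, e3 q19164 L726779 q21030, e3 q19165 (flp_i L707202) q17076, e3 q19166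 (flp_i L726111) q20958, e3 q19167 L707227 q17812, e3 q19168 L726814 q21034, e3 q19169 (flp_i L707240) q17079, e3 q19170 (flp_i L726137) q20961, e3 q19171 (flp_i L726144) q20962, e3 q19172 (flp_i L718945) q20324, e3 q19173 L726860 q21039, e3 q19174 (flp_i L707279) q17083, e3 q19175 (flp_i L718911) q20322, e3 q19176 L707300 q17814, e3 q19177 L726886 q21042, e3 q19178 (flp_i L707311) q17086, e3 q19179 (flp_i L726185) q20965, e3 q19180 (flp_i L726193) q20966, e3 q19181 L707341 q17310, e3 q19182 (flp_i L707343) q17090, e3 q19183 (flp_i L726214) q20968, e3 q19184 (flp_i L726220) q20969, e3 q19185 (flp_i L726230) q20970, e3 q19186 L726972 q21053, e3 q19187 (flp_i L707383) q17095, e3 q19188 L707409 q17470, e3 q19189 (flp_i L719052) q20334, e3 q19190 (flp_i L707417) q17099, e3 q19191 (flp_i L726261) q20972, e3 q19192 (flp_i L719149) q20341, e3 q19193 L707445 q17479, e3 q19194 L707459 q17313, e3 q19195 (flp_i L726270) q20973, e3 q19196 (flp_i L726276) q20974, e3 q19197 (flp_i L726287) q20975, e3 q19198 (flp_i L726303) q20976, e3 q19199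 (flp_i L707494) q17108, trivial⟩ (by decide +kernel)

theorem ce_i_300 : ∀ r, r < 64 → sm gi (Qf (19200 + r)) = Qf (tab Gen.i (19200 + r)) :=
  edges_tab (sm gi) Qf (tab Gen.i) 19200 [(19200, 19200), (19201, 19201), (19202, 19202), (19203, 19203), (19204, 19204), (19205, 19205), (19206, 19206), (19207, 19207), (19208, 19208), (19209, 19209), (19210, 19210), (19211, 17120), (19212, 21073), (19213, 17121), (19214, 17126), (19215, 17125), (19216, 21074), (19217, 21075), (19218, 17128), (19219, 17184), (19220, 17132), (19221, 17185), (19222, 17134), (19223, 17186), (19224, 17137), (19225, 21080), (19226, 17189), (19227, 17190), (19228, 17191), (19229, 17192), (19230, 17193), (19231, 17194), (19232, 17195), (19233, 17155), (19234, 19234), (19235, 17160), (19236, 19236), (19237, 17164), (19238, 21086), (19239, 17166), (19240, 19240), (19241, 21088), (19242, 21089), (19243, 17168), (19244, 21091), (19245, 17169), (19246, 19246), (19247, 19247), (19248, 17173), (19249, 17175), (19250, 21094), (19251, 17176), (19252, 21095), (19253,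 17178), (19254, 17182), (19255, 17183), (19256, 21077), (19257, 21079), (19258, 17188), (19259, 21097), (19260, 21082), (19261, 21083), (19262, 21084), (19263, 17197)]
    ⟨e3 q19200 L707508 q19200, e3 q19201 L707515 q19201, e3 q19202 L707523 q19202, e3 q19203 L707534 q19203, e3 q19204 L707541 q19204, e3 q19205 L707546 q19205, e3 q19206 L707550 q19206, e3 q19207 L707556 q19207, e3 q19208 L707562 q19208, e3 q19209 L707571 q19209, e3 q19210 L707585 q19210, e3 q19211 (flp_i L707588) q17120, e3 q19212 L727151 q21073, e3 q19213 (flp_i L707617) q17121, e3 q19214 L707648 q17126, e3 q19215 (flp_i L707650) q17125, e3 q19216 (flp_i L727174) q21074, e3 q19217 L727178 q21075, e3 q19218 (flp_i L707694) q17128, e3 q19219 L707709 q17184, e3 q19220 (flp_i L707713) q17132, e3 q19221 L707742 q17185, e3 q19222 (flp_i L707744) q17134, e3 q19223 L707761 q17186, e3 q19224 (flp_i L707763) q17137, e3 q19225 (flp_i L727230) q21080, e3 q19226 L707784 q17189, e3 q19227 L707794 q17190, e3 q19228 L707805 q17191, e3 q19229 L707821 q17192, e3 q19230 L707830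 q17193, e3 q19231 L707841 q17194, e3 q19232 L707851 q17195, e3 q19233 (flp_i L707853) q17155, e3 q19234 L707882 q19234, e3 q19235 (flp_i L707883) q17160, e3 q19236 L707913 q19236, e3 q19237 (flp_i L707914) q17164, e3 q19238 L727294 q21086, e3 q19239 (flp_i L707943) q17166, e3 q19240 L707964 q19240, e3 q19241 L727320 q21088, e3 q19242 L727334 q21089, e3 q19243 (flp_i L707992) q17168, e3 q19244 L727358 q21091, e3 q19245 (flp_i L708012) q17169, e3 q19246 L708033 q19246, e3 q19247 L708049 q19247, e3 q19248 (flp_i L708050) q17173, e3 q19249 (flp_i L708065) q17175, e3 q19250 L727393 q21094, e3 q19251 (flp_i L708094) q17176, e3 q19252 L727407 q21095, e3 q19253 (flp_i L708123) q17178, e3 q19254 (flp_i L708135) q17182, e3 q19255 (flp_i L708150) q17183, e3 q19256 (flp_i L727204) q21077, e3 q19257 (flp_i L727221) q21079, e3 q19258 L708196 q17188, e3 q19259 (flp_i L727440) q21097, e3 q19260 (flp_i L727250) q21082, e3 q19261 (flp_i L727264) q21083, e3 q19262 (flp_i L727274) q21084, e3 q19263 L708254 q17197, trivial⟩ (by decide +kernel)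

theorem ce_i_301 : ∀ r, r < 64 → sm gi (Qf (19264 + r)) = Qf (tab Gen.i (19264 + r)) :=
  edges_tab (sm gi) Qf (tab Gen.i) 19264 [(19264, 17518), (19265, 17526), (19266, 17544), (19267, 17541), (19268, 17205), (19269, 20018), (19270, 17207), (19271, 17536), (19272, 17534), (19273, 21105), (19274, 17212), (19275, 17219), (19276, 17220), (19277, 17217), (19278, 21106), (19279, 17684), (19280, 21108), (19281, 17222), (19282, 17589), (19283, 21110), (19284, 17226), (19285, 20086), (19286, 17228), (19287, 17623), (19288, 17235), (19289, 17251), (19290, 17238), (19291, 17271), (19292, 21115), (19293, 17241), (19294, 21117), (19295, 17243), (19296, 17244), (19297, 17677), (19298, 21121), (19299, 17246), (19300, 21124), (19301, 21126), (19302, 17247), (19303, 20067), (19304, 21128), (19305, 17249), (19306, 21113), (19307, 17252), (19308, 17673), (19309, 21132), (19310, 17255), (19311, 20063), (19312, 21134), (19313, 17257), (19314, 17666), (19315, 17688), (19316, 17260), (19317, 17654), (19318, 20064), (19319, 17265), (19320, 20069),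 (19321, 20070), (19322, 17269), (19323, 21114), (19324, 17276), (19325, 19325), (19326, 19326), (19327, 21144)]
    ⟨e3 q19264 L708270 q17518, e3 q19265 L708286 q17526, e3 q19266 L708298 q17544, e3 q19267 L708310 q17541, e3 q19268 (flp_i L708312) q17205, e3 q19269 (flp_i L714780) q20018, e3 q19270 (flp_i L708337) q17207, e3 q19271 L708360 q17536, e3 q19272 L708370 q17534, e3 q19273 L727524 q21105, e3 q19274 (flp_i L708386) q17212, e3 q19275 L708412 q17219, e3 q19276 L708426 q17220, e3 q19277 (flp_i L708428) q17217, e3 q19278 (flp_i L727550) q21106, e3 q19279 L708456 q17684, e3 q19280 L727562 q21108, e3 q19281 (flp_i L708476) q17222, e3 q19282 L708502 q17589, e3 q19283 L727590 q21110, e3 q19284 (flp_i L708518) q17226, e3 q19285 (flp_i L715827) q20086, e3 q19286 (flp_i L708534) q17228, e3 q19287 L708560 q17623, e3 q19288 (flp_i L708562) q17235, e3 q19289 L708582 q17251, e3 q19290 (flp_i L708584) q17238, e3 q19291 L708604 q17271, e3 q19292 L727648 q21115, e3 q19293 (flp_i L708616) q17241, e3 q19294 L727670 q21117, e3 q19295 (flp_i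 L708636) q17243, e3 q19296 (flp_i L708646) q17244, e3 q19297 L708666 q17677, e3 q19298 L727716 q21121, e3 q19299 (flp_i L708678) q17246, e3 q19300 L727755 q21124, e3 q19301 L727783 q21126, e3 q19302 (flp_i L708712) q17247, e3 q19303 (flp_i L715527) q20067, e3 q19304 L727799 q21128, e3 q19305 (flp_i L708734) q17249, e3 q19306 (flp_i L727634) q21113, e3 q19307 (flp_i L708752) q17252, e3 q19308 L708776 q17673, e3 q19309 L727841 q21132, e3 q19310 (flp_i L708789) q17255, e3 q19311 (flp_i L715460) q20063, e3 q19312 L727866 q21134, e3 q19313 (flp_i L708819) q17257, e3 q19314 L708838 q17666, e3 q19315 L708844 q17688, e3 q19316 (flp_i L708848) q17260, e3 q19317 L708866 q17654, e3 q19318 (flp_i L715478) q20064, e3 q19319 (flp_i L708876) q17265, e3 q19320 (flp_i L715563) q20069, e3 q19321 (flp_i L715575) q20070, e3 q19322 (flp_i L708892) q17269, e3 q19323 (flp_i L727646) q21114, e3 q19324 (flp_i L708908) q17276, e3 q19325 L708932 q19325, e3 q19326 L708941 q19326, e3 q19327 L727959 q21144, trivial⟩ (by decide +kernel)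

theorem ce_i_302 : ∀ r, r < 64 → sm gi (Qf (19328 + r)) = Qf (tab Gen.i (19328 + r)) :=
  edges_tab (sm gi) Qf (tab Gen.i) 19328 [(19328, 21145), (19329, 17290), (19330, 21147), (19331, 17292), (19332, 17294), (19333, 17304), (19334, 17307), (19335, 17298), (19336, 21148), (19337, 21152), (19338, 21153), (19339, 17300), (19340, 17301), (19341, 21047), (19342, 21149), (19343, 21158), (19344, 17305), (19345, 21033), (19346, 17308), (19347, 20762), (19348, 21046), (19349, 17477), (19350, 20763), (19351, 17314), (19352, 19352), (19353, 19353), (19354, 17317), (19355, 19355), (19356, 19356), (19357, 19357), (19358, 19358), (19359, 19359), (19360, 19360), (19361, 19361), (19362, 19362), (19363, 21170), (19364, 17334), (19365, 17336), (19366, 20813), (19367, 18067), (19368, 21174), (19369, 17340), (19370, 17341), (19371, 17358), (19372, 17343), (19373, 17364), (19374, 17368), (19375, 17373), (19376, 21181), (19377, 21183), (19378, 17348), (19379, 21186), (19380, 21189), (19381, 17350), (19382, 21191), (19383, 17351), (19384, 21146),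 (19385, 21194), (19386, 17353), (19387, 21197), (19388, 21198), (19389, 17354), (19390, 21175), (19391, 17356)]
    ⟨e3 q19328 L727970 q21145, e3 q19329 (flp_i L708970) q17290, e3 q19330 L727998 q21147, e3 q19331 (flp_i L708996) q17292, e3 q19332 (flp_i L709008) q17294, e3 q19333 L709028 q17304, e3 q19334 L709043 q17307, e3 q19335 (flp_i L709045) q17298, e3 q19336 (flp_i L728024) q21148, e3 q19337 L728064 q21152, e3 q19338 L728078 q21153, e3 q19339 (flp_i L709091) q17300, e3 q19340 (flp_i L709101) q17301, e3 q19341 (flp_i L726940) q21047, e3 q19342 (flp_i L728036) q21149, e3 q19343 L728126 q21158, e3 q19344 (flp_i L709144) q17305, e3 q19345 (flp_i L726812) q21033, e3 q19346 (flp_i L709168) q17308, e3 q19347 (flp_i L723994) q20762, e3 q19348 (flp_i L726928) q21046, e3 q19349 L709215 q17477, e3 q19350 (flp_i L724005) q20763, e3 q19351 (flp_i L709224) q17314, e3 q19352 L709244 q19352, e3 q19353 L709251 q19353, e3 q19354 (flp_i L709254) q17317, e3 q19355 L709278 q19355, e3 q19356 L709286 q19356, e3 q19357 L709301 q19357, e3 q19358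 L709308 q19358, e3 q19359 L709317 q19359, e3 q19360 L709329 q19360, e3 q19361 L709338 q19361, e3 q19362 L709353 q19362, e3 q19363 L728257 q21170, e3 q19364 (flp_i L709368) q17334, e3 q19365 (flp_i L709380) q17336, e3 q19366 (flp_i L724579) q20813, e3 q19367 L709413 q18067, e3 q19368 L728300 q21174, e3 q19369 (flp_i L709423) q17340, e3 q19370 (flp_i L709432) q17341, e3 q19371 L709446 q17358, e3 q19372 (flp_i L709448) q17343, e3 q19373 L709473 q17364, e3 q19374 L709483 q17368, e3 q19375 L709490 q17373, e3 q19376 L728373 q21181, e3 q19377 L728391 q21183, e3 q19378 (flp_i L709512) q17348, e3 q19379 L728414 q21186, e3 q19380 L728448 q21189, e3 q19381 (flp_i L709537) q17350, e3 q19382 L728468 q21191, e3 q19383 (flp_i L709563) q17351, e3 q19384 (flp_i L727996) q21146, e3 q19385 L728498 q21194, e3 q19386 (flp_i L709587) q17353, e3 q19387 L728525 q21197, e3 q19388 L728537 q21198, e3 q19389 (flp_i L709615) q17354, e3 q19390 (flp_i L728316) q21175, e3 q19391 (flp_i L709631) q17356, trivial⟩ (by decide +kernel)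

theorem ce_i_303 : ∀ r, r < 64 → sm gi (Qf (19392 + r)) = Qf (tab Gen.i (19392 + r)) :=
  edges_tab (sm gi) Qf (tab Gen.i) 19392 [(19392, 21176), (19393, 17359), (19394, 21204), (19395, 17360), (19396, 21177), (19397, 17362), (19398, 18069), (19399, 20153), (19400, 17366), (19401, 20151), (19402, 21178), (19403, 20803), (19404, 20158), (19405, 20157), (19406, 20897), (19407, 21213), (19408, 17375), (19409, 19409), (19410, 17377), (19411, 21216), (19412, 17378), (19413, 19413), (19414, 19414), (19415, 17382), (19416, 21220), (19417, 17383), (19418, 19418), (19419, 17385), (19420, 19420), (19421, 19421), (19422, 17389), (19423, 19423), (19424, 19424), (19425, 19425), (19426, 19426), (19427, 19427), (19428, 19428), (19429, 21233), (19430, 21235), (19431, 17398), (19432, 17399), (19433, 17913), (19434, 21239), (19435, 21240), (19436, 17401), (19437, 21243), (19438, 21245), (19439, 17403), (19440, 17404), (19441, 17438), (19442, 21250), (19443, 17406), (19444, 21254), (19445, 21255), (19446, 17407), (19447, 17445), (19448, 21258),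 (19449, 17409), (19450, 17448), (19451, 17412), (19452, 17454), (19453, 21263), (19454, 17415), (19455, 17461)]
    ⟨e3 q19392 (flp_i L728324) q21176, e3 q19393 (flp_i L709647) q17359, e3 q19394 L728588 q21204, e3 q19395 (flp_i L709667) q17360, e3 q19396 (flp_i L728337) q21177, e3 q19397 (flp_i L709688) q17362, e3 q19398 L709713 q18069, e3 q19399 (flp_i L716714) q20153, e3 q19400 (flp_i L709721) q17366, e3 q19401 (flp_i L716687) q20151, e3 q19402 (flp_i L728345) q21178, e3 q19403 (flp_i L724466) q20803, e3 q19404 (flp_i L716774) q20158, e3 q19405 (flp_i L716757) q20157, e3 q19406 (flp_i L725480) q20897, e3 q19407 L728683 q21213, e3 q19408 (flp_i L709799) q17375, e3 q19409 L709826 q19409, e3 q19410 (flp_i L709827) q17377, e3 q19411 L728721 q21216, e3 q19412 (flp_i L709847) q17378, e3 q19413 L709870 q19413, e3 q19414 L709885 q19414, e3 q19415 (flp_i L709886) q17382, e3 q19416 L728771 q21220, e3 q19417 (flp_i L709904) q17383, e3 q19418 L709923 q19418, e3 q19419 (flp_i L709924) q17385, e3 q19420 L709946 q19420, e3 q19421 L709953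 q19421, e3 q19422 (flp_i L709956) q17389, e3 q19423 L709976 q19423, e3 q19424 L709984 q19424, e3 q19425 L709997 q19425, e3 q19426 L710004 q19426, e3 q19427 L710013 q19427, e3 q19428 L710022 q19428, e3 q19429 L728898 q21233, e3 q19430 L728918 q21235, e3 q19431 (flp_i L710047) q17398, e3 q19432 (flp_i L710056) q17399, e3 q19433 L710076 q17913, e3 q19434 L728958 q21239, e3 q19435 L728966 q21240, e3 q19436 (flp_i L710096) q17401, e3 q19437 L728997 q21243, e3 q19438 L729017 q21245, e3 q19439 (flp_i L710126) q17403, e3 q19440 (flp_i L710135) q17404, e3 q19441 L710155 q17438, e3 q19442 L729070 q21250, e3 q19443 (flp_i L710165) q17406, e3 q19444 L729103 q21254, e3 q19445 L729108 q21255, e3 q19446 (flp_i L710187) q17407, e3 q19447 L710199 q17445, e3 q19448 L729133 q21258, e3 q19449 (flp_i L710213) q17409, e3 q19450 L710231 q17448, e3 q19451 (flp_i L710233) q17412, e3 q19452 L710254 q17454, e3 q19453 L729184 q21263, e3 q19454 (flp_i L710272) q17415, e3 q19455 L710296 q17461, trivial⟩ (by decide +kernel)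

theorem ce_i_304 : ∀ r, r < 64 → sm gi (Qf (19456 + r)) = Qf (tab Gen.i (19456 + r)) :=
  edges_tab (sm gi) Qf (tab Gen.i) 19456 [(19456, 17417), (19457, 17464), (19458, 17465), (19459, 17420), (19460, 17468), (19461, 17473), (19462, 17474), (19463, 17427), (19464, 17481), (19465, 21270), (19466, 17430), (19467, 21272), (19468, 17431), (19469, 21241), (19470, 21275), (19471, 17433), (19472, 21279), (19473, 21280), (19474, 17434), (19475, 21246), (19476, 17436), (19477, 21247), (19478, 21286), (19479, 17439), (19480, 21290), (19481, 21292), (19482, 17440), (19483, 21251), (19484, 21297), (19485, 21298), (19486, 17442), (19487, 21301), (19488, 17443), (19489, 21256), (19490, 21257), (19491, 21305), (19492, 17446), (19493, 21259), (19494, 21260), (19495, 21310), (19496, 17449), (19497, 21312), (19498, 17450), (19499, 21261), (19500, 17452), (19501, 18071), (19502, 21262), (19503, 17829), (19504, 21318), (19505, 17457), (19506, 21054), (19507, 21320), (19508, 17459), (19509, 21264), (19510, 21265), (19511, 21323), (19512, 17462),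 (19513, 21266), (19514, 20817), (19515, 21045), (19516, 17466), (19517, 21267), (19518, 17931), (19519, 21329)]
    ⟨e3 q19456 (flp_i L710298) q17417, e3 q19457 L710318 q17464, e3 q19458 L710324 q17465, e3 q19459 (flp_i L710327) q17420, e3 q19460 L710347 q17468, e3 q19461 L710362 q17473, e3 q19462 L710369 q17474, e3 q19463 (flp_i L710372) q17427, e3 q19464 L710391 q17481, e3 q19465 L729263 q21270, e3 q19466 (flp_i L710399) q17430, e3 q19467 L729278 q21272, e3 q19468 (flp_i L710413) q17431, e3 q19469 (flp_i L728983) q21241, e3 q19470 L729305 q21275, e3 q19471 (flp_i L710436) q17433, e3 q19472 L729340 q21279, e3 q19473 L729348 q21280, e3 q19474 (flp_i L710464) q17434, e3 q19475 (flp_i L729035) q21246, e3 q19476 (flp_i L710480) q17436, e3 q19477 (flp_i L729047) q21247, e3 q19478 L729406 q21286, e3 q19479 (flp_i L710506) q17439, e3 q19480 L729435 q21290, e3 q19481 L729457 q21292, e3 q19482 (flp_i L710530) q17440, e3 q19483 (flp_i L729086) q21251, e3 q19484 L729499 q21297, e3 q19485 L729506 q21298, e3 q19486 (flp_i L710555) q17442,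 e3 q19487 L729520 q21301, e3 q19488 (flp_i L710567) q17443, e3 q19489 (flp_i L729124) q21256, e3 q19490 (flp_i L729130) q21257, e3 q19491 L729542 q21305, e3 q19492 (flp_i L710593) q17446, e3 q19493 (flp_i L729155) q21259, e3 q19494 (flp_i L729161) q21260, e3 q19495 L729579 q21310, e3 q19496 (flp_i L710627) q17449, e3 q19497 L729602 q21312, e3 q19498 (flp_i L710649) q17450, e3 q19499 (flp_i L729174) q21261, e3 q19500 (flp_i L710670) q17452, e3 q19501 L710688 q18071, e3 q19502 (flp_i L729181) q21262, e3 q19503 L710705 q17829, e3 q19504 L729662 q21318, e3 q19505 (flp_i L710720) q17457, e3 q19506 (flp_i L726998) q21054, e3 q19507 L729689 q21320, e3 q19508 (flp_i L710754) q17459, e3 q19509 (flp_i L729214) q21264, e3 q19510 (flp_i L729222) q21265, e3 q19511 L729717 q21323, e3 q19512 (flp_i L710788) q17462, e3 q19513 (flp_i L729233) q21266, e3 q19514 (flp_i L724617) q20817, e3 q19515 (flp_i L726913) q21045, e3 q19516 (flp_i L710814) q17466, e3 q19517 (flp_i L729245) q21267, e3 q19518 L710845 q17931, e3 q19519 L729763 q21329, trivial⟩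 (by decide +kernel)

theorem ce_i_305 : ∀ r, r < 64 → sm gi (Qf (19520 + r)) = Qf (tab Gen.i (19520 + r)) :=
  edges_tab (sm gi) Qf (tab Gen.i) 19520 [(19520, 17471), (19521, 17928), (19522, 20338), (19523, 17475), (19524, 21161), (19525, 20335), (19526, 21268), (19527, 19527), (19528, 19528), (19529, 21335), (19530, 17486), (19531, 19531), (19532, 19532), (19533, 19533), (19534, 21339), (19535, 17491), (19536, 19536), (19537, 19537), (19538, 17494), (19539, 21343), (19540, 19540), (19541, 19541), (19542, 19542), (19543, 19543), (19544, 19544), (19545, 19545), (19546, 17513), (19547, 17521), (19548, 20441), (19549, 19549), (19550, 19550), (19551, 17520), (19552, 20440), (19553, 21351), (19554, 19554), (19555, 17527), (19556, 20377), (19557, 21355), (19558, 19558), (19559, 17539), (19560, 17542), (19561, 21103), (19562, 20022), (19563, 21102), (19564, 21104), (19565, 20406), (19566, 20393), (19567, 21357), (19568, 20013), (19569, 20015), (19570, 21358), (19571, 19571), (19572, 19572), (19573, 19573), (19574, 19574), (19575,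 19575), (19576, 21365), (19577, 17553), (19578, 17564), (19579, 21367), (19580, 17557), (19581, 21369), (19582, 17559), (19583, 17560)]
    ⟨e3 q19520 (flp_i L710861) q17471, e3 q19521 L710887 q17928, e3 q19522 (flp_i L719119) q20338, e3 q19523 (flp_i L710895) q17475, e3 q19524 (flp_i L728175) q21161, e3 q19525 (flp_i L719071) q20335, e3 q19526 (flp_i L729256) q21268, e3 q19527 L710929 q19527, e3 q19528 L710940 q19528, e3 q19529 L729822 q21335, e3 q19530 (flp_i L710947) q17486, e3 q19531 L710963 q19531, e3 q19532 L710970 q19532, e3 q19533 L710979 q19533, e3 q19534 L729844 q21339, e3 q19535 (flp_i L710986) q17491, e3 q19536 L711002 q19536, e3 q19537 L711009 q19537, e3 q19538 (flp_i L711010) q17494, e3 q19539 (flp_i L729869) q21343, e3 q19540 L711020 q19540, e3 q19541 L711023 q19541, e3 q19542 L711034 q19542, e3 q19543 L711042 q19543, e3 q19544 L711050 q19544, e3 q19545 L711055 q19545, e3 q19546 L711070 q17513, e3 q19547 L711086 q17521, e3 q19548 (flp_i L720465) q20441, e3 q19549 L711108 q19549, e3 q19550 L711115 q19550, e3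 q19551 L711124 q17520, e3 q19552 (flp_i L720449) q20440, e3 q19553 (flp_i L729927) q21351, e3 q19554 L711148 q19554, e3 q19555 L711158 q17527, e3 q19556 (flp_i L719596) q20377, e3 q19557 (flp_i L729959) q21355, e3 q19558 L711180 q19558, e3 q19559 L711189 q17539, e3 q19560 L711195 q17542, e3 q19561 (flp_i L727513) q21103, e3 q19562 (flp_i L714852) q20022, e3 q19563 (flp_i L727499) q21102, e3 q19564 (flp_i L727521) q21104, e3 q19565 (flp_i L720029) q20406, e3 q19566 (flp_i L719842) q20393, e3 q19567 (flp_i L729976) q21357, e3 q19568 (flp_i L714698) q20013, e3 q19569 (flp_i L714733) q20015, e3 q19570 (flp_i L729984) q21358, e3 q19571 L711270 q19571, e3 q19572 L711279 q19572, e3 q19573 L711286 q19573, e3 q19574 L711293 q19574, e3 q19575 L711302 q19575, e3 q19576 L730029 q21365, e3 q19577 (flp_i L711317) q17553, e3 q19578 L711343 q17564, e3 q19579 L730057 q21367, e3 q19580 (flp_i L711359) q17557, e3 q19581 L730085 q21369, e3 q19582 (flp_i L711377) q17559, e3 q19583 (flp_i L711387) q17560, trivial⟩ (by decide +kernel)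

theorem ce_i_306 : ∀ r, r < 64 → sm gi (Qf (19584 + r)) = Qf (tab Gen.i (19584 + r)) :=
  edges_tab (sm gi) Qf (tab Gen.i) 19584 [(19584, 21366), (19585, 17594), (19586, 20710), (19587, 20720), (19588, 17566), (19589, 19589), (19590, 19590), (19591, 19591), (19592, 19592), (19593, 19593), (19594, 21379), (19595, 17574), (19596, 17575), (19597, 17588), (19598, 17592), (19599, 17597), (19600, 17599), (19601, 17582), (19602, 21109), (19603, 21388), (19604, 21389), (19605, 17584), (19606, 21380), (19607, 17586), (19608, 21381), (19609, 17590), (19610, 20708), (19611, 21382), (19612, 21368), (19613, 20617), (19614, 20616), (19615, 21383), (19616, 20099), (19617, 21384), (19618, 21400), (19619, 17600), (19620, 19620), (19621, 19621), (19622, 19622), (19623, 19623), (19624, 21407), (19625, 17608), (19626, 17609), (19627, 17622), (19628, 17624), (19629, 17626), (19630, 17627), (19631, 21412), (19632, 17615), (19633, 17617), (19634, 21112), (19635, 17619), (19636, 21408), (19637, 21409), (19638, 21410), (19639, 20563), (19640, 21411),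 (19641, 20723), (19642, 19642), (19643, 19643), (19644, 19644), (19645, 21421), (19646, 17636), (19647, 21424)]
    ⟨e3 q19584 (flp_i L730055) q21366, e3 q19585 L711417 q17594, e3 q19586 (flp_i L723471) q20710, e3 q19587 (flp_i L723543) q20720, e3 q19588 (flp_i L711435) q17566, e3 q19589 L711450 q19589, e3 q19590 L711461 q19590, e3 q19591 L711468 q19591, e3 q19592 L711479 q19592, e3 q19593 L711486 q19593, e3 q19594 L730168 q21379, e3 q19595 (flp_i L711494) q17574, e3 q19596 (flp_i L711501) q17575, e3 q19597 L711511 q17588, e3 q19598 L711519 q17592, e3 q19599 L711525 q17597, e3 q19600 L711529 q17599, e3 q19601 (flp_i L711534) q17582, e3 q19602 (flp_i L727588) q21109, e3 q19603 L730232 q21388, e3 q19604 L730240 q21389, e3 q19605 (flp_i L711562) q17584, e3 q19606 (flp_i L730180) q21380, e3 q19607 (flp_i L711574) q17586, e3 q19608 (flp_i L730186) q21381, e3 q19609 (flp_i L711588) q17590, e3 q19610 (flp_i L723442) q20708, e3 q19611 (flp_i L730192) q21382, e3 q19612 (flp_i L730083) q21368, e3 q19613 (flp_i L722521) q20617, e3 q19614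 (flp_i L722511) q20616, e3 q19615 (flp_i L730201) q21383, e3 q19616 (flp_i L715997) q20099, e3 q19617 (flp_i L730209) q21384, e3 q19618 L730311 q21400, e3 q19619 (flp_i L711652) q17600, e3 q19620 L711666 q19620, e3 q19621 L711671 q19621, e3 q19622 L711680 q19622, e3 q19623 L711687 q19623, e3 q19624 L730354 q21407, e3 q19625 (flp_i L711696) q17608, e3 q19626 (flp_i L711705) q17609, e3 q19627 L711717 q17622, e3 q19628 L711727 q17624, e3 q19629 L711733 q17626, e3 q19630 L711739 q17627, e3 q19631 L730396 q21412, e3 q19632 (flp_i L711750) q17615, e3 q19633 (flp_i L711758) q17617, e3 q19634 (flp_i L727622) q21112, e3 q19635 (flp_i L711776) q17619, e3 q19636 (flp_i L730370) q21408, e3 q19637 (flp_i L730378) q21409, e3 q19638 (flp_i L730386) q21410, e3 q19639 (flp_i L721937) q20563, e3 q19640 (flp_i L730393) q21411, e3 q19641 (flp_i L723572) q20723, e3 q19642 L711835 q19642, e3 q19643 L711842 q19643, e3 q19644 L711849 q19644, e3 q19645 L730462 q21421, e3 q19646 (flp_i L711858) q17636, e3 q19647 L730481 q21424, trivial⟩ (by decide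 +kernel)

theorem ce_i_307 : ∀ r, r < 64 → sm gi (Qf (19648 + r)) = Qf (tab Gen.i (19648 + r)) :=
  edges_tab (sm gi) Qf (tab Gen.i) 19648 [(19648, 17637), (19649, 17661), (19650, 17664), (19651, 17670), (19652, 17674), (19653, 17681), (19654, 17682), (19655, 17686), (19656, 21431), (19657, 17647), (19658, 21433), (19659, 17648), (19660, 21137), (19661, 21435), (19662, 17650), (19663, 17651), (19664, 21135), (19665, 21129), (19666, 21440), (19667, 17655), (19668, 21442), (19669, 21443), (19670, 17656), (19671, 21422), (19672, 21446), (19673, 17658), (19674, 21448), (19675, 17659), (19676, 21425), (19677, 21426), (19678, 21452), (19679, 17662), (19680, 21119), (19681, 21427), (19682, 21133), (19683, 21136), (19684, 20562), (19685, 17668), (19686, 21131), (19687, 21428), (19688, 17671), (19689, 21118), (19690, 20047), (19691, 21429), (19692, 17675), (19693, 21116), (19694, 20534), (19695, 20564), (19696, 20394), (19697, 20052), (19698, 21140), (19699, 21430), (19700, 20041), (19701, 20053), (19702, 20619), (19703, 19703), (19704,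 19704), (19705, 19705), (19706, 19706), (19707, 17695), (19708, 19708), (19709, 19709), (19710, 17698), (19711, 21472)]
    ⟨e3 q19648 (flp_i L711868) q17637, e3 q19649 L711880 q17661, e3 q19650 L711886 q17664, e3 q19651 L711894 q17670, e3 q19652 L711900 q17674, e3 q19653 L711909 q17681, e3 q19654 L711915 q17682, e3 q19655 L711921 q17686, e3 q19656 L730528 q21431, e3 q19657 (flp_i L711929) q17647, e3 q19658 L730542 q21433, e3 q19659 (flp_i L711941) q17648, e3 q19660 (flp_i L727902) q21137, e3 q19661 L730554 q21435, e3 q19662 (flp_i L711959) q17650, e3 q19663 (flp_i L711969) q17651, e3 q19664 (flp_i L727883) q21135, e3 q19665 (flp_i L727819) q21129, e3 q19666 L730592 q21440, e3 q19667 (flp_i L711995) q17655, e3 q19668 L730604 q21442, e3 q19669 L730612 q21443, e3 q19670 (flp_i L712015) q17656, e3 q19671 (flp_i L730474) q21422, e3 q19672 L730634 q21446, e3 q19673 (flp_i L712033) q17658, e3 q19674 L730646 q21448, e3 q19675 (flp_i L712047) q17659, e3 q19676 (flp_i L730492) q21425, e3 q19677 (flp_i L730498) q21426, e3 q19678 L730668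 q21452, e3 q19679 (flp_i L712073) q17662, e3 q19680 (flp_i L727700) q21119, e3 q19681 (flp_i L730503) q21427, e3 q19682 (flp_i L727864) q21133, e3 q19683 (flp_i L727891) q21136, e3 q19684 (flp_i L721925) q20562, e3 q19685 (flp_i L712109) q17668, e3 q19686 (flp_i L727839) q21131, e3 q19687 (flp_i L730511) q21428, e3 q19688 (flp_i L712133) q17671, e3 q19689 (flp_i L727688) q21118, e3 q19690 (flp_i L715221) q20047, e3 q19691 (flp_i L730519) q21429, e3 q19692 (flp_i L712163) q17675, e3 q19693 (flp_i L727668) q21116, e3 q19694 (flp_i L721569) q20534, e3 q19695 (flp_i L721945) q20564, e3 q19696 (flp_i L719862) q20394, e3 q19697 (flp_i L715288) q20052, e3 q19698 (flp_i L727919) q21140, e3 q19699 (flp_i L730526) q21430, e3 q19700 (flp_i L715134) q20041, e3 q19701 (flp_i L715300) q20053, e3 q19702 (flp_i L722537) q20619, e3 q19703 L712235 q19703, e3 q19704 L712246 q19704, e3 q19705 L712253 q19705, e3 q19706 L712262 q19706, e3 q19707 (flp_i L712263) q17695, e3 q19708 L712281 q19708, e3 q19709 L712288 q19709, e3 q19710 (flp_i L712289)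 q17698, e3 q19711 (flp_i L730806) q21472, trivial⟩ (by decide +kernel)

theorem ce_i_308 : ∀ r, r < 64 → sm gi (Qf (19712 + r)) = Qf (tab Gen.i (19712 + r)) :=
  edges_tab (sm gi) Qf (tab Gen.i) 19712 [(19712, 19712), (19713, 19713), (19714, 19714), (19715, 19715), (19716, 19716), (19717, 19717), (19718, 19718), (19719, 19719), (19720, 19720), (19721, 19721), (19722, 21479), (19723, 17722), (19724, 17724), (19725, 20799), (19726, 20806), (19727, 17729), (19728, 21171), (19729, 21484), (19730, 17731), (19731, 17733), (19732, 17750), (19733, 17735), (19734, 17758), (19735, 17766), (19736, 17772), (19737, 21490), (19738, 17742), (19739, 21493), (19740, 17743), (19741, 21485), (19742, 21496), (19743, 17745), (19744, 21499), (19745, 21500), (19746, 17746), (19747, 20767), (19748, 21502), (19749, 17748), (19750, 21486), (19751, 21506), (19752, 21507), (19753, 17751), (19754, 20759), (19755, 21509), (19756, 17753), (19757, 17754), (19758, 20769), (19759, 21487), (19760, 21488), (19761, 21515), (19762, 17759), (19763, 20761), (19764,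 17761), (19765, 20770), (19766, 17764), (19767, 20827), (19768, 17767), (19769, 20235), (19770, 20771), (19771, 20772), (19772, 20236), (19773, 17778), (19774, 17781), (19775, 21519)]
    ⟨e3 q19712 L712306 q19712, e3 q19713 L712309 q19713, e3 q19714 L712316 q19714, e3 q19715 L712323 q19715, e3 q19716 L712328 q19716, e3 q19717 L712337 q19717, e3 q19718 L712344 q19718, e3 q19719 L712349 q19719, e3 q19720 L712359 q19720, e3 q19721 L712369 q19721, e3 q19722 L730843 q21479, e3 q19723 (flp_i L712376) q17722, e3 q19724 (flp_i L712385) q17724, e3 q19725 (flp_i L724418) q20799, e3 q19726 (flp_i L724510) q20806, e3 q19727 (flp_i L712409) q17729, e3 q19728 (flp_i L728283) q21171, e3 q19729 L730878 q21484, e3 q19730 (flp_i L712427) q17731, e3 q19731 (flp_i L712434) q17733, e3 q19732 L712448 q17750, e3 q19733 (flp_i L712450) q17735, e3 q19734 L712462 q17758, e3 q19735 L712477 q17766, e3 q19736 L712485 q17772, e3 q19737 L730922 q21490, e3 q19738 (flp_i L712493) q17742, e3 q19739 L730946 q21493, e3 q19740 (flp_i L712505) q17743, e3 q19741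 (flp_i L730891) q21485, e3 q19742 L730967 q21496, e3 q19743 (flp_i L712524) q17745, e3 q19744 L730990 q21499, e3 q19745 L730998 q21500, e3 q19746 (flp_i L712548) q17746, e3 q19747 (flp_i L724059) q20767, e3 q19748 L731016 q21502, e3 q19749 (flp_i L712572) q17748, e3 q19750 (flp_i L730899) q21486, e3 q19751 L731051 q21506, e3 q19752 L731063 q21507, e3 q19753 (flp_i L712608) q17751, e3 q19754 (flp_i L723953) q20759, e3 q19755 L731079 q21509, e3 q19756 (flp_i L712625) q17753, e3 q19757 (flp_i L712631) q17754, e3 q19758 (flp_i L724081) q20769, e3 q19759 (flp_i L730909) q21487, e3 q19760 (flp_i L730913) q21488, e3 q19761 L731110 q21515, e3 q19762 (flp_i L712666) q17759, e3 q19763 (flp_i L723980) q20761, e3 q19764 (flp_i L712685) q17761, e3 q19765 (flp_i L724094) q20770, e3 q19766 (flp_i L712703) q17764, e3 q19767 (flp_i L724723) q20827, e3 q19768 (flp_i L712720) q17767, e3 q19769 (flp_i L717853) q20235, e3 q19770 (flp_i L724104) q20771, e3 q19771 (flp_i L724112) q20772, e3 q19772 (flp_i L717864) q20236, e3 q19773 (flp_i L712756)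 q17778, e3 q19774 (flp_i L712763) q17781, e3 q19775 (flp_i L731153) q21519, trivial⟩ (by decide +kernel)

theorem ce_i_309 : ∀ r, r < 64 → sm gi (Qf (19776 + r)) = Qf (tab Gen.i (19776 + r)) :=
  edges_tab (sm gi) Qf (tab Gen.i) 19776 [(19776, 21525), (19777, 17787), (19778, 17788), (19779, 21207), (19780, 17790), (19781, 17802), (19782, 17809), (19783, 21530), (19784, 17795), (19785, 21532), (19786, 17796), (19787, 21524), (19788, 21534), (19789, 17798), (19790, 17799), (19791, 20998), (19792, 21528), (19793, 21538), (19794, 17803), (19795, 21540), (19796, 17804), (19797, 21010), (19798, 21542), (19799, 17806), (19800, 21020), (19801, 21529), (19802, 17810), (19803, 21028), (19804, 20337), (19805, 17820), (19806, 17822), (19807, 21548), (19808, 21550), (19809, 21552), (19810, 17825), (19811, 21555), (19812, 17826), (19813, 21315), (19814, 21283), (19815, 21560), (19816, 17830), (19817, 21562), (19818, 17831), (19819, 17876), (19820, 21564), (19821, 17833), (19822, 21566), (19823, 17834), (19824, 17882), (19825, 17885), (19826,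 21569), (19827, 17838), (19828, 21573), (19829, 21574), (19830, 17839), (19831, 17891), (19832, 21578), (19833, 21579), (19834, 17841), (19835, 21582), (19836, 17842), (19837, 17897), (19838, 21585), (19839, 17845)]
    ⟨e3 q19776 L731191 q21525, e3 q19777 (flp_i L712783) q17787, e3 q19778 (flp_i L712793) q17788, e3 q19779 (flp_i L728635) q21207, e3 q19780 (flp_i L712807) q17790, e3 q19781 L712823 q17802, e3 q19782 L712831 q17809, e3 q19783 L731229 q21530, e3 q19784 (flp_i L712841) q17795, e3 q19785 L731248 q21532, e3 q19786 (flp_i L712857) q17796, e3 q19787 (flp_i L731189) q21524, e3 q19788 L731263 q21534, e3 q19789 (flp_i L712878) q17798, e3 q19790 (flp_i L712888) q17799, e3 q19791 (flp_i L726521) q20998, e3 q19792 (flp_i L731221) q21528, e3 q19793 L731295 q21538, e3 q19794 (flp_i L712922) q17803, e3 q19795 L731311 q21540, e3 q19796 (flp_i L712938) q17804, e3 q19797 (flp_i L726622) q21010, e3 q19798 L731325 q21542, e3 q19799 (flp_i L712956) q17806, e3 q19800 (flp_i L726697) q21020, e3 q19801 (flp_i L731227) q21529, e3 q19802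 (flp_i L712976) q17810, e3 q19803 (flp_i L726763) q21028, e3 q19804 (flp_i L719106) q20337, e3 q19805 (flp_i L713002) q17820, e3 q19806 (flp_i L713010) q17822, e3 q19807 (flp_i L731368) q21548, e3 q19808 L731378 q21550, e3 q19809 L731396 q21552, e3 q19810 (flp_i L713038) q17825, e3 q19811 L731414 q21555, e3 q19812 (flp_i L713052) q17826, e3 q19813 (flp_i L729645) q21315, e3 q19814 (flp_i L729384) q21283, e3 q19815 L731445 q21560, e3 q19816 (flp_i L713076) q17830, e3 q19817 L731462 q21562, e3 q19818 (flp_i L713090) q17831, e3 q19819 L713101 q17876, e3 q19820 L731475 q21564, e3 q19821 (flp_i L713111) q17833, e3 q19822 L731495 q21566, e3 q19823 (flp_i L713127) q17834, e3 q19824 L713143 q17882, e3 q19825 L713151 q17885, e3 q19826 L731519 q21569, e3 q19827 (flp_i L713159) q17838, e3 q19828 L731544 q21573, e3 q19829 L731552 q21574, e3 q19830 (flp_i L713181) q17839, e3 q19831 L713193 q17891, e3 q19832 L731580 q21578, e3 q19833 L731587 q21579, e3 q19834 (flp_i L713206) q17841, e3 q19835 L731605 q21582, e3 q19836 (flp_i L713220) q17842,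 e3 q19837 L713234 q17897, e3 q19838 L731627 q21585, e3 q19839 (flp_i L713242) q17845, trivial⟩ (by decide +kernel)

theorem ce_i_310 : ∀ r, r < 64 → sm gi (Qf (19840 + r)) = Qf (tab Gen.i (19840 + r)) :=
  edges_tab (sm gi) Qf (tab Gen.i) 19840 [(19840, 17901), (19841, 17902), (19842, 17848), (19843, 17849), (19844, 17907), (19845, 17909), (19846, 17916), (19847, 17855), (19848, 17919), (19849, 21594), (19850, 17858), (19851, 17923), (19852, 17924), (19853, 17861), (19854, 17927), (19855, 17932), (19856, 17866), (19857, 17934), (19858, 17935), (19859, 17937), (19860, 21601), (19861, 17872), (19862, 21561), (19863, 21603), (19864, 17874), (19865, 21563), (19866, 21606), (19867, 17877), (19868, 21565), (19869, 17879), (19870, 17880), (19871, 21567), (19872, 20873), (19873, 21612), (19874, 17883), (19875, 21237), (19876, 21568), (19877, 21616), (19878, 17886), (19879, 21570), (19880, 21619), (19881, 17888), (19882, 21620), (19883, 17889), (19884, 21575), (19885, 20879), (19886, 21624), (19887, 21625), (19888, 17892), (19889,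 17893), (19890, 21627), (19891, 21629), (19892, 17895), (19893, 21583), (19894, 21584), (19895, 20884), (19896, 17899), (19897, 21586), (19898, 21587), (19899, 21588), (19900, 21639), (19901, 17903), (19902, 21589), (19903, 17905)]
    ⟨e3 q19840 L713254 q17901, e3 q19841 L713258 q17902, e3 q19842 (flp_i L713260) q17848, e3 q19843 (flp_i L713269) q17849, e3 q19844 L713290 q17907, e3 q19845 L713301 q17909, e3 q19846 L713309 q17916, e3 q19847 (flp_i L713311) q17855, e3 q19848 L713326 q17919, e3 q19849 L731700 q21594, e3 q19850 (flp_i L713337) q17858, e3 q19851 L713352 q17923, e3 q19852 L713358 q17924, e3 q19853 (flp_i L713361) q17861, e3 q19854 L713375 q17927, e3 q19855 L713382 q17932, e3 q19856 (flp_i L713385) q17866, e3 q19857 L713399 q17934, e3 q19858 L713406 q17935, e3 q19859 L713414 q17937, e3 q19860 L731758 q21601, e3 q19861 (flp_i L713421) q17872, e3 q19862 (flp_i L731460) q21561, e3 q19863 L731773 q21603, e3 q19864 (flp_i L713441) q17874, e3 q19865 (flp_i L731473) q21563, e3 q19866 L731789 q21606, e3 q19867 (flp_i L713462)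 q17877, e3 q19868 (flp_i L731493) q21565, e3 q19869 (flp_i L713482) q17879, e3 q19870 (flp_i L713492) q17880, e3 q19871 (flp_i L731511) q21567, e3 q19872 (flp_i L725240) q20873, e3 q19873 L731839 q21612, e3 q19874 (flp_i L713526) q17883, e3 q19875 (flp_i L728948) q21237, e3 q19876 (flp_i L731517) q21568, e3 q19877 L731863 q21616, e3 q19878 (flp_i L713550) q17886, e3 q19879 (flp_i L731531) q21570, e3 q19880 L731885 q21619, e3 q19881 (flp_i L713572) q17888, e3 q19882 L731897 q21620, e3 q19883 (flp_i L713588) q17889, e3 q19884 (flp_i L731566) q21575, e3 q19885 (flp_i L725300) q20879, e3 q19886 L731923 q21624, e3 q19887 L731931 q21625, e3 q19888 (flp_i L713624) q17892, e3 q19889 (flp_i L713632) q17893, e3 q19890 (flp_i L731947) q21627, e3 q19891 L731953 q21629, e3 q19892 (flp_i L713646) q17895, e3 q19893 (flp_i L731621) q21583, e3 q19894 (flp_i L731625) q21584, e3 q19895 (flp_i L725353) q20884, e3 q19896 (flp_i L713668) q17899, e3 q19897 (flp_i L731639) q21586, e3 q19898 (flp_i L731645) q21587, e3 q19899 (flp_i L731649) q21588,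 e3 q19900 L732003 q21639, e3 q19901 (flp_i L713694) q17903, e3 q19902 (flp_i L731660) q21589, e3 q19903 (flp_i L713714) q17905, trivial⟩ (by decide +kernel)

theorem ce_i_311 : ∀ r, r < 64 → sm gi (Qf (19904 + r)) = Qf (tab Gen.i (19904 + r)) :=
  edges_tab (sm gi) Qf (tab Gen.i) 19904 [(19904, 21590), (19905, 21236), (19906, 21591), (19907, 20889), (19908, 17911), (19909, 20251), (19910, 17914), (19911, 21330), (19912, 17917), (19913, 21592), (19914, 21593), (19915, 17921), (19916, 21595), (19917, 21596), (19918, 20894), (19919, 20893), (19920, 21597), (19921, 17929), (19922, 21319), (19923, 21328), (19924, 21598), (19925, 21599), (19926, 21600), (19927, 17942), (19928, 17973), (19929, 17974), (19930, 19930), (19931, 21660), (19932, 17950), (19933, 21662), (19934, 17951), (19935, 19935), (19936, 19936), (19937, 17955), (19938, 21665), (19939, 17956), (19940, 19940), (19941, 21668), (19942, 17958), (19943, 19943), (19944, 19944), (19945, 17964), (19946, 21673), (19947, 17967), (19948, 17969), (19949, 21675), (19950, 21658),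 (19951, 19951), (19952, 20843), (19953, 19953), (19954, 17997), (19955, 21677), (19956, 19956), (19957, 19957), (19958, 19958), (19959, 19959), (19960, 19960), (19961, 19961), (19962, 19962), (19963, 19963), (19964, 19964), (19965, 19965), (19966, 21025), (19967, 18025)]
    ⟨e3 q19904 (flp_i L731673) q21590, e3 q19905 (flp_i L728936) q21236, e3 q19906 (flp_i L731680) q21591, e3 q19907 (flp_i L725407) q20889, e3 q19908 (flp_i L713757) q17911, e3 q19909 (flp_i L718049) q20251, e3 q19910 (flp_i L713771) q17914, e3 q19911 (flp_i L729789) q21330, e3 q19912 (flp_i L713787) q17917, e3 q19913 (flp_i L731689) q21592, e3 q19914 (flp_i L731697) q21593, e3 q19915 (flp_i L713811) q17921, e3 q19916 (flp_i L731717) q21595, e3 q19917 (flp_i L731723) q21596, e3 q19918 (flp_i L725451) q20894, e3 q19919 (flp_i L725443) q20893, e3 q19920 (flp_i L731732) q21597, e3 q19921 (flp_i L713853) q17929, e3 q19922 (flp_i L729687) q21319, e3 q19923 (flp_i L729760) q21328, e3 q19924 (flp_i L731740) q21598, e3 q19925 (flp_i L731749) q21599, e3 q19926 (flp_i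 L731755) q21600, e3 q19927 L713903 q17942, e3 q19928 L713907 q17973, e3 q19929 L713919 q17974, e3 q19930 L713929 q19930, e3 q19931 L732173 q21660, e3 q19932 (flp_i L713943) q17950, e3 q19933 L732201 q21662, e3 q19934 (flp_i L713963) q17951, e3 q19935 L713980 q19935, e3 q19936 L713989 q19936, e3 q19937 (flp_i L713990) q17955, e3 q19938 L732232 q21665, e3 q19939 (flp_i L714006) q17956, e3 q19940 L714021 q19940, e3 q19941 L732255 q21668, e3 q19942 (flp_i L714028) q17958, e3 q19943 L714042 q19943, e3 q19944 L714047 q19944, e3 q19945 (flp_i L714048) q17964, e3 q19946 L732278 q21673, e3 q19947 (flp_i L714059) q17967, e3 q19948 (flp_i L714066) q17969, e3 q19949 (flp_i L732292) q21675, e3 q19950 (flp_i L732163) q21658, e3 q19951 L714086 q19951, e3 q19952 (flp_i L724886) q20843, e3 q19953 L714097 q19953, e3 q19954 L714103 q17997, e3 q19955 (flp_i L732304) q21677, e3 q19956 L714114 q19956, e3 q19957 L714118 q19957, e3 q19958 L714131 q19958, e3 q19959 L714141 q19959, e3 q19960 L714149 q19960, e3 q19961 L714163 q19961, e3 q19962 L714175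 q19962, e3 q19963 L714188 q19963, e3 q19964 L714199 q19964, e3 q19965 L714207 q19965, e3 q19966 (flp_i L726732) q21025, e3 q19967 L714218 q18025, trivial⟩ (by decide +kernel)

theorem ce_i_312 : ∀ r, r < 64 → sm gi (Qf (19968 + r)) = Qf (tab Gen.i (19968 + r)) :=
  edges_tab (sm gi) Qf (tab Gen.i) 19968 [(19968, 18045), (19969, 18029), (19970, 18030), (19971, 19971), (19972, 19972), (19973, 21682), (19974, 18033), (19975, 18034), (19976, 21684), (19977, 18037), (19978, 21686), (19979, 19979), (19980, 19980), (19981, 19981), (19982, 19982), (19983, 19983), (19984, 19984), (19985, 19985), (19986, 19986), (19987, 19987), (19988, 19988), (19989, 19989), (19990, 19990), (19991, 19991), (19992, 19992), (19993, 19993), (19994, 19994), (19995, 19995), (19996, 21205), (19997, 21313), (19998, 21316), (19999, 19999), (20000, 20000), (20001, 20001), (20002, 18090), (20003, 20003), (20004, 20004), (20005, 20005), (20006, 20006), (20007, 20007), (20008, 20008), (20009, 20009), (20010, 18108), (20011, 18115), (20012, 18110), (20013, 19568),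 (20014, 18112), (20015, 19569), (20016, 21703), (20017, 20017), (20018, 19269), (20019, 18125), (20020, 18129), (20021, 18127), (20022, 19562), (20023, 21708), (20024, 20024), (20025, 20025), (20026, 21714), (20027, 18133), (20028, 21716), (20029, 18135), (20030, 18153), (20031, 18159)]
    ⟨e3 q19968 L714227 q18045, e3 q19969 L714238 q18029, e3 q19970 (flp_i L714242) q18030, e3 q19971 L714263 q19971, e3 q19972 L714271 q19972, e3 q19973 L732351 q21682, e3 q19974 (flp_i L714280) q18033, e3 q19975 (flp_i L714287) q18034, e3 q19976 (flp_i L732366) q21684, e3 q19977 L714301 q18037, e3 q19978 (flp_i L732377) q21686, e3 q19979 L714317 q19979, e3 q19980 L714322 q19980, e3 q19981 L714328 q19981, e3 q19982 L714338 q19982, e3 q19983 L714350 q19983, e3 q19984 L714361 q19984, e3 q19985 L714370 q19985, e3 q19986 L714380 q19986, e3 q19987 L714388 q19987, e3 q19988 L714398 q19988, e3 q19989 L714405 q19989, e3 q19990 L714412 q19990, e3 q19991 L714420 q19991, e3 q19992 L714423 q19992, e3 q19993 L714428 q19993, e3 q19994 L714441 q19994, e3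 q19995 L714448 q19995, e3 q19996 (flp_i L728610) q21205, e3 q19997 (flp_i L729624) q21313, e3 q19998 (flp_i L729652) q21316, e3 q19999 L714471 q19999, e3 q20000 L714477 q20000, e3 q20001 L714493 q20001, e3 q20002 (flp_i L714496) q18090, e3 q20003 L714528 q20003, e3 q20004 L714543 q20004, e3 q20005 L714556 q20005, e3 q20006 L714575 q20006, e3 q20007 L714592 q20007, e3 q20008 L714606 q20008, e3 q20009 L714625 q20009, e3 q20010 (flp_i L714629) q18108, e3 q20011 L714662 q18115, e3 q20012 (flp_i L714664) q18110, e3 q20013 L714698 q19568, e3 q20014 (flp_i L714700) q18112, e3 q20015 L714733 q19569, e3 q20016 (flp_i L732516) q21703, e3 q20017 L714759 q20017, e3 q20018 L714780 q19269, e3 q20019 L714800 q18125, e3 q20020 L714818 q18129, e3 q20021 (flp_i L714820) q18127, e3 q20022 L714852 q19562, e3 q20023 (flp_i L732602) q21708, e3 q20024 L714878 q20024, e3 q20025 L714893 q20025, e3 q20026 L732698 q21714, e3 q20027 (flp_i L714912) q18133, e3 q20028 L732732 q21716, e3 q20029 (flp_i L714943) q18135, e3 q20030 L714972 q18153, e3 q20031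 L714986 q18159, trivial⟩ (by decide +kernel)

theorem ce_i_313 : ∀ r, r < 64 → sm gi (Qf (20032 + r)) = Qf (tab Gen.i (20032 + r)) :=
  edges_tab (sm gi) Qf (tab Gen.i) 20032 [(20032, 21720), (20033, 18141), (20034, 21723), (20035, 18143), (20036, 21725), (20037, 18144), (20038, 21715), (20039, 21727), (20040, 18146), (20041, 19700), (20042, 21729), (20043, 21731), (20044, 18148), (20045, 21733), (20046, 18149), (20047, 19690), (20048, 18151), (20049, 21717), (20050, 18154), (20051, 18155), (20052, 19697), (20053, 19701), (20054, 21718), (20055, 18160), (20056, 20056), (20057, 20057), (20058, 20058), (20059, 18166), (20060, 18505), (20061, 21742), (20062, 18172), (20063, 19311), (20064, 19318), (20065, 20065), (20066, 18178), (20067, 19303), (20068, 18181), (20069, 19320), (20070, 19321), (20071, 21747), (20072, 18188), (20073, 21749), (20074, 18190), (20075, 18205), (20076, 18206), (20077, 21751), (20078, 18193), (20079, 18210), (20080, 18196), (20081, 18217), (20082, 18218), (20083, 18199), (20084, 21748), (20085, 18201),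 (20086, 19285), (20087, 21759), (20088, 18203), (20089, 21750), (20090, 21762), (20091, 18208), (20092, 21752), (20093, 21753), (20094, 18212), (20095, 18611)]
    ⟨e3 q20032 L732796 q21720, e3 q20033 (flp_i L715004) q18141, e3 q20034 L732848 q21723, e3 q20035 (flp_i L715036) q18143, e3 q20036 L732882 q21725, e3 q20037 (flp_i L715064) q18144, e3 q20038 (flp_i L732730) q21715, e3 q20039 L732906 q21727, e3 q20040 (flp_i L715104) q18146, e3 q20041 L715134 q19700, e3 q20042 L732940 q21729, e3 q20043 L732975 q21731, e3 q20044 (flp_i L715169) q18148, e3 q20045 L733006 q21733, e3 q20046 (flp_i L715196) q18149, e3 q20047 L715221 q19690, e3 q20048 (flp_i L715223) q18151, e3 q20049 (flp_i L732761) q21717, e3 q20050 (flp_i L715245) q18154, e3 q20051 (flp_i L715261) q18155, e3 q20052 L715288 q19697, e3 q20053 L715300 q19701, e3 q20054 (flp_i L732771) q21718, e3 q20055 (flp_i L715316) q18160, e3 q20056 L715348 q20056, e3 q20057 L715359 q20057, e3 q20058 L715370 q20058, e3 q20059 (flp_i L715374) q18166, e3 q20060 L715406 q18505, e3 q20061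 L733138 q21742, e3 q20062 (flp_i L715428) q18172, e3 q20063 L715460 q19311, e3 q20064 L715478 q19318, e3 q20065 L715492 q20065, e3 q20066 (flp_i L715497) q18178, e3 q20067 L715527 q19303, e3 q20068 (flp_i L715529) q18181, e3 q20069 L715563 q19320, e3 q20070 L715575 q19321, e3 q20071 L733230 q21747, e3 q20072 (flp_i L715601) q18188, e3 q20073 L733266 q21749, e3 q20074 (flp_i L715635) q18190, e3 q20075 L715661 q18205, e3 q20076 L715679 q18206, e3 q20077 L733298 q21751, e3 q20078 (flp_i L715696) q18193, e3 q20079 L715723 q18210, e3 q20080 (flp_i L715725) q18196, e3 q20081 L715752 q18217, e3 q20082 L715760 q18218, e3 q20083 (flp_i L715765) q18199, e3 q20084 (flp_i L733264) q21748, e3 q20085 (flp_i L715793) q18201, e3 q20086 L715827 q19285, e3 q20087 L733423 q21759, e3 q20088 (flp_i L715845) q18203, e3 q20089 (flp_i L733296) q21750, e3 q20090 L733461 q21762, e3 q20091 (flp_i L715883) q18208, e3 q20092 (flp_i L733325) q21752, e3 q20093 (flp_i L733337) q21753, e3 q20094 (flp_i L715921) q18212, e3 q20095 L715953 q18611, trivial⟩ (by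 decide +kernel)

theorem ce_i_314 : ∀ r, r < 64 → sm gi (Qf (20096 + r)) = Qf (tab Gen.i (20096 + r)) :=
  edges_tab (sm gi) Qf (tab Gen.i) 20096 [(20096, 18215), (20097, 21754), (20098, 21755), (20099, 19616), (20100, 18219), (20101, 20101), (20102, 20102), (20103, 20103), (20104, 20104), (20105, 20105), (20106, 21775), (20107, 18227), (20108, 21778), (20109, 21780), (20110, 18228), (20111, 21783), (20112, 18230), (20113, 21785), (20114, 21787), (20115, 18231), (20116, 21790), (20117, 18233), (20118, 21792), (20119, 18234), (20120, 18255), (20121, 18236), (20122, 21796), (20123, 18237), (20124, 18260), (20125, 18264), (20126, 18240), (20127, 18266), (20128, 18269), (20129, 18270), (20130, 21803), (20131, 18245), (20132, 21806), (20133, 18247), (20134, 21809), (20135, 18248), (20136, 21788), (20137, 21812), (20138, 18250), (20139, 21816), (20140, 21817), (20141, 18251), (20142, 21791), (20143, 18253), (20144, 21793), (20145, 21822), (20146, 18256), (20147, 21794), (20148, 21825), (20149, 18258), (20150, 21797), (20151, 19401),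 (20152, 18262), (20153, 19399), (20154, 21798), (20155, 21799), (20156, 21800), (20157, 19405), (20158, 19404), (20159, 21801)]
    ⟨e3 q20096 (flp_i L715955) q18215, e3 q20097 (flp_i L733354) q21754, e3 q20098 (flp_i L733366) q21755, e3 q20099 L715997 q19616, e3 q20100 (flp_i L716001) q18219, e3 q20101 L716035 q20101, e3 q20102 L716046 q20102, e3 q20103 L716055 q20103, e3 q20104 L716068 q20104, e3 q20105 L716081 q20105, e3 q20106 L733649 q21775, e3 q20107 (flp_i L716101) q18227, e3 q20108 L733690 q21778, e3 q20109 L733715 q21780, e3 q20110 (flp_i L716141) q18228, e3 q20111 L733758 q21783, e3 q20112 (flp_i L716167) q18230, e3 q20113 L733789 q21785, e3 q20114 L733818 q21787, e3 q20115 (flp_i L716208) q18231, e3 q20116 L733853 q21790, e3 q20117 (flp_i L716234) q18233, e3 q20118 L733881 q21792, e3 q20119 (flp_i L716261) q18234, e3 q20120 L716283 q18255, e3 q20121 (flp_i L716285) q18236, e3 q20122 L733936 q21796, e3 q20123 (flp_i L716312) q18237, e3 q20124 L716337 q18260, e3 q20125 L716351 q18264, e3 q20126 (flp_i L716353) q18240,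 e3 q20127 L716378 q18266, e3 q20128 L716389 q18269, e3 q20129 L716403 q18270, e3 q20130 L734036 q21803, e3 q20131 (flp_i L716424) q18245, e3 q20132 L734085 q21806, e3 q20133 (flp_i L716453) q18247, e3 q20134 L734129 q21809, e3 q20135 (flp_i L716479) q18248, e3 q20136 (flp_i L733840) q21788, e3 q20137 L734167 q21812, e3 q20138 (flp_i L716517) q18250, e3 q20139 L734226 q21816, e3 q20140 L734240 q21817, e3 q20141 (flp_i L716559) q18251, e3 q20142 (flp_i L733879) q21791, e3 q20143 (flp_i L716579) q18253, e3 q20144 (flp_i L733905) q21793, e3 q20145 L734298 q21822, e3 q20146 (flp_i L716614) q18256, e3 q20147 (flp_i L733920) q21794, e3 q20148 L734339 q21825, e3 q20149 (flp_i L716650) q18258, e3 q20150 (flp_i L733962) q21797, e3 q20151 L716687 q19401, e3 q20152 (flp_i L716689) q18262, e3 q20153 L716714 q19399, e3 q20154 (flp_i L733972) q21798, e3 q20155 (flp_i L733989) q21799, e3 q20156 (flp_i L733999) q21800, e3 q20157 L716757 q19405, e3 q20158 L716774 q19404, e3 q20159 (flp_i L734014) q21801, trivial⟩ (by decide +kernel)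

theorem ce_i_315 : ∀ r, r < 64 → sm gi (Qf (20160 + r)) = Qf (tab Gen.i (20160 + r)) :=
  edges_tab (sm gi) Qf (tab Gen.i) 20160 [(20160, 21802), (20161, 18271), (20162, 20162), (20163, 20163), (20164, 20164), (20165, 20165), (20166, 20166), (20167, 20167), (20168, 21845), (20169, 18279), (20170, 20170), (20171, 21848), (20172, 18281), (20173, 20173), (20174, 20174), (20175, 20175), (20176, 20176), (20177, 20177), (20178, 20178), (20179, 20179), (20180, 21855), (20181, 18299), (20182, 21856), (20183, 18300), (20184, 18302), (20185, 18317), (20186, 21861), (20187, 18306), (20188, 21863), (20189, 21864), (20190, 18307), (20191, 21867), (20192, 18309), (20193, 21869), (20194, 18310), (20195, 21857), (20196, 18312), (20197, 21858), (20198, 18979), (20199, 18315), (20200, 19010), (20201, 18980), (20202, 19011), (20203, 20203), (20204, 20204), (20205, 21877), (20206, 18323), (20207, 21879), (20208, 18325), (20209, 21882), (20210, 18327), (20211, 21884), (20212, 18328), (20213, 18345), (20214, 18346), (20215, 18347), (20216, 18332),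 (20217, 18350), (20218, 18351), (20219, 18355), (20220, 21890), (20221, 18337), (20222, 18339), (20223, 21880)]
    ⟨e3 q20160 (flp_i L734030) q21802, e3 q20161 (flp_i L716799) q18271, e3 q20162 L716826 q20162, e3 q20163 L716836 q20163, e3 q20164 L716849 q20164, e3 q20165 L716858 q20165, e3 q20166 L716868 q20166, e3 q20167 L716889 q20167, e3 q20168 L734604 q21845, e3 q20169 (flp_i L716903) q18279, e3 q20170 L716932 q20170, e3 q20171 L734650 q21848, e3 q20172 (flp_i L716945) q18281, e3 q20173 L716971 q20173, e3 q20174 L716980 q20174, e3 q20175 L716992 q20175, e3 q20176 L717005 q20176, e3 q20177 L717020 q20177, e3 q20178 L717037 q20178, e3 q20179 L717050 q20179, e3 q20180 L734735 q21855, e3 q20181 (flp_i L717073) q18299, e3 q20182 L734751 q21856, e3 q20183 (flp_i L717107) q18300, e3 q20184 (flp_i L717121) q18302, e3 q20185 L717150 q18317, e3 q20186 L734828 q21861, e3 q20187 (flp_i L717165) q18306, e3 q20188 L734857 q21863, e3 q20189 L734870 q21864, e3 q20190 (flp_i L717206) q18307, e3 q20191 L734913 q21867, e3 q20192 (flp_i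 L717232) q18309, e3 q20193 L734941 q21869, e3 q20194 (flp_i L717263) q18310, e3 q20195 (flp_i L734781) q21857, e3 q20196 (flp_i L717285) q18312, e3 q20197 (flp_i L734798) q21858, e3 q20198 L717324 q18979, e3 q20199 (flp_i L717326) q18315, e3 q20200 L717356 q19010, e3 q20201 L717367 q18980, e3 q20202 L717383 q19011, e3 q20203 L717407 q20203, e3 q20204 L717418 q20204, e3 q20205 L735065 q21877, e3 q20206 (flp_i L717437) q18323, e3 q20207 L735094 q21879, e3 q20208 (flp_i L717462) q18325, e3 q20209 L735137 q21882, e3 q20210 (flp_i L717490) q18327, e3 q20211 L735169 q21884, e3 q20212 (flp_i L717521) q18328, e3 q20213 L717539 q18345, e3 q20214 L717554 q18346, e3 q20215 L717570 q18347, e3 q20216 (flp_i L717572) q18332, e3 q20217 L717601 q18350, e3 q20218 L717612 q18351, e3 q20219 L717628 q18355, e3 q20220 L735258 q21890, e3 q20221 (flp_i L717647) q18337, e3 q20222 (flp_i L717660) q18339, e3 q20223 (flp_i L735118) q21880, trivial⟩ (by decide +kernel)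

theorem ce_i_316 : ∀ r, r < 64 → sm gi (Qf (20224 + r)) = Qf (tab Gen.i (20224 + r)) :=
  edges_tab (sm gi) Qf (tab Gen.i) 20224 [(20224, 18341), (20225, 21883), (20226, 21896), (20227, 18343), (20228, 21885), (20229, 21886), (20230, 21899), (20231, 18348), (20232, 21887), (20233, 21888), (20234, 18352), (20235, 19769), (20236, 19772), (20237, 18356), (20238, 20238), (20239, 20239), (20240, 20240), (20241, 20241), (20242, 20242), (20243, 21911), (20244, 21913), (20245, 18366), (20246, 21917), (20247, 21920), (20248, 18368), (20249, 21922), (20250, 18369), (20251, 19909), (20252, 21925), (20253, 18371), (20254, 21928), (20255, 21930), (20256, 18373), (20257, 21933), (20258, 18374), (20259, 18408), (20260, 21936), (20261, 18376), (20262, 21940), (20263, 21941), (20264, 18377), (20265, 18415), (20266, 21945), (20267, 18379), (20268, 18418), (20269, 18382), (20270, 18421), (20271, 21950), (20272, 18384), (20273, 18424), (20274, 18428), (20275, 18388), (20276, 18431), (20277, 18432), (20278, 21956), (20279, 18391), (20280, 18435),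 (20281, 18436), (20282, 18439), (20283, 18443), (20284, 18397), (20285, 18445), (20286, 18446), (20287, 18447)]
    ⟨e3 q20224 (flp_i L717686) q18341, e3 q20225 (flp_i L735167) q21883, e3 q20226 L735347 q21896, e3 q20227 (flp_i L717734) q18343, e3 q20228 (flp_i L735193) q21885, e3 q20229 (flp_i L735205) q21886, e3 q20230 L735383 q21899, e3 q20231 (flp_i L717788) q18348, e3 q20232 (flp_i L735226) q21887, e3 q20233 (flp_i L735238) q21888, e3 q20234 (flp_i L717826) q18352, e3 q20235 L717853 q19769, e3 q20236 L717864 q19772, e3 q20237 (flp_i L717872) q18356, e3 q20238 L717902 q20238, e3 q20239 L717911 q20239, e3 q20240 L717927 q20240, e3 q20241 L717936 q20241, e3 q20242 L717953 q20242, e3 q20243 L735556 q21911, e3 q20244 L735581 q21913, e3 q20245 (flp_i L717980) q18366, e3 q20246 L735628 q21917, e3 q20247 L735660 q21920, e3 q20248 (flp_i L718011) q18368, e3 q20249 L735681 q21922, e3 q20250 (flp_i L718032) q18369, e3 q20251 L718049 q19909, e3 q20252 L735713 q21925, e3 q20253 (flp_i L718063) q18371, e3 q20254 L735752 q21928, e3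 q20255 L735778 q21930, e3 q20256 (flp_i L718099) q18373, e3 q20257 L735816 q21933, e3 q20258 (flp_i L718124) q18374, e3 q20259 L718140 q18408, e3 q20260 L735857 q21936, e3 q20261 (flp_i L718156) q18376, e3 q20262 L735918 q21940, e3 q20263 L735925 q21941, e3 q20264 (flp_i L718190) q18377, e3 q20265 L718206 q18415, e3 q20266 L735978 q21945, e3 q20267 (flp_i L718224) q18379, e3 q20268 L718240 q18418, e3 q20269 (flp_i L718242) q18382, e3 q20270 L718267 q18421, e3 q20271 L736037 q21950, e3 q20272 (flp_i L718283) q18384, e3 q20273 L718309 q18424, e3 q20274 L718323 q18428, e3 q20275 (flp_i L718325) q18388, e3 q20276 L718357 q18431, e3 q20277 L718363 q18432, e3 q20278 L736123 q21956, e3 q20279 (flp_i L718381) q18391, e3 q20280 L718400 q18435, e3 q20281 L718408 q18436, e3 q20282 L718420 q18439, e3 q20283 L718435 q18443, e3 q20284 (flp_i L718441) q18397, e3 q20285 L718467 q18445, e3 q20286 L718478 q18446, e3 q20287 L718493 q18447, trivial⟩ (by decide +kernel)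

theorem ce_i_317 : ∀ r, r < 64 → sm gi (Qf (20288 + r)) = Qf (tab Gen.i (20288 + r)) :=
  edges_tab (sm gi) Qf (tab Gen.i) 20288 [(20288, 21963), (20289, 18401), (20290, 21926), (20291, 21966), (20292, 21967), (20293, 18403), (20294, 18404), (20295, 21931), (20296, 21972), (20297, 18406), (20298, 21934), (20299, 21976), (20300, 18409), (20301, 21979), (20302, 21980), (20303, 18410), (20304, 21937), (20305, 21983), (20306, 18412), (20307, 21986), (20308, 18413), (20309, 21942), (20310, 21943), (20311, 21990), (20312, 18416), (20313, 21946), (20314, 21947), (20315, 18419), (20316, 21948), (20317, 21949), (20318, 21997), (20319, 18422), (20320, 21951), (20321, 21952), (20322, 19175), (20323, 18426), (20324, 19172), (20325, 21953), (20326, 22004), (20327, 18429), (20328, 21954), (20329, 21955), (20330, 18433), (20331, 21957), (20332, 21958), (20333, 21959), (20334, 19189), (20335, 19525), (20336, 18440), (20337, 19804), (20338, 19522), (20339, 21960), (20340, 21961), (20341, 19192), (20342, 18448), (20343, 20343), (20344, 20344),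 (20345, 20345), (20346, 20346), (20347, 20347), (20348, 20348), (20349, 20349), (20350, 20350), (20351, 20351)]
    ⟨e3 q20288 L736217 q21963, e3 q20289 (flp_i L718506) q18401, e3 q20290 (flp_i L735734) q21926, e3 q20291 L736254 q21966, e3 q20292 L736270 q21967, e3 q20293 (flp_i L718553) q18403, e3 q20294 (flp_i L718565) q18404, e3 q20295 (flp_i L735800) q21931, e3 q20296 L736332 q21972, e3 q20297 (flp_i L718601) q18406, e3 q20298 (flp_i L735838) q21934, e3 q20299 L736384 q21976, e3 q20300 (flp_i L718639) q18409, e3 q20301 L736430 q21979, e3 q20302 L736446 q21980, e3 q20303 (flp_i L718685) q18410, e3 q20304 (flp_i L735883) q21937, e3 q20305 L736484 q21983, e3 q20306 (flp_i L718719) q18412, e3 q20307 L736530 q21986, e3 q20308 (flp_i L718751) q18413, e3 q20309 (flp_i L735949) q21942, e3 q20310 (flp_i L735957) q21943, e3 q20311 L736568 q21990, e3 q20312 (flp_i L718789) q18416, e3 q20313 (flp_i L736002) q21946, e3 q20314 (flp_i L736010) q21947, e3 q20315 (flp_i L718813) q18419, e3 q20316 (flp_i L736025) q21948, e3 q20317 (flp_i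 L736034) q21949, e3 q20318 L736633 q21997, e3 q20319 (flp_i L718863) q18422, e3 q20320 (flp_i L736063) q21951, e3 q20321 (flp_i L736074) q21952, e3 q20322 L718911 q19175, e3 q20323 (flp_i L718913) q18426, e3 q20324 L718945 q19172, e3 q20325 (flp_i L736085) q21953, e3 q20326 L736732 q22004, e3 q20327 (flp_i L718971) q18429, e3 q20328 (flp_i L736108) q21954, e3 q20329 (flp_i L736119) q21955, e3 q20330 (flp_i L719007) q18433, e3 q20331 (flp_i L736150) q21957, e3 q20332 (flp_i L736158) q21958, e3 q20333 (flp_i L736168) q21959, e3 q20334 L719052 q19189, e3 q20335 L719071 q19525, e3 q20336 (flp_i L719077) q18440, e3 q20337 L719106 q19804, e3 q20338 L719119 q19522, e3 q20339 (flp_i L736187) q21960, e3 q20340 (flp_i L736197) q21961, e3 q20341 L719149 q19192, e3 q20342 (flp_i L719155) q18448, e3 q20343 L719183 q20343, e3 q20344 L719194 q20344, e3 q20345 L719202 q20345, e3 q20346 L719215 q20346, e3 q20347 L719224 q20347, e3 q20348 L719231 q20348, e3 q20349 L719238 q20349, e3 q20350 L719245 q20350, e3 q20351 L719257 q20351, trivial⟩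 (by decide +kernel)

theorem ce_i_318 : ∀ r, r < 64 → sm gi (Qf (20352 + r)) = Qf (tab Gen.i (20352 + r)) :=
  edges_tab (sm gi) Qf (tab Gen.i) 20352 [(20352, 20352), (20353, 18460), (20354, 20354), (20355, 20355), (20356, 22029), (20357, 18463), (20358, 20358), (20359, 22031), (20360, 18465), (20361, 20361), (20362, 20362), (20363, 18468), (20364, 22035), (20365, 20365), (20366, 20366), (20367, 20367), (20368, 20368), (20369, 20369), (20370, 20370), (20371, 20371), (20372, 20372), (20373, 20373), (20374, 20374), (20375, 20375), (20376, 18497), (20377, 19556), (20378, 18500), (20379, 18502), (20380, 18503), (20381, 18512), (20382, 18506), (20383, 22044), (20384, 22045), (20385, 22046), (20386, 20386), (20387, 20387), (20388, 18523), (20389, 18516), (20390, 18525), (20391, 18518), (20392, 18527), (20393, 19566), (20394, 19696), (20395, 22050), (20396, 22051), (20397, 22052), (20398, 22053), (20399, 20399), (20400, 20400), (20401, 20401), (20402, 20402), (20403, 18537), (20404, 22047), (20405, 18535), (20406, 19565), (20407,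 18538), (20408, 18540), (20409, 18552), (20410, 18542), (20411, 18543), (20412, 18555), (20413, 18556), (20414, 22043), (20415, 22060)]
    ⟨e3 q20352 L719268 q20352, e3 q20353 (flp_i L719273) q18460, e3 q20354 L719301 q20354, e3 q20355 L719310 q20355, e3 q20356 L737028 q22029, e3 q20357 (flp_i L719327) q18463, e3 q20358 L719355 q20358, e3 q20359 L737061 q22031, e3 q20360 (flp_i L719371) q18465, e3 q20361 L719399 q20361, e3 q20362 L719408 q20362, e3 q20363 (flp_i L719409) q18468, e3 q20364 (flp_i L737120) q22035, e3 q20365 L719444 q20365, e3 q20366 L719451 q20366, e3 q20367 L719465 q20367, e3 q20368 L719473 q20368, e3 q20369 L719481 q20369, e3 q20370 L719494 q20370, e3 q20371 L719503 q20371, e3 q20372 L719514 q20372, e3 q20373 L719530 q20373, e3 q20374 L719541 q20374, e3 q20375 L719561 q20375, e3 q20376 (flp_i L719562) q18497, e3 q20377 L719596 q19556, e3 q20378 (flp_i L719598) q18500, e3 q20379 (flp_i L719616) q18502, e3 q20380 (flp_i L719633) q18503, e3 q20381 L719662 q18512, e3 q20382 (flp_i L719664) q18506, e3 q20383 (flp_i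 L737243) q22044, e3 q20384 (flp_i L737261) q22045, e3 q20385 (flp_i L737279) q22046, e3 q20386 L719738 q20386, e3 q20387 L719755 q20387, e3 q20388 L719772 q18523, e3 q20389 (flp_i L719774) q18516, e3 q20390 L719799 q18525, e3 q20391 (flp_i L719801) q18518, e3 q20392 L719824 q18527, e3 q20393 L719842 q19566, e3 q20394 L719862 q19696, e3 q20395 (flp_i L737353) q22050, e3 q20396 (flp_i L737361) q22051, e3 q20397 (flp_i L737382) q22052, e3 q20398 (flp_i L737388) q22053, e3 q20399 L719920 q20399, e3 q20400 L719937 q20400, e3 q20401 L719954 q20401, e3 q20402 L719971 q20402, e3 q20403 L719988 q18537, e3 q20404 (flp_i L737299) q22047, e3 q20405 (flp_i L720002) q18535, e3 q20406 L720029 q19565, e3 q20407 (flp_i L720031) q18538, e3 q20408 (flp_i L720049) q18540, e3 q20409 L720072 q18552, e3 q20410 (flp_i L720074) q18542, e3 q20411 (flp_i L720091) q18543, e3 q20412 L720119 q18555, e3 q20413 L720129 q18556, e3 q20414 (flp_i L737223) q22043, e3 q20415 (flp_i L737512) q22060, trivial⟩ (by decide +kernel)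

theorem ce_i_319 : ∀ r, r < 64 → sm gi (Qf (20416 + r)) = Qf (tab Gen.i (20416 + r)) :=
  edges_tab (sm gi) Qf (tab Gen.i) 20416 [(20416, 22061), (20417, 18550), (20418, 22058), (20419, 22062), (20420, 22063), (20421, 22064), (20422, 22065), (20423, 20423), (20424, 20424), (20425, 20425), (20426, 20426), (20427, 18575), (20428, 18576), (20429, 18578), (20430, 18579), (20431, 18582), (20432, 18584), (20433, 18585), (20434, 18587), (20435, 18588), (20436, 21709), (20437, 22066), (20438, 22073), (20439, 22074), (20440, 19552), (20441, 19548), (20442, 22075), (20443, 21704), (20444, 22076), (20445, 22077), (20446, 21705), (20447, 22078), (20448, 22079), (20449, 20449), (20450, 20450), (20451, 20451), (20452, 22089), (20453, 18605), (20454, 22090), (20455, 18606), (20456, 18608), (20457, 21766), (20458, 22094), (20459, 18612), (20460, 22096), (20461, 22098), (20462, 18613), (20463, 18615), (20464, 18617), (20465, 22102), (20466, 18618), (20467, 18633), (20468, 18635), (20469, 18636), (20470, 22107), (20471, 18623), (20472, 22108),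 (20473, 18624), (20474, 22110), (20475, 18626), (20476, 22112), (20477, 18627), (20478, 22099), (20479, 22100)]
    ⟨e3 q20416 (flp_i L737530) q22061, e3 q20417 (flp_i L720165) q18550, e3 q20418 (flp_i L737479) q22058, e3 q20419 (flp_i L737548) q22062, e3 q20420 (flp_i L737568) q22063, e3 q20421 (flp_i L737578) q22064, e3 q20422 (flp_i L737587) q22065, e3 q20423 L720245 q20423, e3 q20424 L720256 q20424, e3 q20425 L720270 q20425, e3 q20426 L720281 q20426, e3 q20427 L720295 q18575, e3 q20428 L720313 q18576, e3 q20429 L720325 q18578, e3 q20430 L720337 q18579, e3 q20431 L720355 q18582, e3 q20432 L720367 q18584, e3 q20433 L720375 q18585, e3 q20434 L720388 q18587, e3 q20435 L720394 q18588, e3 q20436 (flp_i L732625) q21709, e3 q20437 (flp_i L737606) q22066, e3 q20438 (flp_i L737697) q22073, e3 q20439 (flp_i L737708) q22074, e3 q20440 L720449 q19552, e3 q20441 L720465 q19548, e3 q20442 (flp_i L737723) q22075, e3 q20443 (flp_i L732536) q21704, e3 q20444 (flp_i L737738) q22076, e3 q20445 (flp_i L737747) q22077, e3 q20446 (flp_i L732554)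 q21705, e3 q20447 (flp_i L737759) q22078, e3 q20448 (flp_i L737769) q22079, e3 q20449 L720540 q20449, e3 q20450 L720553 q20450, e3 q20451 L720571 q20451, e3 q20452 L737877 q22089, e3 q20453 (flp_i L720586) q18605, e3 q20454 L737891 q22090, e3 q20455 (flp_i L720619) q18606, e3 q20456 (flp_i L720631) q18608, e3 q20457 (flp_i L733531) q21766, e3 q20458 L737953 q22094, e3 q20459 (flp_i L720671) q18612, e3 q20460 L737985 q22096, e3 q20461 L738018 q22098, e3 q20462 (flp_i L720715) q18613, e3 q20463 (flp_i L720727) q18615, e3 q20464 (flp_i L720741) q18617, e3 q20465 L738076 q22102, e3 q20466 (flp_i L720771) q18618, e3 q20467 L720794 q18633, e3 q20468 L720808 q18635, e3 q20469 L720822 q18636, e3 q20470 L738155 q22107, e3 q20471 (flp_i L720840) q18623, e3 q20472 L738171 q22108, e3 q20473 (flp_i L720870) q18624, e3 q20474 L738197 q22110, e3 q20475 (flp_i L720896) q18626, e3 q20476 L738225 q22112, e3 q20477 (flp_i L720926) q18627, e3 q20478 (flp_i L738042) q22099, e3 q20479 (flp_i L738058) q22100, trivial⟩ (by decide +kernel)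

theorem ce_i_320 : ∀ r, r < 64 → sm gi (Qf (20480 + r)) = Qf (tab Gen.i (20480 + r)) :=
  edges_tab (sm gi) Qf (tab Gen.i) 20480 [(20480, 22101), (20481, 18631), (20482, 22103), (20483, 18867), (20484, 22104), (20485, 22105), (20486, 20486), (20487, 20487), (20488, 20488), (20489, 20489), (20490, 22120), (20491, 22122), (20492, 18645), (20493, 22124), (20494, 18647), (20495, 22127), (20496, 22129), (20497, 18649), (20498, 22132), (20499, 18650), (20500, 18673), (20501, 18674), (20502, 18653), (20503, 18676), (20504, 22136), (20505, 18655), (20506, 18679), (20507, 18682), (20508, 18685), (20509, 18686), (20510, 18661), (20511, 18688), (20512, 18689), (20513, 22144), (20514, 18664), (20515, 18666), (20516, 22125), (20517, 22147), (20518, 18668), (20519, 22149), (20520, 18669), (20521, 22130), (20522, 22152), (20523, 18671), (20524, 22133), (20525, 22134), (20526, 22135), (20527, 18677), (20528, 22137), (20529, 22138), (20530, 21738), (20531, 21737), (20532, 22139), (20533, 18683), (20534, 19694), (20535, 22140), (20536, 22141),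 (20537, 22142), (20538, 22143), (20539, 20539), (20540, 20540), (20541, 20541), (20542, 20542), (20543, 20543)]
    ⟨e3 q20480 (flp_i L738074) q22101, e3 q20481 (flp_i L720972) q18631, e3 q20482 (flp_i L738105) q22103, e3 q20483 L721014 q18867, e3 q20484 (flp_i L738115) q22104, e3 q20485 (flp_i L738130) q22105, e3 q20486 L721058 q20486, e3 q20487 L721069 q20487, e3 q20488 L721090 q20488, e3 q20489 L721101 q20489, e3 q20490 L738337 q22120, e3 q20491 L738360 q22122, e3 q20492 (flp_i L721128) q18645, e3 q20493 L738385 q22124, e3 q20494 (flp_i L721149) q18647, e3 q20495 L738427 q22127, e3 q20496 L738453 q22129, e3 q20497 (flp_i L721182) q18649, e3 q20498 L738489 q22132, e3 q20499 (flp_i L721197) q18650, e3 q20500 L721211 q18673, e3 q20501 L721223 q18674, e3 q20502 (flp_i L721225) q18653, e3 q20503 L721242 q18676, e3 q20504 L738524 q22136, e3 q20505 (flp_i L721259) q18655, e3 q20506 L721270 q18679, e3 q20507 L721280 q18682, e3 q20508 L721292 q18685, e3 q20509 L721298 q18686, e3 q20510 (flp_i L721303) q18661, e3 q20511 L721330 q18688,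 e3 q20512 L721334 q18689, e3 q20513 L738630 q22144, e3 q20514 (flp_i L721355) q18664, e3 q20515 (flp_i L721369) q18666, e3 q20516 (flp_i L738407) q22125, e3 q20517 L738668 q22147, e3 q20518 (flp_i L721395) q18668, e3 q20519 L738692 q22149, e3 q20520 (flp_i L721425) q18669, e3 q20521 (flp_i L738469) q22130, e3 q20522 L738726 q22152, e3 q20523 (flp_i L721455) q18671, e3 q20524 (flp_i L738501) q22133, e3 q20525 (flp_i L738513) q22134, e3 q20526 (flp_i L738519) q22135, e3 q20527 (flp_i L721483) q18677, e3 q20528 (flp_i L738543) q22137, e3 q20529 (flp_i L738549) q22138, e3 q20530 (flp_i L733091) q21738, e3 q20531 (flp_i L733075) q21737, e3 q20532 (flp_i L738562) q22139, e3 q20533 (flp_i L721543) q18683, e3 q20534 L721569 q19694, e3 q20535 (flp_i L738578) q22140, e3 q20536 (flp_i L738598) q22141, e3 q20537 (flp_i L738608) q22142, e3 q20538 (flp_i L738624) q22143, e3 q20539 L721637 q20539, e3 q20540 L721642 q20540, e3 q20541 L721653 q20541, e3 q20542 L721668 q20542, e3 q20543 L721687 q20543, trivial⟩ (by decide +kernel)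

theorem ce_i_321 : ∀ r, r < 64 → sm gi (Qf (20544 + r)) = Qf (tab Gen.i (20544 + r)) :=
  edges_tab (sm gi) Qf (tab Gen.i) 20544 [(20544, 18699), (20545, 20545), (20546, 20546), (20547, 20547), (20548, 20548), (20549, 20549), (20550, 22170), (20551, 18711), (20552, 18724), (20553, 22172), (20554, 18716), (20555, 22175), (20556, 22177), (20557, 18718), (20558, 18719), (20559, 22171), (20560, 22160), (20561, 18722), (20562, 19684), (20563, 19639), (20564, 19695), (20565, 22183), (20566, 18727), (20567, 22185), (20568, 22187), (20569, 18728), (20570, 22190), (20571, 22191), (20572, 18730), (20573, 22194), (20574, 22197), (20575, 18732), (20576, 22199), (20577, 18733), (20578, 18757), (20579, 18735), (20580, 18761), (20581, 18737), (20582, 22203), (20583, 18738), (20584, 18766), (20585, 18740), (20586, 18768), (20587, 18771), (20588, 18772), (20589, 18773), (20590, 18774), (20591, 22211), (20592, 18747), (20593, 22213), (20594, 18749), (20595, 22216), (20596, 18750), (20597, 22192), (20598, 22218), (20599, 22219), (20600, 18752),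 (20601, 22221), (20602, 18753), (20603, 22198), (20604, 18755), (20605, 22200), (20606, 22201), (20607, 18759)]
    ⟨e3 q20544 (flp_i L721688) q18699, e3 q20545 L721716 q20545, e3 q20546 L721723 q20546, e3 q20547 L721736 q20547, e3 q20548 L721753 q20548, e3 q20549 L721771 q20549, e3 q20550 L738953 q22170, e3 q20551 (flp_i L721786) q18711, e3 q20552 L721810 q18724, e3 q20553 L738983 q22172, e3 q20554 (flp_i L721824) q18716, e3 q20555 L739023 q22175, e3 q20556 L739053 q22177, e3 q20557 (flp_i L721861) q18718, e3 q20558 (flp_i L721872) q18719, e3 q20559 (flp_i L738981) q22171, e3 q20560 (flp_i L738836) q22160, e3 q20561 (flp_i L721902) q18722, e3 q20562 L721925 q19684, e3 q20563 L721937 q19639, e3 q20564 L721945 q19695, e3 q20565 L739124 q22183, e3 q20566 (flp_i L721963) q18727, e3 q20567 L739153 q22185, e3 q20568 L739180 q22187, e3 q20569 (flp_i L722005) q18728, e3 q20570 L739223 q22190, e3 q20571 L739236 q22191, e3 q20572 (flp_i L722037) q18730, e3 q20573 L739270 q22194, e3 q20574 L739314 q22197, e3 q20575 (flp_i L722072) q18732,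 e3 q20576 L739336 q22199, e3 q20577 (flp_i L722091) q18733, e3 q20578 L722107 q18757, e3 q20579 (flp_i L722109) q18735, e3 q20580 L722130 q18761, e3 q20581 (flp_i L722132) q18737, e3 q20582 L739386 q22203, e3 q20583 (flp_i L722163) q18738, e3 q20584 L722187 q18766, e3 q20585 (flp_i L722189) q18740, e3 q20586 L722204 q18768, e3 q20587 L722218 q18771, e3 q20588 L722234 q18772, e3 q20589 L722242 q18773, e3 q20590 L722249 q18774, e3 q20591 L739491 q22211, e3 q20592 (flp_i L722262) q18747, e3 q20593 L739511 q22213, e3 q20594 (flp_i L722280) q18749, e3 q20595 L739549 q22216, e3 q20596 (flp_i L722304) q18750, e3 q20597 (flp_i L739252) q22192, e3 q20598 L739571 q22218, e3 q20599 L739587 q22219, e3 q20600 (flp_i L722346) q18752, e3 q20601 L739605 q22221, e3 q20602 (flp_i L722364) q18753, e3 q20603 (flp_i L739334) q22198, e3 q20604 (flp_i L722384) q18755, e3 q20605 (flp_i L739352) q22200, e3 q20606 (flp_i L739368) q22201, e3 q20607 (flp_i L722412) q18759, trivial⟩ (by decide +kernel)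

theorem ce_i_322 : ∀ r, r < 64 → sm gi (Qf (20608 + r)) = Qf (tab Gen.i (20608 + r)) :=
  edges_tab (sm gi) Qf (tab Gen.i) 20608 [(20608, 22180), (20609, 18762), (20610, 22202), (20611, 18764), (20612, 22204), (20613, 22205), (20614, 22206), (20615, 22207), (20616, 19614), (20617, 19613), (20618, 22208), (20619, 19702), (20620, 22209), (20621, 22210), (20622, 18775), (20623, 20623), (20624, 20624), (20625, 20625), (20626, 18781), (20627, 20627), (20628, 20628), (20629, 20629), (20630, 20630), (20631, 20631), (20632, 20632), (20633, 20633), (20634, 20634), (20635, 20635), (20636, 22247), (20637, 22249), (20638, 18796), (20639, 22252), (20640, 22255), (20641, 18798), (20642, 22257), (20643, 18799), (20644, 19085), (20645, 22259), (20646, 18801), (20647, 22262), (20648, 18803), (20649, 22264), (20650, 18804), (20651, 18835), (20652, 22267), (20653, 18806), (20654, 22270), (20655, 22271), (20656, 18807), (20657, 18842), (20658, 22274), (20659, 18809), (20660, 18845), (20661, 18848), (20662, 18813), (20663, 18850), (20664, 18854),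 (20665, 18817), (20666, 18857), (20667, 18858), (20668, 18820), (20669, 18861), (20670, 18862), (20671, 18865)]
    ⟨e3 q20608 (flp_i L739097) q22180, e3 q20609 (flp_i L722436) q18762, e3 q20610 (flp_i L739384) q22202, e3 q20611 (flp_i L722458) q18764, e3 q20612 (flp_i L739418) q22204, e3 q20613 (flp_i L739426) q22205, e3 q20614 (flp_i L739435) q22206, e3 q20615 (flp_i L739443) q22207, e3 q20616 L722511 q19614, e3 q20617 L722521 q19613, e3 q20618 (flp_i L739454) q22208, e3 q20619 L722537 q19702, e3 q20620 (flp_i L739470) q22209, e3 q20621 (flp_i L739485) q22210, e3 q20622 (flp_i L722558) q18775, e3 q20623 L722586 q20623, e3 q20624 L722593 q20624, e3 q20625 L722604 q20625, e3 q20626 (flp_i L722608) q18781, e3 q20627 L722639 q20627, e3 q20628 L722652 q20628, e3 q20629 L722666 q20629, e3 q20630 L722675 q20630, e3 q20631 L722688 q20631, e3 q20632 L722697 q20632, e3 q20633 L722708 q20633, e3 q20634 L722716 q20634, e3 q20635 L722730 q20635, e3 q20636 L739903 q22247, e3 q20637 L739926 q22249, e3 q20638 (flp_i L722758) q18796, e3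 q20639 L739959 q22252, e3 q20640 L739985 q22255, e3 q20641 (flp_i L722787) q18798, e3 q20642 L740002 q22257, e3 q20643 (flp_i L722806) q18799, e3 q20644 L722823 q19085, e3 q20645 L740023 q22259, e3 q20646 (flp_i L722837) q18801, e3 q20647 L740062 q22262, e3 q20648 (flp_i L722859) q18803, e3 q20649 L740084 q22264, e3 q20650 (flp_i L722880) q18804, e3 q20651 L722892 q18835, e3 q20652 L740117 q22267, e3 q20653 (flp_i L722910) q18806, e3 q20654 L740156 q22270, e3 q20655 L740163 q22271, e3 q20656 (flp_i L722940) q18807, e3 q20657 L722956 q18842, e3 q20658 L740192 q22274, e3 q20659 (flp_i L722970) q18809, e3 q20660 L722982 q18845, e3 q20661 L722994 q18848, e3 q20662 (flp_i L722996) q18813, e3 q20663 L723015 q18850, e3 q20664 L723031 q18854, e3 q20665 (flp_i L723033) q18817, e3 q20666 L723053 q18857, e3 q20667 L723059 q18858, e3 q20668 (flp_i L723062) q18820, e3 q20669 L723073 q18861, e3 q20670 L723079 q18862, e3 q20671 L723090 q18865, trivial⟩ (by decide +kernel)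

theorem ce_i_323 : ∀ r, r < 64 → sm gi (Qf (20672 + r)) = Qf (tab Gen.i (20672 + r)) :=
  edges_tab (sm gi) Qf (tab Gen.i) 20672 [(20672, 18868), (20673, 18869), (20674, 18871), (20675, 18872), (20676, 18873), (20677, 22289), (20678, 18829), (20679, 22260), (20680, 22293), (20681, 22294), (20682, 18831), (20683, 22263), (20684, 18833), (20685, 22265), (20686, 22300), (20687, 18836), (20688, 22304), (20689, 22305), (20690, 18837), (20691, 22268), (20692, 22309), (20693, 22310), (20694, 18839), (20695, 22312), (20696, 18840), (20697, 22272), (20698, 22273), (20699, 22316), (20700, 18843), (20701, 22275), (20702, 22276), (20703, 18846), (20704, 22227), (20705, 22277), (20706, 22278), (20707, 22279), (20708, 19610), (20709, 18852), (20710, 19586), (20711, 22280), (20712, 18855), (20713, 22281), (20714, 22282), (20715, 22283), (20716, 18859), (20717, 22284), (20718, 22285), (20719, 22286), (20720, 19587), (20721, 22287), (20722, 21728), (20723, 19641), (20724, 22235), (20725, 22234), (20726, 22237), (20727, 21734), (20728, 22288),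 (20729, 20729), (20730, 20730), (20731, 20731), (20732, 20732), (20733, 20733), (20734, 20734), (20735, 22343)]
    ⟨e3 q20672 L723103 q18868, e3 q20673 L723110 q18869, e3 q20674 L723118 q18871, e3 q20675 L723124 q18872, e3 q20676 L723132 q18873, e3 q20677 L740342 q22289, e3 q20678 (flp_i L723140) q18829, e3 q20679 (flp_i L740047) q22260, e3 q20680 L740383 q22293, e3 q20681 L740395 q22294, e3 q20682 (flp_i L723176) q18831, e3 q20683 (flp_i L740082) q22263, e3 q20684 (flp_i L723196) q18833, e3 q20685 (flp_i L740100) q22265, e3 q20686 L740459 q22300, e3 q20687 (flp_i L723228) q18836, e3 q20688 L740512 q22304, e3 q20689 L740526 q22305, e3 q20690 (flp_i L723268) q18837, e3 q20691 (flp_i L740147) q22268, e3 q20692 L740573 q22309, e3 q20693 L740582 q22310, e3 q20694 (flp_i L723307) q18839, e3 q20695 L740598 q22312, e3 q20696 (flp_i L723325) q18840, e3 q20697 (flp_i L740181) q22272, e3 q20698 (flp_i L740189) q22273, e3 q20699 L740626 q22316, e3 q20700 (flp_i L723357) q18843, e3 q20701 (flp_i L740210) q22275, e3 q20702 (flp_i L740216)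 q22276, e3 q20703 (flp_i L723379) q18846, e3 q20704 (flp_i L739675) q22227, e3 q20705 (flp_i L740226) q22277, e3 q20706 (flp_i L740237) q22278, e3 q20707 (flp_i L740247) q22279, e3 q20708 L723442 q19610, e3 q20709 (flp_i L723444) q18852, e3 q20710 L723471 q19586, e3 q20711 (flp_i L740260) q22280, e3 q20712 (flp_i L723485) q18855, e3 q20713 (flp_i L740273) q22281, e3 q20714 (flp_i L740283) q22282, e3 q20715 (flp_i L740292) q22283, e3 q20716 (flp_i L723511) q18859, e3 q20717 (flp_i L740300) q22284, e3 q20718 (flp_i L740306) q22285, e3 q20719 (flp_i L740314) q22286, e3 q20720 L723543 q19587, e3 q20721 (flp_i L740325) q22287, e3 q20722 (flp_i L732938) q21728, e3 q20723 L723572 q19641, e3 q20724 (flp_i L739764) q22235, e3 q20725 (flp_i L739746) q22234, e3 q20726 (flp_i L739794) q22237, e3 q20727 (flp_i L733031) q21734, e3 q20728 (flp_i L740337) q22288, e3 q20729 L723623 q20729, e3 q20730 L723632 q20730, e3 q20731 L723637 q20731, e3 q20732 L723641 q20732, e3 q20733 L723651 q20733, e3 q20734 L723660 q20734, e3 q20735 L740864 q22343,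 trivial⟩ (by decide +kernel)

theorem ce_i_324 : ∀ r, r < 64 → sm gi (Qf (20736 + r)) = Qf (tab Gen.i (20736 + r)) :=
  edges_tab (sm gi) Qf (tab Gen.i) 20736 [(20736, 18883), (20737, 20737), (20738, 20738), (20739, 22347), (20740, 18887), (20741, 20741), (20742, 22349), (20743, 18889), (20744, 20744), (20745, 20745), (20746, 18892), (20747, 22353), (20748, 20748), (20749, 20749), (20750, 20750), (20751, 20751), (20752, 20752), (20753, 20753), (20754, 22358), (20755, 18908), (20756, 22360), (20757, 18910), (20758, 18911), (20759, 19754), (20760, 18913), (20761, 19763), (20762, 19347), (20763, 19350), (20764, 22365), (20765, 18918), (20766, 18920), (20767, 19747), (20768, 18922), (20769, 19758), (20770, 19765), (20771, 19770), (20772, 19771), (20773, 20773), (20774, 20774), (20775, 22374), (20776, 18933), (20777, 22376), (20778, 18935), (20779, 22378), (20780, 18936), (20781, 22123), (20782, 22381), (20783, 18938), (20784, 22383), (20785, 18940), (20786, 18958), (20787, 18942), (20788, 18967), (20789, 18945), (20790, 18970),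 (20791, 18976), (20792, 18977), (20793, 22390), (20794, 18951), (20795, 22392), (20796, 18952), (20797, 22382), (20798, 18954), (20799, 19725)]
    ⟨e3 q20736 (flp_i L723678) q18883, e3 q20737 L723700 q20737, e3 q20738 L723709 q20738, e3 q20739 L740902 q22347, e3 q20740 (flp_i L723723) q18887, e3 q20741 L723750 q20741, e3 q20742 L740933 q22349, e3 q20743 (flp_i L723763) q18889, e3 q20744 L723789 q20744, e3 q20745 L723800 q20745, e3 q20746 (flp_i L723803) q18892, e3 q20747 (flp_i L740986) q22353, e3 q20748 L723823 q20748, e3 q20749 L723828 q20749, e3 q20750 L723840 q20750, e3 q20751 L723846 q20751, e3 q20752 L723861 q20752, e3 q20753 L723879 q20753, e3 q20754 L741019 q22358, e3 q20755 (flp_i L723890) q18908, e3 q20756 L741043 q22360, e3 q20757 (flp_i L723918) q18910, e3 q20758 (flp_i L723931) q18911, e3 q20759 L723953 q19754, e3 q20760 (flp_i L723955) q18913, e3 q20761 L723980 q19763, e3 q20762 L723994 q19347, e3 q20763 L724005 q19350, e3 q20764 L741115 q22365, e3 q20765 (flp_i L724024) q18918, e3 q20766 (flp_i L724037) q18920,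 e3 q20767 L724059 q19747, e3 q20768 (flp_i L724061) q18922, e3 q20769 L724081 q19758, e3 q20770 L724094 q19765, e3 q20771 L724104 q19770, e3 q20772 L724112 q19771, e3 q20773 L724125 q20773, e3 q20774 L724136 q20774, e3 q20775 L741219 q22374, e3 q20776 (flp_i L724145) q18933, e3 q20777 L741238 q22376, e3 q20778 (flp_i L724164) q18935, e3 q20779 L741259 q22378, e3 q20780 (flp_i L724182) q18936, e3 q20781 (flp_i L738383) q22123, e3 q20782 L741291 q22381, e3 q20783 (flp_i L724213) q18938, e3 q20784 L741318 q22383, e3 q20785 (flp_i L724238) q18940, e3 q20786 L724260 q18958, e3 q20787 (flp_i L724262) q18942, e3 q20788 L724282 q18967, e3 q20789 (flp_i L724284) q18945, e3 q20790 L724306 q18970, e3 q20791 L724316 q18976, e3 q20792 L724324 q18977, e3 q20793 L741401 q22390, e3 q20794 (flp_i L724347) q18951, e3 q20795 L741434 q22392, e3 q20796 (flp_i L724371) q18952, e3 q20797 (flp_i L741316) q22382, e3 q20798 (flp_i L724388) q18954, e3 q20799 L724418 q19725, trivial⟩ (by decide +kernel)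

theorem ce_i_325 : ∀ r, r < 64 → sm gi (Qf (20800 + r)) = Qf (tab Gen.i (20800 + r)) :=
  edges_tab (sm gi) Qf (tab Gen.i) 20800 [(20800, 18956), (20801, 22384), (20802, 18959), (20803, 19403), (20804, 18961), (20805, 18962), (20806, 19726), (20807, 22401), (20808, 18965), (20809, 22385), (20810, 22386), (20811, 22387), (20812, 22388), (20813, 19366), (20814, 18974), (20815, 21868), (20816, 22389), (20817, 19514), (20818, 21871), (20819, 21872), (20820, 20820), (20821, 20821), (20822, 20822), (20823, 20823), (20824, 20824), (20825, 20825), (20826, 20826), (20827, 19767), (20828, 22416), (20829, 18993), (20830, 18995), (20831, 19007), (20832, 19009), (20833, 22419), (20834, 18999), (20835, 22421), (20836, 19001), (20837, 19002), (20838, 22417), (20839, 22424), (20840, 19004), (20841, 21873), (20842, 22418), (20843, 19952), (20844, 21874), (20845, 22430), (20846, 19012), (20847, 22433), (20848, 19014), (20849, 22435), (20850, 19015), (20851, 22188), (20852, 22438), (20853, 19017), (20854, 22441), (20855, 19019), (20856, 19037),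 (20857, 19021), (20858, 19045), (20859, 22445), (20860, 19024), (20861, 19051), (20862, 19055), (20863, 19056)]
    ⟨e3 q20800 (flp_i L724420) q18956, e3 q20801 (flp_i L741340) q22384, e3 q20802 (flp_i L724436) q18959, e3 q20803 L724466 q19403, e3 q20804 (flp_i L724468) q18961, e3 q20805 (flp_i L724484) q18962, e3 q20806 L724510 q19726, e3 q20807 L741543 q22401, e3 q20808 (flp_i L724524) q18965, e3 q20809 (flp_i L741352) q22385, e3 q20810 (flp_i L741360) q22386, e3 q20811 (flp_i L741374) q22387, e3 q20812 (flp_i L741383) q22388, e3 q20813 L724579 q19366, e3 q20814 (flp_i L724581) q18974, e3 q20815 (flp_i L734939) q21868, e3 q20816 (flp_i L741396) q22389, e3 q20817 L724617 q19514, e3 q20818 (flp_i L734982) q21871, e3 q20819 (flp_i L734992) q21872, e3 q20820 L724651 q20820, e3 q20821 L724658 q20821, e3 q20822 L724675 q20822, e3 q20823 L724684 q20823, e3 q20824 L724691 q20824, e3 q20825 L724696 q20825, e3 q20826 L724708 q20826, e3 q20827 L724723 q19767, e3 q20828 L741682 q22416, e3 q20829 (flp_i L724739) q18993, e3 q20830 (flp_i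 L724753) q18995, e3 q20831 L724771 q19007, e3 q20832 L724784 q19009, e3 q20833 L741722 q22419, e3 q20834 (flp_i L724796) q18999, e3 q20835 L741743 q22421, e3 q20836 (flp_i L724817) q19001, e3 q20837 (flp_i L724828) q19002, e3 q20838 (flp_i L741710) q22417, e3 q20839 L741773 q22424, e3 q20840 (flp_i L724853) q19004, e3 q20841 (flp_i L735013) q21873, e3 q20842 (flp_i L741720) q22418, e3 q20843 L724886 q19952, e3 q20844 (flp_i L735025) q21874, e3 q20845 L741826 q22430, e3 q20846 (flp_i L724907) q19012, e3 q20847 L741870 q22433, e3 q20848 (flp_i L724936) q19014, e3 q20849 L741899 q22435, e3 q20850 (flp_i L724958) q19015, e3 q20851 (flp_i L739203) q22188, e3 q20852 L741931 q22438, e3 q20853 (flp_i L724993) q19017, e3 q20854 L741974 q22441, e3 q20855 (flp_i L725020) q19019, e3 q20856 L725042 q19037, e3 q20857 (flp_i L725044) q19021, e3 q20858 L725064 q19045, e3 q20859 L742020 q22445, e3 q20860 (flp_i L725076) q19024, e3 q20861 L725098 q19051, e3 q20862 L725108 q19055, e3 q20863 L725116 q19056, trivial⟩ (by decide +kernel)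

theorem ce_i_326 : ∀ r, r < 64 → sm gi (Qf (20864 + r)) = Qf (tab Gen.i (20864 + r)) :=
  edges_tab (sm gi) Qf (tab Gen.i) 20864 [(20864, 19058), (20865, 22451), (20866, 19030), (20867, 22453), (20868, 19031), (20869, 22439), (20870, 22456), (20871, 22458), (20872, 19033), (20873, 19872), (20874, 22460), (20875, 19035), (20876, 22442), (20877, 22464), (20878, 19038), (20879, 19885), (20880, 22467), (20881, 22468), (20882, 19040), (20883, 19041), (20884, 19895), (20885, 22443), (20886, 22444), (20887, 22474), (20888, 19046), (20889, 19907), (20890, 19049), (20891, 22446), (20892, 22447), (20893, 19919), (20894, 19918), (20895, 22448), (20896, 22449), (20897, 19406), (20898, 20898), (20899, 20899), (20900, 20900), (20901, 20901), (20902, 20902), (20903, 19064), (20904, 19067), (20905, 22489), (20906, 19069), (20907, 22490), (20908, 19071), (20909, 19073), (20910, 22492), (20911, 22493), (20912, 19075), (20913, 22496), (20914, 22498), (20915, 19077), (20916, 22501), (20917, 19078), (20918, 22250), (20919, 22504), (20920, 22507),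 (20921, 19080), (20922, 22511), (20923, 22513), (20924, 19081), (20925, 22256), (20926, 22516), (20927, 19083)]
    ⟨e3 q20864 L725129 q19058, e3 q20865 L742091 q22451, e3 q20866 (flp_i L725147) q19030, e3 q20867 L742122 q22453, e3 q20868 (flp_i L725169) q19031, e3 q20869 (flp_i L741962) q22439, e3 q20870 L742154 q22456, e3 q20871 L742178 q22458, e3 q20872 (flp_i L725214) q19033, e3 q20873 L725240 q19872, e3 q20874 L742206 q22460, e3 q20875 (flp_i L725248) q19035, e3 q20876 (flp_i L741996) q22442, e3 q20877 L742246 q22464, e3 q20878 (flp_i L725278) q19038, e3 q20879 L725300 q19885, e3 q20880 L742283 q22467, e3 q20881 L742292 q22468, e3 q20882 (flp_i L725323) q19040, e3 q20883 (flp_i L725333) q19041, e3 q20884 L725353 q19895, e3 q20885 (flp_i L742008) q22443, e3 q20886 (flp_i L742016) q22444, e3 q20887 L742348 q22474, e3 q20888 (flp_i L725381) q19046, e3 q20889 L725407 q19907, e3 q20890 (flp_i L725409) q19049, e3 q20891 (flp_i L742040) q22446, e3 q20892 (flp_i L742049) q22447, e3 q20893 L725443 q19919, e3 q20894 L725451 q19918,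 e3 q20895 (flp_i L742060) q22448, e3 q20896 (flp_i L742072) q22449, e3 q20897 L725480 q19406, e3 q20898 L725492 q20898, e3 q20899 L725501 q20899, e3 q20900 L725511 q20900, e3 q20901 L725519 q20901, e3 q20902 L725525 q20902, e3 q20903 (flp_i L725526) q19064, e3 q20904 (flp_i L725544) q19067, e3 q20905 L742497 q22489, e3 q20906 (flp_i L725568) q19069, e3 q20907 L742510 q22490, e3 q20908 (flp_i L725596) q19071, e3 q20909 (flp_i L725607) q19073, e3 q20910 (flp_i L742548) q22492, e3 q20911 L742550 q22493, e3 q20912 (flp_i L725643) q19075, e3 q20913 L742592 q22496, e3 q20914 L742620 q22498, e3 q20915 (flp_i L725678) q19077, e3 q20916 L742650 q22501, e3 q20917 (flp_i L725696) q19078, e3 q20918 (flp_i L739947) q22250, e3 q20919 L742677 q22504, e3 q20920 L742717 q22507, e3 q20921 (flp_i L725726) q19080, e3 q20922 L742764 q22511, e3 q20923 L742787 q22513, e3 q20924 (flp_i L725752) q19081, e3 q20925 (flp_i L740000) q22256, e3 q20926 L742809 q22516, e3 q20927 (flp_i L725778) q19083, trivial⟩ (by decide +kernel)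

theorem ce_i_327 : ∀ r, r < 64 → sm gi (Qf (20928 + r)) = Qf (tab Gen.i (20928 + r)) :=
  edges_tab (sm gi) Qf (tab Gen.i) 20928 [(20928, 22258), (20929, 22519), (20930, 19086), (20931, 22522), (20932, 19087), (20933, 19132), (20934, 22524), (20935, 19089), (20936, 22527), (20937, 19090), (20938, 19139), (20939, 22530), (20940, 19092), (20941, 19142), (20942, 22533), (20943, 19095), (20944, 19148), (20945, 22536), (20946, 22537), (20947, 19097), (20948, 22539), (20949, 19098), (20950, 19154), (20951, 22542), (20952, 19101), (20953, 19158), (20954, 19159), (20955, 19163), (20956, 22546), (20957, 19105), (20958, 19166), (20959, 22549), (20960, 19108), (20961, 19170), (20962, 19171), (20963, 22553), (20964, 19112), (20965, 19179), (20966, 19180), (20967, 19115), (20968, 19183), (20969, 19184), (20970, 19185), (20971, 19119), (20972, 19191), (20973, 19195), (20974, 19196), (20975, 19197), (20976, 19198), (20977, 22564), (20978, 19127), (20979, 22566), (20980, 22568), (20981, 19128), (20982, 22520), (20983, 22571), (20984, 19130),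 (20985, 22523), (20986, 22574), (20987, 19133), (20988, 22577), (20989, 22578), (20990, 19134), (20991, 22525)]
    ⟨e3 q20928 (flp_i L740021) q22258, e3 q20929 L742831 q22519, e3 q20930 (flp_i L725805) q19086, e3 q20931 L742871 q22522, e3 q20932 (flp_i L725825) q19087, e3 q20933 L725840 q19132, e3 q20934 L742888 q22524, e3 q20935 (flp_i L725854) q19089, e3 q20936 L742932 q22527, e3 q20937 (flp_i L725880) q19090, e3 q20938 L725904 q19139, e3 q20939 L742970 q22530, e3 q20940 (flp_i L725912) q19092, e3 q20941 L725926 q19142, e3 q20942 L742992 q22533, e3 q20943 (flp_i L725940) q19095, e3 q20944 L725958 q19148, e3 q20945 L743032 q22536, e3 q20946 L743044 q22537, e3 q20947 (flp_i L725982) q19097, e3 q20948 L743066 q22539, e3 q20949 (flp_i L726008) q19098, e3 q20950 L726028 q19154, e3 q20951 L743102 q22542, e3 q20952 (flp_i L726038) q19101, e3 q20953 L726052 q19158, e3 q20954 L726058 q19159, e3 q20955 L726071 q19163, e3 q20956 L743132 q22546, e3 q20957 (flp_i L726088) q19105, e3 q20958 L726111 q19166, e3 q20959 L743174 q22549, e3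 q20960 (flp_i L726125) q19108, e3 q20961 L726137 q19170, e3 q20962 L726144 q19171, e3 q20963 L743214 q22553, e3 q20964 (flp_i L726163) q19112, e3 q20965 L726185 q19179, e3 q20966 L726193 q19180, e3 q20967 (flp_i L726201) q19115, e3 q20968 L726214 q19183, e3 q20969 L726220 q19184, e3 q20970 L726230 q19185, e3 q20971 (flp_i L726234) q19119, e3 q20972 L726261 q19191, e3 q20973 L726270 q19195, e3 q20974 L726276 q19196, e3 q20975 L726287 q19197, e3 q20976 L726303 q19198, e3 q20977 L743338 q22564, e3 q20978 (flp_i L726319) q19127, e3 q20979 L743365 q22566, e3 q20980 L743390 q22568, e3 q20981 (flp_i L726351) q19128, e3 q20982 (flp_i L742858) q22520, e3 q20983 L743426 q22571, e3 q20984 (flp_i L726375) q19130, e3 q20985 (flp_i L742886) q22523, e3 q20986 L743446 q22574, e3 q20987 (flp_i L726404) q19133, e3 q20988 L743491 q22577, e3 q20989 L743507 q22578, e3 q20990 (flp_i L726444) q19134, e3 q20991 (flp_i L742912) q22525, trivial⟩ (by decide +kernel)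

theorem ce_i_328 : ∀ r, r < 64 → sm gi (Qf (20992 + r)) = Qf (tab Gen.i (20992 + r)) :=
  edges_tab (sm gi) Qf (tab Gen.i) 20992 [(20992, 22583), (20993, 22584), (20994, 19136), (20995, 22587), (20996, 19137), (20997, 22528), (20998, 19791), (20999, 22591), (21000, 19140), (21001, 22531), (21002, 22532), (21003, 19143), (21004, 22002), (21005, 22597), (21006, 19145), (21007, 22599), (21008, 19146), (21009, 22534), (21010, 19797), (21011, 22605), (21012, 22606), (21013, 19149), (21014, 19150), (21015, 22608), (21016, 22610), (21017, 19152), (21018, 22540), (21019, 22541), (21020, 19800), (21021, 19156), (21022, 22543), (21023, 22544), (21024, 22545), (21025, 19966), (21026, 19161), (21027, 21994), (21028, 19803), (21029, 22623), (21030, 19164), (21031, 22547), (21032, 22548), (21033, 19345), (21034, 19168), (21035, 22550), (21036, 22551), (21037, 22552), (21038, 22633), (21039, 19173), (21040, 21977), (21041, 22001), (21042, 19177), (21043, 22554), (21044, 22555), (21045, 19515), (21046, 19348), (21047, 19341), (21048, 22556),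 (21049, 22557), (21050, 22558), (21051, 22559), (21052, 22560), (21053, 19186), (21054, 19506), (21055, 22561)]
    ⟨e3 q20992 L743567 q22583, e3 q20993 L743576 q22584, e3 q20994 (flp_i L726481) q19136, e3 q20995 L743608 q22587, e3 q20996 (flp_i L726495) q19137, e3 q20997 (flp_i L742956) q22528, e3 q20998 L726521 q19791, e3 q20999 L743642 q22591, e3 q21000 (flp_i L726533) q19140, e3 q21001 (flp_i L742984) q22531, e3 q21002 (flp_i L742990) q22532, e3 q21003 (flp_i L726551) q19143, e3 q21004 (flp_i L736714) q22002, e3 q21005 L743685 q22597, e3 q21006 (flp_i L726574) q19145, e3 q21007 L743702 q22599, e3 q21008 (flp_i L726598) q19146, e3 q21009 (flp_i L743014) q22534, e3 q21010 L726622 q19797, e3 q21011 L743758 q22605, e3 q21012 L743767 q22606, e3 q21013 (flp_i L726638) q19149, e3 q21014 (flp_i L726645) q19150, e3 q21015 (flp_i L743783) q22608, e3 q21016 L743791 q22610, e3 q21017 (flp_i L726665) q19152, e3 q21018 (flp_i L743090) q22540, e3 q21019 (flp_i L743098) q22541, e3 q21020 L726697 q19800, e3 q21021 (flp_i L726699) q19156,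 e3 q21022 (flp_i L743118) q22543, e3 q21023 (flp_i L743124) q22544, e3 q21024 (flp_i L743130) q22545, e3 q21025 L726732 q19966, e3 q21026 (flp_i L726734) q19161, e3 q21027 (flp_i L736611) q21994, e3 q21028 L726763 q19803, e3 q21029 L743887 q22623, e3 q21030 (flp_i L726779) q19164, e3 q21031 (flp_i L743157) q22547, e3 q21032 (flp_i L743166) q22548, e3 q21033 L726812 q19345, e3 q21034 (flp_i L726814) q19168, e3 q21035 (flp_i L743191) q22550, e3 q21036 (flp_i L743199) q22551, e3 q21037 (flp_i L743210) q22552, e3 q21038 L743976 q22633, e3 q21039 (flp_i L726860) q19173, e3 q21040 (flp_i L736410) q21977, e3 q21041 (flp_i L736690) q22001, e3 q21042 (flp_i L726886) q19177, e3 q21043 (flp_i L743242) q22554, e3 q21044 (flp_i L743250) q22555, e3 q21045 L726913 q19515, e3 q21046 L726928 q19348, e3 q21047 L726940 q19341, e3 q21048 (flp_i L743262) q22556, e3 q21049 (flp_i L743270) q22557, e3 q21050 (flp_i L743278) q22558, e3 q21051 (flp_i L743285) q22559, e3 q21052 (flp_i L743296) q22560, e3 q21053 (flp_i L726972) q19186, e3 q21054 L726998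 q19506, e3 q21055 (flp_i L743313) q22561, trivial⟩ (by decide +kernel)

theorem ce_i_329 : ∀ r, r < 64 → sm gi (Qf (21056 + r)) = Qf (tab Gen.i (21056 + r)) :=
  edges_tab (sm gi) Qf (tab Gen.i) 21056 [(21056, 22011), (21057, 21836), (21058, 22562), (21059, 22563), (21060, 21834), (21061, 21061), (21062, 21062), (21063, 21063), (21064, 21064), (21065, 21065), (21066, 21066), (21067, 21067), (21068, 21068), (21069, 21069), (21070, 21070), (21071, 21071), (21072, 21072), (21073, 19212), (21074, 19216), (21075, 19217), (21076, 22663), (21077, 19256), (21078, 22452), (21079, 19257), (21080, 19225), (21081, 22664), (21082, 19260), (21083, 19261), (21084, 19262), (21085, 21085), (21086, 19238), (21087, 21087), (21088, 19241), (21089, 19242), (21090, 21090), (21091, 19244), (21092, 21092), (21093, 21093), (21094, 19250), (21095, 19252), (21096, 22678), (21097, 19259), (21098, 22679), (21099, 22680), (21100, 22667), (21101, 22668), (21102, 19563), (21103, 19561), (21104, 19564), (21105, 19273), (21106, 19278), (21107, 22685), (21108,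 19280), (21109, 19602), (21110, 19283), (21111, 21757), (21112, 19634), (21113, 19306), (21114, 19323), (21115, 19292), (21116, 19693), (21117, 19294), (21118, 19689), (21119, 19680)]
    ⟨e3 q21056 (flp_i L736814) q22011, e3 q21057 (flp_i L734497) q21836, e3 q21058 (flp_i L743320) q22562, e3 q21059 (flp_i L743332) q22563, e3 q21060 (flp_i L734460) q21834, e3 q21061 L727064 q21061, e3 q21062 L727070 q21062, e3 q21063 L727077 q21063, e3 q21064 L727083 q21064, e3 q21065 L727092 q21065, e3 q21066 L727099 q21066, e3 q21067 L727106 q21067, e3 q21068 L727114 q21068, e3 q21069 L727122 q21069, e3 q21070 L727127 q21070, e3 q21071 L727137 q21071, e3 q21072 L727147 q21072, e3 q21073 (flp_i L727151) q19212, e3 q21074 L727174 q19216, e3 q21075 (flp_i L727178) q19217, e3 q21076 (flp_i L744255) q22663, e3 q21077 L727204 q19256, e3 q21078 (flp_i L742120) q22452, e3 q21079 L727221 q19257, e3 q21080 L727230 q19225, e3 q21081 (flp_i L744266) q22664, e3 q21082 L727250 q19260, e3 q21083 L727264 q19261, e3 q21084 L727274 q19262, e3 q21085 L727293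 q21085, e3 q21086 (flp_i L727294) q19238, e3 q21087 L727319 q21087, e3 q21088 (flp_i L727320) q19241, e3 q21089 (flp_i L727334) q19242, e3 q21090 L727357 q21090, e3 q21091 (flp_i L727358) q19244, e3 q21092 L727386 q21092, e3 q21093 L727392 q21093, e3 q21094 (flp_i L727393) q19250, e3 q21095 (flp_i L727407) q19252, e3 q21096 (flp_i L744435) q22678, e3 q21097 L727440 q19259, e3 q21098 (flp_i L744444) q22679, e3 q21099 (flp_i L744457) q22680, e3 q21100 (flp_i L744301) q22667, e3 q21101 (flp_i L744313) q22668, e3 q21102 L727499 q19563, e3 q21103 L727513 q19561, e3 q21104 L727521 q19564, e3 q21105 (flp_i L727524) q19273, e3 q21106 L727550 q19278, e3 q21107 (flp_i L744524) q22685, e3 q21108 (flp_i L727562) q19280, e3 q21109 L727588 q19602, e3 q21110 (flp_i L727590) q19283, e3 q21111 (flp_i L733403) q21757, e3 q21112 L727622 q19634, e3 q21113 L727634 q19306, e3 q21114 L727646 q19323, e3 q21115 (flp_i L727648) q19292, e3 q21116 L727668 q19693, e3 q21117 (flp_i L727670) q19294, e3 q21118 L727688 q19689, e3 q21119 L727700 q19680, trivial⟩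 (by decide +kernel)

theorem ce_i_330 : ∀ r, r < 64 → sm gi (Qf (21120 + r)) = Qf (tab Gen.i (21120 + r)) :=
  edges_tab (sm gi) Qf (tab Gen.i) 21120 [(21120, 22694), (21121, 19298), (21122, 21743), (21123, 22696), (21124, 19300), (21125, 22698), (21126, 19301), (21127, 21745), (21128, 19304), (21129, 19665), (21130, 22690), (21131, 19686), (21132, 19309), (21133, 19682), (21134, 19312), (21135, 19664), (21136, 19683), (21137, 19660), (21138, 21744), (21139, 21746), (21140, 19698), (21141, 21732), (21142, 21878), (21143, 22709), (21144, 19327), (21145, 19328), (21146, 19384), (21147, 19330), (21148, 19336), (21149, 19342), (21150, 22712), (21151, 22715), (21152, 19337), (21153, 19338), (21154, 22361), (21155, 22615), (21156, 22640), (21157, 22713), (21158, 19343), (21159, 22363), (21160, 22627), (21161, 19524), (21162, 22364), (21163, 21163), (21164, 21164), (21165, 21165), (21166, 21166), (21167, 21167), (21168, 21168), (21169, 21169), (21170, 19363), (21171, 19728), (21172, 22399), (21173, 22729), (21174, 19368), (21175,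 19390), (21176, 19392), (21177, 19396), (21178, 19402), (21179, 22735), (21180, 22736), (21181, 19376), (21182, 22738), (21183, 19377)]
    ⟨e3 q21120 L744620 q22694, e3 q21121 (flp_i L727716) q19298, e3 q21122 (flp_i L733172) q21743, e3 q21123 L744644 q22696, e3 q21124 (flp_i L727755) q19300, e3 q21125 L744673 q22698, e3 q21126 (flp_i L727783) q19301, e3 q21127 (flp_i L733208) q21745, e3 q21128 (flp_i L727799) q19304, e3 q21129 L727819 q19665, e3 q21130 (flp_i L744582) q22690, e3 q21131 L727839 q19686, e3 q21132 (flp_i L727841) q19309, e3 q21133 L727864 q19682, e3 q21134 (flp_i L727866) q19312, e3 q21135 L727883 q19664, e3 q21136 L727891 q19683, e3 q21137 L727902 q19660, e3 q21138 (flp_i L733186) q21744, e3 q21139 (flp_i L733228) q21746, e3 q21140 L727919 q19698, e3 q21141 (flp_i L733004) q21732, e3 q21142 (flp_i L735092) q21878, e3 q21143 L744778 q22709, e3 q21144 (flp_i L727959) q19327, e3 q21145 (flp_i L727970) q19328, e3 q21146 L727996 q19384, e3 q21147 (flp_i L727998) q19330, e3 q21148 L728024 q19336, e3 q21149 L728036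 q19342, e3 q21150 (flp_i L744828) q22712, e3 q21151 L744854 q22715, e3 q21152 (flp_i L728064) q19337, e3 q21153 (flp_i L728078) q19338, e3 q21154 (flp_i L741071) q22361, e3 q21155 (flp_i L743839) q22615, e3 q21156 (flp_i L744048) q22640, e3 q21157 (flp_i L744838) q22713, e3 q21158 (flp_i L728126) q19343, e3 q21159 (flp_i L741098) q22363, e3 q21160 (flp_i L743935) q22627, e3 q21161 L728175 q19524, e3 q21162 (flp_i L741108) q22364, e3 q21163 L728197 q21163, e3 q21164 L728204 q21164, e3 q21165 L728211 q21165, e3 q21166 L728225 q21166, e3 q21167 L728233 q21167, e3 q21168 L728245 q21168, e3 q21169 L728256 q21169, e3 q21170 (flp_i L728257) q19363, e3 q21171 L728283 q19728, e3 q21172 (flp_i L741531) q22399, e3 q21173 L744997 q22729, e3 q21174 (flp_i L728300) q19368, e3 q21175 L728316 q19390, e3 q21176 L728324 q19392, e3 q21177 L728337 q19396, e3 q21178 L728345 q19402, e3 q21179 L745057 q22735, e3 q21180 L745070 q22736, e3 q21181 (flp_i L728373) q19376, e3 q21182 L745095 q22738, e3 q21183 (flp_i L728391) q19377, trivial⟩ (by decide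 +kernel)

theorem ce_i_331 : ∀ r, r < 64 → sm gi (Qf (21184 + r)) = Qf (tab Gen.i (21184 + r)) :=
  edges_tab (sm gi) Qf (tab Gen.i) 21184 [(21184, 21781), (21185, 22740), (21186, 19379), (21187, 22743), (21188, 22744), (21189, 19380), (21190, 22710), (21191, 19382), (21192, 22711), (21193, 22749), (21194, 19385), (21195, 21829), (21196, 22752), (21197, 19387), (21198, 19388), (21199, 22730), (21200, 22731), (21201, 22397), (21202, 22732), (21203, 21823), (21204, 19394), (21205, 19996), (21206, 22733), (21207, 19779), (21208, 21830), (21209, 21813), (21210, 21828), (21211, 22481), (21212, 21835), (21213, 19407), (21214, 21214), (21215, 21215), (21216, 19411), (21217, 21217), (21218, 21218), (21219, 21219), (21220, 19416), (21221, 21221), (21222, 21222), (21223, 21921), (21224, 21224), (21225, 21225), (21226, 21226), (21227, 21227), (21228, 21228), (21229, 21229), (21230, 21230), (21231, 22781), (21232, 22782), (21233, 19429), (21234, 22784), (21235, 19430), (21236, 19905), (21237, 19875), (21238, 22789), (21239, 19434), (21240,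 19435), (21241, 19469), (21242, 22793), (21243, 19437), (21244, 22796), (21245, 19438), (21246, 19475), (21247, 19477)]
    ⟨e3 q21184 (flp_i L733738) q21781, e3 q21185 L745110 q22740, e3 q21186 (flp_i L728414) q19379, e3 q21187 L745137 q22743, e3 q21188 L745151 q22744, e3 q21189 (flp_i L728448) q19380, e3 q21190 (flp_i L744800) q22710, e3 q21191 (flp_i L728468) q19382, e3 q21192 (flp_i L744814) q22711, e3 q21193 L745207 q22749, e3 q21194 (flp_i L728498) q19385, e3 q21195 (flp_i L734405) q21829, e3 q21196 L745235 q22752, e3 q21197 (flp_i L728525) q19387, e3 q21198 (flp_i L728537) q19388, e3 q21199 (flp_i L745012) q22730, e3 q21200 (flp_i L745020) q22731, e3 q21201 (flp_i L741499) q22397, e3 q21202 (flp_i L745029) q22732, e3 q21203 (flp_i L734324) q21823, e3 q21204 (flp_i L728588) q19394, e3 q21205 L728610 q19996, e3 q21206 (flp_i L745040) q22733, e3 q21207 L728635 q19779, e3 q21208 (flp_i L734415) q21830, e3 q21209 (flp_i L734197) q21813, e3 q21210 (flp_i L734385) q21828, e3 q21211 (flp_i L742434) q22481, e3 q21212 (flp_i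 L734478) q21835, e3 q21213 (flp_i L728683) q19407, e3 q21214 L728710 q21214, e3 q21215 L728720 q21215, e3 q21216 (flp_i L728721) q19411, e3 q21217 L728747 q21217, e3 q21218 L728756 q21218, e3 q21219 L728770 q21219, e3 q21220 (flp_i L728771) q19416, e3 q21221 L728790 q21221, e3 q21222 L728799 q21222, e3 q21223 (flp_i L735679) q21921, e3 q21224 L728816 q21224, e3 q21225 L728823 q21225, e3 q21226 L728835 q21226, e3 q21227 L728843 q21227, e3 q21228 L728853 q21228, e3 q21229 L728863 q21229, e3 q21230 L728872 q21230, e3 q21231 L745517 q22781, e3 q21232 L745530 q22782, e3 q21233 (flp_i L728898) q19429, e3 q21234 L745554 q22784, e3 q21235 (flp_i L728918) q19430, e3 q21236 L728936 q19905, e3 q21237 L728948 q19875, e3 q21238 L745605 q22789, e3 q21239 (flp_i L728958) q19434, e3 q21240 (flp_i L728966) q19435, e3 q21241 L728983 q19469, e3 q21242 L745641 q22793, e3 q21243 (flp_i L728997) q19437, e3 q21244 L745676 q22796, e3 q21245 (flp_i L729017) q19438, e3 q21246 L729035 q19475, e3 q21247 L729047 q19477, trivial⟩ (by decide +kernel)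

theorem ce_i_332 : ∀ r, r < 64 → sm gi (Qf (21248 + r)) = Qf (tab Gen.i (21248 + r)) :=
  edges_tab (sm gi) Qf (tab Gen.i) 21248 [(21248, 22800), (21249, 22801), (21250, 19442), (21251, 19483), (21252, 22804), (21253, 22805), (21254, 19444), (21255, 19445), (21256, 19489), (21257, 19490), (21258, 19448), (21259, 19493), (21260, 19494), (21261, 19499), (21262, 19502), (21263, 19453), (21264, 19509), (21265, 19510), (21266, 19513), (21267, 19517), (21268, 19526), (21269, 22815), (21270, 19465), (21271, 22790), (21272, 19467), (21273, 22791), (21274, 22820), (21275, 19470), (21276, 22794), (21277, 22824), (21278, 22825), (21279, 19472), (21280, 19473), (21281, 22797), (21282, 22798), (21283, 19814), (21284, 22799), (21285, 22832), (21286, 19478), (21287, 22634), (21288, 22834), (21289, 22835), (21290, 19480), (21291, 22837), (21292, 19481), (21293, 22802), (21294, 22803), (21295, 22841), (21296, 22842), (21297, 19484), (21298, 19485), (21299, 22844), (21300, 22846), (21301, 19487), (21302, 22807), (21303, 22808), (21304, 22809),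 (21305, 19491), (21306, 22810), (21307, 22811), (21308, 22812), (21309, 22856), (21310, 19495), (21311, 22647)]
    ⟨e3 q21248 L745720 q22800, e3 q21249 L745727 q22801, e3 q21250 (flp_i L729070) q19442, e3 q21251 L729086 q19483, e3 q21252 L745762 q22804, e3 q21253 L745774 q22805, e3 q21254 (flp_i L729103) q19444, e3 q21255 (flp_i L729108) q19445, e3 q21256 L729124 q19489, e3 q21257 L729130 q19490, e3 q21258 (flp_i L729133) q19448, e3 q21259 L729155 q19493, e3 q21260 L729161 q19494, e3 q21261 L729174 q19499, e3 q21262 L729181 q19502, e3 q21263 (flp_i L729184) q19453, e3 q21264 L729214 q19509, e3 q21265 L729222 q19510, e3 q21266 L729233 q19513, e3 q21267 L729245 q19517, e3 q21268 L729256 q19526, e3 q21269 L745859 q22815, e3 q21270 (flp_i L729263) q19465, e3 q21271 (flp_i L745620) q22790, e3 q21272 (flp_i L729278) q19467, e3 q21273 (flp_i L745630) q22791, e3 q21274 L745896 q22820, e3 q21275 (flp_i L729305) q19470, e3 q21276 (flp_i L745663) q22794, e3 q21277 L745941 q22824, e3 q21278 L745952 q22825, e3 q21279 (flp_i L729340) q19472,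 e3 q21280 (flp_i L729348) q19473, e3 q21281 (flp_i L745697) q22797, e3 q21282 (flp_i L745705) q22798, e3 q21283 L729384 q19814, e3 q21284 (flp_i L745716) q22799, e3 q21285 L746002 q22832, e3 q21286 (flp_i L729406) q19478, e3 q21287 (flp_i L744003) q22634, e3 q21288 L746024 q22834, e3 q21289 L746033 q22835, e3 q21290 (flp_i L729435) q19480, e3 q21291 L746045 q22837, e3 q21292 (flp_i L729457) q19481, e3 q21293 (flp_i L745751) q22802, e3 q21294 (flp_i L745759) q22803, e3 q21295 L746079 q22841, e3 q21296 L746092 q22842, e3 q21297 (flp_i L729499) q19484, e3 q21298 (flp_i L729506) q19485, e3 q21299 (flp_i L746106) q22844, e3 q21300 L746112 q22846, e3 q21301 (flp_i L729520) q19487, e3 q21302 (flp_i L745792) q22807, e3 q21303 (flp_i L745796) q22808, e3 q21304 (flp_i L745801) q22809, e3 q21305 (flp_i L729542) q19491, e3 q21306 (flp_i L745813) q22810, e3 q21307 (flp_i L745823) q22811, e3 q21308 (flp_i L745829) q22812, e3 q21309 L746168 q22856, e3 q21310 (flp_i L729579) q19495, e3 q21311 (flp_i L744113) q22647, trivial⟩ (by decide +kernel)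

theorem ce_i_333 : ∀ r, r < 64 → sm gi (Qf (21312 + r)) = Qf (tab Gen.i (21312 + r)) :=
  edges_tab (sm gi) Qf (tab Gen.i) 21312 [(21312, 19497), (21313, 19997), (21314, 22813), (21315, 19813), (21316, 19998), (21317, 22626), (21318, 19504), (21319, 19922), (21320, 19507), (21321, 22814), (21322, 22013), (21323, 19511), (21324, 22716), (21325, 22408), (21326, 22638), (21327, 22494), (21328, 19923), (21329, 19519), (21330, 19911), (21331, 22722), (21332, 22003), (21333, 21333), (21334, 21334), (21335, 19529), (21336, 22873), (21337, 21337), (21338, 21338), (21339, 19534), (21340, 22877), (21341, 21341), (21342, 21342), (21343, 19539), (21344, 22880), (21345, 21345), (21346, 21346), (21347, 21347), (21348, 22082), (21349, 21349), (21350, 21350), (21351, 19553), (21352, 21711), (21353, 22885), (21354, 21354), (21355, 19557), (21356, 22084), (21357, 19567), (21358, 19570), (21359, 22684), (21360, 21710), (21361, 22683), (21362, 22059), (21363, 22080), (21364, 22068), (21365, 19576), (21366, 19584), (21367, 19579), (21368, 19612),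 (21369, 19581), (21370, 22323), (21371, 22888), (21372, 22324), (21373, 22336), (21374, 21374), (21375, 21375)]
    ⟨e3 q21312 (flp_i L729602) q19497, e3 q21313 L729624 q19997, e3 q21314 (flp_i L745838) q22813, e3 q21315 L729645 q19813, e3 q21316 L729652 q19998, e3 q21317 (flp_i L743919) q22626, e3 q21318 (flp_i L729662) q19504, e3 q21319 L729687 q19922, e3 q21320 (flp_i L729689) q19507, e3 q21321 (flp_i L745857) q22814, e3 q21322 (flp_i L736849) q22013, e3 q21323 (flp_i L729717) q19511, e3 q21324 (flp_i L744880) q22716, e3 q21325 (flp_i L741615) q22408, e3 q21326 (flp_i L744032) q22638, e3 q21327 (flp_i L742576) q22494, e3 q21328 L729760 q19923, e3 q21329 (flp_i L729763) q19519, e3 q21330 L729789 q19911, e3 q21331 (flp_i L744935) q22722, e3 q21332 (flp_i L736728) q22003, e3 q21333 L729808 q21333, e3 q21334 L729819 q21334, e3 q21335 (flp_i L729822) q19529, e3 q21336 (flp_i L746339) q22873, e3 q21337 L729838 q21337, e3 q21338 L729843 q21338, e3 q21339 (flp_i L729844) q19534, e3 q21340 (flp_i L746367) q22877, e3 q21341 L729860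 q21341, e3 q21342 L729865 q21342, e3 q21343 L729869 q19539, e3 q21344 (flp_i L746386) q22880, e3 q21345 L729878 q21345, e3 q21346 L729883 q21346, e3 q21347 L729891 q21347, e3 q21348 (flp_i L737803) q22082, e3 q21349 L729912 q21349, e3 q21350 L729921 q21350, e3 q21351 L729927 q19553, e3 q21352 (flp_i L732659) q21711, e3 q21353 (flp_i L746421) q22885, e3 q21354 L729952 q21354, e3 q21355 L729959 q19557, e3 q21356 (flp_i L737830) q22084, e3 q21357 L729976 q19567, e3 q21358 L729984 q19570, e3 q21359 (flp_i L744507) q22684, e3 q21360 (flp_i L732639) q21710, e3 q21361 (flp_i L744494) q22683, e3 q21362 (flp_i L737489) q22059, e3 q21363 (flp_i L737779) q22080, e3 q21364 (flp_i L737628) q22068, e3 q21365 (flp_i L730029) q19576, e3 q21366 L730055 q19584, e3 q21367 (flp_i L730057) q19579, e3 q21368 L730083 q19612, e3 q21369 (flp_i L730085) q19581, e3 q21370 (flp_i L740697) q22323, e3 q21371 (flp_i L746450) q22888, e3 q21372 (flp_i L740709) q22324, e3 q21373 (flp_i L740802) q22336, e3 q21374 L730136 q21374, e3 q21375 L730143 q21375, trivial⟩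 (by decide +kernel)

theorem ce_i_334 : ∀ r, r < 64 → sm gi (Qf (21376 + r)) = Qf (tab Gen.i (21376 + r)) :=
  edges_tab (sm gi) Qf (tab Gen.i) 21376 [(21376, 21376), (21377, 21377), (21378, 22898), (21379, 19594), (21380, 19606), (21381, 19608), (21382, 19611), (21383, 19615), (21384, 19617), (21385, 22687), (21386, 22905), (21387, 22906), (21388, 19603), (21389, 19604), (21390, 22899), (21391, 22900), (21392, 22889), (21393, 22901), (21394, 22301), (21395, 21765), (21396, 22902), (21397, 21769), (21398, 21739), (21399, 22236), (21400, 19618), (21401, 22917), (21402, 21402), (21403, 21403), (21404, 21404), (21405, 21405), (21406, 22922), (21407, 19624), (21408, 19636), (21409, 19637), (21410, 19638), (21411, 19640), (21412, 19631), (21413, 22091), (21414, 22688), (21415, 22923), (21416, 22924), (21417, 22925), (21418, 22337), (21419, 21419), (21420, 21420), (21421, 19645), (21422, 19671), (21423, 22935), (21424, 19647), (21425, 19676), (21426, 19677), (21427, 19681), (21428, 19687), (21429, 19691), (21430, 19699), (21431,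 19656), (21432, 22706), (21433, 19658), (21434, 22701), (21435, 19661), (21436, 22704), (21437, 22699), (21438, 22707), (21439, 22702)]
    ⟨e3 q21376 L730154 q21376, e3 q21377 L730163 q21377, e3 q21378 L746535 q22898, e3 q21379 (flp_i L730168) q19594, e3 q21380 L730180 q19606, e3 q21381 L730186 q19608, e3 q21382 L730192 q19611, e3 q21383 L730201 q19615, e3 q21384 L730209 q19617, e3 q21385 (flp_i L744550) q22687, e3 q21386 L746589 q22905, e3 q21387 L746598 q22906, e3 q21388 (flp_i L730232) q19603, e3 q21389 (flp_i L730240) q19604, e3 q21390 (flp_i L746546) q22899, e3 q21391 (flp_i L746552) q22900, e3 q21392 (flp_i L746464) q22889, e3 q21393 (flp_i L746559) q22901, e3 q21394 (flp_i L740485) q22301, e3 q21395 (flp_i L733511) q21765, e3 q21396 (flp_i L746570) q22902, e3 q21397 (flp_i L733573) q21769, e3 q21398 (flp_i L733105) q21739, e3 q21399 (flp_i L739777) q22236, e3 q21400 (flp_i L730311) q19618, e3 q21401 (flp_i L746673) q22917, e3 q21402 L730327 q21402, e3 q21403 L730332 q21403, e3 q21404 L730338 q21404, e3 q21405 L730344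 q21405, e3 q21406 L746700 q22922, e3 q21407 (flp_i L730354) q19624, e3 q21408 L730370 q19636, e3 q21409 L730378 q19637, e3 q21410 L730386 q19638, e3 q21411 L730393 q19640, e3 q21412 (flp_i L730396) q19631, e3 q21413 (flp_i L737919) q22091, e3 q21414 (flp_i L744564) q22688, e3 q21415 (flp_i L746719) q22923, e3 q21416 (flp_i L746727) q22924, e3 q21417 (flp_i L746734) q22925, e3 q21418 (flp_i L740814) q22337, e3 q21419 L730454 q21419, e3 q21420 L730461 q21420, e3 q21421 (flp_i L730462) q19645, e3 q21422 L730474 q19671, e3 q21423 L746798 q22935, e3 q21424 (flp_i L730481) q19647, e3 q21425 L730492 q19676, e3 q21426 L730498 q19677, e3 q21427 L730503 q19681, e3 q21428 L730511 q19687, e3 q21429 L730519 q19691, e3 q21430 L730526 q19699, e3 q21431 (flp_i L730528) q19656, e3 q21432 (flp_i L744758) q22706, e3 q21433 (flp_i L730542) q19658, e3 q21434 (flp_i L744709) q22701, e3 q21435 (flp_i L730554) q19661, e3 q21436 (flp_i L744737) q22704, e3 q21437 (flp_i L744697) q22699, e3 q21438 (flp_i L744766) q22707, e3 q21439 (flp_i L744719) q22702,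 trivial⟩ (by decide +kernel)

theorem ce_i_335 : ∀ r, r < 64 → sm gi (Qf (21440 + r)) = Qf (tab Gen.i (21440 + r)) :=
  edges_tab (sm gi) Qf (tab Gen.i) 21440 [(21440, 19666), (21441, 22178), (21442, 19668), (21443, 19669), (21444, 22933), (21445, 22934), (21446, 19672), (21447, 22957), (21448, 19674), (21449, 22692), (21450, 22937), (21451, 22938), (21452, 19678), (21453, 22691), (21454, 22693), (21455, 22939), (21456, 22705), (21457, 22181), (21458, 22145), (21459, 22708), (21460, 22940), (21461, 21721), (21462, 21724), (21463, 22941), (21464, 22230), (21465, 21465), (21466, 21466), (21467, 21467), (21468, 21468), (21469, 22422), (21470, 21470), (21471, 21471), (21472, 19711), (21473, 22976), (21474, 21474), (21475, 21475), (21476, 21476), (21477, 21477), (21478, 22979), (21479, 19722), (21480, 22391), (21481, 22394), (21482, 22400), (21483, 22727), (21484, 19729), (21485, 19741), (21486, 19750), (21487, 19759), (21488, 19760), (21489, 22988), (21490, 19737), (21491, 22366), (21492, 22990), (21493, 19739), (21494, 22984),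 (21495, 22993), (21496, 19742), (21497, 22359), (21498, 22995), (21499, 19744), (21500, 19745), (21501, 22367), (21502, 19748), (21503, 22398)]
    ⟨e3 q21440 (flp_i L730592) q19666, e3 q21441 (flp_i L739073) q22178, e3 q21442 (flp_i L730604) q19668, e3 q21443 (flp_i L730612) q19669, e3 q21444 (flp_i L746787) q22933, e3 q21445 (flp_i L746795) q22934, e3 q21446 (flp_i L730634) q19672, e3 q21447 (flp_i L746939) q22957, e3 q21448 (flp_i L730646) q19674, e3 q21449 (flp_i L744606) q22692, e3 q21450 (flp_i L746808) q22937, e3 q21451 (flp_i L746813) q22938, e3 q21452 (flp_i L730668) q19678, e3 q21453 (flp_i L744594) q22691, e3 q21454 (flp_i L744616) q22693, e3 q21455 (flp_i L746817) q22939, e3 q21456 (flp_i L744747) q22705, e3 q21457 (flp_i L739105) q22181, e3 q21458 (flp_i L738660) q22145, e3 q21459 (flp_i L744773) q22708, e3 q21460 (flp_i L746826) q22940, e3 q21461 (flp_i L732828) q21721, e3 q21462 (flp_i L732880) q21724, e3 q21463 (flp_i L746831) q22941, e3 q21464 (flp_i L739701) q22230, e3 q21465 L730758 q21465, e3 q21466 L730769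 q21466, e3 q21467 L730774 q21467, e3 q21468 L730781 q21468, e3 q21469 (flp_i L741763) q22422, e3 q21470 L730794 q21470, e3 q21471 L730799 q21471, e3 q21472 L730806 q19711, e3 q21473 (flp_i L747050) q22976, e3 q21474 L730816 q21474, e3 q21475 L730821 q21475, e3 q21476 L730830 q21476, e3 q21477 L730835 q21477, e3 q21478 L747062 q22979, e3 q21479 (flp_i L730843) q19722, e3 q21480 (flp_i L741432) q22391, e3 q21481 (flp_i L741467) q22394, e3 q21482 (flp_i L741539) q22400, e3 q21483 (flp_i L744985) q22727, e3 q21484 (flp_i L730878) q19729, e3 q21485 L730891 q19741, e3 q21486 L730899 q19750, e3 q21487 L730909 q19759, e3 q21488 L730913 q19760, e3 q21489 L747127 q22988, e3 q21490 (flp_i L730922) q19737, e3 q21491 (flp_i L741140) q22366, e3 q21492 L747142 q22990, e3 q21493 (flp_i L730946) q19739, e3 q21494 (flp_i L747103) q22984, e3 q21495 L747162 q22993, e3 q21496 (flp_i L730967) q19742, e3 q21497 (flp_i L741041) q22359, e3 q21498 L747182 q22995, e3 q21499 (flp_i L730990) q19744, e3 q21500 (flp_i L730998) q19745, e3 q21501 (flp_i L741152)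 q22367, e3 q21502 (flp_i L731016) q19748, e3 q21503 (flp_i L741515) q22398, trivial⟩ (by decide +kernel)

theorem ce_i_336 : ∀ r, r < 64 → sm gi (Qf (21504 + r)) = Qf (tab Gen.i (21504 + r)) :=
  edges_tab (sm gi) Qf (tab Gen.i) 21504 [(21504, 22985), (21505, 23002), (21506, 19751), (21507, 19752), (21508, 22362), (21509, 19755), (21510, 22999), (21511, 22368), (21512, 22369), (21513, 22986), (21514, 22987), (21515, 19761), (21516, 21902), (21517, 22166), (21518, 22370), (21519, 19775), (21520, 21900), (21521, 21903), (21522, 22371), (21523, 22420), (21524, 19787), (21525, 19776), (21526, 22760), (21527, 22747), (21528, 19792), (21529, 19801), (21530, 19783), (21531, 22570), (21532, 19785), (21533, 23003), (21534, 19788), (21535, 22580), (21536, 22590), (21537, 23020), (21538, 19793), (21539, 22005), (21540, 19795), (21541, 22602), (21542, 19798), (21543, 23031), (21544, 22614), (21545, 23021), (21546, 22012), (21547, 22575), (21548, 19807), (21549, 23035), (21550, 19808), (21551, 23037), (21552, 19809), (21553, 22858), (21554,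 23040), (21555, 19811), (21556, 22827), (21557, 22860), (21558, 22830), (21559, 23045), (21560, 19815), (21561, 19862), (21562, 19817), (21563, 19865), (21564, 19820), (21565, 19868), (21566, 19822), (21567, 19871)]
    ⟨e3 q21504 (flp_i L747109) q22985, e3 q21505 L747235 q23002, e3 q21506 (flp_i L731051) q19751, e3 q21507 (flp_i L731063) q19752, e3 q21508 (flp_i L741083) q22362, e3 q21509 (flp_i L731079) q19755, e3 q21510 (flp_i L747219) q22999, e3 q21511 (flp_i L741164) q22368, e3 q21512 (flp_i L741172) q22369, e3 q21513 (flp_i L747119) q22986, e3 q21514 (flp_i L747125) q22987, e3 q21515 (flp_i L731110) q19761, e3 q21516 (flp_i L735438) q21902, e3 q21517 (flp_i L738918) q22166, e3 q21518 (flp_i L741183) q22370, e3 q21519 L731153 q19775, e3 q21520 (flp_i L735411) q21900, e3 q21521 (flp_i L735448) q21903, e3 q21522 (flp_i L741197) q22371, e3 q21523 (flp_i L741741) q22420, e3 q21524 L731189 q19787, e3 q21525 (flp_i L731191) q19776, e3 q21526 (flp_i L745315) q22760, e3 q21527 (flp_i L745197) q22747, e3 q21528 L731221 q19792,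 e3 q21529 L731227 q19801, e3 q21530 (flp_i L731229) q19783, e3 q21531 (flp_i L743420) q22570, e3 q21532 (flp_i L731248) q19785, e3 q21533 (flp_i L747256) q23003, e3 q21534 (flp_i L731263) q19788, e3 q21535 (flp_i L743537) q22580, e3 q21536 (flp_i L743640) q22590, e3 q21537 (flp_i L747360) q23020, e3 q21538 (flp_i L731295) q19793, e3 q21539 (flp_i L736762) q22005, e3 q21540 (flp_i L731311) q19795, e3 q21541 (flp_i L743738) q22602, e3 q21542 (flp_i L731325) q19798, e3 q21543 (flp_i L747435) q23031, e3 q21544 (flp_i L743827) q22614, e3 q21545 (flp_i L747366) q23021, e3 q21546 (flp_i L736835) q22012, e3 q21547 (flp_i L743472) q22575, e3 q21548 L731368 q19807, e3 q21549 L747451 q23035, e3 q21550 (flp_i L731378) q19808, e3 q21551 L747471 q23037, e3 q21552 (flp_i L731396) q19809, e3 q21553 (flp_i L746206) q22858, e3 q21554 L747493 q23040, e3 q21555 (flp_i L731414) q19811, e3 q21556 (flp_i L745974) q22827, e3 q21557 (flp_i L746224) q22860, e3 q21558 (flp_i L745994) q22830, e3 q21559 L747515 q23045, e3 q21560 (flp_i L731445) q19815,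 e3 q21561 L731460 q19862, e3 q21562 (flp_i L731462) q19817, e3 q21563 L731473 q19865, e3 q21564 (flp_i L731475) q19820, e3 q21565 L731493 q19868, e3 q21566 (flp_i L731495) q19822, e3 q21567 L731511 q19871, trivial⟩ (by decide +kernel)

theorem ce_i_337 : ∀ r, r < 64 → sm gi (Qf (21568 + r)) = Qf (tab Gen.i (21568 + r)) :=
  edges_tab (sm gi) Qf (tab Gen.i) 21568 [(21568, 19876), (21569, 19826), (21570, 19879), (21571, 23054), (21572, 23055), (21573, 19828), (21574, 19829), (21575, 19884), (21576, 23060), (21577, 23061), (21578, 19832), (21579, 19833), (21580, 23063), (21581, 23065), (21582, 19835), (21583, 19893), (21584, 19894), (21585, 19838), (21586, 19897), (21587, 19898), (21588, 19899), (21589, 19902), (21590, 19904), (21591, 19906), (21592, 19913), (21593, 19914), (21594, 19849), (21595, 19916), (21596, 19917), (21597, 19920), (21598, 19924), (21599, 19925), (21600, 19926), (21601, 19860), (21602, 23046), (21603, 19863), (21604, 23047), (21605, 23048), (21606, 19866), (21607, 23049), (21608, 22465), (21609, 22785),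 (21610, 23051), (21611, 22459), (21612, 19873), (21613, 21923), (21614, 22787), (21615, 23052), (21616, 19877), (21617, 23053), (21618, 23098), (21619, 19880), (21620, 19882), (21621, 23057), (21622, 23058), (21623, 23102), (21624, 19886), (21625, 19887), (21626, 23104), (21627, 19890), (21628, 23106), (21629, 19891), (21630, 23066), (21631, 23067)]
    ⟨e3 q21568 L731517 q19876, e3 q21569 (flp_i L731519) q19826, e3 q21570 L731531 q19879, e3 q21571 L747581 q23054, e3 q21572 L747587 q23055, e3 q21573 (flp_i L731544) q19828, e3 q21574 (flp_i L731552) q19829, e3 q21575 L731566 q19884, e3 q21576 L747625 q23060, e3 q21577 L747632 q23061, e3 q21578 (flp_i L731580) q19832, e3 q21579 (flp_i L731587) q19833, e3 q21580 (flp_i L747648) q23063, e3 q21581 L747654 q23065, e3 q21582 (flp_i L731605) q19835, e3 q21583 L731621 q19893, e3 q21584 L731625 q19894, e3 q21585 (flp_i L731627) q19838, e3 q21586 L731639 q19897, e3 q21587 L731645 q19898, e3 q21588 L731649 q19899, e3 q21589 L731660 q19902, e3 q21590 L731673 q19904, e3 q21591 L731680 q19906,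 e3 q21592 L731689 q19913, e3 q21593 L731697 q19914, e3 q21594 (flp_i L731700) q19849, e3 q21595 L731717 q19916, e3 q21596 L731723 q19917, e3 q21597 L731732 q19920, e3 q21598 L731740 q19924, e3 q21599 L731749 q19925, e3 q21600 L731755 q19926, e3 q21601 (flp_i L731758) q19860, e3 q21602 (flp_i L747530) q23046, e3 q21603 (flp_i L731773) q19863, e3 q21604 (flp_i L747537) q23047, e3 q21605 (flp_i L747543) q23048, e3 q21606 (flp_i L731789) q19866, e3 q21607 (flp_i L747553) q23049, e3 q21608 (flp_i L742268) q22465, e3 q21609 (flp_i L745575) q22785, e3 q21610 (flp_i L747565) q23051, e3 q21611 (flp_i L742204) q22459, e3 q21612 (flp_i L731839) q19873, e3 q21613 (flp_i L735700) q21923, e3 q21614 (flp_i L745594) q22787, e3 q21615 (flp_i L747571) q23052, e3 q21616 (flp_i L731863) q19877, e3 q21617 (flp_i L747579) q23053, e3 q21618 L747894 q23098, e3 q21619 (flp_i L731885) q19880, e3 q21620 (flp_i L731897) q19882, e3 q21621 (flp_i L747610) q23057, e3 q21622 (flp_i L747616) q23058, e3 q21623 L747920 q23102, e3 q21624 (flp_i L731923) q19886,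 e3 q21625 (flp_i L731931) q19887, e3 q21626 (flp_i L747938) q23104, e3 q21627 L731947 q19890, e3 q21628 (flp_i L747948) q23106, e3 q21629 (flp_i L731953) q19891, e3 q21630 (flp_i L747670) q23066, e3 q21631 (flp_i L747676) q23067, trivial⟩ (by decide +kernel)

theorem ce_i_338 : ∀ r, r < 64 → sm gi (Qf (21632 + r)) = Qf (tab Gen.i (21632 + r)) :=
  edges_tab (sm gi) Qf (tab Gen.i) 21632 [(21632, 23068), (21633, 22471), (21634, 22470), (21635, 23069), (21636, 23070), (21637, 23071), (21638, 23072), (21639, 19900), (21640, 22869), (21641, 22783), (21642, 23073), (21643, 22786), (21644, 22476), (21645, 22475), (21646, 21914), (21647, 22864), (21648, 22862), (21649, 23074), (21650, 23075), (21651, 23076), (21652, 23077), (21653, 23078), (21654, 22480), (21655, 22857), (21656, 22863), (21657, 23079), (21658, 19950), (21659, 21659), (21660, 19931), (21661, 21661), (21662, 19933), (21663, 21663), (21664, 21664), (21665, 19938), (21666, 21666), (21667, 21667), (21668, 19941), (21669, 23141), (21670, 21670), (21671, 21671), (21672,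 22491), (21673, 19946), (21674, 22488), (21675, 19949), (21676, 22428), (21677, 19955), (21678, 21678), (21679, 21679), (21680, 21680), (21681, 21681), (21682, 19973), (21683, 23147), (21684, 19976), (21685, 23149), (21686, 19978), (21687, 21687), (21688, 21688), (21689, 21689), (21690, 21690), (21691, 21691), (21692, 21692), (21693, 21693), (21694, 21694), (21695, 21695)]
    ⟨e3 q21632 (flp_i L747680) q23068, e3 q21633 (flp_i L742332) q22471, e3 q21634 (flp_i L742324) q22470, e3 q21635 (flp_i L747690) q23069, e3 q21636 (flp_i L747696) q23070, e3 q21637 (flp_i L747702) q23071, e3 q21638 (flp_i L747706) q23072, e3 q21639 (flp_i L732003) q19900, e3 q21640 (flp_i L746310) q22869, e3 q21641 (flp_i L745552) q22783, e3 q21642 (flp_i L747715) q23073, e3 q21643 (flp_i L745583) q22786, e3 q21644 (flp_i L742383) q22476, e3 q21645 (flp_i L742372) q22475, e3 q21646 (flp_i L735602) q21914, e3 q21647 (flp_i L746270) q22864, e3 q21648 (flp_i L746245) q22862, e3 q21649 (flp_i L747726) q23074, e3 q21650 (flp_i L747736) q23075, e3 q21651 (flp_i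 L747746) q23076, e3 q21652 (flp_i L747754) q23077, e3 q21653 (flp_i L747760) q23078, e3 q21654 (flp_i L742422) q22480, e3 q21655 (flp_i L746194) q22857, e3 q21656 (flp_i L746255) q22863, e3 q21657 (flp_i L747767) q23079, e3 q21658 L732163 q19950, e3 q21659 L732172 q21659, e3 q21660 (flp_i L732173) q19931, e3 q21661 L732200 q21661, e3 q21662 (flp_i L732201) q19933, e3 q21663 L732219 q21663, e3 q21664 L732231 q21664, e3 q21665 (flp_i L732232) q19938, e3 q21666 L732247 q21666, e3 q21667 L732254 q21667, e3 q21668 (flp_i L732255) q19941, e3 q21669 (flp_i L748178) q23141, e3 q21670 L732269 q21670, e3 q21671 L732272 q21671, e3 q21672 (flp_i L742533) q22491, e3 q21673 (flp_i L732278) q19946, e3 q21674 (flp_i L742495) q22488, e3 q21675 L732292 q19949, e3 q21676 (flp_i L741810) q22428, e3 q21677 L732304 q19955, e3 q21678 L732316 q21678, e3 q21679 L732328 q21679, e3 q21680 L732341 q21680, e3 q21681 L732350 q21681, e3 q21682 (flp_i L732351) q19973, e3 q21683 (flp_i L748219) q23147, e3 q21684 L732366 q19976, e3 q21685 (flp_i L748232) q23149,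 e3 q21686 L732377 q19978, e3 q21687 L732385 q21687, e3 q21688 L732392 q21688, e3 q21689 L732397 q21689, e3 q21690 L732407 q21690, e3 q21691 L732417 q21691, e3 q21692 L732427 q21692, e3 q21693 L732432 q21693, e3 q21694 L732441 q21694, e3 q21695 L732446 q21695, trivial⟩ (by decide +kernel)

theorem ce_i_339 : ∀ r, r < 64 → sm gi (Qf (21696 + r)) = Qf (tab Gen.i (21696 + r)) :=
  edges_tab (sm gi) Qf (tab Gen.i) 21696 [(21696, 21696), (21697, 21697), (21698, 21698), (21699, 22761), (21700, 22859), (21701, 21701), (21702, 21702), (21703, 20016), (21704, 20443), (21705, 20446), (21706, 23158), (21707, 21707), (21708, 20023), (21709, 20436), (21710, 21360), (21711, 21352), (21712, 21712), (21713, 23161), (21714, 20026), (21715, 20038), (21716, 20028), (21717, 20049), (21718, 20054), (21719, 23165), (21720, 20032), (21721, 21461), (21722, 23167), (21723, 20034), (21724, 21462), (21725, 20036), (21726, 23162), (21727, 20039), (21728, 20722), (21729, 20042), (21730, 23173), (21731, 20043), (21732, 21141), (21733, 20045), (21734, 20727),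 (21735, 23163), (21736, 23164), (21737, 20531), (21738, 20530), (21739, 21398), (21740, 21740), (21741, 21741), (21742, 20061), (21743, 21122), (21744, 21138), (21745, 21127), (21746, 21139), (21747, 20071), (21748, 20084), (21749, 20073), (21750, 20089), (21751, 20077), (21752, 20092), (21753, 20093), (21754, 20097), (21755, 20098), (21756, 23182), (21757, 21111), (21758, 23190), (21759, 20087)]
    ⟨e3 q21696 L732452 q21696, e3 q21697 L732457 q21697, e3 q21698 L732460 q21698, e3 q21699 (flp_i L745324) q22761, e3 q21700 (flp_i L746215) q22859, e3 q21701 L732480 q21701, e3 q21702 L732499 q21702, e3 q21703 L732516 q20016, e3 q21704 L732536 q20443, e3 q21705 L732554 q20446, e3 q21706 (flp_i L748303) q23158, e3 q21707 L732586 q21707, e3 q21708 L732602 q20023, e3 q21709 L732625 q20436, e3 q21710 L732639 q21360, e3 q21711 L732659 q21352, e3 q21712 L732675 q21712, e3 q21713 L748350 q23161, e3 q21714 (flp_i L732698) q20026, e3 q21715 L732730 q20038, e3 q21716 (flp_i L732732) q20028, e3 q21717 L732761 q20049, e3 q21718 L732771 q20054,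 e3 q21719 L748417 q23165, e3 q21720 (flp_i L732796) q20032, e3 q21721 L732828 q21461, e3 q21722 L748451 q23167, e3 q21723 (flp_i L732848) q20034, e3 q21724 L732880 q21462, e3 q21725 (flp_i L732882) q20036, e3 q21726 (flp_i L748382) q23162, e3 q21727 (flp_i L732906) q20039, e3 q21728 L732938 q20722, e3 q21729 (flp_i L732940) q20042, e3 q21730 L748547 q23173, e3 q21731 (flp_i L732975) q20043, e3 q21732 L733004 q21141, e3 q21733 (flp_i L733006) q20045, e3 q21734 L733031 q20727, e3 q21735 (flp_i L748398) q23163, e3 q21736 (flp_i L748410) q23164, e3 q21737 L733075 q20531, e3 q21738 L733091 q20530, e3 q21739 L733105 q21398, e3 q21740 L733123 q21740, e3 q21741 L733134 q21741, e3 q21742 (flp_i L733138) q20061, e3 q21743 L733172 q21122, e3 q21744 L733186 q21138, e3 q21745 L733208 q21127, e3 q21746 L733228 q21139, e3 q21747 (flp_i L733230) q20071, e3 q21748 L733264 q20084, e3 q21749 (flp_i L733266) q20073, e3 q21750 L733296 q20089, e3 q21751 (flp_i L733298) q20077, e3 q21752 L733325 q20092, e3 q21753 L733337 q20093, e3 q21754 L733354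 q20097, e3 q21755 L733366 q20098, e3 q21756 (flp_i L748709) q23182, e3 q21757 L733403 q21111, e3 q21758 L748819 q23190, e3 q21759 (flp_i L733423) q20087, trivial⟩ (by decide +kernel)

theorem ce_i_340 : ∀ r, r < 64 → sm gi (Qf (21760 + r)) = Qf (tab Gen.i (21760 + r)) :=
  edges_tab (sm gi) Qf (tab Gen.i) 21760 [(21760, 23183), (21761, 23184), (21762, 20090), (21763, 23185), (21764, 23186), (21765, 21395), (21766, 20457), (21767, 23174), (21768, 23187), (21769, 21397), (21770, 21770), (21771, 21771), (21772, 21772), (21773, 21773), (21774, 23203), (21775, 20106), (21776, 23206), (21777, 23209), (21778, 20108), (21779, 23211), (21780, 20109), (21781, 21184), (21782, 23213), (21783, 20111), (21784, 23216), (21785, 20113), (21786, 23219), (21787, 20114), (21788, 20136), (21789, 23222), (21790, 20116), (21791, 20142), (21792, 20118), (21793, 20144), (21794, 20147), (21795, 23228), (21796, 20122), (21797, 20150), (21798, 20154), (21799, 20155), (21800, 20156), (21801, 20159), (21802, 20160), (21803, 20130), (21804, 23214), (21805,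 23235), (21806, 20132), (21807, 23217), (21808, 23238), (21809, 20134), (21810, 23220), (21811, 23242), (21812, 20137), (21813, 21209), (21814, 23246), (21815, 23247), (21816, 20139), (21817, 20140), (21818, 23223), (21819, 23224), (21820, 23225), (21821, 23226), (21822, 20145), (21823, 21203)]
    ⟨e3 q21760 (flp_i L748727) q23183, e3 q21761 (flp_i L748737) q23184, e3 q21762 (flp_i L733461) q20090, e3 q21763 (flp_i L748755) q23185, e3 q21764 (flp_i L748767) q23186, e3 q21765 L733511 q21395, e3 q21766 L733531 q20457, e3 q21767 (flp_i L748578) q23174, e3 q21768 (flp_i L748782) q23187, e3 q21769 L733573 q21397, e3 q21770 L733591 q21770, e3 q21771 L733604 q21771, e3 q21772 L733615 q21772, e3 q21773 L733628 q21773, e3 q21774 L749007 q23203, e3 q21775 (flp_i L733649) q20106, e3 q21776 L749058 q23206, e3 q21777 L749106 q23209, e3 q21778 (flp_i L733690) q20108, e3 q21779 L749131 q23211, e3 q21780 (flp_i L733715) q20109, e3 q21781 L733738 q21184, e3 q21782 L749156 q23213, e3 q21783 (flp_i L733758) q20111, e3 q21784 L749208 q23216,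 e3 q21785 (flp_i L733789) q20113, e3 q21786 L749258 q23219, e3 q21787 (flp_i L733818) q20114, e3 q21788 L733840 q20136, e3 q21789 L749301 q23222, e3 q21790 (flp_i L733853) q20116, e3 q21791 L733879 q20142, e3 q21792 (flp_i L733881) q20118, e3 q21793 L733905 q20144, e3 q21794 L733920 q20147, e3 q21795 L749387 q23228, e3 q21796 (flp_i L733936) q20122, e3 q21797 L733962 q20150, e3 q21798 L733972 q20154, e3 q21799 L733989 q20155, e3 q21800 L733999 q20156, e3 q21801 L734014 q20159, e3 q21802 L734030 q20160, e3 q21803 (flp_i L734036) q20130, e3 q21804 (flp_i L749189) q23214, e3 q21805 L749488 q23235, e3 q21806 (flp_i L734085) q20132, e3 q21807 (flp_i L749238) q23217, e3 q21808 L749534 q23238, e3 q21809 (flp_i L734129) q20134, e3 q21810 (flp_i L749282) q23220, e3 q21811 L749590 q23242, e3 q21812 (flp_i L734167) q20137, e3 q21813 L734197 q21209, e3 q21814 L749661 q23246, e3 q21815 L749678 q23247, e3 q21816 (flp_i L734226) q20139, e3 q21817 (flp_i L734240) q20140, e3 q21818 (flp_i L749328) q23223, e3 q21819 (flp_i L749340) q23224,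 e3 q21820 (flp_i L749359) q23225, e3 q21821 (flp_i L749369) q23226, e3 q21822 (flp_i L734298) q20145, e3 q21823 L734324 q21203, trivial⟩ (by decide +kernel)

theorem ce_i_341 : ∀ r, r < 64 → sm gi (Qf (21824 + r)) = Qf (tab Gen.i (21824 + r)) :=
  edges_tab (sm gi) Qf (tab Gen.i) 21824 [(21824, 23227), (21825, 20148), (21826, 23229), (21827, 23230), (21828, 21210), (21829, 21195), (21830, 21208), (21831, 23231), (21832, 23232), (21833, 23233), (21834, 21060), (21835, 21212), (21836, 21057), (21837, 21837), (21838, 21838), (21839, 21839), (21840, 21840), (21841, 21841), (21842, 21842), (21843, 21843), (21844, 23273), (21845, 20168), (21846, 21846), (21847, 21847), (21848, 20171), (21849, 23277), (21850, 21850), (21851, 21851), (21852, 21852), (21853, 21853), (21854, 23282), (21855, 20180), (21856, 20182), (21857, 20195), (21858, 20197), (21859, 23286), (21860, 23288), (21861, 20186), (21862, 23290), (21863, 20188), (21864, 20189), (21865, 23283), (21866, 23293), (21867, 20191), (21868, 20815), (21869, 20193), (21870, 23284),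 (21871, 20818), (21872, 20819), (21873, 20841), (21874, 20844), (21875, 21875), (21876, 23301), (21877, 20205), (21878, 21142), (21879, 20207), (21880, 20223), (21881, 23304), (21882, 20209), (21883, 20225), (21884, 20211), (21885, 20228), (21886, 20229), (21887, 20232)]
    ⟨e3 q21824 (flp_i L749382) q23227, e3 q21825 (flp_i L734339) q20148, e3 q21826 (flp_i L749413) q23229, e3 q21827 (flp_i L749424) q23230, e3 q21828 L734385 q21210, e3 q21829 L734405 q21195, e3 q21830 L734415 q21208, e3 q21831 (flp_i L749440) q23231, e3 q21832 (flp_i L749454) q23232, e3 q21833 (flp_i L749466) q23233, e3 q21834 L734460 q21060, e3 q21835 L734478 q21212, e3 q21836 L734497 q21057, e3 q21837 L734515 q21837, e3 q21838 L734526 q21838, e3 q21839 L734536 q21839, e3 q21840 L734548 q21840, e3 q21841 L734558 q21841, e3 q21842 L734570 q21842, e3 q21843 L734587 q21843, e3 q21844 L749997 q23273, e3 q21845 (flp_i L734604) q20168, e3 q21846 L734634 q21846, e3 q21847 L734647 q21847, e3 q21848 (flp_i L734650) q20171, e3 q21849 (flp_i L750064) q23277, e3 q21850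 L734682 q21850, e3 q21851 L734693 q21851, e3 q21852 L734705 q21852, e3 q21853 L734716 q21853, e3 q21854 L750115 q23282, e3 q21855 (flp_i L734735) q20180, e3 q21856 (flp_i L734751) q20182, e3 q21857 L734781 q20195, e3 q21858 L734798 q20197, e3 q21859 L750185 q23286, e3 q21860 L750216 q23288, e3 q21861 (flp_i L734828) q20186, e3 q21862 L750245 q23290, e3 q21863 (flp_i L734857) q20188, e3 q21864 (flp_i L734870) q20189, e3 q21865 (flp_i L750149) q23283, e3 q21866 L750287 q23293, e3 q21867 (flp_i L734913) q20191, e3 q21868 L734939 q20815, e3 q21869 (flp_i L734941) q20193, e3 q21870 (flp_i L750165) q23284, e3 q21871 L734982 q20818, e3 q21872 L734992 q20819, e3 q21873 L735013 q20841, e3 q21874 L735025 q20844, e3 q21875 L735045 q21875, e3 q21876 L750414 q23301, e3 q21877 (flp_i L735065) q20205, e3 q21878 L735092 q21142, e3 q21879 (flp_i L735094) q20207, e3 q21880 L735118 q20223, e3 q21881 L750459 q23304, e3 q21882 (flp_i L735137) q20209, e3 q21883 L735167 q20225, e3 q21884 (flp_i L735169) q20211, e3 q21885 L735193 q20228, e3 q21886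 L735205 q20229, e3 q21887 L735226 q20232, trivial⟩ (by decide +kernel)

theorem ce_i_342 : ∀ r, r < 64 → sm gi (Qf (21888 + r)) = Qf (tab Gen.i (21888 + r)) :=
  edges_tab (sm gi) Qf (tab Gen.i) 21888 [(21888, 20233), (21889, 23310), (21890, 20220), (21891, 23204), (21892, 23303), (21893, 23305), (21894, 23306), (21895, 23315), (21896, 20226), (21897, 23307), (21898, 23308), (21899, 20230), (21900, 21520), (21901, 23309), (21902, 21516), (21903, 21521), (21904, 21904), (21905, 21905), (21906, 21906), (21907, 21907), (21908, 21908), (21909, 23326), (21910, 23329), (21911, 20243), (21912, 23332), (21913, 20244), (21914, 21646), (21915, 23335), (21916, 23336), (21917, 20246), (21918, 23338), (21919, 23339), (21920, 20247), (21921, 21223), (21922, 20249), (21923, 21613), (21924, 23345), (21925, 20252), (21926, 20290), (21927, 23347), (21928, 20254), (21929, 23349), (21930, 20255), (21931, 20295), (21932, 23352), (21933, 20257), (21934, 20298), (21935, 23355), (21936, 20260), (21937, 20304), (21938, 23358), (21939, 23359), (21940,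 20262), (21941, 20263), (21942, 20309), (21943, 20310), (21944, 23364), (21945, 20266), (21946, 20313), (21947, 20314), (21948, 20316), (21949, 20317), (21950, 20271), (21951, 20320)]
    ⟨e3 q21888 L735238 q20233, e3 q21889 L750556 q23310, e3 q21890 (flp_i L735258) q20220, e3 q21891 (flp_i L749038) q23204, e3 q21892 (flp_i L750457) q23303, e3 q21893 (flp_i L750492) q23305, e3 q21894 (flp_i L750506) q23306, e3 q21895 L750625 q23315, e3 q21896 (flp_i L735347) q20226, e3 q21897 (flp_i L750527) q23307, e3 q21898 (flp_i L750535) q23308, e3 q21899 (flp_i L735383) q20230, e3 q21900 L735411 q21520, e3 q21901 (flp_i L750551) q23309, e3 q21902 L735438 q21516, e3 q21903 L735448 q21521, e3 q21904 L735472 q21904, e3 q21905 L735483 q21905, e3 q21906 L735494 q21906, e3 q21907 L735508 q21907, e3 q21908 L735525 q21908, e3 q21909 L750786 q23326, e3 q21910 L750834 q23329, e3 q21911 (flp_i L735556) q20243, e3 q21912 L750876 q23332, e3 q21913 (flp_i L735581) q20244, e3 q21914 L735602 q21646, e3 q21915 L750919 q23335, e3 q21916 L750933 q23336,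 e3 q21917 (flp_i L735628) q20246, e3 q21918 L750954 q23338, e3 q21919 L750965 q23339, e3 q21920 (flp_i L735660) q20247, e3 q21921 L735679 q21223, e3 q21922 (flp_i L735681) q20249, e3 q21923 L735700 q21613, e3 q21924 L751036 q23345, e3 q21925 (flp_i L735713) q20252, e3 q21926 L735734 q20290, e3 q21927 L751059 q23347, e3 q21928 (flp_i L735752) q20254, e3 q21929 L751089 q23349, e3 q21930 (flp_i L735778) q20255, e3 q21931 L735800 q20295, e3 q21932 L751127 q23352, e3 q21933 (flp_i L735816) q20257, e3 q21934 L735838 q20298, e3 q21935 L751165 q23355, e3 q21936 (flp_i L735857) q20260, e3 q21937 L735883 q20304, e3 q21938 L751213 q23358, e3 q21939 L751229 q23359, e3 q21940 (flp_i L735918) q20262, e3 q21941 (flp_i L735925) q20263, e3 q21942 L735949 q20309, e3 q21943 L735957 q20310, e3 q21944 L751282 q23364, e3 q21945 (flp_i L735978) q20266, e3 q21946 L736002 q20313, e3 q21947 L736010 q20314, e3 q21948 L736025 q20316, e3 q21949 L736034 q20317, e3 q21950 (flp_i L736037) q20271, e3 q21951 L736063 q20320, trivial⟩ (by decide +kernel)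

theorem ce_i_343 : ∀ r, r < 64 → sm gi (Qf (21952 + r)) = Qf (tab Gen.i (21952 + r)) :=
  edges_tab (sm gi) Qf (tab Gen.i) 21952 [(21952, 20321), (21953, 20325), (21954, 20328), (21955, 20329), (21956, 20278), (21957, 20331), (21958, 20332), (21959, 20333), (21960, 20339), (21961, 20340), (21962, 23380), (21963, 20288), (21964, 23346), (21965, 23383), (21966, 20291), (21967, 20292), (21968, 23348), (21969, 23350), (21970, 23351), (21971, 23389), (21972, 20296), (21973, 23353), (21974, 23354), (21975, 23393), (21976, 20299), (21977, 21040), (21978, 23396), (21979, 20301), (21980, 20302), (21981, 23356), (21982, 23357), (21983, 20305), (21984, 23401), (21985, 23403), (21986, 20307), (21987, 23361), (21988, 23362), (21989, 23363), (21990, 20311), (21991, 23365), (21992, 23366), (21993, 23367), (21994, 21027), (21995, 23368), (21996, 23369), (21997, 20318), (21998, 23370), (21999, 23371), (22000, 23372), (22001, 21041), (22002, 21004), (22003, 21332), (22004, 20326), (22005, 21539), (22006, 23373), (22007, 23374), (22008, 23375),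 (22009, 23376), (22010, 23377), (22011, 21056), (22012, 21546), (22013, 21322), (22014, 23378), (22015, 22015)]
    ⟨e3 q21952 L736074 q20321, e3 q21953 L736085 q20325, e3 q21954 L736108 q20328, e3 q21955 L736119 q20329, e3 q21956 (flp_i L736123) q20278, e3 q21957 L736150 q20331, e3 q21958 L736158 q20332, e3 q21959 L736168 q20333, e3 q21960 L736187 q20339, e3 q21961 L736197 q20340, e3 q21962 L751501 q23380, e3 q21963 (flp_i L736217) q20288, e3 q21964 (flp_i L751057) q23346, e3 q21965 L751533 q23383, e3 q21966 (flp_i L736254) q20291, e3 q21967 (flp_i L736270) q20292, e3 q21968 (flp_i L751087) q23348, e3 q21969 (flp_i L751114) q23350, e3 q21970 (flp_i L751124) q23351, e3 q21971 L751607 q23389, e3 q21972 (flp_i L736332) q20296, e3 q21973 (flp_i L751155) q23353, e3 q21974 (flp_i L751163) q23354, e3 q21975 L751651 q23393, e3 q21976 (flp_i L736384) q20299, e3 q21977 L736410 q21040, e3 q21978 L751701 q23396, e3 q21979 (flp_i L736430) q20301, e3 q21980 (flp_i L736446) q20302, e3 q21981 (flp_i L751196) q23356, e3 q21982 (flp_i L751208)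 q23357, e3 q21983 (flp_i L736484) q20305, e3 q21984 (flp_i L751779) q23401, e3 q21985 L751793 q23403, e3 q21986 (flp_i L736530) q20307, e3 q21987 (flp_i L751267) q23361, e3 q21988 (flp_i L751273) q23362, e3 q21989 (flp_i L751280) q23363, e3 q21990 (flp_i L736568) q20311, e3 q21991 (flp_i L751314) q23365, e3 q21992 (flp_i L751322) q23366, e3 q21993 (flp_i L751328) q23367, e3 q21994 L736611 q21027, e3 q21995 (flp_i L751339) q23368, e3 q21996 (flp_i L751356) q23369, e3 q21997 (flp_i L736633) q20318, e3 q21998 (flp_i L751373) q23370, e3 q21999 (flp_i L751385) q23371, e3 q22000 (flp_i L751396) q23372, e3 q22001 L736690 q21041, e3 q22002 L736714 q21004, e3 q22003 L736728 q21332, e3 q22004 (flp_i L736732) q20326, e3 q22005 L736762 q21539, e3 q22006 (flp_i L751411) q23373, e3 q22007 (flp_i L751429) q23374, e3 q22008 (flp_i L751441) q23375, e3 q22009 (flp_i L751455) q23376, e3 q22010 (flp_i L751466) q23377, e3 q22011 L736814 q21056, e3 q22012 L736835 q21546, e3 q22013 L736849 q21322, e3 q22014 (flp_i L751477) q23378, e3 q22015 L736879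 q22015, trivial⟩ (by decide +kernel)

theorem ce_i_344 : ∀ r, r < 64 → sm gi (Qf (22016 + r)) = Qf (tab Gen.i (22016 + r)) :=
  edges_tab (sm gi) Qf (tab Gen.i) 22016 [(22016, 22016), (22017, 22017), (22018, 22018), (22019, 22019), (22020, 22020), (22021, 22021), (22022, 22022), (22023, 22023), (22024, 22024), (22025, 22025), (22026, 22026), (22027, 22027), (22028, 22028), (22029, 20356), (22030, 22030), (22031, 20359), (22032, 23442), (22033, 22033), (22034, 22034), (22035, 20364), (22036, 23446), (22037, 22037), (22038, 22038), (22039, 22039), (22040, 22040), (22041, 22041), (22042, 22042), (22043, 20414), (22044, 20383), (22045, 20384), (22046, 20385), (22047, 20404), (22048, 23451), (22049, 23452), (22050, 20395), (22051, 20396), (22052, 20397), (22053, 20398), (22054, 23453), (22055, 23454), (22056, 23455), (22057, 23456), (22058, 20418), (22059, 21362), (22060, 20415), (22061, 20416), (22062, 20419), (22063, 20420), (22064, 20421), (22065, 20422), (22066, 20437), (22067, 23457), (22068, 21364), (22069, 23458), (22070,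 23459), (22071, 22071), (22072, 22072), (22073, 20438), (22074, 20439), (22075, 20442), (22076, 20444), (22077, 20445), (22078, 20447), (22079, 20448)]
    ⟨e3 q22016 L736889 q22016, e3 q22017 L736902 q22017, e3 q22018 L736913 q22018, e3 q22019 L736925 q22019, e3 q22020 L736938 q22020, e3 q22021 L736947 q22021, e3 q22022 L736958 q22022, e3 q22023 L736967 q22023, e3 q22024 L736978 q22024, e3 q22025 L736988 q22025, e3 q22026 L737009 q22026, e3 q22027 L737018 q22027, e3 q22028 L737025 q22028, e3 q22029 (flp_i L737028) q20356, e3 q22030 L737060 q22030, e3 q22031 (flp_i L737061) q20359, e3 q22032 (flp_i L752277) q23442, e3 q22033 L737098 q22033, e3 q22034 L737107 q22034, e3 q22035 L737120 q20364, e3 q22036 (flp_i L752329) q23446, e3 q22037 L737146 q22037, e3 q22038 L737153 q22038, e3 q22039 L737167 q22039, e3 q22040 L737178 q22040, e3 q22041 L737189 q22041, e3 q22042 L737200 q22042, e3 q22043 L737223 q20414, e3 q22044 L737243 q20383, e3 q22045 L737261 q20384, e3 q22046 L737279 q20385, e3 q22047 L737299 q20404, e3 q22048 (flp_i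 L752396) q23451, e3 q22049 (flp_i L752415) q23452, e3 q22050 L737353 q20395, e3 q22051 L737361 q20396, e3 q22052 L737382 q20397, e3 q22053 L737388 q20398, e3 q22054 (flp_i L752434) q23453, e3 q22055 (flp_i L752454) q23454, e3 q22056 (flp_i L752472) q23455, e3 q22057 (flp_i L752492) q23456, e3 q22058 L737479 q20418, e3 q22059 L737489 q21362, e3 q22060 L737512 q20415, e3 q22061 L737530 q20416, e3 q22062 L737548 q20419, e3 q22063 L737568 q20420, e3 q22064 L737578 q20421, e3 q22065 L737587 q20422, e3 q22066 L737606 q20437, e3 q22067 (flp_i L752510) q23457, e3 q22068 L737628 q21364, e3 q22069 (flp_i L752530) q23458, e3 q22070 (flp_i L752549) q23459, e3 q22071 L737667 q22071, e3 q22072 L737685 q22072, e3 q22073 L737697 q20438, e3 q22074 L737708 q20439, e3 q22075 L737723 q20442, e3 q22076 L737738 q20444, e3 q22077 L737747 q20445, e3 q22078 L737759 q20447, e3 q22079 L737769 q20448, trivial⟩ (by decide +kernel)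

theorem ce_i_345 : ∀ r, r < 64 → sm gi (Qf (22080 + r)) = Qf (tab Gen.i (22080 + r)) :=
  edges_tab (sm gi) Qf (tab Gen.i) 22080 [(22080, 21363), (22081, 23160), (22082, 21348), (22083, 23464), (22084, 21356), (22085, 23461), (22086, 23460), (22087, 23463), (22088, 23466), (22089, 20452), (22090, 20454), (22091, 21413), (22092, 23172), (22093, 23469), (22094, 20458), (22095, 23471), (22096, 20460), (22097, 23473), (22098, 20461), (22099, 20478), (22100, 20479), (22101, 20480), (22102, 20465), (22103, 20482), (22104, 20484), (22105, 20485), (22106, 23478), (22107, 20470), (22108, 20472), (22109, 23470), (22110, 20474), (22111, 23472), (22112, 20476), (22113, 23474), (22114, 23475), (22115, 23476), (22116, 23477), (22117, 22117), (22118, 22118), (22119, 23490), (22120, 20490), (22121, 23492), (22122, 20491), (22123, 20781), (22124, 20493), (22125, 20516), (22126, 23495), (22127, 20495), (22128, 23497), (22129, 20496), (22130, 20521), (22131, 23500), (22132, 20498), (22133, 20524), (22134, 20525), (22135, 20526), (22136, 20504),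 (22137, 20528), (22138, 20529), (22139, 20532), (22140, 20535), (22141, 20536), (22142, 20537), (22143, 20538)]
    ⟨e3 q22080 L737779 q21363, e3 q22081 (flp_i L748344) q23160, e3 q22082 L737803 q21348, e3 q22083 (flp_i L752646) q23464, e3 q22084 L737830 q21356, e3 q22085 (flp_i L752589) q23461, e3 q22086 (flp_i L752567) q23460, e3 q22087 (flp_i L752627) q23463, e3 q22088 L752671 q23466, e3 q22089 (flp_i L737877) q20452, e3 q22090 (flp_i L737891) q20454, e3 q22091 L737919 q21413, e3 q22092 (flp_i L748545) q23172, e3 q22093 L752721 q23469, e3 q22094 (flp_i L737953) q20458, e3 q22095 L752757 q23471, e3 q22096 (flp_i L737985) q20460, e3 q22097 L752789 q23473, e3 q22098 (flp_i L738018) q20461, e3 q22099 L738042 q20478, e3 q22100 L738058 q20479, e3 q22101 L738074 q20480, e3 q22102 (flp_i L738076) q20465, e3 q22103 L738105 q20482, e3 q22104 L738115 q20484, e3 q22105 L738130 q20485, e3 q22106 L752869 q23478, e3 q22107 (flp_i L738155) q20470, e3 q22108 (flp_i L738171) q20472, e3 q22109 (flp_i L752755) q23470, e3 q22110 (flp_i L738197)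 q20474, e3 q22111 (flp_i L752787) q23472, e3 q22112 (flp_i L738225) q20476, e3 q22113 (flp_i L752817) q23474, e3 q22114 (flp_i L752829) q23475, e3 q22115 (flp_i L752850) q23476, e3 q22116 (flp_i L752862) q23477, e3 q22117 L738309 q22117, e3 q22118 L738324 q22118, e3 q22119 L753057 q23490, e3 q22120 (flp_i L738337) q20490, e3 q22121 L753078 q23492, e3 q22122 (flp_i L738360) q20491, e3 q22123 L738383 q20781, e3 q22124 (flp_i L738385) q20493, e3 q22125 L738407 q20516, e3 q22126 L753115 q23495, e3 q22127 (flp_i L738427) q20495, e3 q22128 L753147 q23497, e3 q22129 (flp_i L738453) q20496, e3 q22130 L738469 q20521, e3 q22131 L753181 q23500, e3 q22132 (flp_i L738489) q20498, e3 q22133 L738501 q20524, e3 q22134 L738513 q20525, e3 q22135 L738519 q20526, e3 q22136 (flp_i L738524) q20504, e3 q22137 L738543 q20528, e3 q22138 L738549 q20529, e3 q22139 L738562 q20532, e3 q22140 L738578 q20535, e3 q22141 L738598 q20536, e3 q22142 L738608 q20537, e3 q22143 L738624 q20538, trivial⟩ (by decide +kernel)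

theorem ce_i_346 : ∀ r, r < 64 → sm gi (Qf (22144 + r)) = Qf (tab Gen.i (22144 + r)) :=
  edges_tab (sm gi) Qf (tab Gen.i) 22144 [(22144, 20513), (22145, 21458), (22146, 23494), (22147, 20517), (22148, 23496), (22149, 20519), (22150, 23498), (22151, 23499), (22152, 20522), (22153, 23501), (22154, 23502), (22155, 23503), (22156, 23504), (22157, 23505), (22158, 23506), (22159, 23507), (22160, 20560), (22161, 23508), (22162, 22162), (22163, 22163), (22164, 22164), (22165, 22165), (22166, 21517), (22167, 22167), (22168, 22168), (22169, 22169), (22170, 20550), (22171, 20559), (22172, 20553), (22173, 23479), (22174, 23532), (22175, 20555), (22176, 23534), (22177, 20556), (22178, 21441), (22179, 23529), (22180, 20608), (22181, 21457), (22182, 23538), (22183, 20565), (22184, 23542), (22185, 20567), (22186, 23544), (22187, 20568), (22188, 20851), (22189, 23546), (22190, 20570), (22191, 20571), (22192, 20597), (22193, 23549), (22194, 20573), (22195, 23551), (22196, 23552), (22197, 20574), (22198, 20603), (22199, 20576), (22200, 20605),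 (22201, 20606), (22202, 20610), (22203, 20582), (22204, 20612), (22205, 20613), (22206, 20614), (22207, 20615)]
    ⟨e3 q22144 (flp_i L738630) q20513, e3 q22145 L738660 q21458, e3 q22146 (flp_i L753113) q23494, e3 q22147 (flp_i L738668) q20517, e3 q22148 (flp_i L753145) q23496, e3 q22149 (flp_i L738692) q20519, e3 q22150 (flp_i L753168) q23498, e3 q22151 (flp_i L753176) q23499, e3 q22152 (flp_i L738726) q20522, e3 q22153 (flp_i L753205) q23501, e3 q22154 (flp_i L753211) q23502, e3 q22155 (flp_i L753225) q23503, e3 q22156 (flp_i L753245) q23504, e3 q22157 (flp_i L753263) q23505, e3 q22158 (flp_i L753269) q23506, e3 q22159 (flp_i L753283) q23507, e3 q22160 L738836 q20560, e3 q22161 (flp_i L753299) q23508, e3 q22162 L738866 q22162, e3 q22163 L738879 q22163, e3 q22164 L738886 q22164, e3 q22165 L738903 q22165, e3 q22166 L738918 q21517, e3 q22167 L738930 q22167, e3 q22168 L738939 q22168, e3 q22169 L738952 q22169, e3 q22170 (flp_i L738953) q20550, e3 q22171 L738981 q20559, e3 q22172 (flp_i L738983) q20553, e3 q22173 (flp_i L752903)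 q23479, e3 q22174 L753602 q23532, e3 q22175 (flp_i L739023) q20555, e3 q22176 L753634 q23534, e3 q22177 (flp_i L739053) q20556, e3 q22178 L739073 q21441, e3 q22179 (flp_i L753571) q23529, e3 q22180 L739097 q20608, e3 q22181 L739105 q21457, e3 q22182 L753680 q23538, e3 q22183 (flp_i L739124) q20565, e3 q22184 L753747 q23542, e3 q22185 (flp_i L739153) q20567, e3 q22186 L753776 q23544, e3 q22187 (flp_i L739180) q20568, e3 q22188 L739203 q20851, e3 q22189 L753801 q23546, e3 q22190 (flp_i L739223) q20570, e3 q22191 (flp_i L739236) q20571, e3 q22192 L739252 q20597, e3 q22193 L753843 q23549, e3 q22194 (flp_i L739270) q20573, e3 q22195 L753875 q23551, e3 q22196 L753888 q23552, e3 q22197 (flp_i L739314) q20574, e3 q22198 L739334 q20603, e3 q22199 (flp_i L739336) q20576, e3 q22200 L739352 q20605, e3 q22201 L739368 q20606, e3 q22202 L739384 q20610, e3 q22203 (flp_i L739386) q20582, e3 q22204 L739418 q20612, e3 q22205 L739426 q20613, e3 q22206 L739435 q20614, e3 q22207 L739443 q20615, trivial⟩ (by decide +kernel)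

theorem ce_i_347 : ∀ r, r < 64 → sm gi (Qf (22208 + r)) = Qf (tab Gen.i (22208 + r)) :=
  edges_tab (sm gi) Qf (tab Gen.i) 22208 [(22208, 20618), (22209, 20620), (22210, 20621), (22211, 20591), (22212, 23467), (22213, 20593), (22214, 23547), (22215, 23564), (22216, 20595), (22217, 23548), (22218, 20598), (22219, 20599), (22220, 23550), (22221, 20601), (22222, 23553), (22223, 23554), (22224, 23555), (22225, 23556), (22226, 23533), (22227, 20704), (22228, 23557), (22229, 23558), (22230, 21464), (22231, 23559), (22232, 23560), (22233, 23561), (22234, 20725), (22235, 20724), (22236, 21399), (22237, 20726), (22238, 22238), (22239, 22239), (22240, 22240), (22241, 22241), (22242, 22242), (22243, 22243), (22244, 22244), (22245, 22245), (22246, 23590), (22247, 20636), (22248, 23592), (22249, 20637), (22250, 20918), (22251, 23594), (22252, 20639), (22253, 23597), (22254, 23598), (22255, 20640), (22256, 20925), (22257, 20642), (22258, 20928), (22259, 20645), (22260, 20679), (22261, 23605), (22262, 20647), (22263, 20683), (22264, 20649),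 (22265, 20685), (22266, 23610), (22267, 20652), (22268, 20691), (22269, 23613), (22270, 20654), (22271, 20655)]
    ⟨e3 q22208 L739454 q20618, e3 q22209 L739470 q20620, e3 q22210 L739485 q20621, e3 q22211 (flp_i L739491) q20591, e3 q22212 (flp_i L752703) q23467, e3 q22213 (flp_i L739511) q20593, e3 q22214 (flp_i L753831) q23547, e3 q22215 L754045 q23564, e3 q22216 (flp_i L739549) q20595, e3 q22217 (flp_i L753841) q23548, e3 q22218 (flp_i L739571) q20598, e3 q22219 (flp_i L739587) q20599, e3 q22220 (flp_i L753873) q23550, e3 q22221 (flp_i L739605) q20601, e3 q22222 (flp_i L753916) q23553, e3 q22223 (flp_i L753926) q23554, e3 q22224 (flp_i L753937) q23555, e3 q22225 (flp_i L753945) q23556, e3 q22226 (flp_i L753632) q23533, e3 q22227 L739675 q20704, e3 q22228 (flp_i L753957) q23557, e3 q22229 (flp_i L753980) q23558, e3 q22230 L739701 q21464, e3 q22231 (flp_i L753995) q23559, e3 q22232 (flp_i L754005) q23560, e3 q22233 (flp_i L754019) q23561, e3 q22234 L739746 q20725, e3 q22235 L739764 q20724, e3 q22236 L739777 q21399, e3 q22237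 L739794 q20726, e3 q22238 L739815 q22238, e3 q22239 L739824 q22239, e3 q22240 L739832 q22240, e3 q22241 L739845 q22241, e3 q22242 L739852 q22242, e3 q22243 L739861 q22243, e3 q22244 L739879 q22244, e3 q22245 L739890 q22245, e3 q22246 L754365 q23590, e3 q22247 (flp_i L739903) q20636, e3 q22248 L754390 q23592, e3 q22249 (flp_i L739926) q20637, e3 q22250 L739947 q20918, e3 q22251 L754413 q23594, e3 q22252 (flp_i L739959) q20639, e3 q22253 L754451 q23597, e3 q22254 L754460 q23598, e3 q22255 (flp_i L739985) q20640, e3 q22256 L740000 q20925, e3 q22257 (flp_i L740002) q20642, e3 q22258 L740021 q20928, e3 q22259 (flp_i L740023) q20645, e3 q22260 L740047 q20679, e3 q22261 L754537 q23605, e3 q22262 (flp_i L740062) q20647, e3 q22263 L740082 q20683, e3 q22264 (flp_i L740084) q20649, e3 q22265 L740100 q20685, e3 q22266 L754593 q23610, e3 q22267 (flp_i L740117) q20652, e3 q22268 L740147 q20691, e3 q22269 L754645 q23613, e3 q22270 (flp_i L740156) q20654, e3 q22271 (flp_i L740163) q20655, trivial⟩ (by decide +kernel)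

theorem ce_i_348 : ∀ r, r < 64 → sm gi (Qf (22272 + r)) = Qf (tab Gen.i (22272 + r)) :=
  edges_tab (sm gi) Qf (tab Gen.i) 22272 [(22272, 20697), (22273, 20698), (22274, 20658), (22275, 20701), (22276, 20702), (22277, 20705), (22278, 20706), (22279, 20707), (22280, 20711), (22281, 20713), (22282, 20714), (22283, 20715), (22284, 20717), (22285, 20718), (22286, 20719), (22287, 20721), (22288, 20728), (22289, 20677), (22290, 23603), (22291, 23631), (22292, 23632), (22293, 20680), (22294, 20681), (22295, 23606), (22296, 23607), (22297, 23608), (22298, 23609), (22299, 23639), (22300, 20686), (22301, 21394), (22302, 23641), (22303, 23642), (22304, 20688), (22305, 20689), (22306, 23611), (22307, 23612), (22308, 23647), (22309, 20692), (22310, 20693), (22311, 23649), (22312, 20695), (22313, 23615), (22314, 23616), (22315, 23617), (22316, 20699), (22317, 23618), (22318, 23619), (22319, 23620), (22320, 23567), (22321, 23198), (22322, 23621), (22323, 21370), (22324, 21372), (22325, 23622), (22326, 23171), (22327, 23623), (22328, 23576),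 (22329, 23575), (22330, 23624), (22331, 23175), (22332, 23625), (22333, 23626), (22334, 23627), (22335, 23579)]
    ⟨e3 q22272 L740181 q20697, e3 q22273 L740189 q20698, e3 q22274 (flp_i L740192) q20658, e3 q22275 L740210 q20701, e3 q22276 L740216 q20702, e3 q22277 L740226 q20705, e3 q22278 L740237 q20706, e3 q22279 L740247 q20707, e3 q22280 L740260 q20711, e3 q22281 L740273 q20713, e3 q22282 L740283 q20714, e3 q22283 L740292 q20715, e3 q22284 L740300 q20717, e3 q22285 L740306 q20718, e3 q22286 L740314 q20719, e3 q22287 L740325 q20721, e3 q22288 L740337 q20728, e3 q22289 (flp_i L740342) q20677, e3 q22290 (flp_i L754518) q23603, e3 q22291 L754807 q23631, e3 q22292 L754820 q23632, e3 q22293 (flp_i L740383) q20680, e3 q22294 (flp_i L740395) q20681, e3 q22295 (flp_i L754562) q23606, e3 q22296 (flp_i L754572) q23607, e3 q22297 (flp_i L754585) q23608, e3 q22298 (flp_i L754591) q23609, e3 q22299 L754886 q23639, e3 q22300 (flp_i L740459) q20686, e3 q22301 L740485 q21394, e3 q22302 L754920 q23641, e3 q22303 L754935 q23642, e3 q22304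 (flp_i L740512) q20688, e3 q22305 (flp_i L740526) q20689, e3 q22306 (flp_i L754626) q23611, e3 q22307 (flp_i L754640) q23612, e3 q22308 L754995 q23647, e3 q22309 (flp_i L740573) q20692, e3 q22310 (flp_i L740582) q20693, e3 q22311 (flp_i L755017) q23649, e3 q22312 (flp_i L740598) q20695, e3 q22313 (flp_i L754667) q23615, e3 q22314 (flp_i L754673) q23616, e3 q22315 (flp_i L754680) q23617, e3 q22316 (flp_i L740626) q20699, e3 q22317 (flp_i L754692) q23618, e3 q22318 (flp_i L754698) q23619, e3 q22319 (flp_i L754704) q23620, e3 q22320 (flp_i L754097) q23567, e3 q22321 (flp_i L748941) q23198, e3 q22322 (flp_i L754714) q23621, e3 q22323 L740697 q21370, e3 q22324 L740709 q21372, e3 q22325 (flp_i L754730) q23622, e3 q22326 (flp_i L748525) q23171, e3 q22327 (flp_i L754744) q23623, e3 q22328 (flp_i L754191) q23576, e3 q22329 (flp_i L754169) q23575, e3 q22330 (flp_i L754751) q23624, e3 q22331 (flp_i L748594) q23175, e3 q22332 (flp_i L754761) q23625, e3 q22333 (flp_i L754769) q23626, e3 q22334 (flp_i L754774) q23627, e3 q22335 (flp_i L754236)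 q23579, trivial⟩ (by decide +kernel)

theorem ce_i_349 : ∀ r, r < 64 → sm gi (Qf (22336 + r)) = Qf (tab Gen.i (22336 + r)) :=
  edges_tab (sm gi) Qf (tab Gen.i) 22336 [(22336, 21373), (22337, 21418), (22338, 22338), (22339, 22339), (22340, 22340), (22341, 22341), (22342, 22342), (22343, 20735), (22344, 23676), (22345, 22345), (22346, 22346), (22347, 20739), (22348, 22348), (22349, 20742), (22350, 23681), (22351, 22351), (22352, 22352), (22353, 20747), (22354, 23684), (22355, 22355), (22356, 22356), (22357, 22357), (22358, 20754), (22359, 21497), (22360, 20756), (22361, 21154), (22362, 21508), (22363, 21159), (22364, 21162), (22365, 20764), (22366, 21491), (22367, 21501), (22368, 21511), (22369, 21512), (22370, 21518), (22371, 21522), (22372, 22372), (22373, 23699), (22374, 20775), (22375, 23289), (22376, 20777), (22377, 23491), (22378, 20779), (22379, 23493), (22380, 23705), (22381, 20782), (22382, 20797), (22383, 20784), (22384, 20801), (22385, 20809), (22386, 20810), (22387, 20811), (22388, 20812), (22389, 20816), (22390,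 20793), (22391, 21480), (22392, 20795), (22393, 23706), (22394, 21481), (22395, 23707), (22396, 23708), (22397, 21201), (22398, 21503), (22399, 21172)]
    ⟨e3 q22336 L740802 q21373, e3 q22337 L740814 q21418, e3 q22338 L740825 q22338, e3 q22339 L740836 q22339, e3 q22340 L740846 q22340, e3 q22341 L740858 q22341, e3 q22342 L740863 q22342, e3 q22343 (flp_i L740864) q20735, e3 q22344 (flp_i L755243) q23676, e3 q22345 L740894 q22345, e3 q22346 L740901 q22346, e3 q22347 (flp_i L740902) q20739, e3 q22348 L740932 q22348, e3 q22349 (flp_i L740933) q20742, e3 q22350 (flp_i L755301) q23681, e3 q22351 L740965 q22351, e3 q22352 L740978 q22352, e3 q22353 L740986 q20747, e3 q22354 (flp_i L755334) q23684, e3 q22355 L741002 q22355, e3 q22356 L741011 q22356, e3 q22357 L741016 q22357, e3 q22358 (flp_i L741019) q20754, e3 q22359 L741041 q21497, e3 q22360 (flp_i L741043) q20756, e3 q22361 L741071 q21154, e3 q22362 L741083 q21508, e3 q22363 L741098 q21159, e3 q22364 L741108 q21162, e3 q22365 (flp_i L741115) q20764, e3 q22366 L741140 q21491, e3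 q22367 L741152 q21501, e3 q22368 L741164 q21511, e3 q22369 L741172 q21512, e3 q22370 L741183 q21518, e3 q22371 L741197 q21522, e3 q22372 L741205 q22372, e3 q22373 L755500 q23699, e3 q22374 (flp_i L741219) q20775, e3 q22375 (flp_i L750243) q23289, e3 q22376 (flp_i L741238) q20777, e3 q22377 (flp_i L753076) q23491, e3 q22378 (flp_i L741259) q20779, e3 q22379 (flp_i L753101) q23493, e3 q22380 L755559 q23705, e3 q22381 (flp_i L741291) q20782, e3 q22382 L741316 q20797, e3 q22383 (flp_i L741318) q20784, e3 q22384 L741340 q20801, e3 q22385 L741352 q20809, e3 q22386 L741360 q20810, e3 q22387 L741374 q20811, e3 q22388 L741383 q20812, e3 q22389 L741396 q20816, e3 q22390 (flp_i L741401) q20793, e3 q22391 L741432 q21480, e3 q22392 (flp_i L741434) q20795, e3 q22393 (flp_i L755586) q23706, e3 q22394 L741467 q21481, e3 q22395 (flp_i L755600) q23707, e3 q22396 (flp_i L755608) q23708, e3 q22397 L741499 q21201, e3 q22398 L741515 q21503, e3 q22399 L741531 q21172, trivial⟩ (by decide +kernel)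

theorem ce_i_350 : ∀ r, r < 64 → sm gi (Qf (22400 + r)) = Qf (tab Gen.i (22400 + r)) :=
  edges_tab (sm gi) Qf (tab Gen.i) 22400 [(22400, 21482), (22401, 20807), (22402, 23294), (22403, 23709), (22404, 23710), (22405, 23711), (22406, 23291), (22407, 23295), (22408, 21325), (22409, 23712), (22410, 23298), (22411, 22411), (22412, 22412), (22413, 22413), (22414, 22414), (22415, 22415), (22416, 20828), (22417, 20838), (22418, 20842), (22419, 20833), (22420, 21523), (22421, 20835), (22422, 21469), (22423, 23735), (22424, 20839), (22425, 23296), (22426, 23299), (22427, 23736), (22428, 21676), (22429, 23745), (22430, 20845), (22431, 23539), (22432, 23747), (22433, 20847), (22434, 23543), (22435, 20849), (22436, 23545), (22437, 23752), (22438, 20852), (22439, 20869), (22440, 23754), (22441, 20854), (22442, 20876), (22443, 20885), (22444, 20886), (22445, 20859), (22446, 20891), (22447, 20892), (22448, 20895), (22449, 20896), (22450, 23764), (22451, 20865), (22452, 21078), (22453, 20867), (22454, 23753), (22455, 23768), (22456, 20870),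 (22457, 23770), (22458, 20871), (22459, 21611), (22460, 20874), (22461, 23755), (22462, 23756), (22463, 23776)]
    ⟨e3 q22400 L741539 q21482, e3 q22401 (flp_i L741543) q20807, e3 q22402 (flp_i L750318) q23294, e3 q22403 (flp_i L755618) q23709, e3 q22404 (flp_i L755628) q23710, e3 q22405 (flp_i L755640) q23711, e3 q22406 (flp_i L750273) q23291, e3 q22407 (flp_i L750330) q23295, e3 q22408 L741615 q21325, e3 q22409 (flp_i L755652) q23712, e3 q22410 (flp_i L750372) q23298, e3 q22411 L741643 q22411, e3 q22412 L741652 q22412, e3 q22413 L741665 q22413, e3 q22414 L741672 q22414, e3 q22415 L741679 q22415, e3 q22416 (flp_i L741682) q20828, e3 q22417 L741710 q20838, e3 q22418 L741720 q20842, e3 q22419 (flp_i L741722) q20833, e3 q22420 L741741 q21523, e3 q22421 (flp_i L741743) q20835, e3 q22422 L741763 q21469, e3 q22423 (flp_i L755902) q23735, e3 q22424 (flp_i L741773) q20839, e3 q22425 (flp_i L750351) q23296, e3 q22426 (flp_i L750391) q23299, e3 q22427 (flp_i L755910) q23736, e3 q22428 L741810 q21676, e3 q22429 L755977 q23745, e3 q22430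 (flp_i L741826) q20845, e3 q22431 (flp_i L753711) q23539, e3 q22432 L756006 q23747, e3 q22433 (flp_i L741870) q20847, e3 q22434 (flp_i L753774) q23543, e3 q22435 (flp_i L741899) q20849, e3 q22436 (flp_i L753799) q23545, e3 q22437 L756067 q23752, e3 q22438 (flp_i L741931) q20852, e3 q22439 L741962 q20869, e3 q22440 L756098 q23754, e3 q22441 (flp_i L741974) q20854, e3 q22442 L741996 q20876, e3 q22443 L742008 q20885, e3 q22444 L742016 q20886, e3 q22445 (flp_i L742020) q20859, e3 q22446 L742040 q20891, e3 q22447 L742049 q20892, e3 q22448 L742060 q20895, e3 q22449 L742072 q20896, e3 q22450 L756208 q23764, e3 q22451 (flp_i L742091) q20865, e3 q22452 L742120 q21078, e3 q22453 (flp_i L742122) q20867, e3 q22454 (flp_i L756096) q23753, e3 q22455 L756256 q23768, e3 q22456 (flp_i L742154) q20870, e3 q22457 L756281 q23770, e3 q22458 (flp_i L742178) q20871, e3 q22459 L742204 q21611, e3 q22460 (flp_i L742206) q20874, e3 q22461 (flp_i L756120) q23755, e3 q22462 (flp_i L756128) q23756, e3 q22463 L756343 q23776, trivial⟩ (by decide +kernel)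

theorem ce_i_351 : ∀ r, r < 64 → sm gi (Qf (22464 + r)) = Qf (tab Gen.i (22464 + r)) :=
  edges_tab (sm gi) Qf (tab Gen.i) 22464 [(22464, 20877), (22465, 21608), (22466, 23779), (22467, 20880), (22468, 20881), (22469, 23781), (22470, 21634), (22471, 21633), (22472, 23757), (22473, 23758), (22474, 20887), (22475, 21645), (22476, 21644), (22477, 23759), (22478, 23760), (22479, 23761), (22480, 21654), (22481, 21211), (22482, 23762), (22483, 23763), (22484, 22484), (22485, 22485), (22486, 22486), (22487, 22487), (22488, 21674), (22489, 20905), (22490, 20907), (22491, 21672), (22492, 20910), (22493, 20911), (22494, 21327), (22495, 23804), (22496, 20913), (22497, 23806), (22498, 20914), (22499, 23591), (22500, 23809), (22501, 20916), (22502, 23593), (22503, 23812), (22504, 20919), (22505, 23814), (22506, 23815), (22507, 20920), (22508, 23595), (22509, 23818), (22510, 23819), (22511, 20922), (22512, 23821), (22513, 20923), (22514, 23599), (22515, 23600), (22516, 20926), (22517, 23601), (22518, 23602), (22519, 20929), (22520, 20982),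 (22521, 23829), (22522, 20931), (22523, 20985), (22524, 20934), (22525, 20991), (22526, 23833), (22527, 20936)]
    ⟨e3 q22464 (flp_i L742246) q20877, e3 q22465 L742268 q21608, e3 q22466 L756383 q23779, e3 q22467 (flp_i L742283) q20880, e3 q22468 (flp_i L742292) q20881, e3 q22469 (flp_i L756415) q23781, e3 q22470 L742324 q21634, e3 q22471 L742332 q21633, e3 q22472 (flp_i L756138) q23757, e3 q22473 (flp_i L756148) q23758, e3 q22474 (flp_i L742348) q20887, e3 q22475 L742372 q21645, e3 q22476 L742383 q21644, e3 q22477 (flp_i L756161) q23759, e3 q22478 (flp_i L756171) q23760, e3 q22479 (flp_i L756184) q23761, e3 q22480 L742422 q21654, e3 q22481 L742434 q21211, e3 q22482 (flp_i L756195) q23762, e3 q22483 (flp_i L756204) q23763, e3 q22484 L742459 q22484, e3 q22485 L742468 q22485, e3 q22486 L742476 q22486, e3 q22487 L742483 q22487, e3 q22488 L742495 q21674, e3 q22489 (flp_i L742497) q20905, e3 q22490 (flp_i L742510) q20907, e3 q22491 L742533 q21672, e3 q22492 L742548 q20910, e3 q22493 (flp_i L742550) q20911, e3 q22494 L742576 q21327,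 e3 q22495 L756633 q23804, e3 q22496 (flp_i L742592) q20913, e3 q22497 L756660 q23806, e3 q22498 (flp_i L742620) q20914, e3 q22499 (flp_i L754388) q23591, e3 q22500 L756696 q23809, e3 q22501 (flp_i L742650) q20916, e3 q22502 (flp_i L754411) q23593, e3 q22503 L756720 q23812, e3 q22504 (flp_i L742677) q20919, e3 q22505 L756745 q23814, e3 q22506 L756763 q23815, e3 q22507 (flp_i L742717) q20920, e3 q22508 (flp_i L754432) q23595, e3 q22509 L756791 q23818, e3 q22510 L756807 q23819, e3 q22511 (flp_i L742764) q20922, e3 q22512 L756835 q23821, e3 q22513 (flp_i L742787) q20923, e3 q22514 (flp_i L754477) q23599, e3 q22515 (flp_i L754484) q23600, e3 q22516 (flp_i L742809) q20926, e3 q22517 (flp_i L754496) q23601, e3 q22518 (flp_i L754504) q23602, e3 q22519 (flp_i L742831) q20929, e3 q22520 L742858 q20982, e3 q22521 L756898 q23829, e3 q22522 (flp_i L742871) q20931, e3 q22523 L742886 q20985, e3 q22524 (flp_i L742888) q20934, e3 q22525 L742912 q20991, e3 q22526 L756938 q23833, e3 q22527 (flp_i L742932) q20936, trivial⟩ (by decide +kernel)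

theorem ce_i_352 : ∀ r, r < 64 → sm gi (Qf (22528 + r)) = Qf (tab Gen.i (22528 + r)) :=
  edges_tab (sm gi) Qf (tab Gen.i) 22528 [(22528, 20997), (22529, 23836), (22530, 20939), (22531, 21001), (22532, 21002), (22533, 20942), (22534, 21009), (22535, 23842), (22536, 20945), (22537, 20946), (22538, 23844), (22539, 20948), (22540, 21018), (22541, 21019), (22542, 20951), (22543, 21022), (22544, 21023), (22545, 21024), (22546, 20956), (22547, 21031), (22548, 21032), (22549, 20959), (22550, 21035), (22551, 21036), (22552, 21037), (22553, 20963), (22554, 21043), (22555, 21044), (22556, 21048), (22557, 21049), (22558, 21050), (22559, 21051), (22560, 21052), (22561, 21055), (22562, 21058), (22563, 21059), (22564, 20977), (22565, 23801), (22566, 20979), (22567, 23871), (22568, 20980), (22569, 23828), (22570, 21531), (22571, 20983), (22572, 23830), (22573, 23831), (22574, 20986), (22575, 21547), (22576, 23879), (22577, 20988), (22578, 20989), (22579, 23832), (22580, 21535), (22581, 23882), (22582, 23883), (22583, 20992), (22584, 20993),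 (22585, 23885), (22586, 23887), (22587, 20995), (22588, 23834), (22589, 23835), (22590, 21536), (22591, 20999)]
    ⟨e3 q22528 L742956 q20997, e3 q22529 L756982 q23836, e3 q22530 (flp_i L742970) q20939, e3 q22531 L742984 q21001, e3 q22532 L742990 q21002, e3 q22533 (flp_i L742992) q20942, e3 q22534 L743014 q21009, e3 q22535 L757038 q23842, e3 q22536 (flp_i L743032) q20945, e3 q22537 (flp_i L743044) q20946, e3 q22538 (flp_i L757074) q23844, e3 q22539 (flp_i L743066) q20948, e3 q22540 L743090 q21018, e3 q22541 L743098 q21019, e3 q22542 (flp_i L743102) q20951, e3 q22543 L743118 q21022, e3 q22544 L743124 q21023, e3 q22545 L743130 q21024, e3 q22546 (flp_i L743132) q20956, e3 q22547 L743157 q21031, e3 q22548 L743166 q21032, e3 q22549 (flp_i L743174) q20959, e3 q22550 L743191 q21035, e3 q22551 L743199 q21036, e3 q22552 L743210 q21037, e3 q22553 (flp_i L743214) q20963, e3 q22554 L743242 q21043, e3 q22555 L743250 q21044, e3 q22556 L743262 q21048, e3 q22557 L743270 q21049, e3 q22558 L743278 q21050, e3 q22559 L743285 q21051, e3 q22560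 L743296 q21052, e3 q22561 L743313 q21055, e3 q22562 L743320 q21058, e3 q22563 L743332 q21059, e3 q22564 (flp_i L743338) q20977, e3 q22565 (flp_i L756604) q23801, e3 q22566 (flp_i L743365) q20979, e3 q22567 L757359 q23871, e3 q22568 (flp_i L743390) q20980, e3 q22569 (flp_i L756896) q23828, e3 q22570 L743420 q21531, e3 q22571 (flp_i L743426) q20983, e3 q22572 (flp_i L756916) q23830, e3 q22573 (flp_i L756924) q23831, e3 q22574 (flp_i L743446) q20986, e3 q22575 L743472 q21547, e3 q22576 L757436 q23879, e3 q22577 (flp_i L743491) q20988, e3 q22578 (flp_i L743507) q20989, e3 q22579 (flp_i L756936) q23832, e3 q22580 L743537 q21535, e3 q22581 L757471 q23882, e3 q22582 L757482 q23883, e3 q22583 (flp_i L743567) q20992, e3 q22584 (flp_i L743576) q20993, e3 q22585 (flp_i L757516) q23885, e3 q22586 L757524 q23887, e3 q22587 (flp_i L743608) q20995, e3 q22588 (flp_i L756968) q23834, e3 q22589 (flp_i L756976) q23835, e3 q22590 L743640 q21536, e3 q22591 (flp_i L743642) q20999, trivial⟩ (by decide +kernel)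

theorem ce_i_353 : ∀ r, r < 64 → sm gi (Qf (22592 + r)) = Qf (tab Gen.i (22592 + r)) :=
  edges_tab (sm gi) Qf (tab Gen.i) 22592 [(22592, 23837), (22593, 23838), (22594, 23839), (22595, 23398), (22596, 23898), (22597, 21005), (22598, 23765), (22599, 21007), (22600, 23394), (22601, 23841), (22602, 21541), (22603, 23905), (22604, 23906), (22605, 21011), (22606, 21012), (22607, 23908), (22608, 21015), (22609, 23910), (22610, 21016), (22611, 23846), (22612, 23847), (22613, 23848), (22614, 21544), (22615, 21155), (22616, 23849), (22617, 23850), (22618, 23851), (22619, 23852), (22620, 23853), (22621, 23384), (22622, 23414), (22623, 21029), (22624, 23854), (22625, 23855), (22626, 21317), (22627, 21160), (22628, 23856), (22629, 23857), (22630, 23858), (22631, 23859), (22632, 23860), (22633, 21038), (22634, 21287), (22635, 23395), (22636, 23861), (22637, 23427), (22638, 21326), (22639, 23862), (22640, 21156), (22641, 23863), (22642, 23864), (22643, 23865), (22644, 23866), (22645, 23867), (22646, 23261), (22647, 21311), (22648, 23421),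 (22649, 23266), (22650, 23868), (22651, 22651), (22652, 22652), (22653, 22653), (22654, 22654), (22655, 22655)]
    ⟨e3 q22592 (flp_i L757000) q23837, e3 q22593 (flp_i L757008) q23838, e3 q22594 (flp_i L757014) q23839, e3 q22595 (flp_i L751749) q23398, e3 q22596 L757600 q23898, e3 q22597 (flp_i L743685) q21005, e3 q22598 (flp_i L756237) q23765, e3 q22599 (flp_i L743702) q21007, e3 q22600 (flp_i L751683) q23394, e3 q22601 (flp_i L757034) q23841, e3 q22602 L743738 q21541, e3 q22603 L757668 q23905, e3 q22604 L757681 q23906, e3 q22605 (flp_i L743758) q21011, e3 q22606 (flp_i L743767) q21012, e3 q22607 (flp_i L757700) q23908, e3 q22608 L743783 q21015, e3 q22609 (flp_i L757712) q23910, e3 q22610 (flp_i L743791) q21016, e3 q22611 (flp_i L757102) q23846, e3 q22612 (flp_i L757110) q23847, e3 q22613 (flp_i L757120) q23848, e3 q22614 L743827 q21544, e3 q22615 L743839 q21155, e3 q22616 (flp_i L757132) q23849, e3 q22617 (flp_i L757140) q23850, e3 q22618 (flp_i L757146) q23851, e3 q22619 (flp_i L757150) q23852, e3 q22620 (flp_i L757158)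 q23853, e3 q22621 (flp_i L751565) q23384, e3 q22622 (flp_i L751902) q23414, e3 q22623 (flp_i L743887) q21029, e3 q22624 (flp_i L757173) q23854, e3 q22625 (flp_i L757183) q23855, e3 q22626 L743919 q21317, e3 q22627 L743935 q21160, e3 q22628 (flp_i L757200) q23856, e3 q22629 (flp_i L757207) q23857, e3 q22630 (flp_i L757217) q23858, e3 q22631 (flp_i L757226) q23859, e3 q22632 (flp_i L757238) q23860, e3 q22633 (flp_i L743976) q21038, e3 q22634 L744003 q21287, e3 q22635 (flp_i L751695) q23395, e3 q22636 (flp_i L757256) q23861, e3 q22637 (flp_i L752084) q23427, e3 q22638 L744032 q21326, e3 q22639 (flp_i L757266) q23862, e3 q22640 L744048 q21156, e3 q22641 (flp_i L757276) q23863, e3 q22642 (flp_i L757286) q23864, e3 q22643 (flp_i L757297) q23865, e3 q22644 (flp_i L757308) q23866, e3 q22645 (flp_i L757317) q23867, e3 q22646 (flp_i L749847) q23261, e3 q22647 L744113 q21311, e3 q22648 (flp_i L752000) q23421, e3 q22649 (flp_i L749914) q23266, e3 q22650 (flp_i L757329) q23868, e3 q22651 L744148 q22651, e3 q22652 L744154 q22652, e3 q22653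 L744160 q22653, e3 q22654 L744168 q22654, e3 q22655 L744175 q22655, trivial⟩ (by decide +kernel)

theorem ce_i_354 : ∀ r, r < 64 → sm gi (Qf (22656 + r)) = Qf (tab Gen.i (22656 + r)) :=
  edges_tab (sm gi) Qf (tab Gen.i) 22656 [(22656, 22656), (22657, 22657), (22658, 22658), (22659, 22659), (22660, 22660), (22661, 22661), (22662, 22662), (22663, 21076), (22664, 21081), (22665, 23964), (22666, 23965), (22667, 21100), (22668, 21101), (22669, 22669), (22670, 22670), (22671, 22671), (22672, 22672), (22673, 22673), (22674, 22674), (22675, 23937), (22676, 22676), (22677, 23423), (22678, 21096), (22679, 21098), (22680, 21099), (22681, 23974), (22682, 23968), (22683, 21361), (22684, 21359), (22685, 21107), (22686, 23975), (22687, 21385), (22688, 21414), (22689, 23189), (22690, 21130), (22691, 21453), (22692, 21449), (22693, 21454), (22694, 21120), (22695, 23180), (22696, 21123), (22697, 23302), (22698, 21125), (22699, 21437), (22700, 23181), (22701, 21434), (22702, 21439), (22703, 23980), (22704, 21436), (22705, 21456), (22706, 21432),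 (22707, 21438), (22708, 21459), (22709, 21143), (22710, 21190), (22711, 21192), (22712, 21150), (22713, 21157), (22714, 24000), (22715, 21151), (22716, 21324), (22717, 23690), (22718, 23691), (22719, 23919)]
    ⟨e3 q22656 L744188 q22656, e3 q22657 L744197 q22657, e3 q22658 L744205 q22658, e3 q22659 L744218 q22659, e3 q22660 L744230 q22660, e3 q22661 L744239 q22661, e3 q22662 L744242 q22662, e3 q22663 L744255 q21076, e3 q22664 L744266 q21081, e3 q22665 (flp_i L758160) q23964, e3 q22666 (flp_i L758174) q23965, e3 q22667 L744301 q21100, e3 q22668 L744313 q21101, e3 q22669 L744327 q22669, e3 q22670 L744344 q22670, e3 q22671 L744352 q22671, e3 q22672 L744367 q22672, e3 q22673 L744383 q22673, e3 q22674 L744391 q22674, e3 q22675 (flp_i L757925) q23937, e3 q22676 L744408 q22676, e3 q22677 (flp_i L752038) q23423, e3 q22678 L744435 q21096, e3 q22679 L744444 q21098, e3 q22680 L744457 q21099, e3 q22681 (flp_i L758267) q23974, e3 q22682 (flp_i L758209) q23968, e3 q22683 L744494 q21361, e3 q22684 L744507 q21359, e3 q22685 L744524 q21107,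 e3 q22686 (flp_i L758279) q23975, e3 q22687 L744550 q21385, e3 q22688 L744564 q21414, e3 q22689 (flp_i L748813) q23189, e3 q22690 L744582 q21130, e3 q22691 L744594 q21453, e3 q22692 L744606 q21449, e3 q22693 L744616 q21454, e3 q22694 (flp_i L744620) q21120, e3 q22695 (flp_i L748675) q23180, e3 q22696 (flp_i L744644) q21123, e3 q22697 (flp_i L750443) q23302, e3 q22698 (flp_i L744673) q21125, e3 q22699 L744697 q21437, e3 q22700 (flp_i L748687) q23181, e3 q22701 L744709 q21434, e3 q22702 L744719 q21439, e3 q22703 (flp_i L758343) q23980, e3 q22704 L744737 q21436, e3 q22705 L744747 q21456, e3 q22706 L744758 q21432, e3 q22707 L744766 q21438, e3 q22708 L744773 q21459, e3 q22709 (flp_i L744778) q21143, e3 q22710 L744800 q21190, e3 q22711 L744814 q21192, e3 q22712 L744828 q21150, e3 q22713 L744838 q21157, e3 q22714 (flp_i L758560) q24000, e3 q22715 (flp_i L744854) q21151, e3 q22716 L744880 q21324, e3 q22717 (flp_i L755401) q23690, e3 q22718 (flp_i L755413) q23691, e3 q22719 (flp_i L757782) q23919, trivial⟩ (by decide +kernel)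

theorem ce_i_355 : ∀ r, r < 64 → sm gi (Qf (22720 + r)) = Qf (tab Gen.i (22720 + r)) :=
  edges_tab (sm gi) Qf (tab Gen.i) 22720 [(22720, 23942), (22721, 24001), (22722, 21331), (22723, 23693), (22724, 22724), (22725, 22725), (22726, 22726), (22727, 21483), (22728, 23721), (22729, 21173), (22730, 21199), (22731, 21200), (22732, 21202), (22733, 21206), (22734, 24016), (22735, 21179), (22736, 21180), (22737, 23210), (22738, 21182), (22739, 23212), (22740, 21185), (22741, 23254), (22742, 24024), (22743, 21187), (22744, 21188), (22745, 23997), (22746, 23998), (22747, 21527), (22748, 23999), (22749, 21193), (22750, 23249), (22751, 23260), (22752, 21196), (22753, 23340), (22754, 23243), (22755, 24013), (22756, 24014), (22757, 23719), (22758, 24015), (22759, 23255), (22760, 21526), (22761, 21699), (22762, 23790), (22763, 23262), (22764, 23244), (22765, 23794), (22766, 22766), (22767, 22767), (22768, 22768), (22769, 23330), (22770, 22770), (22771, 22771), (22772, 23337), (22773, 22773), (22774, 22774), (22775, 23341), (22776, 22776),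 (22777, 22777), (22778, 22778), (22779, 22779), (22780, 22780), (22781, 21231), (22782, 21232), (22783, 21641)]
    ⟨e3 q22720 (flp_i L757960) q23942, e3 q22721 (flp_i L758574) q24001, e3 q22722 L744935 q21331, e3 q22723 (flp_i L755439) q23693, e3 q22724 L744952 q22724, e3 q22725 L744959 q22725, e3 q22726 L744972 q22726, e3 q22727 L744985 q21483, e3 q22728 (flp_i L755763) q23721, e3 q22729 (flp_i L744997) q21173, e3 q22730 L745012 q21199, e3 q22731 L745020 q21200, e3 q22732 L745029 q21202, e3 q22733 L745040 q21206, e3 q22734 L758702 q24016, e3 q22735 (flp_i L745057) q21179, e3 q22736 (flp_i L745070) q21180, e3 q22737 (flp_i L749129) q23210, e3 q22738 (flp_i L745095) q21182, e3 q22739 (flp_i L749154) q23212, e3 q22740 (flp_i L745110) q21185, e3 q22741 (flp_i L749764) q23254, e3 q22742 L758785 q24024, e3 q22743 (flp_i L745137) q21187, e3 q22744 (flp_i L745151) q21188, e3 q22745 (flp_i L758519) q23997, e3 q22746 (flp_i L758529) q23998, e3 q22747 L745197 q21527, e3 q22748 (flp_i L758544) q23999, e3 q22749 (flp_i L745207) q21193,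 e3 q22750 (flp_i L749716) q23249, e3 q22751 (flp_i L749837) q23260, e3 q22752 (flp_i L745235) q21196, e3 q22753 (flp_i L750986) q23340, e3 q22754 (flp_i L749624) q23243, e3 q22755 (flp_i L758683) q24013, e3 q22756 (flp_i L758692) q24014, e3 q22757 (flp_i L755729) q23719, e3 q22758 (flp_i L758700) q24015, e3 q22759 (flp_i L749775) q23255, e3 q22760 L745315 q21526, e3 q22761 L745324 q21699, e3 q22762 (flp_i L756499) q23790, e3 q22763 (flp_i L749866) q23262, e3 q22764 (flp_i L749638) q23244, e3 q22765 (flp_i L756537) q23794, e3 q22766 L745381 q22766, e3 q22767 L745391 q22767, e3 q22768 L745402 q22768, e3 q22769 (flp_i L750857) q23330, e3 q22770 L745423 q22770, e3 q22771 L745434 q22771, e3 q22772 (flp_i L750952) q23337, e3 q22773 L745449 q22773, e3 q22774 L745456 q22774, e3 q22775 (flp_i L750995) q23341, e3 q22776 L745472 q22776, e3 q22777 L745481 q22777, e3 q22778 L745495 q22778, e3 q22779 L745506 q22779, e3 q22780 L745514 q22780, e3 q22781 (flp_i L745517) q21231, e3 q22782 (flp_i L745530) q21232, e3 q22783 L745552 q21641, trivial⟩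 (by decide +kernel)

theorem ce_i_356 : ∀ r, r < 64 → sm gi (Qf (22784 + r)) = Qf (tab Gen.i (22784 + r)) :=
  edges_tab (sm gi) Qf (tab Gen.i) 22784 [(22784, 21234), (22785, 21609), (22786, 21643), (22787, 21614), (22788, 24068), (22789, 21238), (22790, 21271), (22791, 21273), (22792, 24072), (22793, 21242), (22794, 21276), (22795, 24075), (22796, 21244), (22797, 21281), (22798, 21282), (22799, 21284), (22800, 21248), (22801, 21249), (22802, 21293), (22803, 21294), (22804, 21252), (22805, 21253), (22806, 24085), (22807, 21302), (22808, 21303), (22809, 21304), (22810, 21306), (22811, 21307), (22812, 21308), (22813, 21314), (22814, 21321), (22815, 21269), (22816, 24069), (22817, 24070), (22818, 23825), (22819, 24071), (22820, 21274), (22821, 24073), (22822, 24074), (22823, 24101), (22824, 21277), (22825, 21278), (22826, 24103), (22827, 21556), (22828, 24077), (22829, 24078), (22830, 21558), (22831, 24079), (22832, 21285), (22833, 23901), (22834, 21288), (22835, 21289), (22836, 24114), (22837, 21291), (22838, 24081), (22839,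 24082), (22840, 24083), (22841, 21295), (22842, 21296), (22843, 24121), (22844, 21299), (22845, 24123), (22846, 21300), (22847, 24003)]
    ⟨e3 q22784 (flp_i L745554) q21234, e3 q22785 L745575 q21609, e3 q22786 L745583 q21643, e3 q22787 L745594 q21614, e3 q22788 L759213 q24068, e3 q22789 (flp_i L745605) q21238, e3 q22790 L745620 q21271, e3 q22791 L745630 q21273, e3 q22792 L759252 q24072, e3 q22793 (flp_i L745641) q21242, e3 q22794 L745663 q21276, e3 q22795 L759290 q24075, e3 q22796 (flp_i L745676) q21244, e3 q22797 L745697 q21281, e3 q22798 L745705 q21282, e3 q22799 L745716 q21284, e3 q22800 (flp_i L745720) q21248, e3 q22801 (flp_i L745727) q21249, e3 q22802 L745751 q21293, e3 q22803 L745759 q21294, e3 q22804 (flp_i L745762) q21252, e3 q22805 (flp_i L745774) q21253, e3 q22806 (flp_i L759384) q24085, e3 q22807 L745792 q21302, e3 q22808 L745796 q21303, e3 q22809 L745801 q21304, e3 q22810 L745813 q21306, e3 q22811 L745823 q21307, e3 q22812 L745829 q21308, e3 q22813 L745838 q21314, e3 q22814 L745857 q21321, e3 q22815 (flp_i L745859)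 q21269, e3 q22816 (flp_i L759230) q24069, e3 q22817 (flp_i L759237) q24070, e3 q22818 (flp_i L756870) q23825, e3 q22819 (flp_i L759248) q24071, e3 q22820 (flp_i L745896) q21274, e3 q22821 (flp_i L759275) q24073, e3 q22822 (flp_i L759285) q24074, e3 q22823 L759497 q24101, e3 q22824 (flp_i L745941) q21277, e3 q22825 (flp_i L745952) q21278, e3 q22826 (flp_i L759523) q24103, e3 q22827 L745974 q21556, e3 q22828 (flp_i L759316) q24077, e3 q22829 (flp_i L759323) q24078, e3 q22830 L745994 q21558, e3 q22831 (flp_i L759333) q24079, e3 q22832 (flp_i L746002) q21285, e3 q22833 (flp_i L757644) q23901, e3 q22834 (flp_i L746024) q21288, e3 q22835 (flp_i L746033) q21289, e3 q22836 (flp_i L759608) q24114, e3 q22837 (flp_i L746045) q21291, e3 q22838 (flp_i L759356) q24081, e3 q22839 (flp_i L759362) q24082, e3 q22840 (flp_i L759369) q24083, e3 q22841 (flp_i L746079) q21295, e3 q22842 (flp_i L746092) q21296, e3 q22843 (flp_i L759664) q24121, e3 q22844 L746106 q21299, e3 q22845 (flp_i L759674) q24123, e3 q22846 (flp_i L746112) q21300, e3 q22847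 (flp_i L758600) q24003, trivial⟩ (by decide +kernel)

theorem ce_i_357 : ∀ r, r < 64 → sm gi (Qf (22848 + r)) = Qf (tab Gen.i (22848 + r)) :=
  edges_tab (sm gi) Qf (tab Gen.i) 22848 [(22848, 24087), (22849, 24088), (22850, 24089), (22851, 23941), (22852, 23803), (22853, 24090), (22854, 24091), (22855, 24092), (22856, 21309), (22857, 21655), (22858, 21553), (22859, 21700), (22860, 21557), (22861, 23929), (22862, 21648), (22863, 21656), (22864, 21647), (22865, 23424), (22866, 23440), (22867, 23422), (22868, 23731), (22869, 21640), (22870, 23415), (22871, 22871), (22872, 22872), (22873, 21336), (22874, 24147), (22875, 22875), (22876, 22876), (22877, 21340), (22878, 24151), (22879, 22879), (22880, 21344), (22881, 24153), (22882, 22882), (22883, 22883), (22884, 23465), (22885, 21353), (22886, 23159), (22887, 23462), (22888, 21371), (22889, 21392), (22890, 23644), (22891, 23663), (22892, 24155), (22893, 23664), (22894, 22894), (22895, 22895), (22896, 22896), (22897, 24163), (22898, 21378), (22899, 21390), (22900, 21391), (22901,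 21393), (22902, 21396), (22903, 23977), (22904, 24170), (22905, 21386), (22906, 21387), (22907, 24172), (22908, 23640), (22909, 24165), (22910, 24166), (22911, 24156)]
    ⟨e3 q22848 (flp_i L759396) q24087, e3 q22849 (flp_i L759400) q24088, e3 q22850 (flp_i L759406) q24089, e3 q22851 (flp_i L757949) q23941, e3 q22852 (flp_i L756631) q23803, e3 q22853 (flp_i L759418) q24090, e3 q22854 (flp_i L759430) q24091, e3 q22855 (flp_i L759434) q24092, e3 q22856 (flp_i L746168) q21309, e3 q22857 L746194 q21655, e3 q22858 L746206 q21553, e3 q22859 L746215 q21700, e3 q22860 L746224 q21557, e3 q22861 (flp_i L757849) q23929, e3 q22862 L746245 q21648, e3 q22863 L746255 q21656, e3 q22864 L746270 q21647, e3 q22865 (flp_i L752050) q23424, e3 q22866 (flp_i L752246) q23440, e3 q22867 (flp_i L752018) q23422, e3 q22868 (flp_i L755855) q23731, e3 q22869 L746310 q21640, e3 q22870 (flp_i L751923) q23415, e3 q22871 L746324 q22871, e3 q22872 L746333 q22872, e3 q22873 L746339 q21336, e3 q22874 (flp_i L759830) q24147, e3 q22875 L746352 q22875, e3 q22876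 L746359 q22876, e3 q22877 L746367 q21340, e3 q22878 (flp_i L759857) q24151, e3 q22879 L746380 q22879, e3 q22880 L746386 q21344, e3 q22881 (flp_i L759869) q24153, e3 q22882 L746397 q22882, e3 q22883 L746402 q22883, e3 q22884 (flp_i L752665) q23465, e3 q22885 L746421 q21353, e3 q22886 (flp_i L748324) q23159, e3 q22887 (flp_i L752606) q23462, e3 q22888 L746450 q21371, e3 q22889 L746464 q21392, e3 q22890 (flp_i L754973) q23644, e3 q22891 (flp_i L755118) q23663, e3 q22892 (flp_i L759886) q24155, e3 q22893 (flp_i L755136) q23664, e3 q22894 L746512 q22894, e3 q22895 L746519 q22895, e3 q22896 L746527 q22896, e3 q22897 L759954 q24163, e3 q22898 (flp_i L746535) q21378, e3 q22899 L746546 q21390, e3 q22900 L746552 q21391, e3 q22901 L746559 q21393, e3 q22902 L746570 q21396, e3 q22903 (flp_i L758305) q23977, e3 q22904 L759996 q24170, e3 q22905 (flp_i L746589) q21386, e3 q22906 (flp_i L746598) q21387, e3 q22907 (flp_i L760020) q24172, e3 q22908 (flp_i L754918) q23640, e3 q22909 (flp_i L759966) q24165, e3 q22910 (flp_i L759973) q24166, e3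 q22911 (flp_i L759902) q24156, trivial⟩ (by decide +kernel)

theorem ce_i_358 : ∀ r, r < 64 → sm gi (Qf (22912 + r)) = Qf (tab Gen.i (22912 + r)) :=
  edges_tab (sm gi) Qf (tab Gen.i) 22912 [(22912, 24167), (22913, 23196), (22914, 23177), (22915, 24168), (22916, 23578), (22917, 21401), (22918, 24183), (22919, 22919), (22920, 22920), (22921, 22921), (22922, 21406), (22923, 21415), (22924, 21416), (22925, 21417), (22926, 23468), (22927, 23978), (22928, 24188), (22929, 24189), (22930, 24190), (22931, 23666), (22932, 22932), (22933, 21444), (22934, 21445), (22935, 21423), (22936, 24199), (22937, 21450), (22938, 21451), (22939, 21455), (22940, 21460), (22941, 21463), (22942, 23988), (22943, 23995), (22944, 23191), (22945, 23991), (22946, 23984), (22947, 23994), (22948, 23989), (22949, 23996), (22950, 23992), (22951, 23535), (22952, 23536), (22953, 23738), (22954, 23509), (22955, 24197), (22956, 24198), (22957, 21447), (22958, 24222), (22959, 23166), (22960, 23982), (22961, 24201), (22962, 24202), (22963, 24203), (22964, 23168),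 (22965, 23981), (22966, 23983), (22967, 24204), (22968, 24205), (22969, 23577), (22970, 22970), (22971, 22971), (22972, 22972), (22973, 23739), (22974, 22974), (22975, 22975)]
    ⟨e3 q22912 (flp_i L759979) q24167, e3 q22913 (flp_i L748915) q23196, e3 q22914 (flp_i L748624) q23177, e3 q22915 (flp_i L759986) q24168, e3 q22916 (flp_i L754215) q23578, e3 q22917 L746673 q21401, e3 q22918 (flp_i L760079) q24183, e3 q22919 L746682 q22919, e3 q22920 L746689 q22920, e3 q22921 L746697 q22921, e3 q22922 (flp_i L746700) q21406, e3 q22923 L746719 q21415, e3 q22924 L746727 q21416, e3 q22925 L746734 q21417, e3 q22926 (flp_i L752719) q23468, e3 q22927 (flp_i L758321) q23978, e3 q22928 (flp_i L760112) q24188, e3 q22929 (flp_i L760119) q24189, e3 q22930 (flp_i L760125) q24190, e3 q22931 (flp_i L755160) q23666, e3 q22932 L746778 q22932, e3 q22933 L746787 q21444, e3 q22934 L746795 q21445, e3 q22935 (flp_i L746798) q21423, e3 q22936 (flp_i L760183) q24199, e3 q22937 L746808 q21450, e3 q22938 L746813 q21451, e3 q22939 L746817 q21455, e3 q22940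 L746826 q21460, e3 q22941 L746831 q21463, e3 q22942 (flp_i L758438) q23988, e3 q22943 (flp_i L758495) q23995, e3 q22944 (flp_i L748851) q23191, e3 q22945 (flp_i L758458) q23991, e3 q22946 (flp_i L758387) q23984, e3 q22947 (flp_i L758486) q23994, e3 q22948 (flp_i L758446) q23989, e3 q22949 (flp_i L758505) q23996, e3 q22950 (flp_i L758470) q23992, e3 q22951 (flp_i L753659) q23535, e3 q22952 (flp_i L753669) q23536, e3 q22953 (flp_i L755936) q23738, e3 q22954 (flp_i L753320) q23509, e3 q22955 (flp_i L760171) q24197, e3 q22956 (flp_i L760178) q24198, e3 q22957 L746939 q21447, e3 q22958 (flp_i L760315) q24222, e3 q22959 (flp_i L748449) q23166, e3 q22960 (flp_i L758363) q23982, e3 q22961 (flp_i L760191) q24201, e3 q22962 (flp_i L760197) q24202, e3 q22963 (flp_i L760204) q24203, e3 q22964 (flp_i L748483) q23168, e3 q22965 (flp_i L758351) q23981, e3 q22966 (flp_i L758373) q23983, e3 q22967 (flp_i L760210) q24204, e3 q22968 (flp_i L760217) q24205, e3 q22969 (flp_i L754203) q23577, e3 q22970 L747011 q22970, e3 q22971 L747018 q22971,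 e3 q22972 L747023 q22972, e3 q22973 (flp_i L755946) q23739, e3 q22974 L747036 q22974, e3 q22975 L747043 q22975, trivial⟩ (by decide +kernel)

theorem ce_i_359 : ∀ r, r < 64 → sm gi (Qf (22976 + r)) = Qf (tab Gen.i (22976 + r)) :=
  edges_tab (sm gi) Qf (tab Gen.i) 22976 [(22976, 21473), (22977, 24236), (22978, 22978), (22979, 21478), (22980, 23713), (22981, 23716), (22982, 23722), (22983, 24010), (22984, 21494), (22985, 21504), (22986, 21513), (22987, 21514), (22988, 21489), (22989, 23694), (22990, 21492), (22991, 23741), (22992, 24242), (22993, 21495), (22994, 23689), (22995, 21498), (22996, 23737), (22997, 23513), (22998, 23695), (22999, 21510), (23000, 23720), (23001, 24243), (23002, 21505), (23003, 21533), (23004, 23316), (23005, 23692), (23006, 24248), (23007, 24257), (23008, 23696), (23009, 23697), (23010, 24244), (23011, 24245), (23012, 23319), (23013, 23322), (23014, 23526), (23015, 23320), (23016, 23698), (23017, 24026), (23018, 24043), (23019, 24029), (23020, 21537), (23021, 21545), (23022, 23874), (23023, 24260),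 (23024, 24261), (23025, 23870), (23026, 23891), (23027, 24277), (23028, 23404), (23029, 23878), (23030, 23904), (23031, 21543), (23032, 24288), (23033, 23918), (23034, 24278), (23035, 21549), (23036, 24137), (23037, 21551), (23038, 24098), (23039, 24139)]
    ⟨e3 q22976 L747050 q21473, e3 q22977 (flp_i L760390) q24236, e3 q22978 L747061 q22978, e3 q22979 (flp_i L747062) q21478, e3 q22980 (flp_i L755670) q23713, e3 q22981 (flp_i L755699) q23716, e3 q22982 (flp_i L755777) q23722, e3 q22983 (flp_i L758660) q24010, e3 q22984 L747103 q21494, e3 q22985 L747109 q21504, e3 q22986 L747119 q21513, e3 q22987 L747125 q21514, e3 q22988 (flp_i L747127) q21489, e3 q22989 (flp_i L755458) q23694, e3 q22990 (flp_i L747142) q21492, e3 q22991 (flp_i L755962) q23741, e3 q22992 (flp_i L760429) q24242, e3 q22993 (flp_i L747162) q21495, e3 q22994 (flp_i L755385) q23689, e3 q22995 (flp_i L747182) q21498, e3 q22996 (flp_i L755924) q23737, e3 q22997 (flp_i L753372) q23513, e3 q22998 (flp_i L755466) q23695, e3 q22999 L747219 q21510, e3 q23000 (flp_i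 L755747) q23720, e3 q23001 (flp_i L760439) q24243, e3 q23002 (flp_i L747235) q21505, e3 q23003 L747256 q21533, e3 q23004 (flp_i L750657) q23316, e3 q23005 (flp_i L755426) q23692, e3 q23006 (flp_i L760473) q24248, e3 q23007 (flp_i L760534) q24257, e3 q23008 (flp_i L755476) q23696, e3 q23009 (flp_i L755486) q23697, e3 q23010 (flp_i L760445) q24244, e3 q23011 (flp_i L760451) q24245, e3 q23012 (flp_i L750691) q23319, e3 q23013 (flp_i L750730) q23322, e3 q23014 (flp_i L753523) q23526, e3 q23015 (flp_i L750703) q23320, e3 q23016 (flp_i L755496) q23698, e3 q23017 (flp_i L758822) q24026, e3 q23018 (flp_i L758966) q24043, e3 q23019 (flp_i L758850) q24029, e3 q23020 L747360 q21537, e3 q23021 L747366 q21545, e3 q23022 (flp_i L757401) q23874, e3 q23023 (flp_i L760557) q24260, e3 q23024 (flp_i L760567) q24261, e3 q23025 (flp_i L757357) q23870, e3 q23026 (flp_i L757562) q23891, e3 q23027 (flp_i L760654) q24277, e3 q23028 (flp_i L751825) q23404, e3 q23029 (flp_i L757434) q23878, e3 q23030 (flp_i L757664) q23904, e3 q23031 L747435 q21543,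 e3 q23032 (flp_i L760714) q24288, e3 q23033 (flp_i L757772) q23918, e3 q23034 (flp_i L760658) q24278, e3 q23035 (flp_i L747451) q21549, e3 q23036 (flp_i L759752) q24137, e3 q23037 (flp_i L747471) q21551, e3 q23038 (flp_i L759479) q24098, e3 q23039 (flp_i L759774) q24139, trivial⟩ (by decide +kernel)

theorem ce_i_360 : ∀ r, r < 64 → sm gi (Qf (23040 + r)) = Qf (tab Gen.i (23040 + r)) :=
  edges_tab (sm gi) Qf (tab Gen.i) 23040 [(23040, 21554), (23041, 24298), (23042, 24105), (23043, 24140), (23044, 24109), (23045, 21559), (23046, 21602), (23047, 21604), (23048, 21605), (23049, 21607), (23050, 23777), (23051, 21610), (23052, 21615), (23053, 21617), (23054, 21571), (23055, 21572), (23056, 23769), (23057, 21621), (23058, 21622), (23059, 24317), (23060, 21576), (23061, 21577), (23062, 24319), (23063, 21580), (23064, 24321), (23065, 21581), (23066, 21630), (23067, 21631), (23068, 21632), (23069, 21635), (23070, 21636), (23071, 21637), (23072, 21638), (23073, 21642), (23074, 21649), (23075, 21650), (23076, 21651), (23077, 21652),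 (23078, 21653), (23079, 21657), (23080, 24303), (23081, 24304), (23082, 23342), (23083, 24305), (23084, 24306), (23085, 24062), (23086, 24307), (23087, 23778), (23088, 24065), (23089, 24309), (23090, 23772), (23091, 23771), (23092, 23333), (23093, 23343), (23094, 24067), (23095, 24310), (23096, 24116), (23097, 24311), (23098, 21618), (23099, 24111), (23100, 24315), (23101, 24316), (23102, 21623), (23103, 24362)]
    ⟨e3 q23040 (flp_i L747493) q21554, e3 q23041 (flp_i L760780) q24298, e3 q23042 (flp_i L759537) q24105, e3 q23043 (flp_i L759782) q24140, e3 q23044 (flp_i L759567) q24109, e3 q23045 (flp_i L747515) q21559, e3 q23046 L747530 q21602, e3 q23047 L747537 q21604, e3 q23048 L747543 q21605, e3 q23049 L747553 q21607, e3 q23050 (flp_i L756369) q23777, e3 q23051 L747565 q21610, e3 q23052 L747571 q21615, e3 q23053 L747579 q21617, e3 q23054 (flp_i L747581) q21571, e3 q23055 (flp_i L747587) q21572, e3 q23056 (flp_i L756279) q23769, e3 q23057 L747610 q21621, e3 q23058 L747616 q21622, e3 q23059 L760892 q24317, e3 q23060 (flp_i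 L747625) q21576, e3 q23061 (flp_i L747632) q21577, e3 q23062 (flp_i L760909) q24319, e3 q23063 L747648 q21580, e3 q23064 (flp_i L760919) q24321, e3 q23065 (flp_i L747654) q21581, e3 q23066 L747670 q21630, e3 q23067 L747676 q21631, e3 q23068 L747680 q21632, e3 q23069 L747690 q21635, e3 q23070 L747696 q21636, e3 q23071 L747702 q21637, e3 q23072 L747706 q21638, e3 q23073 L747715 q21642, e3 q23074 L747726 q21649, e3 q23075 L747736 q21650, e3 q23076 L747746 q21651, e3 q23077 L747754 q21652, e3 q23078 L747760 q21653, e3 q23079 L747767 q21657, e3 q23080 (flp_i L760805) q24303, e3 q23081 (flp_i L760811) q24304, e3 q23082 (flp_i L751007) q23342, e3 q23083 (flp_i L760817) q24305, e3 q23084 (flp_i L760823) q24306, e3 q23085 (flp_i L759166) q24062, e3 q23086 (flp_i L760831) q24307, e3 q23087 (flp_i L756379) q23778, e3 q23088 (flp_i L759194) q24065, e3 q23089 (flp_i L760845) q24309, e3 q23090 (flp_i L756317) q23772, e3 q23091 (flp_i L756307) q23771, e3 q23092 (flp_i L750899) q23333, e3 q23093 (flp_i L751015) q23343, e3 q23094 (flp_i L759211)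 q24067, e3 q23095 (flp_i L760853) q24310, e3 q23096 (flp_i L759630) q24116, e3 q23097 (flp_i L760859) q24311, e3 q23098 (flp_i L747894) q21618, e3 q23099 (flp_i L759589) q24111, e3 q23100 (flp_i L760886) q24315, e3 q23101 (flp_i L760890) q24316, e3 q23102 (flp_i L747920) q21623, e3 q23103 (flp_i L761184) q24362, trivial⟩ (by decide +kernel)

theorem ce_i_361 : ∀ r, r < 64 → sm gi (Qf (23104 + r)) = Qf (tab Gen.i (23104 + r)) :=
  edges_tab (sm gi) Qf (tab Gen.i) 23104 [(23104, 21626), (23105, 24364), (23106, 21628), (23107, 24367), (23108, 24323), (23109, 24324), (23110, 24325), (23111, 24326), (23112, 24327), (23113, 23784), (23114, 23783), (23115, 24328), (23116, 24329), (23117, 24330), (23118, 24331), (23119, 24061), (23120, 24063), (23121, 24332), (23122, 24066), (23123, 23789), (23124, 23788), (23125, 24142), (23126, 24333), (23127, 24334), (23128, 24335), (23129, 24336), (23130, 23795), (23131, 24138), (23132, 23132), (23133, 23133), (23134, 23802), (23135, 23135), (23136, 23136), (23137, 23927), (23138, 23138), (23139,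 23139), (23140, 23140), (23141, 21669), (23142, 24393), (23143, 23143), (23144, 23417), (23145, 23145), (23146, 23146), (23147, 21683), (23148, 24397), (23149, 21685), (23150, 24399), (23151, 23151), (23152, 23152), (23153, 23153), (23154, 23154), (23155, 23155), (23156, 23156), (23157, 23949), (23158, 21706), (23159, 22886), (23160, 22081), (23161, 21713), (23162, 21726), (23163, 21735), (23164, 21736), (23165, 21719), (23166, 22959), (23167, 21722)]
    ⟨e3 q23104 L747938 q21626, e3 q23105 (flp_i L761196) q24364, e3 q23106 L747948 q21628, e3 q23107 (flp_i L761212) q24367, e3 q23108 (flp_i L760935) q24323, e3 q23109 (flp_i L760941) q24324, e3 q23110 (flp_i L760947) q24325, e3 q23111 (flp_i L760953) q24326, e3 q23112 (flp_i L760961) q24327, e3 q23113 (flp_i L756443) q23784, e3 q23114 (flp_i L756433) q23783, e3 q23115 (flp_i L760967) q24328, e3 q23116 (flp_i L760973) q24329, e3 q23117 (flp_i L760979) q24330, e3 q23118 (flp_i L760983) q24331, e3 q23119 (flp_i L759152) q24061, e3 q23120 (flp_i L759176) q24063, e3 q23121 (flp_i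 L760993) q24332, e3 q23122 (flp_i L759201) q24066, e3 q23123 (flp_i L756486) q23789, e3 q23124 (flp_i L756474) q23788, e3 q23125 (flp_i L759799) q24142, e3 q23126 (flp_i L761002) q24333, e3 q23127 (flp_i L761009) q24334, e3 q23128 (flp_i L761017) q24335, e3 q23129 (flp_i L761027) q24336, e3 q23130 (flp_i L756546) q23795, e3 q23131 (flp_i L759763) q24138, e3 q23132 L748111 q23132, e3 q23133 L748126 q23133, e3 q23134 (flp_i L756617) q23802, e3 q23135 L748139 q23135, e3 q23136 L748150 q23136, e3 q23137 (flp_i L757834) q23927, e3 q23138 L748161 q23138, e3 q23139 L748166 q23139, e3 q23140 L748172 q23140, e3 q23141 L748178 q21669, e3 q23142 (flp_i L761373) q24393, e3 q23143 L748187 q23143, e3 q23144 (flp_i L751950) q23417, e3 q23145 L748202 q23145, e3 q23146 L748209 q23146, e3 q23147 L748219 q21683, e3 q23148 (flp_i L761398) q24397, e3 q23149 L748232 q21685, e3 q23150 (flp_i L761410) q24399, e3 q23151 L748243 q23151, e3 q23152 L748252 q23152, e3 q23153 L748261 q23153, e3 q23154 L748271 q23154, e3 q23155 L748278 q23155, e3 q23156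 L748283 q23156, e3 q23157 (flp_i L758024) q23949, e3 q23158 L748303 q21706, e3 q23159 L748324 q22886, e3 q23160 L748344 q22081, e3 q23161 (flp_i L748350) q21713, e3 q23162 L748382 q21726, e3 q23163 L748398 q21735, e3 q23164 L748410 q21736, e3 q23165 (flp_i L748417) q21719, e3 q23166 L748449 q22959, e3 q23167 (flp_i L748451) q21722, trivial⟩ (by decide +kernel)

theorem ce_i_362 : ∀ r, r < 64 → sm gi (Qf (23168 + r)) = Qf (tab Gen.i (23168 + r)) :=
  edges_tab (sm gi) Qf (tab Gen.i) 23168 [(23168, 22964), (23169, 24402), (23170, 24403), (23171, 22326), (23172, 22092), (23173, 21730), (23174, 21767), (23175, 22331), (23176, 24404), (23177, 22914), (23178, 23178), (23179, 23179), (23180, 22695), (23181, 22700), (23182, 21756), (23183, 21760), (23184, 21761), (23185, 21763), (23186, 21764), (23187, 21768), (23188, 24417), (23189, 22689), (23190, 21758), (23191, 22944), (23192, 24418), (23193, 24419), (23194, 24411), (23195, 24420), (23196, 22913), (23197, 24421), (23198, 22321), (23199, 23199), (23200, 23200), (23201, 23201),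 (23202, 24434), (23203, 21774), (23204, 21891), (23205, 24436), (23206, 21776), (23207, 24438), (23208, 24439), (23209, 21777), (23210, 22737), (23211, 21779), (23212, 22739), (23213, 21782), (23214, 21804), (23215, 24445), (23216, 21784), (23217, 21807), (23218, 24448), (23219, 21786), (23220, 21810), (23221, 24451), (23222, 21789), (23223, 21818), (23224, 21819), (23225, 21820), (23226, 21821), (23227, 21824), (23228, 21795), (23229, 21826), (23230, 21827), (23231, 21831)]
    ⟨e3 q23168 L748483 q22964, e3 q23169 (flp_i L761443) q24402, e3 q23170 (flp_i L761455) q24403, e3 q23171 L748525 q22326, e3 q23172 L748545 q22092, e3 q23173 (flp_i L748547) q21730, e3 q23174 L748578 q21767, e3 q23175 L748594 q22331, e3 q23176 (flp_i L761473) q24404, e3 q23177 L748624 q22914, e3 q23178 L748640 q23178, e3 q23179 L748654 q23179, e3 q23180 L748675 q22695, e3 q23181 L748687 q22700, e3 q23182 L748709 q21756, e3 q23183 L748727 q21760, e3 q23184 L748737 q21761, e3 q23185 L748755 q21763, e3 q23186 L748767 q21764, e3 q23187 L748782 q21768, e3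 q23188 (flp_i L761683) q24417, e3 q23189 L748813 q22689, e3 q23190 (flp_i L748819) q21758, e3 q23191 L748851 q22944, e3 q23192 (flp_i L761701) q24418, e3 q23193 (flp_i L761713) q24419, e3 q23194 (flp_i L761584) q24411, e3 q23195 (flp_i L761729) q24420, e3 q23196 L748915 q22913, e3 q23197 (flp_i L761745) q24421, e3 q23198 L748941 q22321, e3 q23199 L748959 q23199, e3 q23200 L748974 q23200, e3 q23201 L748989 q23201, e3 q23202 L761921 q24434, e3 q23203 (flp_i L749007) q21774, e3 q23204 L749038 q21891, e3 q23205 L761954 q24436, e3 q23206 (flp_i L749058) q21776, e3 q23207 L761987 q24438, e3 q23208 L762004 q24439, e3 q23209 (flp_i L749106) q21777, e3 q23210 L749129 q22737, e3 q23211 (flp_i L749131) q21779, e3 q23212 L749154 q22739, e3 q23213 (flp_i L749156) q21782, e3 q23214 L749189 q21804, e3 q23215 L762094 q24445, e3 q23216 (flp_i L749208) q21784, e3 q23217 L749238 q21807, e3 q23218 L762146 q24448, e3 q23219 (flp_i L749258) q21786, e3 q23220 L749282 q21810, e3 q23221 L762192 q24451, e3 q23222 (flp_i L749301) q21789, e3 q23223 L749328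 q21818, e3 q23224 L749340 q21819, e3 q23225 L749359 q21820, e3 q23226 L749369 q21821, e3 q23227 L749382 q21824, e3 q23228 (flp_i L749387) q21795, e3 q23229 L749413 q21826, e3 q23230 L749424 q21827, e3 q23231 L749440 q21831, trivial⟩ (by decide +kernel)

theorem ce_i_363 : ∀ r, r < 64 → sm gi (Qf (23232 + r)) = Qf (tab Gen.i (23232 + r)) :=
  edges_tab (sm gi) Qf (tab Gen.i) 23232 [(23232, 21832), (23233, 21833), (23234, 24444), (23235, 21805), (23236, 24446), (23237, 24447), (23238, 21808), (23239, 24449), (23240, 24450), (23241, 24471), (23242, 21811), (23243, 22754), (23244, 22764), (23245, 24475), (23246, 21814), (23247, 21815), (23248, 24477), (23249, 22750), (23250, 24453), (23251, 24454), (23252, 24455), (23253, 24456), (23254, 22741), (23255, 22759), (23256, 24457), (23257, 24458), (23258, 24459), (23259, 24460), (23260, 22751), (23261, 22646), (23262, 22763), (23263, 24461), (23264, 24462), (23265, 24463), (23266, 22649), (23267, 23267), (23268, 23268), (23269, 23269), (23270, 23270), (23271, 23271), (23272, 23272),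 (23273, 21844), (23274, 24504), (23275, 23275), (23276, 23276), (23277, 21849), (23278, 24507), (23279, 23279), (23280, 23280), (23281, 23281), (23282, 21854), (23283, 21865), (23284, 21870), (23285, 24513), (23286, 21859), (23287, 24515), (23288, 21860), (23289, 22375), (23290, 21862), (23291, 22406), (23292, 24511), (23293, 21866), (23294, 22402), (23295, 22407)]
    ⟨e3 q23232 L749454 q21832, e3 q23233 L749466 q21833, e3 q23234 (flp_i L762092) q24444, e3 q23235 (flp_i L749488) q21805, e3 q23236 (flp_i L762127) q24446, e3 q23237 (flp_i L762141) q24447, e3 q23238 (flp_i L749534) q21808, e3 q23239 (flp_i L762178) q24449, e3 q23240 (flp_i L762188) q24450, e3 q23241 L762460 q24471, e3 q23242 (flp_i L749590) q21811, e3 q23243 L749624 q22754, e3 q23244 L749638 q22764, e3 q23245 L762526 q24475, e3 q23246 (flp_i L749661) q21814, e3 q23247 (flp_i L749678) q21815, e3 q23248 (flp_i L762570) q24477, e3 q23249 L749716 q22750, e3 q23250 (flp_i L762230) q24453, e3 q23251 (flp_i L762243) q24454, e3 q23252 (flp_i L762255) q24455, e3 q23253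 (flp_i L762265) q24456, e3 q23254 L749764 q22741, e3 q23255 L749775 q22759, e3 q23256 (flp_i L762279) q24457, e3 q23257 (flp_i L762296) q24458, e3 q23258 (flp_i L762308) q24459, e3 q23259 (flp_i L762321) q24460, e3 q23260 L749837 q22751, e3 q23261 L749847 q22646, e3 q23262 L749866 q22763, e3 q23263 (flp_i L762338) q24461, e3 q23264 (flp_i L762351) q24462, e3 q23265 (flp_i L762366) q24463, e3 q23266 L749914 q22649, e3 q23267 L749931 q23267, e3 q23268 L749940 q23268, e3 q23269 L749952 q23269, e3 q23270 L749966 q23270, e3 q23271 L749979 q23271, e3 q23272 L749994 q23272, e3 q23273 (flp_i L749997) q21844, e3 q23274 (flp_i L762911) q24504, e3 q23275 L750035 q23275, e3 q23276 L750050 q23276, e3 q23277 L750064 q21849, e3 q23278 (flp_i L762954) q24507, e3 q23279 L750089 q23279, e3 q23280 L750100 q23280, e3 q23281 L750114 q23281, e3 q23282 (flp_i L750115) q21854, e3 q23283 L750149 q21865, e3 q23284 L750165 q21870, e3 q23285 L763032 q24513, e3 q23286 (flp_i L750185) q21859, e3 q23287 L763065 q24515, e3 q23288 (flp_i L750216) q21860,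 e3 q23289 L750243 q22375, e3 q23290 (flp_i L750245) q21862, e3 q23291 L750273 q22406, e3 q23292 (flp_i L763014) q24511, e3 q23293 (flp_i L750287) q21866, e3 q23294 L750318 q22402, e3 q23295 L750330 q22407, trivial⟩ (by decide +kernel)

theorem ce_i_364 : ∀ r, r < 64 → sm gi (Qf (23296 + r)) = Qf (tab Gen.i (23296 + r)) :=
  edges_tab (sm gi) Qf (tab Gen.i) 23296 [(23296, 22425), (23297, 24512), (23298, 22410), (23299, 22426), (23300, 23300), (23301, 21876), (23302, 22697), (23303, 21892), (23304, 21881), (23305, 21893), (23306, 21894), (23307, 21897), (23308, 21898), (23309, 21901), (23310, 21889), (23311, 24435), (23312, 24528), (23313, 24530), (23314, 24531), (23315, 21895), (23316, 23004), (23317, 24532), (23318, 24533), (23319, 23012), (23320, 23015), (23321, 24534), (23322, 23013), (23323, 23323), (23324, 23324), (23325, 24548), (23326, 21909), (23327, 24550), (23328, 24551), (23329, 21910), (23330, 22769), (23331, 24554), (23332, 21912), (23333, 23092), (23334, 24557), (23335, 21915), (23336, 21916), (23337, 22772),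 (23338, 21918), (23339, 21919), (23340, 22753), (23341, 22775), (23342, 23082), (23343, 23093), (23344, 24567), (23345, 21924), (23346, 21964), (23347, 21927), (23348, 21968), (23349, 21929), (23350, 21969), (23351, 21970), (23352, 21932), (23353, 21973), (23354, 21974), (23355, 21935), (23356, 21981), (23357, 21982), (23358, 21938), (23359, 21939)]
    ⟨e3 q23296 L750351 q22425, e3 q23297 (flp_i L763026) q24512, e3 q23298 L750372 q22410, e3 q23299 L750391 q22426, e3 q23300 L750409 q23300, e3 q23301 (flp_i L750414) q21876, e3 q23302 L750443 q22697, e3 q23303 L750457 q21892, e3 q23304 (flp_i L750459) q21881, e3 q23305 L750492 q21893, e3 q23306 L750506 q21894, e3 q23307 L750527 q21897, e3 q23308 L750535 q21898, e3 q23309 L750551 q21901, e3 q23310 (flp_i L750556) q21889, e3 q23311 (flp_i L761952) q24435, e3 q23312 (flp_i L763266) q24528, e3 q23313 (flp_i L763299) q24530, e3 q23314 (flp_i L763314) q24531, e3 q23315 (flp_i L750625) q21895, e3 q23316 L750657 q23004, e3 q23317 (flp_i L763330) q24532, e3 q23318 (flp_i L763340) q24533,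 e3 q23319 L750691 q23012, e3 q23320 L750703 q23015, e3 q23321 (flp_i L763355) q24534, e3 q23322 L750730 q23013, e3 q23323 L750750 q23323, e3 q23324 L750763 q23324, e3 q23325 L763541 q24548, e3 q23326 (flp_i L750786) q21909, e3 q23327 L763574 q24550, e3 q23328 L763591 q24551, e3 q23329 (flp_i L750834) q21910, e3 q23330 L750857 q22769, e3 q23331 L763636 q24554, e3 q23332 (flp_i L750876) q21912, e3 q23333 L750899 q23092, e3 q23334 L763678 q24557, e3 q23335 (flp_i L750919) q21915, e3 q23336 (flp_i L750933) q21916, e3 q23337 L750952 q22772, e3 q23338 (flp_i L750954) q21918, e3 q23339 (flp_i L750965) q21919, e3 q23340 L750986 q22753, e3 q23341 L750995 q22775, e3 q23342 L751007 q23082, e3 q23343 L751015 q23093, e3 q23344 L763794 q24567, e3 q23345 (flp_i L751036) q21924, e3 q23346 L751057 q21964, e3 q23347 (flp_i L751059) q21927, e3 q23348 L751087 q21968, e3 q23349 (flp_i L751089) q21929, e3 q23350 L751114 q21969, e3 q23351 L751124 q21970, e3 q23352 (flp_i L751127) q21932, e3 q23353 L751155 q21973, e3 q23354 L751163 q21974, e3 q23355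 (flp_i L751165) q21935, e3 q23356 L751196 q21981, e3 q23357 L751208 q21982, e3 q23358 (flp_i L751213) q21938, e3 q23359 (flp_i L751229) q21939, trivial⟩ (by decide +kernel)

theorem ce_i_365 : ∀ r, r < 64 → sm gi (Qf (23360 + r)) = Qf (tab Gen.i (23360 + r)) :=
  edges_tab (sm gi) Qf (tab Gen.i) 23360 [(23360, 24582), (23361, 21987), (23362, 21988), (23363, 21989), (23364, 21944), (23365, 21991), (23366, 21992), (23367, 21993), (23368, 21995), (23369, 21996), (23370, 21998), (23371, 21999), (23372, 22000), (23373, 22006), (23374, 22007), (23375, 22008), (23376, 22009), (23377, 22010), (23378, 22014), (23379, 24600), (23380, 21962), (23381, 24568), (23382, 24569), (23383, 21965), (23384, 22621), (23385, 24570), (23386, 24571), (23387, 24573), (23388, 24574), (23389, 21971), (23390, 24575), (23391, 24576), (23392, 24577), (23393, 21975), (23394, 22600), (23395, 22635), (23396, 21978), (23397, 24619), (23398, 22595), (23399, 24579), (23400, 24580), (23401, 21984), (23402, 24625), (23403, 21985), (23404, 23028), (23405, 24584),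 (23406, 24585), (23407, 24586), (23408, 24587), (23409, 24588), (23410, 24589), (23411, 24590), (23412, 24591), (23413, 24592), (23414, 22622), (23415, 22870), (23416, 24593), (23417, 23144), (23418, 24594), (23419, 24595), (23420, 24596), (23421, 22648), (23422, 22867), (23423, 22677)]
    ⟨e3 q23360 (flp_i L764006) q24582, e3 q23361 L751267 q21987, e3 q23362 L751273 q21988, e3 q23363 L751280 q21989, e3 q23364 (flp_i L751282) q21944, e3 q23365 L751314 q21991, e3 q23366 L751322 q21992, e3 q23367 L751328 q21993, e3 q23368 L751339 q21995, e3 q23369 L751356 q21996, e3 q23370 L751373 q21998, e3 q23371 L751385 q21999, e3 q23372 L751396 q22000, e3 q23373 L751411 q22006, e3 q23374 L751429 q22007, e3 q23375 L751441 q22008, e3 q23376 L751455 q22009, e3 q23377 L751466 q22010, e3 q23378 L751477 q22014, e3 q23379 L764215 q24600, e3 q23380 (flp_i L751501) q21962, e3 q23381 (flp_i L763820) q24568, e3 q23382 (flp_i L763830) q24569, e3 q23383 (flp_i L751533) q21965, e3 q23384 L751565 q22621, e3 q23385 (flp_i L763848) q24570, e3 q23386 (flp_i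 L763860) q24571, e3 q23387 (flp_i L763886) q24573, e3 q23388 (flp_i L763895) q24574, e3 q23389 (flp_i L751607) q21971, e3 q23390 (flp_i L763911) q24575, e3 q23391 (flp_i L763923) q24576, e3 q23392 (flp_i L763929) q24577, e3 q23393 (flp_i L751651) q21975, e3 q23394 L751683 q22600, e3 q23395 L751695 q22635, e3 q23396 (flp_i L751701) q21978, e3 q23397 (flp_i L764463) q24619, e3 q23398 L751749 q22595, e3 q23399 (flp_i L763958) q24579, e3 q23400 (flp_i L763971) q24580, e3 q23401 L751779 q21984, e3 q23402 (flp_i L764535) q24625, e3 q23403 (flp_i L751793) q21985, e3 q23404 L751825 q23028, e3 q23405 (flp_i L764026) q24584, e3 q23406 (flp_i L764034) q24585, e3 q23407 (flp_i L764042) q24586, e3 q23408 (flp_i L764053) q24587, e3 q23409 (flp_i L764075) q24588, e3 q23410 (flp_i L764087) q24589, e3 q23411 (flp_i L764095) q24590, e3 q23412 (flp_i L764101) q24591, e3 q23413 (flp_i L764109) q24592, e3 q23414 L751902 q22622, e3 q23415 L751923 q22870, e3 q23416 (flp_i L764124) q24593, e3 q23417 L751950 q23144, e3 q23418 (flp_i L764137) q24594,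 e3 q23419 (flp_i L764153) q24595, e3 q23420 (flp_i L764168) q24596, e3 q23421 L752000 q22648, e3 q23422 L752018 q22867, e3 q23423 L752038 q22677, trivial⟩ (by decide +kernel)

theorem ce_i_366 : ∀ r, r < 64 → sm gi (Qf (23424 + r)) = Qf (tab Gen.i (23424 + r)) :=
  edges_tab (sm gi) Qf (tab Gen.i) 23424 [(23424, 22865), (23425, 24597), (23426, 24598), (23427, 22637), (23428, 24599), (23429, 23429), (23430, 23430), (23431, 23431), (23432, 23432), (23433, 23433), (23434, 23434), (23435, 23435), (23436, 23436), (23437, 23437), (23438, 23438), (23439, 23439), (23440, 22866), (23441, 23441), (23442, 22032), (23443, 24657), (23444, 23444), (23445, 23445), (23446, 22036), (23447, 24659), (23448, 23448), (23449, 23449), (23450, 23450), (23451, 22048), (23452, 22049), (23453, 22054), (23454, 22055), (23455, 22056), (23456, 22057), (23457, 22067), (23458, 22069), (23459, 22070), (23460, 22086), (23461, 22085), (23462, 22887), (23463, 22087), (23464, 22083), (23465, 22884), (23466, 22088), (23467, 22212), (23468, 22926), (23469, 22093),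 (23470, 22109), (23471, 22095), (23472, 22111), (23473, 22097), (23474, 22113), (23475, 22114), (23476, 22115), (23477, 22116), (23478, 22106), (23479, 22173), (23480, 24664), (23481, 24665), (23482, 24666), (23483, 24667), (23484, 24668), (23485, 24669), (23486, 23486), (23487, 23487)]
    ⟨e3 q23424 L752050 q22865, e3 q23425 (flp_i L764182) q24597, e3 q23426 (flp_i L764198) q24598, e3 q23427 L752084 q22637, e3 q23428 (flp_i L764213) q24599, e3 q23429 L752109 q23429, e3 q23430 L752122 q23430, e3 q23431 L752135 q23431, e3 q23432 L752150 q23432, e3 q23433 L752163 q23433, e3 q23434 L752174 q23434, e3 q23435 L752189 q23435, e3 q23436 L752202 q23436, e3 q23437 L752209 q23437, e3 q23438 L752218 q23438, e3 q23439 L752229 q23439, e3 q23440 L752246 q22866, e3 q23441 L752260 q23441, e3 q23442 L752277 q22032, e3 q23443 (flp_i L764920) q24657, e3 q23444 L752303 q23444, e3 q23445 L752314 q23445, e3 q23446 L752329 q22036, e3 q23447 (flp_i L764948) q24659, e3 q23448 L752356 q23448, e3 q23449 L752367 q23449, e3 q23450 L752380 q23450, e3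 q23451 L752396 q22048, e3 q23452 L752415 q22049, e3 q23453 L752434 q22054, e3 q23454 L752454 q22055, e3 q23455 L752472 q22056, e3 q23456 L752492 q22057, e3 q23457 L752510 q22067, e3 q23458 L752530 q22069, e3 q23459 L752549 q22070, e3 q23460 L752567 q22086, e3 q23461 L752589 q22085, e3 q23462 L752606 q22887, e3 q23463 L752627 q22087, e3 q23464 L752646 q22083, e3 q23465 L752665 q22884, e3 q23466 (flp_i L752671) q22088, e3 q23467 L752703 q22212, e3 q23468 L752719 q22926, e3 q23469 (flp_i L752721) q22093, e3 q23470 L752755 q22109, e3 q23471 (flp_i L752757) q22095, e3 q23472 L752787 q22111, e3 q23473 (flp_i L752789) q22097, e3 q23474 L752817 q22113, e3 q23475 L752829 q22114, e3 q23476 L752850 q22115, e3 q23477 L752862 q22116, e3 q23478 (flp_i L752869) q22106, e3 q23479 L752903 q22173, e3 q23480 (flp_i L765033) q24664, e3 q23481 (flp_i L765051) q24665, e3 q23482 (flp_i L765065) q24666, e3 q23483 (flp_i L765086) q24667, e3 q23484 (flp_i L765096) q24668, e3 q23485 (flp_i L765114) q24669, e3 q23486 L753001 q23486, e3 q23487 L753018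 q23487, trivial⟩ (by decide +kernel)

theorem ce_i_367 : ∀ r, r < 64 → sm gi (Qf (23488 + r)) = Qf (tab Gen.i (23488 + r)) :=
  edges_tab (sm gi) Qf (tab Gen.i) 23488 [(23488, 24677), (23489, 24678), (23490, 22119), (23491, 22377), (23492, 22121), (23493, 22379), (23494, 22146), (23495, 22126), (23496, 22148), (23497, 22128), (23498, 22150), (23499, 22151), (23500, 22131), (23501, 22153), (23502, 22154), (23503, 22155), (23504, 22156), (23505, 22157), (23506, 22158), (23507, 22159), (23508, 22161), (23509, 22954), (23510, 24683), (23511, 24684), (23512, 24685), (23513, 22997), (23514, 24687), (23515, 24688), (23516, 24689), (23517, 24690), (23518, 24691), (23519, 24692), (23520, 24693), (23521, 24694), (23522, 24695), (23523, 23523), (23524, 23524), (23525, 23525), (23526, 23014), (23527, 23527), (23528, 23528), (23529, 22179), (23530, 24670), (23531, 24713), (23532, 22174), (23533, 22226), (23534, 22176), (23535, 22951), (23536, 22952), (23537, 24711), (23538, 22182), (23539, 22431), (23540, 24720), (23541, 24721), (23542,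 22184), (23543, 22434), (23544, 22186), (23545, 22436), (23546, 22189), (23547, 22214), (23548, 22217), (23549, 22193), (23550, 22220), (23551, 22195)]
    ⟨e3 q23488 L765217 q24677, e3 q23489 L765234 q24678, e3 q23490 (flp_i L753057) q22119, e3 q23491 L753076 q22377, e3 q23492 (flp_i L753078) q22121, e3 q23493 L753101 q22379, e3 q23494 L753113 q22146, e3 q23495 (flp_i L753115) q22126, e3 q23496 L753145 q22148, e3 q23497 (flp_i L753147) q22128, e3 q23498 L753168 q22150, e3 q23499 L753176 q22151, e3 q23500 (flp_i L753181) q22131, e3 q23501 L753205 q22153, e3 q23502 L753211 q22154, e3 q23503 L753225 q22155, e3 q23504 L753245 q22156, e3 q23505 L753263 q22157, e3 q23506 L753269 q22158, e3 q23507 L753283 q22159, e3 q23508 L753299 q22161, e3 q23509 L753320 q22954, e3 q23510 (flp_i L765310) q24683, e3 q23511 (flp_i L765330) q24684, e3 q23512 (flp_i L765344) q24685, e3 q23513 L753372 q22997, e3 q23514 (flp_i L765366) q24687, e3 q23515 (flp_i L765375) q24688, e3 q23516 (flp_i L765393) q24689, e3 q23517 (flp_i L765399) q24690, e3 q23518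 (flp_i L765407) q24691, e3 q23519 (flp_i L765422) q24692, e3 q23520 (flp_i L765438) q24693, e3 q23521 (flp_i L765454) q24694, e3 q23522 (flp_i L765463) q24695, e3 q23523 L753478 q23523, e3 q23524 L753495 q23524, e3 q23525 L753510 q23525, e3 q23526 L753523 q23014, e3 q23527 L753539 q23527, e3 q23528 L753556 q23528, e3 q23529 L753571 q22179, e3 q23530 (flp_i L765135) q24670, e3 q23531 L765665 q24713, e3 q23532 (flp_i L753602) q22174, e3 q23533 L753632 q22226, e3 q23534 (flp_i L753634) q22176, e3 q23535 L753659 q22951, e3 q23536 L753669 q22952, e3 q23537 (flp_i L765647) q24711, e3 q23538 (flp_i L753680) q22182, e3 q23539 L753711 q22431, e3 q23540 L765754 q24720, e3 q23541 L765771 q24721, e3 q23542 (flp_i L753747) q22184, e3 q23543 L753774 q22434, e3 q23544 (flp_i L753776) q22186, e3 q23545 L753799 q22436, e3 q23546 (flp_i L753801) q22189, e3 q23547 L753831 q22214, e3 q23548 L753841 q22217, e3 q23549 (flp_i L753843) q22193, e3 q23550 L753873 q22220, e3 q23551 (flp_i L753875) q22195, trivial⟩ (by decide +kernel)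

theorem ce_i_368 : ∀ r, r < 64 → sm gi (Qf (23552 + r)) = Qf (tab Gen.i (23552 + r)) :=
  edges_tab (sm gi) Qf (tab Gen.i) 23552 [(23552, 22196), (23553, 22222), (23554, 22223), (23555, 22224), (23556, 22225), (23557, 22228), (23558, 22229), (23559, 22231), (23560, 22232), (23561, 22233), (23562, 24662), (23563, 24726), (23564, 22215), (23565, 24714), (23566, 24727), (23567, 22320), (23568, 24728), (23569, 24729), (23570, 24731), (23571, 24732), (23572, 24733), (23573, 24734), (23574, 24735), (23575, 22329), (23576, 22328), (23577, 22969), (23578, 22916), (23579, 22335), (23580, 24736), (23581, 24737), (23582, 24738), (23583, 23583), (23584, 23584), (23585, 23585), (23586, 23586), (23587, 23587), (23588, 24762), (23589, 24763), (23590, 22246), (23591, 22499), (23592, 22248), (23593, 22502), (23594, 22251), (23595, 22508), (23596, 24770), (23597, 22253), (23598, 22254), (23599, 22514), (23600, 22515), (23601, 22517), (23602, 22518), (23603, 22290), (23604, 24778), (23605, 22261), (23606, 22295), (23607, 22296), (23608, 22297),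 (23609, 22298), (23610, 22266), (23611, 22306), (23612, 22307), (23613, 22269), (23614, 24787), (23615, 22313)]
    ⟨e3 q23552 (flp_i L753888) q22196, e3 q23553 L753916 q22222, e3 q23554 L753926 q22223, e3 q23555 L753937 q22224, e3 q23556 L753945 q22225, e3 q23557 L753957 q22228, e3 q23558 L753980 q22229, e3 q23559 L753995 q22231, e3 q23560 L754005 q22232, e3 q23561 L754019 q22233, e3 q23562 (flp_i L764999) q24662, e3 q23563 (flp_i L765863) q24726, e3 q23564 (flp_i L754045) q22215, e3 q23565 (flp_i L765698) q24714, e3 q23566 (flp_i L765871) q24727, e3 q23567 L754097 q22320, e3 q23568 (flp_i L765889) q24728, e3 q23569 (flp_i L765903) q24729, e3 q23570 (flp_i L765935) q24731, e3 q23571 (flp_i L765943) q24732, e3 q23572 (flp_i L765952) q24733, e3 q23573 (flp_i L765960) q24734, e3 q23574 (flp_i L765968) q24735, e3 q23575 L754169 q22329, e3 q23576 L754191 q22328, e3 q23577 L754203 q22969, e3 q23578 L754215 q22916, e3 q23579 L754236 q22335, e3 q23580 (flp_i L765983) q24736, e3 q23581 (flp_i L765998) q24737, e3 q23582 (flp_i L766009)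 q24738, e3 q23583 L754278 q23583, e3 q23584 L754291 q23584, e3 q23585 L754303 q23585, e3 q23586 L754314 q23586, e3 q23587 L754328 q23587, e3 q23588 L766278 q24762, e3 q23589 L766295 q24763, e3 q23590 (flp_i L754365) q22246, e3 q23591 L754388 q22499, e3 q23592 (flp_i L754390) q22248, e3 q23593 L754411 q22502, e3 q23594 (flp_i L754413) q22251, e3 q23595 L754432 q22508, e3 q23596 L766383 q24770, e3 q23597 (flp_i L754451) q22253, e3 q23598 (flp_i L754460) q22254, e3 q23599 L754477 q22514, e3 q23600 L754484 q22515, e3 q23601 L754496 q22517, e3 q23602 L754504 q22518, e3 q23603 L754518 q22290, e3 q23604 L766465 q24778, e3 q23605 (flp_i L754537) q22261, e3 q23606 L754562 q22295, e3 q23607 L754572 q22296, e3 q23608 L754585 q22297, e3 q23609 L754591 q22298, e3 q23610 (flp_i L754593) q22266, e3 q23611 L754626 q22306, e3 q23612 L754640 q22307, e3 q23613 (flp_i L754645) q22269, e3 q23614 (flp_i L766577) q24787, e3 q23615 L754667 q22313, trivial⟩ (by decide +kernel)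

theorem ce_i_369 : ∀ r, r < 64 → sm gi (Qf (23616 + r)) = Qf (tab Gen.i (23616 + r)) :=
  edges_tab (sm gi) Qf (tab Gen.i) 23616 [(23616, 22314), (23617, 22315), (23618, 22317), (23619, 22318), (23620, 22319), (23621, 22322), (23622, 22325), (23623, 22327), (23624, 22330), (23625, 22332), (23626, 22333), (23627, 22334), (23628, 24424), (23629, 24777), (23630, 24804), (23631, 22291), (23632, 22292), (23633, 24806), (23634, 24741), (23635, 24780), (23636, 24781), (23637, 24782), (23638, 24783), (23639, 22299), (23640, 22908), (23641, 22302), (23642, 22303), (23643, 24817), (23644, 22890), (23645, 24785), (23646, 24786), (23647, 22308), (23648, 24823), (23649, 22311), (23650, 24825), (23651, 24405), (23652, 24789), (23653, 24790), (23654, 24791), (23655, 24792), (23656, 24407), (23657, 24793), (23658, 24794), (23659, 24795), (23660, 24796), (23661, 24430), (23662, 24797), (23663, 22891), (23664, 22893), (23665, 24798), (23666, 22931), (23667, 24754), (23668, 24799), (23669, 24745), (23670, 24757), (23671, 24800), (23672, 24801),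 (23673, 23673), (23674, 23674), (23675, 23675), (23676, 22344), (23677, 24851), (23678, 23678), (23679, 24514)]
    ⟨e3 q23616 L754673 q22314, e3 q23617 L754680 q22315, e3 q23618 L754692 q22317, e3 q23619 L754698 q22318, e3 q23620 L754704 q22319, e3 q23621 L754714 q22322, e3 q23622 L754730 q22325, e3 q23623 L754744 q22327, e3 q23624 L754751 q22330, e3 q23625 L754761 q22332, e3 q23626 L754769 q22333, e3 q23627 L754774 q22334, e3 q23628 (flp_i L761793) q24424, e3 q23629 (flp_i L766459) q24777, e3 q23630 L766718 q24804, e3 q23631 (flp_i L754807) q22291, e3 q23632 (flp_i L754820) q22292, e3 q23633 (flp_i L766760) q24806, e3 q23634 (flp_i L766043) q24741, e3 q23635 (flp_i L766501) q24780, e3 q23636 (flp_i L766510) q24781, e3 q23637 (flp_i L766520) q24782, e3 q23638 (flp_i L766526) q24783, e3 q23639 (flp_i L754886) q22299, e3 q23640 L754918 q22908, e3 q23641 (flp_i L754920) q22302, e3 q23642 (flp_i L754935) q22303, e3 q23643 (flp_i L766869) q24817, e3 q23644 L754973 q22890, e3 q23645 (flp_i L766555) q24785, e3 q23646 (flp_i L766570)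 q24786, e3 q23647 (flp_i L754995) q22308, e3 q23648 (flp_i L766932) q24823, e3 q23649 L755017 q22311, e3 q23650 (flp_i L766944) q24825, e3 q23651 (flp_i L761494) q24405, e3 q23652 (flp_i L766591) q24789, e3 q23653 (flp_i L766597) q24790, e3 q23654 (flp_i L766605) q24791, e3 q23655 (flp_i L766612) q24792, e3 q23656 (flp_i L761528) q24407, e3 q23657 (flp_i L766624) q24793, e3 q23658 (flp_i L766632) q24794, e3 q23659 (flp_i L766636) q24795, e3 q23660 (flp_i L766644) q24796, e3 q23661 (flp_i L761869) q24430, e3 q23662 (flp_i L766653) q24797, e3 q23663 L755118 q22891, e3 q23664 L755136 q22893, e3 q23665 (flp_i L766668) q24798, e3 q23666 L755160 q22931, e3 q23667 (flp_i L766171) q24754, e3 q23668 (flp_i L766682) q24799, e3 q23669 (flp_i L766085) q24745, e3 q23670 (flp_i L766214) q24757, e3 q23671 (flp_i L766691) q24800, e3 q23672 (flp_i L766700) q24801, e3 q23673 L755212 q23673, e3 q23674 L755221 q23674, e3 q23675 L755226 q23675, e3 q23676 L755243 q22344, e3 q23677 (flp_i L767154) q24851, e3 q23678 L755260 q23678, e3 q23679 (flp_i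 L763063) q24514, trivial⟩ (by decide +kernel)

theorem ce_i_370 : ∀ r, r < 64 → sm gi (Qf (23680 + r)) = Qf (tab Gen.i (23680 + r)) :=
  edges_tab (sm gi) Qf (tab Gen.i) 23680 [(23680, 23680), (23681, 22350), (23682, 24854), (23683, 23683), (23684, 22354), (23685, 24856), (23686, 24857), (23687, 23687), (23688, 23688), (23689, 22994), (23690, 22717), (23691, 22718), (23692, 23005), (23693, 22723), (23694, 22989), (23695, 22998), (23696, 23008), (23697, 23009), (23698, 23016), (23699, 22373), (23700, 24516), (23701, 24679), (23702, 24680), (23703, 24681), (23704, 24682), (23705, 22380), (23706, 22393), (23707, 22395), (23708, 22396), (23709, 22403), (23710, 22404), (23711, 22405), (23712, 22409), (23713, 22980), (23714, 24876), (23715, 24877), (23716, 22981), (23717, 24878), (23718, 24879), (23719, 22757), (23720, 23000), (23721, 22728), (23722, 22982), (23723, 24517), (23724, 24521), (23725, 24880), (23726, 24881), (23727, 24882), (23728, 24883), (23729, 24518), (23730, 24522), (23731, 22868), (23732, 23732), (23733, 23733),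 (23734, 23734), (23735, 22423), (23736, 22427), (23737, 22996), (23738, 22953), (23739, 22973), (23740, 24905), (23741, 22991), (23742, 24523), (23743, 24525)]
    ⟨e3 q23680 L755287 q23680, e3 q23681 L755301 q22350, e3 q23682 (flp_i L767189) q24854, e3 q23683 L755326 q23683, e3 q23684 L755334 q22354, e3 q23685 (flp_i L767214) q24856, e3 q23686 (flp_i L767225) q24857, e3 q23687 L755366 q23687, e3 q23688 L755373 q23688, e3 q23689 L755385 q22994, e3 q23690 L755401 q22717, e3 q23691 L755413 q22718, e3 q23692 L755426 q23005, e3 q23693 L755439 q22723, e3 q23694 L755458 q22989, e3 q23695 L755466 q22998, e3 q23696 L755476 q23008, e3 q23697 L755486 q23009, e3 q23698 L755496 q23016, e3 q23699 (flp_i L755500) q22373, e3 q23700 (flp_i L763094) q24516, e3 q23701 (flp_i L765261) q24679, e3 q23702 (flp_i L765270) q24680, e3 q23703 (flp_i L765286) q24681, e3 q23704 (flp_i L765296) q24682, e3 q23705 (flp_i L755559) q22380, e3 q23706 L755586 q22393, e3 q23707 L755600 q22395, e3 q23708 L755608 q22396, e3 q23709 L755618 q22403, e3 q23710 L755628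 q22404, e3 q23711 L755640 q22405, e3 q23712 L755652 q22409, e3 q23713 L755670 q22980, e3 q23714 (flp_i L767433) q24876, e3 q23715 (flp_i L767443) q24877, e3 q23716 L755699 q22981, e3 q23717 (flp_i L767455) q24878, e3 q23718 (flp_i L767465) q24879, e3 q23719 L755729 q22757, e3 q23720 L755747 q23000, e3 q23721 L755763 q22728, e3 q23722 L755777 q22982, e3 q23723 (flp_i L763110) q24517, e3 q23724 (flp_i L763168) q24521, e3 q23725 (flp_i L767475) q24880, e3 q23726 (flp_i L767483) q24881, e3 q23727 (flp_i L767497) q24882, e3 q23728 (flp_i L767508) q24883, e3 q23729 (flp_i L763122) q24518, e3 q23730 (flp_i L763181) q24522, e3 q23731 L755855 q22868, e3 q23732 L755867 q23732, e3 q23733 L755878 q23733, e3 q23734 L755887 q23734, e3 q23735 L755902 q22423, e3 q23736 L755910 q22427, e3 q23737 L755924 q22996, e3 q23738 L755936 q22953, e3 q23739 L755946 q22973, e3 q23740 (flp_i L767732) q24905, e3 q23741 L755962 q22991, e3 q23742 (flp_i L763197) q24523, e3 q23743 (flp_i L763223) q24525, trivial⟩ (by decide +kernel)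

theorem ce_i_371 : ∀ r, r < 64 → sm gi (Qf (23744 + r)) = Qf (tab Gen.i (23744 + r)) :=
  edges_tab (sm gi) Qf (tab Gen.i) 23744 [(23744, 24906), (23745, 22429), (23746, 24719), (23747, 22432), (23748, 24722), (23749, 24723), (23750, 24724), (23751, 24725), (23752, 22437), (23753, 22454), (23754, 22440), (23755, 22461), (23756, 22462), (23757, 22472), (23758, 22473), (23759, 22477), (23760, 22478), (23761, 22479), (23762, 22482), (23763, 22483), (23764, 22450), (23765, 22598), (23766, 24922), (23767, 24923), (23768, 22455), (23769, 23056), (23770, 22457), (23771, 23091), (23772, 23090), (23773, 24924), (23774, 24925), (23775, 24926), (23776, 22463), (23777, 23050), (23778, 23087), (23779, 22466), (23780, 24950), (23781, 22469), (23782, 24952), (23783, 23114), (23784, 23113), (23785, 24927), (23786, 24928), (23787, 24929), (23788, 23124), (23789, 23123), (23790, 22762), (23791, 24930), (23792, 24931), (23793, 24932), (23794, 22765), (23795, 23130), (23796, 24933), (23797, 23797), (23798, 23798), (23799, 23799), (23800, 23800),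 (23801, 22565), (23802, 23134), (23803, 22852), (23804, 22495), (23805, 24558), (23806, 22497), (23807, 24764)]
    ⟨e3 q23744 (flp_i L767744) q24906, e3 q23745 (flp_i L755977) q22429, e3 q23746 (flp_i L765752) q24719, e3 q23747 (flp_i L756006) q22432, e3 q23748 (flp_i L765802) q24722, e3 q23749 (flp_i L765815) q24723, e3 q23750 (flp_i L765831) q24724, e3 q23751 (flp_i L765841) q24725, e3 q23752 (flp_i L756067) q22437, e3 q23753 L756096 q22454, e3 q23754 (flp_i L756098) q22440, e3 q23755 L756120 q22461, e3 q23756 L756128 q22462, e3 q23757 L756138 q22472, e3 q23758 L756148 q22473, e3 q23759 L756161 q22477, e3 q23760 L756171 q22478, e3 q23761 L756184 q22479, e3 q23762 L756195 q22482, e3 q23763 L756204 q22483, e3 q23764 (flp_i L756208) q22450, e3 q23765 L756237 q22598, e3 q23766 (flp_i L767902) q24922, e3 q23767 (flp_i L767914) q24923, e3 q23768 (flp_i L756256) q22455, e3 q23769 L756279 q23056, e3 q23770 (flp_i L756281) q22457, e3 q23771 L756307 q23091, e3 q23772 L756317 q23090, e3 q23773 (flp_i L767930) q24924, e3 q23774 (flp_i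 L767940) q24925, e3 q23775 (flp_i L767950) q24926, e3 q23776 (flp_i L756343) q22463, e3 q23777 L756369 q23050, e3 q23778 L756379 q23087, e3 q23779 (flp_i L756383) q22466, e3 q23780 (flp_i L768216) q24950, e3 q23781 L756415 q22469, e3 q23782 (flp_i L768236) q24952, e3 q23783 L756433 q23114, e3 q23784 L756443 q23113, e3 q23785 (flp_i L767960) q24927, e3 q23786 (flp_i L767968) q24928, e3 q23787 (flp_i L767982) q24929, e3 q23788 L756474 q23124, e3 q23789 L756486 q23123, e3 q23790 L756499 q22762, e3 q23791 (flp_i L767991) q24930, e3 q23792 (flp_i L768003) q24931, e3 q23793 (flp_i L768014) q24932, e3 q23794 L756537 q22765, e3 q23795 L756546 q23130, e3 q23796 (flp_i L768025) q24933, e3 q23797 L756565 q23797, e3 q23798 L756573 q23798, e3 q23799 L756582 q23799, e3 q23800 L756589 q23800, e3 q23801 L756604 q22565, e3 q23802 L756617 q23134, e3 q23803 L756631 q22852, e3 q23804 (flp_i L756633) q22495, e3 q23805 (flp_i L763709) q24558, e3 q23806 (flp_i L756660) q22497, e3 q23807 (flp_i L766324) q24764, trivial⟩ (by decide +kernel)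

theorem ce_i_372 : ∀ r, r < 64 → sm gi (Qf (23808 + r)) = Qf (tab Gen.i (23808 + r)) :=
  edges_tab (sm gi) Qf (tab Gen.i) 23808 [(23808, 24765), (23809, 22500), (23810, 24766), (23811, 24767), (23812, 22503), (23813, 24549), (23814, 22505), (23815, 22506), (23816, 24768), (23817, 24769), (23818, 22509), (23819, 22510), (23820, 24987), (23821, 22512), (23822, 24772), (23823, 24773), (23824, 24774), (23825, 22818), (23826, 24775), (23827, 24776), (23828, 22569), (23829, 22521), (23830, 22572), (23831, 22573), (23832, 22579), (23833, 22526), (23834, 22588), (23835, 22589), (23836, 22529), (23837, 22592), (23838, 22593), (23839, 22594), (23840, 24628), (23841, 22601), (23842, 22535), (23843, 25013), (23844, 22538), (23845, 25015), (23846, 22611), (23847, 22612), (23848, 22613), (23849, 22616), (23850, 22617), (23851, 22618), (23852, 22619), (23853, 22620), (23854, 22624), (23855, 22625), (23856, 22628), (23857, 22629), (23858, 22630), (23859, 22631), (23860, 22632), (23861, 22636), (23862, 22639), (23863, 22641), (23864, 22642),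 (23865, 22643), (23866, 22644), (23867, 22645), (23868, 22650), (23869, 24581), (23870, 23025), (23871, 22567)]
    ⟨e3 q23808 (flp_i L766335) q24765, e3 q23809 (flp_i L756696) q22500, e3 q23810 (flp_i L766347) q24766, e3 q23811 (flp_i L766357) q24767, e3 q23812 (flp_i L756720) q22503, e3 q23813 (flp_i L763572) q24549, e3 q23814 (flp_i L756745) q22505, e3 q23815 (flp_i L756763) q22506, e3 q23816 (flp_i L766371) q24768, e3 q23817 (flp_i L766380) q24769, e3 q23818 (flp_i L756791) q22509, e3 q23819 (flp_i L756807) q22510, e3 q23820 (flp_i L768597) q24987, e3 q23821 (flp_i L756835) q22512, e3 q23822 (flp_i L766416) q24772, e3 q23823 (flp_i L766422) q24773, e3 q23824 (flp_i L766429) q24774, e3 q23825 L756870 q22818, e3 q23826 (flp_i L766439) q24775, e3 q23827 (flp_i L766449) q24776, e3 q23828 L756896 q22569, e3 q23829 (flp_i L756898) q22521, e3 q23830 L756916 q22572, e3 q23831 L756924 q22573, e3 q23832 L756936 q22579, e3 q23833 (flp_i L756938) q22526, e3 q23834 L756968 q22588, e3 q23835 L756976 q22589, e3 q23836 (flp_i L756982)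 q22529, e3 q23837 L757000 q22592, e3 q23838 L757008 q22593, e3 q23839 L757014 q22594, e3 q23840 (flp_i L764579) q24628, e3 q23841 L757034 q22601, e3 q23842 (flp_i L757038) q22535, e3 q23843 (flp_i L768847) q25013, e3 q23844 L757074 q22538, e3 q23845 (flp_i L768867) q25015, e3 q23846 L757102 q22611, e3 q23847 L757110 q22612, e3 q23848 L757120 q22613, e3 q23849 L757132 q22616, e3 q23850 L757140 q22617, e3 q23851 L757146 q22618, e3 q23852 L757150 q22619, e3 q23853 L757158 q22620, e3 q23854 L757173 q22624, e3 q23855 L757183 q22625, e3 q23856 L757200 q22628, e3 q23857 L757207 q22629, e3 q23858 L757217 q22630, e3 q23859 L757226 q22631, e3 q23860 L757238 q22632, e3 q23861 L757256 q22636, e3 q23862 L757266 q22639, e3 q23863 L757276 q22641, e3 q23864 L757286 q22642, e3 q23865 L757297 q22643, e3 q23866 L757308 q22644, e3 q23867 L757317 q22645, e3 q23868 L757329 q22650, e3 q23869 (flp_i L763989) q24581, e3 q23870 L757357 q23025, e3 q23871 (flp_i L757359) q22567, trivial⟩ (by decide +kernel)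

theorem ce_i_373 : ∀ r, r < 64 → sm gi (Qf (23872 + r)) = Qf (tab Gen.i (23872 + r)) :=
  edges_tab (sm gi) Qf (tab Gen.i) 23872 [(23872, 24578), (23873, 24998), (23874, 23022), (23875, 24999), (23876, 25000), (23877, 25001), (23878, 23029), (23879, 22576), (23880, 24604), (23881, 25002), (23882, 22581), (23883, 22582), (23884, 25053), (23885, 22585), (23886, 25055), (23887, 22586), (23888, 25003), (23889, 25004), (23890, 25005), (23891, 23026), (23892, 25006), (23893, 25007), (23894, 25008), (23895, 25009), (23896, 25010), (23897, 24621), (23898, 22596), (23899, 24934), (23900, 24935), (23901, 22833), (23902, 24617), (23903, 25012), (23904, 23030), (23905, 22603), (23906, 22604), (23907, 25079), (23908, 22607), (23909, 25081), (23910, 22609), (23911, 25084), (23912, 25085), (23913, 24981), (23914, 25017), (23915, 25018), (23916, 25019), (23917, 25020), (23918, 23033), (23919, 22719), (23920, 25021), (23921, 25022), (23922, 25023), (23923, 25024), (23924, 25025), (23925, 25026), (23926, 24605), (23927, 23137), (23928, 25027),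 (23929, 22861), (23930, 24660), (23931, 25028), (23932, 25029), (23933, 25030), (23934, 25031), (23935, 25032)]
    ⟨e3 q23872 (flp_i L763946) q24578, e3 q23873 (flp_i L768678) q24998, e3 q23874 L757401 q23022, e3 q23875 (flp_i L768693) q24999, e3 q23876 (flp_i L768701) q25000, e3 q23877 (flp_i L768709) q25001, e3 q23878 L757434 q23029, e3 q23879 (flp_i L757436) q22576, e3 q23880 (flp_i L764275) q24604, e3 q23881 (flp_i L768719) q25002, e3 q23882 (flp_i L757471) q22581, e3 q23883 (flp_i L757482) q22582, e3 q23884 (flp_i L769256) q25053, e3 q23885 L757516 q22585, e3 q23886 (flp_i L769276) q25055, e3 q23887 (flp_i L757524) q22586, e3 q23888 (flp_i L768741) q25003, e3 q23889 (flp_i L768751) q25004, e3 q23890 (flp_i L768765) q25005, e3 q23891 L757562 q23026, e3 q23892 (flp_i L768781) q25006, e3 q23893 (flp_i L768787) q25007, e3 q23894 (flp_i L768795) q25008, e3 q23895 (flp_i L768801) q25009, e3 q23896 (flp_i L768809) q25010, e3 q23897 (flp_i L764489) q24621, e3 q23898 (flp_i L757600) q22596, e3 q23899 (flp_i L768042) q24934, e3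 q23900 (flp_i L768054) q24935, e3 q23901 L757644 q22833, e3 q23902 (flp_i L764429) q24617, e3 q23903 (flp_i L768831) q25012, e3 q23904 L757664 q23030, e3 q23905 (flp_i L757668) q22603, e3 q23906 (flp_i L757681) q22604, e3 q23907 (flp_i L769457) q25079, e3 q23908 L757700 q22607, e3 q23909 (flp_i L769471) q25081, e3 q23910 L757712 q22609, e3 q23911 (flp_i L769488) q25084, e3 q23912 (flp_i L769500) q25085, e3 q23913 (flp_i L768533) q24981, e3 q23914 (flp_i L768895) q25017, e3 q23915 (flp_i L768903) q25018, e3 q23916 (flp_i L768911) q25019, e3 q23917 (flp_i L768925) q25020, e3 q23918 L757772 q23033, e3 q23919 L757782 q22719, e3 q23920 (flp_i L768933) q25021, e3 q23921 (flp_i L768941) q25022, e3 q23922 (flp_i L768947) q25023, e3 q23923 (flp_i L768955) q25024, e3 q23924 (flp_i L768961) q25025, e3 q23925 (flp_i L768967) q25026, e3 q23926 (flp_i L764289) q24605, e3 q23927 L757834 q23137, e3 q23928 (flp_i L768980) q25027, e3 q23929 L757849 q22861, e3 q23930 (flp_i L764962) q24660, e3 q23931 (flp_i L768995) q25028, e3 q23932 (flp_i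 L769004) q25029, e3 q23933 (flp_i L769013) q25030, e3 q23934 (flp_i L769024) q25031, e3 q23935 (flp_i L769035) q25032, trivial⟩ (by decide +kernel)

theorem ce_i_374 : ∀ r, r < 64 → sm gi (Qf (23936 + r)) = Qf (tab Gen.i (23936 + r)) :=
  edges_tab (sm gi) Qf (tab Gen.i) 23936 [(23936, 24487), (23937, 22675), (23938, 24618), (23939, 24645), (23940, 24648), (23941, 22851), (23942, 22720), (23943, 25033), (23944, 25034), (23945, 25035), (23946, 24493), (23947, 25036), (23948, 25037), (23949, 23157), (23950, 24496), (23951, 23951), (23952, 23952), (23953, 23953), (23954, 23954), (23955, 23955), (23956, 23956), (23957, 23957), (23958, 23958), (23959, 23959), (23960, 23960), (23961, 23961), (23962, 23962), (23963, 25140), (23964, 22665), (23965, 22666), (23966, 25141), (23967, 24572), (23968, 22682), (23969, 23969), (23970, 23970), (23971, 23971), (23972, 23972), (23973, 23973), (23974, 22681), (23975, 22686), (23976, 25148), (23977, 22903), (23978, 22927), (23979, 24423), (23980, 22703), (23981, 22965), (23982, 22960), (23983,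 22966), (23984, 22946), (23985, 24415), (23986, 24526), (23987, 24527), (23988, 22942), (23989, 22948), (23990, 24416), (23991, 22945), (23992, 22950), (23993, 25153), (23994, 22947), (23995, 22943), (23996, 22949), (23997, 22745), (23998, 22746), (23999, 22748)]
    ⟨e3 q23936 (flp_i L762671) q24487, e3 q23937 L757925 q22675, e3 q23938 (flp_i L764443) q24618, e3 q23939 (flp_i L764757) q24645, e3 q23940 (flp_i L764797) q24648, e3 q23941 L757949 q22851, e3 q23942 L757960 q22720, e3 q23943 (flp_i L769046) q25033, e3 q23944 (flp_i L769057) q25034, e3 q23945 (flp_i L769070) q25035, e3 q23946 (flp_i L762753) q24493, e3 q23947 (flp_i L769083) q25036, e3 q23948 (flp_i L769091) q25037, e3 q23949 L758024 q23157, e3 q23950 (flp_i L762797) q24496, e3 q23951 L758042 q23951, e3 q23952 L758052 q23952, e3 q23953 L758063 q23953, e3 q23954 L758072 q23954, e3 q23955 L758075 q23955, e3 q23956 L758086 q23956, e3 q23957 L758095 q23957, e3 q23958 L758104 q23958, e3 q23959 L758114 q23959, e3 q23960 L758125 q23960, e3 q23961 L758137 q23961, e3 q23962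 L758146 q23962, e3 q23963 L769956 q25140, e3 q23964 L758160 q22665, e3 q23965 L758174 q22666, e3 q23966 (flp_i L769972) q25141, e3 q23967 (flp_i L763876) q24572, e3 q23968 L758209 q22682, e3 q23969 L758224 q23969, e3 q23970 L758238 q23970, e3 q23971 L758244 q23971, e3 q23972 L758252 q23972, e3 q23973 L758255 q23973, e3 q23974 L758267 q22681, e3 q23975 L758279 q22686, e3 q23976 (flp_i L770050) q25148, e3 q23977 L758305 q22903, e3 q23978 L758321 q22927, e3 q23979 (flp_i L761773) q24423, e3 q23980 L758343 q22703, e3 q23981 L758351 q22965, e3 q23982 L758363 q22960, e3 q23983 L758373 q22966, e3 q23984 L758387 q22946, e3 q23985 (flp_i L761647) q24415, e3 q23986 (flp_i L763242) q24526, e3 q23987 (flp_i L763252) q24527, e3 q23988 L758438 q22942, e3 q23989 L758446 q22948, e3 q23990 (flp_i L761667) q24416, e3 q23991 L758458 q22945, e3 q23992 L758470 q22950, e3 q23993 (flp_i L770104) q25153, e3 q23994 L758486 q22947, e3 q23995 L758495 q22943, e3 q23996 L758505 q22949, e3 q23997 L758519 q22745, e3 q23998 L758529 q22746, e3 q23999 L758544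 q22748, trivial⟩ (by decide +kernel)

theorem ce_i_375 : ∀ r, r < 64 → sm gi (Qf (24000 + r)) = Qf (tab Gen.i (24000 + r)) :=
  edges_tab (sm gi) Qf (tab Gen.i) 24000 [(24000, 22714), (24001, 22721), (24002, 25173), (24003, 22847), (24004, 24862), (24005, 24863), (24006, 25097), (24007, 25094), (24008, 25174), (24009, 24009), (24010, 22983), (24011, 24893), (24012, 24561), (24013, 22755), (24014, 22756), (24015, 22758), (24016, 22734), (24017, 24437), (24018, 24440), (24019, 24441), (24020, 24442), (24021, 24443), (24022, 24465), (24023, 24486), (24024, 22742), (24025, 24552), (24026, 23017), (24027, 25170), (24028, 25171), (24029, 23019), (24030, 25172), (24031, 24559), (24032, 24479), (24033, 24494), (24034, 24562), (24035, 24563), (24036, 24473), (24037, 25185), (24038, 25186), (24039, 24966), (24040, 24891), (24041, 25187), (24042, 24488), (24043, 23018), (24044, 24961), (24045, 24495), (24046, 24474), (24047, 24047), (24048, 24048), (24049, 24049), (24050, 24553), (24051, 24051), (24052, 24052), (24053, 24560), (24054,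 24054), (24055, 24055), (24056, 24056), (24057, 24564), (24058, 24058), (24059, 24059), (24060, 24060), (24061, 23119), (24062, 23085), (24063, 23120)]
    ⟨e3 q24000 L758560 q22714, e3 q24001 L758574 q22721, e3 q24002 (flp_i L770313) q25173, e3 q24003 L758600 q22847, e3 q24004 (flp_i L767280) q24862, e3 q24005 (flp_i L767295) q24863, e3 q24006 (flp_i L769594) q25097, e3 q24007 (flp_i L769566) q25094, e3 q24008 (flp_i L770321) q25174, e3 q24009 L758646 q24009, e3 q24010 L758660 q22983, e3 q24011 (flp_i L767628) q24893, e3 q24012 (flp_i L763742) q24561, e3 q24013 L758683 q22755, e3 q24014 L758692 q22756, e3 q24015 L758700 q22758, e3 q24016 (flp_i L758702) q22734, e3 q24017 (flp_i L761985) q24437, e3 q24018 (flp_i L762033) q24440, e3 q24019 (flp_i L762044) q24441, e3 q24020 (flp_i L762060) q24442, e3 q24021 (flp_i L762070) q24443, e3 q24022 (flp_i L762400) q24465, e3 q24023 (flp_i L762660) q24486, e3 q24024 (flp_i L758785) q22742, e3 q24025 (flp_i L763620) q24552, e3 q24026 L758822 q23017, e3 q24027 (flp_i L770274) q25170, e3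 q24028 (flp_i L770285) q25171, e3 q24029 L758850 q23019, e3 q24030 (flp_i L770299) q25172, e3 q24031 (flp_i L763721) q24559, e3 q24032 (flp_i L762592) q24479, e3 q24033 (flp_i L762768) q24494, e3 q24034 (flp_i L763755) q24562, e3 q24035 (flp_i L763763) q24563, e3 q24036 (flp_i L762506) q24473, e3 q24037 (flp_i L770415) q25185, e3 q24038 (flp_i L770423) q25186, e3 q24039 (flp_i L768372) q24966, e3 q24040 (flp_i L767598) q24891, e3 q24041 (flp_i L770431) q25187, e3 q24042 (flp_i L762691) q24488, e3 q24043 L758966 q23018, e3 q24044 (flp_i L768319) q24961, e3 q24045 (flp_i L762781) q24495, e3 q24046 (flp_i L762522) q24474, e3 q24047 L759009 q24047, e3 q24048 L759020 q24048, e3 q24049 L759029 q24049, e3 q24050 (flp_i L763631) q24553, e3 q24051 L759053 q24051, e3 q24052 L759064 q24052, e3 q24053 (flp_i L763730) q24560, e3 q24054 L759081 q24054, e3 q24055 L759089 q24055, e3 q24056 L759098 q24056, e3 q24057 (flp_i L763772) q24564, e3 q24058 L759117 q24058, e3 q24059 L759130 q24059, e3 q24060 L759138 q24060, e3 q24061 L759152 q23119,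 e3 q24062 L759166 q23085, e3 q24063 L759176 q23120, trivial⟩ (by decide +kernel)

theorem ce_i_376 : ∀ r, r < 64 → sm gi (Qf (24064 + r)) = Qf (tab Gen.i (24064 + r)) :=
  edges_tab (sm gi) Qf (tab Gen.i) 24064 [(24064, 24529), (24065, 23088), (24066, 23122), (24067, 23094), (24068, 22788), (24069, 22816), (24070, 22817), (24071, 22819), (24072, 22792), (24073, 22821), (24074, 22822), (24075, 22795), (24076, 25246), (24077, 22828), (24078, 22829), (24079, 22831), (24080, 25040), (24081, 22838), (24082, 22839), (24083, 22840), (24084, 24947), (24085, 22806), (24086, 25256), (24087, 22848), (24088, 22849), (24089, 22850), (24090, 22853), (24091, 22854), (24092, 22855), (24093, 24989), (24094, 25240), (24095, 25241), (24096, 24994), (24097, 25242), (24098, 23038), (24099, 25244), (24100, 25245), (24101, 22823), (24102, 25275), (24103, 22826), (24104, 25277), (24105, 23042), (24106, 25248), (24107, 25249), (24108, 25109), (24109, 23044), (24110, 25250), (24111, 23099), (24112, 25073), (24113, 25052), (24114, 22836), (24115, 25291),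 (24116, 23096), (24117, 25252), (24118, 25253), (24119, 25254), (24120, 25044), (24121, 22843), (24122, 25300), (24123, 22845), (24124, 25303), (24125, 25304), (24126, 24616), (24127, 25176)]
    ⟨e3 q24064 (flp_i L763285) q24529, e3 q24065 L759194 q23088, e3 q24066 L759201 q23122, e3 q24067 L759211 q23094, e3 q24068 (flp_i L759213) q22788, e3 q24069 L759230 q22816, e3 q24070 L759237 q22817, e3 q24071 L759248 q22819, e3 q24072 (flp_i L759252) q22792, e3 q24073 L759275 q22821, e3 q24074 L759285 q22822, e3 q24075 (flp_i L759290) q22795, e3 q24076 (flp_i L770976) q25246, e3 q24077 L759316 q22828, e3 q24078 L759323 q22829, e3 q24079 L759333 q22831, e3 q24080 (flp_i L769134) q25040, e3 q24081 L759356 q22838, e3 q24082 L759362 q22839, e3 q24083 L759369 q22840, e3 q24084 (flp_i L768179) q24947, e3 q24085 L759384 q22806, e3 q24086 (flp_i L771060) q25256, e3 q24087 L759396 q22848, e3 q24088 L759400 q22849, e3 q24089 L759406 q22850, e3 q24090 L759418 q22853, e3 q24091 L759430 q22854, e3 q24092 L759434 q22855, e3 q24093 (flp_i L768618)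 q24989, e3 q24094 (flp_i L770918) q25240, e3 q24095 (flp_i L770927) q25241, e3 q24096 (flp_i L768649) q24994, e3 q24097 (flp_i L770935) q25242, e3 q24098 L759479 q23038, e3 q24099 (flp_i L770954) q25244, e3 q24100 (flp_i L770965) q25245, e3 q24101 (flp_i L759497) q22823, e3 q24102 (flp_i L771194) q25275, e3 q24103 L759523 q22826, e3 q24104 (flp_i L771208) q25277, e3 q24105 L759537 q23042, e3 q24106 (flp_i L770992) q25248, e3 q24107 (flp_i L771000) q25249, e3 q24108 (flp_i L769677) q25109, e3 q24109 L759567 q23044, e3 q24110 (flp_i L771012) q25250, e3 q24111 L759589 q23099, e3 q24112 (flp_i L769411) q25073, e3 q24113 (flp_i L769241) q25052, e3 q24114 L759608 q22836, e3 q24115 (flp_i L771314) q25291, e3 q24116 L759630 q23096, e3 q24117 (flp_i L771034) q25252, e3 q24118 (flp_i L771038) q25253, e3 q24119 (flp_i L771046) q25254, e3 q24120 (flp_i L769178) q25044, e3 q24121 L759664 q22843, e3 q24122 (flp_i L771376) q25300, e3 q24123 L759674 q22845, e3 q24124 (flp_i L771391) q25303, e3 q24125 (flp_i L771395) q25304, e3 q24126 (flp_i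 L764417) q24616, e3 q24127 (flp_i L770345) q25176, trivial⟩ (by decide +kernel)

theorem ce_i_377 : ∀ r, r < 64 → sm gi (Qf (24128 + r)) = Qf (tab Gen.i (24128 + r)) :=
  edges_tab (sm gi) Qf (tab Gen.i) 24128 [(24128, 25259), (24129, 24902), (24130, 25260), (24131, 25261), (24132, 25120), (24133, 24972), (24134, 25262), (24135, 25263), (24136, 25264), (24137, 23036), (24138, 23131), (24139, 23039), (24140, 23043), (24141, 25107), (24142, 23125), (24143, 24634), (24144, 24641), (24145, 24624), (24146, 24146), (24147, 22874), (24148, 25323), (24149, 24149), (24150, 24150), (24151, 22878), (24152, 25326), (24153, 22881), (24154, 25327), (24155, 22892), (24156, 22911), (24157, 24819), (24158, 24842), (24159, 25328), (24160, 24843), (24161, 24161), (24162, 24162), (24163, 22897), (24164, 25334), (24165, 22909), (24166, 22910), (24167, 22912), (24168, 22915), (24169, 25150), (24170, 22904), (24171, 25341), (24172, 22907), (24173, 25343), (24174, 24815), (24175, 25336), (24176, 25337), (24177, 25338), (24178, 25329), (24179, 25339),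 (24180, 24431), (24181, 24412), (24182, 24755), (24183, 22918), (24184, 25355), (24185, 24185), (24186, 24186), (24187, 24555), (24188, 22928), (24189, 22929), (24190, 22930), (24191, 24663)]
    ⟨e3 q24128 (flp_i L771079) q25259, e3 q24129 (flp_i L767700) q24902, e3 q24130 (flp_i L771087) q25260, e3 q24131 (flp_i L771093) q25261, e3 q24132 (flp_i L769768) q25120, e3 q24133 (flp_i L768428) q24972, e3 q24134 (flp_i L771103) q25262, e3 q24135 (flp_i L771113) q25263, e3 q24136 (flp_i L771121) q25264, e3 q24137 L759752 q23036, e3 q24138 L759763 q23131, e3 q24139 L759774 q23039, e3 q24140 L759782 q23043, e3 q24141 (flp_i L769661) q25107, e3 q24142 L759799 q23125, e3 q24143 (flp_i L764641) q24634, e3 q24144 (flp_i L764699) q24641, e3 q24145 (flp_i L764519) q24624, e3 q24146 L759823 q24146, e3 q24147 L759830 q22874, e3 q24148 (flp_i L771512) q25323, e3 q24149 L759845 q24149, e3 q24150 L759851 q24150, e3 q24151 L759857 q22878, e3 q24152 (flp_i L771532) q25326, e3 q24153 L759869 q22881, e3 q24154 (flp_i L771537) q25327, e3 q24155 L759886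 q22892, e3 q24156 L759902 q22911, e3 q24157 (flp_i L766891) q24819, e3 q24158 (flp_i L767070) q24842, e3 q24159 (flp_i L771552) q25328, e3 q24160 (flp_i L767085) q24843, e3 q24161 L759944 q24161, e3 q24162 L759951 q24162, e3 q24163 (flp_i L759954) q22897, e3 q24164 (flp_i L771601) q25334, e3 q24165 L759966 q22909, e3 q24166 L759973 q22910, e3 q24167 L759979 q22912, e3 q24168 L759986 q22915, e3 q24169 (flp_i L770074) q25150, e3 q24170 (flp_i L759996) q22904, e3 q24171 (flp_i L771651) q25341, e3 q24172 L760020 q22907, e3 q24173 (flp_i L771663) q25343, e3 q24174 (flp_i L766842) q24815, e3 q24175 (flp_i L771609) q25336, e3 q24176 (flp_i L771615) q25337, e3 q24177 (flp_i L771624) q25338, e3 q24178 (flp_i L771566) q25329, e3 q24179 (flp_i L771632) q25339, e3 q24180 (flp_i L761887) q24431, e3 q24181 (flp_i L761600) q24412, e3 q24182 (flp_i L766186) q24755, e3 q24183 L760079 q22918, e3 q24184 (flp_i L771733) q25355, e3 q24185 L760090 q24185, e3 q24186 L760098 q24186, e3 q24187 (flp_i L763664) q24555, e3 q24188 L760112 q22928, e3 q24189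 L760119 q22929, e3 q24190 L760125 q22930, e3 q24191 (flp_i L765011) q24663, trivial⟩ (by decide +kernel)

theorem ce_i_378 : ∀ r, r < 64 → sm gi (Qf (24192 + r)) = Qf (tab Gen.i (24192 + r)) :=
  edges_tab (sm gi) Qf (tab Gen.i) 24192 [(24192, 25151), (24193, 25358), (24194, 25359), (24195, 24844), (24196, 25360), (24197, 22955), (24198, 22956), (24199, 22936), (24200, 25370), (24201, 22961), (24202, 22962), (24203, 22963), (24204, 22967), (24205, 22968), (24206, 25161), (24207, 25169), (24208, 24425), (24209, 25165), (24210, 25157), (24211, 25168), (24212, 25162), (24213, 25163), (24214, 25166), (24215, 24716), (24216, 24717), (24217, 24908), (24218, 24696), (24219, 25367), (24220, 25368), (24221, 25369), (24222, 22958), (24223, 25395), (24224, 25396), (24225, 24406), (24226, 25155), (24227, 24408), (24228, 25373), (24229, 25374), (24230, 25375), (24231, 24756), (24232, 25154), (24233, 25156), (24234, 25376), (24235, 24909), (24236, 22977), (24237, 24520), (24238, 24884), (24239, 24887), (24240, 24894), (24241, 25182), (24242,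 22992), (24243, 23001), (24244, 23010), (24245, 23011), (24246, 24715), (24247, 24865), (24248, 23006), (24249, 24911), (24250, 25413), (24251, 24540), (24252, 24861), (24253, 24686), (24254, 24907), (24255, 24700)]
    ⟨e3 q24192 (flp_i L770088) q25151, e3 q24193 (flp_i L771754) q25358, e3 q24194 (flp_i L771762) q25359, e3 q24195 (flp_i L767096) q24844, e3 q24196 (flp_i L771768) q25360, e3 q24197 L760171 q22955, e3 q24198 L760178 q22956, e3 q24199 L760183 q22936, e3 q24200 (flp_i L771829) q25370, e3 q24201 L760191 q22961, e3 q24202 L760197 q22962, e3 q24203 L760204 q22963, e3 q24204 L760210 q22967, e3 q24205 L760217 q22968, e3 q24206 (flp_i L770196) q25161, e3 q24207 (flp_i L770264) q25169, e3 q24208 (flp_i L761805) q24425, e3 q24209 (flp_i L770228) q25165, e3 q24210 (flp_i L770148) q25157, e3 q24211 (flp_i L770255) q25168, e3 q24212 (flp_i L770206) q25162, e3 q24213 (flp_i L770214) q25163, e3 q24214 (flp_i L770238) q25166, e3 q24215 (flp_i L765721) q24716, e3 q24216 (flp_i L765730) q24717, e3 q24217 (flp_i L767762) q24908,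 e3 q24218 (flp_i L765477) q24696, e3 q24219 (flp_i L771808) q25367, e3 q24220 (flp_i L771814) q25368, e3 q24221 (flp_i L771823) q25369, e3 q24222 L760315 q22958, e3 q24223 (flp_i L771964) q25395, e3 q24224 (flp_i L771970) q25396, e3 q24225 (flp_i L761506) q24406, e3 q24226 (flp_i L770124) q25155, e3 q24227 (flp_i L761540) q24408, e3 q24228 (flp_i L771846) q25373, e3 q24229 (flp_i L771852) q25374, e3 q24230 (flp_i L771858) q25375, e3 q24231 (flp_i L766199) q24756, e3 q24232 (flp_i L770116) q25154, e3 q24233 (flp_i L770136) q25156, e3 q24234 (flp_i L771862) q25376, e3 q24235 (flp_i L767771) q24909, e3 q24236 L760390 q22977, e3 q24237 (flp_i L763156) q24520, e3 q24238 (flp_i L767522) q24884, e3 q24239 (flp_i L767558) q24887, e3 q24240 (flp_i L767640) q24894, e3 q24241 (flp_i L770395) q25182, e3 q24242 L760429 q22992, e3 q24243 L760439 q23001, e3 q24244 L760445 q23010, e3 q24245 L760451 q23011, e3 q24246 (flp_i L765713) q24715, e3 q24247 (flp_i L767317) q24865, e3 q24248 L760473 q23006, e3 q24249 (flp_i L767783) q24911, e3 q24250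 (flp_i L772072) q25413, e3 q24251 (flp_i L763444) q24540, e3 q24252 (flp_i L767266) q24861, e3 q24253 (flp_i L765360) q24686, e3 q24254 (flp_i L767754) q24907, e3 q24255 (flp_i L765525) q24700, trivial⟩ (by decide +kernel)

theorem ce_i_379 : ∀ r, r < 64 → sm gi (Qf (24256 + r)) = Qf (tab Gen.i (24256 + r)) :=
  edges_tab (sm gi) Qf (tab Gen.i) 24256 [(24256, 24866), (24257, 23007), (24258, 24892), (24259, 25414), (24260, 23023), (24261, 23024), (24262, 24541), (24263, 24864), (24264, 25419), (24265, 25430), (24266, 24867), (24267, 24868), (24268, 24869), (24269, 25415), (24270, 25416), (24271, 24545), (24272, 24710), (24273, 24546), (24274, 25198), (24275, 25219), (24276, 25202), (24277, 23027), (24278, 23034), (24279, 25043), (24280, 25433), (24281, 25434), (24282, 25039), (24283, 25062), (24284, 25449), (24285, 24629), (24286, 25049), (24287, 25077), (24288, 23032), (24289, 25461), (24290, 25096), (24291, 25450), (24292, 24986), (24293, 25319), (24294, 25057), (24295, 25272), (24296, 25126), (24297, 25320), (24298, 23041),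 (24299, 25470), (24300, 25280), (24301, 25281), (24302, 25286), (24303, 23080), (24304, 23081), (24305, 23083), (24306, 23084), (24307, 23086), (24308, 24948), (24309, 23089), (24310, 23095), (24311, 23097), (24312, 24611), (24313, 24938), (24314, 24939), (24315, 23100), (24316, 23101), (24317, 23059), (24318, 25492), (24319, 23062)]
    ⟨e3 q24256 (flp_i L767329) q24866, e3 q24257 L760534 q23007, e3 q24258 (flp_i L767614) q24892, e3 q24259 (flp_i L772080) q25414, e3 q24260 L760557 q23023, e3 q24261 L760567 q23024, e3 q24262 (flp_i L763456) q24541, e3 q24263 (flp_i L767307) q24864, e3 q24264 (flp_i L772114) q25419, e3 q24265 (flp_i L772181) q25430, e3 q24266 (flp_i L767339) q24867, e3 q24267 (flp_i L767347) q24868, e3 q24268 (flp_i L767361) q24869, e3 q24269 (flp_i L772086) q25415, e3 q24270 (flp_i L772094) q25416, e3 q24271 (flp_i L763502) q24545, e3 q24272 (flp_i L765635) q24710, e3 q24273 (flp_i L763520) q24546, e3 q24274 (flp_i L770537) q25198, e3 q24275 (flp_i L770716) q25219, e3 q24276 (flp_i L770579) q25202, e3 q24277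 L760654 q23027, e3 q24278 L760658 q23034, e3 q24279 (flp_i L769162) q25043, e3 q24280 (flp_i L772205) q25433, e3 q24281 (flp_i L772217) q25434, e3 q24282 (flp_i L769117) q25039, e3 q24283 (flp_i L769332) q25062, e3 q24284 (flp_i L772297) q25449, e3 q24285 (flp_i L764591) q24629, e3 q24286 (flp_i L769216) q25049, e3 q24287 (flp_i L769437) q25077, e3 q24288 L760714 q23032, e3 q24289 (flp_i L772360) q25461, e3 q24290 (flp_i L769582) q25096, e3 q24291 (flp_i L772301) q25450, e3 q24292 (flp_i L768579) q24986, e3 q24293 (flp_i L771479) q25319, e3 q24294 (flp_i L769298) q25057, e3 q24295 (flp_i L771169) q25272, e3 q24296 (flp_i L769825) q25126, e3 q24297 (flp_i L771489) q25320, e3 q24298 L760780 q23041, e3 q24299 (flp_i L772412) q25470, e3 q24300 (flp_i L771230) q25280, e3 q24301 (flp_i L771238) q25281, e3 q24302 (flp_i L771274) q25286, e3 q24303 L760805 q23080, e3 q24304 L760811 q23081, e3 q24305 L760817 q23083, e3 q24306 L760823 q23084, e3 q24307 L760831 q23086, e3 q24308 (flp_i L768189) q24948, e3 q24309 L760845 q23089, e3 q24310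 L760853 q23095, e3 q24311 L760859 q23097, e3 q24312 (flp_i L764359) q24611, e3 q24313 (flp_i L768085) q24938, e3 q24314 (flp_i L768095) q24939, e3 q24315 L760886 q23100, e3 q24316 L760890 q23101, e3 q24317 (flp_i L760892) q23059, e3 q24318 (flp_i L772542) q25492, e3 q24319 L760909 q23062, trivial⟩ (by decide +kernel)

theorem ce_i_380 : ∀ r, r < 64 → sm gi (Qf (24320 + r)) = Qf (tab Gen.i (24320 + r)) :=
  edges_tab (sm gi) Qf (tab Gen.i) 24320 [(24320, 25494), (24321, 23064), (24322, 25497), (24323, 23108), (24324, 23109), (24325, 23110), (24326, 23111), (24327, 23112), (24328, 23115), (24329, 23116), (24330, 23117), (24331, 23118), (24332, 23121), (24333, 23126), (24334, 23127), (24335, 23128), (24336, 23129), (24337, 25476), (24338, 25477), (24339, 24565), (24340, 25478), (24341, 25479), (24342, 25480), (24343, 25232), (24344, 25481), (24345, 24949), (24346, 25236), (24347, 25237), (24348, 25483), (24349, 24942), (24350, 24941), (24351, 24940), (24352, 24556), (24353, 24566), (24354, 25238), (24355, 25484), (24356, 25294),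 (24357, 25485), (24358, 25288), (24359, 25489), (24360, 25490), (24361, 25491), (24362, 23103), (24363, 25539), (24364, 23105), (24365, 25542), (24366, 25543), (24367, 23107), (24368, 25546), (24369, 25499), (24370, 25500), (24371, 25501), (24372, 25502), (24373, 25503), (24374, 24955), (24375, 25504), (24376, 24956), (24377, 24954), (24378, 25505), (24379, 25506), (24380, 25507), (24381, 25233), (24382, 25234), (24383, 24962)]
    ⟨e3 q24320 (flp_i L772554) q25494, e3 q24321 L760919 q23064, e3 q24322 (flp_i L772573) q25497, e3 q24323 L760935 q23108, e3 q24324 L760941 q23109, e3 q24325 L760947 q23110, e3 q24326 L760953 q23111, e3 q24327 L760961 q23112, e3 q24328 L760967 q23115, e3 q24329 L760973 q23116, e3 q24330 L760979 q23117, e3 q24331 L760983 q23118, e3 q24332 L760993 q23121, e3 q24333 L761002 q23126, e3 q24334 L761009 q23127, e3 q24335 L761017 q23128, e3 q24336 L761027 q23129, e3 q24337 (flp_i L772442) q25476, e3 q24338 (flp_i L772448) q25477, e3 q24339 (flp_i L763782) q24565, e3 q24340 (flp_i L772456) q25478, e3 q24341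 (flp_i L772460) q25479, e3 q24342 (flp_i L772467) q25480, e3 q24343 (flp_i L770845) q25232, e3 q24344 (flp_i L772475) q25481, e3 q24345 (flp_i L768203) q24949, e3 q24346 (flp_i L770883) q25236, e3 q24347 (flp_i L770891) q25237, e3 q24348 (flp_i L772489) q25483, e3 q24349 (flp_i L768135) q24942, e3 q24350 (flp_i L768125) q24941, e3 q24351 (flp_i L768113) q24940, e3 q24352 (flp_i L763674) q24556, e3 q24353 (flp_i L763792) q24566, e3 q24354 (flp_i L770903) q25238, e3 q24355 (flp_i L772495) q25484, e3 q24356 (flp_i L771338) q25294, e3 q24357 (flp_i L772501) q25485, e3 q24358 (flp_i L771294) q25288, e3 q24359 (flp_i L772521) q25489, e3 q24360 (flp_i L772527) q25490, e3 q24361 (flp_i L772533) q25491, e3 q24362 L761184 q23103, e3 q24363 (flp_i L772847) q25539, e3 q24364 L761196 q23105, e3 q24365 (flp_i L772867) q25542, e3 q24366 (flp_i L772871) q25543, e3 q24367 L761212 q23107, e3 q24368 (flp_i L772889) q25546, e3 q24369 (flp_i L772583) q25499, e3 q24370 (flp_i L772589) q25500, e3 q24371 (flp_i L772597) q25501, e3 q24372 (flp_i L772607)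 q25502, e3 q24373 (flp_i L772613) q25503, e3 q24374 (flp_i L768266) q24955, e3 q24375 (flp_i L772619) q25504, e3 q24376 (flp_i L768280) q24956, e3 q24377 (flp_i L768258) q24954, e3 q24378 (flp_i L772625) q25505, e3 q24379 (flp_i L772631) q25506, e3 q24380 (flp_i L772637) q25507, e3 q24381 (flp_i L770854) q25233, e3 q24382 (flp_i L770865) q25234, e3 q24383 (flp_i L768332) q24962, trivial⟩ (by decide +kernel)

theorem ce_i_381 : ∀ r, r < 64 → sm gi (Qf (24384 + r)) = Qf (tab Gen.i (24384 + r)) :=
  edges_tab (sm gi) Qf (tab Gen.i) 24384 [(24384, 24960), (24385, 25321), (24386, 25508), (24387, 25509), (24388, 24971), (24389, 24389), (24390, 25106), (24391, 24391), (24392, 24392), (24393, 23142), (24394, 25563), (24395, 24643), (24396, 24396), (24397, 23148), (24398, 25565), (24399, 23150), (24400, 24400), (24401, 24401), (24402, 23169), (24403, 23170), (24404, 23176), (24405, 23651), (24406, 24225), (24407, 23656), (24408, 24227), (24409, 25567), (24410, 25568), (24411, 23194), (24412, 24181), (24413, 25569), (24414, 24414),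 (24415, 23985), (24416, 23990), (24417, 23188), (24418, 23192), (24419, 23193), (24420, 23195), (24421, 23197), (24422, 25581), (24423, 23979), (24424, 23628), (24425, 24208), (24426, 25582), (24427, 25583), (24428, 25584), (24429, 25585), (24430, 23661), (24431, 24180), (24432, 24432), (24433, 24433), (24434, 23202), (24435, 23311), (24436, 23205), (24437, 24017), (24438, 23207), (24439, 23208), (24440, 24018), (24441, 24019), (24442, 24020), (24443, 24021), (24444, 23234), (24445, 23215), (24446, 23236), (24447, 23237)]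
    ⟨e3 q24384 (flp_i L768307) q24960, e3 q24385 (flp_i L771500) q25321, e3 q24386 (flp_i L772644) q25508, e3 q24387 (flp_i L772655) q25509, e3 q24388 (flp_i L768413) q24971, e3 q24389 L761350 q24389, e3 q24390 (flp_i L769652) q25106, e3 q24391 L761362 q24391, e3 q24392 L761369 q24392, e3 q24393 L761373 q23142, e3 q24394 (flp_i L772982) q25563, e3 q24395 (flp_i L764727) q24643, e3 q24396 L761390 q24396, e3 q24397 L761398 q23148, e3 q24398 (flp_i L772992) q25565, e3 q24399 L761410 q23150, e3 q24400 L761416 q24400, e3 q24401 L761424 q24401, e3 q24402 L761443 q23169, e3 q24403 L761455 q23170, e3 q24404 L761473 q23176, e3 q24405 L761494 q23651, e3 q24406 L761506 q24225, e3 q24407 L761528 q23656, e3 q24408 L761540 q24227, e3 q24409 (flp_i L773011) q25567, e3 q24410 (flp_i L773027) q25568, e3 q24411 L761584 q23194, e3 q24412 L761600 q24181, e3 q24413 (flp_i L773044) q25569, e3 q24414 L761632 q24414, e3 q24415 L761647 q23985, e3 q24416 L761667 q23990, e3 q24417 L761683 q23188, e3 q24418 L761701 q23192, e3 q24419 L761713 q23193, e3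 q24420 L761729 q23195, e3 q24421 L761745 q23197, e3 q24422 (flp_i L773234) q25581, e3 q24423 L761773 q23979, e3 q24424 L761793 q23628, e3 q24425 L761805 q24208, e3 q24426 (flp_i L773250) q25582, e3 q24427 (flp_i L773266) q25583, e3 q24428 (flp_i L773278) q25584, e3 q24429 (flp_i L773295) q25585, e3 q24430 L761869 q23661, e3 q24431 L761887 q24180, e3 q24432 L761901 q24432, e3 q24433 L761916 q24433, e3 q24434 (flp_i L761921) q23202, e3 q24435 L761952 q23311, e3 q24436 (flp_i L761954) q23205, e3 q24437 L761985 q24017, e3 q24438 (flp_i L761987) q23207, e3 q24439 (flp_i L762004) q23208, e3 q24440 L762033 q24018, e3 q24441 L762044 q24019, e3 q24442 L762060 q24020, e3 q24443 L762070 q24021, e3 q24444 L762092 q23234, e3 q24445 (flp_i L762094) q23215, e3 q24446 L762127 q23236, e3 q24447 L762141 q23237, trivial⟩ (by decide +kernel)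

theorem ce_i_382 : ∀ r, r < 64 → sm gi (Qf (24448 + r)) = Qf (tab Gen.i (24448 + r)) :=
  edges_tab (sm gi) Qf (tab Gen.i) 24448 [(24448, 23218), (24449, 23239), (24450, 23240), (24451, 23221), (24452, 25614), (24453, 23250), (24454, 23251), (24455, 23252), (24456, 23253), (24457, 23256), (24458, 23257), (24459, 23258), (24460, 23259), (24461, 23263), (24462, 23264), (24463, 23265), (24464, 25607), (24465, 24022), (24466, 25609), (24467, 25610), (24468, 25611), (24469, 25612), (24470, 25613), (24471, 23241), (24472, 25636), (24473, 24036), (24474, 24046), (24475, 23245), (24476, 25640), (24477, 23248), (24478, 25642), (24479, 24032), (24480, 25616), (24481, 25617), (24482, 25618), (24483, 25619), (24484, 25620), (24485, 25621), (24486, 24023), (24487, 23936), (24488, 24042), (24489, 25622), (24490, 25623), (24491, 25624), (24492, 25625), (24493, 23946), (24494, 24033), (24495, 24045), (24496, 23950), (24497, 25626), (24498, 24498), (24499, 24499), (24500, 24500), (24501, 24501), (24502, 24502), (24503, 24503), (24504, 23274),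 (24505, 25669), (24506, 24506), (24507, 23278), (24508, 25671), (24509, 24509), (24510, 24510), (24511, 23292)]
    ⟨e3 q24448 (flp_i L762146) q23218, e3 q24449 L762178 q23239, e3 q24450 L762188 q23240, e3 q24451 (flp_i L762192) q23221, e3 q24452 (flp_i L773722) q25614, e3 q24453 L762230 q23250, e3 q24454 L762243 q23251, e3 q24455 L762255 q23252, e3 q24456 L762265 q23253, e3 q24457 L762279 q23256, e3 q24458 L762296 q23257, e3 q24459 L762308 q23258, e3 q24460 L762321 q23259, e3 q24461 L762338 q23263, e3 q24462 L762351 q23264, e3 q24463 L762366 q23265, e3 q24464 (flp_i L773615) q25607, e3 q24465 L762400 q24022, e3 q24466 (flp_i L773650) q25609, e3 q24467 (flp_i L773665) q25610, e3 q24468 (flp_i L773683) q25611, e3 q24469 (flp_i L773695) q25612, e3 q24470 (flp_i L773705) q25613, e3 q24471 (flp_i L762460) q23241, e3 q24472 (flp_i L774013) q25636, e3 q24473 L762506 q24036, e3 q24474 L762522 q24046, e3 q24475 (flp_i L762526) q23245, e3 q24476 (flp_i L774074) q25640, e3 q24477 L762570 q23248, e3 q24478 (flp_i L774098) q25642, e3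 q24479 L762592 q24032, e3 q24480 (flp_i L773744) q25616, e3 q24481 (flp_i L773756) q25617, e3 q24482 (flp_i L773769) q25618, e3 q24483 (flp_i L773783) q25619, e3 q24484 (flp_i L773795) q25620, e3 q24485 (flp_i L773807) q25621, e3 q24486 L762660 q24023, e3 q24487 L762671 q23936, e3 q24488 L762691 q24042, e3 q24489 (flp_i L773824) q25622, e3 q24490 (flp_i L773837) q25623, e3 q24491 (flp_i L773849) q25624, e3 q24492 (flp_i L773864) q25625, e3 q24493 L762753 q23946, e3 q24494 L762768 q24033, e3 q24495 L762781 q24045, e3 q24496 L762797 q23950, e3 q24497 (flp_i L773879) q25626, e3 q24498 L762824 q24498, e3 q24499 L762838 q24499, e3 q24500 L762851 q24500, e3 q24501 L762868 q24501, e3 q24502 L762881 q24502, e3 q24503 L762895 q24503, e3 q24504 L762911 q23274, e3 q24505 (flp_i L774437) q25669, e3 q24506 L762940 q24506, e3 q24507 L762954 q23278, e3 q24508 (flp_i L774469) q25671, e3 q24509 L762983 q24509, e3 q24510 L762994 q24510, e3 q24511 L763014 q23292, trivial⟩ (by decide +kernel)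

theorem ce_i_383 : ∀ r, r < 64 → sm gi (Qf (24512 + r)) = Qf (tab Gen.i (24512 + r)) :=
  edges_tab (sm gi) Qf (tab Gen.i) 24512 [(24512, 23297), (24513, 23285), (24514, 23679), (24515, 23287), (24516, 23700), (24517, 23723), (24518, 23729), (24519, 25673), (24520, 24237), (24521, 23724), (24522, 23730), (24523, 23742), (24524, 25674), (24525, 23743), (24526, 23986), (24527, 23987), (24528, 23312), (24529, 24064), (24530, 23313), (24531, 23314), (24532, 23317), (24533, 23318), (24534, 23321), (24535, 25597), (24536, 25598), (24537, 25690), (24538, 25692), (24539, 25693), (24540, 24251), (24541, 24262), (24542, 25694), (24543, 25695), (24544, 25696), (24545, 24271), (24546, 24273), (24547, 24547), (24548, 23325), (24549, 23813), (24550, 23327), (24551, 23328), (24552, 24025), (24553, 24050), (24554, 23331), (24555, 24187), (24556, 24352), (24557, 23334), (24558, 23805), (24559, 24031), (24560, 24053), (24561, 24012), (24562, 24034), (24563, 24035), (24564, 24057), (24565, 24339), (24566, 24353), (24567, 23344), (24568, 23381),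 (24569, 23382), (24570, 23385), (24571, 23386), (24572, 23967), (24573, 23387), (24574, 23388), (24575, 23390)]
    ⟨e3 q24512 L763026 q23297, e3 q24513 (flp_i L763032) q23285, e3 q24514 L763063 q23679, e3 q24515 (flp_i L763065) q23287, e3 q24516 L763094 q23700, e3 q24517 L763110 q23723, e3 q24518 L763122 q23729, e3 q24519 (flp_i L774496) q25673, e3 q24520 L763156 q24237, e3 q24521 L763168 q23724, e3 q24522 L763181 q23730, e3 q24523 L763197 q23742, e3 q24524 (flp_i L774514) q25674, e3 q24525 L763223 q23743, e3 q24526 L763242 q23986, e3 q24527 L763252 q23987, e3 q24528 L763266 q23312, e3 q24529 L763285 q24064, e3 q24530 L763299 q23313, e3 q24531 L763314 q23314, e3 q24532 L763330 q23317, e3 q24533 L763340 q23318, e3 q24534 L763355 q23321, e3 q24535 (flp_i L773470) q25597, e3 q24536 (flp_i L773482) q25598, e3 q24537 (flp_i L774750) q25690, e3 q24538 (flp_i L774780) q25692, e3 q24539 (flp_i L774794) q25693, e3 q24540 L763444 q24251, e3 q24541 L763456 q24262, e3 q24542 (flp_i L774810) q25694, e3 q24543 (flp_i L774824) q25695, e3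 q24544 (flp_i L774836) q25696, e3 q24545 L763502 q24271, e3 q24546 L763520 q24273, e3 q24547 L763536 q24547, e3 q24548 (flp_i L763541) q23325, e3 q24549 L763572 q23813, e3 q24550 (flp_i L763574) q23327, e3 q24551 (flp_i L763591) q23328, e3 q24552 L763620 q24025, e3 q24553 L763631 q24050, e3 q24554 (flp_i L763636) q23331, e3 q24555 L763664 q24187, e3 q24556 L763674 q24352, e3 q24557 (flp_i L763678) q23334, e3 q24558 L763709 q23805, e3 q24559 L763721 q24031, e3 q24560 L763730 q24053, e3 q24561 L763742 q24012, e3 q24562 L763755 q24034, e3 q24563 L763763 q24035, e3 q24564 L763772 q24057, e3 q24565 L763782 q24339, e3 q24566 L763792 q24353, e3 q24567 (flp_i L763794) q23344, e3 q24568 L763820 q23381, e3 q24569 L763830 q23382, e3 q24570 L763848 q23385, e3 q24571 L763860 q23386, e3 q24572 L763876 q23967, e3 q24573 L763886 q23387, e3 q24574 L763895 q23388, e3 q24575 L763911 q23390, trivial⟩ (by decide +kernel)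

theorem ce_i_384 : ∀ r, r < 64 → sm gi (Qf (24576 + r)) = Qf (tab Gen.i (24576 + r)) :=
  edges_tab (sm gi) Qf (tab Gen.i) 24576 [(24576, 23391), (24577, 23392), (24578, 23872), (24579, 23399), (24580, 23400), (24581, 23869), (24582, 23360), (24583, 25748), (24584, 23405), (24585, 23406), (24586, 23407), (24587, 23408), (24588, 23409), (24589, 23410), (24590, 23411), (24591, 23412), (24592, 23413), (24593, 23416), (24594, 23418), (24595, 23419), (24596, 23420), (24597, 23425), (24598, 23426), (24599, 23428), (24600, 23379), (24601, 25731), (24602, 25732), (24603, 25733), (24604, 23880), (24605, 23926), (24606, 25734), (24607, 25735), (24608, 25737), (24609, 25738), (24610, 25739), (24611, 24312), (24612, 25740), (24613, 25741), (24614, 25742), (24615, 25743), (24616, 24126), (24617, 23902), (24618, 23938), (24619, 23397), (24620, 25788), (24621, 23897), (24622, 25745), (24623, 25746), (24624, 24145), (24625, 23402), (24626, 25795), (24627, 25796), (24628, 23840), (24629, 24285), (24630, 25751), (24631, 25752), (24632, 25753),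 (24633, 25754), (24634, 24143), (24635, 25755), (24636, 25756), (24637, 25757), (24638, 25758), (24639, 25759)]
    ⟨e3 q24576 L763923 q23391, e3 q24577 L763929 q23392, e3 q24578 L763946 q23872, e3 q24579 L763958 q23399, e3 q24580 L763971 q23400, e3 q24581 L763989 q23869, e3 q24582 L764006 q23360, e3 q24583 (flp_i L775503) q25748, e3 q24584 L764026 q23405, e3 q24585 L764034 q23406, e3 q24586 L764042 q23407, e3 q24587 L764053 q23408, e3 q24588 L764075 q23409, e3 q24589 L764087 q23410, e3 q24590 L764095 q23411, e3 q24591 L764101 q23412, e3 q24592 L764109 q23413, e3 q24593 L764124 q23416, e3 q24594 L764137 q23418, e3 q24595 L764153 q23419, e3 q24596 L764168 q23420, e3 q24597 L764182 q23425, e3 q24598 L764198 q23426, e3 q24599 L764213 q23428, e3 q24600 (flp_i L764215) q23379, e3 q24601 (flp_i L775285) q25731, e3 q24602 (flp_i L775295) q25732, e3 q24603 (flp_i L775307) q25733, e3 q24604 L764275 q23880, e3 q24605 L764289 q23926, e3 q24606 (flp_i L775319) q25734, e3 q24607 (flp_i L775334) q25735, e3 q24608 (flp_i L775360) q25737,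 e3 q24609 (flp_i L775370) q25738, e3 q24610 (flp_i L775383) q25739, e3 q24611 L764359 q24312, e3 q24612 (flp_i L775397) q25740, e3 q24613 (flp_i L775407) q25741, e3 q24614 (flp_i L775419) q25742, e3 q24615 (flp_i L775427) q25743, e3 q24616 L764417 q24126, e3 q24617 L764429 q23902, e3 q24618 L764443 q23938, e3 q24619 L764463 q23397, e3 q24620 (flp_i L775981) q25788, e3 q24621 L764489 q23897, e3 q24622 (flp_i L775455) q25745, e3 q24623 (flp_i L775467) q25746, e3 q24624 L764519 q24145, e3 q24625 L764535 q23402, e3 q24626 (flp_i L776065) q25795, e3 q24627 (flp_i L776077) q25796, e3 q24628 L764579 q23840, e3 q24629 L764591 q24285, e3 q24630 (flp_i L775532) q25751, e3 q24631 (flp_i L775542) q25752, e3 q24632 (flp_i L775550) q25753, e3 q24633 (flp_i L775560) q25754, e3 q24634 L764641 q24143, e3 q24635 (flp_i L775578) q25755, e3 q24636 (flp_i L775592) q25756, e3 q24637 (flp_i L775606) q25757, e3 q24638 (flp_i L775616) q25758, e3 q24639 (flp_i L775624) q25759, trivial⟩ (by decide +kernel)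

theorem ce_i_385 : ∀ r, r < 64 → sm gi (Qf (24640 + r)) = Qf (tab Gen.i (24640 + r)) :=
  edges_tab (sm gi) Qf (tab Gen.i) 24640 [(24640, 25760), (24641, 24144), (24642, 25719), (24643, 24395), (24644, 25761), (24645, 23939), (24646, 25762), (24647, 25763), (24648, 23940), (24649, 25764), (24650, 24650), (24651, 24651), (24652, 24652), (24653, 24653), (24654, 24654), (24655, 24655), (24656, 25820), (24657, 23443), (24658, 25821), (24659, 23447), (24660, 23930), (24661, 24661), (24662, 23562), (24663, 24191), (24664, 23480), (24665, 23481), (24666, 23482), (24667, 23483), (24668, 23484), (24669, 23485), (24670, 23530), (24671, 25825), (24672, 25826), (24673, 25827), (24674, 25828), (24675, 25829), (24676, 25830), (24677, 23488), (24678, 23489), (24679, 23701), (24680, 23702), (24681, 23703), (24682, 23704), (24683, 23510), (24684, 23511), (24685, 23512), (24686, 24253), (24687, 23514), (24688, 23515), (24689, 23516), (24690, 23517), (24691, 23518), (24692, 23519), (24693, 23520), (24694, 23521), (24695, 23522), (24696, 24218),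 (24697, 25844), (24698, 25845), (24699, 25846), (24700, 24255), (24701, 25848), (24702, 25849), (24703, 25850)]
    ⟨e3 q24640 (flp_i L775632) q25760, e3 q24641 L764699 q24144, e3 q24642 (flp_i L775161) q25719, e3 q24643 L764727 q24395, e3 q24644 (flp_i L775647) q25761, e3 q24645 L764757 q23939, e3 q24646 (flp_i L775662) q25762, e3 q24647 (flp_i L775677) q25763, e3 q24648 L764797 q23940, e3 q24649 (flp_i L775689) q25764, e3 q24650 L764817 q24650, e3 q24651 L764834 q24651, e3 q24652 L764848 q24652, e3 q24653 L764865 q24653, e3 q24654 L764882 q24654, e3 q24655 L764897 q24655, e3 q24656 L776340 q25820, e3 q24657 L764920 q23443, e3 q24658 (flp_i L776364) q25821, e3 q24659 L764948 q23447, e3 q24660 L764962 q23930, e3 q24661 L764978 q24661, e3 q24662 L764999 q23562, e3 q24663 L765011 q24191, e3 q24664 L765033 q23480, e3 q24665 L765051 q23481, e3 q24666 L765065 q23482, e3 q24667 L765086 q23483, e3 q24668 L765096 q23484, e3 q24669 L765114 q23485, e3 q24670 L765135 q23530, e3 q24671 (flp_i L776432) q25825, e3 q24672 (flp_i L776450)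 q25826, e3 q24673 (flp_i L776465) q25827, e3 q24674 (flp_i L776481) q25828, e3 q24675 (flp_i L776495) q25829, e3 q24676 (flp_i L776510) q25830, e3 q24677 (flp_i L765217) q23488, e3 q24678 (flp_i L765234) q23489, e3 q24679 L765261 q23701, e3 q24680 L765270 q23702, e3 q24681 L765286 q23703, e3 q24682 L765296 q23704, e3 q24683 L765310 q23510, e3 q24684 L765330 q23511, e3 q24685 L765344 q23512, e3 q24686 L765360 q24253, e3 q24687 L765366 q23514, e3 q24688 L765375 q23515, e3 q24689 L765393 q23516, e3 q24690 L765399 q23517, e3 q24691 L765407 q23518, e3 q24692 L765422 q23519, e3 q24693 L765438 q23520, e3 q24694 L765454 q23521, e3 q24695 L765463 q23522, e3 q24696 L765477 q24218, e3 q24697 (flp_i L776701) q25844, e3 q24698 (flp_i L776715) q25845, e3 q24699 (flp_i L776732) q25846, e3 q24700 L765525 q24255, e3 q24701 (flp_i L776754) q25848, e3 q24702 (flp_i L776762) q25849, e3 q24703 (flp_i L776777) q25850, trivial⟩ (by decide +kernel)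

theorem ce_i_386 : ∀ r, r < 64 → sm gi (Qf (24704 + r)) = Qf (tab Gen.i (24704 + r)) :=
  edges_tab (sm gi) Qf (tab Gen.i) 24704 [(24704, 25851), (24705, 25852), (24706, 25853), (24707, 25854), (24708, 25855), (24709, 25856), (24710, 24272), (24711, 23537), (24712, 25831), (24713, 23531), (24714, 23565), (24715, 24246), (24716, 24215), (24717, 24216), (24718, 25872), (24719, 23746), (24720, 23540), (24721, 23541), (24722, 23748), (24723, 23749), (24724, 23750), (24725, 23751), (24726, 23563), (24727, 23566), (24728, 23568), (24729, 23569), (24730, 25715), (24731, 23570), (24732, 23571), (24733, 23572), (24734, 23573), (24735, 23574), (24736, 23580), (24737, 23581), (24738, 23582), (24739, 25823), (24740, 25887), (24741, 23634), (24742, 25875), (24743, 25888), (24744, 25889), (24745, 23669), (24746, 25890), (24747, 25892), (24748, 25893), (24749, 25894), (24750, 25895), (24751, 25896), (24752, 25897), (24753, 25898), (24754, 23667), (24755, 24182), (24756, 24231), (24757, 23670), (24758, 25899), (24759, 24759), (24760, 24760),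 (24761, 24761), (24762, 23588), (24763, 23589), (24764, 23807), (24765, 23808), (24766, 23810), (24767, 23811)]
    ⟨e3 q24704 (flp_i L776795) q25851, e3 q24705 (flp_i L776803) q25852, e3 q24706 (flp_i L776807) q25853, e3 q24707 (flp_i L776819) q25854, e3 q24708 (flp_i L776834) q25855, e3 q24709 (flp_i L776851) q25856, e3 q24710 L765635 q24272, e3 q24711 L765647 q23537, e3 q24712 (flp_i L776526) q25831, e3 q24713 (flp_i L765665) q23531, e3 q24714 L765698 q23565, e3 q24715 L765713 q24246, e3 q24716 L765721 q24215, e3 q24717 L765730 q24216, e3 q24718 (flp_i L777035) q25872, e3 q24719 L765752 q23746, e3 q24720 (flp_i L765754) q23540, e3 q24721 (flp_i L765771) q23541, e3 q24722 L765802 q23748, e3 q24723 L765815 q23749, e3 q24724 L765831 q23750, e3 q24725 L765841 q23751, e3 q24726 L765863 q23563, e3 q24727 L765871 q23566, e3 q24728 L765889 q23568, e3 q24729 L765903 q23569, e3 q24730 (flp_i L775106) q25715, e3 q24731 L765935 q23570, e3 q24732 L765943 q23571, e3 q24733 L765952 q23572, e3 q24734 L765960 q23573, e3 q24735 L765968 q23574,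 e3 q24736 L765983 q23580, e3 q24737 L765998 q23581, e3 q24738 L766009 q23582, e3 q24739 (flp_i L776398) q25823, e3 q24740 (flp_i L777237) q25887, e3 q24741 L766043 q23634, e3 q24742 (flp_i L777078) q25875, e3 q24743 (flp_i L777247) q25888, e3 q24744 (flp_i L777261) q25889, e3 q24745 L766085 q23669, e3 q24746 (flp_i L777276) q25890, e3 q24747 (flp_i L777304) q25892, e3 q24748 (flp_i L777316) q25893, e3 q24749 (flp_i L777326) q25894, e3 q24750 (flp_i L777341) q25895, e3 q24751 (flp_i L777353) q25896, e3 q24752 (flp_i L777359) q25897, e3 q24753 (flp_i L777367) q25898, e3 q24754 L766171 q23667, e3 q24755 L766186 q24182, e3 q24756 L766199 q24231, e3 q24757 L766214 q23670, e3 q24758 (flp_i L777382) q25899, e3 q24759 L766242 q24759, e3 q24760 L766258 q24760, e3 q24761 L766273 q24761, e3 q24762 (flp_i L766278) q23588, e3 q24763 (flp_i L766295) q23589, e3 q24764 L766324 q23807, e3 q24765 L766335 q23808, e3 q24766 L766347 q23810, e3 q24767 L766357 q23811, trivial⟩ (by decide +kernel)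

theorem ce_i_387 : ∀ r, r < 64 → sm gi (Qf (24768 + r)) = Qf (tab Gen.i (24768 + r)) :=
  edges_tab (sm gi) Qf (tab Gen.i) 24768 [(24768, 23816), (24769, 23817), (24770, 23596), (24771, 25929), (24772, 23822), (24773, 23823), (24774, 23824), (24775, 23826), (24776, 23827), (24777, 23629), (24778, 23604), (24779, 25939), (24780, 23635), (24781, 23636), (24782, 23637), (24783, 23638), (24784, 25839), (24785, 23645), (24786, 23646), (24787, 23614), (24788, 25950), (24789, 23652), (24790, 23653), (24791, 23654), (24792, 23655), (24793, 23657), (24794, 23658), (24795, 23659), (24796, 23660), (24797, 23662), (24798, 23665), (24799, 23668), (24800, 23671), (24801, 23672), (24802, 25588), (24803, 25938), (24804, 23630), (24805, 25967), (24806, 23633), (24807, 25969), (24808, 25902), (24809, 25941), (24810, 25942), (24811, 25943), (24812, 25944), (24813, 25945), (24814, 25675), (24815, 24174), (24816, 25838), (24817, 23643), (24818, 25982), (24819, 24157), (24820, 25947), (24821, 25948), (24822, 25949), (24823, 23648), (24824, 25990),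 (24825, 23650), (24826, 25993), (24827, 25994), (24828, 25570), (24829, 25953), (24830, 25954), (24831, 25955)]
    ⟨e3 q24768 L766371 q23816, e3 q24769 L766380 q23817, e3 q24770 (flp_i L766383) q23596, e3 q24771 (flp_i L777717) q25929, e3 q24772 L766416 q23822, e3 q24773 L766422 q23823, e3 q24774 L766429 q23824, e3 q24775 L766439 q23826, e3 q24776 L766449 q23827, e3 q24777 L766459 q23629, e3 q24778 (flp_i L766465) q23604, e3 q24779 (flp_i L777813) q25939, e3 q24780 L766501 q23635, e3 q24781 L766510 q23636, e3 q24782 L766520 q23637, e3 q24783 L766526 q23638, e3 q24784 (flp_i L776646) q25839, e3 q24785 L766555 q23645, e3 q24786 L766570 q23646, e3 q24787 L766577 q23614, e3 q24788 (flp_i L777934) q25950, e3 q24789 L766591 q23652, e3 q24790 L766597 q23653, e3 q24791 L766605 q23654, e3 q24792 L766612 q23655, e3 q24793 L766624 q23657, e3 q24794 L766632 q23658, e3 q24795 L766636 q23659, e3 q24796 L766644 q23660, e3 q24797 L766653 q23662, e3 q24798 L766668 q23665, e3 q24799 L766682 q23668, e3 q24800 L766691 q23671, e3 q24801 L766700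 q23672, e3 q24802 (flp_i L773343) q25588, e3 q24803 (flp_i L777796) q25938, e3 q24804 (flp_i L766718) q23630, e3 q24805 (flp_i L778086) q25967, e3 q24806 L766760 q23633, e3 q24807 (flp_i L778108) q25969, e3 q24808 (flp_i L777416) q25902, e3 q24809 (flp_i L777833) q25941, e3 q24810 (flp_i L777843) q25942, e3 q24811 (flp_i L777853) q25943, e3 q24812 (flp_i L777861) q25944, e3 q24813 (flp_i L777869) q25945, e3 q24814 (flp_i L774534) q25675, e3 q24815 L766842 q24174, e3 q24816 (flp_i L776629) q25838, e3 q24817 L766869 q23643, e3 q24818 (flp_i L778230) q25982, e3 q24819 L766891 q24157, e3 q24820 (flp_i L777895) q25947, e3 q24821 (flp_i L777909) q25948, e3 q24822 (flp_i L777924) q25949, e3 q24823 L766932 q23648, e3 q24824 (flp_i L778312) q25990, e3 q24825 L766944 q23650, e3 q24826 (flp_i L778331) q25993, e3 q24827 (flp_i L778339) q25994, e3 q24828 (flp_i L773060) q25570, e3 q24829 (flp_i L777955) q25953, e3 q24830 (flp_i L777967) q25954, e3 q24831 (flp_i L777977) q25955, trivial⟩ (by decide +kernel)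

theorem ce_i_388 : ∀ r, r < 64 → sm gi (Qf (24832 + r)) = Qf (tab Gen.i (24832 + r)) :=
  edges_tab (sm gi) Qf (tab Gen.i) 24832 [(24832, 25956), (24833, 25957), (24834, 25918), (24835, 25572), (24836, 25958), (24837, 25959), (24838, 25960), (24839, 25961), (24840, 25962), (24841, 25594), (24842, 24158), (24843, 24160), (24844, 24195), (24845, 25908), (24846, 25907), (24847, 25963), (24848, 24848), (24849, 24849), (24850, 26019), (24851, 23677), (24852, 26020), (24853, 25676), (24854, 23682), (24855, 26021), (24856, 23685), (24857, 23686), (24858, 26022), (24859, 26023), (24860, 24860), (24861, 24252), (24862, 24004), (24863, 24005), (24864, 24263), (24865, 24247), (24866, 24256), (24867, 24266), (24868, 24267), (24869, 24268), (24870, 25677), (24871, 25678), (24872, 25840), (24873, 25841), (24874, 25842), (24875, 25843), (24876, 23714), (24877, 23715), (24878, 23717), (24879, 23718), (24880, 23725), (24881, 23726), (24882, 23727), (24883, 23728), (24884, 24238), (24885, 26043), (24886, 26044), (24887, 24239), (24888, 26045),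 (24889, 26046), (24890, 26047), (24891, 24040), (24892, 24258), (24893, 24011), (24894, 24240), (24895, 25679)]
    ⟨e3 q24832 (flp_i L777985) q25956, e3 q24833 (flp_i L777991) q25957, e3 q24834 (flp_i L777580) q25918, e3 q24835 (flp_i L773094) q25572, e3 q24836 (flp_i L778001) q25958, e3 q24837 (flp_i L778013) q25959, e3 q24838 (flp_i L778023) q25960, e3 q24839 (flp_i L778029) q25961, e3 q24840 (flp_i L778035) q25962, e3 q24841 (flp_i L773425) q25594, e3 q24842 L767070 q24158, e3 q24843 L767085 q24160, e3 q24844 L767096 q24195, e3 q24845 (flp_i L777484) q25908, e3 q24846 (flp_i L777468) q25907, e3 q24847 (flp_i L778039) q25963, e3 q24848 L767122 q24848, e3 q24849 L767136 q24849, e3 q24850 L778536 q26019, e3 q24851 L767154 q23677, e3 q24852 (flp_i L778555) q26020, e3 q24853 (flp_i L774547) q25676, e3 q24854 L767189 q23682, e3 q24855 (flp_i L778568) q26021, e3 q24856 L767214 q23685, e3 q24857 L767225 q23686, e3 q24858 (flp_i L778581) q26022, e3 q24859 (flp_i L778586) q26023, e3 q24860 L767256 q24860, e3 q24861 L767266 q24252,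 e3 q24862 L767280 q24004, e3 q24863 L767295 q24005, e3 q24864 L767307 q24263, e3 q24865 L767317 q24247, e3 q24866 L767329 q24256, e3 q24867 L767339 q24266, e3 q24868 L767347 q24267, e3 q24869 L767361 q24268, e3 q24870 (flp_i L774567) q25677, e3 q24871 (flp_i L774579) q25678, e3 q24872 (flp_i L776654) q25840, e3 q24873 (flp_i L776665) q25841, e3 q24874 (flp_i L776677) q25842, e3 q24875 (flp_i L776691) q25843, e3 q24876 L767433 q23714, e3 q24877 L767443 q23715, e3 q24878 L767455 q23717, e3 q24879 L767465 q23718, e3 q24880 L767475 q23725, e3 q24881 L767483 q23726, e3 q24882 L767497 q23727, e3 q24883 L767508 q23728, e3 q24884 L767522 q24238, e3 q24885 (flp_i L778804) q26043, e3 q24886 (flp_i L778818) q26044, e3 q24887 L767558 q24239, e3 q24888 (flp_i L778830) q26045, e3 q24889 (flp_i L778840) q26046, e3 q24890 (flp_i L778854) q26047, e3 q24891 L767598 q24040, e3 q24892 L767614 q24258, e3 q24893 L767628 q24011, e3 q24894 L767640 q24240, e3 q24895 (flp_i L774595) q25679, trivial⟩ (by decide +kernel)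

theorem ce_i_389 : ∀ r, r < 64 → sm gi (Qf (24896 + r)) = Qf (tab Gen.i (24896 + r)) :=
  edges_tab (sm gi) Qf (tab Gen.i) 24896 [(24896, 25683), (24897, 25684), (24898, 26048), (24899, 26049), (24900, 26050), (24901, 25680), (24902, 24129), (24903, 24903), (24904, 26071), (24905, 23740), (24906, 23744), (24907, 24254), (24908, 24217), (24909, 24235), (24910, 26072), (24911, 24249), (24912, 25685), (24913, 25686), (24914, 26073), (24915, 25874), (24916, 25880), (24917, 25882), (24918, 25883), (24919, 25884), (24920, 25885), (24921, 25886), (24922, 23766), (24923, 23767), (24924, 23773), (24925, 23774), (24926, 23775), (24927, 23785), (24928, 23786), (24929, 23787), (24930, 23791), (24931, 23792), (24932, 23793), (24933, 23796), (24934, 23899), (24935, 23900), (24936, 26092), (24937, 26093), (24938, 24313), (24939, 24314), (24940, 24351), (24941, 24350), (24942, 24349), (24943, 26094), (24944, 26095), (24945, 26096), (24946, 26097), (24947, 24084), (24948, 24308), (24949, 24345), (24950, 23780), (24951, 26124), (24952, 23782),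 (24953, 26127), (24954, 24377), (24955, 24374), (24956, 24376), (24957, 26098), (24958, 26099), (24959, 26100)]
    ⟨e3 q24896 (flp_i L774650) q25683, e3 q24897 (flp_i L774662) q25684, e3 q24898 (flp_i L778862) q26048, e3 q24899 (flp_i L778870) q26049, e3 q24900 (flp_i L778884) q26050, e3 q24901 (flp_i L774610) q25680, e3 q24902 L767700 q24129, e3 q24903 L767712 q24903, e3 q24904 L779099 q26071, e3 q24905 L767732 q23740, e3 q24906 L767744 q23744, e3 q24907 L767754 q24254, e3 q24908 L767762 q24217, e3 q24909 L767771 q24235, e3 q24910 (flp_i L779124) q26072, e3 q24911 L767783 q24249, e3 q24912 (flp_i L774680) q25685, e3 q24913 (flp_i L774696) q25686, e3 q24914 (flp_i L779134) q26073, e3 q24915 (flp_i L777064) q25874, e3 q24916 (flp_i L777132) q25880, e3 q24917 (flp_i L777170) q25882, e3 q24918 (flp_i L777182) q25883, e3 q24919 (flp_i L777197) q25884, e3 q24920 (flp_i L777209) q25885, e3 q24921 (flp_i L777223) q25886, e3 q24922 L767902 q23766, e3 q24923 L767914 q23767, e3 q24924 L767930 q23773, e3 q24925 L767940 q23774, e3 q24926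 L767950 q23775, e3 q24927 L767960 q23785, e3 q24928 L767968 q23786, e3 q24929 L767982 q23787, e3 q24930 L767991 q23791, e3 q24931 L768003 q23792, e3 q24932 L768014 q23793, e3 q24933 L768025 q23796, e3 q24934 L768042 q23899, e3 q24935 L768054 q23900, e3 q24936 (flp_i L779321) q26092, e3 q24937 (flp_i L779337) q26093, e3 q24938 L768085 q24313, e3 q24939 L768095 q24314, e3 q24940 L768113 q24351, e3 q24941 L768125 q24350, e3 q24942 L768135 q24349, e3 q24943 (flp_i L779347) q26094, e3 q24944 (flp_i L779357) q26095, e3 q24945 (flp_i L779367) q26096, e3 q24946 (flp_i L779381) q26097, e3 q24947 L768179 q24084, e3 q24948 L768189 q24308, e3 q24949 L768203 q24345, e3 q24950 L768216 q23780, e3 q24951 (flp_i L779662) q26124, e3 q24952 L768236 q23782, e3 q24953 (flp_i L779695) q26127, e3 q24954 L768258 q24377, e3 q24955 L768266 q24374, e3 q24956 L768280 q24376, e3 q24957 (flp_i L779389) q26098, e3 q24958 (flp_i L779397) q26099, e3 q24959 (flp_i L779409) q26100, trivial⟩ (by decide +kernel)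

theorem ce_i_390 : ∀ r, r < 64 → sm gi (Qf (24960 + r)) = Qf (tab Gen.i (24960 + r)) :=
  edges_tab (sm gi) Qf (tab Gen.i) 24960 [(24960, 24384), (24961, 24044), (24962, 24383), (24963, 26101), (24964, 26102), (24965, 26103), (24966, 24039), (24967, 26104), (24968, 24968), (24969, 24969), (24970, 26144), (24971, 24388), (24972, 24133), (24973, 25718), (24974, 25922), (24975, 25923), (24976, 25765), (24977, 25924), (24978, 25925), (24979, 25709), (24980, 25710), (24981, 23913), (24982, 25601), (24983, 25926), (24984, 25927), (24985, 25928), (24986, 24292), (24987, 23820), (24988, 26163), (24989, 24093), (24990, 25931), (24991, 25932), (24992, 25933), (24993, 25934), (24994, 24096), (24995, 25935), (24996, 25936), (24997, 25937), (24998, 23873), (24999, 23875), (25000, 23876), (25001, 23877), (25002, 23881), (25003, 23888), (25004, 23889), (25005, 23890), (25006, 23892), (25007, 23893), (25008, 23894), (25009, 23895), (25010, 23896), (25011, 25800), (25012, 23903), (25013, 23843), (25014, 26194), (25015, 23845), (25016, 26196),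 (25017, 23914), (25018, 23915), (25019, 23916), (25020, 23917), (25021, 23920), (25022, 23921), (25023, 23922)]
    ⟨e3 q24960 L768307 q24384, e3 q24961 L768319 q24044, e3 q24962 L768332 q24383, e3 q24963 (flp_i L779421) q26101, e3 q24964 (flp_i L779432) q26102, e3 q24965 (flp_i L779443) q26103, e3 q24966 L768372 q24039, e3 q24967 (flp_i L779453) q26104, e3 q24968 L768388 q24968, e3 q24969 L768395 q24969, e3 q24970 L779846 q26144, e3 q24971 L768413 q24388, e3 q24972 L768428 q24133, e3 q24973 (flp_i L775148) q25718, e3 q24974 (flp_i L777641) q25922, e3 q24975 (flp_i L777651) q25923, e3 q24976 (flp_i L775708) q25765, e3 q24977 (flp_i L777661) q25924, e3 q24978 (flp_i L777673) q25925, e3 q24979 (flp_i L775018) q25709, e3 q24980 (flp_i L775031) q25710, e3 q24981 L768533 q23913, e3 q24982 (flp_i L773535) q25601, e3 q24983 (flp_i L777681) q25926, e3 q24984 (flp_i L777689) q25927, e3 q24985 (flp_i L777700) q25928, e3 q24986 L768579 q24292, e3 q24987 L768597 q23820, e3 q24988 (flp_i L780047) q26163, e3 q24989 L768618 q24093, e3 q24990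 (flp_i L777731) q25931, e3 q24991 (flp_i L777737) q25932, e3 q24992 (flp_i L777745) q25933, e3 q24993 (flp_i L777752) q25934, e3 q24994 L768649 q24096, e3 q24995 (flp_i L777763) q25935, e3 q24996 (flp_i L777773) q25936, e3 q24997 (flp_i L777782) q25937, e3 q24998 L768678 q23873, e3 q24999 L768693 q23875, e3 q25000 L768701 q23876, e3 q25001 L768709 q23877, e3 q25002 L768719 q23881, e3 q25003 L768741 q23888, e3 q25004 L768751 q23889, e3 q25005 L768765 q23890, e3 q25006 L768781 q23892, e3 q25007 L768787 q23893, e3 q25008 L768795 q23894, e3 q25009 L768801 q23895, e3 q25010 L768809 q23896, e3 q25011 (flp_i L776135) q25800, e3 q25012 L768831 q23903, e3 q25013 L768847 q23843, e3 q25014 (flp_i L780323) q26194, e3 q25015 L768867 q23845, e3 q25016 (flp_i L780349) q26196, e3 q25017 L768895 q23914, e3 q25018 L768903 q23915, e3 q25019 L768911 q23916, e3 q25020 L768925 q23917, e3 q25021 L768933 q23920, e3 q25022 L768941 q23921, e3 q25023 L768947 q23922, trivial⟩ (by decide +kernel)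

theorem ce_i_391 : ∀ r, r < 64 → sm gi (Qf (25024 + r)) = Qf (tab Gen.i (25024 + r)) :=
  edges_tab (sm gi) Qf (tab Gen.i) 25024 [(25024, 23923), (25025, 23924), (25026, 23925), (25027, 23928), (25028, 23931), (25029, 23932), (25030, 23933), (25031, 23934), (25032, 23935), (25033, 23943), (25034, 23944), (25035, 23945), (25036, 23947), (25037, 23948), (25038, 25747), (25039, 24282), (25040, 24080), (25041, 25744), (25042, 26177), (25043, 24279), (25044, 24120), (25045, 26178), (25046, 26179), (25047, 26180), (25048, 26181), (25049, 24286), (25050, 25770), (25051, 26182), (25052, 24113), (25053, 23884), (25054, 26238), (25055, 23886), (25056, 26241), (25057, 24294), (25058, 26183), (25059, 26184), (25060, 25799), (25061, 26185), (25062, 24283), (25063, 26186), (25064, 26187), (25065, 26188), (25066, 26189), (25067, 26190), (25068, 26191), (25069, 25791), (25070, 25921), (25071, 26105), (25072, 26106), (25073, 24112), (25074, 25786), (25075, 25787), (25076, 26193), (25077, 24287), (25078, 25602), (25079, 23907), (25080, 26269),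 (25081, 23909), (25082, 26272), (25083, 26273), (25084, 23911), (25085, 23912), (25086, 26277), (25087, 26278)]
    ⟨e3 q25024 L768955 q23923, e3 q25025 L768961 q23924, e3 q25026 L768967 q23925, e3 q25027 L768980 q23928, e3 q25028 L768995 q23931, e3 q25029 L769004 q23932, e3 q25030 L769013 q23933, e3 q25031 L769024 q23934, e3 q25032 L769035 q23935, e3 q25033 L769046 q23943, e3 q25034 L769057 q23944, e3 q25035 L769070 q23945, e3 q25036 L769083 q23947, e3 q25037 L769091 q23948, e3 q25038 (flp_i L775485) q25747, e3 q25039 L769117 q24282, e3 q25040 L769134 q24080, e3 q25041 (flp_i L775443) q25744, e3 q25042 (flp_i L780154) q26177, e3 q25043 L769162 q24279, e3 q25044 L769178 q24120, e3 q25045 (flp_i L780164) q26178, e3 q25046 (flp_i L780174) q26179, e3 q25047 (flp_i L780180) q26180, e3 q25048 (flp_i L780189) q26181, e3 q25049 L769216 q24286, e3 q25050 (flp_i L775759) q25770, e3 q25051 (flp_i L780201) q26182, e3 q25052 L769241 q24113, e3 q25053 L769256 q23884, e3 q25054 (flp_i L780758) q26238, e3 q25055 L769276 q23886, e3 q25056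 (flp_i L780787) q26241, e3 q25057 L769298 q24294, e3 q25058 (flp_i L780215) q26183, e3 q25059 (flp_i L780229) q26184, e3 q25060 (flp_i L776119) q25799, e3 q25061 (flp_i L780243) q26185, e3 q25062 L769332 q24283, e3 q25063 (flp_i L780253) q26186, e3 q25064 (flp_i L780259) q26187, e3 q25065 (flp_i L780265) q26188, e3 q25066 (flp_i L780275) q26189, e3 q25067 (flp_i L780283) q26190, e3 q25068 (flp_i L780289) q26191, e3 q25069 (flp_i L776023) q25791, e3 q25070 (flp_i L777624) q25921, e3 q25071 (flp_i L779467) q26105, e3 q25072 (flp_i L779481) q26106, e3 q25073 L769411 q24112, e3 q25074 (flp_i L775951) q25786, e3 q25075 (flp_i L775963) q25787, e3 q25076 (flp_i L780309) q26193, e3 q25077 L769437 q24287, e3 q25078 (flp_i L773552) q25602, e3 q25079 L769457 q23907, e3 q25080 (flp_i L780994) q26269, e3 q25081 L769471 q23909, e3 q25082 (flp_i L781015) q26272, e3 q25083 (flp_i L781019) q26273, e3 q25084 L769488 q23911, e3 q25085 L769500 q23912, e3 q25086 (flp_i L781049) q26277, e3 q25087 (flp_i L781061) q26278, trivial⟩ (by decide +kernel)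

theorem ce_i_392 : ∀ r, r < 64 → sm gi (Qf (25088 + r)) = Qf (tab Gen.i (25088 + r)) :=
  edges_tab (sm gi) Qf (tab Gen.i) 25088 [(25088, 25736), (25089, 26156), (25090, 26198), (25091, 25818), (25092, 26199), (25093, 26200), (25094, 24007), (25095, 26201), (25096, 24290), (25097, 24006), (25098, 26202), (25099, 26203), (25100, 26204), (25101, 26205), (25102, 26206), (25103, 26207), (25104, 26208), (25105, 25771), (25106, 24390), (25107, 24141), (25108, 25822), (25109, 24108), (25110, 26209), (25111, 26210), (25112, 26211), (25113, 26212), (25114, 26213), (25115, 25654), (25116, 26214), (25117, 26215), (25118, 25816), (25119, 25650), (25120, 24132), (25121, 26216), (25122, 26217), (25123, 25661), (25124, 26218), (25125, 26320), (25126, 24296), (25127, 25127), (25128, 25128), (25129, 25129), (25130, 25130), (25131, 25131), (25132, 25132), (25133, 25133), (25134, 26327), (25135, 25135), (25136, 26328), (25137, 25137), (25138, 25138), (25139, 26304), (25140, 23963), (25141, 23966), (25142, 26332), (25143, 25711), (25144, 25144),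 (25145, 25145), (25146, 25146), (25147, 25147), (25148, 23976), (25149, 26336), (25150, 24169), (25151, 24192)]
    ⟨e3 q25088 (flp_i L775348) q25736, e3 q25089 (flp_i L779980) q26156, e3 q25090 (flp_i L780369) q26198, e3 q25091 (flp_i L776326) q25818, e3 q25092 (flp_i L780379) q26199, e3 q25093 (flp_i L780387) q26200, e3 q25094 L769566 q24007, e3 q25095 (flp_i L780401) q26201, e3 q25096 L769582 q24290, e3 q25097 L769594 q24006, e3 q25098 (flp_i L780411) q26202, e3 q25099 (flp_i L780417) q26203, e3 q25100 (flp_i L780429) q26204, e3 q25101 (flp_i L780437) q26205, e3 q25102 (flp_i L780443) q26206, e3 q25103 (flp_i L780449) q26207, e3 q25104 (flp_i L780455) q26208, e3 q25105 (flp_i L775777) q25771, e3 q25106 L769652 q24390, e3 q25107 L769661 q24141, e3 q25108 (flp_i L776380) q25822, e3 q25109 L769677 q24108, e3 q25110 (flp_i L780469) q26209, e3 q25111 (flp_i L780484) q26210, e3 q25112 (flp_i L780496) q26211, e3 q25113 (flp_i L780507) q26212, e3 q25114 (flp_i L780512) q26213, e3 q25115 (flp_i L774227) q25654, e3 q25116 (flp_i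 L780524) q26214, e3 q25117 (flp_i L780534) q26215, e3 q25118 (flp_i L776302) q25816, e3 q25119 (flp_i L774184) q25650, e3 q25120 L769768 q24132, e3 q25121 (flp_i L780547) q26216, e3 q25122 (flp_i L780559) q26217, e3 q25123 (flp_i L774322) q25661, e3 q25124 (flp_i L780571) q26218, e3 q25125 L781400 q26320, e3 q25126 L769825 q24296, e3 q25127 L769837 q25127, e3 q25128 L769848 q25128, e3 q25129 L769861 q25129, e3 q25130 L769866 q25130, e3 q25131 L769872 q25131, e3 q25132 L769886 q25132, e3 q25133 L769897 q25133, e3 q25134 L781471 q26327, e3 q25135 L769916 q25135, e3 q25136 L781479 q26328, e3 q25137 L769939 q25137, e3 q25138 L769948 q25138, e3 q25139 (flp_i L781256) q26304, e3 q25140 (flp_i L769956) q23963, e3 q25141 L769972 q23966, e3 q25142 (flp_i L781529) q26332, e3 q25143 (flp_i L775049) q25711, e3 q25144 L770006 q25144, e3 q25145 L770020 q25145, e3 q25146 L770029 q25146, e3 q25147 L770036 q25147, e3 q25148 L770050 q23976, e3 q25149 (flp_i L781578) q26336, e3 q25150 L770074 q24169, e3 q25151 L770088 q24192, trivial⟩ (by decide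 +kernel)

theorem ce_i_393 : ∀ r, r < 64 → sm gi (Qf (25152 + r)) = Qf (tab Gen.i (25152 + r)) :=
  edges_tab (sm gi) Qf (tab Gen.i) 25152 [(25152, 25587), (25153, 23993), (25154, 24232), (25155, 24226), (25156, 24233), (25157, 24210), (25158, 25579), (25159, 25688), (25160, 25689), (25161, 24206), (25162, 24212), (25163, 24213), (25164, 25580), (25165, 24209), (25166, 24214), (25167, 26341), (25168, 24211), (25169, 24207), (25170, 24027), (25171, 24028), (25172, 24030), (25173, 24002), (25174, 24008), (25175, 26361), (25176, 24127), (25177, 26027), (25178, 26028), (25179, 26293), (25180, 26291), (25181, 26362), (25182, 24241), (25183, 26061), (25184, 25723), (25185, 24037), (25186, 24038), (25187, 24041), (25188, 25599), (25189, 25600), (25190, 25603), (25191, 25604), (25192, 25605), (25193, 25606), (25194, 25628), (25195, 25655), (25196, 25712), (25197, 25713), (25198, 24274), (25199, 26358), (25200, 26359), (25201, 26137), (25202, 24276), (25203, 26360), (25204, 25720), (25205, 25645), (25206, 25646), (25207, 25662), (25208,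 25724), (25209, 25725), (25210, 25726), (25211, 25638), (25212, 25639), (25213, 26373), (25214, 26374), (25215, 26141)]
    ⟨e3 q25152 (flp_i L773327) q25587, e3 q25153 L770104 q23993, e3 q25154 L770116 q24232, e3 q25155 L770124 q24226, e3 q25156 L770136 q24233, e3 q25157 L770148 q24210, e3 q25158 (flp_i L773200) q25579, e3 q25159 (flp_i L774722) q25688, e3 q25160 (flp_i L774736) q25689, e3 q25161 L770196 q24206, e3 q25162 L770206 q24212, e3 q25163 L770214 q24213, e3 q25164 (flp_i L773218) q25580, e3 q25165 L770228 q24209, e3 q25166 L770238 q24214, e3 q25167 (flp_i L781640) q26341, e3 q25168 L770255 q24211, e3 q25169 L770264 q24207, e3 q25170 L770274 q24027, e3 q25171 L770285 q24028, e3 q25172 L770299 q24030, e3 q25173 L770313 q24002, e3 q25174 L770321 q24008, e3 q25175 (flp_i L781871) q26361, e3 q25176 L770345 q24127, e3 q25177 (flp_i L778634) q26027, e3 q25178 (flp_i L778648) q26028, e3 q25179 (flp_i L781181) q26293, e3 q25180 (flp_i L781159) q26291, e3 q25181 (flp_i L781883) q26362, e3 q25182 L770395 q24241, e3 q25183 (flp_i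 L779015) q26061, e3 q25184 (flp_i L775197) q25723, e3 q25185 L770415 q24037, e3 q25186 L770423 q24038, e3 q25187 L770431 q24041, e3 q25188 (flp_i L773504) q25599, e3 q25189 (flp_i L773517) q25600, e3 q25190 (flp_i L773562) q25603, e3 q25191 (flp_i L773575) q25604, e3 q25192 (flp_i L773587) q25605, e3 q25193 (flp_i L773601) q25606, e3 q25194 (flp_i L773909) q25628, e3 q25195 (flp_i L774242) q25655, e3 q25196 (flp_i L775066) q25712, e3 q25197 (flp_i L775076) q25713, e3 q25198 L770537 q24274, e3 q25199 (flp_i L781833) q26358, e3 q25200 (flp_i L781843) q26359, e3 q25201 (flp_i L779783) q26137, e3 q25202 L770579 q24276, e3 q25203 (flp_i L781857) q26360, e3 q25204 (flp_i L775170) q25720, e3 q25205 (flp_i L774132) q25645, e3 q25206 (flp_i L774144) q25646, e3 q25207 (flp_i L774335) q25662, e3 q25208 (flp_i L775209) q25724, e3 q25209 (flp_i L775217) q25725, e3 q25210 (flp_i L775227) q25726, e3 q25211 (flp_i L774039) q25638, e3 q25212 (flp_i L774053) q25639, e3 q25213 (flp_i L781978) q26373, e3 q25214 (flp_i L781986) q26374, e3 q25215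 (flp_i L779820) q26141, trivial⟩ (by decide +kernel)

theorem ce_i_394 : ∀ r, r < 64 → sm gi (Qf (25216 + r)) = Qf (tab Gen.i (25216 + r)) :=
  edges_tab (sm gi) Qf (tab Gen.i) 25216 [(25216, 26059), (25217, 26375), (25218, 25656), (25219, 24275), (25220, 26135), (25221, 25221), (25222, 25222), (25223, 25223), (25224, 25714), (25225, 25225), (25226, 25226), (25227, 25721), (25228, 25722), (25229, 25229), (25230, 25230), (25231, 25727), (25232, 24343), (25233, 24381), (25234, 24382), (25235, 25691), (25236, 24346), (25237, 24347), (25238, 24354), (25239, 25608), (25240, 24094), (25241, 24095), (25242, 24097), (25243, 25881), (25244, 24099), (25245, 24100), (25246, 24076), (25247, 26434), (25248, 24106), (25249, 24107), (25250, 24110), (25251, 26222), (25252, 24117), (25253, 24118), (25254, 24119), (25255, 26121), (25256, 24086), (25257, 26446), (25258, 26447), (25259, 24128), (25260, 24130), (25261, 24131), (25262, 24134), (25263, 24135), (25264, 24136), (25265, 26165), (25266, 26427), (25267, 26428), (25268, 26429), (25269,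 26172), (25270, 26173), (25271, 26430), (25272, 24295), (25273, 26432), (25274, 26433), (25275, 24102), (25276, 26467), (25277, 24104), (25278, 26470), (25279, 26471)]
    ⟨e3 q25216 (flp_i L778983) q26059, e3 q25217 (flp_i L781994) q26375, e3 q25218 (flp_i L774257) q25656, e3 q25219 L770716 q24275, e3 q25220 (flp_i L779759) q26135, e3 q25221 L770737 q25221, e3 q25222 L770750 q25222, e3 q25223 L770762 q25223, e3 q25224 (flp_i L775089) q25714, e3 q25225 L770787 q25225, e3 q25226 L770797 q25226, e3 q25227 (flp_i L775178) q25721, e3 q25228 (flp_i L775189) q25722, e3 q25229 L770819 q25229, e3 q25230 L770826 q25230, e3 q25231 (flp_i L775236) q25727, e3 q25232 L770845 q24343, e3 q25233 L770854 q24381, e3 q25234 L770865 q24382, e3 q25235 (flp_i L774766) q25691, e3 q25236 L770883 q24346, e3 q25237 L770891 q24347, e3 q25238 L770903 q24354, e3 q25239 (flp_i L773636) q25608, e3 q25240 L770918 q24094, e3 q25241 L770927 q24095, e3 q25242 L770935 q24097, e3 q25243 (flp_i L777153) q25881, e3 q25244 L770954 q24099, e3 q25245 L770965 q24100,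 e3 q25246 L770976 q24076, e3 q25247 (flp_i L782537) q26434, e3 q25248 L770992 q24106, e3 q25249 L771000 q24107, e3 q25250 L771012 q24110, e3 q25251 (flp_i L780614) q26222, e3 q25252 L771034 q24117, e3 q25253 L771038 q24118, e3 q25254 L771046 q24119, e3 q25255 (flp_i L779624) q26121, e3 q25256 L771060 q24086, e3 q25257 (flp_i L782641) q26446, e3 q25258 (flp_i L782647) q26447, e3 q25259 L771079 q24128, e3 q25260 L771087 q24130, e3 q25261 L771093 q24131, e3 q25262 L771103 q24134, e3 q25263 L771113 q24135, e3 q25264 L771121 q24136, e3 q25265 (flp_i L780067) q26165, e3 q25266 (flp_i L782471) q26427, e3 q25267 (flp_i L782479) q26428, e3 q25268 (flp_i L782488) q26429, e3 q25269 (flp_i L780111) q26172, e3 q25270 (flp_i L780121) q26173, e3 q25271 (flp_i L782497) q26430, e3 q25272 L771169 q24295, e3 q25273 (flp_i L782517) q26432, e3 q25274 (flp_i L782527) q26433, e3 q25275 L771194 q24102, e3 q25276 (flp_i L782789) q26467, e3 q25277 L771208 q24104, e3 q25278 (flp_i L782814) q26470, e3 q25279 (flp_i L782820) q26471, trivial⟩ (by decide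 +kernel)

theorem ce_i_395 : ∀ r, r < 64 → sm gi (Qf (25280 + r)) = Qf (tab Gen.i (25280 + r)) :=
  edges_tab (sm gi) Qf (tab Gen.i) 25280 [(25280, 24300), (25281, 24301), (25282, 26437), (25283, 26438), (25284, 26305), (25285, 26303), (25286, 24302), (25287, 26439), (25288, 24358), (25289, 26263), (25290, 26237), (25291, 24115), (25292, 26487), (25293, 26488), (25294, 24356), (25295, 26442), (25296, 25806), (25297, 26443), (25298, 26444), (25299, 26227), (25300, 24122), (25301, 26498), (25302, 26499), (25303, 24124), (25304, 24125), (25305, 26502), (25306, 26503), (25307, 26504), (25308, 25785), (25309, 26364), (25310, 25794), (25311, 26450), (25312, 26069), (25313, 26451), (25314, 26452), (25315, 26290), (25316, 26145), (25317, 26453), (25318, 26454), (25319, 24293), (25320, 24297), (25321, 24385), (25322, 25774), (25323, 24148), (25324, 26519), (25325, 25325), (25326, 24152), (25327, 24154), (25328, 24159), (25329, 24178), (25330, 25985), (25331, 25986), (25332, 26013), (25333, 26521), (25334, 24164), (25335, 26527), (25336,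 24175), (25337, 24176), (25338, 24177), (25339, 24179), (25340, 26338), (25341, 24171), (25342, 26535), (25343, 24173)]
    ⟨e3 q25280 L771230 q24300, e3 q25281 L771238 q24301, e3 q25282 (flp_i L782566) q26437, e3 q25283 (flp_i L782574) q26438, e3 q25284 (flp_i L781267) q26305, e3 q25285 (flp_i L781249) q26303, e3 q25286 L771274 q24302, e3 q25287 (flp_i L782586) q26439, e3 q25288 L771294 q24358, e3 q25289 (flp_i L780946) q26263, e3 q25290 (flp_i L780742) q26237, e3 q25291 L771314 q24115, e3 q25292 (flp_i L782941) q26487, e3 q25293 (flp_i L782947) q26488, e3 q25294 L771338 q24356, e3 q25295 (flp_i L782609) q26442, e3 q25296 (flp_i L776199) q25806, e3 q25297 (flp_i L782617) q26443, e3 q25298 (flp_i L782625) q26444, e3 q25299 (flp_i L780667) q26227, e3 q25300 L771376 q24122, e3 q25301 (flp_i L783024) q26498, e3 q25302 (flp_i L783028) q26499, e3 q25303 L771391 q24124, e3 q25304 L771395 q24125, e3 q25305 (flp_i L783045) q26502, e3 q25306 (flp_i L783051) q26503, e3 q25307 (flp_i L783057) q26504, e3 q25308 (flp_i L775939) q25785,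 e3 q25309 (flp_i L781907) q26364, e3 q25310 (flp_i L776049) q25794, e3 q25311 (flp_i L782668) q26450, e3 q25312 (flp_i L779083) q26069, e3 q25313 (flp_i L782674) q26451, e3 q25314 (flp_i L782680) q26452, e3 q25315 (flp_i L781143) q26290, e3 q25316 (flp_i L779862) q26145, e3 q25317 (flp_i L782688) q26453, e3 q25318 (flp_i L782702) q26454, e3 q25319 L771479 q24293, e3 q25320 L771489 q24297, e3 q25321 L771500 q24385, e3 q25322 (flp_i L775813) q25774, e3 q25323 L771512 q24148, e3 q25324 (flp_i L783145) q26519, e3 q25325 L771526 q25325, e3 q25326 L771532 q24152, e3 q25327 L771537 q24154, e3 q25328 L771552 q24159, e3 q25329 L771566 q24178, e3 q25330 (flp_i L778262) q25985, e3 q25331 (flp_i L778274) q25986, e3 q25332 (flp_i L778482) q26013, e3 q25333 (flp_i L783163) q26521, e3 q25334 L771601 q24164, e3 q25335 (flp_i L783211) q26527, e3 q25336 L771609 q24175, e3 q25337 L771615 q24176, e3 q25338 L771624 q24177, e3 q25339 L771632 q24179, e3 q25340 (flp_i L781604) q26338, e3 q25341 L771651 q24171, e3 q25342 (flp_i L783264) q26535, e3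 q25343 L771663 q24173, trivial⟩ (by decide +kernel)

theorem ce_i_396 : ∀ r, r < 64 → sm gi (Qf (25344 + r)) = Qf (tab Gen.i (25344 + r)) :=
  edges_tab (sm gi) Qf (tab Gen.i) 25344 [(25344, 26538), (25345, 26539), (25346, 25980), (25347, 25595), (25348, 26530), (25349, 26531), (25350, 26532), (25351, 25917), (25352, 26522), (25353, 26533), (25354, 25577), (25355, 24184), (25356, 26551), (25357, 25716), (25358, 24193), (25359, 24194), (25360, 24196), (25361, 25824), (25362, 26339), (25363, 26554), (25364, 26555), (25365, 25999), (25366, 26556), (25367, 24219), (25368, 24220), (25369, 24221), (25370, 24200), (25371, 26564), (25372, 26565), (25373, 24228), (25374, 24229), (25375, 24230), (25376, 24234), (25377, 26351), (25378, 26352), (25379, 25589), (25380, 25590), (25381, 26356), (25382, 26345), (25383, 26346), (25384, 26353), (25385, 26354), (25386, 26357), (25387, 25877), (25388, 25878), (25389, 26075), (25390, 26076), (25391, 25857), (25392, 26562), (25393, 26563), (25394, 25965), (25395, 24223), (25396, 24224), (25397,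 26588), (25398, 26589), (25399, 25571), (25400, 26343), (25401, 25573), (25402, 26568), (25403, 26569), (25404, 26570), (25405, 25910), (25406, 26342), (25407, 26344)]
    ⟨e3 q25344 (flp_i L783283) q26538, e3 q25345 (flp_i L783291) q26539, e3 q25346 (flp_i L778206) q25980, e3 q25347 (flp_i L773437) q25595, e3 q25348 (flp_i L783228) q26530, e3 q25349 (flp_i L783234) q26531, e3 q25350 (flp_i L783242) q26532, e3 q25351 (flp_i L777565) q25917, e3 q25352 (flp_i L783177) q26522, e3 q25353 (flp_i L783248) q26533, e3 q25354 (flp_i L773166) q25577, e3 q25355 L771733 q24184, e3 q25356 (flp_i L783360) q26551, e3 q25357 (flp_i L775118) q25716, e3 q25358 L771754 q24193, e3 q25359 L771762 q24194, e3 q25360 L771768 q24196, e3 q25361 (flp_i L776416) q25824, e3 q25362 (flp_i L781618) q26339, e3 q25363 (flp_i L783386) q26554, e3 q25364 (flp_i L783394) q26555, e3 q25365 (flp_i L778379) q25999, e3 q25366 (flp_i L783398) q26556, e3 q25367 L771808 q24219, e3 q25368 L771814 q24220, e3 q25369 L771823 q24221, e3 q25370 L771829 q24200, e3 q25371 (flp_i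 L783448) q26564, e3 q25372 (flp_i L783454) q26565, e3 q25373 L771846 q24228, e3 q25374 L771852 q24229, e3 q25375 L771858 q24230, e3 q25376 L771862 q24234, e3 q25377 (flp_i L781765) q26351, e3 q25378 (flp_i L781777) q26352, e3 q25379 (flp_i L773359) q25589, e3 q25380 (flp_i L773375) q25590, e3 q25381 (flp_i L781809) q26356, e3 q25382 (flp_i L781684) q26345, e3 q25383 (flp_i L781696) q26346, e3 q25384 (flp_i L781789) q26353, e3 q25385 (flp_i L781797) q26354, e3 q25386 (flp_i L781823) q26357, e3 q25387 (flp_i L777100) q25877, e3 q25388 (flp_i L777110) q25878, e3 q25389 (flp_i L779150) q26075, e3 q25390 (flp_i L779160) q26076, e3 q25391 (flp_i L776867) q25857, e3 q25392 (flp_i L783434) q26562, e3 q25393 (flp_i L783442) q26563, e3 q25394 (flp_i L778057) q25965, e3 q25395 L771964 q24223, e3 q25396 L771970 q24224, e3 q25397 (flp_i L783585) q26588, e3 q25398 (flp_i L783591) q26589, e3 q25399 (flp_i L773078) q25571, e3 q25400 (flp_i L781662) q26343, e3 q25401 (flp_i L773112) q25573, e3 q25402 (flp_i L783471) q26568, e3 q25403 (flp_i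 L783477) q26569, e3 q25404 (flp_i L783483) q26570, e3 q25405 (flp_i L777504) q25910, e3 q25406 (flp_i L781650) q26342, e3 q25407 (flp_i L781674) q26344, trivial⟩ (by decide +kernel)

theorem ce_i_397 : ∀ r, r < 64 → sm gi (Qf (25408 + r)) = Qf (tab Gen.i (25408 + r)) :=
  edges_tab (sm gi) Qf (tab Gen.i) 25408 [(25408, 25682), (25409, 26051), (25410, 26055), (25411, 26062), (25412, 26369), (25413, 24250), (25414, 24259), (25415, 24269), (25416, 24270), (25417, 25876), (25418, 26030), (25419, 24264), (25420, 26078), (25421, 26079), (25422, 26604), (25423, 25702), (25424, 26026), (25425, 25847), (25426, 26074), (25427, 25861), (25428, 25862), (25429, 26031), (25430, 24265), (25431, 26060), (25432, 26605), (25433, 24280), (25434, 24281), (25435, 25703), (25436, 25704), (25437, 26029), (25438, 26610), (25439, 26611), (25440, 26624), (25441, 26032), (25442, 26033), (25443, 26034), (25444, 26606), (25445, 25708), (25446, 26390), (25447, 26391), (25448, 26396), (25449, 24284), (25450, 24291), (25451, 26226), (25452, 26626), (25453,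 26627), (25454, 26628), (25455, 26221), (25456, 26249), (25457, 26640), (25458, 25801), (25459, 26233), (25460, 26267), (25461, 24289), (25462, 26650), (25463, 26292), (25464, 26162), (25465, 26518), (25466, 26243), (25467, 26463), (25468, 26464), (25469, 26313), (25470, 24299), (25471, 26659)]
    ⟨e3 q25408 (flp_i L774638) q25682, e3 q25409 (flp_i L778900) q26051, e3 q25410 (flp_i L778943) q26055, e3 q25411 (flp_i L779027) q26062, e3 q25412 (flp_i L781947) q26369, e3 q25413 L772072 q24250, e3 q25414 L772080 q24259, e3 q25415 L772086 q24269, e3 q25416 L772094 q24270, e3 q25417 (flp_i L777090) q25876, e3 q25418 (flp_i L778674) q26030, e3 q25419 L772114 q24264, e3 q25420 (flp_i L779178) q26078, e3 q25421 (flp_i L779186) q26079, e3 q25422 (flp_i L783682) q26604, e3 q25423 (flp_i L774918) q25702, e3 q25424 (flp_i L778622) q26026, e3 q25425 (flp_i L776746) q25847, e3 q25426 (flp_i L779144) q26074, e3 q25427 (flp_i L776913) q25861, e3 q25428 (flp_i L776927) q25862, e3 q25429 (flp_i L778686) q26031, e3 q25430 L772181 q24265, e3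 q25431 (flp_i L778999) q26060, e3 q25432 (flp_i L783690) q26605, e3 q25433 L772205 q24280, e3 q25434 L772217 q24281, e3 q25435 (flp_i L774932) q25703, e3 q25436 (flp_i L774946) q25704, e3 q25437 (flp_i L778660) q26029, e3 q25438 (flp_i L783721) q26610, e3 q25439 (flp_i L783729) q26611, e3 q25440 (flp_i L783815) q26624, e3 q25441 (flp_i L778694) q26032, e3 q25442 (flp_i L778702) q26033, e3 q25443 (flp_i L778714) q26034, e3 q25444 (flp_i L783698) q26606, e3 q25445 (flp_i L774998) q25708, e3 q25446 (flp_i L782144) q26390, e3 q25447 (flp_i L782154) q26391, e3 q25448 (flp_i L782202) q26396, e3 q25449 L772297 q24284, e3 q25450 L772301 q24291, e3 q25451 (flp_i L780651) q26226, e3 q25452 (flp_i L783835) q26626, e3 q25453 (flp_i L783845) q26627, e3 q25454 (flp_i L783854) q26628, e3 q25455 (flp_i L780604) q26221, e3 q25456 (flp_i L780843) q26249, e3 q25457 (flp_i L783920) q26640, e3 q25458 (flp_i L776153) q25801, e3 q25459 (flp_i L780710) q26233, e3 q25460 (flp_i L780976) q26267, e3 q25461 L772360 q24289, e3 q25462 (flp_i L783976) q26650,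 e3 q25463 (flp_i L781171) q26292, e3 q25464 (flp_i L780031) q26162, e3 q25465 (flp_i L783138) q26518, e3 q25466 (flp_i L780803) q26243, e3 q25467 (flp_i L782753) q26463, e3 q25468 (flp_i L782763) q26464, e3 q25469 (flp_i L781349) q26313, e3 q25470 L772412 q24299, e3 q25471 (flp_i L784024) q26659, trivial⟩ (by decide +kernel)

theorem ce_i_398 : ∀ r, r < 64 → sm gi (Qf (25472 + r)) = Qf (tab Gen.i (25472 + r)) :=
  edges_tab (sm gi) Qf (tab Gen.i) 25472 [(25472, 26660), (25473, 26475), (25474, 26476), (25475, 26481), (25476, 24337), (25477, 24338), (25478, 24340), (25479, 24341), (25480, 24342), (25481, 24344), (25482, 26122), (25483, 24348), (25484, 24355), (25485, 24357), (25486, 25779), (25487, 26110), (25488, 26111), (25489, 24359), (25490, 24360), (25491, 24361), (25492, 24318), (25493, 26683), (25494, 24320), (25495, 26686), (25496, 26687), (25497, 24322), (25498, 26690), (25499, 24369), (25500, 24370), (25501, 24371), (25502, 24372), (25503, 24373), (25504, 24375), (25505, 24378), (25506, 24379), (25507, 24380), (25508,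 24386), (25509, 24387), (25510, 26665), (25511, 26666), (25512, 26667), (25513, 25728), (25514, 25729), (25515, 26668), (25516, 26669), (25517, 26670), (25518, 26418), (25519, 26419), (25520, 26671), (25521, 26123), (25522, 26423), (25523, 26424), (25524, 26114), (25525, 26673), (25526, 26115), (25527, 26113), (25528, 26112), (25529, 25717), (25530, 25730), (25531, 26425), (25532, 26491), (25533, 26674), (25534, 26482), (25535, 26483)]
    ⟨e3 q25472 (flp_i L784030) q26660, e3 q25473 (flp_i L782854) q26475, e3 q25474 (flp_i L782862) q26476, e3 q25475 (flp_i L782896) q26481, e3 q25476 L772442 q24337, e3 q25477 L772448 q24338, e3 q25478 L772456 q24340, e3 q25479 L772460 q24341, e3 q25480 L772467 q24342, e3 q25481 L772475 q24344, e3 q25482 (flp_i L779638) q26122, e3 q25483 L772489 q24348, e3 q25484 L772495 q24355, e3 q25485 L772501 q24357, e3 q25486 (flp_i L775873) q25779, e3 q25487 (flp_i L779516) q26110, e3 q25488 (flp_i L779530) q26111, e3 q25489 L772521 q24359, e3 q25490 L772527 q24360, e3 q25491 L772533 q24361, e3 q25492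 L772542 q24318, e3 q25493 (flp_i L784172) q26683, e3 q25494 L772554 q24320, e3 q25495 (flp_i L784195) q26686, e3 q25496 (flp_i L784201) q26687, e3 q25497 L772573 q24322, e3 q25498 (flp_i L784220) q26690, e3 q25499 L772583 q24369, e3 q25500 L772589 q24370, e3 q25501 L772597 q24371, e3 q25502 L772607 q24372, e3 q25503 L772613 q24373, e3 q25504 L772619 q24375, e3 q25505 L772625 q24378, e3 q25506 L772631 q24379, e3 q25507 L772637 q24380, e3 q25508 L772644 q24386, e3 q25509 L772655 q24387, e3 q25510 (flp_i L784058) q26665, e3 q25511 (flp_i L784064) q26666, e3 q25512 (flp_i L784073) q26667, e3 q25513 (flp_i L775247) q25728, e3 q25514 (flp_i L775257) q25729, e3 q25515 (flp_i L784079) q26668, e3 q25516 (flp_i L784085) q26669, e3 q25517 (flp_i L784091) q26670, e3 q25518 (flp_i L782387) q26418, e3 q25519 (flp_i L782397) q26419, e3 q25520 (flp_i L784099) q26671, e3 q25521 (flp_i L779648) q26123, e3 q25522 (flp_i L782439) q26423, e3 q25523 (flp_i L782447) q26424, e3 q25524 (flp_i L779562) q26114, e3 q25525 (flp_i L784115) q26673, e3 q25526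 (flp_i L779576) q26115, e3 q25527 (flp_i L779550) q26113, e3 q25528 (flp_i L779540) q26112, e3 q25529 (flp_i L775130) q25717, e3 q25530 (flp_i L775266) q25730, e3 q25531 (flp_i L782459) q26425, e3 q25532 (flp_i L782971) q26491, e3 q25533 (flp_i L784119) q26674, e3 q25534 (flp_i L782906) q26482, e3 q25535 (flp_i L782918) q26483, trivial⟩ (by decide +kernel)

theorem ce_i_399 : ∀ r, r < 64 → sm gi (Qf (25536 + r)) = Qf (tab Gen.i (25536 + r)) :=
  edges_tab (sm gi) Qf (tab Gen.i) 25536 [(25536, 26680), (25537, 26681), (25538, 26682), (25539, 24363), (25540, 26729), (25541, 26730), (25542, 24365), (25543, 24366), (25544, 26734), (25545, 26735), (25546, 24368), (25547, 26739), (25548, 26692), (25549, 26693), (25550, 26694), (25551, 26695), (25552, 26696), (25553, 26697), (25554, 26698), (25555, 26130), (25556, 26131), (25557, 26129), (25558, 26699), (25559, 26700), (25560, 26420), (25561, 26136), (25562, 26302), (25563, 24394), (25564, 25814), (25565, 24398), (25566, 26748), (25567, 24409), (25568, 24410), (25569, 24413), (25570,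 24828), (25571, 25399), (25572, 24835), (25573, 25401), (25574, 26749), (25575, 26750), (25576, 26751), (25577, 25354), (25578, 25578), (25579, 25158), (25580, 25164), (25581, 24422), (25582, 24426), (25583, 24427), (25584, 24428), (25585, 24429), (25586, 26763), (25587, 25152), (25588, 24802), (25589, 25379), (25590, 25380), (25591, 26764), (25592, 26765), (25593, 26766), (25594, 24841), (25595, 25347), (25596, 26777), (25597, 24535), (25598, 24536), (25599, 25188)]
    ⟨e3 q25536 (flp_i L784152) q26680, e3 q25537 (flp_i L784160) q26681, e3 q25538 (flp_i L784166) q26682, e3 q25539 L772847 q24363, e3 q25540 (flp_i L784481) q26729, e3 q25541 (flp_i L784487) q26730, e3 q25542 L772867 q24365, e3 q25543 L772871 q24366, e3 q25544 (flp_i L784515) q26734, e3 q25545 (flp_i L784521) q26735, e3 q25546 L772889 q24368, e3 q25547 (flp_i L784545) q26739, e3 q25548 (flp_i L784230) q26692, e3 q25549 (flp_i L784238) q26693, e3 q25550 (flp_i L784248) q26694, e3 q25551 (flp_i L784256) q26695, e3 q25552 (flp_i L784262) q26696, e3 q25553 (flp_i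 L784270) q26697, e3 q25554 (flp_i L784276) q26698, e3 q25555 (flp_i L779719) q26130, e3 q25556 (flp_i L779731) q26131, e3 q25557 (flp_i L779711) q26129, e3 q25558 (flp_i L784282) q26699, e3 q25559 (flp_i L784288) q26700, e3 q25560 (flp_i L782410) q26420, e3 q25561 (flp_i L779772) q26136, e3 q25562 (flp_i L781240) q26302, e3 q25563 L772982 q24394, e3 q25564 (flp_i L776271) q25814, e3 q25565 L772992 q24398, e3 q25566 (flp_i L784592) q26748, e3 q25567 L773011 q24409, e3 q25568 L773027 q24410, e3 q25569 L773044 q24413, e3 q25570 L773060 q24828, e3 q25571 L773078 q25399, e3 q25572 L773094 q24835, e3 q25573 L773112 q25401, e3 q25574 (flp_i L784607) q26749, e3 q25575 (flp_i L784623) q26750, e3 q25576 (flp_i L784641) q26751, e3 q25577 L773166 q25354, e3 q25578 L773182 q25578, e3 q25579 L773200 q25158, e3 q25580 L773218 q25164, e3 q25581 L773234 q24422, e3 q25582 L773250 q24426, e3 q25583 L773266 q24427, e3 q25584 L773278 q24428, e3 q25585 L773295 q24429, e3 q25586 (flp_i L784830) q26763, e3 q25587 L773327 q25152, e3 q25588 L773343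 q24802, e3 q25589 L773359 q25379, e3 q25590 L773375 q25380, e3 q25591 (flp_i L784846) q26764, e3 q25592 (flp_i L784862) q26765, e3 q25593 (flp_i L784876) q26766, e3 q25594 L773425 q24841, e3 q25595 L773437 q25347, e3 q25596 L785034 q26777, e3 q25597 L773470 q24535, e3 q25598 L773482 q24536, e3 q25599 L773504 q25188, trivial⟩ (by decide +kernel)

theorem ce_i_400 : ∀ r, r < 64 → sm gi (Qf (25600 + r)) = Qf (tab Gen.i (25600 + r)) :=
  edges_tab (sm gi) Qf (tab Gen.i) 25600 [(25600, 25189), (25601, 24982), (25602, 25078), (25603, 25190), (25604, 25191), (25605, 25192), (25606, 25193), (25607, 24464), (25608, 25239), (25609, 24466), (25610, 24467), (25611, 24468), (25612, 24469), (25613, 24470), (25614, 24452), (25615, 26800), (25616, 24480), (25617, 24481), (25618, 24482), (25619, 24483), (25620, 24484), (25621, 24485), (25622, 24489), (25623, 24490), (25624, 24491), (25625, 24492), (25626, 24497), (25627, 26791), (25628, 25194), (25629, 26793), (25630, 26794), (25631, 26795), (25632, 26796), (25633, 26797), (25634, 26798),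 (25635, 26799), (25636, 24472), (25637, 26826), (25638, 25211), (25639, 25212), (25640, 24476), (25641, 26831), (25642, 24478), (25643, 26834), (25644, 26835), (25645, 25205), (25646, 25206), (25647, 26803), (25648, 26804), (25649, 26805), (25650, 25119), (25651, 26806), (25652, 26807), (25653, 26808), (25654, 25115), (25655, 25195), (25656, 25218), (25657, 26809), (25658, 26810), (25659, 26811), (25660, 26812), (25661, 25123), (25662, 25207), (25663, 26813)]
    ⟨e3 q25600 L773517 q25189, e3 q25601 L773535 q24982, e3 q25602 L773552 q25078, e3 q25603 L773562 q25190, e3 q25604 L773575 q25191, e3 q25605 L773587 q25192, e3 q25606 L773601 q25193, e3 q25607 L773615 q24464, e3 q25608 L773636 q25239, e3 q25609 L773650 q24466, e3 q25610 L773665 q24467, e3 q25611 L773683 q24468, e3 q25612 L773695 q24469, e3 q25613 L773705 q24470, e3 q25614 L773722 q24452, e3 q25615 (flp_i L785374) q26800, e3 q25616 L773744 q24480, e3 q25617 L773756 q24481, e3 q25618 L773769 q24482, e3 q25619 L773783 q24483, e3 q25620 L773795 q24484, e3 q25621 L773807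 q24485, e3 q25622 L773824 q24489, e3 q25623 L773837 q24490, e3 q25624 L773849 q24491, e3 q25625 L773864 q24492, e3 q25626 L773879 q24497, e3 q25627 (flp_i L785247) q26791, e3 q25628 L773909 q25194, e3 q25629 (flp_i L785277) q26793, e3 q25630 (flp_i L785291) q26794, e3 q25631 (flp_i L785306) q26795, e3 q25632 (flp_i L785322) q26796, e3 q25633 (flp_i L785334) q26797, e3 q25634 (flp_i L785346) q26798, e3 q25635 (flp_i L785358) q26799, e3 q25636 L774013 q24472, e3 q25637 (flp_i L785713) q26826, e3 q25638 L774039 q25211, e3 q25639 L774053 q25212, e3 q25640 L774074 q24476, e3 q25641 (flp_i L785789) q26831, e3 q25642 L774098 q24478, e3 q25643 (flp_i L785828) q26834, e3 q25644 (flp_i L785840) q26835, e3 q25645 L774132 q25205, e3 q25646 L774144 q25206, e3 q25647 (flp_i L785407) q26803, e3 q25648 (flp_i L785419) q26804, e3 q25649 (flp_i L785431) q26805, e3 q25650 L774184 q25119, e3 q25651 (flp_i L785445) q26806, e3 q25652 (flp_i L785457) q26807, e3 q25653 (flp_i L785469) q26808, e3 q25654 L774227 q25115, e3 q25655 L774242 q25195, e3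 q25656 L774257 q25218, e3 q25657 (flp_i L785484) q26809, e3 q25658 (flp_i L785499) q26810, e3 q25659 (flp_i L785516) q26811, e3 q25660 (flp_i L785529) q26812, e3 q25661 L774322 q25123, e3 q25662 L774335 q25207, e3 q25663 (flp_i L785543) q26813, trivial⟩ (by decide +kernel)

theorem ce_i_401 : ∀ r, r < 64 → sm gi (Qf (25664 + r)) = Qf (tab Gen.i (25664 + r)) :=
  edges_tab (sm gi) Qf (tab Gen.i) 25664 [(25664, 25664), (25665, 25665), (25666, 25666), (25667, 26858), (25668, 25668), (25669, 24505), (25670, 26859), (25671, 24508), (25672, 26860), (25673, 24519), (25674, 24524), (25675, 24814), (25676, 24853), (25677, 24870), (25678, 24871), (25679, 24895), (25680, 24901), (25681, 26861), (25682, 25408), (25683, 24896), (25684, 24897), (25685, 24912), (25686, 24913), (25687, 26862), (25688, 25159), (25689, 25160), (25690, 24537), (25691, 25235), (25692, 24538), (25693, 24539), (25694, 24542), (25695, 24543), (25696, 24544), (25697, 26778), (25698, 26779), (25699, 26879), (25700, 26882), (25701, 26883), (25702, 25423), (25703, 25435),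 (25704, 25436), (25705, 26884), (25706, 26885), (25707, 26886), (25708, 25445), (25709, 24979), (25710, 24980), (25711, 25143), (25712, 25196), (25713, 25197), (25714, 25224), (25715, 24730), (25716, 25357), (25717, 25529), (25718, 24973), (25719, 24642), (25720, 25204), (25721, 25227), (25722, 25228), (25723, 25184), (25724, 25208), (25725, 25209), (25726, 25210), (25727, 25231)]
    ⟨e3 q25664 L774361 q25664, e3 q25665 L774378 q25665, e3 q25666 L774394 q25666, e3 q25667 L786116 q26858, e3 q25668 L774421 q25668, e3 q25669 L774437 q24505, e3 q25670 (flp_i L786141) q26859, e3 q25671 L774469 q24508, e3 q25672 (flp_i L786156) q26860, e3 q25673 L774496 q24519, e3 q25674 L774514 q24524, e3 q25675 L774534 q24814, e3 q25676 L774547 q24853, e3 q25677 L774567 q24870, e3 q25678 L774579 q24871, e3 q25679 L774595 q24895, e3 q25680 L774610 q24901, e3 q25681 (flp_i L786173) q26861, e3 q25682 L774638 q25408, e3 q25683 L774650 q24896, e3 q25684 L774662 q24897, e3 q25685 L774680 q24912, e3 q25686 L774696 q24913, e3 q25687 (flp_i L786189) q26862,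 e3 q25688 L774722 q25159, e3 q25689 L774736 q25160, e3 q25690 L774750 q24537, e3 q25691 L774766 q25235, e3 q25692 L774780 q24538, e3 q25693 L774794 q24539, e3 q25694 L774810 q24542, e3 q25695 L774824 q24543, e3 q25696 L774836 q24544, e3 q25697 (flp_i L785061) q26778, e3 q25698 (flp_i L785077) q26779, e3 q25699 (flp_i L786441) q26879, e3 q25700 (flp_i L786486) q26882, e3 q25701 (flp_i L786500) q26883, e3 q25702 L774918 q25423, e3 q25703 L774932 q25435, e3 q25704 L774946 q25436, e3 q25705 (flp_i L786516) q26884, e3 q25706 (flp_i L786530) q26885, e3 q25707 (flp_i L786542) q26886, e3 q25708 L774998 q25445, e3 q25709 L775018 q24979, e3 q25710 L775031 q24980, e3 q25711 L775049 q25143, e3 q25712 L775066 q25196, e3 q25713 L775076 q25197, e3 q25714 L775089 q25224, e3 q25715 L775106 q24730, e3 q25716 L775118 q25357, e3 q25717 L775130 q25529, e3 q25718 L775148 q24973, e3 q25719 L775161 q24642, e3 q25720 L775170 q25204, e3 q25721 L775178 q25227, e3 q25722 L775189 q25228, e3 q25723 L775197 q25184, e3 q25724 L775209 q25208, e3 q25725 L775217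 q25209, e3 q25726 L775227 q25210, e3 q25727 L775236 q25231, trivial⟩ (by decide +kernel)

theorem ce_i_402 : ∀ r, r < 64 → sm gi (Qf (25728 + r)) = Qf (tab Gen.i (25728 + r)) :=
  edges_tab (sm gi) Qf (tab Gen.i) 25728 [(25728, 25513), (25729, 25514), (25730, 25530), (25731, 24601), (25732, 24602), (25733, 24603), (25734, 24606), (25735, 24607), (25736, 25088), (25737, 24608), (25738, 24609), (25739, 24610), (25740, 24612), (25741, 24613), (25742, 24614), (25743, 24615), (25744, 25041), (25745, 24622), (25746, 24623), (25747, 25038), (25748, 24583), (25749, 26948), (25750, 26949), (25751, 24630), (25752, 24631), (25753, 24632), (25754, 24633), (25755, 24635), (25756, 24636), (25757, 24637), (25758, 24638), (25759, 24639), (25760, 24640), (25761, 24644), (25762, 24646), (25763, 24647), (25764, 24649), (25765, 24976), (25766, 26927), (25767, 26928), (25768, 26929), (25769, 26930), (25770, 25050), (25771, 25105), (25772, 26931), (25773, 26932), (25774, 25322), (25775, 26935), (25776, 26936), (25777, 26937), (25778, 26911), (25779,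 25486), (25780, 26938), (25781, 26939), (25782, 26940), (25783, 26941), (25784, 26942), (25785, 25308), (25786, 25074), (25787, 25075), (25788, 24620), (25789, 26993), (25790, 26994), (25791, 25069)]
    ⟨e3 q25728 L775247 q25513, e3 q25729 L775257 q25514, e3 q25730 L775266 q25530, e3 q25731 L775285 q24601, e3 q25732 L775295 q24602, e3 q25733 L775307 q24603, e3 q25734 L775319 q24606, e3 q25735 L775334 q24607, e3 q25736 L775348 q25088, e3 q25737 L775360 q24608, e3 q25738 L775370 q24609, e3 q25739 L775383 q24610, e3 q25740 L775397 q24612, e3 q25741 L775407 q24613, e3 q25742 L775419 q24614, e3 q25743 L775427 q24615, e3 q25744 L775443 q25041, e3 q25745 L775455 q24622, e3 q25746 L775467 q24623, e3 q25747 L775485 q25038, e3 q25748 L775503 q24583, e3 q25749 (flp_i L787336) q26948, e3 q25750 (flp_i L787352) q26949, e3 q25751 L775532 q24630, e3 q25752 L775542 q24631, e3 q25753 L775550 q24632, e3 q25754 L775560 q24633, e3 q25755 L775578 q24635, e3 q25756 L775592 q24636, e3 q25757 L775606 q24637, e3 q25758 L775616 q24638, e3 q25759 L775624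 q24639, e3 q25760 L775632 q24640, e3 q25761 L775647 q24644, e3 q25762 L775662 q24646, e3 q25763 L775677 q24647, e3 q25764 L775689 q24649, e3 q25765 L775708 q24976, e3 q25766 (flp_i L787061) q26927, e3 q25767 (flp_i L787073) q26928, e3 q25768 (flp_i L787083) q26929, e3 q25769 (flp_i L787096) q26930, e3 q25770 L775759 q25050, e3 q25771 L775777 q25105, e3 q25772 (flp_i L787110) q26931, e3 q25773 (flp_i L787124) q26932, e3 q25774 L775813 q25322, e3 q25775 (flp_i L787165) q26935, e3 q25776 (flp_i L787175) q26936, e3 q25777 (flp_i L787189) q26937, e3 q25778 (flp_i L786896) q26911, e3 q25779 L775873 q25486, e3 q25780 (flp_i L787201) q26938, e3 q25781 (flp_i L787215) q26939, e3 q25782 (flp_i L787227) q26940, e3 q25783 (flp_i L787239) q26941, e3 q25784 (flp_i L787247) q26942, e3 q25785 L775939 q25308, e3 q25786 L775951 q25074, e3 q25787 L775963 q25075, e3 q25788 L775981 q24620, e3 q25789 (flp_i L787904) q26993, e3 q25790 (flp_i L787920) q26994, e3 q25791 L776023 q25069, trivial⟩ (by decide +kernel)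

theorem ce_i_403 : ∀ r, r < 64 → sm gi (Qf (25792 + r)) = Qf (tab Gen.i (25792 + r)) :=
  edges_tab (sm gi) Qf (tab Gen.i) 25792 [(25792, 26945), (25793, 26946), (25794, 25310), (25795, 24626), (25796, 24627), (25797, 27001), (25798, 27002), (25799, 25060), (25800, 25011), (25801, 25458), (25802, 26953), (25803, 26954), (25804, 26955), (25805, 26956), (25806, 25296), (25807, 26957), (25808, 26958), (25809, 26959), (25810, 26960), (25811, 26961), (25812, 26962), (25813, 26963), (25814, 25564), (25815, 26964), (25816, 25118), (25817, 26965), (25818, 25091), (25819, 27022), (25820, 24656), (25821, 24658), (25822, 25108), (25823, 24739), (25824, 25361), (25825, 24671), (25826, 24672), (25827, 24673), (25828, 24674), (25829, 24675), (25830, 24676), (25831, 24712), (25832, 27025), (25833, 27026), (25834, 27027), (25835, 27028), (25836, 27029), (25837, 27030), (25838, 24816), (25839, 24784), (25840, 24872), (25841, 24873), (25842, 24874), (25843, 24875), (25844, 24697), (25845, 24698), (25846, 24699), (25847, 25425), (25848, 24701),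 (25849, 24702), (25850, 24703), (25851, 24704), (25852, 24705), (25853, 24706), (25854, 24707), (25855, 24708)]
    ⟨e3 q25792 (flp_i L787290) q26945, e3 q25793 (flp_i L787302) q26946, e3 q25794 L776049 q25310, e3 q25795 L776065 q24626, e3 q25796 L776077 q24627, e3 q25797 (flp_i L788010) q27001, e3 q25798 (flp_i L788022) q27002, e3 q25799 L776119 q25060, e3 q25800 L776135 q25011, e3 q25801 L776153 q25458, e3 q25802 (flp_i L787400) q26953, e3 q25803 (flp_i L787410) q26954, e3 q25804 (flp_i L787418) q26955, e3 q25805 (flp_i L787426) q26956, e3 q25806 L776199 q25296, e3 q25807 (flp_i L787444) q26957, e3 q25808 (flp_i L787460) q26958, e3 q25809 (flp_i L787476) q26959, e3 q25810 (flp_i L787490) q26960, e3 q25811 (flp_i L787502) q26961, e3 q25812 (flp_i L787510) q26962, e3 q25813 (flp_i L787518) q26963, e3 q25814 L776271 q25564, e3 q25815 (flp_i L787535) q26964, e3 q25816 L776302 q25118, e3 q25817 (flp_i L787548) q26965, e3 q25818 L776326 q25091, e3 q25819 L788248 q27022, e3 q25820 (flp_i L776340) q24656, e3 q25821 L776364 q24658,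 e3 q25822 L776380 q25108, e3 q25823 L776398 q24739, e3 q25824 L776416 q25361, e3 q25825 L776432 q24671, e3 q25826 L776450 q24672, e3 q25827 L776465 q24673, e3 q25828 L776481 q24674, e3 q25829 L776495 q24675, e3 q25830 L776510 q24676, e3 q25831 L776526 q24712, e3 q25832 (flp_i L788308) q27025, e3 q25833 (flp_i L788322) q27026, e3 q25834 (flp_i L788336) q27027, e3 q25835 (flp_i L788354) q27028, e3 q25836 (flp_i L788370) q27029, e3 q25837 (flp_i L788384) q27030, e3 q25838 L776629 q24816, e3 q25839 L776646 q24784, e3 q25840 L776654 q24872, e3 q25841 L776665 q24873, e3 q25842 L776677 q24874, e3 q25843 L776691 q24875, e3 q25844 L776701 q24697, e3 q25845 L776715 q24698, e3 q25846 L776732 q24699, e3 q25847 L776746 q25425, e3 q25848 L776754 q24701, e3 q25849 L776762 q24702, e3 q25850 L776777 q24703, e3 q25851 L776795 q24704, e3 q25852 L776803 q24705, e3 q25853 L776807 q24706, e3 q25854 L776819 q24707, e3 q25855 L776834 q24708, trivial⟩ (by decide +kernel)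

theorem ce_i_404 : ∀ r, r < 64 → sm gi (Qf (25856 + r)) = Qf (tab Gen.i (25856 + r)) :=
  edges_tab (sm gi) Qf (tab Gen.i) 25856 [(25856, 24709), (25857, 25391), (25858, 27046), (25859, 27047), (25860, 27048), (25861, 25427), (25862, 25428), (25863, 27051), (25864, 27052), (25865, 27053), (25866, 27054), (25867, 27055), (25868, 27056), (25869, 27057), (25870, 27058), (25871, 27059), (25872, 24718), (25873, 27031), (25874, 24915), (25875, 24742), (25876, 25417), (25877, 25387), (25878, 25388), (25879, 27074), (25880, 24916), (25881, 25243), (25882, 24917), (25883, 24918), (25884, 24919), (25885, 24920), (25886, 24921), (25887, 24740), (25888, 24743), (25889, 24744), (25890, 24746), (25891, 26906), (25892, 24747), (25893, 24748), (25894, 24749), (25895, 24750), (25896, 24751), (25897, 24752), (25898, 24753), (25899, 24758), (25900, 27023), (25901, 27092), (25902, 24808), (25903, 27077), (25904, 27093), (25905, 27094), (25906, 27095), (25907, 24846), (25908, 24845), (25909, 27098), (25910, 25405), (25911, 27099), (25912, 27100),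 (25913, 27101), (25914, 27102), (25915, 27103), (25916, 27104), (25917, 25351), (25918, 24834), (25919, 27105)]
    ⟨e3 q25856 L776851 q24709, e3 q25857 L776867 q25391, e3 q25858 (flp_i L788597) q27046, e3 q25859 (flp_i L788613) q27047, e3 q25860 (flp_i L788629) q27048, e3 q25861 L776913 q25427, e3 q25862 L776927 q25428, e3 q25863 (flp_i L788666) q27051, e3 q25864 (flp_i L788674) q27052, e3 q25865 (flp_i L788688) q27053, e3 q25866 (flp_i L788706) q27054, e3 q25867 (flp_i L788722) q27055, e3 q25868 (flp_i L788732) q27056, e3 q25869 (flp_i L788738) q27057, e3 q25870 (flp_i L788748) q27058, e3 q25871 (flp_i L788762) q27059, e3 q25872 L777035 q24718, e3 q25873 (flp_i L788402) q27031, e3 q25874 L777064 q24915, e3 q25875 L777078 q24742, e3 q25876 L777090 q25417, e3 q25877 L777100 q25387, e3 q25878 L777110 q25388, e3 q25879 (flp_i L788944) q27074, e3 q25880 L777132 q24916, e3 q25881 L777153 q25243, e3 q25882 L777170 q24917, e3 q25883 L777182 q24918, e3 q25884 L777197 q24919, e3 q25885 L777209 q24920, e3 q25886 L777223 q24921, e3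 q25887 L777237 q24740, e3 q25888 L777247 q24743, e3 q25889 L777261 q24744, e3 q25890 L777276 q24746, e3 q25891 (flp_i L786828) q26906, e3 q25892 L777304 q24747, e3 q25893 L777316 q24748, e3 q25894 L777326 q24749, e3 q25895 L777341 q24750, e3 q25896 L777353 q24751, e3 q25897 L777359 q24752, e3 q25898 L777367 q24753, e3 q25899 L777382 q24758, e3 q25900 (flp_i L788274) q27023, e3 q25901 (flp_i L789186) q27092, e3 q25902 L777416 q24808, e3 q25903 (flp_i L788984) q27077, e3 q25904 (flp_i L789194) q27093, e3 q25905 (flp_i L789206) q27094, e3 q25906 (flp_i L789220) q27095, e3 q25907 L777468 q24846, e3 q25908 L777484 q24845, e3 q25909 (flp_i L789263) q27098, e3 q25910 L777504 q25405, e3 q25911 (flp_i L789273) q27099, e3 q25912 (flp_i L789283) q27100, e3 q25913 (flp_i L789295) q27101, e3 q25914 (flp_i L789305) q27102, e3 q25915 (flp_i L789313) q27103, e3 q25916 (flp_i L789319) q27104, e3 q25917 L777565 q25351, e3 q25918 L777580 q24834, e3 q25919 (flp_i L789335) q27105, trivial⟩ (by decide +kernel)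

theorem ce_i_405 : ∀ r, r < 64 → sm gi (Qf (25920 + r)) = Qf (tab Gen.i (25920 + r)) :=
  edges_tab (sm gi) Qf (tab Gen.i) 25920 [(25920, 27126), (25921, 25070), (25922, 24974), (25923, 24975), (25924, 24977), (25925, 24978), (25926, 24983), (25927, 24984), (25928, 24985), (25929, 24771), (25930, 27137), (25931, 24990), (25932, 24991), (25933, 24992), (25934, 24993), (25935, 24995), (25936, 24996), (25937, 24997), (25938, 24803), (25939, 24779), (25940, 27150), (25941, 24809), (25942, 24810), (25943, 24811), (25944, 24812), (25945, 24813), (25946, 27039), (25947, 24820), (25948, 24821), (25949, 24822), (25950, 24788), (25951, 27163), (25952, 27164), (25953, 24829), (25954, 24830), (25955, 24831), (25956, 24832), (25957, 24833), (25958, 24836), (25959, 24837), (25960, 24838), (25961, 24839), (25962, 24840), (25963, 24847), (25964, 26769), (25965, 25394), (25966, 27149), (25967, 24805), (25968, 27182), (25969, 24807), (25970, 27185), (25971, 27186), (25972, 27108), (25973, 26775), (25974, 27153), (25975, 27154), (25976, 27155),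 (25977, 27156), (25978, 27157), (25979, 26863), (25980, 25346), (25981, 27038), (25982, 24818), (25983, 27199)]
    ⟨e3 q25920 L789547 q27126, e3 q25921 L777624 q25070, e3 q25922 L777641 q24974, e3 q25923 L777651 q24975, e3 q25924 L777661 q24977, e3 q25925 L777673 q24978, e3 q25926 L777681 q24983, e3 q25927 L777689 q24984, e3 q25928 L777700 q24985, e3 q25929 L777717 q24771, e3 q25930 (flp_i L789685) q27137, e3 q25931 L777731 q24990, e3 q25932 L777737 q24991, e3 q25933 L777745 q24992, e3 q25934 L777752 q24993, e3 q25935 L777763 q24995, e3 q25936 L777773 q24996, e3 q25937 L777782 q24997, e3 q25938 L777796 q24803, e3 q25939 L777813 q24779, e3 q25940 (flp_i L789811) q27150, e3 q25941 L777833 q24809, e3 q25942 L777843 q24810, e3 q25943 L777853 q24811, e3 q25944 L777861 q24812, e3 q25945 L777869 q24813, e3 q25946 (flp_i L788514) q27039, e3 q25947 L777895 q24820, e3 q25948 L777909 q24821, e3 q25949 L777924 q24822, e3 q25950 L777934 q24788, e3 q25951 (flp_i L789959) q27163, e3 q25952 (flp_i L789967) q27164, e3 q25953 L777955 q24829,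 e3 q25954 L777967 q24830, e3 q25955 L777977 q24831, e3 q25956 L777985 q24832, e3 q25957 L777991 q24833, e3 q25958 L778001 q24836, e3 q25959 L778013 q24837, e3 q25960 L778023 q24838, e3 q25961 L778029 q24839, e3 q25962 L778035 q24840, e3 q25963 L778039 q24847, e3 q25964 (flp_i L784928) q26769, e3 q25965 L778057 q25394, e3 q25966 (flp_i L789795) q27149, e3 q25967 L778086 q24805, e3 q25968 (flp_i L790122) q27182, e3 q25969 L778108 q24807, e3 q25970 (flp_i L790153) q27185, e3 q25971 (flp_i L790167) q27186, e3 q25972 (flp_i L789365) q27108, e3 q25973 (flp_i L785014) q26775, e3 q25974 (flp_i L789846) q27153, e3 q25975 (flp_i L789856) q27154, e3 q25976 (flp_i L789864) q27155, e3 q25977 (flp_i L789874) q27156, e3 q25978 (flp_i L789880) q27157, e3 q25979 (flp_i L786205) q26863, e3 q25980 L778206 q25346, e3 q25981 (flp_i L788498) q27038, e3 q25982 L778230 q24818, e3 q25983 (flp_i L790296) q27199, trivial⟩ (by decide +kernel)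

theorem ce_i_406 : ∀ r, r < 64 → sm gi (Qf (25984 + r)) = Qf (tab Gen.i (25984 + r)) :=
  edges_tab (sm gi) Qf (tab Gen.i) 25984 [(25984, 27200), (25985, 25330), (25986, 25331), (25987, 27160), (25988, 27161), (25989, 27162), (25990, 24824), (25991, 27210), (25992, 27211), (25993, 24826), (25994, 24827), (25995, 27215), (25996, 27216), (25997, 27217), (25998, 26752), (25999, 25365), (26000, 27168), (26001, 27169), (26002, 27114), (26003, 27170), (26004, 27171), (26005, 27172), (26006, 27117), (26007, 26754), (26008, 27173), (26009, 27174), (26010, 27175), (26011, 27176), (26012, 27177), (26013, 25332), (26014, 27113), (26015, 27239), (26016, 27240), (26017, 26017), (26018, 27242), (26019, 24850), (26020, 24852), (26021, 24855), (26022, 24858), (26023, 24859), (26024, 27243), (26025, 27244), (26026, 25424), (26027, 25177), (26028, 25178), (26029, 25437), (26030, 25418), (26031, 25429), (26032, 25441), (26033, 25442), (26034, 25443), (26035, 26864), (26036, 26865), (26037, 27040), (26038, 27041), (26039, 27042), (26040, 27043),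 (26041, 27044), (26042, 27045), (26043, 24885), (26044, 24886), (26045, 24888), (26046, 24889), (26047, 24890)]
    ⟨e3 q25984 (flp_i L790308) q27200, e3 q25985 L778262 q25330, e3 q25986 L778274 q25331, e3 q25987 (flp_i L789919) q27160, e3 q25988 (flp_i L789933) q27161, e3 q25989 (flp_i L789947) q27162, e3 q25990 L778312 q24824, e3 q25991 (flp_i L790424) q27210, e3 q25992 (flp_i L790430) q27211, e3 q25993 L778331 q24826, e3 q25994 L778339 q24827, e3 q25995 (flp_i L790460) q27215, e3 q25996 (flp_i L790468) q27216, e3 q25997 (flp_i L790474) q27217, e3 q25998 (flp_i L784659) q26752, e3 q25999 L778379 q25365, e3 q26000 (flp_i L789995) q27168, e3 q26001 (flp_i L790007) q27169, e3 q26002 (flp_i L789435) q27114, e3 q26003 (flp_i L790015) q27170, e3 q26004 (flp_i L790023) q27171, e3 q26005 (flp_i L790029) q27172, e3 q26006 (flp_i L789465) q27117, e3 q26007 (flp_i L784693) q26754, e3 q26008 (flp_i L790039) q27173, e3 q26009 (flp_i L790053) q27174, e3 q26010 (flp_i L790061) q27175, e3 q26011 (flp_i L790067) q27176, e3 q26012 (flp_i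 L790071) q27177, e3 q26013 L778482 q25332, e3 q26014 (flp_i L789417) q27113, e3 q26015 L790631 q27239, e3 q26016 L790637 q27240, e3 q26017 L778520 q26017, e3 q26018 L790666 q27242, e3 q26019 (flp_i L778536) q24850, e3 q26020 L778555 q24852, e3 q26021 L778568 q24855, e3 q26022 L778581 q24858, e3 q26023 L778586 q24859, e3 q26024 (flp_i L790686) q27243, e3 q26025 (flp_i L790701) q27244, e3 q26026 L778622 q25424, e3 q26027 L778634 q25177, e3 q26028 L778648 q25178, e3 q26029 L778660 q25437, e3 q26030 L778674 q25418, e3 q26031 L778686 q25429, e3 q26032 L778694 q25441, e3 q26033 L778702 q25442, e3 q26034 L778714 q25443, e3 q26035 (flp_i L786221) q26864, e3 q26036 (flp_i L786237) q26865, e3 q26037 (flp_i L788524) q27040, e3 q26038 (flp_i L788534) q27041, e3 q26039 (flp_i L788545) q27042, e3 q26040 (flp_i L788560) q27043, e3 q26041 (flp_i L788572) q27044, e3 q26042 (flp_i L788585) q27045, e3 q26043 L778804 q24885, e3 q26044 L778818 q24886, e3 q26045 L778830 q24888, e3 q26046 L778840 q24889, e3 q26047 L778854 q24890, trivial⟩ (by decide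 +kernel)

theorem ce_i_407 : ∀ r, r < 64 → sm gi (Qf (26048 + r)) = Qf (tab Gen.i (26048 + r)) :=
  edges_tab (sm gi) Qf (tab Gen.i) 26048 [(26048, 24898), (26049, 24899), (26050, 24900), (26051, 25409), (26052, 27263), (26053, 27264), (26054, 27265), (26055, 25410), (26056, 27266), (26057, 27267), (26058, 27268), (26059, 25216), (26060, 25431), (26061, 25183), (26062, 25411), (26063, 26866), (26064, 26867), (26065, 26871), (26066, 26872), (26067, 27269), (26068, 27270), (26069, 25312), (26070, 27288), (26071, 24904), (26072, 24910), (26073, 24914), (26074, 25426), (26075, 25389), (26076, 25390), (26077, 27289), (26078, 25420), (26079, 25421), (26080, 26873), (26081, 26874), (26082, 27290), (26083, 27076), (26084, 27083), (26085, 27085), (26086, 27086), (26087, 27087), (26088, 27088), (26089, 27089), (26090, 27090), (26091, 27091), (26092, 24936), (26093, 24937), (26094, 24943), (26095, 24944), (26096, 24945), (26097, 24946), (26098, 24957), (26099, 24958), (26100, 24959), (26101, 24963), (26102, 24964), (26103, 24965), (26104,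 24967), (26105, 25071), (26106, 25072), (26107, 27311), (26108, 27312), (26109, 27313), (26110, 25487), (26111, 25488)]
    ⟨e3 q26048 L778862 q24898, e3 q26049 L778870 q24899, e3 q26050 L778884 q24900, e3 q26051 L778900 q25409, e3 q26052 (flp_i L790907) q27263, e3 q26053 (flp_i L790921) q27264, e3 q26054 (flp_i L790936) q27265, e3 q26055 L778943 q25410, e3 q26056 (flp_i L790946) q27266, e3 q26057 (flp_i L790956) q27267, e3 q26058 (flp_i L790970) q27268, e3 q26059 L778983 q25216, e3 q26060 L778999 q25431, e3 q26061 L779015 q25183, e3 q26062 L779027 q25411, e3 q26063 (flp_i L786249) q26866, e3 q26064 (flp_i L786263) q26867, e3 q26065 (flp_i L786322) q26871, e3 q26066 (flp_i L786334) q26872, e3 q26067 (flp_i L790980) q27269, e3 q26068 (flp_i L790988) q27270, e3 q26069 L779083 q25312, e3 q26070 L791192 q27288, e3 q26071 (flp_i L779099) q24904, e3 q26072 L779124 q24910, e3 q26073 L779134 q24914, e3 q26074 L779144 q25426, e3 q26075 L779150 q25389, e3 q26076 L779160 q25390, e3 q26077 (flp_i L791220) q27289, e3 q26078 L779178 q25420,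 e3 q26079 L779186 q25421, e3 q26080 (flp_i L786352) q26873, e3 q26081 (flp_i L786368) q26874, e3 q26082 (flp_i L791232) q27290, e3 q26083 (flp_i L788970) q27076, e3 q26084 (flp_i L789059) q27083, e3 q26085 (flp_i L789091) q27085, e3 q26086 (flp_i L789103) q27086, e3 q26087 (flp_i L789117) q27087, e3 q26088 (flp_i L789132) q27088, e3 q26089 (flp_i L789145) q27089, e3 q26090 (flp_i L789157) q27090, e3 q26091 (flp_i L789170) q27091, e3 q26092 L779321 q24936, e3 q26093 L779337 q24937, e3 q26094 L779347 q24943, e3 q26095 L779357 q24944, e3 q26096 L779367 q24945, e3 q26097 L779381 q24946, e3 q26098 L779389 q24957, e3 q26099 L779397 q24958, e3 q26100 L779409 q24959, e3 q26101 L779421 q24963, e3 q26102 L779432 q24964, e3 q26103 L779443 q24965, e3 q26104 L779453 q24967, e3 q26105 L779467 q25071, e3 q26106 L779481 q25072, e3 q26107 (flp_i L791453) q27311, e3 q26108 (flp_i L791467) q27312, e3 q26109 (flp_i L791484) q27313, e3 q26110 L779516 q25487, e3 q26111 L779530 q25488, trivial⟩ (by decide +kernel)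

theorem ce_i_408 : ∀ r, r < 64 → sm gi (Qf (26112 + r)) = Qf (tab Gen.i (26112 + r)) :=
  edges_tab (sm gi) Qf (tab Gen.i) 26112 [(26112, 25528), (26113, 25527), (26114, 25524), (26115, 25526), (26116, 27314), (26117, 27315), (26118, 27316), (26119, 27317), (26120, 27318), (26121, 25255), (26122, 25482), (26123, 25521), (26124, 24951), (26125, 27349), (26126, 27350), (26127, 24953), (26128, 27353), (26129, 25557), (26130, 25555), (26131, 25556), (26132, 27319), (26133, 27320), (26134, 27321), (26135, 25220), (26136, 25561), (26137, 25201), (26138, 27322), (26139, 27323), (26140, 27324), (26141, 25215), (26142, 27365), (26143, 26143), (26144, 24970), (26145, 25316), (26146, 26910), (26147, 27128), (26148, 27129), (26149, 26967), (26150, 27130), (26151, 27131), (26152, 27132), (26153, 26899), (26154, 26851), (26155, 26900), (26156, 25089), (26157, 26783), (26158, 27133), (26159, 27134), (26160, 27135), (26161, 27136), (26162, 25464), (26163, 24988), (26164, 27391), (26165, 25265), (26166, 27140), (26167, 27141), (26168, 27142),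 (26169, 27143), (26170, 27144), (26171, 27145), (26172, 25269), (26173, 25270), (26174, 27146), (26175, 27147)]
    ⟨e3 q26112 L779540 q25528, e3 q26113 L779550 q25527, e3 q26114 L779562 q25524, e3 q26115 L779576 q25526, e3 q26116 (flp_i L791494) q27314, e3 q26117 (flp_i L791504) q27315, e3 q26118 (flp_i L791516) q27316, e3 q26119 (flp_i L791526) q27317, e3 q26120 (flp_i L791538) q27318, e3 q26121 L779624 q25255, e3 q26122 L779638 q25482, e3 q26123 L779648 q25521, e3 q26124 L779662 q24951, e3 q26125 (flp_i L791874) q27349, e3 q26126 (flp_i L791886) q27350, e3 q26127 L779695 q24953, e3 q26128 (flp_i L791917) q27353, e3 q26129 L779711 q25557, e3 q26130 L779719 q25555, e3 q26131 L779731 q25556, e3 q26132 (flp_i L791548) q27319, e3 q26133 (flp_i L791556) q27320, e3 q26134 (flp_i L791566) q27321, e3 q26135 L779759 q25220, e3 q26136 L779772 q25561, e3 q26137 L779783 q25201, e3 q26138 (flp_i L791581) q27322, e3 q26139 (flp_i L791588) q27323, e3 q26140 (flp_i L791601) q27324, e3 q26141 L779820 q25215, e3 q26142 L792015 q27365, e3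 q26143 L779842 q26143, e3 q26144 (flp_i L779846) q24970, e3 q26145 L779862 q25316, e3 q26146 (flp_i L786881) q26910, e3 q26147 (flp_i L789589) q27128, e3 q26148 (flp_i L789601) q27129, e3 q26149 (flp_i L787575) q26967, e3 q26150 (flp_i L789613) q27130, e3 q26151 (flp_i L789623) q27131, e3 q26152 (flp_i L789634) q27132, e3 q26153 (flp_i L786731) q26899, e3 q26154 (flp_i L786027) q26851, e3 q26155 (flp_i L786746) q26900, e3 q26156 L779980 q25089, e3 q26157 (flp_i L785138) q26783, e3 q26158 (flp_i L789642) q27133, e3 q26159 (flp_i L789652) q27134, e3 q26160 (flp_i L789663) q27135, e3 q26161 (flp_i L789670) q27136, e3 q26162 L780031 q25464, e3 q26163 L780047 q24988, e3 q26164 (flp_i L792289) q27391, e3 q26165 L780067 q25265, e3 q26166 (flp_i L789710) q27140, e3 q26167 (flp_i L789718) q27141, e3 q26168 (flp_i L789727) q27142, e3 q26169 (flp_i L789735) q27143, e3 q26170 (flp_i L789741) q27144, e3 q26171 (flp_i L789749) q27145, e3 q26172 L780111 q25269, e3 q26173 L780121 q25270, e3 q26174 (flp_i L789761) q27146, e3 q26175 (flp_i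 L789773) q27147, trivial⟩ (by decide +kernel)

theorem ce_i_409 : ∀ r, r < 64 → sm gi (Qf (26176 + r)) = Qf (tab Gen.i (26176 + r)) :=
  edges_tab (sm gi) Qf (tab Gen.i) 26176 [(26176, 27148), (26177, 25042), (26178, 25045), (26179, 25046), (26180, 25047), (26181, 25048), (26182, 25051), (26183, 25058), (26184, 25059), (26185, 25061), (26186, 25063), (26187, 25064), (26188, 25065), (26189, 25066), (26190, 25067), (26191, 25068), (26192, 27007), (26193, 25076), (26194, 25014), (26195, 27427), (26196, 25016), (26197, 27429), (26198, 25090), (26199, 25092), (26200, 25093), (26201, 25095), (26202, 25098), (26203, 25099), (26204, 25100), (26205, 25101), (26206, 25102), (26207, 25103), (26208, 25104), (26209, 25110), (26210, 25111), (26211, 25112), (26212, 25113), (26213, 25114), (26214, 25116), (26215, 25117), (26216, 25121), (26217, 25122), (26218, 25124), (26219, 27451), (26220, 26947), (26221, 25455), (26222, 25251), (26223, 26943), (26224, 26944), (26225, 27407), (26226, 25451), (26227, 25299), (26228, 27408), (26229, 27409),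 (26230, 27410), (26231, 27411), (26232, 27412), (26233, 25459), (26234, 26973), (26235, 26974), (26236, 27413), (26237, 25290), (26238, 25054), (26239, 27473)]
    ⟨e3 q26176 (flp_i L789783) q27148, e3 q26177 L780154 q25042, e3 q26178 L780164 q25045, e3 q26179 L780174 q25046, e3 q26180 L780180 q25047, e3 q26181 L780189 q25048, e3 q26182 L780201 q25051, e3 q26183 L780215 q25058, e3 q26184 L780229 q25059, e3 q26185 L780243 q25061, e3 q26186 L780253 q25063, e3 q26187 L780259 q25064, e3 q26188 L780265 q25065, e3 q26189 L780275 q25066, e3 q26190 L780283 q25067, e3 q26191 L780289 q25068, e3 q26192 (flp_i L788102) q27007, e3 q26193 L780309 q25076, e3 q26194 L780323 q25014, e3 q26195 (flp_i L792609) q27427, e3 q26196 L780349 q25016, e3 q26197 (flp_i L792631) q27429, e3 q26198 L780369 q25090, e3 q26199 L780379 q25092, e3 q26200 L780387 q25093, e3 q26201 L780401 q25095, e3 q26202 L780411 q25098, e3 q26203 L780417 q25099, e3 q26204 L780429 q25100, e3 q26205 L780437 q25101, e3 q26206 L780443 q25102, e3 q26207 L780449 q25103, e3 q26208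 L780455 q25104, e3 q26209 L780469 q25110, e3 q26210 L780484 q25111, e3 q26211 L780496 q25112, e3 q26212 L780507 q25113, e3 q26213 L780512 q25114, e3 q26214 L780524 q25116, e3 q26215 L780534 q25117, e3 q26216 L780547 q25121, e3 q26217 L780559 q25122, e3 q26218 L780571 q25124, e3 q26219 L792848 q27451, e3 q26220 (flp_i L787322) q26947, e3 q26221 L780604 q25455, e3 q26222 L780614 q25251, e3 q26223 (flp_i L787261) q26943, e3 q26224 (flp_i L787277) q26944, e3 q26225 (flp_i L792406) q27407, e3 q26226 L780651 q25451, e3 q26227 L780667 q25299, e3 q26228 (flp_i L792416) q27408, e3 q26229 (flp_i L792426) q27409, e3 q26230 (flp_i L792435) q27410, e3 q26231 (flp_i L792443) q27411, e3 q26232 (flp_i L792451) q27412, e3 q26233 L780710 q25459, e3 q26234 (flp_i L787640) q26973, e3 q26235 (flp_i L787656) q26974, e3 q26236 (flp_i L792461) q27413, e3 q26237 L780742 q25290, e3 q26238 L780758 q25054, e3 q26239 (flp_i L793073) q27473, trivial⟩ (by decide +kernel)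

theorem ce_i_410 : ∀ r, r < 64 → sm gi (Qf (26240 + r)) = Qf (tab Gen.i (26240 + r)) :=
  edges_tab (sm gi) Qf (tab Gen.i) 26240 [(26240, 26952), (26241, 25056), (26242, 27476), (26243, 25466), (26244, 27414), (26245, 27006), (26246, 27415), (26247, 27005), (26248, 27416), (26249, 25456), (26250, 27417), (26251, 27418), (26252, 27419), (26253, 27420), (26254, 27421), (26255, 27422), (26256, 27423), (26257, 27424), (26258, 26997), (26259, 27127), (26260, 27326), (26261, 27327), (26262, 27328), (26263, 25289), (26264, 26991), (26265, 26992), (26266, 27426), (26267, 25460), (26268, 26784), (26269, 25080), (26270, 27507), (26271, 27508), (26272, 25082), (26273, 25083), (26274, 27512), (26275, 27513), (26276, 26934), (26277, 25086), (26278, 25087), (26279, 27518), (26280, 27519), (26281, 27520), (26282, 26933), (26283, 27380), (26284, 27020), (26285, 27431), (26286, 27021), (26287, 26845), (26288, 27432), (26289, 27433), (26290, 25315), (26291, 25180), (26292, 25463), (26293, 25179), (26294, 27434), (26295, 27435), (26296, 27436),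 (26297, 27437), (26298, 27438), (26299, 27439), (26300, 27440), (26301, 27545), (26302, 25562), (26303, 25285)]
    ⟨e3 q26240 (flp_i L787382) q26952, e3 q26241 L780787 q25056, e3 q26242 (flp_i L793099) q27476, e3 q26243 L780803 q25466, e3 q26244 (flp_i L792477) q27414, e3 q26245 (flp_i L788082) q27006, e3 q26246 (flp_i L792491) q27415, e3 q26247 (flp_i L788066) q27005, e3 q26248 (flp_i L792503) q27416, e3 q26249 L780843 q25456, e3 q26250 (flp_i L792513) q27417, e3 q26251 (flp_i L792525) q27418, e3 q26252 (flp_i L792533) q27419, e3 q26253 (flp_i L792541) q27420, e3 q26254 (flp_i L792547) q27421, e3 q26255 (flp_i L792555) q27422, e3 q26256 (flp_i L792563) q27423, e3 q26257 (flp_i L792571) q27424, e3 q26258 (flp_i L787966) q26997, e3 q26259 (flp_i L789573) q27127, e3 q26260 (flp_i L791624) q27326, e3 q26261 (flp_i L791638) q27327, e3 q26262 (flp_i L791653) q27328, e3 q26263 L780946 q25289, e3 q26264 (flp_i L787874) q26991, e3 q26265 (flp_i L787886) q26992, e3 q26266 (flp_i L792597) q27426, e3 q26267 L780976 q25460, e3 q26268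 (flp_i L785154) q26784, e3 q26269 L780994 q25080, e3 q26270 (flp_i L793354) q27507, e3 q26271 (flp_i L793360) q27508, e3 q26272 L781015 q25082, e3 q26273 L781019 q25083, e3 q26274 (flp_i L793390) q27512, e3 q26275 (flp_i L793396) q27513, e3 q26276 (flp_i L787152) q26934, e3 q26277 L781049 q25086, e3 q26278 L781061 q25087, e3 q26279 (flp_i L793427) q27518, e3 q26280 (flp_i L793439) q27519, e3 q26281 (flp_i L793447) q27520, e3 q26282 (flp_i L787140) q26933, e3 q26283 (flp_i L792180) q27380, e3 q26284 (flp_i L788230) q27020, e3 q26285 (flp_i L792653) q27431, e3 q26286 (flp_i L788244) q27021, e3 q26287 (flp_i L785950) q26845, e3 q26288 (flp_i L792663) q27432, e3 q26289 (flp_i L792671) q27433, e3 q26290 L781143 q25315, e3 q26291 L781159 q25180, e3 q26292 L781171 q25463, e3 q26293 L781181 q25179, e3 q26294 (flp_i L792683) q27434, e3 q26295 (flp_i L792691) q27435, e3 q26296 (flp_i L792701) q27436, e3 q26297 (flp_i L792709) q27437, e3 q26298 (flp_i L792717) q27438, e3 q26299 (flp_i L792727) q27439, e3 q26300 (flp_i L792735) q27440,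 e3 q26301 L793643 q27545, e3 q26302 L781240 q25562, e3 q26303 L781249 q25285, trivial⟩ (by decide +kernel)

theorem ce_i_411 : ∀ r, r < 64 → sm gi (Qf (26304 + r)) = Qf (tab Gen.i (26304 + r)) :=
  edges_tab (sm gi) Qf (tab Gen.i) 26304 [(26304, 25139), (26305, 25284), (26306, 27442), (26307, 26781), (26308, 27443), (26309, 27444), (26310, 26849), (26311, 27445), (26312, 27557), (26313, 25469), (26314, 27558), (26315, 27447), (26316, 27559), (26317, 26855), (26318, 27449), (26319, 27482), (26320, 25125), (26321, 26321), (26322, 26322), (26323, 26323), (26324, 27565), (26325, 26325), (26326, 27546), (26327, 25134), (26328, 25136), (26329, 26329), (26330, 26923), (26331, 27548), (26332, 25142), (26333, 26901), (26334, 26334), (26335, 26335), (26336, 25149), (26337, 27570), (26338, 25340), (26339, 25362), (26340, 26768), (26341, 25167), (26342, 25406), (26343, 25400), (26344, 25407), (26345, 25382), (26346, 25383), (26347, 26761), (26348, 26876), (26349, 26877), (26350, 26878), (26351, 25377), (26352, 25378), (26353, 25384),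 (26354, 25385), (26355, 26762), (26356, 25381), (26357, 25386), (26358, 25199), (26359, 25200), (26360, 25203), (26361, 25175), (26362, 25181), (26363, 27589), (26364, 25309), (26365, 27247), (26366, 27248), (26367, 27535)]
    ⟨e3 q26304 L781256 q25139, e3 q26305 L781267 q25284, e3 q26306 (flp_i L792758) q27442, e3 q26307 (flp_i L785107) q26781, e3 q26308 (flp_i L792771) q27443, e3 q26309 (flp_i L792777) q27444, e3 q26310 (flp_i L785997) q26849, e3 q26311 (flp_i L792789) q27445, e3 q26312 L793746 q27557, e3 q26313 L781349 q25469, e3 q26314 L793754 q27558, e3 q26315 (flp_i L792810) q27447, e3 q26316 L793763 q27559, e3 q26317 (flp_i L786085) q26855, e3 q26318 (flp_i L792833) q27449, e3 q26319 (flp_i L793149) q27482, e3 q26320 (flp_i L781400) q25125, e3 q26321 L781416 q26321, e3 q26322 L781425 q26322, e3 q26323 L781441 q26323, e3 q26324 L793833 q27565, e3 q26325 L781460 q26325, e3 q26326 (flp_i L793654) q27546, e3 q26327 (flp_i L781471) q25134, e3 q26328 (flp_i L781479) q25136, e3 q26329 L781498 q26329, e3 q26330 (flp_i L787013)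 q26923, e3 q26331 (flp_i L793670) q27548, e3 q26332 L781529 q25142, e3 q26333 (flp_i L786760) q26901, e3 q26334 L781555 q26334, e3 q26335 L781566 q26335, e3 q26336 L781578 q25149, e3 q26337 (flp_i L793890) q27570, e3 q26338 L781604 q25340, e3 q26339 L781618 q25362, e3 q26340 (flp_i L784910) q26768, e3 q26341 L781640 q25167, e3 q26342 L781650 q25406, e3 q26343 L781662 q25400, e3 q26344 L781674 q25407, e3 q26345 L781684 q25382, e3 q26346 L781696 q25383, e3 q26347 (flp_i L784794) q26761, e3 q26348 (flp_i L786396) q26876, e3 q26349 (flp_i L786412) q26877, e3 q26350 (flp_i L786427) q26878, e3 q26351 L781765 q25377, e3 q26352 L781777 q25378, e3 q26353 L781789 q25384, e3 q26354 L781797 q25385, e3 q26355 (flp_i L784812) q26762, e3 q26356 L781809 q25381, e3 q26357 L781823 q25386, e3 q26358 L781833 q25199, e3 q26359 L781843 q25200, e3 q26360 L781857 q25203, e3 q26361 L781871 q25175, e3 q26362 L781883 q25181, e3 q26363 (flp_i L794132) q27589, e3 q26364 L781907 q25309, e3 q26365 (flp_i L790736) q27247, e3 q26366 (flp_i L790750) q27248,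 e3 q26367 (flp_i L793579) q27535, trivial⟩ (by decide +kernel)

theorem ce_i_412 : ∀ r, r < 64 → sm gi (Qf (26368 + r)) = Qf (tab Gen.i (26368 + r)) :=
  edges_tab (sm gi) Qf (tab Gen.i) 26368 [(26368, 27533), (26369, 25412), (26370, 27280), (26371, 26916), (26372, 26917), (26373, 25213), (26374, 25214), (26375, 25217), (26376, 26780), (26377, 26782), (26378, 26785), (26379, 26786), (26380, 26787), (26381, 26788), (26382, 26789), (26383, 26790), (26384, 26815), (26385, 26816), (26386, 26850), (26387, 26902), (26388, 26903), (26389, 26904), (26390, 25446), (26391, 25447), (26392, 27586), (26393, 27587), (26394, 27362), (26395, 27361), (26396, 25448), (26397, 27588), (26398, 26912), (26399, 26913), (26400, 26839), (26401, 26840), (26402, 26841), (26403, 26918), (26404, 26919), (26405, 26920), (26406, 26921), (26407, 26922), (26408, 26829), (26409, 26830), (26410, 27597), (26411, 27598), (26412, 27357), (26413, 27278), (26414, 26905), (26415, 26415), (26416, 26914), (26417, 26915), (26418, 25518), (26419, 25519), (26420, 25560),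 (26421, 26880), (26422, 26881), (26423, 25522), (26424, 25523), (26425, 25531), (26426, 26792), (26427, 25266), (26428, 25267), (26429, 25268), (26430, 25271), (26431, 27084)]
    ⟨e3 q26368 (flp_i L793559) q27533, e3 q26369 L781947 q25412, e3 q26370 (flp_i L791124) q27280, e3 q26371 (flp_i L786943) q26916, e3 q26372 (flp_i L786955) q26917, e3 q26373 L781978 q25213, e3 q26374 L781986 q25214, e3 q26375 L781994 q25217, e3 q26376 (flp_i L785093) q26780, e3 q26377 (flp_i L785124) q26782, e3 q26378 (flp_i L785166) q26785, e3 q26379 (flp_i L785178) q26786, e3 q26380 (flp_i L785191) q26787, e3 q26381 (flp_i L785204) q26788, e3 q26382 (flp_i L785216) q26789, e3 q26383 (flp_i L785229) q26790, e3 q26384 (flp_i L785573) q26815, e3 q26385 (flp_i L785587) q26816, e3 q26386 (flp_i L786012) q26850, e3 q26387 (flp_i L786776) q26902, e3 q26388 (flp_i L786788) q26903, e3 q26389 (flp_i L786800) q26904, e3 q26390 L782144 q25446, e3 q26391 L782154 q25447, e3 q26392 (flp_i L794090) q27586, e3 q26393 (flp_i L794100) q27587, e3 q26394 (flp_i L791996)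 q27362, e3 q26395 (flp_i L791986) q27361, e3 q26396 L782202 q25448, e3 q26397 (flp_i L794116) q27588, e3 q26398 (flp_i L786902) q26912, e3 q26399 (flp_i L786912) q26913, e3 q26400 (flp_i L785888) q26839, e3 q26401 (flp_i L785900) q26840, e3 q26402 (flp_i L785910) q26841, e3 q26403 (flp_i L786966) q26918, e3 q26404 (flp_i L786976) q26919, e3 q26405 (flp_i L786985) q26920, e3 q26406 (flp_i L786995) q26921, e3 q26407 (flp_i L787003) q26922, e3 q26408 (flp_i L785757) q26829, e3 q26409 (flp_i L785771) q26830, e3 q26410 (flp_i L794202) q27597, e3 q26411 (flp_i L794210) q27598, e3 q26412 (flp_i L791955) q27357, e3 q26413 (flp_i L791088) q27278, e3 q26414 (flp_i L786813) q26905, e3 q26415 L782361 q26415, e3 q26416 (flp_i L786923) q26914, e3 q26417 (flp_i L786930) q26915, e3 q26418 L782387 q25518, e3 q26419 L782397 q25519, e3 q26420 L782410 q25560, e3 q26421 (flp_i L786455) q26880, e3 q26422 (flp_i L786471) q26881, e3 q26423 L782439 q25522, e3 q26424 L782447 q25523, e3 q26425 L782459 q25531, e3 q26426 (flp_i L785263) q26792, e3 q26427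 L782471 q25266, e3 q26428 L782479 q25267, e3 q26429 L782488 q25268, e3 q26430 L782497 q25271, e3 q26431 (flp_i L789075) q27084, trivial⟩ (by decide +kernel)

theorem ce_i_413 : ∀ r, r < 64 → sm gi (Qf (26432 + r)) = Qf (tab Gen.i (26432 + r)) :=
  edges_tab (sm gi) Qf (tab Gen.i) 26432 [(26432, 25273), (26433, 25274), (26434, 25247), (26435, 27656), (26436, 27657), (26437, 25282), (26438, 25283), (26439, 25287), (26440, 27454), (26441, 27455), (26442, 25295), (26443, 25297), (26444, 25298), (26445, 27346), (26446, 25257), (26447, 25258), (26448, 27668), (26449, 27669), (26450, 25311), (26451, 25313), (26452, 25314), (26453, 25317), (26454, 25318), (26455, 27393), (26456, 27394), (26457, 27648), (26458, 27649), (26459, 27650), (26460, 27402), (26461, 27403), (26462, 27651), (26463, 25467), (26464, 25468), (26465, 27654), (26466, 27655), (26467, 25276), (26468, 27689), (26469, 27690), (26470, 25278), (26471, 25279), (26472, 27693), (26473, 27694), (26474, 27695), (26475, 25473), (26476, 25474), (26477, 27660), (26478, 27661),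 (26479, 27485), (26480, 27547), (26481, 25475), (26482, 25534), (26483, 25535), (26484, 27501), (26485, 27471), (26486, 27472), (26487, 25292), (26488, 25293), (26489, 27710), (26490, 27711), (26491, 25532), (26492, 27664), (26493, 27012), (26494, 27665), (26495, 27666)]
    ⟨e3 q26432 L782517 q25273, e3 q26433 L782527 q25274, e3 q26434 L782537 q25247, e3 q26435 (flp_i L794740) q27656, e3 q26436 (flp_i L794750) q27657, e3 q26437 L782566 q25282, e3 q26438 L782574 q25283, e3 q26439 L782586 q25287, e3 q26440 (flp_i L792891) q27454, e3 q26441 (flp_i L792903) q27455, e3 q26442 L782609 q25295, e3 q26443 L782617 q25297, e3 q26444 L782625 q25298, e3 q26445 (flp_i L791834) q27346, e3 q26446 L782641 q25257, e3 q26447 L782647 q25258, e3 q26448 (flp_i L794845) q27668, e3 q26449 (flp_i L794853) q27669, e3 q26450 L782668 q25311, e3 q26451 L782674 q25313, e3 q26452 L782680 q25314, e3 q26453 L782688 q25317, e3 q26454 L782702 q25318, e3 q26455 (flp_i L792309) q27393, e3 q26456 (flp_i L792317) q27394, e3 q26457 (flp_i L794665) q27648, e3 q26458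 (flp_i L794673) q27649, e3 q26459 (flp_i L794681) q27650, e3 q26460 (flp_i L792365) q27402, e3 q26461 (flp_i L792377) q27403, e3 q26462 (flp_i L794691) q27651, e3 q26463 L782753 q25467, e3 q26464 L782763 q25468, e3 q26465 (flp_i L794718) q27654, e3 q26466 (flp_i L794728) q27655, e3 q26467 L782789 q25276, e3 q26468 (flp_i L794992) q27689, e3 q26469 (flp_i L795002) q27690, e3 q26470 L782814 q25278, e3 q26471 L782820 q25279, e3 q26472 (flp_i L795027) q27693, e3 q26473 (flp_i L795035) q27694, e3 q26474 (flp_i L795043) q27695, e3 q26475 L782854 q25473, e3 q26476 L782862 q25474, e3 q26477 (flp_i L794779) q27660, e3 q26478 (flp_i L794787) q27661, e3 q26479 (flp_i L793173) q27485, e3 q26480 (flp_i L793661) q27547, e3 q26481 L782896 q25475, e3 q26482 L782906 q25534, e3 q26483 L782918 q25535, e3 q26484 (flp_i L793299) q27501, e3 q26485 (flp_i L793048) q27471, e3 q26486 (flp_i L793058) q27472, e3 q26487 L782941 q25292, e3 q26488 L782947 q25293, e3 q26489 (flp_i L795151) q27710, e3 q26490 (flp_i L795159) q27711, e3 q26491 L782971 q25532,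 e3 q26492 (flp_i L794811) q27664, e3 q26493 (flp_i L788156) q27012, e3 q26494 (flp_i L794821) q27665, e3 q26495 (flp_i L794829) q27666, trivial⟩ (by decide +kernel)

theorem ce_i_414 : ∀ r, r < 64 → sm gi (Qf (26496 + r)) = Qf (tab Gen.i (26496 + r)) :=
  edges_tab (sm gi) Qf (tab Gen.i) 26496 [(26496, 27461), (26497, 27458), (26498, 25301), (26499, 25302), (26500, 27720), (26501, 27721), (26502, 25305), (26503, 25306), (26504, 25307), (26505, 27725), (26506, 27726), (26507, 27727), (26508, 26990), (26509, 26977), (26510, 27590), (26511, 27000), (26512, 27673), (26513, 27286), (26514, 27674), (26515, 27532), (26516, 27366), (26517, 27675), (26518, 25465), (26519, 25324), (26520, 27737), (26521, 25333), (26522, 25352), (26523, 27204), (26524, 27205), (26525, 27206), (26526, 27738), (26527, 25335), (26528, 27743), (26529, 27744), (26530, 25348), (26531, 25349), (26532, 25350), (26533, 25353), (26534, 27571), (26535, 25342), (26536, 27751), (26537, 27752), (26538, 25344), (26539, 25345), (26540, 27756), (26541, 27757), (26542,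 27758), (26543, 27196), (26544, 26774), (26545, 26759), (26546, 27748), (26547, 27749), (26548, 27750), (26549, 27124), (26550, 27739), (26551, 25356), (26552, 26907), (26553, 26908), (26554, 25363), (26555, 25364), (26556, 25366), (26557, 27024), (26558, 27572), (26559, 27770)]
    ⟨e3 q26496 (flp_i L792973) q27461, e3 q26497 (flp_i L792931) q27458, e3 q26498 L783024 q25301, e3 q26499 L783028 q25302, e3 q26500 (flp_i L795231) q27720, e3 q26501 (flp_i L795237) q27721, e3 q26502 L783045 q25305, e3 q26503 L783051 q25306, e3 q26504 L783057 q25307, e3 q26505 (flp_i L795256) q27725, e3 q26506 (flp_i L795262) q27726, e3 q26507 (flp_i L795268) q27727, e3 q26508 (flp_i L787862) q26990, e3 q26509 (flp_i L787694) q26977, e3 q26510 (flp_i L794144) q27590, e3 q26511 (flp_i L787994) q27000, e3 q26512 (flp_i L794876) q27673, e3 q26513 (flp_i L791178) q27286, e3 q26514 (flp_i L794882) q27674, e3 q26515 (flp_i L793547) q27532, e3 q26516 (flp_i L792029) q27366, e3 q26517 (flp_i L794892) q27675, e3 q26518 L783138 q25465, e3 q26519 L783145 q25324,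 e3 q26520 (flp_i L795324) q27737, e3 q26521 L783163 q25333, e3 q26522 L783177 q25352, e3 q26523 (flp_i L790356) q27204, e3 q26524 (flp_i L790368) q27205, e3 q26525 (flp_i L790382) q27206, e3 q26526 (flp_i L795338) q27738, e3 q26527 L783211 q25335, e3 q26528 (flp_i L795384) q27743, e3 q26529 (flp_i L795392) q27744, e3 q26530 L783228 q25348, e3 q26531 L783234 q25349, e3 q26532 L783242 q25350, e3 q26533 L783248 q25353, e3 q26534 (flp_i L793906) q27571, e3 q26535 L783264 q25342, e3 q26536 (flp_i L795438) q27751, e3 q26537 (flp_i L795446) q27752, e3 q26538 L783283 q25344, e3 q26539 L783291 q25345, e3 q26540 (flp_i L795476) q27756, e3 q26541 (flp_i L795484) q27757, e3 q26542 (flp_i L795490) q27758, e3 q26543 (flp_i L790265) q27196, e3 q26544 (flp_i L784996) q26774, e3 q26545 (flp_i L784761) q26759, e3 q26546 (flp_i L795414) q27748, e3 q26547 (flp_i L795420) q27749, e3 q26548 (flp_i L795430) q27750, e3 q26549 (flp_i L789531) q27124, e3 q26550 (flp_i L795354) q27739, e3 q26551 L783360 q25356, e3 q26552 (flp_i L786842) q26907, e3 q26553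 (flp_i L786854) q26908, e3 q26554 L783386 q25363, e3 q26555 L783394 q25364, e3 q26556 L783398 q25366, e3 q26557 (flp_i L788290) q27024, e3 q26558 (flp_i L793922) q27572, e3 q26559 (flp_i L795566) q27770, trivial⟩ (by decide +kernel)

theorem ce_i_415 : ∀ r, r < 64 → sm gi (Qf (26560 + r)) = Qf (tab Gen.i (26560 + r)) :=
  edges_tab (sm gi) Qf (tab Gen.i) 26560 [(26560, 27771), (26561, 27224), (26562, 25392), (26563, 25393), (26564, 25371), (26565, 25372), (26566, 27777), (26567, 27778), (26568, 25402), (26569, 25403), (26570, 25404), (26571, 27581), (26572, 27582), (26573, 26770), (26574, 26771), (26575, 27585), (26576, 27575), (26577, 27576), (26578, 27583), (26579, 27584), (26580, 27080), (26581, 27081), (26582, 27292), (26583, 27293), (26584, 27060), (26585, 27775), (26586, 27776), (26587, 27180), (26588, 25397), (26589, 25398), (26590, 27798), (26591, 27799), (26592, 26753), (26593, 27574), (26594, 26755), (26595, 27782), (26596, 27783), (26597, 27116), (26598, 27573), (26599, 26869), (26600, 26870), (26601, 27271), (26602,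 27275), (26603, 27594), (26604, 25422), (26605, 25432), (26606, 25444), (26607, 27078), (26608, 27079), (26609, 27250), (26610, 25438), (26611, 25439), (26612, 27295), (26613, 27296), (26614, 27808), (26615, 26893), (26616, 26894), (26617, 27246), (26618, 27049), (26619, 27050), (26620, 27291), (26621, 27064), (26622, 27065), (26623, 27251)]
    ⟨e3 q26560 (flp_i L795574) q27771, e3 q26561 (flp_i L790538) q27224, e3 q26562 L783434 q25392, e3 q26563 L783442 q25393, e3 q26564 L783448 q25371, e3 q26565 L783454 q25372, e3 q26566 (flp_i L795612) q27777, e3 q26567 (flp_i L795620) q27778, e3 q26568 L783471 q25402, e3 q26569 L783477 q25403, e3 q26570 L783483 q25404, e3 q26571 (flp_i L794038) q27581, e3 q26572 (flp_i L794050) q27582, e3 q26573 (flp_i L784942) q26770, e3 q26574 (flp_i L784958) q26771, e3 q26575 (flp_i L794080) q27585, e3 q26576 (flp_i L793958) q27575, e3 q26577 (flp_i L793970) q27576, e3 q26578 (flp_i L794062) q27583, e3 q26579 (flp_i L794070) q27584, e3 q26580 (flp_i L789025) q27080, e3 q26581 (flp_i L789035) q27081,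 e3 q26582 (flp_i L791250) q27292, e3 q26583 (flp_i L791260) q27293, e3 q26584 (flp_i L788782) q27060, e3 q26585 (flp_i L795598) q27775, e3 q26586 (flp_i L795606) q27776, e3 q26587 (flp_i L790098) q27180, e3 q26588 L783585 q25397, e3 q26589 L783591 q25398, e3 q26590 (flp_i L795737) q27798, e3 q26591 (flp_i L795743) q27799, e3 q26592 (flp_i L784675) q26753, e3 q26593 (flp_i L793946) q27574, e3 q26594 (flp_i L784709) q26755, e3 q26595 (flp_i L795639) q27782, e3 q26596 (flp_i L795645) q27783, e3 q26597 (flp_i L789453) q27116, e3 q26598 (flp_i L793936) q27573, e3 q26599 (flp_i L786293) q26869, e3 q26600 (flp_i L786309) q26870, e3 q26601 (flp_i L791006) q27271, e3 q26602 (flp_i L791052) q27275, e3 q26603 (flp_i L794182) q27594, e3 q26604 L783682 q25422, e3 q26605 L783690 q25432, e3 q26606 L783698 q25444, e3 q26607 (flp_i L789000) q27078, e3 q26608 (flp_i L789014) q27079, e3 q26609 (flp_i L790778) q27250, e3 q26610 L783721 q25438, e3 q26611 L783729 q25439, e3 q26612 (flp_i L791276) q27295, e3 q26613 (flp_i L791286) q27296, e3 q26614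 (flp_i L795799) q27808, e3 q26615 (flp_i L786643) q26893, e3 q26616 (flp_i L786659) q26894, e3 q26617 (flp_i L790722) q27246, e3 q26618 (flp_i L788645) q27049, e3 q26619 (flp_i L788657) q27050, e3 q26620 (flp_i L791240) q27291, e3 q26621 (flp_i L788830) q27064, e3 q26622 (flp_i L788844) q27065, e3 q26623 (flp_i L790788) q27251, trivial⟩ (by decide +kernel)

theorem ce_i_416 : ∀ r, r < 64 → sm gi (Qf (26624 + r)) = Qf (tab Gen.i (26624 + r)) :=
  edges_tab (sm gi) Qf (tab Gen.i) 26624 [(26624, 25440), (26625, 27279), (26626, 25452), (26627, 25453), (26628, 25454), (26629, 26895), (26630, 26896), (26631, 27249), (26632, 27812), (26633, 27813), (26634, 27825), (26635, 27252), (26636, 27253), (26637, 27615), (26638, 27616), (26639, 27621), (26640, 25457), (26641, 27460), (26642, 27826), (26643, 27827), (26644, 27828), (26645, 27453), (26646, 27486), (26647, 27008), (26648, 27467), (26649, 27504), (26650, 25462), (26651, 27844), (26652, 27389), (26653, 27390), (26654, 27478), (26655, 27479), (26656, 27685), (26657, 27686), (26658,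 27527), (26659, 25471), (26660, 25472), (26661, 27852), (26662, 27853), (26663, 27700), (26664, 27701), (26665, 25510), (26666, 25511), (26667, 25512), (26668, 25515), (26669, 25516), (26670, 25517), (26671, 25520), (26672, 27347), (26673, 25525), (26674, 25533), (26675, 26982), (26676, 26983), (26677, 27332), (26678, 27333), (26679, 27334), (26680, 25536), (26681, 25537), (26682, 25538), (26683, 25493), (26684, 27874), (26685, 27875), (26686, 25495), (26687, 25496)]
    ⟨e3 q26624 L783815 q25440, e3 q26625 (flp_i L791106) q27279, e3 q26626 L783835 q25452, e3 q26627 L783845 q25453, e3 q26628 L783854 q25454, e3 q26629 (flp_i L786675) q26895, e3 q26630 (flp_i L786689) q26896, e3 q26631 (flp_i L790764) q27249, e3 q26632 (flp_i L795823) q27812, e3 q26633 (flp_i L795833) q27813, e3 q26634 (flp_i L795914) q27825, e3 q26635 (flp_i L790798) q27252, e3 q26636 (flp_i L790806) q27253, e3 q26637 (flp_i L794377) q27615, e3 q26638 (flp_i L794387) q27616, e3 q26639 (flp_i L794435) q27621, e3 q26640 L783920 q25457, e3 q26641 (flp_i L792957)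 q27460, e3 q26642 (flp_i L795922) q27826, e3 q26643 (flp_i L795934) q27827, e3 q26644 (flp_i L795944) q27828, e3 q26645 (flp_i L792879) q27453, e3 q26646 (flp_i L793187) q27486, e3 q26647 (flp_i L788118) q27008, e3 q26648 (flp_i L793014) q27467, e3 q26649 (flp_i L793325) q27504, e3 q26650 L783976 q25462, e3 q26651 (flp_i L796034) q27844, e3 q26652 (flp_i L792261) q27389, e3 q26653 (flp_i L792275) q27390, e3 q26654 (flp_i L793115) q27478, e3 q26655 (flp_i L793127) q27479, e3 q26656 (flp_i L794954) q27685, e3 q26657 (flp_i L794964) q27686, e3 q26658 (flp_i L793513) q27527, e3 q26659 L784024 q25471, e3 q26660 L784030 q25472, e3 q26661 (flp_i L796082) q27852, e3 q26662 (flp_i L796088) q27853, e3 q26663 (flp_i L795081) q27700, e3 q26664 (flp_i L795089) q27701, e3 q26665 L784058 q25510, e3 q26666 L784064 q25511, e3 q26667 L784073 q25512, e3 q26668 L784079 q25515, e3 q26669 L784085 q25516, e3 q26670 L784091 q25517, e3 q26671 L784099 q25520, e3 q26672 (flp_i L791848) q27347, e3 q26673 L784115 q25525, e3 q26674 L784119 q25533, e3 q26675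 (flp_i L787756) q26982, e3 q26676 (flp_i L787772) q26983, e3 q26677 (flp_i L791689) q27332, e3 q26678 (flp_i L791701) q27333, e3 q26679 (flp_i L791714) q27334, e3 q26680 L784152 q25536, e3 q26681 L784160 q25537, e3 q26682 L784166 q25538, e3 q26683 L784172 q25493, e3 q26684 (flp_i L796225) q27874, e3 q26685 (flp_i L796233) q27875, e3 q26686 L784195 q25495, e3 q26687 L784201 q25496, trivial⟩ (by decide +kernel)

theorem ce_i_417 : ∀ r, r < 64 → sm gi (Qf (26688 + r)) = Qf (tab Gen.i (26688 + r)) :=
  edges_tab (sm gi) Qf (tab Gen.i) 26688 [(26688, 27879), (26689, 27880), (26690, 25498), (26691, 27884), (26692, 25548), (26693, 25549), (26694, 25550), (26695, 25551), (26696, 25552), (26697, 25553), (26698, 25554), (26699, 25558), (26700, 25559), (26701, 27857), (26702, 27858), (26703, 27859), (26704, 26924), (26705, 26925), (26706, 27860), (26707, 27861), (26708, 27862), (26709, 27639), (26710, 27640), (26711, 27863), (26712, 27348), (26713, 27644), (26714, 27645), (26715, 27338), (26716, 27336), (26717, 27339), (26718, 27337),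 (26719, 27335), (26720, 26909), (26721, 26926), (26722, 27714), (26723, 27865), (26724, 27705), (26725, 27706), (26726, 27871), (26727, 27872), (26728, 27873), (26729, 25540), (26730, 25541), (26731, 27915), (26732, 27916), (26733, 27917), (26734, 25544), (26735, 25545), (26736, 27920), (26737, 27921), (26738, 27886), (26739, 25547), (26740, 27885), (26741, 27641), (26742, 27887), (26743, 27888), (26744, 27889), (26745, 27356), (26746, 27355), (26747, 27890), (26748, 25566), (26749, 25574), (26750, 25575), (26751, 25576)]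
    ⟨e3 q26688 (flp_i L796261) q27879, e3 q26689 (flp_i L796269) q27880, e3 q26690 L784220 q25498, e3 q26691 (flp_i L796290) q27884, e3 q26692 L784230 q25548, e3 q26693 L784238 q25549, e3 q26694 L784248 q25550, e3 q26695 L784256 q25551, e3 q26696 L784262 q25552, e3 q26697 L784270 q25553, e3 q26698 L784276 q25554, e3 q26699 L784282 q25558, e3 q26700 L784288 q25559, e3 q26701 (flp_i L796112) q27857, e3 q26702 (flp_i L796118) q27858, e3 q26703 (flp_i L796126) q27859, e3 q26704 (flp_i L787025) q26924, e3 q26705 (flp_i L787037) q26925, e3 q26706 (flp_i L796132) q27860, e3 q26707 (flp_i L796138) q27861, e3 q26708 (flp_i L796142) q27862, e3 q26709 (flp_i L794584) q27639, e3 q26710 (flp_i L794594) q27640, e3 q26711 (flp_i L796153) q27863, e3 q26712 (flp_i L791862) q27348, e3 q26713 (flp_i L794634) q27644, e3 q26714 (flp_i L794642) q27645, e3 q26715 (flp_i L791760) q27338, e3 q26716 (flp_i L791736) q27336, e3 q26717 (flp_i L791774) q27339, e3 q26718 (flp_i L791748) q27337, e3 q26719 (flp_i L791724) q27335, e3 q26720 (flp_i L786865)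 q26909, e3 q26721 (flp_i L787047) q26926, e3 q26722 (flp_i L795183) q27714, e3 q26723 (flp_i L796163) q27865, e3 q26724 (flp_i L795115) q27705, e3 q26725 (flp_i L795127) q27706, e3 q26726 (flp_i L796201) q27871, e3 q26727 (flp_i L796209) q27872, e3 q26728 (flp_i L796215) q27873, e3 q26729 L784481 q25540, e3 q26730 L784487 q25541, e3 q26731 (flp_i L796503) q27915, e3 q26732 (flp_i L796511) q27916, e3 q26733 (flp_i L796517) q27917, e3 q26734 L784515 q25544, e3 q26735 L784521 q25545, e3 q26736 (flp_i L796537) q27920, e3 q26737 (flp_i L796543) q27921, e3 q26738 (flp_i L796306) q27886, e3 q26739 L784545 q25547, e3 q26740 (flp_i L796298) q27885, e3 q26741 (flp_i L794604) q27641, e3 q26742 (flp_i L796316) q27887, e3 q26743 (flp_i L796324) q27888, e3 q26744 (flp_i L796330) q27889, e3 q26745 (flp_i L791945) q27356, e3 q26746 (flp_i L791937) q27355, e3 q26747 (flp_i L796336) q27890, e3 q26748 L784592 q25566, e3 q26749 L784607 q25574, e3 q26750 L784623 q25575, e3 q26751 L784641 q25576, trivial⟩ (by decide +kernel)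

theorem ce_i_418 : ∀ r, r < 64 → sm gi (Qf (26752 + r)) = Qf (tab Gen.i (26752 + r)) :=
  edges_tab (sm gi) Qf (tab Gen.i) 26752 [(26752, 25998), (26753, 26592), (26754, 26007), (26755, 26594), (26756, 27927), (26757, 27928), (26758, 27929), (26759, 26545), (26760, 27938), (26761, 26347), (26762, 26355), (26763, 25586), (26764, 25591), (26765, 25592), (26766, 25593), (26767, 27940), (26768, 26340), (26769, 25964), (26770, 26573), (26771, 26574), (26772, 27941), (26773, 27942), (26774, 26544), (26775, 25973), (26776, 27950), (26777, 25596), (26778, 25697), (26779, 25698), (26780, 26376), (26781, 26307), (26782, 26377), (26783, 26157), (26784, 26268), (26785, 26378), (26786, 26379), (26787, 26380), (26788, 26381), (26789, 26382), (26790, 26383), (26791, 25627), (26792, 26426), (26793, 25629), (26794, 25630), (26795, 25631), (26796, 25632), (26797, 25633), (26798, 25634), (26799, 25635), (26800, 25615), (26801, 27981), (26802, 27982), (26803, 25647), (26804, 25648), (26805, 25649), (26806, 25651), (26807, 25652), (26808, 25653),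 (26809, 25657), (26810, 25658), (26811, 25659), (26812, 25660), (26813, 25663), (26814, 27969), (26815, 26384)]
    ⟨e3 q26752 L784659 q25998, e3 q26753 L784675 q26592, e3 q26754 L784693 q26007, e3 q26755 L784709 q26594, e3 q26756 (flp_i L796589) q27927, e3 q26757 (flp_i L796605) q27928, e3 q26758 (flp_i L796625) q27929, e3 q26759 L784761 q26545, e3 q26760 L796759 q27938, e3 q26761 L784794 q26347, e3 q26762 L784812 q26355, e3 q26763 L784830 q25586, e3 q26764 L784846 q25591, e3 q26765 L784862 q25592, e3 q26766 L784876 q25593, e3 q26767 (flp_i L796811) q27940, e3 q26768 L784910 q26340, e3 q26769 L784928 q25964, e3 q26770 L784942 q26573, e3 q26771 L784958 q26574, e3 q26772 (flp_i L796829) q27941, e3 q26773 (flp_i L796845) q27942, e3 q26774 L784996 q26544, e3 q26775 L785014 q25973, e3 q26776 L796957 q27950, e3 q26777 (flp_i L785034) q25596, e3 q26778 L785061 q25697, e3 q26779 L785077 q25698, e3 q26780 L785093 q26376, e3 q26781 L785107 q26307, e3 q26782 L785124 q26377, e3 q26783 L785138 q26157, e3 q26784 L785154 q26268, e3 q26785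 L785166 q26378, e3 q26786 L785178 q26379, e3 q26787 L785191 q26380, e3 q26788 L785204 q26381, e3 q26789 L785216 q26382, e3 q26790 L785229 q26383, e3 q26791 L785247 q25627, e3 q26792 L785263 q26426, e3 q26793 L785277 q25629, e3 q26794 L785291 q25630, e3 q26795 L785306 q25631, e3 q26796 L785322 q25632, e3 q26797 L785334 q25633, e3 q26798 L785346 q25634, e3 q26799 L785358 q25635, e3 q26800 L785374 q25615, e3 q26801 (flp_i L797417) q27981, e3 q26802 (flp_i L797433) q27982, e3 q26803 L785407 q25647, e3 q26804 L785419 q25648, e3 q26805 L785431 q25649, e3 q26806 L785445 q25651, e3 q26807 L785457 q25652, e3 q26808 L785469 q25653, e3 q26809 L785484 q25657, e3 q26810 L785499 q25658, e3 q26811 L785516 q25659, e3 q26812 L785529 q25660, e3 q26813 L785543 q25663, e3 q26814 (flp_i L797243) q27969, e3 q26815 L785573 q26384, trivial⟩ (by decide +kernel)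

theorem ce_i_419 : ∀ r, r < 64 → sm gi (Qf (26816 + r)) = Qf (tab Gen.i (26816 + r)) :=
  edges_tab (sm gi) Qf (tab Gen.i) 26816 [(26816, 26385), (26817, 27972), (26818, 27973), (26819, 27974), (26820, 27975), (26821, 27976), (26822, 27977), (26823, 27978), (26824, 27979), (26825, 27980), (26826, 25637), (26827, 28010), (26828, 28011), (26829, 26408), (26830, 26409), (26831, 25641), (26832, 28016), (26833, 28017), (26834, 25643), (26835, 25644), (26836, 28021), (26837, 28022), (26838, 28023), (26839, 26400), (26840, 26401), (26841, 26402), (26842, 27986), (26843, 27987), (26844, 27988), (26845, 26287), (26846, 27989), (26847, 27990), (26848, 27991), (26849, 26310), (26850, 26386), (26851, 26154), (26852, 27992), (26853, 27993), (26854, 27994), (26855, 26317), (26856, 28042), (26857, 28043), (26858, 25667), (26859, 25670), (26860, 25672), (26861, 25681), (26862, 25687), (26863, 25979), (26864, 26035), (26865, 26036), (26866, 26063), (26867, 26064), (26868, 28044), (26869, 26599), (26870, 26600), (26871, 26065), (26872, 26066),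 (26873, 26080), (26874, 26081), (26875, 28045), (26876, 26348), (26877, 26349), (26878, 26350), (26879, 25699)]
    ⟨e3 q26816 L785587 q26385, e3 q26817 (flp_i L797288) q27972, e3 q26818 (flp_i L797302) q27973, e3 q26819 (flp_i L797316) q27974, e3 q26820 (flp_i L797331) q27975, e3 q26821 (flp_i L797349) q27976, e3 q26822 (flp_i L797365) q27977, e3 q26823 (flp_i L797377) q27978, e3 q26824 (flp_i L797389) q27979, e3 q26825 (flp_i L797401) q27980, e3 q26826 L785713 q25637, e3 q26827 (flp_i L797809) q28010, e3 q26828 (flp_i L797825) q28011, e3 q26829 L785757 q26408, e3 q26830 L785771 q26409, e3 q26831 L785789 q25641, e3 q26832 (flp_i L797905) q28016, e3 q26833 (flp_i L797921) q28017, e3 q26834 L785828 q25643, e3 q26835 L785840 q25644, e3 q26836 (flp_i L797973) q28021, e3 q26837 (flp_i L797985) q28022, e3 q26838 (flp_i L797999) q28023, e3 q26839 L785888 q26400, e3 q26840 L785900 q26401, e3 q26841 L785910 q26402, e3 q26842 (flp_i L797479) q27986, e3 q26843 (flp_i L797491) q27987, e3 q26844 (flp_i L797503) q27988, e3 q26845 L785950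 q26287, e3 q26846 (flp_i L797519) q27989, e3 q26847 (flp_i L797531) q27990, e3 q26848 (flp_i L797543) q27991, e3 q26849 L785997 q26310, e3 q26850 L786012 q26386, e3 q26851 L786027 q26154, e3 q26852 (flp_i L797562) q27992, e3 q26853 (flp_i L797577) q27993, e3 q26854 (flp_i L797592) q27994, e3 q26855 L786085 q26317, e3 q26856 L798231 q28042, e3 q26857 L798243 q28043, e3 q26858 (flp_i L786116) q25667, e3 q26859 L786141 q25670, e3 q26860 L786156 q25672, e3 q26861 L786173 q25681, e3 q26862 L786189 q25687, e3 q26863 L786205 q25979, e3 q26864 L786221 q26035, e3 q26865 L786237 q26036, e3 q26866 L786249 q26063, e3 q26867 L786263 q26064, e3 q26868 (flp_i L798273) q28044, e3 q26869 L786293 q26599, e3 q26870 L786309 q26600, e3 q26871 L786322 q26065, e3 q26872 L786334 q26066, e3 q26873 L786352 q26080, e3 q26874 L786368 q26081, e3 q26875 (flp_i L798291) q28045, e3 q26876 L786396 q26348, e3 q26877 L786412 q26349, e3 q26878 L786427 q26350, e3 q26879 L786441 q25699, trivial⟩ (by decide +kernel)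

theorem ce_i_420 : ∀ r, r < 64 → sm gi (Qf (26880 + r)) = Qf (tab Gen.i (26880 + r)) :=
  edges_tab (sm gi) Qf (tab Gen.i) 26880 [(26880, 26421), (26881, 26422), (26882, 25700), (26883, 25701), (26884, 25705), (26885, 25706), (26886, 25707), (26887, 27951), (26888, 27952), (26889, 27953), (26890, 28062), (26891, 28065), (26892, 28066), (26893, 26615), (26894, 26616), (26895, 26629), (26896, 26630), (26897, 28067), (26898, 28068), (26899, 26153), (26900, 26155), (26901, 26333), (26902, 26387), (26903, 26388), (26904, 26389), (26905, 26414), (26906, 25891), (26907, 26552), (26908, 26553), (26909, 26720), (26910, 26146), (26911, 25778), (26912, 26398), (26913, 26399), (26914, 26416), (26915, 26417), (26916, 26371), (26917, 26372), (26918, 26403), (26919, 26404), (26920, 26405), (26921, 26406), (26922, 26407), (26923, 26330), (26924, 26704), (26925, 26705), (26926, 26721), (26927, 25766), (26928, 25767), (26929, 25768), (26930, 25769), (26931, 25772), (26932, 25773), (26933, 26282), (26934, 26276), (26935, 25775), (26936, 25776),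 (26937, 25777), (26938, 25780), (26939, 25781), (26940, 25782), (26941, 25783), (26942, 25784), (26943, 26223)]
    ⟨e3 q26880 L786455 q26421, e3 q26881 L786471 q26422, e3 q26882 L786486 q25700, e3 q26883 L786500 q25701, e3 q26884 L786516 q25705, e3 q26885 L786530 q25706, e3 q26886 L786542 q25707, e3 q26887 (flp_i L796985) q27951, e3 q26888 (flp_i L797001) q27952, e3 q26889 (flp_i L797018) q27953, e3 q26890 (flp_i L798556) q28062, e3 q26891 (flp_i L798604) q28065, e3 q26892 (flp_i L798618) q28066, e3 q26893 L786643 q26615, e3 q26894 L786659 q26616, e3 q26895 L786675 q26629, e3 q26896 L786689 q26630, e3 q26897 (flp_i L798636) q28067, e3 q26898 (flp_i L798650) q28068, e3 q26899 L786731 q26153, e3 q26900 L786746 q26155, e3 q26901 L786760 q26333, e3 q26902 L786776 q26387, e3 q26903 L786788 q26388, e3 q26904 L786800 q26389, e3 q26905 L786813 q26414, e3 q26906 L786828 q25891, e3 q26907 L786842 q26552, e3 q26908 L786854 q26553, e3 q26909 L786865 q26720, e3 q26910 L786881 q26146, e3 q26911 L786896 q25778, e3 q26912 L786902 q26398,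 e3 q26913 L786912 q26399, e3 q26914 L786923 q26416, e3 q26915 L786930 q26417, e3 q26916 L786943 q26371, e3 q26917 L786955 q26372, e3 q26918 L786966 q26403, e3 q26919 L786976 q26404, e3 q26920 L786985 q26405, e3 q26921 L786995 q26406, e3 q26922 L787003 q26407, e3 q26923 L787013 q26330, e3 q26924 L787025 q26704, e3 q26925 L787037 q26705, e3 q26926 L787047 q26721, e3 q26927 L787061 q25766, e3 q26928 L787073 q25767, e3 q26929 L787083 q25768, e3 q26930 L787096 q25769, e3 q26931 L787110 q25772, e3 q26932 L787124 q25773, e3 q26933 L787140 q26282, e3 q26934 L787152 q26276, e3 q26935 L787165 q25775, e3 q26936 L787175 q25776, e3 q26937 L787189 q25777, e3 q26938 L787201 q25780, e3 q26939 L787215 q25781, e3 q26940 L787227 q25782, e3 q26941 L787239 q25783, e3 q26942 L787247 q25784, e3 q26943 L787261 q26223, trivial⟩ (by decide +kernel)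

theorem ce_i_421 : ∀ r, r < 64 → sm gi (Qf (26944 + r)) = Qf (tab Gen.i (26944 + r)) :=
  edges_tab (sm gi) Qf (tab Gen.i) 26944 [(26944, 26224), (26945, 25792), (26946, 25793), (26947, 26220), (26948, 25749), (26949, 25750), (26950, 28136), (26951, 28137), (26952, 26240), (26953, 25802), (26954, 25803), (26955, 25804), (26956, 25805), (26957, 25807), (26958, 25808), (26959, 25809), (26960, 25810), (26961, 25811), (26962, 25812), (26963, 25813), (26964, 25815), (26965, 25817), (26966, 28153), (26967, 26149), (26968, 28113), (26969, 28114), (26970, 28115), (26971, 28116), (26972, 28117), (26973, 26234), (26974, 26235), (26975, 28118), (26976, 28119), (26977, 26509), (26978, 28122), (26979, 28123), (26980, 28124), (26981, 28095), (26982, 26675), (26983, 26676), (26984, 28125), (26985, 28126), (26986, 28127), (26987, 28128), (26988, 28129), (26989, 28130), (26990, 26508), (26991, 26264), (26992, 26265), (26993, 25789), (26994, 25790), (26995, 28180), (26996, 28181), (26997, 26258), (26998, 28133), (26999, 28134), (27000, 26511),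 (27001, 25797), (27002, 25798), (27003, 28187), (27004, 28188), (27005, 26247), (27006, 26245), (27007, 26192)]
    ⟨e3 q26944 L787277 q26224, e3 q26945 L787290 q25792, e3 q26946 L787302 q25793, e3 q26947 L787322 q26220, e3 q26948 L787336 q25749, e3 q26949 L787352 q25750, e3 q26950 (flp_i L799535) q28136, e3 q26951 (flp_i L799551) q28137, e3 q26952 L787382 q26240, e3 q26953 L787400 q25802, e3 q26954 L787410 q25803, e3 q26955 L787418 q25804, e3 q26956 L787426 q25805, e3 q26957 L787444 q25807, e3 q26958 L787460 q25808, e3 q26959 L787476 q25809, e3 q26960 L787490 q25810, e3 q26961 L787502 q25811, e3 q26962 L787510 q25812, e3 q26963 L787518 q25813, e3 q26964 L787535 q25815, e3 q26965 L787548 q25817, e3 q26966 L799739 q28153, e3 q26967 L787575 q26149, e3 q26968 (flp_i L799226) q28113, e3 q26969 (flp_i L799242) q28114, e3 q26970 (flp_i L799253) q28115, e3 q26971 (flp_i L799265) q28116, e3 q26972 (flp_i L799279) q28117, e3 q26973 L787640 q26234, e3 q26974 L787656 q26235, e3 q26975 (flp_i L799291) q28118, e3 q26976 (flp_i L799305)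 q28119, e3 q26977 L787694 q26509, e3 q26978 (flp_i L799345) q28122, e3 q26979 (flp_i L799355) q28123, e3 q26980 (flp_i L799367) q28124, e3 q26981 (flp_i L799041) q28095, e3 q26982 L787756 q26675, e3 q26983 L787772 q26676, e3 q26984 (flp_i L799379) q28125, e3 q26985 (flp_i L799393) q28126, e3 q26986 (flp_i L799407) q28127, e3 q26987 (flp_i L799419) q28128, e3 q26988 (flp_i L799431) q28129, e3 q26989 (flp_i L799441) q28130, e3 q26990 L787862 q26508, e3 q26991 L787874 q26264, e3 q26992 L787886 q26265, e3 q26993 L787904 q25789, e3 q26994 L787920 q25790, e3 q26995 (flp_i L800105) q28180, e3 q26996 (flp_i L800121) q28181, e3 q26997 L787966 q26258, e3 q26998 (flp_i L799489) q28133, e3 q26999 (flp_i L799501) q28134, e3 q27000 L787994 q26511, e3 q27001 L788010 q25797, e3 q27002 L788022 q25798, e3 q27003 (flp_i L800207) q28187, e3 q27004 (flp_i L800219) q28188, e3 q27005 L788066 q26247, e3 q27006 L788082 q26245, e3 q27007 L788102 q26192, trivial⟩ (by decide +kernel)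

theorem ce_i_422 : ∀ r, r < 64 → sm gi (Qf (27008 + r)) = Qf (tab Gen.i (27008 + r)) :=
  edges_tab (sm gi) Qf (tab Gen.i) 27008 [(27008, 26647), (27009, 28142), (27010, 28143), (27011, 28144), (27012, 26493), (27013, 28145), (27014, 28146), (27015, 28147), (27016, 28148), (27017, 28149), (27018, 28150), (27019, 28202), (27020, 26284), (27021, 26286), (27022, 25819), (27023, 25900), (27024, 26557), (27025, 25832), (27026, 25833), (27027, 25834), (27028, 25835), (27029, 25836), (27030, 25837), (27031, 25873), (27032, 28206), (27033, 28207), (27034, 28208), (27035, 28209), (27036, 28210), (27037, 28211), (27038, 25981), (27039, 25946), (27040, 26037), (27041, 26038), (27042, 26039), (27043, 26040), (27044, 26041), (27045, 26042), (27046, 25858), (27047, 25859), (27048, 25860), (27049, 26618), (27050, 26619), (27051, 25863), (27052, 25864), (27053, 25865), (27054, 25866), (27055, 25867), (27056, 25868), (27057, 25869), (27058, 25870), (27059, 25871), (27060, 26584), (27061, 28228), (27062, 28229), (27063, 28230), (27064, 26621),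 (27065, 26622), (27066, 28234), (27067, 28235), (27068, 28236), (27069, 28237), (27070, 28238), (27071, 28239)]
    ⟨e3 q27008 L788118 q26647, e3 q27009 (flp_i L799604) q28142, e3 q27010 (flp_i L799614) q28143, e3 q27011 (flp_i L799622) q28144, e3 q27012 L788156 q26493, e3 q27013 (flp_i L799640) q28145, e3 q27014 (flp_i L799656) q28146, e3 q27015 (flp_i L799674) q28147, e3 q27016 (flp_i L799688) q28148, e3 q27017 (flp_i L799700) q28149, e3 q27018 (flp_i L799708) q28150, e3 q27019 L800385 q28202, e3 q27020 L788230 q26284, e3 q27021 L788244 q26286, e3 q27022 (flp_i L788248) q25819, e3 q27023 L788274 q25900, e3 q27024 L788290 q26557, e3 q27025 L788308 q25832, e3 q27026 L788322 q25833, e3 q27027 L788336 q25834, e3 q27028 L788354 q25835, e3 q27029 L788370 q25836, e3 q27030 L788384 q25837, e3 q27031 L788402 q25873, e3 q27032 (flp_i L800465) q28206, e3 q27033 (flp_i L800479) q28207, e3 q27034 (flp_i L800493) q28208, e3 q27035 (flp_i L800511) q28209, e3 q27036 (flp_i L800527) q28210, e3 q27037 (flp_i L800543) q28211, e3 q27038 L788498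 q25981, e3 q27039 L788514 q25946, e3 q27040 L788524 q26037, e3 q27041 L788534 q26038, e3 q27042 L788545 q26039, e3 q27043 L788560 q26040, e3 q27044 L788572 q26041, e3 q27045 L788585 q26042, e3 q27046 L788597 q25858, e3 q27047 L788613 q25859, e3 q27048 L788629 q25860, e3 q27049 L788645 q26618, e3 q27050 L788657 q26619, e3 q27051 L788666 q25863, e3 q27052 L788674 q25864, e3 q27053 L788688 q25865, e3 q27054 L788706 q25866, e3 q27055 L788722 q25867, e3 q27056 L788732 q25868, e3 q27057 L788738 q25869, e3 q27058 L788748 q25870, e3 q27059 L788762 q25871, e3 q27060 L788782 q26584, e3 q27061 (flp_i L800783) q28228, e3 q27062 (flp_i L800797) q28229, e3 q27063 (flp_i L800813) q28230, e3 q27064 L788830 q26621, e3 q27065 L788844 q26622, e3 q27066 (flp_i L800868) q28234, e3 q27067 (flp_i L800876) q28235, e3 q27068 (flp_i L800890) q28236, e3 q27069 (flp_i L800908) q28237, e3 q27070 (flp_i L800924) q28238, e3 q27071 (flp_i L800934) q28239, trivial⟩ (by decide +kernel)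

theorem ce_i_423 : ∀ r, r < 64 → sm gi (Qf (27072 + r)) = Qf (tab Gen.i (27072 + r)) :=
  edges_tab (sm gi) Qf (tab Gen.i) 27072 [(27072, 28240), (27073, 28241), (27074, 25879), (27075, 28212), (27076, 26083), (27077, 25903), (27078, 26607), (27079, 26608), (27080, 26580), (27081, 26581), (27082, 28253), (27083, 26084), (27084, 26431), (27085, 26085), (27086, 26086), (27087, 26087), (27088, 26088), (27089, 26089), (27090, 26090), (27091, 26091), (27092, 25901), (27093, 25904), (27094, 25905), (27095, 25906), (27096, 28089), (27097, 28090), (27098, 25909), (27099, 25911), (27100, 25912), (27101, 25913), (27102, 25914), (27103, 25915), (27104, 25916), (27105, 25919), (27106, 28204), (27107, 28273), (27108, 25972), (27109, 28256), (27110, 28274), (27111, 28275), (27112, 28276), (27113, 26014), (27114, 26002), (27115, 28280), (27116, 26597), (27117, 26006), (27118, 28281), (27119, 28282), (27120, 28283), (27121, 28284), (27122, 28285), (27123, 28286), (27124, 26549), (27125, 28306), (27126, 25920), (27127, 26259), (27128, 26147),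 (27129, 26148), (27130, 26150), (27131, 26151), (27132, 26152), (27133, 26158), (27134, 26159), (27135, 26160)]
    ⟨e3 q27072 (flp_i L800940) q28240, e3 q27073 (flp_i L800954) q28241, e3 q27074 L788944 q25879, e3 q27075 (flp_i L800561) q28212, e3 q27076 L788970 q26083, e3 q27077 L788984 q25903, e3 q27078 L789000 q26607, e3 q27079 L789014 q26608, e3 q27080 L789025 q26580, e3 q27081 L789035 q26581, e3 q27082 (flp_i L801122) q28253, e3 q27083 L789059 q26084, e3 q27084 L789075 q26431, e3 q27085 L789091 q26085, e3 q27086 L789103 q26086, e3 q27087 L789117 q26087, e3 q27088 L789132 q26088, e3 q27089 L789145 q26089, e3 q27090 L789157 q26090, e3 q27091 L789170 q26091, e3 q27092 L789186 q25901, e3 q27093 L789194 q25904, e3 q27094 L789206 q25905, e3 q27095 L789220 q25906, e3 q27096 (flp_i L798958) q28089, e3 q27097 (flp_i L798974) q28090, e3 q27098 L789263 q25909, e3 q27099 L789273 q25911, e3 q27100 L789283 q25912, e3 q27101 L789295 q25913, e3 q27102 L789305 q25914, e3 q27103 L789313 q25915, e3 q27104 L789319 q25916, e3 q27105 L789335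 q25919, e3 q27106 (flp_i L800429) q28204, e3 q27107 (flp_i L801404) q28273, e3 q27108 L789365 q25972, e3 q27109 (flp_i L801164) q28256, e3 q27110 (flp_i L801412) q28274, e3 q27111 (flp_i L801426) q28275, e3 q27112 (flp_i L801440) q28276, e3 q27113 L789417 q26014, e3 q27114 L789435 q26002, e3 q27115 (flp_i L801497) q28280, e3 q27116 L789453 q26597, e3 q27117 L789465 q26006, e3 q27118 (flp_i L801507) q28281, e3 q27119 (flp_i L801517) q28282, e3 q27120 (flp_i L801529) q28283, e3 q27121 (flp_i L801539) q28284, e3 q27122 (flp_i L801547) q28285, e3 q27123 (flp_i L801559) q28286, e3 q27124 L789531 q26549, e3 q27125 L801789 q28306, e3 q27126 (flp_i L789547) q25920, e3 q27127 L789573 q26259, e3 q27128 L789589 q26147, e3 q27129 L789601 q26148, e3 q27130 L789613 q26150, e3 q27131 L789623 q26151, e3 q27132 L789634 q26152, e3 q27133 L789642 q26158, e3 q27134 L789652 q26159, e3 q27135 L789663 q26160, trivial⟩ (by decide +kernel)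

theorem ce_i_424 : ∀ r, r < 64 → sm gi (Qf (27136 + r)) = Qf (tab Gen.i (27136 + r)) :=
  edges_tab (sm gi) Qf (tab Gen.i) 27136 [(27136, 26161), (27137, 25930), (27138, 28320), (27139, 28152), (27140, 26166), (27141, 26167), (27142, 26168), (27143, 26169), (27144, 26170), (27145, 26171), (27146, 26174), (27147, 26175), (27148, 26176), (27149, 25966), (27150, 25940), (27151, 28336), (27152, 28337), (27153, 25974), (27154, 25975), (27155, 25976), (27156, 25977), (27157, 25978), (27158, 28220), (27159, 28221), (27160, 25987), (27161, 25988), (27162, 25989), (27163, 25951), (27164, 25952), (27165, 28350), (27166, 28351), (27167, 28352), (27168, 26000), (27169, 26001), (27170, 26003), (27171, 26004), (27172, 26005), (27173, 26008), (27174, 26009), (27175, 26010), (27176, 26011), (27177, 26012), (27178, 28366), (27179, 27943), (27180, 26587), (27181, 28335), (27182, 25968), (27183, 28369), (27184, 28370), (27185, 25970), (27186, 25971), (27187, 28373), (27188, 28374), (27189, 28290), (27190, 27949), (27191, 28340), (27192, 28341),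 (27193, 28342), (27194, 28343), (27195, 28046), (27196, 26543), (27197, 28218), (27198, 28219), (27199, 25983)]
    ⟨e3 q27136 L789670 q26161, e3 q27137 L789685 q25930, e3 q27138 (flp_i L801966) q28320, e3 q27139 (flp_i L799737) q28152, e3 q27140 L789710 q26166, e3 q27141 L789718 q26167, e3 q27142 L789727 q26168, e3 q27143 L789735 q26169, e3 q27144 L789741 q26170, e3 q27145 L789749 q26171, e3 q27146 L789761 q26174, e3 q27147 L789773 q26175, e3 q27148 L789783 q26176, e3 q27149 L789795 q25966, e3 q27150 L789811 q25940, e3 q27151 (flp_i L802119) q28336, e3 q27152 (flp_i L802135) q28337, e3 q27153 L789846 q25974, e3 q27154 L789856 q25975, e3 q27155 L789864 q25976, e3 q27156 L789874 q25977, e3 q27157 L789880 q25978, e3 q27158 (flp_i L800684) q28220, e3 q27159 (flp_i L800700) q28221, e3 q27160 L789919 q25987, e3 q27161 L789933 q25988, e3 q27162 L789947 q25989, e3 q27163 L789959 q25951, e3 q27164 L789967 q25952, e3 q27165 (flp_i L802295) q28350, e3 q27166 (flp_i L802305) q28351, e3 q27167 (flp_i L802312) q28352, e3 q27168 L789995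 q26000, e3 q27169 L790007 q26001, e3 q27170 L790015 q26003, e3 q27171 L790023 q26004, e3 q27172 L790029 q26005, e3 q27173 L790039 q26008, e3 q27174 L790053 q26009, e3 q27175 L790061 q26010, e3 q27176 L790067 q26011, e3 q27177 L790071 q26012, e3 q27178 L802421 q28366, e3 q27179 (flp_i L796863) q27943, e3 q27180 L790098 q26587, e3 q27181 (flp_i L802105) q28335, e3 q27182 L790122 q25968, e3 q27183 (flp_i L802464) q28369, e3 q27184 (flp_i L802480) q28370, e3 q27185 L790153 q25970, e3 q27186 L790167 q25971, e3 q27187 (flp_i L802511) q28373, e3 q27188 (flp_i L802525) q28374, e3 q27189 (flp_i L801610) q28290, e3 q27190 (flp_i L796953) q27949, e3 q27191 (flp_i L802170) q28340, e3 q27192 (flp_i L802180) q28341, e3 q27193 (flp_i L802190) q28342, e3 q27194 (flp_i L802200) q28343, e3 q27195 (flp_i L798307) q28046, e3 q27196 L790265 q26543, e3 q27197 (flp_i L800653) q28218, e3 q27198 (flp_i L800669) q28219, e3 q27199 L790296 q25983, trivial⟩ (by decide +kernel)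

theorem ce_i_425 : ∀ r, r < 64 → sm gi (Qf (27200 + r)) = Qf (tab Gen.i (27200 + r)) :=
  edges_tab (sm gi) Qf (tab Gen.i) 27200 [(27200, 25984), (27201, 28386), (27202, 28387), (27203, 28388), (27204, 26523), (27205, 26524), (27206, 26525), (27207, 28347), (27208, 28348), (27209, 28349), (27210, 25991), (27211, 25992), (27212, 28397), (27213, 28398), (27214, 28399), (27215, 25995), (27216, 25996), (27217, 25997), (27218, 28404), (27219, 28405), (27220, 28406), (27221, 28407), (27222, 28408), (27223, 27930), (27224, 26561), (27225, 28357), (27226, 28358), (27227, 28295), (27228, 28294), (27229, 28359), (27230, 28360), (27231, 28299), (27232, 27932), (27233, 28361), (27234, 28362), (27235, 28363), (27236, 28364), (27237, 28426), (27238, 28427), (27239, 26015), (27240, 26016), (27241, 28331), (27242, 26018), (27243, 26024), (27244, 26025), (27245, 28429), (27246, 26617), (27247, 26365), (27248, 26366), (27249, 26631), (27250, 26609), (27251, 26623), (27252, 26635), (27253, 26636), (27254, 28047), (27255, 28048), (27256, 28049),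 (27257, 28222), (27258, 28223), (27259, 28224), (27260, 28225), (27261, 28226), (27262, 28227), (27263, 26052)]
    ⟨e3 q27200 L790308 q25984, e3 q27201 (flp_i L802656) q28386, e3 q27202 (flp_i L802668) q28387, e3 q27203 (flp_i L802680) q28388, e3 q27204 L790356 q26523, e3 q27205 L790368 q26524, e3 q27206 L790382 q26525, e3 q27207 (flp_i L802255) q28347, e3 q27208 (flp_i L802269) q28348, e3 q27209 (flp_i L802283) q28349, e3 q27210 L790424 q25991, e3 q27211 L790430 q25992, e3 q27212 (flp_i L802794) q28397, e3 q27213 (flp_i L802800) q28398, e3 q27214 (flp_i L802805) q28399, e3 q27215 L790460 q25995, e3 q27216 L790468 q25996, e3 q27217 L790474 q25997, e3 q27218 (flp_i L802842) q28404, e3 q27219 (flp_i L802850) q28405, e3 q27220 (flp_i L802858) q28406, e3 q27221 (flp_i L802868) q28407, e3 q27222 (flp_i L802876) q28408, e3 q27223 (flp_i L796643) q27930, e3 q27224 L790538 q26561, e3 q27225 (flp_i L802347) q28357, e3 q27226 (flp_i L802357) q28358, e3 q27227 (flp_i L801674) q28295, e3 q27228 (flp_i L801654) q28294, e3 q27229 (flp_i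 L802365) q28359, e3 q27230 (flp_i L802371) q28360, e3 q27231 (flp_i L801722) q28299, e3 q27232 (flp_i L796679) q27932, e3 q27233 (flp_i L802383) q28361, e3 q27234 (flp_i L802397) q28362, e3 q27235 (flp_i L802405) q28363, e3 q27236 (flp_i L802411) q28364, e3 q27237 L803014 q28426, e3 q27238 L803022 q28427, e3 q27239 (flp_i L790631) q26015, e3 q27240 (flp_i L790637) q26016, e3 q27241 (flp_i L802058) q28331, e3 q27242 (flp_i L790666) q26018, e3 q27243 L790686 q26024, e3 q27244 L790701 q26025, e3 q27245 (flp_i L803055) q28429, e3 q27246 L790722 q26617, e3 q27247 L790736 q26365, e3 q27248 L790750 q26366, e3 q27249 L790764 q26631, e3 q27250 L790778 q26609, e3 q27251 L790788 q26623, e3 q27252 L790798 q26635, e3 q27253 L790806 q26636, e3 q27254 (flp_i L798323) q28047, e3 q27255 (flp_i L798339) q28048, e3 q27256 (flp_i L798354) q28049, e3 q27257 (flp_i L800709) q28222, e3 q27258 (flp_i L800719) q28223, e3 q27259 (flp_i L800729) q28224, e3 q27260 (flp_i L800741) q28225, e3 q27261 (flp_i L800755) q28226, e3 q27262 (flp_i L800769) q28227,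 e3 q27263 L790907 q26052, trivial⟩ (by decide +kernel)

theorem ce_i_426 : ∀ r, r < 64 → sm gi (Qf (27264 + r)) = Qf (tab Gen.i (27264 + r)) :=
  edges_tab (sm gi) Qf (tab Gen.i) 27264 [(27264, 26053), (27265, 26054), (27266, 26056), (27267, 26057), (27268, 26058), (27269, 26067), (27270, 26068), (27271, 26601), (27272, 28445), (27273, 28446), (27274, 28447), (27275, 26602), (27276, 28448), (27277, 28449), (27278, 26413), (27279, 26625), (27280, 26370), (27281, 28050), (27282, 28051), (27283, 28055), (27284, 28056), (27285, 28450), (27286, 26513), (27287, 28461), (27288, 26070), (27289, 26077), (27290, 26082), (27291, 26620), (27292, 26582), (27293, 26583), (27294, 28462), (27295, 26612), (27296, 26613), (27297, 28057), (27298, 28058), (27299, 28255), (27300, 28233), (27301, 28261), (27302, 28264), (27303, 28265), (27304, 28266), (27305, 28267), (27306, 28268), (27307, 28269), (27308, 28270), (27309, 28271), (27310, 28272), (27311, 26107), (27312, 26108), (27313, 26109), (27314, 26116), (27315, 26117), (27316, 26118), (27317,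 26119), (27318, 26120), (27319, 26132), (27320, 26133), (27321, 26134), (27322, 26138), (27323, 26139), (27324, 26140), (27325, 28105), (27326, 26260), (27327, 26261)]
    ⟨e3 q27264 L790921 q26053, e3 q27265 L790936 q26054, e3 q27266 L790946 q26056, e3 q27267 L790956 q26057, e3 q27268 L790970 q26058, e3 q27269 L790980 q26067, e3 q27270 L790988 q26068, e3 q27271 L791006 q26601, e3 q27272 (flp_i L803237) q28445, e3 q27273 (flp_i L803251) q28446, e3 q27274 (flp_i L803265) q28447, e3 q27275 L791052 q26602, e3 q27276 (flp_i L803277) q28448, e3 q27277 (flp_i L803287) q28449, e3 q27278 L791088 q26413, e3 q27279 L791106 q26625, e3 q27280 L791124 q26370, e3 q27281 (flp_i L798368) q28050, e3 q27282 (flp_i L798382) q28051, e3 q27283 (flp_i L798444) q28055, e3 q27284 (flp_i L798456) q28056, e3 q27285 (flp_i L803299) q28450, e3 q27286 L791178 q26513, e3 q27287 L803418 q28461, e3 q27288 (flp_i L791192) q26070, e3 q27289 L791220 q26077, e3 q27290 L791232 q26082, e3 q27291 L791240 q26620, e3 q27292 L791250 q26582, e3 q27293 L791260 q26583,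 e3 q27294 (flp_i L803448) q28462, e3 q27295 L791276 q26612, e3 q27296 L791286 q26613, e3 q27297 (flp_i L798476) q28057, e3 q27298 (flp_i L798492) q28058, e3 q27299 (flp_i L801150) q28255, e3 q27300 (flp_i L800856) q28233, e3 q27301 (flp_i L801232) q28261, e3 q27302 (flp_i L801279) q28264, e3 q27303 (flp_i L801295) q28265, e3 q27304 (flp_i L801306) q28266, e3 q27305 (flp_i L801320) q28267, e3 q27306 (flp_i L801334) q28268, e3 q27307 (flp_i L801346) q28269, e3 q27308 (flp_i L801360) q28270, e3 q27309 (flp_i L801374) q28271, e3 q27310 (flp_i L801388) q28272, e3 q27311 L791453 q26107, e3 q27312 L791467 q26108, e3 q27313 L791484 q26109, e3 q27314 L791494 q26116, e3 q27315 L791504 q26117, e3 q27316 L791516 q26118, e3 q27317 L791526 q26119, e3 q27318 L791538 q26120, e3 q27319 L791548 q26132, e3 q27320 L791556 q26133, e3 q27321 L791566 q26134, e3 q27322 L791581 q26138, e3 q27323 L791588 q26139, e3 q27324 L791601 q26140, e3 q27325 (flp_i L799141) q28105, e3 q27326 L791624 q26260, e3 q27327 L791638 q26261, trivial⟩ (by decide +kernel)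

theorem ce_i_427 : ∀ r, r < 64 → sm gi (Qf (27328 + r)) = Qf (tab Gen.i (27328 + r)) :=
  edges_tab (sm gi) Qf (tab Gen.i) 27328 [(27328, 26262), (27329, 28483), (27330, 28484), (27331, 28485), (27332, 26677), (27333, 26678), (27334, 26679), (27335, 26719), (27336, 26716), (27337, 26718), (27338, 26715), (27339, 26717), (27340, 28486), (27341, 28487), (27342, 28488), (27343, 28489), (27344, 28490), (27345, 28491), (27346, 26445), (27347, 26672), (27348, 26712), (27349, 26125), (27350, 26126), (27351, 28519), (27352, 28520), (27353, 26128), (27354, 28524), (27355, 26746), (27356, 26745), (27357, 26412), (27358, 28492), (27359, 28493), (27360, 28530), (27361, 26395), (27362, 26394), (27363, 28495), (27364, 28102), (27365, 26142), (27366, 26516), (27367, 28094), (27368, 28308), (27369, 28309), (27370, 28310), (27371, 28154), (27372, 28155), (27373, 28311), (27374, 28312), (27375, 28313), (27376, 28078), (27377, 28079), (27378, 28039), (27379, 28080), (27380, 26283), (27381, 27958), (27382, 27959), (27383, 28314), (27384, 28315),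 (27385, 28316), (27386, 28317), (27387, 28318), (27388, 28319), (27389, 26652), (27390, 26653), (27391, 26164)]
    ⟨e3 q27328 L791653 q26262, e3 q27329 (flp_i L803683) q28483, e3 q27330 (flp_i L803697) q28484, e3 q27331 (flp_i L803715) q28485, e3 q27332 L791689 q26677, e3 q27333 L791701 q26678, e3 q27334 L791714 q26679, e3 q27335 L791724 q26719, e3 q27336 L791736 q26716, e3 q27337 L791748 q26718, e3 q27338 L791760 q26715, e3 q27339 L791774 q26717, e3 q27340 (flp_i L803725) q28486, e3 q27341 (flp_i L803735) q28487, e3 q27342 (flp_i L803743) q28488, e3 q27343 (flp_i L803755) q28489, e3 q27344 (flp_i L803765) q28490, e3 q27345 (flp_i L803777) q28491, e3 q27346 L791834 q26445, e3 q27347 L791848 q26672, e3 q27348 L791862 q26712, e3 q27349 L791874 q26125, e3 q27350 L791886 q26126, e3 q27351 (flp_i L804087) q28519, e3 q27352 (flp_i L804101) q28520, e3 q27353 L791917 q26128, e3 q27354 (flp_i L804140) q28524, e3 q27355 L791937 q26746, e3 q27356 L791945 q26745, e3 q27357 L791955 q26412, e3 q27358 (flp_i L803789) q28492, e3 q27359 (flp_i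 L803799) q28493, e3 q27360 L804184 q28530, e3 q27361 L791986 q26395, e3 q27362 L791996 q26394, e3 q27363 (flp_i L803819) q28495, e3 q27364 (flp_i L799110) q28102, e3 q27365 (flp_i L792015) q26142, e3 q27366 L792029 q26516, e3 q27367 (flp_i L799025) q28094, e3 q27368 (flp_i L801829) q28308, e3 q27369 (flp_i L801845) q28309, e3 q27370 (flp_i L801856) q28310, e3 q27371 (flp_i L799766) q28154, e3 q27372 (flp_i L799782) q28155, e3 q27373 (flp_i L801866) q28311, e3 q27374 (flp_i L801878) q28312, e3 q27375 (flp_i L801890) q28313, e3 q27376 (flp_i L798806) q28078, e3 q27377 (flp_i L798822) q28079, e3 q27378 (flp_i L798198) q28039, e3 q27379 (flp_i L798835) q28080, e3 q27380 L792180 q26283, e3 q27381 (flp_i L797093) q27958, e3 q27382 (flp_i L797109) q27959, e3 q27383 (flp_i L801898) q28314, e3 q27384 (flp_i L801908) q28315, e3 q27385 (flp_i L801916) q28316, e3 q27386 (flp_i L801922) q28317, e3 q27387 (flp_i L801935) q28318, e3 q27388 (flp_i L801948) q28319, e3 q27389 L792261 q26652, e3 q27390 L792275 q26653, e3 q27391 L792289 q26164,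 trivial⟩ (by decide +kernel)

theorem ce_i_428 : ∀ r, r < 64 → sm gi (Qf (27392 + r)) = Qf (tab Gen.i (27392 + r)) :=
  edges_tab (sm gi) Qf (tab Gen.i) 27392 [(27392, 28560), (27393, 26455), (27394, 26456), (27395, 28324), (27396, 28325), (27397, 28326), (27398, 28327), (27399, 28328), (27400, 28329), (27401, 28330), (27402, 26460), (27403, 26461), (27404, 28332), (27405, 28333), (27406, 28334), (27407, 26225), (27408, 26228), (27409, 26229), (27410, 26230), (27411, 26231), (27412, 26232), (27413, 26236), (27414, 26244), (27415, 26246), (27416, 26248), (27417, 26250), (27418, 26251), (27419, 26252), (27420, 26253), (27421, 26254), (27422, 26255), (27423, 26256), (27424, 26257), (27425, 28192), (27426, 26266), (27427, 26195), (27428, 28598), (27429, 26197), (27430, 28600), (27431, 26285), (27432, 26288), (27433, 26289), (27434, 26294), (27435, 26295), (27436, 26296), (27437, 26297), (27438, 26298), (27439, 26299), (27440, 26300), (27441, 28612), (27442, 26306), (27443, 26308), (27444, 26309), (27445, 26311), (27446, 28617),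 (27447, 26315), (27448, 28619), (27449, 26318), (27450, 28621), (27451, 26219), (27452, 28135), (27453, 26645), (27454, 26440), (27455, 26441)]
    ⟨e3 q27392 (flp_i L804506) q28560, e3 q27393 L792309 q26455, e3 q27394 L792317 q26456, e3 q27395 (flp_i L801999) q28324, e3 q27396 (flp_i L802007) q28325, e3 q27397 (flp_i L802012) q28326, e3 q27398 (flp_i L802022) q28327, e3 q27399 (flp_i L802030) q28328, e3 q27400 (flp_i L802036) q28329, e3 q27401 (flp_i L802042) q28330, e3 q27402 L792365 q26460, e3 q27403 L792377 q26461, e3 q27404 (flp_i L802072) q28332, e3 q27405 (flp_i L802084) q28333, e3 q27406 (flp_i L802090) q28334, e3 q27407 L792406 q26225, e3 q27408 L792416 q26228, e3 q27409 L792426 q26229, e3 q27410 L792435 q26230, e3 q27411 L792443 q26231, e3 q27412 L792451 q26232, e3 q27413 L792461 q26236, e3 q27414 L792477 q26244, e3 q27415 L792491 q26246, e3 q27416 L792503 q26248, e3 q27417 L792513 q26250, e3 q27418 L792525 q26251, e3 q27419 L792533 q26252, e3 q27420 L792541 q26253, e3 q27421 L792547 q26254, e3 q27422 L792555 q26255,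 e3 q27423 L792563 q26256, e3 q27424 L792571 q26257, e3 q27425 (flp_i L800285) q28192, e3 q27426 L792597 q26266, e3 q27427 L792609 q26195, e3 q27428 (flp_i L804850) q28598, e3 q27429 L792631 q26197, e3 q27430 (flp_i L804874) q28600, e3 q27431 L792653 q26285, e3 q27432 L792663 q26288, e3 q27433 L792671 q26289, e3 q27434 L792683 q26294, e3 q27435 L792691 q26295, e3 q27436 L792701 q26296, e3 q27437 L792709 q26297, e3 q27438 L792717 q26298, e3 q27439 L792727 q26299, e3 q27440 L792735 q26300, e3 q27441 L804998 q28612, e3 q27442 L792758 q26306, e3 q27443 L792771 q26308, e3 q27444 L792777 q26309, e3 q27445 L792789 q26311, e3 q27446 L805051 q28617, e3 q27447 L792810 q26315, e3 q27448 L805073 q28619, e3 q27449 L792833 q26318, e3 q27450 L805096 q28621, e3 q27451 (flp_i L792848) q26219, e3 q27452 (flp_i L799519) q28135, e3 q27453 L792879 q26645, e3 q27454 L792891 q26440, e3 q27455 L792903 q26441, trivial⟩ (by decide +kernel)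

theorem ce_i_429 : ∀ r, r < 64 → sm gi (Qf (27456 + r)) = Qf (tab Gen.i (27456 + r)) :=
  edges_tab (sm gi) Qf (tab Gen.i) 27456 [(27456, 28131), (27457, 28132), (27458, 26497), (27459, 28579), (27460, 26641), (27461, 26496), (27462, 28580), (27463, 28581), (27464, 28582), (27465, 28583), (27466, 28584), (27467, 26648), (27468, 28162), (27469, 28163), (27470, 28585), (27471, 26485), (27472, 26486), (27473, 26239), (27474, 28643), (27475, 28141), (27476, 26242), (27477, 28647), (27478, 26654), (27479, 26655), (27480, 28586), (27481, 28191), (27482, 26319), (27483, 28587), (27484, 28190), (27485, 26479), (27486, 26646), (27487, 28588), (27488, 28589), (27489, 28590), (27490, 28591), (27491, 28592), (27492, 28593), (27493, 28594), (27494, 28595), (27495, 28668), (27496, 28184), (27497, 28307), (27498, 28497), (27499, 28498), (27500, 28499), (27501, 26484), (27502, 28178), (27503, 28179), (27504, 26649), (27505, 27960), (27506, 27961), (27507, 26270), (27508, 26271), (27509, 28678), (27510, 28679), (27511, 28680), (27512, 26274),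 (27513, 26275), (27514, 28685), (27515, 28686), (27516, 28687), (27517, 28121), (27518, 26279), (27519, 26280)]
    ⟨e3 q27456 (flp_i L799459) q28131, e3 q27457 (flp_i L799475) q28132, e3 q27458 L792931 q26497, e3 q27459 (flp_i L804651) q28579, e3 q27460 L792957 q26641, e3 q27461 L792973 q26496, e3 q27462 (flp_i L804665) q28580, e3 q27463 (flp_i L804675) q28581, e3 q27464 (flp_i L804683) q28582, e3 q27465 (flp_i L804691) q28583, e3 q27466 (flp_i L804697) q28584, e3 q27467 L793014 q26648, e3 q27468 (flp_i L799863) q28162, e3 q27469 (flp_i L799879) q28163, e3 q27470 (flp_i L804710) q28585, e3 q27471 L793048 q26485, e3 q27472 L793058 q26486, e3 q27473 L793073 q26239, e3 q27474 (flp_i L805336) q28643, e3 q27475 (flp_i L799584) q28141, e3 q27476 L793099 q26242, e3 q27477 (flp_i L805371) q28647, e3 q27478 L793115 q26654, e3 q27479 L793127 q26655, e3 q27480 (flp_i L804726) q28586, e3 q27481 (flp_i L800265) q28191, e3 q27482 L793149 q26319, e3 q27483 (flp_i L804740) q28587, e3 q27484 (flp_i L800249) q28190, e3 q27485 L793173 q26479,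 e3 q27486 L793187 q26646, e3 q27487 (flp_i L804752) q28588, e3 q27488 (flp_i L804764) q28589, e3 q27489 (flp_i L804770) q28590, e3 q27490 (flp_i L804778) q28591, e3 q27491 (flp_i L804784) q28592, e3 q27492 (flp_i L804794) q28593, e3 q27493 (flp_i L804802) q28594, e3 q27494 (flp_i L804812) q28595, e3 q27495 L805535 q28668, e3 q27496 (flp_i L800171) q28184, e3 q27497 (flp_i L801813) q28307, e3 q27498 (flp_i L803844) q28497, e3 q27499 (flp_i L803858) q28498, e3 q27500 (flp_i L803874) q28499, e3 q27501 L793299 q26484, e3 q27502 (flp_i L800075) q28178, e3 q27503 (flp_i L800087) q28179, e3 q27504 L793325 q26649, e3 q27505 (flp_i L797124) q27960, e3 q27506 (flp_i L797140) q27961, e3 q27507 L793354 q26270, e3 q27508 L793360 q26271, e3 q27509 (flp_i L805635) q28678, e3 q27510 (flp_i L805643) q28679, e3 q27511 (flp_i L805648) q28680, e3 q27512 L793390 q26274, e3 q27513 L793396 q26275, e3 q27514 (flp_i L805685) q28685, e3 q27515 (flp_i L805691) q28686, e3 q27516 (flp_i L805695) q28687, e3 q27517 (flp_i L799333) q28121, e3 q27518 L793427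 q26279, e3 q27519 L793439 q26280, trivial⟩ (by decide +kernel)

theorem ce_i_430 : ∀ r, r < 64 → sm gi (Qf (27520 + r)) = Qf (tab Gen.i (27520 + r)) :=
  edges_tab (sm gi) Qf (tab Gen.i) 27520 [(27520, 26281), (27521, 28693), (27522, 28694), (27523, 28120), (27524, 28081), (27525, 28548), (27526, 28203), (27527, 26658), (27528, 28601), (27529, 28200), (27530, 28034), (27531, 28602), (27532, 26515), (27533, 26368), (27534, 28707), (27535, 26367), (27536, 28603), (27537, 28604), (27538, 28605), (27539, 28606), (27540, 28607), (27541, 28712), (27542, 28609), (27543, 28610), (27544, 28716), (27545, 26301), (27546, 26326), (27547, 26480), (27548, 26331), (27549, 28719), (27550, 28613), (27551, 27956), (27552, 28614), (27553, 28722), (27554, 28038), (27555, 28616), (27556, 28650), (27557, 26312), (27558, 26314), (27559, 26316), (27560, 28030), (27561, 28109), (27562, 28654), (27563, 27563), (27564, 27564), (27565, 26324), (27566, 27957), (27567, 27965), (27568, 28717), (27569, 28082), (27570, 26337), (27571, 26534), (27572, 26558),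 (27573, 26598), (27574, 26593), (27575, 26576), (27576, 26577), (27577, 27939), (27578, 28059), (27579, 28060), (27580, 28061), (27581, 26571), (27582, 26572), (27583, 26578)]
    ⟨e3 q27520 L793447 q26281, e3 q27521 (flp_i L805746) q28693, e3 q27522 (flp_i L805754) q28694, e3 q27523 (flp_i L799319) q28120, e3 q27524 (flp_i L798850) q28081, e3 q27525 (flp_i L804387) q28548, e3 q27526 (flp_i L800411) q28203, e3 q27527 L793513 q26658, e3 q27528 (flp_i L804888) q28601, e3 q27529 (flp_i L800371) q28200, e3 q27530 (flp_i L798133) q28034, e3 q27531 (flp_i L804898) q28602, e3 q27532 L793547 q26515, e3 q27533 L793559 q26368, e3 q27534 L805872 q28707, e3 q27535 L793579 q26367, e3 q27536 (flp_i L804910) q28603, e3 q27537 (flp_i L804918) q28604, e3 q27538 (flp_i L804928) q28605, e3 q27539 (flp_i L804940) q28606, e3 q27540 (flp_i L804950) q28607, e3 q27541 L805922 q28712, e3 q27542 (flp_i L804972) q28609, e3 q27543 (flp_i L804984) q28610, e3 q27544 L805948 q28716, e3 q27545 (flp_i L793643) q26301, e3 q27546 L793654 q26326, e3 q27547 L793661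 q26480, e3 q27548 L793670 q26331, e3 q27549 L805967 q28719, e3 q27550 (flp_i L805016) q28613, e3 q27551 (flp_i L797067) q27956, e3 q27552 (flp_i L805028) q28614, e3 q27553 L805996 q28722, e3 q27554 (flp_i L798181) q28038, e3 q27555 (flp_i L805047) q28616, e3 q27556 (flp_i L805405) q28650, e3 q27557 (flp_i L793746) q26312, e3 q27558 (flp_i L793754) q26314, e3 q27559 (flp_i L793763) q26316, e3 q27560 (flp_i L798083) q28030, e3 q27561 (flp_i L799179) q28109, e3 q27562 (flp_i L805433) q28654, e3 q27563 L793811 q27563, e3 q27564 L793829 q27564, e3 q27565 (flp_i L793833) q26324, e3 q27566 (flp_i L797078) q27957, e3 q27567 (flp_i L797185) q27965, e3 q27568 (flp_i L805956) q28717, e3 q27569 (flp_i L798866) q28082, e3 q27570 L793890 q26337, e3 q27571 L793906 q26534, e3 q27572 L793922 q26558, e3 q27573 L793936 q26598, e3 q27574 L793946 q26593, e3 q27575 L793958 q26576, e3 q27576 L793970 q26577, e3 q27577 (flp_i L796791) q27939, e3 q27578 (flp_i L798510) q28059, e3 q27579 (flp_i L798526) q28060, e3 q27580 (flp_i L798542) q28061, e3 q27581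 L794038 q26571, e3 q27582 L794050 q26572, e3 q27583 L794062 q26578, trivial⟩ (by decide +kernel)

theorem ce_i_431 : ∀ r, r < 64 → sm gi (Qf (27584 + r)) = Qf (tab Gen.i (27584 + r)) :=
  edges_tab (sm gi) Qf (tab Gen.i) 27584 [(27584, 26579), (27585, 26575), (27586, 26392), (27587, 26393), (27588, 26397), (27589, 26363), (27590, 26510), (27591, 28432), (27592, 28433), (27593, 28705), (27594, 26603), (27595, 28100), (27596, 28101), (27597, 26410), (27598, 26411), (27599, 27954), (27600, 27955), (27601, 27962), (27602, 27963), (27603, 27964), (27604, 27966), (27605, 27967), (27606, 27968), (27607, 27997), (27608, 27998), (27609, 27999), (27610, 28083), (27611, 28084), (27612, 28085), (27613, 28086), (27614, 28087), (27615, 26637), (27616, 26638), (27617, 28739), (27618, 28740), (27619, 28510), (27620, 28531), (27621, 26639), (27622, 28096), (27623, 28097), (27624, 28098), (27625, 28028), (27626, 28029), (27627, 28031), (27628, 28103), (27629, 28104), (27630, 28106), (27631, 28107), (27632, 28108), (27633, 28014), (27634, 28015),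 (27635, 28746), (27636, 28526), (27637, 28088), (27638, 28099), (27639, 26709), (27640, 26710), (27641, 26741), (27642, 28063), (27643, 28064), (27644, 26713), (27645, 26714), (27646, 27970), (27647, 27971)]
    ⟨e3 q27584 L794070 q26579, e3 q27585 L794080 q26575, e3 q27586 L794090 q26392, e3 q27587 L794100 q26393, e3 q27588 L794116 q26397, e3 q27589 L794132 q26363, e3 q27590 L794144 q26510, e3 q27591 (flp_i L803094) q28432, e3 q27592 (flp_i L803108) q28433, e3 q27593 (flp_i L805860) q28705, e3 q27594 L794182 q26603, e3 q27595 (flp_i L799089) q28100, e3 q27596 (flp_i L799101) q28101, e3 q27597 L794202 q26410, e3 q27598 L794210 q26411, e3 q27599 (flp_i L797034) q27954, e3 q27600 (flp_i L797050) q27955, e3 q27601 (flp_i L797151) q27962, e3 q27602 (flp_i L797163) q27963, e3 q27603 (flp_i L797175) q27964, e3 q27604 (flp_i L797197) q27966, e3 q27605 (flp_i L797211) q27967, e3 q27606 (flp_i L797225) q27968, e3 q27607 (flp_i L797637) q27997, e3 q27608 (flp_i L797651) q27998, e3 q27609 (flp_i L797665) q27999, e3 q27610 (flp_i L798881)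 q28083, e3 q27611 (flp_i L798897) q28084, e3 q27612 (flp_i L798908) q28085, e3 q27613 (flp_i L798920) q28086, e3 q27614 (flp_i L798932) q28087, e3 q27615 L794377 q26637, e3 q27616 L794387 q26638, e3 q27617 (flp_i L806188) q28739, e3 q27618 (flp_i L806198) q28740, e3 q27619 (flp_i L803997) q28510, e3 q27620 (flp_i L804196) q28531, e3 q27621 L794435 q26639, e3 q27622 (flp_i L799051) q28096, e3 q27623 (flp_i L799061) q28097, e3 q27624 (flp_i L799069) q28098, e3 q27625 (flp_i L798063) q28028, e3 q27626 (flp_i L798075) q28029, e3 q27627 (flp_i L798099) q28031, e3 q27628 (flp_i L799122) q28103, e3 q27629 (flp_i L799132) q28104, e3 q27630 (flp_i L799151) q28106, e3 q27631 (flp_i L799161) q28107, e3 q27632 (flp_i L799169) q28108, e3 q27633 (flp_i L797873) q28014, e3 q27634 (flp_i L797887) q28015, e3 q27635 (flp_i L806247) q28746, e3 q27636 (flp_i L804160) q28526, e3 q27637 (flp_i L798942) q28088, e3 q27638 (flp_i L799077) q28099, e3 q27639 L794584 q26709, e3 q27640 L794594 q26710, e3 q27641 L794604 q26741, e3 q27642 (flp_i L798572)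 q28063, e3 q27643 (flp_i L798588) q28064, e3 q27644 L794634 q26713, e3 q27645 L794642 q26714, e3 q27646 (flp_i L797259) q27970, e3 q27647 (flp_i L797275) q27971, trivial⟩ (by decide +kernel)

theorem ce_i_432 : ∀ r, r < 64 → sm gi (Qf (27648 + r)) = Qf (tab Gen.i (27648 + r)) :=
  edges_tab (sm gi) Qf (tab Gen.i) 27648 [(27648, 26457), (27649, 26458), (27650, 26459), (27651, 26462), (27652, 28262), (27653, 28263), (27654, 26465), (27655, 26466), (27656, 26435), (27657, 26436), (27658, 28799), (27659, 28800), (27660, 26477), (27661, 26478), (27662, 28624), (27663, 28625), (27664, 26492), (27665, 26494), (27666, 26495), (27667, 28517), (27668, 26448), (27669, 26449), (27670, 28811), (27671, 28812), (27672, 28813), (27673, 26512), (27674, 26514), (27675, 26517), (27676, 28562), (27677, 28563), (27678, 28564), (27679, 28792), (27680, 28793), (27681, 28794), (27682, 28573), (27683, 28574), (27684, 28575), (27685, 26656), (27686, 26657), (27687, 28797), (27688, 28798), (27689, 26468), (27690, 26469), (27691, 28828), (27692, 28829),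 (27693, 26472), (27694, 26473), (27695, 26474), (27696, 28833), (27697, 28834), (27698, 28835), (27699, 28836), (27700, 26663), (27701, 26664), (27702, 28804), (27703, 28656), (27704, 28653), (27705, 26724), (27706, 26725), (27707, 28673), (27708, 28641), (27709, 28642), (27710, 26489), (27711, 26490)]
    ⟨e3 q27648 L794665 q26457, e3 q27649 L794673 q26458, e3 q27650 L794681 q26459, e3 q27651 L794691 q26462, e3 q27652 (flp_i L801248) q28262, e3 q27653 (flp_i L801264) q28263, e3 q27654 L794718 q26465, e3 q27655 L794728 q26466, e3 q27656 L794740 q26435, e3 q27657 L794750 q26436, e3 q27658 (flp_i L806747) q28799, e3 q27659 (flp_i L806757) q28800, e3 q27660 L794779 q26477, e3 q27661 L794787 q26478, e3 q27662 (flp_i L805147) q28624, e3 q27663 (flp_i L805159) q28625, e3 q27664 L794811 q26492, e3 q27665 L794821 q26494, e3 q27666 L794829 q26495, e3 q27667 (flp_i L804061) q28517, e3 q27668 L794845 q26448, e3 q27669 L794853 q26449, e3 q27670 (flp_i L806847) q28811, e3 q27671 (flp_i L806855) q28812, e3 q27672 (flp_i L806859) q28813,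 e3 q27673 L794876 q26512, e3 q27674 L794882 q26514, e3 q27675 L794892 q26517, e3 q27676 (flp_i L804530) q28562, e3 q27677 (flp_i L804538) q28563, e3 q27678 (flp_i L804543) q28564, e3 q27679 (flp_i L806675) q28792, e3 q27680 (flp_i L806683) q28793, e3 q27681 (flp_i L806693) q28794, e3 q27682 (flp_i L804601) q28573, e3 q27683 (flp_i L804613) q28574, e3 q27684 (flp_i L804619) q28575, e3 q27685 L794954 q26656, e3 q27686 L794964 q26657, e3 q27687 (flp_i L806723) q28797, e3 q27688 (flp_i L806733) q28798, e3 q27689 L794992 q26468, e3 q27690 L795002 q26469, e3 q27691 (flp_i L806962) q28828, e3 q27692 (flp_i L806972) q28829, e3 q27693 L795027 q26472, e3 q27694 L795035 q26473, e3 q27695 L795043 q26474, e3 q27696 (flp_i L807003) q28833, e3 q27697 (flp_i L807011) q28834, e3 q27698 (flp_i L807019) q28835, e3 q27699 (flp_i L807025) q28836, e3 q27700 L795081 q26663, e3 q27701 L795089 q26664, e3 q27702 (flp_i L806790) q28804, e3 q27703 (flp_i L805451) q28656, e3 q27704 (flp_i L805423) q28653, e3 q27705 L795115 q26724, e3 q27706 L795127 q26725,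 e3 q27707 (flp_i L805588) q28673, e3 q27708 (flp_i L805312) q28641, e3 q27709 (flp_i L805324) q28642, e3 q27710 L795151 q26489, e3 q27711 L795159 q26490, trivial⟩ (by decide +kernel)

theorem ce_i_433 : ∀ r, r < 64 → sm gi (Qf (27712 + r)) = Qf (tab Gen.i (27712 + r)) :=
  edges_tab (sm gi) Qf (tab Gen.i) 27712 [(27712, 28848), (27713, 28849), (27714, 26722), (27715, 28808), (27716, 28195), (27717, 28809), (27718, 28631), (27719, 28629), (27720, 26500), (27721, 26501), (27722, 28856), (27723, 28857), (27724, 28858), (27725, 26505), (27726, 26506), (27727, 26507), (27728, 28861), (27729, 28862), (27730, 28177), (27731, 28166), (27732, 28741), (27733, 28186), (27734, 28459), (27735, 28704), (27736, 28532), (27737, 26520), (27738, 26526), (27739, 26550), (27740, 28392), (27741, 28393), (27742, 28394), (27743, 26528), (27744, 26529), (27745, 28869), (27746, 28870), (27747, 28871), (27748, 26546), (27749, 26547), (27750, 26548), (27751, 26536), (27752, 26537), (27753, 28878), (27754, 28879), (27755, 28880), (27756, 26540), (27757,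 26541), (27758, 26542), (27759, 28885), (27760, 28886), (27761, 28887), (27762, 28382), (27763, 27947), (27764, 27936), (27765, 28876), (27766, 28877), (27767, 28298), (27768, 28091), (27769, 28092), (27770, 26559), (27771, 26560), (27772, 28205), (27773, 28897), (27774, 28415), (27775, 26585)]
    ⟨e3 q27712 (flp_i L807114) q28848, e3 q27713 (flp_i L807122) q28849, e3 q27714 L795183 q26722, e3 q27715 (flp_i L806821) q28808, e3 q27716 (flp_i L800323) q28195, e3 q27717 (flp_i L806831) q28809, e3 q27718 (flp_i L805228) q28631, e3 q27719 (flp_i L805192) q28629, e3 q27720 L795231 q26500, e3 q27721 L795237 q26501, e3 q27722 (flp_i L807185) q28856, e3 q27723 (flp_i L807191) q28857, e3 q27724 (flp_i L807195) q28858, e3 q27725 L795256 q26505, e3 q27726 L795262 q26506, e3 q27727 L795268 q26507, e3 q27728 (flp_i L807212) q28861, e3 q27729 (flp_i L807218) q28862, e3 q27730 (flp_i L800061) q28177, e3 q27731 (flp_i L799919) q28166, e3 q27732 (flp_i L806212) q28741, e3 q27733 (flp_i L800191) q28186, e3 q27734 (flp_i L803404) q28459, e3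 q27735 (flp_i L805846) q28704, e3 q27736 (flp_i L804210) q28532, e3 q27737 L795324 q26520, e3 q27738 L795338 q26526, e3 q27739 L795354 q26550, e3 q27740 (flp_i L802732) q28392, e3 q27741 (flp_i L802744) q28393, e3 q27742 (flp_i L802758) q28394, e3 q27743 L795384 q26528, e3 q27744 L795392 q26529, e3 q27745 (flp_i L807264) q28869, e3 q27746 (flp_i L807274) q28870, e3 q27747 (flp_i L807281) q28871, e3 q27748 L795414 q26546, e3 q27749 L795420 q26547, e3 q27750 L795430 q26548, e3 q27751 L795438 q26536, e3 q27752 L795446 q26537, e3 q27753 (flp_i L807328) q28878, e3 q27754 (flp_i L807336) q28879, e3 q27755 (flp_i L807341) q28880, e3 q27756 L795476 q26540, e3 q27757 L795484 q26541, e3 q27758 L795490 q26542, e3 q27759 (flp_i L807382) q28885, e3 q27760 (flp_i L807390) q28886, e3 q27761 (flp_i L807396) q28887, e3 q27762 (flp_i L802607) q28382, e3 q27763 (flp_i L796921) q27947, e3 q27764 (flp_i L796737) q27936, e3 q27765 (flp_i L807308) q28876, e3 q27766 (flp_i L807318) q28877, e3 q27767 (flp_i L801704) q28298, e3 q27768 (flp_i L798985)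 q28091, e3 q27769 (flp_i L798999) q28092, e3 q27770 L795566 q26559, e3 q27771 L795574 q26560, e3 q27772 (flp_i L800447) q28205, e3 q27773 (flp_i L807463) q28897, e3 q27774 (flp_i L802944) q28415, e3 q27775 L795598 q26585, trivial⟩ (by decide +kernel)

theorem ce_i_434 : ∀ r, r < 64 → sm gi (Qf (27776 + r)) = Qf (tab Gen.i (27776 + r)) :=
  edges_tab (sm gi) Qf (tab Gen.i) 27776 [(27776, 26586), (27777, 26566), (27778, 26567), (27779, 28900), (27780, 28901), (27781, 28902), (27782, 26595), (27783, 26596), (27784, 28736), (27785, 28737), (27786, 27944), (27787, 27945), (27788, 28731), (27789, 28732), (27790, 28738), (27791, 28259), (27792, 28260), (27793, 28464), (27794, 28465), (27795, 28242), (27796, 28899), (27797, 28368), (27798, 26590), (27799, 26591), (27800, 28912), (27801, 27931), (27802, 27933), (27803, 28905), (27804, 28297), (27805, 28053), (27806, 28054), (27807, 28451), (27808, 26614), (27809, 28257), (27810, 28258), (27811, 28434), (27812, 26632), (27813, 26633), (27814, 28466), (27815, 28467), (27816, 28468),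 (27817, 28073), (27818, 28074), (27819, 28431), (27820, 28231), (27821, 28232), (27822, 28463), (27823, 28245), (27824, 28246), (27825, 26634), (27826, 26642), (27827, 26643), (27828, 26644), (27829, 28075), (27830, 28076), (27831, 28919), (27832, 28920), (27833, 28921), (27834, 28435), (27835, 28764), (27836, 28765), (27837, 28630), (27838, 28930), (27839, 28931)]
    ⟨e3 q27776 L795606 q26586, e3 q27777 L795612 q26566, e3 q27778 L795620 q26567, e3 q27779 (flp_i L807483) q28900, e3 q27780 (flp_i L807491) q28901, e3 q27781 (flp_i L807495) q28902, e3 q27782 L795639 q26595, e3 q27783 L795645 q26596, e3 q27784 (flp_i L806156) q28736, e3 q27785 (flp_i L806168) q28737, e3 q27786 (flp_i L796879) q27944, e3 q27787 (flp_i L796895) q27945, e3 q27788 (flp_i L806087) q28731, e3 q27789 (flp_i L806099) q28732, e3 q27790 (flp_i L806178) q28738, e3 q27791 (flp_i L801206) q28259, e3 q27792 (flp_i L801216) q28260, e3 q27793 (flp_i L803468) q28464, e3 q27794 (flp_i L803478) q28465, e3 q27795 (flp_i L800978) q28242, e3 q27796 (flp_i L807477)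 q28899, e3 q27797 (flp_i L802448) q28368, e3 q27798 L795737 q26590, e3 q27799 L795743 q26591, e3 q27800 (flp_i L807560) q28912, e3 q27801 (flp_i L796661) q27931, e3 q27802 (flp_i L796697) q27933, e3 q27803 (flp_i L807512) q28905, e3 q27804 (flp_i L801694) q28297, e3 q27805 (flp_i L798414) q28053, e3 q27806 (flp_i L798430) q28054, e3 q27807 (flp_i L803319) q28451, e3 q27808 L795799 q26614, e3 q27809 (flp_i L801180) q28257, e3 q27810 (flp_i L801194) q28258, e3 q27811 (flp_i L803124) q28434, e3 q27812 L795823 q26632, e3 q27813 L795833 q26633, e3 q27814 (flp_i L803488) q28466, e3 q27815 (flp_i L803498) q28467, e3 q27816 (flp_i L803508) q28468, e3 q27817 (flp_i L798726) q28073, e3 q27818 (flp_i L798742) q28074, e3 q27819 (flp_i L803078) q28431, e3 q27820 (flp_i L800829) q28231, e3 q27821 (flp_i L800843) q28232, e3 q27822 (flp_i L803458) q28463, e3 q27823 (flp_i L801016) q28245, e3 q27824 (flp_i L801030) q28246, e3 q27825 L795914 q26634, e3 q27826 L795922 q26642, e3 q27827 L795934 q26643, e3 q27828 L795944 q26644, e3 q27829 (flp_i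 L798760) q28075, e3 q27830 (flp_i L798774) q28076, e3 q27831 (flp_i L807603) q28919, e3 q27832 (flp_i L807613) q28920, e3 q27833 (flp_i L807619) q28921, e3 q27834 (flp_i L803134) q28435, e3 q27835 (flp_i L806426) q28764, e3 q27836 (flp_i L806436) q28765, e3 q27837 (flp_i L805212) q28630, e3 q27838 (flp_i L807687) q28930, e3 q27839 (flp_i L807699) q28931, trivial⟩ (by decide +kernel)

theorem ce_i_435 : ∀ r, r < 64 → sm gi (Qf (27840 + r)) = Qf (tab Gen.i (27840 + r)) :=
  edges_tab (sm gi) Qf (tab Gen.i) 27840 [(27840, 28932), (27841, 28623), (27842, 28193), (27843, 28638), (27844, 26651), (27845, 28558), (27846, 28559), (27847, 28648), (27848, 28649), (27849, 28825), (27850, 28826), (27851, 28701), (27852, 26661), (27853, 26662), (27854, 28945), (27855, 28946), (27856, 28840), (27857, 26701), (27858, 26702), (27859, 26703), (27860, 26706), (27861, 26707), (27862, 26708), (27863, 26711), (27864, 28518), (27865, 26723), (27866, 28170), (27867, 28171), (27868, 28503), (27869, 28504), (27870, 28505), (27871, 26726), (27872, 26727),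 (27873, 26728), (27874, 26684), (27875, 26685), (27876, 28961), (27877, 28962), (27878, 28963), (27879, 26688), (27880, 26689), (27881, 28967), (27882, 28968), (27883, 28969), (27884, 26691), (27885, 26740), (27886, 26738), (27887, 26742), (27888, 26743), (27889, 26744), (27890, 26747), (27891, 28948), (27892, 28949), (27893, 28950), (27894, 28110), (27895, 28111), (27896, 28112), (27897, 28951), (27898, 28952), (27899, 28918), (27900, 28782), (27901, 28783), (27902, 28784), (27903, 28788)]
    ⟨e3 q27840 (flp_i L807705) q28932, e3 q27841 (flp_i L805135) q28623, e3 q27842 (flp_i L800303) q28193, e3 q27843 (flp_i L805282) q28638, e3 q27844 L796034 q26651, e3 q27845 (flp_i L804480) q28558, e3 q27846 (flp_i L804494) q28559, e3 q27847 (flp_i L805383) q28648, e3 q27848 (flp_i L805395) q28649, e3 q27849 (flp_i L806930) q28825, e3 q27850 (flp_i L806940) q28826, e3 q27851 (flp_i L805824) q28701, e3 q27852 L796082 q26661, e3 q27853 L796088 q26662, e3 q27854 (flp_i L807784) q28945, e3 q27855 (flp_i L807790) q28946, e3 q27856 (flp_i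 L807055) q28840, e3 q27857 L796112 q26701, e3 q27858 L796118 q26702, e3 q27859 L796126 q26703, e3 q27860 L796132 q26706, e3 q27861 L796138 q26707, e3 q27862 L796142 q26708, e3 q27863 L796153 q26711, e3 q27864 (flp_i L804077) q28518, e3 q27865 L796163 q26723, e3 q27866 (flp_i L799967) q28170, e3 q27867 (flp_i L799983) q28171, e3 q27868 (flp_i L803911) q28503, e3 q27869 (flp_i L803925) q28504, e3 q27870 (flp_i L803939) q28505, e3 q27871 L796201 q26726, e3 q27872 L796209 q26727, e3 q27873 L796215 q26728, e3 q27874 L796225 q26684, e3 q27875 L796233 q26685, e3 q27876 (flp_i L807886) q28961, e3 q27877 (flp_i L807896) q28962, e3 q27878 (flp_i L807903) q28963, e3 q27879 L796261 q26688, e3 q27880 L796269 q26689, e3 q27881 (flp_i L807930) q28967, e3 q27882 (flp_i L807938) q28968, e3 q27883 (flp_i L807942) q28969, e3 q27884 L796290 q26691, e3 q27885 L796298 q26740, e3 q27886 L796306 q26738, e3 q27887 L796316 q26742, e3 q27888 L796324 q26743, e3 q27889 L796330 q26744, e3 q27890 L796336 q26747, e3 q27891 (flp_i L807804) q28948, e3 q27892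 (flp_i L807810) q28949, e3 q27893 (flp_i L807814) q28950, e3 q27894 (flp_i L799193) q28110, e3 q27895 (flp_i L799205) q28111, e3 q27896 (flp_i L799211) q28112, e3 q27897 (flp_i L807823) q28951, e3 q27898 (flp_i L807829) q28952, e3 q27899 (flp_i L807590) q28918, e3 q27900 (flp_i L806589) q28782, e3 q27901 (flp_i L806599) q28783, e3 q27902 (flp_i L806609) q28784, e3 q27903 (flp_i L806646) q28788, trivial⟩ (by decide +kernel)

theorem ce_i_436 : ∀ r, r < 64 → sm gi (Qf (27904 + r)) = Qf (tab Gen.i (27904 + r)) :=
  edges_tab (sm gi) Qf (tab Gen.i) 27904 [(27904, 28509), (27905, 28507), (27906, 28508), (27907, 28506), (27908, 28093), (27909, 28851), (27910, 28843), (27911, 28844), (27912, 28958), (27913, 28959), (27914, 28990), (27915, 26731), (27916, 26732), (27917, 26733), (27918, 28991), (27919, 28992), (27920, 26736), (27921, 26737), (27922, 28994), (27923, 28973), (27924, 28972), (27925, 28974), (27926, 28525), (27927, 26756), (27928, 26757), (27929, 26758), (27930, 27223), (27931, 27801), (27932, 27232), (27933, 27802),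 (27934, 28996), (27935, 28997), (27936, 27764), (27937, 29003), (27938, 26760), (27939, 27577), (27940, 26767), (27941, 26772), (27942, 26773), (27943, 27179), (27944, 27786), (27945, 27787), (27946, 29004), (27947, 27763), (27948, 29010), (27949, 27190), (27950, 26776), (27951, 26887), (27952, 26888), (27953, 26889), (27954, 27599), (27955, 27600), (27956, 27551), (27957, 27566), (27958, 27381), (27959, 27382), (27960, 27505), (27961, 27506), (27962, 27601), (27963, 27602), (27964, 27603), (27965, 27567), (27966, 27604), (27967, 27605)]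
    ⟨e3 q27904 (flp_i L803985) q28509, e3 q27905 (flp_i L803961) q28507, e3 q27906 (flp_i L803973) q28508, e3 q27907 (flp_i L803949) q28506, e3 q27908 (flp_i L799011) q28093, e3 q27909 (flp_i L807142) q28851, e3 q27910 (flp_i L807077) q28843, e3 q27911 (flp_i L807089) q28844, e3 q27912 (flp_i L807864) q28958, e3 q27913 (flp_i L807872) q28959, e3 q27914 L808084 q28990, e3 q27915 L796503 q26731, e3 q27916 L796511 q26732, e3 q27917 L796517 q26733, e3 q27918 (flp_i L808094) q28991, e3 q27919 (flp_i L808102) q28992, e3 q27920 L796537 q26736, e3 q27921 L796543 q26737, e3 q27922 (flp_i L808116) q28994, e3 q27923 (flp_i L807969) q28973, e3 q27924 (flp_i L807961) q28972, e3 q27925 (flp_i L807979) q28974, e3 q27926 (flp_i L804150) q28525, e3 q27927 L796589 q26756, e3 q27928 L796605 q26757, e3 q27929 L796625 q26758, e3 q27930 L796643 q27223, e3 q27931 L796661 q27801, e3 q27932 L796679 q27232, e3 q27933 L796697 q27802, e3 q27934 (flp_i L808140) q28996, e3 q27935 (flp_i L808156) q28997, e3 q27936 L796737 q27764, e3 q27937 L808250 q29003,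 e3 q27938 (flp_i L796759) q26760, e3 q27939 L796791 q27577, e3 q27940 L796811 q26767, e3 q27941 L796829 q26772, e3 q27942 L796845 q26773, e3 q27943 L796863 q27179, e3 q27944 L796879 q27786, e3 q27945 L796895 q27787, e3 q27946 (flp_i L808282) q29004, e3 q27947 L796921 q27763, e3 q27948 L808372 q29010, e3 q27949 L796953 q27190, e3 q27950 (flp_i L796957) q26776, e3 q27951 L796985 q26887, e3 q27952 L797001 q26888, e3 q27953 L797018 q26889, e3 q27954 L797034 q27599, e3 q27955 L797050 q27600, e3 q27956 L797067 q27551, e3 q27957 L797078 q27566, e3 q27958 L797093 q27381, e3 q27959 L797109 q27382, e3 q27960 L797124 q27505, e3 q27961 L797140 q27506, e3 q27962 L797151 q27601, e3 q27963 L797163 q27602, e3 q27964 L797175 q27603, e3 q27965 L797185 q27567, e3 q27966 L797197 q27604, e3 q27967 L797211 q27605, trivial⟩ (by decide +kernel)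

theorem ce_i_437 : ∀ r, r < 64 → sm gi (Qf (27968 + r)) = Qf (tab Gen.i (27968 + r)) :=
  edges_tab (sm gi) Qf (tab Gen.i) 27968 [(27968, 27606), (27969, 26814), (27970, 27646), (27971, 27647), (27972, 26817), (27973, 26818), (27974, 26819), (27975, 26820), (27976, 26821), (27977, 26822), (27978, 26823), (27979, 26824), (27980, 26825), (27981, 26801), (27982, 26802), (27983, 29047), (27984, 29048), (27985, 29049), (27986, 26842), (27987, 26843), (27988, 26844), (27989, 26846), (27990, 26847), (27991, 26848), (27992, 26852), (27993, 26853), (27994, 26854), (27995, 29061), (27996, 29033), (27997, 27607), (27998, 27608), (27999, 27609), (28000, 29037), (28001, 29038), (28002, 29039), (28003, 29040), (28004, 29041), (28005, 29042), (28006, 29043), (28007, 29044), (28008, 29045), (28009, 29046), (28010, 26827), (28011, 26828), (28012, 29076), (28013, 29077), (28014, 27633), (28015, 27634), (28016, 26832), (28017, 26833), (28018, 29081), (28019, 29082), (28020, 29083), (28021, 26836), (28022, 26837), (28023, 26838), (28024, 29088),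 (28025, 29089), (28026, 29090), (28027, 29091), (28028, 27625), (28029, 27626), (28030, 27560), (28031, 27627)]
    ⟨e3 q27968 L797225 q27606, e3 q27969 L797243 q26814, e3 q27970 L797259 q27646, e3 q27971 L797275 q27647, e3 q27972 L797288 q26817, e3 q27973 L797302 q26818, e3 q27974 L797316 q26819, e3 q27975 L797331 q26820, e3 q27976 L797349 q26821, e3 q27977 L797365 q26822, e3 q27978 L797377 q26823, e3 q27979 L797389 q26824, e3 q27980 L797401 q26825, e3 q27981 L797417 q26801, e3 q27982 L797433 q26802, e3 q27983 (flp_i L808932) q29047, e3 q27984 (flp_i L808948) q29048, e3 q27985 (flp_i L808961) q29049, e3 q27986 L797479 q26842, e3 q27987 L797491 q26843, e3 q27988 L797503 q26844, e3 q27989 L797519 q26846, e3 q27990 L797531 q26847, e3 q27991 L797543 q26848, e3 q27992 L797562 q26852, e3 q27993 L797577 q26853, e3 q27994 L797592 q26854, e3 q27995 L809109 q29061, e3 q27996 (flp_i L808723) q29033, e3 q27997 L797637 q27607, e3 q27998 L797651 q27608, e3 q27999 L797665 q27609, e3 q28000 (flp_i L808784) q29037, e3 q28001 (flp_i L808798)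 q29038, e3 q28002 (flp_i L808812) q29039, e3 q28003 (flp_i L808826) q29040, e3 q28004 (flp_i L808844) q29041, e3 q28005 (flp_i L808860) q29042, e3 q28006 (flp_i L808874) q29043, e3 q28007 (flp_i L808890) q29044, e3 q28008 (flp_i L808902) q29045, e3 q28009 (flp_i L808914) q29046, e3 q28010 L797809 q26827, e3 q28011 L797825 q26828, e3 q28012 (flp_i L809338) q29076, e3 q28013 (flp_i L809354) q29077, e3 q28014 L797873 q27633, e3 q28015 L797887 q27634, e3 q28016 L797905 q26832, e3 q28017 L797921 q26833, e3 q28018 (flp_i L809422) q29081, e3 q28019 (flp_i L809438) q29082, e3 q28020 (flp_i L809451) q29083, e3 q28021 L797973 q26836, e3 q28022 L797985 q26837, e3 q28023 L797999 q26838, e3 q28024 (flp_i L809518) q29088, e3 q28025 (flp_i L809530) q29089, e3 q28026 (flp_i L809544) q29090, e3 q28027 (flp_i L809558) q29091, e3 q28028 L798063 q27625, e3 q28029 L798075 q27626, e3 q28030 L798083 q27560, e3 q28031 L798099 q27627, trivial⟩ (by decide +kernel)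

theorem ce_i_438 : ∀ r, r < 64 → sm gi (Qf (28032 + r)) = Qf (tab Gen.i (28032 + r)) :=
  edges_tab (sm gi) Qf (tab Gen.i) 28032 [(28032, 29054), (28033, 29055), (28034, 27530), (28035, 29056), (28036, 29057), (28037, 29103), (28038, 27554), (28039, 27378), (28040, 29059), (28041, 29104), (28042, 26856), (28043, 26857), (28044, 26868), (28045, 26875), (28046, 27195), (28047, 27254), (28048, 27255), (28049, 27256), (28050, 27281), (28051, 27282), (28052, 29105), (28053, 27805), (28054, 27806), (28055, 27283), (28056, 27284), (28057, 27297), (28058, 27298), (28059, 27578), (28060, 27579), (28061, 27580), (28062, 26890), (28063, 27642), (28064, 27643), (28065, 26891), (28066, 26892), (28067, 26897), (28068, 26898), (28069, 29011), (28070, 29012), (28071, 29013), (28072, 29123), (28073, 27817), (28074, 27818), (28075, 27829), (28076, 27830), (28077, 29124), (28078, 27376), (28079, 27377), (28080, 27379), (28081, 27524), (28082, 27569), (28083, 27610), (28084, 27611), (28085, 27612), (28086, 27613), (28087, 27614), (28088, 27637),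 (28089, 27096), (28090, 27097), (28091, 27768), (28092, 27769), (28093, 27908), (28094, 27367), (28095, 26981)]
    ⟨e3 q28032 (flp_i L809020) q29054, e3 q28033 (flp_i L809032) q29055, e3 q28034 L798133 q27530, e3 q28035 (flp_i L809048) q29056, e3 q28036 (flp_i L809060) q29057, e3 q28037 L809706 q29103, e3 q28038 L798181 q27554, e3 q28039 L798198 q27378, e3 q28040 (flp_i L809090) q29059, e3 q28041 L809718 q29104, e3 q28042 (flp_i L798231) q26856, e3 q28043 (flp_i L798243) q26857, e3 q28044 L798273 q26868, e3 q28045 L798291 q26875, e3 q28046 L798307 q27195, e3 q28047 L798323 q27254, e3 q28048 L798339 q27255, e3 q28049 L798354 q27256, e3 q28050 L798368 q27281, e3 q28051 L798382 q27282, e3 q28052 (flp_i L809751) q29105, e3 q28053 L798414 q27805, e3 q28054 L798430 q27806, e3 q28055 L798444 q27283, e3 q28056 L798456 q27284, e3 q28057 L798476 q27297, e3 q28058 L798492 q27298, e3 q28059 L798510 q27578, e3 q28060 L798526 q27579, e3 q28061 L798542 q27580, e3 q28062 L798556 q26890, e3 q28063 L798572 q27642, e3 q28064 L798588 q27643,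 e3 q28065 L798604 q26891, e3 q28066 L798618 q26892, e3 q28067 L798636 q26897, e3 q28068 L798650 q26898, e3 q28069 (flp_i L808400) q29011, e3 q28070 (flp_i L808416) q29012, e3 q28071 (flp_i L808434) q29013, e3 q28072 (flp_i L810052) q29123, e3 q28073 L798726 q27817, e3 q28074 L798742 q27818, e3 q28075 L798760 q27829, e3 q28076 L798774 q27830, e3 q28077 (flp_i L810070) q29124, e3 q28078 L798806 q27376, e3 q28079 L798822 q27377, e3 q28080 L798835 q27379, e3 q28081 L798850 q27524, e3 q28082 L798866 q27569, e3 q28083 L798881 q27610, e3 q28084 L798897 q27611, e3 q28085 L798908 q27612, e3 q28086 L798920 q27613, e3 q28087 L798932 q27614, e3 q28088 L798942 q27637, e3 q28089 L798958 q27096, e3 q28090 L798974 q27097, e3 q28091 L798985 q27768, e3 q28092 L798999 q27769, e3 q28093 L799011 q27908, e3 q28094 L799025 q27367, e3 q28095 L799041 q26981, trivial⟩ (by decide +kernel)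

theorem ce_i_439 : ∀ r, r < 64 → sm gi (Qf (28096 + r)) = Qf (tab Gen.i (28096 + r)) :=
  edges_tab (sm gi) Qf (tab Gen.i) 28096 [(28096, 27622), (28097, 27623), (28098, 27624), (28099, 27638), (28100, 27595), (28101, 27596), (28102, 27364), (28103, 27628), (28104, 27629), (28105, 27325), (28106, 27630), (28107, 27631), (28108, 27632), (28109, 27561), (28110, 27894), (28111, 27895), (28112, 27896), (28113, 26968), (28114, 26969), (28115, 26970), (28116, 26971), (28117, 26972), (28118, 26975), (28119, 26976), (28120, 27523), (28121, 27517), (28122, 26978), (28123, 26979), (28124, 26980), (28125, 26984), (28126, 26985), (28127, 26986), (28128, 26987), (28129, 26988), (28130, 26989), (28131, 27456), (28132, 27457), (28133, 26998), (28134, 26999), (28135, 27452), (28136, 26950), (28137, 26951), (28138, 29195), (28139, 29196), (28140, 29197), (28141, 27475), (28142, 27009), (28143, 27010), (28144, 27011), (28145, 27013), (28146, 27014), (28147, 27015), (28148, 27016), (28149, 27017), (28150, 27018), (28151, 29208), (28152, 27139),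 (28153, 26966), (28154, 27371), (28155, 27372), (28156, 29171), (28157, 29172), (28158, 29173), (28159, 29174)]
    ⟨e3 q28096 L799051 q27622, e3 q28097 L799061 q27623, e3 q28098 L799069 q27624, e3 q28099 L799077 q27638, e3 q28100 L799089 q27595, e3 q28101 L799101 q27596, e3 q28102 L799110 q27364, e3 q28103 L799122 q27628, e3 q28104 L799132 q27629, e3 q28105 L799141 q27325, e3 q28106 L799151 q27630, e3 q28107 L799161 q27631, e3 q28108 L799169 q27632, e3 q28109 L799179 q27561, e3 q28110 L799193 q27894, e3 q28111 L799205 q27895, e3 q28112 L799211 q27896, e3 q28113 L799226 q26968, e3 q28114 L799242 q26969, e3 q28115 L799253 q26970, e3 q28116 L799265 q26971, e3 q28117 L799279 q26972, e3 q28118 L799291 q26975, e3 q28119 L799305 q26976, e3 q28120 L799319 q27523, e3 q28121 L799333 q27517, e3 q28122 L799345 q26978, e3 q28123 L799355 q26979, e3 q28124 L799367 q26980, e3 q28125 L799379 q26984, e3 q28126 L799393 q26985, e3 q28127 L799407 q26986, e3 q28128 L799419 q26987, e3 q28129 L799431 q26988, e3 q28130 L799441 q26989, e3 q28131 L799459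 q27456, e3 q28132 L799475 q27457, e3 q28133 L799489 q26998, e3 q28134 L799501 q26999, e3 q28135 L799519 q27452, e3 q28136 L799535 q26950, e3 q28137 L799551 q26951, e3 q28138 (flp_i L811011) q29195, e3 q28139 (flp_i L811027) q29196, e3 q28140 (flp_i L811041) q29197, e3 q28141 L799584 q27475, e3 q28142 L799604 q27009, e3 q28143 L799614 q27010, e3 q28144 L799622 q27011, e3 q28145 L799640 q27013, e3 q28146 L799656 q27014, e3 q28147 L799674 q27015, e3 q28148 L799688 q27016, e3 q28149 L799700 q27017, e3 q28150 L799708 q27018, e3 q28151 L811183 q29208, e3 q28152 L799737 q27139, e3 q28153 (flp_i L799739) q26966, e3 q28154 L799766 q27371, e3 q28155 L799782 q27372, e3 q28156 (flp_i L810667) q29171, e3 q28157 (flp_i L810683) q29172, e3 q28158 (flp_i L810696) q29173, e3 q28159 (flp_i L810712) q29174, trivial⟩ (by decide +kernel)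

theorem ce_i_440 : ∀ r, r < 64 → sm gi (Qf (28160 + r)) = Qf (tab Gen.i (28160 + r)) :=
  edges_tab (sm gi) Qf (tab Gen.i) 28160 [(28160, 29175), (28161, 29176), (28162, 27468), (28163, 27469), (28164, 29177), (28165, 29178), (28166, 27731), (28167, 29182), (28168, 29183), (28169, 29151), (28170, 27866), (28171, 27867), (28172, 29184), (28173, 29185), (28174, 29186), (28175, 29187), (28176, 29188), (28177, 27730), (28178, 27502), (28179, 27503), (28180, 26995), (28181, 26996), (28182, 29232), (28183, 29233), (28184, 27496), (28185, 29193), (28186, 27733), (28187, 27003), (28188, 27004), (28189, 29236), (28190, 27484), (28191, 27481), (28192, 27425), (28193, 27842), (28194, 29202), (28195, 27716), (28196, 29203), (28197, 29204), (28198, 29205), (28199, 29206), (28200, 27529), (28201, 29244), (28202, 27019), (28203, 27526), (28204, 27106), (28205, 27772), (28206, 27032), (28207, 27033), (28208, 27034), (28209, 27035), (28210, 27036), (28211, 27037), (28212, 27075), (28213, 29246), (28214, 29247), (28215, 29248), (28216, 29249),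 (28217, 29250), (28218, 27197), (28219, 27198), (28220, 27158), (28221, 27159), (28222, 27257), (28223, 27258)]
    ⟨e3 q28160 (flp_i L810724) q29175, e3 q28161 (flp_i L810734) q29176, e3 q28162 L799863 q27468, e3 q28163 L799879 q27469, e3 q28164 (flp_i L810749) q29177, e3 q28165 (flp_i L810763) q29178, e3 q28166 L799919 q27731, e3 q28167 (flp_i L810816) q29182, e3 q28168 (flp_i L810828) q29183, e3 q28169 (flp_i L810461) q29151, e3 q28170 L799967 q27866, e3 q28171 L799983 q27867, e3 q28172 (flp_i L810842) q29184, e3 q28173 (flp_i L810856) q29185, e3 q28174 (flp_i L810870) q29186, e3 q28175 (flp_i L810882) q29187, e3 q28176 (flp_i L810892) q29188, e3 q28177 L800061 q27730, e3 q28178 L800075 q27502, e3 q28179 L800087 q27503, e3 q28180 L800105 q26995, e3 q28181 L800121 q26996, e3 q28182 (flp_i L811533) q29232, e3 q28183 (flp_i L811549) q29233, e3 q28184 L800171 q27496, e3 q28185 (flp_i L810973) q29193, e3 q28186 L800191 q27733, e3 q28187 L800207 q27003, e3 q28188 L800219 q27004, e3 q28189 (flp_i L811595) q29236, e3 q28190 L800249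 q27484, e3 q28191 L800265 q27481, e3 q28192 L800285 q27425, e3 q28193 L800303 q27842, e3 q28194 (flp_i L811099) q29202, e3 q28195 L800323 q27716, e3 q28196 (flp_i L811119) q29203, e3 q28197 (flp_i L811135) q29204, e3 q28198 (flp_i L811153) q29205, e3 q28199 (flp_i L811167) q29206, e3 q28200 L800371 q27529, e3 q28201 L811707 q29244, e3 q28202 (flp_i L800385) q27019, e3 q28203 L800411 q27526, e3 q28204 L800429 q27106, e3 q28205 L800447 q27772, e3 q28206 L800465 q27032, e3 q28207 L800479 q27033, e3 q28208 L800493 q27034, e3 q28209 L800511 q27035, e3 q28210 L800527 q27036, e3 q28211 L800543 q27037, e3 q28212 L800561 q27075, e3 q28213 (flp_i L811753) q29246, e3 q28214 (flp_i L811769) q29247, e3 q28215 (flp_i L811783) q29248, e3 q28216 (flp_i L811803) q29249, e3 q28217 (flp_i L811819) q29250, e3 q28218 L800653 q27197, e3 q28219 L800669 q27198, e3 q28220 L800684 q27158, e3 q28221 L800700 q27159, e3 q28222 L800709 q27257, e3 q28223 L800719 q27258, trivial⟩ (by decide +kernel)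

theorem ce_i_441 : ∀ r, r < 64 → sm gi (Qf (28224 + r)) = Qf (tab Gen.i (28224 + r)) :=
  edges_tab (sm gi) Qf (tab Gen.i) 28224 [(28224, 27259), (28225, 27260), (28226, 27261), (28227, 27262), (28228, 27061), (28229, 27062), (28230, 27063), (28231, 27820), (28232, 27821), (28233, 27300), (28234, 27066), (28235, 27067), (28236, 27068), (28237, 27069), (28238, 27070), (28239, 27071), (28240, 27072), (28241, 27073), (28242, 27795), (28243, 29266), (28244, 29267), (28245, 27823), (28246, 27824), (28247, 29272), (28248, 29273), (28249, 29274), (28250, 29275), (28251, 29276), (28252, 29277), (28253, 27082), (28254, 29251), (28255, 27299), (28256, 27109), (28257, 27809), (28258, 27810), (28259, 27791), (28260, 27792), (28261, 27301), (28262, 27652), (28263, 27653), (28264, 27302), (28265, 27303), (28266, 27304), (28267, 27305), (28268, 27306), (28269, 27307), (28270, 27308), (28271, 27309), (28272, 27310), (28273, 27107), (28274, 27110), (28275, 27111), (28276, 27112), (28277, 29144), (28278, 29145), (28279, 29146), (28280, 27115),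 (28281, 27118), (28282, 27119), (28283, 27120), (28284, 27121), (28285, 27122), (28286, 27123), (28287, 29315)]
    ⟨e3 q28224 L800729 q27259, e3 q28225 L800741 q27260, e3 q28226 L800755 q27261, e3 q28227 L800769 q27262, e3 q28228 L800783 q27061, e3 q28229 L800797 q27062, e3 q28230 L800813 q27063, e3 q28231 L800829 q27820, e3 q28232 L800843 q27821, e3 q28233 L800856 q27300, e3 q28234 L800868 q27066, e3 q28235 L800876 q27067, e3 q28236 L800890 q27068, e3 q28237 L800908 q27069, e3 q28238 L800924 q27070, e3 q28239 L800934 q27071, e3 q28240 L800940 q27072, e3 q28241 L800954 q27073, e3 q28242 L800978 q27795, e3 q28243 (flp_i L812062) q29266, e3 q28244 (flp_i L812078) q29267, e3 q28245 L801016 q27823, e3 q28246 L801030 q27824, e3 q28247 (flp_i L812145) q29272, e3 q28248 (flp_i L812159) q29273, e3 q28249 (flp_i L812179) q29274, e3 q28250 (flp_i L812195) q29275, e3 q28251 (flp_i L812205) q29276, e3 q28252 (flp_i L812219) q29277, e3 q28253 L801122 q27082, e3 q28254 (flp_i L811841) q29251, e3 q28255 L801150 q27299, e3 q28256 L801164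 q27109, e3 q28257 L801180 q27809, e3 q28258 L801194 q27810, e3 q28259 L801206 q27791, e3 q28260 L801216 q27792, e3 q28261 L801232 q27301, e3 q28262 L801248 q27652, e3 q28263 L801264 q27653, e3 q28264 L801279 q27302, e3 q28265 L801295 q27303, e3 q28266 L801306 q27304, e3 q28267 L801320 q27305, e3 q28268 L801334 q27306, e3 q28269 L801346 q27307, e3 q28270 L801360 q27308, e3 q28271 L801374 q27309, e3 q28272 L801388 q27310, e3 q28273 L801404 q27107, e3 q28274 L801412 q27110, e3 q28275 L801426 q27111, e3 q28276 L801440 q27112, e3 q28277 (flp_i L810363) q29144, e3 q28278 (flp_i L810379) q29145, e3 q28279 (flp_i L810392) q29146, e3 q28280 L801497 q27115, e3 q28281 L801507 q27118, e3 q28282 L801517 q27119, e3 q28283 L801529 q27120, e3 q28284 L801539 q27121, e3 q28285 L801547 q27122, e3 q28286 L801559 q27123, e3 q28287 L812767 q29315, trivial⟩ (by decide +kernel)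

theorem ce_i_442 : ∀ r, r < 64 → sm gi (Qf (28288 + r)) = Qf (tab Gen.i (28288 + r)) :=
  edges_tab (sm gi) Qf (tab Gen.i) 28288 [(28288, 29245), (28289, 29302), (28290, 27189), (28291, 29284), (28292, 29303), (28293, 29304), (28294, 27228), (28295, 27227), (28296, 29309), (28297, 27804), (28298, 27767), (28299, 27231), (28300, 29310), (28301, 29311), (28302, 29312), (28303, 29313), (28304, 29327), (28305, 29328), (28306, 27125), (28307, 27497), (28308, 27368), (28309, 27369), (28310, 27370), (28311, 27373), (28312, 27374), (28313, 27375), (28314, 27383), (28315, 27384), (28316, 27385), (28317, 27386), (28318, 27387), (28319, 27388), (28320, 27138), (28321, 29343), (28322, 29189), (28323, 29060), (28324, 27395), (28325, 27396), (28326, 27397), (28327, 27398), (28328, 27399), (28329, 27400), (28330, 27401), (28331, 27241), (28332, 27404), (28333, 27405), (28334, 27406), (28335, 27181), (28336, 27151), (28337, 27152), (28338, 29361), (28339, 29362), (28340, 27191), (28341, 27192), (28342, 27193), (28343, 27194), (28344, 29257),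 (28345, 29258), (28346, 29259), (28347, 27207), (28348, 27208), (28349, 27209), (28350, 27165), (28351, 27166)]
    ⟨e3 q28288 (flp_i L811733) q29245, e3 q28289 (flp_i L812602) q29302, e3 q28290 L801610 q27189, e3 q28291 (flp_i L812339) q29284, e3 q28292 (flp_i L812618) q29303, e3 q28293 (flp_i L812632) q29304, e3 q28294 L801654 q27228, e3 q28295 L801674 q27227, e3 q28296 (flp_i L812699) q29309, e3 q28297 L801694 q27804, e3 q28298 L801704 q27767, e3 q28299 L801722 q27231, e3 q28300 (flp_i L812711) q29310, e3 q28301 (flp_i L812723) q29311, e3 q28302 (flp_i L812735) q29312, e3 q28303 (flp_i L812747) q29313, e3 q28304 L812938 q29327, e3 q28305 L812950 q29328, e3 q28306 (flp_i L801789) q27125, e3 q28307 L801813 q27497, e3 q28308 L801829 q27368, e3 q28309 L801845 q27369, e3 q28310 L801856 q27370, e3 q28311 L801866 q27373, e3 q28312 L801878 q27374, e3 q28313 L801890 q27375, e3 q28314 L801898 q27383, e3 q28315 L801908 q27384, e3 q28316 L801916 q27385, e3 q28317 L801922 q27386, e3 q28318 L801935 q27387, e3 q28319 L801948 q27388, e3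 q28320 L801966 q27138, e3 q28321 (flp_i L813137) q29343, e3 q28322 (flp_i L810910) q29189, e3 q28323 (flp_i L809107) q29060, e3 q28324 L801999 q27395, e3 q28325 L802007 q27396, e3 q28326 L802012 q27397, e3 q28327 L802022 q27398, e3 q28328 L802030 q27399, e3 q28329 L802036 q27400, e3 q28330 L802042 q27401, e3 q28331 L802058 q27241, e3 q28332 L802072 q27404, e3 q28333 L802084 q27405, e3 q28334 L802090 q27406, e3 q28335 L802105 q27181, e3 q28336 L802119 q27151, e3 q28337 L802135 q27152, e3 q28338 (flp_i L813300) q29361, e3 q28339 (flp_i L813316) q29362, e3 q28340 L802170 q27191, e3 q28341 L802180 q27192, e3 q28342 L802190 q27193, e3 q28343 L802200 q27194, e3 q28344 (flp_i L811940) q29257, e3 q28345 (flp_i L811956) q29258, e3 q28346 (flp_i L811969) q29259, e3 q28347 L802255 q27207, e3 q28348 L802269 q27208, e3 q28349 L802283 q27209, e3 q28350 L802295 q27165, e3 q28351 L802305 q27166, trivial⟩ (by decide +kernel)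

theorem ce_i_443 : ∀ r, r < 64 → sm gi (Qf (28352 + r)) = Qf (tab Gen.i (28352 + r)) :=
  edges_tab (sm gi) Qf (tab Gen.i) 28352 [(28352, 27167), (28353, 29374), (28354, 29375), (28355, 29376), (28356, 29377), (28357, 27225), (28358, 27226), (28359, 27229), (28360, 27230), (28361, 27233), (28362, 27234), (28363, 27235), (28364, 27236), (28365, 29387), (28366, 27178), (28367, 29005), (28368, 27797), (28369, 27183), (28370, 27184), (28371, 29389), (28372, 29390), (28373, 27187), (28374, 27188), (28375, 29394), (28376, 29395), (28377, 29316), (28378, 29008), (28379, 29366), (28380, 29367), (28381, 29106), (28382, 27762), (28383, 29254), (28384, 29255), (28385, 29256), (28386, 27201), (28387, 27202), (28388, 27203), (28389, 29403), (28390, 29404), (28391, 29405), (28392, 27740), (28393, 27741), (28394, 27742), (28395, 29372), (28396, 29373), (28397, 27212), (28398, 27213), (28399, 27214), (28400, 29411), (28401, 29412), (28402, 29413), (28403, 29414), (28404, 27218), (28405, 27219), (28406, 27220), (28407, 27221), (28408, 27222),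 (28409, 29420), (28410, 29421), (28411, 29422), (28412, 29423), (28413, 29424), (28414, 28998), (28415, 27774)]
    ⟨e3 q28352 L802312 q27167, e3 q28353 (flp_i L813472) q29374, e3 q28354 (flp_i L813482) q29375, e3 q28355 (flp_i L813488) q29376, e3 q28356 (flp_i L813497) q29377, e3 q28357 L802347 q27225, e3 q28358 L802357 q27226, e3 q28359 L802365 q27229, e3 q28360 L802371 q27230, e3 q28361 L802383 q27233, e3 q28362 L802397 q27234, e3 q28363 L802405 q27235, e3 q28364 L802411 q27236, e3 q28365 L813572 q29387, e3 q28366 (flp_i L802421) q27178, e3 q28367 (flp_i L808302) q29005, e3 q28368 L802448 q27797, e3 q28369 L802464 q27183, e3 q28370 L802480 q27184, e3 q28371 (flp_i L813608) q29389, e3 q28372 (flp_i L813624) q29390, e3 q28373 L802511 q27187, e3 q28374 L802525 q27188, e3 q28375 (flp_i L813665) q29394, e3 q28376 (flp_i L813679) q29395, e3 q28377 (flp_i L812798) q29316, e3 q28378 (flp_i L808350) q29008, e3 q28379 (flp_i L813363) q29366, e3 q28380 (flp_i L813373) q29367, e3 q28381 (flp_i L809767) q29106, e3 q28382 L802607 q27762,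 e3 q28383 (flp_i L811893) q29254, e3 q28384 (flp_i L811909) q29255, e3 q28385 (flp_i L811922) q29256, e3 q28386 L802656 q27201, e3 q28387 L802668 q27202, e3 q28388 L802680 q27203, e3 q28389 (flp_i L813774) q29403, e3 q28390 (flp_i L813786) q29404, e3 q28391 (flp_i L813798) q29405, e3 q28392 L802732 q27740, e3 q28393 L802744 q27741, e3 q28394 L802758 q27742, e3 q28395 (flp_i L813446) q29372, e3 q28396 (flp_i L813460) q29373, e3 q28397 L802794 q27212, e3 q28398 L802800 q27213, e3 q28399 L802805 q27214, e3 q28400 (flp_i L813878) q29411, e3 q28401 (flp_i L813884) q29412, e3 q28402 (flp_i L813888) q29413, e3 q28403 (flp_i L813897) q29414, e3 q28404 L802842 q27218, e3 q28405 L802850 q27219, e3 q28406 L802858 q27220, e3 q28407 L802868 q27221, e3 q28408 L802876 q27222, e3 q28409 (flp_i L813939) q29420, e3 q28410 (flp_i L813947) q29421, e3 q28411 (flp_i L813957) q29422, e3 q28412 (flp_i L813969) q29423, e3 q28413 (flp_i L813975) q29424, e3 q28414 (flp_i L808178) q28998, e3 q28415 L802944 q27774, trivial⟩ (by decide +kernel)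

theorem ce_i_444 : ∀ r, r < 64 → sm gi (Qf (28416 + r)) = Qf (tab Gen.i (28416 + r)) :=
  edges_tab (sm gi) Qf (tab Gen.i) 28416 [(28416, 29382), (28417, 29319), (28418, 29318), (28419, 29435), (28420, 29383), (28421, 29322), (28422, 28999), (28423, 29384), (28424, 29385), (28425, 29438), (28426, 27237), (28427, 27238), (28428, 29357), (28429, 27245), (28430, 29136), (28431, 27819), (28432, 27591), (28433, 27592), (28434, 27811), (28435, 27834), (28436, 29107), (28437, 29108), (28438, 29109), (28439, 29260), (28440, 29261), (28441, 29262), (28442, 29263), (28443, 29264), (28444, 29265), (28445, 27272), (28446, 27273), (28447, 27274), (28448, 27276), (28449, 27277), (28450, 27285), (28451, 27807), (28452, 29448), (28453, 29449), (28454, 29450), (28455, 29451), (28456, 29110), (28457, 29111), (28458, 29115), (28459, 27734), (28460, 29456), (28461, 27287), (28462, 27294), (28463, 27822), (28464, 27793), (28465, 27794), (28466, 27814), (28467, 27815), (28468, 27816), (28469, 29116), (28470, 29283), (28471, 29271), (28472, 29288),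 (28473, 29292), (28474, 29293), (28475, 29294), (28476, 29295), (28477, 29296), (28478, 29297), (28479, 29298)]
    ⟨e3 q28416 (flp_i L813534) q29382, e3 q28417 (flp_i L812842) q29319, e3 q28418 (flp_i L812822) q29318, e3 q28419 L814081 q29435, e3 q28420 (flp_i L813540) q29383, e3 q28421 (flp_i L812884) q29322, e3 q28422 (flp_i L808198) q28999, e3 q28423 (flp_i L813554) q29384, e3 q28424 (flp_i L813562) q29385, e3 q28425 L814105 q29438, e3 q28426 (flp_i L803014) q27237, e3 q28427 (flp_i L803022) q27238, e3 q28428 (flp_i L813255) q29357, e3 q28429 L803055 q27245, e3 q28430 (flp_i L810256) q29136, e3 q28431 L803078 q27819, e3 q28432 L803094 q27591, e3 q28433 L803108 q27592, e3 q28434 L803124 q27811, e3 q28435 L803134 q27834, e3 q28436 (flp_i L809783) q29107, e3 q28437 (flp_i L809799) q29108, e3 q28438 (flp_i L809815) q29109, e3 q28439 (flp_i L811981) q29260, e3 q28440 (flp_i L811991) q29261, e3 q28441 (flp_i L812003) q29262, e3 q28442 (flp_i L812017) q29263, e3 q28443 (flp_i L812031) q29264, e3 q28444 (flp_i L812043) q29265,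 e3 q28445 L803237 q27272, e3 q28446 L803251 q27273, e3 q28447 L803265 q27274, e3 q28448 L803277 q27276, e3 q28449 L803287 q27277, e3 q28450 L803299 q27285, e3 q28451 L803319 q27807, e3 q28452 (flp_i L814231) q29448, e3 q28453 (flp_i L814245) q29449, e3 q28454 (flp_i L814257) q29450, e3 q28455 (flp_i L814272) q29451, e3 q28456 (flp_i L809831) q29110, e3 q28457 (flp_i L809845) q29111, e3 q28458 (flp_i L809912) q29115, e3 q28459 L803404 q27734, e3 q28460 L814322 q29456, e3 q28461 (flp_i L803418) q27287, e3 q28462 L803448 q27294, e3 q28463 L803458 q27822, e3 q28464 L803468 q27793, e3 q28465 L803478 q27794, e3 q28466 L803488 q27814, e3 q28467 L803498 q27815, e3 q28468 L803508 q27816, e3 q28469 (flp_i L809932) q29116, e3 q28470 (flp_i L812323) q29283, e3 q28471 (flp_i L812133) q29271, e3 q28472 (flp_i L812401) q29288, e3 q28473 (flp_i L812462) q29292, e3 q28474 (flp_i L812478) q29293, e3 q28475 (flp_i L812491) q29294, e3 q28476 (flp_i L812505) q29295, e3 q28477 (flp_i L812519) q29296, e3 q28478 (flp_i L812533) q29297, e3 q28479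 (flp_i L812543) q29298, trivial⟩ (by decide +kernel)

theorem ce_i_445 : ∀ r, r < 64 → sm gi (Qf (28480 + r)) = Qf (tab Gen.i (28480 + r)) :=
  edges_tab (sm gi) Qf (tab Gen.i) 28480 [(28480, 29299), (28481, 29300), (28482, 29301), (28483, 27329), (28484, 27330), (28485, 27331), (28486, 27340), (28487, 27341), (28488, 27342), (28489, 27343), (28490, 27344), (28491, 27345), (28492, 27358), (28493, 27359), (28494, 29164), (28495, 27363), (28496, 29139), (28497, 27498), (28498, 27499), (28499, 27500), (28500, 29474), (28501, 29475), (28502, 29476), (28503, 27868), (28504, 27869), (28505, 27870), (28506, 27907), (28507, 27905), (28508, 27906), (28509, 27904), (28510, 27619), (28511, 29477), (28512, 29478), (28513, 29479), (28514, 29480), (28515, 29481), (28516, 29482), (28517, 27667), (28518, 27864), (28519, 27351), (28520, 27352), (28521, 29505), (28522, 29506), (28523, 29507), (28524, 27354), (28525, 27926), (28526, 27636), (28527, 29160), (28528, 29484), (28529, 29514), (28530, 27360), (28531, 27620), (28532, 27736), (28533,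 29150), (28534, 29330), (28535, 29331), (28536, 29332), (28537, 29209), (28538, 29210), (28539, 29333), (28540, 29334), (28541, 29335), (28542, 29131), (28543, 29132)]
    ⟨e3 q28480 (flp_i L812559) q29299, e3 q28481 (flp_i L812573) q29300, e3 q28482 (flp_i L812585) q29301, e3 q28483 L803683 q27329, e3 q28484 L803697 q27330, e3 q28485 L803715 q27331, e3 q28486 L803725 q27340, e3 q28487 L803735 q27341, e3 q28488 L803743 q27342, e3 q28489 L803755 q27343, e3 q28490 L803765 q27344, e3 q28491 L803777 q27345, e3 q28492 L803789 q27358, e3 q28493 L803799 q27359, e3 q28494 (flp_i L810596) q29164, e3 q28495 L803819 q27363, e3 q28496 (flp_i L810301) q29139, e3 q28497 L803844 q27498, e3 q28498 L803858 q27499, e3 q28499 L803874 q27500, e3 q28500 (flp_i L814550) q29474, e3 q28501 (flp_i L814564) q29475, e3 q28502 (flp_i L814576) q29476, e3 q28503 L803911 q27868, e3 q28504 L803925 q27869, e3 q28505 L803939 q27870, e3 q28506 L803949 q27907, e3 q28507 L803961 q27905, e3 q28508 L803973 q27906, e3 q28509 L803985 q27904, e3 q28510 L803997 q27619,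 e3 q28511 (flp_i L814589) q29477, e3 q28512 (flp_i L814599) q29478, e3 q28513 (flp_i L814607) q29479, e3 q28514 (flp_i L814619) q29480, e3 q28515 (flp_i L814631) q29481, e3 q28516 (flp_i L814643) q29482, e3 q28517 L804061 q27667, e3 q28518 L804077 q27864, e3 q28519 L804087 q27351, e3 q28520 L804101 q27352, e3 q28521 (flp_i L814908) q29505, e3 q28522 (flp_i L814922) q29506, e3 q28523 (flp_i L814934) q29507, e3 q28524 L804140 q27354, e3 q28525 L804150 q27926, e3 q28526 L804160 q27636, e3 q28527 (flp_i L810553) q29160, e3 q28528 (flp_i L814667) q29484, e3 q28529 L814988 q29514, e3 q28530 (flp_i L804184) q27360, e3 q28531 L804196 q27620, e3 q28532 L804210 q27736, e3 q28533 (flp_i L810445) q29150, e3 q28534 (flp_i L812995) q29330, e3 q28535 (flp_i L813011) q29331, e3 q28536 (flp_i L813021) q29332, e3 q28537 (flp_i L811209) q29209, e3 q28538 (flp_i L811225) q29210, e3 q28539 (flp_i L813035) q29333, e3 q28540 (flp_i L813047) q29334, e3 q28541 (flp_i L813053) q29335, e3 q28542 (flp_i L810181) q29131, e3 q28543 (flp_i L810197) q29132,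 trivial⟩ (by decide +kernel)

theorem ce_i_446 : ∀ r, r < 64 → sm gi (Qf (28544 + r)) = Qf (tab Gen.i (28544 + r)) :=
  edges_tab (sm gi) Qf (tab Gen.i) 28544 [(28544, 29133), (28545, 29066), (28546, 29019), (28547, 29018), (28548, 27525), (28549, 29020), (28550, 29021), (28551, 29022), (28552, 29336), (28553, 29337), (28554, 29338), (28555, 29339), (28556, 29340), (28557, 29341), (28558, 27845), (28559, 27846), (28560, 27392), (28561, 29544), (28562, 27676), (28563, 27677), (28564, 27678), (28565, 29349), (28566, 29350), (28567, 29351), (28568, 29352), (28569, 29353), (28570, 29354), (28571, 29355), (28572, 29356), (28573, 27682), (28574, 27683), (28575, 27684), (28576, 29358), (28577, 29359), (28578, 29564), (28579, 27459), (28580, 27462), (28581, 27463), (28582, 27464), (28583, 27465), (28584, 27466), (28585, 27470), (28586, 27480), (28587, 27483), (28588, 27487), (28589, 27488), (28590, 27489), (28591, 27490), (28592, 27491), (28593, 27492), (28594, 27493), (28595, 27494), (28596, 29582), (28597, 29239), (28598, 27428),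 (28599, 29583), (28600, 27430), (28601, 27528), (28602, 27531), (28603, 27536), (28604, 27537), (28605, 27538), (28606, 27539), (28607, 27540)]
    ⟨e3 q28544 (flp_i L810211) q29133, e3 q28545 (flp_i L809198) q29066, e3 q28546 (flp_i L808526) q29019, e3 q28547 (flp_i L808511) q29018, e3 q28548 L804387 q27525, e3 q28549 (flp_i L808544) q29020, e3 q28550 (flp_i L808560) q29021, e3 q28551 (flp_i L808573) q29022, e3 q28552 (flp_i L813064) q29336, e3 q28553 (flp_i L813074) q29337, e3 q28554 (flp_i L813080) q29338, e3 q28555 (flp_i L813090) q29339, e3 q28556 (flp_i L813098) q29340, e3 q28557 (flp_i L813112) q29341, e3 q28558 L804480 q27845, e3 q28559 L804494 q27846, e3 q28560 L804506 q27392, e3 q28561 (flp_i L815317) q29544, e3 q28562 L804530 q27676, e3 q28563 L804538 q27677, e3 q28564 L804543 q27678, e3 q28565 (flp_i L813185) q29349, e3 q28566 (flp_i L813193) q29350, e3 q28567 (flp_i L813199) q29351, e3 q28568 (flp_i L813208) q29352, e3 q28569 (flp_i L813217) q29353, e3 q28570 (flp_i L813227) q29354, e3 q28571 (flp_i L813233) q29355,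 e3 q28572 (flp_i L813241) q29356, e3 q28573 L804601 q27682, e3 q28574 L804613 q27683, e3 q28575 L804619 q27684, e3 q28576 (flp_i L813269) q29358, e3 q28577 (flp_i L813277) q29359, e3 q28578 L815461 q29564, e3 q28579 L804651 q27459, e3 q28580 L804665 q27462, e3 q28581 L804675 q27463, e3 q28582 L804683 q27464, e3 q28583 L804691 q27465, e3 q28584 L804697 q27466, e3 q28585 L804710 q27470, e3 q28586 L804726 q27480, e3 q28587 L804740 q27483, e3 q28588 L804752 q27487, e3 q28589 L804764 q27488, e3 q28590 L804770 q27489, e3 q28591 L804778 q27490, e3 q28592 L804784 q27491, e3 q28593 L804794 q27492, e3 q28594 L804802 q27493, e3 q28595 L804812 q27494, e3 q28596 L815656 q29582, e3 q28597 (flp_i L811651) q29239, e3 q28598 L804850 q27428, e3 q28599 (flp_i L815680) q29583, e3 q28600 L804874 q27430, e3 q28601 L804888 q27528, e3 q28602 L804898 q27531, e3 q28603 L804910 q27536, e3 q28604 L804918 q27537, e3 q28605 L804928 q27538, e3 q28606 L804940 q27539, e3 q28607 L804950 q27540, trivial⟩ (by decide +kernel)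

theorem ce_i_447 : ∀ r, r < 64 → sm gi (Qf (28608 + r)) = Qf (tab Gen.i (28608 + r)) :=
  edges_tab (sm gi) Qf (tab Gen.i) 28608 [(28608, 29589), (28609, 27542), (28610, 27543), (28611, 29593), (28612, 27441), (28613, 27550), (28614, 27552), (28615, 29595), (28616, 27555), (28617, 27446), (28618, 29291), (28619, 27448), (28620, 29597), (28621, 27450), (28622, 29194), (28623, 27841), (28624, 27662), (28625, 27663), (28626, 29190), (28627, 29191), (28628, 29192), (28629, 27719), (28630, 27837), (28631, 27718), (28632, 29565), (28633, 29566), (28634, 29567), (28635, 29568), (28636, 29569), (28637, 29114), (28638, 27843), (28639, 29218), (28640, 29219), (28641, 27708), (28642, 27709), (28643, 27474), (28644, 29614), (28645, 29200), (28646, 29201), (28647, 27477), (28648, 27847), (28649, 27848), (28650, 27556), (28651, 29571), (28652, 29238), (28653, 27704), (28654, 27562), (28655, 29237), (28656, 27703), (28657, 29628), (28658, 29572), (28659, 29573), (28660, 29574), (28661, 29575), (28662, 29576), (28663, 29577), (28664, 29635),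 (28665, 29579), (28666, 29580), (28667, 29639), (28668, 27495), (28669, 29329), (28670, 29487), (28671, 29488)]
    ⟨e3 q28608 L815744 q29589, e3 q28609 L804972 q27542, e3 q28610 L804984 q27543, e3 q28611 L815790 q29593, e3 q28612 (flp_i L804998) q27441, e3 q28613 L805016 q27550, e3 q28614 L805028 q27552, e3 q28615 L815812 q29595, e3 q28616 L805047 q27555, e3 q28617 (flp_i L805051) q27446, e3 q28618 (flp_i L812446) q29291, e3 q28619 (flp_i L805073) q27448, e3 q28620 L815830 q29597, e3 q28621 (flp_i L805096) q27450, e3 q28622 (flp_i L810993) q29194, e3 q28623 L805135 q27841, e3 q28624 L805147 q27662, e3 q28625 L805159 q27663, e3 q28626 (flp_i L810926) q29190, e3 q28627 (flp_i L810942) q29191, e3 q28628 (flp_i L810956) q29192, e3 q28629 L805192 q27719, e3 q28630 L805212 q27837, e3 q28631 L805228 q27718, e3 q28632 (flp_i L815478) q29565, e3 q28633 (flp_i L815488) q29566, e3 q28634 (flp_i L815494) q29567, e3 q28635 (flp_i L815507) q29568, e3 q28636 (flp_i L815515) q29569, e3 q28637 (flp_i L809895) q29114, e3 q28638 L805282 q27843,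 e3 q28639 (flp_i L811319) q29218, e3 q28640 (flp_i L811335) q29219, e3 q28641 L805312 q27708, e3 q28642 L805324 q27709, e3 q28643 L805336 q27474, e3 q28644 (flp_i L816009) q29614, e3 q28645 (flp_i L811072) q29200, e3 q28646 (flp_i L811087) q29201, e3 q28647 L805371 q27477, e3 q28648 L805383 q27847, e3 q28649 L805395 q27848, e3 q28650 L805405 q27556, e3 q28651 (flp_i L815548) q29571, e3 q28652 (flp_i L811629) q29238, e3 q28653 L805423 q27704, e3 q28654 L805433 q27562, e3 q28655 (flp_i L811613) q29237, e3 q28656 L805451 q27703, e3 q28657 L816134 q29628, e3 q28658 (flp_i L815562) q29572, e3 q28659 (flp_i L815574) q29573, e3 q28660 (flp_i L815582) q29574, e3 q28661 (flp_i L815594) q29575, e3 q28662 (flp_i L815602) q29576, e3 q28663 (flp_i L815610) q29577, e3 q28664 L816192 q29635, e3 q28665 (flp_i L815628) q29579, e3 q28666 (flp_i L815640) q29580, e3 q28667 L816224 q29639, e3 q28668 (flp_i L805535) q27495, e3 q28669 (flp_i L812979) q29329, e3 q28670 (flp_i L814700) q29487, e3 q28671 (flp_i L814714) q29488, trivial⟩ (by decide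 +kernel)

theorem ce_i_448 : ∀ r, r < 64 → sm gi (Qf (28672 + r)) = Qf (tab Gen.i (28672 + r)) :=
  edges_tab (sm gi) Qf (tab Gen.i) 28672 [(28672, 29489), (28673, 27707), (28674, 29231), (28675, 29023), (28676, 29024), (28677, 29025), (28678, 27509), (28679, 27510), (28680, 27511), (28681, 29647), (28682, 29648), (28683, 29649), (28684, 29650), (28685, 27514), (28686, 27515), (28687, 27516), (28688, 29655), (28689, 29656), (28690, 29180), (28691, 29181), (28692, 29664), (28693, 27521), (28694, 27522), (28695, 29665), (28696, 29179), (28697, 29134), (28698, 29135), (28699, 29531), (28700, 29229), (28701, 27851), (28702, 29242), (28703, 29100), (28704, 27735), (28705, 27593), (28706, 29672), (28707, 27534), (28708, 29584), (28709, 29585), (28710, 29587), (28711, 29675), (28712, 27541), (28713, 29590), (28714, 29678), (28715, 29623), (28716, 27544), (28717, 27568), (28718, 29681), (28719, 27549), (28720, 29017), (28721, 29594), (28722, 27553), (28723, 29064), (28724, 29016), (28725, 29620), (28726, 29096), (28727, 29167), (28728,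 29624), (28729, 29029), (28730, 29549), (28731, 27788), (28732, 27789), (28733, 29117), (28734, 29118), (28735, 29119)]
    ⟨e3 q28672 (flp_i L814726) q29489, e3 q28673 L805588 q27707, e3 q28674 (flp_i L811513) q29231, e3 q28675 (flp_i L808589) q29023, e3 q28676 (flp_i L808605) q29024, e3 q28677 (flp_i L808618) q29025, e3 q28678 L805635 q27509, e3 q28679 L805643 q27510, e3 q28680 L805648 q27511, e3 q28681 (flp_i L816309) q29647, e3 q28682 (flp_i L816317) q29648, e3 q28683 (flp_i L816323) q29649, e3 q28684 (flp_i L816330) q29650, e3 q28685 L805685 q27514, e3 q28686 L805691 q27515, e3 q28687 L805695 q27516, e3 q28688 (flp_i L816367) q29655, e3 q28689 (flp_i L816373) q29656, e3 q28690 (flp_i L810793) q29180, e3 q28691 (flp_i L810805) q29181, e3 q28692 L816424 q29664, e3 q28693 L805746 q27521, e3 q28694 L805754 q27522, e3 q28695 (flp_i L816439) q29665, e3 q28696 (flp_i L810779) q29179, e3 q28697 (flp_i L810227) q29134, e3 q28698 (flp_i L810243) q29135, e3 q28699 (flp_i L815179) q29531, e3 q28700 (flp_i L811479) q29229, e3 q28701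 L805824 q27851, e3 q28702 (flp_i L811691) q29242, e3 q28703 (flp_i L809680) q29100, e3 q28704 L805846 q27735, e3 q28705 L805860 q27593, e3 q28706 L816501 q29672, e3 q28707 (flp_i L805872) q27534, e3 q28708 (flp_i L815690) q29584, e3 q28709 (flp_i L815702) q29585, e3 q28710 (flp_i L815726) q29587, e3 q28711 L816531 q29675, e3 q28712 (flp_i L805922) q27541, e3 q28713 (flp_i L815766) q29590, e3 q28714 L816561 q29678, e3 q28715 (flp_i L816090) q29623, e3 q28716 (flp_i L805948) q27544, e3 q28717 L805956 q27568, e3 q28718 L816580 q29681, e3 q28719 (flp_i L805967) q27549, e3 q28720 (flp_i L808494) q29017, e3 q28721 (flp_i L815808) q29594, e3 q28722 (flp_i L805996) q27553, e3 q28723 (flp_i L809160) q29064, e3 q28724 (flp_i L808480) q29016, e3 q28725 (flp_i L816066) q29620, e3 q28726 (flp_i L809624) q29096, e3 q28727 (flp_i L810622) q29167, e3 q28728 (flp_i L816100) q29624, e3 q28729 (flp_i L808664) q29029, e3 q28730 (flp_i L815361) q29549, e3 q28731 L806087 q27788, e3 q28732 L806099 q27789, e3 q28733 (flp_i L809952) q29117, e3 q28734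 (flp_i L809968) q29118, e3 q28735 (flp_i L809982) q29119, trivial⟩ (by decide +kernel)

theorem ce_i_449 : ∀ r, r < 64 → sm gi (Qf (28736 + r)) = Qf (tab Gen.i (28736 + r)) :=
  edges_tab (sm gi) Qf (tab Gen.i) 28736 [(28736, 27784), (28737, 27785), (28738, 27790), (28739, 27617), (28740, 27618), (28741, 27732), (28742, 29440), (28743, 29157), (28744, 29158), (28745, 29159), (28746, 27635), (28747, 29014), (28748, 29015), (28749, 29026), (28750, 29027), (28751, 29028), (28752, 29030), (28753, 29031), (28754, 29032), (28755, 29062), (28756, 29063), (28757, 29065), (28758, 29137), (28759, 29138), (28760, 29140), (28761, 29141), (28762, 29142), (28763, 29143), (28764, 27835), (28765, 27836), (28766, 29692), (28767, 29499), (28768, 29497), (28769, 29152), (28770, 29153), (28771, 29154), (28772, 29155), (28773, 29095), (28774, 29097), (28775, 29161), (28776, 29162), (28777, 29163), (28778, 29165), (28779, 29166), (28780, 29080), (28781, 29511), (28782, 27900), (28783, 27901), (28784, 27902), (28785, 29120), (28786, 29121), (28787,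 29122), (28788, 27903), (28789, 29034), (28790, 29035), (28791, 29036), (28792, 27679), (28793, 27680), (28794, 27681), (28795, 29289), (28796, 29290), (28797, 27687), (28798, 27688), (28799, 27658)]
    ⟨e3 q28736 L806156 q27784, e3 q28737 L806168 q27785, e3 q28738 L806178 q27790, e3 q28739 L806188 q27617, e3 q28740 L806198 q27618, e3 q28741 L806212 q27732, e3 q28742 (flp_i L814138) q29440, e3 q28743 (flp_i L810520) q29157, e3 q28744 (flp_i L810532) q29158, e3 q28745 (flp_i L810540) q29159, e3 q28746 L806247 q27635, e3 q28747 (flp_i L808450) q29014, e3 q28748 (flp_i L808466) q29015, e3 q28749 (flp_i L808630) q29026, e3 q28750 (flp_i L808642) q29027, e3 q28751 (flp_i L808656) q29028, e3 q28752 (flp_i L808678) q29030, e3 q28753 (flp_i L808692) q29031, e3 q28754 (flp_i L808704) q29032, e3 q28755 (flp_i L809138) q29062, e3 q28756 (flp_i L809152) q29063, e3 q28757 (flp_i L809182) q29065, e3 q28758 (flp_i L810272) q29137, e3 q28759 (flp_i L810288) q29138, e3 q28760 (flp_i L810313) q29140, e3 q28761 (flp_i L810325) q29141, e3 q28762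 (flp_i L810339) q29142, e3 q28763 (flp_i L810347) q29143, e3 q28764 L806426 q27835, e3 q28765 L806436 q27836, e3 q28766 (flp_i L816711) q29692, e3 q28767 (flp_i L814846) q29499, e3 q28768 (flp_i L814818) q29497, e3 q28769 (flp_i L810471) q29152, e3 q28770 (flp_i L810481) q29153, e3 q28771 (flp_i L810487) q29154, e3 q28772 (flp_i L810497) q29155, e3 q28773 (flp_i L809616) q29095, e3 q28774 (flp_i L809640) q29097, e3 q28775 (flp_i L810565) q29161, e3 q28776 (flp_i L810575) q29162, e3 q28777 (flp_i L810583) q29163, e3 q28778 (flp_i L810608) q29165, e3 q28779 (flp_i L810614) q29166, e3 q28780 (flp_i L809404) q29080, e3 q28781 (flp_i L814970) q29511, e3 q28782 L806589 q27900, e3 q28783 L806599 q27901, e3 q28784 L806609 q27902, e3 q28785 (flp_i L810003) q29120, e3 q28786 (flp_i L810019) q29121, e3 q28787 (flp_i L810033) q29122, e3 q28788 L806646 q27903, e3 q28789 (flp_i L808739) q29034, e3 q28790 (flp_i L808755) q29035, e3 q28791 (flp_i L808768) q29036, e3 q28792 L806675 q27679, e3 q28793 L806683 q27680, e3 q28794 L806693 q27681,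 e3 q28795 (flp_i L812417) q29289, e3 q28796 (flp_i L812433) q29290, e3 q28797 L806723 q27687, e3 q28798 L806733 q27688, e3 q28799 L806747 q27658, trivial⟩ (by decide +kernel)

theorem ce_i_450 : ∀ r, r < 64 → sm gi (Qf (28800 + r)) = Qf (tab Gen.i (28800 + r)) :=
  edges_tab (sm gi) Qf (tab Gen.i) 28800 [(28800, 27659), (28801, 29734), (28802, 29735), (28803, 29736), (28804, 27702), (28805, 29598), (28806, 29599), (28807, 29600), (28808, 27715), (28809, 27717), (28810, 29504), (28811, 27670), (28812, 27671), (28813, 27672), (28814, 29741), (28815, 29742), (28816, 29545), (28817, 29546), (28818, 29547), (28819, 29548), (28820, 29728), (28821, 29729), (28822, 29558), (28823, 29559), (28824, 29752), (28825, 27849), (28826, 27850), (28827, 29733), (28828, 27691), (28829, 27692), (28830, 29754), (28831, 29755), (28832, 29756), (28833, 27696), (28834, 27697), (28835, 27698), (28836, 27699), (28837, 29759), (28838, 29760), (28839, 29761), (28840, 27856), (28841, 29626), (28842, 29622), (28843, 27910), (28844, 27911), (28845, 29611),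 (28846, 29612), (28847, 29613), (28848, 27712), (28849, 27713), (28850, 29768), (28851, 27909), (28852, 29240), (28853, 29604), (28854, 29603), (28855, 29570), (28856, 27722), (28857, 27723), (28858, 27724), (28859, 29771), (28860, 29772), (28861, 27728), (28862, 27729), (28863, 29775)]
    ⟨e3 q28800 L806757 q27659, e3 q28801 (flp_i L817115) q29734, e3 q28802 (flp_i L817125) q29735, e3 q28803 (flp_i L817131) q29736, e3 q28804 L806790 q27702, e3 q28805 (flp_i L815854) q29598, e3 q28806 (flp_i L815866) q29599, e3 q28807 (flp_i L815872) q29600, e3 q28808 L806821 q27715, e3 q28809 L806831 q27717, e3 q28810 (flp_i L814896) q29504, e3 q28811 L806847 q27670, e3 q28812 L806855 q27671, e3 q28813 L806859 q27672, e3 q28814 (flp_i L817170) q29741, e3 q28815 (flp_i L817176) q29742, e3 q28816 (flp_i L815329) q29545, e3 q28817 (flp_i L815337) q29546, e3 q28818 (flp_i L815343) q29547, e3 q28819 (flp_i L815352) q29548, e3 q28820 (flp_i L817054) q29728, e3 q28821 (flp_i L817064) q29729, e3 q28822 (flp_i L815427) q29558, e3 q28823 (flp_i L815435)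 q29559, e3 q28824 L817220 q29752, e3 q28825 L806930 q27849, e3 q28826 L806940 q27850, e3 q28827 (flp_i L817101) q29733, e3 q28828 L806962 q27691, e3 q28829 L806972 q27692, e3 q28830 (flp_i L817243) q29754, e3 q28831 (flp_i L817253) q29755, e3 q28832 (flp_i L817259) q29756, e3 q28833 L807003 q27696, e3 q28834 L807011 q27697, e3 q28835 L807019 q27698, e3 q28836 L807025 q27699, e3 q28837 (flp_i L817286) q29759, e3 q28838 (flp_i L817294) q29760, e3 q28839 (flp_i L817300) q29761, e3 q28840 L807055 q27856, e3 q28841 (flp_i L816120) q29626, e3 q28842 (flp_i L816080) q29622, e3 q28843 L807077 q27910, e3 q28844 L807089 q27911, e3 q28845 (flp_i L815976) q29611, e3 q28846 (flp_i L815988) q29612, e3 q28847 (flp_i L815994) q29613, e3 q28848 L807114 q27712, e3 q28849 L807122 q27713, e3 q28850 (flp_i L817350) q29768, e3 q28851 L807142 q27909, e3 q28852 (flp_i L811665) q29240, e3 q28853 (flp_i L815921) q29604, e3 q28854 (flp_i L815901) q29603, e3 q28855 (flp_i L815532) q29570, e3 q28856 L807185 q27722, e3 q28857 L807191 q27723, e3 q28858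 L807195 q27724, e3 q28859 (flp_i L817374) q29771, e3 q28860 (flp_i L817380) q29772, e3 q28861 L807212 q27728, e3 q28862 L807218 q27729, e3 q28863 (flp_i L817393) q29775, trivial⟩ (by decide +kernel)

theorem ce_i_451 : ∀ r, r < 64 → sm gi (Qf (28864 + r)) = Qf (tab Gen.i (28864 + r)) :=
  edges_tab (sm gi) Qf (tab Gen.i) 28864 [(28864, 29230), (28865, 29221), (28866, 29235), (28867, 29408), (28868, 29409), (28869, 27745), (28870, 27746), (28871, 27747), (28872, 29778), (28873, 29779), (28874, 29780), (28875, 29781), (28876, 27765), (28877, 27766), (28878, 27753), (28879, 27754), (28880, 27755), (28881, 29786), (28882, 29787), (28883, 29788), (28884, 29789), (28885, 27759), (28886, 27760), (28887, 27761), (28888, 29793), (28889, 29794), (28890, 29007), (28891, 29001), (28892, 29785), (28893, 29321), (28894, 29147), (28895, 29148), (28896, 29149), (28897, 27773), (28898, 29431), (28899, 27796), (28900, 27779), (28901, 27780), (28902, 27781), (28903, 29800), (28904, 29801), (28905, 27803), (28906, 29691), (28907, 29006), (28908,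 29688), (28909, 29287), (28910, 29457), (28911, 29388), (28912, 27800), (28913, 29320), (28914, 29112), (28915, 29113), (28916, 29285), (28917, 29286), (28918, 27899), (28919, 27831), (28920, 27832), (28921, 27833), (28922, 29458), (28923, 29459), (28924, 29128), (28925, 29129), (28926, 29268), (28927, 29269)]
    ⟨e3 q28864 (flp_i L811499) q29230, e3 q28865 (flp_i L811363) q29221, e3 q28866 (flp_i L811579) q29235, e3 q28867 (flp_i L813840) q29408, e3 q28868 (flp_i L813854) q29409, e3 q28869 L807264 q27745, e3 q28870 L807274 q27746, e3 q28871 L807281 q27747, e3 q28872 (flp_i L817415) q29778, e3 q28873 (flp_i L817425) q29779, e3 q28874 (flp_i L817431) q29780, e3 q28875 (flp_i L817440) q29781, e3 q28876 L807308 q27765, e3 q28877 L807318 q27766, e3 q28878 L807328 q27753, e3 q28879 L807336 q27754, e3 q28880 L807341 q27755, e3 q28881 (flp_i L817476) q29786, e3 q28882 (flp_i L817484) q29787, e3 q28883 (flp_i L817490) q29788, e3 q28884 (flp_i L817499) q29789, e3 q28885 L807382 q27759, e3 q28886 L807390 q27760, e3 q28887 L807396 q27761,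 e3 q28888 (flp_i L817533) q29793, e3 q28889 (flp_i L817539) q29794, e3 q28890 (flp_i L808336) q29007, e3 q28891 (flp_i L808228) q29001, e3 q28892 (flp_i L817466) q29785, e3 q28893 (flp_i L812866) q29321, e3 q28894 (flp_i L810408) q29147, e3 q28895 (flp_i L810422) q29148, e3 q28896 (flp_i L810430) q29149, e3 q28897 L807463 q27773, e3 q28898 (flp_i L814059) q29431, e3 q28899 L807477 q27796, e3 q28900 L807483 q27779, e3 q28901 L807491 q27780, e3 q28902 L807495 q27781, e3 q28903 (flp_i L817581) q29800, e3 q28904 (flp_i L817587) q29801, e3 q28905 L807512 q27803, e3 q28906 (flp_i L816699) q29691, e3 q28907 (flp_i L808320) q29006, e3 q28908 (flp_i L816657) q29688, e3 q28909 (flp_i L812383) q29287, e3 q28910 (flp_i L814348) q29457, e3 q28911 (flp_i L813592) q29388, e3 q28912 L807560 q27800, e3 q28913 (flp_i L812856) q29320, e3 q28914 (flp_i L809865) q29112, e3 q28915 (flp_i L809881) q29113, e3 q28916 (flp_i L812355) q29285, e3 q28917 (flp_i L812369) q29286, e3 q28918 L807590 q27899, e3 q28919 L807603 q27831, e3 q28920 L807613 q27832,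 e3 q28921 L807619 q27833, e3 q28922 (flp_i L814358) q29458, e3 q28923 (flp_i L814370) q29459, e3 q28924 (flp_i L810129) q29128, e3 q28925 (flp_i L810145) q29129, e3 q28926 (flp_i L812096) q29268, e3 q28927 (flp_i L812110) q29269, trivial⟩ (by decide +kernel)

theorem ce_i_452 : ∀ r, r < 64 → sm gi (Qf (28928 + r)) = Qf (tab Gen.i (28928 + r)) :=
  edges_tab (sm gi) Qf (tab Gen.i) 28928 [(28928, 29270), (28929, 29279), (28930, 27838), (28931, 27839), (28932, 27840), (28933, 29130), (28934, 29807), (28935, 29808), (28936, 29710), (28937, 29814), (28938, 29815), (28939, 29542), (28940, 29543), (28941, 29618), (28942, 29619), (28943, 29753), (28944, 29669), (28945, 27854), (28946, 27855), (28947, 29823), (28948, 27891), (28949, 27892), (28950, 27893), (28951, 27897), (28952, 27898), (28953, 29224), (28954, 29225), (28955, 29492), (28956, 29493), (28957, 29494), (28958, 27912), (28959, 27913), (28960, 29834), (28961, 27876), (28962, 27877), (28963, 27878), (28964, 29835), (28965, 29836), (28966, 29837), (28967, 27881), (28968,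 27882), (28969, 27883), (28970, 29840), (28971, 29841), (28972, 27924), (28973, 27923), (28974, 27925), (28975, 29824), (28976, 29825), (28977, 29168), (28978, 29169), (28979, 29826), (28980, 29827), (28981, 29806), (28982, 29720), (28983, 29721), (28984, 29498), (28985, 29496), (28986, 29495), (28987, 29765), (28988, 29832), (28989, 29855), (28990, 27914), (28991, 27918)]
    ⟨e3 q28928 (flp_i L812118) q29270, e3 q28929 (flp_i L812255) q29279, e3 q28930 L807687 q27838, e3 q28931 L807699 q27839, e3 q28932 L807705 q27840, e3 q28933 (flp_i L810163) q29130, e3 q28934 (flp_i L817624) q29807, e3 q28935 (flp_i L817632) q29808, e3 q28936 (flp_i L816893) q29710, e3 q28937 (flp_i L817677) q29814, e3 q28938 (flp_i L817683) q29815, e3 q28939 (flp_i L815289) q29542, e3 q28940 (flp_i L815303) q29543, e3 q28941 (flp_i L816046) q29618, e3 q28942 (flp_i L816058) q29619, e3 q28943 (flp_i L817231) q29753, e3 q28944 (flp_i L816481) q29669, e3 q28945 L807784 q27854, e3 q28946 L807790 q27855, e3 q28947 (flp_i L817727) q29823, e3 q28948 L807804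 q27891, e3 q28949 L807810 q27892, e3 q28950 L807814 q27893, e3 q28951 L807823 q27897, e3 q28952 L807829 q27898, e3 q28953 (flp_i L811405) q29224, e3 q28954 (flp_i L811421) q29225, e3 q28955 (flp_i L814761) q29492, e3 q28956 (flp_i L814775) q29493, e3 q28957 (flp_i L814787) q29494, e3 q28958 L807864 q27912, e3 q28959 L807872 q27913, e3 q28960 L817791 q29834, e3 q28961 L807886 q27876, e3 q28962 L807896 q27877, e3 q28963 L807903 q27878, e3 q28964 (flp_i L817805) q29835, e3 q28965 (flp_i L817815) q29836, e3 q28966 (flp_i L817821) q29837, e3 q28967 L807930 q27881, e3 q28968 L807938 q27882, e3 q28969 L807942 q27883, e3 q28970 (flp_i L817844) q29840, e3 q28971 (flp_i L817850) q29841, e3 q28972 L807961 q27924, e3 q28973 L807969 q27923, e3 q28974 L807979 q27925, e3 q28975 (flp_i L817733) q29824, e3 q28976 (flp_i L817739) q29825, e3 q28977 (flp_i L810636) q29168, e3 q28978 (flp_i L810644) q29169, e3 q28979 (flp_i L817747) q29826, e3 q28980 (flp_i L817751) q29827, e3 q28981 (flp_i L817612) q29806, e3 q28982 (flp_i L816985) q29720, e3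 q28983 (flp_i L816997) q29721, e3 q28984 (flp_i L814834) q29498, e3 q28985 (flp_i L814810) q29496, e3 q28986 (flp_i L814798) q29495, e3 q28987 (flp_i L817330) q29765, e3 q28988 (flp_i L817783) q29832, e3 q28989 L817928 q29855, e3 q28990 (flp_i L808084) q27914, e3 q28991 L808094 q27918, trivial⟩ (by decide +kernel)

theorem ce_i_453 : ∀ r, r < 64 → sm gi (Qf (28992 + r)) = Qf (tab Gen.i (28992 + r)) :=
  edges_tab (sm gi) Qf (tab Gen.i) 28992 [(28992, 27919), (28993, 29856), (28994, 27922), (28995, 29844), (28996, 27934), (28997, 27935), (28998, 28414), (28999, 28422), (29000, 29857), (29001, 28891), (29002, 29860), (29003, 27937), (29004, 27946), (29005, 28367), (29006, 28907), (29007, 28890), (29008, 28378), (29009, 29863), (29010, 27948), (29011, 28069), (29012, 28070), (29013, 28071), (29014, 28747), (29015, 28748), (29016, 28724), (29017, 28720), (29018, 28547), (29019, 28546), (29020, 28549), (29021, 28550), (29022, 28551), (29023, 28675), (29024, 28676), (29025, 28677), (29026, 28749), (29027, 28750), (29028, 28751),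 (29029, 28729), (29030, 28752), (29031, 28753), (29032, 28754), (29033, 27996), (29034, 28789), (29035, 28790), (29036, 28791), (29037, 28000), (29038, 28001), (29039, 28002), (29040, 28003), (29041, 28004), (29042, 28005), (29043, 28006), (29044, 28007), (29045, 28008), (29046, 28009), (29047, 27983), (29048, 27984), (29049, 27985), (29050, 29904), (29051, 29905), (29052, 29906), (29053, 29907), (29054, 28032), (29055, 28033)]
    ⟨e3 q28992 L808102 q27919, e3 q28993 (flp_i L817940) q29856, e3 q28994 L808116 q27922, e3 q28995 (flp_i L817865) q29844, e3 q28996 L808140 q27934, e3 q28997 L808156 q27935, e3 q28998 L808178 q28414, e3 q28999 L808198 q28422, e3 q29000 (flp_i L817956) q29857, e3 q29001 L808228 q28891, e3 q29002 L817996 q29860, e3 q29003 (flp_i L808250) q27937, e3 q29004 L808282 q27946, e3 q29005 L808302 q28367, e3 q29006 L808320 q28907, e3 q29007 L808336 q28890, e3 q29008 L808350 q28378, e3 q29009 L818050 q29863, e3 q29010 (flp_i L808372) q27948, e3 q29011 L808400 q28069, e3 q29012 L808416 q28070, e3 q29013 L808434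 q28071, e3 q29014 L808450 q28747, e3 q29015 L808466 q28748, e3 q29016 L808480 q28724, e3 q29017 L808494 q28720, e3 q29018 L808511 q28547, e3 q29019 L808526 q28546, e3 q29020 L808544 q28549, e3 q29021 L808560 q28550, e3 q29022 L808573 q28551, e3 q29023 L808589 q28675, e3 q29024 L808605 q28676, e3 q29025 L808618 q28677, e3 q29026 L808630 q28749, e3 q29027 L808642 q28750, e3 q29028 L808656 q28751, e3 q29029 L808664 q28729, e3 q29030 L808678 q28752, e3 q29031 L808692 q28753, e3 q29032 L808704 q28754, e3 q29033 L808723 q27996, e3 q29034 L808739 q28789, e3 q29035 L808755 q28790, e3 q29036 L808768 q28791, e3 q29037 L808784 q28000, e3 q29038 L808798 q28001, e3 q29039 L808812 q28002, e3 q29040 L808826 q28003, e3 q29041 L808844 q28004, e3 q29042 L808860 q28005, e3 q29043 L808874 q28006, e3 q29044 L808890 q28007, e3 q29045 L808902 q28008, e3 q29046 L808914 q28009, e3 q29047 L808932 q27983, e3 q29048 L808948 q27984, e3 q29049 L808961 q27985, e3 q29050 (flp_i L818690) q29904, e3 q29051 (flp_i L818706) q29905, e3 q29052 (flp_i L818716)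 q29906, e3 q29053 (flp_i L818733) q29907, e3 q29054 L809020 q28032, e3 q29055 L809032 q28033, trivial⟩ (by decide +kernel)

theorem ce_i_454 : ∀ r, r < 64 → sm gi (Qf (29056 + r)) = Qf (tab Gen.i (29056 + r)) :=
  edges_tab (sm gi) Qf (tab Gen.i) 29056 [(29056, 28035), (29057, 28036), (29058, 29915), (29059, 28040), (29060, 28323), (29061, 27995), (29062, 28755), (29063, 28756), (29064, 28723), (29065, 28757), (29066, 28545), (29067, 29894), (29068, 29895), (29069, 29896), (29070, 29897), (29071, 29898), (29072, 29899), (29073, 29900), (29074, 29901), (29075, 29902), (29076, 28012), (29077, 28013), (29078, 29927), (29079, 29928), (29080, 28780), (29081, 28018), (29082, 28019), (29083, 28020), (29084, 29930), (29085, 29931), (29086, 29932), (29087, 29933), (29088, 28024), (29089, 28025), (29090, 28026), (29091, 28027), (29092, 29939), (29093, 29940), (29094, 29941), (29095, 28773), (29096, 28726), (29097, 28774), (29098, 29947), (29099, 29912), (29100, 28703), (29101, 29913), (29102, 29950), (29103, 28037), (29104, 28041),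 (29105, 28052), (29106, 28381), (29107, 28436), (29108, 28437), (29109, 28438), (29110, 28456), (29111, 28457), (29112, 28914), (29113, 28915), (29114, 28637), (29115, 28458), (29116, 28469), (29117, 28733), (29118, 28734), (29119, 28735)]
    ⟨e3 q29056 L809048 q28035, e3 q29057 L809060 q28036, e3 q29058 L818828 q29915, e3 q29059 L809090 q28040, e3 q29060 L809107 q28323, e3 q29061 (flp_i L809109) q27995, e3 q29062 L809138 q28755, e3 q29063 L809152 q28756, e3 q29064 L809160 q28723, e3 q29065 L809182 q28757, e3 q29066 L809198 q28545, e3 q29067 (flp_i L818534) q29894, e3 q29068 (flp_i L818548) q29895, e3 q29069 (flp_i L818562) q29896, e3 q29070 (flp_i L818582) q29897, e3 q29071 (flp_i L818598) q29898, e3 q29072 (flp_i L818608) q29899, e3 q29073 (flp_i L818628) q29900, e3 q29074 (flp_i L818644) q29901, e3 q29075 (flp_i L818656) q29902, e3 q29076 L809338 q28012, e3 q29077 L809354 q28013, e3 q29078 (flp_i L819023) q29927, e3 q29079 (flp_i L819039) q29928, e3 q29080 L809404 q28780, e3 q29081 L809422 q28018, e3 q29082 L809438 q28019,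 e3 q29083 L809451 q28020, e3 q29084 (flp_i L819077) q29930, e3 q29085 (flp_i L819093) q29931, e3 q29086 (flp_i L819103) q29932, e3 q29087 (flp_i L819118) q29933, e3 q29088 L809518 q28024, e3 q29089 L809530 q28025, e3 q29090 L809544 q28026, e3 q29091 L809558 q28027, e3 q29092 (flp_i L819202) q29939, e3 q29093 (flp_i L819216) q29940, e3 q29094 (flp_i L819230) q29941, e3 q29095 L809616 q28773, e3 q29096 L809624 q28726, e3 q29097 L809640 q28774, e3 q29098 L819312 q29947, e3 q29099 (flp_i L818794) q29912, e3 q29100 L809680 q28703, e3 q29101 (flp_i L818810) q29913, e3 q29102 L819358 q29950, e3 q29103 (flp_i L809706) q28037, e3 q29104 (flp_i L809718) q28041, e3 q29105 L809751 q28052, e3 q29106 L809767 q28381, e3 q29107 L809783 q28436, e3 q29108 L809799 q28437, e3 q29109 L809815 q28438, e3 q29110 L809831 q28456, e3 q29111 L809845 q28457, e3 q29112 L809865 q28914, e3 q29113 L809881 q28915, e3 q29114 L809895 q28637, e3 q29115 L809912 q28458, e3 q29116 L809932 q28469, e3 q29117 L809952 q28733, e3 q29118 L809968 q28734, e3 q29119 L809982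 q28735, trivial⟩ (by decide +kernel)

theorem ce_i_455 : ∀ r, r < 64 → sm gi (Qf (29120 + r)) = Qf (tab Gen.i (29120 + r)) :=
  edges_tab (sm gi) Qf (tab Gen.i) 29120 [(29120, 28785), (29121, 28786), (29122, 28787), (29123, 28072), (29124, 28077), (29125, 29864), (29126, 29865), (29127, 29866), (29128, 28924), (29129, 28925), (29130, 28933), (29131, 28542), (29132, 28543), (29133, 28544), (29134, 28697), (29135, 28698), (29136, 28430), (29137, 28758), (29138, 28759), (29139, 28496), (29140, 28760), (29141, 28761), (29142, 28762), (29143, 28763), (29144, 28277), (29145, 28278), (29146, 28279), (29147, 28894), (29148, 28895), (29149, 28896), (29150, 28533), (29151, 28169), (29152, 28769), (29153, 28770), (29154, 28771), (29155, 28772), (29156, 29877), (29157, 28743), (29158, 28744), (29159, 28745), (29160, 28527), (29161, 28775), (29162, 28776), (29163, 28777), (29164, 28494), (29165, 28778), (29166, 28779), (29167, 28727), (29168, 28977), (29169, 28978), (29170, 30009), (29171, 28156), (29172, 28157), (29173, 28158), (29174,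 28159), (29175, 28160), (29176, 28161), (29177, 28164), (29178, 28165), (29179, 28696), (29180, 28690), (29181, 28691), (29182, 28167), (29183, 28168)]
    ⟨e3 q29120 L810003 q28785, e3 q29121 L810019 q28786, e3 q29122 L810033 q28787, e3 q29123 L810052 q28072, e3 q29124 L810070 q28077, e3 q29125 (flp_i L818080) q29864, e3 q29126 (flp_i L818096) q29865, e3 q29127 (flp_i L818110) q29866, e3 q29128 L810129 q28924, e3 q29129 L810145 q28925, e3 q29130 L810163 q28933, e3 q29131 L810181 q28542, e3 q29132 L810197 q28543, e3 q29133 L810211 q28544, e3 q29134 L810227 q28697, e3 q29135 L810243 q28698, e3 q29136 L810256 q28430, e3 q29137 L810272 q28758, e3 q29138 L810288 q28759, e3 q29139 L810301 q28496, e3 q29140 L810313 q28760, e3 q29141 L810325 q28761, e3 q29142 L810339 q28762, e3 q29143 L810347 q28763, e3 q29144 L810363 q28277, e3 q29145 L810379 q28278, e3 q29146 L810392 q28279, e3 q29147 L810408 q28894, e3 q29148 L810422 q28895, e3 q29149 L810430 q28896, e3 q29150 L810445 q28533, e3 q29151 L810461 q28169, e3 q29152 L810471 q28769,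 e3 q29153 L810481 q28770, e3 q29154 L810487 q28771, e3 q29155 L810497 q28772, e3 q29156 (flp_i L818285) q29877, e3 q29157 L810520 q28743, e3 q29158 L810532 q28744, e3 q29159 L810540 q28745, e3 q29160 L810553 q28527, e3 q29161 L810565 q28775, e3 q29162 L810575 q28776, e3 q29163 L810583 q28777, e3 q29164 L810596 q28494, e3 q29165 L810608 q28778, e3 q29166 L810614 q28779, e3 q29167 L810622 q28727, e3 q29168 L810636 q28977, e3 q29169 L810644 q28978, e3 q29170 L820166 q30009, e3 q29171 L810667 q28156, e3 q29172 L810683 q28157, e3 q29173 L810696 q28158, e3 q29174 L810712 q28159, e3 q29175 L810724 q28160, e3 q29176 L810734 q28161, e3 q29177 L810749 q28164, e3 q29178 L810763 q28165, e3 q29179 L810779 q28696, e3 q29180 L810793 q28690, e3 q29181 L810805 q28691, e3 q29182 L810816 q28167, e3 q29183 L810828 q28168, trivial⟩ (by decide +kernel)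

theorem ce_i_456 : ∀ r, r < 64 → sm gi (Qf (29184 + r)) = Qf (tab Gen.i (29184 + r)) :=
  edges_tab (sm gi) Qf (tab Gen.i) 29184 [(29184, 28172), (29185, 28173), (29186, 28174), (29187, 28175), (29188, 28176), (29189, 28322), (29190, 28626), (29191, 28627), (29192, 28628), (29193, 28185), (29194, 28622), (29195, 28138), (29196, 28139), (29197, 28140), (29198, 30027), (29199, 30028), (29200, 28645), (29201, 28646), (29202, 28194), (29203, 28196), (29204, 28197), (29205, 28198), (29206, 28199), (29207, 30036), (29208, 28151), (29209, 28537), (29210, 28538), (29211, 30010), (29212, 30011), (29213, 30012), (29214, 30013), (29215, 30014), (29216, 30015), (29217, 30048), (29218, 28639), (29219, 28640), (29220, 30017), (29221, 28865), (29222, 30020), (29223, 29990), (29224, 28953), (29225, 28954), (29226, 30021), (29227, 30022), (29228, 30023), (29229, 28700), (29230, 28864), (29231, 28674), (29232, 28182), (29233, 28183), (29234, 30055), (29235, 28866), (29236, 28189), (29237, 28655), (29238, 28652), (29239, 28597), (29240, 28852),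 (29241, 30034), (29242, 28702), (29243, 30057), (29244, 28201), (29245, 28288), (29246, 28213), (29247, 28214)]
    ⟨e3 q29184 L810842 q28172, e3 q29185 L810856 q28173, e3 q29186 L810870 q28174, e3 q29187 L810882 q28175, e3 q29188 L810892 q28176, e3 q29189 L810910 q28322, e3 q29190 L810926 q28626, e3 q29191 L810942 q28627, e3 q29192 L810956 q28628, e3 q29193 L810973 q28185, e3 q29194 L810993 q28622, e3 q29195 L811011 q28138, e3 q29196 L811027 q28139, e3 q29197 L811041 q28140, e3 q29198 (flp_i L820441) q30027, e3 q29199 (flp_i L820455) q30028, e3 q29200 L811072 q28645, e3 q29201 L811087 q28646, e3 q29202 L811099 q28194, e3 q29203 L811119 q28196, e3 q29204 L811135 q28197, e3 q29205 L811153 q28198, e3 q29206 L811167 q28199, e3 q29207 L820547 q30036, e3 q29208 (flp_i L811183) q28151, e3 q29209 L811209 q28537, e3 q29210 L811225 q28538, e3 q29211 (flp_i L820195) q30010, e3 q29212 (flp_i L820211) q30011, e3 q29213 (flp_i L820221) q30012, e3 q29214 (flp_i L820236) q30013, e3 q29215 (flp_i L820252) q30014, e3 q29216 (flp_i L820264)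 q30015, e3 q29217 L820703 q30048, e3 q29218 L811319 q28639, e3 q29219 L811335 q28640, e3 q29220 (flp_i L820287) q30017, e3 q29221 L811363 q28865, e3 q29222 (flp_i L820331) q30020, e3 q29223 (flp_i L819986) q29990, e3 q29224 L811405 q28953, e3 q29225 L811421 q28954, e3 q29226 (flp_i L820347) q30021, e3 q29227 (flp_i L820361) q30022, e3 q29228 (flp_i L820373) q30023, e3 q29229 L811479 q28700, e3 q29230 L811499 q28864, e3 q29231 L811513 q28674, e3 q29232 L811533 q28182, e3 q29233 L811549 q28183, e3 q29234 (flp_i L820834) q30055, e3 q29235 L811579 q28866, e3 q29236 L811595 q28189, e3 q29237 L811613 q28655, e3 q29238 L811629 q28652, e3 q29239 L811651 q28597, e3 q29240 L811665 q28852, e3 q29241 (flp_i L820529) q30034, e3 q29242 L811691 q28702, e3 q29243 L820860 q30057, e3 q29244 (flp_i L811707) q28201, e3 q29245 L811733 q28288, e3 q29246 L811753 q28213, e3 q29247 L811769 q28214, trivial⟩ (by decide +kernel)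

theorem ce_i_457 : ∀ r, r < 64 → sm gi (Qf (29248 + r)) = Qf (tab Gen.i (29248 + r)) :=
  edges_tab (sm gi) Qf (tab Gen.i) 29248 [(29248, 28215), (29249, 28216), (29250, 28217), (29251, 28254), (29252, 30058), (29253, 30059), (29254, 28383), (29255, 28384), (29256, 28385), (29257, 28344), (29258, 28345), (29259, 28346), (29260, 28439), (29261, 28440), (29262, 28441), (29263, 28442), (29264, 28443), (29265, 28444), (29266, 28243), (29267, 28244), (29268, 28926), (29269, 28927), (29270, 28928), (29271, 28471), (29272, 28247), (29273, 28248), (29274, 28249), (29275, 28250), (29276, 28251), (29277, 28252), (29278, 30072), (29279, 28929), (29280, 30077), (29281, 30078), (29282, 30079), (29283, 28470), (29284, 28291), (29285, 28916), (29286, 28917), (29287, 28909), (29288, 28472), (29289, 28795), (29290, 28796), (29291, 28618), (29292, 28473), (29293, 28474), (29294, 28475), (29295, 28476), (29296, 28477), (29297, 28478), (29298, 28479), (29299, 28480), (29300, 28481), (29301, 28482), (29302, 28289), (29303, 28292), (29304, 28293),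 (29305, 29982), (29306, 29983), (29307, 29984), (29308, 29985), (29309, 28296), (29310, 28300), (29311, 28301)]
    ⟨e3 q29248 L811783 q28215, e3 q29249 L811803 q28216, e3 q29250 L811819 q28217, e3 q29251 L811841 q28254, e3 q29252 (flp_i L820884) q30058, e3 q29253 (flp_i L820904) q30059, e3 q29254 L811893 q28383, e3 q29255 L811909 q28384, e3 q29256 L811922 q28385, e3 q29257 L811940 q28344, e3 q29258 L811956 q28345, e3 q29259 L811969 q28346, e3 q29260 L811981 q28439, e3 q29261 L811991 q28440, e3 q29262 L812003 q28441, e3 q29263 L812017 q28442, e3 q29264 L812031 q28443, e3 q29265 L812043 q28444, e3 q29266 L812062 q28243, e3 q29267 L812078 q28244, e3 q29268 L812096 q28926, e3 q29269 L812110 q28927, e3 q29270 L812118 q28928, e3 q29271 L812133 q28471, e3 q29272 L812145 q28247, e3 q29273 L812159 q28248, e3 q29274 L812179 q28249, e3 q29275 L812195 q28250, e3 q29276 L812205 q28251, e3 q29277 L812219 q28252, e3 q29278 (flp_i L821104) q30072, e3 q29279 L812255 q28929, e3 q29280 (flp_i L821181) q30077, e3 q29281 (flp_i L821201) q30078,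 e3 q29282 (flp_i L821219) q30079, e3 q29283 L812323 q28470, e3 q29284 L812339 q28291, e3 q29285 L812355 q28916, e3 q29286 L812369 q28917, e3 q29287 L812383 q28909, e3 q29288 L812401 q28472, e3 q29289 L812417 q28795, e3 q29290 L812433 q28796, e3 q29291 L812446 q28618, e3 q29292 L812462 q28473, e3 q29293 L812478 q28474, e3 q29294 L812491 q28475, e3 q29295 L812505 q28476, e3 q29296 L812519 q28477, e3 q29297 L812533 q28478, e3 q29298 L812543 q28479, e3 q29299 L812559 q28480, e3 q29300 L812573 q28481, e3 q29301 L812585 q28482, e3 q29302 L812602 q28289, e3 q29303 L812618 q28292, e3 q29304 L812632 q28293, e3 q29305 (flp_i L819870) q29982, e3 q29306 (flp_i L819886) q29983, e3 q29307 (flp_i L819896) q29984, e3 q29308 (flp_i L819913) q29985, e3 q29309 L812699 q28296, e3 q29310 L812711 q28300, e3 q29311 L812723 q28301, trivial⟩ (by decide +kernel)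

theorem ce_i_458 : ∀ r, r < 64 → sm gi (Qf (29312 + r)) = Qf (tab Gen.i (29312 + r)) :=
  edges_tab (sm gi) Qf (tab Gen.i) 29312 [(29312, 28302), (29313, 28303), (29314, 30106), (29315, 28287), (29316, 28377), (29317, 30098), (29318, 28418), (29319, 28417), (29320, 28913), (29321, 28893), (29322, 28421), (29323, 30112), (29324, 30103), (29325, 30104), (29326, 30114), (29327, 28304), (29328, 28305), (29329, 28669), (29330, 28534), (29331, 28535), (29332, 28536), (29333, 28539), (29334, 28540), (29335, 28541), (29336, 28552), (29337, 28553), (29338, 28554), (29339, 28555), (29340, 28556), (29341, 28557), (29342, 29882), (29343, 28321), (29344, 30127), (29345, 30024), (29346, 29988), (29347, 29903), (29348, 29916), (29349, 28565), (29350, 28566), (29351, 28567), (29352, 28568), (29353, 28569), (29354, 28570), (29355, 28571), (29356, 28572), (29357, 28428), (29358, 28576), (29359, 28577), (29360, 30145), (29361, 28338), (29362, 28339), (29363, 30146), (29364, 30147), (29365, 30003), (29366, 28379), (29367, 28380), (29368, 30064),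 (29369, 30065), (29370, 30066), (29371, 30067), (29372, 28395), (29373, 28396), (29374, 28353), (29375, 28354)]
    ⟨e3 q29312 L812735 q28302, e3 q29313 L812747 q28303, e3 q29314 L821613 q30106, e3 q29315 (flp_i L812767) q28287, e3 q29316 L812798 q28377, e3 q29317 (flp_i L821510) q30098, e3 q29318 L812822 q28418, e3 q29319 L812842 q28417, e3 q29320 L812856 q28913, e3 q29321 L812866 q28893, e3 q29322 L812884 q28421, e3 q29323 L821717 q30112, e3 q29324 (flp_i L821575) q30103, e3 q29325 (flp_i L821593) q30104, e3 q29326 L821747 q30114, e3 q29327 (flp_i L812938) q28304, e3 q29328 (flp_i L812950) q28305, e3 q29329 L812979 q28669, e3 q29330 L812995 q28534, e3 q29331 L813011 q28535, e3 q29332 L813021 q28536, e3 q29333 L813035 q28539, e3 q29334 L813047 q28540, e3 q29335 L813053 q28541, e3 q29336 L813064 q28552, e3 q29337 L813074 q28553, e3 q29338 L813080 q28554, e3 q29339 L813090 q28555, e3 q29340 L813098 q28556, e3 q29341 L813112 q28557, e3 q29342 (flp_i L818361) q29882, e3 q29343 L813137 q28321, e3 q29344 (flp_i L821918) q30127,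 e3 q29345 (flp_i L820391) q30024, e3 q29346 L819954 q29988, e3 q29347 (flp_i L818674) q29903, e3 q29348 (flp_i L818859) q29916, e3 q29349 L813185 q28565, e3 q29350 L813193 q28566, e3 q29351 L813199 q28567, e3 q29352 L813208 q28568, e3 q29353 L813217 q28569, e3 q29354 L813227 q28570, e3 q29355 L813233 q28571, e3 q29356 L813241 q28572, e3 q29357 L813255 q28428, e3 q29358 L813269 q28576, e3 q29359 L813277 q28577, e3 q29360 L822068 q30145, e3 q29361 L813300 q28338, e3 q29362 L813316 q28339, e3 q29363 (flp_i L822093) q30146, e3 q29364 (flp_i L822109) q30147, e3 q29365 (flp_i L820121) q30003, e3 q29366 L813363 q28379, e3 q29367 L813373 q28380, e3 q29368 (flp_i L820987) q30064, e3 q29369 (flp_i L821003) q30065, e3 q29370 (flp_i L821013) q30066, e3 q29371 (flp_i L821034) q30067, e3 q29372 L813446 q28395, e3 q29373 L813460 q28396, e3 q29374 L813472 q28353, e3 q29375 L813482 q28354, trivial⟩ (by decide +kernel)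

theorem ce_i_459 : ∀ r, r < 64 → sm gi (Qf (29376 + r)) = Qf (tab Gen.i (29376 + r)) :=
  edges_tab (sm gi) Qf (tab Gen.i) 29376 [(29376, 28355), (29377, 28356), (29378, 30154), (29379, 30155), (29380, 30156), (29381, 30157), (29382, 28416), (29383, 28420), (29384, 28423), (29385, 28424), (29386, 30164), (29387, 28365), (29388, 28911), (29389, 28371), (29390, 28372), (29391, 30165), (29392, 30166), (29393, 30033), (29394, 28375), (29395, 28376), (29396, 30169), (29397, 29861), (29398, 29951), (29399, 30060), (29400, 30061), (29401, 30062), (29402, 30063), (29403, 28389), (29404, 28390), (29405, 28391), (29406, 30173), (29407, 30174), (29408, 28867), (29409, 28868), (29410, 30153), (29411, 28400), (29412, 28401), (29413, 28402), (29414, 28403), (29415, 30177), (29416, 30178), (29417, 30179), (29418, 30180), (29419, 30188), (29420, 28409), (29421, 28410), (29422, 28411), (29423, 28412), (29424, 28413), (29425, 30189), (29426, 30190), (29427, 30191), (29428, 30192), (29429, 29972), (29430, 30141), (29431, 28898), (29432, 30108),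 (29433, 30107), (29434, 30199), (29435, 28419), (29436, 30110), (29437, 30200), (29438, 28425), (29439, 29973)]
    ⟨e3 q29376 L813488 q28355, e3 q29377 L813497 q28356, e3 q29378 (flp_i L822205) q30154, e3 q29379 (flp_i L822213) q30155, e3 q29380 (flp_i L822221) q30156, e3 q29381 (flp_i L822228) q30157, e3 q29382 L813534 q28416, e3 q29383 L813540 q28420, e3 q29384 L813554 q28423, e3 q29385 L813562 q28424, e3 q29386 L822270 q30164, e3 q29387 (flp_i L813572) q28365, e3 q29388 L813592 q28911, e3 q29389 L813608 q28371, e3 q29390 L813624 q28372, e3 q29391 (flp_i L822294) q30165, e3 q29392 (flp_i L822310) q30166, e3 q29393 (flp_i L820511) q30033, e3 q29394 L813665 q28375, e3 q29395 L813679 q28376, e3 q29396 (flp_i L822342) q30169, e3 q29397 (flp_i L818026) q29861, e3 q29398 (flp_i L819382) q29951, e3 q29399 (flp_i L820924) q30060, e3 q29400 (flp_i L820940) q30061, e3 q29401 (flp_i L820950) q30062, e3 q29402 (flp_i L820967) q30063, e3 q29403 L813774 q28389, e3 q29404 L813786 q28390, e3 q29405 L813798 q28391, e3 q29406 (flp_i L822390)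 q30173, e3 q29407 (flp_i L822404) q30174, e3 q29408 L813840 q28867, e3 q29409 L813854 q28868, e3 q29410 (flp_i L822191) q30153, e3 q29411 L813878 q28400, e3 q29412 L813884 q28401, e3 q29413 L813888 q28402, e3 q29414 L813897 q28403, e3 q29415 (flp_i L822444) q30177, e3 q29416 (flp_i L822450) q30178, e3 q29417 (flp_i L822458) q30179, e3 q29418 (flp_i L822467) q30180, e3 q29419 L822520 q30188, e3 q29420 L813939 q28409, e3 q29421 L813947 q28410, e3 q29422 L813957 q28411, e3 q29423 L813969 q28412, e3 q29424 L813975 q28413, e3 q29425 (flp_i L822537) q30189, e3 q29426 (flp_i L822547) q30190, e3 q29427 (flp_i L822559) q30191, e3 q29428 (flp_i L822567) q30192, e3 q29429 (flp_i L819721) q29972, e3 q29430 (flp_i L822037) q30141, e3 q29431 L814059 q28898, e3 q29432 (flp_i L821661) q30108, e3 q29433 (flp_i L821639) q30107, e3 q29434 L822643 q30199, e3 q29435 (flp_i L814081) q28419, e3 q29436 (flp_i L821697) q30110, e3 q29437 L822653 q30200, e3 q29438 (flp_i L814105) q28425, e3 q29439 (flp_i L819736) q29973, trivial⟩ (by decide +kernel)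

theorem ce_i_460 : ∀ r, r < 64 → sm gi (Qf (29440 + r)) = Qf (tab Gen.i (29440 + r)) :=
  edges_tab (sm gi) Qf (tab Gen.i) 29440 [(29440, 28742), (29441, 29952), (29442, 29953), (29443, 29954), (29444, 30068), (29445, 30069), (29446, 30070), (29447, 30071), (29448, 28452), (29449, 28453), (29450, 28454), (29451, 28455), (29452, 30206), (29453, 30207), (29454, 29955), (29455, 30210), (29456, 28460), (29457, 28910), (29458, 28922), (29459, 28923), (29460, 30080), (29461, 30075), (29462, 30076), (29463, 30087), (29464, 30088), (29465, 30089), (29466, 30090), (29467, 30091), (29468, 30092), (29469, 30093), (29470, 30094), (29471, 30095), (29472, 30096), (29473, 30002), (29474, 28500), (29475, 28501), (29476, 28502), (29477, 28511), (29478, 28512), (29479, 28513), (29480, 28514), (29481, 28515), (29482, 28516), (29483, 29977), (29484, 28528), (29485, 30001), (29486, 29978), (29487, 28670), (29488, 28671), (29489, 28672), (29490, 30227), (29491, 30228), (29492, 28955), (29493, 28956), (29494, 28957), (29495, 28986), (29496, 28985),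 (29497, 28768), (29498, 28984), (29499, 28767), (29500, 30229), (29501, 30230), (29502, 30231), (29503, 30233)]
    ⟨e3 q29440 L814138 q28742, e3 q29441 (flp_i L819400) q29952, e3 q29442 (flp_i L819416) q29953, e3 q29443 (flp_i L819430) q29954, e3 q29444 (flp_i L821048) q30068, e3 q29445 (flp_i L821058) q30069, e3 q29446 (flp_i L821074) q30070, e3 q29447 (flp_i L821086) q30071, e3 q29448 L814231 q28452, e3 q29449 L814245 q28453, e3 q29450 L814257 q28454, e3 q29451 L814272 q28455, e3 q29452 (flp_i L822726) q30206, e3 q29453 (flp_i L822738) q30207, e3 q29454 (flp_i L819449) q29955, e3 q29455 L822767 q30210, e3 q29456 (flp_i L814322) q28460, e3 q29457 L814348 q28910, e3 q29458 L814358 q28922, e3 q29459 L814370 q28923, e3 q29460 (flp_i L821241) q30080, e3 q29461 (flp_i L821146) q30075, e3 q29462 (flp_i L821163) q30076, e3 q29463 (flp_i L821355) q30087, e3 q29464 (flp_i L821371) q30088, e3 q29465 (flp_i L821381) q30089, e3 q29466 (flp_i L821396) q30090, e3 q29467 (flp_i L821411) q30091, e3 q29468 (flp_i L821429) q30092, e3 q29469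 (flp_i L821443) q30093, e3 q29470 (flp_i L821453) q30094, e3 q29471 (flp_i L821471) q30095, e3 q29472 (flp_i L821483) q30096, e3 q29473 (flp_i L820106) q30002, e3 q29474 L814550 q28500, e3 q29475 L814564 q28501, e3 q29476 L814576 q28502, e3 q29477 L814589 q28511, e3 q29478 L814599 q28512, e3 q29479 L814607 q28513, e3 q29480 L814619 q28514, e3 q29481 L814631 q28515, e3 q29482 L814643 q28516, e3 q29483 (flp_i L819799) q29977, e3 q29484 L814667 q28528, e3 q29485 (flp_i L820095) q30001, e3 q29486 (flp_i L819814) q29978, e3 q29487 L814700 q28670, e3 q29488 L814714 q28671, e3 q29489 L814726 q28672, e3 q29490 (flp_i L822980) q30227, e3 q29491 (flp_i L822992) q30228, e3 q29492 L814761 q28955, e3 q29493 L814775 q28956, e3 q29494 L814787 q28957, e3 q29495 L814798 q28986, e3 q29496 L814810 q28985, e3 q29497 L814818 q28768, e3 q29498 L814834 q28984, e3 q29499 L814846 q28767, e3 q29500 (flp_i L823006) q30229, e3 q29501 (flp_i L823014) q30230, e3 q29502 (flp_i L823022) q30231, e3 q29503 (flp_i L823046) q30233, trivial⟩ (by decide +kernel)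

theorem ce_i_461 : ∀ r, r < 64 → sm gi (Qf (29504 + r)) = Qf (tab Gen.i (29504 + r)) :=
  edges_tab (sm gi) Qf (tab Gen.i) 29504 [(29504, 28810), (29505, 28521), (29506, 28522), (29507, 28523), (29508, 30247), (29509, 30248), (29510, 29998), (29511, 28781), (29512, 29997), (29513, 30254), (29514, 28529), (29515, 29989), (29516, 30116), (29517, 30117), (29518, 30118), (29519, 30037), (29520, 30038), (29521, 30039), (29522, 30119), (29523, 30120), (29524, 30263), (29525, 29966), (29526, 29967), (29527, 29920), (29528, 29968), (29529, 29872), (29530, 29871), (29531, 28699), (29532, 29873), (29533, 29874), (29534, 29875), (29535, 29876), (29536, 30121), (29537, 30122), (29538, 30123), (29539, 30124), (29540, 30126), (29541, 30086), (29542, 28939), (29543, 28940), (29544, 28561), (29545, 28816), (29546, 28817), (29547, 28818), (29548, 28819), (29549, 28730), (29550, 30133), (29551, 30134), (29552, 30135), (29553, 30136), (29554, 30281), (29555, 30138), (29556, 30139), (29557, 30140), (29558, 28822), (29559, 28823), (29560, 30294),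 (29561, 30142), (29562, 30143), (29563, 30298), (29564, 28578), (29565, 28632), (29566, 28633), (29567, 28634)]
    ⟨e3 q29504 L814896 q28810, e3 q29505 L814908 q28521, e3 q29506 L814922 q28522, e3 q29507 L814934 q28523, e3 q29508 (flp_i L823213) q30247, e3 q29509 (flp_i L823225) q30248, e3 q29510 (flp_i L820067) q29998, e3 q29511 L814970 q28781, e3 q29512 (flp_i L820056) q29997, e3 q29513 L823269 q30254, e3 q29514 (flp_i L814988) q28529, e3 q29515 (flp_i L819970) q29989, e3 q29516 (flp_i L821791) q30116, e3 q29517 (flp_i L821807) q30117, e3 q29518 (flp_i L821817) q30118, e3 q29519 (flp_i L820575) q30037, e3 q29520 (flp_i L820591) q30038, e3 q29521 (flp_i L820605) q30039, e3 q29522 (flp_i L821832) q30119, e3 q29523 (flp_i L821840) q30120, e3 q29524 L823345 q30263, e3 q29525 (flp_i L819632) q29966, e3 q29526 (flp_i L819648) q29967, e3 q29527 (flp_i L818919) q29920, e3 q29528 (flp_i L819660) q29968, e3 q29529 (flp_i L818207) q29872, e3 q29530 (flp_i L818189) q29871, e3 q29531 L815179 q28699, e3 q29532 (flp_i L818227) q29873,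 e3 q29533 (flp_i L818243) q29874, e3 q29534 (flp_i L818253) q29875, e3 q29535 (flp_i L818270) q29876, e3 q29536 (flp_i L821850) q30121, e3 q29537 (flp_i L821858) q30122, e3 q29538 (flp_i L821868) q30123, e3 q29539 (flp_i L821878) q30124, e3 q29540 (flp_i L821898) q30126, e3 q29541 (flp_i L821335) q30086, e3 q29542 L815289 q28939, e3 q29543 L815303 q28940, e3 q29544 L815317 q28561, e3 q29545 L815329 q28816, e3 q29546 L815337 q28817, e3 q29547 L815343 q28818, e3 q29548 L815352 q28819, e3 q29549 L815361 q28730, e3 q29550 (flp_i L821963) q30133, e3 q29551 (flp_i L821971) q30134, e3 q29552 (flp_i L821979) q30135, e3 q29553 (flp_i L821988) q30136, e3 q29554 (flp_i L823543) q30281, e3 q29555 (flp_i L822007) q30138, e3 q29556 (flp_i L822015) q30139, e3 q29557 (flp_i L822023) q30140, e3 q29558 L815427 q28822, e3 q29559 L815435 q28823, e3 q29560 L823644 q30294, e3 q29561 (flp_i L822047) q30142, e3 q29562 (flp_i L822053) q30143, e3 q29563 L823674 q30298, e3 q29564 (flp_i L815461) q28578, e3 q29565 L815478 q28632, e3 q29566 L815488 q28633,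 e3 q29567 L815494 q28634, trivial⟩ (by decide +kernel)

theorem ce_i_462 : ∀ r, r < 64 → sm gi (Qf (29568 + r)) = Qf (tab Gen.i (29568 + r)) :=
  edges_tab (sm gi) Qf (tab Gen.i) 29568 [(29568, 28635), (29569, 28636), (29570, 28855), (29571, 28651), (29572, 28658), (29573, 28659), (29574, 28660), (29575, 28661), (29576, 28662), (29577, 28663), (29578, 30310), (29579, 28665), (29580, 28666), (29581, 30313), (29582, 28596), (29583, 28599), (29584, 28708), (29585, 28709), (29586, 30085), (29587, 28710), (29588, 30317), (29589, 28608), (29590, 28713), (29591, 30319), (29592, 30321), (29593, 28611), (29594, 28721), (29595, 28615), (29596, 30322), (29597, 28620), (29598, 28805), (29599, 28806), (29600, 28807), (29601, 30025), (29602, 30026), (29603, 28854), (29604, 28853), (29605, 30299), (29606, 30300), (29607, 30301), (29608, 30302), (29609, 29957), (29610, 30049), (29611, 28845), (29612, 28846), (29613, 28847), (29614, 28644), (29615, 30030), (29616, 30032), (29617, 30338), (29618, 28941), (29619, 28942), (29620, 28725), (29621,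 30056), (29622, 28842), (29623, 28715), (29624, 28728), (29625, 30346), (29626, 28841), (29627, 30348), (29628, 28657), (29629, 30304), (29630, 30305), (29631, 30306)]
    ⟨e3 q29568 L815507 q28635, e3 q29569 L815515 q28636, e3 q29570 L815532 q28855, e3 q29571 L815548 q28651, e3 q29572 L815562 q28658, e3 q29573 L815574 q28659, e3 q29574 L815582 q28660, e3 q29575 L815594 q28661, e3 q29576 L815602 q28662, e3 q29577 L815610 q28663, e3 q29578 L823799 q30310, e3 q29579 L815628 q28665, e3 q29580 L815640 q28666, e3 q29581 L823833 q30313, e3 q29582 (flp_i L815656) q28596, e3 q29583 L815680 q28599, e3 q29584 L815690 q28708, e3 q29585 L815702 q28709, e3 q29586 (flp_i L821320) q30085, e3 q29587 L815726 q28710, e3 q29588 L823883 q30317, e3 q29589 (flp_i L815744) q28608, e3 q29590 L815766 q28713, e3 q29591 L823909 q30319, e3 q29592 L823929 q30321, e3 q29593 (flp_i L815790) q28611, e3 q29594 L815808 q28721, e3 q29595 (flp_i L815812) q28615, e3 q29596 L823943 q30322, e3 q29597 (flp_i L815830) q28620, e3 q29598 L815854 q28805, e3 q29599 L815866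 q28806, e3 q29600 L815872 q28807, e3 q29601 (flp_i L820407) q30025, e3 q29602 (flp_i L820421) q30026, e3 q29603 L815901 q28854, e3 q29604 L815921 q28853, e3 q29605 (flp_i L823690) q30299, e3 q29606 (flp_i L823698) q30300, e3 q29607 (flp_i L823710) q30301, e3 q29608 (flp_i L823716) q30302, e3 q29609 (flp_i L819483) q29957, e3 q29610 (flp_i L820726) q30049, e3 q29611 L815976 q28845, e3 q29612 L815988 q28846, e3 q29613 L815994 q28847, e3 q29614 L816009 q28644, e3 q29615 (flp_i L820479) q30030, e3 q29616 (flp_i L820498) q30032, e3 q29617 L824086 q30338, e3 q29618 L816046 q28941, e3 q29619 L816058 q28942, e3 q29620 L816066 q28725, e3 q29621 (flp_i L820854) q30056, e3 q29622 L816080 q28842, e3 q29623 L816090 q28715, e3 q29624 L816100 q28728, e3 q29625 L824163 q30346, e3 q29626 L816120 q28841, e3 q29627 L824183 q30348, e3 q29628 (flp_i L816134) q28657, e3 q29629 (flp_i L823745) q30304, e3 q29630 (flp_i L823755) q30305, e3 q29631 (flp_i L823767) q30306, trivial⟩ (by decide +kernel)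

theorem ce_i_463 : ∀ r, r < 64 → sm gi (Qf (29632 + r)) = Qf (tab Gen.i (29632 + r)) :=
  edges_tab (sm gi) Qf (tab Gen.i) 29632 [(29632, 30307), (29633, 30308), (29634, 30352), (29635, 28664), (29636, 30311), (29637, 30355), (29638, 30340), (29639, 28667), (29640, 30115), (29641, 30236), (29642, 30237), (29643, 29878), (29644, 29879), (29645, 29880), (29646, 29881), (29647, 28681), (29648, 28682), (29649, 28683), (29650, 28684), (29651, 30361), (29652, 30362), (29653, 30363), (29654, 30364), (29655, 28688), (29656, 28689), (29657, 30373), (29658, 30370), (29659, 30018), (29660, 30371), (29661, 30019), (29662, 30380), (29663, 29971), (29664, 28692), (29665, 28695), (29666, 29969), (29667, 29970), (29668, 30054), (29669, 28944), (29670, 29948), (29671, 30383), (29672, 28706), (29673, 30314), (29674, 30384), (29675, 28711), (29676, 29944), (29677, 30342), (29678, 28714), (29679, 30343), (29680, 29893), (29681, 28718), (29682, 29869), (29683, 29918), (29684, 29870), (29685, 30005), (29686, 29885), (29687, 30283), (29688, 28908),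 (29689, 29958), (29690, 29959), (29691, 28906), (29692, 28766), (29693, 29995), (29694, 29996), (29695, 29867)]
    ⟨e3 q29632 (flp_i L823775) q30307, e3 q29633 (flp_i L823785) q30308, e3 q29634 L824221 q30352, e3 q29635 (flp_i L816192) q28664, e3 q29636 (flp_i L823819) q30311, e3 q29637 L824249 q30355, e3 q29638 (flp_i L824115) q30340, e3 q29639 (flp_i L816224) q28667, e3 q29640 (flp_i L821773) q30115, e3 q29641 (flp_i L823082) q30236, e3 q29642 (flp_i L823094) q30237, e3 q29643 (flp_i L818305) q29878, e3 q29644 (flp_i L818321) q29879, e3 q29645 (flp_i L818331) q29880, e3 q29646 (flp_i L818346) q29881, e3 q29647 L816309 q28681, e3 q29648 L816317 q28682, e3 q29649 L816323 q28683, e3 q29650 L816330 q28684, e3 q29651 (flp_i L824308) q30361, e3 q29652 (flp_i L824316) q30362, e3 q29653 (flp_i L824322) q30363, e3 q29654 (flp_i L824331) q30364, e3 q29655 L816367 q28688, e3 q29656 L816373 q28689, e3 q29657 L824380 q30373, e3 q29658 (flp_i L824369) q30370, e3 q29659 (flp_i L820305) q30018, e3 q29660 (flp_i L824373) q30371, e3 q29661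 (flp_i L820317) q30019, e3 q29662 L824437 q30380, e3 q29663 (flp_i L819704) q29971, e3 q29664 (flp_i L816424) q28692, e3 q29665 L816439 q28695, e3 q29666 (flp_i L819678) q29969, e3 q29667 (flp_i L819694) q29970, e3 q29668 (flp_i L820814) q30054, e3 q29669 L816481 q28944, e3 q29670 (flp_i L819340) q29948, e3 q29671 L824469 q30383, e3 q29672 (flp_i L816501) q28706, e3 q29673 (flp_i L823853) q30314, e3 q29674 L824479 q30384, e3 q29675 (flp_i L816531) q28711, e3 q29676 (flp_i L819274) q29944, e3 q29677 (flp_i L824133) q30342, e3 q29678 (flp_i L816561) q28714, e3 q29679 (flp_i L824143) q30343, e3 q29680 (flp_i L818516) q29893, e3 q29681 (flp_i L816580) q28718, e3 q29682 (flp_i L818155) q29869, e3 q29683 (flp_i L818881) q29918, e3 q29684 (flp_i L818173) q29870, e3 q29685 (flp_i L820137) q30005, e3 q29686 (flp_i L818399) q29885, e3 q29687 (flp_i L823562) q30283, e3 q29688 L816657 q28908, e3 q29689 (flp_i L819503) q29958, e3 q29690 (flp_i L819517) q29959, e3 q29691 L816699 q28906, e3 q29692 L816711 q28766, e3 q29693 (flp_i L820038)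 q29995, e3 q29694 (flp_i L820046) q29996, e3 q29695 (flp_i L818129) q29867, trivial⟩ (by decide +kernel)

theorem ce_i_464 : ∀ r, r < 64 → sm gi (Qf (29696 + r)) = Qf (tab Gen.i (29696 + r)) :=
  edges_tab (sm gi) Qf (tab Gen.i) 29696 [(29696, 29868), (29697, 29883), (29698, 29884), (29699, 29886), (29700, 29887), (29701, 30400), (29702, 29917), (29703, 29919), (29704, 29974), (29705, 29975), (29706, 29976), (29707, 29979), (29708, 29980), (29709, 29981), (29710, 28936), (29711, 30244), (29712, 30243), (29713, 29991), (29714, 29992), (29715, 29993), (29716, 29945), (29717, 29999), (29718, 30000), (29719, 30004), (29720, 28982), (29721, 28983), (29722, 29960), (29723, 29961), (29724, 29889), (29725, 29890), (29726, 29891), (29727, 29892), (29728, 28820), (29729, 28821), (29730, 30082), (29731, 30083), (29732, 30084), (29733, 28827), (29734, 28801), (29735, 28802), (29736, 28803), (29737, 30420), (29738, 30421), (29739, 30323), (29740, 30324), (29741, 28814), (29742, 28815), (29743, 30426), (29744, 30427), (29745, 30278), (29746,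 30279), (29747, 30280), (29748, 30417), (29749, 30291), (29750, 30292), (29751, 30435), (29752, 28824), (29753, 28943), (29754, 28830), (29755, 28831), (29756, 28832), (29757, 30436), (29758, 30437), (29759, 28837)]
    ⟨e3 q29696 (flp_i L818145) q29868, e3 q29697 (flp_i L818377) q29883, e3 q29698 (flp_i L818389) q29884, e3 q29699 (flp_i L818415) q29886, e3 q29700 (flp_i L818427) q29887, e3 q29701 L824632 q30400, e3 q29702 (flp_i L818873) q29917, e3 q29703 (flp_i L818903) q29919, e3 q29704 (flp_i L819756) q29974, e3 q29705 (flp_i L819772) q29975, e3 q29706 (flp_i L819782) q29976, e3 q29707 (flp_i L819830) q29979, e3 q29708 (flp_i L819842) q29980, e3 q29709 (flp_i L819852) q29981, e3 q29710 L816893 q28936, e3 q29711 (flp_i L823179) q30244, e3 q29712 (flp_i L823165) q30243, e3 q29713 (flp_i L819996) q29991, e3 q29714 (flp_i L820004) q29992, e3 q29715 (flp_i L820014) q29993, e3 q29716 (flp_i L819292) q29945, e3 q29717 (flp_i L820077) q29999, e3 q29718 (flp_i L820085) q30000, e3 q29719 (flp_i L820129) q30004, e3 q29720 L816985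 q28982, e3 q29721 L816997 q28983, e3 q29722 (flp_i L819537) q29960, e3 q29723 (flp_i L819551) q29961, e3 q29724 (flp_i L818454) q29889, e3 q29725 (flp_i L818470) q29890, e3 q29726 (flp_i L818480) q29891, e3 q29727 (flp_i L818501) q29892, e3 q29728 L817054 q28820, e3 q29729 L817064 q28821, e3 q29730 (flp_i L821277) q30082, e3 q29731 (flp_i L821293) q30083, e3 q29732 (flp_i L821303) q30084, e3 q29733 L817101 q28827, e3 q29734 L817115 q28801, e3 q29735 L817125 q28802, e3 q29736 L817131 q28803, e3 q29737 (flp_i L824825) q30420, e3 q29738 (flp_i L824833) q30421, e3 q29739 (flp_i L823962) q30323, e3 q29740 (flp_i L823970) q30324, e3 q29741 L817170 q28814, e3 q29742 L817176 q28815, e3 q29743 (flp_i L824865) q30426, e3 q29744 (flp_i L824869) q30427, e3 q29745 (flp_i L823518) q30278, e3 q29746 (flp_i L823526) q30279, e3 q29747 (flp_i L823534) q30280, e3 q29748 (flp_i L824797) q30417, e3 q29749 (flp_i L823623) q30291, e3 q29750 (flp_i L823629) q30292, e3 q29751 L824908 q30435, e3 q29752 (flp_i L817220) q28824, e3 q29753 L817231 q28943,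 e3 q29754 L817243 q28830, e3 q29755 L817253 q28831, e3 q29756 L817259 q28832, e3 q29757 (flp_i L824920) q30436, e3 q29758 (flp_i L824928) q30437, e3 q29759 L817286 q28837, trivial⟩ (by decide +kernel)

theorem ce_i_465 : ∀ r, r < 64 → sm gi (Qf (29760 + r)) = Qf (tab Gen.i (29760 + r)) :=
  edges_tab (sm gi) Qf (tab Gen.i) 29760 [(29760, 28838), (29761, 28839), (29762, 30440), (29763, 30441), (29764, 30341), (29765, 28987), (29766, 30333), (29767, 30334), (29768, 28850), (29769, 30326), (29770, 30303), (29771, 28859), (29772, 28860), (29773, 30447), (29774, 30448), (29775, 28863), (29776, 30050), (29777, 30176), (29778, 28872), (29779, 28873), (29780, 28874), (29781, 28875), (29782, 30450), (29783, 30451), (29784, 30452), (29785, 28892), (29786, 28881), (29787, 28882), (29788, 28883), (29789, 28884), (29790, 30456), (29791, 30457), (29792, 30458), (29793, 28888), (29794, 28889), (29795, 30462), (29796, 29858), (29797, 30109), (29798, 29986), (29799, 29987), (29800, 28903), (29801, 28904), (29802, 30465), (29803, 30466), (29804,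 29956), (29805, 30081), (29806, 28981), (29807, 28934), (29808, 28935), (29809, 30211), (29810, 30212), (29811, 29965), (29812, 30073), (29813, 30074), (29814, 28937), (29815, 28938), (29816, 30470), (29817, 30471), (29818, 30475), (29819, 30476), (29820, 30277), (29821, 30339), (29822, 30382), (29823, 28947)]
    ⟨e3 q29760 L817294 q28838, e3 q29761 L817300 q28839, e3 q29762 (flp_i L824953) q30440, e3 q29763 (flp_i L824959) q30441, e3 q29764 (flp_i L824123) q30341, e3 q29765 L817330 q28987, e3 q29766 (flp_i L824055) q30333, e3 q29767 (flp_i L824063) q30334, e3 q29768 L817350 q28850, e3 q29769 (flp_i L823994) q30326, e3 q29770 (flp_i L823733) q30303, e3 q29771 L817374 q28859, e3 q29772 L817380 q28860, e3 q29773 (flp_i L824997) q30447, e3 q29774 (flp_i L825001) q30448, e3 q29775 L817393 q28863, e3 q29776 (flp_i L820746) q30050, e3 q29777 (flp_i L822434) q30176, e3 q29778 L817415 q28872, e3 q29779 L817425 q28873, e3 q29780 L817431 q28874, e3 q29781 L817440 q28875, e3 q29782 (flp_i L825016) q30450, e3 q29783 (flp_i L825024) q30451,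 e3 q29784 (flp_i L825032) q30452, e3 q29785 L817466 q28892, e3 q29786 L817476 q28881, e3 q29787 L817484 q28882, e3 q29788 L817490 q28883, e3 q29789 L817499 q28884, e3 q29790 (flp_i L825057) q30456, e3 q29791 (flp_i L825065) q30457, e3 q29792 (flp_i L825073) q30458, e3 q29793 L817533 q28888, e3 q29794 L817539 q28889, e3 q29795 (flp_i L825108) q30462, e3 q29796 (flp_i L817974) q29858, e3 q29797 (flp_i L821677) q30109, e3 q29798 (flp_i L819931) q29986, e3 q29799 (flp_i L819939) q29987, e3 q29800 L817581 q28903, e3 q29801 L817587 q28904, e3 q29802 (flp_i L825127) q30465, e3 q29803 (flp_i L825131) q30466, e3 q29804 (flp_i L819469) q29956, e3 q29805 (flp_i L821257) q30081, e3 q29806 L817612 q28981, e3 q29807 L817624 q28934, e3 q29808 L817632 q28935, e3 q29809 (flp_i L822793) q30211, e3 q29810 (flp_i L822809) q30212, e3 q29811 (flp_i L819612) q29965, e3 q29812 (flp_i L821122) q30073, e3 q29813 (flp_i L821132) q30074, e3 q29814 L817677 q28937, e3 q29815 L817683 q28938, e3 q29816 (flp_i L825159) q30470, e3 q29817 (flp_i L825165) q30471,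 e3 q29818 (flp_i L825193) q30475, e3 q29819 (flp_i L825197) q30476, e3 q29820 (flp_i L823510) q30277, e3 q29821 (flp_i L824105) q30339, e3 q29822 (flp_i L824465) q30382, e3 q29823 L817727 q28947, trivial⟩ (by decide +kernel)

theorem ce_i_466 : ∀ r, r < 64 → sm gi (Qf (29824 + r)) = Qf (tab Gen.i (29824 + r)) :=
  edges_tab (sm gi) Qf (tab Gen.i) 29824 [(29824, 28975), (29825, 28976), (29826, 28979), (29827, 28980), (29828, 30052), (29829, 30240), (29830, 30241), (29831, 30485), (29832, 28988), (29833, 30487), (29834, 28960), (29835, 28964), (29836, 28965), (29837, 28966), (29838, 30488), (29839, 30489), (29840, 28970), (29841, 28971), (29842, 30492), (29843, 30493), (29844, 28995), (29845, 30479), (29846, 30480), (29847, 30006), (29848, 30007), (29849, 30481), (29850, 30468), (29851, 30469), (29852, 30411), (29853, 30242), (29854, 30500), (29855, 28989), (29856, 28993), (29857, 29000), (29858, 29796), (29859, 30502), (29860, 29002), (29861, 29397), (29862, 30503), (29863, 29009), (29864, 29125), (29865, 29126), (29866, 29127),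 (29867, 29695), (29868, 29696), (29869, 29682), (29870, 29684), (29871, 29530), (29872, 29529), (29873, 29532), (29874, 29533), (29875, 29534), (29876, 29535), (29877, 29156), (29878, 29643), (29879, 29644), (29880, 29645), (29881, 29646), (29882, 29342), (29883, 29697), (29884, 29698), (29885, 29686), (29886, 29699), (29887, 29700)]
    ⟨e3 q29824 L817733 q28975, e3 q29825 L817739 q28976, e3 q29826 L817747 q28979, e3 q29827 L817751 q28980, e3 q29828 (flp_i L820780) q30052, e3 q29829 (flp_i L823133) q30240, e3 q29830 (flp_i L823145) q30241, e3 q29831 L825248 q30485, e3 q29832 L817783 q28988, e3 q29833 L825261 q30487, e3 q29834 (flp_i L817791) q28960, e3 q29835 L817805 q28964, e3 q29836 L817815 q28965, e3 q29837 L817821 q28966, e3 q29838 (flp_i L825277) q30488, e3 q29839 (flp_i L825285) q30489, e3 q29840 L817844 q28970, e3 q29841 L817850 q28971, e3 q29842 (flp_i L825302) q30492, e3 q29843 (flp_i L825306) q30493, e3 q29844 L817865 q28995, e3 q29845 (flp_i L825214) q30479, e3 q29846 (flp_i L825222) q30480, e3 q29847 (flp_i L820147)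 q30006, e3 q29848 (flp_i L820153) q30007, e3 q29849 (flp_i L825229) q30481, e3 q29850 (flp_i L825142) q30468, e3 q29851 (flp_i L825150) q30469, e3 q29852 (flp_i L824748) q30411, e3 q29853 (flp_i L823157) q30242, e3 q29854 L825337 q30500, e3 q29855 (flp_i L817928) q28989, e3 q29856 L817940 q28993, e3 q29857 L817956 q29000, e3 q29858 L817974 q29796, e3 q29859 L825361 q30502, e3 q29860 (flp_i L817996) q29002, e3 q29861 L818026 q29397, e3 q29862 L825379 q30503, e3 q29863 (flp_i L818050) q29009, e3 q29864 L818080 q29125, e3 q29865 L818096 q29126, e3 q29866 L818110 q29127, e3 q29867 L818129 q29695, e3 q29868 L818145 q29696, e3 q29869 L818155 q29682, e3 q29870 L818173 q29684, e3 q29871 L818189 q29530, e3 q29872 L818207 q29529, e3 q29873 L818227 q29532, e3 q29874 L818243 q29533, e3 q29875 L818253 q29534, e3 q29876 L818270 q29535, e3 q29877 L818285 q29156, e3 q29878 L818305 q29643, e3 q29879 L818321 q29644, e3 q29880 L818331 q29645, e3 q29881 L818346 q29646, e3 q29882 L818361 q29342, e3 q29883 L818377 q29697, e3 q29884 L818389 q29698,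 e3 q29885 L818399 q29686, e3 q29886 L818415 q29699, e3 q29887 L818427 q29700, trivial⟩ (by decide +kernel)

theorem ce_i_467 : ∀ r, r < 64 → sm gi (Qf (29888 + r)) = Qf (tab Gen.i (29888 + r)) :=
  edges_tab (sm gi) Qf (tab Gen.i) 29888 [(29888, 30528), (29889, 29724), (29890, 29725), (29891, 29726), (29892, 29727), (29893, 29680), (29894, 29067), (29895, 29068), (29896, 29069), (29897, 29070), (29898, 29071), (29899, 29072), (29900, 29073), (29901, 29074), (29902, 29075), (29903, 29347), (29904, 29050), (29905, 29051), (29906, 29052), (29907, 29053), (29908, 30541), (29909, 30542), (29910, 30543), (29911, 30544), (29912, 29099), (29913, 29101), (29914, 30551), (29915, 29058), (29916, 29348), (29917, 29702), (29918, 29683), (29919, 29703), (29920, 29527), (29921, 30533), (29922, 30534), (29923, 30535), (29924, 30536), (29925, 30537), (29926, 30539), (29927, 29078), (29928, 29079), (29929, 30558), (29930, 29084), (29931, 29085), (29932, 29086), (29933, 29087), (29934, 30559), (29935, 30560), (29936, 30561), (29937, 30562),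 (29938, 30569), (29939, 29092), (29940, 29093), (29941, 29094), (29942, 30570), (29943, 30571), (29944, 29676), (29945, 29716), (29946, 30574), (29947, 29098), (29948, 29670), (29949, 30575), (29950, 29102), (29951, 29398)]
    ⟨e3 q29888 L825740 q30528, e3 q29889 L818454 q29724, e3 q29890 L818470 q29725, e3 q29891 L818480 q29726, e3 q29892 L818501 q29727, e3 q29893 L818516 q29680, e3 q29894 L818534 q29067, e3 q29895 L818548 q29068, e3 q29896 L818562 q29069, e3 q29897 L818582 q29070, e3 q29898 L818598 q29071, e3 q29899 L818608 q29072, e3 q29900 L818628 q29073, e3 q29901 L818644 q29074, e3 q29902 L818656 q29075, e3 q29903 L818674 q29347, e3 q29904 L818690 q29050, e3 q29905 L818706 q29051, e3 q29906 L818716 q29052, e3 q29907 L818733 q29053, e3 q29908 (flp_i L825965) q30541, e3 q29909 (flp_i L825975) q30542, e3 q29910 (flp_i L825991) q30543, e3 q29911 (flp_i L826008) q30544, e3 q29912 L818794 q29099, e3 q29913 L818810 q29101, e3 q29914 L826084 q30551, e3 q29915 (flp_i L818828) q29058, e3 q29916 L818859 q29348, e3 q29917 L818873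 q29702, e3 q29918 L818881 q29683, e3 q29919 L818903 q29703, e3 q29920 L818919 q29527, e3 q29921 (flp_i L825833) q30533, e3 q29922 (flp_i L825847) q30534, e3 q29923 (flp_i L825867) q30535, e3 q29924 (flp_i L825877) q30536, e3 q29925 (flp_i L825897) q30537, e3 q29926 (flp_i L825931) q30539, e3 q29927 L819023 q29078, e3 q29928 L819039 q29079, e3 q29929 (flp_i L826216) q30558, e3 q29930 L819077 q29084, e3 q29931 L819093 q29085, e3 q29932 L819103 q29086, e3 q29933 L819118 q29087, e3 q29934 (flp_i L826236) q30559, e3 q29935 (flp_i L826246) q30560, e3 q29936 (flp_i L826260) q30561, e3 q29937 (flp_i L826275) q30562, e3 q29938 L826361 q30569, e3 q29939 L819202 q29092, e3 q29940 L819216 q29093, e3 q29941 L819230 q29094, e3 q29942 (flp_i L826388) q30570, e3 q29943 (flp_i L826402) q30571, e3 q29944 L819274 q29676, e3 q29945 L819292 q29716, e3 q29946 L826442 q30574, e3 q29947 (flp_i L819312) q29098, e3 q29948 L819340 q29670, e3 q29949 L826458 q30575, e3 q29950 (flp_i L819358) q29102, e3 q29951 L819382 q29398, trivial⟩ (by decide +kernel)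

theorem ce_i_468 : ∀ r, r < 64 → sm gi (Qf (29952 + r)) = Qf (tab Gen.i (29952 + r)) :=
  edges_tab (sm gi) Qf (tab Gen.i) 29952 [(29952, 29441), (29953, 29442), (29954, 29443), (29955, 29454), (29956, 29804), (29957, 29609), (29958, 29689), (29959, 29690), (29960, 29722), (29961, 29723), (29962, 30504), (29963, 30505), (29964, 30587), (29965, 29811), (29966, 29525), (29967, 29526), (29968, 29528), (29969, 29666), (29970, 29667), (29971, 29663), (29972, 29429), (29973, 29439), (29974, 29704), (29975, 29705), (29976, 29706), (29977, 29483), (29978, 29486), (29979, 29707), (29980, 29708), (29981, 29709), (29982, 29305), (29983, 29306), (29984, 29307), (29985, 29308), (29986, 29798), (29987, 29799), (29988, 29346), (29989, 29515), (29990, 29223), (29991, 29713), (29992, 29714), (29993, 29715), (29994, 30516), (29995, 29693), (29996, 29694), (29997, 29512), (29998, 29510), (29999, 29717), (30000, 29718), (30001, 29485), (30002, 29473), (30003, 29365), (30004, 29719), (30005, 29685), (30006, 29847), (30007, 29848), (30008, 30628),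 (30009, 29170), (30010, 29211), (30011, 29212), (30012, 29213), (30013, 29214), (30014, 29215), (30015, 29216)]
    ⟨e3 q29952 L819400 q29441, e3 q29953 L819416 q29442, e3 q29954 L819430 q29443, e3 q29955 L819449 q29454, e3 q29956 L819469 q29804, e3 q29957 L819483 q29609, e3 q29958 L819503 q29689, e3 q29959 L819517 q29690, e3 q29960 L819537 q29722, e3 q29961 L819551 q29723, e3 q29962 (flp_i L825411) q30504, e3 q29963 (flp_i L825425) q30505, e3 q29964 L826648 q30587, e3 q29965 L819612 q29811, e3 q29966 L819632 q29525, e3 q29967 L819648 q29526, e3 q29968 L819660 q29528, e3 q29969 L819678 q29666, e3 q29970 L819694 q29667, e3 q29971 L819704 q29663, e3 q29972 L819721 q29429, e3 q29973 L819736 q29439, e3 q29974 L819756 q29704, e3 q29975 L819772 q29705, e3 q29976 L819782 q29706, e3 q29977 L819799 q29483, e3 q29978 L819814 q29486, e3 q29979 L819830 q29707, e3 q29980 L819842 q29708, e3 q29981 L819852 q29709, e3 q29982 L819870 q29305, e3 q29983 L819886 q29306, e3 q29984 L819896 q29307, e3 q29985 L819913 q29308, e3 q29986 L819931 q29798,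 e3 q29987 L819939 q29799, e3 q29988 (flp_i L819954) q29346, e3 q29989 L819970 q29515, e3 q29990 L819986 q29223, e3 q29991 L819996 q29713, e3 q29992 L820004 q29714, e3 q29993 L820014 q29715, e3 q29994 (flp_i L825595) q30516, e3 q29995 L820038 q29693, e3 q29996 L820046 q29694, e3 q29997 L820056 q29512, e3 q29998 L820067 q29510, e3 q29999 L820077 q29717, e3 q30000 L820085 q29718, e3 q30001 L820095 q29485, e3 q30002 L820106 q29473, e3 q30003 L820121 q29365, e3 q30004 L820129 q29719, e3 q30005 L820137 q29685, e3 q30006 L820147 q29847, e3 q30007 L820153 q29848, e3 q30008 L827176 q30628, e3 q30009 (flp_i L820166) q29170, e3 q30010 L820195 q29211, e3 q30011 L820211 q29212, e3 q30012 L820221 q29213, e3 q30013 L820236 q29214, e3 q30014 L820252 q29215, e3 q30015 L820264 q29216, trivial⟩ (by decide +kernel)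

theorem ce_i_469 : ∀ r, r < 64 → sm gi (Qf (30016 + r)) = Qf (tab Gen.i (30016 + r)) :=
  edges_tab (sm gi) Qf (tab Gen.i) 30016 [(30016, 30637), (30017, 29220), (30018, 29659), (30019, 29661), (30020, 29222), (30021, 29226), (30022, 29227), (30023, 29228), (30024, 29345), (30025, 29601), (30026, 29602), (30027, 29198), (30028, 29199), (30029, 30644), (30030, 29615), (30031, 30645), (30032, 29616), (30033, 29393), (30034, 29241), (30035, 30650), (30036, 29207), (30037, 29519), (30038, 29520), (30039, 29521), (30040, 30629), (30041, 30630), (30042, 30631), (30043, 30632), (30044, 30617), (30045, 30634), (30046, 30635), (30047, 30661), (30048, 29217), (30049, 29610), (30050, 29776), (30051, 30609), (30052, 29828), (30053, 30640), (30054, 29668), (30055, 29234), (30056, 29621), (30057, 29243), (30058, 29252), (30059, 29253), (30060, 29399), (30061, 29400), (30062, 29401), (30063, 29402), (30064, 29368), (30065, 29369), (30066, 29370), (30067, 29371), (30068, 29444), (30069, 29445), (30070, 29446), (30071, 29447), (30072, 29278),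 (30073, 29812), (30074, 29813), (30075, 29461), (30076, 29462), (30077, 29280), (30078, 29281), (30079, 29282)]
    ⟨e3 q30016 L827293 q30637, e3 q30017 L820287 q29220, e3 q30018 L820305 q29659, e3 q30019 L820317 q29661, e3 q30020 L820331 q29222, e3 q30021 L820347 q29226, e3 q30022 L820361 q29227, e3 q30023 L820373 q29228, e3 q30024 L820391 q29345, e3 q30025 L820407 q29601, e3 q30026 L820421 q29602, e3 q30027 L820441 q29198, e3 q30028 L820455 q29199, e3 q30029 (flp_i L827406) q30644, e3 q30030 L820479 q29615, e3 q30031 (flp_i L827424) q30645, e3 q30032 L820498 q29616, e3 q30033 L820511 q29393, e3 q30034 L820529 q29241, e3 q30035 L827474 q30650, e3 q30036 (flp_i L820547) q29207, e3 q30037 L820575 q29519, e3 q30038 L820591 q29520, e3 q30039 L820605 q29521, e3 q30040 (flp_i L827204) q30629, e3 q30041 (flp_i L827214) q30630, e3 q30042 (flp_i L827228) q30631, e3 q30043 (flp_i L827243) q30632, e3 q30044 (flp_i L827059) q30617, e3 q30045 (flp_i L827270) q30634, e3 q30046 (flp_i L827278) q30635, e3 q30047 L827616 q30661, e3 q30048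 (flp_i L820703) q29217, e3 q30049 L820726 q29610, e3 q30050 L820746 q29776, e3 q30051 (flp_i L826975) q30609, e3 q30052 L820780 q29828, e3 q30053 (flp_i L827341) q30640, e3 q30054 L820814 q29668, e3 q30055 L820834 q29234, e3 q30056 L820854 q29621, e3 q30057 (flp_i L820860) q29243, e3 q30058 L820884 q29252, e3 q30059 L820904 q29253, e3 q30060 L820924 q29399, e3 q30061 L820940 q29400, e3 q30062 L820950 q29401, e3 q30063 L820967 q29402, e3 q30064 L820987 q29368, e3 q30065 L821003 q29369, e3 q30066 L821013 q29370, e3 q30067 L821034 q29371, e3 q30068 L821048 q29444, e3 q30069 L821058 q29445, e3 q30070 L821074 q29446, e3 q30071 L821086 q29447, e3 q30072 L821104 q29278, e3 q30073 L821122 q29812, e3 q30074 L821132 q29813, e3 q30075 L821146 q29461, e3 q30076 L821163 q29462, e3 q30077 L821181 q29280, e3 q30078 L821201 q29281, e3 q30079 L821219 q29282, trivial⟩ (by decide +kernel)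

theorem ce_i_470 : ∀ r, r < 64 → sm gi (Qf (30080 + r)) = Qf (tab Gen.i (30080 + r)) :=
  edges_tab (sm gi) Qf (tab Gen.i) 30080 [(30080, 29460), (30081, 29805), (30082, 29730), (30083, 29731), (30084, 29732), (30085, 29586), (30086, 29541), (30087, 29463), (30088, 29464), (30089, 29465), (30090, 29466), (30091, 29467), (30092, 29468), (30093, 29469), (30094, 29470), (30095, 29471), (30096, 29472), (30097, 30623), (30098, 29317), (30099, 30602), (30100, 30603), (30101, 30604), (30102, 30605), (30103, 29324), (30104, 29325), (30105, 30696), (30106, 29314), (30107, 29433), (30108, 29432), (30109, 29797), (30110, 29436), (30111, 30698), (30112, 29323), (30113, 30699), (30114, 29326), (30115, 29640), (30116, 29516), (30117, 29517), (30118, 29518), (30119, 29522), (30120, 29523), (30121, 29536), (30122, 29537), (30123, 29538), (30124, 29539), (30125, 30522), (30126, 29540), (30127, 29344), (30128, 30641), (30129, 30608), (30130, 30540), (30131, 30506), (30132, 30538), (30133, 29550), (30134, 29551), (30135, 29552), (30136, 29553),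 (30137, 30722), (30138, 29555), (30139, 29556), (30140, 29557), (30141, 29430), (30142, 29561), (30143, 29562)]
    ⟨e3 q30080 L821241 q29460, e3 q30081 L821257 q29805, e3 q30082 L821277 q29730, e3 q30083 L821293 q29731, e3 q30084 L821303 q29732, e3 q30085 L821320 q29586, e3 q30086 L821335 q29541, e3 q30087 L821355 q29463, e3 q30088 L821371 q29464, e3 q30089 L821381 q29465, e3 q30090 L821396 q29466, e3 q30091 L821411 q29467, e3 q30092 L821429 q29468, e3 q30093 L821443 q29469, e3 q30094 L821453 q29470, e3 q30095 L821471 q29471, e3 q30096 L821483 q29472, e3 q30097 (flp_i L827133) q30623, e3 q30098 L821510 q29317, e3 q30099 (flp_i L826881) q30602, e3 q30100 (flp_i L826891) q30603, e3 q30101 (flp_i L826907) q30604, e3 q30102 (flp_i L826924) q30605, e3 q30103 L821575 q29324, e3 q30104 L821593 q29325, e3 q30105 L828107 q30696, e3 q30106 (flp_i L821613) q29314, e3 q30107 L821639 q29433, e3 q30108 L821661 q29432, e3 q30109 L821677 q29797, e3 q30110 L821697 q29436, e3 q30111 L828139 q30698, e3 q30112 (flp_i L821717) q29323, e3 q30113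 L828155 q30699, e3 q30114 (flp_i L821747) q29326, e3 q30115 L821773 q29640, e3 q30116 L821791 q29516, e3 q30117 L821807 q29517, e3 q30118 L821817 q29518, e3 q30119 L821832 q29522, e3 q30120 L821840 q29523, e3 q30121 L821850 q29536, e3 q30122 L821858 q29537, e3 q30123 L821868 q29538, e3 q30124 L821878 q29539, e3 q30125 (flp_i L825679) q30522, e3 q30126 L821898 q29540, e3 q30127 L821918 q29344, e3 q30128 (flp_i L827357) q30641, e3 q30129 L826959 q30608, e3 q30130 (flp_i L825949) q30540, e3 q30131 L825444 q30506, e3 q30132 (flp_i L825919) q30538, e3 q30133 L821963 q29550, e3 q30134 L821971 q29551, e3 q30135 L821979 q29552, e3 q30136 L821988 q29553, e3 q30137 (flp_i L828393) q30722, e3 q30138 L822007 q29555, e3 q30139 L822015 q29556, e3 q30140 L822023 q29557, e3 q30141 L822037 q29430, e3 q30142 L822047 q29561, e3 q30143 L822053 q29562, trivial⟩ (by decide +kernel)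

theorem ce_i_471 : ∀ r, r < 64 → sm gi (Qf (30144 + r)) = Qf (tab Gen.i (30144 + r)) :=
  edges_tab (sm gi) Qf (tab Gen.i) 30144 [(30144, 30729), (30145, 29360), (30146, 29363), (30147, 29364), (30148, 30730), (30149, 30622), (30150, 30665), (30151, 30666), (30152, 30667), (30153, 29410), (30154, 29378), (30155, 29379), (30156, 29380), (30157, 29381), (30158, 30736), (30159, 30737), (30160, 30738), (30161, 30739), (30162, 30740), (30163, 30745), (30164, 29386), (30165, 29391), (30166, 29392), (30167, 30746), (30168, 30649), (30169, 29396), (30170, 30662), (30171, 30663), (30172, 30664), (30173, 29406), (30174, 29407), (30175, 30752), (30176, 29777), (30177, 29415), (30178, 29416), (30179, 29417), (30180, 29418), (30181, 30715), (30182, 30753), (30183, 30754), (30184, 30755), (30185, 30756), (30186, 30765), (30187, 30593), (30188, 29419), (30189, 29425), (30190, 29426), (30191, 29427), (30192, 29428), (30193, 30766), (30194, 30767), (30195, 30592), (30196, 30725), (30197, 30594), (30198, 30771), (30199, 29434), (30200, 29437),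 (30201, 30576), (30202, 30577), (30203, 30668), (30204, 30669), (30205, 30670), (30206, 29452), (30207, 29453)]
    ⟨e3 q30144 L828465 q30729, e3 q30145 (flp_i L822068) q29360, e3 q30146 L822093 q29363, e3 q30147 L822109 q29364, e3 q30148 (flp_i L828491) q30730, e3 q30149 (flp_i L827118) q30622, e3 q30150 (flp_i L827686) q30665, e3 q30151 (flp_i L827696) q30666, e3 q30152 (flp_i L827716) q30667, e3 q30153 L822191 q29410, e3 q30154 L822205 q29378, e3 q30155 L822213 q29379, e3 q30156 L822221 q29380, e3 q30157 L822228 q29381, e3 q30158 (flp_i L828571) q30736, e3 q30159 (flp_i L828579) q30737, e3 q30160 (flp_i L828585) q30738, e3 q30161 (flp_i L828594) q30739, e3 q30162 (flp_i L828603) q30740, e3 q30163 L828640 q30745, e3 q30164 (flp_i L822270) q29386, e3 q30165 L822294 q29391, e3 q30166 L822310 q29392, e3 q30167 (flp_i L828664) q30746, e3 q30168 (flp_i L827470) q30649, e3 q30169 L822342 q29396, e3 q30170 (flp_i L827640) q30662, e3 q30171 (flp_i L827650) q30663, e3 q30172 (flp_i L827666) q30664, e3 q30173 L822390 q29406, e3 q30174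 L822404 q29407, e3 q30175 (flp_i L828734) q30752, e3 q30176 L822434 q29777, e3 q30177 L822444 q29415, e3 q30178 L822450 q29416, e3 q30179 L822458 q29417, e3 q30180 L822467 q29418, e3 q30181 (flp_i L828325) q30715, e3 q30182 (flp_i L828742) q30753, e3 q30183 (flp_i L828750) q30754, e3 q30184 (flp_i L828758) q30755, e3 q30185 (flp_i L828767) q30756, e3 q30186 L828832 q30765, e3 q30187 (flp_i L826750) q30593, e3 q30188 (flp_i L822520) q29419, e3 q30189 L822537 q29425, e3 q30190 L822547 q29426, e3 q30191 L822559 q29427, e3 q30192 L822567 q29428, e3 q30193 (flp_i L828854) q30766, e3 q30194 (flp_i L828862) q30767, e3 q30195 (flp_i L826735) q30592, e3 q30196 (flp_i L828432) q30725, e3 q30197 (flp_i L826764) q30594, e3 q30198 L828910 q30771, e3 q30199 (flp_i L822643) q29434, e3 q30200 (flp_i L822653) q29437, e3 q30201 (flp_i L826484) q30576, e3 q30202 (flp_i L826498) q30577, e3 q30203 (flp_i L827730) q30668, e3 q30204 (flp_i L827744) q30669, e3 q30205 (flp_i L827756) q30670, e3 q30206 L822726 q29452, e3 q30207 L822738 q29453, trivial⟩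 (by decide +kernel)

theorem ce_i_472 : ∀ r, r < 64 → sm gi (Qf (30208 + r)) = Qf (tab Gen.i (30208 + r)) :=
  edges_tab (sm gi) Qf (tab Gen.i) 30208 [(30208, 30775), (30209, 30776), (30210, 29455), (30211, 29809), (30212, 29810), (30213, 30672), (30214, 30674), (30215, 30598), (30216, 30679), (30217, 30680), (30218, 30681), (30219, 30682), (30220, 30520), (30221, 30684), (30222, 30685), (30223, 30686), (30224, 30687), (30225, 30688), (30226, 30621), (30227, 29490), (30228, 29491), (30229, 29500), (30230, 29501), (30231, 29502), (30232, 30599), (30233, 29503), (30234, 30597), (30235, 30619), (30236, 29641), (30237, 29642), (30238, 30792), (30239, 30793), (30240, 29829), (30241, 29830), (30242, 29853), (30243, 29712), (30244, 29711), (30245, 30794), (30246, 30795), (30247, 29508), (30248, 29509), (30249, 30515), (30250, 30804), (30251, 30805), (30252, 30616), (30253, 30614), (30254, 29513), (30255, 30700), (30256, 30701), (30257, 30651), (30258, 30652), (30259, 30758), (30260, 30702), (30261, 30703), (30262, 30818), (30263,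 29524), (30264, 30588), (30265, 30554), (30266, 30589), (30267, 30511), (30268, 30510), (30269, 30512), (30270, 30513), (30271, 30514)]
    ⟨e3 q30208 (flp_i L828963) q30775, e3 q30209 (flp_i L828979) q30776, e3 q30210 (flp_i L822767) q29455, e3 q30211 L822793 q29809, e3 q30212 L822809 q29810, e3 q30213 (flp_i L827785) q30672, e3 q30214 (flp_i L827818) q30674, e3 q30215 (flp_i L826825) q30598, e3 q30216 (flp_i L827898) q30679, e3 q30217 (flp_i L827908) q30680, e3 q30218 (flp_i L827922) q30681, e3 q30219 (flp_i L827935) q30682, e3 q30220 (flp_i L825652) q30520, e3 q30221 (flp_i L827962) q30684, e3 q30222 (flp_i L827980) q30685, e3 q30223 (flp_i L827990) q30686, e3 q30224 (flp_i L828006) q30687, e3 q30225 (flp_i L828016) q30688, e3 q30226 (flp_i L827104) q30621, e3 q30227 L822980 q29490, e3 q30228 L822992 q29491, e3 q30229 L823006 q29500, e3 q30230 L823014 q29501, e3 q30231 L823022 q29502, e3 q30232 (flp_i L826839) q30599, e3 q30233 L823046 q29503, e3 q30234 (flp_i L826810) q30597, e3 q30235 (flp_i L827085) q30619, e3 q30236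 L823082 q29641, e3 q30237 L823094 q29642, e3 q30238 (flp_i L829165) q30792, e3 q30239 (flp_i L829181) q30793, e3 q30240 L823133 q29829, e3 q30241 L823145 q29830, e3 q30242 L823157 q29853, e3 q30243 L823165 q29712, e3 q30244 L823179 q29711, e3 q30245 (flp_i L829194) q30794, e3 q30246 (flp_i L829204) q30795, e3 q30247 L823213 q29508, e3 q30248 L823225 q29509, e3 q30249 (flp_i L825583) q30515, e3 q30250 (flp_i L829314) q30804, e3 q30251 (flp_i L829322) q30805, e3 q30252 (flp_i L827048) q30616, e3 q30253 (flp_i L827029) q30614, e3 q30254 (flp_i L823269) q29513, e3 q30255 (flp_i L828183) q30700, e3 q30256 (flp_i L828193) q30701, e3 q30257 (flp_i L827504) q30651, e3 q30258 (flp_i L827518) q30652, e3 q30259 (flp_i L828786) q30758, e3 q30260 (flp_i L828203) q30702, e3 q30261 (flp_i L828209) q30703, e3 q30262 L829433 q30818, e3 q30263 (flp_i L823345) q29524, e3 q30264 (flp_i L826679) q30588, e3 q30265 (flp_i L826148) q30554, e3 q30266 (flp_i L826691) q30589, e3 q30267 (flp_i L825522) q30511, e3 q30268 (flp_i L825504) q30510, e3 q30269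 (flp_i L825542) q30512, e3 q30270 (flp_i L825552) q30513, e3 q30271 (flp_i L825568) q30514, trivial⟩ (by decide +kernel)

theorem ce_i_473 : ∀ r, r < 64 → sm gi (Qf (30272 + r)) = Qf (tab Gen.i (30272 + r)) :=
  edges_tab (sm gi) Qf (tab Gen.i) 30272 [(30272, 30704), (30273, 30705), (30274, 30706), (30275, 30708), (30276, 30678), (30277, 29820), (30278, 29745), (30279, 29746), (30280, 29747), (30281, 29554), (30282, 30723), (30283, 29687), (30284, 30716), (30285, 30717), (30286, 30718), (30287, 30719), (30288, 30832), (30289, 30721), (30290, 30724), (30291, 29749), (30292, 29750), (30293, 30844), (30294, 29560), (30295, 30726), (30296, 30847), (30297, 30849), (30298, 29563), (30299, 29605), (30300, 29606), (30301, 29607), (30302, 29608), (30303, 29770), (30304, 29629), (30305, 29630), (30306, 29631), (30307, 29632), (30308, 29633), (30309, 30858), (30310, 29578), (30311, 29636), (30312, 30859), (30313, 29581), (30314, 29673), (30315, 30677), (30316, 30861), (30317, 29588), (30318, 30863), (30319, 29591), (30320, 30864), (30321,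 29592), (30322, 29596), (30323, 29739), (30324, 29740), (30325, 30642), (30326, 29769), (30327, 30643), (30328, 30850), (30329, 30851), (30330, 30852), (30331, 30578), (30332, 30579), (30333, 29766), (30334, 29767), (30335, 30647)]
    ⟨e3 q30272 (flp_i L828220) q30704, e3 q30273 (flp_i L828230) q30705, e3 q30274 (flp_i L828242) q30706, e3 q30275 (flp_i L828262) q30708, e3 q30276 (flp_i L827878) q30678, e3 q30277 L823510 q29820, e3 q30278 L823518 q29745, e3 q30279 L823526 q29746, e3 q30280 L823534 q29747, e3 q30281 L823543 q29554, e3 q30282 (flp_i L828410) q30723, e3 q30283 L823562 q29687, e3 q30284 (flp_i L828335) q30716, e3 q30285 (flp_i L828343) q30717, e3 q30286 (flp_i L828353) q30718, e3 q30287 (flp_i L828362) q30719, e3 q30288 (flp_i L829597) q30832, e3 q30289 (flp_i L828382) q30721, e3 q30290 (flp_i L828418) q30724, e3 q30291 L823623 q29749, e3 q30292 L823629 q29750, e3 q30293 L829702 q30844, e3 q30294 (flp_i L823644) q29560, e3 q30295 (flp_i L828442) q30726, e3 q30296 L829725 q30847, e3 q30297 L829744 q30849, e3 q30298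 (flp_i L823674) q29563, e3 q30299 L823690 q29605, e3 q30300 L823698 q29606, e3 q30301 L823710 q29607, e3 q30302 L823716 q29608, e3 q30303 L823733 q29770, e3 q30304 L823745 q29629, e3 q30305 L823755 q29630, e3 q30306 L823767 q29631, e3 q30307 L823775 q29632, e3 q30308 L823785 q29633, e3 q30309 L829853 q30858, e3 q30310 (flp_i L823799) q29578, e3 q30311 L823819 q29636, e3 q30312 L829863 q30859, e3 q30313 (flp_i L823833) q29581, e3 q30314 L823853 q29673, e3 q30315 (flp_i L827864) q30677, e3 q30316 L829887 q30861, e3 q30317 (flp_i L823883) q29588, e3 q30318 L829911 q30863, e3 q30319 (flp_i L823909) q29591, e3 q30320 L829925 q30864, e3 q30321 (flp_i L823929) q29592, e3 q30322 (flp_i L823943) q29596, e3 q30323 L823962 q29739, e3 q30324 L823970 q29740, e3 q30325 (flp_i L827371) q30642, e3 q30326 L823994 q29769, e3 q30327 (flp_i L827389) q30643, e3 q30328 (flp_i L829757) q30850, e3 q30329 (flp_i L829771) q30851, e3 q30330 (flp_i L829780) q30852, e3 q30331 (flp_i L826516) q30578, e3 q30332 (flp_i L826534) q30579, e3 q30333 L824055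 q29766, e3 q30334 L824063 q29767, e3 q30335 (flp_i L827445) q30647, trivial⟩ (by decide +kernel)

theorem ce_i_474 : ∀ r, r < 64 → sm gi (Qf (30336 + r)) = Qf (tab Gen.i (30336 + r)) :=
  edges_tab (sm gi) Qf (tab Gen.i) 30336 [(30336, 30648), (30337, 30876), (30338, 29617), (30339, 29821), (30340, 29638), (30341, 29764), (30342, 29677), (30343, 29679), (30344, 30881), (30345, 30532), (30346, 29625), (30347, 30882), (30348, 29627), (30349, 30855), (30350, 30856), (30351, 30884), (30352, 29634), (30353, 30552), (30354, 30877), (30355, 29637), (30356, 30798), (30357, 30799), (30358, 30517), (30359, 30518), (30360, 30519), (30361, 29651), (30362, 29652), (30363, 29653), (30364, 29654), (30365, 30714), (30366, 30890), (30367, 30891), (30368, 30892), (30369, 30893), (30370, 29658), (30371, 29660), (30372, 30901), (30373, 29657), (30374, 30898), (30375, 30638), (30376, 30906), (30377, 30639), (30378, 30908), (30379, 30591), (30380, 29662), (30381, 30590), (30382, 29822), (30383, 29671), (30384, 29674), (30385, 30624), (30386, 30878),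 (30387, 30834), (30388, 30508), (30389, 30509), (30390, 30524), (30391, 30580), (30392, 30581), (30393, 30613), (30394, 30615), (30395, 30507), (30396, 30523), (30397, 30525), (30398, 30526), (30399, 30916)]
    ⟨e3 q30336 (flp_i L827458) q30648, e3 q30337 L830029 q30876, e3 q30338 (flp_i L824086) q29617, e3 q30339 L824105 q29821, e3 q30340 L824115 q29638, e3 q30341 L824123 q29764, e3 q30342 L824133 q29677, e3 q30343 L824143 q29679, e3 q30344 L830075 q30881, e3 q30345 (flp_i L825815) q30532, e3 q30346 (flp_i L824163) q29625, e3 q30347 L830085 q30882, e3 q30348 (flp_i L824183) q29627, e3 q30349 (flp_i L829825) q30855, e3 q30350 (flp_i L829841) q30856, e3 q30351 L830109 q30884, e3 q30352 (flp_i L824221) q29634, e3 q30353 (flp_i L826108) q30552, e3 q30354 (flp_i L830047) q30877, e3 q30355 (flp_i L824249) q29637, e3 q30356 (flp_i L829238) q30798, e3 q30357 (flp_i L829254) q30799, e3 q30358 (flp_i L825615) q30517, e3 q30359 (flp_i L825625) q30518, e3 q30360 (flp_i L825639) q30519, e3 q30361 L824308 q29651, e3 q30362 L824316 q29652,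 e3 q30363 L824322 q29653, e3 q30364 L824331 q29654, e3 q30365 (flp_i L828308) q30714, e3 q30366 (flp_i L830172) q30890, e3 q30367 (flp_i L830178) q30891, e3 q30368 (flp_i L830186) q30892, e3 q30369 (flp_i L830195) q30893, e3 q30370 L824369 q29658, e3 q30371 L824373 q29660, e3 q30372 L830239 q30901, e3 q30373 (flp_i L824380) q29657, e3 q30374 (flp_i L830228) q30898, e3 q30375 (flp_i L827316) q30638, e3 q30376 L830282 q30906, e3 q30377 (flp_i L827324) q30639, e3 q30378 L830301 q30908, e3 q30379 (flp_i L826719) q30591, e3 q30380 (flp_i L824437) q29662, e3 q30381 (flp_i L826709) q30590, e3 q30382 L824465 q29822, e3 q30383 (flp_i L824469) q29671, e3 q30384 (flp_i L824479) q29674, e3 q30385 (flp_i L827143) q30624, e3 q30386 (flp_i L830055) q30878, e3 q30387 (flp_i L829617) q30834, e3 q30388 (flp_i L825470) q30508, e3 q30389 (flp_i L825488) q30509, e3 q30390 (flp_i L825703) q30524, e3 q30391 (flp_i L826551) q30580, e3 q30392 (flp_i L826569) q30581, e3 q30393 (flp_i L827017) q30613, e3 q30394 (flp_i L827039) q30615, e3 q30395 (flp_i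 L825460) q30507, e3 q30396 (flp_i L825695) q30523, e3 q30397 (flp_i L825717) q30525, e3 q30398 (flp_i L825725) q30526, e3 q30399 L830369 q30916, trivial⟩ (by decide +kernel)

theorem ce_i_475 : ∀ r, r < 64 → sm gi (Qf (30400 + r)) = Qf (tab Gen.i (30400 + r)) :=
  edges_tab (sm gi) Qf (tab Gen.i) 30400 [(30400, 29701), (30401, 30553), (30402, 30595), (30403, 30596), (30404, 30600), (30405, 30601), (30406, 30803), (30407, 30610), (30408, 30611), (30409, 30618), (30410, 30620), (30411, 29852), (30412, 30582), (30413, 30583), (30414, 30529), (30415, 30530), (30416, 30531), (30417, 29748), (30418, 30675), (30419, 30676), (30420, 29737), (30421, 29738), (30422, 30927), (30423, 30928), (30424, 30865), (30425, 30866), (30426, 29743), (30427, 29744), (30428, 30931), (30429, 30829), (30430, 30830), (30431, 30831), (30432, 30841), (30433, 30936), (30434, 30937), (30435, 29751), (30436, 29757), (30437, 29758), (30438, 30938), (30439, 30939), (30440, 29762), (30441, 29763), (30442, 30941), (30443, 30871), (30444, 30872), (30445, 30853),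 (30446, 30854), (30447, 29773), (30448, 29774), (30449, 30944), (30450, 29782), (30451, 29783), (30452, 29784), (30453, 30946), (30454, 30947), (30455, 30948), (30456, 29790), (30457, 29791), (30458, 29792), (30459, 30950), (30460, 30951), (30461, 30952), (30462, 29795), (30463, 30606)]
    ⟨e3 q30400 (flp_i L824632) q29701, e3 q30401 (flp_i L826132) q30553, e3 q30402 (flp_i L826784) q30595, e3 q30403 (flp_i L826794) q30596, e3 q30404 (flp_i L826855) q30600, e3 q30405 (flp_i L826863) q30601, e3 q30406 (flp_i L829300) q30803, e3 q30407 (flp_i L826983) q30610, e3 q30408 (flp_i L826993) q30611, e3 q30409 (flp_i L827073) q30618, e3 q30410 (flp_i L827095) q30620, e3 q30411 L824748 q29852, e3 q30412 (flp_i L826586) q30582, e3 q30413 (flp_i L826604) q30583, e3 q30414 (flp_i L825769) q30529, e3 q30415 (flp_i L825779) q30530, e3 q30416 (flp_i L825799) q30531, e3 q30417 L824797 q29748, e3 q30418 (flp_i L827838) q30675, e3 q30419 (flp_i L827848) q30676, e3 q30420 L824825 q29737, e3 q30421 L824833 q29738, e3 q30422 (flp_i L830476) q30927,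 e3 q30423 (flp_i L830486) q30928, e3 q30424 (flp_i L829941) q30865, e3 q30425 (flp_i L829951) q30866, e3 q30426 L824865 q29743, e3 q30427 L824869 q29744, e3 q30428 (flp_i L830507) q30931, e3 q30429 (flp_i L829570) q30829, e3 q30430 (flp_i L829578) q30830, e3 q30431 (flp_i L829588) q30831, e3 q30432 (flp_i L829677) q30841, e3 q30433 L830529 q30936, e3 q30434 L830533 q30937, e3 q30435 (flp_i L824908) q29751, e3 q30436 L824920 q29757, e3 q30437 L824928 q29758, e3 q30438 (flp_i L830544) q30938, e3 q30439 (flp_i L830554) q30939, e3 q30440 L824953 q29762, e3 q30441 L824959 q29763, e3 q30442 (flp_i L830569) q30941, e3 q30443 (flp_i L829991) q30871, e3 q30444 (flp_i L829999) q30872, e3 q30445 (flp_i L829798) q30853, e3 q30446 (flp_i L829813) q30854, e3 q30447 L824997 q29773, e3 q30448 L825001 q29774, e3 q30449 (flp_i L830589) q30944, e3 q30450 L825016 q29782, e3 q30451 L825024 q29783, e3 q30452 L825032 q29784, e3 q30453 (flp_i L830600) q30946, e3 q30454 (flp_i L830608) q30947, e3 q30455 (flp_i L830614) q30948, e3 q30456 L825057 q29790,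 e3 q30457 L825065 q29791, e3 q30458 L825073 q29792, e3 q30459 (flp_i L830629) q30950, e3 q30460 (flp_i L830637) q30951, e3 q30461 (flp_i L830647) q30952, e3 q30462 L825108 q29795, e3 q30463 (flp_i L826936) q30606, trivial⟩ (by decide +kernel)

theorem ce_i_476 : ∀ r, r < 64 → sm gi (Qf (30464 + r)) = Qf (tab Gen.i (30464 + r)) :=
  edges_tab (sm gi) Qf (tab Gen.i) 30464 [(30464, 30607), (30465, 29802), (30466, 29803), (30467, 30955), (30468, 29850), (30469, 29851), (30470, 29816), (30471, 29817), (30472, 30778), (30473, 30671), (30474, 30673), (30475, 29818), (30476, 29819), (30477, 30958), (30478, 30961), (30479, 29845), (30480, 29846), (30481, 29849), (30482, 30801), (30483, 30802), (30484, 30969), (30485, 29831), (30486, 30970), (30487, 29833), (30488, 29838), (30489, 29839), (30490, 30971), (30491, 30972), (30492, 29842), (30493, 29843), (30494, 30974), (30495, 30964), (30496, 30625), (30497, 30965), (30498, 30957), (30499, 30780), (30500, 29854), (30501, 30980), (30502, 29859), (30503, 29862), (30504, 29962), (30505,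 29963), (30506, 30131), (30507, 30395), (30508, 30388), (30509, 30389), (30510, 30268), (30511, 30267), (30512, 30269), (30513, 30270), (30514, 30271), (30515, 30249), (30516, 29994), (30517, 30358), (30518, 30359), (30519, 30360), (30520, 30220), (30521, 31001), (30522, 30125), (30523, 30396), (30524, 30390), (30525, 30397), (30526, 30398), (30527, 31007)]
    ⟨e3 q30464 (flp_i L826942) q30607, e3 q30465 L825127 q29802, e3 q30466 L825131 q29803, e3 q30467 (flp_i L830670) q30955, e3 q30468 L825142 q29850, e3 q30469 L825150 q29851, e3 q30470 L825159 q29816, e3 q30471 L825165 q29817, e3 q30472 (flp_i L829008) q30778, e3 q30473 (flp_i L827769) q30671, e3 q30474 (flp_i L827799) q30673, e3 q30475 L825193 q29818, e3 q30476 L825197 q29819, e3 q30477 (flp_i L830689) q30958, e3 q30478 (flp_i L830708) q30961, e3 q30479 L825214 q29845, e3 q30480 L825222 q29846, e3 q30481 L825229 q29849, e3 q30482 (flp_i L829279) q30801, e3 q30483 (flp_i L829287) q30802, e3 q30484 L830754 q30969, e3 q30485 (flp_i L825248) q29831, e3 q30486 L830762 q30970,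 e3 q30487 (flp_i L825261) q29833, e3 q30488 L825277 q29838, e3 q30489 L825285 q29839, e3 q30490 (flp_i L830776) q30971, e3 q30491 (flp_i L830782) q30972, e3 q30492 L825302 q29842, e3 q30493 L825306 q29843, e3 q30494 (flp_i L830795) q30974, e3 q30495 (flp_i L830726) q30964, e3 q30496 (flp_i L827153) q30625, e3 q30497 (flp_i L830730) q30965, e3 q30498 (flp_i L830681) q30957, e3 q30499 (flp_i L829030) q30780, e3 q30500 (flp_i L825337) q29854, e3 q30501 L830819 q30980, e3 q30502 (flp_i L825361) q29859, e3 q30503 (flp_i L825379) q29862, e3 q30504 L825411 q29962, e3 q30505 L825425 q29963, e3 q30506 (flp_i L825444) q30131, e3 q30507 L825460 q30395, e3 q30508 L825470 q30388, e3 q30509 L825488 q30389, e3 q30510 L825504 q30268, e3 q30511 L825522 q30267, e3 q30512 L825542 q30269, e3 q30513 L825552 q30270, e3 q30514 L825568 q30271, e3 q30515 L825583 q30249, e3 q30516 L825595 q29994, e3 q30517 L825615 q30358, e3 q30518 L825625 q30359, e3 q30519 L825639 q30360, e3 q30520 L825652 q30220, e3 q30521 (flp_i L831157) q31001, e3 q30522 L825679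 q30125, e3 q30523 L825695 q30396, e3 q30524 L825703 q30390, e3 q30525 L825717 q30397, e3 q30526 L825725 q30398, e3 q30527 L831229 q31007, trivial⟩ (by decide +kernel)

theorem ce_i_477 : ∀ r, r < 64 → sm gi (Qf (30528 + r)) = Qf (tab Gen.i (30528 + r)) :=
  edges_tab (sm gi) Qf (tab Gen.i) 30528 [(30528, 29888), (30529, 30414), (30530, 30415), (30531, 30416), (30532, 30345), (30533, 29921), (30534, 29922), (30535, 29923), (30536, 29924), (30537, 29925), (30538, 30132), (30539, 29926), (30540, 30130), (30541, 29908), (30542, 29909), (30543, 29910), (30544, 29911), (30545, 31017), (30546, 31018), (30547, 31019), (30548, 31020), (30549, 31021), (30550, 31026), (30551, 29914), (30552, 30353), (30553, 30401), (30554, 30265), (30555, 31012), (30556, 31013), (30557, 31014), (30558, 29929), (30559, 29934), (30560, 29935), (30561, 29936), (30562, 29937), (30563, 30994), (30564, 31028), (30565, 31029), (30566, 31030), (30567, 31031), (30568, 31039), (30569, 29938), (30570, 29942), (30571, 29943), (30572, 31040), (30573, 31041), (30574,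 29946), (30575, 29949), (30576, 30201), (30577, 30202), (30578, 30331), (30579, 30332), (30580, 30391), (30581, 30392), (30582, 30412), (30583, 30413), (30584, 30981), (30585, 30982), (30586, 31050), (30587, 29964), (30588, 30264), (30589, 30266), (30590, 30381), (30591, 30379)]
    ⟨e3 q30528 (flp_i L825740) q29888, e3 q30529 L825769 q30414, e3 q30530 L825779 q30415, e3 q30531 L825799 q30416, e3 q30532 L825815 q30345, e3 q30533 L825833 q29921, e3 q30534 L825847 q29922, e3 q30535 L825867 q29923, e3 q30536 L825877 q29924, e3 q30537 L825897 q29925, e3 q30538 L825919 q30132, e3 q30539 L825931 q29926, e3 q30540 L825949 q30130, e3 q30541 L825965 q29908, e3 q30542 L825975 q29909, e3 q30543 L825991 q29910, e3 q30544 L826008 q29911, e3 q30545 (flp_i L831414) q31017, e3 q30546 (flp_i L831432) q31018, e3 q30547 (flp_i L831448) q31019, e3 q30548 (flp_i L831463) q31020, e3 q30549 (flp_i L831478) q31021, e3 q30550 L831533 q31026, e3 q30551 (flp_i L826084) q29914, e3 q30552 L826108 q30353, e3 q30553 L826132 q30401, e3 q30554 L826148 q30265,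 e3 q30555 (flp_i L831326) q31012, e3 q30556 (flp_i L831342) q31013, e3 q30557 (flp_i L831364) q31014, e3 q30558 L826216 q29929, e3 q30559 L826236 q29934, e3 q30560 L826246 q29935, e3 q30561 L826260 q29936, e3 q30562 L826275 q29937, e3 q30563 (flp_i L831059) q30994, e3 q30564 (flp_i L831579) q31028, e3 q30565 (flp_i L831595) q31029, e3 q30566 (flp_i L831609) q31030, e3 q30567 (flp_i L831622) q31031, e3 q30568 L831731 q31039, e3 q30569 (flp_i L826361) q29938, e3 q30570 L826388 q29942, e3 q30571 L826402 q29943, e3 q30572 (flp_i L831759) q31040, e3 q30573 L831765 q31041, e3 q30574 (flp_i L826442) q29946, e3 q30575 (flp_i L826458) q29949, e3 q30576 L826484 q30201, e3 q30577 L826498 q30202, e3 q30578 L826516 q30331, e3 q30579 L826534 q30332, e3 q30580 L826551 q30391, e3 q30581 L826569 q30392, e3 q30582 L826586 q30412, e3 q30583 L826604 q30413, e3 q30584 (flp_i L830851) q30981, e3 q30585 (flp_i L830865) q30982, e3 q30586 L831915 q31050, e3 q30587 (flp_i L826648) q29964, e3 q30588 L826679 q30264, e3 q30589 L826691 q30266, e3 q30590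 L826709 q30381, e3 q30591 L826719 q30379, trivial⟩ (by decide +kernel)

theorem ce_i_478 : ∀ r, r < 64 → sm gi (Qf (30592 + r)) = Qf (tab Gen.i (30592 + r)) :=
  edges_tab (sm gi) Qf (tab Gen.i) 30592 [(30592, 30195), (30593, 30187), (30594, 30197), (30595, 30402), (30596, 30403), (30597, 30234), (30598, 30215), (30599, 30232), (30600, 30404), (30601, 30405), (30602, 30099), (30603, 30100), (30604, 30101), (30605, 30102), (30606, 30463), (30607, 30464), (30608, 30129), (30609, 30051), (30610, 30407), (30611, 30408), (30612, 30992), (30613, 30393), (30614, 30253), (30615, 30394), (30616, 30252), (30617, 30044), (30618, 30409), (30619, 30235), (30620, 30410), (30621, 30226), (30622, 30149), (30623, 30097), (30624, 30385), (30625, 30496), (30626, 31083), (30627, 31084), (30628, 30008), (30629, 30040), (30630, 30041), (30631, 30042), (30632, 30043), (30633, 30993), (30634, 30045), (30635, 30046), (30636, 31093), (30637, 30016), (30638, 30375), (30639, 30377), (30640, 30053), (30641, 30128), (30642, 30325), (30643, 30327), (30644,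 30029), (30645, 30031), (30646, 31096), (30647, 30335), (30648, 30336), (30649, 30168), (30650, 30035), (30651, 30257), (30652, 30258), (30653, 31085), (30654, 31086), (30655, 31087)]
    ⟨e3 q30592 L826735 q30195, e3 q30593 L826750 q30187, e3 q30594 L826764 q30197, e3 q30595 L826784 q30402, e3 q30596 L826794 q30403, e3 q30597 L826810 q30234, e3 q30598 L826825 q30215, e3 q30599 L826839 q30232, e3 q30600 L826855 q30404, e3 q30601 L826863 q30405, e3 q30602 L826881 q30099, e3 q30603 L826891 q30100, e3 q30604 L826907 q30101, e3 q30605 L826924 q30102, e3 q30606 L826936 q30463, e3 q30607 L826942 q30464, e3 q30608 (flp_i L826959) q30129, e3 q30609 L826975 q30051, e3 q30610 L826983 q30407, e3 q30611 L826993 q30408, e3 q30612 (flp_i L831025) q30992, e3 q30613 L827017 q30393, e3 q30614 L827029 q30253, e3 q30615 L827039 q30394, e3 q30616 L827048 q30252, e3 q30617 L827059 q30044, e3 q30618 L827073 q30409, e3 q30619 L827085 q30235, e3 q30620 L827095 q30410, e3 q30621 L827104 q30226, e3 q30622 L827118 q30149, e3 q30623 L827133 q30097, e3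 q30624 L827143 q30385, e3 q30625 L827153 q30496, e3 q30626 L832361 q31083, e3 q30627 L832377 q31084, e3 q30628 (flp_i L827176) q30008, e3 q30629 L827204 q30040, e3 q30630 L827214 q30041, e3 q30631 L827228 q30042, e3 q30632 L827243 q30043, e3 q30633 (flp_i L831040) q30993, e3 q30634 L827270 q30045, e3 q30635 L827278 q30046, e3 q30636 L832496 q31093, e3 q30637 (flp_i L827293) q30016, e3 q30638 L827316 q30375, e3 q30639 L827324 q30377, e3 q30640 L827341 q30053, e3 q30641 L827357 q30128, e3 q30642 L827371 q30325, e3 q30643 L827389 q30327, e3 q30644 L827406 q30029, e3 q30645 L827424 q30031, e3 q30646 (flp_i L832552) q31096, e3 q30647 L827445 q30335, e3 q30648 L827458 q30336, e3 q30649 L827470 q30168, e3 q30650 (flp_i L827474) q30035, e3 q30651 L827504 q30257, e3 q30652 L827518 q30258, e3 q30653 (flp_i L832402) q31085, e3 q30654 (flp_i L832418) q31086, e3 q30655 (flp_i L832432) q31087, trivial⟩ (by decide +kernel)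

theorem ce_i_479 : ∀ r, r < 64 → sm gi (Qf (30656 + r)) = Qf (tab Gen.i (30656 + r)) :=
  edges_tab (sm gi) Qf (tab Gen.i) 30656 [(30656, 31088), (30657, 31074), (30658, 31090), (30659, 31110), (30660, 31112), (30661, 30047), (30662, 30170), (30663, 30171), (30664, 30172), (30665, 30150), (30666, 30151), (30667, 30152), (30668, 30203), (30669, 30204), (30670, 30205), (30671, 30473), (30672, 30213), (30673, 30474), (30674, 30214), (30675, 30418), (30676, 30419), (30677, 30315), (30678, 30276), (30679, 30216), (30680, 30217), (30681, 30218), (30682, 30219), (30683, 31002), (30684, 30221), (30685, 30222), (30686, 30223), (30687, 30224), (30688, 30225), (30689, 31080), (30690, 31063), (30691, 31064), (30692, 31065), (30693, 31066), (30694, 31033), (30695, 31139), (30696, 30105), (30697, 31140), (30698, 30111), (30699, 30113), (30700, 30255), (30701, 30256), (30702, 30260), (30703, 30261), (30704, 30272), (30705, 30273), (30706, 30274), (30707, 31000), (30708, 30275), (30709, 31068), (30710, 31016), (30711, 31069), (30712, 30983),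 (30713, 31015), (30714, 30365), (30715, 30181), (30716, 30284), (30717, 30285), (30718, 30286), (30719, 30287)]
    ⟨e3 q30656 (flp_i L832445) q31088, e3 q30657 (flp_i L832264) q31074, e3 q30658 (flp_i L832471) q31090, e3 q30659 L832728 q31110, e3 q30660 L832751 q31112, e3 q30661 (flp_i L827616) q30047, e3 q30662 L827640 q30170, e3 q30663 L827650 q30171, e3 q30664 L827666 q30172, e3 q30665 L827686 q30150, e3 q30666 L827696 q30151, e3 q30667 L827716 q30152, e3 q30668 L827730 q30203, e3 q30669 L827744 q30204, e3 q30670 L827756 q30205, e3 q30671 L827769 q30473, e3 q30672 L827785 q30213, e3 q30673 L827799 q30474, e3 q30674 L827818 q30214, e3 q30675 L827838 q30418, e3 q30676 L827848 q30419, e3 q30677 L827864 q30315, e3 q30678 L827878 q30276, e3 q30679 L827898 q30216, e3 q30680 L827908 q30217, e3 q30681 L827922 q30218, e3 q30682 L827935 q30219, e3 q30683 (flp_i L831180) q31002, e3 q30684 L827962 q30221, e3 q30685 L827980 q30222, e3 q30686 L827990 q30223, e3 q30687 L828006 q30224, e3 q30688 L828016 q30225, e3 q30689 (flp_i L832340)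 q31080, e3 q30690 (flp_i L832123) q31063, e3 q30691 (flp_i L832141) q31064, e3 q30692 (flp_i L832157) q31065, e3 q30693 (flp_i L832172) q31066, e3 q30694 (flp_i L831655) q31033, e3 q30695 L833151 q31139, e3 q30696 (flp_i L828107) q30105, e3 q30697 L833169 q31140, e3 q30698 (flp_i L828139) q30111, e3 q30699 (flp_i L828155) q30113, e3 q30700 L828183 q30255, e3 q30701 L828193 q30256, e3 q30702 L828203 q30260, e3 q30703 L828209 q30261, e3 q30704 L828220 q30272, e3 q30705 L828230 q30273, e3 q30706 L828242 q30274, e3 q30707 (flp_i L831142) q31000, e3 q30708 L828262 q30275, e3 q30709 L832200 q31068, e3 q30710 (flp_i L831402) q31016, e3 q30711 L832213 q31069, e3 q30712 L830884 q30983, e3 q30713 (flp_i L831386) q31015, e3 q30714 L828308 q30365, e3 q30715 L828325 q30181, e3 q30716 L828335 q30284, e3 q30717 L828343 q30285, e3 q30718 L828353 q30286, e3 q30719 L828362 q30287, trivial⟩ (by decide +kernel)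

theorem ce_i_480 : ∀ r, r < 64 → sm gi (Qf (30720 + r)) = Qf (tab Gen.i (30720 + r)) :=
  edges_tab (sm gi) Qf (tab Gen.i) 30720 [(30720, 31159), (30721, 30289), (30722, 30137), (30723, 30282), (30724, 30290), (30725, 30196), (30726, 30295), (30727, 31164), (30728, 31165), (30729, 30144), (30730, 30148), (30731, 31077), (30732, 31079), (30733, 31116), (30734, 31117), (30735, 31118), (30736, 30158), (30737, 30159), (30738, 30160), (30739, 30161), (30740, 30162), (30741, 31168), (30742, 31169), (30743, 31170), (30744, 31171), (30745, 30163), (30746, 30167), (30747, 31099), (30748, 31100), (30749, 31113), (30750, 31114), (30751, 31115), (30752, 30175), (30753, 30182), (30754, 30183), (30755, 30184), (30756, 30185), (30757, 31152), (30758, 30259), (30759, 31178), (30760, 31179), (30761, 31188), (30762, 31181), (30763, 31190), (30764, 31055), (30765, 30186), (30766, 30193), (30767, 30194), (30768, 31053), (30769, 31161), (30770, 31056), (30771, 30198), (30772, 31042), (30773, 31043), (30774, 31119), (30775, 30208), (30776, 30209),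 (30777, 31194), (30778, 30472), (30779, 31121), (30780, 30499), (30781, 31060), (30782, 31126), (30783, 31127)]
    ⟨e3 q30720 (flp_i L833383) q31159, e3 q30721 L828382 q30289, e3 q30722 L828393 q30137, e3 q30723 L828410 q30282, e3 q30724 L828418 q30290, e3 q30725 L828432 q30196, e3 q30726 L828442 q30295, e3 q30727 L833438 q31164, e3 q30728 L833450 q31165, e3 q30729 (flp_i L828465) q30144, e3 q30730 L828491 q30148, e3 q30731 (flp_i L832304) q31077, e3 q30732 (flp_i L832324) q31079, e3 q30733 (flp_i L832819) q31116, e3 q30734 (flp_i L832841) q31117, e3 q30735 (flp_i L832859) q31118, e3 q30736 L828571 q30158, e3 q30737 L828579 q30159, e3 q30738 L828585 q30160, e3 q30739 L828594 q30161, e3 q30740 L828603 q30162, e3 q30741 (flp_i L833495) q31168, e3 q30742 (flp_i L833503) q31169, e3 q30743 (flp_i L833512) q31170, e3 q30744 (flp_i L833522) q31171, e3 q30745 (flp_i L828640) q30163, e3 q30746 L828664 q30167, e3 q30747 (flp_i L832585) q31099, e3 q30748 (flp_i L832598) q31100, e3 q30749 (flp_i L832770) q31113, e3 q30750 (flp_i L832788)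 q31114, e3 q30751 (flp_i L832804) q31115, e3 q30752 L828734 q30175, e3 q30753 L828742 q30182, e3 q30754 L828750 q30183, e3 q30755 L828758 q30184, e3 q30756 L828767 q30185, e3 q30757 (flp_i L833313) q31152, e3 q30758 L828786 q30259, e3 q30759 (flp_i L833592) q31178, e3 q30760 (flp_i L833600) q31179, e3 q30761 L833669 q31188, e3 q30762 (flp_i L833613) q31181, e3 q30763 L833692 q31190, e3 q30764 (flp_i L832004) q31055, e3 q30765 (flp_i L828832) q30186, e3 q30766 L828854 q30193, e3 q30767 L828862 q30194, e3 q30768 (flp_i L831975) q31053, e3 q30769 (flp_i L833415) q31161, e3 q30770 (flp_i L832018) q31056, e3 q30771 (flp_i L828910) q30198, e3 q30772 (flp_i L831795) q31042, e3 q30773 (flp_i L831813) q31043, e3 q30774 (flp_i L832874) q31119, e3 q30775 L828963 q30208, e3 q30776 L828979 q30209, e3 q30777 (flp_i L833748) q31194, e3 q30778 L829008 q30472, e3 q30779 (flp_i L832908) q31121, e3 q30780 L829030 q30499, e3 q30781 (flp_i L832081) q31060, e3 q30782 (flp_i L832987) q31126, e3 q30783 (flp_i L833003) q31127, trivial⟩ (by decide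 +kernel)

theorem ce_i_481 : ∀ r, r < 64 → sm gi (Qf (30784 + r)) = Qf (tab Gen.i (30784 + r)) :=
  edges_tab (sm gi) Qf (tab Gen.i) 30784 [(30784, 31128), (30785, 31129), (30786, 30998), (30787, 31131), (30788, 31132), (30789, 31133), (30790, 31076), (30791, 31078), (30792, 30238), (30793, 30239), (30794, 30245), (30795, 30246), (30796, 31061), (30797, 31058), (30798, 30356), (30799, 30357), (30800, 31208), (30801, 30482), (30802, 30483), (30803, 30406), (30804, 30250), (30805, 30251), (30806, 30991), (30807, 31213), (30808, 31072), (30809, 31073), (30810, 31141), (30811, 31142), (30812, 31101), (30813, 31102), (30814, 31183), (30815, 31143), (30816, 31224), (30817, 31225), (30818, 30262), (30819, 31027), (30820, 31051), (30821, 30987), (30822, 30986), (30823, 30988), (30824, 30989), (30825, 30990), (30826, 31144), (30827, 31146), (30828, 31125), (30829, 30429), (30830, 30430), (30831, 30431), (30832, 30288), (30833, 31160), (30834, 30387), (30835, 31153), (30836, 31154), (30837, 31231), (30838, 31156), (30839, 31157), (30840,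 31234), (30841, 30432), (30842, 31241), (30843, 31242), (30844, 30293), (30845, 31162), (30846, 31245), (30847, 30296)]
    ⟨e3 q30784 (flp_i L833015) q31128, e3 q30785 (flp_i L833028) q31129, e3 q30786 (flp_i L831116) q30998, e3 q30787 (flp_i L833054) q31131, e3 q30788 (flp_i L833070) q31132, e3 q30789 (flp_i L833086) q31133, e3 q30790 (flp_i L832288) q31076, e3 q30791 (flp_i L832311) q31078, e3 q30792 L829165 q30238, e3 q30793 L829181 q30239, e3 q30794 L829194 q30245, e3 q30795 L829204 q30246, e3 q30796 (flp_i L832095) q31061, e3 q30797 (flp_i L832052) q31058, e3 q30798 L829238 q30356, e3 q30799 L829254 q30357, e3 q30800 (flp_i L833922) q31208, e3 q30801 L829279 q30482, e3 q30802 L829287 q30483, e3 q30803 L829300 q30406, e3 q30804 L829314 q30250, e3 q30805 L829322 q30251, e3 q30806 (flp_i L831013) q30991, e3 q30807 (flp_i L833983) q31213, e3 q30808 (flp_i L832247) q31072, e3 q30809 (flp_i L832254) q31073, e3 q30810 (flp_i L833197) q31141, e3 q30811 (flp_i L833209) q31142, e3 q30812 (flp_i L832614) q31101, e3 q30813 (flp_i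 L832632) q31102, e3 q30814 (flp_i L833634) q31183, e3 q30815 (flp_i L833220) q31143, e3 q30816 L834079 q31224, e3 q30817 L834089 q31225, e3 q30818 (flp_i L829433) q30262, e3 q30819 (flp_i L831565) q31027, e3 q30820 (flp_i L831943) q31051, e3 q30821 (flp_i L830950) q30987, e3 q30822 (flp_i L830932) q30986, e3 q30823 (flp_i L830966) q30988, e3 q30824 (flp_i L830984) q30989, e3 q30825 (flp_i L830998) q30990, e3 q30826 (flp_i L833234) q31144, e3 q30827 (flp_i L833256) q31146, e3 q30828 (flp_i L832971) q31125, e3 q30829 L829570 q30429, e3 q30830 L829578 q30430, e3 q30831 L829588 q30431, e3 q30832 L829597 q30288, e3 q30833 (flp_i L833401) q31160, e3 q30834 L829617 q30387, e3 q30835 (flp_i L833325) q31153, e3 q30836 (flp_i L833333) q31154, e3 q30837 (flp_i L834168) q31231, e3 q30838 (flp_i L833353) q31156, e3 q30839 (flp_i L833362) q31157, e3 q30840 (flp_i L834197) q31234, e3 q30841 L829677 q30432, e3 q30842 L834256 q31241, e3 q30843 L834268 q31242, e3 q30844 (flp_i L829702) q30293, e3 q30845 (flp_i L833425) q31162, e3 q30846 L834300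 q31245, e3 q30847 (flp_i L829725) q30296, trivial⟩ (by decide +kernel)

theorem ce_i_482 : ∀ r, r < 64 → sm gi (Qf (30848 + r)) = Qf (tab Gen.i (30848 + r)) :=
  edges_tab (sm gi) Qf (tab Gen.i) 30848 [(30848, 31246), (30849, 30297), (30850, 30328), (30851, 30329), (30852, 30330), (30853, 30445), (30854, 30446), (30855, 30349), (30856, 30350), (30857, 31250), (30858, 30309), (30859, 30312), (30860, 31123), (30861, 30316), (30862, 31251), (30863, 30318), (30864, 30320), (30865, 30424), (30866, 30425), (30867, 31095), (30868, 31247), (30869, 31248), (30870, 31044), (30871, 30443), (30872, 30444), (30873, 31098), (30874, 31259), (30875, 31260), (30876, 30337), (30877, 30354), (30878, 30386), (30879, 31262), (30880, 31011), (30881, 30344), (30882, 30347), (30883, 30984), (30884, 30351), (30885, 30985), (30886, 31210), (30887, 30995), (30888, 30996), (30889, 30997), (30890, 30366), (30891, 30367), (30892, 30368), (30893, 30369), (30894, 31151), (30895, 31265), (30896, 31266), (30897, 31268), (30898, 30374), (30899, 31274), (30900,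 31275), (30901, 30372), (30902, 31272), (30903, 31094), (30904, 31279), (30905, 31052), (30906, 30376), (30907, 31054), (30908, 30378), (30909, 31003), (30910, 31233), (30911, 31045)]
    ⟨e3 q30848 L834308 q31246, e3 q30849 (flp_i L829744) q30297, e3 q30850 L829757 q30328, e3 q30851 L829771 q30329, e3 q30852 L829780 q30330, e3 q30853 L829798 q30445, e3 q30854 L829813 q30446, e3 q30855 L829825 q30349, e3 q30856 L829841 q30350, e3 q30857 L834356 q31250, e3 q30858 (flp_i L829853) q30309, e3 q30859 (flp_i L829863) q30312, e3 q30860 (flp_i L832942) q31123, e3 q30861 (flp_i L829887) q30316, e3 q30862 L834366 q31251, e3 q30863 (flp_i L829911) q30318, e3 q30864 (flp_i L829925) q30320, e3 q30865 L829941 q30424, e3 q30866 L829951 q30425, e3 q30867 (flp_i L832534) q31095, e3 q30868 (flp_i L834329) q31247, e3 q30869 (flp_i L834335) q31248, e3 q30870 (flp_i L831832) q31044, e3 q30871 L829991 q30443, e3 q30872 L829999 q30444, e3 q30873 (flp_i L832571) q31098, e3 q30874 L834438 q31259, e3 q30875 L834448 q31260, e3 q30876 (flp_i L830029)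 q30337, e3 q30877 L830047 q30354, e3 q30878 L830055 q30386, e3 q30879 L834465 q31262, e3 q30880 (flp_i L831308) q31011, e3 q30881 (flp_i L830075) q30344, e3 q30882 (flp_i L830085) q30347, e3 q30883 (flp_i L830896) q30984, e3 q30884 (flp_i L830109) q30351, e3 q30885 (flp_i L830916) q30985, e3 q30886 (flp_i L833948) q31210, e3 q30887 (flp_i L831075) q30995, e3 q30888 (flp_i L831091) q30996, e3 q30889 (flp_i L831103) q30997, e3 q30890 L830172 q30366, e3 q30891 L830178 q30367, e3 q30892 L830186 q30368, e3 q30893 L830195 q30369, e3 q30894 (flp_i L833295) q31151, e3 q30895 (flp_i L834498) q31265, e3 q30896 (flp_i L834506) q31266, e3 q30897 (flp_i L834519) q31268, e3 q30898 L830228 q30374, e3 q30899 L834552 q31274, e3 q30900 L834562 q31275, e3 q30901 (flp_i L830239) q30372, e3 q30902 (flp_i L834543) q31272, e3 q30903 (flp_i L832516) q31094, e3 q30904 L834601 q31279, e3 q30905 (flp_i L831957) q31052, e3 q30906 (flp_i L830282) q30376, e3 q30907 (flp_i L831989) q31054, e3 q30908 (flp_i L830301) q30378, e3 q30909 (flp_i L831190) q31003,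 e3 q30910 (flp_i L834188) q31233, e3 q30911 (flp_i L831850) q31045, trivial⟩ (by decide +kernel)

theorem ce_i_483 : ∀ r, r < 64 → sm gi (Qf (30912 + r)) = Qf (tab Gen.i (30912 + r)) :=
  edges_tab (sm gi) Qf (tab Gen.i) 30912 [(30912, 31071), (30913, 31004), (30914, 31284), (30915, 31285), (30916, 30399), (30917, 31057), (30918, 31059), (30919, 31062), (30920, 31075), (30921, 31046), (30922, 31008), (30923, 31009), (30924, 31010), (30925, 31122), (30926, 31124), (30927, 30422), (30928, 30423), (30929, 31291), (30930, 31252), (30931, 30428), (30932, 31294), (30933, 31230), (30934, 31239), (30935, 31297), (30936, 30433), (30937, 30434), (30938, 30438), (30939, 30439), (30940, 31298), (30941, 30442), (30942, 31256), (30943, 31249), (30944, 30449), (30945, 31302), (30946, 30453), (30947, 30454), (30948, 30455), (30949, 31303), (30950, 30459), (30951, 30460), (30952, 30461), (30953, 31305), (30954, 31067), (30955, 30467), (30956, 31308), (30957, 30498), (30958, 30477), (30959, 31196), (30960, 31120), (30961, 30478), (30962, 31310),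 (30963, 31312), (30964, 30495), (30965, 30497), (30966, 31212), (30967, 31316), (30968, 31317), (30969, 30484), (30970, 30486), (30971, 30490), (30972, 30491), (30973, 31318), (30974, 30494), (30975, 31320)]
    ⟨e3 q30912 (flp_i L832237) q31071, e3 q30913 (flp_i L831202) q31004, e3 q30914 L834646 q31284, e3 q30915 L834656 q31285, e3 q30916 (flp_i L830369) q30399, e3 q30917 (flp_i L832034) q31057, e3 q30918 (flp_i L832066) q31059, e3 q30919 (flp_i L832109) q31062, e3 q30920 (flp_i L832278) q31075, e3 q30921 (flp_i L831868) q31046, e3 q30922 (flp_i L831253) q31008, e3 q30923 (flp_i L831275) q31009, e3 q30924 (flp_i L831291) q31010, e3 q30925 (flp_i L832924) q31122, e3 q30926 (flp_i L832956) q31124, e3 q30927 L830476 q30422, e3 q30928 L830486 q30423, e3 q30929 (flp_i L834719) q31291, e3 q30930 (flp_i L834384) q31252, e3 q30931 L830507 q30428, e3 q30932 (flp_i L834735) q31294, e3 q30933 (flp_i L834160) q31230, e3 q30934 (flp_i L834241) q31239, e3 q30935 L834748 q31297, e3 q30936 (flp_i L830529) q30433, e3 q30937 (flp_i L830533)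 q30434, e3 q30938 L830544 q30438, e3 q30939 L830554 q30439, e3 q30940 (flp_i L834762) q31298, e3 q30941 L830569 q30442, e3 q30942 (flp_i L834419) q31256, e3 q30943 (flp_i L834352) q31249, e3 q30944 L830589 q30449, e3 q30945 (flp_i L834787) q31302, e3 q30946 L830600 q30453, e3 q30947 L830608 q30454, e3 q30948 L830614 q30455, e3 q30949 (flp_i L834796) q31303, e3 q30950 L830629 q30459, e3 q30951 L830637 q30460, e3 q30952 L830647 q30461, e3 q30953 (flp_i L834811) q31305, e3 q30954 (flp_i L832182) q31067, e3 q30955 L830670 q30467, e3 q30956 (flp_i L834831) q31308, e3 q30957 L830681 q30498, e3 q30958 L830689 q30477, e3 q30959 (flp_i L833775) q31196, e3 q30960 (flp_i L832888) q31120, e3 q30961 L830708 q30478, e3 q30962 (flp_i L834847) q31310, e3 q30963 (flp_i L834859) q31312, e3 q30964 L830726 q30495, e3 q30965 L830730 q30497, e3 q30966 (flp_i L833971) q31212, e3 q30967 L834884 q31316, e3 q30968 L834892 q31317, e3 q30969 (flp_i L830754) q30484, e3 q30970 (flp_i L830762) q30486, e3 q30971 L830776 q30490, e3 q30972 L830782 q30491,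 e3 q30973 (flp_i L834905) q31318, e3 q30974 L830795 q30494, e3 q30975 (flp_i L834914) q31320, trivial⟩ (by decide +kernel)

theorem ce_i_484 : ∀ r, r < 64 → sm gi (Qf (30976 + r)) = Qf (tab Gen.i (30976 + r)) :=
  edges_tab (sm gi) Qf (tab Gen.i) 30976 [(30976, 31313), (30977, 31081), (30978, 31309), (30979, 31197), (30980, 30501), (30981, 30584), (30982, 30585), (30983, 30712), (30984, 30883), (30985, 30885), (30986, 30822), (30987, 30821), (30988, 30823), (30989, 30824), (30990, 30825), (30991, 30806), (30992, 30612), (30993, 30633), (30994, 30563), (30995, 30887), (30996, 30888), (30997, 30889), (30998, 30786), (30999, 31339), (31000, 30707), (31001, 30521), (31002, 30683), (31003, 30909), (31004, 30913), (31005, 31343), (31006, 31344), (31007, 30527), (31008, 30922), (31009, 30923), (31010, 30924), (31011, 30880), (31012, 30555), (31013, 30556), (31014, 30557), (31015, 30713), (31016, 30710), (31017, 30545), (31018, 30546), (31019, 30547), (31020, 30548), (31021, 30549), (31022, 31348), (31023, 31349), (31024, 31350),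 (31025, 31351), (31026, 30550), (31027, 30819), (31028, 30564), (31029, 30565), (31030, 30566), (31031, 30567), (31032, 31332), (31033, 30694), (31034, 31356), (31035, 31357), (31036, 31365), (31037, 31359), (31038, 31366), (31039, 30568)]
    ⟨e3 q30976 (flp_i L834868) q31313, e3 q30977 (flp_i L832348) q31081, e3 q30978 (flp_i L834838) q31309, e3 q30979 (flp_i L833788) q31197, e3 q30980 (flp_i L830819) q30501, e3 q30981 L830851 q30584, e3 q30982 L830865 q30585, e3 q30983 (flp_i L830884) q30712, e3 q30984 L830896 q30883, e3 q30985 L830916 q30885, e3 q30986 L830932 q30822, e3 q30987 L830950 q30821, e3 q30988 L830966 q30823, e3 q30989 L830984 q30824, e3 q30990 L830998 q30825, e3 q30991 L831013 q30806, e3 q30992 L831025 q30612, e3 q30993 L831040 q30633, e3 q30994 L831059 q30563, e3 q30995 L831075 q30887, e3 q30996 L831091 q30888, e3 q30997 L831103 q30889, e3 q30998 L831116 q30786, e3 q30999 (flp_i L835200) q31339, e3 q31000 L831142 q30707, e3 q31001 L831157 q30521, e3 q31002 L831180 q30683, e3 q31003 L831190 q30909, e3 q31004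 L831202 q30913, e3 q31005 L835249 q31343, e3 q31006 L835265 q31344, e3 q31007 (flp_i L831229) q30527, e3 q31008 L831253 q30922, e3 q31009 L831275 q30923, e3 q31010 L831291 q30924, e3 q31011 L831308 q30880, e3 q31012 L831326 q30555, e3 q31013 L831342 q30556, e3 q31014 L831364 q30557, e3 q31015 L831386 q30713, e3 q31016 L831402 q30710, e3 q31017 L831414 q30545, e3 q31018 L831432 q30546, e3 q31019 L831448 q30547, e3 q31020 L831463 q30548, e3 q31021 L831478 q30549, e3 q31022 (flp_i L835350) q31348, e3 q31023 (flp_i L835366) q31349, e3 q31024 (flp_i L835381) q31350, e3 q31025 (flp_i L835395) q31351, e3 q31026 (flp_i L831533) q30550, e3 q31027 L831565 q30819, e3 q31028 L831579 q30564, e3 q31029 L831595 q30565, e3 q31030 L831609 q30566, e3 q31031 L831622 q30567, e3 q31032 (flp_i L835100) q31332, e3 q31033 L831655 q30694, e3 q31034 (flp_i L835463) q31356, e3 q31035 (flp_i L835477) q31357, e3 q31036 L835586 q31365, e3 q31037 (flp_i L835506) q31359, e3 q31038 L835602 q31366, e3 q31039 (flp_i L831731) q30568, trivial⟩ (by decide +kernel)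

theorem ce_i_485 : ∀ r, r < 64 → sm gi (Qf (31040 + r)) = Qf (tab Gen.i (31040 + r)) :=
  edges_tab (sm gi) Qf (tab Gen.i) 31040 [(31040, 30572), (31041, 30573), (31042, 30772), (31043, 30773), (31044, 30870), (31045, 30911), (31046, 30921), (31047, 31322), (31048, 31373), (31049, 31374), (31050, 30586), (31051, 30820), (31052, 30905), (31053, 30768), (31054, 30907), (31055, 30764), (31056, 30770), (31057, 30917), (31058, 30797), (31059, 30918), (31060, 30781), (31061, 30796), (31062, 30919), (31063, 30690), (31064, 30691), (31065, 30692), (31066, 30693), (31067, 30954), (31068, 30709), (31069, 30711), (31070, 31329), (31071, 30912), (31072, 30808), (31073, 30809), (31074, 30657), (31075, 30920), (31076, 30790), (31077, 30731), (31078, 30791), (31079, 30732), (31080, 30689), (31081, 30977), (31082, 31398), (31083, 30626), (31084, 30627), (31085, 30653), (31086, 30654), (31087, 30655), (31088, 30656), (31089, 31331), (31090, 30658), (31091, 31406), (31092, 31407), (31093, 30636), (31094, 30903), (31095, 30867), (31096, 30646),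 (31097, 31410), (31098, 30873), (31099, 30747), (31100, 30748), (31101, 30812), (31102, 30813), (31103, 31399)]
    ⟨e3 q31040 L831759 q30572, e3 q31041 (flp_i L831765) q30573, e3 q31042 L831795 q30772, e3 q31043 L831813 q30773, e3 q31044 L831832 q30870, e3 q31045 L831850 q30911, e3 q31046 L831868 q30921, e3 q31047 (flp_i L834934) q31322, e3 q31048 L835721 q31373, e3 q31049 L835739 q31374, e3 q31050 (flp_i L831915) q30586, e3 q31051 L831943 q30820, e3 q31052 L831957 q30905, e3 q31053 L831975 q30768, e3 q31054 L831989 q30907, e3 q31055 L832004 q30764, e3 q31056 L832018 q30770, e3 q31057 L832034 q30917, e3 q31058 L832052 q30797, e3 q31059 L832066 q30918, e3 q31060 L832081 q30781, e3 q31061 L832095 q30796, e3 q31062 L832109 q30919, e3 q31063 L832123 q30690, e3 q31064 L832141 q30691, e3 q31065 L832157 q30692, e3 q31066 L832172 q30693, e3 q31067 L832182 q30954, e3 q31068 (flp_i L832200) q30709, e3 q31069 (flp_i L832213) q30711, e3 q31070 (flp_i L835055) q31329, e3 q31071 L832237 q30912, e3 q31072 L832247 q30808, e3 q31073 L832254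 q30809, e3 q31074 L832264 q30657, e3 q31075 L832278 q30920, e3 q31076 L832288 q30790, e3 q31077 L832304 q30731, e3 q31078 L832311 q30791, e3 q31079 L832324 q30732, e3 q31080 L832340 q30689, e3 q31081 L832348 q30977, e3 q31082 L836087 q31398, e3 q31083 (flp_i L832361) q30626, e3 q31084 (flp_i L832377) q30627, e3 q31085 L832402 q30653, e3 q31086 L832418 q30654, e3 q31087 L832432 q30655, e3 q31088 L832445 q30656, e3 q31089 (flp_i L835082) q31331, e3 q31090 L832471 q30658, e3 q31091 L836198 q31406, e3 q31092 L836212 q31407, e3 q31093 (flp_i L832496) q30636, e3 q31094 L832516 q30903, e3 q31095 L832534 q30867, e3 q31096 L832552 q30646, e3 q31097 (flp_i L836271) q31410, e3 q31098 L832571 q30873, e3 q31099 L832585 q30747, e3 q31100 L832598 q30748, e3 q31101 L832614 q30812, e3 q31102 L832632 q30813, e3 q31103 (flp_i L836113) q31399, trivial⟩ (by decide +kernel)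

theorem ce_i_486 : ∀ r, r < 64 → sm gi (Qf (31104 + r)) = Qf (tab Gen.i (31104 + r)) :=
  edges_tab (sm gi) Qf (tab Gen.i) 31104 [(31104, 31400), (31105, 31390), (31106, 31402), (31107, 31391), (31108, 31404), (31109, 31419), (31110, 30659), (31111, 31396), (31112, 30660), (31113, 30749), (31114, 30750), (31115, 30751), (31116, 30733), (31117, 30734), (31118, 30735), (31119, 30774), (31120, 30960), (31121, 30779), (31122, 30925), (31123, 30860), (31124, 30926), (31125, 30828), (31126, 30782), (31127, 30783), (31128, 30784), (31129, 30785), (31130, 31340), (31131, 30787), (31132, 30788), (31133, 30789), (31134, 31395), (31135, 31383), (31136, 31384), (31137, 31385), (31138, 31361), (31139, 30695), (31140, 30697), (31141, 30810), (31142, 30811), (31143, 30815), (31144, 30826), (31145, 31336), (31146, 30827), (31147, 31387), (31148, 31323), (31149, 31347), (31150, 31324), (31151, 30894), (31152, 30757), (31153, 30835), (31154, 30836), (31155, 31448), (31156, 30838), (31157, 30839), (31158, 31450), (31159, 30720), (31160, 30833),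 (31161, 30769), (31162, 30845), (31163, 31453), (31164, 30727), (31165, 30728), (31166, 31394), (31167, 31422)]
    ⟨e3 q31104 (flp_i L836127) q31400, e3 q31105 (flp_i L835989) q31390, e3 q31106 (flp_i L836156) q31402, e3 q31107 (flp_i L836004) q31391, e3 q31108 (flp_i L836183) q31404, e3 q31109 L836389 q31419, e3 q31110 (flp_i L832728) q30659, e3 q31111 (flp_i L836072) q31396, e3 q31112 (flp_i L832751) q30660, e3 q31113 L832770 q30749, e3 q31114 L832788 q30750, e3 q31115 L832804 q30751, e3 q31116 L832819 q30733, e3 q31117 L832841 q30734, e3 q31118 L832859 q30735, e3 q31119 L832874 q30774, e3 q31120 L832888 q30960, e3 q31121 L832908 q30779, e3 q31122 L832924 q30925, e3 q31123 L832942 q30860, e3 q31124 L832956 q30926, e3 q31125 L832971 q30828, e3 q31126 L832987 q30782, e3 q31127 L833003 q30783, e3 q31128 L833015 q30784, e3 q31129 L833028 q30785, e3 q31130 (flp_i L835222) q31340, e3 q31131 L833054 q30787, e3 q31132 L833070 q30788, e3 q31133 L833086 q30789, e3 q31134 (flp_i L836059) q31395, e3 q31135 (flp_i L835898) q31383, e3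 q31136 (flp_i L835914) q31384, e3 q31137 (flp_i L835929) q31385, e3 q31138 (flp_i L835539) q31361, e3 q31139 (flp_i L833151) q30695, e3 q31140 (flp_i L833169) q30697, e3 q31141 L833197 q30810, e3 q31142 L833209 q30811, e3 q31143 L833220 q30815, e3 q31144 L833234 q30826, e3 q31145 (flp_i L835160) q31336, e3 q31146 L833256 q30827, e3 q31147 L835958 q31387, e3 q31148 L834954 q31323, e3 q31149 (flp_i L835336) q31347, e3 q31150 L834971 q31324, e3 q31151 L833295 q30894, e3 q31152 L833313 q30757, e3 q31153 L833325 q30835, e3 q31154 L833333 q30836, e3 q31155 (flp_i L836777) q31448, e3 q31156 L833353 q30838, e3 q31157 L833362 q30839, e3 q31158 (flp_i L836804) q31450, e3 q31159 L833383 q30720, e3 q31160 L833401 q30833, e3 q31161 L833415 q30769, e3 q31162 L833425 q30845, e3 q31163 L836832 q31453, e3 q31164 (flp_i L833438) q30727, e3 q31165 (flp_i L833450) q30728, e3 q31166 (flp_i L836041) q31394, e3 q31167 (flp_i L836442) q31422, trivial⟩ (by decide +kernel)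

theorem ce_i_487 : ∀ r, r < 64 → sm gi (Qf (31168 + r)) = Qf (tab Gen.i (31168 + r)) :=
  edges_tab (sm gi) Qf (tab Gen.i) 31168 [(31168, 30741), (31169, 30742), (31170, 30743), (31171, 30744), (31172, 31456), (31173, 31457), (31174, 31458), (31175, 31459), (31176, 31412), (31177, 31421), (31178, 30759), (31179, 30760), (31180, 31442), (31181, 30762), (31182, 31444), (31183, 30814), (31184, 31464), (31185, 31465), (31186, 31472), (31187, 31376), (31188, 30761), (31189, 31378), (31190, 30763), (31191, 31377), (31192, 31367), (31193, 31423), (31194, 30777), (31195, 31474), (31196, 30959), (31197, 30979), (31198, 31380), (31199, 31382), (31200, 31427), (31201, 31428), (31202, 31334), (31203, 31430), (31204, 31431), (31205, 31337), (31206, 31432), (31207, 31393), (31208, 30800), (31209, 31381), (31210, 30886), (31211, 31481), (31212, 30966), (31213, 30807), (31214, 31328), (31215, 31330), (31216, 31484), (31217, 31389), (31218, 31437), (31219, 31413), (31220, 31467), (31221, 31468), (31222, 31438), (31223, 31491), (31224, 30816),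 (31225, 30817), (31226, 31326), (31227, 31325), (31228, 31327), (31229, 31426), (31230, 30933), (31231, 30837)]
    ⟨e3 q31168 L833495 q30741, e3 q31169 L833503 q30742, e3 q31170 L833512 q30743, e3 q31171 L833522 q30744, e3 q31172 (flp_i L836878) q31456, e3 q31173 (flp_i L836889) q31457, e3 q31174 (flp_i L836899) q31458, e3 q31175 (flp_i L836914) q31459, e3 q31176 (flp_i L836301) q31412, e3 q31177 (flp_i L836424) q31421, e3 q31178 L833592 q30759, e3 q31179 L833600 q30760, e3 q31180 (flp_i L836710) q31442, e3 q31181 L833613 q30762, e3 q31182 (flp_i L836736) q31444, e3 q31183 L833634 q30814, e3 q31184 (flp_i L836965) q31464, e3 q31185 (flp_i L836974) q31465, e3 q31186 L837037 q31472, e3 q31187 (flp_i L835784) q31376, e3 q31188 (flp_i L833669) q30761, e3 q31189 (flp_i L835817) q31378, e3 q31190 (flp_i L833692) q30763, e3 q31191 (flp_i L835800) q31377, e3 q31192 (flp_i L835631) q31367, e3 q31193 (flp_i L836456) q31423, e3 q31194 L833748 q30777, e3 q31195 (flp_i L837072) q31474, e3 q31196 L833775 q30959, e3 q31197 L833788 q30979,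 e3 q31198 (flp_i L835849) q31380, e3 q31199 (flp_i L835882) q31382, e3 q31200 (flp_i L836520) q31427, e3 q31201 (flp_i L836534) q31428, e3 q31202 (flp_i L835130) q31334, e3 q31203 (flp_i L836564) q31430, e3 q31204 (flp_i L836579) q31431, e3 q31205 (flp_i L835175) q31337, e3 q31206 (flp_i L836593) q31432, e3 q31207 (flp_i L836027) q31393, e3 q31208 L833922 q30800, e3 q31209 (flp_i L835865) q31381, e3 q31210 L833948 q30886, e3 q31211 (flp_i L837164) q31481, e3 q31212 L833971 q30966, e3 q31213 L833983 q30807, e3 q31214 (flp_i L835041) q31328, e3 q31215 (flp_i L835072) q31330, e3 q31216 (flp_i L837207) q31484, e3 q31217 (flp_i L835977) q31389, e3 q31218 (flp_i L836658) q31437, e3 q31219 (flp_i L836319) q31413, e3 q31220 (flp_i L836996) q31467, e3 q31221 (flp_i L837009) q31468, e3 q31222 (flp_i L836668) q31438, e3 q31223 L837272 q31491, e3 q31224 (flp_i L834079) q30816, e3 q31225 (flp_i L834089) q30817, e3 q31226 (flp_i L835007) q31326, e3 q31227 (flp_i L834987) q31325, e3 q31228 (flp_i L835025) q31327, e3 q31229 (flp_i L836504)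 q31426, e3 q31230 L834160 q30933, e3 q31231 L834168 q30837, trivial⟩ (by decide +kernel)

theorem ce_i_488 : ∀ r, r < 64 → sm gi (Qf (31232 + r)) = Qf (tab Gen.i (31232 + r)) :=
  edges_tab (sm gi) Qf (tab Gen.i) 31232 [(31232, 31449), (31233, 30910), (31234, 30840), (31235, 31451), (31236, 31445), (31237, 31446), (31238, 31494), (31239, 30934), (31240, 31499), (31241, 30842), (31242, 30843), (31243, 31501), (31244, 31502), (31245, 30846), (31246, 30848), (31247, 30868), (31248, 30869), (31249, 30943), (31250, 30857), (31251, 30862), (31252, 30930), (31253, 31409), (31254, 31503), (31255, 31368), (31256, 30942), (31257, 31411), (31258, 31508), (31259, 30874), (31260, 30875), (31261, 31346), (31262, 30879), (31263, 31482), (31264, 31333), (31265, 30895), (31266, 30896), (31267, 31441), (31268, 30897), (31269, 31443), (31270, 31510), (31271, 31511), (31272, 30902), (31273, 31515), (31274, 30899), (31275, 30900), (31276, 31408), (31277, 31517), (31278, 31375), (31279, 30904), (31280, 31369), (31281, 31388), (31282, 31341), (31283,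 31519), (31284, 30914), (31285, 30915), (31286, 31379), (31287, 31392), (31288, 31370), (31289, 31345), (31290, 31425), (31291, 30929), (31292, 31523), (31293, 31505), (31294, 30932), (31295, 31493)]
    ⟨e3 q31232 (flp_i L836795) q31449, e3 q31233 L834188 q30910, e3 q31234 L834197 q30840, e3 q31235 (flp_i L836821) q31451, e3 q31236 (flp_i L836746) q31445, e3 q31237 (flp_i L836755) q31446, e3 q31238 (flp_i L837306) q31494, e3 q31239 L834241 q30934, e3 q31240 L837349 q31499, e3 q31241 (flp_i L834256) q30842, e3 q31242 (flp_i L834268) q30843, e3 q31243 L837374 q31501, e3 q31244 L837381 q31502, e3 q31245 (flp_i L834300) q30846, e3 q31246 (flp_i L834308) q30848, e3 q31247 L834329 q30868, e3 q31248 L834335 q30869, e3 q31249 L834352 q30943, e3 q31250 (flp_i L834356) q30857, e3 q31251 (flp_i L834366) q30862, e3 q31252 L834384 q30930, e3 q31253 (flp_i L836252) q31409, e3 q31254 (flp_i L837401) q31503, e3 q31255 (flp_i L835649) q31368, e3 q31256 L834419 q30942, e3 q31257 (flp_i L836287) q31411, e3 q31258 L837454 q31508, e3 q31259 (flp_i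 L834438) q30874, e3 q31260 (flp_i L834448) q30875, e3 q31261 (flp_i L835312) q31346, e3 q31262 (flp_i L834465) q30879, e3 q31263 (flp_i L837181) q31482, e3 q31264 (flp_i L835116) q31333, e3 q31265 L834498 q30895, e3 q31266 L834506 q30896, e3 q31267 (flp_i L836692) q31441, e3 q31268 L834519 q30897, e3 q31269 (flp_i L836721) q31443, e3 q31270 (flp_i L837477) q31510, e3 q31271 (flp_i L837486) q31511, e3 q31272 L834543 q30902, e3 q31273 L837508 q31515, e3 q31274 (flp_i L834552) q30899, e3 q31275 (flp_i L834562) q30900, e3 q31276 (flp_i L836233) q31408, e3 q31277 L837531 q31517, e3 q31278 (flp_i L835768) q31375, e3 q31279 (flp_i L834601) q30904, e3 q31280 (flp_i L835668) q31369, e3 q31281 (flp_i L835966) q31388, e3 q31282 (flp_i L835232) q31341, e3 q31283 L837547 q31519, e3 q31284 (flp_i L834646) q30914, e3 q31285 (flp_i L834656) q30915, e3 q31286 (flp_i L835833) q31379, e3 q31287 (flp_i L836016) q31392, e3 q31288 (flp_i L835687) q31370, e3 q31289 (flp_i L835294) q31345, e3 q31290 (flp_i L836488) q31425, e3 q31291 L834719 q30929,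 e3 q31292 (flp_i L837590) q31523, e3 q31293 (flp_i L837431) q31505, e3 q31294 L834735 q30932, e3 q31295 (flp_i L837297) q31493, trivial⟩ (by decide +kernel)

theorem ce_i_489 : ∀ r, r < 64 → sm gi (Qf (31296 + r)) = Qf (tab Gen.i (31296 + r)) :=
  edges_tab (sm gi) Qf (tab Gen.i) 31296 [(31296, 31524), (31297, 30935), (31298, 30940), (31299, 31525), (31300, 31506), (31301, 31504), (31302, 30945), (31303, 30949), (31304, 31526), (31305, 30953), (31306, 31527), (31307, 31386), (31308, 30956), (31309, 30978), (31310, 30962), (31311, 31424), (31312, 30963), (31313, 30976), (31314, 31483), (31315, 31529), (31316, 30967), (31317, 30968), (31318, 30973), (31319, 31530), (31320, 30975), (31321, 31475), (31322, 31047), (31323, 31148), (31324, 31150), (31325, 31227), (31326, 31226), (31327, 31228), (31328, 31214), (31329, 31070), (31330, 31215), (31331, 31089), (31332, 31032), (31333, 31264), (31334, 31202), (31335, 31542), (31336, 31145), (31337, 31205), (31338, 31544), (31339, 30999), (31340, 31130), (31341, 31282), (31342, 31547),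 (31343, 31005), (31344, 31006), (31345, 31289), (31346, 31261), (31347, 31149), (31348, 31022), (31349, 31023), (31350, 31024), (31351, 31025), (31352, 31549), (31353, 31550), (31354, 31551), (31355, 31552), (31356, 31034), (31357, 31035), (31358, 31536), (31359, 31037)]
    ⟨e3 q31296 L837593 q31524, e3 q31297 (flp_i L834748) q30935, e3 q31298 L834762 q30940, e3 q31299 (flp_i L837604) q31525, e3 q31300 (flp_i L837442) q31506, e3 q31301 (flp_i L837419) q31504, e3 q31302 L834787 q30945, e3 q31303 L834796 q30949, e3 q31304 (flp_i L837611) q31526, e3 q31305 L834811 q30953, e3 q31306 (flp_i L837620) q31527, e3 q31307 (flp_i L835939) q31386, e3 q31308 L834831 q30956, e3 q31309 L834838 q30978, e3 q31310 L834847 q30962, e3 q31311 (flp_i L836473) q31424, e3 q31312 L834859 q30963, e3 q31313 L834868 q30976, e3 q31314 (flp_i L837194) q31483, e3 q31315 L837630 q31529, e3 q31316 (flp_i L834884) q30967, e3 q31317 (flp_i L834892) q30968, e3 q31318 L834905 q30973, e3 q31319 (flp_i L837642) q31530, e3 q31320 L834914 q30975, e3 q31321 (flp_i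 L837087) q31475, e3 q31322 L834934 q31047, e3 q31323 (flp_i L834954) q31148, e3 q31324 (flp_i L834971) q31150, e3 q31325 L834987 q31227, e3 q31326 L835007 q31226, e3 q31327 L835025 q31228, e3 q31328 L835041 q31214, e3 q31329 L835055 q31070, e3 q31330 L835072 q31215, e3 q31331 L835082 q31089, e3 q31332 L835100 q31032, e3 q31333 L835116 q31264, e3 q31334 L835130 q31202, e3 q31335 (flp_i L837834) q31542, e3 q31336 L835160 q31145, e3 q31337 L835175 q31205, e3 q31338 (flp_i L837869) q31544, e3 q31339 L835200 q30999, e3 q31340 L835222 q31130, e3 q31341 L835232 q31282, e3 q31342 L837907 q31547, e3 q31343 (flp_i L835249) q31005, e3 q31344 (flp_i L835265) q31006, e3 q31345 L835294 q31289, e3 q31346 L835312 q31261, e3 q31347 L835336 q31149, e3 q31348 L835350 q31022, e3 q31349 L835366 q31023, e3 q31350 L835381 q31024, e3 q31351 L835395 q31025, e3 q31352 (flp_i L837954) q31549, e3 q31353 (flp_i L837971) q31550, e3 q31354 (flp_i L837987) q31551, e3 q31355 (flp_i L838004) q31552, e3 q31356 L835463 q31034, e3 q31357 L835477 q31035, e3 q31358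 (flp_i L837741) q31536, e3 q31359 L835506 q31037, trivial⟩ (by decide +kernel)

theorem ce_i_490 : ∀ r, r < 64 → sm gi (Qf (31360 + r)) = Qf (tab Gen.i (31360 + r)) :=
  edges_tab (sm gi) Qf (tab Gen.i) 31360 [(31360, 31538), (31361, 31138), (31362, 31555), (31363, 31556), (31364, 31562), (31365, 31036), (31366, 31038), (31367, 31192), (31368, 31255), (31369, 31280), (31370, 31288), (31371, 31531), (31372, 31565), (31373, 31048), (31374, 31049), (31375, 31278), (31376, 31187), (31377, 31191), (31378, 31189), (31379, 31286), (31380, 31198), (31381, 31209), (31382, 31199), (31383, 31135), (31384, 31136), (31385, 31137), (31386, 31307), (31387, 31147), (31388, 31281), (31389, 31217), (31390, 31105), (31391, 31107), (31392, 31287), (31393, 31207), (31394, 31166), (31395, 31134), (31396, 31111), (31397, 31578), (31398, 31082), (31399, 31103), (31400, 31104), (31401, 31535), (31402, 31106), (31403, 31537), (31404, 31108), (31405, 31583), (31406, 31091), (31407, 31092), (31408, 31276), (31409, 31253), (31410, 31097), (31411, 31257),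 (31412, 31176), (31413, 31219), (31414, 31579), (31415, 31580), (31416, 31574), (31417, 31589), (31418, 31577), (31419, 31109), (31420, 31545), (31421, 31177), (31422, 31167), (31423, 31193)]
    ⟨e3 q31360 (flp_i L837775) q31538, e3 q31361 L835539 q31138, e3 q31362 (flp_i L838049) q31555, e3 q31363 (flp_i L838064) q31556, e3 q31364 L838153 q31562, e3 q31365 (flp_i L835586) q31036, e3 q31366 (flp_i L835602) q31038, e3 q31367 L835631 q31192, e3 q31368 L835649 q31255, e3 q31369 L835668 q31280, e3 q31370 L835687 q31288, e3 q31371 (flp_i L837657) q31531, e3 q31372 L838205 q31565, e3 q31373 (flp_i L835721) q31048, e3 q31374 (flp_i L835739) q31049, e3 q31375 L835768 q31278, e3 q31376 L835784 q31187, e3 q31377 L835800 q31191, e3 q31378 L835817 q31189, e3 q31379 L835833 q31286, e3 q31380 L835849 q31198, e3 q31381 L835865 q31209, e3 q31382 L835882 q31199, e3 q31383 L835898 q31135, e3 q31384 L835914 q31136, e3 q31385 L835929 q31137, e3 q31386 L835939 q31307, e3 q31387 (flp_i L835958) q31147, e3 q31388 L835966 q31281, e3 q31389 L835977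 q31217, e3 q31390 L835989 q31105, e3 q31391 L836004 q31107, e3 q31392 L836016 q31287, e3 q31393 L836027 q31207, e3 q31394 L836041 q31166, e3 q31395 L836059 q31134, e3 q31396 L836072 q31111, e3 q31397 L838406 q31578, e3 q31398 (flp_i L836087) q31082, e3 q31399 L836113 q31103, e3 q31400 L836127 q31104, e3 q31401 (flp_i L837721) q31535, e3 q31402 L836156 q31106, e3 q31403 (flp_i L837756) q31537, e3 q31404 L836183 q31108, e3 q31405 L838479 q31583, e3 q31406 (flp_i L836198) q31091, e3 q31407 (flp_i L836212) q31092, e3 q31408 L836233 q31276, e3 q31409 L836252 q31253, e3 q31410 L836271 q31097, e3 q31411 L836287 q31257, e3 q31412 L836301 q31176, e3 q31413 L836319 q31219, e3 q31414 (flp_i L838433) q31579, e3 q31415 (flp_i L838448) q31580, e3 q31416 (flp_i L838358) q31574, e3 q31417 L838576 q31589, e3 q31418 (flp_i L838402) q31577, e3 q31419 (flp_i L836389) q31109, e3 q31420 (flp_i L837892) q31545, e3 q31421 L836424 q31177, e3 q31422 L836442 q31167, e3 q31423 L836456 q31193, trivial⟩ (by decide +kernel)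

theorem ce_i_491 : ∀ r, r < 64 → sm gi (Qf (31424 + r)) = Qf (tab Gen.i (31424 + r)) :=
  edges_tab (sm gi) Qf (tab Gen.i) 31424 [(31424, 31311), (31425, 31290), (31426, 31229), (31427, 31200), (31428, 31201), (31429, 31543), (31430, 31203), (31431, 31204), (31432, 31206), (31433, 31570), (31434, 31571), (31435, 31558), (31436, 31559), (31437, 31218), (31438, 31222), (31439, 31572), (31440, 31532), (31441, 31267), (31442, 31180), (31443, 31269), (31444, 31182), (31445, 31236), (31446, 31237), (31447, 31604), (31448, 31155), (31449, 31232), (31450, 31158), (31451, 31235), (31452, 31606), (31453, 31163), (31454, 31576), (31455, 31592), (31456, 31172), (31457, 31173), (31458, 31174), (31459, 31175), (31460, 31607), (31461, 31608), (31462, 31584), (31463, 31591), (31464, 31184), (31465, 31185), (31466, 31601), (31467, 31220), (31468, 31221), (31469, 31610), (31470, 31614), (31471, 31567), (31472, 31186), (31473, 31563), (31474, 31195), (31475, 31321), (31476, 31569), (31477, 31594), (31478, 31595), (31479, 31540), (31480, 31575),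 (31481, 31211), (31482, 31263), (31483, 31314), (31484, 31216), (31485, 31534), (31486, 31573), (31487, 31598)]
    ⟨e3 q31424 L836473 q31311, e3 q31425 L836488 q31290, e3 q31426 L836504 q31229, e3 q31427 L836520 q31200, e3 q31428 L836534 q31201, e3 q31429 (flp_i L837858) q31543, e3 q31430 L836564 q31203, e3 q31431 L836579 q31204, e3 q31432 L836593 q31206, e3 q31433 (flp_i L838301) q31570, e3 q31434 (flp_i L838318) q31571, e3 q31435 (flp_i L838100) q31558, e3 q31436 (flp_i L838117) q31559, e3 q31437 L836658 q31218, e3 q31438 L836668 q31222, e3 q31439 L838337 q31572, e3 q31440 L837678 q31532, e3 q31441 L836692 q31267, e3 q31442 L836710 q31180, e3 q31443 L836721 q31269, e3 q31444 L836736 q31182, e3 q31445 L836746 q31236, e3 q31446 L836755 q31237, e3 q31447 (flp_i L838784) q31604, e3 q31448 L836777 q31155, e3 q31449 L836795 q31232, e3 q31450 L836804 q31158, e3 q31451 L836821 q31235, e3 q31452 L838804 q31606, e3 q31453 (flp_i L836832) q31163, e3 q31454 (flp_i L838386) q31576, e3 q31455 (flp_i L838630) q31592, e3 q31456 L836878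 q31172, e3 q31457 L836889 q31173, e3 q31458 L836899 q31174, e3 q31459 L836914 q31175, e3 q31460 (flp_i L838822) q31607, e3 q31461 (flp_i L838834) q31608, e3 q31462 (flp_i L838504) q31584, e3 q31463 (flp_i L838611) q31591, e3 q31464 L836965 q31184, e3 q31465 L836974 q31185, e3 q31466 (flp_i L838754) q31601, e3 q31467 L836996 q31220, e3 q31468 L837009 q31221, e3 q31469 (flp_i L838852) q31610, e3 q31470 L838890 q31614, e3 q31471 (flp_i L838252) q31567, e3 q31472 (flp_i L837037) q31186, e3 q31473 (flp_i L838183) q31563, e3 q31474 L837072 q31195, e3 q31475 L837087 q31321, e3 q31476 (flp_i L838285) q31569, e3 q31477 (flp_i L838662) q31594, e3 q31478 (flp_i L838677) q31595, e3 q31479 (flp_i L837806) q31540, e3 q31480 (flp_i L838371) q31575, e3 q31481 L837164 q31211, e3 q31482 L837181 q31263, e3 q31483 L837194 q31314, e3 q31484 L837207 q31216, e3 q31485 (flp_i L837709) q31534, e3 q31486 (flp_i L838346) q31573, e3 q31487 (flp_i L838720) q31598, trivial⟩ (by decide +kernel)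

theorem ce_i_492 : ∀ r, r < 64 → sm gi (Qf (31488 + r)) = Qf (tab Gen.i (31488 + r)) :=
  edges_tab (sm gi) Qf (tab Gen.i) 31488 [(31488, 31585), (31489, 31612), (31490, 31620), (31491, 31223), (31492, 31533), (31493, 31295), (31494, 31238), (31495, 31605), (31496, 31602), (31497, 31621), (31498, 31623), (31499, 31240), (31500, 31624), (31501, 31243), (31502, 31244), (31503, 31254), (31504, 31301), (31505, 31293), (31506, 31300), (31507, 31625), (31508, 31258), (31509, 31539), (31510, 31270), (31511, 31271), (31512, 31600), (31513, 31626), (31514, 31628), (31515, 31273), (31516, 31566), (31517, 31277), (31518, 31629), (31519, 31283), (31520, 31568), (31521, 31548), (31522, 31593), (31523, 31292), (31524, 31296), (31525, 31299), (31526, 31304), (31527, 31306), (31528, 31630), (31529, 31315), (31530, 31319), (31531, 31371), (31532, 31440), (31533, 31492), (31534, 31485), (31535, 31401), (31536, 31358), (31537, 31403), (31538, 31360), (31539, 31509), (31540, 31479), (31541, 31637), (31542, 31335), (31543, 31429), (31544, 31338),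 (31545, 31420), (31546, 31639), (31547, 31342), (31548, 31521), (31549, 31352), (31550, 31353), (31551, 31354)]
    ⟨e3 q31488 (flp_i L838522) q31585, e3 q31489 (flp_i L838873) q31612, e3 q31490 L838964 q31620, e3 q31491 (flp_i L837272) q31223, e3 q31492 (flp_i L837692) q31533, e3 q31493 L837297 q31295, e3 q31494 L837306 q31238, e3 q31495 (flp_i L838802) q31605, e3 q31496 (flp_i L838763) q31602, e3 q31497 (flp_i L838978) q31621, e3 q31498 L838991 q31623, e3 q31499 (flp_i L837349) q31240, e3 q31500 L839004 q31624, e3 q31501 (flp_i L837374) q31243, e3 q31502 (flp_i L837381) q31244, e3 q31503 L837401 q31254, e3 q31504 L837419 q31301, e3 q31505 L837431 q31293, e3 q31506 L837442 q31300, e3 q31507 L839015 q31625, e3 q31508 (flp_i L837454) q31258, e3 q31509 (flp_i L837791) q31539, e3 q31510 L837477 q31270, e3 q31511 L837486 q31271, e3 q31512 (flp_i L838738) q31600, e3 q31513 (flp_i L839029) q31626, e3 q31514 L839038 q31628, e3 q31515 (flp_i L837508) q31273, e3 q31516 (flp_i L838235) q31566, e3 q31517 (flp_i L837531) q31277, e3 q31518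 L839047 q31629, e3 q31519 (flp_i L837547) q31283, e3 q31520 (flp_i L838268) q31568, e3 q31521 (flp_i L837937) q31548, e3 q31522 (flp_i L838647) q31593, e3 q31523 L837590 q31292, e3 q31524 (flp_i L837593) q31296, e3 q31525 L837604 q31299, e3 q31526 L837611 q31304, e3 q31527 L837620 q31306, e3 q31528 L839056 q31630, e3 q31529 (flp_i L837630) q31315, e3 q31530 L837642 q31319, e3 q31531 L837657 q31371, e3 q31532 (flp_i L837678) q31440, e3 q31533 L837692 q31492, e3 q31534 L837709 q31485, e3 q31535 L837721 q31401, e3 q31536 L837741 q31358, e3 q31537 L837756 q31403, e3 q31538 L837775 q31360, e3 q31539 L837791 q31509, e3 q31540 L837806 q31479, e3 q31541 (flp_i L839173) q31637, e3 q31542 L837834 q31335, e3 q31543 L837858 q31429, e3 q31544 L837869 q31338, e3 q31545 L837892 q31420, e3 q31546 L839199 q31639, e3 q31547 (flp_i L837907) q31342, e3 q31548 L837937 q31521, e3 q31549 L837954 q31352, e3 q31550 L837971 q31353, e3 q31551 L837987 q31354, trivial⟩ (by decide +kernel)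

theorem ce_i_493 : ∀ r, r < 64 → sm gi (Qf (31552 + r)) = Qf (tab Gen.i (31552 + r)) :=
  edges_tab (sm gi) Qf (tab Gen.i) 31552 [(31552, 31355), (31553, 31640), (31554, 31641), (31555, 31362), (31556, 31363), (31557, 31634), (31558, 31435), (31559, 31436), (31560, 31643), (31561, 31646), (31562, 31364), (31563, 31473), (31564, 31647), (31565, 31372), (31566, 31516), (31567, 31471), (31568, 31520), (31569, 31476), (31570, 31433), (31571, 31434), (31572, 31439), (31573, 31486), (31574, 31416), (31575, 31480), (31576, 31454), (31577, 31418), (31578, 31397), (31579, 31414), (31580, 31415), (31581, 31633), (31582, 31655), (31583, 31405), (31584, 31462), (31585, 31488), (31586, 31653), (31587, 31651), (31588, 31652), (31589, 31417), (31590, 31638), (31591, 31463), (31592, 31455), (31593, 31522), (31594, 31477), (31595, 31478), (31596, 31650), (31597, 31645), (31598, 31487), (31599, 31631), (31600, 31512), (31601, 31466), (31602, 31496), (31603, 31661), (31604, 31447), (31605, 31495), (31606, 31452), (31607, 31460), (31608, 31461),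 (31609, 31663), (31610, 31469), (31611, 31660), (31612, 31489), (31613, 31648), (31614, 31470), (31615, 31649)]
    ⟨e3 q31552 L838004 q31355, e3 q31553 (flp_i L839229) q31640, e3 q31554 (flp_i L839245) q31641, e3 q31555 L838049 q31362, e3 q31556 L838064 q31363, e3 q31557 (flp_i L839127) q31634, e3 q31558 L838100 q31435, e3 q31559 L838117 q31436, e3 q31560 (flp_i L839277) q31643, e3 q31561 L839316 q31646, e3 q31562 (flp_i L838153) q31364, e3 q31563 L838183 q31473, e3 q31564 L839333 q31647, e3 q31565 (flp_i L838205) q31372, e3 q31566 L838235 q31516, e3 q31567 L838252 q31471, e3 q31568 L838268 q31520, e3 q31569 L838285 q31476, e3 q31570 L838301 q31433, e3 q31571 L838318 q31434, e3 q31572 (flp_i L838337) q31439, e3 q31573 L838346 q31486, e3 q31574 L838358 q31416, e3 q31575 L838371 q31480, e3 q31576 L838386 q31454, e3 q31577 L838402 q31418, e3 q31578 (flp_i L838406) q31397, e3 q31579 L838433 q31414, e3 q31580 L838448 q31415, e3 q31581 (flp_i L839107) q31633, e3 q31582 L839469 q31655, e3 q31583 (flp_i L838479) q31405, e3 q31584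 L838504 q31462, e3 q31585 L838522 q31488, e3 q31586 (flp_i L839448) q31653, e3 q31587 (flp_i L839414) q31651, e3 q31588 (flp_i L839433) q31652, e3 q31589 (flp_i L838576) q31417, e3 q31590 (flp_i L839197) q31638, e3 q31591 L838611 q31463, e3 q31592 L838630 q31455, e3 q31593 L838647 q31522, e3 q31594 L838662 q31477, e3 q31595 L838677 q31478, e3 q31596 (flp_i L839399) q31650, e3 q31597 (flp_i L839314) q31645, e3 q31598 L838720 q31487, e3 q31599 L839080 q31631, e3 q31600 L838738 q31512, e3 q31601 L838754 q31466, e3 q31602 L838763 q31496, e3 q31603 (flp_i L839562) q31661, e3 q31604 L838784 q31447, e3 q31605 L838802 q31495, e3 q31606 (flp_i L838804) q31452, e3 q31607 L838822 q31460, e3 q31608 L838834 q31461, e3 q31609 (flp_i L839590) q31663, e3 q31610 L838852 q31469, e3 q31611 (flp_i L839551) q31660, e3 q31612 L838873 q31489, e3 q31613 (flp_i L839365) q31648, e3 q31614 (flp_i L838890) q31470, e3 q31615 (flp_i L839382) q31649, trivial⟩ (by decide +kernel)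

theorem ce_i_494 : ∀ r, r < 55 → sm gi (Qf (31616 + r)) = Qf (tab Gen.i (31616 + r)) :=
  edges_tab (sm gi) Qf (tab Gen.i) 31616 [(31616, 31657), (31617, 31635), (31618, 31632), (31619, 31664), (31620, 31490), (31621, 31497), (31622, 31662), (31623, 31498), (31624, 31500), (31625, 31507), (31626, 31513), (31627, 31659), (31628, 31514), (31629, 31518), (31630, 31528), (31631, 31599), (31632, 31618), (31633, 31581), (31634, 31557), (31635, 31617), (31636, 31667), (31637, 31541), (31638, 31590), (31639, 31546), (31640, 31553), (31641, 31554), (31642, 31669), (31643, 31560), (31644, 31666), (31645, 31597), (31646, 31561), (31647, 31564), (31648, 31613), (31649, 31615), (31650, 31596), (31651, 31587), (31652, 31588), (31653, 31586), (31654, 31665), (31655, 31582), (31656, 31668), (31657, 31616), (31658, 31670), (31659, 31627), (31660, 31611), (31661, 31603), (31662, 31622), (31663, 31609), (31664, 31619), (31665, 31654), (31666, 31644), (31667, 31636), (31668, 31656), (31669, 31642), (31670, 31658)]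
    ⟨e3 q31616 (flp_i L839510) q31657, e3 q31617 (flp_i L839144) q31635, e3 q31618 (flp_i L839095) q31632, e3 q31619 (flp_i L839605) q31664, e3 q31620 (flp_i L838964) q31490, e3 q31621 L838978 q31497, e3 q31622 (flp_i L839579) q31662, e3 q31623 (flp_i L838991) q31498, e3 q31624 (flp_i L839004) q31500, e3 q31625 (flp_i L839015) q31507, e3 q31626 L839029 q31513, e3 q31627 (flp_i L839536) q31659, e3 q31628 (flp_i L839038) q31514, e3 q31629 (flp_i L839047) q31518, e3 q31630 (flp_i L839056) q31528, e3 q31631 (flp_i L839080) q31599, e3 q31632 L839095 q31618, e3 q31633 L839107 q31581, e3 q31634 L839127 q31557, e3 q31635 L839144 q31617, e3 q31636 (flp_i L839656) q31667, e3 q31637 L839173 q31541, e3 q31638 L839197 q31590, e3 q31639 (flp_i L839199) q31546, e3 q31640 L839229 q31553, e3 q31641 L839245 q31554, e3 q31642 (flp_i L839696) q31669, e3 q31643 L839277 q31560, e3 q31644 (flp_i L839639) q31666, e3 q31645 L839314 q31597, e3 q31646 (flp_i L839316) q31561, e3 q31647 (flp_i L839333) q31564, e3 q31648 L839365 q31613, e3 q31649 L839382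 q31615, e3 q31650 L839399 q31596, e3 q31651 L839414 q31587, e3 q31652 L839433 q31588, e3 q31653 L839448 q31586, e3 q31654 (flp_i L839618) q31665, e3 q31655 (flp_i L839469) q31582, e3 q31656 (flp_i L839681) q31668, e3 q31657 L839510 q31616, e3 q31658 (flp_i L839719) q31670, e3 q31659 L839536 q31627, e3 q31660 L839551 q31611, e3 q31661 L839562 q31603, e3 q31662 L839579 q31622, e3 q31663 L839590 q31609, e3 q31664 L839605 q31619, e3 q31665 L839618 q31654, e3 q31666 L839639 q31644, e3 q31667 L839656 q31636, e3 q31668 L839681 q31656, e3 q31669 L839696 q31642, e3 q31670 L839719 q31658, trivial⟩ (by decide +kernel)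

theorem cl_i : ∀ i, i < 31671 → sm gi (Qf i) = Qf (tab Gen.i i) :=
  all_of_chunks (fun i => sm gi (Qf i) = Qf (tab Gen.i i)) 494 55
    ⟨ce_i_0, ce_i_1, ce_i_2, ce_i_3, ce_i_4, ce_i_5, ce_i_6, ce_i_7, ce_i_8, ce_i_9, ce_i_10, ce_i_11, ce_i_12, ce_i_13, ce_i_14, ce_i_15, ce_i_16, ce_i_17, ce_i_18, ce_i_19, ce_i_20, ce_i_21, ce_i_22, ce_i_23, ce_i_24, ce_i_25, ce_i_26, ce_i_27, ce_i_28, ce_i_29, ce_i_30, ce_i_31, ce_i_32, ce_i_33, ce_i_34, ce_i_35, ce_i_36, ce_i_37, ce_i_38, ce_i_39, ce_i_40, ce_i_41, ce_i_42, ce_i_43, ce_i_44, ce_i_45, ce_i_46, ce_i_47, ce_i_48, ce_i_49, ce_i_50, ce_i_51, ce_i_52, ce_i_53, ce_i_54, ce_i_55, ce_i_56, ce_i_57, ce_i_58, ce_i_59, ce_i_60, ce_i_61, ce_i_62, ce_i_63, ce_i_64, ce_i_65, ce_i_66, ce_i_67, ce_i_68, ce_i_69, ce_i_70, ce_i_71, ce_i_72, ce_i_73, ce_i_74, ce_i_75, ce_i_76, ce_i_77, ce_i_78, ce_i_79, ce_i_80, ce_i_81, ce_i_82, ce_i_83, ce_i_84, ce_i_85, ce_i_86, ce_i_87, ce_i_88, ce_i_89, ce_i_90, ce_i_91, ce_i_92, ce_i_93, ce_i_94, ce_i_95, ce_i_96, ce_i_97, ce_i_98, ce_i_99, ce_i_100,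 ce_i_101, ce_i_102, ce_i_103, ce_i_104, ce_i_105, ce_i_106, ce_i_107, ce_i_108, ce_i_109, ce_i_110, ce_i_111, ce_i_112, ce_i_113, ce_i_114, ce_i_115, ce_i_116, ce_i_117, ce_i_118, ce_i_119, ce_i_120, ce_i_121, ce_i_122, ce_i_123, ce_i_124, ce_i_125, ce_i_126, ce_i_127, ce_i_128, ce_i_129, ce_i_130, ce_i_131, ce_i_132, ce_i_133, ce_i_134, ce_i_135, ce_i_136, ce_i_137, ce_i_138, ce_i_139, ce_i_140, ce_i_141, ce_i_142, ce_i_143, ce_i_144, ce_i_145, ce_i_146, ce_i_147, ce_i_148, ce_i_149, ce_i_150, ce_i_151, ce_i_152, ce_i_153, ce_i_154, ce_i_155, ce_i_156, ce_i_157, ce_i_158, ce_i_159, ce_i_160, ce_i_161, ce_i_162, ce_i_163, ce_i_164, ce_i_165, ce_i_166, ce_i_167, ce_i_168, ce_i_169, ce_i_170, ce_i_171, ce_i_172, ce_i_173, ce_i_174, ce_i_175, ce_i_176, ce_i_177, ce_i_178, ce_i_179, ce_i_180, ce_i_181, ce_i_182, ce_i_183, ce_i_184, ce_i_185, ce_i_186, ce_i_187, ce_i_188, ce_i_189, ce_i_190, ce_i_191, ce_i_192, ce_i_193, ce_i_194, ce_i_195, ce_i_196, ce_i_197, ce_i_198, ce_i_199, ce_i_200, ce_i_201, ce_i_202, ce_i_203, ce_i_204,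 ce_i_205, ce_i_206, ce_i_207, ce_i_208, ce_i_209, ce_i_210, ce_i_211, ce_i_212, ce_i_213, ce_i_214, ce_i_215, ce_i_216, ce_i_217, ce_i_218, ce_i_219, ce_i_220, ce_i_221, ce_i_222, ce_i_223, ce_i_224, ce_i_225, ce_i_226, ce_i_227, ce_i_228, ce_i_229, ce_i_230, ce_i_231, ce_i_232, ce_i_233, ce_i_234, ce_i_235, ce_i_236, ce_i_237, ce_i_238, ce_i_239, ce_i_240, ce_i_241, ce_i_242, ce_i_243, ce_i_244, ce_i_245, ce_i_246, ce_i_247, ce_i_248, ce_i_249, ce_i_250, ce_i_251, ce_i_252, ce_i_253, ce_i_254, ce_i_255, ce_i_256, ce_i_257, ce_i_258, ce_i_259, ce_i_260, ce_i_261, ce_i_262, ce_i_263, ce_i_264, ce_i_265, ce_i_266, ce_i_267, ce_i_268, ce_i_269, ce_i_270, ce_i_271, ce_i_272, ce_i_273, ce_i_274, ce_i_275, ce_i_276, ce_i_277, ce_i_278, ce_i_279, ce_i_280, ce_i_281, ce_i_282, ce_i_283, ce_i_284, ce_i_285, ce_i_286, ce_i_287, ce_i_288, ce_i_289, ce_i_290, ce_i_291, ce_i_292, ce_i_293, ce_i_294, ce_i_295, ce_i_296, ce_i_297, ce_i_298, ce_i_299, ce_i_300, ce_i_301, ce_i_302, ce_i_303, ce_i_304, ce_i_305, ce_i_306, ce_i_307, ce_i_308,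 ce_i_309, ce_i_310, ce_i_311, ce_i_312, ce_i_313, ce_i_314, ce_i_315, ce_i_316, ce_i_317, ce_i_318, ce_i_319, ce_i_320, ce_i_321, ce_i_322, ce_i_323, ce_i_324, ce_i_325, ce_i_326, ce_i_327, ce_i_328, ce_i_329, ce_i_330, ce_i_331, ce_i_332, ce_i_333, ce_i_334, ce_i_335, ce_i_336, ce_i_337, ce_i_338, ce_i_339, ce_i_340, ce_i_341, ce_i_342, ce_i_343, ce_i_344, ce_i_345, ce_i_346, ce_i_347, ce_i_348, ce_i_349, ce_i_350, ce_i_351, ce_i_352, ce_i_353, ce_i_354, ce_i_355, ce_i_356, ce_i_357, ce_i_358, ce_i_359, ce_i_360, ce_i_361, ce_i_362, ce_i_363, ce_i_364, ce_i_365, ce_i_366, ce_i_367, ce_i_368, ce_i_369, ce_i_370, ce_i_371, ce_i_372, ce_i_373, ce_i_374, ce_i_375, ce_i_376, ce_i_377, ce_i_378, ce_i_379, ce_i_380, ce_i_381, ce_i_382, ce_i_383, ce_i_384, ce_i_385, ce_i_386, ce_i_387, ce_i_388, ce_i_389, ce_i_390, ce_i_391, ce_i_392, ce_i_393, ce_i_394, ce_i_395, ce_i_396, ce_i_397, ce_i_398, ce_i_399, ce_i_400, ce_i_401, ce_i_402, ce_i_403, ce_i_404, ce_i_405, ce_i_406, ce_i_407, ce_i_408, ce_i_409, ce_i_410, ce_i_411, ce_i_412,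 ce_i_413, ce_i_414, ce_i_415, ce_i_416, ce_i_417, ce_i_418, ce_i_419, ce_i_420, ce_i_421, ce_i_422, ce_i_423, ce_i_424, ce_i_425, ce_i_426, ce_i_427, ce_i_428, ce_i_429, ce_i_430, ce_i_431, ce_i_432, ce_i_433, ce_i_434, ce_i_435, ce_i_436, ce_i_437, ce_i_438, ce_i_439, ce_i_440, ce_i_441, ce_i_442, ce_i_443, ce_i_444, ce_i_445, ce_i_446, ce_i_447, ce_i_448, ce_i_449, ce_i_450, ce_i_451, ce_i_452, ce_i_453, ce_i_454, ce_i_455, ce_i_456, ce_i_457, ce_i_458, ce_i_459, ce_i_460, ce_i_461, ce_i_462, ce_i_463, ce_i_464, ce_i_465, ce_i_466, ce_i_467, ce_i_468, ce_i_469, ce_i_470, ce_i_471, ce_i_472, ce_i_473, ce_i_474, ce_i_475, ce_i_476, ce_i_477, ce_i_478, ce_i_479, ce_i_480, ce_i_481, ce_i_482, ce_i_483, ce_i_484, ce_i_485, ce_i_486, ce_i_487, ce_i_488, ce_i_489, ce_i_490, ce_i_491, ce_i_492, ce_i_493, trivial⟩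
    ce_i_494


end Cfsg.Agent.Helper28.FicA
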