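import Cfsg.Agent.Helper28.FicC0

/-!
# The Fi₂₃ presentation, cosets of the subgroup generated by a, …, i: the action of the generator j (helper28; generated)
-/

set_option autoImplicit false
set_option maxRecDepth 100000
set_option linter.unusedSimpArgs false
set_option linter.constructorNameAsVariable false

noncomputable section

namespace Cfsg.Agent.Helper28.FicA

open Cfsg.Spor Cfsg.Spor.Fi23 Cfsg.Agent.Helper28.CosetTable

theorem ce_j_0 : ∀ r, r < 64 → sm gj (Qf (0 + r)) = Qf (tab Gen.j (0 + r)) :=
  edges_tab (sm gj) Qf (tab Gen.j) 0 [(0, 1), (1, 0), (2, 2), (3, 3), (4, 4), (5, 5), (6, 6), (7, 7), (8, 8), (9, 9), (10, 10), (11, 11), (12, 12), (13, 13), (14, 14), (15, 15), (16, 16), (17, 17), (18, 18), (19, 19), (20, 20), (21, 21), (22, 22), (23, 23), (24, 24), (25, 25), (26, 26), (27, 27), (28, 28), (29, 29), (30, 30), (31, 31), (32, 32), (33, 33), (34, 34), (35, 35), (36, 52), (37, 37), (38, 38), (39, 39), (40, 40), (41, 41), (42, 42), (43, 43), (44, 44), (45, 45), (46, 46), (47, 47), (48, 48), (49, 72), (50, 50),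 (51, 51), (52, 36), (53, 76), (54, 54), (55, 55), (56, 56), (57, 57), (58, 58), (59, 59), (60, 60), (61, 61), (62, 91), (63, 63)]
    ⟨e3 q0 L9 q1, e3 q1 (flp_j L9) q0, e3 q2 L28 q2, e3 q3 L35 q3, e3 q4 L45 q4, e3 q5 L55 q5, e3 q6 L64 q6, e3 q7 L74 q7, e3 q8 L82 q8, e3 q9 L93 q9, e3 q10 L102 q10, e3 q11 L111 q11, e3 q12 L122 q12, e3 q13 L128 q13, e3 q14 L139 q14, e3 q15 L150 q15, e3 q16 L157 q16, e3 q17 L167 q17, e3 q18 L174 q18, e3 q19 L185 q19, e3 q20 L193 q20, e3 q21 L204 q21, e3 q22 L210 q22, e3 q23 L219 q23, e3 q24 L230 q24, e3 q25 L236 q25, e3 q26 L247 q26, e3 q27 L254 q27, e3 q28 L263 q28, e3 q29 L272 q29, e3 q30 L284 q30, e3 q31 L291 q31, e3 q32 L301 q32, e3 q33 L307 q33, e3 q34 L318 q34, e3 q35 L325 q35, e3 q36 L470 q52, e3 q37 L344 q37, e3 q38 L352 q38, e3 q39 L359 q39, e3 q40 L370 q40, e3 q41 L381 q41, e3 q42 L388 q42, e3 q43 L400 q43, e3 q44 L408 q44, e3 q45 L415 q45, e3 q46 L423 q46, e3 q47 L434 q47, e3 q48 L442 q48, e3 q49 L650 q72, e3 q50 L460 q50, e3 q51 L468 q51, e3 q52 (flp_j L470) q36, e3 q53 (flp_j L694)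 q76, e3 q54 L495 q54, e3 q55 L501 q55, e3 q56 L512 q56, e3 q57 L523 q57, e3 q58 L529 q58, e3 q59 L538 q59, e3 q60 L550 q60, e3 q61 L559 q61, e3 q62 L826 q91, e3 q63 L579 q63, trivial⟩ (by decide +kernel)

theorem ce_j_1 : ∀ r, r < 64 → sm gj (Qf (64 + r)) = Qf (tab Gen.j (64 + r)) :=
  edges_tab (sm gj) Qf (tab Gen.j) 64 [(64, 64), (65, 65), (66, 66), (67, 67), (68, 101), (69, 69), (70, 70), (71, 71), (72, 49), (73, 106), (74, 74), (75, 75), (76, 53), (77, 110), (78, 78), (79, 79), (80, 80), (81, 81), (82, 82), (83, 83), (84, 84), (85, 85), (86, 86), (87, 129), (88, 88), (89, 89), (90, 90), (91, 62), (92, 134), (93, 93), (94, 94), (95, 95), (96, 141), (97, 97), (98, 98), (99, 99), (100, 100), (101, 68), (102, 148), (103, 103), (104, 104), (105, 105), (106, 73), (107, 154), (108, 108), (109, 109), (110, 77), (111, 159), (112, 112), (113, 113), (114, 114), (115, 115), (116, 116), (117, 117), (118, 118), (119, 174), (120, 120), (121, 121), (122, 122), (123, 123), (124, 183), (125, 125), (126, 126), (127, 127)]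
    ⟨e3 q64 L588 q64, e3 q65 L596 q65, e3 q66 L603 q66, e3 q67 L613 q67, e3 q68 L912 q101, e3 q69 L630 q69, e3 q70 L639 q70, e3 q71 L646 q71, e3 q72 (flp_j L650) q49, e3 q73 (flp_j L962) q106, e3 q74 L675 q74, e3 q75 L682 q75, e3 q76 L694 q53, e3 q77 (flp_j L996) q110, e3 q78 L710 q78, e3 q79 L718 q79, e3 q80 L728 q80, e3 q81 L736 q81, e3 q82 L748 q82, e3 q83 L757 q83, e3 q84 L766 q84, e3 q85 L774 q85, e3 q86 L785 q86, e3 q87 L1159 q129, e3 q88 L804 q88, e3 q89 L814 q89, e3 q90 L822 q90, e3 q91 (flp_j L826) q62, e3 q92 (flp_j L1215) q134, e3 q93 L854 q93, e3 q94 L862 q94, e3 q95 L870 q95, e3 q96 L1270 q141, e3 q97 L886 q97, e3 q98 L896 q98, e3 q99 L904 q99, e3 q100 L911 q100, e3 q101 (flp_j L912) q68, e3 q102 (flp_j L1334) q148, e3 q103 L938 q103, e3 q104 L944 q104, e3 q105 L951 q105, e3 q106 L962 q73, e3 q107 (flp_j L1383) q154, e3 q108 L979 q108, e3 q109 L986 q109, e3 q110 L996 q77, e3 q111 (flp_j L1425) q159, e3 q112 L1012 q112, e3 q113 L1019 q113, e3 q114 L1029 q114, e3 q115 L1037 q115, e3 q116 L1047 q116, e3 q117 L1055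 q117, e3 q118 L1066 q118, e3 q119 L1551 q174, e3 q120 L1085 q120, e3 q121 L1095 q121, e3 q122 L1104 q122, e3 q123 L1112 q123, e3 q124 L1636 q183, e3 q125 L1130 q125, e3 q126 L1141 q126, e3 q127 L1150 q127, trivial⟩ (by decide +kernel)

theorem ce_j_2 : ∀ r, r < 64 → sm gj (Qf (128 + r)) = Qf (tab Gen.j (128 + r)) :=
  edges_tab (sm gj) Qf (tab Gen.j) 128 [(128, 128), (129, 87), (130, 190), (131, 131), (132, 132), (133, 133), (134, 92), (135, 196), (136, 136), (137, 137), (138, 202), (139, 139), (140, 140), (141, 96), (142, 208), (143, 209), (144, 144), (145, 145), (146, 146), (147, 147), (148, 102), (149, 217), (150, 150), (151, 151), (152, 152), (153, 153), (154, 107), (155, 225), (156, 156), (157, 157), (158, 158), (159, 111), (160, 231), (161, 232), (162, 162), (163, 163), (164, 164), (165, 165), (166, 166), (167, 167), (168, 168), (169, 249), (170, 170), (171, 171), (172, 172), (173, 173), (174, 119), (175, 256), (176, 176), (177, 177), (178, 178), (179, 179), (180, 264), (181, 181), (182, 182), (183, 124), (184, 270),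 (185, 271), (186, 186), (187, 187), (188, 188), (189, 189), (190, 130), (191, 279)]
    ⟨e3 q128 L1158 q128, e3 q129 (flp_j L1159) q87, e3 q130 (flp_j L1708) q190, e3 q131 L1188 q131, e3 q132 L1195 q132, e3 q133 L1203 q133, e3 q134 L1215 q92, e3 q135 (flp_j L1764) q196, e3 q136 L1234 q136, e3 q137 L1243 q137, e3 q138 L1811 q202, e3 q139 L1260 q139, e3 q140 L1269 q140, e3 q141 (flp_j L1270) q96, e3 q142 (flp_j L1865) q208, e3 q143 (flp_j L1876) q209, e3 q144 L1302 q144, e3 q145 L1309 q145, e3 q146 L1316 q146, e3 q147 L1323 q147, e3 q148 L1334 q102, e3 q149 (flp_j L1941) q217, e3 q150 L1351 q150, e3 q151 L1356 q151, e3 q152 L1364 q152, e3 q153 L1372 q153, e3 q154 L1383 q107, e3 q155 (flp_j L2002) q225, e3 q156 L1399 q156, e3 q157 L1406 q157, e3 q158 L1415 q158, e3 q159 L1425 q111, e3 q160 (flp_j L2053) q231, e3 q161 (flp_j L2062) q232, e3 q162 L1451 q162, e3 q163 L1459 q163, e3 q164 L1468 q164, e3 q165 L1479 q165, e3 q166 L1488 q166, e3 q167 L1498 q167, e3 q168 L1504 q168, e3 q169 L2205 q249, e3 q170 L1522 q170, e3 q171 L1533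 q171, e3 q172 L1542 q172, e3 q173 L1550 q173, e3 q174 (flp_j L1551) q119, e3 q175 (flp_j L2278) q256, e3 q176 L1580 q176, e3 q177 L1588 q177, e3 q178 L1595 q178, e3 q179 L1606 q179, e3 q180 L2344 q264, e3 q181 L1625 q181, e3 q182 L1635 q182, e3 q183 (flp_j L1636) q124, e3 q184 (flp_j L2405) q270, e3 q185 (flp_j L2417) q271, e3 q186 L1672 q186, e3 q187 L1680 q187, e3 q188 L1688 q188, e3 q189 L1696 q189, e3 q190 L1708 q130, e3 q191 (flp_j L2491) q279, trivial⟩ (by decide +kernel)

theorem ce_j_3 : ∀ r, r < 64 → sm gj (Qf (192 + r)) = Qf (tab Gen.j (192 + r)) :=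
  edges_tab (sm gj) Qf (tab Gen.j) 192 [(192, 192), (193, 193), (194, 194), (195, 195), (196, 135), (197, 287), (198, 198), (199, 199), (200, 200), (201, 293), (202, 138), (203, 296), (204, 297), (205, 205), (206, 206), (207, 207), (208, 142), (209, 143), (210, 305), (211, 306), (212, 212), (213, 213), (214, 214), (215, 215), (216, 216), (217, 149), (218, 317), (219, 219), (220, 220), (221, 221), (222, 222), (223, 223), (224, 327), (225, 155), (226, 328), (227, 329), (228, 228), (229, 229), (230, 230), (231, 160), (232, 161), (233, 336), (234, 337), (235, 338), (236, 236), (237, 237), (238, 238), (239, 239), (240, 350), (241, 241), (242, 242), (243, 243), (244, 244), (245, 245), (246, 361), (247, 247), (248, 248), (249, 169), (250, 367), (251, 368), (252, 252), (253, 253), (254, 254), (255, 255)]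
    ⟨e3 q192 L1727 q192, e3 q193 L1734 q193, e3 q194 L1743 q194, e3 q195 L1752 q195, e3 q196 L1764 q135, e3 q197 (flp_j L2560) q287, e3 q198 L1783 q198, e3 q199 L1791 q199, e3 q200 L1800 q200, e3 q201 L2611 q293, e3 q202 (flp_j L1811) q138, e3 q203 (flp_j L2643) q296, e3 q204 (flp_j L2653) q297, e3 q205 L1840 q205, e3 q206 L1850 q206, e3 q207 L1858 q207, e3 q208 L1865 q142, e3 q209 L1876 q143, e3 q210 (flp_j L2716) q305, e3 q211 (flp_j L2724) q306, e3 q212 L1899 q212, e3 q213 L1907 q213, e3 q214 L1914 q214, e3 q215 L1921 q215, e3 q216 L1929 q216, e3 q217 L1941 q149, e3 q218 (flp_j L2811) q317, e3 q219 L1955 q219, e3 q220 L1962 q220, e3 q221 L1970 q221, e3 q222 L1978 q222, e3 q223 L1986 q223, e3 q224 L2883 q327, e3 q225 L2002 q155, e3 q226 (flp_j L2896) q328, e3 q227 (flp_j L2905) q329, e3 q228 L2026 q228, e3 q229 L2035 q229, e3 q230 L2045 q230, e3 q231 L2053 q160, e3 q232 L2062 q161, e3 q233 (flp_j L2966) q336, e3 q234 (flp_j L2976) q337, e3 q235 (flp_j L2984) q338, e3 q236 L2097 q236, e3 q237 L2105 q237, e3 q238 L2113 q238,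 e3 q239 L2123 q239, e3 q240 L3086 q350, e3 q241 L2141 q241, e3 q242 L2151 q242, e3 q243 L2157 q243, e3 q244 L2168 q244, e3 q245 L2177 q245, e3 q246 L3187 q361, e3 q247 L2194 q247, e3 q248 L2204 q248, e3 q249 (flp_j L2205) q169, e3 q250 (flp_j L3250) q367, e3 q251 (flp_j L3262) q368, e3 q252 L2241 q252, e3 q253 L2249 q253, e3 q254 L2257 q254, e3 q255 L2266 q255, trivial⟩ (by decide +kernel)

theorem ce_j_4 : ∀ r, r < 64 → sm gj (Qf (256 + r)) = Qf (tab Gen.j (256 + r)) :=
  edges_tab (sm gj) Qf (tab Gen.j) 256 [(256, 175), (257, 376), (258, 258), (259, 259), (260, 260), (261, 261), (262, 262), (263, 386), (264, 180), (265, 389), (266, 390), (267, 267), (268, 268), (269, 269), (270, 184), (271, 185), (272, 398), (273, 399), (274, 274), (275, 275), (276, 276), (277, 277), (278, 278), (279, 191), (280, 410), (281, 281), (282, 282), (283, 283), (284, 284), (285, 285), (286, 420), (287, 197), (288, 421), (289, 422), (290, 290), (291, 291), (292, 292), (293, 201), (294, 430), (295, 431), (296, 203), (297, 204), (298, 435), (299,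 436), (300, 437), (301, 301), (302, 302), (303, 303), (304, 304), (305, 210), (306, 211), (307, 448), (308, 449), (309, 309), (310, 310), (311, 311), (312, 312), (313, 313), (314, 314), (315, 315), (316, 316), (317, 218), (318, 466), (319, 467)]
    ⟨e3 q256 L2278 q175, e3 q257 (flp_j L3337) q376, e3 q258 L2298 q258, e3 q259 L2304 q259, e3 q260 L2313 q260, e3 q261 L2324 q261, e3 q262 L2332 q262, e3 q263 L3417 q386, e3 q264 (flp_j L2344) q180, e3 q265 (flp_j L3453) q389, e3 q266 (flp_j L3464) q390, e3 q267 L2377 q267, e3 q268 L2388 q268, e3 q269 L2397 q269, e3 q270 L2405 q184, e3 q271 L2417 q185, e3 q272 (flp_j L3537) q398, e3 q273 (flp_j L3546) q399, e3 q274 L2443 q274, e3 q275 L2452 q275, e3 q276 L2460 q276, e3 q277 L2469 q277, e3 q278 L2478 q278, e3 q279 L2491 q191, e3 q280 (flp_j L3645) q410, e3 q281 L2508 q281, e3 q282 L2516 q282, e3 q283 L2524 q283, e3 q284 L2533 q284, e3 q285 L2542 q285, e3 q286 L3725 q420, e3 q287 L2560 q197, e3 q288 (flp_j L3741) q421, e3 q289 (flp_j L3751) q422, e3 q290 L2587 q290, e3 q291 L2597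 q291, e3 q292 L2606 q292, e3 q293 (flp_j L2611) q201, e3 q294 (flp_j L3826) q430, e3 q295 (flp_j L3836) q431, e3 q296 L2643 q203, e3 q297 L2653 q204, e3 q298 (flp_j L3865) q435, e3 q299 (flp_j L3876) q436, e3 q300 (flp_j L3885) q437, e3 q301 L2682 q301, e3 q302 L2692 q302, e3 q303 L2700 q303, e3 q304 L2707 q304, e3 q305 L2716 q210, e3 q306 L2724 q211, e3 q307 (flp_j L3968) q448, e3 q308 (flp_j L3977) q449, e3 q309 L2748 q309, e3 q310 L2756 q310, e3 q311 L2763 q311, e3 q312 L2769 q312, e3 q313 L2778 q313, e3 q314 L2787 q314, e3 q315 L2796 q315, e3 q316 L2803 q316, e3 q317 L2811 q218, e3 q318 (flp_j L4113) q466, e3 q319 (flp_j L4122) q467, trivial⟩ (by decide +kernel)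

theorem ce_j_5 : ∀ r, r < 64 → sm gj (Qf (320 + r)) = Qf (tab Gen.j (320 + r)) :=
  edges_tab (sm gj) Qf (tab Gen.j) 320 [(320, 320), (321, 321), (322, 322), (323, 323), (324, 324), (325, 325), (326, 479), (327, 224), (328, 226), (329, 227), (330, 480), (331, 481), (332, 482), (333, 333), (334, 334), (335, 335), (336, 233), (337, 234), (338, 235), (339, 490), (340, 491), (341, 492), (342, 493), (343, 343), (344, 344), (345, 345), (346, 346), (347, 504), (348, 348), (349, 349), (350, 240), (351, 509), (352, 510), (353, 353), (354, 354), (355, 355), (356, 356), (357, 357), (358, 358), (359, 359), (360, 522), (361, 246), (362, 525), (363, 526), (364, 364), (365, 365), (366, 366), (367, 250), (368, 251), (369, 533), (370, 534), (371, 371), (372, 372), (373, 373), (374, 374), (375, 375), (376, 257), (377, 545), (378, 378), (379, 379), (380, 380), (381, 381), (382, 382), (383, 383)]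
    ⟨e3 q320 L2835 q320, e3 q321 L2842 q321, e3 q322 L2848 q322, e3 q323 L2858 q323, e3 q324 L2866 q324, e3 q325 L2874 q325, e3 q326 L4210 q479, e3 q327 (flp_j L2883) q224, e3 q328 L2896 q226, e3 q329 L2905 q227, e3 q330 (flp_j L4222) q480, e3 q331 (flp_j L4233) q481, e3 q332 (flp_j L4242) q482, e3 q333 L2942 q333, e3 q334 L2951 q334, e3 q335 L2958 q335, e3 q336 L2966 q233, e3 q337 L2976 q234, e3 q338 L2984 q235, e3 q339 (flp_j L4308) q490, e3 q340 (flp_j L4318) q491, e3 q341 (flp_j L4326) q492, e3 q342 (flp_j L4336) q493, e3 q343 L3028 q343, e3 q344 L3037 q344, e3 q345 L3046 q345, e3 q346 L3053 q346, e3 q347 L4451 q504, e3 q348 L3074 q348, e3 q349 L3085 q349, e3 q350 (flp_j L3086) q240, e3 q351 (flp_j L4510) q509, e3 q352 (flp_j L4521) q510, e3 q353 L3120 q353, e3 q354 L3132 q354, e3 q355 L3141 q355, e3 q356 L3148 q356, e3 q357 L3160 q357, e3 q358 L3169 q358, e3 q359 L3177 q359, e3 q360 L4624 q522, e3 q361 (flp_j L3187) q246, e3 q362 (flp_j L4660) q525, e3 q363 (flp_j L4671) q526, e3 q364 L3221 q364, e3 q365 L3233 q365,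 e3 q366 L3242 q366, e3 q367 L3250 q250, e3 q368 L3262 q251, e3 q369 (flp_j L4739) q533, e3 q370 (flp_j L4748) q534, e3 q371 L3288 q371, e3 q372 L3298 q372, e3 q373 L3307 q373, e3 q374 L3315 q374, e3 q375 L3324 q375, e3 q376 L3337 q257, e3 q377 (flp_j L4849) q545, e3 q378 L3354 q378, e3 q379 L3362 q379, e3 q380 L3369 q380, e3 q381 L3379 q381, e3 q382 L3388 q382, e3 q383 L3395 q383, trivial⟩ (by decide +kernel)

theorem ce_j_6 : ∀ r, r < 64 → sm gj (Qf (384 + r)) = Qf (tab Gen.j (384 + r)) :=
  edges_tab (sm gj) Qf (tab Gen.j) 384 [(384, 384), (385, 559), (386, 263), (387, 561), (388, 562), (389, 265), (390, 266), (391, 566), (392, 567), (393, 568), (394, 394), (395, 395), (396, 396), (397, 397), (398, 272), (399, 273), (400, 578), (401, 579), (402, 402), (403, 403), (404, 404), (405, 405), (406, 406), (407, 407), (408, 408), (409, 409), (410, 280), (411, 596), (412, 597), (413, 413), (414, 414), (415, 415), (416, 416), (417, 417), (418, 418), (419, 609), (420, 286), (421, 288), (422, 289), (423, 610), (424, 611), (425, 612),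 (426, 426), (427, 427), (428, 428), (429, 429), (430, 294), (431, 295), (432, 622), (433, 623), (434, 624), (435, 298), (436, 299), (437, 300), (438, 630), (439, 631), (440, 632), (441, 633), (442, 442), (443, 443), (444, 444), (445, 445), (446, 446), (447, 447)]
    ⟨e3 q384 L3404 q384, e3 q385 L4964 q559, e3 q386 (flp_j L3417) q263, e3 q387 (flp_j L4991) q561, e3 q388 (flp_j L5002) q562, e3 q389 L3453 q265, e3 q390 L3464 q266, e3 q391 (flp_j L5035) q566, e3 q392 (flp_j L5047) q567, e3 q393 (flp_j L5057) q568, e3 q394 L3498 q394, e3 q395 L3510 q395, e3 q396 L3519 q396, e3 q397 L3527 q397, e3 q398 L3537 q272, e3 q399 L3546 q273, e3 q400 (flp_j L5146) q578, e3 q401 (flp_j L5156) q579, e3 q402 L3573 q402, e3 q403 L3583 q403, e3 q404 L3591 q404, e3 q405 L3599 q405, e3 q406 L3609 q406, e3 q407 L3618 q407, e3 q408 L3628 q408, e3 q409 L3636 q409, e3 q410 L3645 q280, e3 q411 (flp_j L5310) q596, e3 q412 (flp_j L5320) q597, e3 q413 L3672 q413, e3 q414 L3680 q414, e3 q415 L3687 q415, e3 q416 L3696 q416, e3 q417 L3705 q417, e3 q418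 L3715 q418, e3 q419 L5417 q609, e3 q420 (flp_j L3725) q286, e3 q421 L3741 q288, e3 q422 L3751 q289, e3 q423 (flp_j L5430) q610, e3 q424 (flp_j L5442) q611, e3 q425 (flp_j L5452) q612, e3 q426 L3789 q426, e3 q427 L3799 q427, e3 q428 L3808 q428, e3 q429 L3818 q429, e3 q430 L3826 q294, e3 q431 L3836 q295, e3 q432 (flp_j L5544) q622, e3 q433 (flp_j L5554) q623, e3 q434 (flp_j L5563) q624, e3 q435 L3865 q298, e3 q436 L3876 q299, e3 q437 L3885 q300, e3 q438 (flp_j L5608) q630, e3 q439 (flp_j L5619) q631, e3 q440 (flp_j L5628) q632, e3 q441 (flp_j L5636) q633, e3 q442 L3923 q442, e3 q443 L3934 q443, e3 q444 L3940 q444, e3 q445 L3946 q445, e3 q446 L3952 q446, e3 q447 L3958 q447, trivial⟩ (by decide +kernel)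

theorem ce_j_7 : ∀ r, r < 64 → sm gj (Qf (448 + r)) = Qf (tab Gen.j (448 + r)) :=
  edges_tab (sm gj) Qf (tab Gen.j) 448 [(448, 307), (449, 308), (450, 646), (451, 647), (452, 648), (453, 453), (454, 454), (455, 455), (456, 456), (457, 457), (458, 458), (459, 459), (460, 460), (461, 461), (462, 462), (463, 463), (464, 464), (465, 672), (466, 318), (467, 319), (468, 673), (469, 674), (470, 675), (471, 471), (472, 472), (473, 473), (474, 474), (475, 687), (476, 476), (477, 477), (478, 690), (479, 326), (480, 330), (481, 331), (482, 332), (483, 691), (484, 692), (485, 693), (486, 694), (487, 487), (488, 488), (489, 489), (490, 339), (491, 340), (492, 341), (493, 342), (494, 494), (495, 702), (496, 703), (497, 704), (498, 705), (499, 706), (500, 500), (501, 714), (502, 502), (503, 717), (504, 347), (505, 720), (506, 721), (507, 507), (508, 508), (509, 351), (510, 352), (511, 726)]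
    ⟨e3 q448 L3968 q307, e3 q449 L3977 q308, e3 q450 (flp_j L5751) q646, e3 q451 (flp_j L5760) q647, e3 q452 (flp_j L5769) q648, e3 q453 L4009 q453, e3 q454 L4017 q454, e3 q455 L4026 q455, e3 q456 L4034 q456, e3 q457 L4040 q457, e3 q458 L4049 q458, e3 q459 L4059 q459, e3 q460 L4067 q460, e3 q461 L4076 q461, e3 q462 L4085 q462, e3 q463 L4091 q463, e3 q464 L4099 q464, e3 q465 L5959 q672, e3 q466 L4113 q318, e3 q467 L4122 q319, e3 q468 (flp_j L5973) q673, e3 q469 (flp_j L5982) q674, e3 q470 (flp_j L5989) q675, e3 q471 L4155 q471, e3 q472 L4162 q472, e3 q473 L4166 q473, e3 q474 L4175 q474, e3 q475 L6077 q687, e3 q476 L4192 q476, e3 q477 L4201 q477, e3 q478 L6101 q690, e3 q479 (flp_j L4210) q326, e3 q480 L4222 q330, e3 q481 L4233 q331, e3 q482 L4242 q332, e3 q483 (flp_j L6115) q691, e3 q484 (flp_j L6126) q692, e3 q485 (flp_j L6133) q693, e3 q486 (flp_j L6141) q694, e3 q487 L4286 q487, e3 q488 L4295 q488, e3 q489 L4301 q489, e3 q490 L4308 q339, e3 q491 L4318 q340, e3 q492 L4326 q341, e3 q493 L4336 q342, e3 q494 L4349 q494, e3 q495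 (flp_j L6231) q702, e3 q496 (flp_j L6240) q703, e3 q497 (flp_j L6248) q704, e3 q498 (flp_j L6259) q705, e3 q499 (flp_j L6268) q706, e3 q500 L4397 q500, e3 q501 L6390 q714, e3 q502 L4442 q502, e3 q503 L6419 q717, e3 q504 (flp_j L4451) q347, e3 q505 (flp_j L6458) q720, e3 q506 (flp_j L6470) q721, e3 q507 L4491 q507, e3 q508 L4501 q508, e3 q509 L4510 q351, e3 q510 L4521 q352, e3 q511 (flp_j L6517) q726, trivial⟩ (by decide +kernel)

theorem ce_j_8 : ∀ r, r < 64 → sm gj (Qf (512 + r)) = Qf (tab Gen.j (512 + r)) :=
  edges_tab (sm gj) Qf (tab Gen.j) 512 [(512, 727), (513, 728), (514, 514), (515, 515), (516, 516), (517, 517), (518, 518), (519, 519), (520, 520), (521, 521), (522, 360), (523, 744), (524, 745), (525, 362), (526, 363), (527, 749), (528, 750), (529, 751), (530, 530), (531, 531), (532, 532), (533, 369), (534, 370), (535, 759), (536, 760), (537, 537), (538, 538), (539, 539), (540, 540), (541, 541), (542, 542), (543, 543), (544, 544), (545, 377), (546, 777), (547, 778), (548, 548), (549, 549), (550, 550), (551, 551), (552,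 552), (553, 553), (554, 554), (555, 793), (556, 556), (557, 557), (558, 798), (559, 385), (560, 560), (561, 387), (562, 388), (563, 801), (564, 802), (565, 803), (566, 391), (567, 392), (568, 393), (569, 809), (570, 810), (571, 811), (572, 812), (573, 573), (574, 574), (575, 575)]
    ⟨e3 q512 (flp_j L6530) q727, e3 q513 (flp_j L6540) q728, e3 q514 L4561 q514, e3 q515 L4570 q515, e3 q516 L4579 q516, e3 q517 L4591 q517, e3 q518 L4598 q518, e3 q519 L4605 q519, e3 q520 L4612 q520, e3 q521 L4621 q521, e3 q522 (flp_j L4624) q360, e3 q523 (flp_j L6684) q744, e3 q524 (flp_j L6695) q745, e3 q525 L4660 q362, e3 q526 L4671 q363, e3 q527 (flp_j L6731) q749, e3 q528 (flp_j L6744) q750, e3 q529 (flp_j L6754) q751, e3 q530 L4711 q530, e3 q531 L4720 q531, e3 q532 L4729 q532, e3 q533 L4739 q369, e3 q534 L4748 q370, e3 q535 (flp_j L6827) q759, e3 q536 (flp_j L6838) q760, e3 q537 L4777 q537, e3 q538 L4786 q538, e3 q539 L4794 q539, e3 q540 L4801 q540, e3 q541 L4811 q541, e3 q542 L4819 q542, e3 q543 L4830 q543, e3 q544 L4839 q544, e3 q545 L4849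 q377, e3 q546 (flp_j L6991) q777, e3 q547 (flp_j L7001) q778, e3 q548 L4874 q548, e3 q549 L4883 q549, e3 q550 L4891 q550, e3 q551 L4901 q551, e3 q552 L4911 q552, e3 q553 L4917 q553, e3 q554 L4927 q554, e3 q555 L7124 q793, e3 q556 L4944 q556, e3 q557 L4952 q557, e3 q558 L7167 q798, e3 q559 (flp_j L4964) q385, e3 q560 L4982 q560, e3 q561 L4991 q387, e3 q562 L5002 q388, e3 q563 (flp_j L7205) q801, e3 q564 (flp_j L7216) q802, e3 q565 (flp_j L7226) q803, e3 q566 L5035 q391, e3 q567 L5047 q392, e3 q568 L5057 q393, e3 q569 (flp_j L7280) q809, e3 q570 (flp_j L7293) q810, e3 q571 (flp_j L7303) q811, e3 q572 (flp_j L7312) q812, e3 q573 L5106 q573, e3 q574 L5113 q574, e3 q575 L5120 q575, trivial⟩ (by decide +kernel)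

theorem ce_j_9 : ∀ r, r < 64 → sm gj (Qf (576 + r)) = Qf (tab Gen.j (576 + r)) :=
  edges_tab (sm gj) Qf (tab Gen.j) 576 [(576, 576), (577, 577), (578, 400), (579, 401), (580, 824), (581, 825), (582, 826), (583, 583), (584, 584), (585, 585), (586, 586), (587, 587), (588, 588), (589, 589), (590, 590), (591, 591), (592, 592), (593, 593), (594, 594), (595, 850), (596, 411), (597, 412), (598, 851), (599, 852), (600, 853), (601, 601), (602, 602), (603, 603), (604, 604), (605, 865), (606, 606), (607, 607), (608, 868), (609, 419), (610, 423), (611, 424), (612, 425), (613, 869), (614, 870), (615, 871), (616, 872), (617, 617), (618, 618), (619, 619), (620, 620), (621, 621), (622, 432), (623, 433), (624, 434), (625, 886), (626, 887), (627, 888), (628, 889), (629, 890), (630, 438), (631, 439), (632, 440), (633, 441), (634, 899), (635, 900), (636, 901), (637, 902), (638, 903), (639, 904)]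
    ⟨e3 q576 L5128 q576, e3 q577 L5135 q577, e3 q578 L5146 q400, e3 q579 L5156 q401, e3 q580 (flp_j L7426) q824, e3 q581 (flp_j L7437) q825, e3 q582 (flp_j L7447) q826, e3 q583 L5194 q583, e3 q584 L5203 q584, e3 q585 L5212 q585, e3 q586 L5221 q586, e3 q587 L5228 q587, e3 q588 L5237 q588, e3 q589 L5248 q589, e3 q590 L5257 q590, e3 q591 L5265 q591, e3 q592 L5275 q592, e3 q593 L5283 q593, e3 q594 L5293 q594, e3 q595 L7658 q850, e3 q596 L5310 q411, e3 q597 L5320 q412, e3 q598 (flp_j L7673) q851, e3 q599 (flp_j L7683) q852, e3 q600 (flp_j L7691) q853, e3 q601 L5354 q601, e3 q602 L5362 q602, e3 q603 L5368 q603, e3 q604 L5379 q604, e3 q605 L7790 q865, e3 q606 L5398 q606, e3 q607 L5406 q607, e3 q608 L7815 q868, e3 q609 (flp_j L5417) q419, e3 q610 L5430 q423, e3 q611 L5442 q424, e3 q612 L5452 q425, e3 q613 (flp_j L7830) q869, e3 q614 (flp_j L7842) q870, e3 q615 (flp_j L7851) q871, e3 q616 (flp_j L7861) q872, e3 q617 L5501 q617, e3 q618 L5510 q618, e3 q619 L5518 q619, e3 q620 L5528 q620, e3 q621 L5538 q621, e3 q622 L5544 q432, e3 q623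 L5554 q433, e3 q624 L5563 q434, e3 q625 (flp_j L7983) q886, e3 q626 (flp_j L7990) q887, e3 q627 (flp_j L8002) q888, e3 q628 (flp_j L8011) q889, e3 q629 (flp_j L8020) q890, e3 q630 L5608 q438, e3 q631 L5619 q439, e3 q632 L5628 q440, e3 q633 L5636 q441, e3 q634 (flp_j L8088) q899, e3 q635 (flp_j L8100) q900, e3 q636 (flp_j L8107) q901, e3 q637 (flp_j L8114) q902, e3 q638 (flp_j L8121) q903, e3 q639 (flp_j L8129) q904, trivial⟩ (by decide +kernel)

theorem ce_j_10 : ∀ r, r < 64 → sm gj (Qf (640 + r)) = Qf (tab Gen.j (640 + r)) :=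
  edges_tab (sm gj) Qf (tab Gen.j) 640 [(640, 640), (641, 641), (642, 642), (643, 643), (644, 644), (645, 645), (646, 450), (647, 451), (648, 452), (649, 918), (650, 919), (651, 920), (652, 921), (653, 922), (654, 654), (655, 655), (656, 656), (657, 657), (658, 658), (659, 659), (660, 660), (661, 942), (662, 662), (663, 663), (664, 664), (665, 665), (666, 949), (667, 667), (668, 668), (669, 669), (670, 670), (671, 957), (672, 465), (673, 468), (674, 469), (675, 470), (676, 958), (677, 959), (678, 960), (679, 961), (680, 969), (681, 681), (682, 682), (683, 683), (684, 684), (685, 685), (686, 976), (687, 475), (688, 688), (689, 978), (690, 478), (691, 483), (692, 484), (693, 485), (694, 486), (695, 695), (696, 979), (697, 980), (698, 981), (699, 982), (700, 983), (701, 701), (702, 495), (703, 496)]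
    ⟨e3 q640 L5706 q640, e3 q641 L5713 q641, e3 q642 L5720 q642, e3 q643 L5729 q643, e3 q644 L5736 q644, e3 q645 L5743 q645, e3 q646 L5751 q450, e3 q647 L5760 q451, e3 q648 L5769 q452, e3 q649 (flp_j L8289) q918, e3 q650 (flp_j L8299) q919, e3 q651 (flp_j L8309) q920, e3 q652 (flp_j L8319) q921, e3 q653 (flp_j L8326) q922, e3 q654 L5818 q654, e3 q655 L5827 q655, e3 q656 L5834 q656, e3 q657 L5846 q657, e3 q658 L5854 q658, e3 q659 L5859 q659, e3 q660 L5865 q660, e3 q661 L8481 q942, e3 q662 L5882 q662, e3 q663 L5892 q663, e3 q664 L5899 q664, e3 q665 L5908 q665, e3 q666 L8541 q949, e3 q667 L5926 q667, e3 q668 L5934 q668, e3 q669 L5942 q669, e3 q670 L5950 q670, e3 q671 L8603 q957, e3 q672 (flp_j L5959) q465, e3 q673 L5973 q468, e3 q674 L5982 q469, e3 q675 L5989 q470, e3 q676 (flp_j L8618) q958, e3 q677 (flp_j L8627) q959, e3 q678 (flp_j L8633) q960, e3 q679 (flp_j L8643) q961, e3 q680 L8699 q969, e3 q681 L6037 q681, e3 q682 L6043 q682, e3 q683 L6052 q683, e3 q684 L6061 q684, e3 q685 L6069 q685, e3 q686 L8777 q976, e3 q687 (flp_j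 L6077) q475, e3 q688 L6091 q688, e3 q689 L8793 q978, e3 q690 (flp_j L6101) q478, e3 q691 L6115 q483, e3 q692 L6126 q484, e3 q693 L6133 q485, e3 q694 L6141 q486, e3 q695 L6155 q695, e3 q696 (flp_j L8809) q979, e3 q697 (flp_j L8818) q980, e3 q698 (flp_j L8827) q981, e3 q699 (flp_j L8837) q982, e3 q700 (flp_j L8844) q983, e3 q701 L6201 q701, e3 q702 L6231 q495, e3 q703 L6240 q496, trivial⟩ (by decide +kernel)

theorem ce_j_11 : ∀ r, r < 64 → sm gj (Qf (704 + r)) = Qf (tab Gen.j (704 + r)) :=
  edges_tab (sm gj) Qf (tab Gen.j) 704 [(704, 497), (705, 498), (706, 499), (707, 707), (708, 990), (709, 991), (710, 992), (711, 994), (712, 996), (713, 1001), (714, 501), (715, 1003), (716, 716), (717, 503), (718, 1007), (719, 1008), (720, 505), (721, 506), (722, 1011), (723, 1012), (724, 724), (725, 725), (726, 511), (727, 512), (728, 513), (729, 1018), (730, 1019), (731, 1020), (732, 732), (733, 733), (734, 734), (735, 735), (736, 736), (737, 737), (738, 738), (739, 739), (740, 740), (741, 741), (742, 742), (743, 743), (744, 523), (745,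 524), (746, 1044), (747, 1045), (748, 1046), (749, 527), (750, 528), (751, 529), (752, 1051), (753, 1052), (754, 1053), (755, 755), (756, 756), (757, 757), (758, 758), (759, 535), (760, 536), (761, 1064), (762, 1065), (763, 1066), (764, 764), (765, 765), (766, 766), (767, 767)]
    ⟨e3 q704 L6248 q497, e3 q705 L6259 q498, e3 q706 L6268 q499, e3 q707 L6280 q707, e3 q708 (flp_j L8953) q990, e3 q709 (flp_j L8962) q991, e3 q710 (flp_j L8981) q992, e3 q711 (flp_j L9006) q994, e3 q712 (flp_j L9026) q996, e3 q713 L9173 q1001, e3 q714 (flp_j L6390) q501, e3 q715 (flp_j L9202) q1003, e3 q716 L6417 q716, e3 q717 (flp_j L6419) q503, e3 q718 (flp_j L9240) q1007, e3 q719 (flp_j L9252) q1008, e3 q720 L6458 q505, e3 q721 L6470 q506, e3 q722 (flp_j L9285) q1011, e3 q723 (flp_j L9296) q1012, e3 q724 L6502 q724, e3 q725 L6510 q725, e3 q726 L6517 q511, e3 q727 L6530 q512, e3 q728 L6540 q513, e3 q729 (flp_j L9349) q1018, e3 q730 (flp_j L9359) q1019, e3 q731 (flp_j L9369) q1020, e3 q732 L6580 q732, e3 q733 L6588 q733, e3 q734 L6596 q734, e3 q735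 L6604 q735, e3 q736 L6615 q736, e3 q737 L6622 q737, e3 q738 L6630 q738, e3 q739 L6640 q739, e3 q740 L6649 q740, e3 q741 L6658 q741, e3 q742 L6665 q742, e3 q743 L6675 q743, e3 q744 L6684 q523, e3 q745 L6695 q524, e3 q746 (flp_j L9578) q1044, e3 q747 (flp_j L9590) q1045, e3 q748 (flp_j L9600) q1046, e3 q749 L6731 q527, e3 q750 L6744 q528, e3 q751 L6754 q529, e3 q752 (flp_j L9653) q1051, e3 q753 (flp_j L9663) q1052, e3 q754 (flp_j L9673) q1053, e3 q755 L6794 q755, e3 q756 L6802 q756, e3 q757 L6809 q757, e3 q758 L6816 q758, e3 q759 L6827 q535, e3 q760 L6838 q536, e3 q761 (flp_j L9769) q1064, e3 q762 (flp_j L9779) q1065, e3 q763 (flp_j L9789) q1066, e3 q764 L6875 q764, e3 q765 L6884 q765, e3 q766 L6892 q766, e3 q767 L6902 q767, trivial⟩ (by decide +kernel)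

theorem ce_j_12 : ∀ r, r < 64 → sm gj (Qf (768 + r)) = Qf (tab Gen.j (768 + r)) :=
  edges_tab (sm gj) Qf (tab Gen.j) 768 [(768, 768), (769, 769), (770, 770), (771, 771), (772, 772), (773, 773), (774, 774), (775, 775), (776, 1091), (777, 546), (778, 547), (779, 1092), (780, 1093), (781, 1094), (782, 782), (783, 783), (784, 784), (785, 785), (786, 1106), (787, 787), (788, 788), (789, 789), (790, 790), (791, 791), (792, 1116), (793, 555), (794, 794), (795, 1119), (796, 796), (797, 797), (798, 558), (799, 799), (800, 800), (801, 563), (802, 564), (803, 565), (804, 1125), (805, 1126), (806, 1127), (807, 1128), (808, 1129), (809, 569), (810, 570), (811, 571), (812, 572), (813, 1137), (814, 1138), (815, 1139), (816, 1140), (817, 1141), (818, 818), (819, 819), (820, 820), (821, 821), (822, 822), (823, 823), (824, 580), (825, 581), (826, 582), (827, 1157), (828, 1158), (829, 1159), (830, 1160), (831, 1161)]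
    ⟨e3 q768 L6910 q768, e3 q769 L6918 q769, e3 q770 L6930 q770, e3 q771 L6940 q771, e3 q772 L6949 q772, e3 q773 L6960 q773, e3 q774 L6967 q774, e3 q775 L6974 q775, e3 q776 L10007 q1091, e3 q777 L6991 q546, e3 q778 L7001 q547, e3 q779 (flp_j L10022) q1092, e3 q780 (flp_j L10033) q1093, e3 q781 (flp_j L10042) q1094, e3 q782 L7037 q782, e3 q783 L7046 q783, e3 q784 L7051 q784, e3 q785 L7060 q785, e3 q786 L10138 q1106, e3 q787 L7081 q787, e3 q788 L7088 q788, e3 q789 L7098 q789, e3 q790 L7107 q790, e3 q791 L7116 q791, e3 q792 L10226 q1116, e3 q793 (flp_j L7124) q555, e3 q794 L7138 q794, e3 q795 L10250 q1119, e3 q796 L7156 q796, e3 q797 L7165 q797, e3 q798 (flp_j L7167) q558, e3 q799 L7187 q799, e3 q800 L7198 q800, e3 q801 L7205 q563, e3 q802 L7216 q564, e3 q803 L7226 q565, e3 q804 (flp_j L10311) q1125, e3 q805 (flp_j L10320) q1126, e3 q806 (flp_j L10333) q1127, e3 q807 (flp_j L10343) q1128, e3 q808 (flp_j L10353) q1129, e3 q809 L7280 q569, e3 q810 L7293 q570, e3 q811 L7303 q571, e3 q812 L7312 q572, e3 q813 (flp_j L10429) q1137,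 e3 q814 (flp_j L10437) q1138, e3 q815 (flp_j L10445) q1139, e3 q816 (flp_j L10454) q1140, e3 q817 (flp_j L10463) q1141, e3 q818 L7375 q818, e3 q819 L7384 q819, e3 q820 L7392 q820, e3 q821 L7401 q821, e3 q822 L7409 q822, e3 q823 L7417 q823, e3 q824 L7426 q580, e3 q825 L7437 q581, e3 q826 L7447 q582, e3 q827 (flp_j L10627) q1157, e3 q828 (flp_j L10638) q1158, e3 q829 (flp_j L10648) q1159, e3 q830 (flp_j L10659) q1160, e3 q831 (flp_j L10667) q1161, trivial⟩ (by decide +kernel)

theorem ce_j_13 : ∀ r, r < 64 → sm gj (Qf (832 + r)) = Qf (tab Gen.j (832 + r)) :=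
  edges_tab (sm gj) Qf (tab Gen.j) 832 [(832, 832), (833, 833), (834, 834), (835, 835), (836, 836), (837, 837), (838, 838), (839, 1181), (840, 840), (841, 841), (842, 842), (843, 843), (844, 1188), (845, 845), (846, 846), (847, 847), (848, 848), (849, 1196), (850, 595), (851, 598), (852, 599), (853, 600), (854, 1197), (855, 1198), (856, 1199), (857, 1200), (858, 1208), (859, 859), (860, 860), (861, 861), (862, 862), (863, 863), (864, 1218), (865, 605), (866, 866), (867, 1220), (868, 608), (869, 613), (870, 614), (871, 615), (872, 616), (873, 873), (874, 1221), (875, 1222), (876, 1223), (877, 1224), (878, 1225), (879, 879), (880, 880), (881, 881), (882, 882), (883, 883), (884, 884), (885, 885), (886, 625), (887, 626), (888, 627), (889, 628), (890, 629), (891, 1242), (892, 1243), (893, 1244), (894, 1245), (895, 1246)]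
    ⟨e3 q832 L7501 q832, e3 q833 L7511 q833, e3 q834 L7519 q834, e3 q835 L7530 q835, e3 q836 L7539 q836, e3 q837 L7546 q837, e3 q838 L7554 q838, e3 q839 L10840 q1181, e3 q840 L7571 q840, e3 q841 L7582 q841, e3 q842 L7591 q842, e3 q843 L7602 q843, e3 q844 L10907 q1188, e3 q845 L7622 q845, e3 q846 L7630 q846, e3 q847 L7637 q847, e3 q848 L7647 q848, e3 q849 L10975 q1196, e3 q850 (flp_j L7658) q595, e3 q851 L7673 q598, e3 q852 L7683 q599, e3 q853 L7691 q600, e3 q854 (flp_j L10991) q1197, e3 q855 (flp_j L11001) q1198, e3 q856 (flp_j L11009) q1199, e3 q857 (flp_j L11021) q1200, e3 q858 L11084 q1208, e3 q859 L7745 q859, e3 q860 L7751 q860, e3 q861 L7759 q861, e3 q862 L7770 q862, e3 q863 L7780 q863, e3 q864 L11170 q1218, e3 q865 (flp_j L7790) q605, e3 q866 L7806 q866, e3 q867 L11189 q1220, e3 q868 (flp_j L7815) q608, e3 q869 L7830 q613, e3 q870 L7842 q614, e3 q871 L7851 q615, e3 q872 L7861 q616, e3 q873 L7876 q873, e3 q874 (flp_j L11205) q1221, e3 q875 (flp_j L11214) q1222, e3 q876 (flp_j L11222) q1223, e3 q877 (flp_j L11234) q1224,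 e3 q878 (flp_j L11243) q1225, e3 q879 L7928 q879, e3 q880 L7933 q880, e3 q881 L7942 q881, e3 q882 L7951 q882, e3 q883 L7959 q883, e3 q884 L7969 q884, e3 q885 L7978 q885, e3 q886 L7983 q625, e3 q887 L7990 q626, e3 q888 L8002 q627, e3 q889 L8011 q628, e3 q890 L8020 q629, e3 q891 (flp_j L11406) q1242, e3 q892 (flp_j L11415) q1243, e3 q893 (flp_j L11426) q1244, e3 q894 (flp_j L11435) q1245, e3 q895 (flp_j L11442) q1246, trivial⟩ (by decide +kernel)

theorem ce_j_14 : ∀ r, r < 64 → sm gj (Qf (896 + r)) = Qf (tab Gen.j (896 + r)) :=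
  edges_tab (sm gj) Qf (tab Gen.j) 896 [(896, 1247), (897, 1248), (898, 1249), (899, 634), (900, 635), (901, 636), (902, 637), (903, 638), (904, 639), (905, 1260), (906, 1261), (907, 1262), (908, 1263), (909, 1264), (910, 1265), (911, 911), (912, 912), (913, 913), (914, 914), (915, 915), (916, 916), (917, 1282), (918, 649), (919, 650), (920, 651), (921, 652), (922, 653), (923, 1283), (924, 1284), (925, 1285), (926, 1286), (927, 1287), (928, 1288), (929, 1289), (930, 1302), (931, 931), (932, 932), (933, 933), (934, 934), (935, 1309), (936, 936), (937, 937), (938, 938), (939, 939), (940, 940), (941, 1317), (942, 661), (943, 943), (944, 944), (945, 945), (946, 946), (947, 947), (948, 1327), (949, 666), (950, 950), (951, 951), (952, 952), (953, 953), (954, 1334), (955, 955), (956, 1336), (957, 671), (958, 676), (959, 677)]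
    ⟨e3 q896 (flp_j L11450) q1247, e3 q897 (flp_j L11458) q1248, e3 q898 (flp_j L11465) q1249, e3 q899 L8088 q634, e3 q900 L8100 q635, e3 q901 L8107 q636, e3 q902 L8114 q637, e3 q903 L8121 q638, e3 q904 L8129 q639, e3 q905 (flp_j L11587) q1260, e3 q906 (flp_j L11595) q1261, e3 q907 (flp_j L11604) q1262, e3 q908 (flp_j L11614) q1263, e3 q909 (flp_j L11623) q1264, e3 q910 (flp_j L11631) q1265, e3 q911 L8222 q911, e3 q912 L8239 q912, e3 q913 L8247 q913, e3 q914 L8263 q914, e3 q915 L8267 q915, e3 q916 L8275 q916, e3 q917 L11853 q1282, e3 q918 L8289 q649, e3 q919 L8299 q650, e3 q920 L8309 q651, e3 q921 L8319 q652, e3 q922 L8326 q653, e3 q923 (flp_j L11866) q1283, e3 q924 (flp_j L11877) q1284, e3 q925 (flp_j L11885) q1285, e3 q926 (flp_j L11897) q1286, e3 q927 (flp_j L11907) q1287, e3 q928 (flp_j L11914) q1288, e3 q929 (flp_j L11921) q1289, e3 q930 L12021 q1302, e3 q931 L8401 q931, e3 q932 L8410 q932, e3 q933 L8416 q933, e3 q934 L8424 q934, e3 q935 L12078 q1309, e3 q936 L8443 q936, e3 q937 L8450 q937, e3 q938 L8457 q938, e3 q939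 L8466 q939, e3 q940 L8470 q940, e3 q941 L12155 q1317, e3 q942 (flp_j L8481) q661, e3 q943 L8495 q943, e3 q944 L8504 q944, e3 q945 L8513 q945, e3 q946 L8522 q946, e3 q947 L8530 q947, e3 q948 L12241 q1327, e3 q949 (flp_j L8541) q666, e3 q950 L8555 q950, e3 q951 L8563 q951, e3 q952 L8570 q952, e3 q953 L8580 q953, e3 q954 L12298 q1334, e3 q955 L8593 q955, e3 q956 L12313 q1336, e3 q957 (flp_j L8603) q671, e3 q958 L8618 q676, e3 q959 L8627 q677, trivial⟩ (by decide +kernel)

theorem ce_j_15 : ∀ r, r < 64 → sm gj (Qf (960 + r)) = Qf (tab Gen.j (960 + r)) :=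
  edges_tab (sm gj) Qf (tab Gen.j) 960 [(960, 678), (961, 679), (962, 1343), (963, 1337), (964, 1338), (965, 1339), (966, 1340), (967, 1341), (968, 1351), (969, 680), (970, 970), (971, 971), (972, 972), (973, 1355), (974, 1356), (975, 975), (976, 686), (977, 1358), (978, 689), (979, 696), (980, 697), (981, 698), (982, 699), (983, 700), (984, 984), (985, 1359), (986, 1360), (987, 1361), (988, 1363), (989, 1365), (990, 708), (991, 709), (992, 710), (993, 993), (994, 711), (995, 995), (996, 712), (997, 1369), (998, 1371), (999, 1374), (1000, 1378), (1001, 713), (1002, 1381), (1003, 715), (1004, 1383), (1005, 1005), (1006, 1006), (1007, 718), (1008, 719), (1009, 1389), (1010, 1390), (1011, 722), (1012, 723), (1013, 1393), (1014, 1394), (1015, 1015), (1016, 1016), (1017, 1017), (1018, 729), (1019, 730), (1020, 731), (1021, 1403), (1022, 1404), (1023, 1405)]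
    ⟨e3 q960 L8633 q678, e3 q961 L8643 q679, e3 q962 L12372 q1343, e3 q963 (flp_j L12327) q1337, e3 q964 (flp_j L12335) q1338, e3 q965 (flp_j L12345) q1339, e3 q966 (flp_j L12354) q1340, e3 q967 (flp_j L12363) q1341, e3 q968 L12458 q1351, e3 q969 (flp_j L8699) q680, e3 q970 L8711 q970, e3 q971 L8720 q971, e3 q972 L8738 q972, e3 q973 L12540 q1355, e3 q974 L12549 q1356, e3 q975 L8769 q975, e3 q976 (flp_j L8777) q686, e3 q977 L12571 q1358, e3 q978 (flp_j L8793) q689, e3 q979 L8809 q696, e3 q980 L8818 q697, e3 q981 L8827 q698, e3 q982 L8837 q699, e3 q983 L8844 q700, e3 q984 L8855 q984, e3 q985 (flp_j L12585) q1359, e3 q986 (flp_j L12594) q1360, e3 q987 (flp_j L12614) q1361, e3 q988 (flp_j L12639) q1363, e3 q989 (flp_j L12656) q1365, e3 q990 L8953 q708, e3 q991 L8962 q709, e3 q992 L8981 q710, e3 q993 L9001 q993, e3 q994 L9006 q711, e3 q995 L9019 q995, e3 q996 L9026 q712, e3 q997 (flp_j L12800) q1369, e3 q998 (flp_j L12844) q1371, e3 q999 (flp_j L12893) q1374, e3 q1000 L13071 q1378, e3 q1001 (flp_j L9173) q713, e3 q1002 (flp_j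 L13110) q1381, e3 q1003 L9202 q715, e3 q1004 (flp_j L13128) q1383, e3 q1005 L9218 q1005, e3 q1006 L9230 q1006, e3 q1007 L9240 q718, e3 q1008 L9252 q719, e3 q1009 (flp_j L13191) q1389, e3 q1010 (flp_j L13202) q1390, e3 q1011 L9285 q722, e3 q1012 L9296 q723, e3 q1013 (flp_j L13232) q1393, e3 q1014 (flp_j L13241) q1394, e3 q1015 L9321 q1015, e3 q1016 L9329 q1016, e3 q1017 L9336 q1017, e3 q1018 L9349 q729, e3 q1019 L9359 q730, e3 q1020 L9369 q731, e3 q1021 (flp_j L13316) q1403, e3 q1022 (flp_j L13325) q1404, e3 q1023 (flp_j L13334) q1405, trivial⟩ (by decide +kernel)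

theorem ce_j_16 : ∀ r, r < 64 → sm gj (Qf (1024 + r)) = Qf (tab Gen.j (1024 + r)) :=
  edges_tab (sm gj) Qf (tab Gen.j) 1024 [(1024, 1406), (1025, 1025), (1026, 1026), (1027, 1027), (1028, 1028), (1029, 1029), (1030, 1030), (1031, 1031), (1032, 1032), (1033, 1033), (1034, 1034), (1035, 1035), (1036, 1036), (1037, 1037), (1038, 1038), (1039, 1039), (1040, 1040), (1041, 1439), (1042, 1042), (1043, 1043), (1044, 746), (1045, 747), (1046, 748), (1047, 1443), (1048, 1444), (1049, 1445), (1050, 1446), (1051, 752), (1052, 753), (1053, 754), (1054, 1452), (1055, 1453), (1056, 1454), (1057, 1455), (1058, 1058), (1059, 1059), (1060, 1060), (1061, 1061), (1062, 1062), (1063, 1063), (1064, 761), (1065, 762), (1066, 763), (1067, 1472), (1068, 1473), (1069, 1474), (1070, 1475), (1071, 1476), (1072, 1072), (1073, 1073), (1074, 1074), (1075, 1075), (1076, 1076), (1077, 1077), (1078, 1078), (1079, 1496), (1080, 1080), (1081, 1081), (1082, 1082), (1083, 1083), (1084, 1503), (1085, 1085), (1086, 1086), (1087, 1087)]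
    ⟨e3 q1024 (flp_j L13344) q1406, e3 q1025 L9413 q1025, e3 q1026 L9422 q1026, e3 q1027 L9431 q1027, e3 q1028 L9440 q1028, e3 q1029 L9448 q1029, e3 q1030 L9454 q1030, e3 q1031 L9464 q1031, e3 q1032 L9471 q1032, e3 q1033 L9481 q1033, e3 q1034 L9490 q1034, e3 q1035 L9500 q1035, e3 q1036 L9508 q1036, e3 q1037 L9517 q1037, e3 q1038 L9526 q1038, e3 q1039 L9532 q1039, e3 q1040 L9541 q1040, e3 q1041 L13621 q1439, e3 q1042 L9559 q1042, e3 q1043 L9570 q1043, e3 q1044 L9578 q746, e3 q1045 L9590 q747, e3 q1046 L9600 q748, e3 q1047 (flp_j L13666) q1443, e3 q1048 (flp_j L13681) q1444, e3 q1049 (flp_j L13691) q1445, e3 q1050 (flp_j L13702) q1446, e3 q1051 L9653 q752, e3 q1052 L9663 q753, e3 q1053 L9673 q754, e3 q1054 (flp_j L13759) q1452, e3 q1055 (flp_j L13768) q1453, e3 q1056 (flp_j L13776) q1454, e3 q1057 (flp_j L13785) q1455, e3 q1058 L9717 q1058, e3 q1059 L9725 q1059, e3 q1060 L9733 q1060, e3 q1061 L9741 q1061, e3 q1062 L9750 q1062, e3 q1063 L9759 q1063, e3 q1064 L9769 q761, e3 q1065 L9779 q762, e3 q1066 L9789 q763, e3 q1067 (flp_j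 L13931) q1472, e3 q1068 (flp_j L13942) q1473, e3 q1069 (flp_j L13951) q1474, e3 q1070 (flp_j L13963) q1475, e3 q1071 (flp_j L13972) q1476, e3 q1072 L9842 q1072, e3 q1073 L9853 q1073, e3 q1074 L9862 q1074, e3 q1075 L9874 q1075, e3 q1076 L9884 q1076, e3 q1077 L9890 q1077, e3 q1078 L9896 q1078, e3 q1079 L14144 q1496, e3 q1080 L9915 q1080, e3 q1081 L9927 q1081, e3 q1082 L9935 q1082, e3 q1083 L9944 q1083, e3 q1084 L14209 q1503, e3 q1085 L9966 q1085, e3 q1086 L9974 q1086, e3 q1087 L9981 q1087, trivial⟩ (by decide +kernel)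

theorem ce_j_17 : ∀ r, r < 64 → sm gj (Qf (1088 + r)) = Qf (tab Gen.j (1088 + r)) :=
  edges_tab (sm gj) Qf (tab Gen.j) 1088 [(1088, 1088), (1089, 1089), (1090, 1514), (1091, 776), (1092, 779), (1093, 780), (1094, 781), (1095, 1515), (1096, 1516), (1097, 1517), (1098, 1518), (1099, 1526), (1100, 1100), (1101, 1101), (1102, 1102), (1103, 1103), (1104, 1104), (1105, 1537), (1106, 786), (1107, 1107), (1108, 1108), (1109, 1109), (1110, 1110), (1111, 1545), (1112, 1112), (1113, 1548), (1114, 1114), (1115, 1115), (1116, 792), (1117, 1552), (1118, 1118), (1119, 795), (1120, 1556), (1121, 1121), (1122, 1122), (1123, 1123), (1124, 1124), (1125, 804), (1126, 805), (1127, 806), (1128, 807), (1129, 808), (1130, 1563), (1131, 1564), (1132, 1565), (1133, 1566), (1134, 1567), (1135, 1568), (1136, 1569), (1137, 813), (1138, 814), (1139, 815), (1140, 816), (1141, 817), (1142, 1579), (1143, 1580), (1144, 1581), (1145, 1582), (1146, 1583), (1147, 1584), (1148, 1148), (1149, 1149), (1150, 1150), (1151, 1151)]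
    ⟨e3 q1088 L9990 q1088, e3 q1089 L9996 q1089, e3 q1090 L14297 q1514, e3 q1091 (flp_j L10007) q776, e3 q1092 L10022 q779, e3 q1093 L10033 q780, e3 q1094 L10042 q781, e3 q1095 (flp_j L14313) q1515, e3 q1096 (flp_j L14324) q1516, e3 q1097 (flp_j L14331) q1517, e3 q1098 (flp_j L14341) q1518, e3 q1099 L14403 q1526, e3 q1100 L10097 q1100, e3 q1101 L10103 q1101, e3 q1102 L10112 q1102, e3 q1103 L10122 q1103, e3 q1104 L10129 q1104, e3 q1105 L14493 q1537, e3 q1106 (flp_j L10138) q786, e3 q1107 L10154 q1107, e3 q1108 L10165 q1108, e3 q1109 L10174 q1109, e3 q1110 L10183 q1110, e3 q1111 L14564 q1545, e3 q1112 L10197 q1112, e3 q1113 L14590 q1548, e3 q1114 L10216 q1114, e3 q1115 L10224 q1115, e3 q1116 (flp_j L10226) q792, e3 q1117 L14625 q1552, e3 q1118 L10249 q1118, e3 q1119 (flp_j L10250) q795, e3 q1120 (flp_j L14665) q1556, e3 q1121 L10274 q1121, e3 q1122 L10283 q1122, e3 q1123 L10294 q1123, e3 q1124 L10304 q1124, e3 q1125 L10311 q804, e3 q1126 L10320 q805, e3 q1127 L10333 q806, e3 q1128 L10343 q807, e3 q1129 L10353 q808, e3 q1130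 (flp_j L14735) q1563, e3 q1131 (flp_j L14749) q1564, e3 q1132 (flp_j L14759) q1565, e3 q1133 (flp_j L14767) q1566, e3 q1134 (flp_j L14776) q1567, e3 q1135 (flp_j L14786) q1568, e3 q1136 (flp_j L14794) q1569, e3 q1137 L10429 q813, e3 q1138 L10437 q814, e3 q1139 L10445 q815, e3 q1140 L10454 q816, e3 q1141 L10463 q817, e3 q1142 (flp_j L14906) q1579, e3 q1143 (flp_j L14916) q1580, e3 q1144 (flp_j L14926) q1581, e3 q1145 (flp_j L14936) q1582, e3 q1146 (flp_j L14946) q1583, e3 q1147 (flp_j L14955) q1584, e3 q1148 L10551 q1148, e3 q1149 L10560 q1149, e3 q1150 L10569 q1150, e3 q1151 L10578 q1151, trivial⟩ (by decide +kernel)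

theorem ce_j_18 : ∀ r, r < 64 → sm gj (Qf (1152 + r)) = Qf (tab Gen.j (1152 + r)) :=
  edges_tab (sm gj) Qf (tab Gen.j) 1152 [(1152, 1152), (1153, 1153), (1154, 1154), (1155, 1155), (1156, 1605), (1157, 827), (1158, 828), (1159, 829), (1160, 830), (1161, 831), (1162, 1606), (1163, 1607), (1164, 1608), (1165, 1609), (1166, 1610), (1167, 1611), (1168, 1612), (1169, 1625), (1170, 1170), (1171, 1171), (1172, 1172), (1173, 1173), (1174, 1632), (1175, 1175), (1176, 1176), (1177, 1177), (1178, 1178), (1179, 1179), (1180, 1643), (1181, 839), (1182, 1182), (1183, 1183), (1184, 1184), (1185, 1185), (1186, 1186), (1187, 1653), (1188, 844), (1189, 1189), (1190, 1190), (1191, 1191), (1192, 1192), (1193, 1660), (1194, 1194), (1195, 1662), (1196, 849), (1197, 854), (1198, 855), (1199, 856), (1200, 857), (1201, 1669), (1202, 1663), (1203, 1664), (1204, 1665), (1205, 1666), (1206, 1667), (1207, 1680), (1208, 858), (1209, 1209), (1210, 1210), (1211, 1211), (1212, 1212), (1213, 1213), (1214, 1688), (1215, 1689)]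
    ⟨e3 q1152 L10586 q1152, e3 q1153 L10594 q1153, e3 q1154 L10600 q1154, e3 q1155 L10610 q1155, e3 q1156 L15189 q1605, e3 q1157 L10627 q827, e3 q1158 L10638 q828, e3 q1159 L10648 q829, e3 q1160 L10659 q830, e3 q1161 L10667 q831, e3 q1162 (flp_j L15203) q1606, e3 q1163 (flp_j L15215) q1607, e3 q1164 (flp_j L15224) q1608, e3 q1165 (flp_j L15235) q1609, e3 q1166 (flp_j L15246) q1610, e3 q1167 (flp_j L15255) q1611, e3 q1168 (flp_j L15264) q1612, e3 q1169 L15376 q1625, e3 q1170 L10748 q1170, e3 q1171 L10758 q1171, e3 q1172 L10766 q1172, e3 q1173 L10776 q1173, e3 q1174 L15440 q1632, e3 q1175 L10797 q1175, e3 q1176 L10804 q1176, e3 q1177 L10810 q1177, e3 q1178 L10821 q1178, e3 q1179 L10827 q1179, e3 q1180 L15527 q1643, e3 q1181 (flp_j L10840) q839, e3 q1182 L10856 q1182, e3 q1183 L10865 q1183, e3 q1184 L10873 q1184, e3 q1185 L10884 q1185, e3 q1186 L10894 q1186, e3 q1187 L15622 q1653, e3 q1188 (flp_j L10907) q844, e3 q1189 L10924 q1189, e3 q1190 L10933 q1190, e3 q1191 L10940 q1191, e3 q1192 L10949 q1192, e3 q1193 L15682 q1660, e3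 q1194 L10963 q1194, e3 q1195 L15698 q1662, e3 q1196 (flp_j L10975) q849, e3 q1197 L10991 q854, e3 q1198 L11001 q855, e3 q1199 L11009 q856, e3 q1200 L11021 q857, e3 q1201 L15765 q1669, e3 q1202 (flp_j L15715) q1663, e3 q1203 (flp_j L15723) q1664, e3 q1204 (flp_j L15732) q1665, e3 q1205 (flp_j L15743) q1666, e3 q1206 (flp_j L15754) q1667, e3 q1207 L15861 q1680, e3 q1208 (flp_j L11084) q858, e3 q1209 L11099 q1209, e3 q1210 L11109 q1210, e3 q1211 L11117 q1211, e3 q1212 L11126 q1212, e3 q1213 L11135 q1213, e3 q1214 L15948 q1688, e3 q1215 L15956 q1689, trivial⟩ (by decide +kernel)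

theorem ce_j_19 : ∀ r, r < 64 → sm gj (Qf (1216 + r)) = Qf (tab Gen.j (1216 + r)) :=
  edges_tab (sm gj) Qf (tab Gen.j) 1216 [(1216, 1216), (1217, 1217), (1218, 864), (1219, 1692), (1220, 867), (1221, 874), (1222, 875), (1223, 876), (1224, 877), (1225, 878), (1226, 1226), (1227, 1693), (1228, 1694), (1229, 1695), (1230, 1696), (1231, 1697), (1232, 1699), (1233, 1701), (1234, 1702), (1235, 1235), (1236, 1236), (1237, 1237), (1238, 1238), (1239, 1239), (1240, 1240), (1241, 1241), (1242, 891), (1243, 892), (1244, 893), (1245, 894), (1246, 895), (1247, 896), (1248, 897), (1249, 898), (1250, 1721), (1251, 1722), (1252, 1723), (1253, 1724), (1254, 1725), (1255, 1726), (1256, 1727), (1257, 1728), (1258, 1729), (1259, 1730), (1260, 905), (1261, 906), (1262, 907), (1263, 908), (1264, 909), (1265, 910), (1266, 1742), (1267, 1743), (1268, 1744), (1269, 1745), (1270, 1746), (1271, 1747), (1272, 1758), (1273, 1273), (1274, 1274), (1275, 1275), (1276, 1762), (1277, 1277), (1278, 1278), (1279, 1279)]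
    ⟨e3 q1216 L11160 q1216, e3 q1217 L11168 q1217, e3 q1218 (flp_j L11170) q864, e3 q1219 L15984 q1692, e3 q1220 (flp_j L11189) q867, e3 q1221 L11205 q874, e3 q1222 L11214 q875, e3 q1223 L11222 q876, e3 q1224 L11234 q877, e3 q1225 L11243 q878, e3 q1226 L11256 q1226, e3 q1227 (flp_j L16001) q1693, e3 q1228 (flp_j L16011) q1694, e3 q1229 (flp_j L16019) q1695, e3 q1230 (flp_j L16030) q1696, e3 q1231 (flp_j L16038) q1697, e3 q1232 (flp_j L16056) q1699, e3 q1233 (flp_j L16077) q1701, e3 q1234 (flp_j L16087) q1702, e3 q1235 L11330 q1235, e3 q1236 L11348 q1236, e3 q1237 L11362 q1237, e3 q1238 L11370 q1238, e3 q1239 L11381 q1239, e3 q1240 L11390 q1240, e3 q1241 L11399 q1241, e3 q1242 L11406 q891, e3 q1243 L11415 q892, e3 q1244 L11426 q893, e3 q1245 L11435 q894, e3 q1246 L11442 q895, e3 q1247 L11450 q896, e3 q1248 L11458 q897, e3 q1249 L11465 q898, e3 q1250 (flp_j L16298) q1721, e3 q1251 (flp_j L16316) q1722, e3 q1252 (flp_j L16327) q1723, e3 q1253 (flp_j L16344) q1724, e3 q1254 (flp_j L16352) q1725, e3 q1255 (flp_j L16361) q1726,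 e3 q1256 (flp_j L16369) q1727, e3 q1257 (flp_j L16379) q1728, e3 q1258 (flp_j L16387) q1729, e3 q1259 (flp_j L16394) q1730, e3 q1260 L11587 q905, e3 q1261 L11595 q906, e3 q1262 L11604 q907, e3 q1263 L11614 q908, e3 q1264 L11623 q909, e3 q1265 L11631 q910, e3 q1266 (flp_j L16569) q1742, e3 q1267 (flp_j L16589) q1743, e3 q1268 (flp_j L16598) q1744, e3 q1269 (flp_j L16616) q1745, e3 q1270 (flp_j L16622) q1746, e3 q1271 (flp_j L16631) q1747, e3 q1272 L16772 q1758, e3 q1273 L11767 q1273, e3 q1274 L11790 q1274, e3 q1275 L11800 q1275, e3 q1276 L16905 q1762, e3 q1277 L11823 q1277, e3 q1278 L11830 q1278, e3 q1279 L11839 q1279, trivial⟩ (by decide +kernel)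

theorem ce_j_20 : ∀ r, r < 64 → sm gj (Qf (1280 + r)) = Qf (tab Gen.j (1280 + r)) :=
  edges_tab (sm gj) Qf (tab Gen.j) 1280 [(1280, 1280), (1281, 1770), (1282, 917), (1283, 923), (1284, 924), (1285, 925), (1286, 926), (1287, 927), (1288, 928), (1289, 929), (1290, 1782), (1291, 1771), (1292, 1772), (1293, 1773), (1294, 1774), (1295, 1789), (1296, 1776), (1297, 1777), (1298, 1778), (1299, 1779), (1300, 1780), (1301, 1797), (1302, 930), (1303, 1303), (1304, 1304), (1305, 1305), (1306, 1306), (1307, 1307), (1308, 1805), (1309, 935), (1310, 1310), (1311, 1311), (1312, 1312), (1313, 1810), (1314, 1314), (1315, 1813), (1316, 1316), (1317, 941), (1318, 1318), (1319, 1319), (1320, 1320), (1321, 1321), (1322, 1322), (1323, 1824), (1324, 1324), (1325, 1827), (1326, 1326), (1327, 948), (1328, 1328), (1329, 1329), (1330, 1833), (1331, 1331), (1332, 1332), (1333, 1837), (1334, 954), (1335, 1839), (1336, 956), (1337, 963), (1338, 964), (1339, 965), (1340, 966), (1341, 967), (1342, 1847), (1343, 962)]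
    ⟨e3 q1280 L11845 q1280, e3 q1281 L16984 q1770, e3 q1282 (flp_j L11853) q917, e3 q1283 L11866 q923, e3 q1284 L11877 q924, e3 q1285 L11885 q925, e3 q1286 L11897 q926, e3 q1287 L11907 q927, e3 q1288 L11914 q928, e3 q1289 L11921 q929, e3 q1290 L17089 q1782, e3 q1291 (flp_j L16997) q1771, e3 q1292 (flp_j L17008) q1772, e3 q1293 (flp_j L17016) q1773, e3 q1294 (flp_j L17025) q1774, e3 q1295 L17148 q1789, e3 q1296 (flp_j L17045) q1776, e3 q1297 (flp_j L17054) q1777, e3 q1298 (flp_j L17062) q1778, e3 q1299 (flp_j L17071) q1779, e3 q1300 (flp_j L17077) q1780, e3 q1301 L17226 q1797, e3 q1302 (flp_j L12021) q930, e3 q1303 L12034 q1303, e3 q1304 L12042 q1304, e3 q1305 L12051 q1305, e3 q1306 L12061 q1306, e3 q1307 L12067 q1307, e3 q1308 L17314 q1805, e3 q1309 (flp_j L12078) q935, e3 q1310 L12091 q1310, e3 q1311 L12098 q1311, e3 q1312 L12114 q1312, e3 q1313 L17398 q1810, e3 q1314 L12134 q1314, e3 q1315 L17421 q1813, e3 q1316 L12146 q1316, e3 q1317 (flp_j L12155) q941, e3 q1318 L12169 q1318, e3 q1319 L12178 q1319, e3 q1320 L12186 q1320,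 e3 q1321 L12197 q1321, e3 q1322 L12206 q1322, e3 q1323 L17520 q1824, e3 q1324 L12221 q1324, e3 q1325 L17545 q1827, e3 q1326 L12238 q1326, e3 q1327 (flp_j L12241) q948, e3 q1328 L12256 q1328, e3 q1329 L12265 q1329, e3 q1330 L17594 q1833, e3 q1331 L12281 q1331, e3 q1332 L12287 q1332, e3 q1333 L17626 q1837, e3 q1334 (flp_j L12298) q954, e3 q1335 L17641 q1839, e3 q1336 (flp_j L12313) q956, e3 q1337 L12327 q963, e3 q1338 L12335 q964, e3 q1339 L12345 q965, e3 q1340 L12354 q966, e3 q1341 L12363 q967, e3 q1342 L17735 q1847, e3 q1343 (flp_j L12372) q962, trivial⟩ (by decide +kernel)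

theorem ce_j_21 : ∀ r, r < 64 → sm gj (Qf (1344 + r)) = Qf (tab Gen.j (1344 + r)) :=
  edges_tab (sm gj) Qf (tab Gen.j) 1344 [(1344, 1840), (1345, 1841), (1346, 1842), (1347, 1852), (1348, 1844), (1349, 1855), (1350, 1846), (1351, 968), (1352, 1352), (1353, 1858), (1354, 1859), (1355, 973), (1356, 974), (1357, 1860), (1358, 977), (1359, 985), (1360, 986), (1361, 987), (1362, 1362), (1363, 988), (1364, 1364), (1365, 989), (1366, 1861), (1367, 1863), (1368, 1866), (1369, 997), (1370, 1370), (1371, 998), (1372, 1372), (1373, 1373), (1374, 999), (1375, 1375), (1376, 1870), (1377, 1875), (1378, 1000), (1379, 1878), (1380, 1380), (1381, 1002), (1382, 1881), (1383, 1004), (1384, 1883), (1385, 1385), (1386, 1386), (1387, 1387), (1388, 1388), (1389, 1009), (1390, 1010), (1391, 1891), (1392, 1892), (1393, 1013), (1394, 1014), (1395, 1896), (1396, 1897), (1397, 1898), (1398, 1398), (1399, 1399), (1400, 1400), (1401, 1401), (1402, 1402), (1403, 1021), (1404, 1022), (1405, 1023), (1406, 1024), (1407, 1912)]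
    ⟨e3 q1344 (flp_j L17653) q1840, e3 q1345 (flp_j L17663) q1841, e3 q1346 (flp_j L17683) q1842, e3 q1347 L17826 q1852, e3 q1348 (flp_j L17706) q1844, e3 q1349 L17850 q1855, e3 q1350 (flp_j L17724) q1846, e3 q1351 (flp_j L12458) q968, e3 q1352 L12481 q1352, e3 q1353 L17922 q1858, e3 q1354 L17962 q1859, e3 q1355 (flp_j L12540) q973, e3 q1356 (flp_j L12549) q974, e3 q1357 (flp_j L17992) q1860, e3 q1358 (flp_j L12571) q977, e3 q1359 L12585 q985, e3 q1360 L12594 q986, e3 q1361 L12614 q987, e3 q1362 L12635 q1362, e3 q1363 L12639 q988, e3 q1364 L12650 q1364, e3 q1365 L12656 q989, e3 q1366 (flp_j L18017) q1861, e3 q1367 (flp_j L18061) q1863, e3 q1368 (flp_j L18105) q1866, e3 q1369 L12800 q997, e3 q1370 L12822 q1370, e3 q1371 L12844 q998, e3 q1372 L12857 q1372, e3 q1373 L12885 q1373, e3 q1374 L12893 q999, e3 q1375 L12902 q1375, e3 q1376 (flp_j L18305) q1870, e3 q1377 (flp_j L18443) q1875, e3 q1378 (flp_j L13071) q1000, e3 q1379 (flp_j L18692) q1878, e3 q1380 L13100 q1380, e3 q1381 L13110 q1002, e3 q1382 (flp_j L18722) q1881, e3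 q1383 L13128 q1004, e3 q1384 (flp_j L18740) q1883, e3 q1385 L13144 q1385, e3 q1386 L13153 q1386, e3 q1387 L13168 q1387, e3 q1388 L13180 q1388, e3 q1389 L13191 q1009, e3 q1390 L13202 q1010, e3 q1391 (flp_j L18824) q1891, e3 q1392 (flp_j L18834) q1892, e3 q1393 L13232 q1013, e3 q1394 L13241 q1014, e3 q1395 (flp_j L18865) q1896, e3 q1396 (flp_j L18874) q1897, e3 q1397 (flp_j L18883) q1898, e3 q1398 L13271 q1398, e3 q1399 L13281 q1399, e3 q1400 L13292 q1400, e3 q1401 L13299 q1401, e3 q1402 L13306 q1402, e3 q1403 L13316 q1021, e3 q1404 L13325 q1022, e3 q1405 L13334 q1023, e3 q1406 L13344 q1024, e3 q1407 (flp_j L19000) q1912, trivial⟩ (by decide +kernel)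

theorem ce_j_22 : ∀ r, r < 64 → sm gj (Qf (1408 + r)) = Qf (tab Gen.j (1408 + r)) :=
  edges_tab (sm gj) Qf (tab Gen.j) 1408 [(1408, 1913), (1409, 1914), (1410, 1915), (1411, 1916), (1412, 1917), (1413, 1413), (1414, 1414), (1415, 1415), (1416, 1416), (1417, 1417), (1418, 1418), (1419, 1419), (1420, 1420), (1421, 1421), (1422, 1942), (1423, 1423), (1424, 1424), (1425, 1425), (1426, 1426), (1427, 1427), (1428, 1428), (1429, 1429), (1430, 1430), (1431, 1431), (1432, 1957), (1433, 1433), (1434, 1434), (1435, 1435), (1436, 1436), (1437, 1437), (1438, 1968), (1439, 1041), (1440, 1440), (1441, 1441), (1442, 1442), (1443, 1047), (1444, 1048), (1445, 1049), (1446, 1050), (1447, 1973), (1448, 1974), (1449, 1975), (1450, 1976), (1451, 1977), (1452, 1054), (1453, 1055), (1454, 1056), (1455, 1057), (1456, 1985), (1457, 1986), (1458, 1987), (1459, 1988), (1460, 1989), (1461, 1990), (1462, 1462), (1463, 1463), (1464, 1464), (1465, 1465), (1466, 1466), (1467, 1467), (1468, 1468), (1469, 1469), (1470, 1470), (1471, 2013)]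
    ⟨e3 q1408 (flp_j L19010) q1913, e3 q1409 (flp_j L19021) q1914, e3 q1410 (flp_j L19031) q1915, e3 q1411 (flp_j L19041) q1916, e3 q1412 (flp_j L19048) q1917, e3 q1413 L13403 q1413, e3 q1414 L13412 q1414, e3 q1415 L13423 q1415, e3 q1416 L13432 q1416, e3 q1417 L13439 q1417, e3 q1418 L13451 q1418, e3 q1419 L13459 q1419, e3 q1420 L13464 q1420, e3 q1421 L13472 q1421, e3 q1422 L19258 q1942, e3 q1423 L13488 q1423, e3 q1424 L13497 q1424, e3 q1425 L13506 q1425, e3 q1426 L13517 q1426, e3 q1427 L13525 q1427, e3 q1428 L13535 q1428, e3 q1429 L13545 q1429, e3 q1430 L13552 q1430, e3 q1431 L13563 q1431, e3 q1432 L19391 q1957, e3 q1433 L13581 q1433, e3 q1434 L13588 q1434, e3 q1435 L13596 q1435, e3 q1436 L13604 q1436, e3 q1437 L13612 q1437, e3 q1438 L19479 q1968, e3 q1439 (flp_j L13621) q1041, e3 q1440 L13637 q1440, e3 q1441 L13649 q1441, e3 q1442 L13659 q1442, e3 q1443 L13666 q1047, e3 q1444 L13681 q1048, e3 q1445 L13691 q1049, e3 q1446 L13702 q1050, e3 q1447 (flp_j L19542) q1973, e3 q1448 (flp_j L19552) q1974, e3 q1449 (flp_j L19562) q1975,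 e3 q1450 (flp_j L19571) q1976, e3 q1451 (flp_j L19579) q1977, e3 q1452 L13759 q1054, e3 q1453 L13768 q1055, e3 q1454 L13776 q1056, e3 q1455 L13785 q1057, e3 q1456 (flp_j L19652) q1985, e3 q1457 (flp_j L19661) q1986, e3 q1458 (flp_j L19671) q1987, e3 q1459 (flp_j L19680) q1988, e3 q1460 (flp_j L19691) q1989, e3 q1461 (flp_j L19701) q1990, e3 q1462 L13845 q1462, e3 q1463 L13855 q1463, e3 q1464 L13863 q1464, e3 q1465 L13873 q1465, e3 q1466 L13883 q1466, e3 q1467 L13892 q1467, e3 q1468 L13901 q1468, e3 q1469 L13906 q1469, e3 q1470 L13914 q1470, e3 q1471 L19910 q2013, trivial⟩ (by decide +kernel)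

theorem ce_j_23 : ∀ r, r < 64 → sm gj (Qf (1472 + r)) = Qf (tab Gen.j (1472 + r)) :=
  edges_tab (sm gj) Qf (tab Gen.j) 1472 [(1472, 1067), (1473, 1068), (1474, 1069), (1475, 1070), (1476, 1071), (1477, 2014), (1478, 2015), (1479, 2016), (1480, 2017), (1481, 2018), (1482, 2019), (1483, 2020), (1484, 2033), (1485, 1485), (1486, 1486), (1487, 1487), (1488, 1488), (1489, 2040), (1490, 1490), (1491, 1491), (1492, 1492), (1493, 1493), (1494, 1494), (1495, 2051), (1496, 1079), (1497, 1497), (1498, 1498), (1499, 1499), (1500, 1500), (1501, 1501), (1502, 2062), (1503, 1084), (1504, 1504), (1505, 1505), (1506, 1506), (1507, 1507), (1508, 1508), (1509, 2073), (1510, 1510), (1511, 2076), (1512, 1512), (1513, 1513), (1514, 1090), (1515, 1095), (1516, 1096), (1517, 1097), (1518, 1098), (1519, 2085), (1520, 2079), (1521, 2080), (1522, 2081), (1523, 2082), (1524, 2083), (1525, 2096), (1526, 1099), (1527, 1527), (1528, 1528), (1529, 1529), (1530, 1530), (1531, 1531), (1532, 2107), (1533, 1533), (1534, 2110), (1535, 1535)]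
    ⟨e3 q1472 L13931 q1067, e3 q1473 L13942 q1068, e3 q1474 L13951 q1069, e3 q1475 L13963 q1070, e3 q1476 L13972 q1071, e3 q1477 (flp_j L19924) q2014, e3 q1478 (flp_j L19937) q2015, e3 q1479 (flp_j L19947) q2016, e3 q1480 (flp_j L19959) q2017, e3 q1481 (flp_j L19971) q2018, e3 q1482 (flp_j L19979) q2019, e3 q1483 (flp_j L19986) q2020, e3 q1484 L20097 q2033, e3 q1485 L14055 q1485, e3 q1486 L14066 q1486, e3 q1487 L14073 q1487, e3 q1488 L14081 q1488, e3 q1489 L20160 q2040, e3 q1490 L14104 q1490, e3 q1491 L14111 q1491, e3 q1492 L14118 q1492, e3 q1493 L14128 q1493, e3 q1494 L14132 q1494, e3 q1495 L20243 q2051, e3 q1496 (flp_j L14144) q1079, e3 q1497 L14162 q1497, e3 q1498 L14171 q1498, e3 q1499 L14180 q1499, e3 q1500 L14190 q1500, e3 q1501 L14198 q1501, e3 q1502 L20341 q2062, e3 q1503 (flp_j L14209) q1084, e3 q1504 L14226 q1504, e3 q1505 L14234 q1505, e3 q1506 L14240 q1506, e3 q1507 L14250 q1507, e3 q1508 L14256 q1508, e3 q1509 L20431 q2073, e3 q1510 L14272 q1510, e3 q1511 L20454 q2076, e3 q1512 L14286 q1512, e3 q1513 L14296 q1513,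 e3 q1514 (flp_j L14297) q1090, e3 q1515 L14313 q1095, e3 q1516 L14324 q1096, e3 q1517 L14331 q1097, e3 q1518 L14341 q1098, e3 q1519 L20535 q2085, e3 q1520 (flp_j L20488) q2079, e3 q1521 (flp_j L20496) q2080, e3 q1522 (flp_j L20506) q2081, e3 q1523 (flp_j L20516) q2082, e3 q1524 (flp_j L20525) q2083, e3 q1525 L20627 q2096, e3 q1526 (flp_j L14403) q1099, e3 q1527 L14418 q1527, e3 q1528 L14428 q1528, e3 q1529 L14435 q1529, e3 q1530 L14446 q1530, e3 q1531 L14453 q1531, e3 q1532 L20717 q2107, e3 q1533 L14467 q1533, e3 q1534 L20744 q2110, e3 q1535 L14485 q1535, trivial⟩ (by decide +kernel)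

theorem ce_j_24 : ∀ r, r < 64 → sm gj (Qf (1536 + r)) = Qf (tab Gen.j (1536 + r)) :=
  edges_tab (sm gj) Qf (tab Gen.j) 1536 [(1536, 1536), (1537, 1105), (1538, 1538), (1539, 1539), (1540, 2117), (1541, 1541), (1542, 2120), (1543, 1543), (1544, 1544), (1545, 1111), (1546, 2124), (1547, 1547), (1548, 1113), (1549, 2128), (1550, 1550), (1551, 2130), (1552, 1117), (1553, 2132), (1554, 1554), (1555, 1555), (1556, 1120), (1557, 2137), (1558, 1558), (1559, 1559), (1560, 1560), (1561, 1561), (1562, 1562), (1563, 1130), (1564, 1131), (1565, 1132), (1566, 1133), (1567, 1134), (1568, 1135), (1569, 1136), (1570, 2146), (1571, 2147), (1572, 2148), (1573, 2149), (1574, 2150), (1575, 2151), (1576, 2152), (1577, 2153), (1578, 2154), (1579, 1142), (1580, 1143), (1581, 1144), (1582, 1145), (1583, 1146), (1584, 1147), (1585, 2167), (1586, 2168), (1587, 2169), (1588, 2170), (1589, 2171), (1590, 2172), (1591, 2173), (1592, 2174), (1593, 2187), (1594, 1594), (1595, 1595), (1596, 1596), (1597, 1597), (1598, 2193), (1599, 1599)]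
    ⟨e3 q1536 L14491 q1536, e3 q1537 (flp_j L14493) q1105, e3 q1538 L14510 q1538, e3 q1539 L14520 q1539, e3 q1540 L20804 q2117, e3 q1541 L14535 q1541, e3 q1542 L20831 q2120, e3 q1543 L14554 q1543, e3 q1544 L14562 q1544, e3 q1545 (flp_j L14564) q1111, e3 q1546 L20866 q2124, e3 q1547 L14589 q1547, e3 q1548 (flp_j L14590) q1113, e3 q1549 (flp_j L20906) q2128, e3 q1550 L14615 q1550, e3 q1551 L20917 q2130, e3 q1552 (flp_j L14625) q1117, e3 q1553 (flp_j L20941) q2132, e3 q1554 L14647 q1554, e3 q1555 L14657 q1555, e3 q1556 L14665 q1120, e3 q1557 (flp_j L20983) q2137, e3 q1558 L14684 q1558, e3 q1559 L14694 q1559, e3 q1560 L14706 q1560, e3 q1561 L14716 q1561, e3 q1562 L14726 q1562, e3 q1563 L14735 q1130, e3 q1564 L14749 q1131, e3 q1565 L14759 q1132, e3 q1566 L14767 q1133, e3 q1567 L14776 q1134, e3 q1568 L14786 q1135, e3 q1569 L14794 q1136, e3 q1570 (flp_j L21072) q2146, e3 q1571 (flp_j L21086) q2147, e3 q1572 (flp_j L21107) q2148, e3 q1573 (flp_j L21116) q2149, e3 q1574 (flp_j L21127) q2150, e3 q1575 (flp_j L21136) q2151, e3 q1576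 (flp_j L21146) q2152, e3 q1577 (flp_j L21155) q2153, e3 q1578 (flp_j L21163) q2154, e3 q1579 L14906 q1142, e3 q1580 L14916 q1143, e3 q1581 L14926 q1144, e3 q1582 L14936 q1145, e3 q1583 L14946 q1146, e3 q1584 L14955 q1147, e3 q1585 (flp_j L21328) q2167, e3 q1586 (flp_j L21338) q2168, e3 q1587 (flp_j L21349) q2169, e3 q1588 (flp_j L21359) q2170, e3 q1589 (flp_j L21367) q2171, e3 q1590 (flp_j L21377) q2172, e3 q1591 (flp_j L21385) q2173, e3 q1592 (flp_j L21396) q2174, e3 q1593 L21547 q2187, e3 q1594 L15092 q1594, e3 q1595 L15110 q1595, e3 q1596 L15117 q1596, e3 q1597 L15129 q1597, e3 q1598 L21681 q2193, e3 q1599 L15148 q1599, trivial⟩ (by decide +kernel)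

theorem ce_j_25 : ∀ r, r < 64 → sm gj (Qf (1600 + r)) = Qf (tab Gen.j (1600 + r)) :=
  edges_tab (sm gj) Qf (tab Gen.j) 1600 [(1600, 1600), (1601, 1601), (1602, 1602), (1603, 1603), (1604, 2204), (1605, 1156), (1606, 1162), (1607, 1163), (1608, 1164), (1609, 1165), (1610, 1166), (1611, 1167), (1612, 1168), (1613, 2216), (1614, 2205), (1615, 2206), (1616, 2207), (1617, 2208), (1618, 2223), (1619, 2210), (1620, 2211), (1621, 2212), (1622, 2213), (1623, 2214), (1624, 2234), (1625, 1169), (1626, 1626), (1627, 1627), (1628, 1628), (1629, 1629), (1630, 1630), (1631, 2245), (1632, 1174), (1633, 1633), (1634, 1634), (1635, 1635), (1636, 1636), (1637, 1637), (1638, 2254), (1639, 1639), (1640, 2257), (1641, 1641), (1642, 1642), (1643, 1180), (1644, 1644), (1645, 1645), (1646, 1646), (1647, 1647), (1648, 1648), (1649, 2269), (1650, 1650), (1651, 2272), (1652, 1652), (1653, 1187), (1654, 1654), (1655, 1655), (1656, 2278), (1657, 1657), (1658, 1658), (1659, 2282), (1660, 1193), (1661, 2284), (1662, 1195), (1663, 1202)]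
    ⟨e3 q1600 L15154 q1600, e3 q1601 L15160 q1601, e3 q1602 L15171 q1602, e3 q1603 L15179 q1603, e3 q1604 L21770 q2204, e3 q1605 (flp_j L15189) q1156, e3 q1606 L15203 q1162, e3 q1607 L15215 q1163, e3 q1608 L15224 q1164, e3 q1609 L15235 q1165, e3 q1610 L15246 q1166, e3 q1611 L15255 q1167, e3 q1612 L15264 q1168, e3 q1613 L21888 q2216, e3 q1614 (flp_j L21784) q2205, e3 q1615 (flp_j L21796) q2206, e3 q1616 (flp_j L21806) q2207, e3 q1617 (flp_j L21817) q2208, e3 q1618 L21954 q2223, e3 q1619 (flp_j L21839) q2210, e3 q1620 (flp_j L21848) q2211, e3 q1621 (flp_j L21855) q2212, e3 q1622 (flp_j L21866) q2213, e3 q1623 (flp_j L21874) q2214, e3 q1624 L22042 q2234, e3 q1625 (flp_j L15376) q1169, e3 q1626 L15391 q1626, e3 q1627 L15399 q1627, e3 q1628 L15407 q1628, e3 q1629 L15419 q1629, e3 q1630 L15427 q1630, e3 q1631 L22141 q2245, e3 q1632 (flp_j L15440) q1174, e3 q1633 L15456 q1633, e3 q1634 L15464 q1634, e3 q1635 L15472 q1635, e3 q1636 L15479 q1636, e3 q1637 L15485 q1637, e3 q1638 L22230 q2254, e3 q1639 L15500 q1639, e3 q1640 L22256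 q2257, e3 q1641 L15516 q1641, e3 q1642 L15526 q1642, e3 q1643 (flp_j L15527) q1180, e3 q1644 L15545 q1644, e3 q1645 L15555 q1645, e3 q1646 L15563 q1646, e3 q1647 L15573 q1647, e3 q1648 L15582 q1648, e3 q1649 L22364 q2269, e3 q1650 L15598 q1650, e3 q1651 L22392 q2272, e3 q1652 L15619 q1652, e3 q1653 (flp_j L15622) q1187, e3 q1654 L15639 q1654, e3 q1655 L15649 q1655, e3 q1656 L22449 q2278, e3 q1657 L15665 q1657, e3 q1658 L15671 q1658, e3 q1659 L22481 q2282, e3 q1660 (flp_j L15682) q1193, e3 q1661 L22498 q2284, e3 q1662 (flp_j L15698) q1195, e3 q1663 L15715 q1202, trivial⟩ (by decide +kernel)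

theorem ce_j_26 : ∀ r, r < 64 → sm gj (Qf (1664 + r)) = Qf (tab Gen.j (1664 + r)) :=
  edges_tab (sm gj) Qf (tab Gen.j) 1664 [(1664, 1203), (1665, 1204), (1666, 1205), (1667, 1206), (1668, 2295), (1669, 1201), (1670, 2285), (1671, 2286), (1672, 2287), (1673, 2288), (1674, 2289), (1675, 2304), (1676, 2291), (1677, 2307), (1678, 2293), (1679, 2294), (1680, 1207), (1681, 1681), (1682, 1682), (1683, 2312), (1684, 1684), (1685, 1685), (1686, 2316), (1687, 1687), (1688, 1214), (1689, 1215), (1690, 2318), (1691, 1691), (1692, 1219), (1693, 1227), (1694, 1228), (1695, 1229), (1696, 1230), (1697, 1231), (1698, 1698), (1699, 1232), (1700, 1700), (1701, 1233), (1702, 1234), (1703, 2320), (1704, 2321), (1705, 2323), (1706, 2324), (1707, 2325), (1708, 2327), (1709, 2329), (1710, 2331), (1711, 1711), (1712, 1712), (1713, 1713), (1714, 1714), (1715, 1715), (1716, 1716), (1717, 1717), (1718, 1718), (1719, 1719), (1720, 1720), (1721, 1250), (1722, 1251), (1723, 1252), (1724, 1253), (1725, 1254), (1726, 1255), (1727, 1256)]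
    ⟨e3 q1664 L15723 q1203, e3 q1665 L15732 q1204, e3 q1666 L15743 q1205, e3 q1667 L15754 q1206, e3 q1668 L22603 q2295, e3 q1669 (flp_j L15765) q1201, e3 q1670 (flp_j L22514) q2285, e3 q1671 (flp_j L22525) q2286, e3 q1672 (flp_j L22534) q2287, e3 q1673 (flp_j L22544) q2288, e3 q1674 (flp_j L22554) q2289, e3 q1675 L22699 q2304, e3 q1676 (flp_j L22568) q2291, e3 q1677 L22726 q2307, e3 q1678 (flp_j L22590) q2293, e3 q1679 (flp_j L22600) q2294, e3 q1680 (flp_j L15861) q1207, e3 q1681 L15877 q1681, e3 q1682 L15887 q1682, e3 q1683 L22810 q2312, e3 q1684 L15913 q1684, e3 q1685 L15923 q1685, e3 q1686 L22849 q2316, e3 q1687 L15939 q1687, e3 q1688 (flp_j L15948) q1214, e3 q1689 (flp_j L15956) q1215, e3 q1690 (flp_j L22881) q2318, e3 q1691 L15982 q1691, e3 q1692 (flp_j L15984) q1219, e3 q1693 L16001 q1227, e3 q1694 L16011 q1228, e3 q1695 L16019 q1229, e3 q1696 L16030 q1230, e3 q1697 L16038 q1231, e3 q1698 L16050 q1698, e3 q1699 L16056 q1232, e3 q1700 L16069 q1700, e3 q1701 L16077 q1233, e3 q1702 L16087 q1234, e3 q1703 (flp_j L22897)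 q2320, e3 q1704 (flp_j L22909) q2321, e3 q1705 (flp_j L22940) q2323, e3 q1706 (flp_j L22949) q2324, e3 q1707 (flp_j L22955) q2325, e3 q1708 (flp_j L22974) q2327, e3 q1709 (flp_j L23003) q2329, e3 q1710 (flp_j L23023) q2331, e3 q1711 L16204 q1711, e3 q1712 L16221 q1712, e3 q1713 L16231 q1713, e3 q1714 L16241 q1714, e3 q1715 L16246 q1715, e3 q1716 L16258 q1716, e3 q1717 L16265 q1717, e3 q1718 L16273 q1718, e3 q1719 L16281 q1719, e3 q1720 L16289 q1720, e3 q1721 L16298 q1250, e3 q1722 L16316 q1251, e3 q1723 L16327 q1252, e3 q1724 L16344 q1253, e3 q1725 L16352 q1254, e3 q1726 L16361 q1255, e3 q1727 L16369 q1256, trivial⟩ (by decide +kernel)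

theorem ce_j_27 : ∀ r, r < 64 → sm gj (Qf (1728 + r)) = Qf (tab Gen.j (1728 + r)) :=
  edges_tab (sm gj) Qf (tab Gen.j) 1728 [(1728, 1257), (1729, 1258), (1730, 1259), (1731, 2353), (1732, 2354), (1733, 2355), (1734, 2356), (1735, 2357), (1736, 2358), (1737, 2359), (1738, 2360), (1739, 2361), (1740, 2362), (1741, 2376), (1742, 1266), (1743, 1267), (1744, 1268), (1745, 1269), (1746, 1270), (1747, 1271), (1748, 2386), (1749, 2377), (1750, 2378), (1751, 2379), (1752, 2390), (1753, 2381), (1754, 2382), (1755, 2383), (1756, 2384), (1757, 2398), (1758, 1272), (1759, 2399), (1760, 1760), (1761, 2402), (1762, 1276), (1763, 1763), (1764, 1764), (1765, 1765), (1766, 2407), (1767, 1767), (1768, 2410), (1769, 1769), (1770, 1281), (1771, 1291), (1772, 1292), (1773, 1293), (1774, 1294), (1775, 2418), (1776, 1296), (1777, 1297), (1778, 1298), (1779, 1299), (1780, 1300), (1781, 2426), (1782, 1290), (1783, 2412), (1784, 2413), (1785, 2414), (1786, 2415), (1787, 2416), (1788, 2434), (1789, 1295), (1790, 2419), (1791, 2420)]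
    ⟨e3 q1728 L16379 q1257, e3 q1729 L16387 q1258, e3 q1730 L16394 q1259, e3 q1731 (flp_j L23313) q2353, e3 q1732 (flp_j L23343) q2354, e3 q1733 (flp_j L23353) q2355, e3 q1734 (flp_j L23377) q2356, e3 q1735 (flp_j L23393) q2357, e3 q1736 (flp_j L23412) q2358, e3 q1737 (flp_j L23420) q2359, e3 q1738 (flp_j L23440) q2360, e3 q1739 (flp_j L23445) q2361, e3 q1740 (flp_j L23453) q2362, e3 q1741 L23665 q2376, e3 q1742 L16569 q1266, e3 q1743 L16589 q1267, e3 q1744 L16598 q1268, e3 q1745 L16616 q1269, e3 q1746 L16622 q1270, e3 q1747 L16631 q1271, e3 q1748 L23821 q2386, e3 q1749 (flp_j L23723) q2377, e3 q1750 (flp_j L23750) q2378, e3 q1751 (flp_j L23761) q2379, e3 q1752 L23957 q2390, e3 q1753 (flp_j L23787) q2381, e3 q1754 (flp_j L23795) q2382, e3 q1755 (flp_j L23804) q2383, e3 q1756 (flp_j L23812) q2384, e3 q1757 L24037 q2398, e3 q1758 (flp_j L16772) q1272, e3 q1759 L24153 q2399, e3 q1760 L16889 q1760, e3 q1761 L24243 q2402, e3 q1762 (flp_j L16905) q1276, e3 q1763 L16931 q1763, e3 q1764 L16941 q1764, e3 q1765 L16947 q1765, e3 q1766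 L24323 q2407, e3 q1767 L16960 q1767, e3 q1768 L24346 q2410, e3 q1769 L16975 q1769, e3 q1770 (flp_j L16984) q1281, e3 q1771 L16997 q1291, e3 q1772 L17008 q1292, e3 q1773 L17016 q1293, e3 q1774 L17025 q1294, e3 q1775 L24424 q2418, e3 q1776 L17045 q1296, e3 q1777 L17054 q1297, e3 q1778 L17062 q1298, e3 q1779 L17071 q1299, e3 q1780 L17077 q1300, e3 q1781 L24513 q2426, e3 q1782 (flp_j L17089) q1290, e3 q1783 (flp_j L24374) q2412, e3 q1784 (flp_j L24384) q2413, e3 q1785 (flp_j L24394) q2414, e3 q1786 (flp_j L24404) q2415, e3 q1787 (flp_j L24412) q2416, e3 q1788 L24603 q2434, e3 q1789 (flp_j L17148) q1295, e3 q1790 (flp_j L24439) q2419, e3 q1791 (flp_j L24447) q2420, trivial⟩ (by decide +kernel)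

theorem ce_j_28 : ∀ r, r < 64 → sm gj (Qf (1792 + r)) = Qf (tab Gen.j (1792 + r)) :=
  edges_tab (sm gj) Qf (tab Gen.j) 1792 [(1792, 2421), (1793, 2439), (1794, 2423), (1795, 2442), (1796, 2425), (1797, 1301), (1798, 1798), (1799, 1799), (1800, 1800), (1801, 2448), (1802, 1802), (1803, 2451), (1804, 1804), (1805, 1308), (1806, 1806), (1807, 2455), (1808, 1808), (1809, 2457), (1810, 1313), (1811, 2459), (1812, 1812), (1813, 1315), (1814, 2461), (1815, 1815), (1816, 1816), (1817, 1817), (1818, 2468), (1819, 1819), (1820, 1820), (1821, 1821), (1822, 2475), (1823, 1823), (1824, 1323), (1825, 2478), (1826, 1826), (1827, 1325), (1828, 2481), (1829, 1829), (1830, 1830), (1831, 1831), (1832, 2486), (1833, 1330), (1834, 1834), (1835, 2489), (1836, 2491), (1837, 1333), (1838, 2492), (1839, 1335), (1840, 1344), (1841, 1345), (1842, 1346), (1843, 2497), (1844, 1348), (1845, 2500), (1846, 1350), (1847, 1342), (1848, 2493), (1849, 2504), (1850, 2495), (1851, 2506), (1852, 1347), (1853, 2507), (1854, 2499), (1855, 1349)]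
    ⟨e3 q1792 (flp_j L24465) q2421, e3 q1793 L24689 q2439, e3 q1794 (flp_j L24488) q2423, e3 q1795 L24709 q2442, e3 q1796 (flp_j L24501) q2425, e3 q1797 (flp_j L17226) q1301, e3 q1798 L17239 q1798, e3 q1799 L17248 q1799, e3 q1800 L17267 q1800, e3 q1801 L24813 q2448, e3 q1802 L17289 q1802, e3 q1803 L24838 q2451, e3 q1804 L17305 q1804, e3 q1805 (flp_j L17314) q1308, e3 q1806 L17337 q1806, e3 q1807 L24910 q2455, e3 q1808 L17371 q1808, e3 q1809 L24967 q2457, e3 q1810 (flp_j L17398) q1313, e3 q1811 L24996 q2459, e3 q1812 L17419 q1812, e3 q1813 (flp_j L17421) q1315, e3 q1814 (flp_j L25020) q2461, e3 q1815 L17445 q1815, e3 q1816 L17455 q1816, e3 q1817 L17464 q1817, e3 q1818 L25085 q2468, e3 q1819 L17482 q1819, e3 q1820 L17492 q1820, e3 q1821 L17498 q1821, e3 q1822 L25147 q2475, e3 q1823 L17517 q1823, e3 q1824 (flp_j L17520) q1323, e3 q1825 L25173 q2478, e3 q1826 L17543 q1826, e3 q1827 (flp_j L17545) q1325, e3 q1828 (flp_j L25200) q2481, e3 q1829 L17567 q1829, e3 q1830 L17577 q1830, e3 q1831 L17583 q1831, e3 q1832 L25237 q2486, e3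 q1833 (flp_j L17594) q1330, e3 q1834 L17608 q1834, e3 q1835 L25260 q2489, e3 q1836 L25276 q2491, e3 q1837 (flp_j L17626) q1333, e3 q1838 L25284 q2492, e3 q1839 (flp_j L17641) q1335, e3 q1840 L17653 q1344, e3 q1841 L17663 q1345, e3 q1842 L17683 q1346, e3 q1843 L25383 q2497, e3 q1844 L17706 q1348, e3 q1845 L25409 q2500, e3 q1846 L17724 q1350, e3 q1847 (flp_j L17735) q1342, e3 q1848 (flp_j L25308) q2493, e3 q1849 L25491 q2504, e3 q1850 (flp_j L25351) q2495, e3 q1851 L25557 q2506, e3 q1852 (flp_j L17826) q1347, e3 q1853 L25581 q2507, e3 q1854 (flp_j L25407) q2499, e3 q1855 (flp_j L17850) q1349, trivial⟩ (by decide +kernel)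

theorem ce_j_29 : ∀ r, r < 64 → sm gj (Qf (1856 + r)) = Qf (tab Gen.j (1856 + r)) :=
  edges_tab (sm gj) Qf (tab Gen.j) 1856 [(1856, 2510), (1857, 2511), (1858, 1353), (1859, 1354), (1860, 1357), (1861, 1366), (1862, 1862), (1863, 1367), (1864, 1864), (1865, 1865), (1866, 1368), (1867, 1867), (1868, 2512), (1869, 2517), (1870, 1376), (1871, 1871), (1872, 1872), (1873, 1873), (1874, 1874), (1875, 1377), (1876, 2523), (1877, 1877), (1878, 1379), (1879, 2526), (1880, 1880), (1881, 1382), (1882, 2529), (1883, 1384), (1884, 2532), (1885, 2533), (1886, 1886), (1887, 1887), (1888, 1888), (1889, 1889), (1890, 1890), (1891, 1391), (1892, 1392), (1893, 2544), (1894, 2545), (1895, 2546), (1896, 1395), (1897, 1396), (1898, 1397), (1899, 2552), (1900, 2553), (1901, 2554), (1902, 2555), (1903, 2556), (1904, 1904), (1905, 1905), (1906, 1906), (1907, 1907), (1908, 1908), (1909, 1909), (1910, 1910), (1911, 2575), (1912, 1407), (1913, 1408), (1914, 1409), (1915, 1410), (1916, 1411), (1917, 1412), (1918, 2576), (1919, 2577)]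
    ⟨e3 q1856 (flp_j L25615) q2510, e3 q1857 L25677 q2511, e3 q1858 (flp_j L17922) q1353, e3 q1859 (flp_j L17962) q1354, e3 q1860 L17992 q1357, e3 q1861 L18017 q1366, e3 q1862 L18038 q1862, e3 q1863 L18061 q1367, e3 q1864 L18073 q1864, e3 q1865 L18099 q1865, e3 q1866 L18105 q1368, e3 q1867 L18113 q1867, e3 q1868 (flp_j L25806) q2512, e3 q1869 (flp_j L25935) q2517, e3 q1870 L18305 q1376, e3 q1871 L18319 q1871, e3 q1872 L18392 q1872, e3 q1873 L18426 q1873, e3 q1874 L18438 q1874, e3 q1875 L18443 q1377, e3 q1876 (flp_j L26416) q2523, e3 q1877 L18682 q1877, e3 q1878 L18692 q1379, e3 q1879 (flp_j L26730) q2526, e3 q1880 L18714 q1880, e3 q1881 L18722 q1382, e3 q1882 (flp_j L26757) q2529, e3 q1883 L18740 q1384, e3 q1884 (flp_j L26784) q2532, e3 q1885 (flp_j L26795) q2533, e3 q1886 L18768 q1886, e3 q1887 L18778 q1887, e3 q1888 L18787 q1888, e3 q1889 L18803 q1889, e3 q1890 L18814 q1890, e3 q1891 L18824 q1391, e3 q1892 L18834 q1392, e3 q1893 (flp_j L26900) q2544, e3 q1894 (flp_j L26910) q2545, e3 q1895 (flp_j L26918) q2546, e3 q1896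 L18865 q1395, e3 q1897 L18874 q1396, e3 q1898 L18883 q1397, e3 q1899 (flp_j L26966) q2552, e3 q1900 (flp_j L26978) q2553, e3 q1901 (flp_j L26990) q2554, e3 q1902 (flp_j L26999) q2555, e3 q1903 (flp_j L27007) q2556, e3 q1904 L18933 q1904, e3 q1905 L18943 q1905, e3 q1906 L18953 q1906, e3 q1907 L18964 q1907, e3 q1908 L18971 q1908, e3 q1909 L18975 q1909, e3 q1910 L18985 q1910, e3 q1911 L27168 q2575, e3 q1912 L19000 q1407, e3 q1913 L19010 q1408, e3 q1914 L19021 q1409, e3 q1915 L19031 q1410, e3 q1916 L19041 q1411, e3 q1917 L19048 q1412, e3 q1918 (flp_j L27181) q2576, e3 q1919 (flp_j L27192) q2577, trivial⟩ (by decide +kernel)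

theorem ce_j_30 : ∀ r, r < 64 → sm gj (Qf (1920 + r)) = Qf (tab Gen.j (1920 + r)) :=
  edges_tab (sm gj) Qf (tab Gen.j) 1920 [(1920, 2578), (1921, 2579), (1922, 2580), (1923, 2581), (1924, 2582), (1925, 2583), (1926, 2584), (1927, 2600), (1928, 1928), (1929, 1929), (1930, 1930), (1931, 1931), (1932, 1932), (1933, 1933), (1934, 1934), (1935, 2612), (1936, 1936), (1937, 1937), (1938, 1938), (1939, 1939), (1940, 1940), (1941, 2623), (1942, 1422), (1943, 1943), (1944, 1944), (1945, 1945), (1946, 1946), (1947, 1947), (1948, 1948), (1949, 1949), (1950, 2635), (1951, 1951), (1952, 1952), (1953, 1953), (1954, 1954), (1955, 1955), (1956, 2646), (1957, 1432), (1958, 1958), (1959, 1959), (1960, 1960), (1961, 1961), (1962, 1962), (1963, 2657), (1964, 1964), (1965, 2660), (1966, 1966), (1967, 1967), (1968, 1438), (1969, 1969), (1970, 1970), (1971, 1971), (1972, 1972), (1973, 1447), (1974, 1448), (1975, 1449), (1976, 1450), (1977, 1451), (1978, 2669), (1979, 2670), (1980, 2671), (1981, 2672), (1982, 2673), (1983, 2674)]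
    ⟨e3 q1920 (flp_j L27204) q2578, e3 q1921 (flp_j L27215) q2579, e3 q1922 (flp_j L27223) q2580, e3 q1923 (flp_j L27235) q2581, e3 q1924 (flp_j L27245) q2582, e3 q1925 (flp_j L27252) q2583, e3 q1926 (flp_j L27261) q2584, e3 q1927 L27393 q2600, e3 q1928 L19143 q1928, e3 q1929 L19153 q1929, e3 q1930 L19162 q1930, e3 q1931 L19175 q1931, e3 q1932 L19184 q1932, e3 q1933 L19190 q1933, e3 q1934 L19200 q1934, e3 q1935 L27500 q2612, e3 q1936 L19219 q1936, e3 q1937 L19225 q1937, e3 q1938 L19233 q1938, e3 q1939 L19242 q1939, e3 q1940 L19248 q1940, e3 q1941 L27583 q2623, e3 q1942 (flp_j L19258) q1422, e3 q1943 L19271 q1943, e3 q1944 L19281 q1944, e3 q1945 L19290 q1945, e3 q1946 L19299 q1946, e3 q1947 L19310 q1947, e3 q1948 L19318 q1948, e3 q1949 L19326 q1949, e3 q1950 L27691 q2635, e3 q1951 L19345 q1951, e3 q1952 L19353 q1952, e3 q1953 L19363 q1953, e3 q1954 L19372 q1954, e3 q1955 L19382 q1955, e3 q1956 L27790 q2646, e3 q1957 (flp_j L19391) q1432, e3 q1958 L19406 q1958, e3 q1959 L19415 q1959, e3 q1960 L19422 q1960, e3 q1961 L19431 q1961,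 e3 q1962 L19439 q1962, e3 q1963 L27881 q2657, e3 q1964 L19452 q1964, e3 q1965 L27904 q2660, e3 q1966 L19468 q1966, e3 q1967 L19478 q1967, e3 q1968 (flp_j L19479) q1438, e3 q1969 L19495 q1969, e3 q1970 L19509 q1970, e3 q1971 L19519 q1971, e3 q1972 L19530 q1972, e3 q1973 L19542 q1447, e3 q1974 L19552 q1448, e3 q1975 L19562 q1449, e3 q1976 L19571 q1450, e3 q1977 L19579 q1451, e3 q1978 (flp_j L28000) q2669, e3 q1979 (flp_j L28010) q2670, e3 q1980 (flp_j L28020) q2671, e3 q1981 (flp_j L28029) q2672, e3 q1982 (flp_j L28038) q2673, e3 q1983 (flp_j L28048) q2674, trivial⟩ (by decide +kernel)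

theorem ce_j_31 : ∀ r, r < 64 → sm gj (Qf (1984 + r)) = Qf (tab Gen.j (1984 + r)) :=
  edges_tab (sm gj) Qf (tab Gen.j) 1984 [(1984, 2675), (1985, 1456), (1986, 1457), (1987, 1458), (1988, 1459), (1989, 1460), (1990, 1461), (1991, 2687), (1992, 2688), (1993, 2689), (1994, 2690), (1995, 2691), (1996, 2692), (1997, 2693), (1998, 2694), (1999, 2695), (2000, 2709), (2001, 2001), (2002, 2002), (2003, 2003), (2004, 2004), (2005, 2005), (2006, 2718), (2007, 2007), (2008, 2008), (2009, 2009), (2010, 2010), (2011, 2011), (2012, 2729), (2013, 1471), (2014, 1477), (2015, 1478), (2016, 1479), (2017, 1480), (2018, 1481), (2019, 1482), (2020, 1483), (2021, 2741), (2022, 2730), (2023, 2731), (2024, 2732), (2025, 2733), (2026, 2748), (2027, 2735), (2028, 2736), (2029, 2737), (2030, 2738), (2031, 2739), (2032, 2759), (2033, 1484), (2034, 2034), (2035, 2035), (2036, 2036), (2037, 2037), (2038, 2038), (2039, 2770), (2040, 1489), (2041, 2041), (2042, 2042), (2043, 2043), (2044, 2044), (2045, 2045), (2046, 2781), (2047, 2047)]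
    ⟨e3 q1984 (flp_j L28057) q2675, e3 q1985 L19652 q1456, e3 q1986 L19661 q1457, e3 q1987 L19671 q1458, e3 q1988 L19680 q1459, e3 q1989 L19691 q1460, e3 q1990 L19701 q1461, e3 q1991 (flp_j L28161) q2687, e3 q1992 (flp_j L28173) q2688, e3 q1993 (flp_j L28182) q2689, e3 q1994 (flp_j L28194) q2690, e3 q1995 (flp_j L28205) q2691, e3 q1996 (flp_j L28214) q2692, e3 q1997 (flp_j L28225) q2693, e3 q1998 (flp_j L28232) q2694, e3 q1999 (flp_j L28241) q2695, e3 q2000 L28374 q2709, e3 q2001 L19805 q2001, e3 q2002 L19815 q2002, e3 q2003 L19835 q2003, e3 q2004 L19841 q2004, e3 q2005 L19851 q2005, e3 q2006 L28483 q2718, e3 q2007 L19872 q2007, e3 q2008 L19878 q2008, e3 q2009 L19885 q2009, e3 q2010 L19895 q2010, e3 q2011 L19901 q2011, e3 q2012 L28568 q2729, e3 q2013 (flp_j L19910) q1471, e3 q2014 L19924 q1477, e3 q2015 L19937 q1478, e3 q2016 L19947 q1479, e3 q2017 L19959 q1480, e3 q2018 L19971 q1481, e3 q2019 L19979 q1482, e3 q2020 L19986 q1483, e3 q2021 L28683 q2741, e3 q2022 (flp_j L28582) q2730, e3 q2023 (flp_j L28595) q2731, e3 q2024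 (flp_j L28604) q2732, e3 q2025 (flp_j L28613) q2733, e3 q2026 L28748 q2748, e3 q2027 (flp_j L28637) q2735, e3 q2028 (flp_j L28646) q2736, e3 q2029 (flp_j L28654) q2737, e3 q2030 (flp_j L28664) q2738, e3 q2031 (flp_j L28670) q2739, e3 q2032 L28832 q2759, e3 q2033 (flp_j L20097) q1484, e3 q2034 L20114 q2034, e3 q2035 L20122 q2035, e3 q2036 L20131 q2036, e3 q2037 L20142 q2037, e3 q2038 L20148 q2038, e3 q2039 L28925 q2770, e3 q2040 (flp_j L20160) q1489, e3 q2041 L20176 q2041, e3 q2042 L20184 q2042, e3 q2043 L20191 q2043, e3 q2044 L20200 q2044, e3 q2045 L20205 q2045, e3 q2046 L29011 q2781, e3 q2047 L20221 q2047, trivial⟩ (by decide +kernel)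

theorem ce_j_32 : ∀ r, r < 64 → sm gj (Qf (2048 + r)) = Qf (tab Gen.j (2048 + r)) :=
  edges_tab (sm gj) Qf (tab Gen.j) 2048 [(2048, 2784), (2049, 2049), (2050, 2050), (2051, 1495), (2052, 2052), (2053, 2053), (2054, 2054), (2055, 2055), (2056, 2056), (2057, 2793), (2058, 2058), (2059, 2796), (2060, 2060), (2061, 2061), (2062, 1502), (2063, 2063), (2064, 2064), (2065, 2065), (2066, 2803), (2067, 2067), (2068, 2068), (2069, 2069), (2070, 2809), (2071, 2071), (2072, 2072), (2073, 1509), (2074, 2813), (2075, 2075), (2076, 1511), (2077, 2817), (2078, 2078), (2079, 1520), (2080, 1521), (2081, 1522), (2082, 1523), (2083, 1524), (2084, 2829), (2085, 1519), (2086, 2819), (2087, 2820), (2088, 2821), (2089, 2822), (2090, 2823), (2091, 2840), (2092, 2825), (2093, 2843), (2094, 2827), (2095, 2828), (2096, 1525), (2097, 2097), (2098, 2098), (2099, 2099), (2100, 2852), (2101, 2101), (2102, 2102), (2103, 2103), (2104, 2860), (2105, 2105), (2106, 2106), (2107, 1532), (2108, 2864), (2109, 2109), (2110, 1534), (2111, 2868)]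
    ⟨e3 q2048 L29035 q2784, e3 q2049 L20234 q2049, e3 q2050 L20242 q2050, e3 q2051 (flp_j L20243) q1495, e3 q2052 L20259 q2052, e3 q2053 L20269 q2053, e3 q2054 L20276 q2054, e3 q2055 L20288 q2055, e3 q2056 L20296 q2056, e3 q2057 L29145 q2793, e3 q2058 L20312 q2058, e3 q2059 L29171 q2796, e3 q2060 L20330 q2060, e3 q2061 L20338 q2061, e3 q2062 (flp_j L20341) q1502, e3 q2063 L20356 q2063, e3 q2064 L20366 q2064, e3 q2065 L20373 q2065, e3 q2066 L29258 q2803, e3 q2067 L20393 q2067, e3 q2068 L20400 q2068, e3 q2069 L20406 q2069, e3 q2070 L29313 q2809, e3 q2071 L20420 q2071, e3 q2072 L20430 q2072, e3 q2073 (flp_j L20431) q1509, e3 q2074 L29344 q2813, e3 q2075 L20453 q2075, e3 q2076 (flp_j L20454) q1511, e3 q2077 (flp_j L29378) q2817, e3 q2078 L20479 q2078, e3 q2079 L20488 q1520, e3 q2080 L20496 q1521, e3 q2081 L20506 q1522, e3 q2082 L20516 q1523, e3 q2083 L20525 q1524, e3 q2084 L29482 q2829, e3 q2085 (flp_j L20535) q1519, e3 q2086 (flp_j L29397) q2819, e3 q2087 (flp_j L29408) q2820, e3 q2088 (flp_j L29416) q2821, e3 q2089 (flp_j L29428)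 q2822, e3 q2090 (flp_j L29437) q2823, e3 q2091 L29575 q2840, e3 q2092 (flp_j L29452) q2825, e3 q2093 L29600 q2843, e3 q2094 (flp_j L29471) q2827, e3 q2095 (flp_j L29479) q2828, e3 q2096 (flp_j L20627) q1525, e3 q2097 L20641 q2097, e3 q2098 L20652 q2098, e3 q2099 L20660 q2099, e3 q2100 L29685 q2852, e3 q2101 L20678 q2101, e3 q2102 L20686 q2102, e3 q2103 L20691 q2103, e3 q2104 L29752 q2860, e3 q2105 L20709 q2105, e3 q2106 L20715 q2106, e3 q2107 (flp_j L20717) q1532, e3 q2108 L29782 q2864, e3 q2109 L20743 q2109, e3 q2110 (flp_j L20744) q1534, e3 q2111 (flp_j L29821) q2868, trivial⟩ (by decide +kernel)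

theorem ce_j_33 : ∀ r, r < 64 → sm gj (Qf (2112 + r)) = Qf (tab Gen.j (2112 + r)) :=
  edges_tab (sm gj) Qf (tab Gen.j) 2112 [(2112, 2112), (2113, 2113), (2114, 2872), (2115, 2115), (2116, 2116), (2117, 1540), (2118, 2876), (2119, 2119), (2120, 1542), (2121, 2880), (2122, 2122), (2123, 2882), (2124, 1546), (2125, 2884), (2126, 2126), (2127, 2127), (2128, 1549), (2129, 2889), (2130, 1551), (2131, 2891), (2132, 1553), (2133, 2893), (2134, 2892), (2135, 2135), (2136, 2136), (2137, 1557), (2138, 2138), (2139, 2139), (2140, 2140), (2141, 2141), (2142, 2142), (2143, 2143), (2144, 2144), (2145, 2145), (2146, 1570), (2147, 1571), (2148, 1572), (2149, 1573), (2150, 1574), (2151, 1575), (2152, 1576), (2153, 1577), (2154, 1578), (2155, 2908), (2156, 2909), (2157, 2910), (2158, 2911), (2159, 2912), (2160, 2913), (2161, 2914), (2162, 2915), (2163, 2916), (2164, 2917), (2165, 2918), (2166, 2932), (2167, 1585), (2168, 1586), (2169, 1587), (2170, 1588), (2171, 1589), (2172, 1590), (2173, 1591), (2174, 1592), (2175, 2944)]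
    ⟨e3 q2112 L20764 q2112, e3 q2113 L20772 q2113, e3 q2114 L29849 q2872, e3 q2115 L20793 q2115, e3 q2116 L20802 q2116, e3 q2117 (flp_j L20804) q1540, e3 q2118 L29887 q2876, e3 q2119 L20830 q2119, e3 q2120 (flp_j L20831) q1542, e3 q2121 (flp_j L29928) q2880, e3 q2122 L20856 q2122, e3 q2123 L29939 q2882, e3 q2124 (flp_j L20866) q1546, e3 q2125 (flp_j L29965) q2884, e3 q2126 L20888 q2126, e3 q2127 L20897 q2127, e3 q2128 L20906 q1549, e3 q2129 (flp_j L30003) q2889, e3 q2130 (flp_j L20917) q1551, e3 q2131 (flp_j L30022) q2891, e3 q2132 L20941 q1553, e3 q2133 (flp_j L647435) q2893, e3 q2134 (flp_j L630091) q2892, e3 q2135 L20965 q2135, e3 q2136 L20975 q2136, e3 q2137 L20983 q1557, e3 q2138 L20995 q2138, e3 q2139 L21008 q2139, e3 q2140 L21014 q2140, e3 q2141 L21027 q2141, e3 q2142 L21035 q2142, e3 q2143 L21044 q2143, e3 q2144 L21054 q2144, e3 q2145 L21063 q2145, e3 q2146 L21072 q1570, e3 q2147 L21086 q1571, e3 q2148 L21107 q1572, e3 q2149 L21116 q1573, e3 q2150 L21127 q1574, e3 q2151 L21136 q1575, e3 q2152 L21146 q1576, e3 q2153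 L21155 q1577, e3 q2154 L21163 q1578, e3 q2155 (flp_j L30231) q2908, e3 q2156 (flp_j L30244) q2909, e3 q2157 (flp_j L30275) q2910, e3 q2158 (flp_j L30294) q2911, e3 q2159 (flp_j L30304) q2912, e3 q2160 (flp_j L30314) q2913, e3 q2161 (flp_j L30323) q2914, e3 q2162 (flp_j L30334) q2915, e3 q2163 (flp_j L30343) q2916, e3 q2164 (flp_j L30350) q2917, e3 q2165 (flp_j L30360) q2918, e3 q2166 L30555 q2932, e3 q2167 L21328 q1585, e3 q2168 L21338 q1586, e3 q2169 L21349 q1587, e3 q2170 L21359 q1588, e3 q2171 L21367 q1589, e3 q2172 L21377 q1590, e3 q2173 L21385 q1591, e3 q2174 L21396 q1592, e3 q2175 L30720 q2944, trivial⟩ (by decide +kernel)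

theorem ce_j_34 : ∀ r, r < 64 → sm gj (Qf (2176 + r)) = Qf (tab Gen.j (2176 + r)) :=
  edges_tab (sm gj) Qf (tab Gen.j) 2176 [(2176, 2933), (2177, 2934), (2178, 2935), (2179, 2936), (2180, 2950), (2181, 2938), (2182, 2939), (2183, 2940), (2184, 2941), (2185, 2942), (2186, 2961), (2187, 1593), (2188, 2962), (2189, 2189), (2190, 2190), (2191, 2191), (2192, 2968), (2193, 1598), (2194, 2194), (2195, 2195), (2196, 2196), (2197, 2197), (2198, 2198), (2199, 2979), (2200, 2200), (2201, 2982), (2202, 2202), (2203, 2203), (2204, 1604), (2205, 1614), (2206, 1615), (2207, 1616), (2208, 1617), (2209, 2991), (2210, 1619), (2211, 1620), (2212, 1621), (2213, 1622), (2214, 1623), (2215, 3002), (2216, 1613), (2217, 2985), (2218, 2986), (2219, 2987), (2220, 2988), (2221, 2989), (2222, 3013), (2223, 1618), (2224, 2992), (2225, 2993), (2226, 2994), (2227, 2995), (2228, 2996), (2229, 3022), (2230, 2998), (2231, 3025), (2232, 3000), (2233, 3001), (2234, 1624), (2235, 2235), (2236, 2236), (2237, 2237), (2238, 2238), (2239, 2239)]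
    ⟨e3 q2176 (flp_j L30611) q2933, e3 q2177 (flp_j L30631) q2934, e3 q2178 (flp_j L30640) q2935, e3 q2179 (flp_j L30653) q2936, e3 q2180 L30856 q2950, e3 q2181 (flp_j L30673) q2938, e3 q2182 (flp_j L30681) q2939, e3 q2183 (flp_j L30688) q2940, e3 q2184 (flp_j L30699) q2941, e3 q2185 (flp_j L30709) q2942, e3 q2186 L30946 q2961, e3 q2187 (flp_j L21547) q1593, e3 q2188 L31054 q2962, e3 q2189 L21641 q2189, e3 q2190 L21649 q2190, e3 q2191 L21661 q2191, e3 q2192 L31154 q2968, e3 q2193 (flp_j L21681) q1598, e3 q2194 L21697 q2194, e3 q2195 L21705 q2195, e3 q2196 L21711 q2196, e3 q2197 L21720 q2197, e3 q2198 L21726 q2198, e3 q2199 L31239 q2979, e3 q2200 L21740 q2200, e3 q2201 L31265 q2982, e3 q2202 L21759 q2202, e3 q2203 L21769 q2203, e3 q2204 (flp_j L21770) q1604, e3 q2205 L21784 q1614, e3 q2206 L21796 q1615, e3 q2207 L21806 q1616, e3 q2208 L21817 q1617, e3 q2209 L31355 q2991, e3 q2210 L21839 q1619, e3 q2211 L21848 q1620, e3 q2212 L21855 q1621, e3 q2213 L21866 q1622, e3 q2214 L21874 q1623, e3 q2215 L31454 q3002, e3 q2216 (flp_j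 L21888) q1613, e3 q2217 (flp_j L31300) q2985, e3 q2218 (flp_j L31310) q2986, e3 q2219 (flp_j L31319) q2987, e3 q2220 (flp_j L31331) q2988, e3 q2221 (flp_j L31341) q2989, e3 q2222 L31555 q3013, e3 q2223 (flp_j L21954) q1618, e3 q2224 (flp_j L31373) q2992, e3 q2225 (flp_j L31382) q2993, e3 q2226 (flp_j L31391) q2994, e3 q2227 (flp_j L31399) q2995, e3 q2228 (flp_j L31407) q2996, e3 q2229 L31646 q3022, e3 q2230 (flp_j L31423) q2998, e3 q2231 L31669 q3025, e3 q2232 (flp_j L31440) q3000, e3 q2233 (flp_j L31452) q3001, e3 q2234 (flp_j L22042) q1624, e3 q2235 L22059 q2235, e3 q2236 L22069 q2236, e3 q2237 L22078 q2237, e3 q2238 L22087 q2238, e3 q2239 L22095 q2239, trivial⟩ (by decide +kernel)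

theorem ce_j_35 : ∀ r, r < 64 → sm gj (Qf (2240 + r)) = Qf (tab Gen.j (2240 + r)) :=
  edges_tab (sm gj) Qf (tab Gen.j) 2240 [(2240, 3036), (2241, 2241), (2242, 3039), (2243, 2243), (2244, 2244), (2245, 1631), (2246, 2246), (2247, 2247), (2248, 3045), (2249, 2249), (2250, 2250), (2251, 2251), (2252, 3052), (2253, 2253), (2254, 1638), (2255, 3055), (2256, 2256), (2257, 1640), (2258, 3058), (2259, 2259), (2260, 2260), (2261, 2261), (2262, 2262), (2263, 3064), (2264, 2264), (2265, 2265), (2266, 2266), (2267, 3070), (2268, 2268), (2269, 1649), (2270, 3073), (2271, 2271), (2272, 1651), (2273, 3076), (2274, 2274), (2275, 2275), (2276, 2276), (2277, 3081), (2278, 1656), (2279, 2279), (2280, 3084), (2281, 3086), (2282, 1659), (2283, 3087), (2284, 1661), (2285, 1670), (2286, 1671), (2287, 1672), (2288, 1673), (2289, 1674), (2290, 3096), (2291, 1676), (2292, 3099), (2293, 1678), (2294, 1679), (2295, 1668), (2296, 3088), (2297, 3089), (2298, 3105), (2299, 3091), (2300, 3092), (2301, 3093), (2302, 3112), (2303, 3095)]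
    ⟨e3 q2240 L31782 q3036, e3 q2241 L22110 q2241, e3 q2242 L31810 q3039, e3 q2243 L22130 q2243, e3 q2244 L22138 q2244, e3 q2245 (flp_j L22141) q1631, e3 q2246 L22158 q2246, e3 q2247 L22167 q2247, e3 q2248 L31896 q3045, e3 q2249 L22192 q2249, e3 q2250 L22198 q2250, e3 q2251 L22203 q2251, e3 q2252 L31952 q3052, e3 q2253 L22219 q2253, e3 q2254 (flp_j L22230) q1638, e3 q2255 L31983 q3055, e3 q2256 L22254 q2256, e3 q2257 (flp_j L22256) q1640, e3 q2258 (flp_j L32015) q3058, e3 q2259 L22279 q2259, e3 q2260 L22286 q2260, e3 q2261 L22297 q2261, e3 q2262 L22308 q2262, e3 q2263 L32088 q3064, e3 q2264 L22326 q2264, e3 q2265 L22336 q2265, e3 q2266 L22342 q2266, e3 q2267 L32149 q3070, e3 q2268 L22361 q2268, e3 q2269 (flp_j L22364) q1649, e3 q2270 L32177 q3073, e3 q2271 L22390 q2271, e3 q2272 (flp_j L22392) q1651, e3 q2273 (flp_j L32212) q3076, e3 q2274 L22417 q2274, e3 q2275 L22428 q2275, e3 q2276 L22436 q2276, e3 q2277 L32251 q3081, e3 q2278 (flp_j L22449) q1656, e3 q2279 L22464 q2279, e3 q2280 L32275 q3084, e3 q2281 L32290 q3086, e3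 q2282 (flp_j L22481) q1659, e3 q2283 L32298 q3087, e3 q2284 (flp_j L22498) q1661, e3 q2285 L22514 q1670, e3 q2286 L22525 q1671, e3 q2287 L22534 q1672, e3 q2288 L22544 q1673, e3 q2289 L22554 q1674, e3 q2290 L32402 q3096, e3 q2291 L22568 q1676, e3 q2292 L32431 q3099, e3 q2293 L22590 q1678, e3 q2294 L22600 q1679, e3 q2295 (flp_j L22603) q1668, e3 q2296 (flp_j L32314) q3088, e3 q2297 (flp_j L32325) q3089, e3 q2298 L32527 q3105, e3 q2299 (flp_j L32353) q3091, e3 q2300 (flp_j L32364) q3092, e3 q2301 (flp_j L32370) q3093, e3 q2302 L32592 q3112, e3 q2303 (flp_j L32390) q3095, trivial⟩ (by decide +kernel)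

theorem ce_j_36 : ∀ r, r < 64 → sm gj (Qf (2304 + r)) = Qf (tab Gen.j (2304 + r)) :=
  edges_tab (sm gj) Qf (tab Gen.j) 2304 [(2304, 1675), (2305, 3114), (2306, 3098), (2307, 1677), (2308, 3118), (2309, 3101), (2310, 2310), (2311, 3121), (2312, 1683), (2313, 3122), (2314, 2314), (2315, 2315), (2316, 1686), (2317, 3126), (2318, 1690), (2319, 3127), (2320, 1703), (2321, 1704), (2322, 2322), (2323, 1705), (2324, 1706), (2325, 1707), (2326, 2326), (2327, 1708), (2328, 2328), (2329, 1709), (2330, 2330), (2331, 1710), (2332, 3128), (2333, 3129), (2334, 3131), (2335, 3133), (2336, 3134), (2337, 3136), (2338, 3140), (2339, 3141), (2340, 2340), (2341, 2341), (2342, 2342), (2343, 2343), (2344, 2344), (2345, 2345), (2346, 2346), (2347, 2347), (2348, 2348), (2349, 2349), (2350, 2350), (2351, 2351), (2352, 2352), (2353, 1731), (2354, 1732), (2355, 1733), (2356, 1734), (2357, 1735), (2358, 1736), (2359, 1737), (2360, 1738), (2361, 1739), (2362, 1740), (2363, 3179), (2364, 3167), (2365, 3168), (2366, 3169), (2367, 3170)]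
    ⟨e3 q2304 (flp_j L22699) q1675, e3 q2305 L32616 q3114, e3 q2306 (flp_j L32429) q3098, e3 q2307 (flp_j L22726) q1677, e3 q2308 (flp_j L32660) q3118, e3 q2309 (flp_j L32457) q3101, e3 q2310 L22768 q2310, e3 q2311 L32725 q3121, e3 q2312 (flp_j L22810) q1683, e3 q2313 L32756 q3122, e3 q2314 L22835 q2314, e3 q2315 L22839 q2315, e3 q2316 (flp_j L22849) q1686, e3 q2317 (flp_j L32806) q3126, e3 q2318 L22881 q1690, e3 q2319 (flp_j L32823) q3127, e3 q2320 L22897 q1703, e3 q2321 L22909 q1704, e3 q2322 L22933 q2322, e3 q2323 L22940 q1705, e3 q2324 L22949 q1706, e3 q2325 L22955 q1707, e3 q2326 L22967 q2326, e3 q2327 L22974 q1708, e3 q2328 L22995 q2328, e3 q2329 L23003 q1709, e3 q2330 L23013 q2330, e3 q2331 L23023 q1710, e3 q2332 (flp_j L32843) q3128, e3 q2333 (flp_j L32861) q3129, e3 q2334 (flp_j L32903) q3131, e3 q2335 (flp_j L32922) q3133, e3 q2336 (flp_j L32928) q3134, e3 q2337 (flp_j L32956) q3136, e3 q2338 (flp_j L33000) q3140, e3 q2339 (flp_j L33011) q3141, e3 q2340 L23173 q2340, e3 q2341 L23191 q2341, e3 q2342 L23208 q2342,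 e3 q2343 L23215 q2343, e3 q2344 L23227 q2344, e3 q2345 L23245 q2345, e3 q2346 L23253 q2346, e3 q2347 L23261 q2347, e3 q2348 L23270 q2348, e3 q2349 L23279 q2349, e3 q2350 L23289 q2350, e3 q2351 L23298 q2351, e3 q2352 L23304 q2352, e3 q2353 L23313 q1731, e3 q2354 L23343 q1732, e3 q2355 L23353 q1733, e3 q2356 L23377 q1734, e3 q2357 L23393 q1735, e3 q2358 L23412 q1736, e3 q2359 L23420 q1737, e3 q2360 L23440 q1738, e3 q2361 L23445 q1739, e3 q2362 L23453 q1740, e3 q2363 L33652 q3179, e3 q2364 (flp_j L33431) q3167, e3 q2365 (flp_j L33442) q3168, e3 q2366 (flp_j L33526) q3169, e3 q2367 (flp_j L33554) q3170, trivial⟩ (by decide +kernel)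

theorem ce_j_37 : ∀ r, r < 64 → sm gj (Qf (2368 + r)) = Qf (tab Gen.j (2368 + r)) :=
  edges_tab (sm gj) Qf (tab Gen.j) 2368 [(2368, 3171), (2369, 3172), (2370, 3185), (2371, 3174), (2372, 3175), (2373, 3176), (2374, 3177), (2375, 3193), (2376, 1741), (2377, 1749), (2378, 1750), (2379, 1751), (2380, 3197), (2381, 1753), (2382, 1754), (2383, 1755), (2384, 1756), (2385, 3205), (2386, 1748), (2387, 3206), (2388, 3195), (2389, 3209), (2390, 1752), (2391, 3198), (2392, 3199), (2393, 3200), (2394, 3214), (2395, 3202), (2396, 3217), (2397, 3204), (2398, 1757), (2399, 1759), (2400, 2400), (2401, 3220), (2402, 1761), (2403, 2403), (2404, 2404), (2405, 3225), (2406, 2406), (2407, 1766), (2408, 3228), (2409, 2409), (2410, 1768), (2411, 3231), (2412, 1783), (2413, 1784), (2414, 1785), (2415, 1786), (2416, 1787), (2417, 3239), (2418, 1775), (2419, 1790), (2420, 1791), (2421, 1792), (2422, 3244), (2423, 1794), (2424, 3216), (2425, 1796), (2426, 1781), (2427, 3232), (2428, 3233), (2429, 3234), (2430, 3249), (2431, 3236)]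
    ⟨e3 q2368 (flp_j L33582) q3171, e3 q2369 (flp_j L33592) q3172, e3 q2370 L33879 q3185, e3 q2371 (flp_j L33618) q3174, e3 q2372 (flp_j L33626) q3175, e3 q2373 (flp_j L33636) q3176, e3 q2374 (flp_j L33642) q3177, e3 q2375 L33954 q3193, e3 q2376 (flp_j L23665) q1741, e3 q2377 L23723 q1749, e3 q2378 L23750 q1750, e3 q2379 L23761 q1751, e3 q2380 L34105 q3197, e3 q2381 L23787 q1753, e3 q2382 L23795 q1754, e3 q2383 L23804 q1755, e3 q2384 L23812 q1756, e3 q2385 L34196 q3205, e3 q2386 (flp_j L23821) q1748, e3 q2387 L34314 q3206, e3 q2388 (flp_j L34086) q3195, e3 q2389 L34405 q3209, e3 q2390 (flp_j L23957) q1752, e3 q2391 (flp_j L34135) q3198, e3 q2392 (flp_j L34146) q3199, e3 q2393 (flp_j L34154) q3200, e3 q2394 L34487 q3214, e3 q2395 (flp_j L34168) q3202, e3 q2396 L34508 q3217, e3 q2397 (flp_j L34184) q3204, e3 q2398 (flp_j L24037) q1757, e3 q2399 (flp_j L24153) q1759, e3 q2400 L24215 q2400, e3 q2401 L34817 q3220, e3 q2402 (flp_j L24243) q1761, e3 q2403 L24286 q2403, e3 q2404 L24299 q2404, e3 q2405 L34954 q3225, e3 q2406 L24314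 q2406, e3 q2407 (flp_j L24323) q1766, e3 q2408 L34982 q3228, e3 q2409 L24345 q2409, e3 q2410 (flp_j L24346) q1768, e3 q2411 (flp_j L35018) q3231, e3 q2412 L24374 q1783, e3 q2413 L24384 q1784, e3 q2414 L24394 q1785, e3 q2415 L24404 q1786, e3 q2416 L24412 q1787, e3 q2417 L35118 q3239, e3 q2418 (flp_j L24424) q1775, e3 q2419 L24439 q1790, e3 q2420 L24447 q1791, e3 q2421 L24465 q1792, e3 q2422 L35215 q3244, e3 q2423 L24488 q1794, e3 q2424 L626186 q3216, e3 q2425 L24501 q1796, e3 q2426 (flp_j L24513) q1781, e3 q2427 (flp_j L35033) q3232, e3 q2428 (flp_j L35043) q3233, e3 q2429 (flp_j L35064) q3234, e3 q2430 L35346 q3249, e3 q2431 (flp_j L35089) q3236, trivial⟩ (by decide +kernel)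

theorem ce_j_38 : ∀ r, r < 64 → sm gj (Qf (2432 + r)) = Qf (tab Gen.j (2432 + r)) :=
  edges_tab (sm gj) Qf (tab Gen.j) 2432 [(2432, 3252), (2433, 3238), (2434, 1788), (2435, 3240), (2436, 3256), (2437, 3242), (2438, 3258), (2439, 1793), (2440, 3218), (2441, 3203), (2442, 1795), (2443, 3215), (2444, 2444), (2445, 3261), (2446, 2446), (2447, 3263), (2448, 1801), (2449, 3265), (2450, 2450), (2451, 1803), (2452, 3268), (2453, 2453), (2454, 3270), (2455, 1807), (2456, 3272), (2457, 1809), (2458, 3229), (2459, 1811), (2460, 3227), (2461, 1814), (2462, 2462), (2463, 2463), (2464, 2464), (2465, 2465), (2466, 3279), (2467, 2467), (2468, 1818), (2469, 2469), (2470, 3284), (2471, 2471), (2472, 2472), (2473, 3288), (2474, 2474), (2475, 1822), (2476, 3291), (2477, 3292), (2478, 1825), (2479, 3294), (2480, 2480), (2481, 1828), (2482, 2482), (2483, 2483), (2484, 3301), (2485, 3303), (2486, 1832), (2487, 2487), (2488, 3306), (2489, 1835), (2490, 3307), (2491, 1836), (2492, 1838), (2493, 1848), (2494, 3310), (2495, 1850)]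
    ⟨e3 q2432 L35369 q3252, e3 q2433 (flp_j L35106) q3238, e3 q2434 (flp_j L24603) q1788, e3 q2435 (flp_j L35144) q3240, e3 q2436 L35444 q3256, e3 q2437 (flp_j L35184) q3242, e3 q2438 L35500 q3258, e3 q2439 (flp_j L24689) q1793, e3 q2440 (flp_j L626472) q3218, e3 q2441 (flp_j L626150) q3203, e3 q2442 (flp_j L24709) q1795, e3 q2443 L625982 q3215, e3 q2444 L24744 q2444, e3 q2445 L35630 q3261, e3 q2446 L24782 q2446, e3 q2447 L35694 q3263, e3 q2448 (flp_j L24813) q1801, e3 q2449 L35727 q3265, e3 q2450 L24837 q2450, e3 q2451 (flp_j L24838) q1803, e3 q2452 (flp_j L35760) q3268, e3 q2453 L24883 q2453, e3 q2454 L35839 q3270, e3 q2455 (flp_j L24910) q1807, e3 q2456 L35932 q3272, e3 q2457 (flp_j L24967) q1809, e3 q2458 (flp_j L626479) q3229, e3 q2459 (flp_j L24996) q1811, e3 q2460 L624110 q3227, e3 q2461 L25020 q1814, e3 q2462 L25035 q2462, e3 q2463 L25046 q2463, e3 q2464 L25057 q2464, e3 q2465 L25063 q2465, e3 q2466 L36084 q3279, e3 q2467 L25082 q2467, e3 q2468 (flp_j L25085) q1818, e3 q2469 L25100 q2469, e3 q2470 L36130 q3284, e3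 q2471 L25120 q2471, e3 q2472 L25126 q2472, e3 q2473 L36175 q3288, e3 q2474 L25145 q2474, e3 q2475 (flp_j L25147) q1822, e3 q2476 (flp_j L36207) q3291, e3 q2477 L36211 q3292, e3 q2478 (flp_j L25173) q1825, e3 q2479 (flp_j L36233) q3294, e3 q2480 L25192 q2480, e3 q2481 L25200 q1828, e3 q2482 L25210 q2482, e3 q2483 L25218 q2483, e3 q2484 L36281 q3301, e3 q2485 L36298 q3303, e3 q2486 (flp_j L25237) q1832, e3 q2487 L25250 q2487, e3 q2488 L36327 q3306, e3 q2489 (flp_j L25260) q1835, e3 q2490 L36336 q3307, e3 q2491 (flp_j L25276) q1836, e3 q2492 (flp_j L25284) q1838, e3 q2493 L25308 q1848, e3 q2494 L36418 q3310, e3 q2495 L25351 q1850, trivial⟩ (by decide +kernel)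

theorem ce_j_39 : ∀ r, r < 64 → sm gj (Qf (2496 + r)) = Qf (tab Gen.j (2496 + r)) :=
  edges_tab (sm gj) Qf (tab Gen.j) 2496 [(2496, 3312), (2497, 1843), (2498, 3192), (2499, 1854), (2500, 1845), (2501, 3190), (2502, 3308), (2503, 3314), (2504, 1849), (2505, 3315), (2506, 1851), (2507, 1853), (2508, 3191), (2509, 3178), (2510, 1856), (2511, 1857), (2512, 1868), (2513, 2513), (2514, 2514), (2515, 2515), (2516, 2516), (2517, 1869), (2518, 3166), (2519, 2519), (2520, 2520), (2521, 2521), (2522, 2522), (2523, 1876), (2524, 2524), (2525, 2525), (2526, 1879), (2527, 3323), (2528, 2528), (2529, 1882), (2530, 3327), (2531, 3328), (2532, 1884), (2533, 1885), (2534, 3332), (2535, 3333), (2536, 3334), (2537, 2537), (2538, 2538), (2539, 2539), (2540, 2540), (2541, 3346), (2542, 2542), (2543, 2543), (2544, 1893), (2545, 1894), (2546, 1895), (2547, 3350), (2548, 3351), (2549, 3352), (2550, 3353), (2551, 3354), (2552, 1899), (2553, 1900), (2554, 1901), (2555, 1902), (2556, 1903), (2557, 3363), (2558, 3364), (2559, 3365)]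
    ⟨e3 q2496 L36491 q3312, e3 q2497 (flp_j L25383) q1843, e3 q2498 L625703 q3192, e3 q2499 L25407 q1854, e3 q2500 (flp_j L25409) q1845, e3 q2501 (flp_j L625822) q3190, e3 q2502 (flp_j L36386) q3308, e3 q2503 L36651 q3314, e3 q2504 (flp_j L25491) q1849, e3 q2505 L36748 q3315, e3 q2506 (flp_j L25557) q1851, e3 q2507 (flp_j L25581) q1853, e3 q2508 (flp_j L625841) q3191, e3 q2509 L627185 q3178, e3 q2510 L25615 q1856, e3 q2511 (flp_j L25677) q1857, e3 q2512 L25806 q1868, e3 q2513 L25818 q2513, e3 q2514 L25890 q2514, e3 q2515 L25922 q2515, e3 q2516 L25932 q2516, e3 q2517 L25935 q1869, e3 q2518 (flp_j L601982) q3166, e3 q2519 L26234 q2519, e3 q2520 L26342 q2520, e3 q2521 L26392 q2521, e3 q2522 L26398 q2522, e3 q2523 L26416 q1876, e3 q2524 L26707 q2524, e3 q2525 L26721 q2525, e3 q2526 L26730 q1879, e3 q2527 (flp_j L38327) q3323, e3 q2528 L26749 q2528, e3 q2529 L26757 q1882, e3 q2530 (flp_j L38364) q3327, e3 q2531 (flp_j L38374) q3328, e3 q2532 L26784 q1884, e3 q2533 L26795 q1885, e3 q2534 (flp_j L38411) q3332, e3 q2535 (flp_j L38423)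 q3333, e3 q2536 (flp_j L38433) q3334, e3 q2537 L26833 q2537, e3 q2538 L26843 q2538, e3 q2539 L26850 q2539, e3 q2540 L26859 q2540, e3 q2541 L38536 q3346, e3 q2542 L26883 q2542, e3 q2543 L26893 q2543, e3 q2544 L26900 q1893, e3 q2545 L26910 q1894, e3 q2546 L26918 q1895, e3 q2547 (flp_j L38579) q3350, e3 q2548 (flp_j L38590) q3351, e3 q2549 (flp_j L38602) q3352, e3 q2550 (flp_j L38610) q3353, e3 q2551 (flp_j L38617) q3354, e3 q2552 L26966 q1899, e3 q2553 L26978 q1900, e3 q2554 L26990 q1901, e3 q2555 L26999 q1902, e3 q2556 L27007 q1903, e3 q2557 (flp_j L38693) q3363, e3 q2558 (flp_j L38705) q3364, e3 q2559 (flp_j L38716) q3365, trivial⟩ (by decide +kernel)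

theorem ce_j_40 : ∀ r, r < 64 → sm gj (Qf (2560 + r)) = Qf (tab Gen.j (2560 + r)) :=
  edges_tab (sm gj) Qf (tab Gen.j) 2560 [(2560, 3366), (2561, 3367), (2562, 3368), (2563, 3369), (2564, 3381), (2565, 2565), (2566, 2566), (2567, 2567), (2568, 3387), (2569, 2569), (2570, 2570), (2571, 2571), (2572, 2572), (2573, 2573), (2574, 3398), (2575, 1911), (2576, 1918), (2577, 1919), (2578, 1920), (2579, 1921), (2580, 1922), (2581, 1923), (2582, 1924), (2583, 1925), (2584, 1926), (2585, 3413), (2586, 3399), (2587, 3400), (2588, 3401), (2589, 3402), (2590, 3403), (2591, 3404), (2592, 3405), (2593, 3425), (2594, 3407), (2595, 3408), (2596, 3409), (2597, 3410), (2598, 3411), (2599, 3436), (2600, 1927), (2601, 2601), (2602, 2602), (2603, 2603), (2604, 2604), (2605, 3443), (2606, 2606), (2607, 2607), (2608, 2608), (2609, 2609), (2610, 2610), (2611, 3454), (2612, 1935), (2613, 2613), (2614, 2614), (2615, 2615), (2616, 2616), (2617, 2617), (2618, 3465), (2619, 2619), (2620, 3468), (2621, 2621), (2622, 2622), (2623, 1941)]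
    ⟨e3 q2560 (flp_j L38727) q3366, e3 q2561 (flp_j L38736) q3367, e3 q2562 (flp_j L38742) q3368, e3 q2563 (flp_j L38753) q3369, e3 q2564 L38857 q3381, e3 q2565 L27091 q2565, e3 q2566 L27098 q2566, e3 q2567 L27110 q2567, e3 q2568 L38922 q3387, e3 q2569 L27131 q2569, e3 q2570 L27136 q2570, e3 q2571 L27144 q2571, e3 q2572 L27153 q2572, e3 q2573 L27161 q2573, e3 q2574 L39009 q3398, e3 q2575 (flp_j L27168) q1911, e3 q2576 L27181 q1918, e3 q2577 L27192 q1919, e3 q2578 L27204 q1920, e3 q2579 L27215 q1921, e3 q2580 L27223 q1922, e3 q2581 L27235 q1923, e3 q2582 L27245 q1924, e3 q2583 L27252 q1925, e3 q2584 L27261 q1926, e3 q2585 L39151 q3413, e3 q2586 (flp_j L39021) q3399, e3 q2587 (flp_j L39033) q3400, e3 q2588 (flp_j L39043) q3401, e3 q2589 (flp_j L39056) q3402, e3 q2590 (flp_j L39067) q3403, e3 q2591 (flp_j L39075) q3404, e3 q2592 (flp_j L39086) q3405, e3 q2593 L39261 q3425, e3 q2594 (flp_j L39106) q3407, e3 q2595 (flp_j L39114) q3408, e3 q2596 (flp_j L39123) q3409, e3 q2597 (flp_j L39132) q3410, e3 q2598 (flp_j L39140) q3411,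 e3 q2599 L39345 q3436, e3 q2600 (flp_j L27393) q1927, e3 q2601 L27407 q2601, e3 q2602 L27417 q2602, e3 q2603 L27424 q2603, e3 q2604 L27433 q2604, e3 q2605 L39408 q3443, e3 q2606 L27455 q2606, e3 q2607 L27462 q2607, e3 q2608 L27472 q2608, e3 q2609 L27482 q2609, e3 q2610 L27490 q2610, e3 q2611 L39504 q3454, e3 q2612 (flp_j L27500) q1935, e3 q2613 L27514 q2613, e3 q2614 L27523 q2614, e3 q2615 L27531 q2615, e3 q2616 L27539 q2616, e3 q2617 L27546 q2617, e3 q2618 L39592 q3465, e3 q2619 L27559 q2619, e3 q2620 L39616 q3468, e3 q2621 L27574 q2621, e3 q2622 L27582 q2622, e3 q2623 (flp_j L27583) q1941, trivial⟩ (by decide +kernel)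

theorem ce_j_41 : ∀ r, r < 64 → sm gj (Qf (2624 + r)) = Qf (tab Gen.j (2624 + r)) :=
  edges_tab (sm gj) Qf (tab Gen.j) 2624 [(2624, 2624), (2625, 2625), (2626, 2626), (2627, 2627), (2628, 3474), (2629, 2629), (2630, 2630), (2631, 2631), (2632, 2632), (2633, 2633), (2634, 3481), (2635, 1950), (2636, 2636), (2637, 2637), (2638, 2638), (2639, 2639), (2640, 2640), (2641, 3488), (2642, 2642), (2643, 3491), (2644, 2644), (2645, 2645), (2646, 1956), (2647, 2647), (2648, 2648), (2649, 2649), (2650, 3498), (2651, 2651), (2652, 2652), (2653, 2653), (2654, 3504), (2655, 2655), (2656, 2656), (2657, 1963), (2658, 3508), (2659, 2659), (2660, 1965), (2661, 3512), (2662, 2662), (2663, 2663), (2664, 2664), (2665, 2665), (2666, 2666), (2667, 2667), (2668, 2668), (2669, 1978), (2670, 1979), (2671, 1980), (2672, 1981), (2673, 1982), (2674, 1983), (2675, 1984), (2676, 3522), (2677, 3523), (2678, 3524), (2679, 3525), (2680, 3526), (2681, 3527), (2682, 3528), (2683, 3529), (2684, 3530), (2685, 3531), (2686, 3547), (2687, 1991)]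
    ⟨e3 q2624 L27598 q2624, e3 q2625 L27608 q2625, e3 q2626 L27615 q2626, e3 q2627 L27625 q2627, e3 q2628 L39689 q3474, e3 q2629 L27646 q2629, e3 q2630 L27655 q2630, e3 q2631 L27663 q2631, e3 q2632 L27672 q2632, e3 q2633 L27679 q2633, e3 q2634 L39782 q3481, e3 q2635 (flp_j L27691) q1950, e3 q2636 L27706 q2636, e3 q2637 L27717 q2637, e3 q2638 L27725 q2638, e3 q2639 L27736 q2639, e3 q2640 L27746 q2640, e3 q2641 L39884 q3488, e3 q2642 L27759 q2642, e3 q2643 L39910 q3491, e3 q2644 L27779 q2644, e3 q2645 L27787 q2645, e3 q2646 (flp_j L27790) q1956, e3 q2647 L27806 q2647, e3 q2648 L27815 q2648, e3 q2649 L27824 q2649, e3 q2650 L39998 q3498, e3 q2651 L27840 q2651, e3 q2652 L27849 q2652, e3 q2653 L27854 q2653, e3 q2654 L40062 q3504, e3 q2655 L27870 q2655, e3 q2656 L27880 q2656, e3 q2657 (flp_j L27881) q1963, e3 q2658 L40093 q3508, e3 q2659 L27903 q2659, e3 q2660 (flp_j L27904) q1965, e3 q2661 (flp_j L40130) q3512, e3 q2662 L27927 q2662, e3 q2663 L27935 q2663, e3 q2664 L27950 q2664, e3 q2665 L27960 q2665, e3 q2666 L27970 q2666, e3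 q2667 L27979 q2667, e3 q2668 L27988 q2668, e3 q2669 L28000 q1978, e3 q2670 L28010 q1979, e3 q2671 L28020 q1980, e3 q2672 L28029 q1981, e3 q2673 L28038 q1982, e3 q2674 L28048 q1983, e3 q2675 L28057 q1984, e3 q2676 (flp_j L40230) q3522, e3 q2677 (flp_j L40239) q3523, e3 q2678 (flp_j L40250) q3524, e3 q2679 (flp_j L40259) q3525, e3 q2680 (flp_j L40270) q3526, e3 q2681 (flp_j L40280) q3527, e3 q2682 (flp_j L40292) q3528, e3 q2683 (flp_j L40302) q3529, e3 q2684 (flp_j L40308) q3530, e3 q2685 (flp_j L40316) q3531, e3 q2686 L40468 q3547, e3 q2687 L28161 q1991, trivial⟩ (by decide +kernel)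

theorem ce_j_42 : ∀ r, r < 64 → sm gj (Qf (2688 + r)) = Qf (tab Gen.j (2688 + r)) :=
  edges_tab (sm gj) Qf (tab Gen.j) 2688 [(2688, 1992), (2689, 1993), (2690, 1994), (2691, 1995), (2692, 1996), (2693, 1997), (2694, 1998), (2695, 1999), (2696, 3560), (2697, 3548), (2698, 3549), (2699, 3550), (2700, 3551), (2701, 3552), (2702, 3569), (2703, 3554), (2704, 3555), (2705, 3556), (2706, 3557), (2707, 3558), (2708, 3580), (2709, 2000), (2710, 2710), (2711, 2711), (2712, 3584), (2713, 2713), (2714, 2714), (2715, 2715), (2716, 2716), (2717, 3593), (2718, 2006), (2719, 2719), (2720, 2720), (2721, 2721), (2722, 2722), (2723, 2723), (2724, 3604), (2725, 2725), (2726, 3607), (2727, 2727), (2728, 2728), (2729, 2012), (2730, 2022), (2731, 2023), (2732, 2024), (2733, 2025), (2734, 3616), (2735, 2027), (2736, 2028), (2737, 2029), (2738, 2030), (2739, 2031), (2740, 3627), (2741, 2021), (2742, 3610), (2743, 3611), (2744, 3612), (2745, 3613), (2746, 3614), (2747, 3638), (2748, 2026), (2749, 3617), (2750, 3618), (2751, 3619)]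
    ⟨e3 q2688 L28173 q1992, e3 q2689 L28182 q1993, e3 q2690 L28194 q1994, e3 q2691 L28205 q1995, e3 q2692 L28214 q1996, e3 q2693 L28225 q1997, e3 q2694 L28232 q1998, e3 q2695 L28241 q1999, e3 q2696 L40613 q3560, e3 q2697 (flp_j L40495) q3548, e3 q2698 (flp_j L40506) q3549, e3 q2699 (flp_j L40528) q3550, e3 q2700 (flp_j L40536) q3551, e3 q2701 (flp_j L40547) q3552, e3 q2702 L40725 q3569, e3 q2703 (flp_j L40569) q3554, e3 q2704 (flp_j L40577) q3555, e3 q2705 (flp_j L40585) q3556, e3 q2706 (flp_j L40595) q3557, e3 q2707 (flp_j L40603) q3558, e3 q2708 L40811 q3580, e3 q2709 (flp_j L28374) q2000, e3 q2710 L28408 q2710, e3 q2711 L28417 q2711, e3 q2712 L40873 q3584, e3 q2713 L28446 q2713, e3 q2714 L28455 q2714, e3 q2715 L28466 q2715, e3 q2716 L28474 q2716, e3 q2717 L40969 q3593, e3 q2718 (flp_j L28483) q2006, e3 q2719 L28499 q2719, e3 q2720 L28507 q2720, e3 q2721 L28512 q2721, e3 q2722 L28523 q2722, e3 q2723 L28528 q2723, e3 q2724 L41051 q3604, e3 q2725 L28543 q2725, e3 q2726 L41076 q3607, e3 q2727 L28559 q2727, e3 q2728 L28567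 q2728, e3 q2729 (flp_j L28568) q2012, e3 q2730 L28582 q2022, e3 q2731 L28595 q2023, e3 q2732 L28604 q2024, e3 q2733 L28613 q2025, e3 q2734 L41161 q3616, e3 q2735 L28637 q2027, e3 q2736 L28646 q2028, e3 q2737 L28654 q2029, e3 q2738 L28664 q2030, e3 q2739 L28670 q2031, e3 q2740 L41256 q3627, e3 q2741 (flp_j L28683) q2021, e3 q2742 (flp_j L41109) q3610, e3 q2743 (flp_j L41119) q3611, e3 q2744 (flp_j L41129) q3612, e3 q2745 (flp_j L41140) q3613, e3 q2746 (flp_j L41148) q3614, e3 q2747 L41351 q3638, e3 q2748 (flp_j L28748) q2026, e3 q2749 (flp_j L41179) q3617, e3 q2750 (flp_j L41188) q3618, e3 q2751 (flp_j L41196) q3619, trivial⟩ (by decide +kernel)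

theorem ce_j_43 : ∀ r, r < 64 → sm gj (Qf (2752 + r)) = Qf (tab Gen.j (2752 + r)) :=
  edges_tab (sm gj) Qf (tab Gen.j) 2752 [(2752, 3620), (2753, 3621), (2754, 3649), (2755, 3623), (2756, 3652), (2757, 3625), (2758, 3626), (2759, 2032), (2760, 2760), (2761, 2761), (2762, 2762), (2763, 2763), (2764, 2764), (2765, 3665), (2766, 2766), (2767, 3668), (2768, 2768), (2769, 2769), (2770, 2039), (2771, 2771), (2772, 2772), (2773, 2773), (2774, 3678), (2775, 2775), (2776, 2776), (2777, 2777), (2778, 3686), (2779, 2779), (2780, 2780), (2781, 2046), (2782, 3690), (2783, 2783), (2784, 2048), (2785, 3694), (2786, 2786), (2787, 2787), (2788, 3698), (2789, 2789), (2790, 2790), (2791, 3703), (2792, 2792), (2793, 2057), (2794, 3706), (2795, 2795), (2796, 2059), (2797, 3710), (2798, 2798), (2799, 2799), (2800, 2800), (2801, 3716), (2802, 2802), (2803, 2066), (2804, 2804), (2805, 3721), (2806, 2806), (2807, 3724), (2808, 2808), (2809, 2070), (2810, 3728), (2811, 2811), (2812, 3730), (2813, 2074), (2814, 3732), (2815, 2815)]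
    ⟨e3 q2752 (flp_j L41206) q3620, e3 q2753 (flp_j L41213) q3621, e3 q2754 L41439 q3649, e3 q2755 (flp_j L41230) q3623, e3 q2756 L41461 q3652, e3 q2757 (flp_j L41244) q3625, e3 q2758 (flp_j L41254) q3626, e3 q2759 (flp_j L28832) q2032, e3 q2760 L28847 q2760, e3 q2761 L28857 q2761, e3 q2762 L28865 q2762, e3 q2763 L28876 q2763, e3 q2764 L28883 q2764, e3 q2765 L41569 q3665, e3 q2766 L28899 q2766, e3 q2767 L41596 q3668, e3 q2768 L28916 q2768, e3 q2769 L28922 q2769, e3 q2770 (flp_j L28925) q2039, e3 q2771 L28940 q2771, e3 q2772 L28950 q2772, e3 q2773 L28956 q2773, e3 q2774 L41674 q3678, e3 q2775 L28976 q2775, e3 q2776 L28981 q2776, e3 q2777 L28986 q2777, e3 q2778 L41731 q3686, e3 q2779 L29001 q2779, e3 q2780 L29010 q2780, e3 q2781 (flp_j L29011) q2046, e3 q2782 L41760 q3690, e3 q2783 L29034 q2783, e3 q2784 (flp_j L29035) q2048, e3 q2785 (flp_j L41793) q3694, e3 q2786 L29055 q2786, e3 q2787 L29073 q2787, e3 q2788 L41870 q3698, e3 q2789 L29102 q2789, e3 q2790 L29116 q2790, e3 q2791 L41940 q3703, e3 q2792 L29134 q2792, e3 q2793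 (flp_j L29145) q2057, e3 q2794 L41975 q3706, e3 q2795 L29170 q2795, e3 q2796 (flp_j L29171) q2059, e3 q2797 (flp_j L42012) q3710, e3 q2798 L29196 q2798, e3 q2799 L29215 q2799, e3 q2800 L29230 q2800, e3 q2801 L42093 q3716, e3 q2802 L29246 q2802, e3 q2803 (flp_j L29258) q2066, e3 q2804 L29274 q2804, e3 q2805 L42143 q3721, e3 q2806 L29290 q2806, e3 q2807 L42175 q3724, e3 q2808 L29312 q2808, e3 q2809 (flp_j L29313) q2070, e3 q2810 (flp_j L42210) q3728, e3 q2811 L29338 q2811, e3 q2812 L42223 q3730, e3 q2813 (flp_j L29344) q2074, e3 q2814 (flp_j L42244) q3732, e3 q2815 L29362 q2815, trivial⟩ (by decide +kernel)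

theorem ce_j_44 : ∀ r, r < 64 → sm gj (Qf (2816 + r)) = Qf (tab Gen.j (2816 + r)) :=
  edges_tab (sm gj) Qf (tab Gen.j) 2816 [(2816, 2816), (2817, 2077), (2818, 3737), (2819, 2086), (2820, 2087), (2821, 2088), (2822, 2089), (2823, 2090), (2824, 3748), (2825, 2092), (2826, 3751), (2827, 2094), (2828, 2095), (2829, 2084), (2830, 3738), (2831, 3739), (2832, 3740), (2833, 3760), (2834, 3742), (2835, 3743), (2836, 3744), (2837, 3768), (2838, 3746), (2839, 3747), (2840, 2091), (2841, 3772), (2842, 3750), (2843, 2093), (2844, 3776), (2845, 3753), (2846, 2846), (2847, 2847), (2848, 2848), (2849, 3784), (2850, 2850), (2851, 2851), (2852, 2100), (2853, 2853), (2854, 3789), (2855, 2855), (2856, 2856), (2857, 2857), (2858, 3796), (2859, 2859), (2860, 2104), (2861, 3800), (2862, 2862), (2863, 3802), (2864, 2108), (2865, 3804), (2866, 2866), (2867, 2867), (2868, 2111), (2869, 3809), (2870, 3811), (2871, 2871), (2872, 2114), (2873, 3815), (2874, 2874), (2875, 3817), (2876, 2118), (2877, 3819), (2878, 2878), (2879, 2879)]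
    ⟨e3 q2816 L29371 q2816, e3 q2817 L29378 q2077, e3 q2818 (flp_j L42284) q3737, e3 q2819 L29397 q2086, e3 q2820 L29408 q2087, e3 q2821 L29416 q2088, e3 q2822 L29428 q2089, e3 q2823 L29437 q2090, e3 q2824 L42379 q3748, e3 q2825 L29452 q2092, e3 q2826 L42407 q3751, e3 q2827 L29471 q2094, e3 q2828 L29479 q2095, e3 q2829 (flp_j L29482) q2084, e3 q2830 (flp_j L42292) q3738, e3 q2831 (flp_j L42304) q3739, e3 q2832 (flp_j L42314) q3740, e3 q2833 L42495 q3760, e3 q2834 (flp_j L42333) q3742, e3 q2835 (flp_j L42343) q3743, e3 q2836 (flp_j L42349) q3744, e3 q2837 L42561 q3768, e3 q2838 (flp_j L42368) q3746, e3 q2839 (flp_j L42376) q3747, e3 q2840 (flp_j L29575) q2091, e3 q2841 L42594 q3772, e3 q2842 (flp_j L42405) q3750, e3 q2843 (flp_j L29600) q2093, e3 q2844 (flp_j L42629) q3776, e3 q2845 (flp_j L42430) q3753, e3 q2846 L29641 q2846, e3 q2847 L29650 q2847, e3 q2848 L29656 q2848, e3 q2849 L42721 q3784, e3 q2850 L29676 q2850, e3 q2851 L29683 q2851, e3 q2852 (flp_j L29685) q2100, e3 q2853 L29701 q2853, e3 q2854 L42764 q3789, e3 q2855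 L29720 q2855, e3 q2856 L29724 q2856, e3 q2857 L29733 q2857, e3 q2858 L42818 q3796, e3 q2859 L29751 q2859, e3 q2860 (flp_j L29752) q2104, e3 q2861 (flp_j L42858) q3800, e3 q2862 L29772 q2862, e3 q2863 L42867 q3802, e3 q2864 (flp_j L29782) q2108, e3 q2865 (flp_j L42890) q3804, e3 q2866 L29804 q2866, e3 q2867 L29814 q2867, e3 q2868 L29821 q2111, e3 q2869 (flp_j L42928) q3809, e3 q2870 L42940 q3811, e3 q2871 L29848 q2871, e3 q2872 (flp_j L29849) q2114, e3 q2873 (flp_j L42986) q3815, e3 q2874 L29877 q2874, e3 q2875 L42998 q3817, e3 q2876 (flp_j L29887) q2118, e3 q2877 (flp_j L43024) q3819, e3 q2878 L29910 q2878, e3 q2879 L29919 q2879, trivial⟩ (by decide +kernel)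

theorem ce_j_45 : ∀ r, r < 64 → sm gj (Qf (2880 + r)) = Qf (tab Gen.j (2880 + r)) :=
  edges_tab (sm gj) Qf (tab Gen.j) 2880 [(2880, 2121), (2881, 3824), (2882, 2123), (2883, 3826), (2884, 2125), (2885, 3829), (2886, 3830), (2887, 2887), (2888, 2888), (2889, 2129), (2890, 2890), (2891, 2131), (2892, 2134), (2893, 2133), (2894, 3828), (2895, 2895), (2896, 2896), (2897, 2897), (2898, 2898), (2899, 2899), (2900, 2900), (2901, 2901), (2902, 2902), (2903, 2903), (2904, 2904), (2905, 2905), (2906, 2906), (2907, 2907), (2908, 2155), (2909, 2156), (2910, 2157), (2911, 2158), (2912, 2159), (2913, 2160), (2914, 2161), (2915, 2162), (2916, 2163), (2917, 2164), (2918, 2165), (2919, 3866), (2920, 3854), (2921, 3855), (2922, 3856), (2923, 3857), (2924, 3858), (2925, 3873), (2926, 3860), (2927, 3861), (2928, 3862), (2929, 3863), (2930, 3864), (2931, 3883), (2932, 2166), (2933, 2176), (2934, 2177), (2935, 2178), (2936, 2179), (2937, 3889), (2938, 2181), (2939, 2182), (2940, 2183), (2941, 2184), (2942, 2185), (2943, 3900)]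
    ⟨e3 q2880 L29928 q2121, e3 q2881 (flp_j L43062) q3824, e3 q2882 (flp_j L29939) q2123, e3 q2883 (flp_j L43082) q3826, e3 q2884 L29965 q2125, e3 q2885 (flp_j L43104) q3829, e3 q2886 (flp_j L43114) q3830, e3 q2887 L29986 q2887, e3 q2888 L29995 q2888, e3 q2889 L30003 q2129, e3 q2890 L30014 q2890, e3 q2891 L30022 q2131, e3 q2892 L630091 q2134, e3 q2893 L647435 q2133, e3 q2894 L647546 q3828, e3 q2895 L30080 q2895, e3 q2896 L30090 q2896, e3 q2897 L30107 q2897, e3 q2898 L30117 q2898, e3 q2899 L30132 q2899, e3 q2900 L30154 q2900, e3 q2901 L30163 q2901, e3 q2902 L30172 q2902, e3 q2903 L30183 q2903, e3 q2904 L30193 q2904, e3 q2905 L30203 q2905, e3 q2906 L30213 q2906, e3 q2907 L30220 q2907, e3 q2908 L30231 q2155, e3 q2909 L30244 q2156, e3 q2910 L30275 q2157, e3 q2911 L30294 q2158, e3 q2912 L30304 q2159, e3 q2913 L30314 q2160, e3 q2914 L30323 q2161, e3 q2915 L30334 q2162, e3 q2916 L30343 q2163, e3 q2917 L30350 q2164, e3 q2918 L30360 q2165, e3 q2919 L43657 q3866, e3 q2920 (flp_j L43518) q3854, e3 q2921 (flp_j L43548) q3855, e3 q2922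 (flp_j L43570) q3856, e3 q2923 (flp_j L43578) q3857, e3 q2924 (flp_j L43590) q3858, e3 q2925 L43854 q3873, e3 q2926 (flp_j L43611) q3860, e3 q2927 (flp_j L43618) q3861, e3 q2928 (flp_j L43625) q3862, e3 q2929 (flp_j L43637) q3863, e3 q2930 (flp_j L43645) q3864, e3 q2931 L43939 q3883, e3 q2932 (flp_j L30555) q2166, e3 q2933 L30611 q2176, e3 q2934 L30631 q2177, e3 q2935 L30640 q2178, e3 q2936 L30653 q2179, e3 q2937 L44089 q3889, e3 q2938 L30673 q2181, e3 q2939 L30681 q2182, e3 q2940 L30688 q2183, e3 q2941 L30699 q2184, e3 q2942 L30709 q2185, e3 q2943 L44190 q3900, trivial⟩ (by decide +kernel)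

theorem ce_j_46 : ∀ r, r < 64 → sm gj (Qf (2944 + r)) = Qf (tab Gen.j (2944 + r)) :=
  edges_tab (sm gj) Qf (tab Gen.j) 2944 [(2944, 2175), (2945, 3901), (2946, 3885), (2947, 3886), (2948, 3887), (2949, 3907), (2950, 2180), (2951, 3890), (2952, 3891), (2953, 3892), (2954, 3893), (2955, 3894), (2956, 3918), (2957, 3896), (2958, 3921), (2959, 3898), (2960, 3899), (2961, 2186), (2962, 2188), (2963, 2963), (2964, 2964), (2965, 3927), (2966, 2966), (2967, 3929), (2968, 2192), (2969, 2969), (2970, 2970), (2971, 2971), (2972, 3936), (2973, 2973), (2974, 2974), (2975, 2975), (2976, 3943), (2977, 2977), (2978, 2978), (2979, 2199), (2980, 3947), (2981, 2981), (2982, 2201), (2983, 3951), (2984, 2984), (2985, 2217), (2986, 2218), (2987, 2219), (2988, 2220), (2989, 2221), (2990, 3963), (2991, 2209), (2992, 2224), (2993, 2225), (2994, 2226), (2995, 2227), (2996, 2228), (2997, 3972), (2998, 2230), (2999, 3920), (3000, 2232), (3001, 2233), (3002, 2215), (3003, 3953), (3004, 3954), (3005, 3955), (3006, 3956), (3007, 3957)]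
    ⟨e3 q2944 (flp_j L30720) q2175, e3 q2945 L44301 q3901, e3 q2946 (flp_j L44045) q3885, e3 q2947 (flp_j L44054) q3886, e3 q2948 (flp_j L44066) q3887, e3 q2949 L44402 q3907, e3 q2950 (flp_j L30856) q2180, e3 q2951 (flp_j L44107) q3890, e3 q2952 (flp_j L44116) q3891, e3 q2953 (flp_j L44123) q3892, e3 q2954 (flp_j L44133) q3893, e3 q2955 (flp_j L44141) q3894, e3 q2956 L44489 q3918, e3 q2957 (flp_j L44156) q3896, e3 q2958 L44513 q3921, e3 q2959 (flp_j L44176) q3898, e3 q2960 (flp_j L44188) q3899, e3 q2961 (flp_j L30946) q2186, e3 q2962 (flp_j L31054) q2188, e3 q2963 L31087 q2963, e3 q2964 L31098 q2964, e3 q2965 L44785 q3927, e3 q2966 L31120 q2966, e3 q2967 L44814 q3929, e3 q2968 (flp_j L31154) q2192, e3 q2969 L31169 q2969, e3 q2970 L31178 q2970, e3 q2971 L31186 q2971, e3 q2972 L44903 q3936, e3 q2973 L31202 q2973, e3 q2974 L31210 q2974, e3 q2975 L31215 q2975, e3 q2976 L44964 q3943, e3 q2977 L31230 q2977, e3 q2978 L31238 q2978, e3 q2979 (flp_j L31239) q2199, e3 q2980 L44994 q3947, e3 q2981 L31264 q2981, e3 q2982 (flp_j L31265)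 q2201, e3 q2983 (flp_j L45040) q3951, e3 q2984 L31292 q2984, e3 q2985 L31300 q2217, e3 q2986 L31310 q2218, e3 q2987 L31319 q2219, e3 q2988 L31331 q2220, e3 q2989 L31341 q2221, e3 q2990 L45151 q3963, e3 q2991 (flp_j L31355) q2209, e3 q2992 L31373 q2224, e3 q2993 L31382 q2225, e3 q2994 L31391 q2226, e3 q2995 L31399 q2227, e3 q2996 L31407 q2228, e3 q2997 L45253 q3972, e3 q2998 L31423 q2230, e3 q2999 L623320 q3920, e3 q3000 L31440 q2232, e3 q3001 L31452 q2233, e3 q3002 (flp_j L31454) q2215, e3 q3003 (flp_j L45059) q3953, e3 q3004 (flp_j L45070) q3954, e3 q3005 (flp_j L45080) q3955, e3 q3006 (flp_j L45090) q3956, e3 q3007 (flp_j L45100) q3957, trivial⟩ (by decide +kernel)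

theorem ce_j_47 : ∀ r, r < 64 → sm gj (Qf (3008 + r)) = Qf (tab Gen.j (3008 + r)) :=
  edges_tab (sm gj) Qf (tab Gen.j) 3008 [(3008, 3982), (3009, 3959), (3010, 3985), (3011, 3961), (3012, 3962), (3013, 2222), (3014, 3964), (3015, 3965), (3016, 3991), (3017, 3967), (3018, 3968), (3019, 3969), (3020, 3998), (3021, 3971), (3022, 2229), (3023, 3922), (3024, 3897), (3025, 2231), (3026, 3919), (3027, 3973), (3028, 3028), (3029, 3029), (3030, 4005), (3031, 3031), (3032, 3032), (3033, 3033), (3034, 4011), (3035, 3035), (3036, 2240), (3037, 4014), (3038, 3038), (3039, 2242), (3040, 4018), (3041, 3041), (3042, 3042), (3043, 3043), (3044, 4023), (3045, 2248), (3046, 3046), (3047, 4027), (3048, 3048), (3049, 3049), (3050, 4032), (3051, 3051), (3052, 2252), (3053, 4034), (3054, 3948), (3055, 2255), (3056, 3946), (3057, 3057), (3058, 2258), (3059, 4036), (3060, 3060), (3061, 3061), (3062, 4041), (3063, 3063), (3064, 2263), (3065, 3065), (3066, 4046), (3067, 3067), (3068, 4049), (3069, 3069), (3070, 2267), (3071, 4052)]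
    ⟨e3 q3008 L45396 q3982, e3 q3009 (flp_j L45116) q3959, e3 q3010 L45422 q3985, e3 q3011 (flp_j L45137) q3961, e3 q3012 (flp_j L45147) q3962, e3 q3013 (flp_j L31555) q2222, e3 q3014 (flp_j L45170) q3964, e3 q3015 (flp_j L45180) q3965, e3 q3016 L45511 q3991, e3 q3017 (flp_j L45208) q3967, e3 q3018 (flp_j L45216) q3968, e3 q3019 (flp_j L45222) q3969, e3 q3020 L45566 q3998, e3 q3021 (flp_j L45239) q3971, e3 q3022 (flp_j L31646) q2229, e3 q3023 L623087 q3922, e3 q3024 L626004 q3897, e3 q3025 (flp_j L31669) q2231, e3 q3026 (flp_j L625857) q3919, e3 q3027 (flp_j L45305) q3973, e3 q3028 L31700 q3028, e3 q3029 L31711 q3029, e3 q3030 L45718 q4005, e3 q3031 L31738 q3031, e3 q3032 L31746 q3032, e3 q3033 L31751 q3033, e3 q3034 L45781 q4011, e3 q3035 L31771 q3035, e3 q3036 (flp_j L31782) q2240, e3 q3037 L45816 q4014, e3 q3038 L31809 q3038, e3 q3039 (flp_j L31810) q2242, e3 q3040 (flp_j L45859) q4018, e3 q3041 L31833 q3041, e3 q3042 L31848 q3042, e3 q3043 L31863 q3043, e3 q3044 L45945 q4023, e3 q3045 (flp_j L31896) q2248, e3 q3046 L31911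 q3046, e3 q3047 L45995 q4027, e3 q3048 L31923 q3048, e3 q3049 L31926 q3049, e3 q3050 L46040 q4032, e3 q3051 L31950 q3051, e3 q3052 (flp_j L31952) q2252, e3 q3053 (flp_j L46072) q4034, e3 q3054 (flp_j L624657) q3948, e3 q3055 (flp_j L31983) q2255, e3 q3056 (flp_j L624851) q3946, e3 q3057 L32009 q3057, e3 q3058 L32015 q2258, e3 q3059 (flp_j L46126) q4036, e3 q3060 L32043 q3060, e3 q3061 L32062 q3061, e3 q3062 L46207 q4041, e3 q3063 L32085 q3063, e3 q3064 (flp_j L32088) q2263, e3 q3065 L32104 q3065, e3 q3066 L46256 q4046, e3 q3067 L32123 q3067, e3 q3068 L46298 q4049, e3 q3069 L32147 q3069, e3 q3070 (flp_j L32149) q2267, e3 q3071 (flp_j L46330) q4052, trivial⟩ (by decide +kernel)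

theorem ce_j_48 : ∀ r, r < 64 → sm gj (Qf (3072 + r)) = Qf (tab Gen.j (3072 + r)) :=
  edges_tab (sm gj) Qf (tab Gen.j) 3072 [(3072, 4053), (3073, 2270), (3074, 4055), (3075, 3075), (3076, 2273), (3077, 3077), (3078, 3078), (3079, 4062), (3080, 4064), (3081, 2277), (3082, 3082), (3083, 4068), (3084, 2280), (3085, 4069), (3086, 2281), (3087, 2283), (3088, 2296), (3089, 2297), (3090, 4073), (3091, 2299), (3092, 2300), (3093, 2301), (3094, 4080), (3095, 2303), (3096, 2290), (3097, 3882), (3098, 2306), (3099, 2292), (3100, 3880), (3101, 2309), (3102, 4070), (3103, 4071), (3104, 4087), (3105, 2298), (3106, 4074), (3107, 4091), (3108, 4076), (3109, 4077), (3110, 4095), (3111, 4079), (3112, 2302), (3113, 4098), (3114, 2305), (3115, 3881), (3116, 3865), (3117, 4082), (3118, 2308), (3119, 4101), (3120, 4102), (3121, 2311), (3122, 2313), (3123, 4103), (3124, 3124), (3125, 3125), (3126, 2317), (3127, 2319), (3128, 2332), (3129, 2333), (3130, 3130), (3131, 2334), (3132, 3132), (3133, 2335), (3134, 2336), (3135, 3135)]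
    ⟨e3 q3072 L46334 q4053, e3 q3073 (flp_j L32177) q2270, e3 q3074 (flp_j L46362) q4055, e3 q3075 L32202 q3075, e3 q3076 L32212 q2273, e3 q3077 L32223 q3077, e3 q3078 L32231 q3078, e3 q3079 L46416 q4062, e3 q3080 L46434 q4064, e3 q3081 (flp_j L32251) q2277, e3 q3082 L32266 q3082, e3 q3083 L46463 q4068, e3 q3084 (flp_j L32275) q2280, e3 q3085 L46472 q4069, e3 q3086 (flp_j L32290) q2281, e3 q3087 (flp_j L32298) q2283, e3 q3088 L32314 q2296, e3 q3089 L32325 q2297, e3 q3090 L46564 q4073, e3 q3091 L32353 q2299, e3 q3092 L32364 q2300, e3 q3093 L32370 q2301, e3 q3094 L46636 q4080, e3 q3095 L32390 q2303, e3 q3096 (flp_j L32402) q2290, e3 q3097 (flp_j L625655) q3882, e3 q3098 L32429 q2306, e3 q3099 (flp_j L32431) q2292, e3 q3100 L625741 q3880, e3 q3101 L32457 q2309, e3 q3102 (flp_j L46506) q4070, e3 q3103 (flp_j L46526) q4071, e3 q3104 L46815 q4087, e3 q3105 (flp_j L32527) q2298, e3 q3106 (flp_j L46580) q4074, e3 q3107 L46870 q4091, e3 q3108 (flp_j L46599) q4076, e3 q3109 (flp_j L46605) q4077, e3 q3110 L46914 q4095, e3 q3111 (flp_j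 L46634) q4079, e3 q3112 (flp_j L32592) q2302, e3 q3113 (flp_j L46954) q4098, e3 q3114 (flp_j L32616) q2305, e3 q3115 (flp_j L626793) q3881, e3 q3116 L602320 q3865, e3 q3117 (flp_j L46710) q4082, e3 q3118 L32660 q2308, e3 q3119 (flp_j L47017) q4101, e3 q3120 L47057 q4102, e3 q3121 (flp_j L32725) q2311, e3 q3122 (flp_j L32756) q2313, e3 q3123 (flp_j L47134) q4103, e3 q3124 L32777 q3124, e3 q3125 L32791 q3125, e3 q3126 L32806 q2317, e3 q3127 L32823 q2319, e3 q3128 L32843 q2332, e3 q3129 L32861 q2333, e3 q3130 L32875 q3130, e3 q3131 L32903 q2334, e3 q3132 L32914 q3132, e3 q3133 L32922 q2335, e3 q3134 L32928 q2336, e3 q3135 L32949 q3135, trivial⟩ (by decide +kernel)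

theorem ce_j_49 : ∀ r, r < 64 → sm gj (Qf (3136 + r)) = Qf (tab Gen.j (3136 + r)) :=
  edges_tab (sm gj) Qf (tab Gen.j) 3136 [(3136, 2337), (3137, 3137), (3138, 3138), (3139, 3139), (3140, 2338), (3141, 2339), (3142, 3142), (3143, 4107), (3144, 4110), (3145, 4112), (3146, 4114), (3147, 4115), (3148, 4118), (3149, 3853), (3150, 4120), (3151, 3151), (3152, 3152), (3153, 3153), (3154, 3154), (3155, 3155), (3156, 3156), (3157, 3157), (3158, 3158), (3159, 3159), (3160, 3160), (3161, 3161), (3162, 3162), (3163, 3163), (3164, 3164), (3165, 3165), (3166, 2518), (3167, 2364), (3168, 2365), (3169, 2366), (3170, 2367), (3171, 2368), (3172, 2369), (3173, 4148), (3174, 2371), (3175, 2372), (3176, 2373), (3177, 2374), (3178, 2509), (3179, 2363), (3180, 4143), (3181, 4144), (3182, 4152), (3183, 4146), (3184, 4155), (3185, 2370), (3186, 4142), (3187, 4147), (3188, 4149), (3189, 4154), (3190, 2501), (3191, 2508), (3192, 2498), (3193, 2375), (3194, 4159), (3195, 2388), (3196, 4157), (3197, 2380), (3198, 2391), (3199, 2392)]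
    ⟨e3 q3136 L32956 q2337, e3 q3137 L32965 q3137, e3 q3138 L32983 q3138, e3 q3139 L32995 q3139, e3 q3140 L33000 q2338, e3 q3141 L33011 q2339, e3 q3142 L33023 q3142, e3 q3143 (flp_j L47218) q4107, e3 q3144 (flp_j L47307) q4110, e3 q3145 (flp_j L47328) q4112, e3 q3146 (flp_j L47344) q4114, e3 q3147 (flp_j L47363) q4115, e3 q3148 (flp_j L47396) q4118, e3 q3149 L627172 q3853, e3 q3150 (flp_j L47464) q4120, e3 q3151 L33214 q3151, e3 q3152 L33239 q3152, e3 q3153 L33247 q3153, e3 q3154 L33278 q3154, e3 q3155 L33286 q3155, e3 q3156 L33296 q3156, e3 q3157 L33305 q3157, e3 q3158 L33331 q3158, e3 q3159 L33338 q3159, e3 q3160 L33355 q3160, e3 q3161 L33375 q3161, e3 q3162 L33382 q3162, e3 q3163 L33402 q3163, e3 q3164 L33408 q3164, e3 q3165 L33415 q3165, e3 q3166 L601982 q2518, e3 q3167 L33431 q2364, e3 q3168 L33442 q2365, e3 q3169 L33526 q2366, e3 q3170 L33554 q2367, e3 q3171 L33582 q2368, e3 q3172 L33592 q2369, e3 q3173 L48286 q4148, e3 q3174 L33618 q2371, e3 q3175 L33626 q2372, e3 q3176 L33636 q2373, e3 q3177 L33642 q2374, e3 q3178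 (flp_j L627185) q2509, e3 q3179 (flp_j L33652) q2363, e3 q3180 (flp_j L48047) q4143, e3 q3181 (flp_j L48185) q4144, e3 q3182 L48627 q4152, e3 q3183 (flp_j L48268) q4146, e3 q3184 L48713 q4155, e3 q3185 (flp_j L33879) q2370, e3 q3186 L627202 q4142, e3 q3187 L627214 q4147, e3 q3188 (flp_j L48333) q4149, e3 q3189 (flp_j L625796) q4154, e3 q3190 L625822 q2501, e3 q3191 L625841 q2508, e3 q3192 (flp_j L625703) q2498, e3 q3193 (flp_j L33954) q2375, e3 q3194 L48957 q4159, e3 q3195 L34086 q2388, e3 q3196 L626121 q4157, e3 q3197 (flp_j L34105) q2380, e3 q3198 L34135 q2391, e3 q3199 L34146 q2392, trivial⟩ (by decide +kernel)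

theorem ce_j_50 : ∀ r, r < 64 → sm gj (Qf (3200 + r)) = Qf (tab Gen.j (3200 + r)) :=
  edges_tab (sm gj) Qf (tab Gen.j) 3200 [(3200, 2393), (3201, 4153), (3202, 2395), (3203, 2441), (3204, 2397), (3205, 2385), (3206, 2387), (3207, 4160), (3208, 4165), (3209, 2389), (3210, 4162), (3211, 4161), (3212, 4164), (3213, 4163), (3214, 2394), (3215, 2443), (3216, 2424), (3217, 2396), (3218, 2440), (3219, 4171), (3220, 2401), (3221, 3221), (3222, 4174), (3223, 4170), (3224, 3224), (3225, 2405), (3226, 4177), (3227, 2460), (3228, 2408), (3229, 2458), (3230, 3230), (3231, 2411), (3232, 2427), (3233, 2428), (3234, 2429), (3235, 4182), (3236, 2431), (3237, 4166), (3238, 2433), (3239, 2417), (3240, 2435), (3241, 4185), (3242, 2437), (3243, 4168), (3244, 2422), (3245, 4178), (3246, 4188), (3247, 4180), (3248, 4190), (3249, 2430), (3250, 4167), (3251, 4181), (3252, 2432), (3253, 4189), (3254, 4183), (3255, 4192), (3256, 2436), (3257, 4169), (3258, 2438), (3259, 3259), (3260, 4194), (3261, 2445), (3262, 4196), (3263, 2447)]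
    ⟨e3 q3200 L34154 q2393, e3 q3201 L603520 q4153, e3 q3202 L34168 q2395, e3 q3203 L626150 q2441, e3 q3204 L34184 q2397, e3 q3205 (flp_j L34196) q2385, e3 q3206 (flp_j L34314) q2387, e3 q3207 (flp_j L49027) q4160, e3 q3208 L49490 q4165, e3 q3209 (flp_j L34405) q2389, e3 q3210 (flp_j L49108) q4162, e3 q3211 L626117 q4161, e3 q3212 (flp_j L625956) q4164, e3 q3213 (flp_j L49140) q4163, e3 q3214 (flp_j L34487) q2394, e3 q3215 (flp_j L625982) q2443, e3 q3216 (flp_j L626186) q2424, e3 q3217 (flp_j L34508) q2396, e3 q3218 L626472 q2440, e3 q3219 L50130 q4171, e3 q3220 (flp_j L34817) q2401, e3 q3221 L34906 q3221, e3 q3222 L50296 q4174, e3 q3223 L613643 q4170, e3 q3224 L34953 q3224, e3 q3225 (flp_j L34954) q2405, e3 q3226 (flp_j L50389) q4177, e3 q3227 (flp_j L624110) q2460, e3 q3228 (flp_j L34982) q2408, e3 q3229 L626479 q2458, e3 q3230 L35001 q3230, e3 q3231 L35018 q2411, e3 q3232 L35033 q2427, e3 q3233 L35043 q2428, e3 q3234 L35064 q2429, e3 q3235 L50549 q4182, e3 q3236 L35089 q2431, e3 q3237 L626215 q4166, e3 q3238 L35106 q2433,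 e3 q3239 (flp_j L35118) q2417, e3 q3240 L35144 q2435, e3 q3241 L50660 q4185, e3 q3242 L35184 q2437, e3 q3243 (flp_j L603202) q4168, e3 q3244 (flp_j L35215) q2422, e3 q3245 (flp_j L50470) q4178, e3 q3246 L50862 q4188, e3 q3247 (flp_j L50514) q4180, e3 q3248 L50926 q4190, e3 q3249 (flp_j L35346) q2430, e3 q3250 L626517 q4167, e3 q3251 (flp_j L626249) q4181, e3 q3252 (flp_j L35369) q2432, e3 q3253 (flp_j L625916) q4189, e3 q3254 (flp_j L50629) q4183, e3 q3255 L51071 q4192, e3 q3256 (flp_j L35444) q2436, e3 q3257 L625935 q4169, e3 q3258 (flp_j L35500) q2438, e3 q3259 L35599 q3259, e3 q3260 L51348 q4194, e3 q3261 (flp_j L35630) q2445, e3 q3262 L51450 q4196, e3 q3263 (flp_j L35694) q2447, trivial⟩ (by decide +kernel)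

theorem ce_j_51 : ∀ r, r < 64 → sm gj (Qf (3264 + r)) = Qf (tab Gen.j (3264 + r)) :=
  edges_tab (sm gj) Qf (tab Gen.j) 3264 [(3264, 4173), (3265, 2449), (3266, 4195), (3267, 3267), (3268, 2452), (3269, 4199), (3270, 2454), (3271, 4175), (3272, 2456), (3273, 3273), (3274, 3274), (3275, 4205), (3276, 3276), (3277, 4208), (3278, 3278), (3279, 2466), (3280, 4211), (3281, 3281), (3282, 4214), (3283, 3283), (3284, 2470), (3285, 4216), (3286, 3286), (3287, 4197), (3288, 2473), (3289, 4219), (3290, 3290), (3291, 2476), (3292, 2477), (3293, 4220), (3294, 2479), (3295, 4218), (3296, 3296), (3297, 3297), (3298, 4224), (3299, 3299), (3300, 4227), (3301, 2484), (3302, 4228), (3303, 2485), (3304, 4213), (3305, 4212), (3306, 2488), (3307, 2490), (3308, 2502), (3309, 4230), (3310, 2494), (3311, 4158), (3312, 2496), (3313, 4231), (3314, 2503), (3315, 2505), (3316, 3316), (3317, 3317), (3318, 3318), (3319, 3319), (3320, 3320), (3321, 3321), (3322, 3322), (3323, 2527), (3324, 4237), (3325, 4238), (3326, 3326), (3327, 2530)]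
    ⟨e3 q3264 L626524 q4173, e3 q3265 (flp_j L35727) q2449, e3 q3266 L624190 q4195, e3 q3267 L35745 q3267, e3 q3268 L35760 q2452, e3 q3269 L51680 q4199, e3 q3270 (flp_j L35839) q2454, e3 q3271 (flp_j L624223) q4175, e3 q3272 (flp_j L35932) q2456, e3 q3273 L36016 q3273, e3 q3274 L36034 q3274, e3 q3275 L51964 q4205, e3 q3276 L36056 q3276, e3 q3277 L52013 q4208, e3 q3278 L36082 q3278, e3 q3279 (flp_j L36084) q2466, e3 q3280 (flp_j L52045) q4211, e3 q3281 L36107 q3281, e3 q3282 L52072 q4214, e3 q3283 L36128 q3283, e3 q3284 (flp_j L36130) q2470, e3 q3285 (flp_j L52105) q4216, e3 q3286 L36154 q3286, e3 q3287 L624375 q4197, e3 q3288 (flp_j L36175) q2473, e3 q3289 (flp_j L52157) q4219, e3 q3290 L36198 q3290, e3 q3291 L36207 q2476, e3 q3292 (flp_j L36211) q2477, e3 q3293 L623959 q4220, e3 q3294 L36233 q2479, e3 q3295 (flp_j L624351) q4218, e3 q3296 L36246 q3296, e3 q3297 L36254 q3297, e3 q3298 L52234 q4224, e3 q3299 L36270 q3299, e3 q3300 L52267 q4227, e3 q3301 (flp_j L36281) q2484, e3 q3302 L52277 q4228, e3 q3303 (flp_j L36298) q2485,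 e3 q3304 (flp_j L613696) q4213, e3 q3305 (flp_j L613705) q4212, e3 q3306 (flp_j L36327) q2488, e3 q3307 (flp_j L36336) q2490, e3 q3308 L36386 q2502, e3 q3309 L52416 q4230, e3 q3310 (flp_j L36418) q2494, e3 q3311 (flp_j L627251) q4158, e3 q3312 (flp_j L36491) q2496, e3 q3313 L52776 q4231, e3 q3314 (flp_j L36651) q2503, e3 q3315 (flp_j L36748) q2505, e3 q3316 L37088 q3316, e3 q3317 L37195 q3317, e3 q3318 L37674 q3318, e3 q3319 L37881 q3319, e3 q3320 L37899 q3320, e3 q3321 L38310 q3321, e3 q3322 L38320 q3322, e3 q3323 L38327 q2527, e3 q3324 (flp_j L55062) q4237, e3 q3325 (flp_j L55071) q4238, e3 q3326 L38355 q3326, e3 q3327 L38364 q2530, trivial⟩ (by decide +kernel)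

theorem ce_j_52 : ∀ r, r < 64 → sm gj (Qf (3328 + r)) = Qf (tab Gen.j (3328 + r)) :=
  edges_tab (sm gj) Qf (tab Gen.j) 3328 [(3328, 2531), (3329, 4244), (3330, 4245), (3331, 4246), (3332, 2534), (3333, 2535), (3334, 2536), (3335, 4252), (3336, 4253), (3337, 4254), (3338, 4255), (3339, 4263), (3340, 3340), (3341, 3341), (3342, 3342), (3343, 3343), (3344, 3344), (3345, 4274), (3346, 2541), (3347, 3347), (3348, 3348), (3349, 3349), (3350, 2547), (3351, 2548), (3352, 2549), (3353, 2550), (3354, 2551), (3355, 4280), (3356, 4281), (3357, 4282), (3358, 4283), (3359, 4284), (3360, 4285), (3361, 4286), (3362, 4298), (3363, 2557), (3364, 2558), (3365, 2559), (3366, 2560), (3367, 2561), (3368, 2562), (3369, 2563), (3370, 4309), (3371, 4299), (3372, 4300), (3373, 4301), (3374, 4315), (3375, 4303), (3376, 4304), (3377, 4305), (3378, 4306), (3379, 4307), (3380, 4326), (3381, 2564), (3382, 3382), (3383, 3383), (3384, 3384), (3385, 3385), (3386, 4335), (3387, 2568), (3388, 3388), (3389, 3389), (3390, 3390), (3391, 3391)]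
    ⟨e3 q3328 L38374 q2531, e3 q3329 (flp_j L55128) q4244, e3 q3330 (flp_j L55139) q4245, e3 q3331 (flp_j L55148) q4246, e3 q3332 L38411 q2534, e3 q3333 L38423 q2535, e3 q3334 L38433 q2536, e3 q3335 (flp_j L55206) q4252, e3 q3336 (flp_j L55218) q4253, e3 q3337 (flp_j L55227) q4254, e3 q3338 (flp_j L55237) q4255, e3 q3339 L55304 q4263, e3 q3340 L38490 q3340, e3 q3341 L38498 q3341, e3 q3342 L38506 q3342, e3 q3343 L38517 q3343, e3 q3344 L38524 q3344, e3 q3345 L55398 q4274, e3 q3346 (flp_j L38536) q2541, e3 q3347 L38553 q3347, e3 q3348 L38563 q3348, e3 q3349 L38572 q3349, e3 q3350 L38579 q2547, e3 q3351 L38590 q2548, e3 q3352 L38602 q2549, e3 q3353 L38610 q2550, e3 q3354 L38617 q2551, e3 q3355 (flp_j L55461) q4280, e3 q3356 (flp_j L55472) q4281, e3 q3357 (flp_j L55482) q4282, e3 q3358 (flp_j L55496) q4283, e3 q3359 (flp_j L55504) q4284, e3 q3360 (flp_j L55509) q4285, e3 q3361 (flp_j L55519) q4286, e3 q3362 L55623 q4298, e3 q3363 L38693 q2557, e3 q3364 L38705 q2558, e3 q3365 L38716 q2559, e3 q3366 L38727 q2560, e3 q3367 L38736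 q2561, e3 q3368 L38742 q2562, e3 q3369 L38753 q2563, e3 q3370 L55736 q4309, e3 q3371 (flp_j L55649) q4299, e3 q3372 (flp_j L55658) q4300, e3 q3373 (flp_j L55671) q4301, e3 q3374 L55803 q4315, e3 q3375 (flp_j L55693) q4303, e3 q3376 (flp_j L55700) q4304, e3 q3377 (flp_j L55709) q4305, e3 q3378 (flp_j L55718) q4306, e3 q3379 (flp_j L55728) q4307, e3 q3380 L55891 q4326, e3 q3381 (flp_j L38857) q2564, e3 q3382 L38879 q3382, e3 q3383 L38889 q3383, e3 q3384 L38901 q3384, e3 q3385 L38911 q3385, e3 q3386 L55995 q4335, e3 q3387 (flp_j L38922) q2568, e3 q3388 L38938 q3388, e3 q3389 L38947 q3389, e3 q3390 L38953 q3390, e3 q3391 L38963 q3391, trivial⟩ (by decide +kernel)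

theorem ce_j_53 : ∀ r, r < 64 → sm gj (Qf (3392 + r)) = Qf (tab Gen.j (3392 + r)) :=
  edges_tab (sm gj) Qf (tab Gen.j) 3392 [(3392, 3392), (3393, 4346), (3394, 3394), (3395, 4349), (3396, 3396), (3397, 3397), (3398, 2574), (3399, 2586), (3400, 2587), (3401, 2588), (3402, 2589), (3403, 2590), (3404, 2591), (3405, 2592), (3406, 4363), (3407, 2594), (3408, 2595), (3409, 2596), (3410, 2597), (3411, 2598), (3412, 4374), (3413, 2585), (3414, 4352), (3415, 4353), (3416, 4354), (3417, 4355), (3418, 4381), (3419, 4357), (3420, 4358), (3421, 4359), (3422, 4360), (3423, 4361), (3424, 4392), (3425, 2593), (3426, 4364), (3427, 4365), (3428, 4366), (3429, 4367), (3430, 4368), (3431, 4403), (3432, 4370), (3433, 4406), (3434, 4372), (3435, 4373), (3436, 2599), (3437, 3437), (3438, 3438), (3439, 3439), (3440, 3440), (3441, 3441), (3442, 4419), (3443, 2605), (3444, 3444), (3445, 3445), (3446, 3446), (3447, 3447), (3448, 3448), (3449, 4430), (3450, 3450), (3451, 4433), (3452, 3452), (3453, 3453), (3454, 2611), (3455, 3455)]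
    ⟨e3 q3392 L38970 q3392, e3 q3393 L56081 q4346, e3 q3394 L38982 q3394, e3 q3395 L56106 q4349, e3 q3396 L39000 q3396, e3 q3397 L39008 q3397, e3 q3398 (flp_j L39009) q2574, e3 q3399 L39021 q2586, e3 q3400 L39033 q2587, e3 q3401 L39043 q2588, e3 q3402 L39056 q2589, e3 q3403 L39067 q2590, e3 q3404 L39075 q2591, e3 q3405 L39086 q2592, e3 q3406 L56240 q4363, e3 q3407 L39106 q2594, e3 q3408 L39114 q2595, e3 q3409 L39123 q2596, e3 q3410 L39132 q2597, e3 q3411 L39140 q2598, e3 q3412 L56335 q4374, e3 q3413 (flp_j L39151) q2585, e3 q3414 (flp_j L56135) q4352, e3 q3415 (flp_j L56147) q4353, e3 q3416 (flp_j L56156) q4354, e3 q3417 (flp_j L56166) q4355, e3 q3418 L56400 q4381, e3 q3419 (flp_j L56189) q4357, e3 q3420 (flp_j L56198) q4358, e3 q3421 (flp_j L56209) q4359, e3 q3422 (flp_j L56219) q4360, e3 q3423 (flp_j L56229) q4361, e3 q3424 L56497 q4392, e3 q3425 (flp_j L39261) q2593, e3 q3426 (flp_j L56256) q4364, e3 q3427 (flp_j L56266) q4365, e3 q3428 (flp_j L56275) q4366, e3 q3429 (flp_j L56284) q4367, e3 q3430 (flp_j L56293) q4368,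 e3 q3431 L56587 q4403, e3 q3432 (flp_j L56307) q4370, e3 q3433 L56609 q4406, e3 q3434 (flp_j L56323) q4372, e3 q3435 (flp_j L56333) q4373, e3 q3436 (flp_j L39345) q2599, e3 q3437 L39360 q3437, e3 q3438 L39368 q3438, e3 q3439 L39376 q3439, e3 q3440 L39388 q3440, e3 q3441 L39395 q3441, e3 q3442 L56717 q4419, e3 q3443 (flp_j L39408) q2605, e3 q3444 L39424 q3444, e3 q3445 L39435 q3445, e3 q3446 L39444 q3446, e3 q3447 L39454 q3447, e3 q3448 L39463 q3448, e3 q3449 L56816 q4430, e3 q3450 L39476 q3450, e3 q3451 L56843 q4433, e3 q3452 L39495 q3452, e3 q3453 L39501 q3453, e3 q3454 (flp_j L39504) q2611, e3 q3455 L39520 q3455, trivial⟩ (by decide +kernel)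

theorem ce_j_54 : ∀ r, r < 64 → sm gj (Qf (3456 + r)) = Qf (tab Gen.j (3456 + r)) :=
  edges_tab (sm gj) Qf (tab Gen.j) 3456 [(3456, 3456), (3457, 3457), (3458, 4443), (3459, 3459), (3460, 3460), (3461, 3461), (3462, 4451), (3463, 3463), (3464, 3464), (3465, 2618), (3466, 4455), (3467, 3467), (3468, 2620), (3469, 4459), (3470, 3470), (3471, 3471), (3472, 3472), (3473, 4464), (3474, 2628), (3475, 3475), (3476, 3476), (3477, 4468), (3478, 3478), (3479, 4471), (3480, 3480), (3481, 2634), (3482, 3482), (3483, 4475), (3484, 3484), (3485, 3485), (3486, 4480), (3487, 3487), (3488, 2641), (3489, 4483), (3490, 3490), (3491, 2643), (3492, 4487), (3493, 3493), (3494, 3494), (3495, 3495), (3496, 4493), (3497, 3497), (3498, 2650), (3499, 3499), (3500, 4498), (3501, 3501), (3502, 4501), (3503, 3503), (3504, 2654), (3505, 4505), (3506, 3506), (3507, 4507), (3508, 2658), (3509, 4509), (3510, 3510), (3511, 3511), (3512, 2661), (3513, 4514), (3514, 3514), (3515, 3515), (3516, 3516), (3517, 3517), (3518, 3518), (3519, 3519)]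
    ⟨e3 q3456 L39529 q3456, e3 q3457 L39537 q3457, e3 q3458 L56923 q4443, e3 q3459 L39553 q3459, e3 q3460 L39560 q3460, e3 q3461 L39565 q3461, e3 q3462 L56981 q4451, e3 q3463 L39582 q3463, e3 q3464 L39591 q3464, e3 q3465 (flp_j L39592) q2618, e3 q3466 L57010 q4455, e3 q3467 L39615 q3467, e3 q3468 (flp_j L39616) q2620, e3 q3469 (flp_j L57046) q4459, e3 q3470 L39634 q3470, e3 q3471 L39658 q3471, e3 q3472 L39669 q3472, e3 q3473 L57145 q4464, e3 q3474 (flp_j L39689) q2628, e3 q3475 L39715 q3475, e3 q3476 L39732 q3476, e3 q3477 L57241 q4468, e3 q3478 L39755 q3478, e3 q3479 L57264 q4471, e3 q3480 L39770 q3480, e3 q3481 (flp_j L39782) q2634, e3 q3482 L39810 q3482, e3 q3483 L57359 q4475, e3 q3484 L39837 q3484, e3 q3485 L39853 q3485, e3 q3486 L57430 q4480, e3 q3487 L39873 q3487, e3 q3488 (flp_j L39884) q2641, e3 q3489 L57465 q4483, e3 q3490 L39909 q3490, e3 q3491 (flp_j L39910) q2643, e3 q3492 (flp_j L57505) q4487, e3 q3493 L39933 q3493, e3 q3494 L39952 q3494, e3 q3495 L39968 q3495, e3 q3496 L57596 q4493, e3 q3497 L39986 q3497, e3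 q3498 (flp_j L39998) q2650, e3 q3499 L40012 q3499, e3 q3500 L57647 q4498, e3 q3501 L40029 q3501, e3 q3502 L57695 q4501, e3 q3503 L40061 q3503, e3 q3504 (flp_j L40062) q2654, e3 q3505 (flp_j L57733) q4505, e3 q3506 L40085 q3506, e3 q3507 L57744 q4507, e3 q3508 (flp_j L40093) q2658, e3 q3509 (flp_j L57767) q4509, e3 q3510 L40113 q3510, e3 q3511 L40123 q3511, e3 q3512 L40130 q2661, e3 q3513 (flp_j L57807) q4514, e3 q3514 L40152 q3514, e3 q3515 L40163 q3515, e3 q3516 L40173 q3516, e3 q3517 L40183 q3517, e3 q3518 L40193 q3518, e3 q3519 L40202 q3519, trivial⟩ (by decide +kernel)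

theorem ce_j_55 : ∀ r, r < 64 → sm gj (Qf (3520 + r)) = Qf (tab Gen.j (3520 + r)) :=
  edges_tab (sm gj) Qf (tab Gen.j) 3520 [(3520, 3520), (3521, 3521), (3522, 2676), (3523, 2677), (3524, 2678), (3525, 2679), (3526, 2680), (3527, 2681), (3528, 2682), (3529, 2683), (3530, 2684), (3531, 2685), (3532, 4541), (3533, 4527), (3534, 4528), (3535, 4529), (3536, 4530), (3537, 4531), (3538, 4532), (3539, 4533), (3540, 4552), (3541, 4535), (3542, 4536), (3543, 4537), (3544, 4538), (3545, 4539), (3546, 4563), (3547, 2686), (3548, 2697), (3549, 2698), (3550, 2699), (3551, 2700), (3552, 2701), (3553, 4572), (3554, 2703), (3555, 2704), (3556, 2705), (3557, 2706), (3558, 2707), (3559, 4583), (3560, 2696), (3561, 4564), (3562, 4565), (3563, 4587), (3564, 4567), (3565, 4568), (3566, 4569), (3567, 4570), (3568, 4596), (3569, 2702), (3570, 4573), (3571, 4574), (3572, 4575), (3573, 4576), (3574, 4577), (3575, 4607), (3576, 4579), (3577, 4610), (3578, 4581), (3579, 4582), (3580, 2708), (3581, 3581), (3582, 3582), (3583, 4617)]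
    ⟨e3 q3520 L40213 q3520, e3 q3521 L40221 q3521, e3 q3522 L40230 q2676, e3 q3523 L40239 q2677, e3 q3524 L40250 q2678, e3 q3525 L40259 q2679, e3 q3526 L40270 q2680, e3 q3527 L40280 q2681, e3 q3528 L40292 q2682, e3 q3529 L40302 q2683, e3 q3530 L40308 q2684, e3 q3531 L40316 q2685, e3 q3532 L58082 q4541, e3 q3533 (flp_j L57932) q4527, e3 q3534 (flp_j L57942) q4528, e3 q3535 (flp_j L57965) q4529, e3 q3536 (flp_j L57975) q4530, e3 q3537 (flp_j L57999) q4531, e3 q3538 (flp_j L58006) q4532, e3 q3539 (flp_j L58016) q4533, e3 q3540 L58219 q4552, e3 q3541 (flp_j L58039) q4535, e3 q3542 (flp_j L58046) q4536, e3 q3543 (flp_j L58054) q4537, e3 q3544 (flp_j L58065) q4538, e3 q3545 (flp_j L58071) q4539, e3 q3546 L58300 q4563, e3 q3547 (flp_j L40468) q2686, e3 q3548 L40495 q2697, e3 q3549 L40506 q2698, e3 q3550 L40528 q2699, e3 q3551 L40536 q2700, e3 q3552 L40547 q2701, e3 q3553 L58420 q4572, e3 q3554 L40569 q2703, e3 q3555 L40577 q2704, e3 q3556 L40585 q2705, e3 q3557 L40595 q2706, e3 q3558 L40603 q2707, e3 q3559 L58517 q4583, e3 q3560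 (flp_j L40613) q2696, e3 q3561 (flp_j L58337) q4564, e3 q3562 (flp_j L58347) q4565, e3 q3563 L58581 q4587, e3 q3564 (flp_j L58379) q4567, e3 q3565 (flp_j L58389) q4568, e3 q3566 (flp_j L58400) q4569, e3 q3567 (flp_j L58410) q4570, e3 q3568 L58678 q4596, e3 q3569 (flp_j L40725) q2702, e3 q3570 (flp_j L58438) q4573, e3 q3571 (flp_j L58447) q4574, e3 q3572 (flp_j L58453) q4575, e3 q3573 (flp_j L58465) q4576, e3 q3574 (flp_j L58472) q4577, e3 q3575 L58762 q4607, e3 q3576 (flp_j L58488) q4579, e3 q3577 L58785 q4610, e3 q3578 (flp_j L58505) q4581, e3 q3579 (flp_j L58515) q4582, e3 q3580 (flp_j L40811) q2708, e3 q3581 L40854 q3581, e3 q3582 L40861 q3582, e3 q3583 L58899 q4617, trivial⟩ (by decide +kernel)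

theorem ce_j_56 : ∀ r, r < 64 → sm gj (Qf (3584 + r)) = Qf (tab Gen.j (3584 + r)) :=
  edges_tab (sm gj) Qf (tab Gen.j) 3584 [(3584, 2712), (3585, 3585), (3586, 3586), (3587, 3587), (3588, 4624), (3589, 3589), (3590, 4627), (3591, 3591), (3592, 3592), (3593, 2717), (3594, 3594), (3595, 3595), (3596, 3596), (3597, 4637), (3598, 3598), (3599, 3599), (3600, 3600), (3601, 4645), (3602, 3602), (3603, 3603), (3604, 2724), (3605, 4649), (3606, 3606), (3607, 2726), (3608, 4653), (3609, 3609), (3610, 2742), (3611, 2743), (3612, 2744), (3613, 2745), (3614, 2746), (3615, 4665), (3616, 2734), (3617, 2749), (3618, 2750), (3619, 2751), (3620, 2752), (3621, 2753), (3622, 4676), (3623, 2755), (3624, 4679), (3625, 2757), (3626, 2758), (3627, 2740), (3628, 4655), (3629, 4656), (3630, 4657), (3631, 4658), (3632, 4659), (3633, 4692), (3634, 4661), (3635, 4695), (3636, 4663), (3637, 4664), (3638, 2747), (3639, 4666), (3640, 4667), (3641, 4668), (3642, 4705), (3643, 4670), (3644, 4671), (3645, 4672), (3646, 4713), (3647, 4674)]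
    ⟨e3 q3584 (flp_j L40873) q2712, e3 q3585 L40905 q3585, e3 q3586 L40918 q3586, e3 q3587 L40925 q3587, e3 q3588 L58992 q4624, e3 q3589 L40940 q3589, e3 q3590 L59020 q4627, e3 q3591 L40960 q3591, e3 q3592 L40966 q3592, e3 q3593 (flp_j L40969) q2717, e3 q3594 L40982 q3594, e3 q3595 L40992 q3595, e3 q3596 L40998 q3596, e3 q3597 L59101 q4637, e3 q3598 L41017 q3598, e3 q3599 L41024 q3599, e3 q3600 L41029 q3600, e3 q3601 L59164 q4645, e3 q3602 L41043 q3602, e3 q3603 L41050 q3603, e3 q3604 (flp_j L41051) q2724, e3 q3605 L59192 q4649, e3 q3606 L41075 q3606, e3 q3607 (flp_j L41076) q2726, e3 q3608 (flp_j L59230) q4653, e3 q3609 L41100 q3609, e3 q3610 L41109 q2742, e3 q3611 L41119 q2743, e3 q3612 L41129 q2744, e3 q3613 L41140 q2745, e3 q3614 L41148 q2746, e3 q3615 L59335 q4665, e3 q3616 (flp_j L41161) q2734, e3 q3617 L41179 q2749, e3 q3618 L41188 q2750, e3 q3619 L41196 q2751, e3 q3620 L41206 q2752, e3 q3621 L41213 q2753, e3 q3622 L59434 q4676, e3 q3623 L41230 q2755, e3 q3624 L59459 q4679, e3 q3625 L41244 q2757, e3 q3626 L41254 q2758,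 e3 q3627 (flp_j L41256) q2740, e3 q3628 (flp_j L59247) q4655, e3 q3629 (flp_j L59258) q4656, e3 q3630 (flp_j L59267) q4657, e3 q3631 (flp_j L59279) q4658, e3 q3632 (flp_j L59288) q4659, e3 q3633 L59571 q4692, e3 q3634 (flp_j L59305) q4661, e3 q3635 L59596 q4695, e3 q3636 (flp_j L59323) q4663, e3 q3637 (flp_j L59331) q4664, e3 q3638 (flp_j L41351) q2747, e3 q3639 (flp_j L59352) q4666, e3 q3640 (flp_j L59363) q4667, e3 q3641 (flp_j L59371) q4668, e3 q3642 L59677 q4705, e3 q3643 (flp_j L59392) q4670, e3 q3644 (flp_j L59399) q4671, e3 q3645 (flp_j L59405) q4672, e3 q3646 L59734 q4713, e3 q3647 (flp_j L59421) q4674, trivial⟩ (by decide +kernel)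

theorem ce_j_57 : ∀ r, r < 64 → sm gj (Qf (3648 + r)) = Qf (tab Gen.j (3648 + r)) :=
  edges_tab (sm gj) Qf (tab Gen.j) 3648 [(3648, 4675), (3649, 2754), (3650, 4717), (3651, 4678), (3652, 2756), (3653, 4721), (3654, 4681), (3655, 3655), (3656, 3656), (3657, 3657), (3658, 4730), (3659, 3659), (3660, 3660), (3661, 3661), (3662, 4738), (3663, 3663), (3664, 3664), (3665, 2765), (3666, 4742), (3667, 3667), (3668, 2767), (3669, 4746), (3670, 3670), (3671, 3671), (3672, 3672), (3673, 3673), (3674, 3674), (3675, 4755), (3676, 3676), (3677, 3677), (3678, 2774), (3679, 3679), (3680, 4761), (3681, 3681), (3682, 3682), (3683, 3683), (3684, 4768), (3685, 3685), (3686, 2778), (3687, 4772), (3688, 3688), (3689, 4774), (3690, 2782), (3691, 4776), (3692, 3692), (3693, 3693), (3694, 2785), (3695, 4781), (3696, 3696), (3697, 4783), (3698, 2788), (3699, 3699), (3700, 4786), (3701, 4788), (3702, 3702), (3703, 2791), (3704, 4791), (3705, 4792), (3706, 2794), (3707, 4794), (3708, 3708), (3709, 3709), (3710, 2797), (3711, 4799)]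
    ⟨e3 q3648 (flp_j L59432) q4675, e3 q3649 (flp_j L41439) q2754, e3 q3650 L59766 q4717, e3 q3651 (flp_j L59457) q4678, e3 q3652 (flp_j L41461) q2756, e3 q3653 (flp_j L59795) q4721, e3 q3654 (flp_j L59482) q4681, e3 q3655 L41488 q3655, e3 q3656 L41500 q3656, e3 q3657 L41508 q3657, e3 q3658 L59871 q4730, e3 q3659 L41528 q3659, e3 q3660 L41535 q3660, e3 q3661 L41540 q3661, e3 q3662 L59936 q4738, e3 q3663 L41559 q3663, e3 q3664 L41566 q3664, e3 q3665 (flp_j L41569) q2765, e3 q3666 L59969 q4742, e3 q3667 L41595 q3667, e3 q3668 (flp_j L41596) q2767, e3 q3669 (flp_j L60005) q4746, e3 q3670 L41616 q3670, e3 q3671 L41623 q3671, e3 q3672 L41633 q3672, e3 q3673 L41640 q3673, e3 q3674 L41646 q3674, e3 q3675 L60087 q4755, e3 q3676 L41663 q3676, e3 q3677 L41673 q3677, e3 q3678 (flp_j L41674) q2774, e3 q3679 L41690 q3679, e3 q3680 L60134 q4761, e3 q3681 L41703 q3681, e3 q3682 L41706 q3682, e3 q3683 L41715 q3683, e3 q3684 L60183 q4768, e3 q3685 L41730 q3685, e3 q3686 (flp_j L41731) q2778, e3 q3687 (flp_j L60221) q4772, e3 q3688 L41754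 q3688, e3 q3689 L60233 q4774, e3 q3690 (flp_j L41760) q2782, e3 q3691 (flp_j L60251) q4776, e3 q3692 L41778 q3692, e3 q3693 L41788 q3693, e3 q3694 L41793 q2785, e3 q3695 (flp_j L60291) q4781, e3 q3696 L41838 q3696, e3 q3697 L60377 q4783, e3 q3698 (flp_j L41870) q2788, e3 q3699 L41887 q3699, e3 q3700 L60433 q4786, e3 q3701 L60495 q4788, e3 q3702 L41939 q3702, e3 q3703 (flp_j L41940) q2791, e3 q3704 (flp_j L60533) q4791, e3 q3705 L60546 q4792, e3 q3706 (flp_j L41975) q2794, e3 q3707 (flp_j L60569) q4794, e3 q3708 L41995 q3708, e3 q3709 L42003 q3709, e3 q3710 L42012 q2797, e3 q3711 (flp_j L60607) q4799, trivial⟩ (by decide +kernel)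

theorem ce_j_58 : ∀ r, r < 64 → sm gj (Qf (3712 + r)) = Qf (tab Gen.j (3712 + r)) :=
  edges_tab (sm gj) Qf (tab Gen.j) 3712 [(3712, 3712), (3713, 4802), (3714, 4804), (3715, 3715), (3716, 2801), (3717, 4807), (3718, 3718), (3719, 4811), (3720, 3720), (3721, 2805), (3722, 4814), (3723, 4815), (3724, 2807), (3725, 4817), (3726, 3726), (3727, 3727), (3728, 2810), (3729, 4822), (3730, 2812), (3731, 4824), (3732, 2814), (3733, 4827), (3734, 4828), (3735, 3735), (3736, 3736), (3737, 2818), (3738, 2830), (3739, 2831), (3740, 2832), (3741, 4840), (3742, 2834), (3743, 2835), (3744, 2836), (3745, 4848), (3746, 2838), (3747, 2839), (3748, 2824), (3749, 4852), (3750, 2842), (3751, 2826), (3752, 4856), (3753, 2845), (3754, 4834), (3755, 4835), (3756, 4836), (3757, 4864), (3758, 4838), (3759, 4839), (3760, 2833), (3761, 4841), (3762, 4870), (3763, 4843), (3764, 4844), (3765, 4845), (3766, 4877), (3767, 4847), (3768, 2837), (3769, 4881), (3770, 4850), (3771, 4883), (3772, 2841), (3773, 4885), (3774, 4854), (3775, 4855)]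
    ⟨e3 q3712 L42049 q3712, e3 q3713 L60670 q4802, e3 q3714 L60706 q4804, e3 q3715 L42092 q3715, e3 q3716 (flp_j L42093) q2801, e3 q3717 (flp_j L60746) q4807, e3 q3718 L42125 q3718, e3 q3719 L60779 q4811, e3 q3720 L42142 q3720, e3 q3721 (flp_j L42143) q2805, e3 q3722 (flp_j L60816) q4814, e3 q3723 L60828 q4815, e3 q3724 (flp_j L42175) q2807, e3 q3725 (flp_j L60849) q4817, e3 q3726 L42194 q3726, e3 q3727 L42203 q3727, e3 q3728 L42210 q2810, e3 q3729 (flp_j L60889) q4822, e3 q3730 (flp_j L42223) q2812, e3 q3731 (flp_j L60904) q4824, e3 q3732 L42244 q2814, e3 q3733 (flp_j L60922) q4827, e3 q3734 (flp_j L60933) q4828, e3 q3735 L42266 q3735, e3 q3736 L42275 q3736, e3 q3737 L42284 q2818, e3 q3738 L42292 q2830, e3 q3739 L42304 q2831, e3 q3740 L42314 q2832, e3 q3741 L61043 q4840, e3 q3742 L42333 q2834, e3 q3743 L42343 q2835, e3 q3744 L42349 q2836, e3 q3745 L61117 q4848, e3 q3746 L42368 q2838, e3 q3747 L42376 q2839, e3 q3748 (flp_j L42379) q2824, e3 q3749 L61151 q4852, e3 q3750 L42405 q2842, e3 q3751 (flp_j L42407) q2826, e3 q3752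 (flp_j L61193) q4856, e3 q3753 L42430 q2845, e3 q3754 (flp_j L60992) q4834, e3 q3755 (flp_j L61003) q4835, e3 q3756 (flp_j L61010) q4836, e3 q3757 L61283 q4864, e3 q3758 (flp_j L61031) q4838, e3 q3759 (flp_j L61040) q4839, e3 q3760 (flp_j L42495) q2833, e3 q3761 (flp_j L61060) q4841, e3 q3762 L61334 q4870, e3 q3763 (flp_j L61080) q4843, e3 q3764 (flp_j L61086) q4844, e3 q3765 (flp_j L61097) q4845, e3 q3766 L61392 q4877, e3 q3767 (flp_j L61115) q4847, e3 q3768 (flp_j L42561) q2837, e3 q3769 (flp_j L61428) q4881, e3 q3770 (flp_j L61140) q4850, e3 q3771 L61439 q4883, e3 q3772 (flp_j L42594) q2841, e3 q3773 (flp_j L61464) q4885, e3 q3774 (flp_j L61173) q4854, e3 q3775 (flp_j L61183) q4855, trivial⟩ (by decide +kernel)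

theorem ce_j_59 : ∀ r, r < 64 → sm gj (Qf (3776 + r)) = Qf (tab Gen.j (3776 + r)) :=
  edges_tab (sm gj) Qf (tab Gen.j) 3776 [(3776, 2844), (3777, 4890), (3778, 3778), (3779, 4893), (3780, 3780), (3781, 3781), (3782, 4897), (3783, 3783), (3784, 2849), (3785, 4901), (3786, 3786), (3787, 4904), (3788, 3788), (3789, 2854), (3790, 4908), (3791, 3791), (3792, 3792), (3793, 3793), (3794, 3794), (3795, 4915), (3796, 2858), (3797, 4917), (3798, 3798), (3799, 3799), (3800, 2861), (3801, 4922), (3802, 2863), (3803, 4924), (3804, 2865), (3805, 4927), (3806, 4928), (3807, 3807), (3808, 3808), (3809, 2869), (3810, 4934), (3811, 2870), (3812, 4936), (3813, 3813), (3814, 3814), (3815, 2873), (3816, 4941), (3817, 2875), (3818, 4943), (3819, 2877), (3820, 4946), (3821, 4947), (3822, 3822), (3823, 3823), (3824, 2881), (3825, 3825), (3826, 2883), (3827, 4953), (3828, 2894), (3829, 2885), (3830, 2886), (3831, 4956), (3832, 4954), (3833, 3833), (3834, 3834), (3835, 3835), (3836, 4945), (3837, 3837), (3838, 3838), (3839, 3839)]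
    ⟨e3 q3776 L42629 q2844, e3 q3777 (flp_j L61499) q4890, e3 q3778 L42664 q3778, e3 q3779 L61567 q4893, e3 q3780 L42685 q3780, e3 q3781 L42700 q3781, e3 q3782 L61628 q4897, e3 q3783 L42720 q3783, e3 q3784 (flp_j L42721) q2849, e3 q3785 (flp_j L61673) q4901, e3 q3786 L42744 q3786, e3 q3787 L61691 q4904, e3 q3788 L42763 q3788, e3 q3789 (flp_j L42764) q2854, e3 q3790 (flp_j L61732) q4908, e3 q3791 L42785 q3791, e3 q3792 L42795 q3792, e3 q3793 L42800 q3793, e3 q3794 L42809 q3794, e3 q3795 L61784 q4915, e3 q3796 (flp_j L42818) q2858, e3 q3797 (flp_j L61807) q4917, e3 q3798 L42841 q3798, e3 q3799 L42851 q3799, e3 q3800 L42858 q2861, e3 q3801 (flp_j L61845) q4922, e3 q3802 (flp_j L42867) q2863, e3 q3803 (flp_j L61863) q4924, e3 q3804 L42890 q2865, e3 q3805 (flp_j L61885) q4927, e3 q3806 (flp_j L61896) q4928, e3 q3807 L42912 q3807, e3 q3808 L42922 q3808, e3 q3809 L42928 q2869, e3 q3810 L61937 q4934, e3 q3811 (flp_j L42940) q2870, e3 q3812 (flp_j L61966) q4936, e3 q3813 L42966 q3813, e3 q3814 L42976 q3814, e3 q3815 L42986 q2873,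 e3 q3816 (flp_j L62010) q4941, e3 q3817 (flp_j L42998) q2875, e3 q3818 (flp_j L62030) q4943, e3 q3819 L43024 q2877, e3 q3820 (flp_j L62054) q4946, e3 q3821 (flp_j L62064) q4947, e3 q3822 L43045 q3822, e3 q3823 L43054 q3823, e3 q3824 L43062 q2881, e3 q3825 L43073 q3825, e3 q3826 L43082 q2883, e3 q3827 (flp_j L62116) q4953, e3 q3828 (flp_j L647546) q2894, e3 q3829 L43104 q2885, e3 q3830 L43114 q2886, e3 q3831 L647396 q4956, e3 q3832 L647405 q4954, e3 q3833 L43136 q3833, e3 q3834 L43145 q3834, e3 q3835 L43150 q3835, e3 q3836 (flp_j L647601) q4945, e3 q3837 L43251 q3837, e3 q3838 L43261 q3838, e3 q3839 L43279 q3839, trivial⟩ (by decide +kernel)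

theorem ce_j_60 : ∀ r, r < 64 → sm gj (Qf (3840 + r)) = Qf (tab Gen.j (3840 + r)) :=
  edges_tab (sm gj) Qf (tab Gen.j) 3840 [(3840, 3840), (3841, 3841), (3842, 3842), (3843, 3843), (3844, 3844), (3845, 3845), (3846, 3846), (3847, 3847), (3848, 3848), (3849, 3849), (3850, 3850), (3851, 3851), (3852, 3852), (3853, 3149), (3854, 2920), (3855, 2921), (3856, 2922), (3857, 2923), (3858, 2924), (3859, 4983), (3860, 2926), (3861, 2927), (3862, 2928), (3863, 2929), (3864, 2930), (3865, 3116), (3866, 2919), (3867, 4977), (3868, 4991), (3869, 4979), (3870, 4980), (3871, 4981), (3872, 4997), (3873, 2925), (3874, 4984), (3875, 4985), (3876, 4986), (3877, 4987), (3878, 4988), (3879, 5007), (3880, 3100), (3881, 3115), (3882, 3097), (3883, 2931), (3884, 5008), (3885, 2946), (3886, 2947), (3887, 2948), (3888, 5014), (3889, 2937), (3890, 2951), (3891, 2952), (3892, 2953), (3893, 2954), (3894, 2955), (3895, 5025), (3896, 2957), (3897, 3024), (3898, 2959), (3899, 2960), (3900, 2943), (3901, 2945), (3902, 5009), (3903, 5010)]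
    ⟨e3 q3840 L43290 q3840, e3 q3841 L43303 q3841, e3 q3842 L43315 q3842, e3 q3843 L43348 q3843, e3 q3844 L43356 q3844, e3 q3845 L43376 q3845, e3 q3846 L43386 q3846, e3 q3847 L43397 q3847, e3 q3848 L43405 q3848, e3 q3849 L43415 q3849, e3 q3850 L43425 q3850, e3 q3851 L43433 q3851, e3 q3852 L43442 q3852, e3 q3853 (flp_j L627172) q3149, e3 q3854 L43518 q2920, e3 q3855 L43548 q2921, e3 q3856 L43570 q2922, e3 q3857 L43578 q2923, e3 q3858 L43590 q2924, e3 q3859 L62854 q4983, e3 q3860 L43611 q2926, e3 q3861 L43618 q2927, e3 q3862 L43625 q2928, e3 q3863 L43637 q2929, e3 q3864 L43645 q2930, e3 q3865 (flp_j L602320) q3116, e3 q3866 (flp_j L43657) q2919, e3 q3867 (flp_j L62742) q4977, e3 q3868 L63155 q4991, e3 q3869 (flp_j L62810) q4979, e3 q3870 (flp_j L62819) q4980, e3 q3871 (flp_j L62832) q4981, e3 q3872 L63251 q4997, e3 q3873 (flp_j L43854) q2925, e3 q3874 (flp_j L62871) q4984, e3 q3875 (flp_j L62880) q4985, e3 q3876 (flp_j L62888) q4986, e3 q3877 (flp_j L62897) q4987, e3 q3878 (flp_j L62904) q4988, e3 q3879 L63335 q5007, e3 q3880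 (flp_j L625741) q3100, e3 q3881 L626793 q3115, e3 q3882 L625655 q3097, e3 q3883 (flp_j L43939) q2931, e3 q3884 L63496 q5008, e3 q3885 L44045 q2946, e3 q3886 L44054 q2947, e3 q3887 L44066 q2948, e3 q3888 L63608 q5014, e3 q3889 (flp_j L44089) q2937, e3 q3890 L44107 q2951, e3 q3891 L44116 q2952, e3 q3892 L44123 q2953, e3 q3893 L44133 q2954, e3 q3894 L44141 q2955, e3 q3895 L63706 q5025, e3 q3896 L44156 q2957, e3 q3897 (flp_j L626004) q3024, e3 q3898 L44176 q2959, e3 q3899 L44188 q2960, e3 q3900 (flp_j L44190) q2943, e3 q3901 (flp_j L44301) q2945, e3 q3902 (flp_j L63533) q5009, e3 q3903 (flp_j L63545) q5010, trivial⟩ (by decide +kernel)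

theorem ce_j_61 : ∀ r, r < 64 → sm gj (Qf (3904 + r)) = Qf (tab Gen.j (3904 + r)) :=
  edges_tab (sm gj) Qf (tab Gen.j) 3904 [(3904, 5030), (3905, 5012), (3906, 5032), (3907, 2949), (3908, 5015), (3909, 5016), (3910, 5017), (3911, 5039), (3912, 5019), (3913, 5020), (3914, 5021), (3915, 5046), (3916, 5023), (3917, 5024), (3918, 2956), (3919, 3026), (3920, 2999), (3921, 2958), (3922, 3023), (3923, 5026), (3924, 3924), (3925, 3925), (3926, 5054), (3927, 2965), (3928, 5056), (3929, 2967), (3930, 3930), (3931, 3931), (3932, 3932), (3933, 3933), (3934, 5063), (3935, 3935), (3936, 2972), (3937, 3937), (3938, 5068), (3939, 3939), (3940, 3940), (3941, 5073), (3942, 3942), (3943, 2976), (3944, 5077), (3945, 3945), (3946, 3056), (3947, 2980), (3948, 3054), (3949, 3949), (3950, 3950), (3951, 2983), (3952, 5081), (3953, 3003), (3954, 3004), (3955, 3005), (3956, 3006), (3957, 3007), (3958, 5090), (3959, 3009), (3960, 5049), (3961, 3011), (3962, 3012), (3963, 2990), (3964, 3014), (3965, 3015), (3966, 5097), (3967, 3017)]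
    ⟨e3 q3904 L64011 q5030, e3 q3905 (flp_j L63570) q5012, e3 q3906 L64038 q5032, e3 q3907 (flp_j L44402) q2949, e3 q3908 (flp_j L63625) q5015, e3 q3909 (flp_j L63635) q5016, e3 q3910 (flp_j L63645) q5017, e3 q3911 L64130 q5039, e3 q3912 (flp_j L63662) q5019, e3 q3913 (flp_j L63672) q5020, e3 q3914 (flp_j L63678) q5021, e3 q3915 L64191 q5046, e3 q3916 (flp_j L63694) q5023, e3 q3917 (flp_j L63704) q5024, e3 q3918 (flp_j L44489) q2956, e3 q3919 L625857 q3026, e3 q3920 (flp_j L623320) q2999, e3 q3921 (flp_j L44513) q2958, e3 q3922 (flp_j L623087) q3023, e3 q3923 (flp_j L63763) q5026, e3 q3924 L44742 q3924, e3 q3925 L44757 q3925, e3 q3926 L64649 q5054, e3 q3927 (flp_j L44785) q2965, e3 q3928 L64683 q5056, e3 q3929 (flp_j L44814) q2967, e3 q3930 L44847 q3930, e3 q3931 L44858 q3931, e3 q3932 L44866 q3932, e3 q3933 L44873 q3933, e3 q3934 L64818 q5063, e3 q3935 L44892 q3935, e3 q3936 (flp_j L44903) q2972, e3 q3937 L44918 q3937, e3 q3938 L64871 q5068, e3 q3939 L44934 q3939, e3 q3940 L44939 q3940, e3 q3941 L64924 q5073, e3 q3942 L44963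 q3942, e3 q3943 (flp_j L44964) q2976, e3 q3944 (flp_j L64961) q5077, e3 q3945 L44985 q3945, e3 q3946 L624851 q3056, e3 q3947 (flp_j L44994) q2980, e3 q3948 L624657 q3054, e3 q3949 L45019 q3949, e3 q3950 L45032 q3950, e3 q3951 L45040 q2983, e3 q3952 (flp_j L65037) q5081, e3 q3953 L45059 q3003, e3 q3954 L45070 q3004, e3 q3955 L45080 q3005, e3 q3956 L45090 q3006, e3 q3957 L45100 q3007, e3 q3958 L65138 q5090, e3 q3959 L45116 q3009, e3 q3960 (flp_j L617865) q5049, e3 q3961 L45137 q3011, e3 q3962 L45147 q3012, e3 q3963 (flp_j L45151) q2990, e3 q3964 L45170 q3014, e3 q3965 L45180 q3015, e3 q3966 L65266 q5097, e3 q3967 L45208 q3017, trivial⟩ (by decide +kernel)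

theorem ce_j_62 : ∀ r, r < 64 → sm gj (Qf (3968 + r)) = Qf (tab Gen.j (3968 + r)) :=
  edges_tab (sm gj) Qf (tab Gen.j) 3968 [(3968, 3018), (3969, 3019), (3970, 5045), (3971, 3021), (3972, 2997), (3973, 3027), (3974, 5082), (3975, 5083), (3976, 5105), (3977, 5085), (3978, 5086), (3979, 5087), (3980, 5111), (3981, 5089), (3982, 3008), (3983, 5050), (3984, 5091), (3985, 3010), (3986, 5116), (3987, 5093), (3988, 5094), (3989, 5095), (3990, 5121), (3991, 3016), (3992, 5098), (3993, 5125), (3994, 5100), (3995, 5101), (3996, 5047), (3997, 5022), (3998, 3020), (3999, 5044), (4000, 5013), (4001, 5031), (4002, 4002), (4003, 4003), (4004, 5132), (4005, 3030), (4006, 4006), (4007, 5136), (4008, 4008), (4009, 5139), (4010, 4010), (4011, 3034), (4012, 5142), (4013, 5079), (4014, 3037), (4015, 5144), (4016, 4016), (4017, 4017), (4018, 3040), (4019, 5148), (4020, 4020), (4021, 5151), (4022, 5153), (4023, 3044), (4024, 4024), (4025, 5157), (4026, 4026), (4027, 3047), (4028, 5160), (4029, 4029), (4030, 4030), (4031, 5074)]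
    ⟨e3 q3968 L45216 q3018, e3 q3969 L45222 q3019, e3 q3970 (flp_j L621852) q5045, e3 q3971 L45239 q3021, e3 q3972 (flp_j L45253) q2997, e3 q3973 L45305 q3027, e3 q3974 (flp_j L65045) q5082, e3 q3975 (flp_j L65057) q5083, e3 q3976 L65489 q5105, e3 q3977 (flp_j L65087) q5085, e3 q3978 (flp_j L65097) q5086, e3 q3979 (flp_j L65103) q5087, e3 q3980 L65552 q5111, e3 q3981 (flp_j L65124) q5089, e3 q3982 (flp_j L45396) q3008, e3 q3983 L623053 q5050, e3 q3984 (flp_j L65165) q5091, e3 q3985 (flp_j L45422) q3010, e3 q3986 (flp_j L65629) q5116, e3 q3987 (flp_j L65193) q5093, e3 q3988 (flp_j L65211) q5094, e3 q3989 (flp_j L65229) q5095, e3 q3990 L65716 q5121, e3 q3991 (flp_j L45511) q3016, e3 q3992 (flp_j L65282) q5098, e3 q3993 L65765 q5125, e3 q3994 (flp_j L65296) q5100, e3 q3995 (flp_j L65301) q5101, e3 q3996 (flp_j L623101) q5047, e3 q3997 (flp_j L623329) q5022, e3 q3998 (flp_j L45566) q3020, e3 q3999 (flp_j L625068) q5044, e3 q4000 (flp_j L626127) q5013, e3 q4001 L625972 q5031, e3 q4002 L45664 q4002, e3 q4003 L45681 q4003, e3 q4004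 L66016 q5132, e3 q4005 (flp_j L45718) q3030, e3 q4006 L45734 q4006, e3 q4007 L66072 q5136, e3 q4008 L45750 q4008, e3 q4009 L66120 q5139, e3 q4010 L45780 q4010, e3 q4011 (flp_j L45781) q3034, e3 q4012 (flp_j L66163) q5142, e3 q4013 (flp_j L624684) q5079, e3 q4014 (flp_j L45816) q3037, e3 q4015 (flp_j L66199) q5144, e3 q4016 L45840 q4016, e3 q4017 L45851 q4017, e3 q4018 L45859 q3040, e3 q4019 (flp_j L66245) q5148, e3 q4020 L45892 q4020, e3 q4021 L66311 q5151, e3 q4022 L66370 q5153, e3 q4023 (flp_j L45945) q3044, e3 q4024 L45978 q4024, e3 q4025 L66441 q5157, e3 q4026 L45994 q4026, e3 q4027 (flp_j L45995) q3047, e3 q4028 (flp_j L66474) q5160, e3 q4029 L46010 q4029, e3 q4030 L46024 q4030, e3 q4031 L624787 q5074, trivial⟩ (by decide +kernel)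

theorem ce_j_63 : ∀ r, r < 64 → sm gj (Qf (4032 + r)) = Qf (tab Gen.j (4032 + r)) :=
  edges_tab (sm gj) Qf (tab Gen.j) 4032 [(4032, 3050), (4033, 5072), (4034, 3053), (4035, 5055), (4036, 3059), (4037, 4037), (4038, 5166), (4039, 5168), (4040, 4040), (4041, 3062), (4042, 5171), (4043, 4043), (4044, 5175), (4045, 4045), (4046, 3066), (4047, 5178), (4048, 5179), (4049, 3068), (4050, 5181), (4051, 4051), (4052, 3071), (4053, 3072), (4054, 5184), (4055, 3074), (4056, 5186), (4057, 4057), (4058, 4058), (4059, 5191), (4060, 4060), (4061, 5195), (4062, 3079), (4063, 5196), (4064, 3080), (4065, 5198), (4066, 4066), (4067, 5201), (4068, 3083), (4069, 3085), (4070, 3102), (4071, 3103), (4072, 5205), (4073, 3090), (4074, 3106), (4075, 5209), (4076, 3108), (4077, 3109), (4078, 5006), (4079, 3111), (4080, 3094), (4081, 5004), (4082, 3117), (4083, 4995), (4084, 5202), (4085, 5215), (4086, 5216), (4087, 3104), (4088, 5206), (4089, 5219), (4090, 5208), (4091, 3107), (4092, 5222), (4093, 5211), (4094, 5212), (4095, 3110)]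
    ⟨e3 q4032 (flp_j L46040) q3050, e3 q4033 L624834 q5072, e3 q4034 L46072 q3053, e3 q4035 (flp_j L624816) q5055, e3 q4036 L46126 q3059, e3 q4037 L46155 q4037, e3 q4038 L66669 q5166, e3 q4039 L66717 q5168, e3 q4040 L46205 q4040, e3 q4041 (flp_j L46207) q3062, e3 q4042 (flp_j L66757) q5171, e3 q4043 L46234 q4043, e3 q4044 L66782 q5175, e3 q4045 L46254 q4045, e3 q4046 (flp_j L46256) q3066, e3 q4047 (flp_j L66815) q5178, e3 q4048 L66839 q5179, e3 q4049 (flp_j L46298) q3068, e3 q4050 (flp_j L66864) q5181, e3 q4051 L46321 q4051, e3 q4052 L46330 q3071, e3 q4053 (flp_j L46334) q3072, e3 q4054 (flp_j L66899) q5184, e3 q4055 L46362 q3074, e3 q4056 (flp_j L66915) q5186, e3 q4057 L46379 q4057, e3 q4058 L46389 q4058, e3 q4059 L66952 q5191, e3 q4060 L46406 q4060, e3 q4061 L66984 q5195, e3 q4062 (flp_j L46416) q3079, e3 q4063 L66994 q5196, e3 q4064 (flp_j L46434) q3080, e3 q4065 L67010 q5198, e3 q4066 L46453 q4066, e3 q4067 L67028 q5201, e3 q4068 (flp_j L46463) q3083, e3 q4069 (flp_j L46472) q3085, e3 q4070 L46506 q3102, e3 q4071 L46526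 q3103, e3 q4072 L67137 q5205, e3 q4073 (flp_j L46564) q3090, e3 q4074 L46580 q3106, e3 q4075 L67197 q5209, e3 q4076 L46599 q3108, e3 q4077 L46605 q3109, e3 q4078 L603890 q5006, e3 q4079 L46634 q3111, e3 q4080 (flp_j L46636) q3094, e3 q4081 (flp_j L625328) q5004, e3 q4082 L46710 q3117, e3 q4083 (flp_j L625785) q4995, e3 q4084 (flp_j L67073) q5202, e3 q4085 L67467 q5215, e3 q4086 L67517 q5216, e3 q4087 (flp_j L46815) q3104, e3 q4088 (flp_j L67174) q5206, e3 q4089 L67594 q5219, e3 q4090 (flp_j L67195) q5208, e3 q4091 (flp_j L46870) q3107, e3 q4092 (flp_j L67635) q5222, e3 q4093 (flp_j L67219) q5211, e3 q4094 (flp_j L67235) q5212, e3 q4095 (flp_j L46914) q3110, trivial⟩ (by decide +kernel)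

theorem ce_j_64 : ∀ r, r < 64 → sm gj (Qf (4096 + r)) = Qf (tab Gen.j (4096 + r)) :=
  edges_tab (sm gj) Qf (tab Gen.j) 4096 [(4096, 5005), (4097, 4989), (4098, 3113), (4099, 4996), (4100, 4982), (4101, 3119), (4102, 3120), (4103, 3123), (4104, 5228), (4105, 4105), (4106, 4106), (4107, 3143), (4108, 4108), (4109, 4109), (4110, 3144), (4111, 4111), (4112, 3145), (4113, 4113), (4114, 3146), (4115, 3147), (4116, 4116), (4117, 4117), (4118, 3148), (4119, 4119), (4120, 3150), (4121, 5232), (4122, 5236), (4123, 5239), (4124, 5241), (4125, 5242), (4126, 5243), (4127, 4526), (4128, 4973), (4129, 5244), (4130, 5255), (4131, 4131), (4132, 4132), (4133, 4133), (4134, 4134), (4135, 4135), (4136, 4136), (4137, 4137), (4138, 4138), (4139, 4139), (4140, 4140), (4141, 4141), (4142, 3186), (4143, 3180), (4144, 3181), (4145, 5267), (4146, 3183), (4147, 3187), (4148, 3173), (4149, 3188), (4150, 5265), (4151, 5269), (4152, 3182), (4153, 3201), (4154, 3189), (4155, 3184), (4156, 5264), (4157, 3196), (4158, 3311), (4159, 3194)]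
    ⟨e3 q4096 (flp_j L625320) q5005, e3 q4097 (flp_j L626928) q4989, e3 q4098 L46954 q3113, e3 q4099 (flp_j L626806) q4996, e3 q4100 (flp_j L626958) q4982, e3 q4101 L47017 q3119, e3 q4102 (flp_j L47057) q3120, e3 q4103 L47134 q3123, e3 q4104 (flp_j L67933) q5228, e3 q4105 L47153 q4105, e3 q4106 L47168 q4106, e3 q4107 L47218 q3143, e3 q4108 L47230 q4108, e3 q4109 L47270 q4109, e3 q4110 L47307 q3144, e3 q4111 L47320 q4111, e3 q4112 L47328 q3145, e3 q4113 L47338 q4113, e3 q4114 L47344 q3146, e3 q4115 L47363 q3147, e3 q4116 L47380 q4116, e3 q4117 L47391 q4117, e3 q4118 L47396 q3148, e3 q4119 L47446 q4119, e3 q4120 L47464 q3150, e3 q4121 (flp_j L68054) q5232, e3 q4122 (flp_j L68197) q5236, e3 q4123 (flp_j L68220) q5239, e3 q4124 (flp_j L68255) q5241, e3 q4125 (flp_j L68272) q5242, e3 q4126 (flp_j L68323) q5243, e3 q4127 L619109 q4526, e3 q4128 (flp_j L627138) q4973, e3 q4129 (flp_j L68395) q5244, e3 q4130 L68731 q5255, e3 q4131 L47744 q4131, e3 q4132 L47754 q4132, e3 q4133 L47764 q4133, e3 q4134 L47815 q4134, e3 q4135 L47824 q4135,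 e3 q4136 L47834 q4136, e3 q4137 L47889 q4137, e3 q4138 L47904 q4138, e3 q4139 L47932 q4139, e3 q4140 L47961 q4140, e3 q4141 L47970 q4141, e3 q4142 (flp_j L627202) q3186, e3 q4143 L48047 q3180, e3 q4144 L48185 q3181, e3 q4145 L69489 q5267, e3 q4146 L48268 q3183, e3 q4147 (flp_j L627214) q3187, e3 q4148 (flp_j L48286) q3173, e3 q4149 L48333 q3188, e3 q4150 (flp_j L69216) q5265, e3 q4151 L70014 q5269, e3 q4152 (flp_j L48627) q3182, e3 q4153 (flp_j L603520) q3201, e3 q4154 L625796 q3189, e3 q4155 (flp_j L48713) q3184, e3 q4156 L627228 q5264, e3 q4157 (flp_j L626121) q3196, e3 q4158 L627251 q3311, e3 q4159 (flp_j L48957) q3194, trivial⟩ (by decide +kernel)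

theorem ce_j_65 : ∀ r, r < 64 → sm gj (Qf (4160 + r)) = Qf (tab Gen.j (4160 + r)) :=
  edges_tab (sm gj) Qf (tab Gen.j) 4160 [(4160, 3207), (4161, 3211), (4162, 3210), (4163, 3213), (4164, 3212), (4165, 3208), (4166, 3237), (4167, 3250), (4168, 3243), (4169, 3257), (4170, 3223), (4171, 3219), (4172, 4172), (4173, 3264), (4174, 3222), (4175, 3271), (4176, 4176), (4177, 3226), (4178, 3245), (4179, 5114), (4180, 3247), (4181, 3251), (4182, 3235), (4183, 3254), (4184, 5115), (4185, 3241), (4186, 5092), (4187, 5113), (4188, 3246), (4189, 3253), (4190, 3248), (4191, 5117), (4192, 3255), (4193, 5143), (4194, 3260), (4195, 3266), (4196, 3262), (4197, 3287), (4198, 5146), (4199, 3269), (4200, 4200), (4201, 5273), (4202, 4202), (4203, 5276), (4204, 4204), (4205, 3275), (4206, 5278), (4207, 5145), (4208, 3277), (4209, 5185), (4210, 4210), (4211, 3280), (4212, 3305), (4213, 3304), (4214, 3282), (4215, 5280), (4216, 3285), (4217, 5281), (4218, 3295), (4219, 3289), (4220, 3293), (4221, 5279), (4222, 4222), (4223, 5285)]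
    ⟨e3 q4160 L49027 q3207, e3 q4161 (flp_j L626117) q3211, e3 q4162 L49108 q3210, e3 q4163 L49140 q3213, e3 q4164 L625956 q3212, e3 q4165 (flp_j L49490) q3208, e3 q4166 (flp_j L626215) q3237, e3 q4167 (flp_j L626517) q3250, e3 q4168 L603202 q3243, e3 q4169 (flp_j L625935) q3257, e3 q4170 (flp_j L613643) q3223, e3 q4171 (flp_j L50130) q3219, e3 q4172 L50275 q4172, e3 q4173 (flp_j L626524) q3264, e3 q4174 (flp_j L50296) q3222, e3 q4175 L624223 q3271, e3 q4176 L50373 q4176, e3 q4177 L50389 q3226, e3 q4178 L50470 q3245, e3 q4179 L605817 q5114, e3 q4180 L50514 q3247, e3 q4181 L626249 q3251, e3 q4182 (flp_j L50549) q3235, e3 q4183 L50629 q3254, e3 q4184 L626109 q5115, e3 q4185 (flp_j L50660) q3241, e3 q4186 L617791 q5092, e3 q4187 (flp_j L623015) q5113, e3 q4188 (flp_j L50862) q3246, e3 q4189 L625916 q3253, e3 q4190 (flp_j L50926) q3248, e3 q4191 (flp_j L625945) q5117, e3 q4192 (flp_j L51071) q3255, e3 q4193 L624390 q5143, e3 q4194 (flp_j L51348) q3260, e3 q4195 (flp_j L624190) q3266, e3 q4196 (flp_j L51450) q3262, e3 q4197 (flp_j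 L624375) q3287, e3 q4198 L624778 q5146, e3 q4199 (flp_j L51680) q3269, e3 q4200 L51903 q4200, e3 q4201 L75003 q5273, e3 q4202 L51939 q4202, e3 q4203 L75076 q5276, e3 q4204 L51962 q4204, e3 q4205 (flp_j L51964) q3275, e3 q4206 (flp_j L75113) q5278, e3 q4207 (flp_j L624359) q5145, e3 q4208 (flp_j L52013) q3277, e3 q4209 L624553 q5185, e3 q4210 L52036 q4210, e3 q4211 L52045 q3280, e3 q4212 L613705 q3305, e3 q4213 L613696 q3304, e3 q4214 (flp_j L52072) q3282, e3 q4215 (flp_j L75253) q5280, e3 q4216 L52105 q3285, e3 q4217 (flp_j L75281) q5281, e3 q4218 L624351 q3295, e3 q4219 L52157 q3289, e3 q4220 (flp_j L623959) q3293, e3 q4221 (flp_j L613522) q5279, e3 q4222 L52224 q4222, e3 q4223 L75443 q5285, trivial⟩ (by decide +kernel)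

theorem ce_j_66 : ∀ r, r < 64 → sm gj (Qf (4224 + r)) = Qf (tab Gen.j (4224 + r)) :=
  edges_tab (sm gj) Qf (tab Gen.j) 4224 [(4224, 3298), (4225, 5275), (4226, 5274), (4227, 3300), (4228, 3302), (4229, 5227), (4230, 3309), (4231, 3313), (4232, 4232), (4233, 4233), (4234, 4234), (4235, 4235), (4236, 4236), (4237, 3324), (4238, 3325), (4239, 5290), (4240, 5291), (4241, 5292), (4242, 4242), (4243, 4243), (4244, 3329), (4245, 3330), (4246, 3331), (4247, 5301), (4248, 5302), (4249, 5303), (4250, 5304), (4251, 5312), (4252, 3335), (4253, 3336), (4254, 3337), (4255, 3338), (4256, 5319), (4257, 5313), (4258, 5314), (4259, 5315), (4260, 5316), (4261, 5317), (4262, 5330), (4263, 3339), (4264, 4264), (4265, 4265), (4266, 4266), (4267, 4267), (4268, 4268), (4269, 5341), (4270, 4270), (4271, 5344), (4272, 4272), (4273, 4273), (4274, 3345), (4275, 4275), (4276, 4276), (4277, 4277), (4278, 4278), (4279, 4279), (4280, 3355), (4281, 3356), (4282, 3357), (4283, 3358), (4284, 3359), (4285, 3360), (4286, 3361), (4287, 5365)]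
    ⟨e3 q4224 (flp_j L52234) q3298, e3 q4225 (flp_j L624368) q5275, e3 q4226 (flp_j L624232) q5274, e3 q4227 (flp_j L52267) q3300, e3 q4228 (flp_j L52277) q3302, e3 q4229 L626972 q5227, e3 q4230 (flp_j L52416) q3309, e3 q4231 (flp_j L52776) q3313, e3 q4232 L53376 q4232, e3 q4233 L54470 q4233, e3 q4234 L54477 q4234, e3 q4235 L55047 q4235, e3 q4236 L55055 q4236, e3 q4237 L55062 q3324, e3 q4238 L55071 q3325, e3 q4239 (flp_j L79370) q5290, e3 q4240 (flp_j L79380) q5291, e3 q4241 (flp_j L79390) q5292, e3 q4242 L55108 q4242, e3 q4243 L55119 q4243, e3 q4244 L55128 q3329, e3 q4245 L55139 q3330, e3 q4246 L55148 q3331, e3 q4247 (flp_j L79475) q5301, e3 q4248 (flp_j L79486) q5302, e3 q4249 (flp_j L79494) q5303, e3 q4250 (flp_j L79503) q5304, e3 q4251 L79570 q5312, e3 q4252 L55206 q3335, e3 q4253 L55218 q3336, e3 q4254 L55227 q3337, e3 q4255 L55237 q3338, e3 q4256 L79639 q5319, e3 q4257 (flp_j L79587) q5313, e3 q4258 (flp_j L79597) q5314, e3 q4259 (flp_j L79606) q5315, e3 q4260 (flp_j L79617) q5316, e3 q4261 (flp_j L79626) q5317, e3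 q4262 L79735 q5330, e3 q4263 (flp_j L55304) q3339, e3 q4264 L55319 q4264, e3 q4265 L55328 q4265, e3 q4266 L55336 q4266, e3 q4267 L55346 q4267, e3 q4268 L55353 q4268, e3 q4269 L79829 q5341, e3 q4270 L55369 q4270, e3 q4271 L79855 q5344, e3 q4272 L55386 q4272, e3 q4273 L55396 q4273, e3 q4274 (flp_j L55398) q3345, e3 q4275 L55414 q4275, e3 q4276 L55426 q4276, e3 q4277 L55438 q4277, e3 q4278 L55447 q4278, e3 q4279 L55453 q4279, e3 q4280 L55461 q3355, e3 q4281 L55472 q3356, e3 q4282 L55482 q3357, e3 q4283 L55496 q3358, e3 q4284 L55504 q3359, e3 q4285 L55509 q3360, e3 q4286 L55519 q3361, e3 q4287 L80059 q5365, trivial⟩ (by decide +kernel)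

theorem ce_j_67 : ∀ r, r < 64 → sm gj (Qf (4288 + r)) = Qf (tab Gen.j (4288 + r)) :=
  edges_tab (sm gj) Qf (tab Gen.j) 4288 [(4288, 5355), (4289, 5356), (4290, 5357), (4291, 5371), (4292, 5359), (4293, 5360), (4294, 5361), (4295, 5362), (4296, 5363), (4297, 5382), (4298, 3362), (4299, 3371), (4300, 3372), (4301, 3373), (4302, 5388), (4303, 3375), (4304, 3376), (4305, 3377), (4306, 3378), (4307, 3379), (4308, 5399), (4309, 3370), (4310, 5383), (4311, 5384), (4312, 5385), (4313, 5386), (4314, 5408), (4315, 3374), (4316, 5389), (4317, 5390), (4318, 5391), (4319, 5392), (4320, 5393), (4321, 5419), (4322, 5395), (4323, 5422), (4324, 5397), (4325, 5398), (4326, 3380), (4327, 4327), (4328, 4328), (4329, 4329), (4330, 5431), (4331, 4331), (4332, 5434), (4333, 4333), (4334, 4334), (4335, 3386), (4336, 4336), (4337, 4337), (4338, 4338), (4339, 5444), (4340, 4340), (4341, 4341), (4342, 4342), (4343, 5452), (4344, 4344), (4345, 4345), (4346, 3393), (4347, 5456), (4348, 4348), (4349, 3395), (4350, 5460), (4351, 4351)]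
    ⟨e3 q4288 (flp_j L79974) q5355, e3 q4289 (flp_j L79982) q5356, e3 q4290 (flp_j L79994) q5357, e3 q4291 L80124 q5371, e3 q4292 (flp_j L80017) q5359, e3 q4293 (flp_j L80023) q5360, e3 q4294 (flp_j L80032) q5361, e3 q4295 (flp_j L80042) q5362, e3 q4296 (flp_j L80050) q5363, e3 q4297 L80207 q5382, e3 q4298 (flp_j L55623) q3362, e3 q4299 L55649 q3371, e3 q4300 L55658 q3372, e3 q4301 L55671 q3373, e3 q4302 L80279 q5388, e3 q4303 L55693 q3375, e3 q4304 L55700 q3376, e3 q4305 L55709 q3377, e3 q4306 L55718 q3378, e3 q4307 L55728 q3379, e3 q4308 L80378 q5399, e3 q4309 (flp_j L55736) q3370, e3 q4310 (flp_j L80232) q5383, e3 q4311 (flp_j L80243) q5384, e3 q4312 (flp_j L80255) q5385, e3 q4313 (flp_j L80267) q5386, e3 q4314 L80484 q5408, e3 q4315 (flp_j L55803) q3374, e3 q4316 (flp_j L80297) q5389, e3 q4317 (flp_j L80307) q5390, e3 q4318 (flp_j L80314) q5391, e3 q4319 (flp_j L80325) q5392, e3 q4320 (flp_j L80334) q5393, e3 q4321 L80572 q5419, e3 q4322 (flp_j L80347) q5395, e3 q4323 L80595 q5422, e3 q4324 (flp_j L80366) q5397, e3 q4325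 (flp_j L80376) q5398, e3 q4326 (flp_j L55891) q3380, e3 q4327 L55923 q4327, e3 q4328 L55935 q4328, e3 q4329 L55944 q4329, e3 q4330 L80714 q5431, e3 q4331 L55960 q4331, e3 q4332 L80744 q5434, e3 q4333 L55982 q4333, e3 q4334 L55992 q4334, e3 q4335 (flp_j L55995) q3386, e3 q4336 L56011 q4336, e3 q4337 L56020 q4337, e3 q4338 L56028 q4338, e3 q4339 L80831 q5444, e3 q4340 L56043 q4340, e3 q4341 L56052 q4341, e3 q4342 L56057 q4342, e3 q4343 L80895 q5452, e3 q4344 L56073 q4344, e3 q4345 L56080 q4345, e3 q4346 (flp_j L56081) q3393, e3 q4347 L80923 q5456, e3 q4348 L56105 q4348, e3 q4349 (flp_j L56106) q3395, e3 q4350 (flp_j L80964) q5460, e3 q4351 L56128 q4351, trivial⟩ (by decide +kernel)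

theorem ce_j_68 : ∀ r, r < 64 → sm gj (Qf (4352 + r)) = Qf (tab Gen.j (4352 + r)) :=
  edges_tab (sm gj) Qf (tab Gen.j) 4352 [(4352, 3414), (4353, 3415), (4354, 3416), (4355, 3417), (4356, 5468), (4357, 3419), (4358, 3420), (4359, 3421), (4360, 3422), (4361, 3423), (4362, 5479), (4363, 3406), (4364, 3426), (4365, 3427), (4366, 3428), (4367, 3429), (4368, 3430), (4369, 5490), (4370, 3432), (4371, 5493), (4372, 3434), (4373, 3435), (4374, 3412), (4375, 5462), (4376, 5463), (4377, 5464), (4378, 5465), (4379, 5466), (4380, 5506), (4381, 3418), (4382, 5469), (4383, 5470), (4384, 5471), (4385, 5472), (4386, 5473), (4387, 5517), (4388, 5475), (4389, 5520), (4390, 5477), (4391, 5478), (4392, 3424), (4393, 5480), (4394, 5481), (4395, 5482), (4396, 5530), (4397, 5484), (4398, 5485), (4399, 5486), (4400, 5538), (4401, 5488), (4402, 5489), (4403, 3431), (4404, 5542), (4405, 5492), (4406, 3433), (4407, 5546), (4408, 5495), (4409, 4409), (4410, 4410), (4411, 4411), (4412, 4412), (4413, 4413), (4414, 5558), (4415, 4415)]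
    ⟨e3 q4352 L56135 q3414, e3 q4353 L56147 q3415, e3 q4354 L56156 q3416, e3 q4355 L56166 q3417, e3 q4356 L81034 q5468, e3 q4357 L56189 q3419, e3 q4358 L56198 q3420, e3 q4359 L56209 q3421, e3 q4360 L56219 q3422, e3 q4361 L56229 q3423, e3 q4362 L81142 q5479, e3 q4363 (flp_j L56240) q3406, e3 q4364 L56256 q3426, e3 q4365 L56266 q3427, e3 q4366 L56275 q3428, e3 q4367 L56284 q3429, e3 q4368 L56293 q3430, e3 q4369 L81243 q5490, e3 q4370 L56307 q3432, e3 q4371 L81268 q5493, e3 q4372 L56323 q3434, e3 q4373 L56333 q3435, e3 q4374 (flp_j L56335) q3412, e3 q4375 (flp_j L80980) q5462, e3 q4376 (flp_j L80990) q5463, e3 q4377 (flp_j L80999) q5464, e3 q4378 (flp_j L81011) q5465, e3 q4379 (flp_j L81020) q5466, e3 q4380 L81379 q5506, e3 q4381 (flp_j L56400) q3418, e3 q4382 (flp_j L81052) q5469, e3 q4383 (flp_j L81064) q5470, e3 q4384 (flp_j L81074) q5471, e3 q4385 (flp_j L81085) q5472, e3 q4386 (flp_j L81096) q5473, e3 q4387 L81480 q5517, e3 q4388 (flp_j L81110) q5475, e3 q4389 L81505 q5520, e3 q4390 (flp_j L81130) q5477, e3 q4391 (flp_j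 L81138) q5478, e3 q4392 (flp_j L56497) q3424, e3 q4393 (flp_j L81160) q5480, e3 q4394 (flp_j L81170) q5481, e3 q4395 (flp_j L81180) q5482, e3 q4396 L81588 q5530, e3 q4397 (flp_j L81197) q5484, e3 q4398 (flp_j L81206) q5485, e3 q4399 (flp_j L81212) q5486, e3 q4400 L81646 q5538, e3 q4401 (flp_j L81230) q5488, e3 q4402 (flp_j L81241) q5489, e3 q4403 (flp_j L56587) q3431, e3 q4404 L81678 q5542, e3 q4405 (flp_j L81266) q5492, e3 q4406 (flp_j L56609) q3433, e3 q4407 (flp_j L81710) q5546, e3 q4408 (flp_j L81289) q5495, e3 q4409 L56635 q4409, e3 q4410 L56644 q4410, e3 q4411 L56653 q4411, e3 q4412 L56663 q4412, e3 q4413 L56670 q4413, e3 q4414 L81807 q5558, e3 q4415 L56687 q4415, trivial⟩ (by decide +kernel)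

theorem ce_j_69 : ∀ r, r < 64 → sm gj (Qf (4416 + r)) = Qf (tab Gen.j (4416 + r)) :=
  edges_tab (sm gj) Qf (tab Gen.j) 4416 [(4416, 5561), (4417, 4417), (4418, 4418), (4419, 3442), (4420, 4420), (4421, 4421), (4422, 4422), (4423, 5571), (4424, 4424), (4425, 4425), (4426, 4426), (4427, 5579), (4428, 4428), (4429, 4429), (4430, 3449), (4431, 5583), (4432, 4432), (4433, 3451), (4434, 5587), (4435, 4435), (4436, 4436), (4437, 4437), (4438, 4438), (4439, 4439), (4440, 5598), (4441, 4441), (4442, 4442), (4443, 3458), (4444, 4444), (4445, 5604), (4446, 4446), (4447, 4447), (4448, 4448), (4449, 5611), (4450, 4450), (4451, 3462), (4452, 5615), (4453, 4453), (4454, 5617), (4455, 3466), (4456, 5619), (4457, 4457), (4458, 4458), (4459, 3469), (4460, 5624), (4461, 5625), (4462, 4462), (4463, 5627), (4464, 3473), (4465, 5628), (4466, 4466), (4467, 5630), (4468, 3477), (4469, 5632), (4470, 4470), (4471, 3479), (4472, 5635), (4473, 4473), (4474, 5637), (4475, 3483), (4476, 4476), (4477, 5640), (4478, 5642), (4479, 4479)]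
    ⟨e3 q4416 L81835 q5561, e3 q4417 L56705 q4417, e3 q4418 L56715 q4418, e3 q4419 (flp_j L56717) q3442, e3 q4420 L56734 q4420, e3 q4421 L56745 q4421, e3 q4422 L56755 q4422, e3 q4423 L81928 q5571, e3 q4424 L56771 q4424, e3 q4425 L56780 q4425, e3 q4426 L56785 q4426, e3 q4427 L81994 q5579, e3 q4428 L56806 q4428, e3 q4429 L56813 q4429, e3 q4430 (flp_j L56816) q3449, e3 q4431 L82027 q5583, e3 q4432 L56842 q4432, e3 q4433 (flp_j L56843) q3451, e3 q4434 (flp_j L82066) q5587, e3 q4435 L56861 q4435, e3 q4436 L56869 q4436, e3 q4437 L56878 q4437, e3 q4438 L56887 q4438, e3 q4439 L56893 q4439, e3 q4440 L82150 q5598, e3 q4441 L56912 q4441, e3 q4442 L56922 q4442, e3 q4443 (flp_j L56923) q3458, e3 q4444 L56937 q4444, e3 q4445 L82198 q5604, e3 q4446 L56951 q4446, e3 q4447 L56954 q4447, e3 q4448 L56963 q4448, e3 q4449 L82245 q5611, e3 q4450 L56980 q4450, e3 q4451 (flp_j L56981) q3462, e3 q4452 (flp_j L82286) q5615, e3 q4453 L57002 q4453, e3 q4454 L82296 q5617, e3 q4455 (flp_j L57010) q3466, e3 q4456 (flp_j L82316) q5619, e3 q4457 L57030 q4457,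 e3 q4458 L57041 q4458, e3 q4459 L57046 q3469, e3 q4460 (flp_j L82356) q5624, e3 q4461 L82446 q5625, e3 q4462 L57113 q4462, e3 q4463 L82474 q5627, e3 q4464 (flp_j L57145) q3473, e3 q4465 L82567 q5628, e3 q4466 L57211 q4466, e3 q4467 L82629 q5630, e3 q4468 (flp_j L57241) q3477, e3 q4469 L82663 q5632, e3 q4470 L57263 q4470, e3 q4471 (flp_j L57264) q3479, e3 q4472 (flp_j L82697) q5635, e3 q4473 L57325 q4473, e3 q4474 L82798 q5637, e3 q4475 (flp_j L57359) q3483, e3 q4476 L57374 q4476, e3 q4477 L82855 q5640, e3 q4478 L82914 q5642, e3 q4479 L57429 q4479, trivial⟩ (by decide +kernel)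

theorem ce_j_70 : ∀ r, r < 64 → sm gj (Qf (4480 + r)) = Qf (tab Gen.j (4480 + r)) :=
  edges_tab (sm gj) Qf (tab Gen.j) 4480 [(4480, 3486), (4481, 5645), (4482, 5646), (4483, 3489), (4484, 5648), (4485, 4485), (4486, 4486), (4487, 3492), (4488, 5653), (4489, 4489), (4490, 5656), (4491, 5658), (4492, 4492), (4493, 3496), (4494, 5661), (4495, 4495), (4496, 5665), (4497, 4497), (4498, 3500), (4499, 5668), (4500, 5669), (4501, 3502), (4502, 5671), (4503, 4503), (4504, 4504), (4505, 3505), (4506, 5676), (4507, 3507), (4508, 5678), (4509, 3509), (4510, 5681), (4511, 5682), (4512, 4512), (4513, 4513), (4514, 3513), (4515, 4515), (4516, 4516), (4517, 4517), (4518, 4518), (4519, 4519), (4520, 4520), (4521, 4521), (4522, 4522), (4523, 4523), (4524, 4524), (4525, 4525), (4526, 4127), (4527, 3533), (4528, 3534), (4529, 3535), (4530, 3536), (4531, 3537), (4532, 3538), (4533, 3539), (4534, 5713), (4535, 3541), (4536, 3542), (4537, 3543), (4538, 3544), (4539, 3545), (4540, 5724), (4541, 3532), (4542, 5703), (4543, 5704)]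
    ⟨e3 q4480 (flp_j L57430) q3486, e3 q4481 (flp_j L82955) q5645, e3 q4482 L82966 q5646, e3 q4483 (flp_j L57465) q3489, e3 q4484 (flp_j L82991) q5648, e3 q4485 L57487 q4485, e3 q4486 L57496 q4486, e3 q4487 L57505 q3492, e3 q4488 (flp_j L83029) q5653, e3 q4489 L57540 q4489, e3 q4490 L83105 q5656, e3 q4491 L83159 q5658, e3 q4492 L57595 q4492, e3 q4493 (flp_j L57596) q3496, e3 q4494 (flp_j L83202) q5661, e3 q4495 L57628 q4495, e3 q4496 L83235 q5665, e3 q4497 L57646 q4497, e3 q4498 (flp_j L57647) q3500, e3 q4499 (flp_j L83275) q5668, e3 q4500 L83317 q5669, e3 q4501 (flp_j L57695) q3502, e3 q4502 (flp_j L83340) q5671, e3 q4503 L57716 q4503, e3 q4504 L57726 q4504, e3 q4505 L57733 q3505, e3 q4506 (flp_j L83380) q5676, e3 q4507 (flp_j L57744) q3507, e3 q4508 (flp_j L83397) q5678, e3 q4509 L57767 q3509, e3 q4510 (flp_j L83419) q5681, e3 q4511 (flp_j L83429) q5682, e3 q4512 L57789 q4512, e3 q4513 L57799 q4513, e3 q4514 L57807 q3513, e3 q4515 L57819 q4515, e3 q4516 L57828 q4516, e3 q4517 L57837 q4517, e3 q4518 L57849 q4518, e3 q4519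 L57858 q4519, e3 q4520 L57870 q4520, e3 q4521 L57879 q4521, e3 q4522 L57890 q4522, e3 q4523 L57901 q4523, e3 q4524 L57908 q4524, e3 q4525 L57915 q4525, e3 q4526 (flp_j L619109) q4127, e3 q4527 L57932 q3533, e3 q4528 L57942 q3534, e3 q4529 L57965 q3535, e3 q4530 L57975 q3536, e3 q4531 L57999 q3537, e3 q4532 L58006 q3538, e3 q4533 L58016 q3539, e3 q4534 L83788 q5713, e3 q4535 L58039 q3541, e3 q4536 L58046 q3542, e3 q4537 L58054 q3543, e3 q4538 L58065 q3544, e3 q4539 L58071 q3545, e3 q4540 L83880 q5724, e3 q4541 (flp_j L58082) q3532, e3 q4542 (flp_j L83663) q5703, e3 q4543 (flp_j L83674) q5704, trivial⟩ (by decide +kernel)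

theorem ce_j_71 : ∀ r, r < 64 → sm gj (Qf (4544 + r)) = Qf (tab Gen.j (4544 + r)) :=
  edges_tab (sm gj) Qf (tab Gen.j) 4544 [(4544, 5705), (4545, 5706), (4546, 5731), (4547, 5708), (4548, 5709), (4549, 5710), (4550, 5711), (4551, 5740), (4552, 3540), (4553, 5714), (4554, 5715), (4555, 5716), (4556, 5717), (4557, 5718), (4558, 5748), (4559, 5720), (4560, 5751), (4561, 5722), (4562, 5723), (4563, 3546), (4564, 3561), (4565, 3562), (4566, 5757), (4567, 3564), (4568, 3565), (4569, 3566), (4570, 3567), (4571, 5766), (4572, 3553), (4573, 3570), (4574, 3571), (4575, 3572), (4576, 3573), (4577, 3574), (4578, 5777), (4579, 3576), (4580, 5780), (4581, 3578), (4582, 3579), (4583, 3559), (4584, 5754), (4585, 5755), (4586, 5787), (4587, 3563), (4588, 5758), (4589, 5759), (4590, 5760), (4591, 5794), (4592, 5762), (4593, 5797), (4594, 5764), (4595, 5765), (4596, 3568), (4597, 5767), (4598, 5768), (4599, 5769), (4600, 5807), (4601, 5771), (4602, 5772), (4603, 5773), (4604, 5815), (4605, 5775), (4606, 5776), (4607, 3575)]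
    ⟨e3 q4544 (flp_j L83706) q5705, e3 q4545 (flp_j L83715) q5706, e3 q4546 L83989 q5731, e3 q4547 (flp_j L83747) q5708, e3 q4548 (flp_j L83757) q5709, e3 q4549 (flp_j L83769) q5710, e3 q4550 (flp_j L83777) q5711, e3 q4551 L84081 q5740, e3 q4552 (flp_j L58219) q3540, e3 q4553 (flp_j L83805) q5714, e3 q4554 (flp_j L83814) q5715, e3 q4555 (flp_j L83821) q5716, e3 q4556 (flp_j L83832) q5717, e3 q4557 (flp_j L83838) q5718, e3 q4558 L84162 q5748, e3 q4559 (flp_j L83854) q5720, e3 q4560 L84186 q5751, e3 q4561 (flp_j L83870) q5722, e3 q4562 (flp_j L83878) q5723, e3 q4563 (flp_j L58300) q3546, e3 q4564 L58337 q3561, e3 q4565 L58347 q3562, e3 q4566 L84269 q5757, e3 q4567 L58379 q3564, e3 q4568 L58389 q3565, e3 q4569 L58400 q3566, e3 q4570 L58410 q3567, e3 q4571 L84377 q5766, e3 q4572 (flp_j L58420) q3553, e3 q4573 L58438 q3570, e3 q4574 L58447 q3571, e3 q4575 L58453 q3572, e3 q4576 L58465 q3573, e3 q4577 L58472 q3574, e3 q4578 L84472 q5777, e3 q4579 L58488 q3576, e3 q4580 L84498 q5780, e3 q4581 L58505 q3578, e3 q4582 L58515 q3579,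 e3 q4583 (flp_j L58517) q3559, e3 q4584 (flp_j L84247) q5754, e3 q4585 (flp_j L84256) q5755, e3 q4586 L84615 q5787, e3 q4587 (flp_j L58581) q3563, e3 q4588 (flp_j L84305) q5758, e3 q4589 (flp_j L84319) q5759, e3 q4590 (flp_j L84328) q5760, e3 q4591 L84710 q5794, e3 q4592 (flp_j L84344) q5762, e3 q4593 L84736 q5797, e3 q4594 (flp_j L84365) q5764, e3 q4595 (flp_j L84373) q5765, e3 q4596 (flp_j L58678) q3568, e3 q4597 (flp_j L84392) q5767, e3 q4598 (flp_j L84403) q5768, e3 q4599 (flp_j L84411) q5769, e3 q4600 L84820 q5807, e3 q4601 (flp_j L84431) q5771, e3 q4602 (flp_j L84440) q5772, e3 q4603 (flp_j L84446) q5773, e3 q4604 L84883 q5815, e3 q4605 (flp_j L84461) q5775, e3 q4606 (flp_j L84470) q5776, e3 q4607 (flp_j L58762) q3575, trivial⟩ (by decide +kernel)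

theorem ce_j_72 : ∀ r, r < 64 → sm gj (Qf (4608 + r)) = Qf (tab Gen.j (4608 + r)) :=
  edges_tab (sm gj) Qf (tab Gen.j) 4608 [(4608, 5819), (4609, 5779), (4610, 3577), (4611, 5823), (4612, 5782), (4613, 4613), (4614, 5827), (4615, 4615), (4616, 4616), (4617, 3583), (4618, 4618), (4619, 4619), (4620, 4620), (4621, 5836), (4622, 4622), (4623, 4623), (4624, 3588), (4625, 5840), (4626, 4626), (4627, 3590), (4628, 5844), (4629, 4629), (4630, 4630), (4631, 4631), (4632, 4632), (4633, 4633), (4634, 5855), (4635, 4635), (4636, 4636), (4637, 3597), (4638, 4638), (4639, 5861), (4640, 4640), (4641, 4641), (4642, 4642), (4643, 5868), (4644, 4644), (4645, 3601), (4646, 5872), (4647, 4647), (4648, 5874), (4649, 3605), (4650, 5876), (4651, 4651), (4652, 4652), (4653, 3608), (4654, 5881), (4655, 3628), (4656, 3629), (4657, 3630), (4658, 3631), (4659, 3632), (4660, 5892), (4661, 3634), (4662, 5895), (4663, 3636), (4664, 3637), (4665, 3615), (4666, 3639), (4667, 3640), (4668, 3641), (4669, 5905), (4670, 3643), (4671, 3644)]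
    ⟨e3 q4608 L84914 q5819, e3 q4609 (flp_j L84496) q5779, e3 q4610 (flp_j L58785) q3577, e3 q4611 (flp_j L84948) q5823, e3 q4612 (flp_j L84525) q5782, e3 q4613 L58870 q4613, e3 q4614 L85075 q5827, e3 q4615 L58887 q4615, e3 q4616 L58897 q4616, e3 q4617 (flp_j L58899) q3583, e3 q4618 L58952 q4618, e3 q4619 L58961 q4619, e3 q4620 L58966 q4620, e3 q4621 L85234 q5836, e3 q4622 L58984 q4622, e3 q4623 L58989 q4623, e3 q4624 (flp_j L58992) q3588, e3 q4625 L85266 q5840, e3 q4626 L59019 q4626, e3 q4627 (flp_j L59020) q3590, e3 q4628 (flp_j L85307) q5844, e3 q4629 L59044 q4629, e3 q4630 L59051 q4630, e3 q4631 L59063 q4631, e3 q4632 L59070 q4632, e3 q4633 L59076 q4633, e3 q4634 L85391 q5855, e3 q4635 L59092 q4635, e3 q4636 L59100 q4636, e3 q4637 (flp_j L59101) q3597, e3 q4638 L59117 q4638, e3 q4639 L85441 q5861, e3 q4640 L59134 q4640, e3 q4641 L59139 q4641, e3 q4642 L59149 q4642, e3 q4643 L85498 q5868, e3 q4644 L59163 q4644, e3 q4645 (flp_j L59164) q3601, e3 q4646 (flp_j L85533) q5872, e3 q4647 L59185 q4647, e3 q4648 L85543 q5874, e3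 q4649 (flp_j L59192) q3605, e3 q4650 (flp_j L85566) q5876, e3 q4651 L59213 q4651, e3 q4652 L59223 q4652, e3 q4653 L59230 q3608, e3 q4654 (flp_j L85606) q5881, e3 q4655 L59247 q3628, e3 q4656 L59258 q3629, e3 q4657 L59267 q3630, e3 q4658 L59279 q3631, e3 q4659 L59288 q3632, e3 q4660 L85705 q5892, e3 q4661 L59305 q3634, e3 q4662 L85733 q5895, e3 q4663 L59323 q3636, e3 q4664 L59331 q3637, e3 q4665 (flp_j L59335) q3615, e3 q4666 L59352 q3639, e3 q4667 L59363 q3640, e3 q4668 L59371 q3641, e3 q4669 L85824 q5905, e3 q4670 L59392 q3643, e3 q4671 L59399 q3644, trivial⟩ (by decide +kernel)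

theorem ce_j_73 : ∀ r, r < 64 → sm gj (Qf (4672 + r)) = Qf (tab Gen.j (4672 + r)) :=
  edges_tab (sm gj) Qf (tab Gen.j) 4672 [(4672, 3645), (4673, 5913), (4674, 3647), (4675, 3648), (4676, 3622), (4677, 5917), (4678, 3651), (4679, 3624), (4680, 5921), (4681, 3654), (4682, 5882), (4683, 5883), (4684, 5884), (4685, 5930), (4686, 5886), (4687, 5887), (4688, 5888), (4689, 5938), (4690, 5890), (4691, 5891), (4692, 3633), (4693, 5942), (4694, 5894), (4695, 3635), (4696, 5946), (4697, 5897), (4698, 5898), (4699, 5899), (4700, 5900), (4701, 5901), (4702, 5955), (4703, 5903), (4704, 5904), (4705, 3642), (4706, 5906), (4707, 5961), (4708, 5908), (4709, 5909), (4710, 5910), (4711, 5968), (4712, 5912), (4713, 3646), (4714, 5972), (4715, 5915), (4716, 5974), (4717, 3650), (4718, 5976), (4719, 5919), (4720, 5920), (4721, 3653), (4722, 5981), (4723, 4723), (4724, 4724), (4725, 4725), (4726, 4726), (4727, 5989), (4728, 4728), (4729, 4729), (4730, 3658), (4731, 4731), (4732, 5995), (4733, 4733), (4734, 4734), (4735, 4735)]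
    ⟨e3 q4672 L59405 q3645, e3 q4673 L85889 q5913, e3 q4674 L59421 q3647, e3 q4675 L59432 q3648, e3 q4676 (flp_j L59434) q3622, e3 q4677 L85922 q5917, e3 q4678 L59457 q3651, e3 q4679 (flp_j L59459) q3624, e3 q4680 (flp_j L85958) q5921, e3 q4681 L59482 q3654, e3 q4682 (flp_j L85613) q5882, e3 q4683 (flp_j L85626) q5883, e3 q4684 (flp_j L85636) q5884, e3 q4685 L86034 q5930, e3 q4686 (flp_j L85657) q5886, e3 q4687 (flp_j L85666) q5887, e3 q4688 (flp_j L85672) q5888, e3 q4689 L86099 q5938, e3 q4690 (flp_j L85692) q5890, e3 q4691 (flp_j L85701) q5891, e3 q4692 (flp_j L59571) q3633, e3 q4693 L86135 q5942, e3 q4694 (flp_j L85731) q5894, e3 q4695 (flp_j L59596) q3635, e3 q4696 (flp_j L86167) q5946, e3 q4697 (flp_j L85756) q5897, e3 q4698 (flp_j L85765) q5898, e3 q4699 (flp_j L85776) q5899, e3 q4700 (flp_j L85785) q5900, e3 q4701 (flp_j L85792) q5901, e3 q4702 L86251 q5955, e3 q4703 (flp_j L85810) q5903, e3 q4704 (flp_j L85822) q5904, e3 q4705 (flp_j L59677) q3642, e3 q4706 (flp_j L85841) q5906, e3 q4707 L86297 q5961, e3 q4708 (flp_j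 L85856) q5908, e3 q4709 (flp_j L85861) q5909, e3 q4710 (flp_j L85872) q5910, e3 q4711 L86350 q5968, e3 q4712 (flp_j L85887) q5912, e3 q4713 (flp_j L59734) q3646, e3 q4714 (flp_j L86384) q5972, e3 q4715 (flp_j L85915) q5915, e3 q4716 L86398 q5974, e3 q4717 (flp_j L59766) q3650, e3 q4718 (flp_j L86418) q5976, e3 q4719 (flp_j L85940) q5919, e3 q4720 (flp_j L85950) q5920, e3 q4721 L59795 q3653, e3 q4722 (flp_j L86455) q5981, e3 q4723 L59812 q4723, e3 q4724 L59824 q4724, e3 q4725 L59833 q4725, e3 q4726 L59839 q4726, e3 q4727 L86537 q5989, e3 q4728 L59860 q4728, e3 q4729 L59868 q4729, e3 q4730 (flp_j L59871) q3658, e3 q4731 L59888 q4731, e3 q4732 L86590 q5995, e3 q4733 L59905 q4733, e3 q4734 L59908 q4734, e3 q4735 L59916 q4735, trivial⟩ (by decide +kernel)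

theorem ce_j_74 : ∀ r, r < 64 → sm gj (Qf (4736 + r)) = Qf (tab Gen.j (4736 + r)) :=
  edges_tab (sm gj) Qf (tab Gen.j) 4736 [(4736, 6001), (4737, 4737), (4738, 3662), (4739, 6005), (4740, 4740), (4741, 6007), (4742, 3666), (4743, 6009), (4744, 4744), (4745, 4745), (4746, 3669), (4747, 6014), (4748, 4748), (4749, 4749), (4750, 6020), (4751, 4751), (4752, 4752), (4753, 6024), (4754, 4754), (4755, 3675), (4756, 6028), (4757, 4757), (4758, 4758), (4759, 6033), (4760, 4760), (4761, 3680), (4762, 6037), (4763, 4763), (4764, 4764), (4765, 4765), (4766, 4766), (4767, 6044), (4768, 3684), (4769, 6046), (4770, 4770), (4771, 4771), (4772, 3687), (4773, 6051), (4774, 3689), (4775, 6053), (4776, 3691), (4777, 6056), (4778, 6057), (4779, 4779), (4780, 4780), (4781, 3695), (4782, 6064), (4783, 3697), (4784, 4784), (4785, 6068), (4786, 3700), (4787, 6069), (4788, 3701), (4789, 6071), (4790, 4790), (4791, 3704), (4792, 3705), (4793, 6075), (4794, 3707), (4795, 6078), (4796, 6079), (4797, 4797), (4798, 4798), (4799, 3711)]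
    ⟨e3 q4736 L86642 q6001, e3 q4737 L59935 q4737, e3 q4738 (flp_j L59936) q3662, e3 q4739 (flp_j L86683) q6005, e3 q4740 L59959 q4740, e3 q4741 L86695 q6007, e3 q4742 (flp_j L59969) q3666, e3 q4743 (flp_j L86715) q6009, e3 q4744 L59989 q4744, e3 q4745 L59998 q4745, e3 q4746 L60005 q3669, e3 q4747 (flp_j L86753) q6014, e3 q4748 L60023 q4748, e3 q4749 L60036 q4749, e3 q4750 L86817 q6020, e3 q4751 L60053 q4751, e3 q4752 L60069 q4752, e3 q4753 L86879 q6024, e3 q4754 L60086 q4754, e3 q4755 (flp_j L60087) q3675, e3 q4756 (flp_j L86922) q6028, e3 q4757 L60113 q4757, e3 q4758 L60116 q4758, e3 q4759 L86954 q6033, e3 q4760 L60133 q4760, e3 q4761 (flp_j L60134) q3680, e3 q4762 (flp_j L86984) q6037, e3 q4763 L60151 q4763, e3 q4764 L60162 q4764, e3 q4765 L60167 q4765, e3 q4766 L60176 q4766, e3 q4767 L87037 q6044, e3 q4768 (flp_j L60183) q3684, e3 q4769 (flp_j L87058) q6046, e3 q4770 L60204 q4770, e3 q4771 L60215 q4771, e3 q4772 L60221 q3687, e3 q4773 (flp_j L87101) q6051, e3 q4774 (flp_j L60233) q3689, e3 q4775 (flp_j L87114) q6053,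 e3 q4776 L60251 q3691, e3 q4777 (flp_j L87132) q6056, e3 q4778 (flp_j L87144) q6057, e3 q4779 L60274 q4779, e3 q4780 L60284 q4780, e3 q4781 L60291 q3695, e3 q4782 L87332 q6064, e3 q4783 (flp_j L60377) q3697, e3 q4784 L60411 q4784, e3 q4785 L87412 q6068, e3 q4786 (flp_j L60433) q3700, e3 q4787 L87506 q6069, e3 q4788 (flp_j L60495) q3701, e3 q4789 (flp_j L87529) q6071, e3 q4790 L60516 q4790, e3 q4791 L60533 q3704, e3 q4792 (flp_j L60546) q3705, e3 q4793 (flp_j L87586) q6075, e3 q4794 L60569 q3707, e3 q4795 (flp_j L87606) q6078, e3 q4796 (flp_j L87616) q6079, e3 q4797 L60591 q4797, e3 q4798 L60599 q4798, e3 q4799 L60607 q3711, trivial⟩ (by decide +kernel)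

theorem ce_j_75 : ∀ r, r < 64 → sm gj (Qf (4800 + r)) = Qf (tab Gen.j (4800 + r)) :=
  edges_tab (sm gj) Qf (tab Gen.j) 4800 [(4800, 4800), (4801, 6088), (4802, 3713), (4803, 6089), (4804, 3714), (4805, 6091), (4806, 4806), (4807, 3717), (4808, 6095), (4809, 4809), (4810, 6099), (4811, 3719), (4812, 6101), (4813, 4813), (4814, 3722), (4815, 3723), (4816, 6105), (4817, 3725), (4818, 6108), (4819, 6109), (4820, 4820), (4821, 4821), (4822, 3729), (4823, 5677), (4824, 3731), (4825, 6116), (4826, 6117), (4827, 3733), (4828, 3734), (4829, 6121), (4830, 6122), (4831, 4831), (4832, 4832), (4833, 4833), (4834, 3754), (4835, 3755), (4836, 3756), (4837, 6135), (4838, 3758), (4839, 3759), (4840, 3741), (4841, 3761), (4842, 6141), (4843, 3763), (4844, 3764), (4845, 3765), (4846, 6148), (4847, 3767), (4848, 3745), (4849, 6152), (4850, 3770), (4851, 6154), (4852, 3749), (4853, 6156), (4854, 3774), (4855, 3775), (4856, 3752), (4857, 6161), (4858, 6129), (4859, 6165), (4860, 6131), (4861, 6132), (4862, 6169), (4863, 6134)]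
    ⟨e3 q4800 L60650 q4800, e3 q4801 L87732 q6088, e3 q4802 (flp_j L60670) q3713, e3 q4803 L87787 q6089, e3 q4804 (flp_j L60706) q3714, e3 q4805 (flp_j L87811) q6091, e3 q4806 L60728 q4806, e3 q4807 L60746 q3717, e3 q4808 L87864 q6095, e3 q4809 L60772 q4809, e3 q4810 L87892 q6099, e3 q4811 (flp_j L60779) q3719, e3 q4812 (flp_j L87916) q6101, e3 q4813 L60799 q4813, e3 q4814 L60816 q3722, e3 q4815 (flp_j L60828) q3723, e3 q4816 (flp_j L87969) q6105, e3 q4817 L60849 q3725, e3 q4818 (flp_j L87989) q6108, e3 q4819 (flp_j L88000) q6109, e3 q4820 L60871 q4820, e3 q4821 L60880 q4821, e3 q4822 L60889 q3729, e3 q4823 (flp_j L83388) q5677, e3 q4824 L60904 q3731, e3 q4825 (flp_j L88052) q6116, e3 q4826 (flp_j L88061) q6117, e3 q4827 L60922 q3733, e3 q4828 L60933 q3734, e3 q4829 (flp_j L88088) q6121, e3 q4830 (flp_j L88099) q6122, e3 q4831 L60957 q4831, e3 q4832 L60966 q4832, e3 q4833 L60972 q4833, e3 q4834 L60992 q3754, e3 q4835 L61003 q3755, e3 q4836 L61010 q3756, e3 q4837 L88238 q6135, e3 q4838 L61031 q3758, e3 q4839 L61040 q3759,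 e3 q4840 (flp_j L61043) q3741, e3 q4841 L61060 q3761, e3 q4842 L88295 q6141, e3 q4843 L61080 q3763, e3 q4844 L61086 q3764, e3 q4845 L61097 q3765, e3 q4846 L88358 q6148, e3 q4847 L61115 q3767, e3 q4848 (flp_j L61117) q3745, e3 q4849 (flp_j L88401) q6152, e3 q4850 L61140 q3770, e3 q4851 L88411 q6154, e3 q4852 (flp_j L61151) q3749, e3 q4853 (flp_j L88436) q6156, e3 q4854 L61173 q3774, e3 q4855 L61183 q3775, e3 q4856 L61193 q3752, e3 q4857 (flp_j L88476) q6161, e3 q4858 (flp_j L88175) q6129, e3 q4859 L88552 q6165, e3 q4860 (flp_j L88197) q6131, e3 q4861 (flp_j L88216) q6132, e3 q4862 L88617 q6169, e3 q4863 (flp_j L88236) q6134, trivial⟩ (by decide +kernel)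

theorem ce_j_76 : ∀ r, r < 64 → sm gj (Qf (4864 + r)) = Qf (tab Gen.j (4864 + r)) :=
  edges_tab (sm gj) Qf (tab Gen.j) 4864 [(4864, 3757), (4865, 6173), (4866, 6137), (4867, 6138), (4868, 6178), (4869, 6140), (4870, 3762), (4871, 6182), (4872, 6143), (4873, 6144), (4874, 6145), (4875, 6146), (4876, 6189), (4877, 3766), (4878, 6191), (4879, 6150), (4880, 6151), (4881, 3769), (4882, 6196), (4883, 3771), (4884, 6198), (4885, 3773), (4886, 6201), (4887, 6202), (4888, 6159), (4889, 6160), (4890, 3777), (4891, 6209), (4892, 4892), (4893, 3779), (4894, 6213), (4895, 4895), (4896, 6215), (4897, 3782), (4898, 6217), (4899, 4899), (4900, 4900), (4901, 3785), (4902, 6222), (4903, 6223), (4904, 3787), (4905, 6225), (4906, 4906), (4907, 4907), (4908, 3790), (4909, 6231), (4910, 6232), (4911, 4911), (4912, 4912), (4913, 4913), (4914, 4914), (4915, 3795), (4916, 6240), (4917, 3797), (4918, 6243), (4919, 6244), (4920, 4920), (4921, 4921), (4922, 3801), (4923, 4923), (4924, 3803), (4925, 6251), (4926, 6252), (4927, 3805)]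
    ⟨e3 q4864 (flp_j L61283) q3757, e3 q4865 (flp_j L88658) q6173, e3 q4866 (flp_j L88264) q6137, e3 q4867 (flp_j L88271) q6138, e3 q4868 L88695 q6178, e3 q4869 (flp_j L88293) q6140, e3 q4870 (flp_j L61334) q3762, e3 q4871 (flp_j L88732) q6182, e3 q4872 (flp_j L88319) q6143, e3 q4873 (flp_j L88330) q6144, e3 q4874 (flp_j L88337) q6145, e3 q4875 (flp_j L88348) q6146, e3 q4876 L88787 q6189, e3 q4877 (flp_j L61392) q3766, e3 q4878 (flp_j L88812) q6191, e3 q4879 (flp_j L88381) q6150, e3 q4880 (flp_j L88391) q6151, e3 q4881 L61428 q3769, e3 q4882 (flp_j L88847) q6196, e3 q4883 (flp_j L61439) q3771, e3 q4884 (flp_j L88867) q6198, e3 q4885 L61464 q3773, e3 q4886 (flp_j L88889) q6201, e3 q4887 (flp_j L88898) q6202, e3 q4888 (flp_j L88457) q6159, e3 q4889 (flp_j L88467) q6160, e3 q4890 L61499 q3777, e3 q4891 L89024 q6209, e3 q4892 L61566 q4892, e3 q4893 (flp_j L61567) q3779, e3 q4894 (flp_j L89070) q6213, e3 q4895 L61602 q4895, e3 q4896 L89129 q6215, e3 q4897 (flp_j L61628) q3782, e3 q4898 (flp_j L89155) q6217, e3 q4899 L61654 q4899,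 e3 q4900 L61665 q4900, e3 q4901 L61673 q3785, e3 q4902 (flp_j L89199) q6222, e3 q4903 L89202 q6223, e3 q4904 (flp_j L61691) q3787, e3 q4905 (flp_j L89227) q6225, e3 q4906 L61714 q4906, e3 q4907 L61724 q4907, e3 q4908 L61732 q3790, e3 q4909 (flp_j L89270) q6231, e3 q4910 (flp_j L89280) q6232, e3 q4911 L61752 q4911, e3 q4912 L61762 q4912, e3 q4913 L61767 q4913, e3 q4914 L61776 q4914, e3 q4915 (flp_j L61784) q3795, e3 q4916 (flp_j L89356) q6240, e3 q4917 L61807 q3797, e3 q4918 (flp_j L89380) q6243, e3 q4919 (flp_j L89391) q6244, e3 q4920 L61829 q4920, e3 q4921 L61839 q4921, e3 q4922 L61845 q3801, e3 q4923 L61856 q4923, e3 q4924 L61863 q3803, e3 q4925 (flp_j L89444) q6251, e3 q4926 (flp_j L89454) q6252, e3 q4927 L61885 q3805, trivial⟩ (by decide +kernel)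

theorem ce_j_77 : ∀ r, r < 64 → sm gj (Qf (4928 + r)) = Qf (tab Gen.j (4928 + r)) :=
  edges_tab (sm gj) Qf (tab Gen.j) 4928 [(4928, 3806), (4929, 6256), (4930, 6257), (4931, 4931), (4932, 4932), (4933, 4933), (4934, 3810), (4935, 6265), (4936, 3812), (4937, 6268), (4938, 6269), (4939, 4939), (4940, 4940), (4941, 3816), (4942, 4942), (4943, 3818), (4944, 6275), (4945, 3836), (4946, 3820), (4947, 3821), (4948, 6279), (4949, 6280), (4950, 4950), (4951, 4951), (4952, 4952), (4953, 3827), (4954, 3832), (4955, 6124), (4956, 3831), (4957, 6278), (4958, 6253), (4959, 4959), (4960, 4960), (4961, 4961), (4962, 6267), (4963, 4963), (4964, 4964), (4965, 4965), (4966, 4966), (4967, 4967), (4968, 4968), (4969, 4969), (4970, 4970), (4971, 4971), (4972, 4972), (4973, 4128), (4974, 4974), (4975, 4975), (4976, 4976), (4977, 3867), (4978, 6299), (4979, 3869), (4980, 3870), (4981, 3871), (4982, 4100), (4983, 3859), (4984, 3874), (4985, 3875), (4986, 3876), (4987, 3877), (4988, 3878), (4989, 4097), (4990, 6307), (4991, 3868)]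
    ⟨e3 q4928 L61896 q3806, e3 q4929 (flp_j L89484) q6256, e3 q4930 (flp_j L89495) q6257, e3 q4931 L61918 q4931, e3 q4932 L61928 q4932, e3 q4933 L61933 q4933, e3 q4934 (flp_j L61937) q3810, e3 q4935 (flp_j L89563) q6265, e3 q4936 L61966 q3812, e3 q4937 (flp_j L89590) q6268, e3 q4938 (flp_j L89601) q6269, e3 q4939 L61991 q4939, e3 q4940 L62001 q4940, e3 q4941 L62010 q3816, e3 q4942 L62021 q4942, e3 q4943 L62030 q3818, e3 q4944 (flp_j L89659) q6275, e3 q4945 L647601 q3836, e3 q4946 L62054 q3820, e3 q4947 L62064 q3821, e3 q4948 (flp_j L89696) q6279, e3 q4949 (flp_j L89706) q6280, e3 q4950 L62084 q4950, e3 q4951 L62093 q4951, e3 q4952 L62099 q4952, e3 q4953 L62116 q3827, e3 q4954 (flp_j L647405) q3832, e3 q4955 (flp_j L647227) q6124, e3 q4956 (flp_j L647396) q3831, e3 q4957 L647538 q6278, e3 q4958 L647376 q6253, e3 q4959 L62192 q4959, e3 q4960 L62201 q4960, e3 q4961 L62208 q4961, e3 q4962 L647556 q6267, e3 q4963 L62356 q4963, e3 q4964 L62380 q4964, e3 q4965 L62392 q4965, e3 q4966 L62405 q4966, e3 q4967 L62478 q4967, e3 q4968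 L62496 q4968, e3 q4969 L62526 q4969, e3 q4970 L62548 q4970, e3 q4971 L62557 q4971, e3 q4972 L62568 q4972, e3 q4973 L627138 q4128, e3 q4974 L62590 q4974, e3 q4975 L62598 q4975, e3 q4976 L62604 q4976, e3 q4977 L62742 q3867, e3 q4978 L90712 q6299, e3 q4979 L62810 q3869, e3 q4980 L62819 q3870, e3 q4981 L62832 q3871, e3 q4982 L626958 q4100, e3 q4983 (flp_j L62854) q3859, e3 q4984 L62871 q3874, e3 q4985 L62880 q3875, e3 q4986 L62888 q3876, e3 q4987 L62897 q3877, e3 q4988 L62904 q3878, e3 q4989 L626928 q4097, e3 q4990 L91172 q6307, e3 q4991 (flp_j L63155) q3868, trivial⟩ (by decide +kernel)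

theorem ce_j_78 : ∀ r, r < 64 → sm gj (Qf (4992 + r)) = Qf (tab Gen.j (4992 + r)) :=
  edges_tab (sm gj) Qf (tab Gen.j) 4992 [(4992, 6300), (4993, 6301), (4994, 6311), (4995, 4083), (4996, 4099), (4997, 3872), (4998, 6303), (4999, 6302), (5000, 6304), (5001, 6310), (5002, 6305), (5003, 6306), (5004, 4081), (5005, 4096), (5006, 4078), (5007, 3879), (5008, 3884), (5009, 3902), (5010, 3903), (5011, 6313), (5012, 3905), (5013, 4000), (5014, 3888), (5015, 3908), (5016, 3909), (5017, 3910), (5018, 6309), (5019, 3912), (5020, 3913), (5021, 3914), (5022, 3997), (5023, 3916), (5024, 3917), (5025, 3895), (5026, 3923), (5027, 6318), (5028, 6319), (5029, 6333), (5030, 3904), (5031, 4001), (5032, 3906), (5033, 6321), (5034, 6322), (5035, 6323), (5036, 6320), (5037, 6332), (5038, 6324), (5039, 3911), (5040, 6325), (5041, 6343), (5042, 6327), (5043, 6328), (5044, 3999), (5045, 3970), (5046, 3915), (5047, 3996), (5048, 6329), (5049, 3960), (5050, 3983), (5051, 5051), (5052, 6351), (5053, 6353), (5054, 3926), (5055, 4035)]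
    ⟨e3 q4992 (flp_j L90749) q6300, e3 q4993 (flp_j L90760) q6301, e3 q4994 L91355 q6311, e3 q4995 L625785 q4083, e3 q4996 L626806 q4099, e3 q4997 (flp_j L63251) q3872, e3 q4998 (flp_j L90836) q6303, e3 q4999 L626867 q6302, e3 q5000 (flp_j L90855) q6304, e3 q5001 (flp_j L625350) q6310, e3 q5002 (flp_j L90872) q6305, e3 q5003 (flp_j L90880) q6306, e3 q5004 L625328 q4081, e3 q5005 L625320 q4096, e3 q5006 (flp_j L603890) q4078, e3 q5007 (flp_j L63335) q3879, e3 q5008 (flp_j L63496) q3884, e3 q5009 L63533 q3902, e3 q5010 L63545 q3903, e3 q5011 (flp_j L622708) q6313, e3 q5012 L63570 q3905, e3 q5013 L626127 q4000, e3 q5014 (flp_j L63608) q3888, e3 q5015 L63625 q3908, e3 q5016 L63635 q3909, e3 q5017 L63645 q3910, e3 q5018 (flp_j L625361) q6309, e3 q5019 L63662 q3912, e3 q5020 L63672 q3913, e3 q5021 L63678 q3914, e3 q5022 L623329 q3997, e3 q5023 L63694 q3916, e3 q5024 L63704 q3917, e3 q5025 (flp_j L63706) q3895, e3 q5026 L63763 q3923, e3 q5027 (flp_j L91830) q6318, e3 q5028 (flp_j L91848) q6319, e3 q5029 L92550 q6333, e3 q5030 (flp_j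 L64011) q3904, e3 q5031 (flp_j L625972) q4001, e3 q5032 (flp_j L64038) q3906, e3 q5033 (flp_j L91948) q6321, e3 q5034 (flp_j L91960) q6322, e3 q5035 (flp_j L91970) q6323, e3 q5036 (flp_j L622690) q6320, e3 q5037 (flp_j L625051) q6332, e3 q5038 (flp_j L91998) q6324, e3 q5039 (flp_j L64130) q3911, e3 q5040 (flp_j L92028) q6325, e3 q5041 L92772 q6343, e3 q5042 (flp_j L92046) q6327, e3 q5043 (flp_j L92053) q6328, e3 q5044 L625068 q3999, e3 q5045 L621852 q3970, e3 q5046 (flp_j L64191) q3915, e3 q5047 L623101 q3996, e3 q5048 (flp_j L92105) q6329, e3 q5049 L617865 q3960, e3 q5050 (flp_j L623053) q3983, e3 q5051 L64596 q5051, e3 q5052 L93445 q6351, e3 q5053 L93501 q6353, e3 q5054 (flp_j L64649) q3926, e3 q5055 L624816 q4035, trivial⟩ (by decide +kernel)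

theorem ce_j_79 : ∀ r, r < 64 → sm gj (Qf (5056 + r)) = Qf (tab Gen.j (5056 + r)) :=
  edges_tab (sm gj) Qf (tab Gen.j) 5056 [(5056, 3928), (5057, 5057), (5058, 5058), (5059, 6359), (5060, 5060), (5061, 6352), (5062, 5062), (5063, 3934), (5064, 6363), (5065, 5065), (5066, 6367), (5067, 5067), (5068, 3938), (5069, 6370), (5070, 5070), (5071, 5071), (5072, 4033), (5073, 3941), (5074, 4031), (5075, 5075), (5076, 5076), (5077, 3944), (5078, 6377), (5079, 4013), (5080, 5080), (5081, 3952), (5082, 3974), (5083, 3975), (5084, 6381), (5085, 3977), (5086, 3978), (5087, 3979), (5088, 6347), (5089, 3981), (5090, 3958), (5091, 3984), (5092, 4186), (5093, 3987), (5094, 3988), (5095, 3989), (5096, 6338), (5097, 3966), (5098, 3992), (5099, 6342), (5100, 3994), (5101, 3995), (5102, 6378), (5103, 6379), (5104, 6393), (5105, 3976), (5106, 6382), (5107, 6397), (5108, 6384), (5109, 6348), (5110, 6380), (5111, 3980), (5112, 6392), (5113, 4187), (5114, 4179), (5115, 4184), (5116, 3986), (5117, 4191), (5118, 6385), (5119, 6401)]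
    ⟨e3 q5056 (flp_j L64683) q3928, e3 q5057 L64751 q5057, e3 q5058 L64768 q5058, e3 q5059 L93700 q6359, e3 q5060 L64784 q5060, e3 q5061 L624797 q6352, e3 q5062 L64817 q5062, e3 q5063 (flp_j L64818) q3934, e3 q5064 (flp_j L93802) q6363, e3 q5065 L64851 q5065, e3 q5066 L93835 q6367, e3 q5067 L64870 q5067, e3 q5068 (flp_j L64871) q3938, e3 q5069 (flp_j L93877) q6370, e3 q5070 L64892 q5070, e3 q5071 L64908 q5071, e3 q5072 (flp_j L624834) q4033, e3 q5073 (flp_j L64924) q3941, e3 q5074 (flp_j L624787) q4031, e3 q5075 L64945 q5075, e3 q5076 L64955 q5076, e3 q5077 L64961 q3944, e3 q5078 (flp_j L93993) q6377, e3 q5079 L624684 q4013, e3 q5080 L65028 q5080, e3 q5081 L65037 q3952, e3 q5082 L65045 q3974, e3 q5083 L65057 q3975, e3 q5084 L94149 q6381, e3 q5085 L65087 q3977, e3 q5086 L65097 q3978, e3 q5087 L65103 q3979, e3 q5088 L621868 q6347, e3 q5089 L65124 q3981, e3 q5090 (flp_j L65138) q3958, e3 q5091 L65165 q3984, e3 q5092 (flp_j L617791) q4186, e3 q5093 L65193 q3987, e3 q5094 L65211 q3988, e3 q5095 L65229 q3989, e3 q5096 (flp_j L622757)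 q6338, e3 q5097 (flp_j L65266) q3966, e3 q5098 L65282 q3992, e3 q5099 (flp_j L622588) q6342, e3 q5100 L65296 q3994, e3 q5101 L65301 q3995, e3 q5102 (flp_j L94088) q6378, e3 q5103 (flp_j L94108) q6379, e3 q5104 L94723 q6393, e3 q5105 (flp_j L65489) q3976, e3 q5106 (flp_j L94166) q6382, e3 q5107 L94778 q6397, e3 q5108 (flp_j L94184) q6384, e3 q5109 (flp_j L623077) q6348, e3 q5110 (flp_j L623402) q6380, e3 q5111 (flp_j L65552) q3980, e3 q5112 L624931 q6392, e3 q5113 L623015 q4187, e3 q5114 (flp_j L605817) q4179, e3 q5115 (flp_j L626109) q4184, e3 q5116 L65629 q3986, e3 q5117 L625945 q4191, e3 q5118 (flp_j L94342) q6385, e3 q5119 L95016 q6401, trivial⟩ (by decide +kernel)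

theorem ce_j_80 : ∀ r, r < 64 → sm gj (Qf (5120 + r)) = Qf (tab Gen.j (5120 + r)) :=
  edges_tab (sm gj) Qf (tab Gen.j) 5120 [(5120, 6339), (5121, 3990), (5122, 6387), (5123, 6344), (5124, 6326), (5125, 3993), (5126, 6341), (5127, 6388), (5128, 6389), (5129, 5129), (5130, 6410), (5131, 6412), (5132, 4004), (5133, 5133), (5134, 6416), (5135, 5135), (5136, 4007), (5137, 6419), (5138, 6374), (5139, 4009), (5140, 6411), (5141, 5141), (5142, 4012), (5143, 4193), (5144, 4015), (5145, 4207), (5146, 4198), (5147, 5147), (5148, 4019), (5149, 5149), (5150, 6425), (5151, 4021), (5152, 6361), (5153, 4022), (5154, 6427), (5155, 5155), (5156, 6368), (5157, 4025), (5158, 6366), (5159, 5159), (5160, 4028), (5161, 6433), (5162, 5162), (5163, 5163), (5164, 5164), (5165, 6440), (5166, 4038), (5167, 6420), (5168, 4039), (5169, 6442), (5170, 5170), (5171, 4042), (5172, 6446), (5173, 5173), (5174, 6450), (5175, 4044), (5176, 6452), (5177, 5177), (5178, 4047), (5179, 4048), (5180, 6443), (5181, 4050), (5182, 6441), (5183, 5183)]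
    ⟨e3 q5120 (flp_j L622767) q6339, e3 q5121 (flp_j L65716) q3990, e3 q5122 (flp_j L94438) q6387, e3 q5123 L606885 q6344, e3 q5124 L622677 q6326, e3 q5125 (flp_j L65765) q3993, e3 q5126 L622332 q6341, e3 q5127 (flp_j L94474) q6388, e3 q5128 (flp_j L94491) q6389, e3 q5129 L65957 q5129, e3 q5130 L95472 q6410, e3 q5131 L95534 q6412, e3 q5132 (flp_j L66016) q4004, e3 q5133 L66051 q5133, e3 q5134 L95622 q6416, e3 q5135 L66071 q5135, e3 q5136 (flp_j L66072) q4007, e3 q5137 (flp_j L95658) q6419, e3 q5138 L624737 q6374, e3 q5139 (flp_j L66120) q4009, e3 q5140 L624936 q6411, e3 q5141 L66144 q5141, e3 q5142 L66163 q4012, e3 q5143 (flp_j L624390) q4193, e3 q5144 L66199 q4015, e3 q5145 L624359 q4207, e3 q5146 (flp_j L624778) q4198, e3 q5147 L66237 q5147, e3 q5148 L66245 q4019, e3 q5149 L66290 q5149, e3 q5150 L95966 q6425, e3 q5151 (flp_j L66311) q4021, e3 q5152 (flp_j L624748) q6361, e3 q5153 (flp_j L66370) q4022, e3 q5154 L96131 q6427, e3 q5155 L66435 q5155, e3 q5156 (flp_j L624648) q6368, e3 q5157 (flp_j L66441) q4025, e3 q5158 (flp_j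 L624843) q6366, e3 q5159 L66459 q5159, e3 q5160 L66474 q4028, e3 q5161 (flp_j L96208) q6433, e3 q5162 L66492 q5162, e3 q5163 L66507 q5163, e3 q5164 L66645 q5164, e3 q5165 L96432 q6440, e3 q5166 (flp_j L66669) q4038, e3 q5167 L624709 q6420, e3 q5168 (flp_j L66717) q4039, e3 q5169 (flp_j L96527) q6442, e3 q5170 L66746 q5170, e3 q5171 L66757 q4042, e3 q5172 L96556 q6446, e3 q5173 L66772 q5173, e3 q5174 L96583 q6450, e3 q5175 (flp_j L66782) q4044, e3 q5176 (flp_j L96611) q6452, e3 q5177 L66806 q5177, e3 q5178 L66815 q4047, e3 q5179 (flp_j L66839) q4048, e3 q5180 (flp_j L624541) q6443, e3 q5181 L66864 q4050, e3 q5182 (flp_j L624527) q6441, e3 q5183 L66879 q5183, trivial⟩ (by decide +kernel)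

theorem ce_j_81 : ∀ r, r < 64 → sm gj (Qf (5184 + r)) = Qf (tab Gen.j (5184 + r)) :=
  edges_tab (sm gj) Qf (tab Gen.j) 5184 [(5184, 4054), (5185, 4209), (5186, 4056), (5187, 6458), (5188, 5188), (5189, 5189), (5190, 6464), (5191, 4059), (5192, 6466), (5193, 5193), (5194, 6469), (5195, 4061), (5196, 4063), (5197, 6471), (5198, 4065), (5199, 6473), (5200, 5200), (5201, 4067), (5202, 4084), (5203, 6477), (5204, 6314), (5205, 4072), (5206, 4088), (5207, 6317), (5208, 4090), (5209, 4075), (5210, 6315), (5211, 4093), (5212, 4094), (5213, 6475), (5214, 6486), (5215, 4085), (5216, 4086), (5217, 6487), (5218, 6479), (5219, 4089), (5220, 6316), (5221, 6480), (5222, 4092), (5223, 6494), (5224, 6482), (5225, 6483), (5226, 5719), (5227, 4229), (5228, 4104), (5229, 6498), (5230, 5230), (5231, 6501), (5232, 4121), (5233, 5233), (5234, 5234), (5235, 5235), (5236, 4122), (5237, 5237), (5238, 5238), (5239, 4123), (5240, 5240), (5241, 4124), (5242, 4125), (5243, 4126), (5244, 4129), (5245, 6503), (5246, 6507), (5247, 6508)]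
    ⟨e3 q5184 L66899 q4054, e3 q5185 (flp_j L624553) q4209, e3 q5186 L66915 q4056, e3 q5187 (flp_j L96758) q6458, e3 q5188 L66933 q5188, e3 q5189 L66941 q5189, e3 q5190 L96810 q6464, e3 q5191 (flp_j L66952) q4059, e3 q5192 L96828 q6466, e3 q5193 L66973 q5193, e3 q5194 L96849 q6469, e3 q5195 (flp_j L66984) q4061, e3 q5196 (flp_j L66994) q4063, e3 q5197 L96874 q6471, e3 q5198 (flp_j L67010) q4065, e3 q5199 (flp_j L96892) q6473, e3 q5200 L67027 q5200, e3 q5201 (flp_j L67028) q4067, e3 q5202 L67073 q4084, e3 q5203 L96994 q6477, e3 q5204 (flp_j L626839) q6314, e3 q5205 (flp_j L67137) q4072, e3 q5206 L67174 q4088, e3 q5207 (flp_j L625309) q6317, e3 q5208 L67195 q4090, e3 q5209 (flp_j L67197) q4075, e3 q5210 (flp_j L621758) q6315, e3 q5211 L67219 q4093, e3 q5212 L67235 q4094, e3 q5213 (flp_j L96969) q6475, e3 q5214 L97531 q6486, e3 q5215 (flp_j L67467) q4085, e3 q5216 (flp_j L67517) q4086, e3 q5217 L97694 q6487, e3 q5218 (flp_j L97141) q6479, e3 q5219 (flp_j L67594) q4089, e3 q5220 L625151 q6316, e3 q5221 (flp_j L97176) q6480, e3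 q5222 L67635 q4092, e3 q5223 (flp_j L97773) q6494, e3 q5224 (flp_j L97218) q6482, e3 q5225 (flp_j L97234) q6483, e3 q5226 (flp_j L609414) q5719, e3 q5227 (flp_j L626972) q4229, e3 q5228 L67933 q4104, e3 q5229 (flp_j L98134) q6498, e3 q5230 L67962 q5230, e3 q5231 L98184 q6501, e3 q5232 L68054 q4121, e3 q5233 L68068 q5233, e3 q5234 L68136 q5234, e3 q5235 L68191 q5235, e3 q5236 L68197 q4122, e3 q5237 L68204 q5237, e3 q5238 L68216 q5238, e3 q5239 L68220 q4123, e3 q5240 L68238 q5240, e3 q5241 L68255 q4124, e3 q5242 L68272 q4125, e3 q5243 L68323 q4126, e3 q5244 L68395 q4129, e3 q5245 (flp_j L98319) q6503, e3 q5246 (flp_j L98497) q6507, e3 q5247 (flp_j L98506) q6508, trivial⟩ (by decide +kernel)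

theorem ce_j_82 : ∀ r, r < 64 → sm gj (Qf (5248 + r)) = Qf (tab Gen.j (5248 + r)) :=
  edges_tab (sm gj) Qf (tab Gen.j) 5248 [(5248, 6510), (5249, 6511), (5250, 6513), (5251, 6521), (5252, 5702), (5253, 5696), (5254, 6294), (5255, 4130), (5256, 5256), (5257, 5257), (5258, 5258), (5259, 5259), (5260, 5260), (5261, 5261), (5262, 5262), (5263, 5263), (5264, 4156), (5265, 4150), (5266, 6530), (5267, 4145), (5268, 6529), (5269, 4151), (5270, 6528), (5271, 5271), (5272, 6535), (5273, 4201), (5274, 4226), (5275, 4225), (5276, 4203), (5277, 6457), (5278, 4206), (5279, 4221), (5280, 4215), (5281, 4217), (5282, 5282), (5283, 6534), (5284, 6533), (5285, 4223), (5286, 5286), (5287, 5287), (5288, 5288), (5289, 5289), (5290, 4239), (5291, 4240), (5292, 4241), (5293, 6543), (5294, 6544), (5295, 6545), (5296, 6546), (5297, 6551), (5298, 5298), (5299, 5299), (5300, 5300), (5301, 4247), (5302, 4248), (5303, 4249), (5304, 4250), (5305, 6563), (5306, 6557), (5307, 6558), (5308, 6559), (5309, 6560), (5310, 6561), (5311, 6570)]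
    ⟨e3 q5248 (flp_j L98537) q6510, e3 q5249 (flp_j L98544) q6511, e3 q5250 (flp_j L98577) q6513, e3 q5251 L99059 q6521, e3 q5252 L619785 q5702, e3 q5253 L618763 q5696, e3 q5254 (flp_j L627116) q6294, e3 q5255 (flp_j L68731) q4130, e3 q5256 L68767 q5256, e3 q5257 L68778 q5257, e3 q5258 L68796 q5258, e3 q5259 L68807 q5259, e3 q5260 L68887 q5260, e3 q5261 L68896 q5261, e3 q5262 L68988 q5262, e3 q5263 L69014 q5263, e3 q5264 (flp_j L627228) q4156, e3 q5265 L69216 q4150, e3 q5266 L100263 q6530, e3 q5267 (flp_j L69489) q4145, e3 q5268 (flp_j L99938) q6529, e3 q5269 (flp_j L70014) q4151, e3 q5270 (flp_j L627099) q6528, e3 q5271 L74980 q5271, e3 q5272 L108532 q6535, e3 q5273 (flp_j L75003) q4201, e3 q5274 L624232 q4226, e3 q5275 L624368 q4225, e3 q5276 (flp_j L75076) q4203, e3 q5277 L612959 q6457, e3 q5278 L75113 q4206, e3 q5279 L613522 q4221, e3 q5280 L75253 q4215, e3 q5281 L75281 q4217, e3 q5282 L75417 q5282, e3 q5283 L616742 q6534, e3 q5284 (flp_j L616727) q6533, e3 q5285 (flp_j L75443) q4223, e3 q5286 L78571 q5286, e3 q5287 L79343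 q5287, e3 q5288 L79351 q5288, e3 q5289 L79361 q5289, e3 q5290 L79370 q4239, e3 q5291 L79380 q4240, e3 q5292 L79390 q4241, e3 q5293 (flp_j L114629) q6543, e3 q5294 (flp_j L114639) q6544, e3 q5295 (flp_j L114646) q6545, e3 q5296 (flp_j L114657) q6546, e3 q5297 L114720 q6551, e3 q5298 L79444 q5298, e3 q5299 L79456 q5299, e3 q5300 L79464 q5300, e3 q5301 L79475 q4247, e3 q5302 L79486 q4248, e3 q5303 L79494 q4249, e3 q5304 L79503 q4250, e3 q5305 L114838 q6563, e3 q5306 (flp_j L114787) q6557, e3 q5307 (flp_j L114796) q6558, e3 q5308 (flp_j L114805) q6559, e3 q5309 (flp_j L114817) q6560, e3 q5310 (flp_j L114824) q6561, e3 q5311 L114929 q6570, trivial⟩ (by decide +kernel)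

theorem ce_j_83 : ∀ r, r < 64 → sm gj (Qf (5312 + r)) = Qf (tab Gen.j (5312 + r)) :=
  edges_tab (sm gj) Qf (tab Gen.j) 5312 [(5312, 4251), (5313, 4257), (5314, 4258), (5315, 4259), (5316, 4260), (5317, 4261), (5318, 6581), (5319, 4256), (5320, 6571), (5321, 6572), (5322, 6573), (5323, 6574), (5324, 6575), (5325, 6592), (5326, 6577), (5327, 6595), (5328, 6579), (5329, 6580), (5330, 4262), (5331, 5331), (5332, 5332), (5333, 5333), (5334, 6605), (5335, 5335), (5336, 5336), (5337, 5337), (5338, 6613), (5339, 5339), (5340, 5340), (5341, 4269), (5342, 6617), (5343, 5343), (5344, 4271), (5345, 6621), (5346, 5346), (5347, 5347), (5348, 5348), (5349, 5349), (5350, 5350), (5351, 5351), (5352, 5352), (5353, 5353), (5354, 6633), (5355, 4288), (5356, 4289), (5357, 4290), (5358, 6639), (5359, 4292), (5360, 4293), (5361, 4294), (5362, 4295), (5363, 4296), (5364, 6650), (5365, 4287), (5366, 6634), (5367, 6635), (5368, 6636), (5369, 6637), (5370, 6659), (5371, 4291), (5372, 6640), (5373, 6641), (5374, 6642), (5375, 6643)]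
    ⟨e3 q5312 (flp_j L79570) q4251, e3 q5313 L79587 q4257, e3 q5314 L79597 q4258, e3 q5315 L79606 q4259, e3 q5316 L79617 q4260, e3 q5317 L79626 q4261, e3 q5318 L115035 q6581, e3 q5319 (flp_j L79639) q4256, e3 q5320 (flp_j L114946) q6571, e3 q5321 (flp_j L114956) q6572, e3 q5322 (flp_j L114965) q6573, e3 q5323 (flp_j L114976) q6574, e3 q5324 (flp_j L114985) q6575, e3 q5325 L115132 q6592, e3 q5326 (flp_j L115002) q6577, e3 q5327 L115156 q6595, e3 q5328 (flp_j L115020) q6579, e3 q5329 (flp_j L115032) q6580, e3 q5330 (flp_j L79735) q4262, e3 q5331 L79750 q5331, e3 q5332 L79760 q5332, e3 q5333 L79768 q5333, e3 q5334 L115246 q6605, e3 q5335 L79787 q5335, e3 q5336 L79795 q5336, e3 q5337 L79800 q5337, e3 q5338 L115311 q6613, e3 q5339 L79817 q5339, e3 q5340 L79827 q5340, e3 q5341 (flp_j L79829) q4269, e3 q5342 L115344 q6617, e3 q5343 L79854 q5343, e3 q5344 (flp_j L79855) q4271, e3 q5345 (flp_j L115383) q6621, e3 q5346 L79879 q5346, e3 q5347 L79888 q5347, e3 q5348 L79900 q5348, e3 q5349 L79909 q5349, e3 q5350 L79922 q5350, e3 q5351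 L79931 q5351, e3 q5352 L79937 q5352, e3 q5353 L79946 q5353, e3 q5354 L115501 q6633, e3 q5355 L79974 q4288, e3 q5356 L79982 q4289, e3 q5357 L79994 q4290, e3 q5358 L115572 q6639, e3 q5359 L80017 q4292, e3 q5360 L80023 q4293, e3 q5361 L80032 q4294, e3 q5362 L80042 q4295, e3 q5363 L80050 q4296, e3 q5364 L115666 q6650, e3 q5365 (flp_j L80059) q4287, e3 q5366 (flp_j L115525) q6634, e3 q5367 (flp_j L115536) q6635, e3 q5368 (flp_j L115549) q6636, e3 q5369 (flp_j L115559) q6637, e3 q5370 L115768 q6659, e3 q5371 (flp_j L80124) q4291, e3 q5372 (flp_j L115589) q6640, e3 q5373 (flp_j L115599) q6641, e3 q5374 (flp_j L115607) q6642, e3 q5375 (flp_j L115617) q6643, trivial⟩ (by decide +kernel)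

theorem ce_j_84 : ∀ r, r < 64 → sm gj (Qf (5376 + r)) = Qf (tab Gen.j (5376 + r)) :=
  edges_tab (sm gj) Qf (tab Gen.j) 5376 [(5376, 6644), (5377, 6666), (5378, 6646), (5379, 6669), (5380, 6648), (5381, 6649), (5382, 4297), (5383, 4310), (5384, 4311), (5385, 4312), (5386, 4313), (5387, 6680), (5388, 4302), (5389, 4316), (5390, 4317), (5391, 4318), (5392, 4319), (5393, 4320), (5394, 6691), (5395, 4322), (5396, 6694), (5397, 4324), (5398, 4325), (5399, 4308), (5400, 6672), (5401, 6673), (5402, 6674), (5403, 6703), (5404, 6676), (5405, 6706), (5406, 6678), (5407, 6679), (5408, 4314), (5409, 6681), (5410, 6682), (5411, 6683), (5412, 6716), (5413, 6685), (5414, 6686), (5415, 6687), (5416, 6724), (5417, 6689), (5418, 6690), (5419, 4321), (5420, 6728), (5421, 6693), (5422, 4323), (5423, 6732), (5424, 6696), (5425, 5425), (5426, 5426), (5427, 5427), (5428, 6741), (5429, 5429), (5430, 5430), (5431, 4330), (5432, 6745), (5433, 5433), (5434, 4332), (5435, 6749), (5436, 5436), (5437, 5437), (5438, 5438), (5439, 5439)]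
    ⟨e3 q5376 (flp_j L115625) q6644, e3 q5377 L115853 q6666, e3 q5378 (flp_j L115638) q6646, e3 q5379 L115877 q6669, e3 q5380 (flp_j L115656) q6648, e3 q5381 (flp_j L115664) q6649, e3 q5382 (flp_j L80207) q4297, e3 q5383 L80232 q4310, e3 q5384 L80243 q4311, e3 q5385 L80255 q4312, e3 q5386 L80267 q4313, e3 q5387 L116005 q6680, e3 q5388 (flp_j L80279) q4302, e3 q5389 L80297 q4316, e3 q5390 L80307 q4317, e3 q5391 L80314 q4318, e3 q5392 L80325 q4319, e3 q5393 L80334 q4320, e3 q5394 L116104 q6691, e3 q5395 L80347 q4322, e3 q5396 L116130 q6694, e3 q5397 L80366 q4324, e3 q5398 L80376 q4325, e3 q5399 (flp_j L80378) q4308, e3 q5400 (flp_j L115925) q6672, e3 q5401 (flp_j L115938) q6673, e3 q5402 (flp_j L115949) q6674, e3 q5403 L116253 q6703, e3 q5404 (flp_j L115966) q6676, e3 q5405 L116281 q6706, e3 q5406 (flp_j L115989) q6678, e3 q5407 (flp_j L116001) q6679, e3 q5408 (flp_j L80484) q4314, e3 q5409 (flp_j L116023) q6681, e3 q5410 (flp_j L116033) q6682, e3 q5411 (flp_j L116043) q6683, e3 q5412 L116371 q6716, e3 q5413 (flp_j L116059)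 q6685, e3 q5414 (flp_j L116070) q6686, e3 q5415 (flp_j L116076) q6687, e3 q5416 L116435 q6724, e3 q5417 (flp_j L116093) q6689, e3 q5418 (flp_j L116102) q6690, e3 q5419 (flp_j L80572) q4321, e3 q5420 L116466 q6728, e3 q5421 (flp_j L116128) q6693, e3 q5422 (flp_j L80595) q4323, e3 q5423 (flp_j L116503) q6732, e3 q5424 (flp_j L116155) q6696, e3 q5425 L80666 q5425, e3 q5426 L80677 q5426, e3 q5427 L80682 q5427, e3 q5428 L116660 q6741, e3 q5429 L80702 q5429, e3 q5430 L80711 q5430, e3 q5431 (flp_j L80714) q4330, e3 q5432 L116696 q6745, e3 q5433 L80743 q5433, e3 q5434 (flp_j L80744) q4332, e3 q5435 (flp_j L116742) q6749, e3 q5436 L80770 q5436, e3 q5437 L80778 q5437, e3 q5438 L80789 q5438, e3 q5439 L80798 q5439, trivial⟩ (by decide +kernel)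

theorem ce_j_85 : ∀ r, r < 64 → sm gj (Qf (5440 + r)) = Qf (tab Gen.j (5440 + r)) :=
  edges_tab (sm gj) Qf (tab Gen.j) 5440 [(5440, 5440), (5441, 6760), (5442, 5442), (5443, 5443), (5444, 4339), (5445, 5445), (5446, 6766), (5447, 5447), (5448, 5448), (5449, 5449), (5450, 6773), (5451, 5451), (5452, 4343), (5453, 6777), (5454, 5454), (5455, 6779), (5456, 4347), (5457, 6781), (5458, 5458), (5459, 5459), (5460, 4350), (5461, 6786), (5462, 4375), (5463, 4376), (5464, 4377), (5465, 4378), (5466, 4379), (5467, 6797), (5468, 4356), (5469, 4382), (5470, 4383), (5471, 4384), (5472, 4385), (5473, 4386), (5474, 6808), (5475, 4388), (5476, 6811), (5477, 4390), (5478, 4391), (5479, 4362), (5480, 4393), (5481, 4394), (5482, 4395), (5483, 6821), (5484, 4397), (5485, 4398), (5486, 4399), (5487, 6829), (5488, 4401), (5489, 4402), (5490, 4369), (5491, 6833), (5492, 4405), (5493, 4371), (5494, 6837), (5495, 4408), (5496, 6787), (5497, 6788), (5498, 6789), (5499, 6790), (5500, 6791), (5501, 6849), (5502, 6793), (5503, 6852)]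
    ⟨e3 q5440 L80804 q5440, e3 q5441 L116832 q6760, e3 q5442 L80822 q5442, e3 q5443 L80830 q5443, e3 q5444 (flp_j L80831) q4339, e3 q5445 L80845 q5445, e3 q5446 L116883 q6766, e3 q5447 L80863 q5447, e3 q5448 L80868 q5448, e3 q5449 L80878 q5449, e3 q5450 L116938 q6773, e3 q5451 L80894 q5451, e3 q5452 (flp_j L80895) q4343, e3 q5453 (flp_j L116976) q6777, e3 q5454 L80914 q5454, e3 q5455 L116984 q6779, e3 q5456 (flp_j L80923) q4347, e3 q5457 (flp_j L117009) q6781, e3 q5458 L80946 q5458, e3 q5459 L80957 q5459, e3 q5460 L80964 q4350, e3 q5461 (flp_j L117049) q6786, e3 q5462 L80980 q4375, e3 q5463 L80990 q4376, e3 q5464 L80999 q4377, e3 q5465 L81011 q4378, e3 q5466 L81020 q4379, e3 q5467 L117149 q6797, e3 q5468 (flp_j L81034) q4356, e3 q5469 L81052 q4382, e3 q5470 L81064 q4383, e3 q5471 L81074 q4384, e3 q5472 L81085 q4385, e3 q5473 L81096 q4386, e3 q5474 L117261 q6808, e3 q5475 L81110 q4388, e3 q5476 L117289 q6811, e3 q5477 L81130 q4390, e3 q5478 L81138 q4391, e3 q5479 (flp_j L81142) q4362, e3 q5480 L81160 q4393, e3 q5481 L81170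 q4394, e3 q5482 L81180 q4395, e3 q5483 L117382 q6821, e3 q5484 L81197 q4397, e3 q5485 L81206 q4398, e3 q5486 L81212 q4399, e3 q5487 L117448 q6829, e3 q5488 L81230 q4401, e3 q5489 L81241 q4402, e3 q5490 (flp_j L81243) q4369, e3 q5491 L117481 q6833, e3 q5492 L81266 q4405, e3 q5493 (flp_j L81268) q4371, e3 q5494 (flp_j L117520) q6837, e3 q5495 L81289 q4408, e3 q5496 (flp_j L117057) q6787, e3 q5497 (flp_j L117067) q6788, e3 q5498 (flp_j L117077) q6789, e3 q5499 (flp_j L117088) q6790, e3 q5500 (flp_j L117097) q6791, e3 q5501 L117618 q6849, e3 q5502 (flp_j L117115) q6793, e3 q5503 L117644 q6852, trivial⟩ (by decide +kernel)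

theorem ce_j_86 : ∀ r, r < 64 → sm gj (Qf (5504 + r)) = Qf (tab Gen.j (5504 + r)) :=
  edges_tab (sm gj) Qf (tab Gen.j) 5504 [(5504, 6795), (5505, 6796), (5506, 4380), (5507, 6798), (5508, 6799), (5509, 6800), (5510, 6862), (5511, 6802), (5512, 6803), (5513, 6804), (5514, 6870), (5515, 6806), (5516, 6807), (5517, 4387), (5518, 6874), (5519, 6810), (5520, 4389), (5521, 6878), (5522, 6813), (5523, 6814), (5524, 6815), (5525, 6816), (5526, 6817), (5527, 6889), (5528, 6819), (5529, 6820), (5530, 4396), (5531, 6822), (5532, 6895), (5533, 6824), (5534, 6825), (5535, 6826), (5536, 6902), (5537, 6828), (5538, 4400), (5539, 6906), (5540, 6831), (5541, 6908), (5542, 4404), (5543, 6910), (5544, 6835), (5545, 6836), (5546, 4407), (5547, 6915), (5548, 5548), (5549, 5549), (5550, 5550), (5551, 6922), (5552, 5552), (5553, 5553), (5554, 5554), (5555, 6930), (5556, 5556), (5557, 5557), (5558, 4414), (5559, 6934), (5560, 5560), (5561, 4416), (5562, 6938), (5563, 5563), (5564, 5564), (5565, 5565), (5566, 5566), (5567, 5567)]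
    ⟨e3 q5504 (flp_j L117134) q6795, e3 q5505 (flp_j L117146) q6796, e3 q5506 (flp_j L81379) q4380, e3 q5507 (flp_j L117168) q6798, e3 q5508 (flp_j L117180) q6799, e3 q5509 (flp_j L117192) q6800, e3 q5510 L117740 q6862, e3 q5511 (flp_j L117209) q6802, e3 q5512 (flp_j L117220) q6803, e3 q5513 (flp_j L117226) q6804, e3 q5514 L117806 q6870, e3 q5515 (flp_j L117248) q6806, e3 q5516 (flp_j L117257) q6807, e3 q5517 (flp_j L81480) q4387, e3 q5518 L117842 q6874, e3 q5519 (flp_j L117287) q6810, e3 q5520 (flp_j L81505) q4389, e3 q5521 (flp_j L117877) q6878, e3 q5522 (flp_j L117310) q6813, e3 q5523 (flp_j L117320) q6814, e3 q5524 (flp_j L117330) q6815, e3 q5525 (flp_j L117341) q6816, e3 q5526 (flp_j L117348) q6817, e3 q5527 L117963 q6889, e3 q5528 (flp_j L117368) q6819, e3 q5529 (flp_j L117380) q6820, e3 q5530 (flp_j L81588) q4396, e3 q5531 (flp_j L117397) q6822, e3 q5532 L118010 q6895, e3 q5533 (flp_j L117413) q6824, e3 q5534 (flp_j L117418) q6825, e3 q5535 (flp_j L117429) q6826, e3 q5536 L118061 q6902, e3 q5537 (flp_j L117446) q6828,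 e3 q5538 (flp_j L81646) q4400, e3 q5539 (flp_j L118098) q6906, e3 q5540 (flp_j L117472) q6831, e3 q5541 L118110 q6908, e3 q5542 (flp_j L81678) q4404, e3 q5543 (flp_j L118132) q6910, e3 q5544 (flp_j L117501) q6835, e3 q5545 (flp_j L117512) q6836, e3 q5546 L81710 q4407, e3 q5547 (flp_j L118169) q6915, e3 q5548 L81726 q5548, e3 q5549 L81736 q5549, e3 q5550 L81744 q5550, e3 q5551 L118234 q6922, e3 q5552 L81764 q5552, e3 q5553 L81772 q5553, e3 q5554 L81777 q5554, e3 q5555 L118301 q6930, e3 q5556 L81795 q5556, e3 q5557 L81805 q5557, e3 q5558 (flp_j L81807) q4414, e3 q5559 L118335 q6934, e3 q5560 L81834 q5560, e3 q5561 (flp_j L81835) q4416, e3 q5562 (flp_j L118376) q6938, e3 q5563 L81859 q5563, e3 q5564 L81866 q5564, e3 q5565 L81877 q5565, e3 q5566 L81888 q5566, e3 q5567 L81894 q5567, trivial⟩ (by decide +kernel)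

theorem ce_j_87 : ∀ r, r < 64 → sm gj (Qf (5568 + r)) = Qf (tab Gen.j (5568 + r)) :=
  edges_tab (sm gj) Qf (tab Gen.j) 5568 [(5568, 6949), (5569, 5569), (5570, 5570), (5571, 4423), (5572, 5572), (5573, 6955), (5574, 5574), (5575, 5575), (5576, 5576), (5577, 6962), (5578, 5578), (5579, 4427), (5580, 6966), (5581, 5581), (5582, 6968), (5583, 4431), (5584, 6970), (5585, 5585), (5586, 5586), (5587, 4434), (5588, 6975), (5589, 5589), (5590, 5590), (5591, 5591), (5592, 6983), (5593, 5593), (5594, 5594), (5595, 5595), (5596, 6989), (5597, 5597), (5598, 4440), (5599, 6993), (5600, 5600), (5601, 5601), (5602, 6998), (5603, 5603), (5604, 4445), (5605, 7002), (5606, 5606), (5607, 5607), (5608, 5608), (5609, 5609), (5610, 7010), (5611, 4449), (5612, 7012), (5613, 5613), (5614, 5614), (5615, 4452), (5616, 7017), (5617, 4454), (5618, 7019), (5619, 4456), (5620, 7022), (5621, 7023), (5622, 5622), (5623, 5623), (5624, 4460), (5625, 4461), (5626, 7030), (5627, 4463), (5628, 4465), (5629, 7032), (5630, 4467), (5631, 7033)]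
    ⟨e3 q5568 L118473 q6949, e3 q5569 L81917 q5569, e3 q5570 L81925 q5570, e3 q5571 (flp_j L81928) q4423, e3 q5572 L81943 q5572, e3 q5573 L118527 q6955, e3 q5574 L81961 q5574, e3 q5575 L81964 q5575, e3 q5576 L81972 q5576, e3 q5577 L118577 q6962, e3 q5578 L81993 q5578, e3 q5579 (flp_j L81994) q4427, e3 q5580 (flp_j L118621) q6966, e3 q5581 L82015 q5581, e3 q5582 L118631 q6968, e3 q5583 (flp_j L82027) q4431, e3 q5584 (flp_j L118653) q6970, e3 q5585 L82049 q5585, e3 q5586 L82059 q5586, e3 q5587 L82066 q4434, e3 q5588 (flp_j L118691) q6975, e3 q5589 L82081 q5589, e3 q5590 L82089 q5590, e3 q5591 L82096 q5591, e3 q5592 L118760 q6983, e3 q5593 L82114 q5593, e3 q5594 L82119 q5594, e3 q5595 L82130 q5595, e3 q5596 L118820 q6989, e3 q5597 L82149 q5597, e3 q5598 (flp_j L82150) q4440, e3 q5599 (flp_j L118866) q6993, e3 q5600 L82174 q5600, e3 q5601 L82179 q5601, e3 q5602 L118898 q6998, e3 q5603 L82197 q5603, e3 q5604 (flp_j L82198) q4445, e3 q5605 (flp_j L118932) q7002, e3 q5606 L82214 q5606, e3 q5607 L82223 q5607, e3 q5608 L82227 q5608,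 e3 q5609 L82236 q5609, e3 q5610 L118979 q7010, e3 q5611 (flp_j L82245) q4449, e3 q5612 (flp_j L119002) q7012, e3 q5613 L82268 q5613, e3 q5614 L82280 q5614, e3 q5615 L82286 q4452, e3 q5616 (flp_j L119045) q7017, e3 q5617 (flp_j L82296) q4454, e3 q5618 (flp_j L119060) q7019, e3 q5619 L82316 q4456, e3 q5620 (flp_j L119082) q7022, e3 q5621 (flp_j L119093) q7023, e3 q5622 L82339 q5622, e3 q5623 L82350 q5623, e3 q5624 L82356 q4460, e3 q5625 (flp_j L82446) q4461, e3 q5626 L119309 q7030, e3 q5627 (flp_j L82474) q4463, e3 q5628 (flp_j L82567) q4465, e3 q5629 L119550 q7032, e3 q5630 (flp_j L82629) q4467, e3 q5631 L119603 q7033, trivial⟩ (by decide +kernel)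

theorem ce_j_88 : ∀ r, r < 64 → sm gj (Qf (5632 + r)) = Qf (tab Gen.j (5632 + r)) :=
  edges_tab (sm gj) Qf (tab Gen.j) 5632 [(5632, 4469), (5633, 7035), (5634, 5634), (5635, 4472), (5636, 7039), (5637, 4474), (5638, 5638), (5639, 7043), (5640, 4477), (5641, 7044), (5642, 4478), (5643, 7046), (5644, 5644), (5645, 4481), (5646, 4482), (5647, 7050), (5648, 4484), (5649, 7053), (5650, 7054), (5651, 5651), (5652, 5652), (5653, 4488), (5654, 5654), (5655, 7063), (5656, 4490), (5657, 7064), (5658, 4491), (5659, 7066), (5660, 5660), (5661, 4494), (5662, 7070), (5663, 5663), (5664, 7074), (5665, 4496), (5666, 7076), (5667, 5667), (5668, 4499), (5669, 4500), (5670, 7080), (5671, 4502), (5672, 7083), (5673, 7084), (5674, 5674), (5675, 5675), (5676, 4506), (5677, 4823), (5678, 4508), (5679, 7091), (5680, 7092), (5681, 4510), (5682, 4511), (5683, 7096), (5684, 7097), (5685, 5685), (5686, 5686), (5687, 5687), (5688, 5688), (5689, 5689), (5690, 5690), (5691, 5691), (5692, 5692), (5693, 5693), (5694, 5694), (5695, 5695)]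
    ⟨e3 q5632 (flp_j L82663) q4469, e3 q5633 (flp_j L119623) q7035, e3 q5634 L82681 q5634, e3 q5635 L82697 q4472, e3 q5636 L119813 q7039, e3 q5637 (flp_j L82798) q4474, e3 q5638 L82832 q5638, e3 q5639 L119896 q7043, e3 q5640 (flp_j L82855) q4477, e3 q5641 L119996 q7044, e3 q5642 (flp_j L82914) q4478, e3 q5643 (flp_j L120021) q7046, e3 q5644 L82937 q5644, e3 q5645 L82955 q4481, e3 q5646 (flp_j L82966) q4482, e3 q5647 (flp_j L120080) q7050, e3 q5648 L82991 q4484, e3 q5649 (flp_j L120104) q7053, e3 q5650 (flp_j L120113) q7054, e3 q5651 L83013 q5651, e3 q5652 L83022 q5652, e3 q5653 L83029 q4488, e3 q5654 L83084 q5654, e3 q5655 L120260 q7063, e3 q5656 (flp_j L83105) q4490, e3 q5657 L120352 q7064, e3 q5658 (flp_j L83159) q4491, e3 q5659 (flp_j L120378) q7066, e3 q5660 L83183 q5660, e3 q5661 L83202 q4494, e3 q5662 L120433 q7070, e3 q5663 L83226 q5663, e3 q5664 L120461 q7074, e3 q5665 (flp_j L83235) q4496, e3 q5666 (flp_j L120487) q7076, e3 q5667 L83257 q5667, e3 q5668 L83275 q4499, e3 q5669 (flp_j L83317) q4500, e3 q5670 (flp_j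 L120590) q7080, e3 q5671 L83340 q4502, e3 q5672 (flp_j L120614) q7083, e3 q5673 (flp_j L120624) q7084, e3 q5674 L83362 q5674, e3 q5675 L83372 q5675, e3 q5676 L83380 q4506, e3 q5677 L83388 q4823, e3 q5678 L83397 q4508, e3 q5679 (flp_j L120679) q7091, e3 q5680 (flp_j L120688) q7092, e3 q5681 L83419 q4510, e3 q5682 L83429 q4511, e3 q5683 (flp_j L120719) q7096, e3 q5684 (flp_j L120729) q7097, e3 q5685 L83452 q5685, e3 q5686 L83462 q5686, e3 q5687 L83469 q5687, e3 q5688 L83478 q5688, e3 q5689 L83486 q5689, e3 q5690 L83497 q5690, e3 q5691 L83521 q5691, e3 q5692 L83530 q5692, e3 q5693 L83554 q5693, e3 q5694 L83562 q5694, e3 q5695 L83571 q5695, trivial⟩ (by decide +kernel)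

theorem ce_j_89 : ∀ r, r < 64 → sm gj (Qf (5696 + r)) = Qf (tab Gen.j (5696 + r)) :=
  edges_tab (sm gj) Qf (tab Gen.j) 5696 [(5696, 5253), (5697, 5697), (5698, 5698), (5699, 5699), (5700, 5700), (5701, 5701), (5702, 5252), (5703, 4542), (5704, 4543), (5705, 4544), (5706, 4545), (5707, 6549), (5708, 4547), (5709, 4548), (5710, 4549), (5711, 4550), (5712, 6569), (5713, 4534), (5714, 4553), (5715, 4554), (5716, 4555), (5717, 4556), (5718, 4557), (5719, 5226), (5720, 4559), (5721, 6671), (5722, 4561), (5723, 4562), (5724, 4540), (5725, 6556), (5726, 6547), (5727, 6550), (5728, 6562), (5729, 6632), (5730, 6568), (5731, 4546), (5732, 7113), (5733, 7114), (5734, 7115), (5735, 7137), (5736, 7117), (5737, 6670), (5738, 6647), (5739, 7118), (5740, 4551), (5741, 7119), (5742, 7143), (5743, 7121), (5744, 7122), (5745, 7148), (5746, 7124), (5747, 7125), (5748, 4558), (5749, 7152), (5750, 7127), (5751, 4560), (5752, 7156), (5753, 7129), (5754, 4584), (5755, 4585), (5756, 6567), (5757, 4566), (5758, 4588), (5759, 4589)]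
    ⟨e3 q5696 (flp_j L618763) q5253, e3 q5697 L83595 q5697, e3 q5698 L83603 q5698, e3 q5699 L83610 q5699, e3 q5700 L83619 q5700, e3 q5701 L83626 q5701, e3 q5702 (flp_j L619785) q5252, e3 q5703 L83663 q4542, e3 q5704 L83674 q4543, e3 q5705 L83706 q4544, e3 q5706 L83715 q4545, e3 q5707 L643144 q6549, e3 q5708 L83747 q4547, e3 q5709 L83757 q4548, e3 q5710 L83769 q4549, e3 q5711 L83777 q4550, e3 q5712 L633032 q6569, e3 q5713 (flp_j L83788) q4534, e3 q5714 L83805 q4553, e3 q5715 L83814 q4554, e3 q5716 L83821 q4555, e3 q5717 L83832 q4556, e3 q5718 L83838 q4557, e3 q5719 L609414 q5226, e3 q5720 L83854 q4559, e3 q5721 L644810 q6671, e3 q5722 L83870 q4561, e3 q5723 L83878 q4562, e3 q5724 (flp_j L83880) q4540, e3 q5725 L632448 q6556, e3 q5726 (flp_j L632496) q6547, e3 q5727 (flp_j L643642) q6550, e3 q5728 (flp_j L643954) q6562, e3 q5729 (flp_j L643774) q6632, e3 q5730 (flp_j L643620) q6568, e3 q5731 (flp_j L83989) q4546, e3 q5732 (flp_j L121187) q7113, e3 q5733 (flp_j L121200) q7114, e3 q5734 (flp_j L121208) q7115, e3 q5735 L121634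 q7137, e3 q5736 (flp_j L121224) q7117, e3 q5737 (flp_j L644637) q6670, e3 q5738 L644493 q6647, e3 q5739 (flp_j L121250) q7118, e3 q5740 (flp_j L84081) q4551, e3 q5741 (flp_j L121280) q7119, e3 q5742 L121737 q7143, e3 q5743 (flp_j L121307) q7121, e3 q5744 (flp_j L121320) q7122, e3 q5745 L121795 q7148, e3 q5746 (flp_j L121336) q7124, e3 q5747 (flp_j L121344) q7125, e3 q5748 (flp_j L84162) q4558, e3 q5749 L121824 q7152, e3 q5750 (flp_j L121371) q7127, e3 q5751 (flp_j L84186) q4560, e3 q5752 (flp_j L121857) q7156, e3 q5753 (flp_j L121395) q7129, e3 q5754 L84247 q4584, e3 q5755 L84256 q4585, e3 q5756 L643133 q6567, e3 q5757 (flp_j L84269) q4566, e3 q5758 L84305 q4588, e3 q5759 L84319 q4589, trivial⟩ (by decide +kernel)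

theorem ce_j_90 : ∀ r, r < 64 → sm gj (Qf (5760 + r)) = Qf (tab Gen.j (5760 + r)) :=
  edges_tab (sm gj) Qf (tab Gen.j) 5760 [(5760, 4590), (5761, 7166), (5762, 4592), (5763, 7169), (5764, 4594), (5765, 4595), (5766, 4571), (5767, 4597), (5768, 4598), (5769, 4599), (5770, 7179), (5771, 4601), (5772, 4602), (5773, 4603), (5774, 7187), (5775, 4605), (5776, 4606), (5777, 4578), (5778, 7191), (5779, 4609), (5780, 4580), (5781, 7195), (5782, 4612), (5783, 6578), (5784, 6593), (5785, 7158), (5786, 7159), (5787, 4586), (5788, 7160), (5789, 7161), (5790, 7162), (5791, 7206), (5792, 7164), (5793, 7165), (5794, 4591), (5795, 7210), (5796, 7168), (5797, 4593), (5798, 7214), (5799, 7171), (5800, 7172), (5801, 7173), (5802, 7174), (5803, 7175), (5804, 7225), (5805, 7177), (5806, 7178), (5807, 4600), (5808, 7180), (5809, 7231), (5810, 7182), (5811, 7183), (5812, 7184), (5813, 7238), (5814, 7186), (5815, 4604), (5816, 7242), (5817, 7189), (5818, 7244), (5819, 4608), (5820, 7246), (5821, 7193), (5822, 7194), (5823, 4611)]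
    ⟨e3 q5760 L84328 q4590, e3 q5761 L122072 q7166, e3 q5762 L84344 q4592, e3 q5763 L122101 q7169, e3 q5764 L84365 q4594, e3 q5765 L84373 q4595, e3 q5766 (flp_j L84377) q4571, e3 q5767 L84392 q4597, e3 q5768 L84403 q4598, e3 q5769 L84411 q4599, e3 q5770 L122195 q7179, e3 q5771 L84431 q4601, e3 q5772 L84440 q4602, e3 q5773 L84446 q4603, e3 q5774 L122266 q7187, e3 q5775 L84461 q4605, e3 q5776 L84470 q4606, e3 q5777 (flp_j L84472) q4578, e3 q5778 L122298 q7191, e3 q5779 L84496 q4609, e3 q5780 (flp_j L84498) q4580, e3 q5781 (flp_j L122339) q7195, e3 q5782 L84525 q4612, e3 q5783 (flp_j L643965) q6578, e3 q5784 L643063 q6593, e3 q5785 (flp_j L121951) q7158, e3 q5786 (flp_j L121963) q7159, e3 q5787 (flp_j L84615) q4586, e3 q5788 (flp_j L122025) q7160, e3 q5789 (flp_j L122036) q7161, e3 q5790 (flp_j L122042) q7162, e3 q5791 L122627 q7206, e3 q5792 (flp_j L122061) q7164, e3 q5793 (flp_j L122068) q7165, e3 q5794 (flp_j L84710) q4591, e3 q5795 L122662 q7210, e3 q5796 (flp_j L122099) q7168, e3 q5797 (flp_j L84736) q4593, e3 q5798 (flp_j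 L122699) q7214, e3 q5799 (flp_j L122128) q7171, e3 q5800 (flp_j L122137) q7172, e3 q5801 (flp_j L122150) q7173, e3 q5802 (flp_j L122159) q7174, e3 q5803 (flp_j L122166) q7175, e3 q5804 L122785 q7225, e3 q5805 (flp_j L122183) q7177, e3 q5806 (flp_j L122193) q7178, e3 q5807 (flp_j L84820) q4600, e3 q5808 (flp_j L122212) q7180, e3 q5809 L122834 q7231, e3 q5810 (flp_j L122231) q7182, e3 q5811 (flp_j L122238) q7183, e3 q5812 (flp_j L122250) q7184, e3 q5813 L122895 q7238, e3 q5814 (flp_j L122264) q7186, e3 q5815 (flp_j L84883) q4604, e3 q5816 (flp_j L122926) q7242, e3 q5817 (flp_j L122290) q7189, e3 q5818 L122938 q7244, e3 q5819 (flp_j L84914) q4608, e3 q5820 (flp_j L122963) q7246, e3 q5821 (flp_j L122319) q7193, e3 q5822 (flp_j L122329) q7194, e3 q5823 L84948 q4611, trivial⟩ (by decide +kernel)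

theorem ce_j_91 : ∀ r, r < 64 → sm gj (Qf (5824 + r)) = Qf (tab Gen.j (5824 + r)) :=
  edges_tab (sm gj) Qf (tab Gen.j) 5824 [(5824, 7251), (5825, 6616), (5826, 5826), (5827, 4614), (5828, 7255), (5829, 5829), (5830, 5830), (5831, 7260), (5832, 5832), (5833, 5833), (5834, 7264), (5835, 5835), (5836, 4621), (5837, 7268), (5838, 5838), (5839, 7270), (5840, 4625), (5841, 7272), (5842, 5842), (5843, 5843), (5844, 4628), (5845, 7277), (5846, 5846), (5847, 5847), (5848, 5848), (5849, 7285), (5850, 5850), (5851, 5851), (5852, 5852), (5853, 7291), (5854, 5854), (5855, 4634), (5856, 7295), (5857, 5857), (5858, 5858), (5859, 7300), (5860, 5860), (5861, 4639), (5862, 7304), (5863, 5863), (5864, 5864), (5865, 5865), (5866, 5866), (5867, 7311), (5868, 4643), (5869, 7313), (5870, 5870), (5871, 5871), (5872, 4646), (5873, 7318), (5874, 4648), (5875, 7320), (5876, 4650), (5877, 7323), (5878, 7324), (5879, 5879), (5880, 5880), (5881, 4654), (5882, 4682), (5883, 4683), (5884, 4684), (5885, 7337), (5886, 4686), (5887, 4687)]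
    ⟨e3 q5824 (flp_j L123000) q7251, e3 q5825 (flp_j L643030) q6616, e3 q5826 L85074 q5826, e3 q5827 (flp_j L85075) q4614, e3 q5828 (flp_j L123206) q7255, e3 q5829 L85099 q5829, e3 q5830 L85180 q5830, e3 q5831 L123357 q7260, e3 q5832 L85201 q5832, e3 q5833 L85215 q5833, e3 q5834 L123417 q7264, e3 q5835 L85233 q5835, e3 q5836 (flp_j L85234) q4621, e3 q5837 (flp_j L123455) q7268, e3 q5838 L85255 q5838, e3 q5839 L123465 q7270, e3 q5840 (flp_j L85266) q4625, e3 q5841 (flp_j L123490) q7272, e3 q5842 L85289 q5842, e3 q5843 L85298 q5843, e3 q5844 L85307 q4628, e3 q5845 (flp_j L123528) q7277, e3 q5846 L85327 q5846, e3 q5847 L85335 q5847, e3 q5848 L85342 q5848, e3 q5849 L123601 q7285, e3 q5850 L85359 q5850, e3 q5851 L85364 q5851, e3 q5852 L85374 q5852, e3 q5853 L123659 q7291, e3 q5854 L85390 q5854, e3 q5855 (flp_j L85391) q4634, e3 q5856 (flp_j L123699) q7295, e3 q5857 L85415 q5857, e3 q5858 L85420 q5858, e3 q5859 L123733 q7300, e3 q5860 L85440 q5860, e3 q5861 (flp_j L85441) q4639, e3 q5862 (flp_j L123773) q7304, e3 q5863 L85464 q5863,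 e3 q5864 L85476 q5864, e3 q5865 L85482 q5865, e3 q5866 L85492 q5866, e3 q5867 L123834 q7311, e3 q5868 (flp_j L85498) q4643, e3 q5869 (flp_j L123854) q7313, e3 q5870 L85518 q5870, e3 q5871 L85527 q5871, e3 q5872 L85533 q4646, e3 q5873 (flp_j L123891) q7318, e3 q5874 (flp_j L85543) q4648, e3 q5875 (flp_j L123907) q7320, e3 q5876 L85566 q4650, e3 q5877 (flp_j L123926) q7323, e3 q5878 (flp_j L123938) q7324, e3 q5879 L85588 q5879, e3 q5880 L85598 q5880, e3 q5881 L85606 q4654, e3 q5882 L85613 q4682, e3 q5883 L85626 q4683, e3 q5884 L85636 q4684, e3 q5885 L124051 q7337, e3 q5886 L85657 q4686, e3 q5887 L85666 q4687, trivial⟩ (by decide +kernel)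

theorem ce_j_92 : ∀ r, r < 64 → sm gj (Qf (5888 + r)) = Qf (tab Gen.j (5888 + r)) :=
  edges_tab (sm gj) Qf (tab Gen.j) 5888 [(5888, 4688), (5889, 7345), (5890, 4690), (5891, 4691), (5892, 4660), (5893, 7349), (5894, 4694), (5895, 4662), (5896, 7353), (5897, 4697), (5898, 4698), (5899, 4699), (5900, 4700), (5901, 4701), (5902, 7362), (5903, 4703), (5904, 4704), (5905, 4669), (5906, 4706), (5907, 7368), (5908, 4708), (5909, 4709), (5910, 4710), (5911, 7375), (5912, 4712), (5913, 4673), (5914, 7379), (5915, 4715), (5916, 7381), (5917, 4677), (5918, 7383), (5919, 4719), (5920, 4720), (5921, 4680), (5922, 7388), (5923, 7330), (5924, 7331), (5925, 7332), (5926, 7333), (5927, 7396), (5928, 7335), (5929, 7336), (5930, 4685), (5931, 7338), (5932, 7402), (5933, 7340), (5934, 7341), (5935, 7342), (5936, 7408), (5937, 7344), (5938, 4689), (5939, 7412), (5940, 7347), (5941, 7414), (5942, 4693), (5943, 7416), (5944, 7351), (5945, 7352), (5946, 4696), (5947, 7421), (5948, 7355), (5949, 7356), (5950, 7427), (5951, 7358)]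
    ⟨e3 q5888 L85672 q4688, e3 q5889 L124124 q7345, e3 q5890 L85692 q4690, e3 q5891 L85701 q4691, e3 q5892 (flp_j L85705) q4660, e3 q5893 L124161 q7349, e3 q5894 L85731 q4694, e3 q5895 (flp_j L85733) q4662, e3 q5896 (flp_j L124200) q7353, e3 q5897 L85756 q4697, e3 q5898 L85765 q4698, e3 q5899 L85776 q4699, e3 q5900 L85785 q4700, e3 q5901 L85792 q4701, e3 q5902 L124293 q7362, e3 q5903 L85810 q4703, e3 q5904 L85822 q4704, e3 q5905 (flp_j L85824) q4669, e3 q5906 L85841 q4706, e3 q5907 L124345 q7368, e3 q5908 L85856 q4708, e3 q5909 L85861 q4709, e3 q5910 L85872 q4710, e3 q5911 L124403 q7375, e3 q5912 L85887 q4712, e3 q5913 (flp_j L85889) q4673, e3 q5914 (flp_j L124444) q7379, e3 q5915 L85915 q4715, e3 q5916 L124457 q7381, e3 q5917 (flp_j L85922) q4677, e3 q5918 (flp_j L124477) q7383, e3 q5919 L85940 q4719, e3 q5920 L85950 q4720, e3 q5921 L85958 q4680, e3 q5922 (flp_j L124519) q7388, e3 q5923 (flp_j L123984) q7330, e3 q5924 (flp_j L123997) q7331, e3 q5925 (flp_j L124008) q7332, e3 q5926 (flp_j L124015) q7333, e3 q5927 L124601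 q7396, e3 q5928 (flp_j L124037) q7335, e3 q5929 (flp_j L124047) q7336, e3 q5930 (flp_j L86034) q4685, e3 q5931 (flp_j L124069) q7338, e3 q5932 L124653 q7402, e3 q5933 (flp_j L124088) q7340, e3 q5934 (flp_j L124093) q7341, e3 q5935 (flp_j L124103) q7342, e3 q5936 L124709 q7408, e3 q5937 (flp_j L124122) q7344, e3 q5938 (flp_j L86099) q4689, e3 q5939 (flp_j L124746) q7412, e3 q5940 (flp_j L124150) q7347, e3 q5941 L124760 q7414, e3 q5942 (flp_j L86135) q4693, e3 q5943 (flp_j L124782) q7416, e3 q5944 (flp_j L124181) q7351, e3 q5945 (flp_j L124190) q7352, e3 q5946 L86167 q4696, e3 q5947 (flp_j L124817) q7421, e3 q5948 (flp_j L124219) q7355, e3 q5949 (flp_j L124235) q7356, e3 q5950 L124880 q7427, e3 q5951 (flp_j L124254) q7358, trivial⟩ (by decide +kernel)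

theorem ce_j_93 : ∀ r, r < 64 → sm gj (Qf (5952 + r)) = Qf (tab Gen.j (5952 + r)) :=
  edges_tab (sm gj) Qf (tab Gen.j) 5952 [(5952, 7359), (5953, 7431), (5954, 7361), (5955, 4702), (5956, 7435), (5957, 7364), (5958, 7365), (5959, 7440), (5960, 7367), (5961, 4707), (5962, 7444), (5963, 7370), (5964, 7371), (5965, 7372), (5966, 7373), (5967, 7451), (5968, 4711), (5969, 7453), (5970, 7377), (5971, 7378), (5972, 4714), (5973, 7458), (5974, 4716), (5975, 7460), (5976, 4718), (5977, 7463), (5978, 7464), (5979, 7386), (5980, 7387), (5981, 4722), (5982, 5982), (5983, 5983), (5984, 7474), (5985, 5985), (5986, 5986), (5987, 7478), (5988, 5988), (5989, 4727), (5990, 7481), (5991, 5991), (5992, 5992), (5993, 7486), (5994, 5994), (5995, 4732), (5996, 7490), (5997, 5997), (5998, 5998), (5999, 5999), (6000, 7495), (6001, 4736), (6002, 7497), (6003, 6003), (6004, 6004), (6005, 4739), (6006, 7502), (6007, 4741), (6008, 7504), (6009, 4743), (6010, 7507), (6011, 7508), (6012, 6012), (6013, 6013), (6014, 4747), (6015, 6015)]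
    ⟨e3 q5952 (flp_j L124274) q7359, e3 q5953 L124946 q7431, e3 q5954 (flp_j L124291) q7361, e3 q5955 (flp_j L86251) q4702, e3 q5956 (flp_j L124985) q7435, e3 q5957 (flp_j L124322) q7364, e3 q5958 (flp_j L124326) q7365, e3 q5959 L125018 q7440, e3 q5960 (flp_j L124343) q7367, e3 q5961 (flp_j L86297) q4707, e3 q5962 (flp_j L125046) q7444, e3 q5963 (flp_j L124365) q7370, e3 q5964 (flp_j L124377) q7371, e3 q5965 (flp_j L124384) q7372, e3 q5966 (flp_j L124395) q7373, e3 q5967 L125102 q7451, e3 q5968 (flp_j L86350) q4711, e3 q5969 (flp_j L125125) q7453, e3 q5970 (flp_j L124424) q7377, e3 q5971 (flp_j L124435) q7378, e3 q5972 L86384 q4714, e3 q5973 (flp_j L125165) q7458, e3 q5974 (flp_j L86398) q4716, e3 q5975 (flp_j L125180) q7460, e3 q5976 L86418 q4718, e3 q5977 (flp_j L125198) q7463, e3 q5978 (flp_j L125208) q7464, e3 q5979 (flp_j L124499) q7386, e3 q5980 (flp_j L124509) q7387, e3 q5981 L86455 q4722, e3 q5982 L86464 q5982, e3 q5983 L86479 q5983, e3 q5984 L125315 q7474, e3 q5985 L86500 q5985, e3 q5986 L86515 q5986, e3 q5987 L125380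 q7478, e3 q5988 L86536 q5988, e3 q5989 (flp_j L86537) q4727, e3 q5990 (flp_j L125426) q7481, e3 q5991 L86563 q5991, e3 q5992 L86568 q5992, e3 q5993 L125462 q7486, e3 q5994 L86589 q5994, e3 q5995 (flp_j L86590) q4732, e3 q5996 (flp_j L125496) q7490, e3 q5997 L86609 q5997, e3 q5998 L86619 q5998, e3 q5999 L86633 q5999, e3 q6000 L125547 q7495, e3 q6001 (flp_j L86642) q4736, e3 q6002 (flp_j L125570) q7497, e3 q6003 L86665 q6003, e3 q6004 L86675 q6004, e3 q6005 L86683 q4739, e3 q6006 (flp_j L125611) q7502, e3 q6007 (flp_j L86695) q4741, e3 q6008 (flp_j L125628) q7504, e3 q6009 L86715 q4743, e3 q6010 (flp_j L125648) q7507, e3 q6011 (flp_j L125659) q7508, e3 q6012 L86738 q6012, e3 q6013 L86747 q6013, e3 q6014 L86753 q4747, e3 q6015 L86762 q6015, trivial⟩ (by decide +kernel)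

theorem ce_j_94 : ∀ r, r < 64 → sm gj (Qf (6016 + r)) = Qf (tab Gen.j (6016 + r)) :=
  edges_tab (sm gj) Qf (tab Gen.j) 6016 [(6016, 7516), (6017, 6017), (6018, 7520), (6019, 6019), (6020, 4750), (6021, 7524), (6022, 6022), (6023, 7526), (6024, 4753), (6025, 7528), (6026, 6026), (6027, 6027), (6028, 4756), (6029, 7533), (6030, 7535), (6031, 6031), (6032, 7539), (6033, 4759), (6034, 7541), (6035, 6035), (6036, 6036), (6037, 4762), (6038, 7547), (6039, 7548), (6040, 6040), (6041, 6041), (6042, 6042), (6043, 6043), (6044, 4767), (6045, 7556), (6046, 4769), (6047, 7559), (6048, 7560), (6049, 6049), (6050, 6050), (6051, 4773), (6052, 7018), (6053, 4775), (6054, 7567), (6055, 7568), (6056, 4777), (6057, 4778), (6058, 7572), (6059, 7573), (6060, 6060), (6061, 6061), (6062, 6062), (6063, 7580), (6064, 4782), (6065, 7582), (6066, 6066), (6067, 7585), (6068, 4785), (6069, 4787), (6070, 7587), (6071, 4789), (6072, 7589), (6073, 6073), (6074, 7049), (6075, 4793), (6076, 7593), (6077, 7594), (6078, 4795), (6079, 4796)]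
    ⟨e3 q6016 L125723 q7516, e3 q6017 L86795 q6017, e3 q6018 L125802 q7520, e3 q6019 L86816 q6019, e3 q6020 (flp_j L86817) q4750, e3 q6021 (flp_j L125842) q7524, e3 q6022 L86853 q6022, e3 q6023 L125909 q7526, e3 q6024 (flp_j L86879) q4753, e3 q6025 (flp_j L125933) q7528, e3 q6026 L86903 q6026, e3 q6027 L86915 q6027, e3 q6028 L86922 q4756, e3 q6029 (flp_j L125982) q7533, e3 q6030 L125990 q7535, e3 q6031 L86949 q6031, e3 q6032 L126019 q7539, e3 q6033 (flp_j L86954) q4759, e3 q6034 (flp_j L126038) q7541, e3 q6035 L86971 q6035, e3 q6036 L86978 q6036, e3 q6037 L86984 q4762, e3 q6038 (flp_j L126070) q7547, e3 q6039 (flp_j L126081) q7548, e3 q6040 L87004 q6040, e3 q6041 L87015 q6041, e3 q6042 L87020 q6042, e3 q6043 L87029 q6043, e3 q6044 (flp_j L87037) q4767, e3 q6045 (flp_j L126159) q7556, e3 q6046 L87058 q4769, e3 q6047 (flp_j L126180) q7559, e3 q6048 (flp_j L126193) q7560, e3 q6049 L87082 q6049, e3 q6050 L87093 q6050, e3 q6051 L87101 q4773, e3 q6052 (flp_j L119053) q7018, e3 q6053 L87114 q4775, e3 q6054 (flp_j L126249) q7567,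 e3 q6055 (flp_j L126258) q7568, e3 q6056 L87132 q4777, e3 q6057 L87144 q4778, e3 q6058 (flp_j L126287) q7572, e3 q6059 (flp_j L126299) q7573, e3 q6060 L87168 q6060, e3 q6061 L87178 q6061, e3 q6062 L87184 q6062, e3 q6063 L126582 q7580, e3 q6064 (flp_j L87332) q4782, e3 q6065 L126663 q7582, e3 q6066 L87403 q6066, e3 q6067 L126694 q7585, e3 q6068 (flp_j L87412) q4785, e3 q6069 (flp_j L87506) q4787, e3 q6070 (flp_j L126841) q7587, e3 q6071 L87529 q4789, e3 q6072 (flp_j L126863) q7589, e3 q6073 L87551 q6073, e3 q6074 (flp_j L120071) q7049, e3 q6075 L87586 q4793, e3 q6076 (flp_j L126924) q7593, e3 q6077 (flp_j L126933) q7594, e3 q6078 L87606 q4795, e3 q6079 L87616 q4796, trivial⟩ (by decide +kernel)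

theorem ce_j_95 : ∀ r, r < 64 → sm gj (Qf (6080 + r)) = Qf (tab Gen.j (6080 + r)) :=
  edges_tab (sm gj) Qf (tab Gen.j) 6080 [(6080, 7598), (6081, 7599), (6082, 6082), (6083, 6083), (6084, 6084), (6085, 7607), (6086, 6086), (6087, 7610), (6088, 4801), (6089, 4803), (6090, 7612), (6091, 4805), (6092, 7614), (6093, 6093), (6094, 7618), (6095, 4808), (6096, 7620), (6097, 6097), (6098, 6098), (6099, 4810), (6100, 7626), (6101, 4812), (6102, 7628), (6103, 6103), (6104, 7079), (6105, 4816), (6106, 7632), (6107, 7633), (6108, 4818), (6109, 4819), (6110, 7637), (6111, 7638), (6112, 6112), (6113, 6113), (6114, 6114), (6115, 7090), (6116, 4825), (6117, 4826), (6118, 7647), (6119, 7648), (6120, 7649), (6121, 4829), (6122, 4830), (6123, 7652), (6124, 4955), (6125, 7653), (6126, 6126), (6127, 6127), (6128, 6128), (6129, 4858), (6130, 6588), (6131, 4860), (6132, 4861), (6133, 6586), (6134, 4863), (6135, 4837), (6136, 7666), (6137, 4866), (6138, 4867), (6139, 6583), (6140, 4869), (6141, 4842), (6142, 7671), (6143, 4872)]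
    ⟨e3 q6080 (flp_j L126960) q7598, e3 q6081 (flp_j L126970) q7599, e3 q6082 L87639 q6082, e3 q6083 L87647 q6083, e3 q6084 L87652 q6084, e3 q6085 L127108 q7607, e3 q6086 L87724 q6086, e3 q6087 L127140 q7610, e3 q6088 (flp_j L87732) q4801, e3 q6089 (flp_j L87787) q4803, e3 q6090 (flp_j L127228) q7612, e3 q6091 L87811 q4805, e3 q6092 (flp_j L127251) q7614, e3 q6093 L87837 q6093, e3 q6094 L127313 q7618, e3 q6095 (flp_j L87864) q4808, e3 q6096 (flp_j L127331) q7620, e3 q6097 L87882 q6097, e3 q6098 L87891 q6098, e3 q6099 (flp_j L87892) q4810, e3 q6100 (flp_j L127376) q7626, e3 q6101 L87916 q4812, e3 q6102 (flp_j L127395) q7628, e3 q6103 L87936 q6103, e3 q6104 (flp_j L120581) q7079, e3 q6105 L87969 q4816, e3 q6106 (flp_j L127457) q7632, e3 q6107 (flp_j L127466) q7633, e3 q6108 L87989 q4818, e3 q6109 L88000 q4819, e3 q6110 (flp_j L127492) q7637, e3 q6111 (flp_j L127503) q7638, e3 q6112 L88022 q6112, e3 q6113 L88031 q6113, e3 q6114 L88038 q6114, e3 q6115 (flp_j L120672) q7090, e3 q6116 L88052 q4825, e3 q6117 L88061 q4826, e3 q6118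 (flp_j L127571) q7647, e3 q6119 (flp_j L127577) q7648, e3 q6120 (flp_j L127589) q7649, e3 q6121 L88088 q4829, e3 q6122 L88099 q4830, e3 q6123 (flp_j L127630) q7652, e3 q6124 L647227 q4955, e3 q6125 (flp_j L127649) q7653, e3 q6126 L88130 q6126, e3 q6127 L88139 q6127, e3 q6128 L88147 q6128, e3 q6129 L88175 q4858, e3 q6130 (flp_j L645265) q6588, e3 q6131 L88197 q4860, e3 q6132 L88216 q4861, e3 q6133 (flp_j L635875) q6586, e3 q6134 L88236 q4863, e3 q6135 (flp_j L88238) q4837, e3 q6136 (flp_j L127898) q7666, e3 q6137 L88264 q4866, e3 q6138 L88271 q4867, e3 q6139 (flp_j L630788) q6583, e3 q6140 L88293 q4869, e3 q6141 (flp_j L88295) q4842, e3 q6142 (flp_j L127979) q7671, e3 q6143 L88319 q4872, trivial⟩ (by decide +kernel)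

theorem ce_j_96 : ∀ r, r < 64 → sm gj (Qf (6144 + r)) = Qf (tab Gen.j (6144 + r)) :=
  edges_tab (sm gj) Qf (tab Gen.j) 6144 [(6144, 4873), (6145, 4874), (6146, 4875), (6147, 6582), (6148, 4846), (6149, 7679), (6150, 4879), (6151, 4880), (6152, 4849), (6153, 7684), (6154, 4851), (6155, 7685), (6156, 4853), (6157, 7688), (6158, 7689), (6159, 4888), (6160, 4889), (6161, 4857), (6162, 6576), (6163, 6589), (6164, 7660), (6165, 4859), (6166, 7698), (6167, 7662), (6168, 6607), (6169, 4862), (6170, 7701), (6171, 7664), (6172, 7665), (6173, 4865), (6174, 7706), (6175, 6585), (6176, 6684), (6177, 6602), (6178, 4868), (6179, 7710), (6180, 7669), (6181, 7670), (6182, 4871), (6183, 7716), (6184, 7717), (6185, 7674), (6186, 7675), (6187, 7676), (6188, 7677), (6189, 4876), (6190, 7724), (6191, 4878), (6192, 7727), (6193, 7728), (6194, 7682), (6195, 7683), (6196, 4882), (6197, 6197), (6198, 4884), (6199, 7735), (6200, 7736), (6201, 4886), (6202, 4887), (6203, 7740), (6204, 7741), (6205, 7692), (6206, 7693), (6207, 7694)]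
    ⟨e3 q6144 L88330 q4873, e3 q6145 L88337 q4874, e3 q6146 L88348 q4875, e3 q6147 (flp_j L627750) q6582, e3 q6148 (flp_j L88358) q4846, e3 q6149 (flp_j L128065) q7679, e3 q6150 L88381 q4879, e3 q6151 L88391 q4880, e3 q6152 L88401 q4849, e3 q6153 (flp_j L128105) q7684, e3 q6154 (flp_j L88411) q4851, e3 q6155 (flp_j L128125) q7685, e3 q6156 L88436 q4853, e3 q6157 (flp_j L128148) q7688, e3 q6158 (flp_j L128159) q7689, e3 q6159 L88457 q4888, e3 q6160 L88467 q4889, e3 q6161 L88476 q4857, e3 q6162 (flp_j L643982) q6576, e3 q6163 L640660 q6589, e3 q6164 (flp_j L127778) q7660, e3 q6165 (flp_j L88552) q4859, e3 q6166 (flp_j L128363) q7698, e3 q6167 (flp_j L127819) q7662, e3 q6168 L648051 q6607, e3 q6169 (flp_j L88617) q4862, e3 q6170 (flp_j L128453) q7701, e3 q6171 (flp_j L127876) q7664, e3 q6172 (flp_j L127887) q7665, e3 q6173 L88658 q4865, e3 q6174 (flp_j L128494) q7706, e3 q6175 (flp_j L642287) q6585, e3 q6176 (flp_j L642413) q6684, e3 q6177 L635584 q6602, e3 q6178 (flp_j L88695) q4868, e3 q6179 (flp_j L128564) q7710, e3 q6180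 (flp_j L127958) q7669, e3 q6181 (flp_j L127968) q7670, e3 q6182 L88732 q4871, e3 q6183 (flp_j L128602) q7716, e3 q6184 (flp_j L128613) q7717, e3 q6185 (flp_j L128001) q7674, e3 q6186 (flp_j L128012) q7675, e3 q6187 (flp_j L128018) q7676, e3 q6188 (flp_j L128029) q7677, e3 q6189 (flp_j L88787) q4876, e3 q6190 (flp_j L128692) q7724, e3 q6191 L88812 q4878, e3 q6192 (flp_j L128716) q7727, e3 q6193 (flp_j L128725) q7728, e3 q6194 (flp_j L128086) q7682, e3 q6195 (flp_j L128096) q7683, e3 q6196 L88847 q4882, e3 q6197 L88858 q6197, e3 q6198 L88867 q4884, e3 q6199 (flp_j L128773) q7735, e3 q6200 (flp_j L128784) q7736, e3 q6201 L88889 q4886, e3 q6202 L88898 q4887, e3 q6203 (flp_j L128813) q7740, e3 q6204 (flp_j L128822) q7741, e3 q6205 (flp_j L128180) q7692, e3 q6206 (flp_j L128190) q7693, e3 q6207 (flp_j L128196) q7694, trivial⟩ (by decide +kernel)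

theorem ce_j_97 : ∀ r, r < 64 → sm gj (Qf (6208 + r)) = Qf (tab Gen.j (6208 + r)) :=
  edges_tab (sm gj) Qf (tab Gen.j) 6208 [(6208, 6611), (6209, 4891), (6210, 7749), (6211, 6211), (6212, 6212), (6213, 4894), (6214, 7754), (6215, 4896), (6216, 7755), (6217, 4898), (6218, 7758), (6219, 7759), (6220, 6220), (6221, 6221), (6222, 4902), (6223, 4903), (6224, 7765), (6225, 4905), (6226, 7768), (6227, 7769), (6228, 6228), (6229, 6229), (6230, 6230), (6231, 4909), (6232, 4910), (6233, 7779), (6234, 7780), (6235, 6235), (6236, 6236), (6237, 7785), (6238, 6238), (6239, 6239), (6240, 4916), (6241, 7788), (6242, 7789), (6243, 4918), (6244, 4919), (6245, 7793), (6246, 7794), (6247, 6247), (6248, 6248), (6249, 6249), (6250, 6250), (6251, 4925), (6252, 4926), (6253, 4958), (6254, 7656), (6255, 7802), (6256, 4929), (6257, 4930), (6258, 7807), (6259, 7806), (6260, 7804), (6261, 6261), (6262, 6262), (6263, 6263), (6264, 6264), (6265, 4935), (6266, 7812), (6267, 4962), (6268, 4937), (6269, 4938), (6270, 7816), (6271, 7817)]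
    ⟨e3 q6208 (flp_j L640881) q6611, e3 q6209 (flp_j L89024) q4891, e3 q6210 (flp_j L129037) q7749, e3 q6211 L89050 q6211, e3 q6212 L89061 q6212, e3 q6213 L89070 q4894, e3 q6214 (flp_j L129098) q7754, e3 q6215 (flp_j L89129) q4896, e3 q6216 (flp_j L129184) q7755, e3 q6217 L89155 q4898, e3 q6218 (flp_j L129211) q7758, e3 q6219 (flp_j L129223) q7759, e3 q6220 L89181 q6220, e3 q6221 L89192 q6221, e3 q6222 L89199 q4902, e3 q6223 (flp_j L89202) q4903, e3 q6224 (flp_j L129284) q7765, e3 q6225 L89227 q4905, e3 q6226 (flp_j L129306) q7768, e3 q6227 (flp_j L129317) q7769, e3 q6228 L89248 q6228, e3 q6229 L89255 q6229, e3 q6230 L89265 q6230, e3 q6231 L89270 q4909, e3 q6232 L89280 q4910, e3 q6233 (flp_j L129391) q7779, e3 q6234 (flp_j L129401) q7780, e3 q6235 L89300 q6235, e3 q6236 L89310 q6236, e3 q6237 L129446 q7785, e3 q6238 L89332 q6238, e3 q6239 L89349 q6239, e3 q6240 L89356 q4916, e3 q6241 (flp_j L129489) q7788, e3 q6242 (flp_j L129499) q7789, e3 q6243 L89380 q4918, e3 q6244 L89391 q4919, e3 q6245 (flp_j L129528) q7793, e3 q6246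 (flp_j L129539) q7794, e3 q6247 L89411 q6247, e3 q6248 L89421 q6248, e3 q6249 L89427 q6249, e3 q6250 L89438 q6250, e3 q6251 L89444 q4925, e3 q6252 L89454 q4926, e3 q6253 (flp_j L647376) q4958, e3 q6254 L647264 q7656, e3 q6255 (flp_j L129630) q7802, e3 q6256 L89484 q4929, e3 q6257 L89495 q4930, e3 q6258 (flp_j L129676) q7807, e3 q6259 L647333 q7806, e3 q6260 L647342 q7804, e3 q6261 L89524 q6261, e3 q6262 L89534 q6262, e3 q6263 L89541 q6263, e3 q6264 L89553 q6264, e3 q6265 L89563 q4935, e3 q6266 (flp_j L129765) q7812, e3 q6267 (flp_j L647556) q4962, e3 q6268 L89590 q4937, e3 q6269 L89601 q4938, e3 q6270 (flp_j L129809) q7816, e3 q6271 (flp_j L129820) q7817, trivial⟩ (by decide +kernel)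

theorem ce_j_98 : ∀ r, r < 64 → sm gj (Qf (6272 + r)) = Qf (tab Gen.j (6272 + r)) :=
  edges_tab (sm gj) Qf (tab Gen.j) 6272 [(6272, 6272), (6273, 6273), (6274, 6274), (6275, 4944), (6276, 7824), (6277, 7655), (6278, 4957), (6279, 4948), (6280, 4949), (6281, 7827), (6282, 7825), (6283, 7803), (6284, 6284), (6285, 6285), (6286, 6286), (6287, 7815), (6288, 6288), (6289, 6289), (6290, 6290), (6291, 6291), (6292, 6292), (6293, 6293), (6294, 5254), (6295, 6295), (6296, 6296), (6297, 6297), (6298, 6548), (6299, 4978), (6300, 4992), (6301, 4993), (6302, 4999), (6303, 4998), (6304, 5000), (6305, 5002), (6306, 5003), (6307, 4990), (6308, 7120), (6309, 5018), (6310, 5001), (6311, 4994), (6312, 7116), (6313, 5011), (6314, 5204), (6315, 5210), (6316, 5220), (6317, 5207), (6318, 5027), (6319, 5028), (6320, 5036), (6321, 5033), (6322, 5034), (6323, 5035), (6324, 5038), (6325, 5040), (6326, 5124), (6327, 5042), (6328, 5043), (6329, 5048), (6330, 7836), (6331, 7845), (6332, 5037), (6333, 5029), (6334, 7838), (6335, 7837)]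
    ⟨e3 q6272 L89624 q6272, e3 q6273 L89634 q6273, e3 q6274 L89641 q6274, e3 q6275 L89659 q4944, e3 q6276 (flp_j L129892) q7824, e3 q6277 L646357 q7655, e3 q6278 (flp_j L647538) q4957, e3 q6279 L89696 q4948, e3 q6280 L89706 q4949, e3 q6281 (flp_j L646293) q7827, e3 q6282 (flp_j L646225) q7825, e3 q6283 L629092 q7803, e3 q6284 L89735 q6284, e3 q6285 L89744 q6285, e3 q6286 L89750 q6286, e3 q6287 (flp_j L646090) q7815, e3 q6288 L89884 q6288, e3 q6289 L89890 q6289, e3 q6290 L90116 q6290, e3 q6291 L90128 q6291, e3 q6292 L90249 q6292, e3 q6293 L90277 q6293, e3 q6294 L627116 q5254, e3 q6295 L90347 q6295, e3 q6296 L90355 q6296, e3 q6297 L90424 q6297, e3 q6298 L638617 q6548, e3 q6299 (flp_j L90712) q4978, e3 q6300 L90749 q4992, e3 q6301 L90760 q4993, e3 q6302 (flp_j L626867) q4999, e3 q6303 L90836 q4998, e3 q6304 L90855 q5000, e3 q6305 L90872 q5002, e3 q6306 L90880 q5003, e3 q6307 (flp_j L91172) q4990, e3 q6308 L625374 q7120, e3 q6309 L625361 q5018, e3 q6310 L625350 q5001, e3 q6311 (flp_j L91355) q4994, e3 q6312 L619798 q7116, e3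 q6313 L622708 q5011, e3 q6314 L626839 q5204, e3 q6315 L621758 q5210, e3 q6316 (flp_j L625151) q5220, e3 q6317 L625309 q5207, e3 q6318 L91830 q5027, e3 q6319 L91848 q5028, e3 q6320 L622690 q5036, e3 q6321 L91948 q5033, e3 q6322 L91960 q5034, e3 q6323 L91970 q5035, e3 q6324 L91998 q5038, e3 q6325 L92028 q5040, e3 q6326 (flp_j L622677) q5124, e3 q6327 L92046 q5042, e3 q6328 L92053 q5043, e3 q6329 L92105 q5048, e3 q6330 (flp_j L133094) q7836, e3 q6331 L134091 q7845, e3 q6332 L625051 q5037, e3 q6333 (flp_j L92550) q5029, e3 q6334 (flp_j L133264) q7838, e3 q6335 L622717 q7837, trivial⟩ (by decide +kernel)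

theorem ce_j_99 : ∀ r, r < 64 → sm gj (Qf (6336 + r)) = Qf (tab Gen.j (6336 + r)) :=
  edges_tab (sm gj) Qf (tab Gen.j) 6336 [(6336, 7844), (6337, 7839), (6338, 5096), (6339, 5120), (6340, 7840), (6341, 5126), (6342, 5099), (6343, 5041), (6344, 5123), (6345, 7841), (6346, 7842), (6347, 5088), (6348, 5109), (6349, 6349), (6350, 7859), (6351, 5052), (6352, 5061), (6353, 5053), (6354, 6354), (6355, 7862), (6356, 6356), (6357, 7858), (6358, 6358), (6359, 5059), (6360, 7867), (6361, 5152), (6362, 6362), (6363, 5064), (6364, 7870), (6365, 6365), (6366, 5158), (6367, 5066), (6368, 5156), (6369, 6369), (6370, 5069), (6371, 7877), (6372, 6372), (6373, 6373), (6374, 5138), (6375, 6375), (6376, 6376), (6377, 5078), (6378, 5102), (6379, 5103), (6380, 5110), (6381, 5084), (6382, 5106), (6383, 7846), (6384, 5108), (6385, 5118), (6386, 7849), (6387, 5122), (6388, 5127), (6389, 5128), (6390, 7882), (6391, 7891), (6392, 5112), (6393, 5104), (6394, 7884), (6395, 7847), (6396, 7883), (6397, 5107), (6398, 7890), (6399, 7885)]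
    ⟨e3 q6336 (flp_j L622326) q7844, e3 q6337 (flp_j L133302) q7839, e3 q6338 L622757 q5096, e3 q6339 L622767 q5120, e3 q6340 (flp_j L133378) q7840, e3 q6341 (flp_j L622332) q5126, e3 q6342 L622588 q5099, e3 q6343 (flp_j L92772) q5041, e3 q6344 (flp_j L606885) q5123, e3 q6345 (flp_j L133423) q7841, e3 q6346 (flp_j L133442) q7842, e3 q6347 (flp_j L621868) q5088, e3 q6348 L623077 q5109, e3 q6349 L93421 q6349, e3 q6350 L135494 q7859, e3 q6351 (flp_j L93445) q5052, e3 q6352 (flp_j L624797) q5061, e3 q6353 (flp_j L93501) q5053, e3 q6354 L93637 q6354, e3 q6355 L135791 q7862, e3 q6356 L93680 q6356, e3 q6357 (flp_j L624809) q7858, e3 q6358 L93699 q6358, e3 q6359 (flp_j L93700) q5059, e3 q6360 (flp_j L135918) q7867, e3 q6361 L624748 q5152, e3 q6362 L93782 q6362, e3 q6363 L93802 q5064, e3 q6364 L136059 q7870, e3 q6365 L93827 q6365, e3 q6366 L624843 q5158, e3 q6367 (flp_j L93835) q5066, e3 q6368 L624648 q5156, e3 q6369 L93859 q6369, e3 q6370 L93877 q5069, e3 q6371 (flp_j L136160) q7877, e3 q6372 L93899 q6372, e3 q6373 L93916 q6373,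 e3 q6374 (flp_j L624737) q5138, e3 q6375 L93975 q6375, e3 q6376 L93986 q6376, e3 q6377 L93993 q5078, e3 q6378 L94088 q5102, e3 q6379 L94108 q5103, e3 q6380 L623402 q5110, e3 q6381 (flp_j L94149) q5084, e3 q6382 L94166 q5106, e3 q6383 (flp_j L622624) q7846, e3 q6384 L94184 q5108, e3 q6385 L94342 q5118, e3 q6386 L606639 q7849, e3 q6387 L94438 q5122, e3 q6388 L94474 q5127, e3 q6389 L94491 q5128, e3 q6390 (flp_j L136409) q7882, e3 q6391 L137292 q7891, e3 q6392 (flp_j L624931) q5112, e3 q6393 (flp_j L94723) q5104, e3 q6394 (flp_j L136514) q7884, e3 q6395 L622636 q7847, e3 q6396 (flp_j L622597) q7883, e3 q6397 (flp_j L94778) q5107, e3 q6398 (flp_j L622401) q7890, e3 q6399 (flp_j L136777) q7885, trivial⟩ (by decide +kernel)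

theorem ce_j_100 : ∀ r, r < 64 → sm gj (Qf (6400 + r)) = Qf (tab Gen.j (6400 + r)) :=
  edges_tab (sm gj) Qf (tab Gen.j) 6400 [(6400, 7850), (6401, 5119), (6402, 7853), (6403, 7886), (6404, 7181), (6405, 7851), (6406, 7887), (6407, 7888), (6408, 6408), (6409, 7907), (6410, 5130), (6411, 5140), (6412, 5131), (6413, 7909), (6414, 6414), (6415, 7861), (6416, 5134), (6417, 7906), (6418, 6418), (6419, 5137), (6420, 5167), (6421, 6421), (6422, 7917), (6423, 6423), (6424, 7865), (6425, 5150), (6426, 7874), (6427, 5154), (6428, 7922), (6429, 6429), (6430, 6430), (6431, 7869), (6432, 6432), (6433, 5161), (6434, 7929), (6435, 6435), (6436, 7932), (6437, 7934), (6438, 6438), (6439, 7915), (6440, 5165), (6441, 5182), (6442, 5169), (6443, 5180), (6444, 6444), (6445, 7939), (6446, 5172), (6447, 7941), (6448, 6448), (6449, 6449), (6450, 5174), (6451, 7937), (6452, 5176), (6453, 7947), (6454, 6454), (6455, 7031), (6456, 6456), (6457, 5277), (6458, 5187), (6459, 7029), (6460, 6460), (6461, 7953), (6462, 6462), (6463, 7956)]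
    ⟨e3 q6400 (flp_j L622409) q7850, e3 q6401 (flp_j L95016) q5119, e3 q6402 (flp_j L622278) q7853, e3 q6403 (flp_j L136944) q7886, e3 q6404 (flp_j L622497) q7181, e3 q6405 (flp_j L622244) q7851, e3 q6406 (flp_j L137009) q7887, e3 q6407 (flp_j L137026) q7888, e3 q6408 L95447 q6408, e3 q6409 L138446 q7907, e3 q6410 (flp_j L95472) q5130, e3 q6411 (flp_j L624936) q5140, e3 q6412 (flp_j L95534) q5131, e3 q6413 L138648 q7909, e3 q6414 L95614 q6414, e3 q6415 (flp_j L624676) q7861, e3 q6416 (flp_j L95622) q5134, e3 q6417 (flp_j L624717) q7906, e3 q6418 L95642 q6418, e3 q6419 L95658 q5137, e3 q6420 (flp_j L624709) q5167, e3 q6421 L95752 q6421, e3 q6422 L139149 q7917, e3 q6423 L95958 q6423, e3 q6424 L624772 q7865, e3 q6425 (flp_j L95966) q5150, e3 q6426 L615344 q7874, e3 q6427 (flp_j L96131) q5154, e3 q6428 (flp_j L139402) q7922, e3 q6429 L96147 q6429, e3 q6430 L96156 q6430, e3 q6431 (flp_j L615214) q7869, e3 q6432 L96195 q6432, e3 q6433 L96208 q5161, e3 q6434 (flp_j L139511) q7929, e3 q6435 L96237 q6435, e3 q6436 L139562 q7932, e3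 q6437 L139745 q7934, e3 q6438 L96421 q6438, e3 q6439 L616400 q7915, e3 q6440 (flp_j L96432) q5165, e3 q6441 L624527 q5182, e3 q6442 L96527 q5169, e3 q6443 L624541 q5180, e3 q6444 L96546 q6444, e3 q6445 L139936 q7939, e3 q6446 (flp_j L96556) q5172, e3 q6447 (flp_j L139955) q7941, e3 q6448 L96573 q6448, e3 q6449 L96580 q6449, e3 q6450 (flp_j L96583) q5174, e3 q6451 (flp_j L616571) q7937, e3 q6452 L96611 q5176, e3 q6453 (flp_j L140023) q7947, e3 q6454 L96623 q6454, e3 q6455 (flp_j L616389) q7031, e3 q6456 L96711 q6456, e3 q6457 (flp_j L612959) q5277, e3 q6458 L96758 q5187, e3 q6459 L613084 q7029, e3 q6460 L96782 q6460, e3 q6461 L140232 q7953, e3 q6462 L96798 q6462, e3 q6463 L140256 q7956, trivial⟩ (by decide +kernel)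

theorem ce_j_101 : ∀ r, r < 64 → sm gj (Qf (6464 + r)) = Qf (tab Gen.j (6464 + r)) :=
  edges_tab (sm gj) Qf (tab Gen.j) 6464 [(6464, 5190), (6465, 7958), (6466, 5192), (6467, 7960), (6468, 6468), (6469, 5194), (6470, 7962), (6471, 5197), (6472, 7964), (6473, 5199), (6474, 7966), (6475, 5213), (6476, 6565), (6477, 5203), (6478, 6564), (6479, 5218), (6480, 5221), (6481, 7835), (6482, 5224), (6483, 5225), (6484, 6566), (6485, 6645), (6486, 5214), (6487, 5217), (6488, 6661), (6489, 7967), (6490, 7968), (6491, 7145), (6492, 7123), (6493, 7969), (6494, 5223), (6495, 7982), (6496, 7971), (6497, 7985), (6498, 5229), (6499, 7986), (6500, 7988), (6501, 5231), (6502, 6502), (6503, 5245), (6504, 6504), (6505, 6505), (6506, 6506), (6507, 5246), (6508, 5247), (6509, 6509), (6510, 5248), (6511, 5249), (6512, 6512), (6513, 5250), (6514, 7708), (6515, 7989), (6516, 7992), (6517, 7993), (6518, 7994), (6519, 7996), (6520, 7975), (6521, 5251), (6522, 6522), (6523, 6523), (6524, 6524), (6525, 6525), (6526, 6526), (6527, 6527)]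
    ⟨e3 q6464 (flp_j L96810) q5190, e3 q6465 L140273 q7958, e3 q6466 (flp_j L96828) q5192, e3 q6467 (flp_j L140294) q7960, e3 q6468 L96848 q6468, e3 q6469 (flp_j L96849) q5194, e3 q6470 L140314 q7962, e3 q6471 (flp_j L96874) q5197, e3 q6472 (flp_j L140338) q7964, e3 q6473 L96892 q5199, e3 q6474 (flp_j L140353) q7966, e3 q6475 L96969 q5213, e3 q6476 L643154 q6565, e3 q6477 (flp_j L96994) q5203, e3 q6478 (flp_j L642276) q6564, e3 q6479 L97141 q5218, e3 q6480 L97176 q5221, e3 q6481 L621792 q7835, e3 q6482 L97218 q5224, e3 q6483 L97234 q5225, e3 q6484 (flp_j L643631) q6566, e3 q6485 L642206 q6645, e3 q6486 (flp_j L97531) q5214, e3 q6487 (flp_j L97694) q5217, e3 q6488 L642301 q6661, e3 q6489 (flp_j L140715) q7967, e3 q6490 (flp_j L140725) q7968, e3 q6491 L621408 q7145, e3 q6492 L621247 q7123, e3 q6493 (flp_j L140785) q7969, e3 q6494 L97773 q5223, e3 q6495 (flp_j L141601) q7982, e3 q6496 (flp_j L140833) q7971, e3 q6497 L141649 q7985, e3 q6498 L98134 q5229, e3 q6499 (flp_j L142053) q7986, e3 q6500 L142090 q7988, e3 q6501 (flp_j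 L98184) q5231, e3 q6502 L98312 q6502, e3 q6503 L98319 q5245, e3 q6504 L98327 q6504, e3 q6505 L98484 q6505, e3 q6506 L98493 q6506, e3 q6507 L98497 q5246, e3 q6508 L98506 q5247, e3 q6509 L98523 q6509, e3 q6510 L98537 q5248, e3 q6511 L98544 q5249, e3 q6512 L98561 q6512, e3 q6513 L98577 q5250, e3 q6514 (flp_j L642541) q7708, e3 q6515 (flp_j L142348) q7989, e3 q6516 (flp_j L142585) q7992, e3 q6517 (flp_j L142593) q7993, e3 q6518 (flp_j L142603) q7994, e3 q6519 (flp_j L142671) q7996, e3 q6520 (flp_j L642330) q7975, e3 q6521 (flp_j L99059) q5251, e3 q6522 L99262 q6522, e3 q6523 L99273 q6523, e3 q6524 L99291 q6524, e3 q6525 L99323 q6525, e3 q6526 L99438 q6526, e3 q6527 L99598 q6527, trivial⟩ (by decide +kernel)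

theorem ce_j_102 : ∀ r, r < 64 → sm gj (Qf (6528 + r)) = Qf (tab Gen.j (6528 + r)) :=
  edges_tab (sm gj) Qf (tab Gen.j) 6528 [(6528, 5270), (6529, 5268), (6530, 5266), (6531, 8005), (6532, 6532), (6533, 5284), (6534, 5283), (6535, 5272), (6536, 7034), (6537, 6537), (6538, 6538), (6539, 6539), (6540, 6540), (6541, 6541), (6542, 6542), (6543, 5293), (6544, 5294), (6545, 5295), (6546, 5296), (6547, 5726), (6548, 6298), (6549, 5707), (6550, 5727), (6551, 5297), (6552, 6552), (6553, 6553), (6554, 6554), (6555, 6555), (6556, 5725), (6557, 5306), (6558, 5307), (6559, 5308), (6560, 5309), (6561, 5310), (6562, 5728), (6563, 5305), (6564, 6478), (6565, 6476), (6566, 6484), (6567, 5756), (6568, 5730), (6569, 5712), (6570, 5311), (6571, 5320), (6572, 5321), (6573, 5322), (6574, 5323), (6575, 5324), (6576, 6162), (6577, 5326), (6578, 5783), (6579, 5328), (6580, 5329), (6581, 5318), (6582, 6147), (6583, 6139), (6584, 8008), (6585, 6175), (6586, 6133), (6587, 8009), (6588, 6130), (6589, 6163), (6590, 8010), (6591, 8011)]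
    ⟨e3 q6528 L627099 q5270, e3 q6529 L99938 q5268, e3 q6530 (flp_j L100263) q5266, e3 q6531 (flp_j L144666) q8005, e3 q6532 L108502 q6532, e3 q6533 L616727 q5284, e3 q6534 (flp_j L616742) q5283, e3 q6535 (flp_j L108532) q5272, e3 q6536 (flp_j L616715) q7034, e3 q6537 L113550 q6537, e3 q6538 L114583 q6538, e3 q6539 L114592 q6539, e3 q6540 L114601 q6540, e3 q6541 L114612 q6541, e3 q6542 L114621 q6542, e3 q6543 L114629 q5293, e3 q6544 L114639 q5294, e3 q6545 L114646 q5295, e3 q6546 L114657 q5296, e3 q6547 L632496 q5726, e3 q6548 (flp_j L638617) q6298, e3 q6549 (flp_j L643144) q5707, e3 q6550 L643642 q5727, e3 q6551 (flp_j L114720) q5297, e3 q6552 L114737 q6552, e3 q6553 L114749 q6553, e3 q6554 L114758 q6554, e3 q6555 L114766 q6555, e3 q6556 (flp_j L632448) q5725, e3 q6557 L114787 q5306, e3 q6558 L114796 q5307, e3 q6559 L114805 q5308, e3 q6560 L114817 q5309, e3 q6561 L114824 q5310, e3 q6562 L643954 q5728, e3 q6563 (flp_j L114838) q5305, e3 q6564 L642276 q6478, e3 q6565 (flp_j L643154) q6476, e3 q6566 L643631 q6484, e3 q6567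 (flp_j L643133) q5756, e3 q6568 L643620 q5730, e3 q6569 (flp_j L633032) q5712, e3 q6570 (flp_j L114929) q5311, e3 q6571 L114946 q5320, e3 q6572 L114956 q5321, e3 q6573 L114965 q5322, e3 q6574 L114976 q5323, e3 q6575 L114985 q5324, e3 q6576 L643982 q6162, e3 q6577 L115002 q5326, e3 q6578 L643965 q5783, e3 q6579 L115020 q5328, e3 q6580 L115032 q5329, e3 q6581 (flp_j L115035) q5318, e3 q6582 L627750 q6147, e3 q6583 L630788 q6139, e3 q6584 (flp_j L166502) q8008, e3 q6585 L642287 q6175, e3 q6586 L635875 q6133, e3 q6587 (flp_j L166532) q8009, e3 q6588 L645265 q6130, e3 q6589 (flp_j L640660) q6163, e3 q6590 (flp_j L166556) q8010, e3 q6591 (flp_j L166568) q8011, trivial⟩ (by decide +kernel)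

theorem ce_j_103 : ∀ r, r < 64 → sm gj (Qf (6592 + r)) = Qf (tab Gen.j (6592 + r)) :=
  edges_tab (sm gj) Qf (tab Gen.j) 6592 [(6592, 5325), (6593, 5784), (6594, 8012), (6595, 5327), (6596, 8027), (6597, 8014), (6598, 6598), (6599, 6599), (6600, 6600), (6601, 6601), (6602, 6177), (6603, 6603), (6604, 6604), (6605, 5334), (6606, 6606), (6607, 6168), (6608, 6608), (6609, 6609), (6610, 6610), (6611, 6208), (6612, 6612), (6613, 5338), (6614, 8045), (6615, 6615), (6616, 5825), (6617, 5342), (6618, 8048), (6619, 6619), (6620, 6620), (6621, 5345), (6622, 8053), (6623, 6623), (6624, 6624), (6625, 6625), (6626, 8059), (6627, 6627), (6628, 6628), (6629, 6629), (6630, 6630), (6631, 6631), (6632, 5729), (6633, 5354), (6634, 5366), (6635, 5367), (6636, 5368), (6637, 5369), (6638, 8072), (6639, 5358), (6640, 5372), (6641, 5373), (6642, 5374), (6643, 5375), (6644, 5376), (6645, 6485), (6646, 5378), (6647, 5738), (6648, 5380), (6649, 5381), (6650, 5364), (6651, 8064), (6652, 8065), (6653, 8066), (6654, 8084), (6655, 8068)]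
    ⟨e3 q6592 (flp_j L115132) q5325, e3 q6593 (flp_j L643063) q5784, e3 q6594 (flp_j L166596) q8012, e3 q6595 (flp_j L115156) q5327, e3 q6596 (flp_j L166827) q8027, e3 q6597 (flp_j L166625) q8014, e3 q6598 L115188 q6598, e3 q6599 L115199 q6599, e3 q6600 L115208 q6600, e3 q6601 L115214 q6601, e3 q6602 (flp_j L635584) q6177, e3 q6603 L115233 q6603, e3 q6604 L115244 q6604, e3 q6605 (flp_j L115246) q5334, e3 q6606 L115262 q6606, e3 q6607 (flp_j L648051) q6168, e3 q6608 L115279 q6608, e3 q6609 L115283 q6609, e3 q6610 L115293 q6610, e3 q6611 L640881 q6208, e3 q6612 L115310 q6612, e3 q6613 (flp_j L115311) q5338, e3 q6614 (flp_j L167070) q8045, e3 q6615 L115335 q6615, e3 q6616 L643030 q5825, e3 q6617 (flp_j L115344) q5342, e3 q6618 (flp_j L167105) q8048, e3 q6619 L115365 q6619, e3 q6620 L115376 q6620, e3 q6621 L115383 q5345, e3 q6622 (flp_j L167149) q8053, e3 q6623 L115416 q6623, e3 q6624 L115425 q6624, e3 q6625 L115436 q6625, e3 q6626 L167215 q8059, e3 q6627 L115460 q6627, e3 q6628 L115467 q6628, e3 q6629 L115475 q6629, e3 q6630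 L115483 q6630, e3 q6631 L115492 q6631, e3 q6632 L643774 q5729, e3 q6633 (flp_j L115501) q5354, e3 q6634 L115525 q5366, e3 q6635 L115536 q5367, e3 q6636 L115549 q5368, e3 q6637 L115559 q5369, e3 q6638 L167422 q8072, e3 q6639 (flp_j L115572) q5358, e3 q6640 L115589 q5372, e3 q6641 L115599 q5373, e3 q6642 L115607 q5374, e3 q6643 L115617 q5375, e3 q6644 L115625 q5376, e3 q6645 (flp_j L642206) q6485, e3 q6646 L115638 q5378, e3 q6647 (flp_j L644493) q5738, e3 q6648 L115656 q5380, e3 q6649 L115664 q5381, e3 q6650 (flp_j L115666) q5364, e3 q6651 (flp_j L167347) q8064, e3 q6652 (flp_j L167359) q8065, e3 q6653 (flp_j L167369) q8066, e3 q6654 L167659 q8084, e3 q6655 (flp_j L167386) q8068, trivial⟩ (by decide +kernel)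

theorem ce_j_104 : ∀ r, r < 64 → sm gj (Qf (6656 + r)) = Qf (tab Gen.j (6656 + r)) :=
  edges_tab (sm gj) Qf (tab Gen.j) 6656 [(6656, 8087), (6657, 8070), (6658, 8071), (6659, 5370), (6660, 8073), (6661, 6488), (6662, 8074), (6663, 8075), (6664, 8096), (6665, 8077), (6666, 5377), (6667, 8099), (6668, 8079), (6669, 5379), (6670, 5737), (6671, 5721), (6672, 5400), (6673, 5401), (6674, 5402), (6675, 8109), (6676, 5404), (6677, 8112), (6678, 5406), (6679, 5407), (6680, 5387), (6681, 5409), (6682, 5410), (6683, 5411), (6684, 6176), (6685, 5413), (6686, 5414), (6687, 5415), (6688, 8129), (6689, 5417), (6690, 5418), (6691, 5394), (6692, 8133), (6693, 5421), (6694, 5396), (6695, 8137), (6696, 5424), (6697, 8103), (6698, 8104), (6699, 8105), (6700, 8146), (6701, 8107), (6702, 8108), (6703, 5403), (6704, 8150), (6705, 8111), (6706, 5405), (6707, 8154), (6708, 8114), (6709, 8115), (6710, 8116), (6711, 8117), (6712, 8118), (6713, 8165), (6714, 8120), (6715, 8121), (6716, 5412), (6717, 8122), (6718, 8171), (6719, 8124)]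
    ⟨e3 q6656 L167688 q8087, e3 q6657 (flp_j L167408) q8070, e3 q6658 (flp_j L167418) q8071, e3 q6659 (flp_j L115768) q5370, e3 q6660 (flp_j L167450) q8073, e3 q6661 (flp_j L642301) q6488, e3 q6662 (flp_j L167475) q8074, e3 q6663 (flp_j L167490) q8075, e3 q6664 L167829 q8096, e3 q6665 (flp_j L167508) q8077, e3 q6666 (flp_j L115853) q5377, e3 q6667 L167858 q8099, e3 q6668 (flp_j L167543) q8079, e3 q6669 (flp_j L115877) q5379, e3 q6670 L644637 q5737, e3 q6671 (flp_j L644810) q5721, e3 q6672 L115925 q5400, e3 q6673 L115938 q5401, e3 q6674 L115949 q5402, e3 q6675 L168009 q8109, e3 q6676 L115966 q5404, e3 q6677 L168040 q8112, e3 q6678 L115989 q5406, e3 q6679 L116001 q5407, e3 q6680 (flp_j L116005) q5387, e3 q6681 L116023 q5409, e3 q6682 L116033 q5410, e3 q6683 L116043 q5411, e3 q6684 L642413 q6176, e3 q6685 L116059 q5413, e3 q6686 L116070 q5414, e3 q6687 L116076 q5415, e3 q6688 L168212 q8129, e3 q6689 L116093 q5417, e3 q6690 L116102 q5418, e3 q6691 (flp_j L116104) q5394, e3 q6692 L168244 q8133, e3 q6693 L116128 q5421, e3 q6694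 (flp_j L116130) q5396, e3 q6695 (flp_j L168288) q8137, e3 q6696 L116155 q5424, e3 q6697 (flp_j L167954) q8103, e3 q6698 (flp_j L167967) q8104, e3 q6699 (flp_j L167973) q8105, e3 q6700 L168445 q8146, e3 q6701 (flp_j L167994) q8107, e3 q6702 (flp_j L168005) q8108, e3 q6703 (flp_j L116253) q5403, e3 q6704 L168484 q8150, e3 q6705 (flp_j L168038) q8111, e3 q6706 (flp_j L116281) q5405, e3 q6707 (flp_j L168526) q8154, e3 q6708 (flp_j L168069) q8114, e3 q6709 (flp_j L168079) q8115, e3 q6710 (flp_j L168091) q8116, e3 q6711 (flp_j L168102) q8117, e3 q6712 (flp_j L168109) q8118, e3 q6713 L168618 q8165, e3 q6714 (flp_j L168128) q8120, e3 q6715 (flp_j L168138) q8121, e3 q6716 (flp_j L116371) q5412, e3 q6717 (flp_j L168155) q8122, e3 q6718 L168668 q8171, e3 q6719 (flp_j L168175) q8124, trivial⟩ (by decide +kernel)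

theorem ce_j_105 : ∀ r, r < 64 → sm gj (Qf (6720 + r)) = Qf (tab Gen.j (6720 + r)) :=
  edges_tab (sm gj) Qf (tab Gen.j) 6720 [(6720, 8125), (6721, 8126), (6722, 8178), (6723, 8128), (6724, 5416), (6725, 8182), (6726, 8131), (6727, 8184), (6728, 5420), (6729, 8186), (6730, 8135), (6731, 8136), (6732, 5423), (6733, 8191), (6734, 6734), (6735, 8195), (6736, 6736), (6737, 6737), (6738, 6738), (6739, 8201), (6740, 6740), (6741, 5428), (6742, 8205), (6743, 6743), (6744, 8207), (6745, 5432), (6746, 8209), (6747, 6747), (6748, 6748), (6749, 5435), (6750, 8214), (6751, 6751), (6752, 6752), (6753, 6753), (6754, 8223), (6755, 6755), (6756, 6756), (6757, 6757), (6758, 8230), (6759, 6759), (6760, 5441), (6761, 8234), (6762, 6762), (6763, 6763), (6764, 8239), (6765, 6765), (6766, 5446), (6767, 8243), (6768, 6768), (6769, 6769), (6770, 6770), (6771, 6771), (6772, 8251), (6773, 5450), (6774, 8253), (6775, 6775), (6776, 6776), (6777, 5453), (6778, 8258), (6779, 5455), (6780, 8260), (6781, 5457), (6782, 8263), (6783, 8264)]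
    ⟨e3 q6720 (flp_j L168182) q8125, e3 q6721 (flp_j L168194) q8126, e3 q6722 L168727 q8178, e3 q6723 (flp_j L168210) q8128, e3 q6724 (flp_j L116435) q5416, e3 q6725 (flp_j L168761) q8182, e3 q6726 (flp_j L168234) q8131, e3 q6727 L168771 q8184, e3 q6728 (flp_j L116466) q5420, e3 q6729 (flp_j L168798) q8186, e3 q6730 (flp_j L168267) q8135, e3 q6731 (flp_j L168278) q8136, e3 q6732 L116503 q5423, e3 q6733 (flp_j L168835) q8191, e3 q6734 L116601 q6734, e3 q6735 L168986 q8195, e3 q6736 L116623 q6736, e3 q6737 L116628 q6737, e3 q6738 L116639 q6738, e3 q6739 L169050 q8201, e3 q6740 L116659 q6740, e3 q6741 (flp_j L116660) q5428, e3 q6742 (flp_j L169093) q8205, e3 q6743 L116683 q6743, e3 q6744 L169105 q8207, e3 q6745 (flp_j L116696) q5432, e3 q6746 (flp_j L169132) q8209, e3 q6747 L116721 q6747, e3 q6748 L116733 q6748, e3 q6749 L116742 q5435, e3 q6750 (flp_j L169178) q8214, e3 q6751 L116763 q6751, e3 q6752 L116773 q6752, e3 q6753 L116780 q6753, e3 q6754 L169256 q8223, e3 q6755 L116798 q6755, e3 q6756 L116803 q6756, e3 q6757 L116813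 q6757, e3 q6758 L169312 q8230, e3 q6759 L116831 q6759, e3 q6760 (flp_j L116832) q5441, e3 q6761 (flp_j L169355) q8234, e3 q6762 L116854 q6762, e3 q6763 L116861 q6763, e3 q6764 L169389 q8239, e3 q6765 L116882 q6765, e3 q6766 (flp_j L116883) q5446, e3 q6767 (flp_j L169433) q8243, e3 q6768 L116905 q6768, e3 q6769 L116915 q6769, e3 q6770 L116920 q6770, e3 q6771 L116930 q6771, e3 q6772 L169488 q8251, e3 q6773 (flp_j L116938) q5450, e3 q6774 (flp_j L169510) q8253, e3 q6775 L116960 q6775, e3 q6776 L116970 q6776, e3 q6777 L116976 q5453, e3 q6778 (flp_j L169547) q8258, e3 q6779 (flp_j L116984) q5455, e3 q6780 (flp_j L169565) q8260, e3 q6781 L117009 q5457, e3 q6782 (flp_j L169588) q8263, e3 q6783 (flp_j L169599) q8264, trivial⟩ (by decide +kernel)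

theorem ce_j_106 : ∀ r, r < 64 → sm gj (Qf (6784 + r)) = Qf (tab Gen.j (6784 + r)) :=
  edges_tab (sm gj) Qf (tab Gen.j) 6784 [(6784, 6784), (6785, 6785), (6786, 5461), (6787, 5496), (6788, 5497), (6789, 5498), (6790, 5499), (6791, 5500), (6792, 8280), (6793, 5502), (6794, 8283), (6795, 5504), (6796, 5505), (6797, 5467), (6798, 5507), (6799, 5508), (6800, 5509), (6801, 8293), (6802, 5511), (6803, 5512), (6804, 5513), (6805, 8301), (6806, 5515), (6807, 5516), (6808, 5474), (6809, 8305), (6810, 5519), (6811, 5476), (6812, 8309), (6813, 5522), (6814, 5523), (6815, 5524), (6816, 5525), (6817, 5526), (6818, 8320), (6819, 5528), (6820, 5529), (6821, 5483), (6822, 5531), (6823, 8326), (6824, 5533), (6825, 5534), (6826, 5535), (6827, 8333), (6828, 5537), (6829, 5487), (6830, 8337), (6831, 5540), (6832, 8339), (6833, 5491), (6834, 8341), (6835, 5544), (6836, 5545), (6837, 5494), (6838, 8346), (6839, 8270), (6840, 8271), (6841, 8272), (6842, 8354), (6843, 8274), (6844, 8275), (6845, 8276), (6846, 8362), (6847, 8278)]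
    ⟨e3 q6784 L117031 q6784, e3 q6785 L117042 q6785, e3 q6786 L117049 q5461, e3 q6787 L117057 q5496, e3 q6788 L117067 q5497, e3 q6789 L117077 q5498, e3 q6790 L117088 q5499, e3 q6791 L117097 q5500, e3 q6792 L169739 q8280, e3 q6793 L117115 q5502, e3 q6794 L169768 q8283, e3 q6795 L117134 q5504, e3 q6796 L117146 q5505, e3 q6797 (flp_j L117149) q5467, e3 q6798 L117168 q5507, e3 q6799 L117180 q5508, e3 q6800 L117192 q5509, e3 q6801 L169874 q8293, e3 q6802 L117209 q5511, e3 q6803 L117220 q5512, e3 q6804 L117226 q5513, e3 q6805 L169948 q8301, e3 q6806 L117248 q5515, e3 q6807 L117257 q5516, e3 q6808 (flp_j L117261) q5474, e3 q6809 L169985 q8305, e3 q6810 L117287 q5519, e3 q6811 (flp_j L117289) q5476, e3 q6812 (flp_j L170027) q8309, e3 q6813 L117310 q5522, e3 q6814 L117320 q5523, e3 q6815 L117330 q5524, e3 q6816 L117341 q5525, e3 q6817 L117348 q5526, e3 q6818 L170122 q8320, e3 q6819 L117368 q5528, e3 q6820 L117380 q5529, e3 q6821 (flp_j L117382) q5483, e3 q6822 L117397 q5531, e3 q6823 L170175 q8326, e3 q6824 L117413 q5533, e3 q6825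 L117418 q5534, e3 q6826 L117429 q5535, e3 q6827 L170231 q8333, e3 q6828 L117446 q5537, e3 q6829 (flp_j L117448) q5487, e3 q6830 (flp_j L170275) q8337, e3 q6831 L117472 q5540, e3 q6832 L170286 q8339, e3 q6833 (flp_j L117481) q5491, e3 q6834 (flp_j L170308) q8341, e3 q6835 L117501 q5544, e3 q6836 L117512 q5545, e3 q6837 L117520 q5494, e3 q6838 (flp_j L170350) q8346, e3 q6839 (flp_j L169647) q8270, e3 q6840 (flp_j L169658) q8271, e3 q6841 (flp_j L169668) q8272, e3 q6842 L170416 q8354, e3 q6843 (flp_j L169689) q8274, e3 q6844 (flp_j L169699) q8275, e3 q6845 (flp_j L169705) q8276, e3 q6846 L170483 q8362, e3 q6847 (flp_j L169724) q8278, trivial⟩ (by decide +kernel)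

theorem ce_j_107 : ∀ r, r < 64 → sm gj (Qf (6848 + r)) = Qf (tab Gen.j (6848 + r)) :=
  edges_tab (sm gj) Qf (tab Gen.j) 6848 [(6848, 8279), (6849, 5501), (6850, 8366), (6851, 8282), (6852, 5503), (6853, 8370), (6854, 8285), (6855, 8286), (6856, 8287), (6857, 8288), (6858, 8289), (6859, 8381), (6860, 8291), (6861, 8292), (6862, 5510), (6863, 8294), (6864, 8387), (6865, 8296), (6866, 8297), (6867, 8298), (6868, 8394), (6869, 8300), (6870, 5514), (6871, 8398), (6872, 8303), (6873, 8400), (6874, 5518), (6875, 8402), (6876, 8307), (6877, 8308), (6878, 5521), (6879, 8407), (6880, 8311), (6881, 8312), (6882, 8313), (6883, 8415), (6884, 8315), (6885, 8316), (6886, 8317), (6887, 8421), (6888, 8319), (6889, 5527), (6890, 8425), (6891, 8322), (6892, 8323), (6893, 8430), (6894, 8325), (6895, 5532), (6896, 8434), (6897, 8328), (6898, 8329), (6899, 8330), (6900, 8331), (6901, 8442), (6902, 5536), (6903, 8444), (6904, 8335), (6905, 8336), (6906, 5539), (6907, 8449), (6908, 5541), (6909, 8451), (6910, 5543), (6911, 8454)]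
    ⟨e3 q6848 (flp_j L169736) q8279, e3 q6849 (flp_j L117618) q5501, e3 q6850 L170520 q8366, e3 q6851 (flp_j L169766) q8282, e3 q6852 (flp_j L117644) q5503, e3 q6853 (flp_j L170557) q8370, e3 q6854 (flp_j L169795) q8285, e3 q6855 (flp_j L169804) q8286, e3 q6856 (flp_j L169816) q8287, e3 q6857 (flp_j L169829) q8288, e3 q6858 (flp_j L169836) q8289, e3 q6859 L170656 q8381, e3 q6860 (flp_j L169860) q8291, e3 q6861 (flp_j L169870) q8292, e3 q6862 (flp_j L117740) q5510, e3 q6863 (flp_j L169890) q8294, e3 q6864 L170709 q8387, e3 q6865 (flp_j L169910) q8296, e3 q6866 (flp_j L169915) q8297, e3 q6867 (flp_j L169925) q8298, e3 q6868 L170763 q8394, e3 q6869 (flp_j L169946) q8300, e3 q6870 (flp_j L117806) q5514, e3 q6871 (flp_j L170803) q8398, e3 q6872 (flp_j L169972) q8303, e3 q6873 L170815 q8400, e3 q6874 (flp_j L117842) q5518, e3 q6875 (flp_j L170839) q8402, e3 q6876 (flp_j L170007) q8307, e3 q6877 (flp_j L170017) q8308, e3 q6878 L117877 q5521, e3 q6879 (flp_j L170874) q8407, e3 q6880 (flp_j L170043) q8311, e3 q6881 (flp_j L170053)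 q8312, e3 q6882 (flp_j L170061) q8313, e3 q6883 L170942 q8415, e3 q6884 (flp_j L170081) q8315, e3 q6885 (flp_j L170088) q8316, e3 q6886 (flp_j L170101) q8317, e3 q6887 L171006 q8421, e3 q6888 (flp_j L170120) q8319, e3 q6889 (flp_j L117963) q5527, e3 q6890 (flp_j L171048) q8425, e3 q6891 (flp_j L170149) q8322, e3 q6892 (flp_j L170155) q8323, e3 q6893 L171081 q8430, e3 q6894 (flp_j L170173) q8325, e3 q6895 (flp_j L118010) q5532, e3 q6896 (flp_j L171113) q8434, e3 q6897 (flp_j L170194) q8328, e3 q6898 (flp_j L170204) q8329, e3 q6899 (flp_j L170210) q8330, e3 q6900 (flp_j L170221) q8331, e3 q6901 L171163 q8442, e3 q6902 (flp_j L118061) q5536, e3 q6903 (flp_j L171188) q8444, e3 q6904 (flp_j L170254) q8335, e3 q6905 (flp_j L170266) q8336, e3 q6906 L118098 q5539, e3 q6907 (flp_j L171228) q8449, e3 q6908 (flp_j L118110) q5541, e3 q6909 (flp_j L171245) q8451, e3 q6910 L118132 q5543, e3 q6911 (flp_j L171267) q8454, trivial⟩ (by decide +kernel)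

theorem ce_j_108 : ∀ r, r < 64 → sm gj (Qf (6912 + r)) = Qf (tab Gen.j (6912 + r)) :=
  edges_tab (sm gj) Qf (tab Gen.j) 6912 [(6912, 8455), (6913, 8344), (6914, 8345), (6915, 5547), (6916, 6916), (6917, 6917), (6918, 6918), (6919, 8467), (6920, 6920), (6921, 6921), (6922, 5551), (6923, 6923), (6924, 8472), (6925, 6925), (6926, 6926), (6927, 6927), (6928, 8479), (6929, 6929), (6930, 5555), (6931, 8482), (6932, 6932), (6933, 8484), (6934, 5559), (6935, 8486), (6936, 6936), (6937, 6937), (6938, 5562), (6939, 8491), (6940, 6940), (6941, 6941), (6942, 6942), (6943, 8498), (6944, 6944), (6945, 6945), (6946, 6946), (6947, 8504), (6948, 6948), (6949, 5568), (6950, 8507), (6951, 6951), (6952, 6952), (6953, 8512), (6954, 6954), (6955, 5573), (6956, 8516), (6957, 6957), (6958, 6958), (6959, 6959), (6960, 6960), (6961, 8524), (6962, 5577), (6963, 8526), (6964, 6964), (6965, 6965), (6966, 5580), (6967, 8531), (6968, 5582), (6969, 8533), (6970, 5584), (6971, 8536), (6972, 8537), (6973, 6973), (6974, 6974), (6975, 5588)]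
    ⟨e3 q6912 (flp_j L171276) q8455, e3 q6913 (flp_j L170330) q8344, e3 q6914 (flp_j L170341) q8345, e3 q6915 L118169 q5547, e3 q6916 L118175 q6916, e3 q6917 L118186 q6917, e3 q6918 L118195 q6918, e3 q6919 L171393 q8467, e3 q6920 L118221 q6920, e3 q6921 L118232 q6921, e3 q6922 (flp_j L118234) q5551, e3 q6923 L118251 q6923, e3 q6924 L171448 q8472, e3 q6925 L118268 q6925, e3 q6926 L118272 q6926, e3 q6927 L118282 q6927, e3 q6928 L171505 q8479, e3 q6929 L118300 q6929, e3 q6930 (flp_j L118301) q5555, e3 q6931 (flp_j L171547) q8482, e3 q6932 L118325 q6932, e3 q6933 L171560 q8484, e3 q6934 (flp_j L118335) q5559, e3 q6935 (flp_j L171583) q8486, e3 q6936 L118357 q6936, e3 q6937 L118369 q6937, e3 q6938 L118376 q5562, e3 q6939 (flp_j L171629) q8491, e3 q6940 L118395 q6940, e3 q6941 L118405 q6941, e3 q6942 L118412 q6942, e3 q6943 L171707 q8498, e3 q6944 L118434 q6944, e3 q6945 L118439 q6945, e3 q6946 L118449 q6946, e3 q6947 L171770 q8504, e3 q6948 L118472 q6948, e3 q6949 (flp_j L118473) q5568, e3 q6950 (flp_j L171819) q8507, e3 q6951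 L118497 q6951, e3 q6952 L118504 q6952, e3 q6953 L171855 q8512, e3 q6954 L118526 q6954, e3 q6955 (flp_j L118527) q5573, e3 q6956 (flp_j L171893) q8516, e3 q6957 L118545 q6957, e3 q6958 L118553 q6958, e3 q6959 L118558 q6959, e3 q6960 L118566 q6960, e3 q6961 L171938 q8524, e3 q6962 (flp_j L118577) q5577, e3 q6963 (flp_j L171963) q8526, e3 q6964 L118602 q6964, e3 q6965 L118613 q6965, e3 q6966 L118621 q5580, e3 q6967 (flp_j L172004) q8531, e3 q6968 (flp_j L118631) q5582, e3 q6969 (flp_j L172023) q8533, e3 q6970 L118653 q5584, e3 q6971 (flp_j L172047) q8536, e3 q6972 (flp_j L172057) q8537, e3 q6973 L118676 q6973, e3 q6974 L118686 q6974, e3 q6975 L118691 q5588, trivial⟩ (by decide +kernel)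

theorem ce_j_109 : ∀ r, r < 64 → sm gj (Qf (6976 + r)) = Qf (tab Gen.j (6976 + r)) :=
  edges_tab (sm gj) Qf (tab Gen.j) 6976 [(6976, 6976), (6977, 8546), (6978, 6978), (6979, 6979), (6980, 6980), (6981, 8552), (6982, 6982), (6983, 5592), (6984, 8556), (6985, 6985), (6986, 6986), (6987, 6987), (6988, 8562), (6989, 5596), (6990, 8564), (6991, 6991), (6992, 6992), (6993, 5599), (6994, 8569), (6995, 8571), (6996, 6996), (6997, 8575), (6998, 5602), (6999, 8577), (7000, 7000), (7001, 7001), (7002, 5605), (7003, 8583), (7004, 8584), (7005, 7005), (7006, 7006), (7007, 7007), (7008, 7008), (7009, 7009), (7010, 5610), (7011, 8594), (7012, 5612), (7013, 8597), (7014, 8598), (7015, 7015), (7016, 7016), (7017, 5616), (7018, 6052), (7019, 5618), (7020, 8605), (7021, 8606), (7022, 5620), (7023, 5621), (7024, 8610), (7025, 8611), (7026, 7026), (7027, 7027), (7028, 7028), (7029, 6459), (7030, 5626), (7031, 6455), (7032, 5629), (7033, 5631), (7034, 6536), (7035, 5633), (7036, 8619), (7037, 7037), (7038, 8622), (7039, 5636)]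
    ⟨e3 q6976 L118700 q6976, e3 q6977 L172125 q8546, e3 q6978 L118716 q6978, e3 q6979 L118730 q6979, e3 q6980 L118737 q6980, e3 q6981 L172203 q8552, e3 q6982 L118759 q6982, e3 q6983 (flp_j L118760) q5592, e3 q6984 (flp_j L172247) q8556, e3 q6985 L118782 q6985, e3 q6986 L118793 q6986, e3 q6987 L118810 q6987, e3 q6988 L172308 q8562, e3 q6989 (flp_j L118820) q5596, e3 q6990 (flp_j L172334) q8564, e3 q6991 L118846 q6991, e3 q6992 L118859 q6992, e3 q6993 L118866 q5599, e3 q6994 (flp_j L172383) q8569, e3 q6995 L172393 q8571, e3 q6996 L118891 q6996, e3 q6997 L172423 q8575, e3 q6998 (flp_j L118898) q5602, e3 q6999 (flp_j L172444) q8577, e3 q7000 L118917 q7000, e3 q7001 L118926 q7001, e3 q7002 L118932 q5605, e3 q7003 (flp_j L172480) q8583, e3 q7004 (flp_j L172489) q8584, e3 q7005 L118949 q7005, e3 q7006 L118958 q7006, e3 q7007 L118964 q7007, e3 q7008 L118973 q7008, e3 q7009 L118977 q7009, e3 q7010 (flp_j L118979) q5610, e3 q7011 (flp_j L172560) q8594, e3 q7012 L119002 q5612, e3 q7013 (flp_j L172585) q8597, e3 q7014 (flp_j L172597)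 q8598, e3 q7015 L119026 q7015, e3 q7016 L119038 q7016, e3 q7017 L119045 q5616, e3 q7018 L119053 q6052, e3 q7019 L119060 q5618, e3 q7020 (flp_j L172656) q8605, e3 q7021 (flp_j L172665) q8606, e3 q7022 L119082 q5620, e3 q7023 L119093 q5621, e3 q7024 (flp_j L172698) q8610, e3 q7025 (flp_j L172709) q8611, e3 q7026 L119116 q7026, e3 q7027 L119127 q7027, e3 q7028 L119134 q7028, e3 q7029 (flp_j L613084) q6459, e3 q7030 (flp_j L119309) q5626, e3 q7031 L616389 q6455, e3 q7032 (flp_j L119550) q5629, e3 q7033 (flp_j L119603) q5631, e3 q7034 L616715 q6536, e3 q7035 L119623 q5633, e3 q7036 (flp_j L173497) q8619, e3 q7037 L119646 q7037, e3 q7038 L173787 q8622, e3 q7039 (flp_j L119813) q5636, trivial⟩ (by decide +kernel)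

theorem ce_j_110 : ∀ r, r < 64 → sm gj (Qf (7040 + r)) = Qf (tab Gen.j (7040 + r)) :=
  edges_tab (sm gj) Qf (tab Gen.j) 7040 [(7040, 8624), (7041, 7041), (7042, 8627), (7043, 5639), (7044, 5641), (7045, 8629), (7046, 5643), (7047, 8631), (7048, 7048), (7049, 6074), (7050, 5647), (7051, 8635), (7052, 8636), (7053, 5649), (7054, 5650), (7055, 8640), (7056, 8641), (7057, 7057), (7058, 7058), (7059, 7059), (7060, 8649), (7061, 7061), (7062, 8652), (7063, 5655), (7064, 5657), (7065, 8654), (7066, 5659), (7067, 8656), (7068, 7068), (7069, 8660), (7070, 5662), (7071, 8662), (7072, 7072), (7073, 7073), (7074, 5664), (7075, 8668), (7076, 5666), (7077, 8670), (7078, 7078), (7079, 6104), (7080, 5670), (7081, 8674), (7082, 8675), (7083, 5672), (7084, 5673), (7085, 8679), (7086, 8680), (7087, 7087), (7088, 7088), (7089, 7089), (7090, 6115), (7091, 5679), (7092, 5680), (7093, 8689), (7094, 8690), (7095, 8691), (7096, 5683), (7097, 5684), (7098, 8697), (7099, 8698), (7100, 8699), (7101, 7101), (7102, 7102), (7103, 7103)]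
    ⟨e3 q7040 L173872 q8624, e3 q7041 L119885 q7041, e3 q7042 L173904 q8627, e3 q7043 (flp_j L119896) q5639, e3 q7044 (flp_j L119996) q5641, e3 q7045 (flp_j L174067) q8629, e3 q7046 L120021 q5643, e3 q7047 (flp_j L174093) q8631, e3 q7048 L120043 q7048, e3 q7049 L120071 q6074, e3 q7050 L120080 q5647, e3 q7051 (flp_j L174156) q8635, e3 q7052 (flp_j L174165) q8636, e3 q7053 L120104 q5649, e3 q7054 L120113 q5650, e3 q7055 (flp_j L174196) q8640, e3 q7056 (flp_j L174205) q8641, e3 q7057 L120135 q7057, e3 q7058 L120144 q7058, e3 q7059 L120150 q7059, e3 q7060 L174404 q8649, e3 q7061 L120250 q7061, e3 q7062 L174436 q8652, e3 q7063 (flp_j L120260) q5655, e3 q7064 (flp_j L120352) q5657, e3 q7065 (flp_j L174582) q8654, e3 q7066 L120378 q5659, e3 q7067 (flp_j L174609) q8656, e3 q7068 L120404 q7068, e3 q7069 L174672 q8660, e3 q7070 (flp_j L120433) q5662, e3 q7071 (flp_j L174691) q8662, e3 q7072 L120451 q7072, e3 q7073 L120460 q7073, e3 q7074 (flp_j L120461) q5664, e3 q7075 (flp_j L174746) q8668, e3 q7076 L120487 q5666, e3 q7077 (flp_j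 L174769) q8670, e3 q7078 L120507 q7078, e3 q7079 L120581 q6104, e3 q7080 L120590 q5670, e3 q7081 (flp_j L174906) q8674, e3 q7082 (flp_j L174915) q8675, e3 q7083 L120614 q5672, e3 q7084 L120624 q5673, e3 q7085 (flp_j L174945) q8679, e3 q7086 (flp_j L174955) q8680, e3 q7087 L120645 q7087, e3 q7088 L120655 q7088, e3 q7089 L120663 q7089, e3 q7090 L120672 q6115, e3 q7091 L120679 q5679, e3 q7092 L120688 q5680, e3 q7093 (flp_j L175027) q8689, e3 q7094 (flp_j L175033) q8690, e3 q7095 (flp_j L175044) q8691, e3 q7096 L120719 q5683, e3 q7097 L120729 q5684, e3 q7098 (flp_j L175092) q8697, e3 q7099 (flp_j L175102) q8698, e3 q7100 (flp_j L175109) q8699, e3 q7101 L120758 q7101, e3 q7102 L120768 q7102, e3 q7103 L120777 q7103, trivial⟩ (by decide +kernel)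

theorem ce_j_111 : ∀ r, r < 64 → sm gj (Qf (7104 + r)) = Qf (tab Gen.j (7104 + r)) :=
  edges_tab (sm gj) Qf (tab Gen.j) 7104 [(7104, 7104), (7105, 7105), (7106, 7106), (7107, 7107), (7108, 7108), (7109, 7109), (7110, 7110), (7111, 7111), (7112, 7112), (7113, 5732), (7114, 5733), (7115, 5734), (7116, 6312), (7117, 5736), (7118, 5739), (7119, 5741), (7120, 6308), (7121, 5743), (7122, 5744), (7123, 6492), (7124, 5746), (7125, 5747), (7126, 8102), (7127, 5750), (7128, 8089), (7129, 5753), (7130, 8058), (7131, 8709), (7132, 8710), (7133, 8711), (7134, 8097), (7135, 8076), (7136, 8712), (7137, 5735), (7138, 8100), (7139, 8078), (7140, 8069), (7141, 8713), (7142, 8723), (7143, 5742), (7144, 8714), (7145, 6491), (7146, 8734), (7147, 8716), (7148, 5745), (7149, 8738), (7150, 8718), (7151, 8740), (7152, 5749), (7153, 8742), (7154, 8721), (7155, 8719), (7156, 5752), (7157, 8088), (7158, 5785), (7159, 5786), (7160, 5788), (7161, 5789), (7162, 5790), (7163, 8754), (7164, 5792), (7165, 5793), (7166, 5761), (7167, 8101)]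
    ⟨e3 q7104 L120900 q7104, e3 q7105 L120909 q7105, e3 q7106 L120958 q7106, e3 q7107 L120966 q7107, e3 q7108 L120973 q7108, e3 q7109 L120983 q7109, e3 q7110 L120990 q7110, e3 q7111 L121006 q7111, e3 q7112 L121022 q7112, e3 q7113 L121187 q5732, e3 q7114 L121200 q5733, e3 q7115 L121208 q5734, e3 q7116 (flp_j L619798) q6312, e3 q7117 L121224 q5736, e3 q7118 L121250 q5739, e3 q7119 L121280 q5741, e3 q7120 (flp_j L625374) q6308, e3 q7121 L121307 q5743, e3 q7122 L121320 q5744, e3 q7123 (flp_j L621247) q6492, e3 q7124 L121336 q5746, e3 q7125 L121344 q5747, e3 q7126 (flp_j L644462) q8102, e3 q7127 L121371 q5750, e3 q7128 L644786 q8089, e3 q7129 L121395 q5753, e3 q7130 (flp_j L643791) q8058, e3 q7131 (flp_j L175770) q8709, e3 q7132 (flp_j L175779) q8710, e3 q7133 (flp_j L175785) q8711, e3 q7134 L644597 q8097, e3 q7135 (flp_j L644946) q8076, e3 q7136 (flp_j L175811) q8712, e3 q7137 (flp_j L121634) q5735, e3 q7138 L644481 q8100, e3 q7139 (flp_j L644387) q8078, e3 q7140 L644289 q8069, e3 q7141 (flp_j L175902) q8713, e3 q7142 L621360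 q8723, e3 q7143 (flp_j L121737) q5742, e3 q7144 (flp_j L175948) q8714, e3 q7145 (flp_j L621408) q6491, e3 q7146 L176678 q8734, e3 q7147 (flp_j L175995) q8716, e3 q7148 (flp_j L121795) q5745, e3 q7149 (flp_j L176712) q8738, e3 q7150 (flp_j L176019) q8718, e3 q7151 L176723 q8740, e3 q7152 (flp_j L121824) q5749, e3 q7153 (flp_j L176745) q8742, e3 q7154 (flp_j L176048) q8721, e3 q7155 (flp_j L644321) q8719, e3 q7156 L121857 q5752, e3 q7157 L644536 q8088, e3 q7158 L121951 q5785, e3 q7159 L121963 q5786, e3 q7160 L122025 q5788, e3 q7161 L122036 q5789, e3 q7162 L122042 q5790, e3 q7163 L177091 q8754, e3 q7164 L122061 q5792, e3 q7165 L122068 q5793, e3 q7166 (flp_j L122072) q5761, e3 q7167 (flp_j L644418) q8101, trivial⟩ (by decide +kernel)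

theorem ce_j_112 : ∀ r, r < 64 → sm gj (Qf (7168 + r)) = Qf (tab Gen.j (7168 + r)) :=
  edges_tab (sm gj) Qf (tab Gen.j) 7168 [(7168, 5796), (7169, 5763), (7170, 8025), (7171, 5799), (7172, 5800), (7173, 5801), (7174, 5802), (7175, 5803), (7176, 8768), (7177, 5805), (7178, 5806), (7179, 5770), (7180, 5808), (7181, 6404), (7182, 5810), (7183, 5811), (7184, 5812), (7185, 8780), (7186, 5814), (7187, 5774), (7188, 8784), (7189, 5817), (7190, 8746), (7191, 5778), (7192, 8787), (7193, 5821), (7194, 5822), (7195, 5781), (7196, 8792), (7197, 8013), (7198, 8024), (7199, 8747), (7200, 8748), (7201, 8798), (7202, 8750), (7203, 8751), (7204, 8802), (7205, 8753), (7206, 5791), (7207, 8806), (7208, 8756), (7209, 8808), (7210, 5795), (7211, 8187), (7212, 8134), (7213, 8757), (7214, 5798), (7215, 8812), (7216, 8759), (7217, 8760), (7218, 8761), (7219, 8820), (7220, 8763), (7221, 8764), (7222, 8765), (7223, 8826), (7224, 8767), (7225, 5804), (7226, 8830), (7227, 8770), (7228, 8771), (7229, 8835), (7230, 8773), (7231, 5809)]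
    ⟨e3 q7168 L122099 q5796, e3 q7169 (flp_j L122101) q5763, e3 q7170 L642833 q8025, e3 q7171 L122128 q5799, e3 q7172 L122137 q5800, e3 q7173 L122150 q5801, e3 q7174 L122159 q5802, e3 q7175 L122166 q5803, e3 q7176 L177266 q8768, e3 q7177 L122183 q5805, e3 q7178 L122193 q5806, e3 q7179 (flp_j L122195) q5770, e3 q7180 L122212 q5808, e3 q7181 L622497 q6404, e3 q7182 L122231 q5810, e3 q7183 L122238 q5811, e3 q7184 L122250 q5812, e3 q7185 L177387 q8780, e3 q7186 L122264 q5814, e3 q7187 (flp_j L122266) q5774, e3 q7188 (flp_j L177425) q8784, e3 q7189 L122290 q5817, e3 q7190 (flp_j L641142) q8746, e3 q7191 (flp_j L122298) q5778, e3 q7192 (flp_j L177461) q8787, e3 q7193 L122319 q5821, e3 q7194 L122329 q5822, e3 q7195 L122339 q5781, e3 q7196 (flp_j L177503) q8792, e3 q7197 L642921 q8013, e3 q7198 (flp_j L642989) q8024, e3 q7199 (flp_j L176938) q8747, e3 q7200 (flp_j L177030) q8748, e3 q7201 L177861 q8798, e3 q7202 (flp_j L177053) q8750, e3 q7203 (flp_j L177071) q8751, e3 q7204 L177925 q8802, e3 q7205 (flp_j L177089) q8753, e3 q7206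 (flp_j L122627) q5791, e3 q7207 (flp_j L177959) q8806, e3 q7208 (flp_j L177115) q8756, e3 q7209 L177971 q8808, e3 q7210 (flp_j L122662) q5795, e3 q7211 (flp_j L644208) q8187, e3 q7212 (flp_j L644183) q8134, e3 q7213 (flp_j L177159) q8757, e3 q7214 L122699 q5798, e3 q7215 (flp_j L178033) q8812, e3 q7216 (flp_j L177192) q8759, e3 q7217 (flp_j L177202) q8760, e3 q7218 (flp_j L177210) q8761, e3 q7219 L178105 q8820, e3 q7220 (flp_j L177229) q8763, e3 q7221 (flp_j L177236) q8764, e3 q7222 (flp_j L177248) q8765, e3 q7223 L178167 q8826, e3 q7224 (flp_j L177264) q8767, e3 q7225 (flp_j L122785) q5804, e3 q7226 (flp_j L178203) q8830, e3 q7227 (flp_j L177293) q8770, e3 q7228 (flp_j L177299) q8771, e3 q7229 L178238 q8835, e3 q7230 (flp_j L177319) q8773, e3 q7231 (flp_j L122834) q5809, trivial⟩ (by decide +kernel)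

theorem ce_j_113 : ∀ r, r < 64 → sm gj (Qf (7232 + r)) = Qf (tab Gen.j (7232 + r)) :=
  edges_tab (sm gj) Qf (tab Gen.j) 7232 [(7232, 8839), (7233, 8775), (7234, 8776), (7235, 8777), (7236, 8778), (7237, 8846), (7238, 5813), (7239, 8848), (7240, 8782), (7241, 8783), (7242, 5816), (7243, 8853), (7244, 5818), (7245, 8855), (7246, 5820), (7247, 8858), (7248, 8859), (7249, 8790), (7250, 8791), (7251, 5824), (7252, 8047), (7253, 7253), (7254, 7254), (7255, 5828), (7256, 8869), (7257, 7257), (7258, 8873), (7259, 7259), (7260, 5831), (7261, 8877), (7262, 7262), (7263, 8879), (7264, 5834), (7265, 8881), (7266, 7266), (7267, 7267), (7268, 5837), (7269, 8886), (7270, 5839), (7271, 8888), (7272, 5841), (7273, 8891), (7274, 8892), (7275, 7275), (7276, 7276), (7277, 5845), (7278, 7278), (7279, 8901), (7280, 7280), (7281, 7281), (7282, 7282), (7283, 8907), (7284, 7284), (7285, 5849), (7286, 8911), (7287, 7287), (7288, 7288), (7289, 7289), (7290, 8916), (7291, 5853), (7292, 8918), (7293, 7293), (7294, 7294), (7295, 5856)]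
    ⟨e3 q7232 (flp_j L178276) q8839, e3 q7233 (flp_j L177347) q8775, e3 q7234 (flp_j L177360) q8776, e3 q7235 (flp_j L177368) q8777, e3 q7236 (flp_j L177380) q8778, e3 q7237 L178340 q8846, e3 q7238 (flp_j L122895) q5813, e3 q7239 (flp_j L178362) q8848, e3 q7240 (flp_j L177407) q8782, e3 q7241 (flp_j L177416) q8783, e3 q7242 L122926 q5816, e3 q7243 (flp_j L178396) q8853, e3 q7244 (flp_j L122938) q5818, e3 q7245 (flp_j L178414) q8855, e3 q7246 L122963 q5820, e3 q7247 (flp_j L178433) q8858, e3 q7248 (flp_j L178443) q8859, e3 q7249 (flp_j L177482) q8790, e3 q7250 (flp_j L177492) q8791, e3 q7251 L123000 q5824, e3 q7252 (flp_j L642999) q8047, e3 q7253 L123188 q7253, e3 q7254 L123199 q7254, e3 q7255 L123206 q5828, e3 q7256 (flp_j L178792) q8869, e3 q7257 L123332 q7257, e3 q7258 L179016 q8873, e3 q7259 L123356 q7259, e3 q7260 (flp_j L123357) q5831, e3 q7261 (flp_j L179060) q8877, e3 q7262 L123393 q7262, e3 q7263 L179119 q8879, e3 q7264 (flp_j L123417) q5834, e3 q7265 (flp_j L179141) q8881, e3 q7266 L123439 q7266, e3 q7267 L123447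 q7267, e3 q7268 L123455 q5837, e3 q7269 (flp_j L179176) q8886, e3 q7270 (flp_j L123465) q5839, e3 q7271 (flp_j L179196) q8888, e3 q7272 L123490 q5841, e3 q7273 (flp_j L179217) q8891, e3 q7274 (flp_j L179228) q8892, e3 q7275 L123512 q7275, e3 q7276 L123521 q7276, e3 q7277 L123528 q5845, e3 q7278 L123539 q7278, e3 q7279 L179296 q8901, e3 q7280 L123558 q7280, e3 q7281 L123575 q7281, e3 q7282 L123580 q7282, e3 q7283 L179386 q8907, e3 q7284 L123600 q7284, e3 q7285 (flp_j L123601) q5849, e3 q7286 (flp_j L179426) q8911, e3 q7287 L123624 q7287, e3 q7288 L123636 q7288, e3 q7289 L123652 q7289, e3 q7290 L179487 q8916, e3 q7291 (flp_j L123659) q5853, e3 q7292 (flp_j L179510) q8918, e3 q7293 L123682 q7293, e3 q7294 L123692 q7294, e3 q7295 L123699 q5856, trivial⟩ (by decide +kernel)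

theorem ce_j_114 : ∀ r, r < 64 → sm gj (Qf (7296 + r)) = Qf (tab Gen.j (7296 + r)) :=
  edges_tab (sm gj) Qf (tab Gen.j) 7296 [(7296, 8923), (7297, 8925), (7298, 7298), (7299, 8929), (7300, 5859), (7301, 8931), (7302, 7302), (7303, 7303), (7304, 5862), (7305, 8937), (7306, 8938), (7307, 7307), (7308, 7308), (7309, 7309), (7310, 7310), (7311, 5867), (7312, 8946), (7313, 5869), (7314, 8949), (7315, 8950), (7316, 7316), (7317, 7317), (7318, 5873), (7319, 8259), (7320, 5875), (7321, 8957), (7322, 8958), (7323, 5877), (7324, 5878), (7325, 8962), (7326, 8963), (7327, 7327), (7328, 7328), (7329, 7329), (7330, 5923), (7331, 5924), (7332, 5925), (7333, 5926), (7334, 8977), (7335, 5928), (7336, 5929), (7337, 5885), (7338, 5931), (7339, 8983), (7340, 5933), (7341, 5934), (7342, 5935), (7343, 8989), (7344, 5937), (7345, 5889), (7346, 8993), (7347, 5940), (7348, 8745), (7349, 5893), (7350, 8189), (7351, 5944), (7352, 5945), (7353, 5896), (7354, 8997), (7355, 5948), (7356, 5949), (7357, 9003), (7358, 5951), (7359, 5952)]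
    ⟨e3 q7296 (flp_j L179553) q8923, e3 q7297 L179562 q8925, e3 q7298 L123726 q7298, e3 q7299 L179596 q8929, e3 q7300 (flp_j L123733) q5859, e3 q7301 (flp_j L179621) q8931, e3 q7302 L123756 q7302, e3 q7303 L123765 q7303, e3 q7304 L123773 q5862, e3 q7305 (flp_j L179663) q8937, e3 q7306 (flp_j L179675) q8938, e3 q7307 L123797 q7307, e3 q7308 L123809 q7308, e3 q7309 L123815 q7309, e3 q7310 L123825 q7310, e3 q7311 (flp_j L123834) q5867, e3 q7312 (flp_j L179760) q8946, e3 q7313 L123854 q5869, e3 q7314 (flp_j L179780) q8949, e3 q7315 (flp_j L179791) q8950, e3 q7316 L123875 q7316, e3 q7317 L123884 q7317, e3 q7318 L123891 q5873, e3 q7319 (flp_j L169556) q8259, e3 q7320 L123907 q5875, e3 q7321 (flp_j L179841) q8957, e3 q7322 (flp_j L179851) q8958, e3 q7323 L123926 q5877, e3 q7324 L123938 q5878, e3 q7325 (flp_j L179878) q8962, e3 q7326 (flp_j L179890) q8963, e3 q7327 L123962 q7327, e3 q7328 L123972 q7328, e3 q7329 L123977 q7329, e3 q7330 L123984 q5923, e3 q7331 L123997 q5924, e3 q7332 L124008 q5925, e3 q7333 L124015 q5926, e3 q7334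 L180031 q8977, e3 q7335 L124037 q5928, e3 q7336 L124047 q5929, e3 q7337 (flp_j L124051) q5885, e3 q7338 L124069 q5931, e3 q7339 L180089 q8983, e3 q7340 L124088 q5933, e3 q7341 L124093 q5934, e3 q7342 L124103 q5935, e3 q7343 L180150 q8989, e3 q7344 L124122 q5937, e3 q7345 (flp_j L124124) q5889, e3 q7346 (flp_j L180194) q8993, e3 q7347 L124150 q5940, e3 q7348 L641053 q8745, e3 q7349 (flp_j L124161) q5893, e3 q7350 (flp_j L641304) q8189, e3 q7351 L124181 q5944, e3 q7352 L124190 q5945, e3 q7353 L124200 q5896, e3 q7354 (flp_j L180269) q8997, e3 q7355 L124219 q5948, e3 q7356 L124235 q5949, e3 q7357 L180341 q9003, e3 q7358 L124254 q5951, e3 q7359 L124274 q5952, trivial⟩ (by decide +kernel)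

theorem ce_j_115 : ∀ r, r < 64 → sm gj (Qf (7360 + r)) = Qf (tab Gen.j (7360 + r)) :=
  edges_tab (sm gj) Qf (tab Gen.j) 7360 [(7360, 9007), (7361, 5954), (7362, 5902), (7363, 9011), (7364, 5957), (7365, 5958), (7366, 9016), (7367, 5960), (7368, 5907), (7369, 9020), (7370, 5963), (7371, 5964), (7372, 5965), (7373, 5966), (7374, 9027), (7375, 5911), (7376, 9029), (7377, 5970), (7378, 5971), (7379, 5914), (7380, 9034), (7381, 5916), (7382, 9036), (7383, 5918), (7384, 9039), (7385, 9040), (7386, 5979), (7387, 5980), (7388, 5922), (7389, 8970), (7390, 8971), (7391, 9051), (7392, 8973), (7393, 8974), (7394, 9055), (7395, 8976), (7396, 5927), (7397, 9059), (7398, 8979), (7399, 8980), (7400, 9064), (7401, 8982), (7402, 5932), (7403, 9068), (7404, 8985), (7405, 8986), (7406, 8987), (7407, 9073), (7408, 5936), (7409, 9075), (7410, 8991), (7411, 8992), (7412, 5939), (7413, 9080), (7414, 5941), (7415, 9082), (7416, 5943), (7417, 8456), (7418, 9085), (7419, 8342), (7420, 8996), (7421, 5947), (7422, 8998), (7423, 9092)]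
    ⟨e3 q7360 L180412 q9007, e3 q7361 L124291 q5954, e3 q7362 (flp_j L124293) q5902, e3 q7363 (flp_j L180458) q9011, e3 q7364 L124322 q5957, e3 q7365 L124326 q5958, e3 q7366 L180491 q9016, e3 q7367 L124343 q5960, e3 q7368 (flp_j L124345) q5907, e3 q7369 (flp_j L180526) q9020, e3 q7370 L124365 q5963, e3 q7371 L124377 q5964, e3 q7372 L124384 q5965, e3 q7373 L124395 q5966, e3 q7374 L180588 q9027, e3 q7375 (flp_j L124403) q5911, e3 q7376 (flp_j L180611) q9029, e3 q7377 L124424 q5970, e3 q7378 L124435 q5971, e3 q7379 L124444 q5914, e3 q7380 (flp_j L180656) q9034, e3 q7381 (flp_j L124457) q5916, e3 q7382 (flp_j L180671) q9036, e3 q7383 L124477 q5918, e3 q7384 (flp_j L180690) q9039, e3 q7385 (flp_j L180702) q9040, e3 q7386 L124499 q5979, e3 q7387 L124509 q5980, e3 q7388 L124519 q5922, e3 q7389 (flp_j L179948) q8970, e3 q7390 (flp_j L179966) q8971, e3 q7391 L180814 q9051, e3 q7392 (flp_j L179989) q8973, e3 q7393 (flp_j L180008) q8974, e3 q7394 L180883 q9055, e3 q7395 (flp_j L180029) q8976, e3 q7396 (flp_j L124601) q5927, e3 q7397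 (flp_j L180925) q9059, e3 q7398 (flp_j L180060) q8979, e3 q7399 (flp_j L180066) q8980, e3 q7400 L180962 q9064, e3 q7401 (flp_j L180087) q8982, e3 q7402 (flp_j L124653) q5932, e3 q7403 (flp_j L180994) q9068, e3 q7404 (flp_j L180111) q8985, e3 q7405 (flp_j L180122) q8986, e3 q7406 (flp_j L180140) q8987, e3 q7407 L181048 q9073, e3 q7408 (flp_j L124709) q5936, e3 q7409 (flp_j L181073) q9075, e3 q7410 (flp_j L180173) q8991, e3 q7411 (flp_j L180183) q8992, e3 q7412 L124746 q5939, e3 q7413 (flp_j L181111) q9080, e3 q7414 (flp_j L124760) q5941, e3 q7415 (flp_j L181130) q9082, e3 q7416 L124782 q5943, e3 q7417 (flp_j L637673) q8456, e3 q7418 (flp_j L181159) q9085, e3 q7419 L637577 q8342, e3 q7420 (flp_j L180260) q8996, e3 q7421 L124817 q5947, e3 q7422 (flp_j L180278) q8998, e3 q7423 L181215 q9092, trivial⟩ (by decide +kernel)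

theorem ce_j_116 : ∀ r, r < 64 → sm gj (Qf (7424 + r)) = Qf (tab Gen.j (7424 + r)) :=
  edges_tab (sm gj) Qf (tab Gen.j) 7424 [(7424, 9000), (7425, 9096), (7426, 9002), (7427, 5950), (7428, 9100), (7429, 9005), (7430, 9102), (7431, 5953), (7432, 9104), (7433, 9009), (7434, 9010), (7435, 5956), (7436, 9109), (7437, 9111), (7438, 9014), (7439, 9115), (7440, 5959), (7441, 9117), (7442, 9018), (7443, 9019), (7444, 5962), (7445, 9123), (7446, 9124), (7447, 9023), (7448, 9024), (7449, 9025), (7450, 9026), (7451, 5967), (7452, 9132), (7453, 5969), (7454, 9135), (7455, 9136), (7456, 9032), (7457, 9033), (7458, 5973), (7459, 8450), (7460, 5975), (7461, 9143), (7462, 9144), (7463, 5977), (7464, 5978), (7465, 9148), (7466, 9149), (7467, 9043), (7468, 9044), (7469, 9045), (7470, 7470), (7471, 9157), (7472, 9159), (7473, 7473), (7474, 5984), (7475, 9163), (7476, 7476), (7477, 9165), (7478, 5987), (7479, 9167), (7480, 7480), (7481, 5990), (7482, 9169), (7483, 9171), (7484, 7484), (7485, 9175), (7486, 5993), (7487, 9177)]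
    ⟨e3 q7424 (flp_j L180318) q9000, e3 q7425 L181297 q9096, e3 q7426 (flp_j L180339) q9002, e3 q7427 (flp_j L124880) q5950, e3 q7428 (flp_j L181335) q9100, e3 q7429 (flp_j L180381) q9005, e3 q7430 L181405 q9102, e3 q7431 (flp_j L124946) q5953, e3 q7432 (flp_j L181431) q9104, e3 q7433 (flp_j L180436) q9009, e3 q7434 (flp_j L180448) q9010, e3 q7435 L124985 q5956, e3 q7436 (flp_j L181477) q9109, e3 q7437 L181484 q9111, e3 q7438 (flp_j L180484) q9014, e3 q7439 L181507 q9115, e3 q7440 (flp_j L125018) q5959, e3 q7441 (flp_j L181529) q9117, e3 q7442 (flp_j L180509) q9018, e3 q7443 (flp_j L180517) q9019, e3 q7444 L125046 q5962, e3 q7445 (flp_j L181559) q9123, e3 q7446 (flp_j L181571) q9124, e3 q7447 (flp_j L180548) q9023, e3 q7448 (flp_j L180560) q9024, e3 q7449 (flp_j L180566) q9025, e3 q7450 (flp_j L180577) q9026, e3 q7451 (flp_j L125102) q5967, e3 q7452 (flp_j L181652) q9132, e3 q7453 L125125 q5969, e3 q7454 (flp_j L181673) q9135, e3 q7455 (flp_j L181684) q9136, e3 q7456 (flp_j L180634) q9032, e3 q7457 (flp_j L180645) q9033,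 e3 q7458 L125165 q5973, e3 q7459 (flp_j L171236) q8450, e3 q7460 L125180 q5975, e3 q7461 (flp_j L181735) q9143, e3 q7462 (flp_j L181745) q9144, e3 q7463 L125198 q5977, e3 q7464 L125208 q5978, e3 q7465 (flp_j L181773) q9148, e3 q7466 (flp_j L181783) q9149, e3 q7467 (flp_j L180725) q9043, e3 q7468 (flp_j L180735) q9044, e3 q7469 (flp_j L180742) q9045, e3 q7470 L125250 q7470, e3 q7471 L181855 q9157, e3 q7472 L181941 q9159, e3 q7473 L125314 q7473, e3 q7474 (flp_j L125315) q5984, e3 q7475 (flp_j L181985) q9163, e3 q7476 L125352 q7476, e3 q7477 L182050 q9165, e3 q7478 (flp_j L125380) q5987, e3 q7479 (flp_j L182076) q9167, e3 q7480 L125417 q7480, e3 q7481 L125426 q5990, e3 q7482 (flp_j L182123) q9169, e3 q7483 L182135 q9171, e3 q7484 L125455 q7484, e3 q7485 L182168 q9175, e3 q7486 (flp_j L125462) q5993, e3 q7487 (flp_j L182189) q9177, trivial⟩ (by decide +kernel)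

theorem ce_j_117 : ∀ r, r < 64 → sm gj (Qf (7488 + r)) = Qf (tab Gen.j (7488 + r)) :=
  edges_tab (sm gj) Qf (tab Gen.j) 7488 [(7488, 7488), (7489, 7489), (7490, 5996), (7491, 9183), (7492, 9184), (7493, 7493), (7494, 7494), (7495, 6000), (7496, 9189), (7497, 6002), (7498, 9192), (7499, 9193), (7500, 7500), (7501, 7501), (7502, 6006), (7503, 8532), (7504, 6008), (7505, 9199), (7506, 9200), (7507, 6010), (7508, 6011), (7509, 9204), (7510, 9205), (7511, 7511), (7512, 7512), (7513, 7513), (7514, 7514), (7515, 9215), (7516, 6016), (7517, 9217), (7518, 7518), (7519, 9221), (7520, 6018), (7521, 9223), (7522, 7522), (7523, 7523), (7524, 6021), (7525, 9228), (7526, 6023), (7527, 9230), (7528, 6025), (7529, 9233), (7530, 9234), (7531, 7531), (7532, 7532), (7533, 6029), (7534, 9240), (7535, 6030), (7536, 9242), (7537, 7537), (7538, 7538), (7539, 6032), (7540, 9249), (7541, 6034), (7542, 9252), (7543, 9253), (7544, 7544), (7545, 7545), (7546, 7546), (7547, 6038), (7548, 6039), (7549, 9263), (7550, 9264), (7551, 7551)]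
    ⟨e3 q7488 L125481 q7488, e3 q7489 L125488 q7489, e3 q7490 L125496 q5996, e3 q7491 (flp_j L182223) q9183, e3 q7492 (flp_j L182233) q9184, e3 q7493 L125516 q7493, e3 q7494 L125526 q7494, e3 q7495 (flp_j L125547) q6000, e3 q7496 (flp_j L182309) q9189, e3 q7497 L125570 q6002, e3 q7498 (flp_j L182332) q9192, e3 q7499 (flp_j L182344) q9193, e3 q7500 L125594 q7500, e3 q7501 L125604 q7501, e3 q7502 L125611 q6006, e3 q7503 (flp_j L172016) q8532, e3 q7504 L125628 q6008, e3 q7505 (flp_j L182399) q9199, e3 q7506 (flp_j L182408) q9200, e3 q7507 L125648 q6010, e3 q7508 L125659 q6011, e3 q7509 (flp_j L182437) q9204, e3 q7510 (flp_j L182448) q9205, e3 q7511 L125682 q7511, e3 q7512 L125691 q7512, e3 q7513 L125696 q7513, e3 q7514 L125705 q7514, e3 q7515 L182525 q9215, e3 q7516 (flp_j L125723) q6016, e3 q7517 L182650 q9217, e3 q7518 L125795 q7518, e3 q7519 L182687 q9221, e3 q7520 (flp_j L125802) q6018, e3 q7521 (flp_j L182712) q9223, e3 q7522 L125825 q7522, e3 q7523 L125834 q7523, e3 q7524 L125842 q6021, e3 q7525 (flp_j L182769) q9228,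 e3 q7526 (flp_j L125909) q6023, e3 q7527 (flp_j L182865) q9230, e3 q7528 L125933 q6025, e3 q7529 (flp_j L182889) q9233, e3 q7530 (flp_j L182903) q9234, e3 q7531 L125961 q7531, e3 q7532 L125973 q7532, e3 q7533 L125982 q6029, e3 q7534 L182959 q9240, e3 q7535 (flp_j L125990) q6030, e3 q7536 (flp_j L182980) q9242, e3 q7537 L126009 q7537, e3 q7538 L126018 q7538, e3 q7539 (flp_j L126019) q6032, e3 q7540 (flp_j L183026) q9249, e3 q7541 L126038 q6034, e3 q7542 (flp_j L183041) q9252, e3 q7543 (flp_j L183050) q9253, e3 q7544 L126054 q7544, e3 q7545 L126059 q7545, e3 q7546 L126066 q7546, e3 q7547 L126070 q6038, e3 q7548 L126081 q6039, e3 q7549 (flp_j L183109) q9263, e3 q7550 (flp_j L183120) q9264, e3 q7551 L126103 q7551, trivial⟩ (by decide +kernel)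

theorem ce_j_118 : ∀ r, r < 64 → sm gj (Qf (7552 + r)) = Qf (tab Gen.j (7552 + r)) :=
  edges_tab (sm gj) Qf (tab Gen.j) 7552 [(7552, 7552), (7553, 9269), (7554, 7554), (7555, 8593), (7556, 6045), (7557, 9272), (7558, 9273), (7559, 6047), (7560, 6048), (7561, 9277), (7562, 9278), (7563, 7563), (7564, 7564), (7565, 7565), (7566, 8604), (7567, 6054), (7568, 6055), (7569, 9287), (7570, 9288), (7571, 9289), (7572, 6058), (7573, 6059), (7574, 9295), (7575, 9296), (7576, 9297), (7577, 7577), (7578, 7578), (7579, 7579), (7580, 6063), (7581, 9306), (7582, 6065), (7583, 9308), (7584, 7584), (7585, 6067), (7586, 8628), (7587, 6070), (7588, 9312), (7589, 6072), (7590, 9315), (7591, 7591), (7592, 8634), (7593, 6076), (7594, 6077), (7595, 9320), (7596, 9321), (7597, 9322), (7598, 6080), (7599, 6081), (7600, 9328), (7601, 9329), (7602, 9330), (7603, 7603), (7604, 7604), (7605, 7605), (7606, 9338), (7607, 6085), (7608, 9340), (7609, 7609), (7610, 6087), (7611, 8653), (7612, 6090), (7613, 9344), (7614, 6092), (7615, 9347)]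
    ⟨e3 q7552 L126114 q7552, e3 q7553 L183170 q9269, e3 q7554 L126136 q7554, e3 q7555 (flp_j L172552) q8593, e3 q7556 L126159 q6045, e3 q7557 (flp_j L183210) q9272, e3 q7558 (flp_j L183220) q9273, e3 q7559 L126180 q6047, e3 q7560 L126193 q6048, e3 q7561 (flp_j L183249) q9277, e3 q7562 (flp_j L183262) q9278, e3 q7563 L126217 q7563, e3 q7564 L126228 q7564, e3 q7565 L126235 q7565, e3 q7566 (flp_j L172649) q8604, e3 q7567 L126249 q6054, e3 q7568 L126258 q6055, e3 q7569 (flp_j L183338) q9287, e3 q7570 (flp_j L183345) q9288, e3 q7571 (flp_j L183358) q9289, e3 q7572 L126287 q6058, e3 q7573 L126299 q6059, e3 q7574 (flp_j L183401) q9295, e3 q7575 (flp_j L183413) q9296, e3 q7576 (flp_j L183421) q9297, e3 q7577 L126331 q7577, e3 q7578 L126341 q7578, e3 q7579 L126349 q7579, e3 q7580 (flp_j L126582) q6063, e3 q7581 L183945 q9306, e3 q7582 (flp_j L126663) q6065, e3 q7583 (flp_j L183965) q9308, e3 q7584 L126691 q7584, e3 q7585 (flp_j L126694) q6067, e3 q7586 (flp_j L174058) q8628, e3 q7587 L126841 q6070, e3 q7588 (flp_j L184197) q9312,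 e3 q7589 L126863 q6072, e3 q7590 (flp_j L184232) q9315, e3 q7591 L126894 q7591, e3 q7592 (flp_j L174149) q8634, e3 q7593 L126924 q6076, e3 q7594 L126933 q6077, e3 q7595 (flp_j L184308) q9320, e3 q7596 (flp_j L184314) q9321, e3 q7597 (flp_j L184325) q9322, e3 q7598 L126960 q6080, e3 q7599 L126970 q6081, e3 q7600 (flp_j L184365) q9328, e3 q7601 (flp_j L184375) q9329, e3 q7602 (flp_j L184382) q9330, e3 q7603 L126999 q7603, e3 q7604 L127007 q7604, e3 q7605 L127014 q7605, e3 q7606 L184569 q9338, e3 q7607 (flp_j L127108) q6085, e3 q7608 (flp_j L184590) q9340, e3 q7609 L127139 q7609, e3 q7610 (flp_j L127140) q6087, e3 q7611 (flp_j L174572) q8653, e3 q7612 L127228 q6090, e3 q7613 (flp_j L184734) q9344, e3 q7614 L127251 q6092, e3 q7615 (flp_j L184776) q9347, trivial⟩ (by decide +kernel)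

theorem ce_j_119 : ∀ r, r < 64 → sm gj (Qf (7616 + r)) = Qf (tab Gen.j (7616 + r)) :=
  edges_tab (sm gj) Qf (tab Gen.j) 7616 [(7616, 7616), (7617, 9350), (7618, 6094), (7619, 9353), (7620, 6096), (7621, 9356), (7622, 9357), (7623, 7623), (7624, 7624), (7625, 8667), (7626, 6100), (7627, 9363), (7628, 6102), (7629, 9366), (7630, 7630), (7631, 8673), (7632, 6106), (7633, 6107), (7634, 9371), (7635, 9372), (7636, 9373), (7637, 6110), (7638, 6111), (7639, 9379), (7640, 9380), (7641, 9381), (7642, 7642), (7643, 7643), (7644, 7644), (7645, 8687), (7646, 8688), (7647, 6118), (7648, 6119), (7649, 6120), (7650, 9377), (7651, 9291), (7652, 6123), (7653, 6125), (7654, 9389), (7655, 6277), (7656, 6254), (7657, 7657), (7658, 7658), (7659, 7659), (7660, 6164), (7661, 8021), (7662, 6167), (7663, 8018), (7664, 6171), (7665, 6172), (7666, 6136), (7667, 9402), (7668, 8016), (7669, 6180), (7670, 6181), (7671, 6142), (7672, 9407), (7673, 9408), (7674, 6185), (7675, 6186), (7676, 6187), (7677, 6188), (7678, 8015), (7679, 6149)]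
    ⟨e3 q7616 L127288 q7616, e3 q7617 L184841 q9350, e3 q7618 (flp_j L127313) q6094, e3 q7619 (flp_j L184867) q9353, e3 q7620 L127331 q6096, e3 q7621 (flp_j L184885) q9356, e3 q7622 (flp_j L184896) q9357, e3 q7623 L127351 q7623, e3 q7624 L127360 q7624, e3 q7625 (flp_j L174736) q8667, e3 q7626 L127376 q6100, e3 q7627 (flp_j L184947) q9363, e3 q7628 L127395 q6102, e3 q7629 (flp_j L184981) q9366, e3 q7630 L127428 q7630, e3 q7631 (flp_j L174898) q8673, e3 q7632 L127457 q6106, e3 q7633 L127466 q6107, e3 q7634 (flp_j L185058) q9371, e3 q7635 (flp_j L185064) q9372, e3 q7636 (flp_j L185077) q9373, e3 q7637 L127492 q6110, e3 q7638 L127503 q6111, e3 q7639 (flp_j L185117) q9379, e3 q7640 (flp_j L185128) q9380, e3 q7641 (flp_j L185137) q9381, e3 q7642 L127535 q7642, e3 q7643 L127544 q7643, e3 q7644 L127551 q7644, e3 q7645 (flp_j L175010) q8687, e3 q7646 (flp_j L175020) q8688, e3 q7647 L127571 q6118, e3 q7648 L127577 q6119, e3 q7649 L127589 q6120, e3 q7650 L647075 q9377, e3 q7651 L647010 q9291, e3 q7652 L127630 q6123, e3 q7653 L127649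 q6125, e3 q7654 (flp_j L185305) q9389, e3 q7655 (flp_j L646357) q6277, e3 q7656 (flp_j L647264) q6254, e3 q7657 L127685 q7657, e3 q7658 L127692 q7658, e3 q7659 L127696 q7659, e3 q7660 L127778 q6164, e3 q7661 (flp_j L645228) q8021, e3 q7662 L127819 q6167, e3 q7663 L648147 q8018, e3 q7664 L127876 q6171, e3 q7665 L127887 q6172, e3 q7666 L127898 q6136, e3 q7667 (flp_j L185697) q9402, e3 q7668 (flp_j L645409) q8016, e3 q7669 L127958 q6180, e3 q7670 L127968 q6181, e3 q7671 L127979 q6142, e3 q7672 (flp_j L185817) q9407, e3 q7673 (flp_j L185829) q9408, e3 q7674 L128001 q6185, e3 q7675 L128012 q6186, e3 q7676 L128018 q6187, e3 q7677 L128029 q6188, e3 q7678 (flp_j L647956) q8015, e3 q7679 L128065 q6149, trivial⟩ (by decide +kernel)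

theorem ce_j_120 : ∀ r, r < 64 → sm gj (Qf (7680 + r)) = Qf (tab Gen.j (7680 + r)) :=
  edges_tab (sm gj) Qf (tab Gen.j) 7680 [(7680, 9417), (7681, 9418), (7682, 6194), (7683, 6195), (7684, 6153), (7685, 6155), (7686, 9424), (7687, 9425), (7688, 6157), (7689, 6158), (7690, 9429), (7691, 9430), (7692, 6205), (7693, 6206), (7694, 6207), (7695, 8022), (7696, 8130), (7697, 9396), (7698, 6166), (7699, 9440), (7700, 8037), (7701, 6170), (7702, 9443), (7703, 9444), (7704, 9400), (7705, 9401), (7706, 6174), (7707, 8119), (7708, 6514), (7709, 8034), (7710, 6179), (7711, 8166), (7712, 9454), (7713, 9404), (7714, 9405), (7715, 9406), (7716, 6183), (7717, 6184), (7718, 9464), (7719, 9465), (7720, 9411), (7721, 9412), (7722, 9470), (7723, 9414), (7724, 6190), (7725, 9472), (7726, 9473), (7727, 6192), (7728, 6193), (7729, 9477), (7730, 9478), (7731, 9421), (7732, 9422), (7733, 9423), (7734, 7734), (7735, 6199), (7736, 6200), (7737, 9486), (7738, 9392), (7739, 9487), (7740, 6203), (7741, 6204), (7742, 9493), (7743, 9494)]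
    ⟨e3 q7680 (flp_j L185940) q9417, e3 q7681 (flp_j L185951) q9418, e3 q7682 L128086 q6194, e3 q7683 L128096 q6195, e3 q7684 L128105 q6153, e3 q7685 L128125 q6155, e3 q7686 (flp_j L186006) q9424, e3 q7687 (flp_j L186016) q9425, e3 q7688 L128148 q6157, e3 q7689 L128159 q6158, e3 q7690 (flp_j L186046) q9429, e3 q7691 (flp_j L186057) q9430, e3 q7692 L128180 q6205, e3 q7693 L128190 q6206, e3 q7694 L128196 q6207, e3 q7695 (flp_j L645395) q8022, e3 q7696 L642709 q8130, e3 q7697 (flp_j L185543) q9396, e3 q7698 L128363 q6166, e3 q7699 (flp_j L186410) q9440, e3 q7700 (flp_j L648083) q8037, e3 q7701 L128453 q6170, e3 q7702 (flp_j L186526) q9443, e3 q7703 (flp_j L186536) q9444, e3 q7704 (flp_j L185676) q9400, e3 q7705 (flp_j L185687) q9401, e3 q7706 L128494 q6174, e3 q7707 L642573 q8119, e3 q7708 L642541 q6514, e3 q7709 (flp_j L645381) q8034, e3 q7710 L128564 q6179, e3 q7711 (flp_j L645387) q8166, e3 q7712 (flp_j L186685) q9454, e3 q7713 (flp_j L185792) q9404, e3 q7714 (flp_j L185799) q9405, e3 q7715 (flp_j L185809) q9406, e3 q7716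 L128602 q6183, e3 q7717 L128613 q6184, e3 q7718 (flp_j L186746) q9464, e3 q7719 (flp_j L186757) q9465, e3 q7720 (flp_j L185850) q9411, e3 q7721 (flp_j L185861) q9412, e3 q7722 L186804 q9470, e3 q7723 (flp_j L185886) q9414, e3 q7724 L128692 q6190, e3 q7725 (flp_j L186851) q9472, e3 q7726 (flp_j L186862) q9473, e3 q7727 L128716 q6192, e3 q7728 L128725 q6193, e3 q7729 (flp_j L186890) q9477, e3 q7730 (flp_j L186899) q9478, e3 q7731 (flp_j L185970) q9421, e3 q7732 (flp_j L185980) q9422, e3 q7733 (flp_j L185987) q9423, e3 q7734 L128767 q7734, e3 q7735 L128773 q6199, e3 q7736 L128784 q6200, e3 q7737 (flp_j L186963) q9486, e3 q7738 (flp_j L645691) q9392, e3 q7739 (flp_j L186982) q9487, e3 q7740 L128813 q6203, e3 q7741 L128822 q6204, e3 q7742 (flp_j L187026) q9493, e3 q7743 (flp_j L187035) q9494, trivial⟩ (by decide +kernel)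

theorem ce_j_121 : ∀ r, r < 64 → sm gj (Qf (7744 + r)) = Qf (tab Gen.j (7744 + r)) :=
  edges_tab (sm gj) Qf (tab Gen.j) 7744 [(7744, 9495), (7745, 9434), (7746, 9435), (7747, 9436), (7748, 8042), (7749, 6210), (7750, 9504), (7751, 9505), (7752, 7752), (7753, 7753), (7754, 6214), (7755, 6216), (7756, 9511), (7757, 9512), (7758, 6218), (7759, 6219), (7760, 9516), (7761, 9517), (7762, 7762), (7763, 7763), (7764, 7764), (7765, 6224), (7766, 9524), (7767, 9525), (7768, 6226), (7769, 6227), (7770, 9529), (7771, 9530), (7772, 9531), (7773, 7773), (7774, 7774), (7775, 7775), (7776, 7776), (7777, 7777), (7778, 7778), (7779, 6233), (7780, 6234), (7781, 9547), (7782, 9548), (7783, 9551), (7784, 7784), (7785, 6237), (7786, 9553), (7787, 7787), (7788, 6241), (7789, 6242), (7790, 9555), (7791, 9391), (7792, 9556), (7793, 6245), (7794, 6246), (7795, 9562), (7796, 9563), (7797, 9564), (7798, 7798), (7799, 7799), (7800, 7800), (7801, 7801), (7802, 6255), (7803, 6283), (7804, 6260), (7805, 9300), (7806, 6259), (7807, 6258)]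
    ⟨e3 q7744 (flp_j L187040) q9495, e3 q7745 (flp_j L186084) q9434, e3 q7746 (flp_j L186094) q9435, e3 q7747 (flp_j L186102) q9436, e3 q7748 (flp_j L640897) q8042, e3 q7749 L129037 q6210, e3 q7750 (flp_j L187352) q9504, e3 q7751 (flp_j L187364) q9505, e3 q7752 L129062 q7752, e3 q7753 L129081 q7753, e3 q7754 L129098 q6214, e3 q7755 L129184 q6216, e3 q7756 (flp_j L187560) q9511, e3 q7757 (flp_j L187571) q9512, e3 q7758 L129211 q6218, e3 q7759 L129223 q6219, e3 q7760 (flp_j L187606) q9516, e3 q7761 (flp_j L187618) q9517, e3 q7762 L129246 q7762, e3 q7763 L129257 q7763, e3 q7764 L129264 q7764, e3 q7765 L129284 q6224, e3 q7766 (flp_j L187685) q9524, e3 q7767 (flp_j L187695) q9525, e3 q7768 L129306 q6226, e3 q7769 L129317 q6227, e3 q7770 (flp_j L187722) q9529, e3 q7771 (flp_j L187731) q9530, e3 q7772 (flp_j L187742) q9531, e3 q7773 L129347 q7773, e3 q7774 L129354 q7774, e3 q7775 L129363 q7775, e3 q7776 L129369 q7776, e3 q7777 L129379 q7777, e3 q7778 L129384 q7778, e3 q7779 L129391 q6233, e3 q7780 L129401 q6234, e3 q7781 (flp_j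 L187860) q9547, e3 q7782 (flp_j L187870) q9548, e3 q7783 L187902 q9551, e3 q7784 L129437 q7784, e3 q7785 (flp_j L129446) q6237, e3 q7786 (flp_j L187939) q9553, e3 q7787 L129482 q7787, e3 q7788 L129489 q6241, e3 q7789 L129499 q6242, e3 q7790 (flp_j L187987) q9555, e3 q7791 (flp_j L646424) q9391, e3 q7792 (flp_j L188007) q9556, e3 q7793 L129528 q6245, e3 q7794 L129539 q6246, e3 q7795 (flp_j L188052) q9562, e3 q7796 (flp_j L188063) q9563, e3 q7797 (flp_j L188070) q9564, e3 q7798 L129569 q7798, e3 q7799 L129579 q7799, e3 q7800 L129585 q7800, e3 q7801 L129604 q7801, e3 q7802 L129630 q6255, e3 q7803 (flp_j L629092) q6283, e3 q7804 (flp_j L647342) q6260, e3 q7805 L647307 q9300, e3 q7806 (flp_j L647333) q6259, e3 q7807 L129676 q6258, trivial⟩ (by decide +kernel)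

theorem ce_j_122 : ∀ r, r < 64 → sm gj (Qf (7808 + r)) = Qf (tab Gen.j (7808 + r)) :=
  edges_tab (sm gj) Qf (tab Gen.j) 7808 [(7808, 9572), (7809, 9561), (7810, 7810), (7811, 7811), (7812, 6266), (7813, 9575), (7814, 9390), (7815, 6287), (7816, 6270), (7817, 6271), (7818, 9579), (7819, 9580), (7820, 9571), (7821, 7821), (7822, 7822), (7823, 7823), (7824, 6276), (7825, 6282), (7826, 9383), (7827, 6281), (7828, 9578), (7829, 9557), (7830, 7830), (7831, 7831), (7832, 7832), (7833, 7833), (7834, 7834), (7835, 6481), (7836, 6330), (7837, 6335), (7838, 6334), (7839, 6337), (7840, 6340), (7841, 6345), (7842, 6346), (7843, 8762), (7844, 6336), (7845, 6331), (7846, 6383), (7847, 6395), (7848, 8749), (7849, 6386), (7850, 6400), (7851, 6405), (7852, 9021), (7853, 6402), (7854, 9013), (7855, 9593), (7856, 9600), (7857, 7857), (7858, 6357), (7859, 6350), (7860, 7860), (7861, 6415), (7862, 6355), (7863, 9599), (7864, 7864), (7865, 6424), (7866, 7866), (7867, 6360), (7868, 7868), (7869, 6431), (7870, 6364), (7871, 9612)]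
    ⟨e3 q7808 (flp_j L188255) q9572, e3 q7809 (flp_j L647363) q9561, e3 q7810 L129729 q7810, e3 q7811 L129735 q7811, e3 q7812 L129765 q6266, e3 q7813 (flp_j L188356) q9575, e3 q7814 (flp_j L629633) q9390, e3 q7815 L646090 q6287, e3 q7816 L129809 q6270, e3 q7817 L129820 q6271, e3 q7818 (flp_j L188424) q9579, e3 q7819 (flp_j L188435) q9580, e3 q7820 (flp_j L646650) q9571, e3 q7821 L129850 q7821, e3 q7822 L129860 q7822, e3 q7823 L129868 q7823, e3 q7824 L129892 q6276, e3 q7825 L646225 q6282, e3 q7826 (flp_j L646435) q9383, e3 q7827 L646293 q6281, e3 q7828 L646236 q9578, e3 q7829 (flp_j L646637) q9557, e3 q7830 L130003 q7830, e3 q7831 L130011 q7831, e3 q7832 L130015 q7832, e3 q7833 L130190 q7833, e3 q7834 L130499 q7834, e3 q7835 (flp_j L621792) q6481, e3 q7836 L133094 q6330, e3 q7837 (flp_j L622717) q6335, e3 q7838 L133264 q6334, e3 q7839 L133302 q6337, e3 q7840 L133378 q6340, e3 q7841 L133423 q6345, e3 q7842 L133442 q6346, e3 q7843 L621578 q8762, e3 q7844 L622326 q6336, e3 q7845 (flp_j L134091) q6331, e3 q7846 L622624 q6383,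 e3 q7847 (flp_j L622636) q6395, e3 q7848 (flp_j L622521) q8749, e3 q7849 (flp_j L606639) q6386, e3 q7850 L622409 q6400, e3 q7851 L622244 q6405, e3 q7852 L621722 q9021, e3 q7853 L622278 q6402, e3 q7854 L622099 q9013, e3 q7855 (flp_j L193744) q9593, e3 q7856 L196733 q9600, e3 q7857 L135484 q7857, e3 q7858 L624809 q6357, e3 q7859 (flp_j L135494) q6350, e3 q7860 L135768 q7860, e3 q7861 L624676 q6415, e3 q7862 (flp_j L135791) q6355, e3 q7863 (flp_j L614929) q9599, e3 q7864 L135868 q7864, e3 q7865 (flp_j L624772) q6424, e3 q7866 L135900 q7866, e3 q7867 L135918 q6360, e3 q7868 L136028 q7868, e3 q7869 L615214 q6431, e3 q7870 (flp_j L136059) q6364, e3 q7871 (flp_j L197625) q9612, trivial⟩ (by decide +kernel)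

theorem ce_j_123 : ∀ r, r < 64 → sm gj (Qf (7872 + r)) = Qf (tab Gen.j (7872 + r)) :=
  edges_tab (sm gj) Qf (tab Gen.j) 7872 [(7872, 7872), (7873, 7873), (7874, 6426), (7875, 7875), (7876, 7876), (7877, 6371), (7878, 9619), (7879, 7879), (7880, 9622), (7881, 7881), (7882, 6390), (7883, 6396), (7884, 6394), (7885, 6399), (7886, 6403), (7887, 6406), (7888, 6407), (7889, 8999), (7890, 6398), (7891, 6391), (7892, 8814), (7893, 9623), (7894, 8972), (7895, 9047), (7896, 9624), (7897, 8840), (7898, 8774), (7899, 9625), (7900, 8772), (7901, 8832), (7902, 9626), (7903, 9640), (7904, 9642), (7905, 7905), (7906, 6417), (7907, 6409), (7908, 9604), (7909, 6413), (7910, 9647), (7911, 7911), (7912, 7912), (7913, 9641), (7914, 7914), (7915, 6439), (7916, 9609), (7917, 6422), (7918, 9655), (7919, 7919), (7920, 9618), (7921, 9613), (7922, 6428), (7923, 9611), (7924, 9659), (7925, 7925), (7926, 7926), (7927, 9610), (7928, 7928), (7929, 6434), (7930, 9666), (7931, 9668), (7932, 6436), (7933, 9652), (7934, 6437), (7935, 9671)]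
    ⟨e3 q7872 L136079 q7872, e3 q7873 L136088 q7873, e3 q7874 (flp_j L615344) q6426, e3 q7875 L136136 q7875, e3 q7876 L136144 q7876, e3 q7877 L136160 q6371, e3 q7878 (flp_j L197785) q9619, e3 q7879 L136193 q7879, e3 q7880 L197843 q9622, e3 q7881 L136306 q7881, e3 q7882 L136409 q6390, e3 q7883 L622597 q6396, e3 q7884 L136514 q6394, e3 q7885 L136777 q6399, e3 q7886 L136944 q6403, e3 q7887 L137009 q6406, e3 q7888 L137026 q6407, e3 q7889 (flp_j L612456) q8999, e3 q7890 L622401 q6398, e3 q7891 (flp_j L137292) q6391, e3 q7892 (flp_j L622185) q8814, e3 q7893 (flp_j L198264) q9623, e3 q7894 L622609 q8972, e3 q7895 L622256 q9047, e3 q7896 (flp_j L198650) q9624, e3 q7897 L622225 q8840, e3 q7898 (flp_j L621568) q8774, e3 q7899 (flp_j L198895) q9625, e3 q7900 L617564 q8772, e3 q7901 L622113 q8832, e3 q7902 (flp_j L198991) q9626, e3 q7903 L200591 q9640, e3 q7904 L201039 q9642, e3 q7905 L138436 q7905, e3 q7906 L624717 q6417, e3 q7907 (flp_j L138446) q6409, e3 q7908 L615370 q9604, e3 q7909 (flp_j L138648) q6413, e3 q7910 (flp_j L201369)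 q9647, e3 q7911 L138666 q7911, e3 q7912 L138674 q7912, e3 q7913 L616259 q9641, e3 q7914 L138718 q7914, e3 q7915 (flp_j L616400) q6439, e3 q7916 (flp_j L616220) q9609, e3 q7917 (flp_j L139149) q6422, e3 q7918 (flp_j L202097) q9655, e3 q7919 L139182 q7919, e3 q7920 (flp_j L616090) q9618, e3 q7921 L615141 q9613, e3 q7922 L139402 q6428, e3 q7923 L615205 q9611, e3 q7924 (flp_j L202414) q9659, e3 q7925 L139420 q7925, e3 q7926 L139429 q7926, e3 q7927 (flp_j L617277) q9610, e3 q7928 L139491 q7928, e3 q7929 L139511 q6434, e3 q7930 (flp_j L202545) q9666, e3 q7931 L202583 q9668, e3 q7932 (flp_j L139562) q6436, e3 q7933 L616240 q9652, e3 q7934 (flp_j L139745) q6437, e3 q7935 (flp_j L202869) q9671, trivial⟩ (by decide +kernel)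

theorem ce_j_124 : ∀ r, r < 64 → sm gj (Qf (7936 + r)) = Qf (tab Gen.j (7936 + r)) :=
  edges_tab (sm gj) Qf (tab Gen.j) 7936 [(7936, 7936), (7937, 6451), (7938, 9673), (7939, 6445), (7940, 9675), (7941, 6447), (7942, 9678), (7943, 9679), (7944, 7944), (7945, 7945), (7946, 8470), (7947, 6453), (7948, 8478), (7949, 7949), (7950, 8618), (7951, 7951), (7952, 8620), (7953, 6461), (7954, 9687), (7955, 7955), (7956, 6463), (7957, 8642), (7958, 6465), (7959, 9690), (7960, 6467), (7961, 9692), (7962, 6470), (7963, 9693), (7964, 6472), (7965, 9696), (7966, 6474), (7967, 6489), (7968, 6490), (7969, 6493), (7970, 8731), (7971, 6496), (7972, 9452), (7973, 8067), (7974, 8091), (7975, 6520), (7976, 8717), (7977, 9697), (7978, 9698), (7979, 8732), (7980, 8715), (7981, 9699), (7982, 6495), (7983, 9709), (7984, 9711), (7985, 6497), (7986, 6499), (7987, 9713), (7988, 6500), (7989, 6515), (7990, 7990), (7991, 7991), (7992, 6516), (7993, 6517), (7994, 6518), (7995, 7995), (7996, 6519), (7997, 9716), (7998, 9703), (7999, 7999)]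
    ⟨e3 q7936 L139773 q7936, e3 q7937 L616571 q6451, e3 q7938 L203094 q9673, e3 q7939 (flp_j L139936) q6445, e3 q7940 (flp_j L203122) q9675, e3 q7941 L139955 q6447, e3 q7942 (flp_j L203144) q9678, e3 q7943 (flp_j L203152) q9679, e3 q7944 L139974 q7944, e3 q7945 L139989 q7945, e3 q7946 (flp_j L616338) q8470, e3 q7947 L140023 q6453, e3 q7948 (flp_j L616381) q8478, e3 q7949 L140046 q7949, e3 q7950 L616266 q8618, e3 q7951 L140223 q7951, e3 q7952 (flp_j L616643) q8620, e3 q7953 (flp_j L140232) q6461, e3 q7954 (flp_j L203537) q9687, e3 q7955 L140255 q7955, e3 q7956 (flp_j L140256) q6463, e3 q7957 (flp_j L616213) q8642, e3 q7958 (flp_j L140273) q6465, e3 q7959 (flp_j L203587) q9690, e3 q7960 L140294 q6467, e3 q7961 (flp_j L203604) q9692, e3 q7962 (flp_j L140314) q6470, e3 q7963 (flp_j L203618) q9693, e3 q7964 L140338 q6472, e3 q7965 (flp_j L203646) q9696, e3 q7966 L140353 q6474, e3 q7967 L140715 q6489, e3 q7968 L140725 q6490, e3 q7969 L140785 q6493, e3 q7970 L620529 q8731, e3 q7971 L140833 q6496, e3 q7972 L633592 q9452, e3 q7973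 L642165 q8067, e3 q7974 (flp_j L642311) q8091, e3 q7975 L642330 q6520, e3 q7976 (flp_j L620957) q8717, e3 q7977 (flp_j L204219) q9697, e3 q7978 (flp_j L204230) q9698, e3 q7979 (flp_j L621389) q8732, e3 q7980 (flp_j L620660) q8715, e3 q7981 (flp_j L204330) q9699, e3 q7982 L141601 q6495, e3 q7983 (flp_j L205476) q9709, e3 q7984 L205516 q9711, e3 q7985 (flp_j L141649) q6497, e3 q7986 L142053 q6499, e3 q7987 L206066 q9713, e3 q7988 (flp_j L142090) q6500, e3 q7989 L142348 q6515, e3 q7990 L142571 q7990, e3 q7991 L142581 q7991, e3 q7992 L142585 q6516, e3 q7993 L142593 q6517, e3 q7994 L142603 q6518, e3 q7995 L142633 q7995, e3 q7996 L142671 q6519, e3 q7997 (flp_j L206831) q9716, e3 q7998 L642345 q9703, e3 q7999 L143629 q7999, trivial⟩ (by decide +kernel)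

theorem ce_j_125 : ∀ r, r < 64 → sm gj (Qf (8000 + r)) = Qf (tab Gen.j (8000 + r)) :=
  edges_tab (sm gj) Qf (tab Gen.j) 8000 [(8000, 8000), (8001, 8001), (8002, 8002), (8003, 8003), (8004, 8004), (8005, 6531), (8006, 8006), (8007, 8007), (8008, 6584), (8009, 6587), (8010, 6590), (8011, 6591), (8012, 6594), (8013, 7197), (8014, 6597), (8015, 7678), (8016, 7668), (8017, 9718), (8018, 7663), (8019, 9719), (8020, 9720), (8021, 7661), (8022, 7695), (8023, 9721), (8024, 7198), (8025, 7170), (8026, 9722), (8027, 6596), (8028, 9736), (8029, 8029), (8030, 8030), (8031, 8031), (8032, 8032), (8033, 8033), (8034, 7709), (8035, 8035), (8036, 8036), (8037, 7700), (8038, 8038), (8039, 8039), (8040, 8040), (8041, 8041), (8042, 7748), (8043, 8043), (8044, 8044), (8045, 6614), (8046, 9758), (8047, 7252), (8048, 6618), (8049, 9761), (8050, 9762), (8051, 8051), (8052, 8052), (8053, 6622), (8054, 8054), (8055, 8055), (8056, 8056), (8057, 8057), (8058, 7130), (8059, 6626), (8060, 8060), (8061, 8061), (8062, 8062), (8063, 8063)]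
    ⟨e3 q8000 L143643 q8000, e3 q8001 L143663 q8001, e3 q8002 L143694 q8002, e3 q8003 L143735 q8003, e3 q8004 L143911 q8004, e3 q8005 L144666 q6531, e3 q8006 L145834 q8006, e3 q8007 L164524 q8007, e3 q8008 L166502 q6584, e3 q8009 L166532 q6587, e3 q8010 L166556 q6590, e3 q8011 L166568 q6591, e3 q8012 L166596 q6594, e3 q8013 (flp_j L642921) q7197, e3 q8014 L166625 q6597, e3 q8015 L647956 q7678, e3 q8016 L645409 q7668, e3 q8017 (flp_j L241465) q9718, e3 q8018 (flp_j L648147) q7663, e3 q8019 (flp_j L241510) q9719, e3 q8020 (flp_j L241522) q9720, e3 q8021 L645228 q7661, e3 q8022 L645395 q7695, e3 q8023 (flp_j L241568) q9721, e3 q8024 L642989 q7198, e3 q8025 (flp_j L642833) q7170, e3 q8026 (flp_j L241610) q9722, e3 q8027 L166827 q6596, e3 q8028 (flp_j L241941) q9736, e3 q8029 L166858 q8029, e3 q8030 L166884 q8030, e3 q8031 L166889 q8031, e3 q8032 L166900 q8032, e3 q8033 L166919 q8033, e3 q8034 L645381 q7709, e3 q8035 L166947 q8035, e3 q8036 L166973 q8036, e3 q8037 L648083 q7700, e3 q8038 L166994 q8038, e3 q8039 L167005 q8039,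 e3 q8040 L167012 q8040, e3 q8041 L167022 q8041, e3 q8042 L640897 q7748, e3 q8043 L167052 q8043, e3 q8044 L167063 q8044, e3 q8045 L167070 q6614, e3 q8046 (flp_j L242323) q9758, e3 q8047 L642999 q7252, e3 q8048 L167105 q6618, e3 q8049 (flp_j L242361) q9761, e3 q8050 (flp_j L242373) q9762, e3 q8051 L167130 q8051, e3 q8052 L167141 q8052, e3 q8053 L167149 q6622, e3 q8054 L167170 q8054, e3 q8055 L167180 q8055, e3 q8056 L167191 q8056, e3 q8057 L167202 q8057, e3 q8058 L643791 q7130, e3 q8059 (flp_j L167215) q6626, e3 q8060 L167234 q8060, e3 q8061 L167251 q8061, e3 q8062 L167260 q8062, e3 q8063 L167269 q8063, trivial⟩ (by decide +kernel)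

theorem ce_j_126 : ∀ r, r < 64 → sm gj (Qf (8064 + r)) = Qf (tab Gen.j (8064 + r)) :=
  edges_tab (sm gj) Qf (tab Gen.j) 8064 [(8064, 6651), (8065, 6652), (8066, 6653), (8067, 7973), (8068, 6655), (8069, 7140), (8070, 6657), (8071, 6658), (8072, 6638), (8073, 6660), (8074, 6662), (8075, 6663), (8076, 7135), (8077, 6665), (8078, 7139), (8079, 6668), (8080, 9772), (8081, 9773), (8082, 9787), (8083, 9775), (8084, 6654), (8085, 9790), (8086, 9777), (8087, 6656), (8088, 7157), (8089, 7128), (8090, 9778), (8091, 7974), (8092, 9779), (8093, 9797), (8094, 9799), (8095, 9782), (8096, 6664), (8097, 7134), (8098, 9802), (8099, 6667), (8100, 7138), (8101, 7167), (8102, 7126), (8103, 6697), (8104, 6698), (8105, 6699), (8106, 9811), (8107, 6701), (8108, 6702), (8109, 6675), (8110, 9815), (8111, 6705), (8112, 6677), (8113, 9819), (8114, 6708), (8115, 6709), (8116, 6710), (8117, 6711), (8118, 6712), (8119, 7707), (8120, 6714), (8121, 6715), (8122, 6717), (8123, 9834), (8124, 6719), (8125, 6720), (8126, 6721), (8127, 9841)]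
    ⟨e3 q8064 L167347 q6651, e3 q8065 L167359 q6652, e3 q8066 L167369 q6653, e3 q8067 (flp_j L642165) q7973, e3 q8068 L167386 q6655, e3 q8069 (flp_j L644289) q7140, e3 q8070 L167408 q6657, e3 q8071 L167418 q6658, e3 q8072 (flp_j L167422) q6638, e3 q8073 L167450 q6660, e3 q8074 L167475 q6662, e3 q8075 L167490 q6663, e3 q8076 L644946 q7135, e3 q8077 L167508 q6665, e3 q8078 L644387 q7139, e3 q8079 L167543 q6668, e3 q8080 (flp_j L242721) q9772, e3 q8081 (flp_j L242738) q9773, e3 q8082 L243185 q9787, e3 q8083 (flp_j L242760) q9775, e3 q8084 (flp_j L167659) q6654, e3 q8085 L243222 q9790, e3 q8086 (flp_j L242804) q9777, e3 q8087 (flp_j L167688) q6656, e3 q8088 (flp_j L644536) q7157, e3 q8089 (flp_j L644786) q7128, e3 q8090 (flp_j L242867) q9778, e3 q8091 L642311 q7974, e3 q8092 (flp_j L242913) q9779, e3 q8093 L243396 q9797, e3 q8094 L243446 q9799, e3 q8095 (flp_j L242963) q9782, e3 q8096 (flp_j L167829) q6664, e3 q8097 (flp_j L644597) q7134, e3 q8098 L243492 q9802, e3 q8099 (flp_j L167858) q6667, e3 q8100 (flp_j L644481) q7138,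 e3 q8101 L644418 q7167, e3 q8102 L644462 q7126, e3 q8103 L167954 q6697, e3 q8104 L167967 q6698, e3 q8105 L167973 q6699, e3 q8106 L243718 q9811, e3 q8107 L167994 q6701, e3 q8108 L168005 q6702, e3 q8109 (flp_j L168009) q6675, e3 q8110 L243758 q9815, e3 q8111 L168038 q6705, e3 q8112 (flp_j L168040) q6677, e3 q8113 (flp_j L243807) q9819, e3 q8114 L168069 q6708, e3 q8115 L168079 q6709, e3 q8116 L168091 q6710, e3 q8117 L168102 q6711, e3 q8118 L168109 q6712, e3 q8119 (flp_j L642573) q7707, e3 q8120 L168128 q6714, e3 q8121 L168138 q6715, e3 q8122 L168155 q6717, e3 q8123 L243964 q9834, e3 q8124 L168175 q6719, e3 q8125 L168182 q6720, e3 q8126 L168194 q6721, e3 q8127 L244028 q9841, trivial⟩ (by decide +kernel)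

theorem ce_j_127 : ∀ r, r < 64 → sm gj (Qf (8128 + r)) = Qf (tab Gen.j (8128 + r)) :=
  edges_tab (sm gj) Qf (tab Gen.j) 8128 [(8128, 6723), (8129, 6688), (8130, 7696), (8131, 6726), (8132, 9792), (8133, 6692), (8134, 7212), (8135, 6730), (8136, 6731), (8137, 6695), (8138, 9848), (8139, 9804), (8140, 9852), (8141, 9806), (8142, 9807), (8143, 9808), (8144, 9858), (8145, 9810), (8146, 6700), (8147, 9862), (8148, 9813), (8149, 9864), (8150, 6704), (8151, 9866), (8152, 9817), (8153, 9818), (8154, 6707), (8155, 9871), (8156, 9821), (8157, 9822), (8158, 9823), (8159, 9880), (8160, 9825), (8161, 9826), (8162, 9827), (8163, 9887), (8164, 9829), (8165, 6713), (8166, 7711), (8167, 9830), (8168, 9831), (8169, 9895), (8170, 9833), (8171, 6718), (8172, 9899), (8173, 9836), (8174, 9837), (8175, 9838), (8176, 9839), (8177, 9907), (8178, 6722), (8179, 9909), (8180, 9843), (8181, 9844), (8182, 6725), (8183, 9914), (8184, 6727), (8185, 9916), (8186, 6729), (8187, 7211), (8188, 9919), (8189, 7350), (8190, 9847), (8191, 6733)]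
    ⟨e3 q8128 L168210 q6723, e3 q8129 (flp_j L168212) q6688, e3 q8130 (flp_j L642709) q7696, e3 q8131 L168234 q6726, e3 q8132 (flp_j L632046) q9792, e3 q8133 (flp_j L168244) q6692, e3 q8134 L644183 q7212, e3 q8135 L168267 q6730, e3 q8136 L168278 q6731, e3 q8137 L168288 q6695, e3 q8138 (flp_j L244147) q9848, e3 q8139 (flp_j L243652) q9804, e3 q8140 L244297 q9852, e3 q8141 (flp_j L243676) q9806, e3 q8142 (flp_j L243683) q9807, e3 q8143 (flp_j L243696) q9808, e3 q8144 L244365 q9858, e3 q8145 (flp_j L243716) q9810, e3 q8146 (flp_j L168445) q6700, e3 q8147 (flp_j L244404) q9862, e3 q8148 (flp_j L243744) q9813, e3 q8149 L244418 q9864, e3 q8150 (flp_j L168484) q6704, e3 q8151 (flp_j L244447) q9866, e3 q8152 (flp_j L243783) q9817, e3 q8153 (flp_j L243795) q9818, e3 q8154 L168526 q6707, e3 q8155 (flp_j L244490) q9871, e3 q8156 (flp_j L243829) q9821, e3 q8157 (flp_j L243841) q9822, e3 q8158 (flp_j L243849) q9823, e3 q8159 L244567 q9880, e3 q8160 (flp_j L243869) q9825, e3 q8161 (flp_j L243876) q9826, e3 q8162 (flp_j L243888) q9827,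 e3 q8163 L244627 q9887, e3 q8164 (flp_j L243906) q9829, e3 q8165 (flp_j L168618) q6713, e3 q8166 L645387 q7711, e3 q8167 (flp_j L243933) q9830, e3 q8168 (flp_j L243941) q9831, e3 q8169 L244701 q9895, e3 q8170 (flp_j L243962) q9833, e3 q8171 (flp_j L168668) q6718, e3 q8172 (flp_j L244743) q9899, e3 q8173 (flp_j L243989) q9836, e3 q8174 (flp_j L244000) q9837, e3 q8175 (flp_j L244007) q9838, e3 q8176 (flp_j L244019) q9839, e3 q8177 L244801 q9907, e3 q8178 (flp_j L168727) q6722, e3 q8179 (flp_j L244825) q9909, e3 q8180 (flp_j L244050) q9843, e3 q8181 (flp_j L244060) q9844, e3 q8182 L168761 q6725, e3 q8183 (flp_j L244859) q9914, e3 q8184 (flp_j L168771) q6727, e3 q8185 (flp_j L244879) q9916, e3 q8186 L168798 q6729, e3 q8187 L644208 q7211, e3 q8188 (flp_j L244911) q9919, e3 q8189 L641304 q7350, e3 q8190 (flp_j L244137) q9847, e3 q8191 L168835 q6733, trivial⟩ (by decide +kernel)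

theorem ce_j_128 : ∀ r, r < 64 → sm gj (Qf (8192 + r)) = Qf (tab Gen.j (8192 + r)) :=
  edges_tab (sm gj) Qf (tab Gen.j) 8192 [(8192, 8192), (8193, 9927), (8194, 8194), (8195, 6735), (8196, 9931), (8197, 8197), (8198, 8198), (8199, 8199), (8200, 9937), (8201, 6739), (8202, 9939), (8203, 8203), (8204, 8204), (8205, 6742), (8206, 9944), (8207, 6744), (8208, 9946), (8209, 6746), (8210, 9949), (8211, 9950), (8212, 8212), (8213, 8213), (8214, 6750), (8215, 8215), (8216, 9959), (8217, 8217), (8218, 8218), (8219, 8219), (8220, 8220), (8221, 9968), (8222, 8222), (8223, 6754), (8224, 9972), (8225, 8225), (8226, 8226), (8227, 8227), (8228, 8228), (8229, 9980), (8230, 6758), (8231, 9982), (8232, 8232), (8233, 8233), (8234, 6761), (8235, 9987), (8236, 9989), (8237, 8237), (8238, 9993), (8239, 6764), (8240, 9995), (8241, 8241), (8242, 8242), (8243, 6767), (8244, 10001), (8245, 10002), (8246, 8246), (8247, 8247), (8248, 8248), (8249, 8249), (8250, 8250), (8251, 6772), (8252, 10012), (8253, 6774), (8254, 10015), (8255, 10016)]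
    ⟨e3 q8192 L168960 q8192, e3 q8193 L245186 q9927, e3 q8194 L168985 q8194, e3 q8195 (flp_j L168986) q6735, e3 q8196 (flp_j L245234) q9931, e3 q8197 L169010 q8197, e3 q8198 L169021 q8198, e3 q8199 L169040 q8199, e3 q8200 L245299 q9937, e3 q8201 (flp_j L169050) q6739, e3 q8202 (flp_j L245323) q9939, e3 q8203 L169074 q8203, e3 q8204 L169085 q8204, e3 q8205 L169093 q6742, e3 q8206 (flp_j L245366) q9944, e3 q8207 (flp_j L169105) q6744, e3 q8208 (flp_j L245388) q9946, e3 q8209 L169132 q6746, e3 q8210 (flp_j L245413) q9949, e3 q8211 (flp_j L245425) q9950, e3 q8212 L169158 q8212, e3 q8213 L169170 q8213, e3 q8214 L169178 q6750, e3 q8215 L169189 q8215, e3 q8216 L245507 q9959, e3 q8217 L169209 q8217, e3 q8218 L169216 q8218, e3 q8219 L169227 q8219, e3 q8220 L169234 q8220, e3 q8221 L245596 q9968, e3 q8222 L169255 q8222, e3 q8223 (flp_j L169256) q6754, e3 q8224 (flp_j L245640) q9972, e3 q8225 L169278 q8225, e3 q8226 L169288 q8226, e3 q8227 L169293 q8227, e3 q8228 L169303 q8228, e3 q8229 L245695 q9980, e3 q8230 (flp_j L169312) q6758,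 e3 q8231 (flp_j L245720) q9982, e3 q8232 L169337 q8232, e3 q8233 L169348 q8233, e3 q8234 L169355 q6761, e3 q8235 (flp_j L245763) q9987, e3 q8236 L245774 q9989, e3 q8237 L169380 q8237, e3 q8238 L245809 q9993, e3 q8239 (flp_j L169389) q6764, e3 q8240 (flp_j L245836) q9995, e3 q8241 L169414 q8241, e3 q8242 L169425 q8242, e3 q8243 L169433 q6767, e3 q8244 (flp_j L245882) q10001, e3 q8245 (flp_j L245892) q10002, e3 q8246 L169454 q8246, e3 q8247 L169464 q8247, e3 q8248 L169471 q8248, e3 q8249 L169481 q8249, e3 q8250 L169486 q8250, e3 q8251 (flp_j L169488) q6772, e3 q8252 (flp_j L245970) q10012, e3 q8253 L169510 q6774, e3 q8254 (flp_j L245994) q10015, e3 q8255 (flp_j L246004) q10016, trivial⟩ (by decide +kernel)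

theorem ce_j_129 : ∀ r, r < 64 → sm gj (Qf (8256 + r)) = Qf (tab Gen.j (8256 + r)) :=
  edges_tab (sm gj) Qf (tab Gen.j) 8256 [(8256, 8256), (8257, 8257), (8258, 6778), (8259, 7319), (8260, 6780), (8261, 10023), (8262, 10024), (8263, 6782), (8264, 6783), (8265, 10028), (8266, 10029), (8267, 8267), (8268, 8268), (8269, 8269), (8270, 6839), (8271, 6840), (8272, 6841), (8273, 10043), (8274, 6843), (8275, 6844), (8276, 6845), (8277, 10048), (8278, 6847), (8279, 6848), (8280, 6792), (8281, 10051), (8282, 6851), (8283, 6794), (8284, 10055), (8285, 6854), (8286, 6855), (8287, 6856), (8288, 6857), (8289, 6858), (8290, 10066), (8291, 6860), (8292, 6861), (8293, 6801), (8294, 6863), (8295, 10072), (8296, 6865), (8297, 6866), (8298, 6867), (8299, 10079), (8300, 6869), (8301, 6805), (8302, 10083), (8303, 6872), (8304, 10085), (8305, 6809), (8306, 10087), (8307, 6876), (8308, 6877), (8309, 6812), (8310, 10092), (8311, 6880), (8312, 6881), (8313, 6882), (8314, 10100), (8315, 6884), (8316, 6885), (8317, 6886), (8318, 10106), (8319, 6888)]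
    ⟨e3 q8256 L169531 q8256, e3 q8257 L169541 q8257, e3 q8258 L169547 q6778, e3 q8259 L169556 q7319, e3 q8260 L169565 q6780, e3 q8261 (flp_j L246057) q10023, e3 q8262 (flp_j L246067) q10024, e3 q8263 L169588 q6782, e3 q8264 L169599 q6783, e3 q8265 (flp_j L246098) q10028, e3 q8266 (flp_j L246109) q10029, e3 q8267 L169622 q8267, e3 q8268 L169633 q8268, e3 q8269 L169639 q8269, e3 q8270 L169647 q6839, e3 q8271 L169658 q6840, e3 q8272 L169668 q6841, e3 q8273 L246232 q10043, e3 q8274 L169689 q6843, e3 q8275 L169699 q6844, e3 q8276 L169705 q6845, e3 q8277 L246307 q10048, e3 q8278 L169724 q6847, e3 q8279 L169736 q6848, e3 q8280 (flp_j L169739) q6792, e3 q8281 L246345 q10051, e3 q8282 L169766 q6851, e3 q8283 (flp_j L169768) q6794, e3 q8284 (flp_j L246389) q10055, e3 q8285 L169795 q6854, e3 q8286 L169804 q6855, e3 q8287 L169816 q6856, e3 q8288 L169829 q6857, e3 q8289 L169836 q6858, e3 q8290 L246497 q10066, e3 q8291 L169860 q6860, e3 q8292 L169870 q6861, e3 q8293 (flp_j L169874) q6801, e3 q8294 L169890 q6863, e3 q8295 L246556 q10072,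 e3 q8296 L169910 q6865, e3 q8297 L169915 q6866, e3 q8298 L169925 q6867, e3 q8299 L246615 q10079, e3 q8300 L169946 q6869, e3 q8301 (flp_j L169948) q6805, e3 q8302 (flp_j L246662) q10083, e3 q8303 L169972 q6872, e3 q8304 L246673 q10085, e3 q8305 (flp_j L169985) q6809, e3 q8306 (flp_j L246697) q10087, e3 q8307 L170007 q6876, e3 q8308 L170017 q6877, e3 q8309 L170027 q6812, e3 q8310 (flp_j L246737) q10092, e3 q8311 L170043 q6880, e3 q8312 L170053 q6881, e3 q8313 L170061 q6882, e3 q8314 L246814 q10100, e3 q8315 L170081 q6884, e3 q8316 L170088 q6885, e3 q8317 L170101 q6886, e3 q8318 L246883 q10106, e3 q8319 L170120 q6888, trivial⟩ (by decide +kernel)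

theorem ce_j_130 : ∀ r, r < 64 → sm gj (Qf (8320 + r)) = Qf (tab Gen.j (8320 + r)) :=
  edges_tab (sm gj) Qf (tab Gen.j) 8320 [(8320, 6818), (8321, 10110), (8322, 6891), (8323, 6892), (8324, 10115), (8325, 6894), (8326, 6823), (8327, 10119), (8328, 6897), (8329, 6898), (8330, 6899), (8331, 6900), (8332, 10127), (8333, 6827), (8334, 10129), (8335, 6904), (8336, 6905), (8337, 6830), (8338, 10134), (8339, 6832), (8340, 9869), (8341, 6834), (8342, 7419), (8343, 10137), (8344, 6913), (8345, 6914), (8346, 6838), (8347, 10036), (8348, 10037), (8349, 10038), (8350, 10039), (8351, 10149), (8352, 10041), (8353, 10042), (8354, 6842), (8355, 10040), (8356, 10147), (8357, 10044), (8358, 10045), (8359, 10046), (8360, 10143), (8361, 10047), (8362, 6846), (8363, 10162), (8364, 10050), (8365, 10164), (8366, 6850), (8367, 10166), (8368, 10053), (8369, 10054), (8370, 6853), (8371, 10171), (8372, 10057), (8373, 10058), (8374, 10059), (8375, 10179), (8376, 10061), (8377, 10062), (8378, 10063), (8379, 10185), (8380, 10065), (8381, 6859), (8382,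 10189), (8383, 10068)]
    ⟨e3 q8320 (flp_j L170122) q6818, e3 q8321 (flp_j L246932) q10110, e3 q8322 L170149 q6891, e3 q8323 L170155 q6892, e3 q8324 L246965 q10115, e3 q8325 L170173 q6894, e3 q8326 (flp_j L170175) q6823, e3 q8327 (flp_j L247004) q10119, e3 q8328 L170194 q6897, e3 q8329 L170204 q6898, e3 q8330 L170210 q6899, e3 q8331 L170221 q6900, e3 q8332 L247060 q10127, e3 q8333 (flp_j L170231) q6827, e3 q8334 (flp_j L247085) q10129, e3 q8335 L170254 q6904, e3 q8336 L170266 q6905, e3 q8337 L170275 q6830, e3 q8338 (flp_j L247130) q10134, e3 q8339 (flp_j L170286) q6832, e3 q8340 L644147 q9869, e3 q8341 L170308 q6834, e3 q8342 (flp_j L637577) q7419, e3 q8343 (flp_j L247181) q10137, e3 q8344 L170330 q6913, e3 q8345 L170341 q6914, e3 q8346 L170350 q6838, e3 q8347 (flp_j L246165) q10036, e3 q8348 (flp_j L246177) q10037, e3 q8349 (flp_j L246188) q10038, e3 q8350 (flp_j L246195) q10039, e3 q8351 L247304 q10149, e3 q8352 (flp_j L246216) q10041, e3 q8353 (flp_j L246229) q10042, e3 q8354 (flp_j L170416) q6842, e3 q8355 (flp_j L614056)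 q10040, e3 q8356 (flp_j L614308) q10147, e3 q8357 (flp_j L246269) q10044, e3 q8358 (flp_j L246275) q10045, e3 q8359 (flp_j L246287) q10046, e3 q8360 (flp_j L614338) q10143, e3 q8361 (flp_j L246305) q10047, e3 q8362 (flp_j L170483) q6846, e3 q8363 (flp_j L247457) q10162, e3 q8364 (flp_j L246334) q10050, e3 q8365 L247472 q10164, e3 q8366 (flp_j L170520) q6850, e3 q8367 (flp_j L247497) q10166, e3 q8368 (flp_j L246367) q10053, e3 q8369 (flp_j L246379) q10054, e3 q8370 L170557 q6853, e3 q8371 (flp_j L247540) q10171, e3 q8372 (flp_j L246409) q10057, e3 q8373 (flp_j L246421) q10058, e3 q8374 (flp_j L246429) q10059, e3 q8375 L247617 q10179, e3 q8376 (flp_j L246453) q10061, e3 q8377 (flp_j L246460) q10062, e3 q8378 (flp_j L246472) q10063, e3 q8379 L247684 q10185, e3 q8380 (flp_j L246495) q10065, e3 q8381 (flp_j L170656) q6859, e3 q8382 (flp_j L247729) q10189, e3 q8383 (flp_j L246524) q10068, trivial⟩ (by decide +kernel)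

theorem ce_j_131 : ∀ r, r < 64 → sm gj (Qf (8384 + r)) = Qf (tab Gen.j (8384 + r)) :=
  edges_tab (sm gj) Qf (tab Gen.j) 8384 [(8384, 10069), (8385, 10194), (8386, 10071), (8387, 6864), (8388, 10198), (8389, 10074), (8390, 10075), (8391, 10076), (8392, 10077), (8393, 10206), (8394, 6868), (8395, 10208), (8396, 10081), (8397, 10082), (8398, 6871), (8399, 10213), (8400, 6873), (8401, 10215), (8402, 6875), (8403, 10218), (8404, 10219), (8405, 10090), (8406, 10091), (8407, 6879), (8408, 10093), (8409, 10228), (8410, 10095), (8411, 10096), (8412, 10097), (8413, 10234), (8414, 10099), (8415, 6883), (8416, 10238), (8417, 10102), (8418, 10103), (8419, 10104), (8420, 10244), (8421, 6887), (8422, 10246), (8423, 10108), (8424, 10109), (8425, 6890), (8426, 10251), (8427, 10253), (8428, 10113), (8429, 10257), (8430, 6893), (8431, 10259), (8432, 10117), (8433, 10118), (8434, 6896), (8435, 10265), (8436, 10266), (8437, 10122), (8438, 10123), (8439, 10124), (8440, 10125), (8441, 10126), (8442, 6901), (8443, 10276), (8444, 6903), (8445,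 10279), (8446, 10280), (8447, 10132)]
    ⟨e3 q8384 (flp_j L246532) q10069, e3 q8385 L247766 q10194, e3 q8386 (flp_j L246554) q10071, e3 q8387 (flp_j L170709) q6864, e3 q8388 (flp_j L247802) q10198, e3 q8389 (flp_j L246577) q10074, e3 q8390 (flp_j L246586) q10075, e3 q8391 (flp_j L246593) q10076, e3 q8392 (flp_j L246603) q10077, e3 q8393 L247850 q10206, e3 q8394 (flp_j L170763) q6868, e3 q8395 (flp_j L247877) q10208, e3 q8396 (flp_j L246640) q10081, e3 q8397 (flp_j L246651) q10082, e3 q8398 L170803 q6871, e3 q8399 (flp_j L247915) q10213, e3 q8400 (flp_j L170815) q6873, e3 q8401 (flp_j L247936) q10215, e3 q8402 L170839 q6875, e3 q8403 (flp_j L247960) q10218, e3 q8404 (flp_j L247968) q10219, e3 q8405 (flp_j L246719) q10090, e3 q8406 (flp_j L246729) q10091, e3 q8407 L170874 q6879, e3 q8408 (flp_j L246746) q10093, e3 q8409 L248028 q10228, e3 q8410 (flp_j L246764) q10095, e3 q8411 (flp_j L246782) q10096, e3 q8412 (flp_j L246790) q10097, e3 q8413 L248109 q10234, e3 q8414 (flp_j L246812) q10099, e3 q8415 (flp_j L170942) q6883, e3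 q8416 (flp_j L248151) q10238, e3 q8417 (flp_j L246839) q10102, e3 q8418 (flp_j L246851) q10103, e3 q8419 (flp_j L246872) q10104, e3 q8420 L248215 q10244, e3 q8421 (flp_j L171006) q6887, e3 q8422 (flp_j L248243) q10246, e3 q8423 (flp_j L246909) q10108, e3 q8424 (flp_j L246922) q10109, e3 q8425 L171048 q6890, e3 q8426 (flp_j L248289) q10251, e3 q8427 L248298 q10253, e3 q8428 (flp_j L246956) q10113, e3 q8429 L248322 q10257, e3 q8430 (flp_j L171081) q6893, e3 q8431 (flp_j L248346) q10259, e3 q8432 (flp_j L246985) q10117, e3 q8433 (flp_j L246995) q10118, e3 q8434 L171113 q6896, e3 q8435 (flp_j L248380) q10265, e3 q8436 (flp_j L248390) q10266, e3 q8437 (flp_j L247023) q10122, e3 q8438 (flp_j L247033) q10123, e3 q8439 (flp_j L247040) q10124, e3 q8440 (flp_j L247051) q10125, e3 q8441 (flp_j L247057) q10126, e3 q8442 (flp_j L171163) q6901, e3 q8443 (flp_j L248464) q10276, e3 q8444 L171188 q6903, e3 q8445 (flp_j L248489) q10279, e3 q8446 (flp_j L248499) q10280, e3 q8447 (flp_j L247108) q10132, trivial⟩ (by decide +kernel)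

theorem ce_j_132 : ∀ r, r < 64 → sm gj (Qf (8448 + r)) = Qf (tab Gen.j (8448 + r)) :=
  edges_tab (sm gj) Qf (tab Gen.j) 8448 [(8448, 10133), (8449, 6907), (8450, 7459), (8451, 6909), (8452, 10287), (8453, 10288), (8454, 6911), (8455, 6912), (8456, 7417), (8457, 10292), (8458, 10139), (8459, 10140), (8460, 10141), (8461, 8461), (8462, 8462), (8463, 10158), (8464, 8464), (8465, 8465), (8466, 8466), (8467, 6919), (8468, 10306), (8469, 8469), (8470, 7946), (8471, 8471), (8472, 6924), (8473, 10311), (8474, 8474), (8475, 8475), (8476, 8476), (8477, 8477), (8478, 7948), (8479, 6928), (8480, 10320), (8481, 8481), (8482, 6931), (8483, 10322), (8484, 6933), (8485, 10323), (8486, 6935), (8487, 10326), (8488, 10327), (8489, 8489), (8490, 8490), (8491, 6939), (8492, 8492), (8493, 10334), (8494, 8494), (8495, 8495), (8496, 10338), (8497, 8497), (8498, 6943), (8499, 10342), (8500, 8500), (8501, 8501), (8502, 8502), (8503, 10348), (8504, 6947), (8505, 10350), (8506, 8506), (8507, 6950), (8508, 10352), (8509, 10354), (8510, 8510), (8511,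 10358)]
    ⟨e3 q8448 (flp_j L247120) q10133, e3 q8449 L171228 q6907, e3 q8450 L171236 q7459, e3 q8451 L171245 q6909, e3 q8452 (flp_j L248553) q10287, e3 q8453 (flp_j L248563) q10288, e3 q8454 L171267 q6911, e3 q8455 L171276 q6912, e3 q8456 L637673 q7417, e3 q8457 (flp_j L248604) q10292, e3 q8458 (flp_j L247203) q10139, e3 q8459 (flp_j L247214) q10140, e3 q8460 (flp_j L247222) q10141, e3 q8461 L171321 q8461, e3 q8462 L171330 q8462, e3 q8463 (flp_j L613968) q10158, e3 q8464 L171356 q8464, e3 q8465 L171361 q8465, e3 q8466 L171372 q8466, e3 q8467 (flp_j L171393) q6919, e3 q8468 (flp_j L248832) q10306, e3 q8469 L171420 q8469, e3 q8470 L616338 q7946, e3 q8471 L171447 q8471, e3 q8472 (flp_j L171448) q6924, e3 q8473 (flp_j L248909) q10311, e3 q8474 L171468 q8474, e3 q8475 L171479 q8475, e3 q8476 L171486 q8476, e3 q8477 L171496 q8477, e3 q8478 L616381 q7948, e3 q8479 (flp_j L171505) q6928, e3 q8480 (flp_j L248992) q10320, e3 q8481 L171540 q8481, e3 q8482 L171547 q6931, e3 q8483 (flp_j L249038) q10322, e3 q8484 (flp_j L171560) q6933,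 e3 q8485 (flp_j L249056) q10323, e3 q8486 L171583 q6935, e3 q8487 (flp_j L249078) q10326, e3 q8488 (flp_j L249091) q10327, e3 q8489 L171609 q8489, e3 q8490 L171621 q8490, e3 q8491 L171629 q6939, e3 q8492 L171637 q8492, e3 q8493 L249171 q10334, e3 q8494 L171657 q8494, e3 q8495 L171671 q8495, e3 q8496 L249256 q10338, e3 q8497 L171706 q8497, e3 q8498 (flp_j L171707) q6943, e3 q8499 (flp_j L249304) q10342, e3 q8500 L171731 q8500, e3 q8501 L171741 q8501, e3 q8502 L171758 q8502, e3 q8503 L249363 q10348, e3 q8504 (flp_j L171770) q6947, e3 q8505 (flp_j L249391) q10350, e3 q8506 L171810 q8506, e3 q8507 L171819 q6950, e3 q8508 (flp_j L249438) q10352, e3 q8509 L249452 q10354, e3 q8510 L171846 q8510, e3 q8511 L249486 q10358, trivial⟩ (by decide +kernel)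

theorem ce_j_133 : ∀ r, r < 64 → sm gj (Qf (8512 + r)) = Qf (tab Gen.j (8512 + r)) :=
  edges_tab (sm gj) Qf (tab Gen.j) 8512 [(8512, 6953), (8513, 10360), (8514, 8514), (8515, 8515), (8516, 6956), (8517, 10366), (8518, 10367), (8519, 8519), (8520, 8520), (8521, 8521), (8522, 8522), (8523, 8523), (8524, 6961), (8525, 10377), (8526, 6963), (8527, 10380), (8528, 10381), (8529, 8529), (8530, 8530), (8531, 6967), (8532, 7503), (8533, 6969), (8534, 10387), (8535, 10388), (8536, 6971), (8537, 6972), (8538, 10392), (8539, 10393), (8540, 8540), (8541, 8541), (8542, 8542), (8543, 8543), (8544, 10403), (8545, 8545), (8546, 6977), (8547, 10407), (8548, 8548), (8549, 10410), (8550, 8550), (8551, 10414), (8552, 6981), (8553, 10416), (8554, 8554), (8555, 8555), (8556, 6984), (8557, 10422), (8558, 10423), (8559, 8559), (8560, 8560), (8561, 8561), (8562, 6988), (8563, 10429), (8564, 6990), (8565, 10432), (8566, 10433), (8567, 8567), (8568, 8568), (8569, 6994), (8570, 10439), (8571, 6995), (8572, 10441), (8573, 8573), (8574, 8574), (8575,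 6997)]
    ⟨e3 q8512 (flp_j L171855) q6953, e3 q8513 (flp_j L249509) q10360, e3 q8514 L171876 q8514, e3 q8515 L171885 q8515, e3 q8516 L171893 q6956, e3 q8517 (flp_j L249547) q10366, e3 q8518 (flp_j L249555) q10367, e3 q8519 L171910 q8519, e3 q8520 L171918 q8520, e3 q8521 L171923 q8521, e3 q8522 L171931 q8522, e3 q8523 L171934 q8523, e3 q8524 (flp_j L171938) q6961, e3 q8525 (flp_j L249624) q10377, e3 q8526 L171963 q6963, e3 q8527 (flp_j L249651) q10380, e3 q8528 (flp_j L249662) q10381, e3 q8529 L171987 q8529, e3 q8530 L171998 q8530, e3 q8531 L172004 q6967, e3 q8532 L172016 q7503, e3 q8533 L172023 q6969, e3 q8534 (flp_j L249720) q10387, e3 q8535 (flp_j L249729) q10388, e3 q8536 L172047 q6971, e3 q8537 L172057 q6972, e3 q8538 (flp_j L249762) q10392, e3 q8539 (flp_j L249772) q10393, e3 q8540 L172079 q8540, e3 q8541 L172089 q8541, e3 q8542 L172095 q8542, e3 q8543 L172106 q8543, e3 q8544 L249852 q10403, e3 q8545 L172124 q8545, e3 q8546 (flp_j L172125) q6977, e3 q8547 (flp_j L249892) q10407, e3 q8548 L172154 q8548, e3 q8549 L249978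 q10410, e3 q8550 L172194 q8550, e3 q8551 L250016 q10414, e3 q8552 (flp_j L172203) q6981, e3 q8553 (flp_j L250043) q10416, e3 q8554 L172228 q8554, e3 q8555 L172239 q8555, e3 q8556 L172247 q6984, e3 q8557 (flp_j L250091) q10422, e3 q8558 (flp_j L250102) q10423, e3 q8559 L172270 q8559, e3 q8560 L172281 q8560, e3 q8561 L172306 q8561, e3 q8562 (flp_j L172308) q6988, e3 q8563 (flp_j L250191) q10429, e3 q8564 L172334 q6990, e3 q8565 (flp_j L250219) q10432, e3 q8566 (flp_j L250232) q10433, e3 q8567 L172362 q8567, e3 q8568 L172375 q8568, e3 q8569 L172383 q6994, e3 q8570 L250290 q10439, e3 q8571 (flp_j L172393) q6995, e3 q8572 (flp_j L250312) q10441, e3 q8573 L172412 q8573, e3 q8574 L172422 q8574, e3 q8575 (flp_j L172423) q6997, trivial⟩ (by decide +kernel)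

theorem ce_j_134 : ∀ r, r < 64 → sm gj (Qf (8576 + r)) = Qf (tab Gen.j (8576 + r)) :=
  edges_tab (sm gj) Qf (tab Gen.j) 8576 [(8576, 10448), (8577, 6999), (8578, 10451), (8579, 10452), (8580, 8580), (8581, 8581), (8582, 8582), (8583, 7003), (8584, 7004), (8585, 10462), (8586, 10463), (8587, 8587), (8588, 8588), (8589, 8589), (8590, 10470), (8591, 8591), (8592, 8592), (8593, 7555), (8594, 7011), (8595, 10474), (8596, 10475), (8597, 7013), (8598, 7014), (8599, 10479), (8600, 10480), (8601, 8601), (8602, 8602), (8603, 8603), (8604, 7566), (8605, 7020), (8606, 7021), (8607, 10489), (8608, 10490), (8609, 10491), (8610, 7024), (8611, 7025), (8612, 10497), (8613, 10498), (8614, 10499), (8615, 8615), (8616, 8616), (8617, 8617), (8618, 7950), (8619, 7036), (8620, 7952), (8621, 8621), (8622, 7038), (8623, 10509), (8624, 7040), (8625, 10511), (8626, 8626), (8627, 7042), (8628, 7586), (8629, 7045), (8630, 10515), (8631, 7047), (8632, 10518), (8633, 8633), (8634, 7592), (8635, 7051), (8636, 7052), (8637, 10522), (8638, 10523), (8639,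 10524)]
    ⟨e3 q8576 (flp_j L250362) q10448, e3 q8577 L172444 q6999, e3 q8578 (flp_j L250381) q10451, e3 q8579 (flp_j L250390) q10452, e3 q8580 L172462 q8580, e3 q8581 L172467 q8581, e3 q8582 L172476 q8582, e3 q8583 L172480 q7003, e3 q8584 L172489 q7004, e3 q8585 (flp_j L250455) q10462, e3 q8586 (flp_j L250464) q10463, e3 q8587 L172507 q8587, e3 q8588 L172516 q8588, e3 q8589 L172522 q8589, e3 q8590 L250504 q10470, e3 q8591 L172537 q8591, e3 q8592 L172543 q8592, e3 q8593 L172552 q7555, e3 q8594 L172560 q7011, e3 q8595 (flp_j L250546) q10474, e3 q8596 (flp_j L250556) q10475, e3 q8597 L172585 q7013, e3 q8598 L172597 q7014, e3 q8599 (flp_j L250589) q10479, e3 q8600 (flp_j L250601) q10480, e3 q8601 L172620 q8601, e3 q8602 L172632 q8602, e3 q8603 L172640 q8603, e3 q8604 L172649 q7566, e3 q8605 L172656 q7020, e3 q8606 L172665 q7021, e3 q8607 (flp_j L250681) q10489, e3 q8608 (flp_j L250688) q10490, e3 q8609 (flp_j L250700) q10491, e3 q8610 L172698 q7024, e3 q8611 L172709 q7025, e3 q8612 (flp_j L250750) q10497, e3 q8613 (flp_j L250761)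 q10498, e3 q8614 (flp_j L250768) q10499, e3 q8615 L172739 q8615, e3 q8616 L172750 q8616, e3 q8617 L172759 q8617, e3 q8618 (flp_j L616266) q7950, e3 q8619 L173497 q7036, e3 q8620 L616643 q7952, e3 q8621 L173531 q8621, e3 q8622 (flp_j L173787) q7038, e3 q8623 L252504 q10509, e3 q8624 (flp_j L173872) q7040, e3 q8625 (flp_j L252525) q10511, e3 q8626 L173901 q8626, e3 q8627 (flp_j L173904) q7042, e3 q8628 L174058 q7586, e3 q8629 L174067 q7045, e3 q8630 (flp_j L252786) q10515, e3 q8631 L174093 q7047, e3 q8632 (flp_j L252825) q10518, e3 q8633 L174122 q8633, e3 q8634 L174149 q7592, e3 q8635 L174156 q7051, e3 q8636 L174165 q7052, e3 q8637 (flp_j L252904) q10522, e3 q8638 (flp_j L252910) q10523, e3 q8639 (flp_j L252920) q10524, trivial⟩ (by decide +kernel)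

theorem ce_j_135 : ∀ r, r < 64 → sm gj (Qf (8640 + r)) = Qf (tab Gen.j (8640 + r)) :=
  edges_tab (sm gj) Qf (tab Gen.j) 8640 [(8640, 7055), (8641, 7056), (8642, 7957), (8643, 10506), (8644, 10527), (8645, 8645), (8646, 8646), (8647, 8647), (8648, 10534), (8649, 7060), (8650, 10536), (8651, 8651), (8652, 7062), (8653, 7611), (8654, 7065), (8655, 10540), (8656, 7067), (8657, 10543), (8658, 8658), (8659, 10546), (8660, 7069), (8661, 10549), (8662, 7071), (8663, 10552), (8664, 10553), (8665, 8665), (8666, 8666), (8667, 7625), (8668, 7075), (8669, 10559), (8670, 7077), (8671, 10562), (8672, 8672), (8673, 7631), (8674, 7081), (8675, 7082), (8676, 10567), (8677, 10568), (8678, 10569), (8679, 7085), (8680, 7086), (8681, 10575), (8682, 10576), (8683, 10577), (8684, 8684), (8685, 8685), (8686, 8686), (8687, 7645), (8688, 7646), (8689, 7093), (8690, 7094), (8691, 7095), (8692, 10587), (8693, 10586), (8694, 10585), (8695, 10584), (8696, 10588), (8697, 7098), (8698, 7099), (8699, 7100), (8700, 10594), (8701, 10595), (8702, 10596), (8703,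 8703)]
    ⟨e3 q8640 L174196 q7055, e3 q8641 L174205 q7056, e3 q8642 L616213 q7957, e3 q8643 L616001 q10506, e3 q8644 (flp_j L252982) q10527, e3 q8645 L174232 q8645, e3 q8646 L174241 q8646, e3 q8647 L174249 q8647, e3 q8648 L253268 q10534, e3 q8649 (flp_j L174404) q7060, e3 q8650 (flp_j L253290) q10536, e3 q8651 L174435 q8651, e3 q8652 (flp_j L174436) q7062, e3 q8653 L174572 q7611, e3 q8654 L174582 q7065, e3 q8655 (flp_j L253534) q10540, e3 q8656 L174609 q7067, e3 q8657 (flp_j L253580) q10543, e3 q8658 L174644 q8658, e3 q8659 L253644 q10546, e3 q8660 (flp_j L174672) q7069, e3 q8661 (flp_j L253672) q10549, e3 q8662 L174691 q7071, e3 q8663 (flp_j L253694) q10552, e3 q8664 (flp_j L253703) q10553, e3 q8665 L174710 q8665, e3 q8666 L174728 q8666, e3 q8667 L174736 q7625, e3 q8668 L174746 q7075, e3 q8669 (flp_j L253781) q10559, e3 q8670 L174769 q7077, e3 q8671 (flp_j L253819) q10562, e3 q8672 L174807 q8672, e3 q8673 L174898 q7631, e3 q8674 L174906 q7081, e3 q8675 L174915 q7082, e3 q8676 (flp_j L254002) q10567, e3 q8677 (flp_j L254008)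 q10568, e3 q8678 (flp_j L254020) q10569, e3 q8679 L174945 q7085, e3 q8680 L174955 q7086, e3 q8681 (flp_j L254067) q10575, e3 q8682 (flp_j L254077) q10576, e3 q8683 (flp_j L254085) q10577, e3 q8684 L174985 q8684, e3 q8685 L174995 q8685, e3 q8686 L175003 q8686, e3 q8687 L175010 q7645, e3 q8688 L175020 q7646, e3 q8689 L175027 q7093, e3 q8690 L175033 q7094, e3 q8691 L175044 q7095, e3 q8692 (flp_j L254167) q10587, e3 q8693 (flp_j L647109) q10586, e3 q8694 L647148 q10585, e3 q8695 (flp_j L647098) q10584, e3 q8696 (flp_j L254201) q10588, e3 q8697 L175092 q7098, e3 q8698 L175102 q7099, e3 q8699 L175109 q7100, e3 q8700 (flp_j L254267) q10594, e3 q8701 (flp_j L254277) q10595, e3 q8702 (flp_j L254286) q10596, e3 q8703 L175143 q8703, trivial⟩ (by decide +kernel)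

theorem ce_j_136 : ∀ r, r < 64 → sm gj (Qf (8704 + r)) = Qf (tab Gen.j (8704 + r)) :=
  edges_tab (sm gj) Qf (tab Gen.j) 8704 [(8704, 8704), (8705, 8705), (8706, 8706), (8707, 8707), (8708, 8708), (8709, 7131), (8710, 7132), (8711, 7133), (8712, 7136), (8713, 7141), (8714, 7144), (8715, 7980), (8716, 7147), (8717, 7976), (8718, 7150), (8719, 7155), (8720, 9793), (8721, 7154), (8722, 10603), (8723, 7142), (8724, 9780), (8725, 9800), (8726, 9781), (8727, 9774), (8728, 9803), (8729, 9776), (8730, 10608), (8731, 7970), (8732, 7979), (8733, 10614), (8734, 7146), (8735, 10616), (8736, 10606), (8737, 10604), (8738, 7149), (8739, 9788), (8740, 7151), (8741, 10621), (8742, 7153), (8743, 10623), (8744, 9791), (8745, 7348), (8746, 7190), (8747, 7199), (8748, 7200), (8749, 7848), (8750, 7202), (8751, 7203), (8752, 9801), (8753, 7205), (8754, 7163), (8755, 9731), (8756, 7208), (8757, 7213), (8758, 9735), (8759, 7216), (8760, 7217), (8761, 7218), (8762, 7843), (8763, 7220), (8764, 7221), (8765, 7222), (8766, 10607), (8767, 7224)]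
    ⟨e3 q8704 L175151 q8704, e3 q8705 L175157 q8705, e3 q8706 L175338 q8706, e3 q8707 L175473 q8707, e3 q8708 L175489 q8708, e3 q8709 L175770 q7131, e3 q8710 L175779 q7132, e3 q8711 L175785 q7133, e3 q8712 L175811 q7136, e3 q8713 L175902 q7141, e3 q8714 L175948 q7144, e3 q8715 L620660 q7980, e3 q8716 L175995 q7147, e3 q8717 L620957 q7976, e3 q8718 L176019 q7150, e3 q8719 L644321 q7155, e3 q8720 (flp_j L644335) q9793, e3 q8721 L176048 q7154, e3 q8722 (flp_j L255257) q10603, e3 q8723 (flp_j L621360) q7142, e3 q8724 L644933 q9780, e3 q8725 (flp_j L644609) q9800, e3 q8726 (flp_j L644958) q9781, e3 q8727 (flp_j L644921) q9774, e3 q8728 (flp_j L644430) q9803, e3 q8729 (flp_j L644365) q9776, e3 q8730 (flp_j L607842) q10608, e3 q8731 (flp_j L620529) q7970, e3 q8732 L621389 q7979, e3 q8733 L256623 q10614, e3 q8734 (flp_j L176678) q7146, e3 q8735 (flp_j L256645) q10616, e3 q8736 (flp_j L255610) q10606, e3 q8737 L645123 q10604, e3 q8738 L176712 q7149, e3 q8739 (flp_j L644726) q9788, e3 q8740 (flp_j L176723) q7151, e3 q8741 (flp_j L256698)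 q10621, e3 q8742 L176745 q7153, e3 q8743 (flp_j L256717) q10623, e3 q8744 (flp_j L644546) q9791, e3 q8745 (flp_j L641053) q7348, e3 q8746 L641142 q7190, e3 q8747 L176938 q7199, e3 q8748 L177030 q7200, e3 q8749 L622521 q7848, e3 q8750 L177053 q7202, e3 q8751 L177071 q7203, e3 q8752 (flp_j L645173) q9801, e3 q8753 L177089 q7205, e3 q8754 (flp_j L177091) q7163, e3 q8755 (flp_j L645214) q9731, e3 q8756 L177115 q7208, e3 q8757 L177159 q7213, e3 q8758 L642791 q9735, e3 q8759 L177192 q7216, e3 q8760 L177202 q7217, e3 q8761 L177210 q7218, e3 q8762 (flp_j L621578) q7843, e3 q8763 L177229 q7220, e3 q8764 L177236 q7221, e3 q8765 L177248 q7222, e3 q8766 (flp_j L621466) q10607, e3 q8767 L177264 q7224, trivial⟩ (by decide +kernel)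

theorem ce_j_137 : ∀ r, r < 64 → sm gj (Qf (8768 + r)) = Qf (tab Gen.j (8768 + r)) :=
  edges_tab (sm gj) Qf (tab Gen.j) 8768 [(8768, 7176), (8769, 10647), (8770, 7227), (8771, 7228), (8772, 7900), (8773, 7230), (8774, 7898), (8775, 7233), (8776, 7234), (8777, 7235), (8778, 7236), (8779, 10619), (8780, 7185), (8781, 10660), (8782, 7240), (8783, 7241), (8784, 7188), (8785, 10665), (8786, 10627), (8787, 7192), (8788, 10667), (8789, 9923), (8790, 7249), (8791, 7250), (8792, 7196), (8793, 9723), (8794, 9734), (8795, 10628), (8796, 10674), (8797, 10630), (8798, 7201), (8799, 10678), (8800, 10632), (8801, 10680), (8802, 7204), (8803, 9910), (8804, 9842), (8805, 10633), (8806, 7207), (8807, 10685), (8808, 7209), (8809, 9917), (8810, 9920), (8811, 9846), (8812, 7215), (8813, 10635), (8814, 7892), (8815, 10636), (8816, 10637), (8817, 10629), (8818, 10671), (8819, 10638), (8820, 7219), (8821, 10697), (8822, 10640), (8823, 10641), (8824, 10642), (8825, 10702), (8826, 7223), (8827, 10704), (8828, 10645), (8829, 10646), (8830, 7226),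 (8831, 10708)]
    ⟨e3 q8768 (flp_j L177266) q7176, e3 q8769 (flp_j L257540) q10647, e3 q8770 L177293 q7227, e3 q8771 L177299 q7228, e3 q8772 (flp_j L617564) q7900, e3 q8773 L177319 q7230, e3 q8774 L621568 q7898, e3 q8775 L177347 q7233, e3 q8776 L177360 q7234, e3 q8777 L177368 q7235, e3 q8778 L177380 q7236, e3 q8779 (flp_j L645132) q10619, e3 q8780 (flp_j L177387) q7185, e3 q8781 (flp_j L257712) q10660, e3 q8782 L177407 q7240, e3 q8783 L177416 q7241, e3 q8784 L177425 q7188, e3 q8785 (flp_j L257751) q10665, e3 q8786 (flp_j L641158) q10627, e3 q8787 L177461 q7192, e3 q8788 (flp_j L257789) q10667, e3 q8789 (flp_j L641212) q9923, e3 q8790 L177482 q7249, e3 q8791 L177492 q7250, e3 q8792 L177503 q7196, e3 q8793 L642769 q9723, e3 q8794 L633267 q9734, e3 q8795 (flp_j L257135) q10628, e3 q8796 L258380 q10674, e3 q8797 (flp_j L257159) q10630, e3 q8798 (flp_j L177861) q7201, e3 q8799 (flp_j L258422) q10678, e3 q8800 (flp_j L257201) q10632, e3 q8801 L258484 q10680, e3 q8802 (flp_j L177925) q7204, e3 q8803 L636005 q9910, e3 q8804 (flp_j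 L642726) q9842, e3 q8805 (flp_j L257260) q10633, e3 q8806 L177959 q7207, e3 q8807 (flp_j L258540) q10685, e3 q8808 (flp_j L177971) q7209, e3 q8809 L644265 q9917, e3 q8810 L644236 q9920, e3 q8811 L644230 q9846, e3 q8812 L178033 q7215, e3 q8813 (flp_j L257360) q10635, e3 q8814 L622185 q7892, e3 q8815 (flp_j L257381) q10636, e3 q8816 (flp_j L257402) q10637, e3 q8817 (flp_j L620504) q10629, e3 q8818 L622148 q10671, e3 q8819 (flp_j L257428) q10638, e3 q8820 (flp_j L178105) q7219, e3 q8821 (flp_j L258783) q10697, e3 q8822 (flp_j L257456) q10640, e3 q8823 (flp_j L257469) q10641, e3 q8824 (flp_j L257489) q10642, e3 q8825 L258847 q10702, e3 q8826 (flp_j L178167) q7223, e3 q8827 (flp_j L258872) q10704, e3 q8828 (flp_j L257520) q10645, e3 q8829 (flp_j L257530) q10646, e3 q8830 L178203 q7226, e3 q8831 (flp_j L258912) q10708, trivial⟩ (by decide +kernel)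

theorem ce_j_138 : ∀ r, r < 64 → sm gj (Qf (8832 + r)) = Qf (tab Gen.j (8832 + r)) :=
  edges_tab (sm gj) Qf (tab Gen.j) 8832 [(8832, 7901), (8833, 10649), (8834, 10713), (8835, 7229), (8836, 10715), (8837, 10652), (8838, 10653), (8839, 7232), (8840, 7897), (8841, 10721), (8842, 10655), (8843, 10656), (8844, 10657), (8845, 10658), (8846, 7237), (8847, 10729), (8848, 7239), (8849, 10732), (8850, 10733), (8851, 10663), (8852, 10664), (8853, 7243), (8854, 9915), (8855, 7245), (8856, 10740), (8857, 10741), (8858, 7247), (8859, 7248), (8860, 10745), (8861, 10746), (8862, 10669), (8863, 10670), (8864, 10666), (8865, 9759), (8866, 9760), (8867, 8867), (8868, 8868), (8869, 7256), (8870, 10759), (8871, 8871), (8872, 10763), (8873, 7258), (8874, 10765), (8875, 8875), (8876, 8876), (8877, 7261), (8878, 10770), (8879, 7263), (8880, 10772), (8881, 7265), (8882, 10775), (8883, 10776), (8884, 8884), (8885, 8885), (8886, 7269), (8887, 9945), (8888, 7271), (8889, 10026), (8890, 10782), (8891, 7273), (8892, 7274), (8893, 10785), (8894, 10786),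 (8895, 8895)]
    ⟨e3 q8832 (flp_j L622113) q7901, e3 q8833 (flp_j L257566) q10649, e3 q8834 L258948 q10713, e3 q8835 (flp_j L178238) q7229, e3 q8836 (flp_j L258976) q10715, e3 q8837 (flp_j L257599) q10652, e3 q8838 (flp_j L257609) q10653, e3 q8839 L178276 q7232, e3 q8840 (flp_j L622225) q7897, e3 q8841 (flp_j L259029) q10721, e3 q8842 (flp_j L257646) q10655, e3 q8843 (flp_j L257659) q10656, e3 q8844 (flp_j L257666) q10657, e3 q8845 (flp_j L257678) q10658, e3 q8846 (flp_j L178340) q7237, e3 q8847 (flp_j L259117) q10729, e3 q8848 L178362 q7239, e3 q8849 (flp_j L259137) q10732, e3 q8850 (flp_j L259146) q10733, e3 q8851 (flp_j L257732) q10663, e3 q8852 (flp_j L257741) q10664, e3 q8853 L178396 q7243, e3 q8854 (flp_j L244868) q9915, e3 q8855 L178414 q7245, e3 q8856 (flp_j L259191) q10740, e3 q8857 (flp_j L259202) q10741, e3 q8858 L178433 q7247, e3 q8859 L178443 q7248, e3 q8860 (flp_j L259228) q10745, e3 q8861 (flp_j L259238) q10746, e3 q8862 (flp_j L257824) q10669, e3 q8863 (flp_j L257834) q10670, e3 q8864 L641189 q10666, e3 q8865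 L640924 q9759, e3 q8866 (flp_j L642974) q9760, e3 q8867 L178773 q8867, e3 q8868 L178784 q8868, e3 q8869 L178792 q7256, e3 q8870 L260082 q10759, e3 q8871 L179007 q8871, e3 q8872 L260120 q10763, e3 q8873 (flp_j L179016) q7258, e3 q8874 (flp_j L260147) q10765, e3 q8875 L179041 q8875, e3 q8876 L179050 q8876, e3 q8877 L179060 q7261, e3 q8878 (flp_j L260202) q10770, e3 q8879 (flp_j L179119) q7263, e3 q8880 (flp_j L260285) q10772, e3 q8881 L179141 q7265, e3 q8882 (flp_j L260307) q10775, e3 q8883 (flp_j L260317) q10776, e3 q8884 L179162 q8884, e3 q8885 L179170 q8885, e3 q8886 L179176 q7269, e3 q8887 (flp_j L245379) q9945, e3 q8888 L179196 q7271, e3 q8889 L635199 q10026, e3 q8890 (flp_j L260376) q10782, e3 q8891 L179217 q7273, e3 q8892 L179228 q7274, e3 q8893 (flp_j L260403) q10785, e3 q8894 (flp_j L260414) q10786, e3 q8895 L179251 q8895, trivial⟩ (by decide +kernel)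

theorem ce_j_139 : ∀ r, r < 64 → sm gj (Qf (8896 + r)) = Qf (tab Gen.j (8896 + r)) :=
  edges_tab (sm gj) Qf (tab Gen.j) 8896 [(8896, 8896), (8897, 8897), (8898, 8898), (8899, 10796), (8900, 8900), (8901, 7279), (8902, 10800), (8903, 8903), (8904, 10803), (8905, 8905), (8906, 10807), (8907, 7283), (8908, 10809), (8909, 8909), (8910, 8910), (8911, 7286), (8912, 10815), (8913, 10816), (8914, 8914), (8915, 8915), (8916, 7290), (8917, 10821), (8918, 7292), (8919, 10824), (8920, 10825), (8921, 8921), (8922, 8922), (8923, 7296), (8924, 10832), (8925, 7297), (8926, 10834), (8927, 8927), (8928, 8928), (8929, 7299), (8930, 10841), (8931, 7301), (8932, 10844), (8933, 10845), (8934, 8934), (8935, 8935), (8936, 8936), (8937, 7305), (8938, 7306), (8939, 10855), (8940, 10856), (8941, 8941), (8942, 8942), (8943, 10861), (8944, 8944), (8945, 10011), (8946, 7312), (8947, 10864), (8948, 10865), (8949, 7314), (8950, 7315), (8951, 10869), (8952, 10870), (8953, 8953), (8954, 8954), (8955, 8955), (8956, 10022), (8957, 7321), (8958, 7322), (8959,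 10879)]
    ⟨e3 q8896 L179260 q8896, e3 q8897 L179264 q8897, e3 q8898 L179274 q8898, e3 q8899 L260496 q10796, e3 q8900 L179295 q8900, e3 q8901 (flp_j L179296) q7279, e3 q8902 (flp_j L260542) q10800, e3 q8903 L179335 q8903, e3 q8904 L260647 q10803, e3 q8905 L179379 q8905, e3 q8906 L260681 q10807, e3 q8907 (flp_j L179386) q7283, e3 q8908 (flp_j L260706) q10809, e3 q8909 L179409 q8909, e3 q8910 L179418 q8910, e3 q8911 L179426 q7286, e3 q8912 (flp_j L260750) q10815, e3 q8913 (flp_j L260762) q10816, e3 q8914 L179450 q8914, e3 q8915 L179462 q8915, e3 q8916 (flp_j L179487) q7290, e3 q8917 (flp_j L260849) q10821, e3 q8918 L179510 q7292, e3 q8919 (flp_j L260872) q10824, e3 q8920 (flp_j L260884) q10825, e3 q8921 L179535 q8921, e3 q8922 L179545 q8922, e3 q8923 L179553 q7296, e3 q8924 L260933 q10832, e3 q8925 (flp_j L179562) q7297, e3 q8926 (flp_j L260957) q10834, e3 q8927 L179585 q8927, e3 q8928 L179595 q8928, e3 q8929 (flp_j L179596) q7299, e3 q8930 (flp_j L261013) q10841, e3 q8931 L179621 q7301, e3 q8932 (flp_j L261034) q10844, e3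 q8933 (flp_j L261045) q10845, e3 q8934 L179641 q8934, e3 q8935 L179648 q8935, e3 q8936 L179657 q8936, e3 q8937 L179663 q7305, e3 q8938 L179675 q7306, e3 q8939 (flp_j L261116) q10855, e3 q8940 (flp_j L261128) q10856, e3 q8941 L179700 q8941, e3 q8942 L179712 q8942, e3 q8943 L261184 q10861, e3 q8944 L179737 q8944, e3 q8945 (flp_j L245962) q10011, e3 q8946 L179760 q7312, e3 q8947 (flp_j L261229) q10864, e3 q8948 (flp_j L261238) q10865, e3 q8949 L179780 q7314, e3 q8950 L179791 q7315, e3 q8951 (flp_j L261263) q10869, e3 q8952 (flp_j L261274) q10870, e3 q8953 L179811 q8953, e3 q8954 L179820 q8954, e3 q8955 L179826 q8955, e3 q8956 (flp_j L246050) q10022, e3 q8957 L179841 q7321, e3 q8958 L179851 q7322, e3 q8959 (flp_j L261341) q10879, trivial⟩ (by decide +kernel)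

theorem ce_j_140 : ∀ r, r < 64 → sm gj (Qf (8960 + r)) = Qf (tab Gen.j (8960 + r)) :=
  edges_tab (sm gj) Qf (tab Gen.j) 8960 [(8960, 10880), (8961, 10881), (8962, 7325), (8963, 7326), (8964, 10887), (8965, 10888), (8966, 10889), (8967, 8967), (8968, 8968), (8969, 8969), (8970, 7389), (8971, 7390), (8972, 7894), (8973, 7392), (8974, 7393), (8975, 10903), (8976, 7395), (8977, 7334), (8978, 10907), (8979, 7398), (8980, 7399), (8981, 10688), (8982, 7401), (8983, 7339), (8984, 10914), (8985, 7404), (8986, 7405), (8987, 7406), (8988, 10626), (8989, 7343), (8990, 9921), (8991, 7410), (8992, 7411), (8993, 7346), (8994, 10922), (8995, 9922), (8996, 7420), (8997, 7354), (8998, 7422), (8999, 7889), (9000, 7424), (9001, 10926), (9002, 7426), (9003, 7357), (9004, 10930), (9005, 7429), (9006, 10932), (9007, 7360), (9008, 10934), (9009, 7433), (9010, 7434), (9011, 7363), (9012, 10939), (9013, 7854), (9014, 7438), (9015, 10943), (9016, 7366), (9017, 10945), (9018, 7442), (9019, 7443), (9020, 7369), (9021, 7852), (9022, 10951), (9023, 7447)]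
    ⟨e3 q8960 (flp_j L261349) q10880, e3 q8961 (flp_j L261360) q10881, e3 q8962 L179878 q7325, e3 q8963 L179890 q7326, e3 q8964 (flp_j L261403) q10887, e3 q8965 (flp_j L261415) q10888, e3 q8966 (flp_j L261422) q10889, e3 q8967 L179922 q8967, e3 q8968 L179932 q8968, e3 q8969 L179939 q8969, e3 q8970 L179948 q7389, e3 q8971 L179966 q7390, e3 q8972 (flp_j L622609) q7894, e3 q8973 L179989 q7392, e3 q8974 L180008 q7393, e3 q8975 L261627 q10903, e3 q8976 L180029 q7395, e3 q8977 (flp_j L180031) q7334, e3 q8978 (flp_j L261676) q10907, e3 q8979 L180060 q7398, e3 q8980 L180066 q7399, e3 q8981 L617604 q10688, e3 q8982 L180087 q7401, e3 q8983 (flp_j L180089) q7339, e3 q8984 (flp_j L261752) q10914, e3 q8985 L180111 q7404, e3 q8986 L180122 q7405, e3 q8987 L180140 q7406, e3 q8988 (flp_j L641112) q10626, e3 q8989 (flp_j L180150) q7343, e3 q8990 L641331 q9921, e3 q8991 L180173 q7410, e3 q8992 L180183 q7411, e3 q8993 L180194 q7346, e3 q8994 (flp_j L261880) q10922, e3 q8995 (flp_j L634777) q9922, e3 q8996 L180260 q7420, e3 q8997 L180269 q7354,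 e3 q8998 L180278 q7422, e3 q8999 L612456 q7889, e3 q9000 L180318 q7424, e3 q9001 L262087 q10926, e3 q9002 L180339 q7426, e3 q9003 (flp_j L180341) q7357, e3 q9004 (flp_j L262132) q10930, e3 q9005 L180381 q7429, e3 q9006 L262208 q10932, e3 q9007 (flp_j L180412) q7360, e3 q9008 (flp_j L262234) q10934, e3 q9009 L180436 q7433, e3 q9010 L180448 q7434, e3 q9011 L180458 q7363, e3 q9012 (flp_j L262285) q10939, e3 q9013 (flp_j L622099) q7854, e3 q9014 L180484 q7438, e3 q9015 L262321 q10943, e3 q9016 (flp_j L180491) q7366, e3 q9017 (flp_j L262343) q10945, e3 q9018 L180509 q7442, e3 q9019 L180517 q7443, e3 q9020 L180526 q7369, e3 q9021 (flp_j L621722) q7852, e3 q9022 (flp_j L262393) q10951, e3 q9023 L180548 q7447, trivial⟩ (by decide +kernel)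

theorem ce_j_141 : ∀ r, r < 64 → sm gj (Qf (9024 + r)) = Qf (tab Gen.j (9024 + r)) :=
  edges_tab (sm gj) Qf (tab Gen.j) 9024 [(9024, 7448), (9025, 7449), (9026, 7450), (9027, 7374), (9028, 10958), (9029, 7376), (9030, 10961), (9031, 10962), (9032, 7456), (9033, 7457), (9034, 7380), (9035, 10135), (9036, 7382), (9037, 10969), (9038, 10752), (9039, 7384), (9040, 7385), (9041, 10972), (9042, 10973), (9043, 7467), (9044, 7468), (9045, 7469), (9046, 10896), (9047, 7895), (9048, 10897), (9049, 10984), (9050, 10899), (9051, 7391), (9052, 10988), (9053, 10901), (9054, 10990), (9055, 7394), (9056, 10992), (9057, 10905), (9058, 10906), (9059, 7397), (9060, 10997), (9061, 10689), (9062, 10909), (9063, 11002), (9064, 7400), (9065, 11004), (9066, 10912), (9067, 10913), (9068, 7403), (9069, 11010), (9070, 11011), (9071, 10917), (9072, 10918), (9073, 7407), (9074, 11016), (9075, 7409), (9076, 10293), (9077, 11019), (9078, 10920), (9079, 10921), (9080, 7413), (9081, 10214), (9082, 7415), (9083, 10289), (9084, 11025), (9085, 7418), (9086,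 10294), (9087, 10130)]
    ⟨e3 q9024 L180560 q7448, e3 q9025 L180566 q7449, e3 q9026 L180577 q7450, e3 q9027 (flp_j L180588) q7374, e3 q9028 (flp_j L262481) q10958, e3 q9029 L180611 q7376, e3 q9030 (flp_j L262503) q10961, e3 q9031 (flp_j L262516) q10962, e3 q9032 L180634 q7456, e3 q9033 L180645 q7457, e3 q9034 L180656 q7380, e3 q9035 (flp_j L247139) q10135, e3 q9036 L180671 q7382, e3 q9037 (flp_j L262574) q10969, e3 q9038 L641169 q10752, e3 q9039 L180690 q7384, e3 q9040 L180702 q7385, e3 q9041 (flp_j L262612) q10972, e3 q9042 (flp_j L262624) q10973, e3 q9043 L180725 q7467, e3 q9044 L180735 q7468, e3 q9045 L180742 q7469, e3 q9046 (flp_j L261480) q10896, e3 q9047 (flp_j L622256) q7895, e3 q9048 (flp_j L261526) q10897, e3 q9049 L262789 q10984, e3 q9050 (flp_j L261551) q10899, e3 q9051 (flp_j L180814) q7391, e3 q9052 (flp_j L262831) q10988, e3 q9053 (flp_j L261594) q10901, e3 q9054 L262899 q10990, e3 q9055 (flp_j L180883) q7394, e3 q9056 (flp_j L262927) q10992, e3 q9057 (flp_j L261653) q10905, e3 q9058 (flp_j L261664) q10906,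 e3 q9059 L180925 q7397, e3 q9060 (flp_j L262971) q10997, e3 q9061 L622195 q10689, e3 q9062 (flp_j L261704) q10909, e3 q9063 L263009 q11002, e3 q9064 (flp_j L180962) q7400, e3 q9065 (flp_j L263033) q11004, e3 q9066 (flp_j L261733) q10912, e3 q9067 (flp_j L261741) q10913, e3 q9068 L180994 q7403, e3 q9069 (flp_j L263065) q11010, e3 q9070 (flp_j L263076) q11011, e3 q9071 (flp_j L261774) q10917, e3 q9072 (flp_j L261785) q10918, e3 q9073 (flp_j L181048) q7407, e3 q9074 (flp_j L263155) q11016, e3 q9075 L181073 q7409, e3 q9076 L637666 q10293, e3 q9077 (flp_j L263188) q11019, e3 q9078 (flp_j L261860) q10920, e3 q9079 (flp_j L261870) q10921, e3 q9080 L181111 q7413, e3 q9081 (flp_j L247927) q10214, e3 q9082 L181130 q7415, e3 q9083 L637655 q10289, e3 q9084 (flp_j L263248) q11025, e3 q9085 L181159 q7418, e3 q9086 (flp_j L636977) q10294, e3 q9087 (flp_j L637129) q10130, trivial⟩ (by decide +kernel)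

theorem ce_j_142 : ∀ r, r < 64 → sm gj (Qf (9088 + r)) = Qf (tab Gen.j (9088 + r)) :=
  edges_tab (sm gj) Qf (tab Gen.j) 9088 [(9088, 10138), (9089, 10923), (9090, 10898), (9091, 10981), (9092, 7423), (9093, 10980), (9094, 10924), (9095, 11038), (9096, 7425), (9097, 11040), (9098, 10928), (9099, 10929), (9100, 7428), (9101, 11045), (9102, 7430), (9103, 11047), (9104, 7432), (9105, 11050), (9106, 11051), (9107, 10937), (9108, 10938), (9109, 7436), (9110, 11058), (9111, 7437), (9112, 10722), (9113, 10941), (9114, 10942), (9115, 7439), (9116, 11066), (9117, 7441), (9118, 11069), (9119, 11070), (9120, 10948), (9121, 10949), (9122, 10950), (9123, 7445), (9124, 7446), (9125, 10710), (9126, 11080), (9127, 10953), (9128, 10954), (9129, 11085), (9130, 10956), (9131, 10275), (9132, 7452), (9133, 11088), (9134, 11089), (9135, 7454), (9136, 7455), (9137, 11093), (9138, 11094), (9139, 10965), (9140, 10966), (9141, 10967), (9142, 10286), (9143, 7461), (9144, 7462), (9145, 11103), (9146, 11104), (9147, 11105), (9148, 7465), (9149, 7466),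 (9150, 11111), (9151, 11112)]
    ⟨e3 q9088 L644068 q10138, e3 q9089 (flp_j L261968) q10923, e3 q9090 L617623 q10898, e3 q9091 L622153 q10981, e3 q9092 (flp_j L181215) q7423, e3 q9093 (flp_j L622124) q10980, e3 q9094 (flp_j L262078) q10924, e3 q9095 L263511 q11038, e3 q9096 (flp_j L181297) q7425, e3 q9097 (flp_j L263539) q11040, e3 q9098 (flp_j L262111) q10928, e3 q9099 (flp_j L262121) q10929, e3 q9100 L181335 q7428, e3 q9101 (flp_j L263595) q11045, e3 q9102 (flp_j L181405) q7430, e3 q9103 (flp_j L263694) q11047, e3 q9104 L181431 q7432, e3 q9105 (flp_j L263718) q11050, e3 q9106 (flp_j L263730) q11051, e3 q9107 (flp_j L262261) q10937, e3 q9108 (flp_j L262273) q10938, e3 q9109 L181477 q7436, e3 q9110 L263781 q11058, e3 q9111 (flp_j L181484) q7437, e3 q9112 L622069 q10722, e3 q9113 (flp_j L262310) q10941, e3 q9114 (flp_j L262319) q10942, e3 q9115 (flp_j L181507) q7439, e3 q9116 (flp_j L263842) q11066, e3 q9117 L181529 q7441, e3 q9118 (flp_j L263858) q11069, e3 q9119 (flp_j L263866) q11070, e3 q9120 (flp_j L262359) q10948, e3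 q9121 (flp_j L262365) q10949, e3 q9122 (flp_j L262373) q10950, e3 q9123 L181559 q7445, e3 q9124 L181571 q7446, e3 q9125 L622087 q10710, e3 q9126 (flp_j L263930) q11080, e3 q9127 (flp_j L262416) q10953, e3 q9128 (flp_j L262428) q10954, e3 q9129 L263982 q11085, e3 q9130 (flp_j L262453) q10956, e3 q9131 (flp_j L248454) q10275, e3 q9132 L181652 q7452, e3 q9133 (flp_j L264026) q11088, e3 q9134 (flp_j L264037) q11089, e3 q9135 L181673 q7454, e3 q9136 L181684 q7455, e3 q9137 (flp_j L264065) q11093, e3 q9138 (flp_j L264076) q11094, e3 q9139 (flp_j L262539) q10965, e3 q9140 (flp_j L262550) q10966, e3 q9141 (flp_j L262558) q10967, e3 q9142 (flp_j L248546) q10286, e3 q9143 L181735 q7461, e3 q9144 L181745 q7462, e3 q9145 (flp_j L264144) q11103, e3 q9146 (flp_j L264150) q11104, e3 q9147 (flp_j L264164) q11105, e3 q9148 L181773 q7465, e3 q9149 L181783 q7466, e3 q9150 (flp_j L264205) q11111, e3 q9151 (flp_j L264215) q11112, trivial⟩ (by decide +kernel)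

theorem ce_j_143 : ∀ r, r < 64 → sm gj (Qf (9152 + r)) = Qf (tab Gen.j (9152 + r)) :=
  edges_tab (sm gj) Qf (tab Gen.j) 9152 [(9152, 11113), (9153, 10977), (9154, 10978), (9155, 10979), (9156, 11121), (9157, 7471), (9158, 11122), (9159, 7472), (9160, 11124), (9161, 9161), (9162, 9162), (9163, 7475), (9164, 11128), (9165, 7477), (9166, 11130), (9167, 7479), (9168, 11132), (9169, 7482), (9170, 11134), (9171, 7483), (9172, 11136), (9173, 9173), (9174, 9174), (9175, 7485), (9176, 11142), (9177, 7487), (9178, 11145), (9179, 11146), (9180, 9180), (9181, 9181), (9182, 9182), (9183, 7491), (9184, 7492), (9185, 11155), (9186, 11156), (9187, 9187), (9188, 10376), (9189, 7496), (9190, 11160), (9191, 11161), (9192, 7498), (9193, 7499), (9194, 11165), (9195, 11166), (9196, 9196), (9197, 9197), (9198, 10386), (9199, 7505), (9200, 7506), (9201, 11173), (9202, 11174), (9203, 11175), (9204, 7509), (9205, 7510), (9206, 11181), (9207, 11182), (9208, 11183), (9209, 9209), (9210, 9210), (9211, 9211), (9212, 11191), (9213, 9213), (9214, 11194),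 (9215, 7515)]
    ⟨e3 q9152 (flp_j L264222) q11113, e3 q9153 (flp_j L262654) q10977, e3 q9154 (flp_j L262664) q10978, e3 q9155 (flp_j L262673) q10979, e3 q9156 L264303 q11121, e3 q9157 (flp_j L181855) q7471, e3 q9158 L264476 q11122, e3 q9159 (flp_j L181941) q7472, e3 q9160 (flp_j L264503) q11124, e3 q9161 L181966 q9161, e3 q9162 L181975 q9162, e3 q9163 L181985 q7475, e3 q9164 (flp_j L264561) q11128, e3 q9165 (flp_j L182050) q7477, e3 q9166 (flp_j L264655) q11130, e3 q9167 L182076 q7479, e3 q9168 (flp_j L264694) q11132, e3 q9169 L182123 q7482, e3 q9170 L264751 q11134, e3 q9171 (flp_j L182135) q7483, e3 q9172 (flp_j L264774) q11136, e3 q9173 L182156 q9173, e3 q9174 L182165 q9174, e3 q9175 (flp_j L182168) q7485, e3 q9176 (flp_j L264824) q11142, e3 q9177 L182189 q7487, e3 q9178 (flp_j L264841) q11145, e3 q9179 (flp_j L264850) q11146, e3 q9180 L182207 q9180, e3 q9181 L182212 q9181, e3 q9182 L182219 q9182, e3 q9183 L182223 q7491, e3 q9184 L182233 q7492, e3 q9185 (flp_j L264911) q11155, e3 q9186 (flp_j L264921) q11156, e3 q9187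 L182264 q9187, e3 q9188 (flp_j L249616) q10376, e3 q9189 L182309 q7496, e3 q9190 (flp_j L265006) q11160, e3 q9191 (flp_j L265016) q11161, e3 q9192 L182332 q7498, e3 q9193 L182344 q7499, e3 q9194 (flp_j L265045) q11165, e3 q9195 (flp_j L265057) q11166, e3 q9196 L182367 q9196, e3 q9197 L182377 q9197, e3 q9198 (flp_j L249713) q10386, e3 q9199 L182399 q7505, e3 q9200 L182408 q7506, e3 q9201 (flp_j L265131) q11173, e3 q9202 (flp_j L265138) q11174, e3 q9203 (flp_j L265150) q11175, e3 q9204 L182437 q7509, e3 q9205 L182448 q7510, e3 q9206 (flp_j L265192) q11181, e3 q9207 (flp_j L265203) q11182, e3 q9208 (flp_j L265210) q11183, e3 q9209 L182478 q9209, e3 q9210 L182487 q9210, e3 q9211 L182494 q9211, e3 q9212 L265288 q11191, e3 q9213 L182519 q9213, e3 q9214 L265319 q11194, e3 q9215 (flp_j L182525) q7515, trivial⟩ (by decide +kernel)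

theorem ce_j_144 : ∀ r, r < 64 → sm gj (Qf (9216 + r)) = Qf (tab Gen.j (9216 + r)) :=
  edges_tab (sm gj) Qf (tab Gen.j) 9216 [(9216, 11196), (9217, 7517), (9218, 11198), (9219, 9219), (9220, 9220), (9221, 7519), (9222, 11203), (9223, 7521), (9224, 11206), (9225, 11207), (9226, 9226), (9227, 9227), (9228, 7525), (9229, 10428), (9230, 7527), (9231, 11214), (9232, 11215), (9233, 7529), (9234, 7530), (9235, 11219), (9236, 11220), (9237, 9237), (9238, 9238), (9239, 11225), (9240, 7534), (9241, 11228), (9242, 7536), (9243, 11231), (9244, 11232), (9245, 9245), (9246, 9246), (9247, 9247), (9248, 10447), (9249, 7540), (9250, 11243), (9251, 11244), (9252, 7542), (9253, 7543), (9254, 11248), (9255, 11249), (9256, 11250), (9257, 9257), (9258, 9258), (9259, 9259), (9260, 9260), (9261, 9261), (9262, 9262), (9263, 7549), (9264, 7550), (9265, 11266), (9266, 11267), (9267, 11270), (9268, 9268), (9269, 7553), (9270, 11272), (9271, 10473), (9272, 7557), (9273, 7558), (9274, 11275), (9275, 11276), (9276, 11277), (9277, 7561), (9278, 7562),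 (9279, 11283)]
    ⟨e3 q9216 L265525 q11196, e3 q9217 (flp_j L182650) q7517, e3 q9218 (flp_j L265552) q11198, e3 q9219 L182675 q9219, e3 q9220 L182686 q9220, e3 q9221 (flp_j L182687) q7519, e3 q9222 (flp_j L265612) q11203, e3 q9223 L182712 q7521, e3 q9224 (flp_j L265633) q11206, e3 q9225 (flp_j L265644) q11207, e3 q9226 L182734 q9226, e3 q9227 L182750 q9227, e3 q9228 L182769 q7525, e3 q9229 (flp_j L250182) q10428, e3 q9230 L182865 q7527, e3 q9231 (flp_j L265846) q11214, e3 q9232 (flp_j L265857) q11215, e3 q9233 L182889 q7529, e3 q9234 L182903 q7530, e3 q9235 (flp_j L265892) q11219, e3 q9236 (flp_j L265906) q11220, e3 q9237 L182930 q9237, e3 q9238 L182942 q9238, e3 q9239 L265967 q11225, e3 q9240 (flp_j L182959) q7534, e3 q9241 (flp_j L265996) q11228, e3 q9242 L182980 q7536, e3 q9243 (flp_j L266013) q11231, e3 q9244 (flp_j L266024) q11232, e3 q9245 L182998 q9245, e3 q9246 L183005 q9246, e3 q9247 L183014 q9247, e3 q9248 (flp_j L250354) q10447, e3 q9249 L183026 q7540, e3 q9250 (flp_j L266100) q11243, e3 q9251 (flp_j L266108)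 q11244, e3 q9252 L183041 q7542, e3 q9253 L183050 q7543, e3 q9254 (flp_j L266127) q11248, e3 q9255 (flp_j L266134) q11249, e3 q9256 (flp_j L266143) q11250, e3 q9257 L183074 q9257, e3 q9258 L183079 q9258, e3 q9259 L183088 q9259, e3 q9260 L183093 q9260, e3 q9261 L183100 q9261, e3 q9262 L183103 q9262, e3 q9263 L183109 q7549, e3 q9264 L183120 q7550, e3 q9265 (flp_j L266243) q11266, e3 q9266 (flp_j L266254) q11267, e3 q9267 L266289 q11270, e3 q9268 L183160 q9268, e3 q9269 (flp_j L183170) q7553, e3 q9270 (flp_j L266327) q11272, e3 q9271 (flp_j L250538) q10473, e3 q9272 L183210 q7557, e3 q9273 L183220 q7558, e3 q9274 (flp_j L266371) q11275, e3 q9275 (flp_j L266379) q11276, e3 q9276 (flp_j L266393) q11277, e3 q9277 L183249 q7561, e3 q9278 L183262 q7562, e3 q9279 (flp_j L266438) q11283, trivial⟩ (by decide +kernel)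

theorem ce_j_145 : ∀ r, r < 64 → sm gj (Qf (9280 + r)) = Qf (tab Gen.j (9280 + r)) :=
  edges_tab (sm gj) Qf (tab Gen.j) 9280 [(9280, 11284), (9281, 11285), (9282, 9282), (9283, 9283), (9284, 9284), (9285, 10487), (9286, 10488), (9287, 7569), (9288, 7570), (9289, 7571), (9290, 11293), (9291, 7651), (9292, 11294), (9293, 11295), (9294, 11296), (9295, 7574), (9296, 7575), (9297, 7576), (9298, 11301), (9299, 11302), (9300, 7805), (9301, 9301), (9302, 9302), (9303, 9303), (9304, 10507), (9305, 11309), (9306, 7581), (9307, 11312), (9308, 7583), (9309, 11314), (9310, 10513), (9311, 10514), (9312, 7588), (9313, 11316), (9314, 11317), (9315, 7590), (9316, 11320), (9317, 9317), (9318, 10520), (9319, 10521), (9320, 7595), (9321, 7596), (9322, 7597), (9323, 11325), (9324, 11324), (9325, 11323), (9326, 11322), (9327, 11300), (9328, 7600), (9329, 7601), (9330, 7602), (9331, 11331), (9332, 11332), (9333, 11333), (9334, 9334), (9335, 9335), (9336, 9336), (9337, 10525), (9338, 7606), (9339, 11341), (9340, 7608), (9341, 11343), (9342, 10538),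 (9343, 10539)]
    ⟨e3 q9280 (flp_j L266451) q11284, e3 q9281 (flp_j L266460) q11285, e3 q9282 L183298 q9282, e3 q9283 L183309 q9283, e3 q9284 L183316 q9284, e3 q9285 (flp_j L250664) q10487, e3 q9286 (flp_j L250674) q10488, e3 q9287 L183338 q7569, e3 q9288 L183345 q7570, e3 q9289 L183358 q7571, e3 q9290 (flp_j L266546) q11293, e3 q9291 (flp_j L647010) q7651, e3 q9292 (flp_j L266568) q11294, e3 q9293 (flp_j L266577) q11295, e3 q9294 (flp_j L266584) q11296, e3 q9295 L183401 q7574, e3 q9296 L183413 q7575, e3 q9297 L183421 q7576, e3 q9298 (flp_j L266646) q11301, e3 q9299 (flp_j L266658) q11302, e3 q9300 (flp_j L647307) q7805, e3 q9301 L183460 q9301, e3 q9302 L183467 q9302, e3 q9303 L183473 q9303, e3 q9304 (flp_j L252402) q10507, e3 q9305 L267394 q11309, e3 q9306 (flp_j L183945) q7581, e3 q9307 (flp_j L267424) q11312, e3 q9308 L183965 q7583, e3 q9309 (flp_j L267454) q11314, e3 q9310 (flp_j L252573) q10513, e3 q9311 (flp_j L252778) q10514, e3 q9312 L184197 q7588, e3 q9313 (flp_j L267777) q11316, e3 q9314 (flp_j L267783) q11317,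 e3 q9315 L184232 q7590, e3 q9316 (flp_j L267834) q11320, e3 q9317 L184272 q9317, e3 q9318 (flp_j L252885) q10520, e3 q9319 (flp_j L252895) q10521, e3 q9320 L184308 q7595, e3 q9321 L184314 q7596, e3 q9322 L184325 q7597, e3 q9323 (flp_j L267926) q11325, e3 q9324 L615673 q11324, e3 q9325 (flp_j L615589) q11323, e3 q9326 L615973 q11322, e3 q9327 L645624 q11300, e3 q9328 L184365 q7600, e3 q9329 L184375 q7601, e3 q9330 L184382 q7602, e3 q9331 (flp_j L268014) q11331, e3 q9332 (flp_j L268024) q11332, e3 q9333 (flp_j L268033) q11333, e3 q9334 L184416 q9334, e3 q9335 L184422 q9335, e3 q9336 L184426 q9336, e3 q9337 L616037 q10525, e3 q9338 (flp_j L184569) q7606, e3 q9339 (flp_j L268310) q11341, e3 q9340 L184590 q7608, e3 q9341 (flp_j L268343) q11343, e3 q9342 (flp_j L253342) q10538, e3 q9343 (flp_j L253525) q10539, trivial⟩ (by decide +kernel)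

theorem ce_j_146 : ∀ r, r < 64 → sm gj (Qf (9344 + r)) = Qf (tab Gen.j (9344 + r)) :=
  edges_tab (sm gj) Qf (tab Gen.j) 9344 [(9344, 7613), (9345, 11345), (9346, 11346), (9347, 7615), (9348, 11349), (9349, 9349), (9350, 7617), (9351, 11351), (9352, 10548), (9353, 7619), (9354, 11355), (9355, 11356), (9356, 7621), (9357, 7622), (9358, 11360), (9359, 11361), (9360, 9360), (9361, 9361), (9362, 10558), (9363, 7627), (9364, 11367), (9365, 11368), (9366, 7629), (9367, 11371), (9368, 9368), (9369, 10565), (9370, 10566), (9371, 7634), (9372, 7635), (9373, 7636), (9374, 11374), (9375, 11375), (9376, 11376), (9377, 7650), (9378, 11298), (9379, 7639), (9380, 7640), (9381, 7641), (9382, 11380), (9383, 7826), (9384, 11381), (9385, 9385), (9386, 9386), (9387, 9387), (9388, 10561), (9389, 7654), (9390, 7814), (9391, 7791), (9392, 7738), (9393, 9393), (9394, 9394), (9395, 9395), (9396, 7697), (9397, 9732), (9398, 9727), (9399, 9728), (9400, 7704), (9401, 7705), (9402, 7667), (9403, 9726), (9404, 7713), (9405, 7714), (9406, 7715), (9407,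 7672)]
    ⟨e3 q9344 L184734 q7613, e3 q9345 (flp_j L268528) q11345, e3 q9346 (flp_j L268535) q11346, e3 q9347 L184776 q7615, e3 q9348 (flp_j L268594) q11349, e3 q9349 L184821 q9349, e3 q9350 (flp_j L184841) q7617, e3 q9351 (flp_j L268682) q11351, e3 q9352 (flp_j L253665) q10548, e3 q9353 L184867 q7619, e3 q9354 (flp_j L268708) q11355, e3 q9355 (flp_j L268717) q11356, e3 q9356 L184885 q7621, e3 q9357 L184896 q7622, e3 q9358 (flp_j L268742) q11360, e3 q9359 (flp_j L268753) q11361, e3 q9360 L184916 q9360, e3 q9361 L184925 q9361, e3 q9362 (flp_j L253774) q10558, e3 q9363 L184947 q7627, e3 q9364 (flp_j L268819) q11367, e3 q9365 (flp_j L268826) q11368, e3 q9366 L184981 q7629, e3 q9367 (flp_j L268877) q11371, e3 q9368 L185023 q9368, e3 q9369 (flp_j L253986) q10565, e3 q9370 (flp_j L253996) q10566, e3 q9371 L185058 q7634, e3 q9372 L185064 q7635, e3 q9373 L185077 q7636, e3 q9374 (flp_j L268968) q11374, e3 q9375 (flp_j L268976) q11375, e3 q9376 (flp_j L268986) q11376, e3 q9377 (flp_j L647075) q7650, e3 q9378 (flp_j L629191) q11298,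 e3 q9379 L185117 q7639, e3 q9380 L185128 q7640, e3 q9381 L185137 q7641, e3 q9382 (flp_j L269063) q11380, e3 q9383 L646435 q7826, e3 q9384 (flp_j L269083) q11381, e3 q9385 L185173 q9385, e3 q9386 L185182 q9386, e3 q9387 L185185 q9387, e3 q9388 (flp_j L646069) q10561, e3 q9389 L185305 q7654, e3 q9390 L629633 q7814, e3 q9391 L646424 q7791, e3 q9392 L645691 q7738, e3 q9393 L185359 q9393, e3 q9394 L185364 q9394, e3 q9395 L185369 q9395, e3 q9396 L185543 q7697, e3 q9397 (flp_j L642811) q9732, e3 q9398 (flp_j L627549) q9727, e3 q9399 L627666 q9728, e3 q9400 L185676 q7704, e3 q9401 L185687 q7705, e3 q9402 L185697 q7667, e3 q9403 L630726 q9726, e3 q9404 L185792 q7713, e3 q9405 L185799 q7714, e3 q9406 L185809 q7715, e3 q9407 L185817 q7672, trivial⟩ (by decide +kernel)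

theorem ce_j_147 : ∀ r, r < 64 → sm gj (Qf (9408 + r)) = Qf (tab Gen.j (9408 + r)) :=
  edges_tab (sm gj) Qf (tab Gen.j) 9408 [(9408, 7673), (9409, 9889), (9410, 11399), (9411, 7720), (9412, 7721), (9413, 11403), (9414, 7723), (9415, 9724), (9416, 9725), (9417, 7680), (9418, 7681), (9419, 9882), (9420, 11406), (9421, 7731), (9422, 7732), (9423, 7733), (9424, 7686), (9425, 7687), (9426, 11413), (9427, 11414), (9428, 11415), (9429, 7690), (9430, 7691), (9431, 11421), (9432, 11422), (9433, 11423), (9434, 7745), (9435, 7746), (9436, 7747), (9437, 9733), (9438, 9835), (9439, 9845), (9440, 7699), (9441, 9747), (9442, 9748), (9443, 7702), (9444, 7703), (9445, 9900), (9446, 11434), (9447, 10120), (9448, 11391), (9449, 11392), (9450, 9824), (9451, 9828), (9452, 7972), (9453, 9745), (9454, 7712), (9455, 9881), (9456, 9888), (9457, 9891), (9458, 11393), (9459, 11394), (9460, 11395), (9461, 11396), (9462, 11397), (9463, 11398), (9464, 7718), (9465, 7719), (9466, 11460), (9467, 11461), (9468, 11464), (9469, 11402), (9470, 7722), (9471,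 11450)]
    ⟨e3 q9408 L185829 q7673, e3 q9409 L645185 q9889, e3 q9410 (flp_j L270118) q11399, e3 q9411 L185850 q7720, e3 q9412 L185861 q7721, e3 q9413 L270167 q11403, e3 q9414 L185886 q7723, e3 q9415 L648178 q9724, e3 q9416 (flp_j L647977) q9725, e3 q9417 L185940 q7680, e3 q9418 L185951 q7681, e3 q9419 L635723 q9882, e3 q9420 (flp_j L270268) q11406, e3 q9421 L185970 q7731, e3 q9422 L185980 q7732, e3 q9423 L185987 q7733, e3 q9424 L186006 q7686, e3 q9425 L186016 q7687, e3 q9426 (flp_j L270341) q11413, e3 q9427 (flp_j L270348) q11414, e3 q9428 (flp_j L270359) q11415, e3 q9429 L186046 q7690, e3 q9430 L186057 q7691, e3 q9431 (flp_j L270404) q11421, e3 q9432 (flp_j L270415) q11422, e3 q9433 (flp_j L270422) q11423, e3 q9434 L186084 q7745, e3 q9435 L186094 q7746, e3 q9436 L186102 q7747, e3 q9437 (flp_j L648017) q9733, e3 q9438 (flp_j L642736) q9835, e3 q9439 L633481 q9845, e3 q9440 L186410 q7699, e3 q9441 L627586 q9747, e3 q9442 (flp_j L627630) q9748, e3 q9443 L186526 q7702, e3 q9444 L186536 q7703, e3 q9445 (flp_j L648106) q9900,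 e3 q9446 (flp_j L271134) q11434, e3 q9447 (flp_j L642479) q10120, e3 q9448 (flp_j L269891) q11391, e3 q9449 (flp_j L269899) q11392, e3 q9450 L642433 q9824, e3 q9451 (flp_j L642387) q9828, e3 q9452 (flp_j L633592) q7972, e3 q9453 (flp_j L645351) q9745, e3 q9454 L186685 q7712, e3 q9455 (flp_j L635691) q9881, e3 q9456 (flp_j L642606) q9888, e3 q9457 (flp_j L645358) q9891, e3 q9458 (flp_j L270059) q11393, e3 q9459 (flp_j L270066) q11394, e3 q9460 (flp_j L270075) q11395, e3 q9461 (flp_j L270082) q11396, e3 q9462 (flp_j L270092) q11397, e3 q9463 (flp_j L270098) q11398, e3 q9464 L186746 q7718, e3 q9465 L186757 q7719, e3 q9466 (flp_j L271463) q11460, e3 q9467 (flp_j L271474) q11461, e3 q9468 L271511 q11464, e3 q9469 (flp_j L270156) q11402, e3 q9470 (flp_j L186804) q7722, e3 q9471 (flp_j L648244) q11450, trivial⟩ (by decide +kernel)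

theorem ce_j_148 : ∀ r, r < 64 → sm gj (Qf (9472 + r)) = Qf (tab Gen.j (9472 + r)) :=
  edges_tab (sm gj) Qf (tab Gen.j) 9472 [(9472, 7725), (9473, 7726), (9474, 9973), (9475, 11389), (9476, 11466), (9477, 7729), (9478, 7730), (9479, 11472), (9480, 11473), (9481, 11474), (9482, 11410), (9483, 11411), (9484, 11412), (9485, 9485), (9486, 7737), (9487, 7739), (9488, 11481), (9489, 11336), (9490, 11482), (9491, 11305), (9492, 11483), (9493, 7742), (9494, 7743), (9495, 7744), (9496, 11490), (9497, 11491), (9498, 11492), (9499, 11427), (9500, 11428), (9501, 11429), (9502, 9754), (9503, 9755), (9504, 7750), (9505, 7751), (9506, 11501), (9507, 11502), (9508, 9508), (9509, 9509), (9510, 9510), (9511, 7756), (9512, 7757), (9513, 11509), (9514, 11388), (9515, 11510), (9516, 7760), (9517, 7761), (9518, 11516), (9519, 11517), (9520, 11518), (9521, 9521), (9522, 9522), (9523, 9523), (9524, 7766), (9525, 7767), (9526, 11525), (9527, 9983), (9528, 11526), (9529, 7770), (9530, 7771), (9531, 7772), (9532, 11533), (9533, 11534), (9534, 11535),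 (9535, 11536)]
    ⟨e3 q9472 L186851 q7725, e3 q9473 L186862 q7726, e3 q9474 L635765 q9973, e3 q9475 (flp_j L645700) q11389, e3 q9476 (flp_j L271615) q11466, e3 q9477 L186890 q7729, e3 q9478 L186899 q7730, e3 q9479 (flp_j L271658) q11472, e3 q9480 (flp_j L271667) q11473, e3 q9481 (flp_j L271673) q11474, e3 q9482 (flp_j L270296) q11410, e3 q9483 (flp_j L270306) q11411, e3 q9484 (flp_j L270313) q11412, e3 q9485 L186956 q9485, e3 q9486 L186963 q7737, e3 q9487 L186982 q7739, e3 q9488 (flp_j L271749) q11481, e3 q9489 L645461 q11336, e3 q9490 (flp_j L271768) q11482, e3 q9491 (flp_j L645709) q11305, e3 q9492 (flp_j L271784) q11483, e3 q9493 L187026 q7742, e3 q9494 L187035 q7743, e3 q9495 L187040 q7744, e3 q9496 (flp_j L271844) q11490, e3 q9497 (flp_j L271853) q11491, e3 q9498 (flp_j L271860) q11492, e3 q9499 (flp_j L270455) q11427, e3 q9500 (flp_j L270462) q11428, e3 q9501 (flp_j L270469) q11429, e3 q9502 L640945 q9754, e3 q9503 L640916 q9755, e3 q9504 L187352 q7750, e3 q9505 L187364 q7751, e3 q9506 (flp_j L272331) q11501, e3 q9507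 (flp_j L272353) q11502, e3 q9508 L187398 q9508, e3 q9509 L187417 q9509, e3 q9510 L187441 q9510, e3 q9511 L187560 q7756, e3 q9512 L187571 q7757, e3 q9513 (flp_j L272631) q11509, e3 q9514 (flp_j L629645) q11388, e3 q9515 (flp_j L272653) q11510, e3 q9516 L187606 q7760, e3 q9517 L187618 q7761, e3 q9518 (flp_j L272703) q11516, e3 q9519 (flp_j L272715) q11517, e3 q9520 (flp_j L272723) q11518, e3 q9521 L187649 q9521, e3 q9522 L187660 q9522, e3 q9523 L187668 q9523, e3 q9524 L187685 q7766, e3 q9525 L187695 q7767, e3 q9526 (flp_j L272803) q11525, e3 q9527 (flp_j L640727) q9983, e3 q9528 (flp_j L272821) q11526, e3 q9529 L187722 q7770, e3 q9530 L187731 q7771, e3 q9531 L187742 q7772, e3 q9532 (flp_j L272872) q11533, e3 q9533 (flp_j L272881) q11534, e3 q9534 (flp_j L272891) q11535, e3 q9535 (flp_j L272898) q11536, trivial⟩ (by decide +kernel)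

theorem ce_j_149 : ∀ r, r < 64 → sm gj (Qf (9536 + r)) = Qf (tab Gen.j (9536 + r)) :=
  edges_tab (sm gj) Qf (tab Gen.j) 9536 [(9536, 11537), (9537, 11538), (9538, 9538), (9539, 9539), (9540, 9540), (9541, 9541), (9542, 9542), (9543, 9543), (9544, 11557), (9545, 9545), (9546, 9546), (9547, 7781), (9548, 7782), (9549, 11562), (9550, 11561), (9551, 7783), (9552, 11564), (9553, 7786), (9554, 9554), (9555, 7790), (9556, 7792), (9557, 7829), (9558, 11383), (9559, 11565), (9560, 11304), (9561, 7809), (9562, 7795), (9563, 7796), (9564, 7797), (9565, 11571), (9566, 11570), (9567, 11567), (9568, 9568), (9569, 9569), (9570, 9570), (9571, 7820), (9572, 7808), (9573, 11515), (9574, 9574), (9575, 7813), (9576, 11577), (9577, 11382), (9578, 7828), (9579, 7818), (9580, 7819), (9581, 11580), (9582, 11578), (9583, 11566), (9584, 9584), (9585, 9585), (9586, 9586), (9587, 10544), (9588, 11527), (9589, 9589), (9590, 9590), (9591, 9591), (9592, 9592), (9593, 7855), (9594, 10639), (9595, 10631), (9596, 10952), (9597, 10940), (9598, 11594), (9599,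 7863)]
    ⟨e3 q9536 (flp_j L272909) q11537, e3 q9537 (flp_j L272915) q11538, e3 q9538 L187795 q9538, e3 q9539 L187802 q9539, e3 q9540 L187812 q9540, e3 q9541 L187817 q9541, e3 q9542 L187826 q9542, e3 q9543 L187832 q9543, e3 q9544 L273057 q11557, e3 q9545 L187849 q9545, e3 q9546 L187855 q9546, e3 q9547 L187860 q7781, e3 q9548 L187870 q7782, e3 q9549 L273112 q11562, e3 q9550 (flp_j L273100) q11561, e3 q9551 (flp_j L187902) q7783, e3 q9552 (flp_j L273147) q11564, e3 q9553 L187939 q7786, e3 q9554 L187981 q9554, e3 q9555 L187987 q7790, e3 q9556 L188007 q7792, e3 q9557 L646637 q7829, e3 q9558 L629322 q11383, e3 q9559 (flp_j L273263) q11565, e3 q9560 (flp_j L646281) q11304, e3 q9561 L647363 q7809, e3 q9562 L188052 q7795, e3 q9563 L188063 q7796, e3 q9564 L188070 q7797, e3 q9565 (flp_j L273344) q11571, e3 q9566 (flp_j L629410) q11570, e3 q9567 (flp_j L646673) q11567, e3 q9568 L188106 q9568, e3 q9569 L188114 q9569, e3 q9570 L188120 q9570, e3 q9571 L646650 q7820, e3 q9572 L188255 q7808, e3 q9573 (flp_j L629579) q11515, e3 q9574 L188309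 q9574, e3 q9575 L188356 q7813, e3 q9576 (flp_j L273735) q11577, e3 q9577 L646368 q11382, e3 q9578 (flp_j L646236) q7828, e3 q9579 L188424 q7818, e3 q9580 L188435 q7819, e3 q9581 (flp_j L645849) q11580, e3 q9582 (flp_j L645858) q11578, e3 q9583 (flp_j L645811) q11566, e3 q9584 L188479 q9584, e3 q9585 L188486 q9585, e3 q9586 L188492 q9586, e3 q9587 (flp_j L646344) q10544, e3 q9588 (flp_j L646642) q11527, e3 q9589 L188668 q9589, e3 q9590 L188674 q9590, e3 q9591 L188679 q9591, e3 q9592 L189323 q9592, e3 q9593 L193744 q7855, e3 q9594 L607711 q10639, e3 q9595 (flp_j L621669) q10631, e3 q9596 (flp_j L607616) q10952, e3 q9597 L612192 q10940, e3 q9598 L284072 q11594, e3 q9599 L614929 q7863, trivial⟩ (by decide +kernel)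

theorem ce_j_150 : ∀ r, r < 64 → sm gj (Qf (9600 + r)) = Qf (tab Gen.j (9600 + r)) :=
  edges_tab (sm gj) Qf (tab Gen.j) 9600 [(9600, 7856), (9601, 11596), (9602, 9602), (9603, 9603), (9604, 7908), (9605, 9605), (9606, 11595), (9607, 9607), (9608, 9608), (9609, 7916), (9610, 7927), (9611, 7923), (9612, 7871), (9613, 7921), (9614, 11605), (9615, 9615), (9616, 9616), (9617, 9617), (9618, 7920), (9619, 7878), (9620, 11057), (9621, 11611), (9622, 7880), (9623, 7893), (9624, 7896), (9625, 7899), (9626, 7902), (9627, 11442), (9628, 10915), (9629, 10691), (9630, 10900), (9631, 11612), (9632, 10698), (9633, 11613), (9634, 10723), (9635, 10651), (9636, 10654), (9637, 10650), (9638, 10709), (9639, 11623), (9640, 7903), (9641, 7913), (9642, 7904), (9643, 11625), (9644, 9644), (9645, 10793), (9646, 11598), (9647, 7910), (9648, 11624), (9649, 11629), (9650, 9650), (9651, 9651), (9652, 7933), (9653, 10519), (9654, 11600), (9655, 7918), (9656, 11635), (9657, 11606), (9658, 11607), (9659, 7924), (9660, 11603), (9661, 11604), (9662, 9662),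 (9663, 9663)]
    ⟨e3 q9600 (flp_j L196733) q7856, e3 q9601 (flp_j L286071) q11596, e3 q9602 L196764 q9602, e3 q9603 L197132 q9603, e3 q9604 (flp_j L615370) q7908, e3 q9605 L197151 q9605, e3 q9606 (flp_j L614942) q11595, e3 q9607 L197332 q9607, e3 q9608 L197341 q9608, e3 q9609 L616220 q7916, e3 q9610 L617277 q7927, e3 q9611 (flp_j L615205) q7923, e3 q9612 L197625 q7871, e3 q9613 (flp_j L615141) q7921, e3 q9614 (flp_j L287376) q11605, e3 q9615 L197645 q9615, e3 q9616 L197654 q9616, e3 q9617 L197664 q9617, e3 q9618 L616090 q7920, e3 q9619 L197785 q7878, e3 q9620 (flp_j L617260) q11057, e3 q9621 L287652 q11611, e3 q9622 (flp_j L197843) q7880, e3 q9623 L198264 q7893, e3 q9624 L198650 q7896, e3 q9625 L198895 q7899, e3 q9626 L198991 q7902, e3 q9627 (flp_j L642548) q11442, e3 q9628 (flp_j L617194) q10915, e3 q9629 (flp_j L606955) q10691, e3 q9630 L617204 q10900, e3 q9631 (flp_j L288236) q11612, e3 q9632 L612398 q10698, e3 q9633 (flp_j L288812) q11613, e3 q9634 L607058 q10723, e3 q9635 L617545 q10651, e3 q9636 (flp_j L621514) q10654,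 e3 q9637 L612216 q10650, e3 q9638 L617225 q10709, e3 q9639 L291640 q11623, e3 q9640 (flp_j L200591) q7903, e3 q9641 (flp_j L616259) q7913, e3 q9642 (flp_j L201039) q7904, e3 q9643 (flp_j L292275) q11625, e3 q9644 L201073 q9644, e3 q9645 (flp_j L616101) q10793, e3 q9646 (flp_j L615187) q11598, e3 q9647 L201369 q7910, e3 q9648 (flp_j L615360) q11624, e3 q9649 (flp_j L292737) q11629, e3 q9650 L201388 q9650, e3 q9651 L201403 q9651, e3 q9652 (flp_j L616240) q7933, e3 q9653 L616045 q10519, e3 q9654 (flp_j L615052) q11600, e3 q9655 L202097 q7918, e3 q9656 (flp_j L293815) q11635, e3 q9657 (flp_j L615045) q11606, e3 q9658 (flp_j L615039) q11607, e3 q9659 L202414 q7924, e3 q9660 (flp_j L615007) q11603, e3 q9661 (flp_j L615001) q11604, e3 q9662 L202433 q9662, e3 q9663 L202442 q9663, trivial⟩ (by decide +kernel)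

theorem ce_j_151 : ∀ r, r < 64 → sm gj (Qf (9664 + r)) = Qf (tab Gen.j (9664 + r)) :=
  edges_tab (sm gj) Qf (tab Gen.j) 9664 [(9664, 10831), (9665, 11643), (9666, 7930), (9667, 11645), (9668, 7931), (9669, 10528), (9670, 11630), (9671, 7935), (9672, 11648), (9673, 7938), (9674, 11649), (9675, 7940), (9676, 10308), (9677, 11652), (9678, 7942), (9679, 7943), (9680, 10319), (9681, 11654), (9682, 9682), (9683, 9683), (9684, 10324), (9685, 9685), (9686, 10328), (9687, 7954), (9688, 11659), (9689, 10394), (9690, 7959), (9691, 11662), (9692, 7961), (9693, 7963), (9694, 11663), (9695, 11664), (9696, 7965), (9697, 7977), (9698, 7978), (9699, 7981), (9700, 9795), (9701, 11444), (9702, 9794), (9703, 7998), (9704, 10605), (9705, 11667), (9706, 11668), (9707, 10613), (9708, 11671), (9709, 7983), (9710, 11676), (9711, 7984), (9712, 11677), (9713, 7987), (9714, 9714), (9715, 9715), (9716, 7997), (9717, 9784), (9718, 8017), (9719, 8019), (9720, 8020), (9721, 8023), (9722, 8026), (9723, 8793), (9724, 9415), (9725, 9416), (9726, 9403), (9727,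 9398)]
    ⟨e3 q9664 (flp_j L617253) q10831, e3 q9665 L294322 q11643, e3 q9666 L202545 q7930, e3 q9667 L294371 q11645, e3 q9668 (flp_j L202583) q7931, e3 q9669 (flp_j L616255) q10528, e3 q9670 (flp_j L616236) q11630, e3 q9671 L202869 q7935, e3 q9672 (flp_j L294824) q11648, e3 q9673 (flp_j L203094) q7938, e3 q9674 (flp_j L295117) q11649, e3 q9675 L203122 q7940, e3 q9676 (flp_j L613891) q10308, e3 q9677 (flp_j L295153) q11652, e3 q9678 L203144 q7942, e3 q9679 L203152 q7943, e3 q9680 L613914 q10319, e3 q9681 (flp_j L295200) q11654, e3 q9682 L203180 q9682, e3 q9683 L203196 q9683, e3 q9684 L615442 q10324, e3 q9685 L203505 q9685, e3 q9686 (flp_j L616195) q10328, e3 q9687 L203537 q7954, e3 q9688 (flp_j L295702) q11659, e3 q9689 (flp_j L616186) q10394, e3 q9690 L203587 q7959, e3 q9691 (flp_j L295750) q11662, e3 q9692 L203604 q7961, e3 q9693 L203618 q7963, e3 q9694 (flp_j L295769) q11663, e3 q9695 (flp_j L295778) q11664, e3 q9696 L203646 q7965, e3 q9697 L204219 q7977, e3 q9698 L204230 q7978, e3 q9699 L204330 q7981, e3 q9700 L611526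 q9795, e3 q9701 (flp_j L642532) q11444, e3 q9702 (flp_j L645025) q9794, e3 q9703 (flp_j L642345) q7998, e3 q9704 (flp_j L620708) q10605, e3 q9705 (flp_j L296674) q11667, e3 q9706 (flp_j L296685) q11668, e3 q9707 L621397 q10613, e3 q9708 (flp_j L641453) q11671, e3 q9709 L205476 q7983, e3 q9710 L298533 q11676, e3 q9711 (flp_j L205516) q7984, e3 q9712 L299213 q11677, e3 q9713 (flp_j L206066) q7987, e3 q9714 L206792 q9714, e3 q9715 L206803 q9715, e3 q9716 L206831 q7997, e3 q9717 (flp_j L641424) q9784, e3 q9718 L241465 q8017, e3 q9719 L241510 q8019, e3 q9720 L241522 q8020, e3 q9721 L241568 q8023, e3 q9722 L241610 q8026, e3 q9723 (flp_j L642769) q8793, e3 q9724 (flp_j L648178) q9415, e3 q9725 L647977 q9416, e3 q9726 (flp_j L630726) q9403, e3 q9727 L627549 q9398, trivial⟩ (by decide +kernel)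

theorem ce_j_152 : ∀ r, r < 64 → sm gj (Qf (9728 + r)) = Qf (tab Gen.j (9728 + r)) :=
  edges_tab (sm gj) Qf (tab Gen.j) 9728 [(9728, 9399), (9729, 11678), (9730, 11679), (9731, 8755), (9732, 9397), (9733, 9437), (9734, 8794), (9735, 8758), (9736, 8028), (9737, 9737), (9738, 9738), (9739, 9739), (9740, 9740), (9741, 9741), (9742, 9742), (9743, 9743), (9744, 9744), (9745, 9453), (9746, 9746), (9747, 9441), (9748, 9442), (9749, 9749), (9750, 9750), (9751, 9751), (9752, 9752), (9753, 9753), (9754, 9502), (9755, 9503), (9756, 9756), (9757, 9757), (9758, 8046), (9759, 8865), (9760, 8866), (9761, 8049), (9762, 8050), (9763, 11711), (9764, 11712), (9765, 9765), (9766, 9766), (9767, 9767), (9768, 9768), (9769, 9769), (9770, 9770), (9771, 9771), (9772, 8080), (9773, 8081), (9774, 8727), (9775, 8083), (9776, 8729), (9777, 8086), (9778, 8090), (9779, 8092), (9780, 8724), (9781, 8726), (9782, 8095), (9783, 11719), (9784, 9717), (9785, 11726), (9786, 11721), (9787, 8082), (9788, 8739), (9789, 11729), (9790, 8085), (9791, 8744)]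
    ⟨e3 q9728 (flp_j L627666) q9399, e3 q9729 (flp_j L350810) q11678, e3 q9730 (flp_j L350822) q11679, e3 q9731 L645214 q8755, e3 q9732 L642811 q9397, e3 q9733 L648017 q9437, e3 q9734 (flp_j L633267) q8794, e3 q9735 (flp_j L642791) q8758, e3 q9736 L241941 q8028, e3 q9737 L241975 q9737, e3 q9738 L241984 q9738, e3 q9739 L242037 q9739, e3 q9740 L242049 q9740, e3 q9741 L242057 q9741, e3 q9742 L242068 q9742, e3 q9743 L242102 q9743, e3 q9744 L242114 q9744, e3 q9745 L645351 q9453, e3 q9746 L242189 q9746, e3 q9747 (flp_j L627586) q9441, e3 q9748 L627630 q9442, e3 q9749 L242220 q9749, e3 q9750 L242231 q9750, e3 q9751 L242238 q9751, e3 q9752 L242248 q9752, e3 q9753 L242254 q9753, e3 q9754 (flp_j L640945) q9502, e3 q9755 (flp_j L640916) q9503, e3 q9756 L242304 q9756, e3 q9757 L242315 q9757, e3 q9758 L242323 q8046, e3 q9759 (flp_j L640924) q8865, e3 q9760 L642974 q8866, e3 q9761 L242361 q8049, e3 q9762 L242373 q8050, e3 q9763 (flp_j L352070) q11711, e3 q9764 (flp_j L352082) q11712, e3 q9765 L242400 q9765, e3 q9766 L242411 q9766, e3 q9767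 L242418 q9767, e3 q9768 L242450 q9768, e3 q9769 L242461 q9769, e3 q9770 L242472 q9770, e3 q9771 L242580 q9771, e3 q9772 L242721 q8080, e3 q9773 L242738 q8081, e3 q9774 L644921 q8727, e3 q9775 L242760 q8083, e3 q9776 L644365 q8729, e3 q9777 L242804 q8086, e3 q9778 L242867 q8090, e3 q9779 L242913 q8092, e3 q9780 (flp_j L644933) q8724, e3 q9781 L644958 q8726, e3 q9782 L242963 q8095, e3 q9783 (flp_j L352611) q11719, e3 q9784 L641424 q9717, e3 q9785 L353281 q11726, e3 q9786 (flp_j L352670) q11721, e3 q9787 (flp_j L243185) q8082, e3 q9788 L644726 q8739, e3 q9789 L353336 q11729, e3 q9790 (flp_j L243222) q8085, e3 q9791 L644546 q8744, trivial⟩ (by decide +kernel)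

theorem ce_j_153 : ∀ r, r < 64 → sm gj (Qf (9792 + r)) = Qf (tab Gen.j (9792 + r)) :=
  edges_tab (sm gj) Qf (tab Gen.j) 9792 [(9792, 8132), (9793, 8720), (9794, 9702), (9795, 9700), (9796, 11736), (9797, 8093), (9798, 11737), (9799, 8094), (9800, 8725), (9801, 8752), (9802, 8098), (9803, 8728), (9804, 8139), (9805, 11742), (9806, 8141), (9807, 8142), (9808, 8143), (9809, 11748), (9810, 8145), (9811, 8106), (9812, 11752), (9813, 8148), (9814, 11732), (9815, 8110), (9816, 11754), (9817, 8152), (9818, 8153), (9819, 8113), (9820, 11757), (9821, 8156), (9822, 8157), (9823, 8158), (9824, 9450), (9825, 8160), (9826, 8161), (9827, 8162), (9828, 9451), (9829, 8164), (9830, 8167), (9831, 8168), (9832, 11774), (9833, 8170), (9834, 8123), (9835, 9438), (9836, 8173), (9837, 8174), (9838, 8175), (9839, 8176), (9840, 11728), (9841, 8127), (9842, 8804), (9843, 8180), (9844, 8181), (9845, 9439), (9846, 8811), (9847, 8190), (9848, 8138), (9849, 11739), (9850, 11790), (9851, 11741), (9852, 8140), (9853, 11794), (9854, 11744), (9855, 11745)]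
    ⟨e3 q9792 L632046 q8132, e3 q9793 L644335 q8720, e3 q9794 L645025 q9702, e3 q9795 (flp_j L611526) q9700, e3 q9796 L353609 q11736, e3 q9797 (flp_j L243396) q8093, e3 q9798 L353692 q11737, e3 q9799 (flp_j L243446) q8094, e3 q9800 L644609 q8725, e3 q9801 L645173 q8752, e3 q9802 (flp_j L243492) q8098, e3 q9803 L644430 q8728, e3 q9804 L243652 q8139, e3 q9805 L354007 q11742, e3 q9806 L243676 q8141, e3 q9807 L243683 q8142, e3 q9808 L243696 q8143, e3 q9809 L354080 q11748, e3 q9810 L243716 q8145, e3 q9811 (flp_j L243718) q8106, e3 q9812 (flp_j L354126) q11752, e3 q9813 L243744 q8148, e3 q9814 (flp_j L632058) q11732, e3 q9815 (flp_j L243758) q8110, e3 q9816 (flp_j L354168) q11754, e3 q9817 L243783 q8152, e3 q9818 L243795 q8153, e3 q9819 L243807 q8113, e3 q9820 (flp_j L354216) q11757, e3 q9821 L243829 q8156, e3 q9822 L243841 q8157, e3 q9823 L243849 q8158, e3 q9824 (flp_j L642433) q9450, e3 q9825 L243869 q8160, e3 q9826 L243876 q8161, e3 q9827 L243888 q8162, e3 q9828 L642387 q9451, e3 q9829 L243906 q8164, e3 q9830 L243933 q8167,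 e3 q9831 L243941 q8168, e3 q9832 L354448 q11774, e3 q9833 L243962 q8170, e3 q9834 (flp_j L243964) q8123, e3 q9835 L642736 q9438, e3 q9836 L243989 q8173, e3 q9837 L244000 q8174, e3 q9838 L244007 q8175, e3 q9839 L244019 q8176, e3 q9840 (flp_j L644109) q11728, e3 q9841 (flp_j L244028) q8127, e3 q9842 L642726 q8804, e3 q9843 L244050 q8180, e3 q9844 L244060 q8181, e3 q9845 (flp_j L633481) q9439, e3 q9846 (flp_j L644230) q8811, e3 q9847 L244137 q8190, e3 q9848 L244147 q8138, e3 q9849 (flp_j L353980) q11739, e3 q9850 L354960 q11790, e3 q9851 (flp_j L354005) q11741, e3 q9852 (flp_j L244297) q8140, e3 q9853 (flp_j L355006) q11794, e3 q9854 (flp_j L354034) q11744, e3 q9855 (flp_j L354046) q11745, trivial⟩ (by decide +kernel)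

theorem ce_j_154 : ∀ r, r < 64 → sm gj (Qf (9856 + r)) = Qf (tab Gen.j (9856 + r)) :=
  edges_tab (sm gj) Qf (tab Gen.j) 9856 [(9856, 11746), (9857, 11800), (9858, 8144), (9859, 11802), (9860, 11750), (9861, 11751), (9862, 8147), (9863, 11807), (9864, 8149), (9865, 11809), (9866, 8151), (9867, 11812), (9868, 11813), (9869, 8340), (9870, 11756), (9871, 8155), (9872, 11758), (9873, 11822), (9874, 11760), (9875, 11761), (9876, 11762), (9877, 11763), (9878, 11830), (9879, 11765), (9880, 8159), (9881, 9455), (9882, 9419), (9883, 11766), (9884, 11767), (9885, 11768), (9886, 11840), (9887, 8163), (9888, 9456), (9889, 9409), (9890, 11770), (9891, 9457), (9892, 11845), (9893, 11772), (9894, 11849), (9895, 8169), (9896, 11851), (9897, 11776), (9898, 11777), (9899, 8172), (9900, 9445), (9901, 11857), (9902, 11779), (9903, 11780), (9904, 11781), (9905, 11782), (9906, 11783), (9907, 8177), (9908, 11867), (9909, 8179), (9910, 8803), (9911, 11870), (9912, 11785), (9913, 11786), (9914, 8183), (9915, 8854), (9916, 8185), (9917, 8809), (9918,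 11876), (9919, 8188)]
    ⟨e3 q9856 (flp_j L354069) q11746, e3 q9857 L355074 q11800, e3 q9858 (flp_j L244365) q8144, e3 q9859 (flp_j L355100) q11802, e3 q9860 (flp_j L354104) q11750, e3 q9861 (flp_j L354115) q11751, e3 q9862 L244404 q8147, e3 q9863 (flp_j L355140) q11807, e3 q9864 (flp_j L244418) q8149, e3 q9865 (flp_j L355164) q11809, e3 q9866 L244447 q8151, e3 q9867 (flp_j L355189) q11812, e3 q9868 (flp_j L355199) q11813, e3 q9869 (flp_j L644147) q8340, e3 q9870 (flp_j L354205) q11756, e3 q9871 L244490 q8155, e3 q9872 (flp_j L354227) q11758, e3 q9873 L355273 q11822, e3 q9874 (flp_j L354249) q11760, e3 q9875 (flp_j L354258) q11761, e3 q9876 (flp_j L354271) q11762, e3 q9877 (flp_j L354279) q11763, e3 q9878 L355365 q11830, e3 q9879 (flp_j L354300) q11765, e3 q9880 (flp_j L244567) q8159, e3 q9881 L635691 q9455, e3 q9882 (flp_j L635723) q9419, e3 q9883 (flp_j L354338) q11766, e3 q9884 (flp_j L354345) q11767, e3 q9885 (flp_j L354357) q11768, e3 q9886 L355465 q11840, e3 q9887 (flp_j L244627) q8163, e3 q9888 L642606 q9456, e3 q9889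 (flp_j L645185) q9409, e3 q9890 (flp_j L354403) q11770, e3 q9891 L645358 q9457, e3 q9892 L355542 q11845, e3 q9893 (flp_j L354437) q11772, e3 q9894 L355571 q11849, e3 q9895 (flp_j L244701) q8169, e3 q9896 (flp_j L355601) q11851, e3 q9897 (flp_j L354474) q11776, e3 q9898 (flp_j L354486) q11777, e3 q9899 L244743 q8172, e3 q9900 L648106 q9445, e3 q9901 (flp_j L355656) q11857, e3 q9902 (flp_j L354520) q11779, e3 q9903 (flp_j L354531) q11780, e3 q9904 (flp_j L354539) q11781, e3 q9905 (flp_j L354551) q11782, e3 q9906 (flp_j L354558) q11783, e3 q9907 (flp_j L244801) q8177, e3 q9908 (flp_j L355737) q11867, e3 q9909 L244825 q8179, e3 q9910 (flp_j L636005) q8803, e3 q9911 (flp_j L355769) q11870, e3 q9912 (flp_j L354605) q11785, e3 q9913 (flp_j L354615) q11786, e3 q9914 L244859 q8183, e3 q9915 L244868 q8854, e3 q9916 L244879 q8185, e3 q9917 (flp_j L644265) q8809, e3 q9918 (flp_j L355828) q11876, e3 q9919 L244911 q8188, trivial⟩ (by decide +kernel)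

theorem ce_j_155 : ∀ r, r < 64 → sm gj (Qf (9920 + r)) = Qf (tab Gen.j (9920 + r)) :=
  edges_tab (sm gj) Qf (tab Gen.j) 9920 [(9920, 8810), (9921, 8990), (9922, 8995), (9923, 8789), (9924, 11881), (9925, 9925), (9926, 11885), (9927, 8193), (9928, 11887), (9929, 9929), (9930, 9930), (9931, 8196), (9932, 11893), (9933, 11894), (9934, 9934), (9935, 9935), (9936, 9936), (9937, 8200), (9938, 11900), (9939, 8202), (9940, 11903), (9941, 11904), (9942, 9942), (9943, 9943), (9944, 8206), (9945, 8887), (9946, 8208), (9947, 11911), (9948, 11912), (9949, 8210), (9950, 8211), (9951, 11916), (9952, 11917), (9953, 9953), (9954, 9954), (9955, 9955), (9956, 9956), (9957, 11927), (9958, 9958), (9959, 8216), (9960, 11931), (9961, 9961), (9962, 9962), (9963, 9963), (9964, 9964), (9965, 11940), (9966, 9966), (9967, 11944), (9968, 8221), (9969, 11946), (9970, 9970), (9971, 9971), (9972, 8224), (9973, 9474), (9974, 11952), (9975, 9975), (9976, 9976), (9977, 9977), (9978, 9978), (9979, 9979), (9980, 8229), (9981, 11962), (9982, 8231), (9983, 9527)]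
    ⟨e3 q9920 (flp_j L644236) q8810, e3 q9921 (flp_j L641331) q8990, e3 q9922 L634777 q8995, e3 q9923 L641212 q8789, e3 q9924 L356248 q11881, e3 q9925 L245175 q9925, e3 q9926 L356287 q11885, e3 q9927 (flp_j L245186) q8193, e3 q9928 (flp_j L356316) q11887, e3 q9929 L245213 q9929, e3 q9930 L245224 q9930, e3 q9931 L245234 q8196, e3 q9932 (flp_j L356364) q11893, e3 q9933 (flp_j L356375) q11894, e3 q9934 L245259 q9934, e3 q9935 L245270 q9935, e3 q9936 L245295 q9936, e3 q9937 (flp_j L245299) q8200, e3 q9938 (flp_j L356467) q11900, e3 q9939 L245323 q8202, e3 q9940 (flp_j L356493) q11903, e3 q9941 (flp_j L356504) q11904, e3 q9942 L245348 q9942, e3 q9943 L245359 q9943, e3 q9944 L245366 q8206, e3 q9945 L245379 q8887, e3 q9946 L245388 q8208, e3 q9947 (flp_j L356566) q11911, e3 q9948 (flp_j L356576) q11912, e3 q9949 L245413 q8210, e3 q9950 L245425 q8211, e3 q9951 (flp_j L356611) q11916, e3 q9952 (flp_j L356623) q11917, e3 q9953 L245453 q9953, e3 q9954 L245465 q9954, e3 q9955 L245472 q9955, e3 q9956 L245484 q9956, e3 q9957 L356720 q11927,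 e3 q9958 L245506 q9958, e3 q9959 (flp_j L245507) q8216, e3 q9960 (flp_j L356770) q11931, e3 q9961 L245533 q9961, e3 q9962 L245544 q9962, e3 q9963 L245549 q9963, e3 q9964 L245570 q9964, e3 q9965 L356872 q11940, e3 q9966 L245587 q9966, e3 q9967 L356907 q11944, e3 q9968 (flp_j L245596) q8221, e3 q9969 (flp_j L356934) q11946, e3 q9970 L245621 q9970, e3 q9971 L245632 q9971, e3 q9972 L245640 q8224, e3 q9973 (flp_j L635765) q9474, e3 q9974 (flp_j L356992) q11952, e3 q9975 L245661 q9975, e3 q9976 L245671 q9976, e3 q9977 L245678 q9977, e3 q9978 L245688 q9978, e3 q9979 L245693 q9979, e3 q9980 (flp_j L245695) q8229, e3 q9981 (flp_j L357072) q11962, e3 q9982 L245720 q8231, e3 q9983 L640727 q9527, trivial⟩ (by decide +kernel)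

theorem ce_j_156 : ∀ r, r < 64 → sm gj (Qf (9984 + r)) = Qf (tab Gen.j (9984 + r)) :=
  edges_tab (sm gj) Qf (tab Gen.j) 9984 [(9984, 11965), (9985, 9985), (9986, 9986), (9987, 8235), (9988, 11971), (9989, 8236), (9990, 11973), (9991, 9991), (9992, 9992), (9993, 8238), (9994, 11980), (9995, 8240), (9996, 11983), (9997, 11984), (9998, 9998), (9999, 9999), (10000, 10000), (10001, 8244), (10002, 8245), (10003, 11994), (10004, 11995), (10005, 10005), (10006, 10006), (10007, 10007), (10008, 12002), (10009, 10009), (10010, 10010), (10011, 8945), (10012, 8252), (10013, 12006), (10014, 12007), (10015, 8254), (10016, 8255), (10017, 12011), (10018, 12012), (10019, 10019), (10020, 10020), (10021, 10021), (10022, 8956), (10023, 8261), (10024, 8262), (10025, 12020), (10026, 8889), (10027, 12021), (10028, 8265), (10029, 8266), (10030, 12027), (10031, 12028), (10032, 12029), (10033, 10033), (10034, 10034), (10035, 10035), (10036, 8347), (10037, 8348), (10038, 8349), (10039, 8350), (10040, 8355), (10041, 8352), (10042, 8353), (10043, 8273),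 (10044, 8357), (10045, 8358), (10046, 8359), (10047, 8361)]
    ⟨e3 q9984 (flp_j L357110) q11965, e3 q9985 L245745 q9985, e3 q9986 L245756 q9986, e3 q9987 L245763 q8235, e3 q9988 L357161 q11971, e3 q9989 (flp_j L245774) q8236, e3 q9990 (flp_j L357186) q11973, e3 q9991 L245797 q9991, e3 q9992 L245808 q9992, e3 q9993 (flp_j L245809) q8238, e3 q9994 (flp_j L357246) q11980, e3 q9995 L245836 q8240, e3 q9996 (flp_j L357271) q11983, e3 q9997 (flp_j L357282) q11984, e3 q9998 L245858 q9998, e3 q9999 L245865 q9999, e3 q10000 L245876 q10000, e3 q10001 L245882 q8244, e3 q10002 L245892 q8245, e3 q10003 (flp_j L357359) q11994, e3 q10004 (flp_j L357369) q11995, e3 q10005 L245913 q10005, e3 q10006 L245923 q10006, e3 q10007 L245930 q10007, e3 q10008 L357415 q12002, e3 q10009 L245947 q10009, e3 q10010 L245954 q10010, e3 q10011 L245962 q8945, e3 q10012 L245970 q8252, e3 q10013 (flp_j L357462) q12006, e3 q10014 (flp_j L357471) q12007, e3 q10015 L245994 q8254, e3 q10016 L246004 q8255, e3 q10017 (flp_j L357500) q12011, e3 q10018 (flp_j L357510)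 q12012, e3 q10019 L246023 q10019, e3 q10020 L246033 q10020, e3 q10021 L246040 q10021, e3 q10022 L246050 q8956, e3 q10023 L246057 q8261, e3 q10024 L246067 q8262, e3 q10025 (flp_j L357581) q12020, e3 q10026 (flp_j L635199) q8889, e3 q10027 (flp_j L357599) q12021, e3 q10028 L246098 q8265, e3 q10029 L246109 q8266, e3 q10030 (flp_j L357649) q12027, e3 q10031 (flp_j L357660) q12028, e3 q10032 (flp_j L357666) q12029, e3 q10033 L246139 q10033, e3 q10034 L246150 q10034, e3 q10035 L246158 q10035, e3 q10036 L246165 q8347, e3 q10037 L246177 q8348, e3 q10038 L246188 q8349, e3 q10039 L246195 q8350, e3 q10040 L614056 q8355, e3 q10041 L246216 q8352, e3 q10042 L246229 q8353, e3 q10043 (flp_j L246232) q8273, e3 q10044 L246269 q8357, e3 q10045 L246275 q8358, e3 q10046 L246287 q8359, e3 q10047 L246305 q8361, trivial⟩ (by decide +kernel)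

theorem ce_j_157 : ∀ r, r < 64 → sm gj (Qf (10048 + r)) = Qf (tab Gen.j (10048 + r)) :=
  edges_tab (sm gj) Qf (tab Gen.j) 10048 [(10048, 8277), (10049, 12049), (10050, 8364), (10051, 8281), (10052, 12051), (10053, 8368), (10054, 8369), (10055, 8284), (10056, 12056), (10057, 8372), (10058, 8373), (10059, 8374), (10060, 12064), (10061, 8376), (10062, 8377), (10063, 8378), (10064, 12070), (10065, 8380), (10066, 8290), (10067, 12074), (10068, 8383), (10069, 8384), (10070, 12079), (10071, 8386), (10072, 8295), (10073, 12083), (10074, 8389), (10075, 8390), (10076, 8391), (10077, 8392), (10078, 12091), (10079, 8299), (10080, 12093), (10081, 8396), (10082, 8397), (10083, 8302), (10084, 12098), (10085, 8304), (10086, 12100), (10087, 8306), (10088, 12102), (10089, 12103), (10090, 8405), (10091, 8406), (10092, 8310), (10093, 8408), (10094, 12111), (10095, 8410), (10096, 8411), (10097, 8412), (10098, 12117), (10099, 8414), (10100, 8314), (10101, 12121), (10102, 8417), (10103, 8418), (10104, 8419), (10105, 12127), (10106, 8318), (10107,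 12129), (10108, 8423), (10109, 8424), (10110, 8321), (10111, 12134)]
    ⟨e3 q10048 (flp_j L246307) q8277, e3 q10049 (flp_j L357980) q12049, e3 q10050 L246334 q8364, e3 q10051 (flp_j L246345) q8281, e3 q10052 (flp_j L358019) q12051, e3 q10053 L246367 q8368, e3 q10054 L246379 q8369, e3 q10055 L246389 q8284, e3 q10056 (flp_j L358067) q12056, e3 q10057 L246409 q8372, e3 q10058 L246421 q8373, e3 q10059 L246429 q8374, e3 q10060 L358153 q12064, e3 q10061 L246453 q8376, e3 q10062 L246460 q8377, e3 q10063 L246472 q8378, e3 q10064 L358225 q12070, e3 q10065 L246495 q8380, e3 q10066 (flp_j L246497) q8290, e3 q10067 (flp_j L358277) q12074, e3 q10068 L246524 q8383, e3 q10069 L246532 q8384, e3 q10070 L358314 q12079, e3 q10071 L246554 q8386, e3 q10072 (flp_j L246556) q8295, e3 q10073 (flp_j L358357) q12083, e3 q10074 L246577 q8389, e3 q10075 L246586 q8390, e3 q10076 L246593 q8391, e3 q10077 L246603 q8392, e3 q10078 L358411 q12091, e3 q10079 (flp_j L246615) q8299, e3 q10080 (flp_j L358438) q12093, e3 q10081 L246640 q8396, e3 q10082 L246651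 q8397, e3 q10083 L246662 q8302, e3 q10084 (flp_j L358481) q12098, e3 q10085 (flp_j L246673) q8304, e3 q10086 (flp_j L358502) q12100, e3 q10087 L246697 q8306, e3 q10088 (flp_j L358527) q12102, e3 q10089 (flp_j L358537) q12103, e3 q10090 L246719 q8405, e3 q10091 L246729 q8406, e3 q10092 L246737 q8310, e3 q10093 L246746 q8408, e3 q10094 L358607 q12111, e3 q10095 L246764 q8410, e3 q10096 L246782 q8411, e3 q10097 L246790 q8412, e3 q10098 L358696 q12117, e3 q10099 L246812 q8414, e3 q10100 (flp_j L246814) q8314, e3 q10101 (flp_j L358745) q12121, e3 q10102 L246839 q8417, e3 q10103 L246851 q8418, e3 q10104 L246872 q8419, e3 q10105 L358815 q12127, e3 q10106 (flp_j L246883) q8318, e3 q10107 (flp_j L358843) q12129, e3 q10108 L246909 q8423, e3 q10109 L246922 q8424, e3 q10110 L246932 q8321, e3 q10111 (flp_j L358894) q12134, trivial⟩ (by decide +kernel)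

theorem ce_j_158 : ∀ r, r < 64 → sm gj (Qf (10112 + r)) = Qf (tab Gen.j (10112 + r)) :=
  edges_tab (sm gj) Qf (tab Gen.j) 10112 [(10112, 12136), (10113, 8428), (10114, 12140), (10115, 8324), (10116, 12142), (10117, 8432), (10118, 8433), (10119, 8327), (10120, 9447), (10121, 12148), (10122, 8437), (10123, 8438), (10124, 8439), (10125, 8440), (10126, 8441), (10127, 8332), (10128, 11816), (10129, 8334), (10130, 9087), (10131, 12159), (10132, 8447), (10133, 8448), (10134, 8338), (10135, 9035), (10136, 11817), (10137, 8343), (10138, 9088), (10139, 8458), (10140, 8459), (10141, 8460), (10142, 12036), (10143, 8360), (10144, 12037), (10145, 12038), (10146, 12039), (10147, 8356), (10148, 12040), (10149, 8351), (10150, 12178), (10151, 12042), (10152, 12041), (10153, 12175), (10154, 12043), (10155, 12044), (10156, 12045), (10157, 12046), (10158, 8463), (10159, 12171), (10160, 12047), (10161, 12048), (10162, 8363), (10163, 12193), (10164, 8365), (10165, 12194), (10166, 8367), (10167, 12197), (10168, 12198), (10169, 12054), (10170,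 12055), (10171, 8371), (10172, 12057), (10173, 12207), (10174, 12059), (10175, 12060)]
    ⟨e3 q10112 L358903 q12136, e3 q10113 L246956 q8428, e3 q10114 L358933 q12140, e3 q10115 (flp_j L246965) q8324, e3 q10116 (flp_j L358957) q12142, e3 q10117 L246985 q8432, e3 q10118 L246995 q8433, e3 q10119 L247004 q8327, e3 q10120 L642479 q9447, e3 q10121 (flp_j L359009) q12148, e3 q10122 L247023 q8437, e3 q10123 L247033 q8438, e3 q10124 L247040 q8439, e3 q10125 L247051 q8440, e3 q10126 L247057 q8441, e3 q10127 (flp_j L247060) q8332, e3 q10128 (flp_j L644093) q11816, e3 q10129 L247085 q8334, e3 q10130 L637129 q9087, e3 q10131 (flp_j L359128) q12159, e3 q10132 L247108 q8447, e3 q10133 L247120 q8448, e3 q10134 L247130 q8338, e3 q10135 L247139 q9035, e3 q10136 (flp_j L632106) q11817, e3 q10137 L247181 q8343, e3 q10138 (flp_j L644068) q9088, e3 q10139 L247203 q8458, e3 q10140 L247214 q8459, e3 q10141 L247222 q8460, e3 q10142 (flp_j L357738) q12036, e3 q10143 L614338 q8360, e3 q10144 (flp_j L357767) q12037, e3 q10145 (flp_j L357774) q12038,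 e3 q10146 (flp_j L357787) q12039, e3 q10147 L614308 q8356, e3 q10148 (flp_j L357807) q12040, e3 q10149 (flp_j L247304) q8351, e3 q10150 (flp_j L359475) q12178, e3 q10151 (flp_j L357839) q12042, e3 q10152 (flp_j L614068) q12041, e3 q10153 (flp_j L614319) q12175, e3 q10154 (flp_j L357892) q12043, e3 q10155 (flp_j L357904) q12044, e3 q10156 (flp_j L357913) q12045, e3 q10157 (flp_j L357925) q12046, e3 q10158 L613968 q8463, e3 q10159 (flp_j L614348) q12171, e3 q10160 (flp_j L357958) q12047, e3 q10161 (flp_j L357970) q12048, e3 q10162 L247457 q8363, e3 q10163 (flp_j L359682) q12193, e3 q10164 (flp_j L247472) q8365, e3 q10165 (flp_j L359702) q12194, e3 q10166 L247497 q8367, e3 q10167 (flp_j L359724) q12197, e3 q10168 (flp_j L359735) q12198, e3 q10169 (flp_j L358044) q12054, e3 q10170 (flp_j L358056) q12055, e3 q10171 L247540 q8371, e3 q10172 (flp_j L358075) q12057, e3 q10173 L359807 q12207, e3 q10174 (flp_j L358097) q12059, e3 q10175 (flp_j L358115) q12060, trivial⟩ (by decide +kernel)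

theorem ce_j_159 : ∀ r, r < 64 → sm gj (Qf (10176 + r)) = Qf (tab Gen.j (10176 + r)) :=
  edges_tab (sm gj) Qf (tab Gen.j) 10176 [(10176, 12061), (10177, 12213), (10178, 12063), (10179, 8375), (10180, 12217), (10181, 12066), (10182, 12067), (10183, 12068), (10184, 12223), (10185, 8379), (10186, 12225), (10187, 12072), (10188, 12073), (10189, 8382), (10190, 12230), (10191, 12232), (10192, 12077), (10193, 12236), (10194, 8385), (10195, 12238), (10196, 12081), (10197, 12082), (10198, 8388), (10199, 12244), (10200, 12245), (10201, 12086), (10202, 12087), (10203, 12088), (10204, 12089), (10205, 12090), (10206, 8393), (10207, 12255), (10208, 8395), (10209, 12258), (10210, 12259), (10211, 12096), (10212, 12097), (10213, 8399), (10214, 9081), (10215, 8401), (10216, 12266), (10217, 12267), (10218, 8403), (10219, 8404), (10220, 12271), (10221, 12272), (10222, 12105), (10223, 12106), (10224, 12107), (10225, 12108), (10226, 12283), (10227, 12110), (10228, 8409), (10229, 12287), (10230, 12113), (10231, 12290), (10232, 12115), (10233,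 12294), (10234, 8413), (10235, 12296), (10236, 12119), (10237, 12120), (10238, 8416), (10239, 12302)]
    ⟨e3 q10176 (flp_j L358125) q12061, e3 q10177 L359895 q12213, e3 q10178 (flp_j L358151) q12063, e3 q10179 (flp_j L247617) q8375, e3 q10180 (flp_j L359941) q12217, e3 q10181 (flp_j L358180) q12066, e3 q10182 (flp_j L358191) q12067, e3 q10183 (flp_j L358212) q12068, e3 q10184 L360003 q12223, e3 q10185 (flp_j L247684) q8379, e3 q10186 (flp_j L360033) q12225, e3 q10187 (flp_j L358253) q12072, e3 q10188 (flp_j L358265) q12073, e3 q10189 L247729 q8382, e3 q10190 (flp_j L360077) q12230, e3 q10191 L360090 q12232, e3 q10192 (flp_j L358303) q12077, e3 q10193 L360118 q12236, e3 q10194 (flp_j L247766) q8385, e3 q10195 (flp_j L360144) q12238, e3 q10196 (flp_j L358336) q12081, e3 q10197 (flp_j L358346) q12082, e3 q10198 L247802 q8388, e3 q10199 (flp_j L360180) q12244, e3 q10200 (flp_j L360189) q12245, e3 q10201 (flp_j L358376) q12086, e3 q10202 (flp_j L358385) q12087, e3 q10203 (flp_j L358391) q12088, e3 q10204 (flp_j L358401) q12089,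 e3 q10205 (flp_j L358406) q12090, e3 q10206 (flp_j L247850) q8393, e3 q10207 (flp_j L360261) q12255, e3 q10208 L247877 q8395, e3 q10209 (flp_j L360288) q12258, e3 q10210 (flp_j L360297) q12259, e3 q10211 (flp_j L358461) q12096, e3 q10212 (flp_j L358472) q12097, e3 q10213 L247915 q8399, e3 q10214 L247927 q9081, e3 q10215 L247936 q8401, e3 q10216 (flp_j L360350) q12266, e3 q10217 (flp_j L360360) q12267, e3 q10218 L247960 q8403, e3 q10219 L247968 q8404, e3 q10220 (flp_j L360392) q12271, e3 q10221 (flp_j L360400) q12272, e3 q10222 (flp_j L358558) q12105, e3 q10223 (flp_j L358568) q12106, e3 q10224 (flp_j L358575) q12107, e3 q10225 (flp_j L358586) q12108, e3 q10226 L360472 q12283, e3 q10227 (flp_j L358605) q12110, e3 q10228 (flp_j L248028) q8409, e3 q10229 (flp_j L360510) q12287, e3 q10230 (flp_j L358640) q12113, e3 q10231 L360599 q12290, e3 q10232 (flp_j L358685) q12115, e3 q10233 L360631 q12294, e3 q10234 (flp_j L248109) q8413, e3 q10235 (flp_j L360661) q12296, e3 q10236 (flp_j L358722) q12119, e3 q10237 (flp_j L358734) q12120,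 e3 q10238 L248151 q8416, e3 q10239 (flp_j L360707) q12302, trivial⟩ (by decide +kernel)

theorem ce_j_160 : ∀ r, r < 64 → sm gj (Qf (10240 + r)) = Qf (tab Gen.j (10240 + r)) :=
  edges_tab (sm gj) Qf (tab Gen.j) 10240 [(10240, 12303), (10241, 12124), (10242, 12125), (10243, 12126), (10244, 8420), (10245, 12309), (10246, 8422), (10247, 12312), (10248, 12313), (10249, 12132), (10250, 12133), (10251, 8426), (10252, 12320), (10253, 8427), (10254, 12322), (10255, 12138), (10256, 12139), (10257, 8429), (10258, 12329), (10259, 8431), (10260, 12332), (10261, 12333), (10262, 12145), (10263, 12146), (10264, 12147), (10265, 8435), (10266, 8436), (10267, 12343), (10268, 12344), (10269, 12151), (10270, 12152), (10271, 12153), (10272, 12351), (10273, 12155), (10274, 12156), (10275, 9131), (10276, 8443), (10277, 12355), (10278, 12356), (10279, 8445), (10280, 8446), (10281, 12360), (10282, 12361), (10283, 12162), (10284, 12163), (10285, 12164), (10286, 9142), (10287, 8452), (10288, 8453), (10289, 9083), (10290, 12369), (10291, 12370), (10292,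 8457), (10293, 9076), (10294, 9086), (10295, 12376), (10296, 12166), (10297, 12167), (10298, 12168), (10299, 10299), (10300, 10300), (10301, 10301), (10302, 12188), (10303, 10303)]
    ⟨e3 q10240 (flp_j L360719) q12303, e3 q10241 (flp_j L358770) q12124, e3 q10242 (flp_j L358782) q12125, e3 q10243 (flp_j L358812) q12126, e3 q10244 (flp_j L248215) q8420, e3 q10245 (flp_j L360811) q12309, e3 q10246 L248243 q8422, e3 q10247 (flp_j L360839) q12312, e3 q10248 (flp_j L360850) q12313, e3 q10249 (flp_j L358870) q12132, e3 q10250 (flp_j L358883) q12133, e3 q10251 L248289 q8426, e3 q10252 L360903 q12320, e3 q10253 (flp_j L248298) q8427, e3 q10254 (flp_j L360921) q12322, e3 q10255 (flp_j L358921) q12138, e3 q10256 (flp_j L358931) q12139, e3 q10257 (flp_j L248322) q8429, e3 q10258 (flp_j L360969) q12329, e3 q10259 L248346 q8431, e3 q10260 (flp_j L360989) q12332, e3 q10261 (flp_j L360997) q12333, e3 q10262 (flp_j L358975) q12145, e3 q10263 (flp_j L358981) q12146, e3 q10264 (flp_j L358991) q12147, e3 q10265 L248380 q8435, e3 q10266 L248390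 q8436, e3 q10267 (flp_j L361055) q12343, e3 q10268 (flp_j L361065) q12344, e3 q10269 (flp_j L359028) q12151, e3 q10270 (flp_j L359038) q12152, e3 q10271 (flp_j L359045) q12153, e3 q10272 L361107 q12351, e3 q10273 (flp_j L359062) q12155, e3 q10274 (flp_j L359070) q12156, e3 q10275 L248454 q9131, e3 q10276 L248464 q8443, e3 q10277 (flp_j L361153) q12355, e3 q10278 (flp_j L361164) q12356, e3 q10279 L248489 q8445, e3 q10280 L248499 q8446, e3 q10281 (flp_j L361196) q12360, e3 q10282 (flp_j L361206) q12361, e3 q10283 (flp_j L359150) q12162, e3 q10284 (flp_j L359162) q12163, e3 q10285 (flp_j L359171) q12164, e3 q10286 L248546 q9142, e3 q10287 L248553 q8452, e3 q10288 L248563 q8453, e3 q10289 (flp_j L637655) q9083, e3 q10290 (flp_j L361284) q12369, e3 q10291 (flp_j L361297) q12370, e3 q10292 L248604 q8457, e3 q10293 (flp_j L637666) q9076, e3 q10294 L636977 q9086, e3 q10295 (flp_j L361360) q12376, e3 q10296 (flp_j L359270) q12166, e3 q10297 (flp_j L359281) q12167, e3 q10298 (flp_j L359291) q12168, e3 q10299 L248675 q10299, e3 q10300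 L248681 q10300, e3 q10301 L248690 q10301, e3 q10302 (flp_j L613979) q12188, e3 q10303 L248744 q10303, trivial⟩ (by decide +kernel)

theorem ce_j_161 : ∀ r, r < 64 → sm gj (Qf (10304 + r)) = Qf (tab Gen.j (10304 + r)) :=
  edges_tab (sm gj) Qf (tab Gen.j) 10304 [(10304, 10304), (10305, 10305), (10306, 8468), (10307, 12391), (10308, 9676), (10309, 10309), (10310, 10310), (10311, 8473), (10312, 12395), (10313, 12396), (10314, 10314), (10315, 10315), (10316, 10316), (10317, 10317), (10318, 10318), (10319, 9680), (10320, 8480), (10321, 12406), (10322, 8483), (10323, 8485), (10324, 9684), (10325, 12407), (10326, 8487), (10327, 8488), (10328, 9686), (10329, 12410), (10330, 10330), (10331, 10331), (10332, 12414), (10333, 10333), (10334, 8493), (10335, 12418), (10336, 10336), (10337, 12420), (10338, 8496), (10339, 12422), (10340, 10340), (10341, 10341), (10342, 8499), (10343, 12427), (10344, 12428), (10345, 10345), (10346, 10346), (10347, 10347), (10348, 8503), (10349, 12434), (10350, 8505), (10351, 12436), (10352, 8508), (10353,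 12438), (10354, 8509), (10355, 12440), (10356, 10356), (10357, 10357), (10358, 8511), (10359, 12446), (10360, 8513), (10361, 12449), (10362, 12450), (10363, 10363), (10364, 10364), (10365, 10365), (10366, 8517), (10367, 8518)]
    ⟨e3 q10304 L248756 q10304, e3 q10305 L248775 q10305, e3 q10306 L248832 q8468, e3 q10307 (flp_j L361712) q12391, e3 q10308 L613891 q9676, e3 q10309 L248892 q10309, e3 q10310 L248901 q10310, e3 q10311 L248909 q8473, e3 q10312 (flp_j L361822) q12395, e3 q10313 (flp_j L361833) q12396, e3 q10314 L248932 q10314, e3 q10315 L248943 q10315, e3 q10316 L248950 q10316, e3 q10317 L248960 q10317, e3 q10318 L248966 q10318, e3 q10319 (flp_j L613914) q9680, e3 q10320 L248992 q8480, e3 q10321 (flp_j L361957) q12406, e3 q10322 L249038 q8483, e3 q10323 L249056 q8485, e3 q10324 (flp_j L615442) q9684, e3 q10325 (flp_j L362030) q12407, e3 q10326 L249078 q8487, e3 q10327 L249091 q8488, e3 q10328 L616195 q9686, e3 q10329 (flp_j L362077) q12410, e3 q10330 L249119 q10330, e3 q10331 L249131 q10331, e3 q10332 L362175 q12414,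 e3 q10333 L249170 q10333, e3 q10334 (flp_j L249171) q8493, e3 q10335 (flp_j L362219) q12418, e3 q10336 L249202 q10336, e3 q10337 L362350 q12420, e3 q10338 (flp_j L249256) q8496, e3 q10339 (flp_j L362379) q12422, e3 q10340 L249283 q10340, e3 q10341 L249294 q10341, e3 q10342 L249304 q8499, e3 q10343 (flp_j L362429) q12427, e3 q10344 (flp_j L362439) q12428, e3 q10345 L249327 q10345, e3 q10346 L249337 q10346, e3 q10347 L249359 q10347, e3 q10348 (flp_j L249363) q8503, e3 q10349 (flp_j L362526) q12434, e3 q10350 L249391 q8505, e3 q10351 (flp_j L362568) q12436, e3 q10352 L249438 q8508, e3 q10353 L362627 q12438, e3 q10354 (flp_j L249452) q8509, e3 q10355 (flp_j L362651) q12440, e3 q10356 L249473 q10356, e3 q10357 L249483 q10357, e3 q10358 (flp_j L249486) q8511, e3 q10359 (flp_j L362705) q12446, e3 q10360 L249509 q8513, e3 q10361 (flp_j L362726) q12449, e3 q10362 (flp_j L362735) q12450, e3 q10363 L249529 q10363, e3 q10364 L249534 q10364, e3 q10365 L249543 q10365, e3 q10366 L249547 q8517, e3 q10367 L249555 q8518, trivial⟩ (by decide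 +kernel)

theorem ce_j_162 : ∀ r, r < 64 → sm gj (Qf (10368 + r)) = Qf (tab Gen.j (10368 + r)) :=
  edges_tab (sm gj) Qf (tab Gen.j) 10368 [(10368, 12460), (10369, 12461), (10370, 10370), (10371, 10371), (10372, 10372), (10373, 12468), (10374, 10374), (10375, 10375), (10376, 9188), (10377, 8525), (10378, 12472), (10379, 12473), (10380, 8527), (10381, 8528), (10382, 12477), (10383, 12478), (10384, 10384), (10385, 10385), (10386, 9198), (10387, 8534), (10388, 8535), (10389, 12484), (10390, 12485), (10391, 12486), (10392, 8538), (10393, 8539), (10394, 9689), (10395, 12492), (10396, 12493), (10397, 10397), (10398, 10398), (10399, 10399), (10400, 12500), (10401, 10401), (10402, 12504), (10403, 8544), (10404, 12506), (10405, 10405), (10406, 10406), (10407, 8547), (10408, 12511), (10409, 12513), (10410, 8549), (10411, 12515), (10412, 10412), (10413, 10413), (10414, 8551), (10415, 12521), (10416, 8553), (10417, 12524), (10418, 12525), (10419, 10419), (10420, 10420), (10421, 10421), (10422, 8557), (10423, 8558), (10424, 12534), (10425,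 12535), (10426, 10426), (10427, 10427), (10428, 9229), (10429, 8563), (10430, 12541), (10431, 12542)]
    ⟨e3 q10368 (flp_j L362802) q12460, e3 q10369 (flp_j L362810) q12461, e3 q10370 L249572 q10370, e3 q10371 L249580 q10371, e3 q10372 L249585 q10372, e3 q10373 L362846 q12468, e3 q10374 L249600 q10374, e3 q10375 L249605 q10375, e3 q10376 L249616 q9188, e3 q10377 L249624 q8525, e3 q10378 (flp_j L362887) q12472, e3 q10379 (flp_j L362897) q12473, e3 q10380 L249651 q8527, e3 q10381 L249662 q8528, e3 q10382 (flp_j L362930) q12477, e3 q10383 (flp_j L362941) q12478, e3 q10384 L249684 q10384, e3 q10385 L249695 q10385, e3 q10386 L249713 q9198, e3 q10387 L249720 q8534, e3 q10388 L249729 q8535, e3 q10389 (flp_j L363019) q12484, e3 q10390 (flp_j L363026) q12485, e3 q10391 (flp_j L363037) q12486, e3 q10392 L249762 q8538, e3 q10393 L249772 q8539, e3 q10394 L616186 q9689, e3 q10395 (flp_j L363096) q12492, e3 q10396 (flp_j L363102) q12493, e3 q10397 L249800 q10397, e3 q10398 L249810 q10398, e3 q10399 L249818 q10399, e3 q10400 L363183 q12500,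 e3 q10401 L249844 q10401, e3 q10402 L363215 q12504, e3 q10403 (flp_j L249852) q8544, e3 q10404 (flp_j L363239) q12506, e3 q10405 L249875 q10405, e3 q10406 L249885 q10406, e3 q10407 L249892 q8547, e3 q10408 (flp_j L363292) q12511, e3 q10409 L363417 q12513, e3 q10410 (flp_j L249978) q8549, e3 q10411 (flp_j L363445) q12515, e3 q10412 L250003 q10412, e3 q10413 L250015 q10413, e3 q10414 (flp_j L250016) q8551, e3 q10415 (flp_j L363509) q12521, e3 q10416 L250043 q8553, e3 q10417 (flp_j L363534) q12524, e3 q10418 (flp_j L363545) q12525, e3 q10419 L250067 q10419, e3 q10420 L250074 q10420, e3 q10421 L250085 q10421, e3 q10422 L250091 q8557, e3 q10423 L250102 q8558, e3 q10424 (flp_j L363628) q12534, e3 q10425 (flp_j L363639) q12535, e3 q10426 L250137 q10426, e3 q10427 L250145 q10427, e3 q10428 L250182 q9229, e3 q10429 L250191 q8563, e3 q10430 (flp_j L363743) q12541, e3 q10431 (flp_j L363754) q12542, trivial⟩ (by decide +kernel)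

theorem ce_j_163 : ∀ r, r < 64 → sm gj (Qf (10432 + r)) = Qf (tab Gen.j (10432 + r)) :=
  edges_tab (sm gj) Qf (tab Gen.j) 10432 [(10432, 8565), (10433, 8566), (10434, 12546), (10435, 12547), (10436, 10436), (10437, 10437), (10438, 12552), (10439, 8570), (10440, 12555), (10441, 8572), (10442, 12558), (10443, 12559), (10444, 10444), (10445, 10445), (10446, 10446), (10447, 9248), (10448, 8576), (10449, 12570), (10450, 12571), (10451, 8578), (10452, 8579), (10453, 12575), (10454, 12576), (10455, 12577), (10456, 10456), (10457, 10457), (10458, 10458), (10459, 10459), (10460, 10460), (10461, 10461), (10462, 8585), (10463, 8586), (10464, 12593), (10465, 12594), (10466, 12595), (10467, 12599), (10468, 10468), (10469, 10469), (10470, 8590), (10471, 12603), (10472, 10472), (10473, 9271), (10474, 8595), (10475, 8596), (10476, 12607), (10477, 12608), (10478, 12609), (10479, 8599), (10480, 8600), (10481, 12615), (10482, 12616), (10483, 12617), (10484, 10484), (10485, 10485), (10486, 10486), (10487, 9285), (10488, 9286), (10489, 8607),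 (10490, 8608), (10491, 8609), (10492, 12627), (10493, 12628), (10494, 12629), (10495, 12630)]
    ⟨e3 q10432 L250219 q8565, e3 q10433 L250232 q8566, e3 q10434 (flp_j L363793) q12546, e3 q10435 (flp_j L363806) q12547, e3 q10436 L250258 q10436, e3 q10437 L250271 q10437, e3 q10438 L363867 q12552, e3 q10439 (flp_j L250290) q8570, e3 q10440 (flp_j L363898) q12555, e3 q10441 L250312 q8572, e3 q10442 (flp_j L363919) q12558, e3 q10443 (flp_j L363929) q12559, e3 q10444 L250331 q10444, e3 q10445 L250338 q10445, e3 q10446 L250348 q10446, e3 q10447 L250354 q9248, e3 q10448 L250362 q8576, e3 q10449 (flp_j L364011) q12570, e3 q10450 (flp_j L364019) q12571, e3 q10451 L250381 q8578, e3 q10452 L250390 q8579, e3 q10453 (flp_j L364044) q12575, e3 q10454 (flp_j L364051) q12576, e3 q10455 (flp_j L364060) q12577, e3 q10456 L250416 q10456, e3 q10457 L250421 q10457, e3 q10458 L250431 q10458, e3 q10459 L250436 q10459, e3 q10460 L250445 q10460, e3 q10461 L250450 q10461, e3 q10462 L250455 q8585, e3 q10463 L250464 q8586, e3 q10464 (flp_j L364167) q12593,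 e3 q10465 (flp_j L364176) q12594, e3 q10466 (flp_j L364182) q12595, e3 q10467 L364204 q12599, e3 q10468 L250496 q10468, e3 q10469 L250502 q10469, e3 q10470 (flp_j L250504) q8590, e3 q10471 (flp_j L364237) q12603, e3 q10472 L250523 q10472, e3 q10473 L250538 q9271, e3 q10474 L250546 q8595, e3 q10475 L250556 q8596, e3 q10476 (flp_j L364284) q12607, e3 q10477 (flp_j L364292) q12608, e3 q10478 (flp_j L364305) q12609, e3 q10479 L250589 q8599, e3 q10480 L250601 q8600, e3 q10481 (flp_j L364357) q12615, e3 q10482 (flp_j L364369) q12616, e3 q10483 (flp_j L364377) q12617, e3 q10484 L250635 q10484, e3 q10485 L250647 q10485, e3 q10486 L250655 q10486, e3 q10487 L250664 q9285, e3 q10488 L250674 q9286, e3 q10489 L250681 q8607, e3 q10490 L250688 q8608, e3 q10491 L250700 q8609, e3 q10492 (flp_j L364470) q12627, e3 q10493 (flp_j L364479) q12628, e3 q10494 (flp_j L364491) q12629, e3 q10495 (flp_j L364499) q12630, trivial⟩ (by decide +kernel)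

theorem ce_j_164 : ∀ r, r < 64 → sm gj (Qf (10496 + r)) = Qf (tab Gen.j (10496 + r)) :=
  edges_tab (sm gj) Qf (tab Gen.j) 10496 [(10496, 12631), (10497, 8612), (10498, 8613), (10499, 8614), (10500, 12639), (10501, 12640), (10502, 12641), (10503, 10503), (10504, 10504), (10505, 10505), (10506, 8643), (10507, 9304), (10508, 12648), (10509, 8623), (10510, 12651), (10511, 8625), (10512, 12653), (10513, 9310), (10514, 9311), (10515, 8630), (10516, 12655), (10517, 12656), (10518, 8632), (10519, 9653), (10520, 9318), (10521, 9319), (10522, 8637), (10523, 8638), (10524, 8639), (10525, 9337), (10526, 12488), (10527, 8644), (10528, 9669), (10529, 12408), (10530, 10530), (10531, 10531), (10532, 10532), (10533, 12661), (10534, 8648), (10535, 12664), (10536, 8650), (10537, 12666), (10538, 9342), (10539, 9343), (10540, 8655), (10541, 12668), (10542, 12669), (10543, 8657), (10544, 9587), (10545, 10545), (10546, 8659), (10547, 12674), (10548, 9352), (10549, 8661), (10550, 12678), (10551, 12679), (10552, 8663), (10553, 8664), (10554, 12683),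 (10555, 12684), (10556, 10556), (10557, 10557), (10558, 9362), (10559, 8669)]
    ⟨e3 q10496 (flp_j L364506) q12631, e3 q10497 L250750 q8612, e3 q10498 L250761 q8613, e3 q10499 L250768 q8614, e3 q10500 (flp_j L364577) q12639, e3 q10501 (flp_j L364588) q12640, e3 q10502 (flp_j L364597) q12641, e3 q10503 L250805 q10503, e3 q10504 L250813 q10504, e3 q10505 L250821 q10505, e3 q10506 (flp_j L616001) q8643, e3 q10507 L252402 q9304, e3 q10508 L367121 q12648, e3 q10509 (flp_j L252504) q8623, e3 q10510 (flp_j L367153) q12651, e3 q10511 L252525 q8625, e3 q10512 (flp_j L367186) q12653, e3 q10513 L252573 q9310, e3 q10514 L252778 q9311, e3 q10515 L252786 q8630, e3 q10516 (flp_j L367563) q12655, e3 q10517 (flp_j L367569) q12656, e3 q10518 L252825 q8632, e3 q10519 (flp_j L616045) q9653, e3 q10520 L252885 q9318, e3 q10521 L252895 q9319, e3 q10522 L252904 q8637, e3 q10523 L252910 q8638, e3 q10524 L252920 q8639, e3 q10525 (flp_j L616037) q9337, e3 q10526 (flp_j L615925) q12488, e3 q10527 L252982 q8644, e3 q10528 L616255 q9669, e3 q10529 (flp_j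 L615425) q12408, e3 q10530 L253014 q10530, e3 q10531 L253021 q10531, e3 q10532 L253027 q10532, e3 q10533 L368250 q12661, e3 q10534 (flp_j L253268) q8648, e3 q10535 (flp_j L368282) q12664, e3 q10536 L253290 q8650, e3 q10537 (flp_j L368317) q12666, e3 q10538 L253342 q9342, e3 q10539 L253525 q9343, e3 q10540 L253534 q8655, e3 q10541 (flp_j L368656) q12668, e3 q10542 (flp_j L368663) q12669, e3 q10543 L253580 q8657, e3 q10544 L646344 q9587, e3 q10545 L253622 q10545, e3 q10546 (flp_j L253644) q8659, e3 q10547 (flp_j L368816) q12674, e3 q10548 L253665 q9352, e3 q10549 L253672 q8661, e3 q10550 (flp_j L368846) q12678, e3 q10551 (flp_j L368855) q12679, e3 q10552 L253694 q8663, e3 q10553 L253703 q8664, e3 q10554 (flp_j L368884) q12683, e3 q10555 (flp_j L368903) q12684, e3 q10556 L253730 q10556, e3 q10557 L253748 q10557, e3 q10558 L253774 q9362, e3 q10559 L253781 q8669, trivial⟩ (by decide +kernel)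

theorem ce_j_165 : ∀ r, r < 64 → sm gj (Qf (10560 + r)) = Qf (tab Gen.j (10560 + r)) :=
  edges_tab (sm gj) Qf (tab Gen.j) 10560 [(10560, 12690), (10561, 9388), (10562, 8671), (10563, 12693), (10564, 10564), (10565, 9369), (10566, 9370), (10567, 8676), (10568, 8677), (10569, 8678), (10570, 12698), (10571, 12699), (10572, 12700), (10573, 12701), (10574, 12702), (10575, 8681), (10576, 8682), (10577, 8683), (10578, 12710), (10579, 12711), (10580, 12712), (10581, 10581), (10582, 10582), (10583, 10583), (10584, 8695), (10585, 8694), (10586, 8693), (10587, 8692), (10588, 8696), (10589, 12719), (10590, 12697), (10591, 12696), (10592, 12625), (10593, 12624), (10594, 8700), (10595, 8701), (10596, 8702), (10597, 12724), (10598, 12725), (10599, 12726), (10600, 10600), (10601, 10601), (10602, 10602), (10603, 8722), (10604, 8737), (10605, 9704), (10606, 8736), (10607, 8766), (10608, 8730), (10609, 11722), (10610, 11738), (10611, 11720), (10612, 12731), (10613, 9707), (10614, 8733), (10615, 12734), (10616, 8735), (10617, 12736), (10618,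 11727), (10619, 8779), (10620, 11730), (10621, 8741), (10622, 11808), (10623, 8743)]
    ⟨e3 q10560 (flp_j L369028) q12690, e3 q10561 L646069 q9388, e3 q10562 L253819 q8671, e3 q10563 (flp_j L369099) q12693, e3 q10564 L253888 q10564, e3 q10565 L253986 q9369, e3 q10566 L253996 q9370, e3 q10567 L254002 q8676, e3 q10568 L254008 q8677, e3 q10569 L254020 q8678, e3 q10570 (flp_j L369339) q12698, e3 q10571 (flp_j L369347) q12699, e3 q10572 (flp_j L369356) q12700, e3 q10573 (flp_j L369366) q12701, e3 q10574 (flp_j L369374) q12702, e3 q10575 L254067 q8681, e3 q10576 L254077 q8682, e3 q10577 L254085 q8683, e3 q10578 (flp_j L369441) q12710, e3 q10579 (flp_j L369451) q12711, e3 q10580 (flp_j L369459) q12712, e3 q10581 L254119 q10581, e3 q10582 L254129 q10582, e3 q10583 L254134 q10583, e3 q10584 L647098 q8695, e3 q10585 (flp_j L647148) q8694, e3 q10586 L647109 q8693, e3 q10587 L254167 q8692, e3 q10588 L254201 q8696, e3 q10589 (flp_j L369563) q12719, e3 q10590 (flp_j L629233) q12697, e3 q10591 (flp_j L647138) q12696, e3 q10592 (flp_j L647119)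 q12625, e3 q10593 (flp_j L646870) q12624, e3 q10594 L254267 q8700, e3 q10595 L254277 q8701, e3 q10596 L254286 q8702, e3 q10597 (flp_j L369711) q12724, e3 q10598 (flp_j L369719) q12725, e3 q10599 (flp_j L369725) q12726, e3 q10600 L254318 q10600, e3 q10601 L254325 q10601, e3 q10602 L254330 q10602, e3 q10603 L255257 q8722, e3 q10604 (flp_j L645123) q8737, e3 q10605 L620708 q9704, e3 q10606 L255610 q8736, e3 q10607 L621466 q8766, e3 q10608 L607842 q8730, e3 q10609 (flp_j L631071) q11722, e3 q10610 (flp_j L644442) q11738, e3 q10611 (flp_j L644371) q11720, e3 q10612 (flp_j L621345) q12731, e3 q10613 (flp_j L621397) q9707, e3 q10614 (flp_j L256623) q8733, e3 q10615 (flp_j L373239) q12734, e3 q10616 L256645 q8735, e3 q10617 (flp_j L373260) q12736, e3 q10618 (flp_j L644551) q11727, e3 q10619 L645132 q8779, e3 q10620 (flp_j L631823) q11730, e3 q10621 L256698 q8741, e3 q10622 (flp_j L635069) q11808, e3 q10623 L256717 q8743, trivial⟩ (by decide +kernel)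

theorem ce_j_166 : ∀ r, r < 64 → sm gj (Qf (10624 + r)) = Qf (tab Gen.j (10624 + r)) :=
  edges_tab (sm gj) Qf (tab Gen.j) 10624 [(10624, 12099), (10625, 11731), (10626, 8988), (10627, 8786), (10628, 8795), (10629, 8817), (10630, 8797), (10631, 9595), (10632, 8800), (10633, 8805), (10634, 11687), (10635, 8813), (10636, 8815), (10637, 8816), (10638, 8819), (10639, 9594), (10640, 8822), (10641, 8823), (10642, 8824), (10643, 11723), (10644, 12730), (10645, 8828), (10646, 8829), (10647, 8769), (10648, 12755), (10649, 8833), (10650, 9637), (10651, 9635), (10652, 8837), (10653, 8838), (10654, 9636), (10655, 8842), (10656, 8843), (10657, 8844), (10658, 8845), (10659, 12738), (10660, 8781), (10661, 12769), (10662, 11875), (10663, 8851), (10664, 8852), (10665, 8785), (10666, 8864), (10667, 8788), (10668, 11818), (10669, 8862), (10670, 8863), (10671, 8818), (10672, 12740), (10673, 12780), (10674, 8796), (10675, 11871), (10676, 12741), (10677, 12742), (10678, 8799), (10679, 12786), (10680, 8801), (10681, 11868), (10682, 11872), (10683,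 11775), (10684, 11784), (10685, 8807), (10686, 11877), (10687, 11755)]
    ⟨e3 q10624 (flp_j L641076) q12099, e3 q10625 (flp_j L634997) q11731, e3 q10626 L641112 q8988, e3 q10627 L641158 q8786, e3 q10628 L257135 q8795, e3 q10629 L620504 q8817, e3 q10630 L257159 q8797, e3 q10631 L621669 q9595, e3 q10632 L257201 q8800, e3 q10633 L257260 q8805, e3 q10634 (flp_j L636880) q11687, e3 q10635 L257360 q8813, e3 q10636 L257381 q8815, e3 q10637 L257402 q8816, e3 q10638 L257428 q8819, e3 q10639 (flp_j L607711) q9594, e3 q10640 L257456 q8822, e3 q10641 L257469 q8823, e3 q10642 L257489 q8824, e3 q10643 (flp_j L621473) q11723, e3 q10644 (flp_j L621486) q12730, e3 q10645 L257520 q8828, e3 q10646 L257530 q8829, e3 q10647 L257540 q8769, e3 q10648 (flp_j L374598) q12755, e3 q10649 L257566 q8833, e3 q10650 (flp_j L612216) q9637, e3 q10651 (flp_j L617545) q9635, e3 q10652 L257599 q8837, e3 q10653 L257609 q8838, e3 q10654 L621514 q9636, e3 q10655 L257646 q8842, e3 q10656 L257659 q8843, e3 q10657 L257666 q8844, e3 q10658 L257678 q8845, e3 q10659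 (flp_j L641164) q12738, e3 q10660 L257712 q8781, e3 q10661 (flp_j L374845) q12769, e3 q10662 (flp_j L641234) q11875, e3 q10663 L257732 q8851, e3 q10664 L257741 q8852, e3 q10665 L257751 q8785, e3 q10666 (flp_j L641189) q8864, e3 q10667 L257789 q8788, e3 q10668 (flp_j L641226) q11818, e3 q10669 L257824 q8862, e3 q10670 L257834 q8863, e3 q10671 (flp_j L622148) q8818, e3 q10672 (flp_j L373998) q12740, e3 q10673 L375833 q12780, e3 q10674 (flp_j L258380) q8796, e3 q10675 (flp_j L636016) q11871, e3 q10676 (flp_j L374035) q12741, e3 q10677 (flp_j L374045) q12742, e3 q10678 L258422 q8799, e3 q10679 (flp_j L375917) q12786, e3 q10680 (flp_j L258484) q8801, e3 q10681 (flp_j L640981) q11868, e3 q10682 (flp_j L635991) q11872, e3 q10683 (flp_j L642729) q11775, e3 q10684 (flp_j L644166) q11784, e3 q10685 L258540 q8807, e3 q10686 (flp_j L635107) q11877, e3 q10687 (flp_j L631984) q11755, trivial⟩ (by decide +kernel)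

theorem ce_j_167 : ∀ r, r < 64 → sm gj (Qf (10688 + r)) = Qf (tab Gen.j (10688 + r)) :=
  edges_tab (sm gj) Qf (tab Gen.j) 10688 [(10688, 8981), (10689, 9061), (10690, 12744), (10691, 9629), (10692, 12745), (10693, 12776), (10694, 12777), (10695, 12746), (10696, 12747), (10697, 8821), (10698, 9632), (10699, 12800), (10700, 12749), (10701, 12750), (10702, 8825), (10703, 12805), (10704, 8827), (10705, 12808), (10706, 12809), (10707, 12754), (10708, 8831), (10709, 9638), (10710, 9125), (10711, 12756), (10712, 12757), (10713, 8834), (10714, 12818), (10715, 8836), (10716, 12821), (10717, 12822), (10718, 12761), (10719, 12762), (10720, 12763), (10721, 8841), (10722, 9112), (10723, 9634), (10724, 12764), (10725, 12765), (10726, 12836), (10727, 12767), (10728, 11866), (10729, 8847), (10730, 12839), (10731, 12840), (10732, 8849), (10733, 8850), (10734, 12844), (10735, 12845), (10736, 12772), (10737, 12773), (10738, 12768), (10739, 11810), (10740, 8856), (10741, 8857), (10742, 12265), (10743, 11910), (10744, 12852), (10745, 8860),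 (10746, 8861), (10747, 12856), (10748, 12857), (10749, 11815), (10750, 12774), (10751, 12775)]
    ⟨e3 q10688 (flp_j L617604) q8981, e3 q10689 (flp_j L622195) q9061, e3 q10690 (flp_j L374310) q12744, e3 q10691 L606955 q9629, e3 q10692 (flp_j L374355) q12745, e3 q10693 (flp_j L611666) q12776, e3 q10694 (flp_j L611654) q12777, e3 q10695 (flp_j L374437) q12746, e3 q10696 (flp_j L374447) q12747, e3 q10697 L258783 q8821, e3 q10698 (flp_j L612398) q9632, e3 q10699 (flp_j L376460) q12800, e3 q10700 (flp_j L374484) q12749, e3 q10701 (flp_j L374497) q12750, e3 q10702 (flp_j L258847) q8825, e3 q10703 (flp_j L376550) q12805, e3 q10704 L258872 q8827, e3 q10705 (flp_j L376573) q12808, e3 q10706 (flp_j L376583) q12809, e3 q10707 (flp_j L374587) q12754, e3 q10708 L258912 q8831, e3 q10709 (flp_j L617225) q9638, e3 q10710 (flp_j L622087) q9125, e3 q10711 (flp_j L374628) q12756, e3 q10712 (flp_j L374638) q12757, e3 q10713 (flp_j L258948) q8834, e3 q10714 (flp_j L376701) q12818, e3 q10715 L258976 q8836, e3 q10716 (flp_j L376723) q12821, e3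 q10717 (flp_j L376733) q12822, e3 q10718 (flp_j L374688) q12761, e3 q10719 (flp_j L374696) q12762, e3 q10720 (flp_j L374706) q12763, e3 q10721 L259029 q8841, e3 q10722 (flp_j L622069) q9112, e3 q10723 (flp_j L607058) q9634, e3 q10724 (flp_j L374755) q12764, e3 q10725 (flp_j L374768) q12765, e3 q10726 L376868 q12836, e3 q10727 (flp_j L374796) q12767, e3 q10728 (flp_j L355727) q11866, e3 q10729 L259117 q8847, e3 q10730 (flp_j L376917) q12839, e3 q10731 (flp_j L376927) q12840, e3 q10732 L259137 q8849, e3 q10733 L259146 q8850, e3 q10734 (flp_j L376951) q12844, e3 q10735 (flp_j L376960) q12845, e3 q10736 (flp_j L374875) q12772, e3 q10737 (flp_j L374884) q12773, e3 q10738 (flp_j L640326) q12768, e3 q10739 (flp_j L644251) q11810, e3 q10740 L259191 q8856, e3 q10741 L259202 q8857, e3 q10742 (flp_j L641015) q12265, e3 q10743 (flp_j L635155) q11910, e3 q10744 (flp_j L377038) q12852, e3 q10745 L259228 q8860, e3 q10746 L259238 q8861, e3 q10747 (flp_j L377079) q12856, e3 q10748 (flp_j L377089) q12857, e3 q10749 (flp_j L649042) q11815,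 e3 q10750 (flp_j L374987) q12774, e3 q10751 (flp_j L374997) q12775, trivial⟩ (by decide +kernel)

theorem ce_j_168 : ∀ r, r < 64 → sm gj (Qf (10752 + r)) = Qf (tab Gen.j (10752 + r)) :=
  edges_tab (sm gj) Qf (tab Gen.j) 10752 [(10752, 9038), (10753, 11709), (10754, 11710), (10755, 10755), (10756, 10756), (10757, 10757), (10758, 12871), (10759, 8870), (10760, 12873), (10761, 10761), (10762, 10762), (10763, 8872), (10764, 12878), (10765, 8874), (10766, 12881), (10767, 12882), (10768, 10768), (10769, 10769), (10770, 8878), (10771, 11899), (10772, 8880), (10773, 12009), (10774, 12888), (10775, 8882), (10776, 8883), (10777, 12891), (10778, 12892), (10779, 10779), (10780, 10780), (10781, 10781), (10782, 8890), (10783, 12023), (10784, 12025), (10785, 8893), (10786, 8894), (10787, 12902), (10788, 12903), (10789, 12904), (10790, 10790), (10791, 10791), (10792, 10792), (10793, 9645), (10794, 10794), (10795, 12914), (10796, 8899), (10797, 12916), (10798, 10798), (10799, 10799), (10800, 8902), (10801, 12920), (10802, 12870), (10803,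 8904), (10804, 12922), (10805, 10805), (10806, 10806), (10807, 8906), (10808, 12928), (10809, 8908), (10810, 12931), (10811, 12932), (10812, 10812), (10813, 10813), (10814, 10814), (10815, 8912)]
    ⟨e3 q10752 (flp_j L641169) q9038, e3 q10753 (flp_j L640759) q11709, e3 q10754 (flp_j L640752) q11710, e3 q10755 L259750 q10755, e3 q10756 L259761 q10756, e3 q10757 L259768 q10757, e3 q10758 L378359 q12871, e3 q10759 (flp_j L260082) q8870, e3 q10760 (flp_j L378385) q12873, e3 q10761 L260107 q10761, e3 q10762 L260117 q10762, e3 q10763 (flp_j L260120) q8872, e3 q10764 (flp_j L378445) q12878, e3 q10765 L260147 q8874, e3 q10766 (flp_j L378468) q12881, e3 q10767 (flp_j L378479) q12882, e3 q10768 L260169 q10768, e3 q10769 L260185 q10769, e3 q10770 L260202 q8878, e3 q10771 (flp_j L356459) q11899, e3 q10772 L260285 q8880, e3 q10773 (flp_j L640976) q12009, e3 q10774 (flp_j L378668) q12888, e3 q10775 L260307 q8882, e3 q10776 L260317 q8883, e3 q10777 (flp_j L378693) q12891, e3 q10778 (flp_j L378703) q12892, e3 q10779 L260336 q10779, e3 q10780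 L260344 q10780, e3 q10781 L260349 q10781, e3 q10782 L260376 q8890, e3 q10783 (flp_j L640969) q12023, e3 q10784 (flp_j L635193) q12025, e3 q10785 L260403 q8893, e3 q10786 L260414 q8894, e3 q10787 (flp_j L378828) q12902, e3 q10788 (flp_j L378839) q12903, e3 q10789 (flp_j L378845) q12904, e3 q10790 L260444 q10790, e3 q10791 L260453 q10791, e3 q10792 L260459 q10792, e3 q10793 L616101 q9645, e3 q10794 L260488 q10794, e3 q10795 L378964 q12914, e3 q10796 (flp_j L260496) q8899, e3 q10797 (flp_j L378992) q12916, e3 q10798 L260523 q10798, e3 q10799 L260533 q10799, e3 q10800 L260542 q8902, e3 q10801 (flp_j L379056) q12920, e3 q10802 (flp_j L615167) q12870, e3 q10803 (flp_j L260647) q8904, e3 q10804 (flp_j L379236) q12922, e3 q10805 L260670 q10805, e3 q10806 L260680 q10806, e3 q10807 (flp_j L260681) q8906, e3 q10808 (flp_j L379294) q12928, e3 q10809 L260706 q8908, e3 q10810 (flp_j L379315) q12931, e3 q10811 (flp_j L379326) q12932, e3 q10812 L260728 q10812, e3 q10813 L260735 q10813, e3 q10814 L260744 q10814, e3 q10815 L260750 q8912, trivial⟩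 (by decide +kernel)

theorem ce_j_169 : ∀ r, r < 64 → sm gj (Qf (10816 + r)) = Qf (tab Gen.j (10816 + r)) :=
  edges_tab (sm gj) Qf (tab Gen.j) 10816 [(10816, 8913), (10817, 12941), (10818, 12942), (10819, 10819), (10820, 11961), (10821, 8917), (10822, 12946), (10823, 12947), (10824, 8919), (10825, 8920), (10826, 12951), (10827, 12952), (10828, 10828), (10829, 10829), (10830, 10830), (10831, 9664), (10832, 8924), (10833, 12961), (10834, 8926), (10835, 12964), (10836, 12965), (10837, 10837), (10838, 10838), (10839, 10839), (10840, 11979), (10841, 8930), (10842, 12976), (10843, 12977), (10844, 8932), (10845, 8933), (10846, 12981), (10847, 12982), (10848, 12983), (10849, 10849), (10850, 10850), (10851, 10851), (10852, 10852), (10853, 10853), (10854, 10854), (10855, 8939), (10856, 8940), (10857, 12999), (10858, 13000), (10859, 13003), (10860, 10860), (10861, 8943), (10862, 13005), (10863, 12005), (10864, 8947), (10865, 8948), (10866, 13008), (10867, 13009), (10868, 13010), (10869, 8951), (10870, 8952), (10871, 13016), (10872,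 13017), (10873, 13018), (10874, 10874), (10875, 10875), (10876, 10876), (10877, 11914), (10878, 12019), (10879, 8959)]
    ⟨e3 q10816 L260762 q8913, e3 q10817 (flp_j L379401) q12941, e3 q10818 (flp_j L379413) q12942, e3 q10819 L260799 q10819, e3 q10820 (flp_j L357063) q11961, e3 q10821 L260849 q8917, e3 q10822 (flp_j L379516) q12946, e3 q10823 (flp_j L379526) q12947, e3 q10824 L260872 q8919, e3 q10825 L260884 q8920, e3 q10826 (flp_j L379557) q12951, e3 q10827 (flp_j L379569) q12952, e3 q10828 L260907 q10828, e3 q10829 L260917 q10829, e3 q10830 L260924 q10830, e3 q10831 L617253 q9664, e3 q10832 (flp_j L260933) q8924, e3 q10833 (flp_j L379653) q12961, e3 q10834 L260957 q8926, e3 q10835 (flp_j L379675) q12964, e3 q10836 (flp_j L379687) q12965, e3 q10837 L260978 q10837, e3 q10838 L260986 q10838, e3 q10839 L260997 q10839, e3 q10840 (flp_j L357236) q11979, e3 q10841 L261013 q8930, e3 q10842 (flp_j L379775) q12976, e3 q10843 (flp_j L379785) q12977, e3 q10844 L261034 q8932, e3 q10845 L261045 q8933, e3 q10846 (flp_j L379808) q12981,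 e3 q10847 (flp_j L379817) q12982, e3 q10848 (flp_j L379828) q12983, e3 q10849 L261073 q10849, e3 q10850 L261080 q10850, e3 q10851 L261088 q10851, e3 q10852 L261095 q10852, e3 q10853 L261104 q10853, e3 q10854 L261109 q10854, e3 q10855 L261116 q8939, e3 q10856 L261128 q8940, e3 q10857 (flp_j L379945) q12999, e3 q10858 (flp_j L379957) q13000, e3 q10859 L379996 q13003, e3 q10860 L261173 q10860, e3 q10861 (flp_j L261184) q8943, e3 q10862 (flp_j L380040) q13005, e3 q10863 (flp_j L357454) q12005, e3 q10864 L261229 q8947, e3 q10865 L261238 q8948, e3 q10866 (flp_j L380085) q13008, e3 q10867 (flp_j L380092) q13009, e3 q10868 (flp_j L380104) q13010, e3 q10869 L261263 q8951, e3 q10870 L261274 q8952, e3 q10871 (flp_j L380143) q13016, e3 q10872 (flp_j L380154) q13017, e3 q10873 (flp_j L380162) q13018, e3 q10874 L261304 q10874, e3 q10875 L261313 q10875, e3 q10876 L261319 q10876, e3 q10877 (flp_j L635232) q11914, e3 q10878 (flp_j L357574) q12019, e3 q10879 L261341 q8959, trivial⟩ (by decide +kernel)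

theorem ce_j_170 : ∀ r, r < 64 → sm gj (Qf (10880 + r)) = Qf (tab Gen.j (10880 + r)) :=
  edges_tab (sm gj) Qf (tab Gen.j) 10880 [(10880, 8960), (10881, 8961), (10882, 13026), (10883, 13027), (10884, 13028), (10885, 13029), (10886, 13030), (10887, 8964), (10888, 8965), (10889, 8966), (10890, 13038), (10891, 13039), (10892, 13040), (10893, 10893), (10894, 10894), (10895, 10895), (10896, 9046), (10897, 9048), (10898, 9090), (10899, 9050), (10900, 9630), (10901, 9053), (10902, 12279), (10903, 8975), (10904, 11878), (10905, 9057), (10906, 9058), (10907, 8978), (10908, 13055), (10909, 9062), (10910, 11819), (10911, 11873), (10912, 9066), (10913, 9067), (10914, 8984), (10915, 9628), (10916, 13063), (10917, 9071), (10918, 9072), (10919, 11879), (10920, 9078), (10921, 9079), (10922, 8994), (10923, 9089), (10924, 9094), (10925, 12204), (10926, 9001), (10927, 13071), (10928, 9098), (10929, 9099), (10930, 9004), (10931, 13076), (10932, 9006), (10933, 13078), (10934, 9008), (10935, 11682), (10936, 13081), (10937, 9107), (10938, 9108),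 (10939, 9012), (10940, 9597), (10941, 9113), (10942, 9114), (10943, 9015)]
    ⟨e3 q10880 L261349 q8960, e3 q10881 L261360 q8961, e3 q10882 (flp_j L380240) q13026, e3 q10883 (flp_j L380248) q13027, e3 q10884 (flp_j L380261) q13028, e3 q10885 (flp_j L380269) q13029, e3 q10886 (flp_j L380276) q13030, e3 q10887 L261403 q8964, e3 q10888 L261415 q8965, e3 q10889 L261422 q8966, e3 q10890 (flp_j L380336) q13038, e3 q10891 (flp_j L380348) q13039, e3 q10892 (flp_j L380357) q13040, e3 q10893 L261460 q10893, e3 q10894 L261466 q10894, e3 q10895 L261471 q10895, e3 q10896 L261480 q9046, e3 q10897 L261526 q9048, e3 q10898 (flp_j L617623) q9090, e3 q10899 L261551 q9050, e3 q10900 (flp_j L617204) q9630, e3 q10901 L261594 q9053, e3 q10902 (flp_j L617642) q12279, e3 q10903 (flp_j L261627) q8975, e3 q10904 (flp_j L637477) q11878, e3 q10905 L261653 q9057, e3 q10906 L261664 q9058, e3 q10907 L261676 q8978, e3 q10908 (flp_j L380735) q13055, e3 q10909 L261704 q9062, e3 q10910 (flp_j L617609) q11819, e3 q10911 (flp_j L640484) q11873, e3 q10912 L261733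 q9066, e3 q10913 L261741 q9067, e3 q10914 L261752 q8984, e3 q10915 L617194 q9628, e3 q10916 (flp_j L380854) q13063, e3 q10917 L261774 q9071, e3 q10918 L261785 q9072, e3 q10919 (flp_j L641266) q11879, e3 q10920 L261860 q9078, e3 q10921 L261870 q9079, e3 q10922 L261880 q8994, e3 q10923 L261968 q9089, e3 q10924 L262078 q9094, e3 q10925 (flp_j L617587) q12204, e3 q10926 (flp_j L262087) q9001, e3 q10927 (flp_j L381368) q13071, e3 q10928 L262111 q9098, e3 q10929 L262121 q9099, e3 q10930 L262132 q9004, e3 q10931 (flp_j L381432) q13076, e3 q10932 (flp_j L262208) q9006, e3 q10933 (flp_j L381538) q13078, e3 q10934 L262234 q9008, e3 q10935 (flp_j L648123) q11682, e3 q10936 (flp_j L381577) q13081, e3 q10937 L262261 q9107, e3 q10938 L262273 q9108, e3 q10939 L262285 q9012, e3 q10940 (flp_j L612192) q9597, e3 q10941 L262310 q9113, e3 q10942 L262319 q9114, e3 q10943 (flp_j L262321) q9015, trivial⟩ (by decide +kernel)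

theorem ce_j_171 : ∀ r, r < 64 → sm gj (Qf (10944 + r)) = Qf (tab Gen.j (10944 + r)) :=
  edges_tab (sm gj) Qf (tab Gen.j) 10944 [(10944, 13088), (10945, 9017), (10946, 12815), (10947, 13091), (10948, 9120), (10949, 9121), (10950, 9122), (10951, 9022), (10952, 9596), (10953, 9127), (10954, 9128), (10955, 13102), (10956, 9130), (10957, 12157), (10958, 9028), (10959, 13105), (10960, 12862), (10961, 9030), (10962, 9031), (10963, 11835), (10964, 13109), (10965, 9139), (10966, 9140), (10967, 9141), (10968, 11814), (10969, 9037), (10970, 13116), (10971, 12863), (10972, 9041), (10973, 9042), (10974, 13119), (10975, 13120), (10976, 12382), (10977, 9153), (10978, 9154), (10979, 9155), (10980, 9093), (10981, 9091), (10982, 13047), (10983, 13131), (10984, 9049), (10985, 13133), (10986, 13049), (10987, 13050), (10988, 9052), (10989, 13138), (10990, 9054), (10991, 13140), (10992, 9056), (10993, 12377), (10994, 13143), (10995, 13053), (10996, 13054), (10997, 9060), (10998, 12790), (10999, 12791), (11000, 13056), (11001, 13057), (11002,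 9063), (11003, 13156), (11004, 9065), (11005, 13159), (11006, 13160), (11007, 13060)]
    ⟨e3 q10944 (flp_j L381702) q13088, e3 q10945 L262343 q9017, e3 q10946 (flp_j L617535) q12815, e3 q10947 (flp_j L381729) q13091, e3 q10948 L262359 q9120, e3 q10949 L262365 q9121, e3 q10950 L262373 q9122, e3 q10951 L262393 q9022, e3 q10952 L607616 q9596, e3 q10953 L262416 q9127, e3 q10954 L262428 q9128, e3 q10955 L381862 q13102, e3 q10956 L262453 q9130, e3 q10957 (flp_j L359081) q12157, e3 q10958 L262481 q9028, e3 q10959 (flp_j L381910) q13105, e3 q10960 (flp_j L641194) q12862, e3 q10961 L262503 q9030, e3 q10962 L262516 q9031, e3 q10963 (flp_j L635750) q11835, e3 q10964 (flp_j L381962) q13109, e3 q10965 L262539 q9139, e3 q10966 L262550 q9140, e3 q10967 L262558 q9141, e3 q10968 (flp_j L644076) q11814, e3 q10969 L262574 q9037, e3 q10970 (flp_j L382045) q13116, e3 q10971 (flp_j L641182) q12863, e3 q10972 L262612 q9041, e3 q10973 L262624 q9042, e3 q10974 (flp_j L382100) q13119, e3 q10975 (flp_j L382112) q13120, e3 q10976 (flp_j L649069) q12382,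 e3 q10977 L262654 q9153, e3 q10978 L262664 q9154, e3 q10979 L262673 q9155, e3 q10980 L622124 q9093, e3 q10981 (flp_j L622153) q9091, e3 q10982 (flp_j L380524) q13047, e3 q10983 L382375 q13131, e3 q10984 (flp_j L262789) q9049, e3 q10985 (flp_j L382405) q13133, e3 q10986 (flp_j L380561) q13049, e3 q10987 (flp_j L380571) q13050, e3 q10988 L262831 q9052, e3 q10989 (flp_j L382462) q13138, e3 q10990 (flp_j L262899) q9054, e3 q10991 (flp_j L382559) q13140, e3 q10992 L262927 q9056, e3 q10993 (flp_j L637445) q12377, e3 q10994 (flp_j L382596) q13143, e3 q10995 (flp_j L380713) q13053, e3 q10996 (flp_j L380724) q13054, e3 q10997 L262971 q9060, e3 q10998 (flp_j L622138) q12790, e3 q10999 (flp_j L606959) q12791, e3 q11000 (flp_j L380766) q13056, e3 q11001 (flp_j L380775) q13057, e3 q11002 (flp_j L263009) q9063, e3 q11003 (flp_j L382715) q13156, e3 q11004 L263033 q9065, e3 q11005 (flp_j L382733) q13159, e3 q11006 (flp_j L382741) q13160, e3 q11007 (flp_j L380821) q13060, trivial⟩ (by decide +kernel)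

theorem ce_j_172 : ∀ r, r < 64 → sm gj (Qf (11008 + r)) = Qf (tab Gen.j (11008 + r)) :=
  edges_tab (sm gj) Qf (tab Gen.j) 11008 [(11008, 13061), (11009, 13062), (11010, 9069), (11011, 9070), (11012, 13128), (11013, 13169), (11014, 13065), (11015, 12254), (11016, 9074), (11017, 12371), (11018, 13172), (11019, 9077), (11020, 12362), (11021, 12378), (11022, 12160), (11023, 13066), (11024, 13067), (11025, 9084), (11026, 12372), (11027, 12373), (11028, 12379), (11029, 12130), (11030, 12161), (11031, 12165), (11032, 13048), (11033, 13127), (11034, 13126), (11035, 12801), (11036, 13068), (11037, 13069), (11038, 9095), (11039, 13194), (11040, 9097), (11041, 13197), (11042, 13198), (11043, 13074), (11044, 13075), (11045, 9101), (11046, 12308), (11047, 9103), (11048, 13205), (11049, 13206), (11050, 9105), (11051, 9106), (11052, 11858), (11053, 13210), (11054, 12149), (11055, 13083), (11056, 13084), (11057, 9620), (11058, 9110), (11059, 12832), (11060, 12824), (11061, 12833), (11062, 13085), (11063, 12759), (11064, 13086), (11065,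 12328), (11066, 9116), (11067, 13228), (11068, 13229), (11069, 9118), (11070, 9119), (11071, 13233)]
    ⟨e3 q11008 (flp_j L380827) q13061, e3 q11009 (flp_j L380835) q13062, e3 q11010 L263065 q9069, e3 q11011 L263076 q9070, e3 q11012 (flp_j L617171) q13128, e3 q11013 (flp_j L382806) q13169, e3 q11014 (flp_j L380887) q13065, e3 q11015 (flp_j L360251) q12254, e3 q11016 L263155 q9074, e3 q11017 (flp_j L637619) q12371, e3 q11018 (flp_j L382908) q13172, e3 q11019 L263188 q9077, e3 q11020 (flp_j L637438) q12362, e3 q11021 (flp_j L637628) q12378, e3 q11022 (flp_j L637528) q12160, e3 q11023 (flp_j L381008) q13066, e3 q11024 (flp_j L381015) q13067, e3 q11025 L263248 q9084, e3 q11026 (flp_j L637019) q12372, e3 q11027 (flp_j L636993) q12373, e3 q11028 (flp_j L636987) q12379, e3 q11029 (flp_j L637542) q12130, e3 q11030 (flp_j L637139) q12161, e3 q11031 (flp_j L637163) q12165, e3 q11032 (flp_j L611904) q13048, e3 q11033 (flp_j L617178) q13127, e3 q11034 (flp_j L622132) q13126, e3 q11035 (flp_j L622091) q12801, e3 q11036 (flp_j L381327)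 q13068, e3 q11037 (flp_j L381338) q13069, e3 q11038 (flp_j L263511) q9095, e3 q11039 (flp_j L383474) q13194, e3 q11040 L263539 q9097, e3 q11041 (flp_j L383496) q13197, e3 q11042 (flp_j L383506) q13198, e3 q11043 (flp_j L381390) q13074, e3 q11044 (flp_j L381408) q13075, e3 q11045 L263595 q9101, e3 q11046 (flp_j L360800) q12308, e3 q11047 L263694 q9103, e3 q11048 (flp_j L383708) q13205, e3 q11049 (flp_j L383720) q13206, e3 q11050 L263718 q9105, e3 q11051 L263730 q9106, e3 q11052 (flp_j L648113) q11858, e3 q11053 (flp_j L383766) q13210, e3 q11054 (flp_j L642485) q12149, e3 q11055 (flp_j L381615) q13083, e3 q11056 (flp_j L381624) q13084, e3 q11057 L617260 q9620, e3 q11058 (flp_j L263781) q9110, e3 q11059 (flp_j L622075) q12832, e3 q11060 (flp_j L622083) q12824, e3 q11061 (flp_j L607041) q12833, e3 q11062 (flp_j L381669) q13085, e3 q11063 (flp_j L612248) q12759, e3 q11064 (flp_j L381686) q13086, e3 q11065 (flp_j L360959) q12328, e3 q11066 L263842 q9116, e3 q11067 (flp_j L383937) q13228, e3 q11068 (flp_j L383947) q13229, e3 q11069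 L263858 q9118, e3 q11070 L263866 q9119, e3 q11071 (flp_j L383967) q13233, trivial⟩ (by decide +kernel)

theorem ce_j_173 : ∀ r, r < 64 → sm gj (Qf (11072 + r)) = Qf (tab Gen.j (11072 + r)) :=
  edges_tab (sm gj) Qf (tab Gen.j) 11072 [(11072, 12813), (11073, 13234), (11074, 13094), (11075, 13095), (11076, 13096), (11077, 13097), (11078, 13098), (11079, 13099), (11080, 9126), (11081, 12812), (11082, 12814), (11083, 13252), (11084, 13101), (11085, 9129), (11086, 13254), (11087, 12354), (11088, 9133), (11089, 9134), (11090, 13257), (11091, 13258), (11092, 13259), (11093, 9137), (11094, 9138), (11095, 13265), (11096, 13266), (11097, 13267), (11098, 13113), (11099, 13114), (11100, 13115), (11101, 12268), (11102, 12368), (11103, 9145), (11104, 9146), (11105, 9147), (11106, 13275), (11107, 13276), (11108, 13277), (11109, 13278), (11110, 13279), (11111, 9150), (11112, 9151), (11113, 9152), (11114, 13287), (11115, 13288), (11116, 13289), (11117, 13124), (11118, 13125), (11119, 13118), (11120, 13187), (11121, 9156), (11122, 9158), (11123,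 13297), (11124, 9160), (11125, 13300), (11126, 13301), (11127, 11127), (11128, 9164), (11129, 12433), (11130, 9166), (11131, 13305), (11132, 9168), (11133, 12911), (11134, 9170), (11135, 13308)]
    ⟨e3 q11072 (flp_j L611549) q12813, e3 q11073 (flp_j L383981) q13234, e3 q11074 (flp_j L381753) q13094, e3 q11075 (flp_j L381759) q13095, e3 q11076 (flp_j L381769) q13096, e3 q11077 (flp_j L381775) q13097, e3 q11078 (flp_j L381783) q13098, e3 q11079 (flp_j L381787) q13099, e3 q11080 L263930 q9126, e3 q11081 (flp_j L611456) q12812, e3 q11082 (flp_j L611483) q12814, e3 q11083 L384125 q13252, e3 q11084 (flp_j L381850) q13101, e3 q11085 (flp_j L263982) q9129, e3 q11086 (flp_j L384161) q13254, e3 q11087 (flp_j L361145) q12354, e3 q11088 L264026 q9133, e3 q11089 L264037 q9134, e3 q11090 (flp_j L384206) q13257, e3 q11091 (flp_j L384213) q13258, e3 q11092 (flp_j L384228) q13259, e3 q11093 L264065 q9137, e3 q11094 L264076 q9138, e3 q11095 (flp_j L384271) q13265, e3 q11096 (flp_j L384282) q13266, e3 q11097 (flp_j L384290) q13267, e3 q11098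 (flp_j L381996) q13113, e3 q11099 (flp_j L382007) q13114, e3 q11100 (flp_j L382015) q13115, e3 q11101 (flp_j L637057) q12268, e3 q11102 (flp_j L361271) q12368, e3 q11103 L264144 q9145, e3 q11104 L264150 q9146, e3 q11105 L264164 q9147, e3 q11106 (flp_j L384366) q13275, e3 q11107 (flp_j L384374) q13276, e3 q11108 (flp_j L384386) q13277, e3 q11109 (flp_j L384397) q13278, e3 q11110 (flp_j L384404) q13279, e3 q11111 L264205 q9150, e3 q11112 L264215 q9151, e3 q11113 L264222 q9152, e3 q11114 (flp_j L384462) q13287, e3 q11115 (flp_j L384472) q13288, e3 q11116 (flp_j L384481) q13289, e3 q11117 (flp_j L382157) q13124, e3 q11118 (flp_j L382165) q13125, e3 q11119 (flp_j L649190) q13118, e3 q11120 (flp_j L616063) q13187, e3 q11121 (flp_j L264303) q9156, e3 q11122 (flp_j L264476) q9158, e3 q11123 (flp_j L384892) q13297, e3 q11124 L264503 q9160, e3 q11125 (flp_j L384915) q13300, e3 q11126 (flp_j L384926) q13301, e3 q11127 L264543 q11127, e3 q11128 L264561 q9164, e3 q11129 (flp_j L362517) q12433, e3 q11130 L264655 q9166, e3 q11131 (flp_j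 L385135) q13305, e3 q11132 L264694 q9168, e3 q11133 (flp_j L616107) q12911, e3 q11134 (flp_j L264751) q9170, e3 q11135 (flp_j L385273) q13308, trivial⟩ (by decide +kernel)

theorem ce_j_174 : ∀ r, r < 64 → sm gj (Qf (11136 + r)) = Qf (tab Gen.j (11136 + r)) :=
  edges_tab (sm gj) Qf (tab Gen.j) 11136 [(11136, 9172), (11137, 13311), (11138, 13312), (11139, 11139), (11140, 11140), (11141, 12445), (11142, 9176), (11143, 13318), (11144, 13319), (11145, 9178), (11146, 9179), (11147, 13323), (11148, 13324), (11149, 13325), (11150, 11150), (11151, 11151), (11152, 11152), (11153, 11153), (11154, 11154), (11155, 9185), (11156, 9186), (11157, 13337), (11158, 13338), (11159, 12471), (11160, 9190), (11161, 9191), (11162, 13342), (11163, 13343), (11164, 13344), (11165, 9194), (11166, 9195), (11167, 13349), (11168, 13350), (11169, 11169), (11170, 11170), (11171, 12482), (11172, 12483), (11173, 9201), (11174, 9202), (11175, 9203), (11176, 13355), (11177, 12635), (11178, 13356), (11179, 13357), (11180, 13358), (11181, 9206), (11182, 9207),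 (11183, 9208), (11184, 13365), (11185, 13366), (11186, 13367), (11187, 11187), (11188, 11188), (11189, 11189), (11190, 12658), (11191, 9212), (11192, 13375), (11193, 11193), (11194, 9214), (11195, 12657), (11196, 9216), (11197, 13380), (11198, 9218), (11199, 13383)]
    ⟨e3 q11136 L264774 q9172, e3 q11137 (flp_j L385292) q13311, e3 q11138 (flp_j L385303) q13312, e3 q11139 L264801 q11139, e3 q11140 L264810 q11140, e3 q11141 (flp_j L362697) q12445, e3 q11142 L264824 q9176, e3 q11143 (flp_j L385382) q13318, e3 q11144 (flp_j L385390) q13319, e3 q11145 L264841 q9178, e3 q11146 L264850 q9179, e3 q11147 (flp_j L385411) q13323, e3 q11148 (flp_j L385418) q13324, e3 q11149 (flp_j L385427) q13325, e3 q11150 L264876 q11150, e3 q11151 L264881 q11151, e3 q11152 L264889 q11152, e3 q11153 L264901 q11153, e3 q11154 L264904 q11154, e3 q11155 L264911 q9185, e3 q11156 L264921 q9186, e3 q11157 (flp_j L385524) q13337, e3 q11158 (flp_j L385534) q13338, e3 q11159 (flp_j L362879) q12471, e3 q11160 L265006 q9190, e3 q11161 L265016 q9191, e3 q11162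 (flp_j L385649) q13342, e3 q11163 (flp_j L385657) q13343, e3 q11164 (flp_j L385670) q13344, e3 q11165 L265045 q9194, e3 q11166 L265057 q9195, e3 q11167 (flp_j L385714) q13349, e3 q11168 (flp_j L385726) q13350, e3 q11169 L265091 q11169, e3 q11170 L265101 q11170, e3 q11171 (flp_j L363000) q12482, e3 q11172 (flp_j L363010) q12483, e3 q11173 L265131 q9201, e3 q11174 L265138 q9202, e3 q11175 L265150 q9203, e3 q11176 (flp_j L385819) q13355, e3 q11177 (flp_j L645633) q12635, e3 q11178 (flp_j L385840) q13356, e3 q11179 (flp_j L385848) q13357, e3 q11180 (flp_j L385855) q13358, e3 q11181 L265192 q9206, e3 q11182 L265203 q9207, e3 q11183 L265210 q9208, e3 q11184 (flp_j L385914) q13365, e3 q11185 (flp_j L385925) q13366, e3 q11186 (flp_j L385934) q13367, e3 q11187 L265247 q11187, e3 q11188 L265253 q11188, e3 q11189 L265259 q11189, e3 q11190 (flp_j L614645) q12658, e3 q11191 (flp_j L265288) q9212, e3 q11192 (flp_j L386058) q13375, e3 q11193 L265318 q11193, e3 q11194 (flp_j L265319) q9214, e3 q11195 (flp_j L615959) q12657, e3 q11196 (flp_j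 L265525) q9216, e3 q11197 (flp_j L386458) q13380, e3 q11198 L265552 q9218, e3 q11199 (flp_j L386481) q13383, trivial⟩ (by decide +kernel)

theorem ce_j_175 : ∀ r, r < 64 → sm gj (Qf (11200 + r)) = Qf (tab Gen.j (11200 + r)) :=
  edges_tab (sm gj) Qf (tab Gen.j) 11200 [(11200, 13384), (11201, 11201), (11202, 12520), (11203, 9222), (11204, 13388), (11205, 13389), (11206, 9224), (11207, 9225), (11208, 13393), (11209, 13394), (11210, 11210), (11211, 11211), (11212, 11212), (11213, 12540), (11214, 9231), (11215, 9232), (11216, 13403), (11217, 13404), (11218, 13405), (11219, 9235), (11220, 9236), (11221, 13410), (11222, 13411), (11223, 11223), (11224, 11224), (11225, 9239), (11226, 13416), (11227, 12554), (11228, 9241), (11229, 13420), (11230, 13421), (11231, 9243), (11232, 9244), (11233, 13425), (11234, 13426), (11235, 13427), (11236, 11236), (11237, 11237), (11238, 11238), (11239, 11239), (11240, 11240), (11241, 11241), (11242, 12569), (11243, 9250), (11244, 9251), (11245, 13445), (11246, 13446), (11247, 13447), (11248, 9254),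 (11249, 9255), (11250, 9256), (11251, 13454), (11252, 13455), (11253, 13456), (11254, 13457), (11255, 13458), (11256, 13459), (11257, 11257), (11258, 11258), (11259, 11259), (11260, 11260), (11261, 11261), (11262, 11262), (11263, 13478)]
    ⟨e3 q11200 (flp_j L386494) q13384, e3 q11201 L265596 q11201, e3 q11202 (flp_j L363499) q12520, e3 q11203 L265612 q9222, e3 q11204 (flp_j L386590) q13388, e3 q11205 (flp_j L386600) q13389, e3 q11206 L265633 q9224, e3 q11207 L265644 q9225, e3 q11208 (flp_j L386627) q13393, e3 q11209 (flp_j L386647) q13394, e3 q11210 L265674 q11210, e3 q11211 L265692 q11211, e3 q11212 L265713 q11212, e3 q11213 (flp_j L363734) q12540, e3 q11214 L265846 q9231, e3 q11215 L265857 q9232, e3 q11216 (flp_j L386931) q13403, e3 q11217 (flp_j L386940) q13404, e3 q11218 (flp_j L386955) q13405, e3 q11219 L265892 q9235, e3 q11220 L265906 q9236, e3 q11221 (flp_j L387005) q13410, e3 q11222 (flp_j L387019) q13411, e3 q11223 L265943 q11223, e3 q11224 L265955 q11224, e3 q11225 (flp_j L265967) q9239, e3 q11226 (flp_j L387106)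 q13416, e3 q11227 (flp_j L363890) q12554, e3 q11228 L265996 q9241, e3 q11229 (flp_j L387131) q13420, e3 q11230 (flp_j L387141) q13421, e3 q11231 L266013 q9243, e3 q11232 L266024 q9244, e3 q11233 (flp_j L387164) q13425, e3 q11234 (flp_j L387173) q13426, e3 q11235 (flp_j L387184) q13427, e3 q11236 L266052 q11236, e3 q11237 L266059 q11237, e3 q11238 L266069 q11238, e3 q11239 L266074 q11239, e3 q11240 L266083 q11240, e3 q11241 L266086 q11241, e3 q11242 (flp_j L364005) q12569, e3 q11243 L266100 q9250, e3 q11244 L266108 q9251, e3 q11245 (flp_j L387312) q13445, e3 q11246 (flp_j L387318) q13446, e3 q11247 (flp_j L387326) q13447, e3 q11248 L266127 q9254, e3 q11249 L266134 q9255, e3 q11250 L266143 q9256, e3 q11251 (flp_j L387363) q13454, e3 q11252 (flp_j L387370) q13455, e3 q11253 (flp_j L387381) q13456, e3 q11254 (flp_j L387387) q13457, e3 q11255 (flp_j L387396) q13458, e3 q11256 (flp_j L387401) q13459, e3 q11257 L266187 q11257, e3 q11258 L266192 q11258, e3 q11259 L266201 q11259, e3 q11260 L266208 q11260, e3 q11261 L266217 q11261,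 e3 q11262 L266222 q11262, e3 q11263 L387527 q13478, trivial⟩ (by decide +kernel)

theorem ce_j_176 : ∀ r, r < 64 → sm gj (Qf (11264 + r)) = Qf (tab Gen.j (11264 + r)) :=
  edges_tab (sm gj) Qf (tab Gen.j) 11264 [(11264, 11264), (11265, 11265), (11266, 9265), (11267, 9266), (11268, 13483), (11269, 13482), (11270, 9267), (11271, 13485), (11272, 9270), (11273, 12605), (11274, 12606), (11275, 9274), (11276, 9275), (11277, 9276), (11278, 13488), (11279, 13489), (11280, 13490), (11281, 13491), (11282, 13492), (11283, 9279), (11284, 9280), (11285, 9281), (11286, 13500), (11287, 13501), (11288, 13502), (11289, 11289), (11290, 11290), (11291, 11291), (11292, 12626), (11293, 9290), (11294, 9292), (11295, 9293), (11296, 9294), (11297, 12681), (11298, 9378), (11299, 13499), (11300, 9327), (11301, 9298), (11302, 9299), (11303, 13510), (11304, 9560), (11305, 9491), (11306, 11306), (11307, 11307), (11308, 11308), (11309, 9305), (11310, 13514), (11311, 12650), (11312, 9307), (11313, 13518), (11314, 9309), (11315, 12654), (11316, 9313), (11317,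 9314), (11318, 13521), (11319, 13522), (11320, 9316), (11321, 13523), (11322, 9326), (11323, 9325), (11324, 9324), (11325, 9323), (11326, 12673), (11327, 12663)]
    ⟨e3 q11264 L266233 q11264, e3 q11265 L266238 q11265, e3 q11266 L266243 q9265, e3 q11267 L266254 q9266, e3 q11268 L387574 q13483, e3 q11269 (flp_j L387561) q13482, e3 q11270 (flp_j L266289) q9267, e3 q11271 (flp_j L387611) q13485, e3 q11272 L266327 q9270, e3 q11273 (flp_j L364267) q12605, e3 q11274 (flp_j L364278) q12606, e3 q11275 L266371 q9274, e3 q11276 L266379 q9275, e3 q11277 L266393 q9276, e3 q11278 (flp_j L387701) q13488, e3 q11279 (flp_j L387711) q13489, e3 q11280 (flp_j L387723) q13490, e3 q11281 (flp_j L387733) q13491, e3 q11282 (flp_j L387741) q13492, e3 q11283 L266438 q9279, e3 q11284 L266451 q9280, e3 q11285 L266460 q9281, e3 q11286 (flp_j L387808) q13500, e3 q11287 (flp_j L387821) q13501, e3 q11288 (flp_j L387830) q13502, e3 q11289 L266502 q11289, e3 q11290 L266511 q11290, e3 q11291 L266516 q11291, e3 q11292 (flp_j L364464) q12626, e3 q11293 L266546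 q9290, e3 q11294 L266568 q9292, e3 q11295 L266577 q9293, e3 q11296 L266584 q9294, e3 q11297 (flp_j L646083) q12681, e3 q11298 L629191 q9378, e3 q11299 (flp_j L646927) q13499, e3 q11300 (flp_j L645624) q9327, e3 q11301 L266646 q9298, e3 q11302 L266658 q9299, e3 q11303 (flp_j L388086) q13510, e3 q11304 L646281 q9560, e3 q11305 L645709 q9491, e3 q11306 L266705 q11306, e3 q11307 L266712 q11307, e3 q11308 L266718 q11308, e3 q11309 (flp_j L267394) q9305, e3 q11310 (flp_j L389188) q13514, e3 q11311 (flp_j L367146) q12650, e3 q11312 L267424 q9307, e3 q11313 (flp_j L389225) q13518, e3 q11314 L267454 q9309, e3 q11315 (flp_j L367545) q12654, e3 q11316 L267777 q9313, e3 q11317 L267783 q9314, e3 q11318 (flp_j L389739) q13521, e3 q11319 (flp_j L389747) q13522, e3 q11320 L267834 q9316, e3 q11321 (flp_j L389829) q13523, e3 q11322 (flp_j L615973) q9326, e3 q11323 L615589 q9325, e3 q11324 (flp_j L615673) q9324, e3 q11325 L267926 q9323, e3 q11326 (flp_j L615797) q12673, e3 q11327 (flp_j L615836) q12663, trivial⟩ (by decide +kernel)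

theorem ce_j_177 : ∀ r, r < 64 → sm gj (Qf (11328 + r)) = Qf (tab Gen.j (11328 + r)) :=
  edges_tab (sm gj) Qf (tab Gen.j) 11328 [(11328, 13520), (11329, 13283), (11330, 13034), (11331, 9331), (11332, 9332), (11333, 9333), (11334, 13525), (11335, 13526), (11336, 9489), (11337, 11337), (11338, 11338), (11339, 11339), (11340, 12487), (11341, 9339), (11342, 13531), (11343, 9341), (11344, 12667), (11345, 9345), (11346, 9346), (11347, 13533), (11348, 13534), (11349, 9348), (11350, 13538), (11351, 9351), (11352, 13539), (11353, 13540), (11354, 12677), (11355, 9354), (11356, 9355), (11357, 13546), (11358, 13547), (11359, 13548), (11360, 9358), (11361, 9359), (11362, 13553), (11363, 13554), (11364, 11364), (11365, 11365), (11366, 12689), (11367, 9364), (11368, 9365), (11369, 13559), (11370, 13560), (11371, 9367), (11372, 13564), (11373, 12695), (11374, 9374), (11375, 9375), (11376, 9376), (11377, 12692), (11378, 12670), (11379, 13494), (11380, 9382), (11381, 9384), (11382, 9577), (11383, 9558), (11384, 13567), (11385, 11385), (11386,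 11386), (11387, 11387), (11388, 9514), (11389, 9475), (11390, 11683), (11391, 9448)]
    ⟨e3 q11328 (flp_j L615869) q13520, e3 q11329 (flp_j L645485) q13283, e3 q11330 (flp_j L645643) q13034, e3 q11331 L268014 q9331, e3 q11332 L268024 q9332, e3 q11333 L268033 q9333, e3 q11334 (flp_j L390073) q13525, e3 q11335 (flp_j L390081) q13526, e3 q11336 (flp_j L645461) q9489, e3 q11337 L268065 q11337, e3 q11338 L268070 q11338, e3 q11339 L268077 q11339, e3 q11340 (flp_j L615950) q12487, e3 q11341 L268310 q9339, e3 q11342 (flp_j L390501) q13531, e3 q11343 L268343 q9341, e3 q11344 (flp_j L368637) q12667, e3 q11345 L268528 q9345, e3 q11346 L268535 q9346, e3 q11347 (flp_j L390784) q13533, e3 q11348 (flp_j L390793) q13534, e3 q11349 L268594 q9348, e3 q11350 (flp_j L390889) q13538, e3 q11351 L268682 q9351, e3 q11352 (flp_j L390981) q13539, e3 q11353 (flp_j L390991) q13540, e3 q11354 (flp_j L368839) q12677, e3 q11355 L268708 q9354, e3 q11356 L268717 q9355, e3 q11357 (flp_j L391030) q13546, e3 q11358 (flp_j L391037) q13547, e3 q11359 (flp_j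 L391049) q13548, e3 q11360 L268742 q9358, e3 q11361 L268753 q9359, e3 q11362 (flp_j L391088) q13553, e3 q11363 (flp_j L391099) q13554, e3 q11364 L268782 q11364, e3 q11365 L268791 q11365, e3 q11366 (flp_j L369011) q12689, e3 q11367 L268819 q9364, e3 q11368 L268826 q9365, e3 q11369 (flp_j L391183) q13559, e3 q11370 (flp_j L391190) q13560, e3 q11371 L268877 q9367, e3 q11372 (flp_j L391273) q13564, e3 q11373 (flp_j L369313) q12695, e3 q11374 L268968 q9374, e3 q11375 L268976 q9375, e3 q11376 L268986 q9376, e3 q11377 (flp_j L646076) q12692, e3 q11378 (flp_j L646440) q12670, e3 q11379 (flp_j L646522) q13494, e3 q11380 L269063 q9382, e3 q11381 L269083 q9384, e3 q11382 (flp_j L646368) q9577, e3 q11383 (flp_j L629322) q9558, e3 q11384 (flp_j L391541) q13567, e3 q11385 L269117 q11385, e3 q11386 L269122 q11386, e3 q11387 L269125 q11387, e3 q11388 L629645 q9514, e3 q11389 L645700 q9475, e3 q11390 L648995 q11683, e3 q11391 L269891 q9448, trivial⟩ (by decide +kernel)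

theorem ce_j_178 : ∀ r, r < 64 → sm gj (Qf (11392 + r)) = Qf (tab Gen.j (11392 + r)) :=
  edges_tab (sm gj) Qf (tab Gen.j) 11392 [(11392, 9449), (11393, 9458), (11394, 9459), (11395, 9460), (11396, 9461), (11397, 9462), (11398, 9463), (11399, 9410), (11400, 11843), (11401, 13579), (11402, 9469), (11403, 9413), (11404, 11680), (11405, 11681), (11406, 9420), (11407, 11824), (11408, 11836), (11409, 13582), (11410, 9482), (11411, 9483), (11412, 9484), (11413, 9426), (11414, 9427), (11415, 9428), (11416, 11826), (11417, 12169), (11418, 13588), (11419, 13589), (11420, 13590), (11421, 9431), (11422, 9432), (11423, 9433), (11424, 12185), (11425, 13595), (11426, 13596), (11427, 9499), (11428, 9500), (11429, 9501), (11430, 11778), (11431, 11753), (11432, 11696), (11433, 11697), (11434, 9446), (11435, 11859), (11436, 13606), (11437, 12122), (11438, 12150), (11439, 13572), (11440, 11759), (11441, 11764), (11442, 9627), (11443, 11769), (11444, 9701), (11445, 11823), (11446, 11831), (11447, 11834), (11448, 11841), (11449, 11842), (11450,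 9471), (11451, 12112), (11452, 13573), (11453, 13574), (11454, 13575), (11455, 13576)]
    ⟨e3 q11392 L269899 q9449, e3 q11393 L270059 q9458, e3 q11394 L270066 q9459, e3 q11395 L270075 q9460, e3 q11396 L270082 q9461, e3 q11397 L270092 q9462, e3 q11398 L270098 q9463, e3 q11399 L270118 q9410, e3 q11400 (flp_j L648799) q11843, e3 q11401 L649479 q13579, e3 q11402 L270156 q9469, e3 q11403 (flp_j L270167) q9413, e3 q11404 (flp_j L649345) q11680, e3 q11405 L649309 q11681, e3 q11406 L270268 q9420, e3 q11407 (flp_j L649121) q11824, e3 q11408 (flp_j L649123) q11836, e3 q11409 (flp_j L649513) q13582, e3 q11410 L270296 q9482, e3 q11411 L270306 q9483, e3 q11412 L270313 q9484, e3 q11413 L270341 q9426, e3 q11414 L270348 q9427, e3 q11415 L270359 q9428, e3 q11416 (flp_j L649375) q11826, e3 q11417 L649369 q12169, e3 q11418 (flp_j L649566) q13588, e3 q11419 (flp_j L649574) q13589, e3 q11420 (flp_j L649581) q13590, e3 q11421 L270404 q9431, e3 q11422 L270415 q9432, e3 q11423 L270422 q9433, e3 q11424 (flp_j L649359) q12185, e3 q11425 (flp_j L649624)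 q13595, e3 q11426 (flp_j L649633) q13596, e3 q11427 L270455 q9499, e3 q11428 L270462 q9500, e3 q11429 L270469 q9501, e3 q11430 (flp_j L649048) q11778, e3 q11431 (flp_j L649050) q11753, e3 q11432 (flp_j L649001) q11696, e3 q11433 (flp_j L649003) q11697, e3 q11434 L271134 q9446, e3 q11435 L649337 q11859, e3 q11436 (flp_j L649717) q13606, e3 q11437 L649223 q12122, e3 q11438 L649225 q12150, e3 q11439 (flp_j L649423) q13572, e3 q11440 (flp_j L649211) q11759, e3 q11441 L649197 q11764, e3 q11442 L642548 q9627, e3 q11443 L649199 q11769, e3 q11444 L642532 q9701, e3 q11445 L649111 q11823, e3 q11446 L649113 q11831, e3 q11447 L649115 q11834, e3 q11448 L649245 q11841, e3 q11449 L649247 q11842, e3 q11450 L648244 q9471, e3 q11451 (flp_j L649399) q12112, e3 q11452 (flp_j L649431) q13573, e3 q11453 (flp_j L649441) q13574, e3 q11454 (flp_j L649447) q13575, e3 q11455 (flp_j L649456) q13576, trivial⟩ (by decide +kernel)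

theorem ce_j_179 : ∀ r, r < 64 → sm gj (Qf (11456 + r)) = Qf (tab Gen.j (11456 + r)) :=
  edges_tab (sm gj) Qf (tab Gen.j) 11456 [(11456, 13103), (11457, 13633), (11458, 13577), (11459, 13578), (11460, 9466), (11461, 9467), (11462, 13637), (11463, 13636), (11464, 9468), (11465, 13623), (11466, 9476), (11467, 11932), (11468, 11953), (11469, 11954), (11470, 13512), (11471, 13639), (11472, 9479), (11473, 9480), (11474, 9481), (11475, 12251), (11476, 13646), (11477, 13647), (11478, 13585), (11479, 13586), (11480, 13587), (11481, 9488), (11482, 9490), (11483, 9492), (11484, 12402), (11485, 13528), (11486, 13654), (11487, 13370), (11488, 13655), (11489, 13043), (11490, 9496), (11491, 9497), (11492, 9498), (11493, 13662), (11494, 13663), (11495, 13664), (11496, 13600), (11497, 13601), (11498, 13602), (11499, 11704), (11500, 11705), (11501, 9506), (11502, 9507), (11503, 13675), (11504, 13676), (11505, 13677), (11506, 11506), (11507, 11507), (11508, 11508), (11509, 9513), (11510, 9515), (11511, 13684), (11512, 13568), (11513, 13685),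 (11514, 13511), (11515, 9573), (11516, 9518), (11517, 9519), (11518, 9520), (11519, 13692)]
    ⟨e3 q11456 L649385 q13103, e3 q11457 L649909 q13633, e3 q11458 (flp_j L649466) q13577, e3 q11459 (flp_j L649475) q13578, e3 q11460 L271463 q9466, e3 q11461 L271474 q9467, e3 q11462 L649938 q13637, e3 q11463 (flp_j L649936) q13636, e3 q11464 (flp_j L271511) q9468, e3 q11465 (flp_j L649849) q13623, e3 q11466 L271615 q9476, e3 q11467 (flp_j L649133) q11932, e3 q11468 (flp_j L649135) q11953, e3 q11469 (flp_j L649137) q11954, e3 q11470 L649291 q13512, e3 q11471 (flp_j L649962) q13639, e3 q11472 L271658 q9479, e3 q11473 L271667 q9480, e3 q11474 L271673 q9481, e3 q11475 (flp_j L649363) q12251, e3 q11476 (flp_j L650017) q13646, e3 q11477 (flp_j L650023) q13647, e3 q11478 (flp_j L649539) q13585, e3 q11479 (flp_j L649548) q13586, e3 q11480 (flp_j L649554) q13587, e3 q11481 L271749 q9488, e3 q11482 L271768 q9490, e3 q11483 L271784 q9492, e3 q11484 L649405 q12402, e3 q11485 (flp_j L649283) q13528, e3 q11486 (flp_j L650074) q13654, e3 q11487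 (flp_j L649285) q13370, e3 q11488 (flp_j L650083) q13655, e3 q11489 L649295 q13043, e3 q11490 L271844 q9496, e3 q11491 L271853 q9497, e3 q11492 L271860 q9498, e3 q11493 (flp_j L650141) q13662, e3 q11494 (flp_j L650147) q13663, e3 q11495 (flp_j L650153) q13664, e3 q11496 (flp_j L649665) q13600, e3 q11497 (flp_j L649673) q13601, e3 q11498 (flp_j L649681) q13602, e3 q11499 (flp_j L649183) q11704, e3 q11500 (flp_j L649177) q11705, e3 q11501 L272331 q9506, e3 q11502 L272353 q9507, e3 q11503 (flp_j L650242) q13675, e3 q11504 (flp_j L650254) q13676, e3 q11505 (flp_j L650261) q13677, e3 q11506 L272411 q11506, e3 q11507 L272428 q11507, e3 q11508 L272454 q11508, e3 q11509 L272631 q9513, e3 q11510 L272653 q9515, e3 q11511 (flp_j L650324) q13684, e3 q11512 (flp_j L649007) q13568, e3 q11513 (flp_j L650341) q13685, e3 q11514 L649017 q13511, e3 q11515 L629579 q9573, e3 q11516 L272703 q9518, e3 q11517 L272715 q9519, e3 q11518 L272723 q9520, e3 q11519 (flp_j L650406) q13692, trivial⟩ (by decide +kernel)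

theorem ce_j_180 : ∀ r, r < 64 → sm gj (Qf (11520 + r)) = Qf (tab Gen.j (11520 + r)) :=
  edges_tab (sm gj) Qf (tab Gen.j) 11520 [(11520, 13693), (11521, 13694), (11522, 11522), (11523, 11523), (11524, 11524), (11525, 9526), (11526, 9528), (11527, 9588), (11528, 11966), (11529, 13701), (11530, 11963), (11531, 11967), (11532, 13702), (11533, 9532), (11534, 9533), (11535, 9534), (11536, 9535), (11537, 9536), (11538, 9537), (11539, 13713), (11540, 13714), (11541, 13715), (11542, 13716), (11543, 13717), (11544, 13718), (11545, 13730), (11546, 13719), (11547, 13720), (11548, 11548), (11549, 11549), (11550, 11550), (11551, 11551), (11552, 11552), (11553, 13740), (11554, 11554), (11555, 11555), (11556, 11556), (11557, 9544), (11558, 13745), (11559, 11559), (11560, 13747), (11561, 9550), (11562, 9549), (11563, 13749), (11564, 9552), (11565, 9559), (11566, 9583), (11567, 9567), (11568, 13569), (11569, 13504), (11570, 9566), (11571, 9565), (11572, 13691), (11573, 13705), (11574, 11574), (11575, 11575), (11576, 11576), (11577, 9576),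 (11578, 9582), (11579, 12694), (11580, 9581), (11581, 12672), (11582, 13686), (11583, 13703)]
    ⟨e3 q11520 (flp_j L650418) q13693, e3 q11521 (flp_j L650429) q13694, e3 q11522 L272762 q11522, e3 q11523 L272769 q11523, e3 q11524 L272777 q11524, e3 q11525 L272803 q9526, e3 q11526 L272821 q9528, e3 q11527 L646642 q9588, e3 q11528 L649171 q11966, e3 q11529 (flp_j L650499) q13701, e3 q11530 L649173 q11963, e3 q11531 L649175 q11967, e3 q11532 (flp_j L650506) q13702, e3 q11533 L272872 q9532, e3 q11534 L272881 q9533, e3 q11535 L272891 q9534, e3 q11536 L272898 q9535, e3 q11537 L272909 q9536, e3 q11538 L272915 q9537, e3 q11539 (flp_j L650598) q13713, e3 q11540 (flp_j L650607) q13714, e3 q11541 (flp_j L650620) q13715, e3 q11542 (flp_j L650626) q13716, e3 q11543 (flp_j L650636) q13717, e3 q11544 (flp_j L650643) q13718, e3 q11545 L650734 q13730, e3 q11546 (flp_j L650653) q13719, e3 q11547 (flp_j L650661) q13720, e3 q11548 L272992 q11548, e3 q11549 L273002 q11549, e3 q11550 L273008 q11550, e3 q11551 L273018 q11551, e3 q11552 L273025 q11552,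 e3 q11553 L650815 q13740, e3 q11554 L273040 q11554, e3 q11555 L273047 q11555, e3 q11556 L273052 q11556, e3 q11557 (flp_j L273057) q9544, e3 q11558 (flp_j L650856) q13745, e3 q11559 L273079 q11559, e3 q11560 L650865 q13747, e3 q11561 L273100 q9550, e3 q11562 (flp_j L273112) q9549, e3 q11563 (flp_j L650884) q13749, e3 q11564 L273147 q9552, e3 q11565 L273263 q9559, e3 q11566 L645811 q9583, e3 q11567 L646673 q9567, e3 q11568 (flp_j L649009) q13569, e3 q11569 (flp_j L649011) q13504, e3 q11570 L629410 q9566, e3 q11571 L273344 q9565, e3 q11572 (flp_j L650396) q13691, e3 q11573 (flp_j L650540) q13705, e3 q11574 L273398 q11574, e3 q11575 L273406 q11575, e3 q11576 L273412 q11576, e3 q11577 L273735 q9576, e3 q11578 L645858 q9582, e3 q11579 L648497 q12694, e3 q11580 L645849 q9581, e3 q11581 L648501 q12672, e3 q11582 (flp_j L650351) q13686, e3 q11583 (flp_j L650518) q13703, trivial⟩ (by decide +kernel)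

theorem ce_j_181 : ∀ r, r < 64 → sm gj (Qf (11584 + r)) = Qf (tab Gen.j (11584 + r)) :=
  edges_tab (sm gj) Qf (tab Gen.j) 11584 [(11584, 11584), (11585, 11585), (11586, 11586), (11587, 12548), (11588, 13704), (11589, 11589), (11590, 13612), (11591, 12748), (11592, 12743), (11593, 13758), (11594, 9598), (11595, 9606), (11596, 9601), (11597, 13760), (11598, 9646), (11599, 11599), (11600, 9654), (11601, 13759), (11602, 11602), (11603, 9660), (11604, 9661), (11605, 9614), (11606, 9657), (11607, 9658), (11608, 11608), (11609, 11609), (11610, 13765), (11611, 9621), (11612, 9631), (11613, 9633), (11614, 13615), (11615, 13064), (11616, 12794), (11617, 13051), (11618, 12802), (11619, 12758), (11620, 12760), (11621, 13767), (11622, 13768), (11623, 9639), (11624, 9648), (11625, 9643), (11626, 13770), (11627, 12912), (11628, 13761), (11629, 9649), (11630, 9670), (11631, 13769), (11632, 11632), (11633, 12479), (11634, 13762), (11635, 9656), (11636, 12967), (11637, 13764), (11638, 12959), (11639, 13763), (11640, 13780), (11641, 11641),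 (11642, 13782), (11643, 9665), (11644, 13783), (11645, 9667), (11646, 12659), (11647, 13773)]
    ⟨e3 q11584 L273894 q11584, e3 q11585 L273900 q11585, e3 q11586 L273907 q11586, e3 q11587 L649297 q12548, e3 q11588 (flp_j L650527) q13704, e3 q11589 L275032 q11589, e3 q11590 (flp_j L649768) q13612, e3 q11591 (flp_j L648771) q12748, e3 q11592 (flp_j L648226) q12743, e3 q11593 L650934 q13758, e3 q11594 (flp_j L284072) q9598, e3 q11595 L614942 q9606, e3 q11596 L286071 q9601, e3 q11597 (flp_j L650969) q13760, e3 q11598 L615187 q9646, e3 q11599 L286659 q11599, e3 q11600 L615052 q9654, e3 q11601 (flp_j L650953) q13759, e3 q11602 L286965 q11602, e3 q11603 L615007 q9660, e3 q11604 L615001 q9661, e3 q11605 L287376 q9614, e3 q11606 L615045 q9657, e3 q11607 L615039 q9658, e3 q11608 L287417 q11608, e3 q11609 L287432 q11609, e3 q11610 L651031 q13765, e3 q11611 (flp_j L287652) q9621, e3 q11612 L288236 q9631, e3 q11613 L288812 q9633, e3 q11614 (flp_j L649790) q13615, e3 q11615 L648911 q13064, e3 q11616 L648612 q12794, e3 q11617 (flp_j L648913)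 q13051, e3 q11618 L648767 q12802, e3 q11619 (flp_j L648809) q12758, e3 q11620 (flp_j L648935) q12760, e3 q11621 L651043 q13767, e3 q11622 L651048 q13768, e3 q11623 (flp_j L291640) q9639, e3 q11624 L615360 q9648, e3 q11625 L292275 q9643, e3 q11626 (flp_j L651086) q13770, e3 q11627 L648857 q12912, e3 q11628 (flp_j L650987) q13761, e3 q11629 L292737 q9649, e3 q11630 L616236 q9670, e3 q11631 (flp_j L651069) q13769, e3 q11632 L292783 q11632, e3 q11633 (flp_j L648386) q12479, e3 q11634 (flp_j L651005) q13762, e3 q11635 L293815 q9656, e3 q11636 L648849 q12967, e3 q11637 (flp_j L651029) q13764, e3 q11638 L648845 q12959, e3 q11639 (flp_j L651017) q13763, e3 q11640 L651156 q13780, e3 q11641 L294223 q11641, e3 q11642 L651169 q13782, e3 q11643 (flp_j L294322) q9665, e3 q11644 L651176 q13783, e3 q11645 (flp_j L294371) q9667, e3 q11646 L648489 q12659, e3 q11647 (flp_j L651116) q13773, trivial⟩ (by decide +kernel)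

theorem ce_j_182 : ∀ r, r < 64 → sm gj (Qf (11648 + r)) = Qf (tab Gen.j (11648 + r)) :=
  edges_tab (sm gj) Qf (tab Gen.j) 11648 [(11648, 9672), (11649, 9674), (11650, 12397), (11651, 13786), (11652, 9677), (11653, 12392), (11654, 9681), (11655, 12405), (11656, 11656), (11657, 12409), (11658, 12411), (11659, 9688), (11660, 11918), (11661, 12494), (11662, 9691), (11663, 9694), (11664, 9695), (11665, 13790), (11666, 13791), (11667, 9705), (11668, 9706), (11669, 12732), (11670, 11733), (11671, 9708), (11672, 11747), (11673, 11724), (11674, 13796), (11675, 13797), (11676, 9710), (11677, 9712), (11678, 9729), (11679, 9730), (11680, 11404), (11681, 11405), (11682, 10935), (11683, 11390), (11684, 13798), (11685, 13799), (11686, 13800), (11687, 10634), (11688, 11688), (11689, 11689), (11690, 11690), (11691, 11691), (11692, 11692), (11693, 11693), (11694, 11694), (11695, 11695), (11696, 11432), (11697, 11433), (11698, 11698), (11699, 11699), (11700, 11700), (11701, 13824), (11702, 11702), (11703, 11703), (11704, 11499), (11705, 11500),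 (11706, 11706), (11707, 11707), (11708, 11708), (11709, 10753), (11710, 10754), (11711, 9763)]
    ⟨e3 q11648 L294824 q9672, e3 q11649 L295117 q9674, e3 q11650 L649389 q12397, e3 q11651 (flp_j L651203) q13786, e3 q11652 L295153 q9677, e3 q11653 L648813 q12392, e3 q11654 L295200 q9681, e3 q11655 (flp_j L648819) q12405, e3 q11656 L295259 q11656, e3 q11657 (flp_j L648861) q12409, e3 q11658 L648891 q12411, e3 q11659 L295702 q9688, e3 q11660 L648883 q11918, e3 q11661 L648885 q12494, e3 q11662 L295750 q9691, e3 q11663 L295769 q9694, e3 q11664 L295778 q9695, e3 q11665 (flp_j L651231) q13790, e3 q11666 (flp_j L651240) q13791, e3 q11667 L296674 q9705, e3 q11668 L296685 q9706, e3 q11669 (flp_j L649029) q12732, e3 q11670 (flp_j L648961) q11733, e3 q11671 L641453 q9708, e3 q11672 L648955 q11747, e3 q11673 L649193 q11724, e3 q11674 (flp_j L651276) q13796, e3 q11675 L651278 q13797, e3 q11676 (flp_j L298533) q9710, e3 q11677 (flp_j L299213) q9712, e3 q11678 L350810 q9729, e3 q11679 L350822 q9730, e3 q11680 L649345 q11404, e3 q11681 (flp_j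 L649309) q11405, e3 q11682 L648123 q10935, e3 q11683 (flp_j L648995) q11390, e3 q11684 (flp_j L651293) q13798, e3 q11685 (flp_j L651309) q13799, e3 q11686 (flp_j L651321) q13800, e3 q11687 L636880 q10634, e3 q11688 L351499 q11688, e3 q11689 L351509 q11689, e3 q11690 L351519 q11690, e3 q11691 L351627 q11691, e3 q11692 L351635 q11692, e3 q11693 L351646 q11693, e3 q11694 L351653 q11694, e3 q11695 L351722 q11695, e3 q11696 L649001 q11432, e3 q11697 L649003 q11433, e3 q11698 L351873 q11698, e3 q11699 L351884 q11699, e3 q11700 L351892 q11700, e3 q11701 L651634 q13824, e3 q11702 L351910 q11702, e3 q11703 L351918 q11703, e3 q11704 L649183 q11499, e3 q11705 L649177 q11500, e3 q11706 L351994 q11706, e3 q11707 L352005 q11707, e3 q11708 L352013 q11708, e3 q11709 L640759 q10753, e3 q11710 L640752 q10754, e3 q11711 L352070 q9763, trivial⟩ (by decide +kernel)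

theorem ce_j_183 : ∀ r, r < 64 → sm gj (Qf (11712 + r)) = Qf (tab Gen.j (11712 + r)) :=
  edges_tab (sm gj) Qf (tab Gen.j) 11712 [(11712, 9764), (11713, 13836), (11714, 13837), (11715, 13838), (11716, 11716), (11717, 11717), (11718, 11718), (11719, 9783), (11720, 10611), (11721, 9786), (11722, 10609), (11723, 10643), (11724, 11673), (11725, 13848), (11726, 9785), (11727, 10618), (11728, 9840), (11729, 9789), (11730, 10620), (11731, 10625), (11732, 9814), (11733, 11670), (11734, 13852), (11735, 13853), (11736, 9796), (11737, 9798), (11738, 10610), (11739, 9849), (11740, 13857), (11741, 9851), (11742, 9805), (11743, 13861), (11744, 9854), (11745, 9855), (11746, 9856), (11747, 11672), (11748, 9809), (11749, 13867), (11750, 9860), (11751, 9861), (11752, 9812), (11753, 11431), (11754, 9816), (11755, 10687), (11756, 9870), (11757, 9820), (11758, 9872), (11759, 11440), (11760, 9874), (11761, 9875), (11762, 9876), (11763, 9877), (11764, 11441), (11765, 9879), (11766, 9883), (11767, 9884), (11768, 9885), (11769, 11443), (11770, 9890),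 (11771, 13880), (11772, 9893), (11773, 13851), (11774, 9832), (11775, 10683)]
    ⟨e3 q11712 L352082 q9764, e3 q11713 (flp_j L651790) q13836, e3 q11714 (flp_j L651806) q13837, e3 q11715 (flp_j L651818) q13838, e3 q11716 L352117 q11716, e3 q11717 L352128 q11717, e3 q11718 L352137 q11718, e3 q11719 L352611 q9783, e3 q11720 L644371 q10611, e3 q11721 L352670 q9786, e3 q11722 L631071 q10609, e3 q11723 L621473 q10643, e3 q11724 (flp_j L649193) q11673, e3 q11725 L651935 q13848, e3 q11726 (flp_j L353281) q9785, e3 q11727 L644551 q10618, e3 q11728 L644109 q9840, e3 q11729 (flp_j L353336) q9789, e3 q11730 L631823 q10620, e3 q11731 L634997 q10625, e3 q11732 L632058 q9814, e3 q11733 L648961 q11670, e3 q11734 L652011 q13852, e3 q11735 L652029 q13853, e3 q11736 (flp_j L353609) q9796, e3 q11737 (flp_j L353692) q9798, e3 q11738 L644442 q10610, e3 q11739 L353980 q9849, e3 q11740 L652100 q13857, e3 q11741 L354005 q9851, e3 q11742 (flp_j L354007) q9805, e3 q11743 (flp_j L652169) q13861, e3 q11744 L354034 q9854, e3 q11745 L354046 q9855, e3 q11746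 L354069 q9856, e3 q11747 (flp_j L648955) q11672, e3 q11748 (flp_j L354080) q9809, e3 q11749 (flp_j L652251) q13867, e3 q11750 L354104 q9860, e3 q11751 L354115 q9861, e3 q11752 L354126 q9812, e3 q11753 L649050 q11431, e3 q11754 L354168 q9816, e3 q11755 L631984 q10687, e3 q11756 L354205 q9870, e3 q11757 L354216 q9820, e3 q11758 L354227 q9872, e3 q11759 L649211 q11440, e3 q11760 L354249 q9874, e3 q11761 L354258 q9875, e3 q11762 L354271 q9876, e3 q11763 L354279 q9877, e3 q11764 (flp_j L649197) q11441, e3 q11765 L354300 q9879, e3 q11766 L354338 q9883, e3 q11767 L354345 q9884, e3 q11768 L354357 q9885, e3 q11769 (flp_j L649199) q11443, e3 q11770 L354403 q9890, e3 q11771 L652451 q13880, e3 q11772 L354437 q9893, e3 q11773 (flp_j L652001) q13851, e3 q11774 (flp_j L354448) q9832, e3 q11775 L642729 q10683, trivial⟩ (by decide +kernel)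

theorem ce_j_184 : ∀ r, r < 64 → sm gj (Qf (11776 + r)) = Qf (tab Gen.j (11776 + r)) :=
  edges_tab (sm gj) Qf (tab Gen.j) 11776 [(11776, 9897), (11777, 9898), (11778, 11430), (11779, 9902), (11780, 9903), (11781, 9904), (11782, 9905), (11783, 9906), (11784, 10684), (11785, 9912), (11786, 9913), (11787, 13897), (11788, 13855), (11789, 13901), (11790, 9850), (11791, 13903), (11792, 13859), (11793, 13860), (11794, 9853), (11795, 13909), (11796, 13910), (11797, 13864), (11798, 13865), (11799, 13866), (11800, 9857), (11801, 13916), (11802, 9859), (11803, 13919), (11804, 13920), (11805, 13869), (11806, 13870), (11807, 9863), (11808, 10622), (11809, 9865), (11810, 10739), (11811, 13926), (11812, 9867), (11813, 9868), (11814, 10968), (11815, 10749), (11816, 10128), (11817, 10136), (11818, 10668), (11819, 10910), (11820, 13935), (11821, 13872), (11822, 9873), (11823, 11445), (11824, 11407), (11825, 13873), (11826, 11416), (11827, 13874), (11828, 13945), (11829, 13946), (11830, 9878), (11831, 11446), (11832, 13875), (11833, 13876),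 (11834, 11447), (11835, 10963), (11836, 11408), (11837, 13877), (11838, 13878), (11839, 13879)]
    ⟨e3 q11776 L354474 q9897, e3 q11777 L354486 q9898, e3 q11778 L649048 q11430, e3 q11779 L354520 q9902, e3 q11780 L354531 q9903, e3 q11781 L354539 q9904, e3 q11782 L354551 q9905, e3 q11783 L354558 q9906, e3 q11784 L644166 q10684, e3 q11785 L354605 q9912, e3 q11786 L354615 q9913, e3 q11787 L652682 q13897, e3 q11788 (flp_j L652079) q13855, e3 q11789 L652735 q13901, e3 q11790 (flp_j L354960) q9850, e3 q11791 (flp_j L652773) q13903, e3 q11792 (flp_j L652140) q13859, e3 q11793 (flp_j L652154) q13860, e3 q11794 L355006 q9853, e3 q11795 (flp_j L652833) q13909, e3 q11796 (flp_j L652849) q13910, e3 q11797 (flp_j L652206) q13864, e3 q11798 (flp_j L652222) q13865, e3 q11799 (flp_j L652234) q13866, e3 q11800 (flp_j L355074) q9857, e3 q11801 (flp_j L652929) q13916, e3 q11802 L355100 q9859, e3 q11803 (flp_j L652973) q13919, e3 q11804 (flp_j L652994) q13920, e3 q11805 (flp_j L652284) q13869, e3 q11806 (flp_j L652303) q13870, e3 q11807 L355140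 q9863, e3 q11808 L635069 q10622, e3 q11809 L355164 q9865, e3 q11810 L644251 q10739, e3 q11811 (flp_j L653074) q13926, e3 q11812 L355189 q9867, e3 q11813 L355199 q9868, e3 q11814 L644076 q10968, e3 q11815 L649042 q10749, e3 q11816 L644093 q10128, e3 q11817 L632106 q10136, e3 q11818 L641226 q10668, e3 q11819 L617609 q10910, e3 q11820 L653195 q13935, e3 q11821 (flp_j L652339) q13872, e3 q11822 (flp_j L355273) q9873, e3 q11823 (flp_j L649111) q11445, e3 q11824 L649121 q11407, e3 q11825 (flp_j L652354) q13873, e3 q11826 L649375 q11416, e3 q11827 (flp_j L652373) q13874, e3 q11828 L653344 q13945, e3 q11829 L653359 q13946, e3 q11830 (flp_j L355365) q9878, e3 q11831 (flp_j L649113) q11446, e3 q11832 (flp_j L652383) q13875, e3 q11833 (flp_j L652403) q13876, e3 q11834 (flp_j L649115) q11447, e3 q11835 L635750 q10963, e3 q11836 L649123 q11408, e3 q11837 (flp_j L652417) q13877, e3 q11838 (flp_j L652435) q13878, e3 q11839 (flp_j L652446) q13879, trivial⟩ (by decide +kernel)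

theorem ce_j_185 : ∀ r, r < 64 → sm gj (Qf (11840 + r)) = Qf (tab Gen.j (11840 + r)) :=
  edges_tab (sm gj) Qf (tab Gen.j) 11840 [(11840, 9886), (11841, 11448), (11842, 11449), (11843, 11400), (11844, 13961), (11845, 9892), (11846, 13963), (11847, 13882), (11848, 13883), (11849, 9894), (11850, 13969), (11851, 9896), (11852, 13972), (11853, 13973), (11854, 13886), (11855, 13887), (11856, 13888), (11857, 9901), (11858, 11052), (11859, 11435), (11860, 13889), (11861, 13890), (11862, 13891), (11863, 13989), (11864, 13893), (11865, 13894), (11866, 10728), (11867, 9908), (11868, 10681), (11869, 13992), (11870, 9911), (11871, 10675), (11872, 10682), (11873, 10911), (11874, 13895), (11875, 10662), (11876, 9918), (11877, 10686), (11878, 10904), (11879, 10919), (11880, 13999), (11881, 9924), (11882, 14001), (11883, 11883), (11884, 11884), (11885, 9926), (11886, 14008), (11887, 9928), (11888, 14011), (11889, 14012), (11890, 11890), (11891, 11891), (11892, 11892), (11893, 9932), (11894, 9933), (11895, 14021), (11896, 14022), (11897,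 11897), (11898, 11898), (11899, 10771), (11900, 9938), (11901, 14028), (11902, 14029), (11903, 9940)]
    ⟨e3 q11840 (flp_j L355465) q9886, e3 q11841 (flp_j L649245) q11448, e3 q11842 (flp_j L649247) q11449, e3 q11843 L648799 q11400, e3 q11844 L653566 q13961, e3 q11845 (flp_j L355542) q9892, e3 q11846 (flp_j L653603) q13963, e3 q11847 (flp_j L652489) q13882, e3 q11848 (flp_j L652506) q13883, e3 q11849 (flp_j L355571) q9894, e3 q11850 (flp_j L653677) q13969, e3 q11851 L355601 q9896, e3 q11852 (flp_j L653707) q13972, e3 q11853 (flp_j L653725) q13973, e3 q11854 (flp_j L652544) q13886, e3 q11855 (flp_j L652564) q13887, e3 q11856 (flp_j L652576) q13888, e3 q11857 L355656 q9901, e3 q11858 L648113 q11052, e3 q11859 (flp_j L649337) q11435, e3 q11860 (flp_j L652586) q13889, e3 q11861 (flp_j L652603) q13890, e3 q11862 (flp_j L652617) q13891, e3 q11863 L653895 q13989, e3 q11864 (flp_j L652636) q13893, e3 q11865 (flp_j L652645) q13894, e3 q11866 L355727 q10728, e3 q11867 L355737 q9908, e3 q11868 L640981 q10681, e3 q11869 (flp_j L653933)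 q13992, e3 q11870 L355769 q9911, e3 q11871 L636016 q10675, e3 q11872 L635991 q10682, e3 q11873 L640484 q10911, e3 q11874 (flp_j L652662) q13895, e3 q11875 L641234 q10662, e3 q11876 L355828 q9918, e3 q11877 L635107 q10686, e3 q11878 L637477 q10904, e3 q11879 L641266 q10919, e3 q11880 L654036 q13999, e3 q11881 (flp_j L356248) q9924, e3 q11882 (flp_j L654069) q14001, e3 q11883 L356273 q11883, e3 q11884 L356284 q11884, e3 q11885 (flp_j L356287) q9926, e3 q11886 (flp_j L654155) q14008, e3 q11887 L356316 q9928, e3 q11888 (flp_j L654188) q14011, e3 q11889 (flp_j L654201) q14012, e3 q11890 L356340 q11890, e3 q11891 L356347 q11891, e3 q11892 L356358 q11892, e3 q11893 L356364 q9932, e3 q11894 L356375 q9933, e3 q11895 (flp_j L654305) q14021, e3 q11896 (flp_j L654318) q14022, e3 q11897 L356412 q11897, e3 q11898 L356420 q11898, e3 q11899 L356459 q10771, e3 q11900 L356467 q9938, e3 q11901 (flp_j L654391) q14028, e3 q11902 (flp_j L654404) q14029, e3 q11903 L356493 q9940, trivial⟩ (by decide +kernel)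

theorem ce_j_186 : ∀ r, r < 64 → sm gj (Qf (11904 + r)) = Qf (tab Gen.j (11904 + r)) :=
  edges_tab (sm gj) Qf (tab Gen.j) 11904 [(11904, 9941), (11905, 14033), (11906, 14034), (11907, 11907), (11908, 11908), (11909, 11909), (11910, 10743), (11911, 9947), (11912, 9948), (11913, 14042), (11914, 10877), (11915, 14043), (11916, 9951), (11917, 9952), (11918, 11660), (11919, 14049), (11920, 14050), (11921, 11921), (11922, 11922), (11923, 11923), (11924, 14057), (11925, 11925), (11926, 14061), (11927, 9957), (11928, 14063), (11929, 11929), (11930, 11930), (11931, 9960), (11932, 11467), (11933, 14069), (11934, 11934), (11935, 11935), (11936, 11936), (11937, 11937), (11938, 11938), (11939, 14077), (11940, 9965), (11941, 14079), (11942, 11942), (11943, 11943), (11944, 9967), (11945, 14086), (11946, 9969), (11947, 14089), (11948, 14090), (11949, 11949), (11950, 11950), (11951, 11951), (11952, 9974), (11953, 11468), (11954, 11469), (11955, 11955), (11956, 11956), (11957, 11957), (11958, 14104), (11959, 11959), (11960, 11960), (11961,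 10820), (11962, 9981), (11963, 11530), (11964, 14108), (11965, 9984), (11966, 11528), (11967, 11531)]
    ⟨e3 q11904 L356504 q9941, e3 q11905 (flp_j L654449) q14033, e3 q11906 (flp_j L654464) q14034, e3 q11907 L356528 q11907, e3 q11908 L356539 q11908, e3 q11909 L356547 q11909, e3 q11910 L635155 q10743, e3 q11911 L356566 q9947, e3 q11912 L356576 q9948, e3 q11913 (flp_j L654560) q14042, e3 q11914 L635232 q10877, e3 q11915 (flp_j L654578) q14043, e3 q11916 L356611 q9951, e3 q11917 L356623 q9952, e3 q11918 (flp_j L648883) q11660, e3 q11919 (flp_j L654650) q14049, e3 q11920 (flp_j L654657) q14050, e3 q11921 L356659 q11921, e3 q11922 L356671 q11922, e3 q11923 L356680 q11923, e3 q11924 L654733 q14057, e3 q11925 L356710 q11925, e3 q11926 L654787 q14061, e3 q11927 (flp_j L356720) q9957, e3 q11928 (flp_j L654819) q14063, e3 q11929 L356749 q11929, e3 q11930 L356761 q11930, e3 q11931 L356770 q9960, e3 q11932 L649133 q11467, e3 q11933 (flp_j L654894) q14069, e3 q11934 L356796 q11934, e3 q11935 L356805 q11935, e3 q11936 L356817 q11936,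 e3 q11937 L356833 q11937, e3 q11938 L356861 q11938, e3 q11939 L654992 q14077, e3 q11940 (flp_j L356872) q9965, e3 q11941 (flp_j L655019) q14079, e3 q11942 L356895 q11942, e3 q11943 L356906 q11943, e3 q11944 (flp_j L356907) q9967, e3 q11945 (flp_j L655097) q14086, e3 q11946 L356934 q9969, e3 q11947 (flp_j L655124) q14089, e3 q11948 (flp_j L655139) q14090, e3 q11949 L356958 q11949, e3 q11950 L356965 q11950, e3 q11951 L356976 q11951, e3 q11952 L356992 q9974, e3 q11953 L649135 q11468, e3 q11954 L649137 q11469, e3 q11955 L357013 q11955, e3 q11956 L357023 q11956, e3 q11957 L357030 q11957, e3 q11958 L655299 q14104, e3 q11959 L357047 q11959, e3 q11960 L357054 q11960, e3 q11961 L357063 q10820, e3 q11962 L357072 q9981, e3 q11963 (flp_j L649173) q11530, e3 q11964 (flp_j L655356) q14108, e3 q11965 L357110 q9984, e3 q11966 (flp_j L649171) q11528, e3 q11967 (flp_j L649175) q11531, trivial⟩ (by decide +kernel)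

theorem ce_j_187 : ∀ r, r < 64 → sm gj (Qf (11968 + r)) = Qf (tab Gen.j (11968 + r)) :=
  edges_tab (sm gj) Qf (tab Gen.j) 11968 [(11968, 11968), (11969, 11969), (11970, 14114), (11971, 9988), (11972, 14117), (11973, 9990), (11974, 14120), (11975, 14121), (11976, 11976), (11977, 11977), (11978, 11978), (11979, 10840), (11980, 9994), (11981, 14132), (11982, 14133), (11983, 9996), (11984, 9997), (11985, 14137), (11986, 14138), (11987, 14139), (11988, 11988), (11989, 11989), (11990, 11990), (11991, 11991), (11992, 11992), (11993, 11993), (11994, 10003), (11995, 10004), (11996, 14155), (11997, 14156), (11998, 14157), (11999, 14161), (12000, 12000), (12001, 12001), (12002, 10008), (12003, 14165), (12004, 12004), (12005, 10863), (12006, 10013), (12007, 10014), (12008, 14168), (12009, 10773), (12010, 14169), (12011, 10017), (12012, 10018), (12013, 14175), (12014, 14176), (12015, 14177), (12016, 12016), (12017, 12017), (12018, 12018), (12019, 10878), (12020, 10025), (12021, 10027), (12022, 14184), (12023, 10783), (12024, 14185),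 (12025, 10784), (12026, 14186), (12027, 10030), (12028, 10031), (12029, 10032), (12030, 14193), (12031, 14194)]
    ⟨e3 q11968 L357143 q11968, e3 q11969 L357151 q11969, e3 q11970 L655432 q14114, e3 q11971 (flp_j L357161) q9988, e3 q11972 (flp_j L655473) q14117, e3 q11973 L357186 q9990, e3 q11974 (flp_j L655499) q14120, e3 q11975 (flp_j L655510) q14121, e3 q11976 L357208 q11976, e3 q11977 L357216 q11977, e3 q11978 L357228 q11978, e3 q11979 L357236 q10840, e3 q11980 L357246 q9994, e3 q11981 (flp_j L655621) q14132, e3 q11982 (flp_j L655631) q14133, e3 q11983 L357271 q9996, e3 q11984 L357282 q9997, e3 q11985 (flp_j L655662) q14137, e3 q11986 (flp_j L655677) q14138, e3 q11987 (flp_j L655688) q14139, e3 q11988 L357312 q11988, e3 q11989 L357319 q11989, e3 q11990 L357328 q11990, e3 q11991 L357335 q11991, e3 q11992 L357346 q11992, e3 q11993 L357353 q11993, e3 q11994 L357359 q10003, e3 q11995 L357369 q10004, e3 q11996 (flp_j L655848) q14155, e3 q11997 (flp_j L655864) q14156, e3 q11998 (flp_j L655877) q14157, e3 q11999 L655902 q14161,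 e3 q12000 L357406 q12000, e3 q12001 L357413 q12001, e3 q12002 (flp_j L357415) q10008, e3 q12003 (flp_j L655941) q14165, e3 q12004 L357437 q12004, e3 q12005 L357454 q10863, e3 q12006 L357462 q10013, e3 q12007 L357471 q10014, e3 q12008 (flp_j L655967) q14168, e3 q12009 L640976 q10773, e3 q12010 (flp_j L655982) q14169, e3 q12011 L357500 q10017, e3 q12012 L357510 q10018, e3 q12013 (flp_j L656044) q14175, e3 q12014 (flp_j L656058) q14176, e3 q12015 (flp_j L656069) q14177, e3 q12016 L357538 q12016, e3 q12017 L357548 q12017, e3 q12018 L357555 q12018, e3 q12019 L357574 q10878, e3 q12020 L357581 q10025, e3 q12021 L357599 q10027, e3 q12022 (flp_j L656135) q14184, e3 q12023 L640969 q10783, e3 q12024 (flp_j L656149) q14185, e3 q12025 L635193 q10784, e3 q12026 (flp_j L656158) q14186, e3 q12027 L357649 q10030, e3 q12028 L357660 q10031, e3 q12029 L357666 q10032, e3 q12030 (flp_j L656238) q14193, e3 q12031 (flp_j L656249) q14194, trivial⟩ (by decide +kernel)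

theorem ce_j_188 : ∀ r, r < 64 → sm gj (Qf (12032 + r)) = Qf (tab Gen.j (12032 + r)) :=
  edges_tab (sm gj) Qf (tab Gen.j) 12032 [(12032, 14195), (12033, 12033), (12034, 12034), (12035, 12035), (12036, 10142), (12037, 10144), (12038, 10145), (12039, 10146), (12040, 10148), (12041, 10152), (12042, 10151), (12043, 10154), (12044, 10155), (12045, 10156), (12046, 10157), (12047, 10160), (12048, 10161), (12049, 10049), (12050, 14215), (12051, 10052), (12052, 14216), (12053, 14217), (12054, 10169), (12055, 10170), (12056, 10056), (12057, 10172), (12058, 14224), (12059, 10174), (12060, 10175), (12061, 10176), (12062, 14230), (12063, 10178), (12064, 10060), (12065, 14234), (12066, 10181), (12067, 10182), (12068, 10183), (12069, 14239), (12070, 10064), (12071, 14241), (12072, 10187), (12073, 10188), (12074, 10067), (12075, 14245), (12076, 14246), (12077, 10192), (12078, 14250), (12079, 10070), (12080, 14252), (12081, 10196), (12082, 10197), (12083, 10073), (12084, 14258), (12085, 14259), (12086, 10201), (12087, 10202), (12088, 10203),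 (12089, 10204), (12090, 10205), (12091, 10078), (12092, 14267), (12093, 10080), (12094, 14269), (12095, 14270)]
    ⟨e3 q12032 (flp_j L656257) q14195, e3 q12033 L357702 q12033, e3 q12034 L357709 q12034, e3 q12035 L357716 q12035, e3 q12036 L357738 q10142, e3 q12037 L357767 q10144, e3 q12038 L357774 q10145, e3 q12039 L357787 q10146, e3 q12040 L357807 q10148, e3 q12041 L614068 q10152, e3 q12042 L357839 q10151, e3 q12043 L357892 q10154, e3 q12044 L357904 q10155, e3 q12045 L357913 q10156, e3 q12046 L357925 q10157, e3 q12047 L357958 q10160, e3 q12048 L357970 q10161, e3 q12049 L357980 q10049, e3 q12050 (flp_j L656513) q14215, e3 q12051 L358019 q10052, e3 q12052 (flp_j L656525) q14216, e3 q12053 (flp_j L656544) q14217, e3 q12054 L358044 q10169, e3 q12055 L358056 q10170, e3 q12056 L358067 q10056, e3 q12057 L358075 q10172, e3 q12058 L656622 q14224, e3 q12059 L358097 q10174, e3 q12060 L358115 q10175, e3 q12061 L358125 q10176, e3 q12062 L656699 q14230, e3 q12063 L358151 q10178, e3 q12064 (flp_j L358153) q10060, e3 q12065 (flp_j L656752)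 q14234, e3 q12066 L358180 q10181, e3 q12067 L358191 q10182, e3 q12068 L358212 q10183, e3 q12069 L656802 q14239, e3 q12070 (flp_j L358225) q10064, e3 q12071 (flp_j L656834) q14241, e3 q12072 L358253 q10187, e3 q12073 L358265 q10188, e3 q12074 L358277 q10067, e3 q12075 (flp_j L656883) q14245, e3 q12076 L656887 q14246, e3 q12077 L358303 q10192, e3 q12078 L656933 q14250, e3 q12079 (flp_j L358314) q10070, e3 q12080 (flp_j L656965) q14252, e3 q12081 L358336 q10196, e3 q12082 L358346 q10197, e3 q12083 L358357 q10073, e3 q12084 (flp_j L657010) q14258, e3 q12085 (flp_j L657026) q14259, e3 q12086 L358376 q10201, e3 q12087 L358385 q10202, e3 q12088 L358391 q10203, e3 q12089 L358401 q10204, e3 q12090 L358406 q10205, e3 q12091 (flp_j L358411) q10078, e3 q12092 (flp_j L657116) q14267, e3 q12093 L358438 q10080, e3 q12094 (flp_j L657143) q14269, e3 q12095 (flp_j L657158) q14270, trivial⟩ (by decide +kernel)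

theorem ce_j_189 : ∀ r, r < 64 → sm gj (Qf (12096 + r)) = Qf (tab Gen.j (12096 + r)) :=
  edges_tab (sm gj) Qf (tab Gen.j) 12096 [(12096, 10211), (12097, 10212), (12098, 10084), (12099, 10624), (12100, 10086), (12101, 13932), (12102, 10088), (12103, 10089), (12104, 14275), (12105, 10222), (12106, 10223), (12107, 10224), (12108, 10225), (12109, 14281), (12110, 10227), (12111, 10094), (12112, 11451), (12113, 10230), (12114, 14286), (12115, 10232), (12116, 14290), (12117, 10098), (12118, 14292), (12119, 10236), (12120, 10237), (12121, 10101), (12122, 11437), (12123, 14298), (12124, 10241), (12125, 10242), (12126, 10243), (12127, 10105), (12128, 13930), (12129, 10107), (12130, 11029), (12131, 14305), (12132, 10249), (12133, 10250), (12134, 10111), (12135, 14311), (12136, 10112), (12137, 14313), (12138, 10255), (12139, 10256), (12140, 10114), (12141, 13923), (12142, 10116), (12143, 14322), (12144, 14323), (12145, 10262), (12146, 10263), (12147, 10264), (12148, 10121), (12149, 11054), (12150, 11438), (12151, 10269), (12152, 10270),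 (12153, 10271), (12154, 14338), (12155, 10273), (12156, 10274), (12157, 10957), (12158, 13931), (12159, 10131)]
    ⟨e3 q12096 L358461 q10211, e3 q12097 L358472 q10212, e3 q12098 L358481 q10084, e3 q12099 L641076 q10624, e3 q12100 L358502 q10086, e3 q12101 (flp_j L653157) q13932, e3 q12102 L358527 q10088, e3 q12103 L358537 q10089, e3 q12104 (flp_j L657213) q14275, e3 q12105 L358558 q10222, e3 q12106 L358568 q10223, e3 q12107 L358575 q10224, e3 q12108 L358586 q10225, e3 q12109 L657282 q14281, e3 q12110 L358605 q10227, e3 q12111 (flp_j L358607) q10094, e3 q12112 L649399 q11451, e3 q12113 L358640 q10230, e3 q12114 L657341 q14286, e3 q12115 L358685 q10232, e3 q12116 L657379 q14290, e3 q12117 (flp_j L358696) q10098, e3 q12118 (flp_j L657411) q14292, e3 q12119 L358722 q10236, e3 q12120 L358734 q10237, e3 q12121 L358745 q10101, e3 q12122 (flp_j L649223) q11437, e3 q12123 (flp_j L657470) q14298, e3 q12124 L358770 q10241, e3 q12125 L358782 q10242, e3 q12126 L358812 q10243, e3 q12127 (flp_j L358815) q10105, e3 q12128 (flp_j L653131)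 q13930, e3 q12129 L358843 q10107, e3 q12130 L637542 q11029, e3 q12131 (flp_j L657549) q14305, e3 q12132 L358870 q10249, e3 q12133 L358883 q10250, e3 q12134 L358894 q10111, e3 q12135 L657604 q14311, e3 q12136 (flp_j L358903) q10112, e3 q12137 (flp_j L657636) q14313, e3 q12138 L358921 q10255, e3 q12139 L358931 q10256, e3 q12140 (flp_j L358933) q10114, e3 q12141 (flp_j L653029) q13923, e3 q12142 L358957 q10116, e3 q12143 (flp_j L657708) q14322, e3 q12144 (flp_j L657724) q14323, e3 q12145 L358975 q10262, e3 q12146 L358981 q10263, e3 q12147 L358991 q10264, e3 q12148 L359009 q10121, e3 q12149 L642485 q11054, e3 q12150 (flp_j L649225) q11438, e3 q12151 L359028 q10269, e3 q12152 L359038 q10270, e3 q12153 L359045 q10271, e3 q12154 L657848 q14338, e3 q12155 L359062 q10273, e3 q12156 L359070 q10274, e3 q12157 L359081 q10957, e3 q12158 (flp_j L653145) q13931, e3 q12159 L359128 q10131, trivial⟩ (by decide +kernel)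

theorem ce_j_190 : ∀ r, r < 64 → sm gj (Qf (12160 + r)) = Qf (tab Gen.j (12160 + r)) :=
  edges_tab (sm gj) Qf (tab Gen.j) 12160 [(12160, 11022), (12161, 11030), (12162, 10283), (12163, 10284), (12164, 10285), (12165, 11031), (12166, 10296), (12167, 10297), (12168, 10298), (12169, 11417), (12170, 14202), (12171, 10159), (12172, 14203), (12173, 14204), (12174, 14205), (12175, 10153), (12176, 14206), (12177, 14207), (12178, 10150), (12179, 14356), (12180, 14208), (12181, 14353), (12182, 14354), (12183, 14209), (12184, 14210), (12185, 11424), (12186, 14211), (12187, 14212), (12188, 10302), (12189, 14349), (12190, 14350), (12191, 14213), (12192, 14214), (12193, 10163), (12194, 10165), (12195, 14371), (12196, 14372), (12197, 10167), (12198, 10168), (12199, 14376), (12200, 14377), (12201, 14219), (12202, 14220), (12203, 14221), (12204, 10925), (12205, 14387), (12206, 14223), (12207, 10173), (12208, 14391), (12209, 14226), (12210, 14394), (12211, 14228), (12212, 14398), (12213, 10177), (12214, 14400), (12215, 14232), (12216, 14233),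 (12217, 10180), (12218, 14366), (12219, 14406), (12220, 14236), (12221, 14237), (12222, 14238), (12223, 10184)]
    ⟨e3 q12160 L637528 q11022, e3 q12161 L637139 q11030, e3 q12162 L359150 q10283, e3 q12163 L359162 q10284, e3 q12164 L359171 q10285, e3 q12165 L637163 q11031, e3 q12166 L359270 q10296, e3 q12167 L359281 q10297, e3 q12168 L359291 q10298, e3 q12169 (flp_j L649369) q11417, e3 q12170 (flp_j L656322) q14202, e3 q12171 L614348 q10159, e3 q12172 (flp_j L656335) q14203, e3 q12173 (flp_j L656356) q14204, e3 q12174 (flp_j L656372) q14205, e3 q12175 L614319 q10153, e3 q12176 (flp_j L656382) q14206, e3 q12177 (flp_j L656401) q14207, e3 q12178 L359475 q10150, e3 q12179 (flp_j L658093) q14356, e3 q12180 (flp_j L656418) q14208, e3 q12181 (flp_j L658045) q14353, e3 q12182 (flp_j L658065) q14354, e3 q12183 (flp_j L656430) q14209, e3 q12184 (flp_j L656446) q14210, e3 q12185 L649359 q11424, e3 q12186 (flp_j L656461) q14211, e3 q12187 (flp_j L656469) q14212, e3 q12188 L613979 q10302, e3 q12189 (flp_j L657992) q14349, e3 q12190 (flp_j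 L658013) q14350, e3 q12191 (flp_j L656482) q14213, e3 q12192 (flp_j L656496) q14214, e3 q12193 L359682 q10163, e3 q12194 L359702 q10165, e3 q12195 (flp_j L658265) q14371, e3 q12196 (flp_j L658284) q14372, e3 q12197 L359724 q10167, e3 q12198 L359735 q10168, e3 q12199 (flp_j L658331) q14376, e3 q12200 (flp_j L658342) q14377, e3 q12201 (flp_j L656568) q14219, e3 q12202 (flp_j L656582) q14220, e3 q12203 (flp_j L656590) q14221, e3 q12204 L617587 q10925, e3 q12205 L658439 q14387, e3 q12206 (flp_j L656620) q14223, e3 q12207 (flp_j L359807) q10173, e3 q12208 (flp_j L658491) q14391, e3 q12209 (flp_j L656654) q14226, e3 q12210 L658521 q14394, e3 q12211 (flp_j L656682) q14228, e3 q12212 L658557 q14398, e3 q12213 (flp_j L359895) q10177, e3 q12214 (flp_j L658589) q14400, e3 q12215 (flp_j L656727) q14232, e3 q12216 (flp_j L656739) q14233, e3 q12217 L359941 q10180, e3 q12218 (flp_j L658217) q14366, e3 q12219 (flp_j L658639) q14406, e3 q12220 (flp_j L656777) q14236, e3 q12221 (flp_j L656790) q14237, e3 q12222 (flp_j L656797) q14238, e3 q12223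 (flp_j L360003) q10184, trivial⟩ (by decide +kernel)

theorem ce_j_191 : ∀ r, r < 64 → sm gj (Qf (12224 + r)) = Qf (tab Gen.j (12224 + r)) :=
  edges_tab (sm gj) Qf (tab Gen.j) 12224 [(12224, 14412), (12225, 10186), (12226, 14357), (12227, 14415), (12228, 14243), (12229, 14244), (12230, 10190), (12231, 14422), (12232, 10191), (12233, 14424), (12234, 14248), (12235, 14249), (12236, 10193), (12237, 14431), (12238, 10195), (12239, 14434), (12240, 14435), (12241, 14255), (12242, 14256), (12243, 14257), (12244, 10199), (12245, 10200), (12246, 14416), (12247, 14445), (12248, 14261), (12249, 14262), (12250, 14263), (12251, 11475), (12252, 14264), (12253, 14265), (12254, 11015), (12255, 10207), (12256, 14455), (12257, 14456), (12258, 10209), (12259, 10210), (12260, 14407), (12261, 14460), (12262, 14272), (12263, 14273), (12264, 14274), (12265, 10742), (12266, 10216), (12267, 10217), (12268, 11101), (12269, 14468), (12270, 14469), (12271, 10220), (12272, 10221), (12273, 14475), (12274, 14476), (12275, 14477), (12276, 14277), (12277,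 14278), (12278, 14279), (12279, 10902), (12280, 14486), (12281, 14280), (12282, 14490), (12283, 10226), (12284, 14492), (12285, 14283), (12286, 14284), (12287, 10229)]
    ⟨e3 q12224 (flp_j L658700) q14412, e3 q12225 L360033 q10186, e3 q12226 (flp_j L658105) q14357, e3 q12227 (flp_j L658734) q14415, e3 q12228 (flp_j L656859) q14243, e3 q12229 (flp_j L656871) q14244, e3 q12230 L360077 q10190, e3 q12231 L658796 q14422, e3 q12232 (flp_j L360090) q10191, e3 q12233 (flp_j L658820) q14424, e3 q12234 (flp_j L656919) q14248, e3 q12235 (flp_j L656929) q14249, e3 q12236 (flp_j L360118) q10193, e3 q12237 (flp_j L658872) q14431, e3 q12238 L360144 q10195, e3 q12239 (flp_j L658894) q14434, e3 q12240 (flp_j L658902) q14435, e3 q12241 (flp_j L656985) q14255, e3 q12242 (flp_j L656991) q14256, e3 q12243 (flp_j L657001) q14257, e3 q12244 L360180 q10199, e3 q12245 L360189 q10200, e3 q12246 (flp_j L658746) q14416, e3 q12247 (flp_j L658968) q14445, e3 q12248 (flp_j L657045) q14261, e3 q12249 (flp_j L657056) q14262, e3 q12250 (flp_j L657062) q14263,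 e3 q12251 L649363 q11475, e3 q12252 (flp_j L657081) q14264, e3 q12253 (flp_j L657090) q14265, e3 q12254 L360251 q11015, e3 q12255 L360261 q10207, e3 q12256 (flp_j L659061) q14455, e3 q12257 (flp_j L659072) q14456, e3 q12258 L360288 q10209, e3 q12259 L360297 q10210, e3 q12260 (flp_j L658651) q14407, e3 q12261 (flp_j L659112) q14460, e3 q12262 (flp_j L657178) q14272, e3 q12263 (flp_j L657189) q14273, e3 q12264 (flp_j L657197) q14274, e3 q12265 L641015 q10742, e3 q12266 L360350 q10216, e3 q12267 L360360 q10217, e3 q12268 L637057 q11101, e3 q12269 (flp_j L659182) q14468, e3 q12270 (flp_j L659200) q14469, e3 q12271 L360392 q10220, e3 q12272 L360400 q10221, e3 q12273 (flp_j L659267) q14475, e3 q12274 (flp_j L659281) q14476, e3 q12275 (flp_j L659292) q14477, e3 q12276 (flp_j L657239) q14277, e3 q12277 (flp_j L657253) q14278, e3 q12278 (flp_j L657264) q14279, e3 q12279 L617642 q10902, e3 q12280 L659382 q14486, e3 q12281 (flp_j L657280) q14280, e3 q12282 L659423 q14490, e3 q12283 (flp_j L360472) q10226, e3 q12284 (flp_j L659454) q14492,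 e3 q12285 (flp_j L657314) q14283, e3 q12286 (flp_j L657325) q14284, e3 q12287 L360510 q10229, trivial⟩ (by decide +kernel)

theorem ce_j_192 : ∀ r, r < 64 → sm gj (Qf (12288 + r)) = Qf (tab Gen.j (12288 + r)) :=
  edges_tab (sm gj) Qf (tab Gen.j) 12288 [(12288, 14497), (12289, 14499), (12290, 10231), (12291, 14501), (12292, 14288), (12293, 14289), (12294, 10233), (12295, 14508), (12296, 10235), (12297, 14511), (12298, 14512), (12299, 14295), (12300, 14296), (12301, 14297), (12302, 10239), (12303, 10240), (12304, 14521), (12305, 14522), (12306, 14301), (12307, 14302), (12308, 11046), (12309, 10245), (12310, 14528), (12311, 14529), (12312, 10247), (12313, 10248), (12314, 14533), (12315, 14534), (12316, 14308), (12317, 14309), (12318, 14310), (12319, 14541), (12320, 10252), (12321, 14544), (12322, 10254), (12323, 14547), (12324, 14548), (12325, 14316), (12326, 14317), (12327, 14318), (12328, 11065), (12329, 10258), (12330, 14559), (12331, 14560), (12332, 10260), (12333, 10261), (12334, 14564), (12335, 14565), (12336, 14566),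 (12337, 14327), (12338, 14328), (12339, 14329), (12340, 14330), (12341, 14331), (12342, 14332), (12343, 10267), (12344, 10268), (12345, 14582), (12346, 14583), (12347, 14584), (12348, 14588), (12349, 14336), (12350, 14337), (12351, 10272)]
    ⟨e3 q12288 (flp_j L659501) q14497, e3 q12289 L659517 q14499, e3 q12290 (flp_j L360599) q10231, e3 q12291 (flp_j L659541) q14501, e3 q12292 (flp_j L657365) q14288, e3 q12293 (flp_j L657377) q14289, e3 q12294 (flp_j L360631) q10233, e3 q12295 (flp_j L659603) q14508, e3 q12296 L360661 q10235, e3 q12297 (flp_j L659629) q14511, e3 q12298 (flp_j L659639) q14512, e3 q12299 (flp_j L657435) q14295, e3 q12300 (flp_j L657443) q14296, e3 q12301 (flp_j L657455) q14297, e3 q12302 L360707 q10239, e3 q12303 L360719 q10240, e3 q12304 (flp_j L659711) q14521, e3 q12305 (flp_j L659727) q14522, e3 q12306 (flp_j L657505) q14301, e3 q12307 (flp_j L657514) q14302, e3 q12308 L360800 q11046, e3 q12309 L360811 q10245, e3 q12310 (flp_j L659782) q14528, e3 q12311 (flp_j L659794) q14529, e3 q12312 L360839 q10247,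 e3 q12313 L360850 q10248, e3 q12314 (flp_j L659834) q14533, e3 q12315 (flp_j L659847) q14534, e3 q12316 (flp_j L657578) q14308, e3 q12317 (flp_j L657591) q14309, e3 q12318 (flp_j L657601) q14310, e3 q12319 L659901 q14541, e3 q12320 (flp_j L360903) q10252, e3 q12321 (flp_j L659941) q14544, e3 q12322 L360921 q10254, e3 q12323 (flp_j L659960) q14547, e3 q12324 (flp_j L659968) q14548, e3 q12325 (flp_j L657654) q14316, e3 q12326 (flp_j L657661) q14317, e3 q12327 (flp_j L657672) q14318, e3 q12328 L360959 q11065, e3 q12329 L360969 q10258, e3 q12330 (flp_j L660052) q14559, e3 q12331 (flp_j L660062) q14560, e3 q12332 L360989 q10260, e3 q12333 L360997 q10261, e3 q12334 (flp_j L660090) q14564, e3 q12335 (flp_j L660102) q14565, e3 q12336 (flp_j L660110) q14566, e3 q12337 (flp_j L657760) q14327, e3 q12338 (flp_j L657768) q14328, e3 q12339 (flp_j L657779) q14329, e3 q12340 (flp_j L657785) q14330, e3 q12341 (flp_j L657795) q14331, e3 q12342 (flp_j L657801) q14332, e3 q12343 L361055 q10267, e3 q12344 L361065 q10268, e3 q12345 (flp_j L660227)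 q14582, e3 q12346 (flp_j L660241) q14583, e3 q12347 (flp_j L660252) q14584, e3 q12348 L660278 q14588, e3 q12349 (flp_j L657838) q14336, e3 q12350 (flp_j L657845) q14337, e3 q12351 (flp_j L361107) q10272, trivial⟩ (by decide +kernel)

theorem ce_j_193 : ∀ r, r < 64 → sm gj (Qf (12352 + r)) = Qf (tab Gen.j (12352 + r)) :=
  edges_tab (sm gj) Qf (tab Gen.j) 12352 [(12352, 14592), (12353, 14340), (12354, 11087), (12355, 10277), (12356, 10278), (12357, 14595), (12358, 14596), (12359, 14597), (12360, 10281), (12361, 10282), (12362, 11020), (12363, 14603), (12364, 14604), (12365, 14343), (12366, 14344), (12367, 14345), (12368, 11102), (12369, 10290), (12370, 10291), (12371, 11017), (12372, 11026), (12373, 11027), (12374, 14611), (12375, 14612), (12376, 10295), (12377, 10993), (12378, 11021), (12379, 11028), (12380, 14346), (12381, 14347), (12382, 10976), (12383, 12383), (12384, 12384), (12385, 12385), (12386, 14364), (12387, 14365), (12388, 12388), (12389, 12389), (12390, 12390), (12391, 10307), (12392, 11653), (12393, 12393), (12394,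 12394), (12395, 10312), (12396, 10313), (12397, 11650), (12398, 14630), (12399, 12399), (12400, 12400), (12401, 12401), (12402, 11484), (12403, 12403), (12404, 12404), (12405, 11655), (12406, 10321), (12407, 10325), (12408, 10529), (12409, 11657), (12410, 10329), (12411, 11658), (12412, 12412), (12413, 14641), (12414, 10332), (12415, 14643)]
    ⟨e3 q12352 (flp_j L660311) q14592, e3 q12353 (flp_j L657878) q14340, e3 q12354 L361145 q11087, e3 q12355 L361153 q10277, e3 q12356 L361164 q10278, e3 q12357 (flp_j L660341) q14595, e3 q12358 (flp_j L660350) q14596, e3 q12359 (flp_j L660364) q14597, e3 q12360 L361196 q10281, e3 q12361 L361206 q10282, e3 q12362 L637438 q11020, e3 q12363 (flp_j L660422) q14603, e3 q12364 (flp_j L660431) q14604, e3 q12365 (flp_j L657913) q14343, e3 q12366 (flp_j L657927) q14344, e3 q12367 (flp_j L657936) q14345, e3 q12368 L361271 q11102, e3 q12369 L361284 q10290, e3 q12370 L361297 q10291, e3 q12371 L637619 q11017, e3 q12372 L637019 q11026, e3 q12373 L636993 q11027, e3 q12374 (flp_j L660497) q14611, e3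 q12375 (flp_j L660506) q14612, e3 q12376 L361360 q10295, e3 q12377 L637445 q10993, e3 q12378 L637628 q11021, e3 q12379 L636987 q11028, e3 q12380 (flp_j L657951) q14346, e3 q12381 (flp_j L657962) q14347, e3 q12382 L649069 q10976, e3 q12383 L361460 q12383, e3 q12384 L361470 q12384, e3 q12385 L361495 q12385, e3 q12386 (flp_j L658184) q14364, e3 q12387 (flp_j L658204) q14365, e3 q12388 L361593 q12388, e3 q12389 L361605 q12389, e3 q12390 L361631 q12390, e3 q12391 L361712 q10307, e3 q12392 (flp_j L648813) q11653, e3 q12393 L361808 q12393, e3 q12394 L361817 q12394, e3 q12395 L361822 q10312, e3 q12396 L361833 q10313, e3 q12397 (flp_j L649389) q11650, e3 q12398 (flp_j L660731) q14630, e3 q12399 L361858 q12399, e3 q12400 L361869 q12400, e3 q12401 L361877 q12401, e3 q12402 (flp_j L649405) q11484, e3 q12403 L361895 q12403, e3 q12404 L361903 q12404, e3 q12405 L648819 q11655, e3 q12406 L361957 q10321, e3 q12407 L362030 q10325, e3 q12408 L615425 q10529, e3 q12409 L648861 q11657, e3 q12410 L362077 q10329, e3 q12411 (flp_j L648891) q11658,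 e3 q12412 L362126 q12412, e3 q12413 L660848 q14641, e3 q12414 (flp_j L362175) q10332, e3 q12415 (flp_j L660882) q14643, trivial⟩ (by decide +kernel)

theorem ce_j_194 : ∀ r, r < 64 → sm gj (Qf (12416 + r)) = Qf (tab Gen.j (12416 + r)) :=
  edges_tab (sm gj) Qf (tab Gen.j) 12416 [(12416, 12416), (12417, 12417), (12418, 10335), (12419, 14648), (12420, 10337), (12421, 14650), (12422, 10339), (12423, 14653), (12424, 14654), (12425, 12425), (12426, 12426), (12427, 10343), (12428, 10344), (12429, 14659), (12430, 14660), (12431, 12431), (12432, 12432), (12433, 11129), (12434, 10349), (12435, 14666), (12436, 10351), (12437, 14667), (12438, 10353), (12439, 14670), (12440, 10355), (12441, 14673), (12442, 14674), (12443, 12443), (12444, 12444), (12445, 11141), (12446, 10359), (12447, 14680), (12448, 14681), (12449, 10361), (12450, 10362), (12451, 14685), (12452, 14686), (12453, 14687), (12454, 12454), (12455, 12455), (12456, 12456), (12457, 12457), (12458, 12458), (12459, 12459), (12460, 10368), (12461, 10369), (12462, 14700), (12463,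 14701), (12464, 14702), (12465, 14706), (12466, 12466), (12467, 12467), (12468, 10373), (12469, 14710), (12470, 12470), (12471, 11159), (12472, 10378), (12473, 10379), (12474, 14714), (12475, 14715), (12476, 14716), (12477, 10382), (12478, 10383), (12479, 11633)]
    ⟨e3 q12416 L362200 q12416, e3 q12417 L362210 q12417, e3 q12418 L362219 q10335, e3 q12419 (flp_j L660940) q14648, e3 q12420 (flp_j L362350) q10337, e3 q12421 (flp_j L660965) q14650, e3 q12422 L362379 q10339, e3 q12423 (flp_j L660996) q14653, e3 q12424 (flp_j L661011) q14654, e3 q12425 L362412 q12425, e3 q12426 L362423 q12426, e3 q12427 L362429 q10343, e3 q12428 L362439 q10344, e3 q12429 (flp_j L661068) q14659, e3 q12430 (flp_j L661078) q14660, e3 q12431 L362472 q12431, e3 q12432 L362479 q12432, e3 q12433 L362517 q11129, e3 q12434 L362526 q10349, e3 q12435 (flp_j L661131) q14666, e3 q12436 L362568 q10351, e3 q12437 L661135 q14667, e3 q12438 (flp_j L362627) q10353, e3 q12439 (flp_j L661178) q14670, e3 q12440 L362651 q10355, e3 q12441 (flp_j L661209) q14673, e3 q12442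 (flp_j L661223) q14674, e3 q12443 L362679 q12443, e3 q12444 L362689 q12444, e3 q12445 L362697 q11141, e3 q12446 L362705 q10359, e3 q12447 (flp_j L661284) q14680, e3 q12448 (flp_j L661292) q14681, e3 q12449 L362726 q10361, e3 q12450 L362735 q10362, e3 q12451 (flp_j L661325) q14685, e3 q12452 (flp_j L661340) q14686, e3 q12453 (flp_j L661349) q14687, e3 q12454 L362763 q12454, e3 q12455 L362768 q12455, e3 q12456 L362777 q12456, e3 q12457 L362782 q12457, e3 q12458 L362791 q12458, e3 q12459 L362796 q12459, e3 q12460 L362802 q10368, e3 q12461 L362810 q10369, e3 q12462 (flp_j L661476) q14700, e3 q12463 (flp_j L661486) q14701, e3 q12464 (flp_j L661491) q14702, e3 q12465 L661514 q14706, e3 q12466 L362839 q12466, e3 q12467 L362844 q12467, e3 q12468 (flp_j L362846) q10373, e3 q12469 (flp_j L661563) q14710, e3 q12470 L362862 q12470, e3 q12471 L362879 q11159, e3 q12472 L362887 q10378, e3 q12473 L362897 q10379, e3 q12474 (flp_j L661604) q14714, e3 q12475 (flp_j L661622) q14715, e3 q12476 (flp_j L661638) q14716, e3 q12477 L362930 q10382,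 e3 q12478 L362941 q10383, e3 q12479 L648386 q11633, trivial⟩ (by decide +kernel)

theorem ce_j_195 : ∀ r, r < 64 → sm gj (Qf (12480 + r)) = Qf (tab Gen.j (12480 + r)) :=
  edges_tab (sm gj) Qf (tab Gen.j) 12480 [(12480, 14721), (12481, 12481), (12482, 11171), (12483, 11172), (12484, 10389), (12485, 10390), (12486, 10391), (12487, 11340), (12488, 10526), (12489, 14724), (12490, 14725), (12491, 14726), (12492, 10395), (12493, 10396), (12494, 11661), (12495, 14640), (12496, 12496), (12497, 12497), (12498, 12498), (12499, 14731), (12500, 10400), (12501, 14733), (12502, 12502), (12503, 12503), (12504, 10402), (12505, 14738), (12506, 10404), (12507, 14741), (12508, 14742), (12509, 12509), (12510, 12510), (12511, 10408), (12512, 14747), (12513, 10409), (12514, 14750), (12515, 10411), (12516, 14753), (12517, 14754), (12518, 12518), (12519, 12519), (12520, 11202), (12521, 10415), (12522, 14760), (12523, 14761), (12524, 10417), (12525, 10418), (12526, 14765), (12527, 14766), (12528, 14767), (12529, 12529), (12530, 12530), (12531, 12531),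 (12532, 12532), (12533, 12533), (12534, 10424), (12535, 10425), (12536, 14778), (12537, 14779), (12538, 14780), (12539, 12539), (12540, 11213), (12541, 10430), (12542, 10431), (12543, 14786)]
    ⟨e3 q12480 (flp_j L661711) q14721, e3 q12481 L362984 q12481, e3 q12482 L363000 q11171, e3 q12483 L363010 q11172, e3 q12484 L363019 q10389, e3 q12485 L363026 q10390, e3 q12486 L363037 q10391, e3 q12487 L615950 q11340, e3 q12488 L615925 q10526, e3 q12489 (flp_j L661760) q14724, e3 q12490 (flp_j L661775) q14725, e3 q12491 (flp_j L661792) q14726, e3 q12492 L363096 q10395, e3 q12493 L363102 q10396, e3 q12494 (flp_j L648885) q11661, e3 q12495 (flp_j L660844) q14640, e3 q12496 L363137 q12496, e3 q12497 L363144 q12497, e3 q12498 L363152 q12498, e3 q12499 L661854 q14731, e3 q12500 (flp_j L363183) q10400, e3 q12501 (flp_j L661888) q14733, e3 q12502 L363204 q12502, e3 q12503 L363214 q12503, e3 q12504 (flp_j L363215) q10402, e3 q12505 (flp_j L661935) q14738, e3 q12506 L363239 q10404, e3 q12507 (flp_j L661959) q14741, e3 q12508 (flp_j L661969)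 q14742, e3 q12509 L363260 q12509, e3 q12510 L363277 q12510, e3 q12511 L363292 q10408, e3 q12512 L661999 q14747, e3 q12513 (flp_j L363417) q10409, e3 q12514 (flp_j L662050) q14750, e3 q12515 L363445 q10411, e3 q12516 (flp_j L662081) q14753, e3 q12517 (flp_j L662095) q14754, e3 q12518 L363479 q12518, e3 q12519 L363491 q12519, e3 q12520 L363499 q11202, e3 q12521 L363509 q10415, e3 q12522 (flp_j L662160) q14760, e3 q12523 (flp_j L662170) q14761, e3 q12524 L363534 q10417, e3 q12525 L363545 q10418, e3 q12526 (flp_j L662205) q14765, e3 q12527 (flp_j L662218) q14766, e3 q12528 (flp_j L662229) q14767, e3 q12529 L363577 q12529, e3 q12530 L363584 q12530, e3 q12531 L363596 q12531, e3 q12532 L363614 q12532, e3 q12533 L363621 q12533, e3 q12534 L363628 q10424, e3 q12535 L363639 q10425, e3 q12536 (flp_j L662328) q14778, e3 q12537 (flp_j L662339) q14779, e3 q12538 (flp_j L662347) q14780, e3 q12539 L363689 q12539, e3 q12540 L363734 q11213, e3 q12541 L363743 q10430, e3 q12542 L363754 q10431, e3 q12543 (flp_j L662401) q14786, trivial⟩ (by decide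 +kernel)

theorem ce_j_196 : ∀ r, r < 64 → sm gj (Qf (12544 + r)) = Qf (tab Gen.j (12544 + r)) :=
  edges_tab (sm gj) Qf (tab Gen.j) 12544 [(12544, 14787), (12545, 14788), (12546, 10434), (12547, 10435), (12548, 11587), (12549, 14793), (12550, 12550), (12551, 12551), (12552, 10438), (12553, 14798), (12554, 11227), (12555, 10440), (12556, 14802), (12557, 14803), (12558, 10442), (12559, 10443), (12560, 14807), (12561, 14808), (12562, 14809), (12563, 12563), (12564, 12564), (12565, 12565), (12566, 12566), (12567, 12567), (12568, 12568), (12569, 11242), (12570, 10449), (12571, 10450), (12572, 14825), (12573, 14826), (12574, 14827), (12575, 10453), (12576, 10454), (12577, 10455), (12578, 14834), (12579, 14835), (12580, 14836), (12581, 14837), (12582, 14838), (12583, 14839), (12584, 12584), (12585, 12585), (12586, 12586), (12587, 12587), (12588, 12588), (12589, 12589), (12590, 14857), (12591, 12591), (12592, 12592), (12593, 10464), (12594, 10465), (12595, 10466), (12596, 14864), (12597, 14862), (12598, 14863), (12599, 10467), (12600,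 14868), (12601, 12601), (12602, 12602), (12603, 10471), (12604, 14872), (12605, 11273), (12606, 11274), (12607, 10476)]
    ⟨e3 q12544 (flp_j L662412) q14787, e3 q12545 (flp_j L662426) q14788, e3 q12546 L363793 q10434, e3 q12547 L363806 q10435, e3 q12548 (flp_j L649297) q11587, e3 q12549 (flp_j L662486) q14793, e3 q12550 L363841 q12550, e3 q12551 L363854 q12551, e3 q12552 (flp_j L363867) q10438, e3 q12553 (flp_j L662550) q14798, e3 q12554 L363890 q11227, e3 q12555 L363898 q10440, e3 q12556 (flp_j L662579) q14802, e3 q12557 (flp_j L662589) q14803, e3 q12558 L363919 q10442, e3 q12559 L363929 q10443, e3 q12560 (flp_j L662622) q14807, e3 q12561 (flp_j L662631) q14808, e3 q12562 (flp_j L662641) q14809, e3 q12563 L363958 q12563, e3 q12564 L363965 q12564, e3 q12565 L363976 q12565, e3 q12566 L363980 q12566, e3 q12567 L363990 q12567, e3 q12568 L363995 q12568, e3 q12569 L364005 q11242, e3 q12570 L364011 q10449, e3 q12571 L364019 q10450, e3 q12572 (flp_j L662781) q14825, e3 q12573 (flp_j L662787) q14826, e3 q12574 (flp_j L662795) q14827,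 e3 q12575 L364044 q10453, e3 q12576 L364051 q10454, e3 q12577 L364060 q10455, e3 q12578 (flp_j L662842) q14834, e3 q12579 (flp_j L662849) q14835, e3 q12580 (flp_j L662859) q14836, e3 q12581 (flp_j L662865) q14837, e3 q12582 (flp_j L662874) q14838, e3 q12583 (flp_j L662879) q14839, e3 q12584 L364105 q12584, e3 q12585 L364110 q12585, e3 q12586 L364120 q12586, e3 q12587 L364126 q12587, e3 q12588 L364136 q12588, e3 q12589 L364143 q12589, e3 q12590 L663015 q14857, e3 q12591 L364158 q12591, e3 q12592 L364163 q12592, e3 q12593 L364167 q10464, e3 q12594 L364176 q10465, e3 q12595 L364182 q10466, e3 q12596 L663063 q14864, e3 q12597 (flp_j L663052) q14862, e3 q12598 (flp_j L663060) q14863, e3 q12599 (flp_j L364204) q10467, e3 q12600 (flp_j L663093) q14868, e3 q12601 L364225 q12601, e3 q12602 L364229 q12602, e3 q12603 L364237 q10471, e3 q12604 (flp_j L663120) q14872, e3 q12605 L364267 q11273, e3 q12606 L364278 q11274, e3 q12607 L364284 q10476, trivial⟩ (by decide +kernel)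

theorem ce_j_197 : ∀ r, r < 64 → sm gj (Qf (12608 + r)) = Qf (tab Gen.j (12608 + r)) :=
  edges_tab (sm gj) Qf (tab Gen.j) 12608 [(12608, 10477), (12609, 10478), (12610, 14876), (12611, 14877), (12612, 14878), (12613, 14879), (12614, 14880), (12615, 10481), (12616, 10482), (12617, 10483), (12618, 14888), (12619, 14889), (12620, 14890), (12621, 12621), (12622, 12622), (12623, 12623), (12624, 10593), (12625, 10592), (12626, 11292), (12627, 10492), (12628, 10493), (12629, 10494), (12630, 10495), (12631, 10496), (12632, 14901), (12633, 14902), (12634, 14903), (12635, 11177), (12636, 14900), (12637, 14899), (12638, 14898), (12639, 10500), (12640, 10501), (12641, 10502), (12642, 14912), (12643, 14913), (12644, 14914), (12645, 12645), (12646, 12646), (12647, 12647), (12648, 10508), (12649, 14919), (12650, 11311), (12651, 10510), (12652, 14923), (12653, 10512), (12654, 11315), (12655, 10516), (12656, 10517), (12657, 11195), (12658, 11190), (12659, 11646), (12660, 14374), (12661, 10533), (12662, 14924), (12663, 11327), (12664, 10535),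 (12665, 14927), (12666, 10537), (12667, 11344), (12668, 10541), (12669, 10542), (12670, 11378), (12671, 14930)]
    ⟨e3 q12608 L364292 q10477, e3 q12609 L364305 q10478, e3 q12610 (flp_j L663161) q14876, e3 q12611 (flp_j L663171) q14877, e3 q12612 (flp_j L663182) q14878, e3 q12613 (flp_j L663191) q14879, e3 q12614 (flp_j L663201) q14880, e3 q12615 L364357 q10481, e3 q12616 L364369 q10482, e3 q12617 L364377 q10483, e3 q12618 (flp_j L663283) q14888, e3 q12619 (flp_j L663297) q14889, e3 q12620 (flp_j L663307) q14890, e3 q12621 L364417 q12621, e3 q12622 L364427 q12622, e3 q12623 L364434 q12623, e3 q12624 L646870 q10593, e3 q12625 L647119 q10592, e3 q12626 L364464 q11292, e3 q12627 L364470 q10492, e3 q12628 L364479 q10493, e3 q12629 L364491 q10494, e3 q12630 L364499 q10495, e3 q12631 L364506 q10496, e3 q12632 (flp_j L663438) q14901, e3 q12633 (flp_j L663453) q14902, e3 q12634 (flp_j L663466) q14903, e3 q12635 L645633 q11177, e3 q12636 (flp_j L663426) q14900, e3 q12637 (flp_j L663412) q14899, e3 q12638 (flp_j L663397) q14898, e3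 q12639 L364577 q10500, e3 q12640 L364588 q10501, e3 q12641 L364597 q10502, e3 q12642 (flp_j L663573) q14912, e3 q12643 (flp_j L663581) q14913, e3 q12644 (flp_j L663589) q14914, e3 q12645 L364633 q12645, e3 q12646 L364642 q12646, e3 q12647 L364648 q12647, e3 q12648 (flp_j L367121) q10508, e3 q12649 (flp_j L663641) q14919, e3 q12650 L367146 q11311, e3 q12651 L367153 q10510, e3 q12652 (flp_j L663687) q14923, e3 q12653 L367186 q10512, e3 q12654 L367545 q11315, e3 q12655 L367563 q10516, e3 q12656 L367569 q10517, e3 q12657 L615959 q11195, e3 q12658 L614645 q11190, e3 q12659 (flp_j L648489) q11646, e3 q12660 (flp_j L658307) q14374, e3 q12661 (flp_j L368250) q10533, e3 q12662 (flp_j L663702) q14924, e3 q12663 L615836 q11327, e3 q12664 L368282 q10535, e3 q12665 (flp_j L663743) q14927, e3 q12666 L368317 q10537, e3 q12667 L368637 q11344, e3 q12668 L368656 q10541, e3 q12669 L368663 q10542, e3 q12670 L646440 q11378, e3 q12671 (flp_j L663784) q14930, trivial⟩ (by decide +kernel)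

theorem ce_j_198 : ∀ r, r < 64 → sm gj (Qf (12672 + r)) = Qf (tab Gen.j (12672 + r)) :=
  edges_tab (sm gj) Qf (tab Gen.j) 12672 [(12672, 11581), (12673, 11326), (12674, 10547), (12675, 14935), (12676, 14936), (12677, 11354), (12678, 10550), (12679, 10551), (12680, 14941), (12681, 11297), (12682, 14942), (12683, 10554), (12684, 10555), (12685, 14947), (12686, 14948), (12687, 12687), (12688, 12688), (12689, 11366), (12690, 10560), (12691, 14953), (12692, 11377), (12693, 10563), (12694, 11579), (12695, 11373), (12696, 10591), (12697, 10590), (12698, 10570), (12699, 10571), (12700, 10572), (12701, 10573), (12702, 10574), (12703, 14960), (12704, 14959), (12705, 14958), (12706, 14961), (12707, 14957), (12708, 14962), (12709, 14897), (12710, 10578), (12711, 10579), (12712, 10580), (12713, 14970), (12714, 14971), (12715, 14972), (12716, 12716), (12717, 12717), (12718, 12718), (12719, 10589), (12720, 14929), (12721, 14874), (12722, 14471), (12723, 14045), (12724, 10597), (12725, 10598), (12726, 10599), (12727, 14978), (12728, 14979),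 (12729, 14373), (12730, 10644), (12731, 10612), (12732, 11669), (12733, 13849), (12734, 10615), (12735, 13915)]
    ⟨e3 q12672 (flp_j L648501) q11581, e3 q12673 L615797 q11326, e3 q12674 L368816 q10547, e3 q12675 (flp_j L663855) q14935, e3 q12676 (flp_j L663866) q14936, e3 q12677 L368839 q11354, e3 q12678 L368846 q10550, e3 q12679 L368855 q10551, e3 q12680 (flp_j L663912) q14941, e3 q12681 L646083 q11297, e3 q12682 (flp_j L663927) q14942, e3 q12683 L368884 q10554, e3 q12684 L368903 q10555, e3 q12685 (flp_j L663986) q14947, e3 q12686 (flp_j L664002) q14948, e3 q12687 L368953 q12687, e3 q12688 L368972 q12688, e3 q12689 L369011 q11366, e3 q12690 L369028 q10560, e3 q12691 (flp_j L664067) q14953, e3 q12692 L646076 q11377, e3 q12693 L369099 q10563, e3 q12694 (flp_j L648497) q11579, e3 q12695 L369313 q11373, e3 q12696 L647138 q10591, e3 q12697 L629233 q10590, e3 q12698 L369339 q10570, e3 q12699 L369347 q10571, e3 q12700 L369356 q10572, e3 q12701 L369366 q10573, e3 q12702 L369374 q10574, e3 q12703 (flp_j L664181) q14960, e3 q12704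 (flp_j L664167) q14959, e3 q12705 (flp_j L664144) q14958, e3 q12706 (flp_j L664194) q14961, e3 q12707 (flp_j L664126) q14957, e3 q12708 (flp_j L664207) q14962, e3 q12709 (flp_j L663381) q14897, e3 q12710 L369441 q10578, e3 q12711 L369451 q10579, e3 q12712 L369459 q10580, e3 q12713 (flp_j L664306) q14970, e3 q12714 (flp_j L664316) q14971, e3 q12715 (flp_j L664323) q14972, e3 q12716 L369492 q12716, e3 q12717 L369499 q12717, e3 q12718 L369502 q12718, e3 q12719 L369563 q10589, e3 q12720 (flp_j L663769) q14929, e3 q12721 (flp_j L663140) q14874, e3 q12722 (flp_j L659220) q14471, e3 q12723 (flp_j L654600) q14045, e3 q12724 L369711 q10597, e3 q12725 L369719 q10598, e3 q12726 L369725 q10599, e3 q12727 (flp_j L664388) q14978, e3 q12728 (flp_j L664395) q14979, e3 q12729 (flp_j L658293) q14373, e3 q12730 L621486 q10644, e3 q12731 L621345 q10612, e3 q12732 L649029 q11669, e3 q12733 (flp_j L651967) q13849, e3 q12734 L373239 q10615, e3 q12735 (flp_j L652913) q13915, trivial⟩ (by decide +kernel)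

theorem ce_j_199 : ∀ r, r < 64 → sm gj (Qf (12736 + r)) = Qf (tab Gen.j (12736 + r)) :=
  edges_tab (sm gj) Qf (tab Gen.j) 12736 [(12736, 10617), (12737, 13850), (12738, 10659), (12739, 14266), (12740, 10672), (12741, 10676), (12742, 10677), (12743, 11592), (12744, 10690), (12745, 10692), (12746, 10695), (12747, 10696), (12748, 11591), (12749, 10700), (12750, 10701), (12751, 13846), (12752, 14980), (12753, 13960), (12754, 10707), (12755, 10648), (12756, 10711), (12757, 10712), (12758, 11619), (12759, 11063), (12760, 11620), (12761, 10718), (12762, 10719), (12763, 10720), (12764, 10724), (12765, 10725), (12766, 15003), (12767, 10727), (12768, 10738), (12769, 10661), (12770, 15005), (12771, 13925), (12772, 10736), (12773, 10737), (12774, 10750), (12775, 10751), (12776, 10693), (12777, 10694), (12778, 14981), (12779, 14982), (12780, 10673), (12781, 13993), (12782, 13974), (12783, 13995), (12784, 13884), (12785, 14983), (12786, 10679), (12787, 13994), (12788, 13885), (12789, 13868), (12790, 10998), (12791, 10999), (12792, 14984),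 (12793, 14985), (12794, 11616), (12795, 15009), (12796, 15010), (12797, 15011), (12798, 14986), (12799, 14987)]
    ⟨e3 q12736 L373260 q10617, e3 q12737 (flp_j L651983) q13850, e3 q12738 L641164 q10659, e3 q12739 (flp_j L657103) q14266, e3 q12740 L373998 q10672, e3 q12741 L374035 q10676, e3 q12742 L374045 q10677, e3 q12743 L648226 q11592, e3 q12744 L374310 q10690, e3 q12745 L374355 q10692, e3 q12746 L374437 q10695, e3 q12747 L374447 q10696, e3 q12748 L648771 q11591, e3 q12749 L374484 q10700, e3 q12750 L374497 q10701, e3 q12751 (flp_j L651911) q13846, e3 q12752 (flp_j L664407) q14980, e3 q12753 (flp_j L653560) q13960, e3 q12754 L374587 q10707, e3 q12755 L374598 q10648, e3 q12756 L374628 q10711, e3 q12757 L374638 q10712, e3 q12758 L648809 q11619, e3 q12759 L612248 q11063, e3 q12760 L648935 q11620, e3 q12761 L374688 q10718, e3 q12762 L374696 q10719, e3 q12763 L374706 q10720, e3 q12764 L374755 q10724, e3 q12765 L374768 q10725, e3 q12766 L664681 q15003, e3 q12767 L374796 q10727, e3 q12768 L640326 q10738, e3 q12769 L374845 q10661,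 e3 q12770 (flp_j L664710) q15005, e3 q12771 (flp_j L653055) q13925, e3 q12772 L374875 q10736, e3 q12773 L374884 q10737, e3 q12774 L374987 q10750, e3 q12775 L374997 q10751, e3 q12776 L611666 q10693, e3 q12777 L611654 q10694, e3 q12778 (flp_j L664422) q14981, e3 q12779 (flp_j L664440) q14982, e3 q12780 (flp_j L375833) q10673, e3 q12781 (flp_j L653945) q13993, e3 q12782 (flp_j L653733) q13974, e3 q12783 (flp_j L653981) q13995, e3 q12784 (flp_j L652516) q13884, e3 q12785 (flp_j L664454) q14983, e3 q12786 L375917 q10679, e3 q12787 (flp_j L653965) q13994, e3 q12788 (flp_j L652534) q13885, e3 q12789 (flp_j L652271) q13868, e3 q12790 L622138 q10998, e3 q12791 L606959 q10999, e3 q12792 (flp_j L664464) q14984, e3 q12793 (flp_j L664481) q14985, e3 q12794 (flp_j L648612) q11616, e3 q12795 (flp_j L664762) q15009, e3 q12796 (flp_j L664772) q15010, e3 q12797 (flp_j L664790) q15011, e3 q12798 (flp_j L664493) q14986, e3 q12799 (flp_j L664505) q14987, trivial⟩ (by decide +kernel)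

theorem ce_j_200 : ∀ r, r < 64 → sm gj (Qf (12800 + r)) = Qf (tab Gen.j (12800 + r)) :=
  edges_tab (sm gj) Qf (tab Gen.j) 12800 [(12800, 10699), (12801, 11035), (12802, 11618), (12803, 14988), (12804, 13958), (12805, 10703), (12806, 15033), (12807, 15034), (12808, 10705), (12809, 10706), (12810, 15036), (12811, 14989), (12812, 11081), (12813, 11072), (12814, 11082), (12815, 10946), (12816, 14991), (12817, 13968), (12818, 10714), (12819, 15045), (12820, 15046), (12821, 10716), (12822, 10717), (12823, 15050), (12824, 11060), (12825, 15051), (12826, 14996), (12827, 14997), (12828, 14998), (12829, 14999), (12830, 15000), (12831, 15001), (12832, 11059), (12833, 11061), (12834, 15068), (12835, 15002), (12836, 10726), (12837, 15070), (12838, 13917), (12839, 10730), (12840, 10731), (12841, 15072), (12842, 14027), (12843, 15073), (12844, 10734), (12845, 10735), (12846, 15078), (12847, 15079), (12848, 13922), (12849, 15007), (12850, 14993), (12851, 13927), (12852, 10744), (12853, 14454), (12854, 14467), (12855, 14041), (12856, 10747),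 (12857, 10748), (12858, 15086), (12859, 15087), (12860, 13929), (12861, 15008), (12862, 10960), (12863, 10971)]
    ⟨e3 q12800 L376460 q10699, e3 q12801 L622091 q11035, e3 q12802 (flp_j L648767) q11618, e3 q12803 (flp_j L664518) q14988, e3 q12804 (flp_j L653528) q13958, e3 q12805 L376550 q10703, e3 q12806 (flp_j L665034) q15033, e3 q12807 (flp_j L665049) q15034, e3 q12808 L376573 q10705, e3 q12809 L376583 q10706, e3 q12810 (flp_j L665076) q15036, e3 q12811 (flp_j L664534) q14989, e3 q12812 L611456 q11081, e3 q12813 L611549 q11072, e3 q12814 L611483 q11082, e3 q12815 L617535 q10946, e3 q12816 (flp_j L664564) q14991, e3 q12817 (flp_j L653663) q13968, e3 q12818 L376701 q10714, e3 q12819 (flp_j L665174) q15045, e3 q12820 (flp_j L665188) q15046, e3 q12821 L376723 q10716, e3 q12822 L376733 q10717, e3 q12823 (flp_j L665216) q15050, e3 q12824 L622083 q11060, e3 q12825 (flp_j L665232) q15051, e3 q12826 (flp_j L664619) q14996, e3 q12827 (flp_j L664629) q14997, e3 q12828 (flp_j L664640) q14998, e3 q12829 (flp_j L664648) q14999, e3 q12830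 (flp_j L664662) q15000, e3 q12831 (flp_j L664668) q15001, e3 q12832 L622075 q11059, e3 q12833 L607041 q11061, e3 q12834 L665362 q15068, e3 q12835 (flp_j L664679) q15002, e3 q12836 (flp_j L376868) q10726, e3 q12837 (flp_j L665389) q15070, e3 q12838 (flp_j L652943) q13917, e3 q12839 L376917 q10730, e3 q12840 L376927 q10731, e3 q12841 (flp_j L665409) q15072, e3 q12842 (flp_j L654377) q14027, e3 q12843 (flp_j L665419) q15073, e3 q12844 L376951 q10734, e3 q12845 L376960 q10735, e3 q12846 (flp_j L665470) q15078, e3 q12847 (flp_j L665479) q15079, e3 q12848 (flp_j L653020) q13922, e3 q12849 (flp_j L664732) q15007, e3 q12850 (flp_j L664585) q14993, e3 q12851 (flp_j L653091) q13927, e3 q12852 L377038 q10744, e3 q12853 (flp_j L659049) q14454, e3 q12854 (flp_j L659171) q14467, e3 q12855 (flp_j L654547) q14041, e3 q12856 L377079 q10747, e3 q12857 L377089 q10748, e3 q12858 (flp_j L665550) q15086, e3 q12859 (flp_j L665560) q15087, e3 q12860 (flp_j L653120) q13929, e3 q12861 (flp_j L664746) q15008, e3 q12862 L641194 q10960, e3 q12863 L641182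 q10971, trivial⟩ (by decide +kernel)

theorem ce_j_201 : ∀ r, r < 64 → sm gj (Qf (12864 + r)) = Qf (tab Gen.j (12864 + r)) :=
  edges_tab (sm gj) Qf (tab Gen.j) 12864 [(12864, 13833), (12865, 13834), (12866, 13835), (12867, 12867), (12868, 12868), (12869, 12869), (12870, 10802), (12871, 10758), (12872, 15100), (12873, 10760), (12874, 15103), (12875, 15104), (12876, 12876), (12877, 14007), (12878, 10764), (12879, 15107), (12880, 15108), (12881, 10766), (12882, 10767), (12883, 15112), (12884, 15113), (12885, 12885), (12886, 12886), (12887, 12887), (12888, 10774), (12889, 14171), (12890, 14173), (12891, 10777), (12892, 10778), (12893, 15123), (12894, 15124), (12895, 15125), (12896, 12896), (12897, 12897), (12898, 12898), (12899, 14188), (12900, 14190), (12901, 14192), (12902, 10787), (12903, 10788), (12904, 10789), (12905, 15135), (12906, 15136), (12907, 15137), (12908, 12908), (12909, 12909), (12910, 12910), (12911, 11133), (12912, 11627), (12913, 12913), (12914, 10795), (12915, 15146), (12916, 10797), (12917, 15149), (12918,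 15150), (12919, 12919), (12920, 10801), (12921, 15099), (12922, 10804), (12923, 15155), (12924, 15156), (12925, 12925), (12926, 12926), (12927, 14085)]
    ⟨e3 q12864 (flp_j L651750) q13833, e3 q12865 (flp_j L651766) q13834, e3 q12866 (flp_j L651778) q13835, e3 q12867 L377845 q12867, e3 q12868 L377856 q12868, e3 q12869 L377865 q12869, e3 q12870 L615167 q10802, e3 q12871 (flp_j L378359) q10758, e3 q12872 (flp_j L665706) q15100, e3 q12873 L378385 q10760, e3 q12874 (flp_j L665736) q15103, e3 q12875 (flp_j L665752) q15104, e3 q12876 L378427 q12876, e3 q12877 (flp_j L654143) q14007, e3 q12878 L378445 q10764, e3 q12879 (flp_j L665789) q15107, e3 q12880 (flp_j L665801) q15108, e3 q12881 L378468 q10766, e3 q12882 L378479 q10767, e3 q12883 (flp_j L665838) q15112, e3 q12884 (flp_j L665853) q15113, e3 q12885 L378509 q12885, e3 q12886 L378523 q12886, e3 q12887 L378544 q12887, e3 q12888 L378668 q10774, e3 q12889 (flp_j L656001) q14171, e3 q12890 (flp_j L656028) q14173, e3 q12891 L378693 q10777, e3 q12892 L378703 q10778, e3 q12893 (flp_j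 L665955) q15123, e3 q12894 (flp_j L665969) q15124, e3 q12895 (flp_j L665980) q15125, e3 q12896 L378731 q12896, e3 q12897 L378739 q12897, e3 q12898 L378744 q12898, e3 q12899 (flp_j L656177) q14188, e3 q12900 (flp_j L656207) q14190, e3 q12901 (flp_j L656228) q14192, e3 q12902 L378828 q10787, e3 q12903 L378839 q10788, e3 q12904 L378845 q10789, e3 q12905 (flp_j L666077) q15135, e3 q12906 (flp_j L666088) q15136, e3 q12907 (flp_j L666096) q15137, e3 q12908 L378881 q12908, e3 q12909 L378886 q12909, e3 q12910 L378891 q12910, e3 q12911 L616107 q11133, e3 q12912 (flp_j L648857) q11627, e3 q12913 L378963 q12913, e3 q12914 (flp_j L378964) q10795, e3 q12915 (flp_j L666198) q15146, e3 q12916 L378992 q10797, e3 q12917 (flp_j L666226) q15149, e3 q12918 (flp_j L666242) q15150, e3 q12919 L379036 q12919, e3 q12920 L379056 q10801, e3 q12921 (flp_j L665693) q15099, e3 q12922 L379236 q10804, e3 q12923 (flp_j L666293) q15155, e3 q12924 (flp_j L666309) q15156, e3 q12925 L379259 q12925, e3 q12926 L379278 q12926, e3 q12927 (flp_j L655085) q14085,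 trivial⟩ (by decide +kernel)

theorem ce_j_202 : ∀ r, r < 64 → sm gj (Qf (12928 + r)) = Qf (tab Gen.j (12928 + r)) :=
  edges_tab (sm gj) Qf (tab Gen.j) 12928 [(12928, 10808), (12929, 15162), (12930, 15163), (12931, 10810), (12932, 10811), (12933, 15167), (12934, 15168), (12935, 15169), (12936, 12936), (12937, 12937), (12938, 12938), (12939, 12939), (12940, 12940), (12941, 10817), (12942, 10818), (12943, 15180), (12944, 15181), (12945, 14107), (12946, 10822), (12947, 10823), (12948, 15185), (12949, 15186), (12950, 15187), (12951, 10826), (12952, 10827), (12953, 15193), (12954, 15194), (12955, 15195), (12956, 12956), (12957, 12957), (12958, 12958), (12959, 11638), (12960, 14116), (12961, 10833), (12962, 15205), (12963, 15206), (12964, 10835), (12965, 10836), (12966, 15210), (12967, 11636), (12968, 15211), (12969, 12969), (12970, 12970), (12971, 12971), (12972, 12972), (12973, 12973), (12974, 12974), (12975, 14131), (12976, 10842), (12977, 10843), (12978, 15227), (12979, 15228), (12980, 15229), (12981, 10846), (12982, 10847),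 (12983, 10848), (12984, 15236), (12985, 15237), (12986, 15238), (12987, 15239), (12988, 15240), (12989, 15241), (12990, 12990), (12991, 12991)]
    ⟨e3 q12928 L379294 q10808, e3 q12929 (flp_j L666362) q15162, e3 q12930 (flp_j L666372) q15163, e3 q12931 L379315 q10810, e3 q12932 L379326 q10811, e3 q12933 (flp_j L666401) q15167, e3 q12934 (flp_j L666412) q15168, e3 q12935 (flp_j L666425) q15169, e3 q12936 L379356 q12936, e3 q12937 L379363 q12937, e3 q12938 L379373 q12938, e3 q12939 L379389 q12939, e3 q12940 L379394 q12940, e3 q12941 L379401 q10817, e3 q12942 L379413 q10818, e3 q12943 (flp_j L666524) q15180, e3 q12944 (flp_j L666540) q15181, e3 q12945 (flp_j L655341) q14107, e3 q12946 L379516 q10822, e3 q12947 L379526 q10823, e3 q12948 (flp_j L666584) q15185, e3 q12949 (flp_j L666594) q15186, e3 q12950 (flp_j L666609) q15187, e3 q12951 L379557 q10826, e3 q12952 L379569 q10827, e3 q12953 (flp_j L666663) q15193, e3 q12954 (flp_j L666675) q15194, e3 q12955 (flp_j L666684) q15195, e3 q12956 L379600 q12956, e3 q12957 L379610 q12957,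 e3 q12958 L379618 q12958, e3 q12959 (flp_j L648845) q11638, e3 q12960 (flp_j L655464) q14116, e3 q12961 L379653 q10833, e3 q12962 (flp_j L666782) q15205, e3 q12963 (flp_j L666795) q15206, e3 q12964 L379675 q10835, e3 q12965 L379687 q10836, e3 q12966 (flp_j L666823) q15210, e3 q12967 (flp_j L648849) q11636, e3 q12968 (flp_j L666837) q15211, e3 q12969 L379717 q12969, e3 q12970 L379726 q12970, e3 q12971 L379734 q12971, e3 q12972 L379741 q12972, e3 q12973 L379752 q12973, e3 q12974 L379757 q12974, e3 q12975 (flp_j L655613) q14131, e3 q12976 L379775 q10842, e3 q12977 L379785 q10843, e3 q12978 (flp_j L666984) q15227, e3 q12979 (flp_j L666992) q15228, e3 q12980 (flp_j L667002) q15229, e3 q12981 L379808 q10846, e3 q12982 L379817 q10847, e3 q12983 L379828 q10848, e3 q12984 (flp_j L667047) q15236, e3 q12985 (flp_j L667056) q15237, e3 q12986 (flp_j L667068) q15238, e3 q12987 (flp_j L667076) q15239, e3 q12988 (flp_j L667089) q15240, e3 q12989 (flp_j L667096) q15241, e3 q12990 L379881 q12990, e3 q12991 L379888 q12991, trivial⟩ (by decide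 +kernel)

theorem ce_j_203 : ∀ r, r < 64 → sm gj (Qf (12992 + r)) = Qf (tab Gen.j (12992 + r)) :=
  edges_tab (sm gj) Qf (tab Gen.j) 12992 [(12992, 12992), (12993, 12993), (12994, 12994), (12995, 12995), (12996, 15260), (12997, 12997), (12998, 12998), (12999, 10857), (13000, 10858), (13001, 15264), (13002, 15263), (13003, 10859), (13004, 15266), (13005, 10862), (13006, 14031), (13007, 14167), (13008, 10866), (13009, 10867), (13010, 10868), (13011, 15269), (13012, 15270), (13013, 15271), (13014, 15272), (13015, 15273), (13016, 10871), (13017, 10872), (13018, 10873), (13019, 15281), (13020, 15282), (13021, 15283), (13022, 13022), (13023, 13023), (13024, 13024), (13025, 14047), (13026, 10882), (13027, 10883), (13028, 10884), (13029, 10885), (13030, 10886), (13031, 14938), (13032, 14925), (13033, 15291), (13034, 11330), (13035, 15292), (13036, 15293), (13037, 15294), (13038, 10890), (13039, 10891), (13040, 10892), (13041, 15301), (13042, 15302), (13043, 11489), (13044, 13044), (13045, 13045), (13046, 13046), (13047, 10982), (13048,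 11032), (13049, 10986), (13050, 10987), (13051, 11617), (13052, 13997), (13053, 10995), (13054, 10996), (13055, 10908)]
    ⟨e3 q12992 L379898 q12992, e3 q12993 L379904 q12993, e3 q12994 L379912 q12994, e3 q12995 L379917 q12995, e3 q12996 L667248 q15260, e3 q12997 L379932 q12997, e3 q12998 L379939 q12998, e3 q12999 L379945 q10857, e3 q13000 L379957 q10858, e3 q13001 L667281 q15264, e3 q13002 (flp_j L667279) q15263, e3 q13003 (flp_j L379996) q10859, e3 q13004 (flp_j L667307) q15266, e3 q13005 L380040 q10862, e3 q13006 (flp_j L654425) q14031, e3 q13007 (flp_j L655957) q14167, e3 q13008 L380085 q10866, e3 q13009 L380092 q10867, e3 q13010 L380104 q10868, e3 q13011 (flp_j L667328) q15269, e3 q13012 (flp_j L667337) q15270, e3 q13013 (flp_j L667347) q15271, e3 q13014 (flp_j L667356) q15272, e3 q13015 (flp_j L667364) q15273, e3 q13016 L380143 q10871, e3 q13017 L380154 q10872, e3 q13018 L380162 q10873, e3 q13019 (flp_j L667421) q15281, e3 q13020 (flp_j L667432) q15282, e3 q13021 (flp_j L667440) q15283, e3 q13022 L380197 q13022, e3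 q13023 L380205 q13023, e3 q13024 L380209 q13024, e3 q13025 (flp_j L654627) q14047, e3 q13026 L380240 q10882, e3 q13027 L380248 q10883, e3 q13028 L380261 q10884, e3 q13029 L380269 q10885, e3 q13030 L380276 q10886, e3 q13031 (flp_j L663881) q14938, e3 q13032 (flp_j L663715) q14925, e3 q13033 (flp_j L667504) q15291, e3 q13034 L645643 q11330, e3 q13035 (flp_j L667516) q15292, e3 q13036 (flp_j L667525) q15293, e3 q13037 (flp_j L667536) q15294, e3 q13038 L380336 q10890, e3 q13039 L380348 q10891, e3 q13040 L380357 q10892, e3 q13041 (flp_j L667608) q15301, e3 q13042 (flp_j L667616) q15302, e3 q13043 (flp_j L649295) q11489, e3 q13044 L380392 q13044, e3 q13045 L380398 q13045, e3 q13046 L380405 q13046, e3 q13047 L380524 q10982, e3 q13048 L611904 q11032, e3 q13049 L380561 q10986, e3 q13050 L380571 q10987, e3 q13051 L648913 q11617, e3 q13052 (flp_j L654018) q13997, e3 q13053 L380713 q10995, e3 q13054 L380724 q10996, e3 q13055 L380735 q10908, trivial⟩ (by decide +kernel)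

theorem ce_j_204 : ∀ r, r < 64 → sm gj (Qf (13056 + r)) = Qf (tab Gen.j (13056 + r)) :=
  edges_tab (sm gj) Qf (tab Gen.j) 13056 [(13056, 11000), (13057, 11001), (13058, 13977), (13059, 13996), (13060, 11007), (13061, 11008), (13062, 11009), (13063, 10916), (13064, 11615), (13065, 11014), (13066, 11023), (13067, 11024), (13068, 11036), (13069, 11037), (13070, 14385), (13071, 10927), (13072, 13978), (13073, 15326), (13074, 11043), (13075, 11044), (13076, 10931), (13077, 14303), (13078, 10933), (13079, 13804), (13080, 15090), (13081, 10936), (13082, 13805), (13083, 11055), (13084, 11056), (13085, 11062), (13086, 11064), (13087, 14319), (13088, 10944), (13089, 15041), (13090, 15082), (13091, 10947), (13092, 13950), (13093, 15042), (13094, 11074), (13095, 11075), (13096, 11076), (13097, 11077), (13098, 11078), (13099, 11079), (13100, 15353), (13101, 11084), (13102, 10955), (13103, 11456), (13104, 13928), (13105, 10959), (13106, 13952), (13107, 13801), (13108, 15091), (13109, 10964), (13110, 13940), (13111, 13953), (13112, 14622),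 (13113, 11098), (13114, 11099), (13115, 11100), (13116, 10970), (13117, 15092), (13118, 11119), (13119, 10974)]
    ⟨e3 q13056 L380766 q11000, e3 q13057 L380775 q11001, e3 q13058 (flp_j L653773) q13977, e3 q13059 (flp_j L653999) q13996, e3 q13060 L380821 q11007, e3 q13061 L380827 q11008, e3 q13062 L380835 q11009, e3 q13063 L380854 q10916, e3 q13064 (flp_j L648911) q11615, e3 q13065 L380887 q11014, e3 q13066 L381008 q11023, e3 q13067 L381015 q11024, e3 q13068 L381327 q11036, e3 q13069 L381338 q11037, e3 q13070 (flp_j L658422) q14385, e3 q13071 L381368 q10927, e3 q13072 (flp_j L653793) q13978, e3 q13073 (flp_j L667847) q15326, e3 q13074 L381390 q11043, e3 q13075 L381408 q11044, e3 q13076 L381432 q10931, e3 q13077 (flp_j L657526) q14303, e3 q13078 L381538 q10933, e3 q13079 (flp_j L651379) q13804, e3 q13080 (flp_j L665591) q15090, e3 q13081 L381577 q10936, e3 q13082 (flp_j L651397) q13805, e3 q13083 L381615 q11055, e3 q13084 L381624 q11056, e3 q13085 L381669 q11062, e3 q13086 L381686 q11064, e3 q13087 (flp_j L657685) q14319,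 e3 q13088 L381702 q10944, e3 q13089 (flp_j L665134) q15041, e3 q13090 (flp_j L665508) q15082, e3 q13091 L381729 q10947, e3 q13092 (flp_j L653423) q13950, e3 q13093 (flp_j L665148) q15042, e3 q13094 L381753 q11074, e3 q13095 L381759 q11075, e3 q13096 L381769 q11076, e3 q13097 L381775 q11077, e3 q13098 L381783 q11078, e3 q13099 L381787 q11079, e3 q13100 L668043 q15353, e3 q13101 L381850 q11084, e3 q13102 (flp_j L381862) q10955, e3 q13103 (flp_j L649385) q11456, e3 q13104 (flp_j L653104) q13928, e3 q13105 L381910 q10959, e3 q13106 (flp_j L653447) q13952, e3 q13107 (flp_j L651334) q13801, e3 q13108 (flp_j L665601) q15091, e3 q13109 L381962 q10964, e3 q13110 (flp_j L653275) q13940, e3 q13111 (flp_j L653462) q13953, e3 q13112 (flp_j L660623) q14622, e3 q13113 L381996 q11098, e3 q13114 L382007 q11099, e3 q13115 L382015 q11100, e3 q13116 L382045 q10970, e3 q13117 (flp_j L665610) q15092, e3 q13118 L649190 q11119, e3 q13119 L382100 q10974, trivial⟩ (by decide +kernel)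

theorem ce_j_205 : ∀ r, r < 64 → sm gj (Qf (13120 + r)) = Qf (tab Gen.j (13120 + r)) :=
  edges_tab (sm gj) Qf (tab Gen.j) 13120 [(13120, 10975), (13121, 14359), (13122, 15364), (13123, 14483), (13124, 11117), (13125, 11118), (13126, 11034), (13127, 11033), (13128, 11012), (13129, 15305), (13130, 15306), (13131, 10983), (13132, 15372), (13133, 10985), (13134, 15375), (13135, 15376), (13136, 15309), (13137, 15310), (13138, 10989), (13139, 14411), (13140, 10991), (13141, 14613), (13142, 15381), (13143, 10994), (13144, 14605), (13145, 14619), (13146, 15311), (13147, 15312), (13148, 15313), (13149, 15020), (13150, 15021), (13151, 15022), (13152, 15314), (13153, 15307), (13154, 15315), (13155, 14430), (13156, 11003), (13157, 15398), (13158, 15399), (13159, 11005), (13160, 11006), (13161, 14567), (13162, 15369), (13163, 15403), (13164, 14324), (13165, 15317), (13166, 15318), (13167, 15319), (13168, 15320), (13169, 11013), (13170, 15368), (13171, 15370), (13172, 11018), (13173, 14598), (13174, 14614), (13175, 14615), (13176, 14606),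 (13177, 14620), (13178, 14306), (13179, 14341), (13180, 15321), (13181, 14616), (13182, 14617), (13183, 14307)]
    ⟨e3 q13120 L382112 q10975, e3 q13121 (flp_j L658128) q14359, e3 q13122 (flp_j L668158) q15364, e3 q13123 (flp_j L659342) q14483, e3 q13124 L382157 q11117, e3 q13125 L382165 q11118, e3 q13126 L622132 q11034, e3 q13127 L617178 q11033, e3 q13128 L617171 q11012, e3 q13129 (flp_j L667651) q15305, e3 q13130 (flp_j L667668) q15306, e3 q13131 (flp_j L382375) q10983, e3 q13132 (flp_j L668248) q15372, e3 q13133 L382405 q10985, e3 q13134 (flp_j L668276) q15375, e3 q13135 (flp_j L668294) q15376, e3 q13136 (flp_j L667706) q15309, e3 q13137 (flp_j L667716) q15310, e3 q13138 L382462 q10989, e3 q13139 (flp_j L658689) q14411, e3 q13140 L382559 q10991, e3 q13141 (flp_j L660517) q14613, e3 q13142 (flp_j L668337) q15381, e3 q13143 L382596 q10994, e3 q13144 (flp_j L660441) q14605, e3 q13145 (flp_j L660592) q14619, e3 q13146 (flp_j L667721) q15311, e3 q13147 (flp_j L667732) q15312, e3 q13148 (flp_j L667740) q15313, e3 q13149 (flp_j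 L664885) q15020, e3 q13150 (flp_j L664895) q15021, e3 q13151 (flp_j L664912) q15022, e3 q13152 (flp_j L667747) q15314, e3 q13153 (flp_j L667680) q15307, e3 q13154 (flp_j L667756) q15315, e3 q13155 (flp_j L658862) q14430, e3 q13156 L382715 q11003, e3 q13157 (flp_j L668459) q15398, e3 q13158 (flp_j L668469) q15399, e3 q13159 L382733 q11005, e3 q13160 L382741 q11006, e3 q13161 (flp_j L660118) q14567, e3 q13162 (flp_j L668209) q15369, e3 q13163 (flp_j L668493) q15403, e3 q13164 (flp_j L657730) q14324, e3 q13165 (flp_j L667768) q15317, e3 q13166 (flp_j L667777) q15318, e3 q13167 (flp_j L667787) q15319, e3 q13168 (flp_j L667791) q15320, e3 q13169 L382806 q11013, e3 q13170 (flp_j L668199) q15368, e3 q13171 (flp_j L668226) q15370, e3 q13172 L382908 q11018, e3 q13173 (flp_j L660372) q14598, e3 q13174 (flp_j L660527) q14614, e3 q13175 (flp_j L660543) q14615, e3 q13176 (flp_j L660453) q14606, e3 q13177 (flp_j L660601) q14620, e3 q13178 (flp_j L657558) q14306, e3 q13179 (flp_j L657892) q14341, e3 q13180 (flp_j L667800) q15321, e3 q13181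 (flp_j L660557) q14616, e3 q13182 (flp_j L660568) q14617, e3 q13183 (flp_j L657571) q14307, trivial⟩ (by decide +kernel)

theorem ce_j_206 : ∀ r, r < 64 → sm gj (Qf (13184 + r)) = Qf (tab Gen.j (13184 + r)) :=
  edges_tab (sm gj) Qf (tab Gen.j) 13184 [(13184, 14342), (13185, 14276), (13186, 15308), (13187, 11120), (13188, 15030), (13189, 15026), (13190, 15031), (13191, 15322), (13192, 15323), (13193, 14507), (13194, 11039), (13195, 15436), (13196, 15437), (13197, 11041), (13198, 11042), (13199, 13975), (13200, 15441), (13201, 14325), (13202, 15328), (13203, 15329), (13204, 14527), (13205, 11048), (13206, 11049), (13207, 13983), (13208, 13818), (13209, 15449), (13210, 11053), (13211, 13984), (13212, 15453), (13213, 14299), (13214, 14333), (13215, 15333), (13216, 14543), (13217, 15055), (13218, 15067), (13219, 15053), (13220, 15056), (13221, 15334), (13222, 14994), (13223, 15335), (13224, 14992), (13225, 14995), (13226, 15336), (13227, 14558), (13228, 11067), (13229, 11068), (13230, 15473), (13231, 15474), (13232, 15475), (13233,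 11071), (13234, 11073), (13235, 15482), (13236, 13948), (13237, 15483), (13238, 15038), (13239, 15040), (13240, 15484), (13241, 15344), (13242, 15345), (13243, 15346), (13244, 15347), (13245, 15348), (13246, 15349), (13247, 15503)]
    ⟨e3 q13184 (flp_j L657901) q14342, e3 q13185 (flp_j L657226) q14276, e3 q13186 (flp_j L667698) q15308, e3 q13187 L616063 q11120, e3 q13188 (flp_j L664989) q15030, e3 q13189 (flp_j L664952) q15026, e3 q13190 (flp_j L665006) q15031, e3 q13191 (flp_j L667807) q15322, e3 q13192 (flp_j L667818) q15323, e3 q13193 (flp_j L659591) q14507, e3 q13194 L383474 q11039, e3 q13195 (flp_j L668725) q15436, e3 q13196 (flp_j L668737) q15437, e3 q13197 L383496 q11041, e3 q13198 L383506 q11042, e3 q13199 (flp_j L653753) q13975, e3 q13200 (flp_j L668767) q15441, e3 q13201 (flp_j L657742) q14325, e3 q13202 (flp_j L667867) q15328, e3 q13203 (flp_j L667873) q15329, e3 q13204 (flp_j L659773) q14527, e3 q13205 L383708 q11048, e3 q13206 L383720 q11049, e3 q13207 (flp_j L653839) q13983, e3 q13208 (flp_j L651560) q13818,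 e3 q13209 (flp_j L668829) q15449, e3 q13210 L383766 q11053, e3 q13211 (flp_j L653856) q13984, e3 q13212 (flp_j L668865) q15453, e3 q13213 (flp_j L657481) q14299, e3 q13214 (flp_j L657812) q14333, e3 q13215 (flp_j L667912) q15333, e3 q13216 (flp_j L659934) q14543, e3 q13217 (flp_j L665267) q15055, e3 q13218 (flp_j L665360) q15067, e3 q13219 (flp_j L665248) q15053, e3 q13220 (flp_j L665281) q15056, e3 q13221 (flp_j L667918) q15334, e3 q13222 (flp_j L664595) q14994, e3 q13223 (flp_j L667927) q15335, e3 q13224 (flp_j L664572) q14992, e3 q13225 (flp_j L664611) q14995, e3 q13226 (flp_j L667931) q15336, e3 q13227 (flp_j L660046) q14558, e3 q13228 L383937 q11067, e3 q13229 L383947 q11068, e3 q13230 (flp_j L668995) q15473, e3 q13231 (flp_j L669001) q15474, e3 q13232 (flp_j L669011) q15475, e3 q13233 L383967 q11071, e3 q13234 L383981 q11073, e3 q13235 (flp_j L669051) q15482, e3 q13236 (flp_j L653393) q13948, e3 q13237 (flp_j L669059) q15483, e3 q13238 (flp_j L665100) q15038, e3 q13239 (flp_j L665126) q15040, e3 q13240 (flp_j L669063)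 q15484, e3 q13241 (flp_j L667983) q15344, e3 q13242 (flp_j L667989) q15345, e3 q13243 (flp_j L667999) q15346, e3 q13244 (flp_j L668007) q15347, e3 q13245 (flp_j L668017) q15348, e3 q13246 (flp_j L668023) q15349, e3 q13247 L669181 q15503, trivial⟩ (by decide +kernel)

theorem ce_j_207 : ∀ r, r < 64 → sm gj (Qf (13248 + r)) = Qf (tab Gen.j (13248 + r)) :=
  edges_tab (sm gj) Qf (tab Gen.j) 13248 [(13248, 15351), (13249, 15352), (13250, 15506), (13251, 15039), (13252, 11083), (13253, 15508), (13254, 11086), (13255, 14470), (13256, 14594), (13257, 11090), (13258, 11091), (13259, 11092), (13260, 15511), (13261, 14098), (13262, 15512), (13263, 15513), (13264, 15514), (13265, 11095), (13266, 11096), (13267, 11097), (13268, 14449), (13269, 15522), (13270, 15523), (13271, 15360), (13272, 15361), (13273, 15362), (13274, 14472), (13275, 11106), (13276, 11107), (13277, 11108), (13278, 11109), (13279, 11110), (13280, 15531), (13281, 15532), (13282, 15533), (13283, 11329), (13284, 15534), (13285, 15535), (13286, 15300), (13287, 11114),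 (13288, 11115), (13289, 11116), (13290, 15543), (13291, 15544), (13292, 14480), (13293, 15367), (13294, 15357), (13295, 15363), (13296, 14649), (13297, 11123), (13298, 15553), (13299, 15554), (13300, 11125), (13301, 11126), (13302, 15557), (13303, 13303), (13304, 14665), (13305, 11131), (13306, 15144), (13307, 14669), (13308, 11135), (13309, 15563), (13310, 15564), (13311, 11137)]
    ⟨e3 q13248 (flp_j L668035) q15351, e3 q13249 (flp_j L668041) q15352, e3 q13250 L669195 q15506, e3 q13251 (flp_j L665114) q15039, e3 q13252 (flp_j L384125) q11083, e3 q13253 (flp_j L669223) q15508, e3 q13254 L384161 q11086, e3 q13255 (flp_j L659210) q14470, e3 q13256 (flp_j L660335) q14594, e3 q13257 L384206 q11090, e3 q13258 L384213 q11091, e3 q13259 L384228 q11092, e3 q13260 (flp_j L669244) q15511, e3 q13261 (flp_j L655233) q14098, e3 q13262 (flp_j L669255) q15512, e3 q13263 (flp_j L669267) q15513, e3 q13264 (flp_j L669275) q15514, e3 q13265 L384271 q11095, e3 q13266 L384282 q11096, e3 q13267 L384290 q11097, e3 q13268 (flp_j L659001) q14449,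 e3 q13269 (flp_j L669340) q15522, e3 q13270 (flp_j L669348) q15523, e3 q13271 (flp_j L668120) q15360, e3 q13272 (flp_j L668130) q15361, e3 q13273 (flp_j L668135) q15362, e3 q13274 (flp_j L659238) q14472, e3 q13275 L384366 q11106, e3 q13276 L384374 q11107, e3 q13277 L384386 q11108, e3 q13278 L384397 q11109, e3 q13279 L384404 q11110, e3 q13280 (flp_j L669410) q15531, e3 q13281 (flp_j L669418) q15532, e3 q13282 (flp_j L669431) q15533, e3 q13283 L645485 q11329, e3 q13284 (flp_j L669444) q15534, e3 q13285 (flp_j L669453) q15535, e3 q13286 (flp_j L667592) q15300, e3 q13287 L384462 q11114, e3 q13288 L384472 q11115, e3 q13289 L384481 q11116, e3 q13290 (flp_j L669534) q15543, e3 q13291 (flp_j L669542) q15544, e3 q13292 (flp_j L659316) q14480, e3 q13293 (flp_j L668185) q15367, e3 q13294 (flp_j L668088) q15357, e3 q13295 (flp_j L668145) q15363, e3 q13296 (flp_j L660955) q14649, e3 q13297 L384892 q11123, e3 q13298 (flp_j L669613) q15553, e3 q13299 (flp_j L669623) q15554, e3 q13300 L384915 q11125, e3 q13301 L384926 q11126, e3 q13302 (flp_j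 L669646) q15557, e3 q13303 L384996 q13303, e3 q13304 (flp_j L661118) q14665, e3 q13305 L385135 q11131, e3 q13306 (flp_j L666169) q15144, e3 q13307 (flp_j L661168) q14669, e3 q13308 L385273 q11135, e3 q13309 (flp_j L669691) q15563, e3 q13310 (flp_j L669701) q15564, e3 q13311 L385292 q11137, trivial⟩ (by decide +kernel)

theorem ce_j_208 : ∀ r, r < 64 → sm gj (Qf (13312 + r)) = Qf (tab Gen.j (13312 + r)) :=
  edges_tab (sm gj) Qf (tab Gen.j) 13312 [(13312, 11138), (13313, 15567), (13314, 15568), (13315, 13315), (13316, 13316), (13317, 14679), (13318, 11143), (13319, 11144), (13320, 15575), (13321, 15576), (13322, 15577), (13323, 11147), (13324, 11148), (13325, 11149), (13326, 15584), (13327, 15585), (13328, 15586), (13329, 15587), (13330, 15588), (13331, 15589), (13332, 13332), (13333, 13333), (13334, 13334), (13335, 13335), (13336, 13336), (13337, 11157), (13338, 11158), (13339, 15601), (13340, 14712), (13341, 14713), (13342, 11162), (13343, 11163), (13344, 11164), (13345, 15604), (13346, 15605), (13347, 15606), (13348, 15607),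 (13349, 11167), (13350, 11168), (13351, 15613), (13352, 15614), (13353, 13353), (13354, 14723), (13355, 11176), (13356, 11178), (13357, 11179), (13358, 11180), (13359, 14934), (13360, 14906), (13361, 15616), (13362, 14909), (13363, 15541), (13364, 15298), (13365, 11184), (13366, 11185), (13367, 11186), (13368, 15620), (13369, 15621), (13370, 11487), (13371, 13371), (13372, 13372), (13373, 13373), (13374, 14718), (13375, 11192)]
    ⟨e3 q13312 L385303 q11138, e3 q13313 (flp_j L669722) q15567, e3 q13314 (flp_j L669733) q15568, e3 q13315 L385363 q13315, e3 q13316 L385366 q13316, e3 q13317 (flp_j L661278) q14679, e3 q13318 L385382 q11143, e3 q13319 L385390 q11144, e3 q13320 (flp_j L669788) q15575, e3 q13321 (flp_j L669794) q15576, e3 q13322 (flp_j L669802) q15577, e3 q13323 L385411 q11147, e3 q13324 L385418 q11148, e3 q13325 L385427 q11149, e3 q13326 (flp_j L669843) q15584, e3 q13327 (flp_j L669850) q15585, e3 q13328 (flp_j L669860) q15586, e3 q13329 (flp_j L669868) q15587, e3 q13330 (flp_j L669879) q15588, e3 q13331 (flp_j L669884)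 q15589, e3 q13332 L385477 q13332, e3 q13333 L385485 q13333, e3 q13334 L385499 q13334, e3 q13335 L385504 q13335, e3 q13336 L385520 q13336, e3 q13337 L385524 q11157, e3 q13338 L385534 q11158, e3 q13339 (flp_j L669978) q15601, e3 q13340 (flp_j L661581) q14712, e3 q13341 (flp_j L661594) q14713, e3 q13342 L385649 q11162, e3 q13343 L385657 q11163, e3 q13344 L385670 q11164, e3 q13345 (flp_j L670000) q15604, e3 q13346 (flp_j L670010) q15605, e3 q13347 (flp_j L670021) q15606, e3 q13348 (flp_j L670030) q15607, e3 q13349 L385714 q11167, e3 q13350 L385726 q11168, e3 q13351 (flp_j L670083) q15613, e3 q13352 (flp_j L670097) q15614, e3 q13353 L385774 q13353, e3 q13354 (flp_j L661743) q14723, e3 q13355 L385819 q11176, e3 q13356 L385840 q11178, e3 q13357 L385848 q11179, e3 q13358 L385855 q11180, e3 q13359 (flp_j L663847) q14934, e3 q13360 (flp_j L663500) q14906, e3 q13361 (flp_j L670116) q15616, e3 q13362 (flp_j L663541) q14909, e3 q13363 (flp_j L669513) q15541, e3 q13364 (flp_j L667574) q15298, e3 q13365 L385914 q11184, e3 q13366 L385925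 q11185, e3 q13367 L385934 q11186, e3 q13368 (flp_j L670155) q15620, e3 q13369 (flp_j L670163) q15621, e3 q13370 L649285 q11487, e3 q13371 L385970 q13371, e3 q13372 L385977 q13372, e3 q13373 L385985 q13373, e3 q13374 (flp_j L661668) q14718, e3 q13375 L386058 q11192, trivial⟩ (by decide +kernel)

theorem ce_j_209 : ∀ r, r < 64 → sm gj (Qf (13376 + r)) = Qf (tab Gen.j (13376 + r)) :=
  edges_tab (sm gj) Qf (tab Gen.j) 13376 [(13376, 15625), (13377, 14737), (13378, 14717), (13379, 14749), (13380, 11197), (13381, 15628), (13382, 15629), (13383, 11199), (13384, 11200), (13385, 15632), (13386, 13386), (13387, 14759), (13388, 11204), (13389, 11205), (13390, 15636), (13391, 15637), (13392, 15638), (13393, 11208), (13394, 11209), (13395, 15644), (13396, 15645), (13397, 15646), (13398, 13398), (13399, 13399), (13400, 13400), (13401, 14784), (13402, 14785), (13403, 11216), (13404, 11217), (13405, 11218), (13406, 15654), (13407, 15655), (13408, 15656), (13409, 15657), (13410, 11221), (13411, 11222), (13412, 15663), (13413, 15664), (13414,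 13414), (13415, 14797), (13416, 11226), (13417, 15215), (13418, 15666), (13419, 14801), (13420, 11229), (13421, 11230), (13422, 15672), (13423, 15673), (13424, 15674), (13425, 11233), (13426, 11234), (13427, 11235), (13428, 15681), (13429, 15682), (13430, 15683), (13431, 15202), (13432, 15684), (13433, 15685), (13434, 13434), (13435, 13435), (13436, 13436), (13437, 13437), (13438, 13438), (13439, 13439)]
    ⟨e3 q13376 (flp_j L670208) q15625, e3 q13377 (flp_j L661926) q14737, e3 q13378 (flp_j L661648) q14717, e3 q13379 (flp_j L662040) q14749, e3 q13380 L386458 q11197, e3 q13381 (flp_j L670234) q15628, e3 q13382 (flp_j L670246) q15629, e3 q13383 L386481 q11199, e3 q13384 L386494 q11200, e3 q13385 (flp_j L670269) q15632, e3 q13386 L386572 q13386, e3 q13387 (flp_j L662152) q14759, e3 q13388 L386590 q11204, e3 q13389 L386600 q11205, e3 q13390 (flp_j L670301) q15636, e3 q13391 (flp_j L670309) q15637, e3 q13392 (flp_j L670319) q15638, e3 q13393 L386627 q11208, e3 q13394 L386647 q11209, e3 q13395 (flp_j L670360) q15644, e3 q13396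 (flp_j L670371) q15645, e3 q13397 (flp_j L670378) q15646, e3 q13398 L386701 q13398, e3 q13399 L386717 q13399, e3 q13400 L386744 q13400, e3 q13401 (flp_j L662381) q14784, e3 q13402 (flp_j L662393) q14785, e3 q13403 L386931 q11216, e3 q13404 L386940 q11217, e3 q13405 L386955 q11218, e3 q13406 (flp_j L670441) q15654, e3 q13407 (flp_j L670452) q15655, e3 q13408 (flp_j L670466) q15656, e3 q13409 (flp_j L670477) q15657, e3 q13410 L387005 q11221, e3 q13411 L387019 q11222, e3 q13412 (flp_j L670528) q15663, e3 q13413 (flp_j L670542) q15664, e3 q13414 L387074 q13414, e3 q13415 (flp_j L662539) q14797, e3 q13416 L387106 q11226, e3 q13417 (flp_j L666873) q15215, e3 q13418 (flp_j L670565) q15666, e3 q13419 (flp_j L662573) q14801, e3 q13420 L387131 q11229, e3 q13421 L387141 q11230, e3 q13422 (flp_j L670601) q15672, e3 q13423 (flp_j L670609) q15673, e3 q13424 (flp_j L670619) q15674, e3 q13425 L387164 q11233, e3 q13426 L387173 q11234, e3 q13427 L387184 q11235, e3 q13428 (flp_j L670664) q15681, e3 q13429 (flp_j L670673) q15682, e3 q13430 (flp_j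 L670685) q15683, e3 q13431 (flp_j L666751) q15202, e3 q13432 (flp_j L670696) q15684, e3 q13433 (flp_j L670701) q15685, e3 q13434 L387235 q13434, e3 q13435 L387242 q13435, e3 q13436 L387252 q13436, e3 q13437 L387258 q13437, e3 q13438 L387268 q13438, e3 q13439 L387273 q13439, trivial⟩ (by decide +kernel)

theorem ce_j_210 : ∀ r, r < 64 → sm gj (Qf (13440 + r)) = Qf (tab Gen.j (13440 + r)) :=
  edges_tab (sm gj) Qf (tab Gen.j) 13440 [(13440, 15701), (13441, 13441), (13442, 13442), (13443, 14823), (13444, 14824), (13445, 11245), (13446, 11246), (13447, 11247), (13448, 15707), (13449, 15708), (13450, 15709), (13451, 15710), (13452, 15711), (13453, 15712), (13454, 11251), (13455, 11252), (13456, 11253), (13457, 11254), (13458, 11255), (13459, 11256), (13460, 15723), (13461, 15724), (13462, 15725), (13463, 15726), (13464, 15727), (13465, 15728), (13466, 15741), (13467, 15730), (13468, 15731), (13469, 13469), (13470, 13470), (13471, 13471), (13472, 13472), (13473, 13473), (13474, 15750), (13475, 13475), (13476, 13476), (13477, 13477),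 (13478, 11263), (13479, 15755), (13480, 13480), (13481, 15757), (13482, 11269), (13483, 11268), (13484, 15759), (13485, 11271), (13486, 14873), (13487, 14875), (13488, 11278), (13489, 11279), (13490, 11280), (13491, 11281), (13492, 11282), (13493, 14944), (13494, 11379), (13495, 15761), (13496, 15762), (13497, 15763), (13498, 15764), (13499, 11299), (13500, 11286), (13501, 11287), (13502, 11288), (13503, 15770)]
    ⟨e3 q13440 L670822 q15701, e3 q13441 L387288 q13441, e3 q13442 L387293 q13442, e3 q13443 (flp_j L662766) q14823, e3 q13444 (flp_j L662775) q14824, e3 q13445 L387312 q11245, e3 q13446 L387318 q11246, e3 q13447 L387326 q11247, e3 q13448 (flp_j L670866) q15707, e3 q13449 (flp_j L670872) q15708, e3 q13450 (flp_j L670882) q15709, e3 q13451 (flp_j L670886) q15710, e3 q13452 (flp_j L670894) q15711, e3 q13453 (flp_j L670900) q15712, e3 q13454 L387363 q11251, e3 q13455 L387370 q11252, e3 q13456 L387381 q11253, e3 q13457 L387387 q11254, e3 q13458 L387396 q11255, e3 q13459 L387401 q11256, e3 q13460 (flp_j L670961) q15723,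 e3 q13461 (flp_j L670968) q15724, e3 q13462 (flp_j L670979) q15725, e3 q13463 (flp_j L670987) q15726, e3 q13464 (flp_j L670998) q15727, e3 q13465 (flp_j L671005) q15728, e3 q13466 L671095 q15741, e3 q13467 (flp_j L671018) q15730, e3 q13468 (flp_j L671025) q15731, e3 q13469 L387469 q13469, e3 q13470 L387478 q13470, e3 q13471 L387485 q13471, e3 q13472 L387494 q13472, e3 q13473 L387499 q13473, e3 q13474 L671156 q15750, e3 q13475 L387514 q13475, e3 q13476 L387521 q13476, e3 q13477 L387524 q13477, e3 q13478 (flp_j L387527) q11263, e3 q13479 (flp_j L671193) q15755, e3 q13480 L387542 q13480, e3 q13481 L671199 q15757, e3 q13482 L387561 q11269, e3 q13483 (flp_j L387574) q11268, e3 q13484 (flp_j L671221) q15759, e3 q13485 L387611 q11271, e3 q13486 (flp_j L663130) q14873, e3 q13487 (flp_j L663155) q14875, e3 q13488 L387701 q11278, e3 q13489 L387711 q11279, e3 q13490 L387723 q11280, e3 q13491 L387733 q11281, e3 q13492 L387741 q11282, e3 q13493 (flp_j L663948) q14944, e3 q13494 L646522 q11379, e3 q13495 (flp_j L671240) q15761, e3 q13496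 (flp_j L671250) q15762, e3 q13497 (flp_j L671262) q15763, e3 q13498 (flp_j L671276) q15764, e3 q13499 L646927 q11299, e3 q13500 L387808 q11286, e3 q13501 L387821 q11287, e3 q13502 L387830 q11288, e3 q13503 (flp_j L671323) q15770, trivial⟩ (by decide +kernel)

theorem ce_j_211 : ∀ r, r < 64 → sm gj (Qf (13504 + r)) = Qf (tab Gen.j (13504 + r)) :=
  edges_tab (sm gj) Qf (tab Gen.j) 13504 [(13504, 11569), (13505, 15771), (13506, 13506), (13507, 13507), (13508, 13508), (13509, 14946), (13510, 11303), (13511, 11514), (13512, 11470), (13513, 14918), (13514, 11310), (13515, 14631), (13516, 15776), (13517, 14922), (13518, 11313), (13519, 14730), (13520, 11328), (13521, 11318), (13522, 11319), (13523, 11321), (13524, 15538), (13525, 11334), (13526, 11335), (13527, 15779), (13528, 11485), (13529, 14044), (13530, 14727), (13531, 11342), (13532, 14928), (13533, 11347), (13534, 11348), (13535, 14955), (13536, 14954), (13537, 14931), (13538, 11350), (13539, 11352), (13540, 11353), (13541, 15783), (13542, 15784), (13543, 15785), (13544,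 14904), (13545, 14940), (13546, 11357), (13547, 11358), (13548, 11359), (13549, 15793), (13550, 15794), (13551, 15795), (13552, 15796), (13553, 11362), (13554, 11363), (13555, 15802), (13556, 15803), (13557, 13557), (13558, 14952), (13559, 11369), (13560, 11370), (13561, 14956), (13562, 14933), (13563, 14932), (13564, 11372), (13565, 14789), (13566, 15766), (13567, 11384)]
    ⟨e3 q13504 L649011 q11569, e3 q13505 (flp_j L671332) q15771, e3 q13506 L387870 q13506, e3 q13507 L387877 q13507, e3 q13508 L387882 q13508, e3 q13509 (flp_j L663977) q14946, e3 q13510 L388086 q11303, e3 q13511 (flp_j L649017) q11514, e3 q13512 (flp_j L649291) q11470, e3 q13513 (flp_j L663629) q14918, e3 q13514 L389188 q11310, e3 q13515 (flp_j L660740) q14631, e3 q13516 (flp_j L671386) q15776, e3 q13517 (flp_j L663674) q14922, e3 q13518 L389225 q11313, e3 q13519 L661852 q14730, e3 q13520 L615869 q11328, e3 q13521 L389739 q11318, e3 q13522 L389747 q11319, e3 q13523 L389829 q11321, e3 q13524 (flp_j L669479) q15538, e3 q13525 L390073 q11334, e3 q13526 L390081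 q11335, e3 q13527 (flp_j L671412) q15779, e3 q13528 L649283 q11485, e3 q13529 (flp_j L654588) q14044, e3 q13530 (flp_j L661810) q14727, e3 q13531 L390501 q11342, e3 q13532 (flp_j L663754) q14928, e3 q13533 L390784 q11347, e3 q13534 L390793 q11348, e3 q13535 (flp_j L664100) q14955, e3 q13536 (flp_j L664083) q14954, e3 q13537 (flp_j L663800) q14931, e3 q13538 L390889 q11350, e3 q13539 L390981 q11352, e3 q13540 L390991 q11353, e3 q13541 (flp_j L671442) q15783, e3 q13542 (flp_j L671448) q15784, e3 q13543 (flp_j L671461) q15785, e3 q13544 (flp_j L663475) q14904, e3 q13545 (flp_j L663902) q14940, e3 q13546 L391030 q11357, e3 q13547 L391037 q11358, e3 q13548 L391049 q11359, e3 q13549 (flp_j L671514) q15793, e3 q13550 (flp_j L671523) q15794, e3 q13551 (flp_j L671534) q15795, e3 q13552 (flp_j L671542) q15796, e3 q13553 L391088 q11362, e3 q13554 L391099 q11363, e3 q13555 (flp_j L671581) q15802, e3 q13556 (flp_j L671592) q15803, e3 q13557 L391141 q13557, e3 q13558 (flp_j L664053) q14952, e3 q13559 L391183 q11369, e3 q13560 L391190 q11370,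 e3 q13561 (flp_j L664114) q14956, e3 q13562 (flp_j L663829) q14933, e3 q13563 (flp_j L663813) q14932, e3 q13564 L391273 q11372, e3 q13565 (flp_j L662436) q14789, e3 q13566 (flp_j L671294) q15766, e3 q13567 L391541 q11384, trivial⟩ (by decide +kernel)

theorem ce_j_212 : ∀ r, r < 64 → sm gj (Qf (13568 + r)) = Qf (tab Gen.j (13568 + r)) :=
  edges_tab (sm gj) Qf (tab Gen.j) 13568 [(13568, 11512), (13569, 11568), (13570, 15808), (13571, 13806), (13572, 11439), (13573, 11452), (13574, 11453), (13575, 11454), (13576, 11455), (13577, 11458), (13578, 11459), (13579, 11401), (13580, 13802), (13581, 13803), (13582, 11409), (13583, 13941), (13584, 13954), (13585, 11478), (13586, 11479), (13587, 11480), (13588, 11418), (13589, 11419), (13590, 11420), (13591, 13942), (13592, 14348), (13593, 15818), (13594, 15551), (13595, 11425), (13596, 11426), (13597, 14362), (13598, 15823), (13599, 15824), (13600, 11496), (13601, 11497), (13602, 11498), (13603, 13863), (13604, 13819), (13605, 13820), (13606, 11436), (13607, 13985), (13608, 14300),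 (13609, 14334), (13610, 15810), (13611, 13871), (13612, 11590), (13613, 13856), (13614, 13854), (13615, 11614), (13616, 13845), (13617, 13936), (13618, 13939), (13619, 13947), (13620, 13949), (13621, 15032), (13622, 13959), (13623, 11465), (13624, 14282), (13625, 14285), (13626, 14247), (13627, 15811), (13628, 15004), (13629, 13898), (13630, 15812), (13631, 15354)]
    ⟨e3 q13568 L649007 q11512, e3 q13569 L649009 q11568, e3 q13570 (flp_j L671622) q15808, e3 q13571 (flp_j L651410) q13806, e3 q13572 L649423 q11439, e3 q13573 L649431 q11452, e3 q13574 L649441 q11453, e3 q13575 L649447 q11454, e3 q13576 L649456 q11455, e3 q13577 L649466 q11458, e3 q13578 L649475 q11459, e3 q13579 (flp_j L649479) q11401, e3 q13580 (flp_j L651352) q13802, e3 q13581 (flp_j L651366) q13803, e3 q13582 L649513 q11409, e3 q13583 (flp_j L653294) q13941, e3 q13584 (flp_j L653474) q13954, e3 q13585 L649539 q11478, e3 q13586 L649548 q11479, e3 q13587 L649554 q11480, e3 q13588 L649566 q11418, e3 q13589 L649574 q11419, e3 q13590 L649581 q11420, e3 q13591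 (flp_j L653311) q13942, e3 q13592 (flp_j L657980) q14348, e3 q13593 (flp_j L671705) q15818, e3 q13594 (flp_j L669591) q15551, e3 q13595 L649624 q11425, e3 q13596 L649633 q11426, e3 q13597 (flp_j L658163) q14362, e3 q13598 (flp_j L671754) q15823, e3 q13599 (flp_j L671762) q15824, e3 q13600 L649665 q11496, e3 q13601 L649673 q11497, e3 q13602 L649681 q11498, e3 q13603 (flp_j L652195) q13863, e3 q13604 (flp_j L651578) q13819, e3 q13605 (flp_j L651591) q13820, e3 q13606 L649717 q11436, e3 q13607 (flp_j L653870) q13985, e3 q13608 (flp_j L657496) q14300, e3 q13609 (flp_j L657822) q14334, e3 q13610 (flp_j L671635) q15810, e3 q13611 L652322 q13871, e3 q13612 L649768 q11590, e3 q13613 L652096 q13856, e3 q13614 L652062 q13854, e3 q13615 L649790 q11614, e3 q13616 (flp_j L651895) q13845, e3 q13617 (flp_j L653221) q13936, e3 q13618 (flp_j L653261) q13939, e3 q13619 (flp_j L653385) q13947, e3 q13620 (flp_j L653411) q13949, e3 q13621 (flp_j L665021) q15032, e3 q13622 (flp_j L653543) q13959, e3 q13623 L649849 q11465, e3 q13624 (flp_j L657306)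 q14282, e3 q13625 (flp_j L657339) q14285, e3 q13626 (flp_j L656913) q14247, e3 q13627 (flp_j L671646) q15811, e3 q13628 (flp_j L664701) q15004, e3 q13629 (flp_j L652710) q13898, e3 q13630 (flp_j L671655) q15812, e3 q13631 (flp_j L668063) q15354, trivial⟩ (by decide +kernel)

theorem ce_j_213 : ∀ r, r < 64 → sm gj (Qf (13632 + r)) = Qf (tab Gen.j (13632 + r)) :=
  edges_tab (sm gj) Qf (tab Gen.j) 13632 [(13632, 14339), (13633, 11457), (13634, 15037), (13635, 14990), (13636, 11463), (13637, 11462), (13638, 15842), (13639, 11471), (13640, 14070), (13641, 14071), (13642, 14092), (13643, 14099), (13644, 14100), (13645, 15304), (13646, 11476), (13647, 11477), (13648, 14452), (13649, 15859), (13650, 14593), (13651, 15815), (13652, 15816), (13653, 15817), (13654, 11486), (13655, 11488), (13656, 14634), (13657, 14637), (13658, 15623), (13659, 15867), (13660, 15140), (13661, 15868), (13662, 11493), (13663, 11494), (13664, 11495), (13665, 15874), (13666, 15875), (13667, 15876), (13668, 15828), (13669, 15829), (13670, 15830), (13671,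 15822), (13672, 13828), (13673, 13829), (13674, 13830), (13675, 11503), (13676, 11504), (13677, 11505), (13678, 15889), (13679, 15890), (13680, 15891), (13681, 13681), (13682, 13682), (13683, 13683), (13684, 11511), (13685, 11513), (13686, 11582), (13687, 14949), (13688, 15898), (13689, 14141), (13690, 15772), (13691, 11572), (13692, 11519), (13693, 11520), (13694, 11521), (13695, 15902)]
    ⟨e3 q13632 (flp_j L657867) q14339, e3 q13633 (flp_j L649909) q11457, e3 q13634 (flp_j L665088) q15037, e3 q13635 (flp_j L664550) q14990, e3 q13636 L649936 q11463, e3 q13637 (flp_j L649938) q11462, e3 q13638 (flp_j L671906) q15842, e3 q13639 L649962 q11471, e3 q13640 (flp_j L654908) q14070, e3 q13641 (flp_j L654925) q14071, e3 q13642 (flp_j L655165) q14092, e3 q13643 (flp_j L655248) q14099, e3 q13644 (flp_j L655260) q14100, e3 q13645 (flp_j L667636) q15304, e3 q13646 L650017 q11476, e3 q13647 L650023 q11477, e3 q13648 (flp_j L659030) q14452, e3 q13649 (flp_j L672023) q15859, e3 q13650 (flp_j L660322) q14593, e3 q13651 (flp_j L671681)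 q15815, e3 q13652 (flp_j L671689) q15816, e3 q13653 (flp_j L671695) q15817, e3 q13654 L650074 q11486, e3 q13655 L650083 q11488, e3 q13656 L660777 q14634, e3 q13657 (flp_j L660814) q14637, e3 q13658 (flp_j L670185) q15623, e3 q13659 (flp_j L672077) q15867, e3 q13660 (flp_j L666122) q15140, e3 q13661 (flp_j L672085) q15868, e3 q13662 L650141 q11493, e3 q13663 L650147 q11494, e3 q13664 L650153 q11495, e3 q13665 (flp_j L672136) q15874, e3 q13666 (flp_j L672143) q15875, e3 q13667 (flp_j L672151) q15876, e3 q13668 (flp_j L671798) q15828, e3 q13669 (flp_j L671805) q15829, e3 q13670 (flp_j L671814) q15830, e3 q13671 (flp_j L671742) q15822, e3 q13672 (flp_j L651676) q13828, e3 q13673 (flp_j L651697) q13829, e3 q13674 (flp_j L651711) q13830, e3 q13675 L650242 q11503, e3 q13676 L650254 q11504, e3 q13677 L650261 q11505, e3 q13678 (flp_j L672259) q15889, e3 q13679 (flp_j L672271) q15890, e3 q13680 (flp_j L672280) q15891, e3 q13681 L650300 q13681, e3 q13682 L650306 q13682, e3 q13683 L650313 q13683, e3 q13684 L650324 q11511, e3 q13685 L650341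 q11513, e3 q13686 L650351 q11582, e3 q13687 (flp_j L664013) q14949, e3 q13688 (flp_j L672348) q15898, e3 q13689 (flp_j L655706) q14141, e3 q13690 (flp_j L671346) q15772, e3 q13691 L650396 q11572, e3 q13692 L650406 q11519, e3 q13693 L650418 q11520, e3 q13694 L650429 q11521, e3 q13695 (flp_j L672389) q15902, trivial⟩ (by decide +kernel)

theorem ce_j_214 : ∀ r, r < 64 → sm gj (Qf (13696 + r)) = Qf (tab Gen.j (13696 + r)) :=
  edges_tab (sm gj) Qf (tab Gen.j) 13696 [(13696, 15899), (13697, 15906), (13698, 13698), (13699, 13699), (13700, 13700), (13701, 11529), (13702, 11532), (13703, 11583), (13704, 11588), (13705, 11573), (13706, 14091), (13707, 14109), (13708, 14111), (13709, 15909), (13710, 15183), (13711, 14110), (13712, 14112), (13713, 11539), (13714, 11540), (13715, 11541), (13716, 11542), (13717, 11543), (13718, 11544), (13719, 11546), (13720, 11547), (13721, 15924), (13722, 15905), (13723, 15925), (13724, 15926), (13725, 15920), (13726, 15936), (13727, 15927), (13728, 15928), (13729, 15913), (13730, 11545), (13731, 15941),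 (13732, 15929), (13733, 13733), (13734, 13734), (13735, 13735), (13736, 15946), (13737, 13737), (13738, 13738), (13739, 13739), (13740, 11553), (13741, 15950), (13742, 13742), (13743, 13743), (13744, 13744), (13745, 11558), (13746, 15923), (13747, 11560), (13748, 15954), (13749, 11563), (13750, 14768), (13751, 15773), (13752, 15912), (13753, 14794), (13754, 15886), (13755, 15910), (13756, 14795), (13757, 15911), (13758, 11593), (13759, 11601)]
    ⟨e3 q13696 (flp_j L672362) q15899, e3 q13697 (flp_j L672426) q15906, e3 q13698 L650468 q13698, e3 q13699 L650476 q13699, e3 q13700 L650484 q13700, e3 q13701 L650499 q11529, e3 q13702 L650506 q11532, e3 q13703 L650518 q11583, e3 q13704 L650527 q11588, e3 q13705 L650540 q11573, e3 q13706 (flp_j L655149) q14091, e3 q13707 (flp_j L655370) q14109, e3 q13708 (flp_j L655402) q14111, e3 q13709 (flp_j L672458) q15909, e3 q13710 (flp_j L666563) q15183, e3 q13711 (flp_j L655388) q14110, e3 q13712 (flp_j L655413) q14112, e3 q13713 L650598 q11539, e3 q13714 L650607 q11540, e3 q13715 L650620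 q11541, e3 q13716 L650626 q11542, e3 q13717 L650636 q11543, e3 q13718 L650643 q11544, e3 q13719 L650653 q11546, e3 q13720 L650661 q11547, e3 q13721 (flp_j L672591) q15924, e3 q13722 (flp_j L672414) q15905, e3 q13723 (flp_j L672599) q15925, e3 q13724 (flp_j L672612) q15926, e3 q13725 (flp_j L672553) q15920, e3 q13726 L672688 q15936, e3 q13727 (flp_j L672620) q15927, e3 q13728 (flp_j L672629) q15928, e3 q13729 (flp_j L672500) q15913, e3 q13730 (flp_j L650734) q11545, e3 q13731 (flp_j L672730) q15941, e3 q13732 (flp_j L672637) q15929, e3 q13733 L650762 q13733, e3 q13734 L650772 q13734, e3 q13735 L650779 q13735, e3 q13736 L672769 q15946, e3 q13737 L650796 q13737, e3 q13738 L650804 q13738, e3 q13739 L650811 q13739, e3 q13740 (flp_j L650815) q11553, e3 q13741 (flp_j L672809) q15950, e3 q13742 L650836 q13742, e3 q13743 L650840 q13743, e3 q13744 L650845 q13744, e3 q13745 L650856 q11558, e3 q13746 (flp_j L672579) q15923, e3 q13747 (flp_j L650865) q11560, e3 q13748 (flp_j L672837) q15954, e3 q13749 L650884 q11563, e3 q13750 (flp_j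 L662237) q14768, e3 q13751 (flp_j L671356) q15773, e3 q13752 (flp_j L672490) q15912, e3 q13753 (flp_j L662496) q14794, e3 q13754 (flp_j L672228) q15886, e3 q13755 (flp_j L672469) q15910, e3 q13756 (flp_j L662510) q14795, e3 q13757 (flp_j L672477) q15911, e3 q13758 (flp_j L650934) q11593, e3 q13759 L650953 q11601, trivial⟩ (by decide +kernel)

theorem ce_j_215 : ∀ r, r < 64 → sm gj (Qf (13760 + r)) = Qf (tab Gen.j (13760 + r)) :=
  edges_tab (sm gj) Qf (tab Gen.j) 13760 [(13760, 11597), (13761, 11628), (13762, 11634), (13763, 11639), (13764, 11637), (13765, 11610), (13766, 13921), (13767, 11621), (13768, 11622), (13769, 11631), (13770, 11626), (13771, 14689), (13772, 15145), (13773, 11647), (13774, 14688), (13775, 14722), (13776, 15213), (13777, 15216), (13778, 15966), (13779, 15203), (13780, 11640), (13781, 15968), (13782, 11642), (13783, 11644), (13784, 14625), (13785, 14728), (13786, 11651), (13787, 14632), (13788, 14035), (13789, 14051), (13790, 11665), (13791, 11666), (13792, 15943), (13793, 15973), (13794, 15974), (13795,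 13847), (13796, 11674), (13797, 11675), (13798, 11684), (13799, 11685), (13800, 11686), (13801, 13107), (13802, 13580), (13803, 13581), (13804, 13079), (13805, 13082), (13806, 13571), (13807, 15986), (13808, 15978), (13809, 15979), (13810, 13810), (13811, 13811), (13812, 13812), (13813, 13813), (13814, 15992), (13815, 13815), (13816, 13816), (13817, 13817), (13818, 13208), (13819, 13604), (13820, 13605), (13821, 15999), (13822, 13822), (13823, 13823)]
    ⟨e3 q13760 L650969 q11597, e3 q13761 L650987 q11628, e3 q13762 L651005 q11634, e3 q13763 L651017 q11639, e3 q13764 L651029 q11637, e3 q13765 (flp_j L651031) q11610, e3 q13766 (flp_j L653005) q13921, e3 q13767 (flp_j L651043) q11621, e3 q13768 (flp_j L651048) q11622, e3 q13769 L651069 q11631, e3 q13770 L651086 q11626, e3 q13771 (flp_j L661375) q14689, e3 q13772 (flp_j L666183) q15145, e3 q13773 L651116 q11647, e3 q13774 (flp_j L661357) q14688, e3 q13775 (flp_j L661727) q14722, e3 q13776 (flp_j L666854) q15213, e3 q13777 (flp_j L666887) q15216, e3 q13778 L672899 q15966, e3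 q13779 (flp_j L666764) q15203, e3 q13780 (flp_j L651156) q11640, e3 q13781 (flp_j L672918) q15968, e3 q13782 (flp_j L651169) q11642, e3 q13783 (flp_j L651176) q11644, e3 q13784 (flp_j L660662) q14625, e3 q13785 (flp_j L661824) q14728, e3 q13786 L651203 q11651, e3 q13787 (flp_j L660754) q14632, e3 q13788 (flp_j L654471) q14035, e3 q13789 (flp_j L654673) q14051, e3 q13790 L651231 q11665, e3 q13791 L651240 q11666, e3 q13792 L672749 q15943, e3 q13793 (flp_j L672954) q15973, e3 q13794 (flp_j L672960) q15974, e3 q13795 (flp_j L651926) q13847, e3 q13796 L651276 q11674, e3 q13797 (flp_j L651278) q11675, e3 q13798 L651293 q11684, e3 q13799 L651309 q11685, e3 q13800 L651321 q11686, e3 q13801 L651334 q13107, e3 q13802 L651352 q13580, e3 q13803 L651366 q13581, e3 q13804 L651379 q13079, e3 q13805 L651397 q13082, e3 q13806 L651410 q13571, e3 q13807 L673121 q15986, e3 q13808 (flp_j L673003) q15978, e3 q13809 (flp_j L673015) q15979, e3 q13810 L651455 q13810, e3 q13811 L651470 q13811, e3 q13812 L651480 q13812, e3 q13813 L651497 q13813, e3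 q13814 L673204 q15992, e3 q13815 L651525 q13815, e3 q13816 L651534 q13816, e3 q13817 L651548 q13817, e3 q13818 L651560 q13208, e3 q13819 L651578 q13604, e3 q13820 L651591 q13605, e3 q13821 L673305 q15999, e3 q13822 L651620 q13822, e3 q13823 L651630 q13823, trivial⟩ (by decide +kernel)

theorem ce_j_216 : ∀ r, r < 64 → sm gj (Qf (13824 + r)) = Qf (tab Gen.j (13824 + r)) :=
  edges_tab (sm gj) Qf (tab Gen.j) 13824 [(13824, 11701), (13825, 16002), (13826, 13826), (13827, 13827), (13828, 13672), (13829, 13673), (13830, 13674), (13831, 13831), (13832, 13832), (13833, 12864), (13834, 12865), (13835, 12866), (13836, 11713), (13837, 11714), (13838, 11715), (13839, 16012), (13840, 16013), (13841, 16014), (13842, 13842), (13843, 13843), (13844, 13844), (13845, 13616), (13846, 12751), (13847, 13795), (13848, 11725), (13849, 12733), (13850, 12737), (13851, 11773), (13852, 11734), (13853, 11735), (13854, 13614), (13855, 11788), (13856, 13613), (13857, 11740), (13858, 16023), (13859, 11792), (13860, 11793), (13861, 11743), (13862, 16029),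 (13863, 13603), (13864, 11797), (13865, 11798), (13866, 11799), (13867, 11749), (13868, 12789), (13869, 11805), (13870, 11806), (13871, 13611), (13872, 11821), (13873, 11825), (13874, 11827), (13875, 11832), (13876, 11833), (13877, 11837), (13878, 11838), (13879, 11839), (13880, 11771), (13881, 16042), (13882, 11847), (13883, 11848), (13884, 12784), (13885, 12788), (13886, 11854), (13887, 11855)]
    ⟨e3 q13824 (flp_j L651634) q11701, e3 q13825 (flp_j L673353) q16002, e3 q13826 L651657 q13826, e3 q13827 L651662 q13827, e3 q13828 L651676 q13672, e3 q13829 L651697 q13673, e3 q13830 L651711 q13674, e3 q13831 L651728 q13831, e3 q13832 L651738 q13832, e3 q13833 L651750 q12864, e3 q13834 L651766 q12865, e3 q13835 L651778 q12866, e3 q13836 L651790 q11713, e3 q13837 L651806 q11714, e3 q13838 L651818 q11715, e3 q13839 (flp_j L673484) q16012, e3 q13840 (flp_j L673500) q16013, e3 q13841 (flp_j L673512) q16014, e3 q13842 L651863 q13842, e3 q13843 L651871 q13843, e3 q13844 L651877 q13844, e3 q13845 L651895 q13616, e3 q13846 L651911 q12751,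 e3 q13847 L651926 q13795, e3 q13848 (flp_j L651935) q11725, e3 q13849 L651967 q12733, e3 q13850 L651983 q12737, e3 q13851 L652001 q11773, e3 q13852 (flp_j L652011) q11734, e3 q13853 (flp_j L652029) q11735, e3 q13854 (flp_j L652062) q13614, e3 q13855 L652079 q11788, e3 q13856 (flp_j L652096) q13613, e3 q13857 (flp_j L652100) q11740, e3 q13858 (flp_j L673628) q16023, e3 q13859 L652140 q11792, e3 q13860 L652154 q11793, e3 q13861 L652169 q11743, e3 q13862 (flp_j L673717) q16029, e3 q13863 L652195 q13603, e3 q13864 L652206 q11797, e3 q13865 L652222 q11798, e3 q13866 L652234 q11799, e3 q13867 L652251 q11749, e3 q13868 L652271 q12789, e3 q13869 L652284 q11805, e3 q13870 L652303 q11806, e3 q13871 (flp_j L652322) q13611, e3 q13872 L652339 q11821, e3 q13873 L652354 q11825, e3 q13874 L652373 q11827, e3 q13875 L652383 q11832, e3 q13876 L652403 q11833, e3 q13877 L652417 q11837, e3 q13878 L652435 q11838, e3 q13879 L652446 q11839, e3 q13880 (flp_j L652451) q11771, e3 q13881 (flp_j L673931) q16042, e3 q13882 L652489 q11847, e3 q13883 L652506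 q11848, e3 q13884 L652516 q12784, e3 q13885 L652534 q12788, e3 q13886 L652544 q11854, e3 q13887 L652564 q11855, trivial⟩ (by decide +kernel)

theorem ce_j_217 : ∀ r, r < 64 → sm gj (Qf (13888 + r)) = Qf (tab Gen.j (13888 + r)) :=
  edges_tab (sm gj) Qf (tab Gen.j) 13888 [(13888, 11856), (13889, 11860), (13890, 11861), (13891, 11862), (13892, 16055), (13893, 11864), (13894, 11865), (13895, 11874), (13896, 16058), (13897, 11787), (13898, 13629), (13899, 16021), (13900, 16022), (13901, 11789), (13902, 16066), (13903, 11791), (13904, 16069), (13905, 16070), (13906, 16026), (13907, 16027), (13908, 16028), (13909, 11795), (13910, 11796), (13911, 16079), (13912, 16080), (13913, 16032), (13914, 16033), (13915, 12735), (13916, 11801), (13917, 12838), (13918, 16085), (13919, 11803), (13920, 11804), (13921, 13766), (13922, 12848), (13923, 12141), (13924, 16034), (13925, 12771), (13926, 11811), (13927, 12851), (13928, 13104), (13929, 12860), (13930, 12128), (13931, 12158), (13932, 12101), (13933, 16097), (13934, 16098), (13935, 11820),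 (13936, 13617), (13937, 16035), (13938, 16036), (13939, 13618), (13940, 13110), (13941, 13583), (13942, 13591), (13943, 16037), (13944, 16065), (13945, 11828), (13946, 11829), (13947, 13619), (13948, 13236), (13949, 13620), (13950, 13092), (13951, 16038)]
    ⟨e3 q13888 L652576 q11856, e3 q13889 L652586 q11860, e3 q13890 L652603 q11861, e3 q13891 L652617 q11862, e3 q13892 L674121 q16055, e3 q13893 L652636 q11864, e3 q13894 L652645 q11865, e3 q13895 L652662 q11874, e3 q13896 L674165 q16058, e3 q13897 (flp_j L652682) q11787, e3 q13898 L652710 q13629, e3 q13899 (flp_j L673591) q16021, e3 q13900 (flp_j L673610) q16022, e3 q13901 (flp_j L652735) q11789, e3 q13902 (flp_j L674303) q16066, e3 q13903 L652773 q11791, e3 q13904 (flp_j L674339) q16069, e3 q13905 (flp_j L674357) q16070, e3 q13906 (flp_j L673676) q16026, e3 q13907 (flp_j L673690) q16027, e3 q13908 (flp_j L673706) q16028, e3 q13909 L652833 q11795, e3 q13910 L652849 q11796, e3 q13911 (flp_j L674453) q16079, e3 q13912 (flp_j L674469) q16080, e3 q13913 (flp_j L673766) q16032,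 e3 q13914 (flp_j L673779) q16033, e3 q13915 L652913 q12735, e3 q13916 L652929 q11801, e3 q13917 L652943 q12838, e3 q13918 (flp_j L674538) q16085, e3 q13919 L652973 q11803, e3 q13920 L652994 q11804, e3 q13921 L653005 q13766, e3 q13922 L653020 q12848, e3 q13923 L653029 q12141, e3 q13924 (flp_j L673797) q16034, e3 q13925 L653055 q12771, e3 q13926 L653074 q11811, e3 q13927 L653091 q12851, e3 q13928 L653104 q13104, e3 q13929 L653120 q12860, e3 q13930 L653131 q12128, e3 q13931 L653145 q12158, e3 q13932 L653157 q12101, e3 q13933 L674699 q16097, e3 q13934 L674718 q16098, e3 q13935 (flp_j L653195) q11820, e3 q13936 L653221 q13617, e3 q13937 (flp_j L673811) q16035, e3 q13938 (flp_j L673832) q16036, e3 q13939 L653261 q13618, e3 q13940 L653275 q13110, e3 q13941 L653294 q13583, e3 q13942 L653311 q13591, e3 q13943 (flp_j L673849) q16037, e3 q13944 (flp_j L674285) q16065, e3 q13945 (flp_j L653344) q11828, e3 q13946 (flp_j L653359) q11829, e3 q13947 L653385 q13619, e3 q13948 L653393 q13236, e3 q13949 L653411 q13620, e3 q13950 L653423 q13092,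 e3 q13951 (flp_j L673868) q16038, trivial⟩ (by decide +kernel)

theorem ce_j_218 : ∀ r, r < 64 → sm gj (Qf (13952 + r)) = Qf (tab Gen.j (13952 + r)) :=
  edges_tab (sm gj) Qf (tab Gen.j) 13952 [(13952, 13106), (13953, 13111), (13954, 13584), (13955, 16116), (13956, 16040), (13957, 16041), (13958, 12804), (13959, 13622), (13960, 12753), (13961, 11844), (13962, 16119), (13963, 11846), (13964, 16122), (13965, 16123), (13966, 16045), (13967, 16046), (13968, 12817), (13969, 11850), (13970, 16129), (13971, 16130), (13972, 11852), (13973, 11853), (13974, 12782), (13975, 13199), (13976, 16134), (13977, 13058), (13978, 13072), (13979, 16048), (13980, 16049), (13981, 16050), (13982, 16051), (13983, 13207), (13984, 13211), (13985, 13607), (13986, 16149), (13987, 16053), (13988, 16054), (13989, 11863), (13990, 16153), (13991, 16057), (13992, 11869), (13993, 12781), (13994, 12787), (13995, 12783), (13996, 13059), (13997, 13052), (13998, 16156), (13999, 11880), (14000, 16159), (14001, 11882), (14002, 16162), (14003, 16163), (14004, 14004),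 (14005, 14005), (14006, 14006), (14007, 12877), (14008, 11886), (14009, 16171), (14010, 16172), (14011, 11888), (14012, 11889), (14013, 16176), (14014, 16177), (14015, 16178)]
    ⟨e3 q13952 L653447 q13106, e3 q13953 L653462 q13111, e3 q13954 L653474 q13584, e3 q13955 L674995 q16116, e3 q13956 (flp_j L673900) q16040, e3 q13957 (flp_j L673913) q16041, e3 q13958 L653528 q12804, e3 q13959 L653543 q13622, e3 q13960 L653560 q12753, e3 q13961 (flp_j L653566) q11844, e3 q13962 (flp_j L675053) q16119, e3 q13963 L653603 q11846, e3 q13964 (flp_j L675091) q16122, e3 q13965 (flp_j L675110) q16123, e3 q13966 (flp_j L673982) q16045, e3 q13967 (flp_j L674001) q16046, e3 q13968 L653663 q12817, e3 q13969 L653677 q11850, e3 q13970 (flp_j L675187) q16129, e3 q13971 (flp_j L675203) q16130, e3 q13972 L653707 q11852, e3 q13973 L653725 q11853, e3 q13974 L653733 q12782, e3 q13975 L653753 q13199, e3 q13976 (flp_j L675253) q16134, e3 q13977 L653773 q13058, e3 q13978 L653793 q13072, e3 q13979 (flp_j L674035) q16048, e3 q13980 (flp_j L674047) q16049,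 e3 q13981 (flp_j L674067) q16050, e3 q13982 (flp_j L674075) q16051, e3 q13983 L653839 q13207, e3 q13984 L653856 q13211, e3 q13985 L653870 q13607, e3 q13986 L675433 q16149, e3 q13987 (flp_j L674104) q16053, e3 q13988 (flp_j L674118) q16054, e3 q13989 (flp_j L653895) q11863, e3 q13990 (flp_j L675482) q16153, e3 q13991 (flp_j L674160) q16057, e3 q13992 L653933 q11869, e3 q13993 L653945 q12781, e3 q13994 L653965 q12787, e3 q13995 L653981 q12783, e3 q13996 L653999 q13059, e3 q13997 L654018 q13052, e3 q13998 L675517 q16156, e3 q13999 (flp_j L654036) q11880, e3 q14000 (flp_j L675570) q16159, e3 q14001 L654069 q11882, e3 q14002 (flp_j L675604) q16162, e3 q14003 (flp_j L675617) q16163, e3 q14004 L654099 q14004, e3 q14005 L654115 q14005, e3 q14006 L654131 q14006, e3 q14007 L654143 q12877, e3 q14008 L654155 q11886, e3 q14009 (flp_j L675721) q16171, e3 q14010 (flp_j L675733) q16172, e3 q14011 L654188 q11888, e3 q14012 L654201 q11889, e3 q14013 (flp_j L675772) q16176, e3 q14014 (flp_j L675785) q16177, e3 q14015 (flp_j L675798) q16178,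 trivial⟩ (by decide +kernel)

theorem ce_j_219 : ∀ r, r < 64 → sm gj (Qf (14016 + r)) = Qf (tab Gen.j (14016 + r)) :=
  edges_tab (sm gj) Qf (tab Gen.j) 14016 [(14016, 14016), (14017, 14017), (14018, 14018), (14019, 14019), (14020, 14020), (14021, 11895), (14022, 11896), (14023, 16189), (14024, 16190), (14025, 16191), (14026, 14026), (14027, 12842), (14028, 11901), (14029, 11902), (14030, 16196), (14031, 13006), (14032, 16197), (14033, 11905), (14034, 11906), (14035, 13788), (14036, 16203), (14037, 16204), (14038, 14038), (14039, 14039), (14040, 14040), (14041, 12855), (14042, 11913), (14043, 11915), (14044, 13529), (14045, 12723), (14046, 16210), (14047, 13025), (14048, 16211), (14049, 11919), (14050, 11920), (14051, 13789), (14052, 16217), (14053, 14053), (14054, 14054), (14055, 14055), (14056, 16223), (14057, 11924), (14058, 16225), (14059, 14059), (14060, 14060), (14061, 11926), (14062, 16230), (14063, 11928), (14064, 16233), (14065, 16234), (14066, 14066), (14067, 14067), (14068, 14068), (14069, 11933), (14070, 13640),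 (14071, 13641), (14072, 14072), (14073, 14073), (14074, 14074), (14075, 14075), (14076, 16158), (14077, 11939), (14078, 16247), (14079, 11941)]
    ⟨e3 q14016 L654239 q14016, e3 q14017 L654256 q14017, e3 q14018 L654272 q14018, e3 q14019 L654285 q14019, e3 q14020 L654294 q14020, e3 q14021 L654305 q11895, e3 q14022 L654318 q11896, e3 q14023 (flp_j L675927) q16189, e3 q14024 (flp_j L675940) q16190, e3 q14025 (flp_j L675952) q16191, e3 q14026 L654364 q14026, e3 q14027 L654377 q12842, e3 q14028 L654391 q11901, e3 q14029 L654404 q11902, e3 q14030 (flp_j L676019) q16196, e3 q14031 L654425 q13006, e3 q14032 (flp_j L676038) q16197, e3 q14033 L654449 q11905, e3 q14034 L654464 q11906, e3 q14035 L654471 q13788, e3 q14036 (flp_j L676113) q16203, e3 q14037 (flp_j L676123) q16204, e3 q14038 L654510 q14038, e3 q14039 L654523 q14039, e3 q14040 L654533 q14040, e3 q14041 L654547 q12855, e3 q14042 L654560 q11913, e3 q14043 L654578 q11915, e3 q14044 L654588 q13529, e3 q14045 L654600 q12723, e3 q14046 (flp_j L676203) q16210, e3 q14047 L654627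 q13025, e3 q14048 (flp_j L676214) q16211, e3 q14049 L654650 q11919, e3 q14050 L654657 q11920, e3 q14051 L654673 q13789, e3 q14052 (flp_j L676293) q16217, e3 q14053 L654696 q14053, e3 q14054 L654704 q14054, e3 q14055 L654711 q14055, e3 q14056 L676362 q16223, e3 q14057 (flp_j L654733) q11924, e3 q14058 (flp_j L676404) q16225, e3 q14059 L654766 q14059, e3 q14060 L654784 q14060, e3 q14061 (flp_j L654787) q11926, e3 q14062 (flp_j L676475) q16230, e3 q14063 L654819 q11928, e3 q14064 (flp_j L676507) q16233, e3 q14065 (flp_j L676521) q16234, e3 q14066 L654848 q14066, e3 q14067 L654864 q14067, e3 q14068 L654881 q14068, e3 q14069 L654894 q11933, e3 q14070 L654908 q13640, e3 q14071 L654925 q13641, e3 q14072 L654942 q14072, e3 q14073 L654955 q14073, e3 q14074 L654964 q14074, e3 q14075 L654976 q14075, e3 q14076 (flp_j L675559) q16158, e3 q14077 (flp_j L654992) q11939, e3 q14078 (flp_j L676699) q16247, e3 q14079 L655019 q11941, trivial⟩ (by decide +kernel)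

theorem ce_j_220 : ∀ r, r < 64 → sm gj (Qf (14080 + r)) = Qf (tab Gen.j (14080 + r)) :=
  edges_tab (sm gj) Qf (tab Gen.j) 14080 [(14080, 16250), (14081, 16251), (14082, 14082), (14083, 14083), (14084, 14084), (14085, 12927), (14086, 11945), (14087, 16259), (14088, 16260), (14089, 11947), (14090, 11948), (14091, 13706), (14092, 13642), (14093, 16264), (14094, 14094), (14095, 14095), (14096, 14096), (14097, 14097), (14098, 13261), (14099, 13643), (14100, 13644), (14101, 16276), (14102, 14102), (14103, 14103), (14104, 11958), (14105, 16280), (14106, 14106), (14107, 12945), (14108, 11964), (14109, 13707), (14110, 13711), (14111, 13708), (14112, 13712), (14113, 14113), (14114, 11970), (14115, 16287), (14116, 12960), (14117, 11972), (14118, 16291), (14119, 16292), (14120, 11974), (14121, 11975), (14122, 16296), (14123, 16297), (14124, 16298), (14125, 14125), (14126, 14126), (14127, 14127), (14128, 14128), (14129, 14129), (14130, 14130), (14131, 12975), (14132, 11981), (14133, 11982), (14134, 16313), (14135, 16314), (14136, 16315),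 (14137, 11985), (14138, 11986), (14139, 11987), (14140, 16322), (14141, 13689), (14142, 16323), (14143, 16324)]
    ⟨e3 q14080 (flp_j L676727) q16250, e3 q14081 (flp_j L676742) q16251, e3 q14082 L655045 q14082, e3 q14083 L655061 q14083, e3 q14084 L655075 q14084, e3 q14085 L655085 q12927, e3 q14086 L655097 q11945, e3 q14087 (flp_j L676842) q16259, e3 q14088 (flp_j L676856) q16260, e3 q14089 L655124 q11947, e3 q14090 L655139 q11948, e3 q14091 L655149 q13706, e3 q14092 L655165 q13642, e3 q14093 (flp_j L676901) q16264, e3 q14094 L655191 q14094, e3 q14095 L655202 q14095, e3 q14096 L655217 q14096, e3 q14097 L655224 q14097, e3 q14098 L655233 q13261, e3 q14099 L655248 q13643, e3 q14100 L655260 q13644, e3 q14101 L677040 q16276, e3 q14102 L655288 q14102, e3 q14103 L655297 q14103, e3 q14104 (flp_j L655299) q11958, e3 q14105 (flp_j L677097) q16280, e3 q14106 L655327 q14106, e3 q14107 L655341 q12945, e3 q14108 L655356 q11964, e3 q14109 L655370 q13707, e3 q14110 L655388 q13711, e3 q14111 L655402 q13708, e3 q14112 L655413 q13712, e3 q14113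 L655430 q14113, e3 q14114 (flp_j L655432) q11970, e3 q14115 (flp_j L677197) q16287, e3 q14116 L655464 q12960, e3 q14117 L655473 q11972, e3 q14118 (flp_j L677236) q16291, e3 q14119 (flp_j L677247) q16292, e3 q14120 L655499 q11974, e3 q14121 L655510 q11975, e3 q14122 (flp_j L677281) q16296, e3 q14123 (flp_j L677297) q16297, e3 q14124 (flp_j L677309) q16298, e3 q14125 L655541 q14125, e3 q14126 L655558 q14126, e3 q14127 L655572 q14127, e3 q14128 L655582 q14128, e3 q14129 L655594 q14129, e3 q14130 L655601 q14130, e3 q14131 L655613 q12975, e3 q14132 L655621 q11981, e3 q14133 L655631 q11982, e3 q14134 (flp_j L677471) q16313, e3 q14135 (flp_j L677479) q16314, e3 q14136 (flp_j L677489) q16315, e3 q14137 L655662 q11985, e3 q14138 L655677 q11986, e3 q14139 L655688 q11987, e3 q14140 (flp_j L677546) q16322, e3 q14141 L655706 q13689, e3 q14142 (flp_j L677561) q16323, e3 q14143 (flp_j L677573) q16324, trivial⟩ (by decide +kernel)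

theorem ce_j_221 : ∀ r, r < 64 → sm gj (Qf (14144 + r)) = Qf (tab Gen.j (14144 + r)) :=
  edges_tab (sm gj) Qf (tab Gen.j) 14144 [(14144, 16325), (14145, 16326), (14146, 14146), (14147, 14147), (14148, 14148), (14149, 14149), (14150, 14150), (14151, 14151), (14152, 16343), (14153, 14153), (14154, 14154), (14155, 11996), (14156, 11997), (14157, 11998), (14158, 16350), (14159, 16348), (14160, 16349), (14161, 11999), (14162, 16354), (14163, 14163), (14164, 14164), (14165, 12003), (14166, 16358), (14167, 13007), (14168, 12008), (14169, 12010), (14170, 16359), (14171, 12889), (14172, 16360), (14173, 12890), (14174, 16361), (14175, 12013), (14176, 12014), (14177, 12015), (14178, 16369), (14179, 16370), (14180, 16371), (14181, 14181), (14182, 14182), (14183, 14183), (14184, 12022), (14185, 12024), (14186, 12026), (14187, 16378), (14188, 12899), (14189, 16379), (14190, 12900), (14191, 16380), (14192, 12901), (14193, 12030), (14194, 12031), (14195, 12032), (14196, 16387), (14197, 16388), (14198, 16389), (14199, 14199), (14200, 14200),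 (14201, 14201), (14202, 12170), (14203, 12172), (14204, 12173), (14205, 12174), (14206, 12176), (14207, 12177)]
    ⟨e3 q14144 (flp_j L677588) q16325, e3 q14145 (flp_j L677595) q16326, e3 q14146 L655748 q14146, e3 q14147 L655763 q14147, e3 q14148 L655780 q14148, e3 q14149 L655791 q14149, e3 q14150 L655806 q14150, e3 q14151 L655813 q14151, e3 q14152 L677777 q16343, e3 q14153 L655832 q14153, e3 q14154 L655839 q14154, e3 q14155 L655848 q11996, e3 q14156 L655864 q11997, e3 q14157 L655877 q11998, e3 q14158 L677852 q16350, e3 q14159 (flp_j L677836) q16348, e3 q14160 (flp_j L677849) q16349, e3 q14161 (flp_j L655902) q11999, e3 q14162 (flp_j L677888) q16354, e3 q14163 L655926 q14163, e3 q14164 L655932 q14164, e3 q14165 L655941 q12003, e3 q14166 (flp_j L677922) q16358, e3 q14167 L655957 q13007, e3 q14168 L655967 q12008, e3 q14169 L655982 q12010, e3 q14170 (flp_j L677933) q16359, e3 q14171 L656001 q12889, e3 q14172 (flp_j L677948) q16360, e3 q14173 L656028 q12890, e3 q14174 (flp_j L677960) q16361, e3 q14175 L656044 q12013, e3 q14176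 L656058 q12014, e3 q14177 L656069 q12015, e3 q14178 (flp_j L678056) q16369, e3 q14179 (flp_j L678070) q16370, e3 q14180 (flp_j L678081) q16371, e3 q14181 L656110 q14181, e3 q14182 L656119 q14182, e3 q14183 L656125 q14183, e3 q14184 L656135 q12022, e3 q14185 L656149 q12024, e3 q14186 L656158 q12026, e3 q14187 (flp_j L678150) q16378, e3 q14188 L656177 q12899, e3 q14189 (flp_j L678164) q16379, e3 q14190 L656207 q12900, e3 q14191 (flp_j L678175) q16380, e3 q14192 L656228 q12901, e3 q14193 L656238 q12030, e3 q14194 L656249 q12031, e3 q14195 L656257 q12032, e3 q14196 (flp_j L678262) q16387, e3 q14197 (flp_j L678269) q16388, e3 q14198 (flp_j L678276) q16389, e3 q14199 L656291 q14199, e3 q14200 L656299 q14200, e3 q14201 L656306 q14201, e3 q14202 L656322 q12170, e3 q14203 L656335 q12172, e3 q14204 L656356 q12173, e3 q14205 L656372 q12174, e3 q14206 L656382 q12176, e3 q14207 L656401 q12177, trivial⟩ (by decide +kernel)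

theorem ce_j_222 : ∀ r, r < 64 → sm gj (Qf (14208 + r)) = Qf (tab Gen.j (14208 + r)) :=
  edges_tab (sm gj) Qf (tab Gen.j) 14208 [(14208, 12180), (14209, 12183), (14210, 12184), (14211, 12186), (14212, 12187), (14213, 12191), (14214, 12192), (14215, 12050), (14216, 12052), (14217, 12053), (14218, 16401), (14219, 12201), (14220, 12202), (14221, 12203), (14222, 16405), (14223, 12206), (14224, 12058), (14225, 16409), (14226, 12209), (14227, 16411), (14228, 12211), (14229, 16415), (14230, 12062), (14231, 16417), (14232, 12215), (14233, 12216), (14234, 12065), (14235, 16423), (14236, 12220), (14237, 12221), (14238, 12222), (14239, 12069), (14240, 16427), (14241, 12071), (14242, 16429), (14243, 12228), (14244, 12229), (14245, 12075), (14246, 12076), (14247, 13626), (14248, 12234), (14249, 12235), (14250, 12078), (14251, 16437), (14252, 12080), (14253, 16440), (14254, 16441), (14255, 12241), (14256, 12242), (14257, 12243), (14258, 12084), (14259, 12085), (14260, 16448), (14261, 12248), (14262, 12249), (14263, 12250), (14264, 12252),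 (14265, 12253), (14266, 12739), (14267, 12092), (14268, 16096), (14269, 12094), (14270, 12095), (14271, 16453)]
    ⟨e3 q14208 L656418 q12180, e3 q14209 L656430 q12183, e3 q14210 L656446 q12184, e3 q14211 L656461 q12186, e3 q14212 L656469 q12187, e3 q14213 L656482 q12191, e3 q14214 L656496 q12192, e3 q14215 L656513 q12050, e3 q14216 L656525 q12052, e3 q14217 L656544 q12053, e3 q14218 (flp_j L678443) q16401, e3 q14219 L656568 q12201, e3 q14220 L656582 q12202, e3 q14221 L656590 q12203, e3 q14222 L678489 q16405, e3 q14223 L656620 q12206, e3 q14224 (flp_j L656622) q12058, e3 q14225 (flp_j L678560) q16409, e3 q14226 L656654 q12209, e3 q14227 L678580 q16411, e3 q14228 L656682 q12211, e3 q14229 L678638 q16415, e3 q14230 (flp_j L656699) q12062, e3 q14231 (flp_j L678678) q16417, e3 q14232 L656727 q12215, e3 q14233 L656739 q12216, e3 q14234 L656752 q12065, e3 q14235 (flp_j L678759) q16423, e3 q14236 L656777 q12220, e3 q14237 L656790 q12221, e3 q14238 L656797 q12222, e3 q14239 (flp_j L656802) q12069, e3 q14240 (flp_j L678817) q16427,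 e3 q14241 L656834 q12071, e3 q14242 (flp_j L678846) q16429, e3 q14243 L656859 q12228, e3 q14244 L656871 q12229, e3 q14245 L656883 q12075, e3 q14246 (flp_j L656887) q12076, e3 q14247 L656913 q13626, e3 q14248 L656919 q12234, e3 q14249 L656929 q12235, e3 q14250 (flp_j L656933) q12078, e3 q14251 (flp_j L678937) q16437, e3 q14252 L656965 q12080, e3 q14253 (flp_j L678980) q16440, e3 q14254 (flp_j L678998) q16441, e3 q14255 L656985 q12241, e3 q14256 L656991 q12242, e3 q14257 L657001 q12243, e3 q14258 L657010 q12084, e3 q14259 L657026 q12085, e3 q14260 (flp_j L679075) q16448, e3 q14261 L657045 q12248, e3 q14262 L657056 q12249, e3 q14263 L657062 q12250, e3 q14264 L657081 q12252, e3 q14265 L657090 q12253, e3 q14266 L657103 q12739, e3 q14267 L657116 q12092, e3 q14268 (flp_j L674693) q16096, e3 q14269 L657143 q12094, e3 q14270 L657158 q12095, e3 q14271 (flp_j L679145) q16453, trivial⟩ (by decide +kernel)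

theorem ce_j_223 : ∀ r, r < 64 → sm gj (Qf (14272 + r)) = Qf (tab Gen.j (14272 + r)) :=
  edges_tab (sm gj) Qf (tab Gen.j) 14272 [(14272, 12262), (14273, 12263), (14274, 12264), (14275, 12104), (14276, 13185), (14277, 12276), (14278, 12277), (14279, 12278), (14280, 12281), (14281, 12109), (14282, 13624), (14283, 12285), (14284, 12286), (14285, 13625), (14286, 12114), (14287, 16465), (14288, 12292), (14289, 12293), (14290, 12116), (14291, 16090), (14292, 12118), (14293, 16474), (14294, 16475), (14295, 12299), (14296, 12300), (14297, 12301), (14298, 12123), (14299, 13213), (14300, 13608), (14301, 12306), (14302, 12307), (14303, 13077), (14304, 16095), (14305, 12131), (14306, 13178), (14307, 13183), (14308, 12316), (14309, 12317), (14310, 12318), (14311, 12135), (14312, 16493), (14313, 12137), (14314, 16496), (14315, 16497), (14316, 12325), (14317, 12326), (14318, 12327), (14319, 13087), (14320, 16074), (14321, 16091), (14322, 12143), (14323, 12144), (14324, 13164), (14325, 13201), (14326, 16509), (14327, 12337), (14328, 12338),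 (14329, 12339), (14330, 12340), (14331, 12341), (14332, 12342), (14333, 13214), (14334, 13609), (14335, 16524)]
    ⟨e3 q14272 L657178 q12262, e3 q14273 L657189 q12263, e3 q14274 L657197 q12264, e3 q14275 L657213 q12104, e3 q14276 L657226 q13185, e3 q14277 L657239 q12276, e3 q14278 L657253 q12277, e3 q14279 L657264 q12278, e3 q14280 L657280 q12281, e3 q14281 (flp_j L657282) q12109, e3 q14282 L657306 q13624, e3 q14283 L657314 q12285, e3 q14284 L657325 q12286, e3 q14285 L657339 q13625, e3 q14286 (flp_j L657341) q12114, e3 q14287 (flp_j L679292) q16465, e3 q14288 L657365 q12292, e3 q14289 L657377 q12293, e3 q14290 (flp_j L657379) q12116, e3 q14291 (flp_j L674609) q16090, e3 q14292 L657411 q12118, e3 q14293 (flp_j L679384) q16474, e3 q14294 (flp_j L679402) q16475, e3 q14295 L657435 q12299, e3 q14296 L657443 q12300, e3 q14297 L657455 q12301, e3 q14298 L657470 q12123, e3 q14299 L657481 q13213, e3 q14300 L657496 q13608, e3 q14301 L657505 q12306, e3 q14302 L657514 q12307, e3 q14303 L657526 q13077, e3 q14304 (flp_j L674682) q16095,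 e3 q14305 L657549 q12131, e3 q14306 L657558 q13178, e3 q14307 L657571 q13183, e3 q14308 L657578 q12316, e3 q14309 L657591 q12317, e3 q14310 L657601 q12318, e3 q14311 (flp_j L657604) q12135, e3 q14312 (flp_j L679598) q16493, e3 q14313 L657636 q12137, e3 q14314 (flp_j L679633) q16496, e3 q14315 (flp_j L679651) q16497, e3 q14316 L657654 q12325, e3 q14317 L657661 q12326, e3 q14318 L657672 q12327, e3 q14319 L657685 q13087, e3 q14320 (flp_j L674399) q16074, e3 q14321 (flp_j L674624) q16091, e3 q14322 L657708 q12143, e3 q14323 L657724 q12144, e3 q14324 L657730 q13164, e3 q14325 L657742 q13201, e3 q14326 (flp_j L679772) q16509, e3 q14327 L657760 q12337, e3 q14328 L657768 q12338, e3 q14329 L657779 q12339, e3 q14330 L657785 q12340, e3 q14331 L657795 q12341, e3 q14332 L657801 q12342, e3 q14333 L657812 q13214, e3 q14334 L657822 q13609, e3 q14335 L679918 q16524, trivial⟩ (by decide +kernel)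

theorem ce_j_224 : ∀ r, r < 64 → sm gj (Qf (14336 + r)) = Qf (tab Gen.j (14336 + r)) :=
  edges_tab (sm gj) Qf (tab Gen.j) 14336 [(14336, 12349), (14337, 12350), (14338, 12154), (14339, 13632), (14340, 12353), (14341, 13179), (14342, 13184), (14343, 12365), (14344, 12366), (14345, 12367), (14346, 12380), (14347, 12381), (14348, 13592), (14349, 12189), (14350, 12190), (14351, 16393), (14352, 16394), (14353, 12181), (14354, 12182), (14355, 16395), (14356, 12179), (14357, 12226), (14358, 16536), (14359, 13121), (14360, 16396), (14361, 16397), (14362, 13597), (14363, 16398), (14364, 12386), (14365, 12387), (14366, 12218), (14367, 16534), (14368, 16039), (14369, 16399), (14370, 16400), (14371, 12195), (14372, 12196), (14373, 12729), (14374, 12660), (14375, 16550), (14376, 12199), (14377, 12200), (14378, 15980), (14379, 16554), (14380, 16555), (14381, 15977), (14382, 16403), (14383, 16404), (14384, 16471), (14385, 13070), (14386, 16563), (14387, 12205), (14388, 16565), (14389, 16407), (14390, 16408), (14391, 12208), (14392, 16569),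 (14393, 16570), (14394, 12210), (14395, 16572), (14396, 16413), (14397, 16414), (14398, 12212), (14399, 16579)]
    ⟨e3 q14336 L657838 q12349, e3 q14337 L657845 q12350, e3 q14338 (flp_j L657848) q12154, e3 q14339 L657867 q13632, e3 q14340 L657878 q12353, e3 q14341 L657892 q13179, e3 q14342 L657901 q13184, e3 q14343 L657913 q12365, e3 q14344 L657927 q12366, e3 q14345 L657936 q12367, e3 q14346 L657951 q12380, e3 q14347 L657962 q12381, e3 q14348 L657980 q13592, e3 q14349 L657992 q12189, e3 q14350 L658013 q12190, e3 q14351 (flp_j L678326) q16393, e3 q14352 (flp_j L678339) q16394, e3 q14353 L658045 q12181, e3 q14354 L658065 q12182, e3 q14355 (flp_j L678357) q16395, e3 q14356 L658093 q12179, e3 q14357 L658105 q12226, e3 q14358 (flp_j L680087) q16536, e3 q14359 L658128 q13121, e3 q14360 (flp_j L678374) q16396, e3 q14361 (flp_j L678383) q16397, e3 q14362 L658163 q13597, e3 q14363 (flp_j L678399) q16398, e3 q14364 L658184 q12386, e3 q14365 L658204 q12387, e3 q14366 L658217 q12218, e3 q14367 (flp_j L680056) q16534, e3 q14368 L673884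 q16039, e3 q14369 (flp_j L678415) q16399, e3 q14370 (flp_j L678424) q16400, e3 q14371 L658265 q12195, e3 q14372 L658284 q12196, e3 q14373 L658293 q12729, e3 q14374 L658307 q12660, e3 q14375 (flp_j L680285) q16550, e3 q14376 L658331 q12199, e3 q14377 L658342 q12200, e3 q14378 (flp_j L673032) q15980, e3 q14379 (flp_j L680336) q16554, e3 q14380 (flp_j L680349) q16555, e3 q14381 L672989 q15977, e3 q14382 (flp_j L678472) q16403, e3 q14383 (flp_j L678484) q16404, e3 q14384 (flp_j L679355) q16471, e3 q14385 L658422 q13070, e3 q14386 L680446 q16563, e3 q14387 (flp_j L658439) q12205, e3 q14388 (flp_j L680485) q16565, e3 q14389 (flp_j L678527) q16407, e3 q14390 (flp_j L678546) q16408, e3 q14391 L658491 q12208, e3 q14392 (flp_j L680529) q16569, e3 q14393 L680533 q16570, e3 q14394 (flp_j L658521) q12210, e3 q14395 (flp_j L680571) q16572, e3 q14396 (flp_j L678620) q16413, e3 q14397 (flp_j L678634) q16414, e3 q14398 (flp_j L658557) q12212, e3 q14399 (flp_j L680653) q16579, trivial⟩ (by decide +kernel)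

theorem ce_j_225 : ∀ r, r < 64 → sm gj (Qf (14400 + r)) = Qf (tab Gen.j (14400 + r)) :=
  edges_tab (sm gj) Qf (tab Gen.j) 14400 [(14400, 12214), (14401, 16582), (14402, 16583), (14403, 16420), (14404, 16421), (14405, 16422), (14406, 12219), (14407, 12260), (14408, 16546), (14409, 16424), (14410, 16425), (14411, 13139), (14412, 12224), (14413, 16538), (14414, 16596), (14415, 12227), (14416, 12246), (14417, 16539), (14418, 16030), (14419, 16430), (14420, 16431), (14421, 16229), (14422, 12231), (14423, 16604), (14424, 12233), (14425, 16607), (14426, 16608), (14427, 16434), (14428, 16435), (14429, 16436), (14430, 13155), (14431, 12237), (14432, 16619), (14433, 16620), (14434, 12239), (14435, 12240), (14436, 16585), (14437, 16584), (14438, 16624), (14439, 16443), (14440, 16418), (14441, 16444), (14442, 16445), (14443, 16446), (14444, 16447), (14445, 12247), (14446, 16597), (14447, 16599), (14448, 16639), (14449, 13268), (14450, 16450), (14451, 16451), (14452, 13648), (14453, 16452), (14454, 12853), (14455, 12256), (14456, 12257),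 (14457, 16591), (14458, 16648), (14459, 16649), (14460, 12261), (14461, 16113), (14462, 16592), (14463, 16655)]
    ⟨e3 q14400 L658589 q12214, e3 q14401 (flp_j L680683) q16582, e3 q14402 (flp_j L680697) q16583, e3 q14403 (flp_j L678714) q16420, e3 q14404 (flp_j L678730) q16421, e3 q14405 (flp_j L678744) q16422, e3 q14406 L658639 q12219, e3 q14407 L658651 q12260, e3 q14408 (flp_j L680229) q16546, e3 q14409 (flp_j L678777) q16424, e3 q14410 (flp_j L678785) q16425, e3 q14411 L658689 q13139, e3 q14412 L658700 q12224, e3 q14413 (flp_j L680110) q16538, e3 q14414 (flp_j L680844) q16596, e3 q14415 L658734 q12227, e3 q14416 L658746 q12246, e3 q14417 (flp_j L680130) q16539, e3 q14418 (flp_j L673734) q16030, e3 q14419 (flp_j L678862) q16430, e3 q14420 (flp_j L678871) q16431, e3 q14421 (flp_j L676462) q16229, e3 q14422 (flp_j L658796) q12231, e3 q14423 (flp_j L680943) q16604, e3 q14424 L658820 q12233, e3 q14425 (flp_j L680968) q16607, e3 q14426 (flp_j L680980) q16608, e3 q14427 (flp_j L678906) q16434, e3 q14428 (flp_j L678913) q16435,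 e3 q14429 (flp_j L678924) q16436, e3 q14430 L658862 q13155, e3 q14431 L658872 q12237, e3 q14432 (flp_j L681074) q16619, e3 q14433 (flp_j L681084) q16620, e3 q14434 L658894 q12239, e3 q14435 L658902 q12240, e3 q14436 (flp_j L680721) q16585, e3 q14437 (flp_j L680707) q16584, e3 q14438 (flp_j L681114) q16624, e3 q14439 (flp_j L679016) q16443, e3 q14440 (flp_j L678688) q16418, e3 q14441 (flp_j L679028) q16444, e3 q14442 (flp_j L679038) q16445, e3 q14443 (flp_j L679050) q16446, e3 q14444 (flp_j L679056) q16447, e3 q14445 L658968 q12247, e3 q14446 (flp_j L680858) q16597, e3 q14447 (flp_j L680884) q16599, e3 q14448 (flp_j L681222) q16639, e3 q14449 L659001 q13268, e3 q14450 (flp_j L679105) q16450, e3 q14451 (flp_j L679111) q16451, e3 q14452 L659030 q13648, e3 q14453 (flp_j L679126) q16452, e3 q14454 L659049 q12853, e3 q14455 L659061 q12256, e3 q14456 L659072 q12257, e3 q14457 (flp_j L680779) q16591, e3 q14458 (flp_j L681324) q16648, e3 q14459 (flp_j L681341) q16649, e3 q14460 L659112 q12261, e3 q14461 (flp_j L674962) q16113, e3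 q14462 (flp_j L680796) q16592, e3 q14463 (flp_j L681406) q16655, trivial⟩ (by decide +kernel)

theorem ce_j_226 : ∀ r, r < 64 → sm gj (Qf (14464 + r)) = Qf (tab Gen.j (14464 + r)) :=
  edges_tab (sm gj) Qf (tab Gen.j) 14464 [(14464, 16052), (14465, 16455), (14466, 16456), (14467, 12854), (14468, 12269), (14469, 12270), (14470, 13255), (14471, 12722), (14472, 13274), (14473, 16661), (14474, 16662), (14475, 12273), (14476, 12274), (14477, 12275), (14478, 15983), (14479, 16669), (14480, 13292), (14481, 16457), (14482, 16458), (14483, 13123), (14484, 16426), (14485, 16578), (14486, 12280), (14487, 16675), (14488, 16459), (14489, 16460), (14490, 12282), (14491, 16679), (14492, 12284), (14493, 16682), (14494, 16683), (14495, 16463), (14496, 16464), (14497, 12288), (14498, 16689), (14499, 12289), (14500, 16691), (14501, 12291), (14502, 16694), (14503, 16695), (14504, 16468), (14505, 16469), (14506, 16470), (14507, 13193), (14508, 12295), (14509, 16705), (14510, 16706), (14511, 12297), (14512, 12298), (14513, 16710), (14514, 16711),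 (14515, 16712), (14516, 16479), (14517, 16480), (14518, 16481), (14519, 16482), (14520, 16483), (14521, 12304), (14522, 12305), (14523, 16725), (14524, 16726), (14525, 16727), (14526, 16487), (14527, 13204)]
    ⟨e3 q14464 L674090 q16052, e3 q14465 (flp_j L679172) q16455, e3 q14466 (flp_j L679180) q16456, e3 q14467 L659171 q12854, e3 q14468 L659182 q12269, e3 q14469 L659200 q12270, e3 q14470 L659210 q13255, e3 q14471 L659220 q12722, e3 q14472 L659238 q13274, e3 q14473 (flp_j L681473) q16661, e3 q14474 (flp_j L681484) q16662, e3 q14475 L659267 q12273, e3 q14476 L659281 q12274, e3 q14477 L659292 q12275, e3 q14478 (flp_j L673084) q15983, e3 q14479 (flp_j L681573) q16669, e3 q14480 L659316 q13292, e3 q14481 (flp_j L679194) q16457, e3 q14482 (flp_j L679204) q16458, e3 q14483 L659342 q13123, e3 q14484 (flp_j L678803) q16426, e3 q14485 (flp_j L680641) q16578, e3 q14486 (flp_j L659382) q12280, e3 q14487 (flp_j L681645) q16675, e3 q14488 (flp_j L679217) q16459, e3 q14489 (flp_j L679234) q16460, e3 q14490 (flp_j L659423) q12282, e3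 q14491 (flp_j L681693) q16679, e3 q14492 L659454 q12284, e3 q14493 (flp_j L681722) q16682, e3 q14494 (flp_j L681737) q16683, e3 q14495 (flp_j L679269) q16463, e3 q14496 (flp_j L679282) q16464, e3 q14497 L659501 q12288, e3 q14498 L681782 q16689, e3 q14499 (flp_j L659517) q12289, e3 q14500 (flp_j L681817) q16691, e3 q14501 L659541 q12291, e3 q14502 (flp_j L681842) q16694, e3 q14503 (flp_j L681852) q16695, e3 q14504 (flp_j L679316) q16468, e3 q14505 (flp_j L679325) q16469, e3 q14506 (flp_j L679338) q16470, e3 q14507 L659591 q13193, e3 q14508 L659603 q12295, e3 q14509 (flp_j L681947) q16705, e3 q14510 (flp_j L681959) q16706, e3 q14511 L659629 q12297, e3 q14512 L659639 q12298, e3 q14513 (flp_j L681995) q16710, e3 q14514 (flp_j L682007) q16711, e3 q14515 (flp_j L682017) q16712, e3 q14516 (flp_j L679440) q16479, e3 q14517 (flp_j L679448) q16480, e3 q14518 (flp_j L679461) q16481, e3 q14519 (flp_j L679471) q16482, e3 q14520 (flp_j L679479) q16483, e3 q14521 L659711 q12304, e3 q14522 L659727 q12305, e3 q14523 (flp_j L682127) q16725,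 e3 q14524 (flp_j L682143) q16726, e3 q14525 (flp_j L682156) q16727, e3 q14526 (flp_j L679527) q16487, e3 q14527 L659773 q13204, trivial⟩ (by decide +kernel)

theorem ce_j_227 : ∀ r, r < 64 → sm gj (Qf (14528 + r)) = Qf (tab Gen.j (14528 + r)) :=
  edges_tab (sm gj) Qf (tab Gen.j) 14528 [(14528, 12310), (14529, 12311), (14530, 16732), (14531, 16733), (14532, 16734), (14533, 12314), (14534, 12315), (14535, 16739), (14536, 16740), (14537, 16741), (14538, 16484), (14539, 16491), (14540, 16492), (14541, 12319), (14542, 16748), (14543, 13216), (14544, 12321), (14545, 16752), (14546, 16753), (14547, 12323), (14548, 12324), (14549, 16757), (14550, 16758), (14551, 16759), (14552, 16501), (14553, 16502), (14554, 16503), (14555, 16504), (14556, 16505), (14557, 16506), (14558, 13227), (14559, 12330), (14560, 12331), (14561, 16774), (14562, 16775), (14563, 16776), (14564, 12334), (14565, 12335), (14566, 12336), (14567, 13161), (14568, 16783), (14569, 16784), (14570, 16785), (14571, 16786), (14572, 16787), (14573, 16514), (14574, 16515),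 (14575, 16516), (14576, 16517), (14577, 16518), (14578, 16519), (14579, 16804), (14580, 16521), (14581, 16522), (14582, 12345), (14583, 12346), (14584, 12347), (14585, 16810), (14586, 16808), (14587, 16809), (14588, 12348), (14589, 16814), (14590, 16526), (14591, 16527)]
    ⟨e3 q14528 L659782 q12310, e3 q14529 L659794 q12311, e3 q14530 (flp_j L682200) q16732, e3 q14531 (flp_j L682208) q16733, e3 q14532 (flp_j L682223) q16734, e3 q14533 L659834 q12314, e3 q14534 L659847 q12315, e3 q14535 (flp_j L682272) q16739, e3 q14536 (flp_j L682287) q16740, e3 q14537 (flp_j L682297) q16741, e3 q14538 (flp_j L679488) q16484, e3 q14539 (flp_j L679573) q16491, e3 q14540 (flp_j L679584) q16492, e3 q14541 (flp_j L659901) q12319, e3 q14542 (flp_j L682365) q16748, e3 q14543 L659934 q13216, e3 q14544 L659941 q12321, e3 q14545 (flp_j L682403) q16752, e3 q14546 (flp_j L682412) q16753, e3 q14547 L659960 q12323, e3 q14548 L659968 q12324, e3 q14549 (flp_j L682441) q16757, e3 q14550 (flp_j L682454) q16758, e3 q14551 (flp_j L682463) q16759, e3 q14552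 (flp_j L679690) q16501, e3 q14553 (flp_j L679706) q16502, e3 q14554 (flp_j L679719) q16503, e3 q14555 (flp_j L679726) q16504, e3 q14556 (flp_j L679737) q16505, e3 q14557 (flp_j L679743) q16506, e3 q14558 L660046 q13227, e3 q14559 L660052 q12330, e3 q14560 L660062 q12331, e3 q14561 (flp_j L682588) q16774, e3 q14562 (flp_j L682596) q16775, e3 q14563 (flp_j L682606) q16776, e3 q14564 L660090 q12334, e3 q14565 L660102 q12335, e3 q14566 L660110 q12336, e3 q14567 L660118 q13161, e3 q14568 (flp_j L682664) q16783, e3 q14569 (flp_j L682677) q16784, e3 q14570 (flp_j L682685) q16785, e3 q14571 (flp_j L682697) q16786, e3 q14572 (flp_j L682701) q16787, e3 q14573 (flp_j L679823) q16514, e3 q14574 (flp_j L679839) q16515, e3 q14575 (flp_j L679856) q16516, e3 q14576 (flp_j L679863) q16517, e3 q14577 (flp_j L679874) q16518, e3 q14578 (flp_j L679882) q16519, e3 q14579 L682839 q16804, e3 q14580 (flp_j L679898) q16521, e3 q14581 (flp_j L679904) q16522, e3 q14582 L660227 q12345, e3 q14583 L660241 q12346, e3 q14584 L660252 q12347, e3 q14585 L682886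 q16810, e3 q14586 (flp_j L682872) q16808, e3 q14587 (flp_j L682883) q16809, e3 q14588 (flp_j L660278) q12348, e3 q14589 (flp_j L682923) q16814, e3 q14590 (flp_j L679954) q16526, e3 q14591 (flp_j L679959) q16527, trivial⟩ (by decide +kernel)

theorem ce_j_228 : ∀ r, r < 64 → sm gj (Qf (14592 + r)) = Qf (tab Gen.j (14592 + r)) :=
  edges_tab (sm gj) Qf (tab Gen.j) 14592 [(14592, 12352), (14593, 13650), (14594, 13256), (14595, 12357), (14596, 12358), (14597, 12359), (14598, 13173), (14599, 16818), (14600, 16819), (14601, 16820), (14602, 16821), (14603, 12363), (14604, 12364), (14605, 13144), (14606, 13176), (14607, 16829), (14608, 16529), (14609, 16530), (14610, 16531), (14611, 12374), (14612, 12375), (14613, 13141), (14614, 13174), (14615, 13175), (14616, 13181), (14617, 13182), (14618, 16836), (14619, 13145), (14620, 13177), (14621, 16532), (14622, 13112), (14623, 14623), (14624, 14624), (14625, 13784), (14626, 16545), (14627, 14627), (14628, 14628), (14629, 14629), (14630, 12398), (14631, 13515), (14632, 13787), (14633, 16846),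 (14634, 13656), (14635, 14635), (14636, 14636), (14637, 13657), (14638, 14638), (14639, 14639), (14640, 12495), (14641, 12413), (14642, 16854), (14643, 12415), (14644, 16857), (14645, 16858), (14646, 14646), (14647, 14647), (14648, 12419), (14649, 13296), (14650, 12421), (14651, 16864), (14652, 16865), (14653, 12423), (14654, 12424), (14655, 16868)]
    ⟨e3 q14592 L660311 q12352, e3 q14593 L660322 q13650, e3 q14594 L660335 q13256, e3 q14595 L660341 q12357, e3 q14596 L660350 q12358, e3 q14597 L660364 q12359, e3 q14598 L660372 q13173, e3 q14599 (flp_j L682952) q16818, e3 q14600 (flp_j L682964) q16819, e3 q14601 (flp_j L682975) q16820, e3 q14602 (flp_j L682983) q16821, e3 q14603 L660422 q12363, e3 q14604 L660431 q12364, e3 q14605 L660441 q13144, e3 q14606 L660453 q13176, e3 q14607 (flp_j L683065) q16829, e3 q14608 (flp_j L679985) q16529, e3 q14609 (flp_j L679998) q16530, e3 q14610 (flp_j L680005) q16531, e3 q14611 L660497 q12374, e3 q14612 L660506 q12375, e3 q14613 L660517 q13141, e3 q14614 L660527 q13174, e3 q14615 L660543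 q13175, e3 q14616 L660557 q13181, e3 q14617 L660568 q13182, e3 q14618 (flp_j L683125) q16836, e3 q14619 L660592 q13145, e3 q14620 L660601 q13177, e3 q14621 (flp_j L680018) q16532, e3 q14622 L660623 q13112, e3 q14623 L660643 q14623, e3 q14624 L660649 q14624, e3 q14625 L660662 q13784, e3 q14626 (flp_j L680213) q16545, e3 q14627 L660691 q14627, e3 q14628 L660700 q14628, e3 q14629 L660718 q14629, e3 q14630 L660731 q12398, e3 q14631 L660740 q13515, e3 q14632 L660754 q13787, e3 q14633 (flp_j L683253) q16846, e3 q14634 (flp_j L660777) q13656, e3 q14635 L660792 q14635, e3 q14636 L660800 q14636, e3 q14637 L660814 q13657, e3 q14638 L660823 q14638, e3 q14639 L660828 q14639, e3 q14640 L660844 q12495, e3 q14641 (flp_j L660848) q12413, e3 q14642 (flp_j L683359) q16854, e3 q14643 L660882 q12415, e3 q14644 (flp_j L683393) q16857, e3 q14645 (flp_j L683407) q16858, e3 q14646 L660915 q14646, e3 q14647 L660931 q14647, e3 q14648 L660940 q12419, e3 q14649 L660955 q13296, e3 q14650 L660965 q12421, e3 q14651 (flp_j L683478) q16864, e3 q14652 (flp_j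 L683492) q16865, e3 q14653 L660996 q12423, e3 q14654 L661011 q12424, e3 q14655 (flp_j L683525) q16868, trivial⟩ (by decide +kernel)

theorem ce_j_229 : ∀ r, r < 64 → sm gj (Qf (14656 + r)) = Qf (tab Gen.j (14656 + r)) :=
  edges_tab (sm gj) Qf (tab Gen.j) 14656 [(14656, 16869), (14657, 14657), (14658, 14658), (14659, 12429), (14660, 12430), (14661, 16651), (14662, 16874), (14663, 16875), (14664, 14664), (14665, 13304), (14666, 12435), (14667, 12437), (14668, 16880), (14669, 13307), (14670, 12439), (14671, 16884), (14672, 16885), (14673, 12441), (14674, 12442), (14675, 16888), (14676, 16889), (14677, 14677), (14678, 14678), (14679, 13317), (14680, 12447), (14681, 12448), (14682, 16896), (14683, 16897), (14684, 16898), (14685, 12451), (14686, 12452), (14687, 12453), (14688, 13774), (14689, 13771), (14690, 16905), (14691, 16906), (14692, 16907), (14693, 16908), (14694, 14694), (14695, 14695), (14696, 14696), (14697, 16918), (14698, 14698), (14699, 14699), (14700, 12462), (14701, 12463), (14702, 12464), (14703, 16925), (14704,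 16923), (14705, 16924), (14706, 12465), (14707, 16929), (14708, 14708), (14709, 14709), (14710, 12469), (14711, 16933), (14712, 13340), (14713, 13341), (14714, 12474), (14715, 12475), (14716, 12476), (14717, 13378), (14718, 13374), (14719, 16936)]
    ⟨e3 q14656 (flp_j L683540) q16869, e3 q14657 L661047 q14657, e3 q14658 L661056 q14658, e3 q14659 L661068 q12429, e3 q14660 L661078 q12430, e3 q14661 (flp_j L681362) q16651, e3 q14662 (flp_j L683596) q16874, e3 q14663 (flp_j L683603) q16875, e3 q14664 L661108 q14664, e3 q14665 L661118 q13304, e3 q14666 L661131 q12435, e3 q14667 (flp_j L661135) q12437, e3 q14668 (flp_j L683654) q16880, e3 q14669 L661168 q13307, e3 q14670 L661178 q12439, e3 q14671 (flp_j L683693) q16884, e3 q14672 (flp_j L683707) q16885, e3 q14673 L661209 q12441, e3 q14674 L661223 q12442, e3 q14675 (flp_j L683740) q16888, e3 q14676 (flp_j L683754) q16889, e3 q14677 L661257 q14677, e3 q14678 L661266 q14678, e3 q14679 L661278 q13317, e3 q14680 L661284 q12447, e3 q14681 L661292 q12448, e3 q14682 (flp_j L683823) q16896,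 e3 q14683 (flp_j L683833) q16897, e3 q14684 (flp_j L683841) q16898, e3 q14685 L661325 q12451, e3 q14686 L661340 q12452, e3 q14687 L661349 q12453, e3 q14688 L661357 q13774, e3 q14689 L661375 q13771, e3 q14690 (flp_j L683910) q16905, e3 q14691 (flp_j L683918) q16906, e3 q14692 (flp_j L683929) q16907, e3 q14693 (flp_j L683934) q16908, e3 q14694 L661421 q14694, e3 q14695 L661434 q14695, e3 q14696 L661443 q14696, e3 q14697 L684044 q16918, e3 q14698 L661466 q14698, e3 q14699 L661471 q14699, e3 q14700 L661476 q12462, e3 q14701 L661486 q12463, e3 q14702 L661491 q12464, e3 q14703 L684109 q16925, e3 q14704 (flp_j L684097) q16923, e3 q14705 (flp_j L684106) q16924, e3 q14706 (flp_j L661514) q12465, e3 q14707 (flp_j L684153) q16929, e3 q14708 L661542 q14708, e3 q14709 L661546 q14709, e3 q14710 L661563 q12469, e3 q14711 (flp_j L684189) q16933, e3 q14712 L661581 q13340, e3 q14713 L661594 q13341, e3 q14714 L661604 q12474, e3 q14715 L661622 q12475, e3 q14716 L661638 q12476, e3 q14717 L661648 q13378, e3 q14718 L661668 q13374, e3 q14719 (flp_j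 L684236) q16936, trivial⟩ (by decide +kernel)

theorem ce_j_230 : ∀ r, r < 64 → sm gj (Qf (14720 + r)) = Qf (tab Gen.j (14720 + r)) :=
  edges_tab (sm gj) Qf (tab Gen.j) 14720 [(14720, 16937), (14721, 12480), (14722, 13775), (14723, 13354), (14724, 12489), (14725, 12490), (14726, 12491), (14727, 13530), (14728, 13785), (14729, 16552), (14730, 13519), (14731, 12499), (14732, 16941), (14733, 12501), (14734, 16944), (14735, 16945), (14736, 14736), (14737, 13377), (14738, 12505), (14739, 16949), (14740, 16950), (14741, 12507), (14742, 12508), (14743, 16954), (14744, 16955), (14745, 14745), (14746, 14746), (14747, 12512), (14748, 16959), (14749, 13379), (14750, 12514), (14751, 16963), (14752, 16964), (14753, 12516), (14754, 12517), (14755, 16967), (14756, 16968), (14757, 14757), (14758, 14758), (14759, 13387), (14760, 12522), (14761, 12523), (14762, 16975), (14763, 16976), (14764, 16977), (14765, 12526), (14766, 12527), (14767, 12528), (14768, 13750), (14769, 16984), (14770, 16985), (14771, 16986), (14772, 16987), (14773, 16988),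 (14774, 14774), (14775, 14775), (14776, 14776), (14777, 14777), (14778, 12536), (14779, 12537), (14780, 12538), (14781, 16999), (14782, 17000), (14783, 14783)]
    ⟨e3 q14720 (flp_j L684254) q16937, e3 q14721 L661711 q12480, e3 q14722 L661727 q13775, e3 q14723 L661743 q13354, e3 q14724 L661760 q12489, e3 q14725 L661775 q12490, e3 q14726 L661792 q12491, e3 q14727 L661810 q13530, e3 q14728 L661824 q13785, e3 q14729 (flp_j L680314) q16552, e3 q14730 (flp_j L661852) q13519, e3 q14731 (flp_j L661854) q12499, e3 q14732 (flp_j L684320) q16941, e3 q14733 L661888 q12501, e3 q14734 (flp_j L684349) q16944, e3 q14735 (flp_j L684363) q16945, e3 q14736 L661917 q14736, e3 q14737 L661926 q13377, e3 q14738 L661935 q12505, e3 q14739 (flp_j L684402) q16949, e3 q14740 (flp_j L684411) q16950, e3 q14741 L661959 q12507, e3 q14742 L661969 q12508, e3 q14743 (flp_j L684439) q16954, e3 q14744 (flp_j L684453) q16955, e3 q14745 L661991 q14745, e3 q14746 L661998 q14746, e3 q14747 (flp_j L661999) q12512, e3 q14748 (flp_j L684488) q16959, e3 q14749 L662040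 q13379, e3 q14750 L662050 q12514, e3 q14751 (flp_j L684531) q16963, e3 q14752 (flp_j L684545) q16964, e3 q14753 L662081 q12516, e3 q14754 L662095 q12517, e3 q14755 (flp_j L684578) q16967, e3 q14756 (flp_j L684592) q16968, e3 q14757 L662129 q14757, e3 q14758 L662138 q14758, e3 q14759 L662152 q13387, e3 q14760 L662160 q12522, e3 q14761 L662170 q12523, e3 q14762 (flp_j L684663) q16975, e3 q14763 (flp_j L684675) q16976, e3 q14764 (flp_j L684685) q16977, e3 q14765 L662205 q12526, e3 q14766 L662218 q12527, e3 q14767 L662229 q12528, e3 q14768 L662237 q13750, e3 q14769 (flp_j L684752) q16984, e3 q14770 (flp_j L684768) q16985, e3 q14771 (flp_j L684776) q16986, e3 q14772 (flp_j L684787) q16987, e3 q14773 (flp_j L684794) q16988, e3 q14774 L662292 q14774, e3 q14775 L662302 q14775, e3 q14776 L662311 q14776, e3 q14777 L662322 q14777, e3 q14778 L662328 q12536, e3 q14779 L662339 q12537, e3 q14780 L662347 q12538, e3 q14781 (flp_j L684897) q16999, e3 q14782 (flp_j L684907) q17000, e3 q14783 L662371 q14783, trivial⟩ (by decide +kernel)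

theorem ce_j_231 : ∀ r, r < 64 → sm gj (Qf (14784 + r)) = Qf (tab Gen.j (14784 + r)) :=
  edges_tab (sm gj) Qf (tab Gen.j) 14784 [(14784, 13401), (14785, 13402), (14786, 12543), (14787, 12544), (14788, 12545), (14789, 13565), (14790, 17007), (14791, 17008), (14792, 17009), (14793, 12549), (14794, 13753), (14795, 13756), (14796, 14796), (14797, 13415), (14798, 12553), (14799, 17017), (14800, 17018), (14801, 13419), (14802, 12556), (14803, 12557), (14804, 17024), (14805, 17025), (14806, 17026), (14807, 12560), (14808, 12561), (14809, 12562), (14810, 17033), (14811, 17034), (14812, 17035), (14813, 17036), (14814, 17037), (14815, 17038), (14816, 14816), (14817, 14817), (14818, 14818), (14819, 14819), (14820, 17050), (14821, 14821), (14822, 14822), (14823, 13443), (14824, 13444), (14825, 12572), (14826, 12573), (14827, 12574), (14828, 17057), (14829, 17058), (14830, 17059), (14831, 17060), (14832, 17061), (14833, 17062), (14834, 12578), (14835, 12579), (14836, 12580), (14837, 12581), (14838, 12582), (14839, 12583), (14840, 17073),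 (14841, 17074), (14842, 17075), (14843, 17076), (14844, 17077), (14845, 17078), (14846, 17090), (14847, 17080)]
    ⟨e3 q14784 L662381 q13401, e3 q14785 L662393 q13402, e3 q14786 L662401 q12543, e3 q14787 L662412 q12544, e3 q14788 L662426 q12545, e3 q14789 L662436 q13565, e3 q14790 (flp_j L684980) q17007, e3 q14791 (flp_j L684995) q17008, e3 q14792 (flp_j L685007) q17009, e3 q14793 L662486 q12549, e3 q14794 L662496 q13753, e3 q14795 L662510 q13756, e3 q14796 L662524 q14796, e3 q14797 L662539 q13415, e3 q14798 L662550 q12553, e3 q14799 (flp_j L685102) q17017, e3 q14800 (flp_j L685111) q17018, e3 q14801 L662573 q13419, e3 q14802 L662579 q12556, e3 q14803 L662589 q12557, e3 q14804 (flp_j L685157) q17024, e3 q14805 (flp_j L685165) q17025, e3 q14806 (flp_j L685175) q17026, e3 q14807 L662622 q12560, e3 q14808 L662631 q12561, e3 q14809 L662641 q12562, e3 q14810 (flp_j L685234) q17033, e3 q14811 (flp_j L685247) q17034, e3 q14812 (flp_j L685262) q17035, e3 q14813 (flp_j L685267) q17036, e3 q14814 (flp_j L685277) q17037, e3 q14815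 (flp_j L685282) q17038, e3 q14816 L662699 q14816, e3 q14817 L662710 q14817, e3 q14818 L662725 q14818, e3 q14819 L662734 q14819, e3 q14820 L685399 q17050, e3 q14821 L662753 q14821, e3 q14822 L662758 q14822, e3 q14823 L662766 q13443, e3 q14824 L662775 q13444, e3 q14825 L662781 q12572, e3 q14826 L662787 q12573, e3 q14827 L662795 q12574, e3 q14828 (flp_j L685459) q17057, e3 q14829 (flp_j L685465) q17058, e3 q14830 (flp_j L685475) q17059, e3 q14831 (flp_j L685479) q17060, e3 q14832 (flp_j L685487) q17061, e3 q14833 (flp_j L685493) q17062, e3 q14834 L662842 q12578, e3 q14835 L662849 q12579, e3 q14836 L662859 q12580, e3 q14837 L662865 q12581, e3 q14838 L662874 q12582, e3 q14839 L662879 q12583, e3 q14840 (flp_j L685570) q17073, e3 q14841 (flp_j L685583) q17074, e3 q14842 (flp_j L685593) q17075, e3 q14843 (flp_j L685600) q17076, e3 q14844 (flp_j L685610) q17077, e3 q14845 (flp_j L685617) q17078, e3 q14846 L685701 q17090, e3 q14847 (flp_j L685630) q17080, trivial⟩ (by decide +kernel)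

theorem ce_j_232 : ∀ r, r < 64 → sm gj (Qf (14848 + r)) = Qf (tab Gen.j (14848 + r)) :=
  edges_tab (sm gj) Qf (tab Gen.j) 14848 [(14848, 17081), (14849, 14849), (14850, 14850), (14851, 14851), (14852, 14852), (14853, 17099), (14854, 14854), (14855, 14855), (14856, 14856), (14857, 12590), (14858, 17104), (14859, 14859), (14860, 14860), (14861, 17108), (14862, 12597), (14863, 12598), (14864, 12596), (14865, 17112), (14866, 17110), (14867, 17111), (14868, 12600), (14869, 17116), (14870, 14870), (14871, 14871), (14872, 12604), (14873, 13486), (14874, 12721), (14875, 13487), (14876, 12610), (14877, 12611), (14878, 12612), (14879, 12613), (14880, 12614), (14881, 17125), (14882, 17126), (14883, 17127), (14884, 17128), (14885, 17129), (14886, 17130), (14887, 17131), (14888, 12618), (14889, 12619), (14890, 12620), (14891, 17142), (14892, 17143), (14893, 17144), (14894, 14894), (14895, 14895), (14896, 14896), (14897, 12709), (14898, 12638), (14899, 12637), (14900, 12636), (14901, 12632), (14902, 12633), (14903, 12634), (14904, 13544),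 (14905, 17148), (14906, 13360), (14907, 17124), (14908, 17123), (14909, 13362), (14910, 16666), (14911, 16214)]
    ⟨e3 q14848 (flp_j L685637) q17081, e3 q14849 L662948 q14849, e3 q14850 L662958 q14850, e3 q14851 L662970 q14851, e3 q14852 L662977 q14852, e3 q14853 L685777 q17099, e3 q14854 L662994 q14854, e3 q14855 L663001 q14855, e3 q14856 L663008 q14856, e3 q14857 (flp_j L663015) q12590, e3 q14858 (flp_j L685825) q17104, e3 q14859 L663036 q14859, e3 q14860 L663039 q14860, e3 q14861 L685845 q17108, e3 q14862 L663052 q12597, e3 q14863 L663060 q12598, e3 q14864 (flp_j L663063) q12596, e3 q14865 (flp_j L685877) q17112, e3 q14866 (flp_j L685863) q17110, e3 q14867 (flp_j L685869) q17111, e3 q14868 L663093 q12600, e3 q14869 (flp_j L685904) q17116, e3 q14870 L663107 q14870, e3 q14871 L663111 q14871, e3 q14872 L663120 q12604, e3 q14873 L663130 q13486, e3 q14874 L663140 q12721, e3 q14875 L663155 q13487, e3 q14876 L663161 q12610, e3 q14877 L663171 q12611, e3 q14878 L663182 q12612, e3 q14879 L663191 q12613, e3 q14880 L663201 q12614,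 e3 q14881 (flp_j L686007) q17125, e3 q14882 (flp_j L686025) q17126, e3 q14883 (flp_j L686038) q17127, e3 q14884 (flp_j L686043) q17128, e3 q14885 (flp_j L686052) q17129, e3 q14886 (flp_j L686062) q17130, e3 q14887 (flp_j L686077) q17131, e3 q14888 L663283 q12618, e3 q14889 L663297 q12619, e3 q14890 L663307 q12620, e3 q14891 (flp_j L686202) q17142, e3 q14892 (flp_j L686212) q17143, e3 q14893 (flp_j L686221) q17144, e3 q14894 L663352 q14894, e3 q14895 L663361 q14895, e3 q14896 L663370 q14896, e3 q14897 L663381 q12709, e3 q14898 L663397 q12638, e3 q14899 L663412 q12637, e3 q14900 L663426 q12636, e3 q14901 L663438 q12632, e3 q14902 L663453 q12633, e3 q14903 L663466 q12634, e3 q14904 L663475 q13544, e3 q14905 (flp_j L686270) q17148, e3 q14906 L663500 q13360, e3 q14907 (flp_j L685993) q17124, e3 q14908 (flp_j L685978) q17123, e3 q14909 L663541 q13362, e3 q14910 (flp_j L681539) q16666, e3 q14911 (flp_j L676259) q16214, trivial⟩ (by decide +kernel)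

theorem ce_j_233 : ∀ r, r < 64 → sm gj (Qf (14912 + r)) = Qf (tab Gen.j (14912 + r)) :=
  edges_tab (sm gj) Qf (tab Gen.j) 14912 [(14912, 12642), (14913, 12643), (14914, 12644), (14915, 17153), (14916, 17154), (14917, 16551), (14918, 13513), (14919, 12649), (14920, 16837), (14921, 17156), (14922, 13517), (14923, 12652), (14924, 12662), (14925, 13032), (14926, 17159), (14927, 12665), (14928, 13532), (14929, 12720), (14930, 12671), (14931, 13537), (14932, 13563), (14933, 13562), (14934, 13359), (14935, 12675), (14936, 12676), (14937, 17166), (14938, 13031), (14939, 17167), (14940, 13545), (14941, 12680), (14942, 12682), (14943, 17173), (14944, 13493), (14945, 17174), (14946, 13509), (14947, 12685), (14948, 12686), (14949, 13687), (14950, 17180), (14951, 14951), (14952, 13558), (14953, 12691), (14954, 13536), (14955, 13535), (14956, 13561), (14957, 12707), (14958, 12705), (14959, 12704), (14960, 12703), (14961, 12706), (14962, 12708), (14963, 17162), (14964, 17121), (14965, 17183), (14966, 17163), (14967, 17120), (14968, 17184),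 (14969, 16212), (14970, 12713), (14971, 12714), (14972, 12715), (14973, 17192), (14974, 17193), (14975, 17194)]
    ⟨e3 q14912 L663573 q12642, e3 q14913 L663581 q12643, e3 q14914 L663589 q12644, e3 q14915 (flp_j L686337) q17153, e3 q14916 (flp_j L686346) q17154, e3 q14917 (flp_j L680298) q16551, e3 q14918 L663629 q13513, e3 q14919 L663641 q12649, e3 q14920 (flp_j L683135) q16837, e3 q14921 (flp_j L686373) q17156, e3 q14922 L663674 q13517, e3 q14923 L663687 q12652, e3 q14924 L663702 q12662, e3 q14925 L663715 q13032, e3 q14926 (flp_j L686416) q17159, e3 q14927 L663743 q12665, e3 q14928 L663754 q13532, e3 q14929 L663769 q12720, e3 q14930 L663784 q12671, e3 q14931 L663800 q13537, e3 q14932 L663813 q13563, e3 q14933 L663829 q13562, e3 q14934 L663847 q13359, e3 q14935 L663855 q12675, e3 q14936 L663866 q12676, e3 q14937 (flp_j L686517) q17166, e3 q14938 L663881 q13031, e3 q14939 (flp_j L686530) q17167, e3 q14940 L663902 q13545, e3 q14941 L663912 q12680, e3 q14942 L663927 q12682, e3 q14943 (flp_j L686587) q17173, e3 q14944 L663948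 q13493, e3 q14945 (flp_j L686604) q17174, e3 q14946 L663977 q13509, e3 q14947 L663986 q12685, e3 q14948 L664002 q12686, e3 q14949 L664013 q13687, e3 q14950 (flp_j L686685) q17180, e3 q14951 L664041 q14951, e3 q14952 L664053 q13558, e3 q14953 L664067 q12691, e3 q14954 L664083 q13536, e3 q14955 L664100 q13535, e3 q14956 L664114 q13561, e3 q14957 L664126 q12707, e3 q14958 L664144 q12705, e3 q14959 L664167 q12704, e3 q14960 L664181 q12703, e3 q14961 L664194 q12706, e3 q14962 L664207 q12708, e3 q14963 (flp_j L686459) q17162, e3 q14964 (flp_j L685953) q17121, e3 q14965 (flp_j L686729) q17183, e3 q14966 (flp_j L686476) q17163, e3 q14967 (flp_j L685935) q17120, e3 q14968 (flp_j L686737) q17184, e3 q14969 (flp_j L676227) q16212, e3 q14970 L664306 q12713, e3 q14971 L664316 q12714, e3 q14972 L664323 q12715, e3 q14973 (flp_j L686826) q17192, e3 q14974 (flp_j L686833) q17193, e3 q14975 (flp_j L686844) q17194, trivial⟩ (by decide +kernel)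

theorem ce_j_234 : ∀ r, r < 64 → sm gj (Qf (14976 + r)) = Qf (tab Gen.j (14976 + r)) :=
  edges_tab (sm gj) Qf (tab Gen.j) 14976 [(14976, 17005), (14977, 16664), (14978, 12727), (14979, 12728), (14980, 12752), (14981, 12778), (14982, 12779), (14983, 12785), (14984, 12792), (14985, 12793), (14986, 12798), (14987, 12799), (14988, 12803), (14989, 12811), (14990, 13635), (14991, 12816), (14992, 13224), (14993, 12850), (14994, 13222), (14995, 13225), (14996, 12826), (14997, 12827), (14998, 12828), (14999, 12829), (15000, 12830), (15001, 12831), (15002, 12835), (15003, 12766), (15004, 13628), (15005, 12770), (15006, 16092), (15007, 12849), (15008, 12861), (15009, 12795), (15010, 12796), (15011, 12797), (15012, 16043), (15013, 17196), (15014, 16131), (15015, 16155), (15016, 16135), (15017, 16047), (15018, 17197), (15019, 16025), (15020, 13149), (15021, 13150), (15022, 13151), (15023, 17198), (15024, 17212), (15025, 17213), (15026, 13189), (15027, 17214), (15028, 17199), (15029, 17200), (15030, 13188), (15031, 13190), (15032, 13621),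 (15033, 12806), (15034, 12807), (15035, 17234), (15036, 12810), (15037, 13634), (15038, 13238), (15039, 13251)]
    ⟨e3 q14976 (flp_j L684952) q17005, e3 q14977 (flp_j L681507) q16664, e3 q14978 L664388 q12727, e3 q14979 L664395 q12728, e3 q14980 L664407 q12752, e3 q14981 L664422 q12778, e3 q14982 L664440 q12779, e3 q14983 L664454 q12785, e3 q14984 L664464 q12792, e3 q14985 L664481 q12793, e3 q14986 L664493 q12798, e3 q14987 L664505 q12799, e3 q14988 L664518 q12803, e3 q14989 L664534 q12811, e3 q14990 L664550 q13635, e3 q14991 L664564 q12816, e3 q14992 L664572 q13224, e3 q14993 L664585 q12850, e3 q14994 L664595 q13222, e3 q14995 L664611 q13225, e3 q14996 L664619 q12826, e3 q14997 L664629 q12827, e3 q14998 L664640 q12828, e3 q14999 L664648 q12829, e3 q15000 L664662 q12830, e3 q15001 L664668 q12831, e3 q15002 L664679 q12835, e3 q15003 (flp_j L664681) q12766, e3 q15004 L664701 q13628, e3 q15005 L664710 q12770, e3 q15006 (flp_j L674637) q16092, e3 q15007 L664732 q12849, e3 q15008 L664746 q12861, e3 q15009 L664762 q12795, e3 q15010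 L664772 q12796, e3 q15011 L664790 q12797, e3 q15012 (flp_j L673947) q16043, e3 q15013 (flp_j L686870) q17196, e3 q15014 (flp_j L675213) q16131, e3 q15015 (flp_j L675513) q16155, e3 q15016 (flp_j L675269) q16135, e3 q15017 (flp_j L674017) q16047, e3 q15018 (flp_j L686880) q17197, e3 q15019 (flp_j L673664) q16025, e3 q15020 L664885 q13149, e3 q15021 L664895 q13150, e3 q15022 L664912 q13151, e3 q15023 (flp_j L686896) q17198, e3 q15024 (flp_j L687051) q17212, e3 q15025 (flp_j L687067) q17213, e3 q15026 L664952 q13189, e3 q15027 (flp_j L687083) q17214, e3 q15028 (flp_j L686910) q17199, e3 q15029 (flp_j L686916) q17200, e3 q15030 L664989 q13188, e3 q15031 L665006 q13190, e3 q15032 L665021 q13621, e3 q15033 L665034 q12806, e3 q15034 L665049 q12807, e3 q15035 (flp_j L687313) q17234, e3 q15036 L665076 q12810, e3 q15037 L665088 q13634, e3 q15038 L665100 q13238, e3 q15039 L665114 q13251, trivial⟩ (by decide +kernel)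

theorem ce_j_235 : ∀ r, r < 64 → sm gj (Qf (15040 + r)) = Qf (tab Gen.j (15040 + r)) :=
  edges_tab (sm gj) Qf (tab Gen.j) 15040 [(15040, 13239), (15041, 13089), (15042, 13093), (15043, 17201), (15044, 16086), (15045, 12819), (15046, 12820), (15047, 17243), (15048, 17244), (15049, 17245), (15050, 12823), (15051, 12825), (15052, 17252), (15053, 13219), (15054, 17253), (15055, 13217), (15056, 13220), (15057, 17254), (15058, 17205), (15059, 17206), (15060, 17207), (15061, 17208), (15062, 17209), (15063, 17269), (15064, 17210), (15065, 17211), (15066, 16751), (15067, 13218), (15068, 12834), (15069, 17273), (15070, 12837), (15071, 16087), (15072, 12841), (15073, 12843), (15074, 16618), (15075, 16170), (15076, 17274), (15077, 16195), (15078, 12846), (15079, 12847), (15080, 17278), (15081, 16089), (15082, 13090), (15083, 17202), (15084, 16595), (15085, 16647), (15086, 12858), (15087, 12859), (15088, 17282), (15089, 16094), (15090, 13080), (15091, 13108), (15092, 13117), (15093, 16009), (15094, 16010), (15095, 16011), (15096, 15096),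 (15097, 15097), (15098, 15098), (15099, 12921), (15100, 12872), (15101, 17292), (15102, 17293), (15103, 12874)]
    ⟨e3 q15040 L665126 q13239, e3 q15041 L665134 q13089, e3 q15042 L665148 q13093, e3 q15043 (flp_j L686928) q17201, e3 q15044 (flp_j L674552) q16086, e3 q15045 L665174 q12819, e3 q15046 L665188 q12820, e3 q15047 (flp_j L687411) q17243, e3 q15048 (flp_j L687421) q17244, e3 q15049 (flp_j L687437) q17245, e3 q15050 L665216 q12823, e3 q15051 L665232 q12825, e3 q15052 (flp_j L687495) q17252, e3 q15053 L665248 q13219, e3 q15054 (flp_j L687511) q17253, e3 q15055 L665267 q13217, e3 q15056 L665281 q13220, e3 q15057 (flp_j L687521) q17254, e3 q15058 (flp_j L686974) q17205, e3 q15059 (flp_j L686989) q17206, e3 q15060 (flp_j L686998) q17207, e3 q15061 (flp_j L687013) q17208, e3 q15062 (flp_j L687019) q17209, e3 q15063 L687647 q17269, e3 q15064 (flp_j L687029) q17210, e3 q15065 (flp_j L687039) q17211, e3 q15066 (flp_j L682397) q16751, e3 q15067 L665360 q13218, e3 q15068 (flp_j L665362) q12834, e3 q15069 (flp_j L687687) q17273,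 e3 q15070 L665389 q12837, e3 q15071 (flp_j L674572) q16087, e3 q15072 L665409 q12841, e3 q15073 L665419 q12843, e3 q15074 (flp_j L681068) q16618, e3 q15075 (flp_j L675711) q16170, e3 q15076 (flp_j L687697) q17274, e3 q15077 (flp_j L676005) q16195, e3 q15078 L665470 q12846, e3 q15079 L665479 q12847, e3 q15080 (flp_j L687746) q17278, e3 q15081 (flp_j L674598) q16089, e3 q15082 L665508 q13090, e3 q15083 (flp_j L686940) q17202, e3 q15084 (flp_j L680831) q16595, e3 q15085 (flp_j L681310) q16647, e3 q15086 L665550 q12858, e3 q15087 L665560 q12859, e3 q15088 (flp_j L687790) q17282, e3 q15089 (flp_j L674668) q16094, e3 q15090 L665591 q13080, e3 q15091 L665601 q13108, e3 q15092 L665610 q13117, e3 q15093 (flp_j L673441) q16009, e3 q15094 (flp_j L673457) q16010, e3 q15095 (flp_j L673469) q16011, e3 q15096 L665662 q15096, e3 q15097 L665672 q15097, e3 q15098 L665678 q15098, e3 q15099 L665693 q12921, e3 q15100 L665706 q12872, e3 q15101 (flp_j L687905) q17292, e3 q15102 (flp_j L687920) q17293, e3 q15103 L665736 q12874, trivial⟩ (by decide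 +kernel)

theorem ce_j_236 : ∀ r, r < 64 → sm gj (Qf (15104 + r)) = Qf (tab Gen.j (15104 + r)) :=
  edges_tab (sm gj) Qf (tab Gen.j) 15104 [(15104, 12875), (15105, 17296), (15106, 15106), (15107, 12879), (15108, 12880), (15109, 16365), (15110, 17298), (15111, 17299), (15112, 12883), (15113, 12884), (15114, 17305), (15115, 17306), (15116, 17307), (15117, 15117), (15118, 15118), (15119, 15119), (15120, 16363), (15121, 16366), (15122, 16368), (15123, 12893), (15124, 12894), (15125, 12895), (15126, 17317), (15127, 17318), (15128, 17319), (15129, 15129), (15130, 15130), (15131, 15131), (15132, 16381), (15133, 16383), (15134, 16385), (15135, 12905), (15136, 12906), (15137, 12907), (15138, 17329), (15139, 17330), (15140, 13660), (15141, 15141), (15142, 15142), (15143, 15143), (15144, 13306), (15145, 13772), (15146, 12915), (15147, 17334), (15148, 17335), (15149, 12917), (15150, 12918), (15151, 17338), (15152, 15152), (15153, 17290), (15154, 17291), (15155, 12923), (15156, 12924), (15157, 17343), (15158, 17344), (15159, 15159), (15160,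 15160), (15161, 16258), (15162, 12929), (15163, 12930), (15164, 17350), (15165, 17351), (15166, 17352), (15167, 12933)]
    ⟨e3 q15104 L665752 q12875, e3 q15105 (flp_j L687955) q17296, e3 q15106 L665776 q15106, e3 q15107 L665789 q12879, e3 q15108 L665801 q12880, e3 q15109 (flp_j L678005) q16365, e3 q15110 (flp_j L687977) q17298, e3 q15111 (flp_j L687991) q17299, e3 q15112 L665838 q12883, e3 q15113 L665853 q12884, e3 q15114 (flp_j L688046) q17305, e3 q15115 (flp_j L688061) q17306, e3 q15116 (flp_j L688072) q17307, e3 q15117 L665899 q15117, e3 q15118 L665914 q15118, e3 q15119 L665923 q15119, e3 q15120 (flp_j L677982) q16363, e3 q15121 (flp_j L678021) q16366, e3 q15122 (flp_j L678044) q16368, e3 q15123 L665955 q12893, e3 q15124 L665969 q12894, e3 q15125 L665980 q12895, e3 q15126 (flp_j L688180) q17317, e3 q15127 (flp_j L688194) q17318, e3 q15128 (flp_j L688205) q17319, e3 q15129 L666027 q15129, e3 q15130 L666036 q15130, e3 q15131 L666042 q15131, e3 q15132 (flp_j L678185) q16381, e3 q15133 (flp_j L678215) q16383, e3 q15134 (flp_j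 L678237) q16385, e3 q15135 L666077 q12905, e3 q15136 L666088 q12906, e3 q15137 L666096 q12907, e3 q15138 (flp_j L688308) q17329, e3 q15139 (flp_j L688315) q17330, e3 q15140 L666122 q13660, e3 q15141 L666136 q15141, e3 q15142 L666142 q15142, e3 q15143 L666153 q15143, e3 q15144 L666169 q13306, e3 q15145 L666183 q13772, e3 q15146 L666198 q12915, e3 q15147 (flp_j L688365) q17334, e3 q15148 (flp_j L688380) q17335, e3 q15149 L666226 q12917, e3 q15150 L666242 q12918, e3 q15151 (flp_j L688413) q17338, e3 q15152 L666266 q15152, e3 q15153 (flp_j L687878) q17290, e3 q15154 (flp_j L687893) q17291, e3 q15155 L666293 q12923, e3 q15156 L666309 q12924, e3 q15157 (flp_j L688457) q17343, e3 q15158 (flp_j L688473) q17344, e3 q15159 L666337 q15159, e3 q15160 L666342 q15160, e3 q15161 (flp_j L676834) q16258, e3 q15162 L666362 q12929, e3 q15163 L666372 q12930, e3 q15164 (flp_j L688527) q17350, e3 q15165 (flp_j L688535) q17351, e3 q15166 (flp_j L688545) q17352, e3 q15167 L666401 q12933, trivial⟩ (by decide +kernel)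

theorem ce_j_237 : ∀ r, r < 64 → sm gj (Qf (15168 + r)) = Qf (tab Gen.j (15168 + r)) :=
  edges_tab (sm gj) Qf (tab Gen.j) 15168 [(15168, 12934), (15169, 12935), (15170, 17359), (15171, 17360), (15172, 17361), (15173, 17362), (15174, 17363), (15175, 17364), (15176, 15176), (15177, 15177), (15178, 15178), (15179, 15179), (15180, 12943), (15181, 12944), (15182, 17374), (15183, 13710), (15184, 16282), (15185, 12948), (15186, 12949), (15187, 12950), (15188, 17377), (15189, 17378), (15190, 17379), (15191, 17380), (15192, 17381), (15193, 12953), (15194, 12954), (15195, 12955), (15196, 17389), (15197, 17390), (15198, 17391), (15199, 15199), (15200, 15200), (15201, 15201), (15202, 13431), (15203, 13779), (15204, 16290), (15205, 12962), (15206, 12963), (15207, 17403), (15208, 17404), (15209, 17405), (15210, 12966), (15211, 12968), (15212, 17412), (15213, 13776), (15214, 17413), (15215, 13417), (15216, 13777), (15217, 17414), (15218, 15218), (15219, 15219), (15220, 15220), (15221, 15221), (15222, 17427), (15223, 15223), (15224, 15224),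 (15225, 16311), (15226, 16312), (15227, 12978), (15228, 12979), (15229, 12980), (15230, 17433), (15231, 17434)]
    ⟨e3 q15168 L666412 q12934, e3 q15169 L666425 q12935, e3 q15170 (flp_j L688598) q17359, e3 q15171 (flp_j L688607) q17360, e3 q15172 (flp_j L688621) q17361, e3 q15173 (flp_j L688631) q17362, e3 q15174 (flp_j L688646) q17363, e3 q15175 (flp_j L688653) q17364, e3 q15176 L666488 q15176, e3 q15177 L666498 q15177, e3 q15178 L666505 q15178, e3 q15179 L666514 q15179, e3 q15180 L666524 q12943, e3 q15181 L666540 q12944, e3 q15182 (flp_j L688749) q17374, e3 q15183 L666563 q13710, e3 q15184 (flp_j L677122) q16282, e3 q15185 L666584 q12948, e3 q15186 L666594 q12949, e3 q15187 L666609 q12950, e3 q15188 (flp_j L688783) q17377, e3 q15189 (flp_j L688795) q17378, e3 q15190 (flp_j L688807) q17379, e3 q15191 (flp_j L688821) q17380, e3 q15192 (flp_j L688830) q17381, e3 q15193 L666663 q12953, e3 q15194 L666675 q12954, e3 q15195 L666684 q12955, e3 q15196 (flp_j L688908) q17389, e3 q15197 (flp_j L688920) q17390, e3 q15198 (flp_j L688930)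 q17391, e3 q15199 L666726 q15199, e3 q15200 L666735 q15200, e3 q15201 L666741 q15201, e3 q15202 L666751 q13431, e3 q15203 L666764 q13779, e3 q15204 (flp_j L677228) q16290, e3 q15205 L666782 q12962, e3 q15206 L666795 q12963, e3 q15207 (flp_j L689044) q17403, e3 q15208 (flp_j L689053) q17404, e3 q15209 (flp_j L689069) q17405, e3 q15210 L666823 q12966, e3 q15211 L666837 q12968, e3 q15212 (flp_j L689125) q17412, e3 q15213 L666854 q13776, e3 q15214 (flp_j L689139) q17413, e3 q15215 L666873 q13417, e3 q15216 L666887 q13777, e3 q15217 (flp_j L689148) q17414, e3 q15218 L666905 q15218, e3 q15219 L666919 q15219, e3 q15220 L666926 q15220, e3 q15221 L666931 q15221, e3 q15222 L689280 q17427, e3 q15223 L666954 q15223, e3 q15224 L666961 q15224, e3 q15225 (flp_j L677452) q16311, e3 q15226 (flp_j L677463) q16312, e3 q15227 L666984 q12978, e3 q15228 L666992 q12979, e3 q15229 L667002 q12980, e3 q15230 (flp_j L689340) q17433, e3 q15231 (flp_j L689348) q17434, trivial⟩ (by decide +kernel)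

theorem ce_j_238 : ∀ r, r < 64 → sm gj (Qf (15232 + r)) = Qf (tab Gen.j (15232 + r)) :=
  edges_tab (sm gj) Qf (tab Gen.j) 15232 [(15232, 17435), (15233, 17436), (15234, 17437), (15235, 17438), (15236, 12984), (15237, 12985), (15238, 12986), (15239, 12987), (15240, 12988), (15241, 12989), (15242, 17449), (15243, 17450), (15244, 17451), (15245, 17452), (15246, 17453), (15247, 17454), (15248, 17466), (15249, 17455), (15250, 17456), (15251, 15251), (15252, 15252), (15253, 15253), (15254, 15254), (15255, 15255), (15256, 17475), (15257, 15257), (15258, 15258), (15259, 15259), (15260, 12996), (15261, 17480), (15262, 15262), (15263, 13002), (15264, 13001), (15265, 17482), (15266, 13004), (15267, 16199), (15268, 16201), (15269, 13011), (15270, 13012), (15271, 13013), (15272, 13014), (15273, 13015), (15274, 17169), (15275, 17160), (15276, 17485), (15277, 17486), (15278, 17487), (15279, 17488), (15280, 17489), (15281, 13019), (15282, 13020), (15283, 13021), (15284, 17498), (15285, 17499), (15286, 17500), (15287, 15287), (15288, 15288),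 (15289, 15289), (15290, 16216), (15291, 13033), (15292, 13035), (15293, 13036), (15294, 13037), (15295, 17171)]
    ⟨e3 q15232 (flp_j L689358) q17435, e3 q15233 (flp_j L689366) q17436, e3 q15234 (flp_j L689378) q17437, e3 q15235 (flp_j L689386) q17438, e3 q15236 L667047 q12984, e3 q15237 L667056 q12985, e3 q15238 L667068 q12986, e3 q15239 L667076 q12987, e3 q15240 L667089 q12988, e3 q15241 L667096 q12989, e3 q15242 (flp_j L689461) q17449, e3 q15243 (flp_j L689470) q17450, e3 q15244 (flp_j L689484) q17451, e3 q15245 (flp_j L689491) q17452, e3 q15246 (flp_j L689503) q17453, e3 q15247 (flp_j L689510) q17454, e3 q15248 L689610 q17466, e3 q15249 (flp_j L689520) q17455, e3 q15250 (flp_j L689529) q17456, e3 q15251 L667177 q15251, e3 q15252 L667191 q15252, e3 q15253 L667201 q15253, e3 q15254 L667215 q15254, e3 q15255 L667222 q15255, e3 q15256 L689698 q17475, e3 q15257 L667235 q15257, e3 q15258 L667242 q15258, e3 q15259 L667245 q15259, e3 q15260 (flp_j L667248) q12996, e3 q15261 (flp_j L689734) q17480, e3 q15262 L667269 q15262, e3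 q15263 L667279 q13002, e3 q15264 (flp_j L667281) q13001, e3 q15265 (flp_j L689749) q17482, e3 q15266 L667307 q13004, e3 q15267 (flp_j L676061) q16199, e3 q15268 (flp_j L676088) q16201, e3 q15269 L667328 q13011, e3 q15270 L667337 q13012, e3 q15271 L667347 q13013, e3 q15272 L667356 q13014, e3 q15273 L667364 q13015, e3 q15274 (flp_j L686547) q17169, e3 q15275 (flp_j L686429) q17160, e3 q15276 (flp_j L689776) q17485, e3 q15277 (flp_j L689781) q17486, e3 q15278 (flp_j L689790) q17487, e3 q15279 (flp_j L689798) q17488, e3 q15280 (flp_j L689808) q17489, e3 q15281 L667421 q13019, e3 q15282 L667432 q13020, e3 q15283 L667440 q13021, e3 q15284 (flp_j L689872) q17498, e3 q15285 (flp_j L689882) q17499, e3 q15286 (flp_j L689888) q17500, e3 q15287 L667474 q15287, e3 q15288 L667480 q15288, e3 q15289 L667484 q15289, e3 q15290 (flp_j L676279) q16216, e3 q15291 L667504 q13033, e3 q15292 L667516 q13035, e3 q15293 L667525 q13036, e3 q15294 L667536 q13037, e3 q15295 (flp_j L686572) q17171, trivial⟩ (by decide +kernel)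

theorem ce_j_239 : ∀ r, r < 64 → sm gj (Qf (15296 + r)) = Qf (tab Gen.j (15296 + r)) :=
  edges_tab (sm gj) Qf (tab Gen.j) 15296 [(15296, 17161), (15297, 17504), (15298, 13364), (15299, 17505), (15300, 13286), (15301, 13041), (15302, 13042), (15303, 17509), (15304, 13645), (15305, 13129), (15306, 13130), (15307, 13153), (15308, 13186), (15309, 13136), (15310, 13137), (15311, 13146), (15312, 13147), (15313, 13148), (15314, 13152), (15315, 13154), (15316, 16139), (15317, 13165), (15318, 13166), (15319, 13167), (15320, 13168), (15321, 13180), (15322, 13191), (15323, 13192), (15324, 16140), (15325, 16562), (15326, 13073), (15327, 16141), (15328, 13202), (15329, 13203), (15330, 16093), (15331, 15984), (15332, 15985), (15333, 13215), (15334, 13221), (15335, 13223), (15336, 13226), (15337, 16088), (15338, 16110), (15339, 16126), (15340, 17239), (15341, 16102), (15342, 16111), (15343, 17240), (15344, 13241), (15345, 13242), (15346, 13243), (15347, 13244), (15348, 13245), (15349, 13246), (15350, 16062), (15351, 13248), (15352, 13249),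 (15353, 13100), (15354, 13631), (15355, 16114), (15356, 15981), (15357, 13294), (15358, 16104), (15359, 16115)]
    ⟨e3 q15296 (flp_j L686447) q17161, e3 q15297 (flp_j L689920) q17504, e3 q15298 L667574 q13364, e3 q15299 (flp_j L689933) q17505, e3 q15300 L667592 q13286, e3 q15301 L667608 q13041, e3 q15302 L667616 q13042, e3 q15303 (flp_j L689974) q17509, e3 q15304 L667636 q13645, e3 q15305 L667651 q13129, e3 q15306 L667668 q13130, e3 q15307 L667680 q13153, e3 q15308 L667698 q13186, e3 q15309 L667706 q13136, e3 q15310 L667716 q13137, e3 q15311 L667721 q13146, e3 q15312 L667732 q13147, e3 q15313 L667740 q13148, e3 q15314 L667747 q13152, e3 q15315 L667756 q13154, e3 q15316 (flp_j L675321) q16139, e3 q15317 L667768 q13165, e3 q15318 L667777 q13166, e3 q15319 L667787 q13167, e3 q15320 L667791 q13168, e3 q15321 L667800 q13180, e3 q15322 L667807 q13191, e3 q15323 L667818 q13192, e3 q15324 (flp_j L675333) q16140, e3 q15325 (flp_j L680442) q16562, e3 q15326 L667847 q13073, e3 q15327 (flp_j L675353) q16141, e3 q15328 L667867 q13202,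 e3 q15329 L667873 q13203, e3 q15330 (flp_j L674652) q16093, e3 q15331 (flp_j L673099) q15984, e3 q15332 (flp_j L673116) q15985, e3 q15333 L667912 q13215, e3 q15334 L667918 q13221, e3 q15335 L667927 q13223, e3 q15336 L667931 q13226, e3 q15337 (flp_j L674583) q16088, e3 q15338 (flp_j L674917) q16110, e3 q15339 (flp_j L675150) q16126, e3 q15340 (flp_j L687369) q17239, e3 q15341 (flp_j L674793) q16102, e3 q15342 (flp_j L674935) q16111, e3 q15343 (flp_j L687379) q17240, e3 q15344 L667983 q13241, e3 q15345 L667989 q13242, e3 q15346 L667999 q13243, e3 q15347 L668007 q13244, e3 q15348 L668017 q13245, e3 q15349 L668023 q13246, e3 q15350 (flp_j L674238) q16062, e3 q15351 L668035 q13248, e3 q15352 L668041 q13249, e3 q15353 (flp_j L668043) q13100, e3 q15354 L668063 q13631, e3 q15355 (flp_j L674976) q16114, e3 q15356 (flp_j L673047) q15981, e3 q15357 L668088 q13294, e3 q15358 (flp_j L674827) q16104, e3 q15359 (flp_j L674992) q16115, trivial⟩ (by decide +kernel)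

theorem ce_j_240 : ∀ r, r < 64 → sm gj (Qf (15360 + r)) = Qf (tab Gen.j (15360 + r)) :=
  edges_tab (sm gj) Qf (tab Gen.j) 15360 [(15360, 13271), (15361, 13272), (15362, 13273), (15363, 13295), (15364, 13122), (15365, 16541), (15366, 16673), (15367, 13293), (15368, 13170), (15369, 13162), (15370, 13171), (15371, 17510), (15372, 13132), (15373, 17557), (15374, 17558), (15375, 13134), (15376, 13135), (15377, 16788), (15378, 17562), (15379, 17512), (15380, 17513), (15381, 13142), (15382, 16822), (15383, 16838), (15384, 16742), (15385, 16830), (15386, 16843), (15387, 16488), (15388, 17514), (15389, 17515), (15390, 17222), (15391, 17223), (15392, 16760), (15393, 17224), (15394, 16498), (15395, 17516), (15396, 17511), (15397, 17517), (15398, 13157), (15399, 13158), (15400, 16777), (15401, 17582), (15402, 17583), (15403, 13163), (15404, 16789), (15405, 16790), (15406, 17553), (15407, 17555), (15408, 17589), (15409, 16476), (15410, 16510), (15411, 16511), (15412, 17519), (15413, 17520), (15414, 17521), (15415, 17554), (15416, 16823),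 (15417, 16824), (15418, 16839), (15419, 16840), (15420, 16831), (15421, 16489), (15422, 16528), (15423, 17522)]
    ⟨e3 q15360 L668120 q13271, e3 q15361 L668130 q13272, e3 q15362 L668135 q13273, e3 q15363 L668145 q13295, e3 q15364 L668158 q13122, e3 q15365 (flp_j L680156) q16541, e3 q15366 (flp_j L681615) q16673, e3 q15367 L668185 q13293, e3 q15368 L668199 q13170, e3 q15369 L668209 q13162, e3 q15370 L668226 q13171, e3 q15371 (flp_j L689991) q17510, e3 q15372 L668248 q13132, e3 q15373 (flp_j L690390) q17557, e3 q15374 (flp_j L690406) q17558, e3 q15375 L668276 q13134, e3 q15376 L668294 q13135, e3 q15377 (flp_j L682711) q16788, e3 q15378 (flp_j L690444) q17562, e3 q15379 (flp_j L690015) q17512, e3 q15380 (flp_j L690021) q17513, e3 q15381 L668337 q13142, e3 q15382 (flp_j L682994) q16822, e3 q15383 (flp_j L683152) q16838, e3 q15384 (flp_j L682306) q16742, e3 q15385 (flp_j L683077) q16830, e3 q15386 (flp_j L683214) q16843, e3 q15387 (flp_j L679537) q16488, e3 q15388 (flp_j L690031) q17514, e3 q15389 (flp_j L690040) q17515, e3 q15390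 (flp_j L687167) q17222, e3 q15391 (flp_j L687182) q17223, e3 q15392 (flp_j L682470) q16760, e3 q15393 (flp_j L687198) q17224, e3 q15394 (flp_j L679659) q16498, e3 q15395 (flp_j L690048) q17516, e3 q15396 (flp_j L690005) q17511, e3 q15397 (flp_j L690052) q17517, e3 q15398 L668459 q13157, e3 q15399 L668469 q13158, e3 q15400 (flp_j L682616) q16777, e3 q15401 (flp_j L690595) q17582, e3 q15402 (flp_j L690605) q17583, e3 q15403 L668493 q13163, e3 q15404 (flp_j L682727) q16789, e3 q15405 (flp_j L682742) q16790, e3 q15406 (flp_j L690341) q17553, e3 q15407 (flp_j L690372) q17555, e3 q15408 (flp_j L690641) q17589, e3 q15409 (flp_j L679410) q16476, e3 q15410 (flp_j L679782) q16510, e3 q15411 (flp_j L679795) q16511, e3 q15412 (flp_j L690071) q17519, e3 q15413 (flp_j L690077) q17520, e3 q15414 (flp_j L690085) q17521, e3 q15415 (flp_j L690356) q17554, e3 q15416 (flp_j L683005) q16823, e3 q15417 (flp_j L683019) q16824, e3 q15418 (flp_j L683165) q16839, e3 q15419 (flp_j L683175) q16840, e3 q15420 (flp_j L683088) q16831, e3 q15421 (flp_j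 L679552) q16489, e3 q15422 (flp_j L679971) q16528, e3 q15423 (flp_j L690089) q17522, trivial⟩ (by decide +kernel)

theorem ce_j_241 : ∀ r, r < 64 → sm gj (Qf (15424 + r)) = Qf (tab Gen.j (15424 + r)) :=
  edges_tab (sm gj) Qf (tab Gen.j) 15424 [(15424, 16841), (15425, 16490), (15426, 16454), (15427, 16402), (15428, 17228), (15429, 17232), (15430, 16124), (15431, 17229), (15432, 16499), (15433, 17523), (15434, 17524), (15435, 16704), (15436, 13195), (15437, 13196), (15438, 16136), (15439, 17617), (15440, 17618), (15441, 13200), (15442, 16137), (15443, 17623), (15444, 16477), (15445, 16512), (15446, 17527), (15447, 16663), (15448, 16731), (15449, 13209), (15450, 16147), (15451, 15997), (15452, 17629), (15453, 13212), (15454, 16148), (15455, 16485), (15456, 16523), (15457, 17529), (15458, 17257), (15459, 17249), (15460, 17261), (15461, 17255), (15462, 17258), (15463, 17262), (15464, 16438), (15465, 17530), (15466, 16024), (15467, 17203), (15468, 17531), (15469, 16071), (15470, 17204), (15471, 16772), (15472, 16773), (15473,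 13230), (15474, 13231), (15475, 13232), (15476, 17650), (15477, 17651), (15478, 17652), (15479, 17235), (15480, 17653), (15481, 17654), (15482, 13235), (15483, 13237), (15484, 13240), (15485, 16636), (15486, 16100), (15487, 17665)]
    ⟨e3 q15424 (flp_j L683190) q16841, e3 q15425 (flp_j L679562) q16490, e3 q15426 (flp_j L679157) q16454, e3 q15427 (flp_j L678458) q16402, e3 q15428 (flp_j L687232) q17228, e3 q15429 (flp_j L687279) q17232, e3 q15430 (flp_j L675124) q16124, e3 q15431 (flp_j L687248) q17229, e3 q15432 (flp_j L679672) q16499, e3 q15433 (flp_j L690101) q17523, e3 q15434 (flp_j L690107) q17524, e3 q15435 (flp_j L681939) q16704, e3 q15436 L668725 q13195, e3 q15437 L668737 q13196, e3 q15438 (flp_j L675281) q16136, e3 q15439 (flp_j L690842) q17617, e3 q15440 (flp_j L690854) q17618, e3 q15441 L668767 q13200, e3 q15442 (flp_j L675297) q16137, e3 q15443 (flp_j L690890) q17623, e3 q15444 (flp_j L679422) q16477, e3 q15445 (flp_j L679807) q16512, e3 q15446 (flp_j L690131) q17527, e3 q15447 (flp_j L681497) q16663, e3 q15448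 (flp_j L682192) q16731, e3 q15449 L668829 q13209, e3 q15450 (flp_j L675416) q16147, e3 q15451 (flp_j L673287) q15997, e3 q15452 (flp_j L690934) q17629, e3 q15453 L668865 q13212, e3 q15454 (flp_j L675430) q16148, e3 q15455 (flp_j L679505) q16485, e3 q15456 (flp_j L679915) q16523, e3 q15457 (flp_j L690149) q17529, e3 q15458 (flp_j L687553) q17257, e3 q15459 (flp_j L687467) q17249, e3 q15460 (flp_j L687592) q17261, e3 q15461 (flp_j L687533) q17255, e3 q15462 (flp_j L687566) q17258, e3 q15463 (flp_j L687602) q17262, e3 q15464 (flp_j L678949) q16438, e3 q15465 (flp_j L690157) q17530, e3 q15466 (flp_j L673644) q16024, e3 q15467 (flp_j L686952) q17203, e3 q15468 (flp_j L690163) q17531, e3 q15469 (flp_j L674367) q16071, e3 q15470 (flp_j L686962) q17204, e3 q15471 (flp_j L682572) q16772, e3 q15472 (flp_j L682582) q16773, e3 q15473 L668995 q13230, e3 q15474 L669001 q13231, e3 q15475 L669011 q13232, e3 q15476 (flp_j L691079) q17650, e3 q15477 (flp_j L691085) q17651, e3 q15478 (flp_j L691095) q17652, e3 q15479 (flp_j L687321) q17235,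 e3 q15480 (flp_j L691103) q17653, e3 q15481 (flp_j L691109) q17654, e3 q15482 L669051 q13235, e3 q15483 L669059 q13237, e3 q15484 L669063 q13240, e3 q15485 (flp_j L681198) q16636, e3 q15486 (flp_j L674760) q16100, e3 q15487 (flp_j L691177) q17665, trivial⟩ (by decide +kernel)

theorem ce_j_242 : ∀ r, r < 64 → sm gj (Qf (15488 + r)) = Qf (tab Gen.j (15488 + r)) :=
  edges_tab (sm gj) Qf (tab Gen.j) 15488 [(15488, 16107), (15489, 16109), (15490, 17666), (15491, 17675), (15492, 17236), (15493, 17237), (15494, 16461), (15495, 17537), (15496, 16432), (15497, 17538), (15498, 17539), (15499, 16060), (15500, 17540), (15501, 17541), (15502, 17542), (15503, 13247), (15504, 17687), (15505, 17544), (15506, 13250), (15507, 17689), (15508, 13253), (15509, 16650), (15510, 16665), (15511, 13260), (15512, 13262), (15513, 13263), (15514, 13264), (15515, 16640), (15516, 16241), (15517, 17692), (15518, 16266), (15519, 16274), (15520, 17693), (15521, 17508), (15522, 13269), (15523, 13270), (15524, 16643), (15525, 17702), (15526, 17703), (15527,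 17549), (15528, 17550), (15529, 17551), (15530, 16667), (15531, 13280), (15532, 13281), (15533, 13282), (15534, 13284), (15535, 13285), (15536, 16847), (15537, 17711), (15538, 13524), (15539, 17712), (15540, 17713), (15541, 13363), (15542, 17328), (15543, 13290), (15544, 13291), (15545, 17718), (15546, 16671), (15547, 16557), (15548, 17528), (15549, 17545), (15550, 17546), (15551, 13594)]
    ⟨e3 q15488 (flp_j L674871) q16107, e3 q15489 (flp_j L674905) q16109, e3 q15490 (flp_j L691183) q17666, e3 q15491 L691245 q17675, e3 q15492 (flp_j L687337) q17236, e3 q15493 (flp_j L687347) q17237, e3 q15494 (flp_j L679246) q16461, e3 q15495 (flp_j L690204) q17537, e3 q15496 (flp_j L678884) q16432, e3 q15497 (flp_j L690214) q17538, e3 q15498 (flp_j L690220) q17539, e3 q15499 (flp_j L674209) q16060, e3 q15500 (flp_j L690230) q17540, e3 q15501 (flp_j L690238) q17541, e3 q15502 (flp_j L690242) q17542, e3 q15503 (flp_j L669181) q13247, e3 q15504 (flp_j L691323) q17687, e3 q15505 (flp_j L690258) q17544, e3 q15506 (flp_j L669195) q13250, e3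 q15507 (flp_j L691337) q17689, e3 q15508 L669223 q13253, e3 q15509 (flp_j L681349) q16650, e3 q15510 (flp_j L681524) q16665, e3 q15511 L669244 q13260, e3 q15512 L669255 q13262, e3 q15513 L669267 q13263, e3 q15514 L669275 q13264, e3 q15515 L681240 q16640, e3 q15516 (flp_j L676612) q16241, e3 q15517 (flp_j L691366) q17692, e3 q15518 (flp_j L676927) q16266, e3 q15519 (flp_j L677025) q16274, e3 q15520 (flp_j L691374) q17693, e3 q15521 (flp_j L689960) q17508, e3 q15522 L669340 q13269, e3 q15523 L669348 q13270, e3 q15524 (flp_j L681267) q16643, e3 q15525 (flp_j L691447) q17702, e3 q15526 (flp_j L691452) q17703, e3 q15527 (flp_j L690306) q17549, e3 q15528 (flp_j L690313) q17550, e3 q15529 (flp_j L690318) q17551, e3 q15530 (flp_j L681550) q16667, e3 q15531 L669410 q13280, e3 q15532 L669418 q13281, e3 q15533 L669431 q13282, e3 q15534 L669444 q13284, e3 q15535 L669453 q13285, e3 q15536 (flp_j L683271) q16847, e3 q15537 (flp_j L691509) q17711, e3 q15538 L669479 q13524, e3 q15539 (flp_j L691521) q17712, e3 q15540 (flp_j L691529) q17713,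 e3 q15541 L669513 q13363, e3 q15542 (flp_j L688291) q17328, e3 q15543 L669534 q13290, e3 q15544 L669542 q13291, e3 q15545 (flp_j L691581) q17718, e3 q15546 (flp_j L681590) q16671, e3 q15547 (flp_j L680371) q16557, e3 q15548 (flp_j L690140) q17528, e3 q15549 (flp_j L690266) q17545, e3 q15550 (flp_j L690277) q17546, e3 q15551 L669591 q13594, trivial⟩ (by decide +kernel)

theorem ce_j_243 : ∀ r, r < 64 → sm gj (Qf (15552 + r)) = Qf (tab Gen.j (15552 + r)) :=
  edges_tab (sm gj) Qf (tab Gen.j) 15552 [(15552, 16863), (15553, 13298), (15554, 13299), (15555, 17724), (15556, 17725), (15557, 13302), (15558, 17728), (15559, 16879), (15560, 16910), (15561, 17333), (15562, 16883), (15563, 13309), (15564, 13310), (15565, 17733), (15566, 17734), (15567, 13313), (15568, 13314), (15569, 16939), (15570, 17738), (15571, 17739), (15572, 15572), (15573, 16894), (15574, 16895), (15575, 13320), (15576, 13321), (15577, 13322), (15578, 17745), (15579, 17746), (15580, 17747), (15581, 17748), (15582, 17749), (15583, 17750), (15584, 13326), (15585,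 13327), (15586, 13328), (15587, 13329), (15588, 13330), (15589, 13331), (15590, 17759), (15591, 17760), (15592, 17761), (15593, 17762), (15594, 17763), (15595, 17765), (15596, 17766), (15597, 15597), (15598, 15598), (15599, 15599), (15600, 16948), (15601, 13339), (15602, 16934), (15603, 16935), (15604, 13345), (15605, 13346), (15606, 13347), (15607, 13348), (15608, 17016), (15609, 16962), (15610, 17777), (15611, 17778), (15612, 17779), (15613, 13351), (15614, 13352), (15615, 17784)]
    ⟨e3 q15552 (flp_j L683470) q16863, e3 q15553 L669613 q13298, e3 q15554 L669623 q13299, e3 q15555 (flp_j L691628) q17724, e3 q15556 (flp_j L691638) q17725, e3 q15557 L669646 q13302, e3 q15558 (flp_j L691659) q17728, e3 q15559 (flp_j L683641) q16879, e3 q15560 (flp_j L683962) q16910, e3 q15561 (flp_j L688353) q17333, e3 q15562 (flp_j L683685) q16883, e3 q15563 L669691 q13309, e3 q15564 L669701 q13310, e3 q15565 (flp_j L691691) q17733, e3 q15566 (flp_j L691701) q17734, e3 q15567 L669722 q13313, e3 q15568 L669733 q13314, e3 q15569 (flp_j L684286)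 q16939, e3 q15570 (flp_j L691734) q17738, e3 q15571 (flp_j L691739) q17739, e3 q15572 L669767 q15572, e3 q15573 (flp_j L683804) q16894, e3 q15574 (flp_j L683813) q16895, e3 q15575 L669788 q13320, e3 q15576 L669794 q13321, e3 q15577 L669802 q13322, e3 q15578 (flp_j L691787) q17745, e3 q15579 (flp_j L691793) q17746, e3 q15580 (flp_j L691803) q17747, e3 q15581 (flp_j L691809) q17748, e3 q15582 (flp_j L691817) q17749, e3 q15583 (flp_j L691823) q17750, e3 q15584 L669843 q13326, e3 q15585 L669850 q13327, e3 q15586 L669860 q13328, e3 q15587 L669868 q13329, e3 q15588 L669879 q13330, e3 q15589 L669884 q13331, e3 q15590 (flp_j L691880) q17759, e3 q15591 (flp_j L691890) q17760, e3 q15592 (flp_j L691897) q17761, e3 q15593 (flp_j L691907) q17762, e3 q15594 (flp_j L691914) q17763, e3 q15595 (flp_j L691933) q17765, e3 q15596 (flp_j L691942) q17766, e3 q15597 L669950 q15597, e3 q15598 L669955 q15598, e3 q15599 L669962 q15599, e3 q15600 (flp_j L684394) q16948, e3 q15601 L669978 q13339, e3 q15602 (flp_j L684201) q16934, e3 q15603 (flp_j L684220)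 q16935, e3 q15604 L670000 q13345, e3 q15605 L670010 q13346, e3 q15606 L670021 q13347, e3 q15607 L670030 q13348, e3 q15608 (flp_j L685097) q17016, e3 q15609 (flp_j L684523) q16962, e3 q15610 (flp_j L692025) q17777, e3 q15611 (flp_j L692030) q17778, e3 q15612 (flp_j L692039) q17779, e3 q15613 L670083 q13351, e3 q15614 L670097 q13352, e3 q15615 (flp_j L692094) q17784, trivial⟩ (by decide +kernel)

theorem ce_j_244 : ∀ r, r < 64 → sm gj (Qf (15616 + r)) = Qf (tab Gen.j (15616 + r)) :=
  edges_tab (sm gj) Qf (tab Gen.j) 15616 [(15616, 13361), (15617, 17165), (15618, 17151), (15619, 17716), (15620, 13368), (15621, 13369), (15622, 17786), (15623, 13658), (15624, 16940), (15625, 13376), (15626, 16899), (15627, 16938), (15628, 13381), (15629, 13382), (15630, 17790), (15631, 17791), (15632, 13385), (15633, 17794), (15634, 16973), (15635, 16974), (15636, 13390), (15637, 13391), (15638, 13392), (15639, 17798), (15640, 17799), (15641, 17800), (15642, 17801), (15643, 17802), (15644, 13395), (15645, 13396), (15646, 13397), (15647, 17810),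 (15648, 17811), (15649, 17812), (15650, 15650), (15651, 15651), (15652, 17004), (15653, 17006), (15654, 13406), (15655, 13407), (15656, 13408), (15657, 13409), (15658, 17176), (15659, 17175), (15660, 17817), (15661, 16330), (15662, 17818), (15663, 13412), (15664, 13413), (15665, 17824), (15666, 13418), (15667, 17417), (15668, 17409), (15669, 17421), (15670, 17022), (15671, 17023), (15672, 13422), (15673, 13423), (15674, 13424), (15675, 17833), (15676, 17834), (15677, 17835), (15678, 17399), (15679, 17836)]
    ⟨e3 q15616 L670116 q13361, e3 q15617 (flp_j L686508) q17165, e3 q15618 (flp_j L686314) q17151, e3 q15619 (flp_j L691561) q17716, e3 q15620 L670155 q13368, e3 q15621 L670163 q13369, e3 q15622 (flp_j L692116) q17786, e3 q15623 L670185 q13658, e3 q15624 (flp_j L684304) q16940, e3 q15625 L670208 q13376, e3 q15626 (flp_j L683851) q16899, e3 q15627 (flp_j L684272) q16938, e3 q15628 L670234 q13381, e3 q15629 L670246 q13382, e3 q15630 (flp_j L692148) q17790, e3 q15631 (flp_j L692160) q17791, e3 q15632 L670269 q13385, e3 q15633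 (flp_j L692181) q17794, e3 q15634 (flp_j L684644) q16973, e3 q15635 (flp_j L684655) q16974, e3 q15636 L670301 q13390, e3 q15637 L670309 q13391, e3 q15638 L670319 q13392, e3 q15639 (flp_j L692215) q17798, e3 q15640 (flp_j L692223) q17799, e3 q15641 (flp_j L692235) q17800, e3 q15642 (flp_j L692243) q17801, e3 q15643 (flp_j L692251) q17802, e3 q15644 L670360 q13395, e3 q15645 L670371 q13396, e3 q15646 L670378 q13397, e3 q15647 (flp_j L692306) q17810, e3 q15648 (flp_j L692317) q17811, e3 q15649 (flp_j L692326) q17812, e3 q15650 L670412 q15650, e3 q15651 L670417 q15651, e3 q15652 (flp_j L684939) q17004, e3 q15653 (flp_j L684968) q17006, e3 q15654 L670441 q13406, e3 q15655 L670452 q13407, e3 q15656 L670466 q13408, e3 q15657 L670477 q13409, e3 q15658 (flp_j L686632) q17176, e3 q15659 (flp_j L686615) q17175, e3 q15660 (flp_j L692367) q17817, e3 q15661 (flp_j L677645) q16330, e3 q15662 (flp_j L692379) q17818, e3 q15663 L670528 q13412, e3 q15664 L670542 q13413, e3 q15665 (flp_j L692433) q17824, e3 q15666 L670565 q13418, e3 q15667 (flp_j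 L689183) q17417, e3 q15668 (flp_j L689099) q17409, e3 q15669 (flp_j L689227) q17421, e3 q15670 (flp_j L685138) q17022, e3 q15671 (flp_j L685149) q17023, e3 q15672 L670601 q13422, e3 q15673 L670609 q13423, e3 q15674 L670619 q13424, e3 q15675 (flp_j L692493) q17833, e3 q15676 (flp_j L692501) q17834, e3 q15677 (flp_j L692513) q17835, e3 q15678 (flp_j L689003) q17399, e3 q15679 (flp_j L692519) q17836, trivial⟩ (by decide +kernel)

theorem ce_j_245 : ∀ r, r < 64 → sm gj (Qf (15680 + r)) = Qf (tab Gen.j (15680 + r)) :=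
  edges_tab (sm gj) Qf (tab Gen.j) 15680 [(15680, 17837), (15681, 13428), (15682, 13429), (15683, 13430), (15684, 13432), (15685, 13433), (15686, 17848), (15687, 17849), (15688, 17850), (15689, 17398), (15690, 17851), (15691, 17852), (15692, 17861), (15693, 17400), (15694, 17853), (15695, 15695), (15696, 15696), (15697, 15697), (15698, 17866), (15699, 15699), (15700, 15700), (15701, 13440), (15702, 17870), (15703, 15703), (15704, 17054), (15705, 17055), (15706, 17056), (15707, 13448), (15708, 13449), (15709, 13450), (15710, 13451), (15711, 13452), (15712, 13453), (15713, 17178), (15714, 17877), (15715, 17878), (15716, 17879), (15717, 17880), (15718, 17881), (15719, 17882), (15720, 17899), (15721, 17884), (15722, 17885), (15723, 13460), (15724, 13461), (15725, 13462), (15726, 13463), (15727, 13464), (15728, 13465), (15729, 17911), (15730, 13467), (15731, 13468), (15732, 17903), (15733, 17904), (15734, 17905), (15735, 17906), (15736, 17907), (15737, 17921), (15738, 17908), (15739, 17909), (15740, 17910), (15741, 13466), (15742,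 17926), (15743, 17913)]
    ⟨e3 q15680 (flp_j L692525) q17837, e3 q15681 L670664 q13428, e3 q15682 L670673 q13429, e3 q15683 L670685 q13430, e3 q15684 L670696 q13432, e3 q15685 L670701 q13433, e3 q15686 (flp_j L692600) q17848, e3 q15687 (flp_j L692611) q17849, e3 q15688 (flp_j L692623) q17850, e3 q15689 (flp_j L688994) q17398, e3 q15690 (flp_j L692633) q17851, e3 q15691 (flp_j L692640) q17852, e3 q15692 L692713 q17861, e3 q15693 (flp_j L689019) q17400, e3 q15694 (flp_j L692651) q17853, e3 q15695 L670782 q15695, e3 q15696 L670790 q15696, e3 q15697 L670795 q15697, e3 q15698 L692751 q17866, e3 q15699 L670812 q15699, e3 q15700 L670819 q15700, e3 q15701 (flp_j L670822) q13440, e3 q15702 (flp_j L692786) q17870, e3 q15703 L670839 q15703, e3 q15704 (flp_j L685434) q17054, e3 q15705 (flp_j L685442) q17055, e3 q15706 (flp_j L685451) q17056, e3 q15707 L670866 q13448, e3 q15708 L670872 q13449, e3 q15709 L670882 q13450, e3 q15710 L670886 q13451, e3 q15711 L670894 q13452, e3 q15712 L670900 q13453, e3 q15713 (flp_j L686657) q17178, e3 q15714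 (flp_j L692827) q17877, e3 q15715 (flp_j L692839) q17878, e3 q15716 (flp_j L692845) q17879, e3 q15717 (flp_j L692853) q17880, e3 q15718 (flp_j L692863) q17881, e3 q15719 (flp_j L692871) q17882, e3 q15720 L692971 q17899, e3 q15721 (flp_j L692883) q17884, e3 q15722 (flp_j L692889) q17885, e3 q15723 L670961 q13460, e3 q15724 L670968 q13461, e3 q15725 L670979 q13462, e3 q15726 L670987 q13463, e3 q15727 L670998 q13464, e3 q15728 L671005 q13465, e3 q15729 L693063 q17911, e3 q15730 L671018 q13467, e3 q15731 L671025 q13468, e3 q15732 (flp_j L692994) q17903, e3 q15733 (flp_j L693005) q17904, e3 q15734 (flp_j L693013) q17905, e3 q15735 (flp_j L693024) q17906, e3 q15736 (flp_j L693031) q17907, e3 q15737 L693139 q17921, e3 q15738 (flp_j L693043) q17908, e3 q15739 (flp_j L693052) q17909, e3 q15740 (flp_j L693059) q17910, e3 q15741 (flp_j L671095) q13466, e3 q15742 (flp_j L693181) q17926, e3 q15743 (flp_j L693081) q17913, trivial⟩ (by decide +kernel)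

theorem ce_j_246 : ∀ r, r < 64 → sm gj (Qf (15744 + r)) = Qf (tab Gen.j (15744 + r)) :=
  edges_tab (sm gj) Qf (tab Gen.j) 15744 [(15744, 15744), (15745, 15745), (15746, 17929), (15747, 15747), (15748, 15748), (15749, 15749), (15750, 13474), (15751, 17933), (15752, 15752), (15753, 15753), (15754, 15754), (15755, 13479), (15756, 17937), (15757, 13481), (15758, 17938), (15759, 13484), (15760, 17122), (15761, 13495), (15762, 13496), (15763, 13497), (15764, 13498), (15765, 17179), (15766, 13566), (15767, 16978), (15768, 17939), (15769, 17940), (15770, 13503), (15771, 13505), (15772, 13690), (15773, 13751), (15774, 17944), (15775, 17155), (15776, 13516), (15777, 16848), (15778, 17158), (15779, 13527), (15780, 16198), (15781, 16213), (15782, 17010), (15783, 13541), (15784, 13542), (15785, 13543), (15786, 17950), (15787, 17951), (15788, 17952), (15789, 17953), (15790, 17954), (15791, 17132), (15792, 17149), (15793, 13549), (15794, 13550), (15795, 13551), (15796, 13552), (15797, 17182), (15798, 17164), (15799, 17963), (15800, 17964),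 (15801, 17965), (15802, 13555), (15803, 13556), (15804, 17971), (15805, 17011), (15806, 17012), (15807, 17888)]
    ⟨e3 q15744 L671121 q15744, e3 q15745 L671126 q15745, e3 q15746 L693196 q17929, e3 q15747 L671141 q15747, e3 q15748 L671148 q15748, e3 q15749 L671153 q15749, e3 q15750 (flp_j L671156) q13474, e3 q15751 (flp_j L693234) q17933, e3 q15752 L671177 q15752, e3 q15753 L671180 q15753, e3 q15754 L671185 q15754, e3 q15755 L671193 q13479, e3 q15756 (flp_j L693259) q17937, e3 q15757 (flp_j L671199) q13481, e3 q15758 (flp_j L693268) q17938, e3 q15759 L671221 q13484, e3 q15760 (flp_j L685966) q17122, e3 q15761 L671240 q13495, e3 q15762 L671250 q13496, e3 q15763 L671262 q13497, e3 q15764 L671276 q13498, e3 q15765 (flp_j L686671) q17179, e3 q15766 L671294 q13566, e3 q15767 (flp_j L684695) q16978, e3 q15768 (flp_j L693278) q17939, e3 q15769 (flp_j L693286) q17940, e3 q15770 L671323 q13503, e3 q15771 L671332 q13505, e3 q15772 L671346 q13690, e3 q15773 L671356 q13751, e3 q15774 (flp_j L693309) q17944, e3 q15775 (flp_j L686361)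 q17155, e3 q15776 L671386 q13516, e3 q15777 (flp_j L683282) q16848, e3 q15778 (flp_j L686399) q17158, e3 q15779 L671412 q13527, e3 q15780 (flp_j L676046) q16198, e3 q15781 (flp_j L676245) q16213, e3 q15782 (flp_j L685018) q17010, e3 q15783 L671442 q13541, e3 q15784 L671448 q13542, e3 q15785 L671461 q13543, e3 q15786 (flp_j L693357) q17950, e3 q15787 (flp_j L693367) q17951, e3 q15788 (flp_j L693377) q17952, e3 q15789 (flp_j L693387) q17953, e3 q15790 (flp_j L693394) q17954, e3 q15791 (flp_j L686089) q17132, e3 q15792 (flp_j L686284) q17149, e3 q15793 L671514 q13549, e3 q15794 L671523 q13550, e3 q15795 L671534 q13551, e3 q15796 L671542 q13552, e3 q15797 (flp_j L686715) q17182, e3 q15798 (flp_j L686495) q17164, e3 q15799 (flp_j L693461) q17963, e3 q15800 (flp_j L693468) q17964, e3 q15801 (flp_j L693477) q17965, e3 q15802 L671581 q13555, e3 q15803 L671592 q13556, e3 q15804 (flp_j L693516) q17971, e3 q15805 (flp_j L685031) q17011, e3 q15806 (flp_j L685045) q17012, e3 q15807 (flp_j L692907) q17888, trivial⟩ (by decide +kernel)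

theorem ce_j_247 : ∀ r, r < 64 → sm gj (Qf (15808 + r)) = Qf (tab Gen.j (15808 + r)) :=
  edges_tab (sm gj) Qf (tab Gen.j) 15808 [(15808, 13570), (15809, 17974), (15810, 13610), (15811, 13627), (15812, 13630), (15813, 15982), (15814, 16105), (15815, 13651), (15816, 13652), (15817, 13653), (15818, 13593), (15819, 16106), (15820, 16533), (15821, 17981), (15822, 13671), (15823, 13598), (15824, 13599), (15825, 16543), (15826, 17983), (15827, 16560), (15828, 13668), (15829, 13669), (15830, 13670), (15831, 16031), (15832, 15998), (15833, 16083), (15834, 16486), (15835, 16449), (15836, 17975), (15837, 16099), (15838, 16101), (15839, 16059), (15840, 16108), (15841, 17233), (15842, 13638), (15843, 16412), (15844, 16462), (15845, 16410), (15846, 16433), (15847, 16495), (15848, 16056), (15849, 16061), (15850, 16044), (15851, 17543), (15852, 16525), (15853, 16236), (15854, 16242), (15855, 16243), (15856, 16253), (15857, 16267), (15858, 16275), (15859, 13649), (15860, 16646), (15861, 16154), (15862, 16815), (15863, 17977), (15864, 17978),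 (15865, 17979), (15866, 17980), (15867, 13659), (15868, 13661), (15869, 16850), (15870, 16852), (15871, 17332)]
    ⟨e3 q15808 L671622 q13570, e3 q15809 (flp_j L693536) q17974, e3 q15810 L671635 q13610, e3 q15811 L671646 q13627, e3 q15812 L671655 q13630, e3 q15813 (flp_j L673065) q15982, e3 q15814 (flp_j L674841) q16105, e3 q15815 L671681 q13651, e3 q15816 L671689 q13652, e3 q15817 L671695 q13653, e3 q15818 L671705 q13593, e3 q15819 (flp_j L674860) q16106, e3 q15820 (flp_j L680036) q16533, e3 q15821 (flp_j L693594) q17981, e3 q15822 L671742 q13671, e3 q15823 L671754 q13598, e3 q15824 L671762 q13599, e3 q15825 (flp_j L680181) q16543, e3 q15826 (flp_j L693618) q17983, e3 q15827 (flp_j L680411) q16560, e3 q15828 L671798 q13668, e3 q15829 L671805 q13669, e3 q15830 L671814 q13670, e3 q15831 (flp_j L673751) q16031, e3 q15832 (flp_j L673300) q15998, e3 q15833 (flp_j L674507) q16083, e3 q15834 (flp_j L679517) q16486, e3 q15835 (flp_j L679086) q16449, e3 q15836 (flp_j L693543) q17975, e3 q15837 (flp_j L674750) q16099, e3 q15838 (flp_j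 L674779) q16101, e3 q15839 (flp_j L674199) q16059, e3 q15840 (flp_j L674889) q16108, e3 q15841 (flp_j L687296) q17233, e3 q15842 L671906 q13638, e3 q15843 (flp_j L678610) q16412, e3 q15844 (flp_j L679261) q16462, e3 q15845 (flp_j L678576) q16410, e3 q15846 (flp_j L678898) q16433, e3 q15847 (flp_j L679623) q16495, e3 q15848 (flp_j L674148) q16056, e3 q15849 (flp_j L674226) q16061, e3 q15850 (flp_j L673968) q16044, e3 q15851 (flp_j L690252) q17543, e3 q15852 (flp_j L679941) q16525, e3 q15853 (flp_j L676548) q16236, e3 q15854 (flp_j L676631) q16242, e3 q15855 (flp_j L676645) q16243, e3 q15856 (flp_j L676771) q16253, e3 q15857 (flp_j L676941) q16267, e3 q15858 (flp_j L677037) q16275, e3 q15859 L672023 q13649, e3 q15860 (flp_j L681295) q16646, e3 q15861 (flp_j L675494) q16154, e3 q15862 (flp_j L682934) q16815, e3 q15863 (flp_j L693563) q17977, e3 q15864 (flp_j L693569) q17978, e3 q15865 (flp_j L693579) q17979, e3 q15866 (flp_j L693585) q17980, e3 q15867 L672077 q13659, e3 q15868 L672085 q13661, e3 q15869 (flp_j L683311) q16850,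 e3 q15870 (flp_j L683339) q16852, e3 q15871 (flp_j L688334) q17332, trivial⟩ (by decide +kernel)

theorem ce_j_248 : ∀ r, r < 64 → sm gj (Qf (15872 + r)) = Qf (tab Gen.j (15872 + r)) :=
  edges_tab (sm gj) Qf (tab Gen.j) 15872 [(15872, 18004), (15873, 17286), (15874, 13665), (15875, 13666), (15876, 13667), (15877, 18009), (15878, 18010), (15879, 18011), (15880, 18012), (15881, 17986), (15882, 17985), (15883, 17984), (15884, 17976), (15885, 15885), (15886, 13754), (15887, 16006), (15888, 16007), (15889, 13678), (15890, 13679), (15891, 13680), (15892, 18017), (15893, 18018), (15894, 18019), (15895, 15895), (15896, 15896), (15897, 15897), (15898, 13688), (15899, 13696), (15900, 16328), (15901, 17181), (15902, 13695), (15903, 16300), (15904, 16331), (15905, 13722), (15906, 13697), (15907, 18014), (15908, 18027), (15909, 13709), (15910, 13755), (15911, 13757), (15912, 13752), (15913, 13729), (15914, 16261), (15915, 16252), (15916, 16265), (15917, 17375), (15918, 16283), (15919, 16285), (15920, 13725), (15921, 17376), (15922, 16284),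 (15923, 13746), (15924, 13721), (15925, 13723), (15926, 13724), (15927, 13727), (15928, 13728), (15929, 13732), (15930, 18045), (15931, 18026), (15932, 18016), (15933, 17955), (15934, 18046), (15935, 18041)]
    ⟨e3 q15872 (flp_j L693784) q18004, e3 q15873 (flp_j L687832) q17286, e3 q15874 L672136 q13665, e3 q15875 L672143 q13666, e3 q15876 L672151 q13667, e3 q15877 (flp_j L693829) q18009, e3 q15878 (flp_j L693843) q18010, e3 q15879 (flp_j L693860) q18011, e3 q15880 (flp_j L693868) q18012, e3 q15881 (flp_j L693664) q17986, e3 q15882 (flp_j L693647) q17985, e3 q15883 (flp_j L693633) q17984, e3 q15884 (flp_j L693553) q17976, e3 q15885 L672220 q15885, e3 q15886 L672228 q13754, e3 q15887 (flp_j L673397) q16006, e3 q15888 (flp_j L673411) q16007, e3 q15889 L672259 q13678, e3 q15890 L672271 q13679, e3 q15891 L672280 q13680, e3 q15892 (flp_j L693924) q18017, e3 q15893 (flp_j L693931) q18018, e3 q15894 (flp_j L693941) q18019, e3 q15895 L672317 q15895, e3 q15896 L672324 q15896, e3 q15897 L672333 q15897, e3 q15898 L672348 q13688, e3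 q15899 L672362 q13696, e3 q15900 (flp_j L677621) q16328, e3 q15901 (flp_j L686700) q17181, e3 q15902 L672389 q13695, e3 q15903 (flp_j L677334) q16300, e3 q15904 (flp_j L677659) q16331, e3 q15905 L672414 q13722, e3 q15906 L672426 q13697, e3 q15907 (flp_j L693890) q18014, e3 q15908 (flp_j L694010) q18027, e3 q15909 L672458 q13709, e3 q15910 L672469 q13755, e3 q15911 L672477 q13757, e3 q15912 L672490 q13752, e3 q15913 L672500 q13729, e3 q15914 (flp_j L676868) q16261, e3 q15915 (flp_j L676752) q16252, e3 q15916 (flp_j L676917) q16265, e3 q15917 (flp_j L688762) q17375, e3 q15918 (flp_j L677140) q16283, e3 q15919 (flp_j L677170) q16285, e3 q15920 L672553 q13725, e3 q15921 (flp_j L688777) q17376, e3 q15922 (flp_j L677153) q16284, e3 q15923 L672579 q13746, e3 q15924 L672591 q13721, e3 q15925 L672599 q13723, e3 q15926 L672612 q13724, e3 q15927 L672620 q13727, e3 q15928 L672629 q13728, e3 q15929 L672637 q13732, e3 q15930 (flp_j L694155) q18045, e3 q15931 (flp_j L694000) q18026, e3 q15932 (flp_j L693907) q18016, e3 q15933 (flp_j L693402)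 q17955, e3 q15934 (flp_j L694169) q18046, e3 q15935 (flp_j L694117) q18041, trivial⟩ (by decide +kernel)

theorem ce_j_249 : ∀ r, r < 64 → sm gj (Qf (15936 + r)) = Qf (tab Gen.j (15936 + r)) :=
  edges_tab (sm gj) Qf (tab Gen.j) 15936 [(15936, 13726), (15937, 18054), (15938, 18047), (15939, 18048), (15940, 18032), (15941, 13731), (15942, 18043), (15943, 13792), (15944, 15944), (15945, 15945), (15946, 13736), (15947, 18061), (15948, 15948), (15949, 15949), (15950, 13741), (15951, 18044), (15952, 15952), (15953, 15953), (15954, 13748), (15955, 16989), (15956, 17920), (15957, 18031), (15958, 17015), (15959, 18029), (15960, 16911), (15961, 16179), (15962, 16909), (15963, 17415), (15964, 17418), (15965, 17422), (15966, 13778), (15967, 18072), (15968, 13781), (15969, 16844), (15970, 16849), (15971, 16205), (15972, 16218), (15973, 13793), (15974, 13794), (15975, 18059), (15976, 18075), (15977, 14381), (15978, 13808), (15979, 13809), (15980, 14378), (15981, 15356), (15982, 15813), (15983, 14478), (15984, 15331), (15985, 15332), (15986,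 13807), (15987, 18083), (15988, 18079), (15989, 18080), (15990, 15990), (15991, 15991), (15992, 13814), (15993, 18087), (15994, 15994), (15995, 15995), (15996, 18090), (15997, 15451), (15998, 15832), (15999, 13821)]
    ⟨e3 q15936 (flp_j L672688) q13726, e3 q15937 (flp_j L694233) q18054, e3 q15938 (flp_j L694177) q18047, e3 q15939 (flp_j L694183) q18048, e3 q15940 (flp_j L694059) q18032, e3 q15941 L672730 q13731, e3 q15942 (flp_j L694136) q18043, e3 q15943 (flp_j L672749) q13792, e3 q15944 L672759 q15944, e3 q15945 L672767 q15945, e3 q15946 (flp_j L672769) q13736, e3 q15947 (flp_j L694293) q18061, e3 q15948 L672795 q15948, e3 q15949 L672801 q15949, e3 q15950 L672809 q13741, e3 q15951 (flp_j L694145) q18044, e3 q15952 L672823 q15952, e3 q15953 L672827 q15953, e3 q15954 L672837 q13748, e3 q15955 (flp_j L684804) q16989, e3 q15956 (flp_j L693135) q17920, e3 q15957 (flp_j L694049) q18031, e3 q15958 (flp_j L685079) q17015, e3 q15959 (flp_j L694026) q18029, e3 q15960 (flp_j L683980) q16911, e3 q15961 (flp_j L675806) q16179, e3 q15962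 (flp_j L683950) q16909, e3 q15963 (flp_j L689162) q17415, e3 q15964 (flp_j L689197) q17418, e3 q15965 (flp_j L689237) q17422, e3 q15966 (flp_j L672899) q13778, e3 q15967 (flp_j L694365) q18072, e3 q15968 L672918 q13781, e3 q15969 (flp_j L683233) q16844, e3 q15970 (flp_j L683293) q16849, e3 q15971 (flp_j L676139) q16205, e3 q15972 (flp_j L676305) q16218, e3 q15973 L672954 q13793, e3 q15974 L672960 q13794, e3 q15975 (flp_j L694272) q18059, e3 q15976 (flp_j L694389) q18075, e3 q15977 (flp_j L672989) q14381, e3 q15978 L673003 q13808, e3 q15979 L673015 q13809, e3 q15980 L673032 q14378, e3 q15981 L673047 q15356, e3 q15982 L673065 q15813, e3 q15983 L673084 q14478, e3 q15984 L673099 q15331, e3 q15985 L673116 q15332, e3 q15986 (flp_j L673121) q13807, e3 q15987 (flp_j L694506) q18083, e3 q15988 (flp_j L694434) q18079, e3 q15989 (flp_j L694447) q18080, e3 q15990 L673185 q15990, e3 q15991 L673200 q15991, e3 q15992 (flp_j L673204) q13814, e3 q15993 (flp_j L694573) q18087, e3 q15994 L673244 q15994, e3 q15995 L673254 q15995, e3 q15996 L694609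 q18090, e3 q15997 L673287 q15451, e3 q15998 L673300 q15832, e3 q15999 (flp_j L673305) q13821, trivial⟩ (by decide +kernel)

theorem ce_j_250 : ∀ r, r < 64 → sm gj (Qf (16000 + r)) = Qf (tab Gen.j (16000 + r)) :=
  edges_tab (sm gj) Qf (tab Gen.j) 16000 [(16000, 18093), (16001, 16001), (16002, 13825), (16003, 18095), (16004, 16004), (16005, 16005), (16006, 15887), (16007, 15888), (16008, 16008), (16009, 15093), (16010, 15094), (16011, 15095), (16012, 13839), (16013, 13840), (16014, 13841), (16015, 18102), (16016, 18103), (16017, 18104), (16018, 16018), (16019, 16019), (16020, 16020), (16021, 13899), (16022, 13900), (16023, 13858), (16024, 15466), (16025, 15019), (16026, 13906), (16027, 13907), (16028, 13908), (16029, 13862), (16030, 14418), (16031, 15831), (16032, 13913), (16033, 13914), (16034, 13924), (16035, 13937), (16036, 13938), (16037, 13943), (16038, 13951), (16039, 14368), (16040, 13956), (16041, 13957), (16042, 13881), (16043, 15012), (16044, 15850), (16045, 13966), (16046, 13967), (16047, 15017), (16048, 13979),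 (16049, 13980), (16050, 13981), (16051, 13982), (16052, 14464), (16053, 13987), (16054, 13988), (16055, 13892), (16056, 15848), (16057, 13991), (16058, 13896), (16059, 15839), (16060, 15499), (16061, 15849), (16062, 15350), (16063, 18108)]
    ⟨e3 q16000 (flp_j L694668) q18093, e3 q16001 L673342 q16001, e3 q16002 L673353 q13825, e3 q16003 (flp_j L694692) q18095, e3 q16004 L673368 q16004, e3 q16005 L673376 q16005, e3 q16006 L673397 q15887, e3 q16007 L673411 q15888, e3 q16008 L673427 q16008, e3 q16009 L673441 q15093, e3 q16010 L673457 q15094, e3 q16011 L673469 q15095, e3 q16012 L673484 q13839, e3 q16013 L673500 q13840, e3 q16014 L673512 q13841, e3 q16015 (flp_j L694805) q18102, e3 q16016 (flp_j L694818) q18103, e3 q16017 (flp_j L694827) q18104, e3 q16018 L673558 q16018, e3 q16019 L673565 q16019, e3 q16020 L673574 q16020, e3 q16021 L673591 q13899, e3 q16022 L673610 q13900, e3 q16023 L673628 q13858, e3 q16024 L673644 q15466, e3 q16025 L673664 q15019, e3 q16026 L673676 q13906, e3 q16027 L673690 q13907, e3 q16028 L673706 q13908,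 e3 q16029 L673717 q13862, e3 q16030 L673734 q14418, e3 q16031 L673751 q15831, e3 q16032 L673766 q13913, e3 q16033 L673779 q13914, e3 q16034 L673797 q13924, e3 q16035 L673811 q13937, e3 q16036 L673832 q13938, e3 q16037 L673849 q13943, e3 q16038 L673868 q13951, e3 q16039 (flp_j L673884) q14368, e3 q16040 L673900 q13956, e3 q16041 L673913 q13957, e3 q16042 L673931 q13881, e3 q16043 L673947 q15012, e3 q16044 L673968 q15850, e3 q16045 L673982 q13966, e3 q16046 L674001 q13967, e3 q16047 L674017 q15017, e3 q16048 L674035 q13979, e3 q16049 L674047 q13980, e3 q16050 L674067 q13981, e3 q16051 L674075 q13982, e3 q16052 (flp_j L674090) q14464, e3 q16053 L674104 q13987, e3 q16054 L674118 q13988, e3 q16055 (flp_j L674121) q13892, e3 q16056 L674148 q15848, e3 q16057 L674160 q13991, e3 q16058 (flp_j L674165) q13896, e3 q16059 L674199 q15839, e3 q16060 L674209 q15499, e3 q16061 L674226 q15849, e3 q16062 L674238 q15350, e3 q16063 (flp_j L694881) q18108, trivial⟩ (by decide +kernel)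

theorem ce_j_251 : ∀ r, r < 64 → sm gj (Qf (16064 + r)) = Qf (tab Gen.j (16064 + r)) :=
  edges_tab (sm gj) Qf (tab Gen.j) 16064 [(16064, 18109), (16065, 13944), (16066, 13902), (16067, 18141), (16068, 18142), (16069, 13904), (16070, 13905), (16071, 15469), (16072, 18146), (16073, 18147), (16074, 14320), (16075, 18112), (16076, 18113), (16077, 18114), (16078, 18115), (16079, 13911), (16080, 13912), (16081, 18160), (16082, 18161), (16083, 15833), (16084, 18117), (16085, 13918), (16086, 15044), (16087, 15071), (16088, 15337), (16089, 15081), (16090, 14291), (16091, 14321), (16092, 15006), (16093, 15330), (16094, 15089), (16095, 14304), (16096, 14268), (16097, 13933), (16098, 13934), (16099, 15837), (16100, 15486), (16101, 15838), (16102, 15341), (16103, 18118), (16104, 15358), (16105, 15814), (16106, 15819), (16107, 15488), (16108, 15840), (16109, 15489), (16110, 15338), (16111, 15342), (16112, 18119), (16113, 14461), (16114, 15355), (16115, 15359), (16116, 13955), (16117, 18186), (16118, 18121), (16119, 13962), (16120, 18188),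 (16121, 18189), (16122, 13964), (16123, 13965), (16124, 15430), (16125, 18192), (16126, 15339), (16127, 18123)]
    ⟨e3 q16064 (flp_j L694902) q18109, e3 q16065 L674285 q13944, e3 q16066 L674303 q13902, e3 q16067 (flp_j L695421) q18141, e3 q16068 (flp_j L695441) q18142, e3 q16069 L674339 q13904, e3 q16070 L674357 q13905, e3 q16071 L674367 q15469, e3 q16072 (flp_j L695493) q18146, e3 q16073 (flp_j L695511) q18147, e3 q16074 L674399 q14320, e3 q16075 (flp_j L694948) q18112, e3 q16076 (flp_j L694969) q18113, e3 q16077 (flp_j L694983) q18114, e3 q16078 (flp_j L694993) q18115, e3 q16079 L674453 q13911, e3 q16080 L674469 q13912, e3 q16081 (flp_j L695667) q18160, e3 q16082 (flp_j L695685) q18161, e3 q16083 L674507 q15833, e3 q16084 (flp_j L695027) q18117, e3 q16085 L674538 q13918, e3 q16086 L674552 q15044, e3 q16087 L674572 q15071, e3 q16088 L674583 q15337, e3 q16089 L674598 q15081, e3 q16090 L674609 q14291, e3 q16091 L674624 q14321, e3 q16092 L674637 q15006, e3 q16093 L674652 q15330, e3 q16094 L674668 q15089, e3 q16095 L674682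 q14304, e3 q16096 L674693 q14268, e3 q16097 (flp_j L674699) q13933, e3 q16098 (flp_j L674718) q13934, e3 q16099 L674750 q15837, e3 q16100 L674760 q15486, e3 q16101 L674779 q15838, e3 q16102 L674793 q15341, e3 q16103 (flp_j L695046) q18118, e3 q16104 L674827 q15358, e3 q16105 L674841 q15814, e3 q16106 L674860 q15819, e3 q16107 L674871 q15488, e3 q16108 L674889 q15840, e3 q16109 L674905 q15489, e3 q16110 L674917 q15338, e3 q16111 L674935 q15342, e3 q16112 (flp_j L695060) q18119, e3 q16113 L674962 q14461, e3 q16114 L674976 q15355, e3 q16115 L674992 q15359, e3 q16116 (flp_j L674995) q13955, e3 q16117 (flp_j L696078) q18186, e3 q16118 (flp_j L695099) q18121, e3 q16119 L675053 q13962, e3 q16120 (flp_j L696111) q18188, e3 q16121 (flp_j L696131) q18189, e3 q16122 L675091 q13964, e3 q16123 L675110 q13965, e3 q16124 L675124 q15430, e3 q16125 (flp_j L696177) q18192, e3 q16126 L675150 q15339, e3 q16127 (flp_j L695137) q18123, trivial⟩ (by decide +kernel)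

theorem ce_j_252 : ∀ r, r < 64 → sm gj (Qf (16128 + r)) = Qf (tab Gen.j (16128 + r)) :=
  edges_tab (sm gj) Qf (tab Gen.j) 16128 [(16128, 18124), (16129, 13970), (16130, 13971), (16131, 15014), (16132, 18199), (16133, 18200), (16134, 13976), (16135, 15016), (16136, 15438), (16137, 15442), (16138, 18206), (16139, 15316), (16140, 15324), (16141, 15327), (16142, 18126), (16143, 18215), (16144, 18128), (16145, 18129), (16146, 18219), (16147, 15450), (16148, 15454), (16149, 13986), (16150, 18223), (16151, 18131), (16152, 18132), (16153, 13990), (16154, 15861), (16155, 15015), (16156, 13998), (16157, 18227), (16158, 14076), (16159, 14000), (16160, 18231), (16161, 18232), (16162, 14002), (16163, 14003), (16164, 18236), (16165, 18237), (16166, 18238), (16167, 16167), (16168, 16168), (16169, 16169), (16170, 15075), (16171, 14009), (16172, 14010), (16173, 18247), (16174, 18248), (16175, 18249), (16176, 14013), (16177, 14014), (16178, 14015), (16179, 15961), (16180, 18256), (16181, 18257), (16182, 18258), (16183, 18259), (16184, 18260),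 (16185, 16185), (16186, 16186), (16187, 16187), (16188, 16188), (16189, 14023), (16190, 14024), (16191, 14025)]
    ⟨e3 q16128 (flp_j L695149) q18124, e3 q16129 L675187 q13970, e3 q16130 L675203 q13971, e3 q16131 L675213 q15014, e3 q16132 (flp_j L696267) q18199, e3 q16133 (flp_j L696285) q18200, e3 q16134 L675253 q13976, e3 q16135 L675269 q15016, e3 q16136 L675281 q15438, e3 q16137 L675297 q15442, e3 q16138 (flp_j L696365) q18206, e3 q16139 L675321 q15316, e3 q16140 L675333 q15324, e3 q16141 L675353 q15327, e3 q16142 (flp_j L695181) q18126, e3 q16143 L696495 q18215, e3 q16144 (flp_j L695219) q18128, e3 q16145 (flp_j L695233) q18129, e3 q16146 L696531 q18219, e3 q16147 L675416 q15450, e3 q16148 L675430 q15454, e3 q16149 (flp_j L675433) q13986, e3 q16150 (flp_j L696598) q18223, e3 q16151 (flp_j L695267) q18131, e3 q16152 (flp_j L695278) q18132, e3 q16153 L675482 q13990, e3 q16154 L675494 q15861, e3 q16155 L675513 q15015, e3 q16156 (flp_j L675517) q13998, e3 q16157 (flp_j L696649) q18227, e3 q16158 L675559 q14076, e3 q16159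 L675570 q14000, e3 q16160 (flp_j L696698) q18231, e3 q16161 (flp_j L696711) q18232, e3 q16162 L675604 q14002, e3 q16163 L675617 q14003, e3 q16164 (flp_j L696755) q18236, e3 q16165 (flp_j L696773) q18237, e3 q16166 (flp_j L696787) q18238, e3 q16167 L675670 q16167, e3 q16168 L675684 q16168, e3 q16169 L675693 q16169, e3 q16170 L675711 q15075, e3 q16171 L675721 q14009, e3 q16172 L675733 q14010, e3 q16173 (flp_j L696908) q18247, e3 q16174 (flp_j L696920) q18248, e3 q16175 (flp_j L696932) q18249, e3 q16176 L675772 q14013, e3 q16177 L675785 q14014, e3 q16178 L675798 q14015, e3 q16179 L675806 q15961, e3 q16180 (flp_j L697011) q18256, e3 q16181 (flp_j L697027) q18257, e3 q16182 (flp_j L697037) q18258, e3 q16183 (flp_j L697050) q18259, e3 q16184 (flp_j L697059) q18260, e3 q16185 L675885 q16185, e3 q16186 L675899 q16186, e3 q16187 L675908 q16187, e3 q16188 L675919 q16188, e3 q16189 L675927 q14023, e3 q16190 L675940 q14024, e3 q16191 L675952 q14025, trivial⟩ (by decide +kernel)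

theorem ce_j_253 : ∀ r, r < 64 → sm gj (Qf (16192 + r)) = Qf (tab Gen.j (16192 + r)) :=
  edges_tab (sm gj) Qf (tab Gen.j) 16192 [(16192, 18272), (16193, 18273), (16194, 16194), (16195, 15077), (16196, 14030), (16197, 14032), (16198, 15780), (16199, 15267), (16200, 18277), (16201, 15268), (16202, 18278), (16203, 14036), (16204, 14037), (16205, 15971), (16206, 18285), (16207, 16207), (16208, 16208), (16209, 16209), (16210, 14046), (16211, 14048), (16212, 14969), (16213, 15781), (16214, 14911), (16215, 18291), (16216, 15290), (16217, 14052), (16218, 15972), (16219, 18296), (16220, 16220), (16221, 16221), (16222, 16222), (16223, 14056), (16224, 18299), (16225, 14058), (16226, 18302), (16227, 18303), (16228, 16228), (16229, 14421), (16230, 14062), (16231, 18307), (16232, 18308), (16233, 14064), (16234, 14065), (16235, 18312), (16236, 15853), (16237, 18313), (16238, 16238), (16239, 16239), (16240, 16240), (16241, 15516), (16242, 15854), (16243, 15855), (16244, 16244), (16245, 16245), (16246, 18230), (16247, 14078), (16248, 18325),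 (16249, 18326), (16250, 14080), (16251, 14081), (16252, 15915), (16253, 15856), (16254, 18330), (16255, 16255)]
    ⟨e3 q16192 (flp_j L697211) q18272, e3 q16193 (flp_j L697223) q18273, e3 q16194 L675988 q16194, e3 q16195 L676005 q15077, e3 q16196 L676019 q14030, e3 q16197 L676038 q14032, e3 q16198 L676046 q15780, e3 q16199 L676061 q15267, e3 q16200 (flp_j L697274) q18277, e3 q16201 L676088 q15268, e3 q16202 (flp_j L697288) q18278, e3 q16203 L676113 q14036, e3 q16204 L676123 q14037, e3 q16205 L676139 q15971, e3 q16206 (flp_j L697382) q18285, e3 q16207 L676166 q16207, e3 q16208 L676176 q16208, e3 q16209 L676184 q16209, e3 q16210 L676203 q14046, e3 q16211 L676214 q14048, e3 q16212 L676227 q14969, e3 q16213 L676245 q15781, e3 q16214 L676259 q14911, e3 q16215 (flp_j L697463) q18291, e3 q16216 L676279 q15290, e3 q16217 L676293 q14052, e3 q16218 L676305 q15972, e3 q16219 (flp_j L697535) q18296, e3 q16220 L676328 q16220, e3 q16221 L676340 q16221, e3 q16222 L676355 q16222, e3 q16223 (flp_j L676362) q14056, e3 q16224 (flp_j L697592)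 q18299, e3 q16225 L676404 q14058, e3 q16226 (flp_j L697631) q18302, e3 q16227 (flp_j L697649) q18303, e3 q16228 L676447 q16228, e3 q16229 L676462 q14421, e3 q16230 L676475 q14062, e3 q16231 (flp_j L697706) q18307, e3 q16232 (flp_j L697719) q18308, e3 q16233 L676507 q14064, e3 q16234 L676521 q14065, e3 q16235 (flp_j L697763) q18312, e3 q16236 L676548 q15853, e3 q16237 (flp_j L697781) q18313, e3 q16238 L676577 q16238, e3 q16239 L676592 q16239, e3 q16240 L676601 q16240, e3 q16241 L676612 q15516, e3 q16242 L676631 q15854, e3 q16243 L676645 q15855, e3 q16244 L676664 q16244, e3 q16245 L676678 q16245, e3 q16246 (flp_j L696688) q18230, e3 q16247 L676699 q14078, e3 q16248 (flp_j L697946) q18325, e3 q16249 (flp_j L697959) q18326, e3 q16250 L676727 q14080, e3 q16251 L676742 q14081, e3 q16252 L676752 q15915, e3 q16253 L676771 q15856, e3 q16254 (flp_j L698007) q18330, e3 q16255 L676797 q16255, trivial⟩ (by decide +kernel)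

theorem ce_j_254 : ∀ r, r < 64 → sm gj (Qf (16256 + r)) = Qf (tab Gen.j (16256 + r)) :=
  edges_tab (sm gj) Qf (tab Gen.j) 16256 [(16256, 16256), (16257, 16257), (16258, 15161), (16259, 14087), (16260, 14088), (16261, 15914), (16262, 18339), (16263, 18340), (16264, 14093), (16265, 15916), (16266, 15518), (16267, 15857), (16268, 18346), (16269, 16269), (16270, 18352), (16271, 16271), (16272, 16272), (16273, 18356), (16274, 15519), (16275, 15858), (16276, 14101), (16277, 18360), (16278, 16278), (16279, 16279), (16280, 14105), (16281, 18363), (16282, 15184), (16283, 15918), (16284, 15922), (16285, 15919), (16286, 16286), (16287, 14115), (16288, 18366), (16289, 18367), (16290, 15204), (16291, 14118), (16292, 14119), (16293, 18373), (16294, 18374), (16295, 18375), (16296, 14122), (16297, 14123), (16298, 14124), (16299, 18382), (16300, 15903), (16301, 18383), (16302, 18384), (16303, 18385), (16304, 18386), (16305, 16305), (16306, 16306), (16307, 16307), (16308, 18397), (16309, 16309), (16310, 16310), (16311, 15225), (16312, 15226),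 (16313, 14134), (16314, 14135), (16315, 14136), (16316, 18403), (16317, 18404), (16318, 18405), (16319, 18406)]
    ⟨e3 q16256 L676811 q16256, e3 q16257 L676818 q16257, e3 q16258 L676834 q15161, e3 q16259 L676842 q14087, e3 q16260 L676856 q14088, e3 q16261 L676868 q15914, e3 q16262 (flp_j L698126) q18339, e3 q16263 (flp_j L698142) q18340, e3 q16264 L676901 q14093, e3 q16265 L676917 q15916, e3 q16266 L676927 q15518, e3 q16267 L676941 q15857, e3 q16268 (flp_j L698215) q18346, e3 q16269 L676963 q16269, e3 q16270 L698286 q18352, e3 q16271 L676992 q16271, e3 q16272 L677001 q16272, e3 q16273 L698341 q18356, e3 q16274 L677025 q15519, e3 q16275 L677037 q15858, e3 q16276 (flp_j L677040) q14101, e3 q16277 (flp_j L698407) q18360, e3 q16278 L677076 q16278, e3 q16279 L677082 q16279, e3 q16280 L677097 q14105, e3 q16281 (flp_j L698445) q18363, e3 q16282 L677122 q15184, e3 q16283 L677140 q15918, e3 q16284 L677153 q15922, e3 q16285 L677170 q15919, e3 q16286 L677181 q16286, e3 q16287 L677197 q14115, e3 q16288 (flp_j L698489) q18366, e3 q16289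 (flp_j L698503) q18367, e3 q16290 L677228 q15204, e3 q16291 L677236 q14118, e3 q16292 L677247 q14119, e3 q16293 (flp_j L698563) q18373, e3 q16294 (flp_j L698572) q18374, e3 q16295 (flp_j L698584) q18375, e3 q16296 L677281 q14122, e3 q16297 L677297 q14123, e3 q16298 L677309 q14124, e3 q16299 (flp_j L698648) q18382, e3 q16300 L677334 q15903, e3 q16301 (flp_j L698666) q18383, e3 q16302 (flp_j L698677) q18384, e3 q16303 (flp_j L698693) q18385, e3 q16304 (flp_j L698700) q18386, e3 q16305 L677384 q16305, e3 q16306 L677399 q16306, e3 q16307 L677406 q16307, e3 q16308 L698827 q18397, e3 q16309 L677435 q16309, e3 q16310 L677442 q16310, e3 q16311 L677452 q15225, e3 q16312 L677463 q15226, e3 q16313 L677471 q14134, e3 q16314 L677479 q14135, e3 q16315 L677489 q14136, e3 q16316 (flp_j L698902) q18403, e3 q16317 (flp_j L698912) q18404, e3 q16318 (flp_j L698928) q18405, e3 q16319 (flp_j L698940) q18406, trivial⟩ (by decide +kernel)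

theorem ce_j_255 : ∀ r, r < 64 → sm gj (Qf (16320 + r)) = Qf (tab Gen.j (16320 + r)) :=
  edges_tab (sm gj) Qf (tab Gen.j) 16320 [(16320, 18407), (16321, 18408), (16322, 14140), (16323, 14142), (16324, 14143), (16325, 14144), (16326, 14145), (16327, 18419), (16328, 15900), (16329, 18420), (16330, 15661), (16331, 15904), (16332, 18421), (16333, 18433), (16334, 18423), (16335, 18424), (16336, 16336), (16337, 16337), (16338, 16338), (16339, 18440), (16340, 16340), (16341, 16341), (16342, 16342), (16343, 14152), (16344, 18444), (16345, 16345), (16346, 16346), (16347, 18448), (16348, 14159), (16349, 14160), (16350, 14158), (16351, 18452), (16352, 18450), (16353, 18451), (16354, 14162), (16355, 18456), (16356, 16356), (16357, 16357), (16358, 14166), (16359, 14170), (16360, 14172), (16361, 14174), (16362, 18460), (16363, 15120), (16364, 18461), (16365, 15109), (16366, 15121), (16367, 18462), (16368, 15122), (16369, 14178), (16370, 14179), (16371, 14180), (16372, 18472), (16373, 18473), (16374, 18474), (16375, 16375), (16376, 16376),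 (16377, 16377), (16378, 14187), (16379, 14189), (16380, 14191), (16381, 15132), (16382, 18480), (16383, 15133)]
    ⟨e3 q16320 (flp_j L698950) q18407, e3 q16321 (flp_j L698958) q18408, e3 q16322 L677546 q14140, e3 q16323 L677561 q14142, e3 q16324 L677573 q14143, e3 q16325 L677588 q14144, e3 q16326 L677595 q14145, e3 q16327 (flp_j L699069) q18419, e3 q16328 L677621 q15900, e3 q16329 (flp_j L699086) q18420, e3 q16330 L677645 q15661, e3 q16331 L677659 q15904, e3 q16332 (flp_j L699097) q18421, e3 q16333 L699237 q18433, e3 q16334 (flp_j L699122) q18423, e3 q16335 (flp_j L699135) q18424, e3 q16336 L677705 q16336, e3 q16337 L677720 q16337, e3 q16338 L677729 q16338, e3 q16339 L699310 q18440, e3 q16340 L677758 q16340, e3 q16341 L677767 q16341, e3 q16342 L677774 q16342, e3 q16343 (flp_j L677777) q14152, e3 q16344 (flp_j L699374) q18444, e3 q16345 L677804 q16345, e3 q16346 L677809 q16346, e3 q16347 L699402 q18448, e3 q16348 L677836 q14159, e3 q16349 L677849 q14160, e3 q16350 (flp_j L677852) q14158, e3 q16351 (flp_j L699460) q18452,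 e3 q16352 (flp_j L699441) q18450, e3 q16353 (flp_j L699451) q18451, e3 q16354 L677888 q14162, e3 q16355 (flp_j L699494) q18456, e3 q16356 L677905 q16356, e3 q16357 L677911 q16357, e3 q16358 L677922 q14166, e3 q16359 L677933 q14170, e3 q16360 L677948 q14172, e3 q16361 L677960 q14174, e3 q16362 (flp_j L699540) q18460, e3 q16363 L677982 q15120, e3 q16364 (flp_j L699555) q18461, e3 q16365 L678005 q15109, e3 q16366 L678021 q15121, e3 q16367 (flp_j L699567) q18462, e3 q16368 L678044 q15122, e3 q16369 L678056 q14178, e3 q16370 L678070 q14179, e3 q16371 L678081 q14180, e3 q16372 (flp_j L699694) q18472, e3 q16373 (flp_j L699705) q18473, e3 q16374 (flp_j L699713) q18474, e3 q16375 L678122 q16375, e3 q16376 L678130 q16376, e3 q16377 L678136 q16377, e3 q16378 L678150 q14187, e3 q16379 L678164 q14189, e3 q16380 L678175 q14191, e3 q16381 L678185 q15132, e3 q16382 (flp_j L699784) q18480, e3 q16383 L678215 q15133, trivial⟩ (by decide +kernel)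

theorem ce_j_256 : ∀ r, r < 64 → sm gj (Qf (16384 + r)) = Qf (tab Gen.j (16384 + r)) :=
  edges_tab (sm gj) Qf (tab Gen.j) 16384 [(16384, 18481), (16385, 15134), (16386, 18482), (16387, 14196), (16388, 14197), (16389, 14198), (16390, 18487), (16391, 18488), (16392, 18489), (16393, 14351), (16394, 14352), (16395, 14355), (16396, 14360), (16397, 14361), (16398, 14363), (16399, 14369), (16400, 14370), (16401, 14218), (16402, 15427), (16403, 14382), (16404, 14383), (16405, 14222), (16406, 18496), (16407, 14389), (16408, 14390), (16409, 14225), (16410, 15845), (16411, 14227), (16412, 15843), (16413, 14396), (16414, 14397), (16415, 14229), (16416, 18505), (16417, 14231), (16418, 14440), (16419, 18508), (16420, 14403), (16421, 14404), (16422, 14405), (16423, 14235), (16424, 14409), (16425, 14410), (16426, 14484), (16427, 14240), (16428, 18171), (16429, 14242), (16430, 14419), (16431, 14420), (16432, 15496), (16433, 15846), (16434, 14427), (16435, 14428), (16436, 14429), (16437, 14251), (16438, 15464), (16439, 18169), (16440, 14253),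 (16441, 14254), (16442, 18522), (16443, 14439), (16444, 14441), (16445, 14442), (16446, 14443), (16447, 14444)]
    ⟨e3 q16384 (flp_j L699794) q18481, e3 q16385 L678237 q15134, e3 q16386 (flp_j L699804) q18482, e3 q16387 L678262 q14196, e3 q16388 L678269 q14197, e3 q16389 L678276 q14198, e3 q16390 (flp_j L699872) q18487, e3 q16391 (flp_j L699880) q18488, e3 q16392 (flp_j L699891) q18489, e3 q16393 L678326 q14351, e3 q16394 L678339 q14352, e3 q16395 L678357 q14355, e3 q16396 L678374 q14360, e3 q16397 L678383 q14361, e3 q16398 L678399 q14363, e3 q16399 L678415 q14369, e3 q16400 L678424 q14370, e3 q16401 L678443 q14218, e3 q16402 L678458 q15427, e3 q16403 L678472 q14382, e3 q16404 L678484 q14383, e3 q16405 (flp_j L678489) q14222, e3 q16406 (flp_j L700016) q18496, e3 q16407 L678527 q14389, e3 q16408 L678546 q14390, e3 q16409 L678560 q14225, e3 q16410 L678576 q15845, e3 q16411 (flp_j L678580) q14227, e3 q16412 L678610 q15843, e3 q16413 L678620 q14396, e3 q16414 L678634 q14397, e3 q16415 (flp_j L678638) q14229, e3 q16416 (flp_j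 L700166) q18505, e3 q16417 L678678 q14231, e3 q16418 L678688 q14440, e3 q16419 (flp_j L700217) q18508, e3 q16420 L678714 q14403, e3 q16421 L678730 q14404, e3 q16422 L678744 q14405, e3 q16423 L678759 q14235, e3 q16424 L678777 q14409, e3 q16425 L678785 q14410, e3 q16426 L678803 q14484, e3 q16427 L678817 q14240, e3 q16428 (flp_j L695831) q18171, e3 q16429 L678846 q14242, e3 q16430 L678862 q14419, e3 q16431 L678871 q14420, e3 q16432 L678884 q15496, e3 q16433 L678898 q15846, e3 q16434 L678906 q14427, e3 q16435 L678913 q14428, e3 q16436 L678924 q14429, e3 q16437 L678937 q14251, e3 q16438 L678949 q15464, e3 q16439 (flp_j L695799) q18169, e3 q16440 L678980 q14253, e3 q16441 L678998 q14254, e3 q16442 (flp_j L700417) q18522, e3 q16443 L679016 q14439, e3 q16444 L679028 q14441, e3 q16445 L679038 q14442, e3 q16446 L679050 q14443, e3 q16447 L679056 q14444, trivial⟩ (by decide +kernel)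

theorem ce_j_257 : ∀ r, r < 64 → sm gj (Qf (16448 + r)) = Qf (tab Gen.j (16448 + r)) :=
  edges_tab (sm gj) Qf (tab Gen.j) 16448 [(16448, 14260), (16449, 15835), (16450, 14450), (16451, 14451), (16452, 14453), (16453, 14271), (16454, 15426), (16455, 14465), (16456, 14466), (16457, 14481), (16458, 14482), (16459, 14488), (16460, 14489), (16461, 15494), (16462, 15844), (16463, 14495), (16464, 14496), (16465, 14287), (16466, 18538), (16467, 18539), (16468, 14504), (16469, 14505), (16470, 14506), (16471, 14384), (16472, 18154), (16473, 18168), (16474, 14293), (16475, 14294), (16476, 15409), (16477, 15444), (16478, 18548), (16479, 14516), (16480, 14517), (16481, 14518), (16482, 14519), (16483, 14520), (16484, 14538), (16485, 15455), (16486, 15834), (16487, 14526), (16488, 15387), (16489, 15421), (16490, 15425), (16491, 14539), (16492, 14540), (16493, 14312), (16494, 18137), (16495, 15847), (16496, 14314), (16497, 14315), (16498, 15394), (16499, 15432), (16500, 18565), (16501, 14552), (16502, 14553), (16503, 14554), (16504, 14555),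 (16505, 14556), (16506, 14557), (16507, 18155), (16508, 18156), (16509, 14326), (16510, 15410), (16511, 15411)]
    ⟨e3 q16448 L679075 q14260, e3 q16449 L679086 q15835, e3 q16450 L679105 q14450, e3 q16451 L679111 q14451, e3 q16452 L679126 q14453, e3 q16453 L679145 q14271, e3 q16454 L679157 q15426, e3 q16455 L679172 q14465, e3 q16456 L679180 q14466, e3 q16457 L679194 q14481, e3 q16458 L679204 q14482, e3 q16459 L679217 q14488, e3 q16460 L679234 q14489, e3 q16461 L679246 q15494, e3 q16462 L679261 q15844, e3 q16463 L679269 q14495, e3 q16464 L679282 q14496, e3 q16465 L679292 q14287, e3 q16466 (flp_j L700611) q18538, e3 q16467 (flp_j L700629) q18539, e3 q16468 L679316 q14504, e3 q16469 L679325 q14505, e3 q16470 L679338 q14506, e3 q16471 L679355 q14384, e3 q16472 (flp_j L695592) q18154, e3 q16473 (flp_j L695786) q18168, e3 q16474 L679384 q14293, e3 q16475 L679402 q14294, e3 q16476 L679410 q15409, e3 q16477 L679422 q15444, e3 q16478 (flp_j L700747) q18548, e3 q16479 L679440 q14516, e3 q16480 L679448 q14517, e3 q16481 L679461 q14518,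 e3 q16482 L679471 q14519, e3 q16483 L679479 q14520, e3 q16484 L679488 q14538, e3 q16485 L679505 q15455, e3 q16486 L679517 q15834, e3 q16487 L679527 q14526, e3 q16488 L679537 q15387, e3 q16489 L679552 q15421, e3 q16490 L679562 q15425, e3 q16491 L679573 q14539, e3 q16492 L679584 q14540, e3 q16493 L679598 q14312, e3 q16494 (flp_j L695352) q18137, e3 q16495 L679623 q15847, e3 q16496 L679633 q14314, e3 q16497 L679651 q14315, e3 q16498 L679659 q15394, e3 q16499 L679672 q15432, e3 q16500 (flp_j L700953) q18565, e3 q16501 L679690 q14552, e3 q16502 L679706 q14553, e3 q16503 L679719 q14554, e3 q16504 L679726 q14555, e3 q16505 L679737 q14556, e3 q16506 L679743 q14557, e3 q16507 (flp_j L695608) q18155, e3 q16508 (flp_j L695625) q18156, e3 q16509 L679772 q14326, e3 q16510 L679782 q15410, e3 q16511 L679795 q15411, trivial⟩ (by decide +kernel)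

theorem ce_j_258 : ∀ r, r < 64 → sm gj (Qf (16512 + r)) = Qf (tab Gen.j (16512 + r)) :=
  edges_tab (sm gj) Qf (tab Gen.j) 16512 [(16512, 15445), (16513, 18576), (16514, 14573), (16515, 14574), (16516, 14575), (16517, 14576), (16518, 14577), (16519, 14578), (16520, 18138), (16521, 14580), (16522, 14581), (16523, 15456), (16524, 14335), (16525, 15852), (16526, 14590), (16527, 14591), (16528, 15422), (16529, 14608), (16530, 14609), (16531, 14610), (16532, 14621), (16533, 15820), (16534, 14367), (16535, 18490), (16536, 14358), (16537, 18491), (16538, 14413), (16539, 14417), (16540, 18597), (16541, 15365), (16542, 18492), (16543, 15825), (16544, 18493), (16545, 14626), (16546, 14408), (16547, 18596), (16548, 18120), (16549, 18494), (16550, 14375), (16551, 14917), (16552, 14729), (16553, 18298), (16554, 14379), (16555, 14380), (16556, 18081), (16557, 15547), (16558, 18078), (16559, 18495), (16560, 15827), (16561, 18166), (16562, 15325), (16563, 14386), (16564, 18605), (16565, 14388), (16566, 18608), (16567, 18609), (16568, 18499),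 (16569, 14392), (16570, 14393), (16571, 18612), (16572, 14395), (16573, 18615), (16574, 18616), (16575, 18502)]
    ⟨e3 q16512 L679807 q15445, e3 q16513 (flp_j L701064) q18576, e3 q16514 L679823 q14573, e3 q16515 L679839 q14574, e3 q16516 L679856 q14575, e3 q16517 L679863 q14576, e3 q16518 L679874 q14577, e3 q16519 L679882 q14578, e3 q16520 (flp_j L695374) q18138, e3 q16521 L679898 q14580, e3 q16522 L679904 q14581, e3 q16523 L679915 q15456, e3 q16524 (flp_j L679918) q14335, e3 q16525 L679941 q15852, e3 q16526 L679954 q14590, e3 q16527 L679959 q14591, e3 q16528 L679971 q15422, e3 q16529 L679985 q14608, e3 q16530 L679998 q14609, e3 q16531 L680005 q14610, e3 q16532 L680018 q14621, e3 q16533 L680036 q15820, e3 q16534 L680056 q14367, e3 q16535 (flp_j L699914) q18490, e3 q16536 L680087 q14358, e3 q16537 (flp_j L699930) q18491, e3 q16538 L680110 q14413, e3 q16539 L680130 q14417, e3 q16540 (flp_j L701292) q18597, e3 q16541 L680156 q15365, e3 q16542 (flp_j L699947) q18492, e3 q16543 L680181 q15825, e3 q16544 (flp_j L699960) q18493,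 e3 q16545 L680213 q14626, e3 q16546 L680229 q14408, e3 q16547 (flp_j L701275) q18596, e3 q16548 (flp_j L695081) q18120, e3 q16549 (flp_j L699980) q18494, e3 q16550 L680285 q14375, e3 q16551 L680298 q14917, e3 q16552 L680314 q14729, e3 q16553 (flp_j L697570) q18298, e3 q16554 L680336 q14379, e3 q16555 L680349 q14380, e3 q16556 (flp_j L694469) q18081, e3 q16557 L680371 q15547, e3 q16558 (flp_j L694417) q18078, e3 q16559 (flp_j L699998) q18495, e3 q16560 L680411 q15827, e3 q16561 (flp_j L695754) q18166, e3 q16562 L680442 q15325, e3 q16563 (flp_j L680446) q14386, e3 q16564 (flp_j L701428) q18605, e3 q16565 L680485 q14388, e3 q16566 (flp_j L701465) q18608, e3 q16567 (flp_j L701480) q18609, e3 q16568 (flp_j L700071) q18499, e3 q16569 L680529 q14392, e3 q16570 (flp_j L680533) q14393, e3 q16571 (flp_j L701517) q18612, e3 q16572 L680571 q14395, e3 q16573 (flp_j L701552) q18615, e3 q16574 (flp_j L701568) q18616, e3 q16575 (flp_j L700115) q18502, trivial⟩ (by decide +kernel)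

theorem ce_j_259 : ∀ r, r < 64 → sm gj (Qf (16576 + r)) = Qf (tab Gen.j (16576 + r)) :=
  edges_tab (sm gj) Qf (tab Gen.j) 16576 [(16576, 18503), (16577, 18504), (16578, 14485), (16579, 14399), (16580, 18624), (16581, 18625), (16582, 14401), (16583, 14402), (16584, 14437), (16585, 14436), (16586, 18629), (16587, 18110), (16588, 18510), (16589, 18511), (16590, 18512), (16591, 14457), (16592, 14462), (16593, 18602), (16594, 18513), (16595, 15084), (16596, 14414), (16597, 14446), (16598, 18598), (16599, 14447), (16600, 18599), (16601, 18116), (16602, 18514), (16603, 18306), (16604, 14423), (16605, 18647), (16606, 18648), (16607, 14425), (16608, 14426), (16609, 18618), (16610, 18617), (16611, 18652), (16612, 18516), (16613, 18500), (16614, 18517), (16615, 18518), (16616, 18519), (16617, 18520), (16618, 15074), (16619, 14432), (16620, 14433), (16621, 18631), (16622, 18666), (16623, 18667), (16624, 14438), (16625, 18181), (16626, 18632), (16627, 18626), (16628, 18630), (16629, 18674), (16630, 18127), (16631, 18497), (16632, 18524),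 (16633, 18506), (16634, 18509), (16635, 18525), (16636, 15485), (16637, 18526), (16638, 18527), (16639, 14448)]
    ⟨e3 q16576 (flp_j L700134) q18503, e3 q16577 (flp_j L700151) q18504, e3 q16578 L680641 q14485, e3 q16579 L680653 q14399, e3 q16580 (flp_j L701668) q18624, e3 q16581 (flp_j L701682) q18625, e3 q16582 L680683 q14401, e3 q16583 L680697 q14402, e3 q16584 L680707 q14437, e3 q16585 L680721 q14436, e3 q16586 (flp_j L701728) q18629, e3 q16587 (flp_j L694914) q18110, e3 q16588 (flp_j L700249) q18510, e3 q16589 (flp_j L700267) q18511, e3 q16590 (flp_j L700275) q18512, e3 q16591 L680779 q14457, e3 q16592 L680796 q14462, e3 q16593 (flp_j L701378) q18602, e3 q16594 (flp_j L700293) q18513, e3 q16595 L680831 q15084, e3 q16596 L680844 q14414, e3 q16597 L680858 q14446, e3 q16598 (flp_j L701311) q18598, e3 q16599 L680884 q14447, e3 q16600 (flp_j L701324) q18599, e3 q16601 (flp_j L695010) q18116, e3 q16602 (flp_j L700310) q18514, e3 q16603 (flp_j L697696) q18306, e3 q16604 L680943 q14423, e3 q16605 (flp_j L701956) q18647, e3 q16606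 (flp_j L701969) q18648, e3 q16607 L680968 q14425, e3 q16608 L680980 q14426, e3 q16609 (flp_j L701597) q18618, e3 q16610 (flp_j L701578) q18617, e3 q16611 (flp_j L702004) q18652, e3 q16612 (flp_j L700334) q18516, e3 q16613 (flp_j L700083) q18500, e3 q16614 (flp_j L700349) q18517, e3 q16615 (flp_j L700360) q18518, e3 q16616 (flp_j L700373) q18519, e3 q16617 (flp_j L700379) q18520, e3 q16618 L681068 q15074, e3 q16619 L681074 q14432, e3 q16620 L681084 q14433, e3 q16621 (flp_j L701754) q18631, e3 q16622 (flp_j L702139) q18666, e3 q16623 (flp_j L702149) q18667, e3 q16624 L681114 q14438, e3 q16625 (flp_j L695997) q18181, e3 q16626 (flp_j L701770) q18632, e3 q16627 (flp_j L701694) q18626, e3 q16628 (flp_j L701742) q18630, e3 q16629 (flp_j L702203) q18674, e3 q16630 L695203 q18127, e3 q16631 (flp_j L700032) q18497, e3 q16632 (flp_j L700437) q18524, e3 q16633 (flp_j L700180) q18506, e3 q16634 (flp_j L700233) q18509, e3 q16635 (flp_j L700445) q18525, e3 q16636 L681198 q15485, e3 q16637 (flp_j L700461) q18526, e3 q16638 (flp_j L700467)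 q18527, e3 q16639 L681222 q14448, trivial⟩ (by decide +kernel)

theorem ce_j_260 : ∀ r, r < 64 → sm gj (Qf (16640 + r)) = Qf (tab Gen.j (16640 + r)) :=
  edges_tab (sm gj) Qf (tab Gen.j) 16640 [(16640, 15515), (16641, 18641), (16642, 18643), (16643, 15524), (16644, 18528), (16645, 18529), (16646, 15860), (16647, 15085), (16648, 14458), (16649, 14459), (16650, 15509), (16651, 14661), (16652, 18637), (16653, 18696), (16654, 18697), (16655, 14463), (16656, 18184), (16657, 18638), (16658, 18130), (16659, 18530), (16660, 18531), (16661, 14473), (16662, 14474), (16663, 15447), (16664, 14977), (16665, 15510), (16666, 14910), (16667, 15530), (16668, 18295), (16669, 14479), (16670, 18082), (16671, 15546), (16672, 18532), (16673, 15366), (16674, 18623), (16675, 14487), (16676, 18683), (16677, 18713), (16678, 18533), (16679, 14491), (16680, 18716), (16681, 18717), (16682, 14493), (16683, 14494), (16684, 18661), (16685, 18721), (16686, 18535), (16687, 18536), (16688, 18537), (16689, 14498), (16690, 18727), (16691, 14500), (16692, 18730),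 (16693, 18731), (16694, 14502), (16695, 14503), (16696, 18735), (16697, 18722), (16698, 18736), (16699, 18542), (16700, 18543), (16701, 18544), (16702, 18545), (16703, 18546)]
    ⟨e3 q16640 (flp_j L681240) q15515, e3 q16641 (flp_j L701879) q18641, e3 q16642 (flp_j L701907) q18643, e3 q16643 L681267 q15524, e3 q16644 (flp_j L700483) q18528, e3 q16645 (flp_j L700488) q18529, e3 q16646 L681295 q15860, e3 q16647 L681310 q15085, e3 q16648 L681324 q14458, e3 q16649 L681341 q14459, e3 q16650 L681349 q15509, e3 q16651 L681362 q14661, e3 q16652 (flp_j L701822) q18637, e3 q16653 (flp_j L702426) q18696, e3 q16654 (flp_j L702436) q18697, e3 q16655 L681406 q14463, e3 q16656 (flp_j L696043) q18184, e3 q16657 (flp_j L701836) q18638, e3 q16658 (flp_j L695249) q18130, e3 q16659 (flp_j L700507) q18530, e3 q16660 (flp_j L700514) q18531, e3 q16661 L681473 q14473, e3 q16662 L681484 q14474, e3 q16663 L681497 q15447, e3 q16664 L681507 q14977, e3 q16665 L681524 q15510, e3 q16666 L681539 q14910, e3 q16667 L681550 q15530, e3 q16668 (flp_j L697518)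 q18295, e3 q16669 L681573 q14479, e3 q16670 (flp_j L694488) q18082, e3 q16671 L681590 q15546, e3 q16672 (flp_j L700532) q18532, e3 q16673 L681615 q15366, e3 q16674 (flp_j L701660) q18623, e3 q16675 L681645 q14487, e3 q16676 (flp_j L702287) q18683, e3 q16677 (flp_j L702644) q18713, e3 q16678 (flp_j L700549) q18533, e3 q16679 L681693 q14491, e3 q16680 (flp_j L702678) q18716, e3 q16681 (flp_j L702691) q18717, e3 q16682 L681722 q14493, e3 q16683 L681737 q14494, e3 q16684 (flp_j L702086) q18661, e3 q16685 (flp_j L702734) q18721, e3 q16686 (flp_j L700574) q18535, e3 q16687 (flp_j L700591) q18536, e3 q16688 (flp_j L700599) q18537, e3 q16689 (flp_j L681782) q14498, e3 q16690 (flp_j L702799) q18727, e3 q16691 L681817 q14500, e3 q16692 (flp_j L702832) q18730, e3 q16693 (flp_j L702843) q18731, e3 q16694 L681842 q14502, e3 q16695 L681852 q14503, e3 q16696 (flp_j L702882) q18735, e3 q16697 (flp_j L702743) q18722, e3 q16698 (flp_j L702895) q18736, e3 q16699 (flp_j L700665) q18542, e3 q16700 (flp_j L700685) q18543, e3 q16701 (flp_j L700702)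 q18544, e3 q16702 (flp_j L700711) q18545, e3 q16703 (flp_j L700719) q18546, trivial⟩ (by decide +kernel)

theorem ce_j_261 : ∀ r, r < 64 → sm gj (Qf (16704 + r)) = Qf (tab Gen.j (16704 + r)) :=
  edges_tab (sm gj) Qf (tab Gen.j) 16704 [(16704, 15435), (16705, 14509), (16706, 14510), (16707, 18749), (16708, 18750), (16709, 18751), (16710, 14513), (16711, 14514), (16712, 14515), (16713, 18738), (16714, 18737), (16715, 18758), (16716, 18759), (16717, 18760), (16718, 18761), (16719, 18550), (16720, 18540), (16721, 18553), (16722, 18554), (16723, 18555), (16724, 18556), (16725, 14523), (16726, 14524), (16727, 14525), (16728, 18776), (16729, 18777), (16730, 18559), (16731, 15448), (16732, 14530), (16733, 14531), (16734, 14532), (16735, 18781), (16736, 18782), (16737, 18783), (16738, 18784), (16739, 14535), (16740, 14536), (16741, 14537), (16742, 15384), (16743, 18788), (16744, 18789), (16745, 18557), (16746, 18562), (16747, 18563), (16748, 14542), (16749, 18796), (16750, 18797), (16751, 15066), (16752, 14545), (16753, 14546), (16754,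 18803), (16755, 18804), (16756, 18805), (16757, 14549), (16758, 14550), (16759, 14551), (16760, 15392), (16761, 18762), (16762, 18812), (16763, 18813), (16764, 18814), (16765, 18815), (16766, 18569), (16767, 18570)]
    ⟨e3 q16704 L681939 q15435, e3 q16705 L681947 q14509, e3 q16706 L681959 q14510, e3 q16707 (flp_j L703032) q18749, e3 q16708 (flp_j L703040) q18750, e3 q16709 (flp_j L703052) q18751, e3 q16710 L681995 q14513, e3 q16711 L682007 q14514, e3 q16712 L682017 q14515, e3 q16713 (flp_j L702922) q18738, e3 q16714 (flp_j L702902) q18737, e3 q16715 (flp_j L703118) q18758, e3 q16716 (flp_j L703128) q18759, e3 q16717 (flp_j L703142) q18760, e3 q16718 (flp_j L703148) q18761, e3 q16719 (flp_j L700771) q18550, e3 q16720 (flp_j L700643) q18540, e3 q16721 (flp_j L700807) q18553, e3 q16722 (flp_j L700818) q18554, e3 q16723 (flp_j L700828) q18555, e3 q16724 (flp_j L700836) q18556, e3 q16725 L682127 q14523, e3 q16726 L682143 q14524, e3 q16727 L682156 q14525, e3 q16728 (flp_j L703292) q18776, e3 q16729 (flp_j L703305) q18777, e3 q16730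 (flp_j L700870) q18559, e3 q16731 L682192 q15448, e3 q16732 L682200 q14530, e3 q16733 L682208 q14531, e3 q16734 L682223 q14532, e3 q16735 (flp_j L703343) q18781, e3 q16736 (flp_j L703357) q18782, e3 q16737 (flp_j L703369) q18783, e3 q16738 (flp_j L703378) q18784, e3 q16739 L682272 q14535, e3 q16740 L682287 q14536, e3 q16741 L682297 q14537, e3 q16742 L682306 q15384, e3 q16743 (flp_j L703426) q18788, e3 q16744 (flp_j L703441) q18789, e3 q16745 (flp_j L700850) q18557, e3 q16746 (flp_j L700915) q18562, e3 q16747 (flp_j L700924) q18563, e3 q16748 L682365 q14542, e3 q16749 (flp_j L703507) q18796, e3 q16750 (flp_j L703521) q18797, e3 q16751 L682397 q15066, e3 q16752 L682403 q14545, e3 q16753 L682412 q14546, e3 q16754 (flp_j L703581) q18803, e3 q16755 (flp_j L703590) q18804, e3 q16756 (flp_j L703600) q18805, e3 q16757 L682441 q14549, e3 q16758 L682454 q14550, e3 q16759 L682463 q14551, e3 q16760 L682470 q15392, e3 q16761 (flp_j L703160) q18762, e3 q16762 (flp_j L703663) q18812, e3 q16763 (flp_j L703670) q18813, e3 q16764 (flp_j L703683)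 q18814, e3 q16765 (flp_j L703687) q18815, e3 q16766 (flp_j L700998) q18569, e3 q16767 (flp_j L701010) q18570, trivial⟩ (by decide +kernel)

theorem ce_j_262 : ∀ r, r < 64 → sm gj (Qf (16768 + r)) = Qf (tab Gen.j (16768 + r)) :=
  edges_tab (sm gj) Qf (tab Gen.j) 16768 [(16768, 18571), (16769, 18149), (16770, 18572), (16771, 18573), (16772, 15471), (16773, 15472), (16774, 14561), (16775, 14562), (16776, 14563), (16777, 15400), (16778, 18831), (16779, 18832), (16780, 18833), (16781, 18834), (16782, 18835), (16783, 14568), (16784, 14569), (16785, 14570), (16786, 14571), (16787, 14572), (16788, 15377), (16789, 15404), (16790, 15405), (16791, 18846), (16792, 18847), (16793, 18848), (16794, 18859), (16795, 18849), (16796, 18850), (16797, 18580), (16798, 18581), (16799, 18582), (16800, 18135), (16801, 18583), (16802, 18584), (16803, 18585), (16804, 14579), (16805, 18870), (16806, 18587), (16807, 18588), (16808, 14586), (16809, 14587), (16810, 14585), (16811, 18876), (16812, 18874), (16813, 18875), (16814, 14589), (16815, 15862),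 (16816, 18590), (16817, 18591), (16818, 14599), (16819, 14600), (16820, 14601), (16821, 14602), (16822, 15382), (16823, 15416), (16824, 15417), (16825, 18883), (16826, 18884), (16827, 18885), (16828, 18886), (16829, 14607), (16830, 15385), (16831, 15420)]
    ⟨e3 q16768 (flp_j L701018) q18571, e3 q16769 (flp_j L695535) q18149, e3 q16770 (flp_j L701031) q18572, e3 q16771 (flp_j L701037) q18573, e3 q16772 L682572 q15471, e3 q16773 L682582 q15472, e3 q16774 L682588 q14561, e3 q16775 L682596 q14562, e3 q16776 L682606 q14563, e3 q16777 L682616 q15400, e3 q16778 (flp_j L703829) q18831, e3 q16779 (flp_j L703841) q18832, e3 q16780 (flp_j L703849) q18833, e3 q16781 (flp_j L703859) q18834, e3 q16782 (flp_j L703865) q18835, e3 q16783 L682664 q14568, e3 q16784 L682677 q14569, e3 q16785 L682685 q14570, e3 q16786 L682697 q14571, e3 q16787 L682701 q14572, e3 q16788 L682711 q15377, e3 q16789 L682727 q15404, e3 q16790 L682742 q15405, e3 q16791 (flp_j L703964) q18846, e3 q16792 (flp_j L703977) q18847, e3 q16793 (flp_j L703987) q18848, e3 q16794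 L704089 q18859, e3 q16795 (flp_j L703997) q18849, e3 q16796 (flp_j L704007) q18850, e3 q16797 (flp_j L701113) q18580, e3 q16798 (flp_j L701128) q18581, e3 q16799 (flp_j L701140) q18582, e3 q16800 (flp_j L695325) q18135, e3 q16801 (flp_j L701151) q18583, e3 q16802 (flp_j L701159) q18584, e3 q16803 (flp_j L701165) q18585, e3 q16804 (flp_j L682839) q14579, e3 q16805 (flp_j L704177) q18870, e3 q16806 (flp_j L701185) q18587, e3 q16807 (flp_j L701189) q18588, e3 q16808 L682872 q14586, e3 q16809 L682883 q14587, e3 q16810 (flp_j L682886) q14585, e3 q16811 (flp_j L704223) q18876, e3 q16812 (flp_j L704204) q18874, e3 q16813 (flp_j L704213) q18875, e3 q16814 L682923 q14589, e3 q16815 L682934 q15862, e3 q16816 (flp_j L701208) q18590, e3 q16817 (flp_j L701215) q18591, e3 q16818 L682952 q14599, e3 q16819 L682964 q14600, e3 q16820 L682975 q14601, e3 q16821 L682983 q14602, e3 q16822 L682994 q15382, e3 q16823 L683005 q15416, e3 q16824 L683019 q15417, e3 q16825 (flp_j L704282) q18883, e3 q16826 (flp_j L704295) q18884, e3 q16827 (flp_j L704305)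 q18885, e3 q16828 (flp_j L704315) q18886, e3 q16829 L683065 q14607, e3 q16830 L683077 q15385, e3 q16831 L683088 q15420, trivial⟩ (by decide +kernel)

theorem ce_j_263 : ∀ r, r < 64 → sm gj (Qf (16832 + r)) = Qf (tab Gen.j (16832 + r)) :=
  edges_tab (sm gj) Qf (tab Gen.j) 16832 [(16832, 18897), (16833, 18593), (16834, 18594), (16835, 18595), (16836, 14618), (16837, 14920), (16838, 15383), (16839, 15418), (16840, 15419), (16841, 15424), (16842, 18294), (16843, 15386), (16844, 15969), (16845, 18601), (16846, 14633), (16847, 15536), (16848, 15777), (16849, 15970), (16850, 15869), (16851, 16851), (16852, 15870), (16853, 16853), (16854, 14642), (16855, 18908), (16856, 18909), (16857, 14644), (16858, 14645), (16859, 18913), (16860, 18914), (16861, 16861), (16862, 16862), (16863, 15552), (16864, 14651), (16865, 14652), (16866, 18920), (16867, 18921), (16868, 14655), (16869, 14656), (16870, 18699), (16871, 18925), (16872, 18926), (16873, 16873), (16874, 14662), (16875, 14663), (16876, 18700), (16877, 18930), (16878, 16878), (16879,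 15559), (16880, 14668), (16881, 18933), (16882, 18934), (16883, 15562), (16884, 14671), (16885, 14672), (16886, 18940), (16887, 18941), (16888, 14675), (16889, 14676), (16890, 18945), (16891, 18946), (16892, 18947), (16893, 16893), (16894, 15573), (16895, 15574)]
    ⟨e3 q16832 (flp_j L704435) q18897, e3 q16833 (flp_j L701239) q18593, e3 q16834 (flp_j L701250) q18594, e3 q16835 (flp_j L701257) q18595, e3 q16836 L683125 q14618, e3 q16837 L683135 q14920, e3 q16838 L683152 q15383, e3 q16839 L683165 q15418, e3 q16840 L683175 q15419, e3 q16841 L683190 q15424, e3 q16842 (flp_j L697506) q18294, e3 q16843 L683214 q15386, e3 q16844 L683233 q15969, e3 q16845 (flp_j L701360) q18601, e3 q16846 L683253 q14633, e3 q16847 L683271 q15536, e3 q16848 L683282 q15777, e3 q16849 L683293 q15970, e3 q16850 L683311 q15869, e3 q16851 L683324 q16851, e3 q16852 L683339 q15870, e3 q16853 L683347 q16853, e3 q16854 L683359 q14642, e3 q16855 (flp_j L704577) q18908, e3 q16856 (flp_j L704590) q18909, e3 q16857 L683393 q14644, e3 q16858 L683407 q14645, e3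 q16859 (flp_j L704636) q18913, e3 q16860 (flp_j L704652) q18914, e3 q16861 L683447 q16861, e3 q16862 L683456 q16862, e3 q16863 L683470 q15552, e3 q16864 L683478 q14651, e3 q16865 L683492 q14652, e3 q16866 (flp_j L704726) q18920, e3 q16867 (flp_j L704740) q18921, e3 q16868 L683525 q14655, e3 q16869 L683540 q14656, e3 q16870 (flp_j L702461) q18699, e3 q16871 (flp_j L704787) q18925, e3 q16872 (flp_j L704796) q18926, e3 q16873 L683584 q16873, e3 q16874 L683596 q14662, e3 q16875 L683603 q14663, e3 q16876 (flp_j L702479) q18700, e3 q16877 (flp_j L704844) q18930, e3 q16878 L683627 q16878, e3 q16879 L683641 q15559, e3 q16880 L683654 q14668, e3 q16881 (flp_j L704868) q18933, e3 q16882 (flp_j L704879) q18934, e3 q16883 L683685 q15562, e3 q16884 L683693 q14671, e3 q16885 L683707 q14672, e3 q16886 (flp_j L704941) q18940, e3 q16887 (flp_j L704955) q18941, e3 q16888 L683740 q14675, e3 q16889 L683754 q14676, e3 q16890 (flp_j L704998) q18945, e3 q16891 (flp_j L705012) q18946, e3 q16892 (flp_j L705021) q18947, e3 q16893 L683796 q16893, e3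 q16894 L683804 q15573, e3 q16895 L683813 q15574, trivial⟩ (by decide +kernel)

theorem ce_j_264 : ∀ r, r < 64 → sm gj (Qf (16896 + r)) = Qf (tab Gen.j (16896 + r)) :=
  edges_tab (sm gj) Qf (tab Gen.j) 16896 [(16896, 14682), (16897, 14683), (16898, 14684), (16899, 15626), (16900, 18954), (16901, 18955), (16902, 18956), (16903, 18957), (16904, 18958), (16905, 14690), (16906, 14691), (16907, 14692), (16908, 14693), (16909, 15962), (16910, 15560), (16911, 15960), (16912, 18968), (16913, 18974), (16914, 18969), (16915, 18970), (16916, 16916), (16917, 16917), (16918, 14697), (16919, 18978), (16920, 16920), (16921, 16921), (16922, 18887), (16923, 14704), (16924, 14705), (16925, 14703), (16926, 18985), (16927, 18983), (16928, 18984), (16929, 14707), (16930, 18989), (16931, 16931), (16932, 16932), (16933, 14711), (16934, 15602), (16935, 15603), (16936, 14719), (16937, 14720), (16938, 15627), (16939, 15569), (16940, 15624), (16941, 14732), (16942, 18993), (16943, 18994), (16944, 14734), (16945, 14735), (16946, 18997), (16947, 16947),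 (16948, 15600), (16949, 14739), (16950, 14740), (16951, 19001), (16952, 19002), (16953, 19003), (16954, 14743), (16955, 14744), (16956, 19008), (16957, 19009), (16958, 16958), (16959, 14748)]
    ⟨e3 q16896 L683823 q14682, e3 q16897 L683833 q14683, e3 q16898 L683841 q14684, e3 q16899 L683851 q15626, e3 q16900 (flp_j L705098) q18954, e3 q16901 (flp_j L705118) q18955, e3 q16902 (flp_j L705124) q18956, e3 q16903 (flp_j L705132) q18957, e3 q16904 (flp_j L705138) q18958, e3 q16905 L683910 q14690, e3 q16906 L683918 q14691, e3 q16907 L683929 q14692, e3 q16908 L683934 q14693, e3 q16909 L683950 q15962, e3 q16910 L683962 q15560, e3 q16911 L683980 q15960, e3 q16912 (flp_j L705259) q18968, e3 q16913 L705332 q18974, e3 q16914 (flp_j L705273) q18969, e3 q16915 (flp_j L705282) q18970, e3 q16916 L684024 q16916, e3 q16917 L684039 q16917, e3 q16918 (flp_j L684044) q14697, e3 q16919 (flp_j L705375) q18978, e3 q16920 L684073 q16920, e3 q16921 L684076 q16921, e3 q16922 (flp_j L704328) q18887, e3 q16923 L684097 q14704, e3 q16924 L684106 q14705,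 e3 q16925 (flp_j L684109) q14703, e3 q16926 (flp_j L705447) q18985, e3 q16927 (flp_j L705422) q18983, e3 q16928 (flp_j L705428) q18984, e3 q16929 L684153 q14707, e3 q16930 (flp_j L705485) q18989, e3 q16931 L684170 q16931, e3 q16932 L684176 q16932, e3 q16933 L684189 q14711, e3 q16934 L684201 q15602, e3 q16935 L684220 q15603, e3 q16936 L684236 q14719, e3 q16937 L684254 q14720, e3 q16938 L684272 q15627, e3 q16939 L684286 q15569, e3 q16940 L684304 q15624, e3 q16941 L684320 q14732, e3 q16942 (flp_j L705534) q18993, e3 q16943 (flp_j L705552) q18994, e3 q16944 L684349 q14734, e3 q16945 L684363 q14735, e3 q16946 (flp_j L705583) q18997, e3 q16947 L684381 q16947, e3 q16948 L684394 q15600, e3 q16949 L684402 q14739, e3 q16950 L684411 q14740, e3 q16951 (flp_j L705620) q19001, e3 q16952 (flp_j L705631) q19002, e3 q16953 (flp_j L705641) q19003, e3 q16954 L684439 q14743, e3 q16955 L684453 q14744, e3 q16956 (flp_j L705682) q19008, e3 q16957 (flp_j L705689) q19009, e3 q16958 L684474 q16958, e3 q16959 L684488 q14748, trivial⟩ (by decide +kernel)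

theorem ce_j_265 : ∀ r, r < 64 → sm gj (Qf (16960 + r)) = Qf (tab Gen.j (16960 + r)) :=
  edges_tab (sm gj) Qf (tab Gen.j) 16960 [(16960, 19012), (16961, 19013), (16962, 15609), (16963, 14751), (16964, 14752), (16965, 19019), (16966, 19020), (16967, 14755), (16968, 14756), (16969, 19024), (16970, 19025), (16971, 19026), (16972, 16972), (16973, 15634), (16974, 15635), (16975, 14762), (16976, 14763), (16977, 14764), (16978, 15767), (16979, 19033), (16980, 19034), (16981, 19035), (16982, 19036), (16983, 19037), (16984, 14769), (16985, 14770), (16986, 14771), (16987, 14772), (16988, 14773), (16989, 15955), (16990, 19046), (16991, 19047), (16992, 19048), (16993, 19050), (16994, 19051), (16995, 16995), (16996, 16996), (16997, 16997), (16998, 18271), (16999, 14781), (17000, 14782), (17001, 19060), (17002, 19061), (17003, 17003), (17004, 15652), (17005, 14976), (17006, 15653), (17007, 14790), (17008, 14791), (17009, 14792), (17010, 15782), (17011, 15805), (17012, 15806), (17013, 19067), (17014, 19068), (17015, 15958), (17016, 15608),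 (17017, 14799), (17018, 14800), (17019, 19077), (17020, 19078), (17021, 19079), (17022, 15670), (17023, 15671)]
    ⟨e3 q16960 (flp_j L705712) q19012, e3 q16961 (flp_j L705729) q19013, e3 q16962 L684523 q15609, e3 q16963 L684531 q14751, e3 q16964 L684545 q14752, e3 q16965 (flp_j L705801) q19019, e3 q16966 (flp_j L705815) q19020, e3 q16967 L684578 q14755, e3 q16968 L684592 q14756, e3 q16969 (flp_j L705858) q19024, e3 q16970 (flp_j L705872) q19025, e3 q16971 (flp_j L705881) q19026, e3 q16972 L684634 q16972, e3 q16973 L684644 q15634, e3 q16974 L684655 q15635, e3 q16975 L684663 q14762, e3 q16976 L684675 q14763, e3 q16977 L684685 q14764, e3 q16978 L684695 q15767, e3 q16979 (flp_j L705960) q19033, e3 q16980 (flp_j L705976) q19034, e3 q16981 (flp_j L705982) q19035, e3 q16982 (flp_j L705992) q19036, e3 q16983 (flp_j L706000) q19037, e3 q16984 L684752 q14769, e3 q16985 L684768 q14770, e3 q16986 L684776 q14771, e3 q16987 L684787 q14772, e3 q16988 L684794 q14773, e3 q16989 L684804 q15955, e3 q16990 (flp_j L706091) q19046, e3 q16991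 (flp_j L706107) q19047, e3 q16992 (flp_j L706118) q19048, e3 q16993 (flp_j L706139) q19050, e3 q16994 (flp_j L706148) q19051, e3 q16995 L684860 q16995, e3 q16996 L684873 q16996, e3 q16997 L684880 q16997, e3 q16998 (flp_j L697200) q18271, e3 q16999 L684897 q14781, e3 q17000 L684907 q14782, e3 q17001 (flp_j L706229) q19060, e3 q17002 (flp_j L706237) q19061, e3 q17003 L684929 q17003, e3 q17004 L684939 q15652, e3 q17005 L684952 q14976, e3 q17006 L684968 q15653, e3 q17007 L684980 q14790, e3 q17008 L684995 q14791, e3 q17009 L685007 q14792, e3 q17010 L685018 q15782, e3 q17011 L685031 q15805, e3 q17012 L685045 q15806, e3 q17013 (flp_j L706308) q19067, e3 q17014 (flp_j L706323) q19068, e3 q17015 L685079 q15958, e3 q17016 L685097 q15608, e3 q17017 L685102 q14799, e3 q17018 L685111 q14800, e3 q17019 (flp_j L706438) q19077, e3 q17020 (flp_j L706444) q19078, e3 q17021 (flp_j L706453) q19079, e3 q17022 L685138 q15670, e3 q17023 L685149 q15671, trivial⟩ (by decide +kernel)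

theorem ce_j_266 : ∀ r, r < 64 → sm gj (Qf (17024 + r)) = Qf (tab Gen.j (17024 + r)) :=
  edges_tab (sm gj) Qf (tab Gen.j) 17024 [(17024, 14804), (17025, 14805), (17026, 14806), (17027, 19089), (17028, 19090), (17029, 19091), (17030, 19092), (17031, 19093), (17032, 19094), (17033, 14810), (17034, 14811), (17035, 14812), (17036, 14813), (17037, 14814), (17038, 14815), (17039, 19104), (17040, 19105), (17041, 19106), (17042, 19107), (17043, 19115), (17044, 19109), (17045, 19110), (17046, 17046), (17047, 19119), (17048, 17048), (17049, 17049), (17050, 14820), (17051, 19123), (17052, 17052), (17053, 17053), (17054, 15704), (17055, 15705), (17056, 15706), (17057, 14828), (17058, 14829), (17059, 14830), (17060, 14831), (17061, 14832), (17062, 14833), (17063, 19133), (17064, 19134), (17065, 19135), (17066, 19136), (17067, 19137), (17068, 19138), (17069, 19139), (17070, 19156), (17071, 19141), (17072, 19142), (17073, 14840), (17074, 14841), (17075, 14842), (17076, 14843), (17077, 14844), (17078, 14845), (17079, 19168), (17080, 14847),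 (17081, 14848), (17082, 19160), (17083, 19161), (17084, 19162), (17085, 19163), (17086, 19177), (17087, 19165)]
    ⟨e3 q17024 L685157 q14804, e3 q17025 L685165 q14805, e3 q17026 L685175 q14806, e3 q17027 (flp_j L706531) q19089, e3 q17028 (flp_j L706543) q19090, e3 q17029 (flp_j L706559) q19091, e3 q17030 (flp_j L706563) q19092, e3 q17031 (flp_j L706573) q19093, e3 q17032 (flp_j L706579) q19094, e3 q17033 L685234 q14810, e3 q17034 L685247 q14811, e3 q17035 L685262 q14812, e3 q17036 L685267 q14813, e3 q17037 L685277 q14814, e3 q17038 L685282 q14815, e3 q17039 (flp_j L706676) q19104, e3 q17040 (flp_j L706686) q19105, e3 q17041 (flp_j L706701) q19106, e3 q17042 (flp_j L706710) q19107, e3 q17043 L706784 q19115, e3 q17044 (flp_j L706727) q19109, e3 q17045 (flp_j L706734) q19110, e3 q17046 L685354 q17046, e3 q17047 L706811 q19119, e3 q17048 L685387 q17048, e3 q17049 L685396 q17049, e3 q17050 (flp_j L685399) q14820, e3 q17051 (flp_j L706874) q19123, e3 q17052 L685420 q17052, e3 q17053 L685425 q17053, e3 q17054 L685434 q15704, e3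 q17055 L685442 q15705, e3 q17056 L685451 q15706, e3 q17057 L685459 q14828, e3 q17058 L685465 q14829, e3 q17059 L685475 q14830, e3 q17060 L685479 q14831, e3 q17061 L685487 q14832, e3 q17062 L685493 q14833, e3 q17063 (flp_j L706960) q19133, e3 q17064 (flp_j L706970) q19134, e3 q17065 (flp_j L706980) q19135, e3 q17066 (flp_j L706984) q19136, e3 q17067 (flp_j L706992) q19137, e3 q17068 (flp_j L707002) q19138, e3 q17069 (flp_j L707010) q19139, e3 q17070 L707133 q19156, e3 q17071 (flp_j L707022) q19141, e3 q17072 (flp_j L707028) q19142, e3 q17073 L685570 q14840, e3 q17074 L685583 q14841, e3 q17075 L685593 q14842, e3 q17076 L685600 q14843, e3 q17077 L685610 q14844, e3 q17078 L685617 q14845, e3 q17079 L707233 q19168, e3 q17080 L685630 q14847, e3 q17081 L685637 q14848, e3 q17082 (flp_j L707166) q19160, e3 q17083 (flp_j L707175) q19161, e3 q17084 (flp_j L707187) q19162, e3 q17085 (flp_j L707194) q19163, e3 q17086 L707304 q19177, e3 q17087 (flp_j L707209) q19165, trivial⟩ (by decide +kernel)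

theorem ce_j_267 : ∀ r, r < 64 → sm gj (Qf (17088 + r)) = Qf (tab Gen.j (17088 + r)) :=
  edges_tab (sm gj) Qf (tab Gen.j) 17088 [(17088, 19166), (17089, 19167), (17090, 14846), (17091, 19182), (17092, 19170), (17093, 19171), (17094, 17094), (17095, 19186), (17096, 17096), (17097, 17097), (17098, 17098), (17099, 14853), (17100, 19190), (17101, 17101), (17102, 17102), (17103, 17103), (17104, 14858), (17105, 19195), (17106, 17106), (17107, 17107), (17108, 14861), (17109, 19199), (17110, 14866), (17111, 14867), (17112, 14865), (17113, 19203), (17114, 19201), (17115, 19202), (17116, 14869), (17117, 19208), (17118, 17118), (17119, 17119), (17120, 14967), (17121, 14964), (17122, 15760), (17123, 14908), (17124, 14907), (17125, 14881), (17126, 14882), (17127, 14883), (17128, 14884), (17129, 14885), (17130, 14886), (17131, 14887), (17132, 15791), (17133, 19215), (17134, 19216), (17135, 19214), (17136, 19213), (17137, 19217), (17138, 19218), (17139, 19211), (17140, 19219), (17141, 18292), (17142, 14891), (17143, 14892), (17144, 14893),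 (17145, 19229), (17146, 19230), (17147, 19231), (17148, 14905), (17149, 15792), (17150, 19066), (17151, 15618)]
    ⟨e3 q17088 (flp_j L707218) q19166, e3 q17089 (flp_j L707225) q19167, e3 q17090 (flp_j L685701) q14846, e3 q17091 (flp_j L707349) q19182, e3 q17092 (flp_j L707251) q19170, e3 q17093 (flp_j L707256) q19171, e3 q17094 L685731 q17094, e3 q17095 L707369 q19186, e3 q17096 L685758 q17096, e3 q17097 L685765 q17097, e3 q17098 L685772 q17098, e3 q17099 (flp_j L685777) q14853, e3 q17100 (flp_j L707425) q19190, e3 q17101 L685802 q17101, e3 q17102 L685805 q17102, e3 q17103 L685813 q17103, e3 q17104 L685825 q14858, e3 q17105 (flp_j L707468) q19195, e3 q17106 L685837 q17106, e3 q17107 L685842 q17107, e3 q17108 (flp_j L685845) q14861, e3 q17109 (flp_j L707500) q19199, e3 q17110 L685863 q14866, e3 q17111 L685869 q14867, e3 q17112 L685877 q14865, e3 q17113 (flp_j L707532) q19203, e3 q17114 (flp_j L707513) q19201, e3 q17115 (flp_j L707521) q19202, e3 q17116 L685904 q14869, e3 q17117 (flp_j L707560) q19208, e3 q17118 L685918 q17118,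 e3 q17119 L685928 q17119, e3 q17120 L685935 q14967, e3 q17121 L685953 q14964, e3 q17122 L685966 q15760, e3 q17123 L685978 q14908, e3 q17124 L685993 q14907, e3 q17125 L686007 q14881, e3 q17126 L686025 q14882, e3 q17127 L686038 q14883, e3 q17128 L686043 q14884, e3 q17129 L686052 q14885, e3 q17130 L686062 q14886, e3 q17131 L686077 q14887, e3 q17132 L686089 q15791, e3 q17133 (flp_j L707664) q19215, e3 q17134 (flp_j L707675) q19216, e3 q17135 (flp_j L707646) q19214, e3 q17136 (flp_j L707629) q19213, e3 q17137 (flp_j L707690) q19217, e3 q17138 (flp_j L707699) q19218, e3 q17139 (flp_j L707601) q19211, e3 q17140 (flp_j L707707) q19219, e3 q17141 (flp_j L697481) q18292, e3 q17142 L686202 q14891, e3 q17143 L686212 q14892, e3 q17144 L686221 q14893, e3 q17145 (flp_j L707819) q19229, e3 q17146 (flp_j L707828) q19230, e3 q17147 (flp_j L707839) q19231, e3 q17148 L686270 q14905, e3 q17149 L686284 q15792, e3 q17150 (flp_j L706297) q19066, e3 q17151 L686314 q15618, trivial⟩ (by decide +kernel)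

theorem ce_j_268 : ∀ r, r < 64 → sm gj (Qf (17152 + r)) = Qf (tab Gen.j (17152 + r)) :=
  edges_tab (sm gj) Qf (tab Gen.j) 17152 [(17152, 18708), (17153, 14915), (17154, 14916), (17155, 15775), (17156, 14921), (17157, 18901), (17158, 15778), (17159, 14926), (17160, 15275), (17161, 15296), (17162, 14963), (17163, 14966), (17164, 15798), (17165, 15617), (17166, 14937), (17167, 14939), (17168, 19238), (17169, 15274), (17170, 19239), (17171, 15295), (17172, 19240), (17173, 14943), (17174, 14945), (17175, 15659), (17176, 15658), (17177, 19248), (17178, 15713), (17179, 15765), (17180, 14950), (17181, 15901), (17182, 15797), (17183, 14965), (17184, 14968), (17185, 19064), (17186, 19212), (17187, 19255), (17188, 19069), (17189, 19127), (17190, 19256), (17191, 18279), (17192, 14973), (17193, 14974), (17194, 14975), (17195, 18468), (17196, 15013), (17197, 15018), (17198, 15023), (17199, 15028), (17200, 15029), (17201, 15043), (17202, 15083), (17203, 15467), (17204, 15470), (17205, 15058), (17206, 15059), (17207, 15060), (17208, 15061),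 (17209, 15062), (17210, 15064), (17211, 15065), (17212, 15024), (17213, 15025), (17214, 15027), (17215, 18122)]
    ⟨e3 q17152 (flp_j L702574) q18708, e3 q17153 L686337 q14915, e3 q17154 L686346 q14916, e3 q17155 L686361 q15775, e3 q17156 L686373 q14921, e3 q17157 (flp_j L704479) q18901, e3 q17158 L686399 q15778, e3 q17159 L686416 q14926, e3 q17160 L686429 q15275, e3 q17161 L686447 q15296, e3 q17162 L686459 q14963, e3 q17163 L686476 q14966, e3 q17164 L686495 q15798, e3 q17165 L686508 q15617, e3 q17166 L686517 q14937, e3 q17167 L686530 q14939, e3 q17168 (flp_j L707937) q19238, e3 q17169 L686547 q15274, e3 q17170 (flp_j L707952) q19239, e3 q17171 L686572 q15295, e3 q17172 (flp_j L707962) q19240, e3 q17173 L686587 q14943, e3 q17174 L686604 q14945, e3 q17175 L686615 q15659, e3 q17176 L686632 q15658, e3 q17177 (flp_j L708061) q19248, e3 q17178 L686657 q15713, e3 q17179 L686671 q15765, e3 q17180 L686685 q14950, e3 q17181 L686700 q15901, e3 q17182 L686715 q15797, e3 q17183 L686729 q14965, e3 q17184 L686737 q14968, e3 q17185 (flp_j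 L706265) q19064, e3 q17186 (flp_j L707613) q19212, e3 q17187 (flp_j L708162) q19255, e3 q17188 (flp_j L706336) q19069, e3 q17189 (flp_j L706909) q19127, e3 q17190 (flp_j L708170) q19256, e3 q17191 (flp_j L697303) q18279, e3 q17192 L686826 q14973, e3 q17193 L686833 q14974, e3 q17194 L686844 q14975, e3 q17195 (flp_j L699644) q18468, e3 q17196 L686870 q15013, e3 q17197 L686880 q15018, e3 q17198 L686896 q15023, e3 q17199 L686910 q15028, e3 q17200 L686916 q15029, e3 q17201 L686928 q15043, e3 q17202 L686940 q15083, e3 q17203 L686952 q15467, e3 q17204 L686962 q15470, e3 q17205 L686974 q15058, e3 q17206 L686989 q15059, e3 q17207 L686998 q15060, e3 q17208 L687013 q15061, e3 q17209 L687019 q15062, e3 q17210 L687029 q15064, e3 q17211 L687039 q15065, e3 q17212 L687051 q15024, e3 q17213 L687067 q15025, e3 q17214 L687083 q15027, e3 q17215 (flp_j L695120) q18122, trivial⟩ (by decide +kernel)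

theorem ce_j_269 : ∀ r, r < 64 → sm gj (Qf (17216 + r)) = Qf (tab Gen.j (17216 + r)) :=
  edges_tab (sm gj) Qf (tab Gen.j) 17216 [(17216, 19263), (17217, 18201), (17218, 18202), (17219, 18207), (17220, 18125), (17221, 18111), (17222, 15390), (17223, 15391), (17224, 15393), (17225, 19264), (17226, 19273), (17227, 19274), (17228, 15428), (17229, 15431), (17230, 19275), (17231, 19265), (17232, 15429), (17233, 15841), (17234, 15035), (17235, 15479), (17236, 15492), (17237, 15493), (17238, 18148), (17239, 15340), (17240, 15343), (17241, 18143), (17242, 18165), (17243, 15047), (17244, 15048), (17245, 15049), (17246, 18664), (17247, 19294), (17248, 19295), (17249, 15459), (17250, 19296), (17251, 19297), (17252, 15052), (17253, 15054), (17254, 15057), (17255, 15461), (17256, 19307), (17257, 15458), (17258, 15462), (17259, 19308), (17260, 18801), (17261, 15460), (17262, 15463), (17263, 19268), (17264, 19269), (17265, 18653), (17266, 19270), (17267, 19271), (17268, 19266), (17269, 15063), (17270, 19322), (17271, 19272), (17272, 18802),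 (17273, 15069), (17274, 15076), (17275, 18665), (17276, 18245), (17277, 18246), (17278, 15080), (17279, 18167)]
    ⟨e3 q17216 (flp_j L708250) q19263, e3 q17217 (flp_j L696297) q18201, e3 q17218 (flp_j L696319) q18202, e3 q17219 (flp_j L696379) q18207, e3 q17220 (flp_j L695165) q18125, e3 q17221 (flp_j L694936) q18111, e3 q17222 L687167 q15390, e3 q17223 L687182 q15391, e3 q17224 L687198 q15393, e3 q17225 (flp_j L708266) q19264, e3 q17226 (flp_j L708378) q19273, e3 q17227 (flp_j L708396) q19274, e3 q17228 L687232 q15428, e3 q17229 L687248 q15431, e3 q17230 (flp_j L708408) q19275, e3 q17231 (flp_j L708282) q19265, e3 q17232 L687279 q15429, e3 q17233 L687296 q15841, e3 q17234 L687313 q15035, e3 q17235 L687321 q15479, e3 q17236 L687337 q15492, e3 q17237 L687347 q15493, e3 q17238 (flp_j L695521) q18148, e3 q17239 L687369 q15340, e3 q17240 L687379 q15343, e3 q17241 (flp_j L695453) q18143, e3 q17242 (flp_j L695741) q18165, e3 q17243 L687411 q15047, e3 q17244 L687421 q15048, e3 q17245 L687437 q15049, e3 q17246 (flp_j L702115) q18664,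 e3 q17247 (flp_j L708630) q19294, e3 q17248 (flp_j L708644) q19295, e3 q17249 L687467 q15459, e3 q17250 (flp_j L708656) q19296, e3 q17251 (flp_j L708664) q19297, e3 q17252 L687495 q15052, e3 q17253 L687511 q15054, e3 q17254 L687521 q15057, e3 q17255 L687533 q15461, e3 q17256 (flp_j L708764) q19307, e3 q17257 L687553 q15458, e3 q17258 L687566 q15462, e3 q17259 (flp_j L708774) q19308, e3 q17260 (flp_j L703558) q18801, e3 q17261 L687592 q15460, e3 q17262 L687602 q15463, e3 q17263 (flp_j L708323) q19268, e3 q17264 (flp_j L708333) q19269, e3 q17265 (flp_j L702011) q18653, e3 q17266 (flp_j L708348) q19270, e3 q17267 (flp_j L708358) q19271, e3 q17268 (flp_j L708294) q19266, e3 q17269 (flp_j L687647) q15063, e3 q17270 (flp_j L708900) q19322, e3 q17271 (flp_j L708368) q19272, e3 q17272 (flp_j L703573) q18802, e3 q17273 L687687 q15069, e3 q17274 L687697 q15076, e3 q17275 (flp_j L702133) q18665, e3 q17276 (flp_j L696879) q18245, e3 q17277 (flp_j L696896) q18246, e3 q17278 L687746 q15080, e3 q17279 (flp_j L695771) q18167, trivial⟩ (by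 decide +kernel)

theorem ce_j_270 : ∀ r, r < 64 → sm gj (Qf (17280 + r)) = Qf (tab Gen.j (17280 + r)) :=
  edges_tab (sm gj) Qf (tab Gen.j) 17280 [(17280, 18150), (17281, 18640), (17282, 15088), (17283, 18170), (17284, 18100), (17285, 18101), (17286, 15873), (17287, 17287), (17288, 17288), (17289, 17289), (17290, 15153), (17291, 15154), (17292, 15101), (17293, 15102), (17294, 19330), (17295, 19331), (17296, 15105), (17297, 19334), (17298, 15110), (17299, 15111), (17300, 18465), (17301, 18412), (17302, 18469), (17303, 19335), (17304, 19336), (17305, 15114), (17306, 15115), (17307, 15116), (17308, 19343), (17309, 19344), (17310, 19345), (17311, 17311), (17312, 17312), (17313, 17313), (17314, 18463), (17315, 18466), (17316, 18470), (17317, 15126), (17318, 15127), (17319, 15128), (17320, 19354), (17321, 19355), (17322, 19356), (17323, 17323), (17324, 17324), (17325, 17325), (17326, 18483), (17327, 18485), (17328, 15542), (17329, 15138), (17330, 15139), (17331, 19362), (17332, 15871), (17333, 15561), (17334, 15147), (17335, 15148),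 (17336, 19363), (17337, 19364), (17338, 15151), (17339, 19367), (17340, 19327), (17341, 19328), (17342, 19329), (17343, 15157)]
    ⟨e3 q17280 (flp_j L695550) q18150, e3 q17281 (flp_j L701863) q18640, e3 q17282 L687790 q15088, e3 q17283 (flp_j L695817) q18170, e3 q17284 (flp_j L694774) q18100, e3 q17285 (flp_j L694787) q18101, e3 q17286 L687832 q15873, e3 q17287 L687849 q17287, e3 q17288 L687856 q17288, e3 q17289 L687865 q17289, e3 q17290 L687878 q15153, e3 q17291 L687893 q15154, e3 q17292 L687905 q15101, e3 q17293 L687920 q15102, e3 q17294 (flp_j L708988) q19330, e3 q17295 (flp_j L709006) q19331, e3 q17296 L687955 q15105, e3 q17297 (flp_j L709039) q19334, e3 q17298 L687977 q15110, e3 q17299 L687991 q15111, e3 q17300 (flp_j L699605) q18465, e3 q17301 (flp_j L699000) q18412, e3 q17302 (flp_j L699659) q18469, e3 q17303 (flp_j L709055) q19335, e3 q17304 (flp_j L709065) q19336, e3 q17305 L688046 q15114, e3 q17306 L688061 q15115, e3 q17307 L688072 q15116, e3 q17308 (flp_j L709138) q19343, e3 q17309 (flp_j L709155) q19344, e3 q17310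 (flp_j L709166) q19345, e3 q17311 L688126 q17311, e3 q17312 L688135 q17312, e3 q17313 L688140 q17313, e3 q17314 (flp_j L699580) q18463, e3 q17315 (flp_j L699621) q18466, e3 q17316 (flp_j L699673) q18470, e3 q17317 L688180 q15126, e3 q17318 L688194 q15127, e3 q17319 L688205 q15128, e3 q17320 (flp_j L709265) q19354, e3 q17321 (flp_j L709276) q19355, e3 q17322 (flp_j L709284) q19356, e3 q17323 L688250 q17323, e3 q17324 L688256 q17324, e3 q17325 L688264 q17325, e3 q17326 (flp_j L699826) q18483, e3 q17327 (flp_j L699848) q18485, e3 q17328 L688291 q15542, e3 q17329 L688308 q15138, e3 q17330 L688315 q15139, e3 q17331 (flp_j L709349) q19362, e3 q17332 L688334 q15871, e3 q17333 L688353 q15561, e3 q17334 L688365 q15147, e3 q17335 L688380 q15148, e3 q17336 (flp_j L709360) q19363, e3 q17337 (flp_j L709378) q19364, e3 q17338 L688413 q15151, e3 q17339 (flp_j L709409) q19367, e3 q17340 (flp_j L708951) q19327, e3 q17341 (flp_j L708962) q19328, e3 q17342 (flp_j L708980) q19329, e3 q17343 L688457 q15157, trivial⟩ (by decide +kernel)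

theorem ce_j_271 : ∀ r, r < 64 → sm gj (Qf (17344 + r)) = Qf (tab Gen.j (17344 + r)) :=
  edges_tab (sm gj) Qf (tab Gen.j) 17344 [(17344, 15158), (17345, 19372), (17346, 19373), (17347, 17347), (17348, 18337), (17349, 18338), (17350, 15164), (17351, 15165), (17352, 15166), (17353, 19379), (17354, 19380), (17355, 19381), (17356, 19382), (17357, 19383), (17358, 19384), (17359, 15170), (17360, 15171), (17361, 15172), (17362, 15173), (17363, 15174), (17364, 15175), (17365, 19393), (17366, 19394), (17367, 19395), (17368, 19396), (17369, 19397), (17370, 19398), (17371, 17371), (17372, 17372), (17373, 17373), (17374, 15182), (17375, 15917), (17376, 15921), (17377, 15188), (17378, 15189), (17379, 15190), (17380, 15191), (17381, 15192), (17382, 19242), (17383, 19241), (17384, 19410), (17385, 19411), (17386, 19412), (17387, 19413), (17388, 19414), (17389, 15196), (17390, 15197), (17391, 15198), (17392, 19422), (17393, 19423), (17394, 19424), (17395, 17395), (17396, 17396), (17397, 17397), (17398, 15689), (17399, 15678), (17400, 15693),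 (17401, 18371), (17402, 18372), (17403, 15207), (17404, 15208), (17405, 15209), (17406, 19437), (17407, 19438)]
    ⟨e3 q17344 L688473 q15158, e3 q17345 (flp_j L709458) q19372, e3 q17346 (flp_j L709469) q19373, e3 q17347 L688500 q17347, e3 q17348 (flp_j L698101) q18337, e3 q17349 (flp_j L698116) q18338, e3 q17350 L688527 q15164, e3 q17351 L688535 q15165, e3 q17352 L688545 q15166, e3 q17353 (flp_j L709527) q19379, e3 q17354 (flp_j L709535) q19380, e3 q17355 (flp_j L709547) q19381, e3 q17356 (flp_j L709557) q19382, e3 q17357 (flp_j L709569) q19383, e3 q17358 (flp_j L709577) q19384, e3 q17359 L688598 q15170, e3 q17360 L688607 q15171, e3 q17361 L688621 q15172, e3 q17362 L688631 q15173, e3 q17363 L688646 q15174, e3 q17364 L688653 q15175, e3 q17365 (flp_j L709654) q19393, e3 q17366 (flp_j L709663) q19394, e3 q17367 (flp_j L709677) q19395, e3 q17368 (flp_j L709686) q19396, e3 q17369 (flp_j L709698) q19397, e3 q17370 (flp_j L709709) q19398, e3 q17371 L688719 q17371, e3 q17372 L688728 q17372, e3 q17373 L688733 q17373, e3 q17374 L688749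 q15182, e3 q17375 L688762 q15917, e3 q17376 L688777 q15921, e3 q17377 L688783 q15188, e3 q17378 L688795 q15189, e3 q17379 L688807 q15190, e3 q17380 L688821 q15191, e3 q17381 L688830 q15192, e3 q17382 (flp_j L707987) q19242, e3 q17383 (flp_j L707971) q19241, e3 q17384 (flp_j L709834) q19410, e3 q17385 (flp_j L709843) q19411, e3 q17386 (flp_j L709858) q19412, e3 q17387 (flp_j L709868) q19413, e3 q17388 (flp_j L709881) q19414, e3 q17389 L688908 q15196, e3 q17390 L688920 q15197, e3 q17391 L688930 q15198, e3 q17392 (flp_j L709965) q19422, e3 q17393 (flp_j L709974) q19423, e3 q17394 (flp_j L709982) q19424, e3 q17395 L688971 q17395, e3 q17396 L688979 q17396, e3 q17397 L688987 q17397, e3 q17398 L688994 q15689, e3 q17399 L689003 q15678, e3 q17400 L689019 q15693, e3 q17401 (flp_j L698541) q18371, e3 q17402 (flp_j L698555) q18372, e3 q17403 L689044 q15207, e3 q17404 L689053 q15208, e3 q17405 L689069 q15209, e3 q17406 (flp_j L710110) q19437, e3 q17407 (flp_j L710120) q19438, trivial⟩ (by decide +kernel)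

theorem ce_j_272 : ∀ r, r < 64 → sm gj (Qf (17408 + r)) = Qf (tab Gen.j (17408 + r)) :=
  edges_tab (sm gj) Qf (tab Gen.j) 17408 [(17408, 19439), (17409, 15668), (17410, 19440), (17411, 19441), (17412, 15212), (17413, 15214), (17414, 15217), (17415, 15963), (17416, 19451), (17417, 15667), (17418, 15964), (17419, 19452), (17420, 19075), (17421, 15669), (17422, 15965), (17423, 17423), (17424, 17424), (17425, 17425), (17426, 17426), (17427, 15222), (17428, 19463), (17429, 17429), (17430, 18281), (17431, 18401), (17432, 18402), (17433, 15230), (17434, 15231), (17435, 15232), (17436, 15233), (17437, 15234), (17438, 15235), (17439, 19244), (17440, 19470), (17441, 19471), (17442, 19472), (17443, 19473), (17444, 19474), (17445, 19475), (17446, 19491), (17447, 19476), (17448, 19477), (17449, 15242), (17450, 15243), (17451, 15244), (17452, 15245), (17453, 15246), (17454, 15247), (17455, 15249), (17456, 15250), (17457, 19495), (17458, 19496), (17459, 19497), (17460, 19498), (17461, 19499), (17462, 19511), (17463, 19500), (17464, 19501),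 (17465, 19502), (17466, 15248), (17467, 19516), (17468, 19503), (17469, 17469), (17470, 17470), (17471, 19519)]
    ⟨e3 q17408 (flp_j L710133) q19439, e3 q17409 L689099 q15668, e3 q17410 (flp_j L710145) q19440, e3 q17411 (flp_j L710153) q19441, e3 q17412 L689125 q15212, e3 q17413 L689139 q15214, e3 q17414 L689148 q15217, e3 q17415 L689162 q15963, e3 q17416 (flp_j L710243) q19451, e3 q17417 L689183 q15667, e3 q17418 L689197 q15964, e3 q17419 (flp_j L710252) q19452, e3 q17420 (flp_j L706413) q19075, e3 q17421 L689227 q15669, e3 q17422 L689237 q15965, e3 q17423 L689255 q17423, e3 q17424 L689262 q17424, e3 q17425 L689271 q17425, e3 q17426 L689276 q17426, e3 q17427 (flp_j L689280) q15222, e3 q17428 (flp_j L710381) q19463, e3 q17429 L689309 q17429, e3 q17430 (flp_j L697328) q18281, e3 q17431 (flp_j L698883) q18401, e3 q17432 (flp_j L698894) q18402, e3 q17433 L689340 q15230, e3 q17434 L689348 q15231, e3 q17435 L689358 q15232, e3 q17436 L689366 q15233, e3 q17437 L689378 q15234, e3 q17438 L689386 q15235, e3 q17439 (flp_j L708008)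 q19244, e3 q17440 (flp_j L710434) q19470, e3 q17441 (flp_j L710446) q19471, e3 q17442 (flp_j L710450) q19472, e3 q17443 (flp_j L710458) q19473, e3 q17444 (flp_j L710470) q19474, e3 q17445 (flp_j L710478) q19475, e3 q17446 L710587 q19491, e3 q17447 (flp_j L710490) q19476, e3 q17448 (flp_j L710498) q19477, e3 q17449 L689461 q15242, e3 q17450 L689470 q15243, e3 q17451 L689484 q15244, e3 q17452 L689491 q15245, e3 q17453 L689503 q15246, e3 q17454 L689510 q15247, e3 q17455 L689520 q15249, e3 q17456 L689529 q15250, e3 q17457 (flp_j L710622) q19495, e3 q17458 (flp_j L710636) q19496, e3 q17459 (flp_j L710645) q19497, e3 q17460 (flp_j L710659) q19498, e3 q17461 (flp_j L710668) q19499, e3 q17462 L710781 q19511, e3 q17463 (flp_j L710677) q19500, e3 q17464 (flp_j L710686) q19501, e3 q17465 (flp_j L710693) q19502, e3 q17466 (flp_j L689610) q15248, e3 q17467 (flp_j L710822) q19516, e3 q17468 (flp_j L710703) q19503, e3 q17469 L689647 q17469, e3 q17470 L689654 q17470, e3 q17471 L710847 q19519, trivial⟩ (by decide +kernel)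

theorem ce_j_273 : ∀ r, r < 64 → sm gj (Qf (17472 + r)) = Qf (tab Gen.j (17472 + r)) :=
  edges_tab (sm gj) Qf (tab Gen.j) 17472 [(17472, 17472), (17473, 17473), (17474, 17474), (17475, 15256), (17476, 19523), (17477, 17477), (17478, 17478), (17479, 17479), (17480, 15261), (17481, 19526), (17482, 15265), (17483, 18282), (17484, 18284), (17485, 15276), (17486, 15277), (17487, 15278), (17488, 15279), (17489, 15280), (17490, 19245), (17491, 19014), (17492, 19235), (17493, 19528), (17494, 19529), (17495, 19530), (17496, 19531), (17497, 19532), (17498, 15284), (17499, 15285), (17500, 15286), (17501, 19542), (17502, 19543), (17503, 19544), (17504, 15297), (17505, 15299), (17506, 19247), (17507, 19236), (17508, 15521), (17509, 15303), (17510, 15371), (17511, 15396), (17512, 15379), (17513, 15380), (17514, 15388), (17515, 15389), (17516, 15395), (17517, 15397), (17518, 18211), (17519, 15412), (17520, 15413), (17521, 15414), (17522, 15423), (17523, 15433), (17524, 15434), (17525, 18213), (17526, 18214), (17527, 15446), (17528, 15548),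 (17529, 15457), (17530, 15465), (17531, 15468), (17532, 18182), (17533, 18197), (17534, 19291), (17535, 18175)]
    ⟨e3 q17472 L689681 q17472, e3 q17473 L689690 q17473, e3 q17474 L689695 q17474, e3 q17475 (flp_j L689698) q15256, e3 q17476 (flp_j L710901) q19523, e3 q17477 L689717 q17477, e3 q17478 L689720 q17478, e3 q17479 L689724 q17479, e3 q17480 L689734 q15261, e3 q17481 (flp_j L710920) q19526, e3 q17482 L689749 q15265, e3 q17483 (flp_j L697343) q18282, e3 q17484 (flp_j L697367) q18284, e3 q17485 L689776 q15276, e3 q17486 L689781 q15277, e3 q17487 L689790 q15278, e3 q17488 L689798 q15279, e3 q17489 L689808 q15280, e3 q17490 (flp_j L708024) q19245, e3 q17491 (flp_j L705740) q19014, e3 q17492 (flp_j L707896) q19235, e3 q17493 (flp_j L710938) q19528, e3 q17494 (flp_j L710944) q19529, e3 q17495 (flp_j L710952) q19530, e3 q17496 (flp_j L710961) q19531, e3 q17497 (flp_j L710968) q19532, e3 q17498 L689872 q15284, e3 q17499 L689882 q15285, e3 q17500 L689888 q15286, e3 q17501 (flp_j L711032) q19542, e3 q17502 (flp_j L711040) q19543,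 e3 q17503 (flp_j L711048) q19544, e3 q17504 L689920 q15297, e3 q17505 L689933 q15299, e3 q17506 (flp_j L708045) q19247, e3 q17507 (flp_j L707909) q19236, e3 q17508 L689960 q15521, e3 q17509 L689974 q15303, e3 q17510 L689991 q15371, e3 q17511 L690005 q15396, e3 q17512 L690015 q15379, e3 q17513 L690021 q15380, e3 q17514 L690031 q15388, e3 q17515 L690040 q15389, e3 q17516 L690048 q15395, e3 q17517 L690052 q15397, e3 q17518 (flp_j L696439) q18211, e3 q17519 L690071 q15412, e3 q17520 L690077 q15413, e3 q17521 L690085 q15414, e3 q17522 L690089 q15423, e3 q17523 L690101 q15433, e3 q17524 L690107 q15434, e3 q17525 (flp_j L696475) q18213, e3 q17526 (flp_j L696489) q18214, e3 q17527 L690131 q15446, e3 q17528 L690140 q15548, e3 q17529 L690149 q15457, e3 q17530 L690157 q15465, e3 q17531 L690163 q15468, e3 q17532 (flp_j L696013) q18182, e3 q17533 (flp_j L696245) q18197, e3 q17534 (flp_j L708600) q19291, e3 q17535 (flp_j L695902) q18175, trivial⟩ (by decide +kernel)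

theorem ce_j_274 : ∀ r, r < 64 → sm gj (Qf (17536 + r)) = Qf (tab Gen.j (17536 + r)) :=
  edges_tab (sm gj) Qf (tab Gen.j) 17536 [(17536, 18183), (17537, 15495), (17538, 15497), (17539, 15498), (17540, 15500), (17541, 15501), (17542, 15502), (17543, 15851), (17544, 15505), (17545, 15549), (17546, 15550), (17547, 18177), (17548, 18185), (17549, 15527), (17550, 15528), (17551, 15529), (17552, 18600), (17553, 15406), (17554, 15415), (17555, 15407), (17556, 19546), (17557, 15373), (17558, 15374), (17559, 18836), (17560, 19579), (17561, 19580), (17562, 15378), (17563, 18851), (17564, 19585), (17565, 19548), (17566, 18775), (17567, 18888), (17568, 18902), (17569, 18790), (17570, 18898), (17571, 18560), (17572, 19549), (17573, 19550), (17574, 18806), (17575, 19280), (17576, 19281), (17577, 18816), (17578, 19282), (17579, 18566), (17580, 19551), (17581, 19547), (17582, 15401), (17583, 15402), (17584, 18837), (17585, 18838), (17586, 19576), (17587, 19601), (17588, 19602), (17589, 15408), (17590, 18852), (17591, 18853), (17592, 18854),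 (17593, 19577), (17594, 19578), (17595, 18549), (17596, 18577), (17597, 18578), (17598, 19552), (17599, 19553)]
    ⟨e3 q17536 (flp_j L696025) q18183, e3 q17537 L690204 q15495, e3 q17538 L690214 q15497, e3 q17539 L690220 q15498, e3 q17540 L690230 q15500, e3 q17541 L690238 q15501, e3 q17542 L690242 q15502, e3 q17543 L690252 q15851, e3 q17544 L690258 q15505, e3 q17545 L690266 q15549, e3 q17546 L690277 q15550, e3 q17547 (flp_j L695932) q18177, e3 q17548 (flp_j L696055) q18185, e3 q17549 L690306 q15527, e3 q17550 L690313 q15528, e3 q17551 L690318 q15529, e3 q17552 (flp_j L701342) q18600, e3 q17553 L690341 q15406, e3 q17554 L690356 q15415, e3 q17555 L690372 q15407, e3 q17556 (flp_j L711066) q19546, e3 q17557 L690390 q15373, e3 q17558 L690406 q15374, e3 q17559 (flp_j L703877) q18836, e3 q17560 (flp_j L711351) q19579, e3 q17561 (flp_j L711369) q19580, e3 q17562 L690444 q15378, e3 q17563 (flp_j L704021) q18851, e3 q17564 (flp_j L711413) q19585, e3 q17565 (flp_j L711094) q19548, e3 q17566 (flp_j L703279) q18775, e3 q17567 (flp_j L704342)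 q18888, e3 q17568 (flp_j L704490) q18902, e3 q17569 (flp_j L703454) q18790, e3 q17570 (flp_j L704447) q18898, e3 q17571 (flp_j L700885) q18560, e3 q17572 (flp_j L711106) q19549, e3 q17573 (flp_j L711113) q19550, e3 q17574 (flp_j L703609) q18806, e3 q17575 (flp_j L708468) q19280, e3 q17576 (flp_j L708486) q19281, e3 q17577 (flp_j L703704) q18816, e3 q17578 (flp_j L708498) q19282, e3 q17579 (flp_j L700964) q18566, e3 q17580 (flp_j L711122) q19551, e3 q17581 (flp_j L711082) q19547, e3 q17582 L690595 q15401, e3 q17583 L690605 q15402, e3 q17584 (flp_j L703889) q18837, e3 q17585 (flp_j L703903) q18838, e3 q17586 (flp_j L711309) q19576, e3 q17587 (flp_j L711540) q19601, e3 q17588 (flp_j L711546) q19602, e3 q17589 L690641 q15408, e3 q17590 (flp_j L704032) q18852, e3 q17591 (flp_j L704049) q18853, e3 q17592 (flp_j L704059) q18854, e3 q17593 (flp_j L711327) q19577, e3 q17594 (flp_j L711339) q19578, e3 q17595 (flp_j L700759) q18549, e3 q17596 (flp_j L701077) q18577, e3 q17597 (flp_j L701087) q18578, e3 q17598 (flp_j L711132) q19552,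 e3 q17599 (flp_j L711136) q19553, trivial⟩ (by decide +kernel)

theorem ce_j_275 : ∀ r, r < 64 → sm gj (Qf (17600 + r)) = Qf (tab Gen.j (17600 + r)) :=
  edges_tab (sm gj) Qf (tab Gen.j) 17600 [(17600, 18889), (17601, 18890), (17602, 18891), (17603, 18903), (17604, 18899), (17605, 18561), (17606, 18592), (17607, 19554), (17608, 18193), (17609, 19283), (17610, 19286), (17611, 18194), (17612, 19287), (17613, 18567), (17614, 19555), (17615, 18747), (17616, 18748), (17617, 15439), (17618, 15440), (17619, 18203), (17620, 18209), (17621, 19633), (17622, 19634), (17623, 15443), (17624, 18210), (17625, 18551), (17626, 18579), (17627, 19557), (17628, 18707), (17629, 15452), (17630, 18221), (17631, 18092), (17632, 18222), (17633, 18558), (17634, 18589), (17635, 19558), (17636, 19309), (17637, 19301), (17638, 19313), (17639, 19305), (17640, 19317), (17641, 19310), (17642, 19314), (17643, 18521), (17644, 19559), (17645, 19267), (17646, 19560), (17647, 18668), (17648, 18829), (17649, 18830), (17650, 15476), (17651, 15477), (17652, 15478),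 (17653, 15480), (17654, 15481), (17655, 18677), (17656, 19661), (17657, 19662), (17658, 18343), (17659, 18178), (17660, 19663), (17661, 19664), (17662, 19678), (17663, 19288)]
    ⟨e3 q17600 (flp_j L704351) q18889, e3 q17601 (flp_j L704366) q18890, e3 q17602 (flp_j L704378) q18891, e3 q17603 (flp_j L704504) q18903, e3 q17604 (flp_j L704456) q18899, e3 q17605 (flp_j L700902) q18561, e3 q17606 (flp_j L701225) q18592, e3 q17607 (flp_j L711146) q19554, e3 q17608 (flp_j L696188) q18193, e3 q17609 (flp_j L708512) q19283, e3 q17610 (flp_j L708544) q19286, e3 q17611 (flp_j L696205) q18194, e3 q17612 (flp_j L708556) q19287, e3 q17613 (flp_j L700975) q18567, e3 q17614 (flp_j L711156) q19555, e3 q17615 (flp_j L703012) q18747, e3 q17616 (flp_j L703024) q18748, e3 q17617 L690842 q15439, e3 q17618 L690854 q15440, e3 q17619 (flp_j L696331) q18203, e3 q17620 (flp_j L696409) q18209, e3 q17621 (flp_j L711766) q19633, e3 q17622 (flp_j L711774) q19634, e3 q17623 L690890 q15443, e3 q17624 (flp_j L696423) q18210, e3 q17625 (flp_j L700791) q18551,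 e3 q17626 (flp_j L701097) q18579, e3 q17627 (flp_j L711170) q19557, e3 q17628 (flp_j L702560) q18707, e3 q17629 L690934 q15452, e3 q17630 (flp_j L696572) q18221, e3 q17631 (flp_j L694651) q18092, e3 q17632 (flp_j L696583) q18222, e3 q17633 (flp_j L700863) q18558, e3 q17634 (flp_j L701199) q18589, e3 q17635 (flp_j L711178) q19558, e3 q17636 (flp_j L708785) q19309, e3 q17637 (flp_j L708706) q19301, e3 q17638 (flp_j L708826) q19313, e3 q17639 (flp_j L708744) q19305, e3 q17640 (flp_j L708864) q19317, e3 q17641 (flp_j L708800) q19310, e3 q17642 (flp_j L708836) q19314, e3 q17643 (flp_j L700399) q18521, e3 q17644 (flp_j L711187) q19559, e3 q17645 (flp_j L708308) q19267, e3 q17646 (flp_j L711193) q19560, e3 q17647 (flp_j L702159) q18668, e3 q17648 (flp_j L703811) q18829, e3 q17649 (flp_j L703821) q18830, e3 q17650 L691079 q15476, e3 q17651 L691085 q15477, e3 q17652 L691095 q15478, e3 q17653 L691103 q15480, e3 q17654 L691109 q15481, e3 q17655 L702231 q18677, e3 q17656 (flp_j L711957) q19661, e3 q17657 (flp_j L711967) q19662, e3 q17658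 (flp_j L698184) q18343, e3 q17659 (flp_j L695943) q18178, e3 q17660 (flp_j L711975) q19663, e3 q17661 (flp_j L711983) q19664, e3 q17662 L712067 q19678, e3 q17663 (flp_j L708572) q19288, trivial⟩ (by decide +kernel)

theorem ce_j_276 : ∀ r, r < 64 → sm gj (Qf (17664 + r)) = Qf (tab Gen.j (17664 + r)) :=
  edges_tab (sm gj) Qf (tab Gen.j) 17664 [(17664, 19665), (17665, 15487), (17666, 15490), (17667, 18687), (17668, 18172), (17669, 18174), (17670, 19682), (17671, 18133), (17672, 18179), (17673, 18180), (17674, 19683), (17675, 15491), (17676, 19692), (17677, 19289), (17678, 18534), (17679, 19565), (17680, 18515), (17681, 19566), (17682, 19567), (17683, 18136), (17684, 19568), (17685, 19569), (17686, 19570), (17687, 15504), (17688, 19690), (17689, 15507), (17690, 18698), (17691, 18709), (17692, 15517), (17693, 15520), (17694, 18690), (17695, 18315), (17696, 18320), (17697, 19704), (17698, 18332), (17699, 18349), (17700, 18358), (17701, 19705), (17702, 15525), (17703, 15526), (17704, 18693), (17705, 19714), (17706, 18880), (17707,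 19573), (17708, 19571), (17709, 19574), (17710, 19575), (17711, 15537), (17712, 15539), (17713, 15540), (17714, 18904), (17715, 19720), (17716, 15619), (17717, 19361), (17718, 15545), (17719, 18710), (17720, 18703), (17721, 18603), (17722, 18918), (17723, 18919), (17724, 15555), (17725, 15556), (17726, 19724), (17727, 19725)]
    ⟨e3 q17664 (flp_j L711989) q19665, e3 q17665 L691177 q15487, e3 q17666 L691183 q15490, e3 q17667 (flp_j L702325) q18687, e3 q17668 (flp_j L695847) q18172, e3 q17669 (flp_j L695884) q18174, e3 q17670 (flp_j L712095) q19682, e3 q17671 (flp_j L695291) q18133, e3 q17672 (flp_j L695963) q18179, e3 q17673 (flp_j L695975) q18180, e3 q17674 (flp_j L712099) q19683, e3 q17675 (flp_j L691245) q15491, e3 q17676 (flp_j L712169) q19692, e3 q17677 (flp_j L708580) q19289, e3 q17678 (flp_j L700563) q18534, e3 q17679 (flp_j L711224) q19565, e3 q17680 (flp_j L700323) q18515, e3 q17681 (flp_j L711232) q19566, e3 q17682 (flp_j L711238) q19567, e3 q17683 (flp_j L695342) q18136, e3 q17684 (flp_j L711248) q19568, e3 q17685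 (flp_j L711254) q19569, e3 q17686 (flp_j L711260) q19570, e3 q17687 L691323 q15504, e3 q17688 (flp_j L712153) q19690, e3 q17689 L691337 q15507, e3 q17690 (flp_j L702451) q18698, e3 q17691 (flp_j L702584) q18709, e3 q17692 L691366 q15517, e3 q17693 L691374 q15520, e3 q17694 (flp_j L702355) q18690, e3 q17695 (flp_j L697806) q18315, e3 q17696 (flp_j L697882) q18320, e3 q17697 (flp_j L712244) q19704, e3 q17698 (flp_j L698033) q18332, e3 q17699 (flp_j L698257) q18349, e3 q17700 (flp_j L698380) q18358, e3 q17701 (flp_j L712251) q19705, e3 q17702 L691447 q15525, e3 q17703 L691452 q15526, e3 q17704 (flp_j L702383) q18693, e3 q17705 (flp_j L712314) q19714, e3 q17706 (flp_j L704254) q18880, e3 q17707 (flp_j L711284) q19573, e3 q17708 (flp_j L711268) q19571, e3 q17709 (flp_j L711291) q19574, e3 q17710 (flp_j L711300) q19575, e3 q17711 L691509 q15537, e3 q17712 L691521 q15539, e3 q17713 L691529 q15540, e3 q17714 (flp_j L704524) q18904, e3 q17715 (flp_j L712357) q19720, e3 q17716 L691561 q15619, e3 q17717 (flp_j L709336) q19361, e3 q17718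 L691581 q15545, e3 q17719 (flp_j L702600) q18710, e3 q17720 (flp_j L702517) q18703, e3 q17721 (flp_j L701395) q18603, e3 q17722 (flp_j L704701) q18918, e3 q17723 (flp_j L704716) q18919, e3 q17724 L691628 q15555, e3 q17725 L691638 q15556, e3 q17726 (flp_j L712391) q19724, e3 q17727 (flp_j L712399) q19725, trivial⟩ (by decide +kernel)

theorem ce_j_277 : ∀ r, r < 64 → sm gj (Qf (17728 + r)) = Qf (tab Gen.j (17728 + r)) :=
  edges_tab (sm gj) Qf (tab Gen.j) 17728 [(17728, 15558), (17729, 18962), (17730, 18972), (17731, 18938), (17732, 18939), (17733, 15565), (17734, 15566), (17735, 18961), (17736, 19731), (17737, 19732), (17738, 15570), (17739, 15571), (17740, 18992), (17741, 19735), (17742, 18951), (17743, 18952), (17744, 18953), (17745, 15578), (17746, 15579), (17747, 15580), (17748, 15581), (17749, 15582), (17750, 15583), (17751, 19742), (17752, 19743), (17753, 19744), (17754, 19745), (17755, 19746), (17756, 19747), (17757, 19749), (17758, 19750), (17759, 15590), (17760, 15591), (17761, 15592), (17762, 15593), (17763, 15594),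 (17764, 18999), (17765, 15595), (17766, 15596), (17767, 19761), (17768, 19762), (17769, 19763), (17770, 19764), (17771, 19765), (17772, 19767), (17773, 17773), (17774, 17774), (17775, 19000), (17776, 18991), (17777, 15610), (17778, 15611), (17779, 15612), (17780, 19076), (17781, 19017), (17782, 19018), (17783, 19773), (17784, 15615), (17785, 19233), (17786, 15622), (17787, 18250), (17788, 18959), (17789, 18960), (17790, 15630), (17791, 15631)]
    ⟨e3 q17728 L691659 q15558, e3 q17729 (flp_j L705198) q18962, e3 q17730 (flp_j L705312) q18972, e3 q17731 (flp_j L704916) q18938, e3 q17732 (flp_j L704931) q18939, e3 q17733 L691691 q15565, e3 q17734 L691701 q15566, e3 q17735 (flp_j L705180) q18961, e3 q17736 (flp_j L712438) q19731, e3 q17737 (flp_j L712444) q19732, e3 q17738 L691734 q15570, e3 q17739 L691739 q15571, e3 q17740 (flp_j L705524) q18992, e3 q17741 (flp_j L712473) q19735, e3 q17742 (flp_j L705067) q18951, e3 q17743 (flp_j L705079) q18952, e3 q17744 (flp_j L705088) q18953, e3 q17745 L691787 q15578, e3 q17746 L691793 q15579,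 e3 q17747 L691803 q15580, e3 q17748 L691809 q15581, e3 q17749 L691817 q15582, e3 q17750 L691823 q15583, e3 q17751 (flp_j L712522) q19742, e3 q17752 (flp_j L712532) q19743, e3 q17753 (flp_j L712536) q19744, e3 q17754 (flp_j L712544) q19745, e3 q17755 (flp_j L712554) q19746, e3 q17756 (flp_j L712562) q19747, e3 q17757 (flp_j L712580) q19749, e3 q17758 (flp_j L712586) q19750, e3 q17759 L691880 q15590, e3 q17760 L691890 q15591, e3 q17761 L691897 q15592, e3 q17762 L691907 q15593, e3 q17763 L691914 q15594, e3 q17764 (flp_j L705602) q18999, e3 q17765 L691933 q15595, e3 q17766 L691942 q15596, e3 q17767 (flp_j L712664) q19761, e3 q17768 (flp_j L712676) q19762, e3 q17769 (flp_j L712683) q19763, e3 q17770 (flp_j L712692) q19764, e3 q17771 (flp_j L712701) q19765, e3 q17772 (flp_j L712718) q19767, e3 q17773 L691997 q17773, e3 q17774 L692000 q17774, e3 q17775 (flp_j L705614) q19000, e3 q17776 (flp_j L705508) q18991, e3 q17777 L692025 q15610, e3 q17778 L692030 q15611, e3 q17779 L692039 q15612, e3 q17780 (flp_j L706431) q19076, e3 q17781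 (flp_j L705772) q19017, e3 q17782 (flp_j L705791) q19018, e3 q17783 (flp_j L712761) q19773, e3 q17784 L692094 q15615, e3 q17785 (flp_j L707866) q19233, e3 q17786 L692116 q15622, e3 q17787 (flp_j L696942) q18250, e3 q17788 (flp_j L705150) q18959, e3 q17789 (flp_j L705170) q18960, e3 q17790 L692148 q15630, e3 q17791 L692160 q15631, trivial⟩ (by decide +kernel)

theorem ce_j_278 : ∀ r, r < 64 → sm gj (Qf (17792 + r)) = Qf (tab Gen.j (17792 + r)) :=
  edges_tab (sm gj) Qf (tab Gen.j) 17792 [(17792, 19780), (17793, 19781), (17794, 15633), (17795, 19030), (17796, 19031), (17797, 19032), (17798, 15639), (17799, 15640), (17800, 15641), (17801, 15642), (17802, 15643), (17803, 19250), (17804, 19788), (17805, 19789), (17806, 18413), (17807, 19790), (17808, 19791), (17809, 19792), (17810, 15647), (17811, 15648), (17812, 15649), (17813, 19802), (17814, 19803), (17815, 17815), (17816, 19065), (17817, 15660), (17818, 15662), (17819, 19251), (17820, 18426), (17821, 19249), (17822, 18388), (17823, 18430), (17824, 15665), (17825, 19453), (17826,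 19445), (17827, 19456), (17828, 19449), (17829, 19460), (17830, 19086), (17831, 19087), (17832, 19088), (17833, 15675), (17834, 15676), (17835, 15677), (17836, 15679), (17837, 15680), (17838, 19252), (17839, 19820), (17840, 19821), (17841, 19822), (17842, 19430), (17843, 19823), (17844, 19824), (17845, 19838), (17846, 19432), (17847, 19825), (17848, 15686), (17849, 15687), (17850, 15688), (17851, 15690), (17852, 15691), (17853, 15694), (17854, 19842), (17855, 19429)]
    ⟨e3 q17792 (flp_j L712813) q19780, e3 q17793 (flp_j L712821) q19781, e3 q17794 L692181 q15633, e3 q17795 (flp_j L705925) q19030, e3 q17796 (flp_j L705939) q19031, e3 q17797 (flp_j L705950) q19032, e3 q17798 L692215 q15639, e3 q17799 L692223 q15640, e3 q17800 L692235 q15641, e3 q17801 L692243 q15642, e3 q17802 L692251 q15643, e3 q17803 (flp_j L708092) q19250, e3 q17804 (flp_j L712876) q19788, e3 q17805 (flp_j L712886) q19789, e3 q17806 (flp_j L699016) q18413, e3 q17807 (flp_j L712896) q19790, e3 q17808 (flp_j L712906) q19791, e3 q17809 (flp_j L712914) q19792,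 e3 q17810 L692306 q15647, e3 q17811 L692317 q15648, e3 q17812 L692326 q15649, e3 q17813 (flp_j L712985) q19802, e3 q17814 (flp_j L712992) q19803, e3 q17815 L692350 q17815, e3 q17816 (flp_j L706282) q19065, e3 q17817 L692367 q15660, e3 q17818 L692379 q15662, e3 q17819 (flp_j L708107) q19251, e3 q17820 (flp_j L699161) q18426, e3 q17821 (flp_j L708078) q19249, e3 q17822 (flp_j L698727) q18388, e3 q17823 (flp_j L699215) q18430, e3 q17824 L692433 q15665, e3 q17825 (flp_j L710266) q19453, e3 q17826 (flp_j L710181) q19445, e3 q17827 (flp_j L710306) q19456, e3 q17828 (flp_j L710223) q19449, e3 q17829 (flp_j L710345) q19460, e3 q17830 (flp_j L706502) q19086, e3 q17831 (flp_j L706512) q19087, e3 q17832 (flp_j L706523) q19088, e3 q17833 L692493 q15675, e3 q17834 L692501 q15676, e3 q17835 L692513 q15677, e3 q17836 L692519 q15679, e3 q17837 L692525 q15680, e3 q17838 (flp_j L708119) q19252, e3 q17839 (flp_j L713107) q19820, e3 q17840 (flp_j L713119) q19821, e3 q17841 (flp_j L713123) q19822, e3 q17842 (flp_j L710041) q19430, e3 q17843 (flp_j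 L713133) q19823, e3 q17844 (flp_j L713141) q19824, e3 q17845 L713236 q19838, e3 q17846 (flp_j L710066) q19432, e3 q17847 (flp_j L713149) q19825, e3 q17848 L692600 q15686, e3 q17849 L692611 q15687, e3 q17850 L692623 q15688, e3 q17851 L692633 q15690, e3 q17852 L692640 q15691, e3 q17853 L692651 q15694, e3 q17854 (flp_j L713267) q19842, e3 q17855 (flp_j L710031) q19429, trivial⟩ (by decide +kernel)

theorem ce_j_279 : ∀ r, r < 64 → sm gj (Qf (17856 + r)) = Qf (tab Gen.j (17856 + r)) :=
  edges_tab (sm gj) Qf (tab Gen.j) 17856 [(17856, 19843), (17857, 19844), (17858, 19849), (17859, 19431), (17860, 19845), (17861, 15692), (17862, 19853), (17863, 19433), (17864, 17864), (17865, 17865), (17866, 15698), (17867, 19856), (17868, 17868), (17869, 17869), (17870, 15702), (17871, 19859), (17872, 19128), (17873, 19129), (17874, 19130), (17875, 19131), (17876, 19132), (17877, 15714), (17878, 15715), (17879, 15716), (17880, 15717), (17881, 15718), (17882, 15719), (17883, 19873), (17884, 15721), (17885, 15722), (17886, 19097), (17887, 19253),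 (17888, 15807), (17889, 19866), (17890, 19867), (17891, 19868), (17892, 18341), (17893, 19038), (17894, 19869), (17895, 19891), (17896, 19870), (17897, 19871), (17898, 19872), (17899, 15720), (17900, 19896), (17901, 19875), (17902, 19876), (17903, 15732), (17904, 15733), (17905, 15734), (17906, 15735), (17907, 15736), (17908, 15738), (17909, 15739), (17910, 15740), (17911, 15729), (17912, 19908), (17913, 15743), (17914, 19900), (17915, 19901), (17916, 19902), (17917, 19808), (17918, 19903), (17919, 19904)]
    ⟨e3 q17856 (flp_j L713279) q19843, e3 q17857 (flp_j L713286) q19844, e3 q17858 L713328 q19849, e3 q17859 (flp_j L710054) q19431, e3 q17860 (flp_j L713299) q19845, e3 q17861 (flp_j L692713) q15692, e3 q17862 (flp_j L713367) q19853, e3 q17863 (flp_j L710074) q19433, e3 q17864 L692739 q17864, e3 q17865 L692748 q17865, e3 q17866 (flp_j L692751) q15698, e3 q17867 (flp_j L713391) q19856, e3 q17868 L692772 q17868, e3 q17869 L692777 q17869, e3 q17870 L692786 q15702, e3 q17871 (flp_j L713412) q19859, e3 q17872 (flp_j L706919)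 q19128, e3 q17873 (flp_j L706930) q19129, e3 q17874 (flp_j L706934) q19130, e3 q17875 (flp_j L706943) q19131, e3 q17876 (flp_j L706950) q19132, e3 q17877 L692827 q15714, e3 q17878 L692839 q15715, e3 q17879 L692845 q15716, e3 q17880 L692853 q15717, e3 q17881 L692863 q15718, e3 q17882 L692871 q15719, e3 q17883 L713520 q19873, e3 q17884 L692883 q15721, e3 q17885 L692889 q15722, e3 q17886 (flp_j L706607) q19097, e3 q17887 (flp_j L708133) q19253, e3 q17888 L692907 q15807, e3 q17889 (flp_j L713458) q19866, e3 q17890 (flp_j L713470) q19867, e3 q17891 (flp_j L713478) q19868, e3 q17892 (flp_j L698154) q18341, e3 q17893 (flp_j L706008) q19038, e3 q17894 (flp_j L713490) q19869, e3 q17895 L713640 q19891, e3 q17896 (flp_j L713500) q19870, e3 q17897 (flp_j L713508) q19871, e3 q17898 (flp_j L713516) q19872, e3 q17899 (flp_j L692971) q15720, e3 q17900 (flp_j L713672) q19896, e3 q17901 (flp_j L713538) q19875, e3 q17902 (flp_j L713542) q19876, e3 q17903 L692994 q15732, e3 q17904 L693005 q15733, e3 q17905 L693013 q15734, e3 q17906 L693024 q15735,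 e3 q17907 L693031 q15736, e3 q17908 L693043 q15738, e3 q17909 L693052 q15739, e3 q17910 L693059 q15740, e3 q17911 (flp_j L693063) q15729, e3 q17912 (flp_j L713764) q19908, e3 q17913 L693081 q15743, e3 q17914 (flp_j L713692) q19900, e3 q17915 (flp_j L713703) q19901, e3 q17916 (flp_j L713710) q19902, e3 q17917 (flp_j L713030) q19808, e3 q17918 (flp_j L713722) q19903, e3 q17919 (flp_j L713731) q19904, trivial⟩ (by decide +kernel)

theorem ce_j_280 : ∀ r, r < 64 → sm gj (Qf (17920 + r)) = Qf (tab Gen.j (17920 + r)) :=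
  edges_tab (sm gj) Qf (tab Gen.j) 17920 [(17920, 15956), (17921, 15737), (17922, 19915), (17923, 19905), (17924, 19906), (17925, 19907), (17926, 15742), (17927, 19920), (17928, 17928), (17929, 15746), (17930, 19921), (17931, 17931), (17932, 17932), (17933, 15751), (17934, 19925), (17935, 17935), (17936, 17936), (17937, 15756), (17938, 15758), (17939, 15768), (17940, 15769), (17941, 19039), (17942, 19885), (17943, 19881), (17944, 15774), (17945, 19929), (17946, 18905), (17947, 18280), (17948, 18293), (17949, 19070), (17950, 15786), (17951, 15787), (17952, 15788), (17953, 15789), (17954, 15790), (17955, 15933), (17956, 19931), (17957, 19932), (17958, 19933), (17959, 19934), (17960, 19935), (17961, 19936), (17962, 19220), (17963, 15799), (17964, 15800), (17965, 15801), (17966, 19254), (17967, 19073), (17968, 19237), (17969, 19071), (17970, 19945), (17971, 15804), (17972, 19072), (17973, 19880), (17974, 15809), (17975, 15836), (17976, 15884), (17977, 15863), (17978, 15864), (17979, 15865), (17980, 15866), (17981, 15821), (17982,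 18085), (17983, 15826)]
    ⟨e3 q17920 L693135 q15956, e3 q17921 (flp_j L693139) q15737, e3 q17922 (flp_j L713819) q19915, e3 q17923 (flp_j L713739) q19905, e3 q17924 (flp_j L713744) q19906, e3 q17925 (flp_j L713753) q19907, e3 q17926 L693181 q15742, e3 q17927 (flp_j L713851) q19920, e3 q17928 L693195 q17928, e3 q17929 (flp_j L693196) q15746, e3 q17930 (flp_j L713862) q19921, e3 q17931 L693219 q17931, e3 q17932 L693224 q17932, e3 q17933 L693234 q15751, e3 q17934 (flp_j L713891) q19925, e3 q17935 L693246 q17935, e3 q17936 L693251 q17936, e3 q17937 L693259 q15756, e3 q17938 L693268 q15758, e3 q17939 L693278 q15768, e3 q17940 L693286 q15769, e3 q17941 (flp_j L706022) q19039, e3 q17942 (flp_j L713608) q19885, e3 q17943 (flp_j L713580) q19881, e3 q17944 L693309 q15774, e3 q17945 (flp_j L713917) q19929, e3 q17946 (flp_j L704533) q18905, e3 q17947 (flp_j L697319) q18280, e3 q17948 (flp_j L697493) q18293, e3 q17949 (flp_j L706352) q19070, e3 q17950 L693357 q15786, e3 q17951 L693367 q15787, e3 q17952 L693377 q15788, e3 q17953 L693387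 q15789, e3 q17954 L693394 q15790, e3 q17955 L693402 q15933, e3 q17956 (flp_j L713939) q19931, e3 q17957 (flp_j L713954) q19932, e3 q17958 (flp_j L713959) q19933, e3 q17959 (flp_j L713970) q19934, e3 q17960 (flp_j L713978) q19935, e3 q17961 (flp_j L713987) q19936, e3 q17962 (flp_j L707724) q19220, e3 q17963 L693461 q15799, e3 q17964 L693468 q15800, e3 q17965 L693477 q15801, e3 q17966 (flp_j L708146) q19254, e3 q17967 (flp_j L706390) q19073, e3 q17968 (flp_j L707926) q19237, e3 q17969 (flp_j L706363) q19071, e3 q17970 (flp_j L714053) q19945, e3 q17971 L693516 q15804, e3 q17972 (flp_j L706377) q19072, e3 q17973 (flp_j L713568) q19880, e3 q17974 L693536 q15809, e3 q17975 L693543 q15836, e3 q17976 L693553 q15884, e3 q17977 L693563 q15863, e3 q17978 L693569 q15864, e3 q17979 L693579 q15865, e3 q17980 L693585 q15866, e3 q17981 L693594 q15821, e3 q17982 (flp_j L694537) q18085, e3 q17983 L693618 q15826, trivial⟩ (by decide +kernel)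

theorem ce_j_281 : ∀ r, r < 64 → sm gj (Qf (17984 + r)) = Qf (tab Gen.j (17984 + r)) :=
  edges_tab (sm gj) Qf (tab Gen.j) 17984 [(17984, 15883), (17985, 15882), (17986, 15881), (17987, 18163), (17988, 18173), (17989, 18134), (17990, 18501), (17991, 18498), (17992, 18564), (17993, 18586), (17994, 18316), (17995, 18321), (17996, 18333), (17997, 18350), (17998, 18359), (17999, 18187), (18000, 18084), (18001, 18224), (18002, 18877), (18003, 18791), (18004, 15872), (18005, 18906), (18006, 18907), (18007, 18096), (18008, 19326), (18009, 15877), (18010, 15878), (18011, 15879), (18012, 15880), (18013, 19958), (18014, 15907), (18015, 18099), (18016, 15932), (18017, 15892), (18018, 15893), (18019, 15894), (18020, 19962), (18021, 19961), (18022, 19964), (18023, 18427), (18024, 18389), (18025, 18431), (18026, 15931), (18027, 15908), (18028, 19969), (18029, 15959), (18030, 19407), (18031, 15957), (18032, 15940), (18033, 19376), (18034, 18327), (18035, 18342), (18036, 18331), (18037, 18347), (18038, 19408), (18039, 18364), (18040, 18365),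 (18041, 15935), (18042, 19409), (18043, 15942), (18044, 15951), (18045, 15930), (18046, 15934), (18047, 15938)]
    ⟨e3 q17984 L693633 q15883, e3 q17985 L693647 q15882, e3 q17986 L693664 q15881, e3 q17987 (flp_j L695713) q18163, e3 q17988 (flp_j L695866) q18173, e3 q17989 (flp_j L695311) q18134, e3 q17990 (flp_j L700103) q18501, e3 q17991 (flp_j L700053) q18498, e3 q17992 (flp_j L700937) q18564, e3 q17993 (flp_j L701177) q18586, e3 q17994 (flp_j L697826) q18316, e3 q17995 (flp_j L697896) q18321, e3 q17996 (flp_j L698052) q18333, e3 q17997 (flp_j L698269) q18350, e3 q17998 (flp_j L698389) q18359, e3 q17999 (flp_j L696096) q18187, e3 q18000 (flp_j L694523) q18084, e3 q18001 (flp_j L696614) q18224, e3 q18002 (flp_j L704236) q18877, e3 q18003 (flp_j L703464) q18791, e3 q18004 L693784 q15872, e3 q18005 (flp_j L704549) q18906, e3 q18006 (flp_j L704563) q18907, e3 q18007 (flp_j L694706) q18096, e3 q18008 (flp_j L708939) q19326, e3 q18009 L693829 q15877, e3 q18010 L693843 q15878, e3 q18011 L693860 q15879, e3 q18012 L693868 q15880,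 e3 q18013 (flp_j L714128) q19958, e3 q18014 L693890 q15907, e3 q18015 (flp_j L694756) q18099, e3 q18016 L693907 q15932, e3 q18017 L693924 q15892, e3 q18018 L693931 q15893, e3 q18019 L693941 q15894, e3 q18020 (flp_j L714173) q19962, e3 q18021 (flp_j L714159) q19961, e3 q18022 (flp_j L714195) q19964, e3 q18023 (flp_j L699181) q18427, e3 q18024 (flp_j L698747) q18389, e3 q18025 (flp_j L699227) q18431, e3 q18026 L694000 q15931, e3 q18027 L694010 q15908, e3 q18028 (flp_j L714236) q19969, e3 q18029 L694026 q15959, e3 q18030 (flp_j L709793) q19407, e3 q18031 L694049 q15957, e3 q18032 L694059 q15940, e3 q18033 (flp_j L709502) q19376, e3 q18034 (flp_j L697971) q18327, e3 q18035 (flp_j L698174) q18342, e3 q18036 (flp_j L698022) q18331, e3 q18037 (flp_j L698231) q18347, e3 q18038 (flp_j L709810) q19408, e3 q18039 (flp_j L698464) q18364, e3 q18040 (flp_j L698475) q18365, e3 q18041 L694117 q15935, e3 q18042 (flp_j L709822) q19409, e3 q18043 L694136 q15942, e3 q18044 L694145 q15951, e3 q18045 L694155 q15930, e3 q18046 L694169 q15934, e3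 q18047 L694177 q15938, trivial⟩ (by decide +kernel)

theorem ce_j_282 : ∀ r, r < 64 → sm gj (Qf (18048 + r)) = Qf (tab Gen.j (18048 + r)) :=
  edges_tab (sm gj) Qf (tab Gen.j) 18048 [(18048, 15939), (18049, 19968), (18050, 19963), (18051, 19937), (18052, 19983), (18053, 19982), (18054, 15937), (18055, 19984), (18056, 19986), (18057, 19972), (18058, 19971), (18059, 15975), (18060, 18060), (18061, 15947), (18062, 19985), (18063, 18063), (18064, 18064), (18065, 19981), (18066, 19052), (18067, 18973), (18068, 18261), (18069, 18971), (18070, 19454), (18071, 19457), (18072, 15967), (18073, 18297), (18074, 18286), (18075, 15976), (18076, 19994), (18077, 18988), (18078, 16558), (18079, 15988), (18080, 15989), (18081, 16556), (18082, 16670), (18083, 15987), (18084, 18000), (18085, 17982), (18086, 18086), (18087, 15993), (18088, 20001), (18089, 18089), (18090, 15996), (18091, 20002), (18092, 17631), (18093, 16000), (18094, 20004), (18095, 16003), (18096, 18007), (18097, 18097), (18098, 18098), (18099, 18015), (18100, 17284), (18101,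 17285), (18102, 16015), (18103, 16016), (18104, 16017), (18105, 20007), (18106, 20008), (18107, 18107), (18108, 16063), (18109, 16064), (18110, 16587), (18111, 17221)]
    ⟨e3 q18048 L694183 q15939, e3 q18049 (flp_j L714225) q19968, e3 q18050 (flp_j L714184) q19963, e3 q18051 (flp_j L713999) q19937, e3 q18052 (flp_j L714346) q19983, e3 q18053 (flp_j L714336) q19982, e3 q18054 L694233 q15937, e3 q18055 (flp_j L714357) q19984, e3 q18056 (flp_j L714378) q19986, e3 q18057 (flp_j L714269) q19972, e3 q18058 (flp_j L714261) q19971, e3 q18059 L694272 q15975, e3 q18060 L694282 q18060, e3 q18061 L694293 q15947, e3 q18062 (flp_j L714366) q19985, e3 q18063 L694310 q18063, e3 q18064 L694316 q18064, e3 q18065 (flp_j L714326) q19981, e3 q18066 (flp_j L706156) q19052, e3 q18067 (flp_j L705326) q18973, e3 q18068 (flp_j L697077) q18261, e3 q18069 (flp_j L705294) q18971, e3 q18070 (flp_j L710286) q19454, e3 q18071 (flp_j L710316) q19457, e3 q18072 L694365 q15967, e3 q18073 (flp_j L697552) q18297, e3 q18074 (flp_j L697396) q18286, e3 q18075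 L694389 q15976, e3 q18076 (flp_j L714439) q19994, e3 q18077 (flp_j L705469) q18988, e3 q18078 L694417 q16558, e3 q18079 L694434 q15988, e3 q18080 L694447 q15989, e3 q18081 L694469 q16556, e3 q18082 L694488 q16670, e3 q18083 L694506 q15987, e3 q18084 L694523 q18000, e3 q18085 L694537 q17982, e3 q18086 L694554 q18086, e3 q18087 L694573 q15993, e3 q18088 (flp_j L714491) q20001, e3 q18089 L694602 q18089, e3 q18090 (flp_j L694609) q15996, e3 q18091 (flp_j L714511) q20002, e3 q18092 L694651 q17631, e3 q18093 L694668 q16000, e3 q18094 (flp_j L714539) q20004, e3 q18095 L694692 q16003, e3 q18096 L694706 q18007, e3 q18097 L694720 q18097, e3 q18098 L694736 q18098, e3 q18099 L694756 q18015, e3 q18100 L694774 q17284, e3 q18101 L694787 q17285, e3 q18102 L694805 q16015, e3 q18103 L694818 q16016, e3 q18104 L694827 q16017, e3 q18105 (flp_j L714590) q20007, e3 q18106 (flp_j L714604) q20008, e3 q18107 L694865 q18107, e3 q18108 L694881 q16063, e3 q18109 L694902 q16064, e3 q18110 L694914 q16587, e3 q18111 L694936 q17221, trivial⟩ (by decide +kernel)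

theorem ce_j_283 : ∀ r, r < 64 → sm gj (Qf (18112 + r)) = Qf (tab Gen.j (18112 + r)) :=
  edges_tab (sm gj) Qf (tab Gen.j) 18112 [(18112, 16075), (18113, 16076), (18114, 16077), (18115, 16078), (18116, 16601), (18117, 16084), (18118, 16103), (18119, 16112), (18120, 16548), (18121, 16118), (18122, 17215), (18123, 16127), (18124, 16128), (18125, 17220), (18126, 16142), (18127, 16630), (18128, 16144), (18129, 16145), (18130, 16658), (18131, 16151), (18132, 16152), (18133, 17671), (18134, 17989), (18135, 16800), (18136, 17683), (18137, 16494), (18138, 16520), (18139, 20010), (18140, 20011), (18141, 16067), (18142, 16068), (18143, 17241), (18144, 20032), (18145, 20033), (18146, 16072), (18147, 16073), (18148, 17238), (18149, 16769), (18150, 17280), (18151, 20039), (18152, 20040), (18153, 20041), (18154, 16472), (18155, 16507), (18156, 16508), (18157, 20014), (18158, 20015), (18159, 20016), (18160, 16081), (18161, 16082), (18162, 20055), (18163, 17987), (18164, 20017), (18165, 17242), (18166, 16561), (18167, 17279), (18168, 16473),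 (18169, 16439), (18170, 17283), (18171, 16428), (18172, 17668), (18173, 17988), (18174, 17669), (18175, 17535)]
    ⟨e3 q18112 L694948 q16075, e3 q18113 L694969 q16076, e3 q18114 L694983 q16077, e3 q18115 L694993 q16078, e3 q18116 L695010 q16601, e3 q18117 L695027 q16084, e3 q18118 L695046 q16103, e3 q18119 L695060 q16112, e3 q18120 L695081 q16548, e3 q18121 L695099 q16118, e3 q18122 L695120 q17215, e3 q18123 L695137 q16127, e3 q18124 L695149 q16128, e3 q18125 L695165 q17220, e3 q18126 L695181 q16142, e3 q18127 (flp_j L695203) q16630, e3 q18128 L695219 q16144, e3 q18129 L695233 q16145, e3 q18130 L695249 q16658, e3 q18131 L695267 q16151, e3 q18132 L695278 q16152, e3 q18133 L695291 q17671, e3 q18134 L695311 q17989, e3 q18135 L695325 q16800, e3 q18136 L695342 q17683, e3 q18137 L695352 q16494, e3 q18138 L695374 q16520, e3 q18139 (flp_j L714644) q20010, e3 q18140 (flp_j L714658) q20011, e3 q18141 L695421 q16067, e3 q18142 L695441 q16068, e3 q18143 L695453 q17241, e3 q18144 (flp_j L714998) q20032, e3 q18145 (flp_j L715018) q20033,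 e3 q18146 L695493 q16072, e3 q18147 L695511 q16073, e3 q18148 L695521 q17238, e3 q18149 L695535 q16769, e3 q18150 L695550 q17280, e3 q18151 (flp_j L715098) q20039, e3 q18152 (flp_j L715118) q20040, e3 q18153 (flp_j L715130) q20041, e3 q18154 L695592 q16472, e3 q18155 L695608 q16507, e3 q18156 L695625 q16508, e3 q18157 (flp_j L714715) q20014, e3 q18158 (flp_j L714729) q20015, e3 q18159 (flp_j L714745) q20016, e3 q18160 L695667 q16081, e3 q18161 L695685 q16082, e3 q18162 (flp_j L715329) q20055, e3 q18163 L695713 q17987, e3 q18164 (flp_j L714757) q20017, e3 q18165 L695741 q17242, e3 q18166 L695754 q16561, e3 q18167 L695771 q17279, e3 q18168 L695786 q16473, e3 q18169 L695799 q16439, e3 q18170 L695817 q17283, e3 q18171 L695831 q16428, e3 q18172 L695847 q17668, e3 q18173 L695866 q17988, e3 q18174 L695884 q17669, e3 q18175 L695902 q17535, trivial⟩ (by decide +kernel)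

theorem ce_j_284 : ∀ r, r < 64 → sm gj (Qf (18176 + r)) = Qf (tab Gen.j (18176 + r)) :=
  edges_tab (sm gj) Qf (tab Gen.j) 18176 [(18176, 20018), (18177, 17547), (18178, 17659), (18179, 17672), (18180, 17673), (18181, 16625), (18182, 17532), (18183, 17536), (18184, 16656), (18185, 17548), (18186, 16117), (18187, 17999), (18188, 16120), (18189, 16121), (18190, 20071), (18191, 20072), (18192, 16125), (18193, 17608), (18194, 17611), (18195, 20076), (18196, 20043), (18197, 17533), (18198, 20020), (18199, 16132), (18200, 16133), (18201, 17217), (18202, 17218), (18203, 17619), (18204, 20083), (18205, 20084), (18206, 16138), (18207, 17219), (18208, 20090), (18209, 17620), (18210, 17624), (18211, 17518), (18212, 20042), (18213, 17525), (18214, 17526), (18215, 16143), (18216, 20096), (18217, 20022), (18218, 20023), (18219, 16146), (18220, 20100), (18221, 17630), (18222, 17632), (18223, 16150), (18224, 18001), (18225, 20024), (18226, 20025), (18227, 16157), (18228, 20106), (18229, 20107), (18230, 16246), (18231, 16160), (18232, 16161),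 (18233, 20113), (18234, 20114), (18235, 20115), (18236, 16164), (18237, 16165), (18238, 16166), (18239, 20121)]
    ⟨e3 q18176 (flp_j L714776) q20018, e3 q18177 L695932 q17547, e3 q18178 L695943 q17659, e3 q18179 L695963 q17672, e3 q18180 L695975 q17673, e3 q18181 L695997 q16625, e3 q18182 L696013 q17532, e3 q18183 L696025 q17536, e3 q18184 L696043 q16656, e3 q18185 L696055 q17548, e3 q18186 L696078 q16117, e3 q18187 L696096 q17999, e3 q18188 L696111 q16120, e3 q18189 L696131 q16121, e3 q18190 (flp_j L715593) q20071, e3 q18191 (flp_j L715615) q20072, e3 q18192 L696177 q16125, e3 q18193 L696188 q17608, e3 q18194 L696205 q17611, e3 q18195 (flp_j L715675) q20076, e3 q18196 (flp_j L715164) q20043, e3 q18197 L696245 q17533, e3 q18198 (flp_j L714816) q20020, e3 q18199 L696267 q16132, e3 q18200 L696285 q16133, e3 q18201 L696297 q17217, e3 q18202 L696319 q17218, e3 q18203 L696331 q17619, e3 q18204 (flp_j L715779) q20083, e3 q18205 (flp_j L715791) q20084, e3 q18206 L696365 q16138, e3 q18207 L696379 q17219, e3 q18208 L715869 q20090,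 e3 q18209 L696409 q17620, e3 q18210 L696423 q17624, e3 q18211 L696439 q17518, e3 q18212 (flp_j L715146) q20042, e3 q18213 L696475 q17525, e3 q18214 L696489 q17526, e3 q18215 (flp_j L696495) q16143, e3 q18216 (flp_j L715967) q20096, e3 q18217 (flp_j L714850) q20022, e3 q18218 (flp_j L714862) q20023, e3 q18219 (flp_j L696531) q16146, e3 q18220 (flp_j L716015) q20100, e3 q18221 L696572 q17630, e3 q18222 L696583 q17632, e3 q18223 L696598 q16150, e3 q18224 L696614 q18001, e3 q18225 (flp_j L714876) q20024, e3 q18226 (flp_j L714891) q20025, e3 q18227 L696649 q16157, e3 q18228 (flp_j L716095) q20106, e3 q18229 (flp_j L716113) q20107, e3 q18230 L696688 q16246, e3 q18231 L696698 q16160, e3 q18232 L696711 q16161, e3 q18233 (flp_j L716191) q20113, e3 q18234 (flp_j L716204) q20114, e3 q18235 (flp_j L716218) q20115, e3 q18236 L696755 q16164, e3 q18237 L696773 q16165, e3 q18238 L696787 q16166, e3 q18239 (flp_j L716297) q20121, trivial⟩ (by decide +kernel)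

theorem ce_j_285 : ∀ r, r < 64 → sm gj (Qf (18240 + r)) = Qf (tab Gen.j (18240 + r)) :=
  edges_tab (sm gj) Qf (tab Gen.j) 18240 [(18240, 20122), (18241, 20123), (18242, 20124), (18243, 18243), (18244, 18244), (18245, 17276), (18246, 17277), (18247, 16173), (18248, 16174), (18249, 16175), (18250, 17787), (18251, 20132), (18252, 20133), (18253, 20134), (18254, 20135), (18255, 20136), (18256, 16180), (18257, 16181), (18258, 16182), (18259, 16183), (18260, 16184), (18261, 18068), (18262, 20145), (18263, 20146), (18264, 20147), (18265, 20149), (18266, 20150), (18267, 18267), (18268, 18268), (18269, 18269), (18270, 18270), (18271, 16998), (18272, 16192), (18273, 16193), (18274, 20162), (18275, 20163), (18276, 18276), (18277, 16200), (18278, 16202), (18279, 17191), (18280, 17947), (18281, 17430), (18282, 17483), (18283, 20167), (18284, 17484), (18285, 16206), (18286, 18074), (18287, 20175), (18288, 18288), (18289, 18289), (18290, 18290), (18291, 16215), (18292, 17141), (18293, 17948), (18294, 16842), (18295, 16668), (18296, 16219),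 (18297, 18073), (18298, 16553), (18299, 16224), (18300, 20180), (18301, 20181), (18302, 16226), (18303, 16227)]
    ⟨e3 q18240 (flp_j L716308) q20122, e3 q18241 (flp_j L716324) q20123, e3 q18242 (flp_j L716333) q20124, e3 q18243 L696852 q18243, e3 q18244 L696867 q18244, e3 q18245 L696879 q17276, e3 q18246 L696896 q17277, e3 q18247 L696908 q16173, e3 q18248 L696920 q16174, e3 q18249 L696932 q16175, e3 q18250 L696942 q17787, e3 q18251 (flp_j L716449) q20132, e3 q18252 (flp_j L716467) q20133, e3 q18253 (flp_j L716475) q20134, e3 q18254 (flp_j L716487) q20135, e3 q18255 (flp_j L716497) q20136, e3 q18256 L697011 q16180, e3 q18257 L697027 q16181, e3 q18258 L697037 q16182, e3 q18259 L697050 q16183, e3 q18260 L697059 q16184, e3 q18261 L697077 q18068, e3 q18262 (flp_j L716610) q20145, e3 q18263 (flp_j L716626) q20146, e3 q18264 (flp_j L716637) q20147, e3 q18265 (flp_j L716660) q20149, e3 q18266 (flp_j L716671) q20150, e3 q18267 L697147 q18267, e3 q18268 L697162 q18268, e3 q18269 L697171 q18269, e3 q18270 L697184 q18270, e3 q18271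 L697200 q16998, e3 q18272 L697211 q16192, e3 q18273 L697223 q16193, e3 q18274 (flp_j L716824) q20162, e3 q18275 (flp_j L716834) q20163, e3 q18276 L697257 q18276, e3 q18277 L697274 q16200, e3 q18278 L697288 q16202, e3 q18279 L697303 q17191, e3 q18280 L697319 q17947, e3 q18281 L697328 q17430, e3 q18282 L697343 q17483, e3 q18283 (flp_j L716887) q20167, e3 q18284 L697367 q17484, e3 q18285 L697382 q16206, e3 q18286 L697396 q18074, e3 q18287 (flp_j L716990) q20175, e3 q18288 L697421 q18288, e3 q18289 L697433 q18289, e3 q18290 L697447 q18290, e3 q18291 L697463 q16215, e3 q18292 L697481 q17141, e3 q18293 L697493 q17948, e3 q18294 L697506 q16842, e3 q18295 L697518 q16668, e3 q18296 L697535 q16219, e3 q18297 L697552 q18073, e3 q18298 L697570 q16553, e3 q18299 L697592 q16224, e3 q18300 (flp_j L717067) q20180, e3 q18301 (flp_j L717087) q20181, e3 q18302 L697631 q16226, e3 q18303 L697649 q16227, trivial⟩ (by decide +kernel)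

theorem ce_j_286 : ∀ r, r < 64 → sm gj (Qf (18304 + r)) = Qf (tab Gen.j (18304 + r)) :=
  edges_tab (sm gj) Qf (tab Gen.j) 18304 [(18304, 20184), (18305, 18305), (18306, 16603), (18307, 16231), (18308, 16232), (18309, 20188), (18310, 20189), (18311, 20190), (18312, 16235), (18313, 16237), (18314, 20196), (18315, 17695), (18316, 17994), (18317, 20197), (18318, 18318), (18319, 18319), (18320, 17696), (18321, 17995), (18322, 18322), (18323, 20111), (18324, 20112), (18325, 16248), (18326, 16249), (18327, 18034), (18328, 20207), (18329, 20208), (18330, 16254), (18331, 18036), (18332, 17698), (18333, 17996), (18334, 20214), (18335, 18335), (18336, 18336), (18337, 17348), (18338, 17349), (18339, 16262), (18340, 16263), (18341, 17892), (18342, 18035), (18343, 17658), (18344, 20222), (18345, 20223), (18346, 16268), (18347, 18037), (18348, 20230), (18349, 17699), (18350, 17997), (18351, 18351), (18352, 16270), (18353, 20234), (18354, 18354), (18355, 18355), (18356, 16273), (18357, 20237), (18358, 17700), (18359, 17998), (18360, 16277),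 (18361, 20240), (18362, 18362), (18363, 16281), (18364, 18039), (18365, 18040), (18366, 16288), (18367, 16289)]
    ⟨e3 q18304 (flp_j L717134) q20184, e3 q18305 L697679 q18305, e3 q18306 L697696 q16603, e3 q18307 L697706 q16231, e3 q18308 L697719 q16232, e3 q18309 (flp_j L717187) q20188, e3 q18310 (flp_j L717200) q20189, e3 q18311 (flp_j L717216) q20190, e3 q18312 L697763 q16235, e3 q18313 L697781 q16237, e3 q18314 (flp_j L717297) q20196, e3 q18315 L697806 q17695, e3 q18316 L697826 q17994, e3 q18317 (flp_j L717308) q20197, e3 q18318 L697850 q18318, e3 q18319 L697865 q18319, e3 q18320 L697882 q17696, e3 q18321 L697896 q17995, e3 q18322 L697907 q18322, e3 q18323 (flp_j L716161) q20111, e3 q18324 (flp_j L716179) q20112, e3 q18325 L697946 q16248, e3 q18326 L697959 q16249, e3 q18327 L697971 q18034, e3 q18328 (flp_j L717456) q20207, e3 q18329 (flp_j L717472) q20208, e3 q18330 L698007 q16254, e3 q18331 L698022 q18036, e3 q18332 L698033 q17698, e3 q18333 L698052 q17996, e3 q18334 (flp_j L717550) q20214, e3 q18335 L698076 q18335,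 e3 q18336 L698091 q18336, e3 q18337 L698101 q17348, e3 q18338 L698116 q17349, e3 q18339 L698126 q16262, e3 q18340 L698142 q16263, e3 q18341 L698154 q17892, e3 q18342 L698174 q18035, e3 q18343 L698184 q17658, e3 q18344 (flp_j L717672) q20222, e3 q18345 (flp_j L717682) q20223, e3 q18346 L698215 q16268, e3 q18347 L698231 q18037, e3 q18348 L717772 q20230, e3 q18349 L698257 q17699, e3 q18350 L698269 q17997, e3 q18351 L698279 q18351, e3 q18352 (flp_j L698286) q16270, e3 q18353 (flp_j L717839) q20234, e3 q18354 L698327 q18354, e3 q18355 L698334 q18355, e3 q18356 (flp_j L698341) q16273, e3 q18357 (flp_j L717886) q20237, e3 q18358 L698380 q17700, e3 q18359 L698389 q17998, e3 q18360 L698407 q16277, e3 q18361 (flp_j L717925) q20240, e3 q18362 L698430 q18362, e3 q18363 L698445 q16281, e3 q18364 L698464 q18039, e3 q18365 L698475 q18040, e3 q18366 L698489 q16288, e3 q18367 L698503 q16289, trivial⟩ (by decide +kernel)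

theorem ce_j_287 : ∀ r, r < 64 → sm gj (Qf (18368 + r)) = Qf (tab Gen.j (18368 + r)) :=
  edges_tab (sm gj) Qf (tab Gen.j) 18368 [(18368, 20243), (18369, 20244), (18370, 20245), (18371, 17401), (18372, 17402), (18373, 16293), (18374, 16294), (18375, 16295), (18376, 20254), (18377, 20255), (18378, 20256), (18379, 20257), (18380, 20258), (18381, 20259), (18382, 16299), (18383, 16301), (18384, 16302), (18385, 16303), (18386, 16304), (18387, 20269), (18388, 17822), (18389, 18024), (18390, 20270), (18391, 20278), (18392, 20272), (18393, 20273), (18394, 18394), (18395, 18395), (18396, 18396), (18397, 16308), (18398, 20284), (18399, 18399), (18400, 18400), (18401, 17431), (18402, 17432), (18403, 16316), (18404, 16317), (18405, 16318), (18406, 16319), (18407, 16320), (18408, 16321), (18409, 20291), (18410, 20292), (18411, 20293), (18412, 17301), (18413, 17806), (18414, 20294), (18415, 20295), (18416, 20311), (18417, 20297), (18418, 20298), (18419, 16327), (18420, 16329), (18421, 16332), (18422, 20318), (18423, 16334), (18424, 16335),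 (18425, 20315), (18426, 17820), (18427, 18023), (18428, 20316), (18429, 20326), (18430, 17823), (18431, 18025)]
    ⟨e3 q18368 (flp_j L717963) q20243, e3 q18369 (flp_j L717974) q20244, e3 q18370 (flp_j L717989) q20245, e3 q18371 L698541 q17401, e3 q18372 L698555 q17402, e3 q18373 L698563 q16293, e3 q18374 L698572 q16294, e3 q18375 L698584 q16295, e3 q18376 (flp_j L718079) q20254, e3 q18377 (flp_j L718093) q20255, e3 q18378 (flp_j L718108) q20256, e3 q18379 (flp_j L718118) q20257, e3 q18380 (flp_j L718130) q20258, e3 q18381 (flp_j L718138) q20259, e3 q18382 L698648 q16299, e3 q18383 L698666 q16301, e3 q18384 L698677 q16302, e3 q18385 L698693 q16303, e3 q18386 L698700 q16304, e3 q18387 (flp_j L718254) q20269, e3 q18388 L698727 q17822, e3 q18389 L698747 q18024, e3 q18390 (flp_j L718265) q20270, e3 q18391 L718366 q20278, e3 q18392 (flp_j L718294) q20272, e3 q18393 (flp_j L718307) q20273, e3 q18394 L698799 q18394, e3 q18395 L698814 q18395, e3 q18396 L698823 q18396, e3 q18397 (flp_j L698827) q16308, e3 q18398 (flp_j L718453) q20284,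 e3 q18399 L698866 q18399, e3 q18400 L698873 q18400, e3 q18401 L698883 q17431, e3 q18402 L698894 q17432, e3 q18403 L698902 q16316, e3 q18404 L698912 q16317, e3 q18405 L698928 q16318, e3 q18406 L698940 q16319, e3 q18407 L698950 q16320, e3 q18408 L698958 q16321, e3 q18409 (flp_j L718535) q20291, e3 q18410 (flp_j L718547) q20292, e3 q18411 (flp_j L718563) q20293, e3 q18412 L699000 q17301, e3 q18413 L699016 q17806, e3 q18414 (flp_j L718577) q20294, e3 q18415 (flp_j L718587) q20295, e3 q18416 L718781 q20311, e3 q18417 (flp_j L718615) q20297, e3 q18418 (flp_j L718623) q20298, e3 q18419 L699069 q16327, e3 q18420 L699086 q16329, e3 q18421 L699097 q16332, e3 q18422 L718848 q20318, e3 q18423 L699122 q16334, e3 q18424 L699135 q16335, e3 q18425 (flp_j L718826) q20315, e3 q18426 L699161 q17820, e3 q18427 L699181 q18023, e3 q18428 (flp_j L718837) q20316, e3 q18429 L718955 q20326, e3 q18430 L699215 q17823, e3 q18431 L699227 q18025, trivial⟩ (by decide +kernel)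

theorem ce_j_288 : ∀ r, r < 64 → sm gj (Qf (18432 + r)) = Qf (tab Gen.j (18432 + r)) :=
  edges_tab (sm gj) Qf (tab Gen.j) 18432 [(18432, 20317), (18433, 16333), (18434, 20330), (18435, 20320), (18436, 20321), (18437, 18437), (18438, 18438), (18439, 18439), (18440, 16339), (18441, 20336), (18442, 18442), (18443, 18443), (18444, 16344), (18445, 20339), (18446, 18446), (18447, 18447), (18448, 16347), (18449, 20342), (18450, 16352), (18451, 16353), (18452, 16351), (18453, 20346), (18454, 20344), (18455, 20345), (18456, 16355), (18457, 20351), (18458, 18458), (18459, 18459), (18460, 16362), (18461, 16364), (18462, 16367), (18463, 17314), (18464, 20353), (18465, 17300), (18466, 17315), (18467, 20354), (18468, 17195), (18469, 17302), (18470, 17316), (18471, 20355), (18472, 16372), (18473, 16373), (18474, 16374), (18475, 20367), (18476, 20368), (18477, 20369), (18478, 18478), (18479, 18479), (18480, 16382), (18481, 16384), (18482, 16386), (18483, 17326), (18484, 20373), (18485, 17327), (18486, 20374), (18487, 16390), (18488, 16391),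 (18489, 16392), (18490, 16535), (18491, 16537), (18492, 16542), (18493, 16544), (18494, 16549), (18495, 16559)]
    ⟨e3 q18432 (flp_j L718844) q20317, e3 q18433 (flp_j L699237) q16333, e3 q18434 (flp_j L719015) q20330, e3 q18435 (flp_j L718886) q20320, e3 q18436 (flp_j L718895) q20321, e3 q18437 L699281 q18437, e3 q18438 L699296 q18438, e3 q18439 L699307 q18439, e3 q18440 (flp_j L699310) q16339, e3 q18441 (flp_j L719090) q20336, e3 q18442 L699351 q18442, e3 q18443 L699360 q18443, e3 q18444 L699374 q16344, e3 q18445 (flp_j L719130) q20339, e3 q18446 L699390 q18446, e3 q18447 L699397 q18447, e3 q18448 (flp_j L699402) q16347, e3 q18449 (flp_j L719168) q20342, e3 q18450 L699441 q16352, e3 q18451 L699451 q16353, e3 q18452 L699460 q16351, e3 q18453 (flp_j L719213) q20346, e3 q18454 (flp_j L719192) q20344, e3 q18455 (flp_j L719200) q20345, e3 q18456 L699494 q16355, e3 q18457 (flp_j L719255) q20351, e3 q18458 L699512 q18458, e3 q18459 L699524 q18459, e3 q18460 L699540 q16362, e3 q18461 L699555 q16364, e3 q18462 L699567 q16367, e3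 q18463 L699580 q17314, e3 q18464 (flp_j L719287) q20353, e3 q18465 L699605 q17300, e3 q18466 L699621 q17315, e3 q18467 (flp_j L719299) q20354, e3 q18468 L699644 q17195, e3 q18469 L699659 q17302, e3 q18470 L699673 q17316, e3 q18471 (flp_j L719308) q20355, e3 q18472 L699694 q16372, e3 q18473 L699705 q16373, e3 q18474 L699713 q16374, e3 q18475 (flp_j L719463) q20367, e3 q18476 (flp_j L719471) q20368, e3 q18477 (flp_j L719479) q20369, e3 q18478 L699753 q18478, e3 q18479 L699767 q18479, e3 q18480 L699784 q16382, e3 q18481 L699794 q16384, e3 q18482 L699804 q16386, e3 q18483 L699826 q17326, e3 q18484 (flp_j L719528) q20373, e3 q18485 L699848 q17327, e3 q18486 (flp_j L719539) q20374, e3 q18487 L699872 q16390, e3 q18488 L699880 q16391, e3 q18489 L699891 q16392, e3 q18490 L699914 q16535, e3 q18491 L699930 q16537, e3 q18492 L699947 q16542, e3 q18493 L699960 q16544, e3 q18494 L699980 q16549, e3 q18495 L699998 q16559, trivial⟩ (by decide +kernel)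

theorem ce_j_289 : ∀ r, r < 64 → sm gj (Qf (18496 + r)) = Qf (tab Gen.j (18496 + r)) :=
  edges_tab (sm gj) Qf (tab Gen.j) 18496 [(18496, 16406), (18497, 16631), (18498, 17991), (18499, 16568), (18500, 16613), (18501, 17990), (18502, 16575), (18503, 16576), (18504, 16577), (18505, 16416), (18506, 16633), (18507, 20060), (18508, 16419), (18509, 16634), (18510, 16588), (18511, 16589), (18512, 16590), (18513, 16594), (18514, 16602), (18515, 17680), (18516, 16612), (18517, 16614), (18518, 16615), (18519, 16616), (18520, 16617), (18521, 17643), (18522, 16442), (18523, 20394), (18524, 16632), (18525, 16635), (18526, 16637), (18527, 16638), (18528, 16644), (18529, 16645), (18530, 16659), (18531, 16660), (18532, 16672), (18533, 16678), (18534, 17678), (18535, 16686), (18536, 16687), (18537, 16688), (18538, 16466), (18539, 16467), (18540, 16720), (18541, 20407), (18542, 16699), (18543, 16700), (18544, 16701), (18545, 16702), (18546, 16703), (18547, 20050), (18548, 16478), (18549, 17595), (18550, 16719), (18551, 17625), (18552, 20415),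 (18553, 16721), (18554, 16722), (18555, 16723), (18556, 16724), (18557, 16745), (18558, 17633), (18559, 16730)]
    ⟨e3 q18496 L700016 q16406, e3 q18497 L700032 q16631, e3 q18498 L700053 q17991, e3 q18499 L700071 q16568, e3 q18500 L700083 q16613, e3 q18501 L700103 q17990, e3 q18502 L700115 q16575, e3 q18503 L700134 q16576, e3 q18504 L700151 q16577, e3 q18505 L700166 q16416, e3 q18506 L700180 q16633, e3 q18507 (flp_j L715404) q20060, e3 q18508 L700217 q16419, e3 q18509 L700233 q16634, e3 q18510 L700249 q16588, e3 q18511 L700267 q16589, e3 q18512 L700275 q16590, e3 q18513 L700293 q16594, e3 q18514 L700310 q16602, e3 q18515 L700323 q17680, e3 q18516 L700334 q16612, e3 q18517 L700349 q16614, e3 q18518 L700360 q16615, e3 q18519 L700373 q16616, e3 q18520 L700379 q16617, e3 q18521 L700399 q17643, e3 q18522 L700417 q16442, e3 q18523 (flp_j L719858) q20394, e3 q18524 L700437 q16632, e3 q18525 L700445 q16635, e3 q18526 L700461 q16637, e3 q18527 L700467 q16638, e3 q18528 L700483 q16644, e3 q18529 L700488 q16645, e3 q18530 L700507 q16659,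 e3 q18531 L700514 q16660, e3 q18532 L700532 q16672, e3 q18533 L700549 q16678, e3 q18534 L700563 q17678, e3 q18535 L700574 q16686, e3 q18536 L700591 q16687, e3 q18537 L700599 q16688, e3 q18538 L700611 q16466, e3 q18539 L700629 q16467, e3 q18540 L700643 q16720, e3 q18541 (flp_j L720047) q20407, e3 q18542 L700665 q16699, e3 q18543 L700685 q16700, e3 q18544 L700702 q16701, e3 q18545 L700711 q16702, e3 q18546 L700719 q16703, e3 q18547 (flp_j L715259) q20050, e3 q18548 L700747 q16478, e3 q18549 L700759 q17595, e3 q18550 L700771 q16719, e3 q18551 L700791 q17625, e3 q18552 (flp_j L720151) q20415, e3 q18553 L700807 q16721, e3 q18554 L700818 q16722, e3 q18555 L700828 q16723, e3 q18556 L700836 q16724, e3 q18557 L700850 q16745, e3 q18558 L700863 q17633, e3 q18559 L700870 q16730, trivial⟩ (by decide +kernel)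

theorem ce_j_290 : ∀ r, r < 64 → sm gj (Qf (18560 + r)) = Qf (tab Gen.j (18560 + r)) :=
  edges_tab (sm gj) Qf (tab Gen.j) 18560 [(18560, 17571), (18561, 17605), (18562, 16746), (18563, 16747), (18564, 17992), (18565, 16500), (18566, 17579), (18567, 17613), (18568, 20428), (18569, 16766), (18570, 16767), (18571, 16768), (18572, 16770), (18573, 16771), (18574, 20051), (18575, 20052), (18576, 16513), (18577, 17596), (18578, 17597), (18579, 17626), (18580, 16797), (18581, 16798), (18582, 16799), (18583, 16801), (18584, 16802), (18585, 16803), (18586, 17993), (18587, 16806), (18588, 16807), (18589, 17634), (18590, 16816), (18591, 16817), (18592, 17606), (18593, 16833), (18594, 16834), (18595, 16835), (18596, 16547), (18597, 16540), (18598, 16598), (18599, 16600), (18600, 17552), (18601, 16845), (18602, 16593), (18603, 17721), (18604, 20059), (18605, 16564), (18606, 20452), (18607, 20453), (18608, 16566), (18609, 16567), (18610, 20456), (18611, 20377), (18612, 16571), (18613, 20458), (18614, 20459), (18615, 16573), (18616, 16574),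 (18617, 16610), (18618, 16609), (18619, 20463), (18620, 20379), (18621, 20380), (18622, 20381), (18623, 16674)]
    ⟨e3 q18560 L700885 q17571, e3 q18561 L700902 q17605, e3 q18562 L700915 q16746, e3 q18563 L700924 q16747, e3 q18564 L700937 q17992, e3 q18565 L700953 q16500, e3 q18566 L700964 q17579, e3 q18567 L700975 q17613, e3 q18568 (flp_j L720309) q20428, e3 q18569 L700998 q16766, e3 q18570 L701010 q16767, e3 q18571 L701018 q16768, e3 q18572 L701031 q16770, e3 q18573 L701037 q16771, e3 q18574 (flp_j L715274) q20051, e3 q18575 (flp_j L715284) q20052, e3 q18576 L701064 q16513, e3 q18577 L701077 q17596, e3 q18578 L701087 q17597, e3 q18579 L701097 q17626, e3 q18580 L701113 q16797, e3 q18581 L701128 q16798, e3 q18582 L701140 q16799, e3 q18583 L701151 q16801, e3 q18584 L701159 q16802, e3 q18585 L701165 q16803, e3 q18586 L701177 q17993, e3 q18587 L701185 q16806, e3 q18588 L701189 q16807, e3 q18589 L701199 q17634, e3 q18590 L701208 q16816, e3 q18591 L701215 q16817, e3 q18592 L701225 q17606, e3 q18593 L701239 q16833, e3 q18594 L701250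 q16834, e3 q18595 L701257 q16835, e3 q18596 L701275 q16547, e3 q18597 L701292 q16540, e3 q18598 L701311 q16598, e3 q18599 L701324 q16600, e3 q18600 L701342 q17552, e3 q18601 L701360 q16845, e3 q18602 L701378 q16593, e3 q18603 L701395 q17721, e3 q18604 (flp_j L715387) q20059, e3 q18605 L701428 q16564, e3 q18606 (flp_j L720582) q20452, e3 q18607 (flp_j L720599) q20453, e3 q18608 L701465 q16566, e3 q18609 L701480 q16567, e3 q18610 (flp_j L720643) q20456, e3 q18611 (flp_j L719592) q20377, e3 q18612 L701517 q16571, e3 q18613 (flp_j L720665) q20458, e3 q18614 (flp_j L720684) q20459, e3 q18615 L701552 q16573, e3 q18616 L701568 q16574, e3 q18617 L701578 q16610, e3 q18618 L701597 q16609, e3 q18619 (flp_j L720739) q20463, e3 q18620 (flp_j L719631) q20379, e3 q18621 (flp_j L719648) q20380, e3 q18622 (flp_j L719658) q20381, e3 q18623 L701660 q16674, trivial⟩ (by decide +kernel)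

theorem ce_j_291 : ∀ r, r < 64 → sm gj (Qf (18624 + r)) = Qf (tab Gen.j (18624 + r)) :=
  edges_tab (sm gj) Qf (tab Gen.j) 18624 [(18624, 16580), (18625, 16581), (18626, 16627), (18627, 20472), (18628, 20473), (18629, 16586), (18630, 16628), (18631, 16621), (18632, 16626), (18633, 20479), (18634, 20012), (18635, 20384), (18636, 20385), (18637, 16652), (18638, 16657), (18639, 20386), (18640, 17281), (18641, 16641), (18642, 20451), (18643, 16642), (18644, 20387), (18645, 20186), (18646, 20187), (18647, 16605), (18648, 16606), (18649, 20465), (18650, 20493), (18651, 20494), (18652, 16611), (18653, 17265), (18654, 20466), (18655, 20460), (18656, 20464), (18657, 20501), (18658, 20389), (18659, 20378), (18660, 20390), (18661, 16684), (18662, 20391), (18663, 20392), (18664, 17246), (18665, 17275), (18666, 16622), (18667, 16623), (18668, 17647), (18669, 20476), (18670, 20481), (18671, 20474), (18672, 20515), (18673, 20516), (18674, 16629), (18675, 20068), (18676, 20482), (18677, 17655), (18678, 20475), (18679, 20480), (18680, 20021),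 (18681, 20376), (18682, 20395), (18683, 16676), (18684, 20382), (18685, 20383), (18686, 20396), (18687, 17667)]
    ⟨e3 q18624 L701668 q16580, e3 q18625 L701682 q16581, e3 q18626 L701694 q16627, e3 q18627 (flp_j L720864) q20472, e3 q18628 (flp_j L720880) q20473, e3 q18629 L701728 q16586, e3 q18630 L701742 q16628, e3 q18631 L701754 q16621, e3 q18632 L701770 q16626, e3 q18633 (flp_j L720956) q20479, e3 q18634 (flp_j L714680) q20012, e3 q18635 (flp_j L719708) q20384, e3 q18636 (flp_j L719724) q20385, e3 q18637 L701822 q16652, e3 q18638 L701836 q16657, e3 q18639 (flp_j L719736) q20386, e3 q18640 L701863 q17281, e3 q18641 L701879 q16641, e3 q18642 (flp_j L720567) q20451, e3 q18643 L701907 q16642, e3 q18644 (flp_j L719753) q20387, e3 q18645 (flp_j L717161) q20186, e3 q18646 (flp_j L717177) q20187, e3 q18647 L701956 q16605, e3 q18648 L701969 q16606, e3 q18649 (flp_j L720765) q20465, e3 q18650 (flp_j L721145) q20493, e3 q18651 (flp_j L721159) q20494, e3 q18652 L702004 q16611, e3 q18653 L702011 q17265, e3 q18654 (flp_j L720784) q20466,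 e3 q18655 (flp_j L720696) q20460, e3 q18656 (flp_j L720754) q20464, e3 q18657 (flp_j L721219) q20501, e3 q18658 (flp_j L719789) q20389, e3 q18659 (flp_j L719614) q20378, e3 q18660 (flp_j L719797) q20390, e3 q18661 L702086 q16684, e3 q18662 (flp_j L719816) q20391, e3 q18663 (flp_j L719822) q20392, e3 q18664 L702115 q17246, e3 q18665 L702133 q17275, e3 q18666 L702139 q16622, e3 q18667 L702149 q16623, e3 q18668 L702159 q17647, e3 q18669 (flp_j L720920) q20476, e3 q18670 (flp_j L720986) q20481, e3 q18671 (flp_j L720890) q20474, e3 q18672 (flp_j L721375) q20515, e3 q18673 (flp_j L721381) q20516, e3 q18674 L702203 q16629, e3 q18675 (flp_j L715545) q20068, e3 q18676 (flp_j L720998) q20482, e3 q18677 (flp_j L702231) q17655, e3 q18678 (flp_j L720908) q20475, e3 q18679 (flp_j L720970) q20480, e3 q18680 (flp_j L714836) q20021, e3 q18681 (flp_j L719578) q20376, e3 q18682 (flp_j L719874) q20395, e3 q18683 L702287 q16676, e3 q18684 (flp_j L719680) q20382, e3 q18685 (flp_j L719692) q20383, e3 q18686 (flp_j L719880) q20396, e3 q18687 L702325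 q17667, trivial⟩ (by decide +kernel)

theorem ce_j_292 : ∀ r, r < 64 → sm gj (Qf (18688 + r)) = Qf (tab Gen.j (18688 + r)) :=
  edges_tab (sm gj) Qf (tab Gen.j) 18688 [(18688, 20397), (18689, 20398), (18690, 17694), (18691, 20488), (18692, 20489), (18693, 17704), (18694, 20399), (18695, 20400), (18696, 16653), (18697, 16654), (18698, 17690), (18699, 16870), (18700, 16876), (18701, 20486), (18702, 20179), (18703, 17720), (18704, 20487), (18705, 20401), (18706, 20402), (18707, 17628), (18708, 17152), (18709, 17691), (18710, 17719), (18711, 20470), (18712, 20471), (18713, 16677), (18714, 20533), (18715, 20403), (18716, 16680), (18717, 16681), (18718, 20504), (18719, 20553), (18720, 20554), (18721, 16685), (18722, 16697), (18723, 20510), (18724, 20560), (18725, 20405), (18726, 20406), (18727, 16690), (18728, 20565), (18729, 20566), (18730, 16692), (18731, 16693), (18732, 20570), (18733, 20571), (18734, 20572), (18735, 16696), (18736, 16698), (18737, 16714), (18738, 16713), (18739, 20579), (18740, 20555), (18741, 20561), (18742,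 20580), (18743, 20410), (18744, 20411), (18745, 20412), (18746, 20413), (18747, 17615), (18748, 17616), (18749, 16707), (18750, 16708), (18751, 16709)]
    ⟨e3 q18688 (flp_j L719898) q20397, e3 q18689 (flp_j L719902) q20398, e3 q18690 L702355 q17694, e3 q18691 (flp_j L721088) q20488, e3 q18692 (flp_j L721099) q20489, e3 q18693 L702383 q17704, e3 q18694 (flp_j L719918) q20399, e3 q18695 (flp_j L719935) q20400, e3 q18696 L702426 q16653, e3 q18697 L702436 q16654, e3 q18698 L702451 q17690, e3 q18699 L702461 q16870, e3 q18700 L702479 q16876, e3 q18701 (flp_j L721056) q20486, e3 q18702 (flp_j L717048) q20179, e3 q18703 L702517 q17720, e3 q18704 (flp_j L721067) q20487, e3 q18705 (flp_j L719952) q20401, e3 q18706 (flp_j L719969) q20402, e3 q18707 L702560 q17628, e3 q18708 L702574 q17152, e3 q18709 L702584 q17691, e3 q18710 L702600 q17719, e3 q18711 (flp_j L720834) q20470, e3 q18712 (flp_j L720854) q20471, e3 q18713 L702644 q16677, e3 q18714 (flp_j L721557) q20533, e3 q18715 (flp_j L719984) q20403, e3 q18716 L702678 q16680, e3 q18717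 L702691 q16681, e3 q18718 (flp_j L721257) q20504, e3 q18719 (flp_j L721818) q20553, e3 q18720 (flp_j L721834) q20554, e3 q18721 L702734 q16685, e3 q18722 L702743 q16697, e3 q18723 (flp_j L721316) q20510, e3 q18724 (flp_j L721900) q20560, e3 q18725 (flp_j L720017) q20405, e3 q18726 (flp_j L720027) q20406, e3 q18727 L702799 q16690, e3 q18728 (flp_j L721957) q20565, e3 q18729 (flp_j L721975) q20566, e3 q18730 L702832 q16692, e3 q18731 L702843 q16693, e3 q18732 (flp_j L722022) q20570, e3 q18733 (flp_j L722033) q20571, e3 q18734 (flp_j L722045) q20572, e3 q18735 L702882 q16696, e3 q18736 L702895 q16698, e3 q18737 L702902 q16714, e3 q18738 L702922 q16713, e3 q18739 (flp_j L722122) q20579, e3 q18740 (flp_j L721843) q20555, e3 q18741 (flp_j L721915) q20561, e3 q18742 (flp_j L722128) q20580, e3 q18743 (flp_j L720089) q20410, e3 q18744 (flp_j L720107) q20411, e3 q18745 (flp_j L720117) q20412, e3 q18746 (flp_j L720127) q20413, e3 q18747 L703012 q17615, e3 q18748 L703024 q17616, e3 q18749 L703032 q16707, e3 q18750 L703040 q16708, e3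 q18751 L703052 q16709, trivial⟩ (by decide +kernel)

theorem ce_j_293 : ∀ r, r < 64 → sm gj (Qf (18752 + r)) = Qf (tab Gen.j (18752 + r)) :=
  edges_tab (sm gj) Qf (tab Gen.j) 18752 [(18752, 20582), (18753, 20593), (18754, 20594), (18755, 20595), (18756, 20596), (18757, 20597), (18758, 16715), (18759, 16716), (18760, 16717), (18761, 16718), (18762, 16761), (18763, 20583), (18764, 20573), (18765, 20581), (18766, 20606), (18767, 20607), (18768, 20608), (18769, 20417), (18770, 20408), (18771, 20419), (18772, 20420), (18773, 20421), (18774, 20422), (18775, 17566), (18776, 16728), (18777, 16729), (18778, 20623), (18779, 20548), (18780, 20424), (18781, 16735), (18782, 16736), (18783, 16737), (18784, 16738), (18785, 20626), (18786, 20627), (18787, 20628), (18788, 16743), (18789, 16744), (18790, 17569), (18791, 18003), (18792, 20541), (18793, 20423), (18794, 20425), (18795, 20426), (18796, 16749), (18797, 16750), (18798, 20636), (18799, 20637), (18800, 20638), (18801, 17260), (18802, 17272), (18803, 16754), (18804, 16755), (18805,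 16756), (18806, 17574), (18807, 20647), (18808, 20648), (18809, 20649), (18810, 20650), (18811, 20651), (18812, 16762), (18813, 16763), (18814, 16764), (18815, 16765)]
    ⟨e3 q18752 (flp_j L722157) q20582, e3 q18753 (flp_j L722278) q20593, e3 q18754 (flp_j L722290) q20594, e3 q18755 (flp_j L722300) q20595, e3 q18756 (flp_j L722312) q20596, e3 q18757 (flp_j L722320) q20597, e3 q18758 L703118 q16715, e3 q18759 L703128 q16716, e3 q18760 L703142 q16717, e3 q18761 L703148 q16718, e3 q18762 L703160 q16761, e3 q18763 (flp_j L722177) q20583, e3 q18764 (flp_j L722054) q20573, e3 q18765 (flp_j L722145) q20581, e3 q18766 (flp_j L722410) q20606, e3 q18767 (flp_j L722422) q20607, e3 q18768 (flp_j L722434) q20608, e3 q18769 (flp_j L720181) q20417, e3 q18770 (flp_j L720064) q20408, e3 q18771 (flp_j L720201) q20419, e3 q18772 (flp_j L720211) q20420, e3 q18773 (flp_j L720219) q20421, e3 q18774 (flp_j L720227) q20422, e3 q18775 L703279 q17566, e3 q18776 L703292 q16728, e3 q18777 L703305 q16729, e3 q18778 (flp_j L722584) q20623, e3 q18779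 (flp_j L721751) q20548, e3 q18780 (flp_j L720254) q20424, e3 q18781 L703343 q16735, e3 q18782 L703357 q16736, e3 q18783 L703369 q16737, e3 q18784 L703378 q16738, e3 q18785 (flp_j L722621) q20626, e3 q18786 (flp_j L722637) q20627, e3 q18787 (flp_j L722648) q20628, e3 q18788 L703426 q16743, e3 q18789 L703441 q16744, e3 q18790 L703454 q17569, e3 q18791 L703464 q18003, e3 q18792 (flp_j L721651) q20541, e3 q18793 (flp_j L720243) q20423, e3 q18794 (flp_j L720268) q20425, e3 q18795 (flp_j L720279) q20426, e3 q18796 L703507 q16749, e3 q18797 L703521 q16750, e3 q18798 (flp_j L722741) q20636, e3 q18799 (flp_j L722752) q20637, e3 q18800 (flp_j L722767) q20638, e3 q18801 L703558 q17260, e3 q18802 L703573 q17272, e3 q18803 L703581 q16754, e3 q18804 L703590 q16755, e3 q18805 L703600 q16756, e3 q18806 L703609 q17574, e3 q18807 (flp_j L722855) q20647, e3 q18808 (flp_j L722868) q20648, e3 q18809 (flp_j L722874) q20649, e3 q18810 (flp_j L722884) q20650, e3 q18811 (flp_j L722890) q20651, e3 q18812 L703663 q16762, e3 q18813 L703670 q16763, e3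 q18814 L703683 q16764, e3 q18815 L703687 q16765, trivial⟩ (by decide +kernel)

theorem ce_j_294 : ∀ r, r < 64 → sm gj (Qf (18816 + r)) = Qf (tab Gen.j (18816 + r)) :=
  edges_tab (sm gj) Qf (tab Gen.j) 18816 [(18816, 17577), (18817, 20598), (18818, 20609), (18819, 20661), (18820, 20045), (18821, 20662), (18822, 20663), (18823, 20431), (18824, 20432), (18825, 20433), (18826, 20046), (18827, 20434), (18828, 20435), (18829, 17648), (18830, 17649), (18831, 16778), (18832, 16779), (18833, 16780), (18834, 16781), (18835, 16782), (18836, 17559), (18837, 17584), (18838, 17585), (18839, 20680), (18840, 20681), (18841, 20682), (18842, 20683), (18843, 20699), (18844, 20684), (18845, 20685), (18846, 16791), (18847, 16792), (18848, 16793), (18849, 16795), (18850, 16796), (18851, 17563), (18852, 17590), (18853, 17591), (18854, 17592), (18855, 20028), (18856, 20703), (18857, 20704), (18858, 20705), (18859, 16794), (18860, 20716), (18861, 20706), (18862, 20707), (18863, 20440), (18864, 20441), (18865, 20442), (18866, 20029), (18867, 20443),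 (18868, 20444), (18869, 20445), (18870, 16805), (18871, 20727), (18872, 20447), (18873, 20448), (18874, 16812), (18875, 16813), (18876, 16811), (18877, 18002), (18878, 20729), (18879, 20633)]
    ⟨e3 q18816 L703704 q17577, e3 q18817 (flp_j L722332) q20598, e3 q18818 (flp_j L722450) q20609, e3 q18819 (flp_j L722992) q20661, e3 q18820 (flp_j L715190) q20045, e3 q18821 (flp_j L723003) q20662, e3 q18822 (flp_j L723013) q20663, e3 q18823 (flp_j L720353) q20431, e3 q18824 (flp_j L720365) q20432, e3 q18825 (flp_j L720373) q20433, e3 q18826 (flp_j L715207) q20046, e3 q18827 (flp_j L720386) q20434, e3 q18828 (flp_j L720392) q20435, e3 q18829 L703811 q17648, e3 q18830 L703821 q17649, e3 q18831 L703829 q16778, e3 q18832 L703841 q16779, e3 q18833 L703849 q16780, e3 q18834 L703859 q16781, e3 q18835 L703865 q16782, e3 q18836 L703877 q17559, e3 q18837 L703889 q17584, e3 q18838 L703903 q17585, e3 q18839 (flp_j L723160) q20680, e3 q18840 (flp_j L723172) q20681, e3 q18841 (flp_j L723184) q20682, e3 q18842 (flp_j L723194) q20683, e3 q18843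 L723349 q20699, e3 q18844 (flp_j L723206) q20684, e3 q18845 (flp_j L723212) q20685, e3 q18846 L703964 q16791, e3 q18847 L703977 q16792, e3 q18848 L703987 q16793, e3 q18849 L703997 q16795, e3 q18850 L704007 q16796, e3 q18851 L704021 q17563, e3 q18852 L704032 q17590, e3 q18853 L704049 q17591, e3 q18854 L704059 q17592, e3 q18855 (flp_j L714937) q20028, e3 q18856 (flp_j L723388) q20703, e3 q18857 (flp_j L723400) q20704, e3 q18858 (flp_j L723408) q20705, e3 q18859 (flp_j L704089) q16794, e3 q18860 (flp_j L723517) q20716, e3 q18861 (flp_j L723418) q20706, e3 q18862 (flp_j L723426) q20707, e3 q18863 (flp_j L720447) q20440, e3 q18864 (flp_j L720463) q20441, e3 q18865 (flp_j L720475) q20442, e3 q18866 (flp_j L714956) q20029, e3 q18867 (flp_j L720489) q20443, e3 q18868 (flp_j L720493) q20444, e3 q18869 (flp_j L720498) q20445, e3 q18870 L704177 q16805, e3 q18871 (flp_j L723601) q20727, e3 q18872 (flp_j L720518) q20447, e3 q18873 (flp_j L720526) q20448, e3 q18874 L704204 q16812, e3 q18875 L704213 q16813, e3 q18876 L704223 q16811, e3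 q18877 L704236 q18002, e3 q18878 (flp_j L723621) q20729, e3 q18879 (flp_j L722706) q20633, trivial⟩ (by decide +kernel)

theorem ce_j_295 : ∀ r, r < 64 → sm gj (Qf (18880 + r)) = Qf (tab Gen.j (18880 + r)) :=
  edges_tab (sm gj) Qf (tab Gen.j) 18880 [(18880, 17706), (18881, 20449), (18882, 20450), (18883, 16825), (18884, 16826), (18885, 16827), (18886, 16828), (18887, 16922), (18888, 17567), (18889, 17600), (18890, 17601), (18891, 17602), (18892, 20735), (18893, 20736), (18894, 20737), (18895, 20738), (18896, 20178), (18897, 16832), (18898, 17570), (18899, 17604), (18900, 20625), (18901, 17157), (18902, 17568), (18903, 17603), (18904, 17714), (18905, 17946), (18906, 18005), (18907, 18006), (18908, 16855), (18909, 16856), (18910, 20359), (18911, 20754), (18912, 20755), (18913, 16859), (18914, 16860), (18915, 20760), (18916, 20761), (18917, 18917), (18918, 17722), (18919, 17723), (18920, 16866), (18921, 16867), (18922, 20519), (18923, 20766), (18924, 20767), (18925, 16871), (18926, 16872), (18927, 20544), (18928, 20770), (18929,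 18929), (18930, 16877), (18931, 20545), (18932, 20773), (18933, 16881), (18934, 16882), (18935, 20739), (18936, 20775), (18937, 20776), (18938, 17731), (18939, 17732), (18940, 16886), (18941, 16887), (18942, 20784), (18943, 20785)]
    ⟨e3 q18880 L704254 q17706, e3 q18881 (flp_j L720538) q20449, e3 q18882 (flp_j L720551) q20450, e3 q18883 L704282 q16825, e3 q18884 L704295 q16826, e3 q18885 L704305 q16827, e3 q18886 L704315 q16828, e3 q18887 L704328 q16922, e3 q18888 L704342 q17567, e3 q18889 L704351 q17600, e3 q18890 L704366 q17601, e3 q18891 L704378 q17602, e3 q18892 (flp_j L723675) q20735, e3 q18893 (flp_j L723687) q20736, e3 q18894 (flp_j L723698) q20737, e3 q18895 (flp_j L723707) q20738, e3 q18896 (flp_j L717033) q20178, e3 q18897 L704435 q16832, e3 q18898 L704447 q17570, e3 q18899 L704456 q17604, e3 q18900 (flp_j L722602) q20625, e3 q18901 L704479 q17157, e3 q18902 L704490 q17568, e3 q18903 L704504 q17603, e3 q18904 L704524 q17714, e3 q18905 L704533 q17946, e3 q18906 L704549 q18005, e3 q18907 L704563 q18006, e3 q18908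 L704577 q16855, e3 q18909 L704590 q16856, e3 q18910 (flp_j L719368) q20359, e3 q18911 (flp_j L723886) q20754, e3 q18912 (flp_j L723900) q20755, e3 q18913 L704636 q16859, e3 q18914 L704652 q16860, e3 q18915 (flp_j L723967) q20760, e3 q18916 (flp_j L723976) q20761, e3 q18917 L704691 q18917, e3 q18918 L704701 q17722, e3 q18919 L704716 q17723, e3 q18920 L704726 q16866, e3 q18921 L704740 q16867, e3 q18922 (flp_j L721417) q20519, e3 q18923 (flp_j L724045) q20766, e3 q18924 (flp_j L724055) q20767, e3 q18925 L704787 q16871, e3 q18926 L704796 q16872, e3 q18927 (flp_j L721700) q20544, e3 q18928 (flp_j L724092) q20770, e3 q18929 L704828 q18929, e3 q18930 L704844 q16877, e3 q18931 (flp_j L721714) q20545, e3 q18932 (flp_j L724123) q20773, e3 q18933 L704868 q16881, e3 q18934 L704879 q16882, e3 q18935 (flp_j L723719) q20739, e3 q18936 (flp_j L724141) q20775, e3 q18937 (flp_j L724152) q20776, e3 q18938 L704916 q17731, e3 q18939 L704931 q17732, e3 q18940 L704941 q16886, e3 q18941 L704955 q16887, e3 q18942 (flp_j L724232) q20784, e3 q18943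 (flp_j L724246) q20785, trivial⟩ (by decide +kernel)

theorem ce_j_296 : ∀ r, r < 64 → sm gj (Qf (18944 + r)) = Qf (tab Gen.j (18944 + r)) :=
  edges_tab (sm gj) Qf (tab Gen.j) 18944 [(18944, 20786), (18945, 16890), (18946, 16891), (18947, 16892), (18948, 20789), (18949, 20790), (18950, 18950), (18951, 17742), (18952, 17743), (18953, 17744), (18954, 16900), (18955, 16901), (18956, 16902), (18957, 16903), (18958, 16904), (18959, 17788), (18960, 17789), (18961, 17735), (18962, 17729), (18963, 20798), (18964, 20799), (18965, 20807), (18966, 20800), (18967, 20801), (18968, 16912), (18969, 16914), (18970, 16915), (18971, 18069), (18972, 17730), (18973, 18067), (18974, 16913), (18975, 20814), (18976, 20811), (18977, 20812), (18978, 16919), (18979, 20818), (18980, 18980), (18981, 18981), (18982, 20740), (18983, 16927), (18984, 16928), (18985, 16926), (18986, 20822), (18987, 20821), (18988, 18077), (18989, 16930), (18990, 20826), (18991, 17776), (18992, 17740), (18993, 16942), (18994, 16943), (18995, 20828), (18996, 20829), (18997,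 16946), (18998, 20832), (18999, 17764), (19000, 17775), (19001, 16951), (19002, 16952), (19003, 16953), (19004, 20835), (19005, 20836), (19006, 20837), (19007, 20838)]
    ⟨e3 q18944 (flp_j L724256) q20786, e3 q18945 L704998 q16890, e3 q18946 L705012 q16891, e3 q18947 L705021 q16892, e3 q18948 (flp_j L724293) q20789, e3 q18949 (flp_j L724304) q20790, e3 q18950 L705052 q18950, e3 q18951 L705067 q17742, e3 q18952 L705079 q17743, e3 q18953 L705088 q17744, e3 q18954 L705098 q16900, e3 q18955 L705118 q16901, e3 q18956 L705124 q16902, e3 q18957 L705132 q16903, e3 q18958 L705138 q16904, e3 q18959 L705150 q17788, e3 q18960 L705170 q17789, e3 q18961 L705180 q17735, e3 q18962 L705198 q17729, e3 q18963 (flp_j L724402) q20798, e3 q18964 (flp_j L724414) q20799, e3 q18965 L724512 q20807, e3 q18966 (flp_j L724428) q20800, e3 q18967 (flp_j L724434) q20801, e3 q18968 L705259 q16912, e3 q18969 L705273 q16914, e3 q18970 L705282 q16915, e3 q18971 L705294 q18069, e3 q18972 L705312 q17730, e3 q18973 L705326 q18067, e3 q18974 (flp_j L705332) q16913,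 e3 q18975 (flp_j L724591) q20814, e3 q18976 (flp_j L724552) q20811, e3 q18977 (flp_j L724557) q20812, e3 q18978 L705375 q16919, e3 q18979 (flp_j L724630) q20818, e3 q18980 L705391 q18980, e3 q18981 L705398 q18981, e3 q18982 (flp_j L723736) q20740, e3 q18983 L705422 q16927, e3 q18984 L705428 q16928, e3 q18985 L705447 q16926, e3 q18986 (flp_j L724673) q20822, e3 q18987 (flp_j L724656) q20821, e3 q18988 L705469 q18077, e3 q18989 L705485 q16930, e3 q18990 (flp_j L724706) q20826, e3 q18991 L705508 q17776, e3 q18992 L705524 q17740, e3 q18993 L705534 q16942, e3 q18994 L705552 q16943, e3 q18995 (flp_j L724733) q20828, e3 q18996 (flp_j L724751) q20829, e3 q18997 L705583 q16946, e3 q18998 (flp_j L724780) q20832, e3 q18999 L705602 q17764, e3 q19000 L705614 q17775, e3 q19001 L705620 q16951, e3 q19002 L705631 q16952, e3 q19003 L705641 q16953, e3 q19004 (flp_j L724813) q20835, e3 q19005 (flp_j L724826) q20836, e3 q19006 (flp_j L724834) q20837, e3 q19007 (flp_j L724842) q20838, trivial⟩ (by decide +kernel)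

theorem ce_j_297 : ∀ r, r < 64 → sm gj (Qf (19008 + r)) = Qf (tab Gen.j (19008 + r)) :=
  edges_tab (sm gj) Qf (tab Gen.j) 19008 [(19008, 16956), (19009, 16957), (19010, 20843), (19011, 19011), (19012, 16960), (19013, 16961), (19014, 17491), (19015, 20845), (19016, 20846), (19017, 17781), (19018, 17782), (19019, 16965), (19020, 16966), (19021, 20854), (19022, 20855), (19023, 20856), (19024, 16969), (19025, 16970), (19026, 16971), (19027, 20860), (19028, 20861), (19029, 19029), (19030, 17795), (19031, 17796), (19032, 17797), (19033, 16979), (19034, 16980), (19035, 16981), (19036, 16982), (19037, 16983), (19038, 17893), (19039, 17941), (19040, 20870), (19041, 20871), (19042, 20872), (19043, 20873), (19044, 20875), (19045, 20876), (19046, 16990), (19047, 16991), (19048, 16992), (19049, 20148), (19050, 16993), (19051, 16994), (19052, 18066), (19053, 20888), (19054, 20889), (19055, 20891), (19056, 20892), (19057, 19057), (19058, 19058), (19059, 20161), (19060, 17001), (19061, 17002), (19062, 20899), (19063, 20900), (19064, 17185),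 (19065, 17816), (19066, 17150), (19067, 17013), (19068, 17014), (19069, 17188), (19070, 17949), (19071, 17969)]
    ⟨e3 q19008 L705682 q16956, e3 q19009 L705689 q16957, e3 q19010 (flp_j L724884) q20843, e3 q19011 L705701 q19011, e3 q19012 L705712 q16960, e3 q19013 L705729 q16961, e3 q19014 L705740 q17491, e3 q19015 (flp_j L724903) q20845, e3 q19016 (flp_j L724920) q20846, e3 q19017 L705772 q17781, e3 q19018 L705791 q17782, e3 q19019 L705801 q16965, e3 q19020 L705815 q16966, e3 q19021 (flp_j L725014) q20854, e3 q19022 (flp_j L725028) q20855, e3 q19023 (flp_j L725038) q20856, e3 q19024 L705858 q16969, e3 q19025 L705872 q16970, e3 q19026 L705881 q16971, e3 q19027 (flp_j L725085) q20860, e3 q19028 (flp_j L725096) q20861, e3 q19029 L705912 q19029, e3 q19030 L705925 q17795, e3 q19031 L705939 q17796, e3 q19032 L705950 q17797, e3 q19033 L705960 q16979, e3 q19034 L705976 q16980, e3 q19035 L705982 q16981, e3 q19036 L705992 q16982, e3 q19037 L706000 q16983, e3 q19038 L706008 q17893, e3 q19039 L706022 q17941, e3 q19040 (flp_j L725194)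 q20870, e3 q19041 (flp_j L725208) q20871, e3 q19042 (flp_j L725224) q20872, e3 q19043 (flp_j L725236) q20873, e3 q19044 (flp_j L725256) q20875, e3 q19045 (flp_j L725264) q20876, e3 q19046 L706091 q16990, e3 q19047 L706107 q16991, e3 q19048 L706118 q16992, e3 q19049 (flp_j L716648) q20148, e3 q19050 L706139 q16993, e3 q19051 L706148 q16994, e3 q19052 L706156 q18066, e3 q19053 (flp_j L725392) q20888, e3 q19054 (flp_j L725405) q20889, e3 q19055 (flp_j L725424) q20891, e3 q19056 (flp_j L725431) q20892, e3 q19057 L706201 q19057, e3 q19058 L706211 q19058, e3 q19059 (flp_j L716811) q20161, e3 q19060 L706229 q17001, e3 q19061 L706237 q17002, e3 q19062 (flp_j L725499) q20899, e3 q19063 (flp_j L725509) q20900, e3 q19064 L706265 q17185, e3 q19065 L706282 q17816, e3 q19066 L706297 q17150, e3 q19067 L706308 q17013, e3 q19068 L706323 q17014, e3 q19069 L706336 q17188, e3 q19070 L706352 q17949, e3 q19071 L706363 q17969, trivial⟩ (by decide +kernel)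

theorem ce_j_298 : ∀ r, r < 64 → sm gj (Qf (19072 + r)) = Qf (tab Gen.j (19072 + r)) :=
  edges_tab (sm gj) Qf (tab Gen.j) 19072 [(19072, 17972), (19073, 17967), (19074, 20904), (19075, 17420), (19076, 17780), (19077, 17019), (19078, 17020), (19079, 17021), (19080, 20913), (19081, 20914), (19082, 20915), (19083, 20916), (19084, 20917), (19085, 20918), (19086, 17830), (19087, 17831), (19088, 17832), (19089, 17027), (19090, 17028), (19091, 17029), (19092, 17030), (19093, 17031), (19094, 17032), (19095, 20934), (19096, 20935), (19097, 17886), (19098, 20936), (19099, 20937), (19100, 20938), (19101, 20951), (19102, 20940), (19103, 20941), (19104, 17039), (19105, 17040), (19106, 17041), (19107, 17042), (19108, 20959), (19109, 17044), (19110, 17045), (19111, 20955), (19112, 20963), (19113, 20957), (19114, 20958), (19115, 17043), (19116, 20967), (19117, 20961), (19118, 20962), (19119, 17047), (19120, 20971), (19121, 19121), (19122, 19122), (19123, 17051), (19124, 20973), (19125, 19125), (19126, 19126), (19127, 17189), (19128, 17872),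 (19129, 17873), (19130, 17874), (19131, 17875), (19132, 17876), (19133, 17063), (19134, 17064), (19135, 17065)]
    ⟨e3 q19072 L706377 q17972, e3 q19073 L706390 q17967, e3 q19074 (flp_j L725553) q20904, e3 q19075 L706413 q17420, e3 q19076 L706431 q17780, e3 q19077 L706438 q17019, e3 q19078 L706444 q17020, e3 q19079 L706453 q17021, e3 q19080 (flp_j L725664) q20913, e3 q19081 (flp_j L725674) q20914, e3 q19082 (flp_j L725687) q20915, e3 q19083 (flp_j L725693) q20916, e3 q19084 (flp_j L725702) q20917, e3 q19085 (flp_j L725707) q20918, e3 q19086 L706502 q17830, e3 q19087 L706512 q17831, e3 q19088 L706523 q17832, e3 q19089 L706531 q17027, e3 q19090 L706543 q17028, e3 q19091 L706559 q17029, e3 q19092 L706563 q17030, e3 q19093 L706573 q17031, e3 q19094 L706579 q17032, e3 q19095 (flp_j L725848) q20934, e3 q19096 (flp_j L725864) q20935, e3 q19097 L706607 q17886, e3 q19098 (flp_j L725874) q20936, e3 q19099 (flp_j L725890) q20937, e3 q19100 (flp_j L725900) q20938, e3 q19101 L726030 q20951, e3 q19102 (flp_j L725918) q20940, e3 q19103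 (flp_j L725924) q20941, e3 q19104 L706676 q17039, e3 q19105 L706686 q17040, e3 q19106 L706701 q17041, e3 q19107 L706710 q17042, e3 q19108 L726113 q20959, e3 q19109 L706727 q17044, e3 q19110 L706734 q17045, e3 q19111 (flp_j L726067) q20955, e3 q19112 L726147 q20963, e3 q19113 (flp_j L726098) q20957, e3 q19114 (flp_j L726109) q20958, e3 q19115 (flp_j L706784) q17043, e3 q19116 (flp_j L726206) q20967, e3 q19117 (flp_j L726135) q20961, e3 q19118 (flp_j L726142) q20962, e3 q19119 (flp_j L706811) q17047, e3 q19120 (flp_j L726247) q20971, e3 q19121 L706852 q19121, e3 q19122 L706859 q19122, e3 q19123 L706874 q17051, e3 q19124 (flp_j L726268) q20973, e3 q19125 L706888 q19125, e3 q19126 L706896 q19126, e3 q19127 L706909 q17189, e3 q19128 L706919 q17872, e3 q19129 L706930 q17873, e3 q19130 L706934 q17874, e3 q19131 L706943 q17875, e3 q19132 L706950 q17876, e3 q19133 L706960 q17063, e3 q19134 L706970 q17064, e3 q19135 L706980 q17065, trivial⟩ (by decide +kernel)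

theorem ce_j_299 : ∀ r, r < 64 → sm gj (Qf (19136 + r)) = Qf (tab Gen.j (19136 + r)) :=
  edges_tab (sm gj) Qf (tab Gen.j) 19136 [(19136, 17066), (19137, 17067), (19138, 17068), (19139, 17069), (19140, 20999), (19141, 17071), (19142, 17072), (19143, 20986), (19144, 20987), (19145, 20988), (19146, 20989), (19147, 20990), (19148, 20991), (19149, 20992), (19150, 20993), (19151, 20994), (19152, 21016), (19153, 20996), (19154, 20997), (19155, 20998), (19156, 17070), (19157, 21021), (19158, 21001), (19159, 21002), (19160, 17082), (19161, 17083), (19162, 17084), (19163, 17085), (19164, 21029), (19165, 17087), (19166, 17088), (19167, 17089), (19168, 17079), (19169, 21034), (19170, 17092), (19171, 17093), (19172, 21025), (19173, 21038), (19174, 21026), (19175, 21027), (19176, 21028), (19177, 17086), (19178, 21042), (19179, 21031), (19180, 21032), (19181, 21033), (19182, 17091), (19183, 21048), (19184, 21036), (19185, 21037), (19186, 17095), (19187, 21053), (19188, 19188), (19189, 19189), (19190, 17100), (19191, 21055), (19192, 19192),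 (19193, 19193), (19194, 19194), (19195, 17105), (19196, 21058), (19197, 19197), (19198, 19198), (19199, 17109)]
    ⟨e3 q19136 L706984 q17066, e3 q19137 L706992 q17067, e3 q19138 L707002 q17068, e3 q19139 L707010 q17069, e3 q19140 L726527 q20999, e3 q19141 L707022 q17071, e3 q19142 L707028 q17072, e3 q19143 (flp_j L726398) q20986, e3 q19144 (flp_j L726416) q20987, e3 q19145 (flp_j L726426) q20988, e3 q19146 (flp_j L726440) q20989, e3 q19147 (flp_j L726450) q20990, e3 q19148 (flp_j L726458) q20991, e3 q19149 (flp_j L726464) q20992, e3 q19150 (flp_j L726477) q20993, e3 q19151 (flp_j L726487) q20994, e3 q19152 L726657 q21016, e3 q19153 (flp_j L726503) q20996, e3 q19154 (flp_j L726511) q20997, e3 q19155 (flp_j L726519) q20998, e3 q19156 (flp_j L707133) q17070, e3 q19157 (flp_j L726705) q21021, e3 q19158 (flp_j L726545) q21001, e3 q19159 (flp_j L726549) q21002, e3 q19160 L707166 q17082, e3 q19161 L707175 q17083, e3 q19162 L707187 q17084, e3 q19163 L707194 q17085, e3 q19164 L726767 q21029, e3 q19165 L707209 q17087, e3 q19166 L707218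 q17088, e3 q19167 L707225 q17089, e3 q19168 (flp_j L707233) q17079, e3 q19169 (flp_j L726821) q21034, e3 q19170 L707251 q17092, e3 q19171 L707256 q17093, e3 q19172 (flp_j L726730) q21025, e3 q19173 L726845 q21038, e3 q19174 (flp_j L726743) q21026, e3 q19175 (flp_j L726754) q21027, e3 q19176 (flp_j L726761) q21028, e3 q19177 (flp_j L707304) q17086, e3 q19178 (flp_j L726893) q21042, e3 q19179 (flp_j L726793) q21031, e3 q19180 (flp_j L726798) q21032, e3 q19181 (flp_j L726808) q21033, e3 q19182 L707349 q17091, e3 q19183 (flp_j L726946) q21048, e3 q19184 (flp_j L726832) q21036, e3 q19185 (flp_j L726841) q21037, e3 q19186 (flp_j L707369) q17095, e3 q19187 (flp_j L726984) q21053, e3 q19188 L707408 q19188, e3 q19189 L707415 q19189, e3 q19190 L707425 q17100, e3 q19191 (flp_j L727007) q21055, e3 q19192 L707439 q19192, e3 q19193 L707443 q19193, e3 q19194 L707457 q19194, e3 q19195 L707468 q17105, e3 q19196 (flp_j L727025) q21058, e3 q19197 L707482 q19197, e3 q19198 L707491 q19198, e3 q19199 L707500 q17109, trivial⟩ (by decide +kernel)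

theorem ce_j_300 : ∀ r, r < 64 → sm gj (Qf (19200 + r)) = Qf (tab Gen.j (19200 + r)) :=
  edges_tab (sm gj) Qf (tab Gen.j) 19200 [(19200, 21061), (19201, 17114), (19202, 17115), (19203, 17113), (19204, 21066), (19205, 21063), (19206, 21064), (19207, 21065), (19208, 17117), (19209, 21072), (19210, 19210), (19211, 17139), (19212, 17186), (19213, 17136), (19214, 17135), (19215, 17133), (19216, 17134), (19217, 17137), (19218, 17138), (19219, 17140), (19220, 17962), (19221, 20903), (19222, 21074), (19223, 21073), (19224, 21075), (19225, 21076), (19226, 20978), (19227, 21077), (19228, 20169), (19229, 17145), (19230, 17146), (19231, 17147), (19232, 20363), (19233, 17785), (19234, 20752), (19235, 17492), (19236, 17507), (19237, 17968), (19238, 17168), (19239, 17170), (19240, 17172), (19241, 17383), (19242, 17382), (19243, 21086), (19244, 17439), (19245, 17490), (19246, 21087), (19247, 17506), (19248, 17177), (19249, 17821), (19250, 17803), (19251, 17819), (19252, 17838), (19253, 17887), (19254, 17966), (19255, 17187), (19256, 17190),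 (19257, 20979), (19258, 20906), (19259, 20905), (19260, 20168), (19261, 20977), (19262, 20305), (19263, 17216)]
    ⟨e3 q19200 (flp_j L727062) q21061, e3 q19201 L707513 q17114, e3 q19202 L707521 q17115, e3 q19203 L707532 q17113, e3 q19204 (flp_j L727097) q21066, e3 q19205 (flp_j L727075) q21063, e3 q19206 (flp_j L727081) q21064, e3 q19207 (flp_j L727090) q21065, e3 q19208 L707560 q17117, e3 q19209 (flp_j L727145) q21072, e3 q19210 L707584 q19210, e3 q19211 L707601 q17139, e3 q19212 L707613 q17186, e3 q19213 L707629 q17136, e3 q19214 L707646 q17135, e3 q19215 L707664 q17133, e3 q19216 L707675 q17134, e3 q19217 L707690 q17137, e3 q19218 L707699 q17138, e3 q19219 L707707 q17140, e3 q19220 L707724 q17962, e3 q19221 (flp_j L725540) q20903, e3 q19222 (flp_j L727172) q21074, e3 q19223 (flp_j L727161) q21073, e3 q19224 (flp_j L727189) q21075, e3 q19225 (flp_j L727194) q21076, e3 q19226 (flp_j L726330) q20978, e3 q19227 (flp_j L727202) q21077, e3 q19228 (flp_j L716916) q20169, e3 q19229 L707819 q17145, e3 q19230 L707828 q17146, e3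 q19231 L707839 q17147, e3 q19232 (flp_j L719420) q20363, e3 q19233 L707866 q17785, e3 q19234 (flp_j L723857) q20752, e3 q19235 L707896 q17492, e3 q19236 L707909 q17507, e3 q19237 L707926 q17968, e3 q19238 L707937 q17168, e3 q19239 L707952 q17170, e3 q19240 L707962 q17172, e3 q19241 L707971 q17383, e3 q19242 L707987 q17382, e3 q19243 (flp_j L727306) q21086, e3 q19244 L708008 q17439, e3 q19245 L708024 q17490, e3 q19246 (flp_j L727317) q21087, e3 q19247 L708045 q17506, e3 q19248 L708061 q17177, e3 q19249 L708078 q17821, e3 q19250 L708092 q17803, e3 q19251 L708107 q17819, e3 q19252 L708119 q17838, e3 q19253 L708133 q17887, e3 q19254 L708146 q17966, e3 q19255 L708162 q17187, e3 q19256 L708170 q17190, e3 q19257 (flp_j L726338) q20979, e3 q19258 (flp_j L725580) q20906, e3 q19259 (flp_j L725564) q20905, e3 q19260 (flp_j L716899) q20168, e3 q19261 (flp_j L726315) q20977, e3 q19262 (flp_j L718717) q20305, e3 q19263 L708250 q17216, trivial⟩ (by decide +kernel)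

theorem ce_j_301 : ∀ r, r < 64 → sm gj (Qf (19264 + r)) = Qf (tab Gen.j (19264 + r)) :=
  edges_tab (sm gj) Qf (tab Gen.j) 19264 [(19264, 17225), (19265, 17231), (19266, 17268), (19267, 17645), (19268, 17263), (19269, 17264), (19270, 17266), (19271, 17267), (19272, 17271), (19273, 17226), (19274, 17227), (19275, 17230), (19276, 20019), (19277, 20085), (19278, 20086), (19279, 20013), (19280, 17575), (19281, 17576), (19282, 17578), (19283, 17609), (19284, 21105), (19285, 21106), (19286, 17610), (19287, 17612), (19288, 17663), (19289, 17677), (19290, 20044), (19291, 17534), (19292, 20034), (19293, 20035), (19294, 17247), (19295, 17248), (19296, 17250), (19297, 17251), (19298, 20513), (19299, 20514), (19300, 20130), (19301, 17637), (19302, 21117), (19303, 21118), (19304, 20645), (19305, 17639), (19306, 21119), (19307, 17256), (19308, 17259), (19309, 17636), (19310, 17641), (19311, 21131), (19312, 20495), (19313, 17638), (19314, 17642), (19315, 20047), (19316, 20646), (19317, 17640), (19318, 21102), (19319, 20502), (19320, 21103),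 (19321, 21104), (19322, 17270), (19323, 21141), (19324, 20131), (19325, 20006), (19326, 18008), (19327, 17340)]
    ⟨e3 q19264 L708266 q17225, e3 q19265 L708282 q17231, e3 q19266 L708294 q17268, e3 q19267 L708308 q17645, e3 q19268 L708323 q17263, e3 q19269 L708333 q17264, e3 q19270 L708348 q17266, e3 q19271 L708358 q17267, e3 q19272 L708368 q17271, e3 q19273 L708378 q17226, e3 q19274 L708396 q17227, e3 q19275 L708408 q17230, e3 q19276 (flp_j L714796) q20019, e3 q19277 (flp_j L715809) q20085, e3 q19278 (flp_j L715823) q20086, e3 q19279 (flp_j L714694) q20013, e3 q19280 L708468 q17575, e3 q19281 L708486 q17576, e3 q19282 L708498 q17578, e3 q19283 L708512 q17609, e3 q19284 (flp_j L727536) q21105, e3 q19285 (flp_j L727546) q21106, e3 q19286 L708544 q17610, e3 q19287 L708556 q17612, e3 q19288 L708572 q17663, e3 q19289 L708580 q17677, e3 q19290 (flp_j L715181) q20044, e3 q19291 L708600 q17534, e3 q19292 (flp_j L715030) q20034, e3 q19293 (flp_j L715050) q20035, e3 q19294 L708630 q17247, e3 q19295 L708644 q17248, e3 q19296 L708656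 q17250, e3 q19297 L708664 q17251, e3 q19298 (flp_j L721347) q20513, e3 q19299 (flp_j L721367) q20514, e3 q19300 (flp_j L716418) q20130, e3 q19301 L708706 q17637, e3 q19302 (flp_j L727678) q21117, e3 q19303 (flp_j L727686) q21118, e3 q19304 (flp_j L722831) q20645, e3 q19305 L708744 q17639, e3 q19306 (flp_j L727698) q21119, e3 q19307 L708764 q17256, e3 q19308 L708774 q17259, e3 q19309 L708785 q17636, e3 q19310 L708800 q17641, e3 q19311 (flp_j L727837) q21131, e3 q19312 (flp_j L721168) q20495, e3 q19313 L708826 q17638, e3 q19314 L708836 q17642, e3 q19315 (flp_j L715217) q20047, e3 q19316 (flp_j L722847) q20646, e3 q19317 L708864 q17640, e3 q19318 (flp_j L727497) q21102, e3 q19319 (flp_j L721234) q20502, e3 q19320 (flp_j L727511) q21103, e3 q19321 (flp_j L727519) q21104, e3 q19322 L708900 q17270, e3 q19323 (flp_j L727930) q21141, e3 q19324 (flp_j L716437) q20131, e3 q19325 (flp_j L714573) q20006, e3 q19326 L708939 q18008, e3 q19327 L708951 q17340, trivial⟩ (by decide +kernel)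

theorem ce_j_302 : ∀ r, r < 64 → sm gj (Qf (19328 + r)) = Qf (tab Gen.j (19328 + r)) :=
  edges_tab (sm gj) Qf (tab Gen.j) 19328 [(19328, 17341), (19329, 17342), (19330, 17294), (19331, 17295), (19332, 21147), (19333, 21148), (19334, 17297), (19335, 17303), (19336, 17304), (19337, 20356), (19338, 20301), (19339, 20360), (19340, 20306), (19341, 20364), (19342, 21150), (19343, 17308), (19344, 17309), (19345, 17310), (19346, 21158), (19347, 21159), (19348, 21160), (19349, 19349), (19350, 19350), (19351, 20357), (19352, 20361), (19353, 20365), (19354, 17320), (19355, 17321), (19356, 17322), (19357, 21166), (19358, 21167), (19359, 21168), (19360, 20375), (19361, 17717), (19362, 17331), (19363, 17336), (19364, 17337), (19365, 21170), (19366, 21171), (19367, 17339), (19368, 21143), (19369, 21144), (19370, 21145), (19371, 21146), (19372, 17345), (19373, 17346), (19374, 21177), (19375, 19375), (19376, 18033), (19377, 20220), (19378, 20221), (19379, 17353), (19380, 17354), (19381, 17355), (19382, 17356), (19383, 17357), (19384, 17358),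 (19385, 21185), (19386, 21186), (19387, 21187), (19388, 21188), (19389, 21189), (19390, 21190), (19391, 21191)]
    ⟨e3 q19328 L708962 q17341, e3 q19329 L708980 q17342, e3 q19330 L708988 q17294, e3 q19331 L709006 q17295, e3 q19332 (flp_j L728010) q21147, e3 q19333 (flp_j L728020) q21148, e3 q19334 L709039 q17297, e3 q19335 L709055 q17303, e3 q19336 L709065 q17304, e3 q19337 (flp_j L719321) q20356, e3 q19338 (flp_j L718659) q20301, e3 q19339 (flp_j L719383) q20360, e3 q19340 (flp_j L718733) q20306, e3 q19341 (flp_j L719432) q20364, e3 q19342 (flp_j L728048) q21150, e3 q19343 L709138 q17308, e3 q19344 L709155 q17309, e3 q19345 L709166 q17310, e3 q19346 (flp_j L728139) q21158, e3 q19347 (flp_j L728150) q21159, e3 q19348 (flp_j L728157) q21160, e3 q19349 L709214 q19349, e3 q19350 L709221 q19350, e3 q19351 (flp_j L719341) q20357, e3 q19352 (flp_j L719397) q20361, e3 q19353 (flp_j L719442) q20365, e3 q19354 L709265 q17320, e3 q19355 L709276 q17321, e3 q19356 L709284 q17322, e3 q19357 (flp_j L728223) q21166, e3 q19358 (flp_j L728231)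 q21167, e3 q19359 (flp_j L728243) q21168, e3 q19360 (flp_j L719557) q20375, e3 q19361 L709336 q17717, e3 q19362 L709349 q17331, e3 q19363 L709360 q17336, e3 q19364 L709378 q17337, e3 q19365 (flp_j L728269) q21170, e3 q19366 (flp_j L728279) q21171, e3 q19367 L709409 q17339, e3 q19368 (flp_j L727953) q21143, e3 q19369 (flp_j L727968) q21144, e3 q19370 (flp_j L727982) q21145, e3 q19371 (flp_j L727992) q21146, e3 q19372 L709458 q17345, e3 q19373 L709469 q17346, e3 q19374 (flp_j L728335) q21177, e3 q19375 L709489 q19375, e3 q19376 L709502 q18033, e3 q19377 (flp_j L717643) q20220, e3 q19378 (flp_j L717658) q20221, e3 q19379 L709527 q17353, e3 q19380 L709535 q17354, e3 q19381 L709547 q17355, e3 q19382 L709557 q17356, e3 q19383 L709569 q17357, e3 q19384 L709577 q17358, e3 q19385 (flp_j L728412) q21185, e3 q19386 (flp_j L728422) q21186, e3 q19387 (flp_j L728430) q21187, e3 q19388 (flp_j L728442) q21188, e3 q19389 (flp_j L728456) q21189, e3 q19390 (flp_j L728466) q21190, e3 q19391 (flp_j L728480) q21191, trivial⟩ (by decide +kernel)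

theorem ce_j_303 : ∀ r, r < 64 → sm gj (Qf (19392 + r)) = Qf (tab Gen.j (19392 + r)) :=
  edges_tab (sm gj) Qf (tab Gen.j) 19392 [(19392, 21192), (19393, 17365), (19394, 17366), (19395, 17367), (19396, 17368), (19397, 17369), (19398, 17370), (19399, 21203), (19400, 21204), (19401, 21205), (19402, 21206), (19403, 21207), (19404, 19404), (19405, 19405), (19406, 19406), (19407, 18030), (19408, 18038), (19409, 18042), (19410, 17384), (19411, 17385), (19412, 17386), (19413, 17387), (19414, 17388), (19415, 21089), (19416, 20919), (19417, 21088), (19418, 21215), (19419, 21216), (19420, 21217), (19421, 21218), (19422, 17392), (19423, 17393), (19424, 17394), (19425, 21226), (19426, 21227), (19427, 21228), (19428, 19428), (19429, 17855), (19430, 17842), (19431, 17859), (19432, 17846), (19433, 17863), (19434, 20171), (19435, 20252), (19436, 20253), (19437, 17406), (19438, 17407), (19439, 17408), (19440, 17410), (19441, 17411), (19442, 21242), (19443, 21243), (19444, 21244), (19445, 17826), (19446, 21245), (19447, 21246), (19448, 20911),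 (19449, 17828), (19450, 21247), (19451, 17416), (19452, 17419), (19453, 17825), (19454, 18070), (19455, 21261)]
    ⟨e3 q19392 (flp_j L728488) q21192, e3 q19393 L709654 q17365, e3 q19394 L709663 q17366, e3 q19395 L709677 q17367, e3 q19396 L709686 q17368, e3 q19397 L709698 q17369, e3 q19398 L709709 q17370, e3 q19399 (flp_j L728586) q21203, e3 q19400 (flp_j L728597) q21204, e3 q19401 (flp_j L728608) q21205, e3 q19402 (flp_j L728617) q21206, e3 q19403 (flp_j L728631) q21207, e3 q19404 L709766 q19404, e3 q19405 L709773 q19405, e3 q19406 L709783 q19406, e3 q19407 L709793 q18030, e3 q19408 L709810 q18038, e3 q19409 L709822 q18042, e3 q19410 L709834 q17384, e3 q19411 L709843 q17385, e3 q19412 L709858 q17386, e3 q19413 L709868 q17387, e3 q19414 L709881 q17388, e3 q19415 (flp_j L727347) q21089, e3 q19416 (flp_j L725716) q20919, e3 q19417 (flp_j L727332) q21088, e3 q19418 (flp_j L728718) q21215, e3 q19419 (flp_j L728732) q21216, e3 q19420 (flp_j L728745) q21217, e3 q19421 (flp_j L728754) q21218, e3 q19422 L709965 q17392, e3 q19423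 L709974 q17393, e3 q19424 L709982 q17394, e3 q19425 (flp_j L728833) q21226, e3 q19426 (flp_j L728841) q21227, e3 q19427 (flp_j L728851) q21228, e3 q19428 L710021 q19428, e3 q19429 L710031 q17855, e3 q19430 L710041 q17842, e3 q19431 L710054 q17859, e3 q19432 L710066 q17846, e3 q19433 L710074 q17863, e3 q19434 (flp_j L716942) q20171, e3 q19435 (flp_j L718057) q20252, e3 q19436 (flp_j L718072) q20253, e3 q19437 L710110 q17406, e3 q19438 L710120 q17407, e3 q19439 L710133 q17408, e3 q19440 L710145 q17410, e3 q19441 L710153 q17411, e3 q19442 (flp_j L728991) q21242, e3 q19443 (flp_j L729006) q21243, e3 q19444 (flp_j L729012) q21244, e3 q19445 L710181 q17826, e3 q19446 (flp_j L729025) q21245, e3 q19447 (flp_j L729033) q21246, e3 q19448 (flp_j L725637) q20911, e3 q19449 L710223 q17828, e3 q19450 (flp_j L729045) q21247, e3 q19451 L710243 q17416, e3 q19452 L710252 q17419, e3 q19453 L710266 q17825, e3 q19454 L710286 q18070, e3 q19455 (flp_j L729172) q21261, trivial⟩ (by decide +kernel)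

theorem ce_j_304 : ∀ r, r < 64 → sm gj (Qf (19456 + r)) = Qf (tab Gen.j (19456 + r)) :=
  edges_tab (sm gj) Qf (tab Gen.j) 19456 [(19456, 17827), (19457, 18071), (19458, 21262), (19459, 20912), (19460, 17829), (19461, 19461), (19462, 19462), (19463, 17428), (19464, 21268), (19465, 20139), (19466, 20172), (19467, 20288), (19468, 20289), (19469, 20290), (19470, 17440), (19471, 17441), (19472, 17442), (19473, 17443), (19474, 17444), (19475, 17445), (19476, 17447), (19477, 17448), (19478, 20922), (19479, 21091), (19480, 20847), (19481, 21274), (19482, 21275), (19483, 21276), (19484, 21277), (19485, 21278), (19486, 21279), (19487, 21300), (19488, 21280), (19489, 21281), (19490, 21282), (19491, 17446), (19492, 21305), (19493, 21283), (19494, 21284), (19495, 17457), (19496, 17458), (19497, 17459), (19498, 17460), (19499, 17461), (19500, 17463), (19501, 17464), (19502, 17465), (19503, 17468), (19504, 21309), (19505, 21310), (19506, 21311), (19507, 21231), (19508, 21312), (19509, 21313), (19510, 21314), (19511, 17462), (19512, 21323),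 (19513, 21315), (19514, 21316), (19515, 21317), (19516, 17467), (19517, 21327), (19518, 19518), (19519, 17471)]
    ⟨e3 q19456 L710306 q17827, e3 q19457 L710316 q18071, e3 q19458 (flp_j L729179) q21262, e3 q19459 (flp_j L725655) q20912, e3 q19460 L710345 q17829, e3 q19461 L710361 q19461, e3 q19462 L710368 q19462, e3 q19463 L710381 q17428, e3 q19464 (flp_j L729254) q21268, e3 q19465 (flp_j L716539) q20139, e3 q19466 (flp_j L716956) q20172, e3 q19467 (flp_j L718503) q20288, e3 q19468 (flp_j L718514) q20289, e3 q19469 (flp_j L718523) q20290, e3 q19470 L710434 q17440, e3 q19471 L710446 q17441, e3 q19472 L710450 q17442, e3 q19473 L710458 q17443, e3 q19474 L710470 q17444, e3 q19475 L710478 q17445, e3 q19476 L710490 q17447, e3 q19477 L710498 q17448, e3 q19478 (flp_j L725741) q20922, e3 q19479 (flp_j L727370) q21091, e3 q19480 (flp_j L724932) q20847, e3 q19481 (flp_j L729299) q21274, e3 q19482 (flp_j L729313) q21275, e3 q19483 (flp_j L729323) q21276, e3 q19484 (flp_j L729331) q21277, e3 q19485 (flp_j L729338) q21278, e3 q19486 (flp_j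 L729346) q21279, e3 q19487 L729514 q21300, e3 q19488 (flp_j L729356) q21280, e3 q19489 (flp_j L729364) q21281, e3 q19490 (flp_j L729370) q21282, e3 q19491 (flp_j L710587) q17446, e3 q19492 (flp_j L729548) q21305, e3 q19493 (flp_j L729382) q21283, e3 q19494 (flp_j L729390) q21284, e3 q19495 L710622 q17457, e3 q19496 L710636 q17458, e3 q19497 L710645 q17459, e3 q19498 L710659 q17460, e3 q19499 L710668 q17461, e3 q19500 L710677 q17463, e3 q19501 L710686 q17464, e3 q19502 L710693 q17465, e3 q19503 L710703 q17468, e3 q19504 (flp_j L729575) q21309, e3 q19505 (flp_j L729591) q21310, e3 q19506 (flp_j L729600) q21311, e3 q19507 (flp_j L728880) q21231, e3 q19508 (flp_j L729611) q21312, e3 q19509 (flp_j L729622) q21313, e3 q19510 (flp_j L729631) q21314, e3 q19511 (flp_j L710781) q17462, e3 q19512 (flp_j L729724) q21323, e3 q19513 (flp_j L729643) q21315, e3 q19514 (flp_j L729650) q21316, e3 q19515 (flp_j L729658) q21317, e3 q19516 L710822 q17467, e3 q19517 (flp_j L729749) q21327, e3 q19518 L710844 q19518, e3 q19519 (flp_j L710847) q17471,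 trivial⟩ (by decide +kernel)

theorem ce_j_305 : ∀ r, r < 64 → sm gj (Qf (19520 + r)) = Qf (tab Gen.j (19520 + r)) :=
  edges_tab (sm gj) Qf (tab Gen.j) 19520 [(19520, 21329), (19521, 19521), (19522, 19522), (19523, 17476), (19524, 21331), (19525, 19525), (19526, 17481), (19527, 20173), (19528, 17493), (19529, 17494), (19530, 17495), (19531, 17496), (19532, 17497), (19533, 21092), (19534, 20567), (19535, 20848), (19536, 21085), (19537, 21334), (19538, 21335), (19539, 21336), (19540, 21337), (19541, 21338), (19542, 17501), (19543, 17502), (19544, 17503), (19545, 21347), (19546, 17556), (19547, 17581), (19548, 17565), (19549, 17572), (19550, 17573), (19551, 17580), (19552, 17598), (19553, 17599), (19554, 17607), (19555, 17614), (19556, 20095), (19557, 17627), (19558, 17635), (19559, 17644), (19560, 17646), (19561, 20069), (19562, 20081), (19563, 20064), (19564, 20070), (19565, 17679), (19566, 17681), (19567, 17682), (19568, 17684), (19569, 17685), (19570, 17686), (19571, 17708), (19572, 20065), (19573, 17707), (19574, 17709),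 (19575, 17710), (19576, 17586), (19577, 17593), (19578, 17594), (19579, 17560), (19580, 17561), (19581, 20686), (19582, 20687), (19583, 21367)]
    ⟨e3 q19520 (flp_j L729775) q21329, e3 q19521 L710886 q19521, e3 q19522 L710893 q19522, e3 q19523 L710901 q17476, e3 q19524 (flp_j L729796) q21331, e3 q19525 L710913 q19525, e3 q19526 L710920 q17481, e3 q19527 (flp_j L716969) q20173, e3 q19528 L710938 q17493, e3 q19529 L710944 q17494, e3 q19530 L710952 q17495, e3 q19531 L710961 q17496, e3 q19532 L710968 q17497, e3 q19533 (flp_j L727384) q21092, e3 q19534 (flp_j L721986) q20567, e3 q19535 (flp_j L724949) q20848, e3 q19536 (flp_j L727291) q21085, e3 q19537 (flp_j L729817) q21334, e3 q19538 (flp_j L729826) q21335, e3 q19539 (flp_j L729831) q21336, e3 q19540 (flp_j L729836) q21337, e3 q19541 (flp_j L729841) q21338, e3 q19542 L711032 q17501, e3 q19543 L711040 q17502, e3 q19544 L711048 q17503, e3 q19545 (flp_j L729889) q21347, e3 q19546 L711066 q17556, e3 q19547 L711082 q17581, e3 q19548 L711094 q17565, e3 q19549 L711106 q17572, e3 q19550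 L711113 q17573, e3 q19551 L711122 q17580, e3 q19552 L711132 q17598, e3 q19553 L711136 q17599, e3 q19554 L711146 q17607, e3 q19555 L711156 q17614, e3 q19556 (flp_j L715949) q20095, e3 q19557 L711170 q17627, e3 q19558 L711178 q17635, e3 q19559 L711187 q17644, e3 q19560 L711193 q17646, e3 q19561 (flp_j L715559) q20069, e3 q19562 (flp_j L715750) q20081, e3 q19563 (flp_j L715476) q20064, e3 q19564 (flp_j L715573) q20070, e3 q19565 L711224 q17679, e3 q19566 L711232 q17681, e3 q19567 L711238 q17682, e3 q19568 L711248 q17684, e3 q19569 L711254 q17685, e3 q19570 L711260 q17686, e3 q19571 L711268 q17708, e3 q19572 (flp_j L715490) q20065, e3 q19573 L711284 q17707, e3 q19574 L711291 q17709, e3 q19575 L711300 q17710, e3 q19576 L711309 q17586, e3 q19577 L711327 q17593, e3 q19578 L711339 q17594, e3 q19579 L711351 q17560, e3 q19580 L711369 q17561, e3 q19581 (flp_j L723222) q20686, e3 q19582 (flp_j L723240) q20687, e3 q19583 (flp_j L730069) q21367, trivial⟩ (by decide +kernel)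

theorem ce_j_306 : ∀ r, r < 64 → sm gj (Qf (19584 + r)) = Qf (tab Gen.j (19584 + r)) :=
  edges_tab (sm gj) Qf (tab Gen.j) 19584 [(19584, 21368), (19585, 17564), (19586, 20708), (19587, 21348), (19588, 20622), (19589, 20741), (19590, 20631), (19591, 20103), (19592, 21349), (19593, 21350), (19594, 20652), (19595, 20653), (19596, 21108), (19597, 21109), (19598, 20664), (19599, 20429), (19600, 21351), (19601, 17587), (19602, 17588), (19603, 20688), (19604, 20689), (19605, 20690), (19606, 20691), (19607, 21365), (19608, 21385), (19609, 20709), (19610, 20710), (19611, 20711), (19612, 21366), (19613, 20416), (19614, 20437), (19615, 20438), (19616, 21352), (19617, 21353), (19618, 20742), (19619, 20743), (19620, 20744), (19621, 20745), (19622, 20734), (19623, 21354), (19624, 20073), (19625, 20078), (19626, 21110), (19627, 21112), (19628, 20079), (19629, 20430), (19630, 21355), (19631, 20591), (19632, 20592), (19633, 17621), (19634, 17622), (19635, 20088), (19636, 20092), (19637, 21414), (19638, 20093), (19639, 20418), (19640, 20439),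 (19641, 21356), (19642, 20549), (19643, 20102), (19644, 20057), (19645, 21120), (19646, 21132), (19647, 21123)]
    ⟨e3 q19584 (flp_j L730079) q21368, e3 q19585 L711413 q17564, e3 q19586 (flp_j L723440) q20708, e3 q19587 (flp_j L729896) q21348, e3 q19588 (flp_j L722571) q20622, e3 q19589 (flp_j L723748) q20741, e3 q19590 (flp_j L722686) q20631, e3 q19591 (flp_j L716053) q20103, e3 q19592 (flp_j L729910) q21349, e3 q19593 (flp_j L729919) q21350, e3 q19594 (flp_j L722904) q20652, e3 q19595 (flp_j L722923) q20653, e3 q19596 (flp_j L727574) q21108, e3 q19597 (flp_j L727584) q21109, e3 q19598 (flp_j L723029) q20664, e3 q19599 (flp_j L720323) q20429, e3 q19600 (flp_j L729925) q21351, e3 q19601 L711540 q17587, e3 q19602 L711546 q17588, e3 q19603 (flp_j L723248) q20688, e3 q19604 (flp_j L723262) q20689, e3 q19605 (flp_j L723278) q20690, e3 q19606 (flp_j L723290) q20691, e3 q19607 (flp_j L730041) q21365, e3 q19608 (flp_j L730215) q21385, e3 q19609 (flp_j L723455) q20709, e3 q19610 (flp_j L723469) q20710, e3 q19611 (flp_j L723479)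 q20711, e3 q19612 (flp_j L730051) q21366, e3 q19613 (flp_j L720163) q20416, e3 q19614 (flp_j L720413) q20437, e3 q19615 (flp_j L720421) q20438, e3 q19616 (flp_j L729934) q21352, e3 q19617 (flp_j L729941) q21353, e3 q19618 (flp_j L723760) q20742, e3 q19619 (flp_j L723774) q20743, e3 q19620 (flp_j L723787) q20744, e3 q19621 (flp_j L723798) q20745, e3 q19622 (flp_j L723658) q20734, e3 q19623 (flp_j L729950) q21354, e3 q19624 (flp_j L715627) q20073, e3 q19625 (flp_j L715707) q20078, e3 q19626 (flp_j L727602) q21110, e3 q19627 (flp_j L727618) q21112, e3 q19628 (flp_j L715721) q20079, e3 q19629 (flp_j L720335) q20430, e3 q19630 (flp_j L729957) q21355, e3 q19631 (flp_j L722258) q20591, e3 q19632 (flp_j L722270) q20592, e3 q19633 L711766 q17621, e3 q19634 L711774 q17622, e3 q19635 (flp_j L715859) q20088, e3 q19636 (flp_j L715907) q20092, e3 q19637 (flp_j L730418) q21414, e3 q19638 (flp_j L715917) q20093, e3 q19639 (flp_j L720193) q20418, e3 q19640 (flp_j L720431) q20439, e3 q19641 (flp_j L729966) q21356, e3 q19642 (flp_j L721767)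 q20549, e3 q19643 (flp_j L716044) q20102, e3 q19644 (flp_j L715357) q20057, e3 q19645 (flp_j L727710) q21120, e3 q19646 (flp_j L727850) q21132, e3 q19647 (flp_j L727750) q21123, trivial⟩ (by decide +kernel)

theorem ce_j_307 : ∀ r, r < 64 → sm gj (Qf (19648 + r)) = Qf (tab Gen.j (19648 + r)) :=
  edges_tab (sm gj) Qf (tab Gen.j) 19648 [(19648, 21126), (19649, 21135), (19650, 21129), (19651, 21133), (19652, 21136), (19653, 20393), (19654, 21357), (19655, 21358), (19656, 20517), (19657, 20518), (19658, 20677), (19659, 20678), (19660, 20679), (19661, 17656), (19662, 17657), (19663, 17660), (19664, 17661), (19665, 17664), (19666, 20522), (19667, 20527), (19668, 20193), (19669, 20061), (19670, 21435), (19671, 21436), (19672, 20211), (19673, 20227), (19674, 20026), (19675, 20066), (19676, 21437), (19677, 21438), (19678, 17662), (19679, 21452), (19680, 21113), (19681, 21439), (19682, 17670), (19683, 17674), (19684, 20536), (19685, 20062), (19686, 20063), (19687, 21456), (19688, 20027), (19689, 20067), (19690, 17688), (19691, 20728),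 (19692, 17676), (19693, 21462), (19694, 20404), (19695, 21362), (19696, 20388), (19697, 20427), (19698, 21359), (19699, 21363), (19700, 20030), (19701, 20446), (19702, 21364), (19703, 20543), (19704, 17697), (19705, 17701), (19706, 20539), (19707, 20199), (19708, 20203), (19709, 21466), (19710, 20216), (19711, 20232)]
    ⟨e3 q19648 (flp_j L727791) q21126, e3 q19649 (flp_j L727881) q21135, e3 q19650 (flp_j L727817) q21129, e3 q19651 (flp_j L727862) q21133, e3 q19652 (flp_j L727889) q21136, e3 q19653 (flp_j L719838) q20393, e3 q19654 (flp_j L729974) q21357, e3 q19655 (flp_j L729981) q21358, e3 q19656 (flp_j L721393) q20517, e3 q19657 (flp_j L721407) q20518, e3 q19658 (flp_j L723138) q20677, e3 q19659 (flp_j L723148) q20678, e3 q19660 (flp_j L723154) q20679, e3 q19661 L711957 q17656, e3 q19662 L711967 q17657, e3 q19663 L711975 q17660, e3 q19664 L711983 q17661, e3 q19665 L711989 q17664, e3 q19666 L721453 q20522, e3 q19667 (flp_j L721495) q20527, e3 q19668 (flp_j L717255) q20193, e3 q19669 (flp_j L715420) q20061, e3 q19670 (flp_j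 L730560) q21435, e3 q19671 (flp_j L730568) q21436, e3 q19672 (flp_j L717513) q20211, e3 q19673 (flp_j L717746) q20227, e3 q19674 (flp_j L714906) q20026, e3 q19675 (flp_j L715511) q20066, e3 q19676 (flp_j L730576) q21437, e3 q19677 (flp_j L730582) q21438, e3 q19678 (flp_j L712067) q17662, e3 q19679 (flp_j L730674) q21452, e3 q19680 (flp_j L727632) q21113, e3 q19681 (flp_j L730588) q21439, e3 q19682 L712095 q17670, e3 q19683 L712099 q17674, e3 q19684 (flp_j L721593) q20536, e3 q19685 (flp_j L715442) q20062, e3 q19686 (flp_j L715456) q20063, e3 q19687 (flp_j L730696) q21456, e3 q19688 (flp_j L714926) q20027, e3 q19689 (flp_j L715523) q20067, e3 q19690 L712153 q17688, e3 q19691 (flp_j L723609) q20728, e3 q19692 L712169 q17676, e3 q19693 (flp_j L730740) q21462, e3 q19694 (flp_j L720000) q20404, e3 q19695 (flp_j L730011) q21362, e3 q19696 (flp_j L719768) q20388, e3 q19697 (flp_j L720291) q20427, e3 q19698 (flp_j L729990) q21359, e3 q19699 (flp_j L730019) q21363, e3 q19700 (flp_j L714968) q20030, e3 q19701 (flp_j L720508) q20446,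 e3 q19702 (flp_j L730025) q21364, e3 q19703 (flp_j L721685) q20543, e3 q19704 L712244 q17697, e3 q19705 L712251 q17701, e3 q19706 (flp_j L721635) q20539, e3 q19707 (flp_j L717340) q20199, e3 q19708 (flp_j L717405) q20203, e3 q19709 (flp_j L730767) q21466, e3 q19710 (flp_j L717585) q20216, e3 q19711 (flp_j L717810) q20232, trivial⟩ (by decide +kernel)

theorem ce_j_308 : ∀ r, r < 64 → sm gj (Qf (19712 + r)) = Qf (tab Gen.j (19712 + r)) :=
  edges_tab (sm gj) Qf (tab Gen.j) 19712 [(19712, 20239), (19713, 21467), (19714, 17705), (19715, 20542), (19716, 20547), (19717, 20104), (19718, 20730), (19719, 20632), (19720, 17715), (19721, 20753), (19722, 20764), (19723, 20765), (19724, 17726), (19725, 17727), (19726, 21481), (19727, 20805), (19728, 20813), (19729, 20782), (19730, 20783), (19731, 17736), (19732, 17737), (19733, 20804), (19734, 21486), (19735, 17741), (19736, 20827), (19737, 20793), (19738, 20794), (19739, 20795), (19740, 20796), (19741, 20797), (19742, 17751), (19743, 17752), (19744, 17753), (19745, 17754), (19746, 17755),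 (19747, 17756), (19748, 20833), (19749, 17757), (19750, 17758), (19751, 20852), (19752, 21495), (19753, 21496), (19754, 21497), (19755, 21498), (19756, 21499), (19757, 21500), (19758, 21501), (19759, 21503), (19760, 21504), (19761, 17767), (19762, 17768), (19763, 17769), (19764, 17770), (19765, 17771), (19766, 20834), (19767, 17772), (19768, 21515), (19769, 21516), (19770, 21517), (19771, 21518), (19772, 19772), (19773, 17783), (19774, 20853), (19775, 21523)]
    ⟨e3 q19712 (flp_j L717909) q20239, e3 q19713 (flp_j L730772) q21467, e3 q19714 L712314 q17705, e3 q19715 (flp_j L721666) q20542, e3 q19716 (flp_j L721734) q20547, e3 q19717 (flp_j L716066) q20104, e3 q19718 (flp_j L723630) q20730, e3 q19719 (flp_j L722695) q20632, e3 q19720 L712357 q17715, e3 q19721 (flp_j L723875) q20753, e3 q19722 (flp_j L724020) q20764, e3 q19723 (flp_j L724035) q20765, e3 q19724 L712391 q17726, e3 q19725 L712399 q17727, e3 q19726 (flp_j L730866) q21481, e3 q19727 (flp_j L724498) q20805, e3 q19728 (flp_j L724575) q20813, e3 q19729 (flp_j L724209)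 q20782, e3 q19730 (flp_j L724224) q20783, e3 q19731 L712438 q17736, e3 q19732 L712444 q17737, e3 q19733 (flp_j L724482) q20804, e3 q19734 (flp_j L730897) q21486, e3 q19735 L712473 q17741, e3 q19736 (flp_j L724719) q20827, e3 q19737 (flp_j L724341) q20793, e3 q19738 (flp_j L724360) q20794, e3 q19739 (flp_j L724368) q20795, e3 q19740 (flp_j L724377) q20796, e3 q19741 (flp_j L724384) q20797, e3 q19742 L712522 q17751, e3 q19743 L712532 q17752, e3 q19744 L712536 q17753, e3 q19745 L712544 q17754, e3 q19746 L712554 q17755, e3 q19747 L712562 q17756, e3 q19748 (flp_j L724792) q20833, e3 q19749 L712580 q17757, e3 q19750 L712586 q17758, e3 q19751 (flp_j L724987) q20852, e3 q19752 (flp_j L730963) q21495, e3 q19753 (flp_j L730973) q21496, e3 q19754 (flp_j L730981) q21497, e3 q19755 (flp_j L730987) q21498, e3 q19756 (flp_j L730996) q21499, e3 q19757 (flp_j L731006) q21500, e3 q19758 (flp_j L731014) q21501, e3 q19759 (flp_j L731032) q21503, e3 q19760 (flp_j L731036) q21504, e3 q19761 L712664 q17767, e3 q19762 L712676 q17768, e3 q19763 L712683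 q17769, e3 q19764 L712692 q17770, e3 q19765 L712701 q17771, e3 q19766 (flp_j L724805) q20834, e3 q19767 L712718 q17772, e3 q19768 (flp_j L731119) q21515, e3 q19769 (flp_j L731130) q21516, e3 q19770 (flp_j L731138) q21517, e3 q19771 (flp_j L731143) q21518, e3 q19772 L712754 q19772, e3 q19773 L712761 q17783, e3 q19774 (flp_j L725006) q20853, e3 q19775 (flp_j L731178) q21523, trivial⟩ (by decide +kernel)

theorem ce_j_309 : ∀ r, r < 64 → sm gj (Qf (19776 + r)) = Qf (tab Gen.j (19776 + r)) :=
  edges_tab (sm gj) Qf (tab Gen.j) 19776 [(19776, 20137), (19777, 20138), (19778, 20802), (19779, 20803), (19780, 17792), (19781, 17793), (19782, 21528), (19783, 20865), (19784, 20866), (19785, 20867), (19786, 20868), (19787, 20869), (19788, 17804), (19789, 17805), (19790, 17807), (19791, 17808), (19792, 17809), (19793, 20942), (19794, 21094), (19795, 20302), (19796, 21534), (19797, 21535), (19798, 20263), (19799, 20308), (19800, 21536), (19801, 21537), (19802, 17813), (19803, 17814), (19804, 21546), (19805, 20323), (19806, 20275), (19807,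 20328), (19808, 17917), (19809, 21249), (19810, 21263), (19811, 21252), (19812, 21255), (19813, 21266), (19814, 21259), (19815, 20929), (19816, 20930), (19817, 20931), (19818, 20932), (19819, 20933), (19820, 17839), (19821, 17840), (19822, 17841), (19823, 17843), (19824, 17844), (19825, 17847), (19826, 20946), (19827, 21095), (19828, 20881), (19829, 21232), (19830, 21564), (19831, 21565), (19832, 21234), (19833, 20877), (19834, 21566), (19835, 21581), (19836, 21235), (19837, 21567), (19838, 17845), (19839, 21585)]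
    ⟨e3 q19776 (flp_j L716511) q20137, e3 q19777 (flp_j L716531) q20138, e3 q19778 (flp_j L724450) q20802, e3 q19779 (flp_j L724462) q20803, e3 q19780 L712813 q17792, e3 q19781 L712821 q17793, e3 q19782 (flp_j L731219) q21528, e3 q19783 (flp_j L725143) q20865, e3 q19784 (flp_j L725160) q20866, e3 q19785 (flp_j L725166) q20867, e3 q19786 (flp_j L725177) q20868, e3 q19787 (flp_j L725186) q20869, e3 q19788 L712876 q17804, e3 q19789 L712886 q17805, e3 q19790 L712896 q17807, e3 q19791 L712906 q17808, e3 q19792 L712914 q17809, e3 q19793 (flp_j L725936) q20942, e3 q19794 (flp_j L727405) q21094, e3 q19795 (flp_j L718677) q20302, e3 q19796 (flp_j L731269) q21534, e3 q19797 (flp_j L731277) q21535, e3 q19798 (flp_j L718182) q20263, e3 q19799 (flp_j L718763) q20308, e3 q19800 (flp_j L731287) q21536, e3 q19801 (flp_j L731293) q21537, e3 q19802 L712985 q17813, e3 q19803 L712992 q17814, e3 q19804 (flp_j L731352) q21546, e3 q19805 (flp_j L718927) q20323, e3 q19806 (flp_j L718339) q20275, e3 q19807 (flp_j L718993) q20328, e3 q19808 L713030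 q17917, e3 q19809 (flp_j L729062) q21249, e3 q19810 (flp_j L729198) q21263, e3 q19811 (flp_j L729094) q21252, e3 q19812 (flp_j L729116) q21255, e3 q19813 (flp_j L729231) q21266, e3 q19814 (flp_j L729153) q21259, e3 q19815 (flp_j L725799) q20929, e3 q19816 (flp_j L725816) q20930, e3 q19817 (flp_j L725820) q20931, e3 q19818 (flp_j L725831) q20932, e3 q19819 (flp_j L725838) q20933, e3 q19820 L713107 q17839, e3 q19821 L713119 q17840, e3 q19822 L713123 q17841, e3 q19823 L713133 q17843, e3 q19824 L713141 q17844, e3 q19825 L713149 q17847, e3 q19826 (flp_j L725978) q20946, e3 q19827 (flp_j L727417) q21095, e3 q19828 (flp_j L725319) q20881, e3 q19829 (flp_j L728892) q21232, e3 q19830 (flp_j L731481) q21564, e3 q19831 (flp_j L731489) q21565, e3 q19832 (flp_j L728913) q21234, e3 q19833 (flp_j L725272) q20877, e3 q19834 (flp_j L731501) q21566, e3 q19835 L731597 q21581, e3 q19836 (flp_j L728926) q21235, e3 q19837 (flp_j L731509) q21567, e3 q19838 (flp_j L713236) q17845, e3 q19839 (flp_j L731631) q21585, trivial⟩ (by decide +kernel)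

theorem ce_j_310 : ∀ r, r < 64 → sm gj (Qf (19840 + r)) = Qf (tab Gen.j (19840 + r)) :=
  edges_tab (sm gj) Qf (tab Gen.j) 19840 [(19840, 21237), (19841, 21568), (19842, 17854), (19843, 17856), (19844, 17857), (19845, 17860), (19846, 21589), (19847, 21233), (19848, 21590), (19849, 17858), (19850, 21594), (19851, 21236), (19852, 21591), (19853, 17862), (19854, 21597), (19855, 19855), (19856, 17867), (19857, 21599), (19858, 19858), (19859, 17871), (19860, 20980), (19861, 20981), (19862, 20982), (19863, 21406), (19864, 20984), (19865, 20985), (19866, 17889), (19867, 17890), (19868, 17891), (19869, 17894), (19870, 17896), (19871, 17897), (19872, 17898), (19873, 17883), (19874, 21612), (19875, 17901), (19876, 17902), (19877, 20945), (19878, 20947), (19879, 21096), (19880, 17973), (19881, 17943), (19882, 21549), (19883, 21606), (19884, 21607), (19885, 17942), (19886, 21180), (19887, 20209), (19888, 20224), (19889, 20878), (19890, 21608), (19891, 17895), (19892, 21629), (19893, 21609), (19894, 21610), (19895, 21611), (19896, 17900),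 (19897, 21635), (19898, 21614), (19899, 21615), (19900, 17914), (19901, 17915), (19902, 17916), (19903, 17918)]
    ⟨e3 q19840 (flp_j L728946) q21237, e3 q19841 (flp_j L731515) q21568, e3 q19842 L713267 q17854, e3 q19843 L713279 q17856, e3 q19844 L713286 q17857, e3 q19845 L713299 q17860, e3 q19846 (flp_j L731656) q21589, e3 q19847 (flp_j L728907) q21233, e3 q19848 (flp_j L731671) q21590, e3 q19849 (flp_j L713328) q17858, e3 q19850 (flp_j L731707) q21594, e3 q19851 (flp_j L728934) q21236, e3 q19852 (flp_j L731678) q21591, e3 q19853 L713367 q17862, e3 q19854 (flp_j L731730) q21597, e3 q19855 L713381 q19855, e3 q19856 L713391 q17867, e3 q19857 (flp_j L731747) q21599, e3 q19858 L713405 q19858, e3 q19859 L713412 q17871, e3 q19860 (flp_j L726348) q20980, e3 q19861 (flp_j L726359) q20981, e3 q19862 (flp_j L726368) q20982, e3 q19863 (flp_j L730351) q21406, e3 q19864 (flp_j L726380) q20984, e3 q19865 (flp_j L726388) q20985, e3 q19866 L713458 q17889, e3 q19867 L713470 q17890, e3 q19868 L713478 q17891, e3 q19869 L713490 q17894, e3 q19870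 L713500 q17896, e3 q19871 L713508 q17897, e3 q19872 L713516 q17898, e3 q19873 (flp_j L713520) q17883, e3 q19874 (flp_j L731845) q21612, e3 q19875 L713538 q17901, e3 q19876 L713542 q17902, e3 q19877 (flp_j L725966) q20945, e3 q19878 (flp_j L725992) q20947, e3 q19879 (flp_j L727427) q21096, e3 q19880 L713568 q17973, e3 q19881 L713580 q17943, e3 q19882 (flp_j L731376) q21549, e3 q19883 (flp_j L731799) q21606, e3 q19884 (flp_j L731807) q21607, e3 q19885 L713608 q17942, e3 q19886 (flp_j L728369) q21180, e3 q19887 (flp_j L717484) q20209, e3 q19888 (flp_j L717702) q20224, e3 q19889 (flp_j L725286) q20878, e3 q19890 (flp_j L731815) q21608, e3 q19891 (flp_j L713640) q17895, e3 q19892 (flp_j L731959) q21629, e3 q19893 (flp_j L731825) q21609, e3 q19894 (flp_j L731829) q21610, e3 q19895 (flp_j L731835) q21611, e3 q19896 L713672 q17900, e3 q19897 (flp_j L731991) q21635, e3 q19898 (flp_j L731857) q21614, e3 q19899 (flp_j L731861) q21615, e3 q19900 L713692 q17914, e3 q19901 L713703 q17915, e3 q19902 L713710 q17916, e3 q19903 L713722 q17918,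 trivial⟩ (by decide +kernel)

theorem ce_j_311 : ∀ r, r < 64 → sm gj (Qf (19904 + r)) = Qf (tab Gen.j (19904 + r)) :=
  edges_tab (sm gj) Qf (tab Gen.j) 19904 [(19904, 17919), (19905, 17923), (19906, 17924), (19907, 17925), (19908, 17912), (19909, 21646), (19910, 21639), (19911, 21640), (19912, 21550), (19913, 21641), (19914, 21642), (19915, 17922), (19916, 21651), (19917, 21643), (19918, 21644), (19919, 21645), (19920, 17927), (19921, 17930), (19922, 21655), (19923, 19923), (19924, 19924), (19925, 17934), (19926, 21657), (19927, 20879), (19928, 21619), (19929, 17945), (19930, 20170), (19931, 17956), (19932, 17957), (19933, 17958), (19934, 17959), (19935, 17960), (19936, 17961), (19937, 18051), (19938, 20956), (19939, 21660), (19940, 21661), (19941, 20907), (19942, 21662), (19943, 21663), (19944, 20824), (19945, 17970), (19946, 20271), (19947, 20909), (19948, 20908), (19949, 21672), (19950, 21179), (19951, 20056), (19952, 20200), (19953, 20204), (19954, 20217), (19955, 20233), (19956, 20101), (19957, 20629), (19958, 18013),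 (19959, 20009), (19960, 20005), (19961, 18021), (19962, 18020), (19963, 18050), (19964, 18022), (19965, 21679), (19966, 20324), (19967, 20276)]
    ⟨e3 q19904 L713731 q17919, e3 q19905 L713739 q17923, e3 q19906 L713744 q17924, e3 q19907 L713753 q17925, e3 q19908 L713764 q17912, e3 q19909 (flp_j L732073) q21646, e3 q19910 (flp_j L732011) q21639, e3 q19911 (flp_j L732020) q21640, e3 q19912 (flp_j L731388) q21550, e3 q19913 (flp_j L732028) q21641, e3 q19914 (flp_j L732035) q21642, e3 q19915 L713819 q17922, e3 q19916 (flp_j L732111) q21651, e3 q19917 (flp_j L732045) q21643, e3 q19918 (flp_j L732054) q21644, e3 q19919 (flp_j L732064) q21645, e3 q19920 L713851 q17927, e3 q19921 L713862 q17930, e3 q19922 (flp_j L732138) q21655, e3 q19923 L713876 q19923, e3 q19924 L713883 q19924, e3 q19925 L713891 q17934, e3 q19926 (flp_j L732151) q21657, e3 q19927 (flp_j L725296) q20879, e3 q19928 (flp_j L731895) q21619, e3 q19929 L713917 q17945, e3 q19930 (flp_j L716930) q20170, e3 q19931 L713939 q17956, e3 q19932 L713954 q17957, e3 q19933 L713959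 q17958, e3 q19934 L713970 q17959, e3 q19935 L713978 q17960, e3 q19936 L713987 q17961, e3 q19937 L713999 q18051, e3 q19938 L726086 q20956, e3 q19939 (flp_j L732185) q21660, e3 q19940 (flp_j L732198) q21661, e3 q19941 (flp_j L725589) q20907, e3 q19942 (flp_j L732208) q21662, e3 q19943 (flp_j L732217) q21663, e3 q19944 (flp_j L724689) q20824, e3 q19945 L714053 q17970, e3 q19946 L718281 q20271, e3 q19947 (flp_j L725618) q20909, e3 q19948 (flp_j L725605) q20908, e3 q19949 (flp_j L732276) q21672, e3 q19950 (flp_j L728357) q21179, e3 q19951 (flp_j L715346) q20056, e3 q19952 (flp_j L717354) q20200, e3 q19953 (flp_j L717416) q20204, e3 q19954 (flp_j L717599) q20217, e3 q19955 (flp_j L717818) q20233, e3 q19956 (flp_j L716033) q20101, e3 q19957 (flp_j L722664) q20629, e3 q19958 L714128 q18013, e3 q19959 (flp_j L714622) q20009, e3 q19960 (flp_j L714553) q20005, e3 q19961 L714159 q18021, e3 q19962 L714173 q18020, e3 q19963 L714184 q18050, e3 q19964 L714195 q18022, e3 q19965 (flp_j L732324) q21679, e3 q19966 (flp_j L718941) q20324, e3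 q19967 (flp_j L718353) q20276, trivial⟩ (by decide +kernel)

theorem ce_j_312 : ∀ r, r < 64 → sm gj (Qf (19968 + r)) = Qf (tab Gen.j (19968 + r)) :=
  edges_tab (sm gj) Qf (tab Gen.j) 19968 [(19968, 18049), (19969, 18028), (19970, 21213), (19971, 18058), (19972, 18057), (19973, 20108), (19974, 21181), (19975, 20210), (19976, 20225), (19977, 20215), (19978, 20229), (19979, 21214), (19980, 20242), (19981, 18065), (19982, 18053), (19983, 18052), (19984, 18055), (19985, 18062), (19986, 18056), (19987, 21678), (19988, 21664), (19989, 21692), (19990, 21691), (19991, 21688), (19992, 21693), (19993, 21681), (19994, 18076), (19995, 21690), (19996, 20151), (19997, 21264), (19998, 20817), (19999, 20176), (20000, 20372), (20001, 18088), (20002, 18091), (20003, 21702), (20004, 18094), (20005, 19960), (20006, 19325), (20007, 18105), (20008, 18106), (20009, 19959), (20010, 18139), (20011, 18140), (20012, 18634), (20013, 19279), (20014, 18157), (20015, 18158), (20016, 18159), (20017, 18164), (20018, 18176), (20019, 19276), (20020, 18198),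 (20021, 18680), (20022, 18217), (20023, 18218), (20024, 18225), (20025, 18226), (20026, 19674), (20027, 19688), (20028, 18855), (20029, 18866), (20030, 19700), (20031, 21703)]
    ⟨e3 q19968 L714225 q18049, e3 q19969 L714236 q18028, e3 q19970 (flp_j L728695) q21213, e3 q19971 L714261 q18058, e3 q19972 L714269 q18057, e3 q19973 (flp_j L716124) q20108, e3 q19974 (flp_j L728384) q21181, e3 q19975 (flp_j L717503) q20210, e3 q19976 (flp_j L717716) q20225, e3 q19977 (flp_j L717568) q20215, e3 q19978 (flp_j L717764) q20229, e3 q19979 (flp_j L728708) q21214, e3 q19980 (flp_j L717951) q20242, e3 q19981 L714326 q18065, e3 q19982 L714336 q18053, e3 q19983 L714346 q18052, e3 q19984 L714357 q18055, e3 q19985 L714366 q18062, e3 q19986 L714378 q18056, e3 q19987 (flp_j L732312) q21678, e3 q19988 (flp_j L732229) q21664, e3 q19989 (flp_j L732425) q21692, e3 q19990 (flp_j L732415) q21691, e3 q19991 (flp_j L732390) q21688, e3 q19992 (flp_j L732430) q21693, e3 q19993 (flp_j L732348) q21681, e3 q19994 L714439 q18076, e3 q19995 (flp_j L732405)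 q21690, e3 q19996 (flp_j L716685) q20151, e3 q19997 (flp_j L729212) q21264, e3 q19998 (flp_j L724613) q20817, e3 q19999 (flp_j L717003) q20176, e3 q20000 L719515 q20372, e3 q20001 L714491 q18088, e3 q20002 L714511 q18091, e3 q20003 (flp_j L732495) q21702, e3 q20004 L714539 q18094, e3 q20005 L714553 q19960, e3 q20006 L714573 q19325, e3 q20007 L714590 q18105, e3 q20008 L714604 q18106, e3 q20009 L714622 q19959, e3 q20010 L714644 q18139, e3 q20011 L714658 q18140, e3 q20012 L714680 q18634, e3 q20013 L714694 q19279, e3 q20014 L714715 q18157, e3 q20015 L714729 q18158, e3 q20016 L714745 q18159, e3 q20017 L714757 q18164, e3 q20018 L714776 q18176, e3 q20019 L714796 q19276, e3 q20020 L714816 q18198, e3 q20021 L714836 q18680, e3 q20022 L714850 q18217, e3 q20023 L714862 q18218, e3 q20024 L714876 q18225, e3 q20025 L714891 q18226, e3 q20026 L714906 q19674, e3 q20027 L714926 q19688, e3 q20028 L714937 q18855, e3 q20029 L714956 q18866, e3 q20030 L714968 q19700, e3 q20031 (flp_j L732514) q21703, trivial⟩ (by decide +kernel)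

theorem ce_j_313 : ∀ r, r < 64 → sm gj (Qf (20032 + r)) = Qf (tab Gen.j (20032 + r)) :=
  edges_tab (sm gj) Qf (tab Gen.j) 20032 [(20032, 18144), (20033, 18145), (20034, 19292), (20035, 19293), (20036, 21719), (20037, 21720), (20038, 21721), (20039, 18151), (20040, 18152), (20041, 18153), (20042, 18212), (20043, 18196), (20044, 19290), (20045, 18820), (20046, 18826), (20047, 19315), (20048, 21727), (20049, 21728), (20050, 18547), (20051, 18574), (20052, 18575), (20053, 21705), (20054, 21706), (20055, 18162), (20056, 19951), (20057, 19644), (20058, 21707), (20059, 18604), (20060, 18507), (20061, 19669), (20062, 19685), (20063, 19686), (20064, 19563), (20065, 19572), (20066, 19675), (20067, 19689), (20068, 18675), (20069, 19561), (20070, 19564), (20071, 18190), (20072, 18191), (20073, 19624), (20074, 21747), (20075, 21748), (20076, 18195), (20077, 21730), (20078, 19625), (20079, 19628), (20080, 21731), (20081, 19562), (20082, 21708), (20083, 18204), (20084, 18205), (20085, 19277), (20086, 19278), (20087, 21758), (20088, 19635),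 (20089, 21756), (20090, 18208), (20091, 21762), (20092, 19636), (20093, 19638), (20094, 21729), (20095, 19556)]
    ⟨e3 q20032 L714998 q18144, e3 q20033 L715018 q18145, e3 q20034 L715030 q19292, e3 q20035 L715050 q19293, e3 q20036 (flp_j L732788) q21719, e3 q20037 (flp_j L732810) q21720, e3 q20038 (flp_j L732824) q21721, e3 q20039 L715098 q18151, e3 q20040 L715118 q18152, e3 q20041 L715130 q18153, e3 q20042 L715146 q18212, e3 q20043 L715164 q18196, e3 q20044 L715181 q19290, e3 q20045 L715190 q18820, e3 q20046 L715207 q18826, e3 q20047 L715217 q19315, e3 q20048 (flp_j L732920) q21727, e3 q20049 (flp_j L732934) q21728, e3 q20050 L715259 q18547, e3 q20051 L715274 q18574, e3 q20052 L715284 q18575, e3 q20053 (flp_j L732552) q21705, e3 q20054 (flp_j L732568) q21706, e3 q20055 L715329 q18162, e3 q20056 L715346 q19951, e3 q20057 L715357 q19644, e3 q20058 (flp_j L732584) q21707, e3 q20059 L715387 q18604, e3 q20060 L715404 q18507, e3 q20061 L715420 q19669, e3 q20062 L715442 q19685, e3 q20063 L715456 q19686, e3 q20064 L715476 q19563,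 e3 q20065 L715490 q19572, e3 q20066 L715511 q19675, e3 q20067 L715523 q19689, e3 q20068 L715545 q18675, e3 q20069 L715559 q19561, e3 q20070 L715573 q19564, e3 q20071 L715593 q18190, e3 q20072 L715615 q18191, e3 q20073 L715627 q19624, e3 q20074 (flp_j L733246) q21747, e3 q20075 (flp_j L733260) q21748, e3 q20076 L715675 q18195, e3 q20077 (flp_j L732967) q21730, e3 q20078 L715707 q19625, e3 q20079 L715721 q19628, e3 q20080 (flp_j L732988) q21731, e3 q20081 L715750 q19562, e3 q20082 (flp_j L732600) q21708, e3 q20083 L715779 q18204, e3 q20084 L715791 q18205, e3 q20085 L715809 q19277, e3 q20086 L715823 q19278, e3 q20087 L733405 q21758, e3 q20088 L715859 q19635, e3 q20089 (flp_j L733385) q21756, e3 q20090 (flp_j L715869) q18208, e3 q20091 (flp_j L733475) q21762, e3 q20092 L715907 q19636, e3 q20093 L715917 q19638, e3 q20094 (flp_j L732956) q21729, e3 q20095 L715949 q19556, trivial⟩ (by decide +kernel)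

theorem ce_j_314 : ∀ r, r < 64 → sm gj (Qf (20096 + r)) = Qf (tab Gen.j (20096 + r)) :=
  edges_tab (sm gj) Qf (tab Gen.j) 20096 [(20096, 18216), (20097, 21767), (20098, 21710), (20099, 21711), (20100, 18220), (20101, 19956), (20102, 19643), (20103, 19591), (20104, 19717), (20105, 21712), (20106, 18228), (20107, 18229), (20108, 19973), (20109, 21774), (20110, 21775), (20111, 18323), (20112, 18324), (20113, 18233), (20114, 18234), (20115, 18235), (20116, 21784), (20117, 21785), (20118, 21786), (20119, 21787), (20120, 21788), (20121, 18239), (20122, 18240), (20123, 18241), (20124, 18242), (20125, 21794), (20126, 21796), (20127, 21797), (20128, 20128), (20129, 20129), (20130, 19300), (20131, 19324), (20132, 18251), (20133, 18252), (20134, 18253), (20135, 18254), (20136, 18255), (20137, 19776), (20138, 19777), (20139, 19465), (20140, 21805), (20141, 21806), (20142, 21807), (20143, 21809), (20144, 21810), (20145, 18262), (20146, 18263), (20147, 18264), (20148, 19049), (20149, 18265), (20150, 18266), (20151, 19996), (20152, 21822),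 (20153, 21823), (20154, 21824), (20155, 21826), (20156, 21827), (20157, 20157), (20158, 20158), (20159, 20159)]
    ⟨e3 q20096 L715967 q18216, e3 q20097 (flp_j L733543) q21767, e3 q20098 (flp_j L732637) q21710, e3 q20099 (flp_j L732655) q21711, e3 q20100 L716015 q18220, e3 q20101 L716033 q19956, e3 q20102 L716044 q19643, e3 q20103 L716053 q19591, e3 q20104 L716066 q19717, e3 q20105 (flp_j L732673) q21712, e3 q20106 L716095 q18228, e3 q20107 L716113 q18229, e3 q20108 L716124 q19973, e3 q20109 (flp_j L733643) q21774, e3 q20110 (flp_j L733662) q21775, e3 q20111 L716161 q18323, e3 q20112 L716179 q18324, e3 q20113 L716191 q18233, e3 q20114 L716204 q18234, e3 q20115 L716218 q18235, e3 q20116 (flp_j L733783) q21784, e3 q20117 (flp_j L733802) q21785, e3 q20118 (flp_j L733812) q21786, e3 q20119 (flp_j L733826) q21787, e3 q20120 (flp_j L733836) q21788, e3 q20121 L716297 q18239, e3 q20122 L716308 q18240, e3 q20123 L716324 q18241, e3 q20124 L716333 q18242, e3 q20125 (flp_j L733918) q21794, e3 q20126 (flp_j L733947) q21796, e3 q20127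 (flp_j L733960) q21797, e3 q20128 L716388 q20128, e3 q20129 L716402 q20129, e3 q20130 L716418 q19300, e3 q20131 L716437 q19324, e3 q20132 L716449 q18251, e3 q20133 L716467 q18252, e3 q20134 L716475 q18253, e3 q20135 L716487 q18254, e3 q20136 L716497 q18255, e3 q20137 L716511 q19776, e3 q20138 L716531 q19777, e3 q20139 L716539 q19465, e3 q20140 (flp_j L734079) q21805, e3 q20141 (flp_j L734099) q21806, e3 q20142 (flp_j L734113) q21807, e3 q20143 (flp_j L734139) q21809, e3 q20144 (flp_j L734149) q21810, e3 q20145 L716610 q18262, e3 q20146 L716626 q18263, e3 q20147 L716637 q18264, e3 q20148 L716648 q19049, e3 q20149 L716660 q18265, e3 q20150 L716671 q18266, e3 q20151 L716685 q19996, e3 q20152 (flp_j L734309) q21822, e3 q20153 (flp_j L734322) q21823, e3 q20154 (flp_j L734333) q21824, e3 q20155 (flp_j L734360) q21826, e3 q20156 (flp_j L734369) q21827, e3 q20157 L716756 q20157, e3 q20158 L716773 q20158, e3 q20159 L716785 q20159, trivial⟩ (by decide +kernel)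

theorem ce_j_315 : ∀ r, r < 64 → sm gj (Qf (20160 + r)) = Qf (tab Gen.j (20160 + r)) :=
  edges_tab (sm gj) Qf (tab Gen.j) 20160 [(20160, 20160), (20161, 19059), (20162, 18274), (20163, 18275), (20164, 21838), (20165, 21839), (20166, 20166), (20167, 18283), (20168, 19260), (20169, 19228), (20170, 19930), (20171, 19434), (20172, 19466), (20173, 19527), (20174, 21843), (20175, 18287), (20176, 19999), (20177, 21852), (20178, 18896), (20179, 18702), (20180, 18300), (20181, 18301), (20182, 21854), (20183, 21855), (20184, 18304), (20185, 21858), (20186, 18645), (20187, 18646), (20188, 18309), (20189, 18310), (20190, 18311), (20191, 21862), (20192, 21863), (20193, 19668), (20194, 21864), (20195, 21865), (20196, 18314), (20197, 18317), (20198, 21871), (20199, 19707), (20200, 19952), (20201, 20201), (20202, 20202), (20203, 19708), (20204, 19953), (20205, 21782), (20206, 21783), (20207, 18328), (20208, 18329), (20209, 19887), (20210, 19975), (20211, 19672), (20212, 21879), (20213, 21880), (20214, 18334), (20215, 19977), (20216, 19710),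 (20217, 19954), (20218, 20218), (20219, 20219), (20220, 19377), (20221, 19378), (20222, 18344), (20223, 18345)]
    ⟨e3 q20160 L716796 q20160, e3 q20161 L716811 q19059, e3 q20162 L716824 q18274, e3 q20163 L716834 q18275, e3 q20164 (flp_j L734524) q21838, e3 q20165 (flp_j L734534) q21839, e3 q20166 L716867 q20166, e3 q20167 L716887 q18283, e3 q20168 L716899 q19260, e3 q20169 L716916 q19228, e3 q20170 L716930 q19930, e3 q20171 L716942 q19434, e3 q20172 L716956 q19466, e3 q20173 L716969 q19527, e3 q20174 (flp_j L734585) q21843, e3 q20175 L716990 q18287, e3 q20176 L717003 q19999, e3 q20177 (flp_j L734703) q21852, e3 q20178 L717033 q18896, e3 q20179 L717048 q18702, e3 q20180 L717067 q18300, e3 q20181 L717087 q18301, e3 q20182 (flp_j L734727) q21854, e3 q20183 (flp_j L734749) q21855, e3 q20184 L717134 q18304, e3 q20185 (flp_j L734794) q21858, e3 q20186 L717161 q18645, e3 q20187 L717177 q18646, e3 q20188 L717187 q18309, e3 q20189 L717200 q18310, e3 q20190 L717216 q18311, e3 q20191 (flp_j L734849) q21862, e3 q20192 (flp_j L734868)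 q21863, e3 q20193 L717255 q19668, e3 q20194 (flp_j L734882) q21864, e3 q20195 (flp_j L734892) q21865, e3 q20196 L717297 q18314, e3 q20197 L717308 q18317, e3 q20198 (flp_j L734980) q21871, e3 q20199 L717340 q19707, e3 q20200 L717354 q19952, e3 q20201 L717366 q20201, e3 q20202 L717382 q20202, e3 q20203 L717405 q19708, e3 q20204 L717416 q19953, e3 q20205 (flp_j L733750) q21782, e3 q20206 (flp_j L733771) q21783, e3 q20207 L717456 q18328, e3 q20208 L717472 q18329, e3 q20209 L717484 q19887, e3 q20210 L717503 q19975, e3 q20211 L717513 q19672, e3 q20212 (flp_j L735104) q21879, e3 q20213 (flp_j L735114) q21880, e3 q20214 L717550 q18334, e3 q20215 L717568 q19977, e3 q20216 L717585 q19710, e3 q20217 L717599 q19954, e3 q20218 L717611 q20218, e3 q20219 L717627 q20219, e3 q20220 L717643 q19377, e3 q20221 L717658 q19378, e3 q20222 L717672 q18344, e3 q20223 L717682 q18345, trivial⟩ (by decide +kernel)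

theorem ce_j_316 : ∀ r, r < 64 → sm gj (Qf (20224 + r)) = Qf (tab Gen.j (20224 + r)) :=
  edges_tab (sm gj) Qf (tab Gen.j) 20224 [(20224, 19888), (20225, 19976), (20226, 21895), (20227, 19673), (20228, 21892), (20229, 19978), (20230, 18348), (20231, 21899), (20232, 19711), (20233, 19955), (20234, 18353), (20235, 21902), (20236, 20236), (20237, 18357), (20238, 21904), (20239, 19712), (20240, 18361), (20241, 21907), (20242, 19980), (20243, 18368), (20244, 18369), (20245, 18370), (20246, 21909), (20247, 21910), (20248, 21911), (20249, 21912), (20250, 21913), (20251, 21914), (20252, 19435), (20253, 19436), (20254, 18376), (20255, 18377), (20256, 18378), (20257, 18379), (20258, 18380), (20259, 18381), (20260, 21927), (20261, 21928), (20262, 21929), (20263, 19798), (20264, 21930), (20265, 21931), (20266, 21944), (20267, 21933), (20268, 21934), (20269, 18387), (20270, 18390), (20271, 19946), (20272, 18392), (20273, 18393), (20274, 21948), (20275, 19806), (20276, 19967), (20277, 21949), (20278, 18391), (20279, 21956), (20280, 21951),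 (20281, 21952), (20282, 20282), (20283, 20283), (20284, 18398), (20285, 21960), (20286, 20286), (20287, 20287)]
    ⟨e3 q20224 L717702 q19888, e3 q20225 L717716 q19976, e3 q20226 L735329 q21895, e3 q20227 L717746 q19673, e3 q20228 (flp_j L735295) q21892, e3 q20229 L717764 q19978, e3 q20230 (flp_j L717772) q18348, e3 q20231 (flp_j L735397) q21899, e3 q20232 L717810 q19711, e3 q20233 L717818 q19955, e3 q20234 L717839 q18353, e3 q20235 (flp_j L735436) q21902, e3 q20236 L717863 q20236, e3 q20237 L717886 q18357, e3 q20238 (flp_j L735470) q21904, e3 q20239 L717909 q19712, e3 q20240 L717925 q18361, e3 q20241 (flp_j L735506) q21907, e3 q20242 L717951 q19980, e3 q20243 L717963 q18368, e3 q20244 L717974 q18369, e3 q20245 L717989 q18370, e3 q20246 (flp_j L735536) q21909, e3 q20247 (flp_j L735552) q21910, e3 q20248 (flp_j L735566) q21911, e3 q20249 (flp_j L735576) q21912, e3 q20250 (flp_j L735591) q21913, e3 q20251 (flp_j L735600) q21914, e3 q20252 L718057 q19435, e3 q20253 L718072 q19436, e3 q20254 L718079 q18376, e3 q20255 L718093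 q18377, e3 q20256 L718108 q18378, e3 q20257 L718118 q18379, e3 q20258 L718130 q18380, e3 q20259 L718138 q18381, e3 q20260 (flp_j L735744) q21927, e3 q20261 (flp_j L735763) q21928, e3 q20262 (flp_j L735773) q21929, e3 q20263 L718182 q19798, e3 q20264 (flp_j L735788) q21930, e3 q20265 (flp_j L735798) q21931, e3 q20266 L735960 q21944, e3 q20267 (flp_j L735828) q21933, e3 q20268 (flp_j L735836) q21934, e3 q20269 L718254 q18387, e3 q20270 L718265 q18390, e3 q20271 (flp_j L718281) q19946, e3 q20272 L718294 q18392, e3 q20273 L718307 q18393, e3 q20274 (flp_j L736023) q21948, e3 q20275 L718339 q19806, e3 q20276 L718353 q19967, e3 q20277 (flp_j L736032) q21949, e3 q20278 (flp_j L718366) q18391, e3 q20279 (flp_j L736136) q21956, e3 q20280 (flp_j L736061) q21951, e3 q20281 (flp_j L736072) q21952, e3 q20282 L718419 q20282, e3 q20283 L718433 q20283, e3 q20284 L718453 q18398, e3 q20285 (flp_j L736185) q21960, e3 q20286 L718477 q20286, e3 q20287 L718491 q20287, trivial⟩ (by decide +kernel)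

theorem ce_j_317 : ∀ r, r < 64 → sm gj (Qf (20288 + r)) = Qf (tab Gen.j (20288 + r)) :=
  edges_tab (sm gj) Qf (tab Gen.j) 20288 [(20288, 19467), (20289, 19468), (20290, 19469), (20291, 18409), (20292, 18410), (20293, 18411), (20294, 18414), (20295, 18415), (20296, 21971), (20297, 18417), (20298, 18418), (20299, 21965), (20300, 21966), (20301, 19338), (20302, 19795), (20303, 21967), (20304, 21968), (20305, 19262), (20306, 19340), (20307, 21985), (20308, 19799), (20309, 21969), (20310, 21970), (20311, 18416), (20312, 21990), (20313, 21973), (20314, 21974), (20315, 18425), (20316, 18428), (20317, 18432), (20318, 18422), (20319, 21997), (20320, 18435), (20321, 18436), (20322, 21994), (20323, 19805), (20324, 19966), (20325, 21995), (20326, 18429), (20327, 22004), (20328, 19807), (20329, 21996), (20330, 18434), (20331, 22007), (20332, 21999), (20333, 22000), (20334, 20334), (20335, 20335), (20336, 18441), (20337, 22012), (20338, 20338), (20339, 18445), (20340, 22014), (20341, 20341), (20342, 18449), (20343, 22015), (20344, 18454),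 (20345, 18455), (20346, 18453), (20347, 22020), (20348, 22017), (20349, 22018), (20350, 22019), (20351, 18457)]
    ⟨e3 q20288 L718503 q19467, e3 q20289 L718514 q19468, e3 q20290 L718523 q19469, e3 q20291 L718535 q18409, e3 q20292 L718547 q18410, e3 q20293 L718563 q18411, e3 q20294 L718577 q18414, e3 q20295 L718587 q18415, e3 q20296 L736316 q21971, e3 q20297 L718615 q18417, e3 q20298 L718623 q18418, e3 q20299 (flp_j L736246) q21965, e3 q20300 (flp_j L736268) q21966, e3 q20301 L718659 q19338, e3 q20302 L718677 q19795, e3 q20303 (flp_j L736282) q21967, e3 q20304 (flp_j L736292) q21968, e3 q20305 L718717 q19262, e3 q20306 L718733 q19340, e3 q20307 L736512 q21985, e3 q20308 L718763 q19799, e3 q20309 (flp_j L736304) q21969, e3 q20310 (flp_j L736312) q21970, e3 q20311 (flp_j L718781) q18416, e3 q20312 (flp_j L736576) q21990, e3 q20313 (flp_j L736358) q21973, e3 q20314 (flp_j L736364) q21974, e3 q20315 L718826 q18425, e3 q20316 L718837 q18428, e3 q20317 L718844 q18432, e3 q20318 (flp_j L718848) q18422, e3 q20319 (flp_j L736646)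 q21997, e3 q20320 L718886 q18435, e3 q20321 L718895 q18436, e3 q20322 (flp_j L736609) q21994, e3 q20323 L718927 q19805, e3 q20324 L718941 q19966, e3 q20325 (flp_j L736618) q21995, e3 q20326 (flp_j L718955) q18429, e3 q20327 (flp_j L736746) q22004, e3 q20328 L718993 q19807, e3 q20329 (flp_j L736627) q21996, e3 q20330 L719015 q18434, e3 q20331 (flp_j L736778) q22007, e3 q20332 (flp_j L736667) q21999, e3 q20333 (flp_j L736676) q22000, e3 q20334 L719051 q20334, e3 q20335 L719068 q20335, e3 q20336 L719090 q18441, e3 q20337 (flp_j L736831) q22012, e3 q20338 L719116 q20338, e3 q20339 L719130 q18445, e3 q20340 (flp_j L736858) q22014, e3 q20341 L719146 q20341, e3 q20342 L719168 q18449, e3 q20343 (flp_j L736877) q22015, e3 q20344 L719192 q18454, e3 q20345 L719200 q18455, e3 q20346 L719213 q18453, e3 q20347 (flp_j L736936) q22020, e3 q20348 (flp_j L736900) q22017, e3 q20349 (flp_j L736911) q22018, e3 q20350 (flp_j L736923) q22019, e3 q20351 L719255 q18457, trivial⟩ (by decide +kernel)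

theorem ce_j_318 : ∀ r, r < 64 → sm gj (Qf (20352 + r)) = Qf (tab Gen.j (20352 + r)) :=
  edges_tab (sm gj) Qf (tab Gen.j) 20352 [(20352, 22025), (20353, 18464), (20354, 18467), (20355, 18471), (20356, 19337), (20357, 19351), (20358, 22026), (20359, 18910), (20360, 19339), (20361, 19352), (20362, 22027), (20363, 19232), (20364, 19341), (20365, 19353), (20366, 22028), (20367, 18475), (20368, 18476), (20369, 18477), (20370, 22039), (20371, 22040), (20372, 20000), (20373, 18484), (20374, 18486), (20375, 19360), (20376, 18681), (20377, 18611), (20378, 18659), (20379, 18620), (20380, 18621), (20381, 18622), (20382, 18684), (20383, 18685), (20384, 18635), (20385, 18636), (20386, 18639), (20387, 18644), (20388, 19696), (20389, 18658), (20390, 18660), (20391, 18662), (20392, 18663), (20393, 19653), (20394, 18523), (20395, 18682), (20396, 18686), (20397, 18688), (20398, 18689), (20399, 18694), (20400, 18695), (20401, 18705), (20402, 18706), (20403, 18715), (20404, 19694), (20405, 18725), (20406, 18726), (20407, 18541), (20408, 18770),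 (20409, 22060), (20410, 18743), (20411, 18744), (20412, 18745), (20413, 18746), (20414, 21737), (20415, 18552)]
    ⟨e3 q20352 (flp_j L736986) q22025, e3 q20353 L719287 q18464, e3 q20354 L719299 q18467, e3 q20355 L719308 q18471, e3 q20356 L719321 q19337, e3 q20357 L719341 q19351, e3 q20358 (flp_j L737007) q22026, e3 q20359 L719368 q18910, e3 q20360 L719383 q19339, e3 q20361 L719397 q19352, e3 q20362 (flp_j L737016) q22027, e3 q20363 L719420 q19232, e3 q20364 L719432 q19341, e3 q20365 L719442 q19353, e3 q20366 (flp_j L737023) q22028, e3 q20367 L719463 q18475, e3 q20368 L719471 q18476, e3 q20369 L719479 q18477, e3 q20370 (flp_j L737165) q22039, e3 q20371 (flp_j L737176) q22040, e3 q20372 (flp_j L719515) q20000, e3 q20373 L719528 q18484, e3 q20374 L719539 q18486, e3 q20375 L719557 q19360, e3 q20376 L719578 q18681, e3 q20377 L719592 q18611, e3 q20378 L719614 q18659, e3 q20379 L719631 q18620, e3 q20380 L719648 q18621, e3 q20381 L719658 q18622, e3 q20382 L719680 q18684, e3 q20383 L719692 q18685, e3 q20384 L719708 q18635, e3 q20385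 L719724 q18636, e3 q20386 L719736 q18639, e3 q20387 L719753 q18644, e3 q20388 L719768 q19696, e3 q20389 L719789 q18658, e3 q20390 L719797 q18660, e3 q20391 L719816 q18662, e3 q20392 L719822 q18663, e3 q20393 L719838 q19653, e3 q20394 L719858 q18523, e3 q20395 L719874 q18682, e3 q20396 L719880 q18686, e3 q20397 L719898 q18688, e3 q20398 L719902 q18689, e3 q20399 L719918 q18694, e3 q20400 L719935 q18695, e3 q20401 L719952 q18705, e3 q20402 L719969 q18706, e3 q20403 L719984 q18715, e3 q20404 L720000 q19694, e3 q20405 L720017 q18725, e3 q20406 L720027 q18726, e3 q20407 L720047 q18541, e3 q20408 L720064 q18770, e3 q20409 (flp_j L737508) q22060, e3 q20410 L720089 q18743, e3 q20411 L720107 q18744, e3 q20412 L720117 q18745, e3 q20413 L720127 q18746, e3 q20414 (flp_j L733071) q21737, e3 q20415 L720151 q18552, trivial⟩ (by decide +kernel)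

theorem ce_j_319 : ∀ r, r < 64 → sm gj (Qf (20416 + r)) = Qf (tab Gen.j (20416 + r)) :=
  edges_tab (sm gj) Qf (tab Gen.j) 20416 [(20416, 19613), (20417, 18769), (20418, 19639), (20419, 18771), (20420, 18772), (20421, 18773), (20422, 18774), (20423, 18793), (20424, 18780), (20425, 18794), (20426, 18795), (20427, 19697), (20428, 18568), (20429, 19599), (20430, 19629), (20431, 18823), (20432, 18824), (20433, 18825), (20434, 18827), (20435, 18828), (20436, 21738), (20437, 19614), (20438, 19615), (20439, 19640), (20440, 18863), (20441, 18864), (20442, 18865), (20443, 18867), (20444, 18868), (20445, 18869), (20446, 19701), (20447, 18872), (20448, 18873), (20449, 18881), (20450, 18882), (20451, 18642), (20452, 18606), (20453, 18607), (20454, 22088), (20455, 22089), (20456, 18610), (20457, 22092), (20458, 18613), (20459, 18614), (20460, 18655), (20461, 22093), (20462, 22094), (20463, 18619), (20464, 18656), (20465, 18649), (20466, 18654), (20467, 22100), (20468, 22045), (20469, 22046), (20470, 18711), (20471, 18712), (20472, 18627),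 (20473, 18628), (20474, 18671), (20475, 18678), (20476, 18669), (20477, 22108), (20478, 22109), (20479, 18633)]
    ⟨e3 q20416 L720163 q19613, e3 q20417 L720181 q18769, e3 q20418 L720193 q19639, e3 q20419 L720201 q18771, e3 q20420 L720211 q18772, e3 q20421 L720219 q18773, e3 q20422 L720227 q18774, e3 q20423 L720243 q18793, e3 q20424 L720254 q18780, e3 q20425 L720268 q18794, e3 q20426 L720279 q18795, e3 q20427 L720291 q19697, e3 q20428 L720309 q18568, e3 q20429 L720323 q19599, e3 q20430 L720335 q19629, e3 q20431 L720353 q18823, e3 q20432 L720365 q18824, e3 q20433 L720373 q18825, e3 q20434 L720386 q18827, e3 q20435 L720392 q18828, e3 q20436 (flp_j L733089) q21738, e3 q20437 L720413 q19614, e3 q20438 L720421 q19615, e3 q20439 L720431 q19640, e3 q20440 L720447 q18863, e3 q20441 L720463 q18864, e3 q20442 L720475 q18865, e3 q20443 L720489 q18867, e3 q20444 L720493 q18868, e3 q20445 L720498 q18869, e3 q20446 L720508 q19701, e3 q20447 L720518 q18872, e3 q20448 L720526 q18873, e3 q20449 L720538 q18881, e3 q20450 L720551 q18882, e3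 q20451 L720567 q18642, e3 q20452 L720582 q18606, e3 q20453 L720599 q18607, e3 q20454 (flp_j L737869) q22088, e3 q20455 (flp_j L737889) q22089, e3 q20456 L720643 q18610, e3 q20457 (flp_j L737931) q22092, e3 q20458 L720665 q18613, e3 q20459 L720684 q18614, e3 q20460 L720696 q18655, e3 q20461 (flp_j L737945) q22093, e3 q20462 (flp_j L737967) q22094, e3 q20463 L720739 q18619, e3 q20464 L720754 q18656, e3 q20465 L720765 q18649, e3 q20466 L720784 q18654, e3 q20467 (flp_j L738054) q22100, e3 q20468 (flp_j L737259) q22045, e3 q20469 (flp_j L737277) q22046, e3 q20470 L720834 q18711, e3 q20471 L720854 q18712, e3 q20472 L720864 q18627, e3 q20473 L720880 q18628, e3 q20474 L720890 q18671, e3 q20475 L720908 q18678, e3 q20476 L720920 q18669, e3 q20477 (flp_j L738183) q22108, e3 q20478 (flp_j L738193) q22109, e3 q20479 L720956 q18633, trivial⟩ (by decide +kernel)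

theorem ce_j_320 : ∀ r, r < 64 → sm gj (Qf (20480 + r)) = Qf (tab Gen.j (20480 + r)) :=
  edges_tab (sm gj) Qf (tab Gen.j) 20480 [(20480, 18679), (20481, 18670), (20482, 18676), (20483, 21704), (20484, 22048), (20485, 22049), (20486, 18701), (20487, 18704), (20488, 18691), (20489, 18692), (20490, 21859), (20491, 21860), (20492, 21861), (20493, 18650), (20494, 18651), (20495, 19312), (20496, 22097), (20497, 22102), (20498, 22095), (20499, 22124), (20500, 22125), (20501, 18657), (20502, 19319), (20503, 22103), (20504, 18718), (20505, 22096), (20506, 22101), (20507, 22050), (20508, 22044), (20509, 22051), (20510, 18723), (20511, 22052), (20512, 22053), (20513, 19298), (20514, 19299), (20515, 18672), (20516, 18673), (20517, 19656), (20518, 19657), (20519, 18922), (20520, 22112), (20521, 22115), (20522, 19666), (20523, 22110), (20524, 22146), (20525, 21746), (20526, 22116), (20527, 19667), (20528, 22111), (20529, 22114), (20530, 21709), (20531, 22043), (20532, 22054), (20533, 18714), (20534, 22047), (20535, 22055), (20536, 19684),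 (20537, 22056), (20538, 22057), (20539, 19706), (20540, 22118), (20541, 18792), (20542, 19715), (20543, 19703)]
    ⟨e3 q20480 L720970 q18679, e3 q20481 L720986 q18670, e3 q20482 L720998 q18676, e3 q20483 (flp_j L732532) q21704, e3 q20484 (flp_j L737311) q22048, e3 q20485 (flp_j L737329) q22049, e3 q20486 L721056 q18701, e3 q20487 L721067 q18704, e3 q20488 L721088 q18691, e3 q20489 L721099 q18692, e3 q20490 (flp_j L734807) q21859, e3 q20491 (flp_j L734822) q21860, e3 q20492 (flp_j L734839) q21861, e3 q20493 L721145 q18650, e3 q20494 L721159 q18651, e3 q20495 L721168 q19312, e3 q20496 (flp_j L738010) q22097, e3 q20497 (flp_j L738089) q22102, e3 q20498 (flp_j L737979) q22095, e3 q20499 (flp_j L738393) q22124, e3 q20500 (flp_j L738403) q22125, e3 q20501 L721219 q18657, e3 q20502 L721234 q19319, e3 q20503 (flp_j L738103) q22103, e3 q20504 L721257 q18718, e3 q20505 (flp_j L737998) q22096, e3 q20506 (flp_j L738072) q22101, e3 q20507 (flp_j L737351) q22050, e3 q20508 (flp_j L737239) q22044, e3 q20509 (flp_j L737359) q22051, e3 q20510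 L721316 q18723, e3 q20511 (flp_j L737380) q22052, e3 q20512 (flp_j L737386) q22053, e3 q20513 L721347 q19298, e3 q20514 L721367 q19299, e3 q20515 L721375 q18672, e3 q20516 L721381 q18673, e3 q20517 L721393 q19656, e3 q20518 L721407 q19657, e3 q20519 L721417 q18922, e3 q20520 (flp_j L738241) q22112, e3 q20521 (flp_j L738279) q22115, e3 q20522 (flp_j L721453) q19666, e3 q20523 (flp_j L738211) q22110, e3 q20524 (flp_j L738666) q22146, e3 q20525 (flp_j L733224) q21746, e3 q20526 (flp_j L738289) q22116, e3 q20527 L721495 q19667, e3 q20528 (flp_j L738223) q22111, e3 q20529 (flp_j L738259) q22114, e3 q20530 (flp_j L732621) q21709, e3 q20531 (flp_j L737219) q22043, e3 q20532 (flp_j L737403) q22054, e3 q20533 L721557 q18714, e3 q20534 (flp_j L737295) q22047, e3 q20535 (flp_j L737421) q22055, e3 q20536 L721593 q19684, e3 q20537 (flp_j L737437) q22056, e3 q20538 (flp_j L737455) q22057, e3 q20539 L721635 q19706, e3 q20540 (flp_j L738322) q22118, e3 q20541 L721651 q18792, e3 q20542 L721666 q19715, e3 q20543 L721685 q19703, trivial⟩ (by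 decide +kernel)

theorem ce_j_321 : ∀ r, r < 64 → sm gj (Qf (20544 + r)) = Qf (tab Gen.j (20544 + r)) :=
  edges_tab (sm gj) Qf (tab Gen.j) 20544 [(20544, 18927), (20545, 18931), (20546, 22117), (20547, 19716), (20548, 18779), (20549, 19642), (20550, 22106), (20551, 22107), (20552, 22160), (20553, 18719), (20554, 18720), (20555, 18740), (20556, 22131), (20557, 22136), (20558, 22172), (20559, 22173), (20560, 18724), (20561, 18741), (20562, 22141), (20563, 22058), (20564, 22059), (20565, 18728), (20566, 18729), (20567, 19534), (20568, 22182), (20569, 22183), (20570, 18732), (20571, 18733), (20572, 18734), (20573, 18764), (20574, 22189), (20575, 22190), (20576, 22174), (20577, 22191), (20578, 22192), (20579, 18739), (20580, 18742), (20581, 18765), (20582, 18752), (20583, 18763), (20584, 22201), (20585, 22175), (20586, 22180), (20587, 22062), (20588, 22063), (20589, 22064), (20590, 22065), (20591, 19631), (20592, 19632), (20593, 18753), (20594, 18754), (20595, 18755), (20596, 18756), (20597, 18757), (20598, 18817), (20599, 22196),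 (20600, 22203), (20601, 22193), (20602, 22213), (20603, 22214), (20604, 22216), (20605, 22217), (20606, 18766), (20607, 18767)]
    ⟨e3 q20544 L721700 q18927, e3 q20545 L721714 q18931, e3 q20546 (flp_j L738307) q22117, e3 q20547 L721734 q19716, e3 q20548 L721751 q18779, e3 q20549 L721767 q19642, e3 q20550 (flp_j L738147) q22106, e3 q20551 (flp_j L738169) q22107, e3 q20552 (flp_j L738834) q22160, e3 q20553 L721818 q18719, e3 q20554 L721834 q18720, e3 q20555 L721843 q18740, e3 q20556 (flp_j L738487) q22131, e3 q20557 (flp_j L738537) q22136, e3 q20558 (flp_j L738995) q22172, e3 q20559 (flp_j L739005) q22173, e3 q20560 L721900 q18724, e3 q20561 L721915 q18741, e3 q20562 (flp_j L738596) q22141, e3 q20563 (flp_j L737477) q22058, e3 q20564 (flp_j L737487) q22059, e3 q20565 L721957 q18728, e3 q20566 L721975 q18729, e3 q20567 L721986 q19534, e3 q20568 (flp_j L739118) q22182, e3 q20569 (flp_j L739137) q22183, e3 q20570 L722022 q18732, e3 q20571 L722033 q18733, e3 q20572 L722045 q18734, e3 q20573 L722054 q18764, e3 q20574 (flp_j L739215)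 q22189, e3 q20575 (flp_j L739234) q22190, e3 q20576 (flp_j L739017) q22174, e3 q20577 (flp_j L739242) q22191, e3 q20578 (flp_j L739250) q22192, e3 q20579 L722122 q18739, e3 q20580 L722128 q18742, e3 q20581 L722145 q18765, e3 q20582 L722157 q18752, e3 q20583 L722177 q18763, e3 q20584 (flp_j L739366) q22201, e3 q20585 (flp_j L739036) q22175, e3 q20586 (flp_j L739095) q22180, e3 q20587 (flp_j L737546) q22062, e3 q20588 (flp_j L737564) q22063, e3 q20589 (flp_j L737576) q22064, e3 q20590 (flp_j L737585) q22065, e3 q20591 L722258 q19631, e3 q20592 L722270 q19632, e3 q20593 L722278 q18753, e3 q20594 L722290 q18754, e3 q20595 L722300 q18755, e3 q20596 L722312 q18756, e3 q20597 L722320 q18757, e3 q20598 L722332 q18817, e3 q20599 (flp_j L739306) q22196, e3 q20600 (flp_j L739400) q22203, e3 q20601 (flp_j L739264) q22193, e3 q20602 (flp_j L739519) q22213, e3 q20603 (flp_j L739529) q22214, e3 q20604 (flp_j L739561) q22216, e3 q20605 (flp_j L739569) q22217, e3 q20606 L722410 q18766, e3 q20607 L722422 q18767, trivial⟩ (by decide +kernel)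

theorem ce_j_322 : ∀ r, r < 64 → sm gj (Qf (20608 + r)) = Qf (tab Gen.j (20608 + r)) :=
  edges_tab (sm gj) Qf (tab Gen.j) 20608 [(20608, 18768), (20609, 18818), (20610, 22204), (20611, 22194), (20612, 22202), (20613, 22159), (20614, 22226), (20615, 22156), (20616, 22066), (20617, 22061), (20618, 22067), (20619, 22068), (20620, 22069), (20621, 22070), (20622, 19588), (20623, 18778), (20624, 22169), (20625, 18900), (20626, 18785), (20627, 18786), (20628, 18787), (20629, 19957), (20630, 22163), (20631, 19590), (20632, 19719), (20633, 18879), (20634, 22071), (20635, 22072), (20636, 18798), (20637, 18799), (20638, 18800), (20639, 21915), (20640, 22246), (20641, 22247), (20642, 22248), (20643, 22249), (20644, 22250), (20645, 19304), (20646, 19316), (20647, 18807), (20648, 18808), (20649, 18809), (20650, 18810), (20651, 18811), (20652, 19594), (20653, 19595), (20654, 22261), (20655, 22215), (20656, 22262), (20657, 22263), (20658, 21722), (20659, 22264), (20660, 22265), (20661, 18819), (20662, 18821), (20663, 18822), (20664, 19598),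 (20665, 22218), (20666, 22227), (20667, 22277), (20668, 21733), (20669, 22278), (20670, 22279), (20671, 22075)]
    ⟨e3 q20608 L722434 q18768, e3 q20609 L722450 q18818, e3 q20610 (flp_j L739414) q22204, e3 q20611 (flp_j L739283) q22194, e3 q20612 (flp_j L739382) q22202, e3 q20613 (flp_j L738814) q22159, e3 q20614 (flp_j L739659) q22226, e3 q20615 (flp_j L738782) q22156, e3 q20616 (flp_j L737604) q22066, e3 q20617 (flp_j L737528) q22061, e3 q20618 (flp_j L737616) q22067, e3 q20619 (flp_j L737626) q22068, e3 q20620 (flp_j L737639) q22069, e3 q20621 (flp_j L737651) q22070, e3 q20622 L722571 q19588, e3 q20623 L722584 q18778, e3 q20624 (flp_j L738950) q22169, e3 q20625 L722602 q18900, e3 q20626 L722621 q18785, e3 q20627 L722637 q18786, e3 q20628 L722648 q18787, e3 q20629 L722664 q19957, e3 q20630 (flp_j L738877) q22163, e3 q20631 L722686 q19590, e3 q20632 L722695 q19719, e3 q20633 L722706 q18879, e3 q20634 (flp_j L737665) q22071, e3 q20635 (flp_j L737683) q22072, e3 q20636 L722741 q18798, e3 q20637 L722752 q18799, e3 q20638 L722767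 q18800, e3 q20639 (flp_j L735612) q21915, e3 q20640 (flp_j L739899) q22246, e3 q20641 (flp_j L739913) q22247, e3 q20642 (flp_j L739921) q22248, e3 q20643 (flp_j L739936) q22249, e3 q20644 (flp_j L739945) q22250, e3 q20645 L722831 q19304, e3 q20646 L722847 q19316, e3 q20647 L722855 q18807, e3 q20648 L722868 q18808, e3 q20649 L722874 q18809, e3 q20650 L722884 q18810, e3 q20651 L722890 q18811, e3 q20652 L722904 q19594, e3 q20653 L722923 q19595, e3 q20654 (flp_j L740059) q22261, e3 q20655 (flp_j L739547) q22215, e3 q20656 (flp_j L740070) q22262, e3 q20657 (flp_j L740080) q22263, e3 q20658 (flp_j L732840) q21722, e3 q20659 (flp_j L740092) q22264, e3 q20660 (flp_j L740098) q22265, e3 q20661 L722992 q18819, e3 q20662 L723003 q18821, e3 q20663 L723013 q18822, e3 q20664 L723029 q19598, e3 q20665 (flp_j L739585) q22218, e3 q20666 (flp_j L739673) q22227, e3 q20667 (flp_j L740224) q22277, e3 q20668 (flp_j L733017) q21733, e3 q20669 (flp_j L740235) q22278, e3 q20670 (flp_j L740245) q22279, e3 q20671 (flp_j L737721) q22075, trivial⟩ (by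 decide +kernel)

theorem ce_j_323 : ∀ r, r < 64 → sm gj (Qf (20672 + r)) = Qf (tab Gen.j (20672 + r)) :=
  edges_tab (sm gj) Qf (tab Gen.j) 20672 [(20672, 22076), (20673, 22077), (20674, 21734), (20675, 22078), (20676, 22079), (20677, 19658), (20678, 19659), (20679, 19660), (20680, 18839), (20681, 18840), (20682, 18841), (20683, 18842), (20684, 18844), (20685, 18845), (20686, 19581), (20687, 19582), (20688, 19603), (20689, 19604), (20690, 19605), (20691, 19606), (20692, 22291), (20693, 22292), (20694, 22293), (20695, 21713), (20696, 22294), (20697, 22295), (20698, 22296), (20699, 18843), (20700, 22316), (20701, 22297), (20702, 22298), (20703, 18856), (20704, 18857), (20705, 18858), (20706, 18861), (20707, 18862), (20708, 19586), (20709, 19609), (20710, 19610), (20711, 19611), (20712, 21716), (20713, 22320), (20714, 22321), (20715, 22233), (20716, 18860), (20717, 22331), (20718, 22322), (20719, 22231), (20720, 22082), (20721, 22083), (20722, 21717), (20723, 22084), (20724, 22085), (20725, 22086), (20726, 22087), (20727, 18871),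 (20728, 19691), (20729, 18878), (20730, 19718), (20731, 22245), (20732, 22338), (20733, 22244), (20734, 19622), (20735, 18892)]
    ⟨e3 q20672 (flp_j L737736) q22076, e3 q20673 (flp_j L737744) q22077, e3 q20674 (flp_j L733029) q21734, e3 q20675 (flp_j L737757) q22078, e3 q20676 (flp_j L737766) q22079, e3 q20677 L723138 q19658, e3 q20678 L723148 q19659, e3 q20679 L723154 q19660, e3 q20680 L723160 q18839, e3 q20681 L723172 q18840, e3 q20682 L723184 q18841, e3 q20683 L723194 q18842, e3 q20684 L723206 q18844, e3 q20685 L723212 q18845, e3 q20686 L723222 q19581, e3 q20687 L723240 q19582, e3 q20688 L723248 q19603, e3 q20689 L723262 q19604, e3 q20690 L723278 q19605, e3 q20691 L723290 q19606, e3 q20692 (flp_j L740366) q22291, e3 q20693 (flp_j L740381) q22292, e3 q20694 (flp_j L740393) q22293, e3 q20695 (flp_j L732690) q21713, e3 q20696 (flp_j L740405) q22294, e3 q20697 (flp_j L740415) q22295, e3 q20698 (flp_j L740423) q22296, e3 q20699 (flp_j L723349) q18843, e3 q20700 (flp_j L740634) q22316, e3 q20701 (flp_j L740435) q22297, e3 q20702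 (flp_j L740439) q22298, e3 q20703 L723388 q18856, e3 q20704 L723400 q18857, e3 q20705 L723408 q18858, e3 q20706 L723418 q18861, e3 q20707 L723426 q18862, e3 q20708 L723440 q19586, e3 q20709 L723455 q19609, e3 q20710 L723469 q19610, e3 q20711 L723479 q19611, e3 q20712 (flp_j L732745) q21716, e3 q20713 (flp_j L740664) q22320, e3 q20714 (flp_j L740672) q22321, e3 q20715 (flp_j L739732) q22233, e3 q20716 L723517 q18860, e3 q20717 (flp_j L740761) q22331, e3 q20718 (flp_j L740681) q22322, e3 q20719 (flp_j L739712) q22231, e3 q20720 (flp_j L737801) q22082, e3 q20721 (flp_j L737816) q22083, e3 q20722 (flp_j L732759) q21717, e3 q20723 (flp_j L737828) q22084, e3 q20724 (flp_j L737837) q22085, e3 q20725 (flp_j L737844) q22086, e3 q20726 (flp_j L737853) q22087, e3 q20727 L723601 q18871, e3 q20728 L723609 q19691, e3 q20729 L723621 q18878, e3 q20730 L723630 q19718, e3 q20731 (flp_j L739888) q22245, e3 q20732 (flp_j L740823) q22338, e3 q20733 (flp_j L739877) q22244, e3 q20734 L723658 q19622, e3 q20735 L723675 q18892, trivial⟩ (by decide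 +kernel)

theorem ce_j_324 : ∀ r, r < 64 → sm gj (Qf (20736 + r)) = Qf (tab Gen.j (20736 + r)) :=
  edges_tab (sm gj) Qf (tab Gen.j) 20736 [(20736, 18893), (20737, 18894), (20738, 18895), (20739, 18935), (20740, 18982), (20741, 19589), (20742, 19618), (20743, 19619), (20744, 19620), (20745, 19621), (20746, 22343), (20747, 22344), (20748, 22345), (20749, 22346), (20750, 21846), (20751, 22239), (20752, 19234), (20753, 19721), (20754, 18911), (20755, 18912), (20756, 21978), (20757, 22031), (20758, 22358), (20759, 22359), (20760, 18915), (20761, 18916), (20762, 22363), (20763, 20763), (20764, 19722), (20765, 19723), (20766, 18923), (20767, 18924), (20768, 22149), (20769, 22367), (20770, 18928), (20771, 22166), (20772, 22370), (20773, 18932), (20774, 22167), (20775, 18936), (20776, 18937), (20777, 22299), (20778, 22347), (20779, 22373), (20780, 22374), (20781, 22375), (20782, 19729), (20783, 19730), (20784, 18942), (20785, 18943), (20786, 18944), (20787, 22383), (20788, 22384), (20789, 18948), (20790, 18949), (20791, 22387), (20792,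 22388), (20793, 19737), (20794, 19738), (20795, 19739), (20796, 19740), (20797, 19741), (20798, 18963), (20799, 18964)]
    ⟨e3 q20736 L723687 q18893, e3 q20737 L723698 q18894, e3 q20738 L723707 q18895, e3 q20739 L723719 q18935, e3 q20740 L723736 q18982, e3 q20741 L723748 q19589, e3 q20742 L723760 q19618, e3 q20743 L723774 q19619, e3 q20744 L723787 q19620, e3 q20745 L723798 q19621, e3 q20746 (flp_j L740876) q22343, e3 q20747 (flp_j L740885) q22344, e3 q20748 (flp_j L740892) q22345, e3 q20749 (flp_j L740899) q22346, e3 q20750 (flp_j L734632) q21846, e3 q20751 (flp_j L739822) q22239, e3 q20752 L723857 q19234, e3 q20753 L723875 q19721, e3 q20754 L723886 q18911, e3 q20755 L723900 q18912, e3 q20756 (flp_j L736426) q21978, e3 q20757 (flp_j L737074) q22031, e3 q20758 (flp_j L741027) q22358, e3 q20759 (flp_j L741037) q22359, e3 q20760 L723967 q18915, e3 q20761 L723976 q18916, e3 q20762 (flp_j L741096) q22363, e3 q20763 L724004 q20763, e3 q20764 L724020 q19722, e3 q20765 L724035 q19723, e3 q20766 L724045 q18923, e3 q20767 L724055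 q18924, e3 q20768 (flp_j L738706) q22149, e3 q20769 (flp_j L741150) q22367, e3 q20770 L724092 q18928, e3 q20771 (flp_j L738916) q22166, e3 q20772 (flp_j L741181) q22370, e3 q20773 L724123 q18932, e3 q20774 (flp_j L738928) q22167, e3 q20775 L724141 q18936, e3 q20776 L724152 q18937, e3 q20777 (flp_j L740453) q22299, e3 q20778 (flp_j L740915) q22347, e3 q20779 (flp_j L741216) q22373, e3 q20780 (flp_j L741227) q22374, e3 q20781 (flp_j L741234) q22375, e3 q20782 L724209 q19729, e3 q20783 L724224 q19730, e3 q20784 L724232 q18942, e3 q20785 L724246 q18943, e3 q20786 L724256 q18944, e3 q20787 (flp_j L741328) q22383, e3 q20788 (flp_j L741338) q22384, e3 q20789 L724293 q18948, e3 q20790 L724304 q18949, e3 q20791 (flp_j L741372) q22387, e3 q20792 (flp_j L741381) q22388, e3 q20793 L724341 q19737, e3 q20794 L724360 q19738, e3 q20795 L724368 q19739, e3 q20796 L724377 q19740, e3 q20797 L724384 q19741, e3 q20798 L724402 q18963, e3 q20799 L724414 q18964, trivial⟩ (by decide +kernel)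

theorem ce_j_325 : ∀ r, r < 64 → sm gj (Qf (20800 + r)) = Qf (tab Gen.j (20800 + r)) :=
  edges_tab (sm gj) Qf (tab Gen.j) 20800 [(20800, 18966), (20801, 18967), (20802, 19778), (20803, 19779), (20804, 19733), (20805, 19727), (20806, 22394), (20807, 18965), (20808, 22401), (20809, 22395), (20810, 22396), (20811, 18976), (20812, 18977), (20813, 19728), (20814, 18975), (20815, 22406), (20816, 22405), (20817, 19998), (20818, 18979), (20819, 22410), (20820, 22348), (20821, 18987), (20822, 18986), (20823, 22413), (20824, 19944), (20825, 22412), (20826, 18990), (20827, 19736), (20828, 18995), (20829, 18996), (20830, 22416), (20831, 22417), (20832, 18998), (20833, 19748), (20834, 19766), (20835, 19004), (20836, 19005), (20837, 19006), (20838, 19007), (20839, 22380), (20840, 22421), (20841, 22422), (20842, 22423), (20843, 19010), (20844, 22428), (20845, 19015), (20846, 19016), (20847, 19480), (20848, 19535), (20849, 22429), (20850, 22430), (20851, 22431), (20852, 19751), (20853, 19774), (20854, 19021), (20855, 19022), (20856, 19023),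 (20857, 22441), (20858, 22442), (20859, 21795), (20860, 19027), (20861, 19028), (20862, 22446), (20863, 22447)]
    ⟨e3 q20800 L724428 q18966, e3 q20801 L724434 q18967, e3 q20802 L724450 q19778, e3 q20803 L724462 q19779, e3 q20804 L724482 q19733, e3 q20805 L724498 q19727, e3 q20806 (flp_j L741465) q22394, e3 q20807 (flp_j L724512) q18965, e3 q20808 (flp_j L741555) q22401, e3 q20809 (flp_j L741477) q22395, e3 q20810 (flp_j L741481) q22396, e3 q20811 L724552 q18976, e3 q20812 L724557 q18977, e3 q20813 L724575 q19728, e3 q20814 L724591 q18975, e3 q20815 (flp_j L741595) q22406, e3 q20816 (flp_j L741581) q22405, e3 q20817 L724613 q19998, e3 q20818 L724630 q18979, e3 q20819 (flp_j L741632) q22410, e3 q20820 (flp_j L740930) q22348, e3 q20821 L724656 q18987, e3 q20822 L724673 q18986, e3 q20823 (flp_j L741663) q22413, e3 q20824 L724689 q19944, e3 q20825 (flp_j L741650) q22412, e3 q20826 L724706 q18990, e3 q20827 L724719 q19736, e3 q20828 L724733 q18995, e3 q20829 L724751 q18996, e3 q20830 (flp_j L741694) q22416, e3 q20831 (flp_j L741706)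 q22417, e3 q20832 L724780 q18998, e3 q20833 L724792 q19748, e3 q20834 L724805 q19766, e3 q20835 L724813 q19004, e3 q20836 L724826 q19005, e3 q20837 L724834 q19006, e3 q20838 L724842 q19007, e3 q20839 (flp_j L741286) q22380, e3 q20840 (flp_j L741751) q22421, e3 q20841 (flp_j L741761) q22422, e3 q20842 (flp_j L741771) q22423, e3 q20843 L724884 q19010, e3 q20844 (flp_j L741808) q22428, e3 q20845 L724903 q19015, e3 q20846 L724920 q19016, e3 q20847 L724932 q19480, e3 q20848 L724949 q19535, e3 q20849 (flp_j L741823) q22429, e3 q20850 (flp_j L741840) q22430, e3 q20851 (flp_j L741853) q22431, e3 q20852 L724987 q19751, e3 q20853 L725006 q19774, e3 q20854 L725014 q19021, e3 q20855 L725028 q19022, e3 q20856 L725038 q19023, e3 q20857 (flp_j L741984) q22441, e3 q20858 (flp_j L741994) q22442, e3 q20859 (flp_j L733934) q21795, e3 q20860 L725085 q19027, e3 q20861 L725096 q19028, e3 q20862 (flp_j L742038) q22446, e3 q20863 (flp_j L742047) q22447, trivial⟩ (by decide +kernel)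

theorem ce_j_326 : ∀ r, r < 64 → sm gj (Qf (20864 + r)) = Qf (tab Gen.j (20864 + r)) :=
  edges_tab (sm gj) Qf (tab Gen.j) 20864 [(20864, 20864), (20865, 19783), (20866, 19784), (20867, 19785), (20868, 19786), (20869, 19787), (20870, 19040), (20871, 19041), (20872, 19042), (20873, 19043), (20874, 21808), (20875, 19044), (20876, 19045), (20877, 19833), (20878, 19889), (20879, 19927), (20880, 22455), (20881, 19828), (20882, 22456), (20883, 22458), (20884, 22459), (20885, 22461), (20886, 22462), (20887, 21776), (20888, 19053), (20889, 19054), (20890, 21825), (20891, 19055), (20892, 19056), (20893, 22475), (20894, 22476), (20895, 22478), (20896, 22479), (20897, 20897), (20898, 21837), (20899, 19062), (20900, 19063), (20901, 22485), (20902, 22486), (20903, 19221), (20904, 19074), (20905, 19259), (20906, 19258), (20907, 19941), (20908, 19948), (20909, 19947), (20910, 22488), (20911, 19448), (20912, 19459), (20913, 19080), (20914, 19081), (20915, 19082), (20916, 19083), (20917, 19084), (20918, 19085), (20919, 19416), (20920, 22495),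 (20921, 22496), (20922, 19478), (20923, 22497), (20924, 22498), (20925, 22499), (20926, 21924), (20927, 22501)]
    ⟨e3 q20864 L725127 q20864, e3 q20865 L725143 q19783, e3 q20866 L725160 q19784, e3 q20867 L725166 q19785, e3 q20868 L725177 q19786, e3 q20869 L725186 q19787, e3 q20870 L725194 q19040, e3 q20871 L725208 q19041, e3 q20872 L725224 q19042, e3 q20873 L725236 q19043, e3 q20874 (flp_j L734127) q21808, e3 q20875 L725256 q19044, e3 q20876 L725264 q19045, e3 q20877 L725272 q19833, e3 q20878 L725286 q19889, e3 q20879 L725296 q19927, e3 q20880 (flp_j L742149) q22455, e3 q20881 L725319 q19828, e3 q20882 (flp_j L742164) q22456, e3 q20883 (flp_j L742190) q22458, e3 q20884 (flp_j L742202) q22459, e3 q20885 (flp_j L742222) q22461, e3 q20886 (flp_j L742228) q22462, e3 q20887 (flp_j L733670) q21776, e3 q20888 L725392 q19053, e3 q20889 L725405 q19054, e3 q20890 (flp_j L734350) q21825, e3 q20891 L725424 q19055, e3 q20892 L725431 q19056, e3 q20893 (flp_j L742370) q22475, e3 q20894 (flp_j L742381) q22476, e3 q20895 (flp_j L742401)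 q22478, e3 q20896 (flp_j L742412) q22479, e3 q20897 L725478 q20897, e3 q20898 (flp_j L734513) q21837, e3 q20899 L725499 q19062, e3 q20900 L725509 q19063, e3 q20901 (flp_j L742466) q22485, e3 q20902 (flp_j L742474) q22486, e3 q20903 L725540 q19221, e3 q20904 L725553 q19074, e3 q20905 L725564 q19259, e3 q20906 L725580 q19258, e3 q20907 L725589 q19941, e3 q20908 L725605 q19948, e3 q20909 L725618 q19947, e3 q20910 (flp_j L742491) q22488, e3 q20911 L725637 q19448, e3 q20912 L725655 q19459, e3 q20913 L725664 q19080, e3 q20914 L725674 q19081, e3 q20915 L725687 q19082, e3 q20916 L725693 q19083, e3 q20917 L725702 q19084, e3 q20918 L725707 q19085, e3 q20919 L725716 q19416, e3 q20920 (flp_j L742586) q22495, e3 q20921 (flp_j L742603) q22496, e3 q20922 L725741 q19478, e3 q20923 (flp_j L742615) q22497, e3 q20924 (flp_j L742630) q22498, e3 q20925 (flp_j L742639) q22499, e3 q20926 (flp_j L735708) q21924, e3 q20927 (flp_j L742657) q22501, trivial⟩ (by decide +kernel)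

theorem ce_j_327 : ∀ r, r < 64 → sm gj (Qf (20928 + r)) = Qf (tab Gen.j (20928 + r)) :=
  edges_tab (sm gj) Qf (tab Gen.j) 20928 [(20928, 22502), (20929, 19815), (20930, 19816), (20931, 19817), (20932, 19818), (20933, 19819), (20934, 19095), (20935, 19096), (20936, 19098), (20937, 19099), (20938, 19100), (20939, 22529), (20940, 19102), (20941, 19103), (20942, 19793), (20943, 22524), (20944, 22525), (20945, 19877), (20946, 19826), (20947, 19878), (20948, 22505), (20949, 22527), (20950, 22528), (20951, 19101), (20952, 22542), (20953, 22531), (20954, 22532), (20955, 19111), (20956, 19938), (20957, 19113), (20958, 19114), (20959, 19108), (20960, 22549), (20961, 19117), (20962, 19118), (20963, 19112), (20964, 22553), (20965, 22547), (20966, 22548), (20967, 19116), (20968, 22556), (20969, 22551), (20970, 22552), (20971, 19120), (20972, 22561), (20973, 19124), (20974, 22562), (20975, 20975), (20976, 20976), (20977, 19261), (20978, 19226), (20979, 19257), (20980, 19860), (20981, 19861), (20982, 19862), (20983, 22195), (20984, 19864),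 (20985, 19865), (20986, 19143), (20987, 19144), (20988, 19145), (20989, 19146), (20990, 19147), (20991, 19148)]
    ⟨e3 q20928 (flp_j L742663) q22502, e3 q20929 L725799 q19815, e3 q20930 L725816 q19816, e3 q20931 L725820 q19817, e3 q20932 L725831 q19818, e3 q20933 L725838 q19819, e3 q20934 L725848 q19095, e3 q20935 L725864 q19096, e3 q20936 L725874 q19098, e3 q20937 L725890 q19099, e3 q20938 L725900 q19100, e3 q20939 L742958 q22529, e3 q20940 L725918 q19102, e3 q20941 L725924 q19103, e3 q20942 L725936 q19793, e3 q20943 (flp_j L742898) q22524, e3 q20944 (flp_j L742908) q22525, e3 q20945 L725966 q19877, e3 q20946 L725978 q19826, e3 q20947 L725992 q19878, e3 q20948 (flp_j L742698) q22505, e3 q20949 (flp_j L742944) q22527, e3 q20950 (flp_j L742954) q22528, e3 q20951 (flp_j L726030) q19101, e3 q20952 (flp_j L743108) q22542, e3 q20953 (flp_j L742982) q22531, e3 q20954 (flp_j L742988) q22532, e3 q20955 L726067 q19111, e3 q20956 (flp_j L726086) q19938, e3 q20957 L726098 q19113, e3 q20958 L726109 q19114, e3 q20959 (flp_j L726113)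 q19108, e3 q20960 (flp_j L743184) q22549, e3 q20961 L726135 q19117, e3 q20962 L726142 q19118, e3 q20963 (flp_j L726147) q19112, e3 q20964 (flp_j L743228) q22553, e3 q20965 (flp_j L743155) q22547, e3 q20966 (flp_j L743164) q22548, e3 q20967 L726206 q19116, e3 q20968 (flp_j L743260) q22556, e3 q20969 (flp_j L743197) q22551, e3 q20970 (flp_j L743207) q22552, e3 q20971 L726247 q19120, e3 q20972 (flp_j L743311) q22561, e3 q20973 L726268 q19124, e3 q20974 (flp_j L743318) q22562, e3 q20975 L726285 q20975, e3 q20976 L726301 q20976, e3 q20977 L726315 q19261, e3 q20978 L726330 q19226, e3 q20979 L726338 q19257, e3 q20980 L726348 q19860, e3 q20981 L726359 q19861, e3 q20982 L726368 q19862, e3 q20983 (flp_j L739291) q22195, e3 q20984 L726380 q19864, e3 q20985 L726388 q19865, e3 q20986 L726398 q19143, e3 q20987 L726416 q19144, e3 q20988 L726426 q19145, e3 q20989 L726440 q19146, e3 q20990 L726450 q19147, e3 q20991 L726458 q19148, trivial⟩ (by decide +kernel)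

theorem ce_j_328 : ∀ r, r < 64 → sm gj (Qf (20992 + r)) = Qf (tab Gen.j (20992 + r)) :=
  edges_tab (sm gj) Qf (tab Gen.j) 20992 [(20992, 19149), (20993, 19150), (20994, 19151), (20995, 22586), (20996, 19153), (20997, 19154), (20998, 19155), (20999, 19140), (21000, 22591), (21001, 19158), (21002, 19159), (21003, 22574), (21004, 22575), (21005, 22576), (21006, 22577), (21007, 22510), (21008, 22578), (21009, 22579), (21010, 22580), (21011, 22603), (21012, 22582), (21013, 22583), (21014, 22584), (21015, 22585), (21016, 19152), (21017, 22610), (21018, 22588), (21019, 22589), (21020, 22590), (21021, 19157), (21022, 22616), (21023, 22593), (21024, 22594), (21025, 19172), (21026, 19174), (21027, 19175), (21028, 19176), (21029, 19164), (21030, 22623), (21031, 19179), (21032, 19180), (21033, 19181), (21034, 19169), (21035, 22628), (21036, 19184), (21037, 19185), (21038, 19173), (21039, 22633), (21040, 22621), (21041, 22622), (21042, 19178), (21043, 22636), (21044, 22625), (21045, 22626), (21046, 22627), (21047, 22035), (21048, 19183),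 (21049, 22641), (21050, 22630), (21051, 22631), (21052, 22632), (21053, 19187), (21054, 22647), (21055, 19191)]
    ⟨e3 q20992 L726464 q19149, e3 q20993 L726477 q19150, e3 q20994 L726487 q19151, e3 q20995 L743596 q22586, e3 q20996 L726503 q19153, e3 q20997 L726511 q19154, e3 q20998 L726519 q19155, e3 q20999 (flp_j L726527) q19140, e3 q21000 (flp_j L743648) q22591, e3 q21001 L726545 q19158, e3 q21002 L726549 q19159, e3 q21003 (flp_j L743458) q22574, e3 q21004 (flp_j L743470) q22575, e3 q21005 (flp_j L743484) q22576, e3 q21006 (flp_j L743505) q22577, e3 q21007 (flp_j L742762) q22510, e3 q21008 (flp_j L743517) q22578, e3 q21009 (flp_j L743525) q22579, e3 q21010 (flp_j L743535) q22580, e3 q21011 L743740 q22603, e3 q21012 (flp_j L743563) q22582, e3 q21013 (flp_j L743574) q22583, e3 q21014 (flp_j L743588) q22584, e3 q21015 (flp_j L743594) q22585, e3 q21016 (flp_j L726657) q19152, e3 q21017 (flp_j L743799) q22610, e3 q21018 (flp_j L743624) q22588, e3 q21019 (flp_j L743628) q22589, e3 q21020 (flp_j L743636) q22590, e3 q21021 L726705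 q19157, e3 q21022 (flp_j L743849) q22616, e3 q21023 (flp_j L743660) q22593, e3 q21024 (flp_j L743664) q22594, e3 q21025 L726730 q19172, e3 q21026 L726743 q19174, e3 q21027 L726754 q19175, e3 q21028 L726761 q19176, e3 q21029 (flp_j L726767) q19164, e3 q21030 (flp_j L743897) q22623, e3 q21031 L726793 q19179, e3 q21032 L726798 q19180, e3 q21033 L726808 q19181, e3 q21034 L726821 q19169, e3 q21035 (flp_j L743944) q22628, e3 q21036 L726832 q19184, e3 q21037 L726841 q19185, e3 q21038 (flp_j L726845) q19173, e3 q21039 (flp_j L743989) q22633, e3 q21040 (flp_j L743877) q22621, e3 q21041 (flp_j L743884) q22622, e3 q21042 L726893 q19178, e3 q21043 (flp_j L744018) q22636, e3 q21044 (flp_j L743910) q22625, e3 q21045 (flp_j L743916) q22626, e3 q21046 (flp_j L743932) q22627, e3 q21047 (flp_j L737118) q22035, e3 q21048 L726946 q19183, e3 q21049 (flp_j L744054) q22641, e3 q21050 (flp_j L743957) q22630, e3 q21051 (flp_j L743963) q22631, e3 q21052 (flp_j L743972) q22632, e3 q21053 L726984 q19187, e3 q21054 (flp_j L744111) q22647, e3 q21055 L727007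 q19191, trivial⟩ (by decide +kernel)

theorem ce_j_329 : ∀ r, r < 64 → sm gj (Qf (21056 + r)) = Qf (tab Gen.j (21056 + r)) :=
  edges_tab (sm gj) Qf (tab Gen.j) 21056 [(21056, 22648), (21057, 21057), (21058, 19196), (21059, 22650), (21060, 21060), (21061, 19200), (21062, 22651), (21063, 19205), (21064, 19206), (21065, 19207), (21066, 19204), (21067, 22657), (21068, 22658), (21069, 22654), (21070, 22655), (21071, 22656), (21072, 19209), (21073, 19223), (21074, 19222), (21075, 19224), (21076, 19225), (21077, 19227), (21078, 22570), (21079, 22566), (21080, 22663), (21081, 22565), (21082, 21845), (21083, 22564), (21084, 21983), (21085, 19536), (21086, 19243), (21087, 19246), (21088, 19417), (21089, 19415), (21090, 22670), (21091, 19479), (21092, 19533), (21093, 22671), (21094, 19794), (21095, 19827), (21096, 19879), (21097, 22489), (21098, 21844), (21099, 21938), (21100, 21811), (21101, 21939), (21102, 19318), (21103, 19320), (21104, 19321), (21105, 19284), (21106, 19285), (21107, 21757), (21108, 19596), (21109, 19597), (21110,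 19626), (21111, 22685), (21112, 19627), (21113, 19680), (21114, 21732), (21115, 21723), (21116, 21724), (21117, 19302), (21118, 19303), (21119, 19306)]
    ⟨e3 q21056 (flp_j L744118) q22648, e3 q21057 L727018 q21057, e3 q21058 L727025 q19196, e3 q21059 (flp_j L744135) q22650, e3 q21060 L727049 q21060, e3 q21061 L727062 q19200, e3 q21062 (flp_j L744146) q22651, e3 q21063 L727075 q19205, e3 q21064 L727081 q19206, e3 q21065 L727090 q19207, e3 q21066 L727097 q19204, e3 q21067 (flp_j L744195) q22657, e3 q21068 (flp_j L744203) q22658, e3 q21069 (flp_j L744166) q22654, e3 q21070 (flp_j L744173) q22655, e3 q21071 (flp_j L744186) q22656, e3 q21072 L727145 q19209, e3 q21073 L727161 q19223, e3 q21074 L727172 q19222, e3 q21075 L727189 q19224, e3 q21076 L727194 q19225, e3 q21077 L727202 q19227, e3 q21078 (flp_j L743418) q22570, e3 q21079 (flp_j L743375) q22566, e3 q21080 (flp_j L744253) q22663, e3 q21081 (flp_j L743361) q22565, e3 q21082 (flp_j L734617) q21845, e3 q21083 (flp_j L743350) q22564, e3 q21084 (flp_j L736496) q21983, e3 q21085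 L727291 q19536, e3 q21086 L727306 q19243, e3 q21087 L727317 q19246, e3 q21088 L727332 q19417, e3 q21089 L727347 q19415, e3 q21090 (flp_j L744342) q22670, e3 q21091 L727370 q19479, e3 q21092 L727384 q19533, e3 q21093 (flp_j L744350) q22671, e3 q21094 L727405 q19794, e3 q21095 L727417 q19827, e3 q21096 L727427 q19879, e3 q21097 (flp_j L742508) q22489, e3 q21098 (flp_j L734601) q21844, e3 q21099 (flp_j L735893) q21938, e3 q21100 (flp_j L734161) q21811, e3 q21101 (flp_j L735914) q21939, e3 q21102 L727497 q19318, e3 q21103 L727511 q19320, e3 q21104 L727519 q19321, e3 q21105 L727536 q19284, e3 q21106 L727546 q19285, e3 q21107 (flp_j L733401) q21757, e3 q21108 L727574 q19596, e3 q21109 L727584 q19597, e3 q21110 L727602 q19626, e3 q21111 (flp_j L744522) q22685, e3 q21112 L727618 q19627, e3 q21113 L727632 q19680, e3 q21114 (flp_j L733000) q21732, e3 q21115 (flp_j L732862) q21723, e3 q21116 (flp_j L732876) q21724, e3 q21117 L727678 q19302, e3 q21118 L727686 q19303, e3 q21119 L727698 q19306, trivial⟩ (by decide +kernel)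

theorem ce_j_330 : ∀ r, r < 64 → sm gj (Qf (21120 + r)) = Qf (tab Gen.j (21120 + r)) :=
  edges_tab (sm gj) Qf (tab Gen.j) 21120 [(21120, 19645), (21121, 22144), (21122, 22145), (21123, 19647), (21124, 21803), (21125, 22126), (21126, 19648), (21127, 22692), (21128, 22259), (21129, 19650), (21130, 22693), (21131, 19311), (21132, 19646), (21133, 19651), (21134, 22127), (21135, 19649), (21136, 19652), (21137, 22260), (21138, 22683), (21139, 22134), (21140, 22684), (21141, 19323), (21142, 21804), (21143, 19368), (21144, 19369), (21145, 19370), (21146, 19371), (21147, 19332), (21148, 19333), (21149, 22712), (21150, 19342), (21151, 21975), (21152, 22029), (21153, 21979), (21154, 22032), (21155, 21984), (21156, 22036), (21157, 22714), (21158, 19346), (21159, 19347), (21160, 19348), (21161, 22722), (21162, 22723), (21163, 22030), (21164, 22033), (21165, 22037), (21166, 19357), (21167, 19358), (21168, 19359), (21169, 22726), (21170, 19365), (21171, 19366), (21172, 22727), (21173, 22682), (21174, 22709), (21175, 22710), (21176, 22711),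 (21177, 19374), (21178, 22733), (21179, 19950), (21180, 19886), (21181, 19974), (21182, 21889), (21183, 21890)]
    ⟨e3 q21120 L727710 q19645, e3 q21121 (flp_j L738644) q22144, e3 q21122 (flp_j L738656) q22145, e3 q21123 L727750 q19647, e3 q21124 (flp_j L734052) q21803, e3 q21125 (flp_j L738419) q22126, e3 q21126 L727791 q19648, e3 q21127 (flp_j L744604) q22692, e3 q21128 (flp_j L740033) q22259, e3 q21129 L727817 q19650, e3 q21130 (flp_j L744614) q22693, e3 q21131 L727837 q19311, e3 q21132 L727850 q19646, e3 q21133 L727862 q19651, e3 q21134 (flp_j L738438) q22127, e3 q21135 L727881 q19649, e3 q21136 L727889 q19652, e3 q21137 (flp_j L740043) q22260, e3 q21138 (flp_j L744492) q22683, e3 q21139 (flp_j L738511) q22134, e3 q21140 (flp_j L744505) q22684, e3 q21141 L727930 q19323, e3 q21142 (flp_j L734065) q21804, e3 q21143 L727953 q19368, e3 q21144 L727968 q19369, e3 q21145 L727982 q19370, e3 q21146 L727992 q19371, e3 q21147 L728010 q19332, e3 q21148 L728020 q19333, e3 q21149 (flp_j L744826) q22712, e3 q21150 L728048 q19342, e3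 q21151 (flp_j L736376) q21975, e3 q21152 (flp_j L737042) q22029, e3 q21153 (flp_j L736444) q21979, e3 q21154 (flp_j L737086) q22032, e3 q21155 (flp_j L736510) q21984, e3 q21156 (flp_j L737130) q22036, e3 q21157 (flp_j L744850) q22714, e3 q21158 L728139 q19346, e3 q21159 L728150 q19347, e3 q21160 L728157 q19348, e3 q21161 (flp_j L744933) q22722, e3 q21162 (flp_j L744942) q22723, e3 q21163 (flp_j L737058) q22030, e3 q21164 (flp_j L737096) q22033, e3 q21165 (flp_j L737144) q22037, e3 q21166 L728223 q19357, e3 q21167 L728231 q19358, e3 q21168 L728243 q19359, e3 q21169 (flp_j L744970) q22726, e3 q21170 L728269 q19365, e3 q21171 L728279 q19366, e3 q21172 (flp_j L744983) q22727, e3 q21173 (flp_j L744483) q22682, e3 q21174 (flp_j L744788) q22709, e3 q21175 (flp_j L744798) q22710, e3 q21176 (flp_j L744812) q22711, e3 q21177 L728335 q19374, e3 q21178 (flp_j L745038) q22733, e3 q21179 L728357 q19950, e3 q21180 L728369 q19886, e3 q21181 L728384 q19974, e3 q21182 (flp_j L735253) q21889, e3 q21183 (flp_j L735270) q21890, trivial⟩ (by decide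 +kernel)

theorem ce_j_331 : ∀ r, r < 64 → sm gj (Qf (21184 + r)) = Qf (tab Gen.j (21184 + r)) :=
  edges_tab (sm gj) Qf (tab Gen.j) 21184 [(21184, 21891), (21185, 19385), (21186, 19386), (21187, 19387), (21188, 19388), (21189, 19389), (21190, 19390), (21191, 19391), (21192, 19392), (21193, 22503), (21194, 22740), (21195, 22741), (21196, 22742), (21197, 22743), (21198, 22744), (21199, 22745), (21200, 22746), (21201, 22747), (21202, 22748), (21203, 19399), (21204, 19400), (21205, 19401), (21206, 19402), (21207, 19403), (21208, 22759), (21209, 22760), (21210, 22761), (21211, 22762), (21212, 21212), (21213, 19970), (21214, 19979), (21215, 19418), (21216, 19419), (21217, 19420), (21218, 19421), (21219, 22673), (21220, 22504), (21221, 22672), (21222, 22768), (21223, 22769), (21224, 22770), (21225, 22771), (21226, 19425), (21227, 19426), (21228, 19427), (21229, 22778), (21230, 22779), (21231, 19507), (21232, 19829), (21233, 19847), (21234, 19832), (21235, 19836), (21236, 19851), (21237, 19840), (21238, 21815), (21239, 21848), (21240,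 21925), (21241, 21926), (21242, 19442), (21243, 19443), (21244, 19444), (21245, 19446), (21246, 19447), (21247, 19450)]
    ⟨e3 q21184 (flp_j L735281) q21891, e3 q21185 L728412 q19385, e3 q21186 L728422 q19386, e3 q21187 L728430 q19387, e3 q21188 L728442 q19388, e3 q21189 L728456 q19389, e3 q21190 L728466 q19390, e3 q21191 L728480 q19391, e3 q21192 L728488 q19392, e3 q21193 (flp_j L742673) q22503, e3 q21194 (flp_j L745116) q22740, e3 q21195 (flp_j L745124) q22741, e3 q21196 (flp_j L745134) q22742, e3 q21197 (flp_j L745149) q22743, e3 q21198 (flp_j L745161) q22744, e3 q21199 (flp_j L745171) q22745, e3 q21200 (flp_j L745179) q22746, e3 q21201 (flp_j L745195) q22747, e3 q21202 (flp_j L745203) q22748, e3 q21203 L728586 q19399, e3 q21204 L728597 q19400, e3 q21205 L728608 q19401, e3 q21206 L728617 q19402, e3 q21207 L728631 q19403, e3 q21208 (flp_j L745301) q22759, e3 q21209 (flp_j L745313) q22760, e3 q21210 (flp_j L745322) q22761, e3 q21211 (flp_j L745336) q22762, e3 q21212 L728678 q21212, e3 q21213 L728695 q19970, e3 q21214 L728708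 q19979, e3 q21215 L728718 q19418, e3 q21216 L728732 q19419, e3 q21217 L728745 q19420, e3 q21218 L728754 q19421, e3 q21219 (flp_j L744381) q22673, e3 q21220 (flp_j L742688) q22504, e3 q21221 (flp_j L744365) q22672, e3 q21222 (flp_j L745400) q22768, e3 q21223 (flp_j L745412) q22769, e3 q21224 (flp_j L745421) q22770, e3 q21225 (flp_j L745432) q22771, e3 q21226 L728833 q19425, e3 q21227 L728841 q19426, e3 q21228 L728851 q19427, e3 q21229 (flp_j L745493) q22778, e3 q21230 (flp_j L745504) q22779, e3 q21231 L728880 q19507, e3 q21232 L728892 q19829, e3 q21233 L728907 q19847, e3 q21234 L728913 q19832, e3 q21235 L728926 q19836, e3 q21236 L728934 q19851, e3 q21237 L728946 q19840, e3 q21238 (flp_j L734224) q21815, e3 q21239 (flp_j L734660) q21848, e3 q21240 (flp_j L735723) q21925, e3 q21241 (flp_j L735732) q21926, e3 q21242 L728991 q19442, e3 q21243 L729006 q19443, e3 q21244 L729012 q19444, e3 q21245 L729025 q19446, e3 q21246 L729033 q19447, e3 q21247 L729045 q19450, trivial⟩ (by decide +kernel)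

theorem ce_j_332 : ∀ r, r < 64 → sm gj (Qf (21248 + r)) = Qf (tab Gen.j (21248 + r)) :=
  edges_tab (sm gj) Qf (tab Gen.j) 21248 [(21248, 22792), (21249, 19809), (21250, 22793), (21251, 22794), (21252, 19811), (21253, 22795), (21254, 22796), (21255, 19812), (21256, 22797), (21257, 22798), (21258, 22493), (21259, 19814), (21260, 22799), (21261, 19455), (21262, 19458), (21263, 19810), (21264, 19997), (21265, 22813), (21266, 19813), (21267, 22494), (21268, 19464), (21269, 21814), (21270, 21816), (21271, 21849), (21272, 21963), (21273, 21964), (21274, 19481), (21275, 19482), (21276, 19483), (21277, 19484), (21278, 19485), (21279, 19486), (21280, 19488), (21281, 19489), (21282, 19490), (21283, 19493), (21284, 19494), (21285, 22509), (21286, 22511), (21287, 22675), (21288, 22432), (21289, 22184), (21290, 22433), (21291, 22535), (21292, 22820), (21293, 22821), (21294, 22822), (21295, 22450), (21296, 22823), (21297, 22824), (21298, 22825), (21299, 22826), (21300, 19487), (21301, 22846), (21302, 22827), (21303, 22828), (21304, 22829),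 (21305, 19492), (21306, 22852), (21307, 22830), (21308, 22831), (21309, 19504), (21310, 19505), (21311, 19506)]
    ⟨e3 q21248 (flp_j L745638) q22792, e3 q21249 L729062 q19809, e3 q21250 (flp_j L745651) q22793, e3 q21251 (flp_j L745661) q22794, e3 q21252 L729094 q19811, e3 q21253 (flp_j L745672) q22795, e3 q21254 (flp_j L745685) q22796, e3 q21255 L729116 q19812, e3 q21256 (flp_j L745695) q22797, e3 q21257 (flp_j L745703) q22798, e3 q21258 (flp_j L742562) q22493, e3 q21259 L729153 q19814, e3 q21260 (flp_j L745714) q22799, e3 q21261 L729172 q19455, e3 q21262 L729179 q19458, e3 q21263 L729198 q19810, e3 q21264 L729212 q19997, e3 q21265 (flp_j L745836) q22813, e3 q21266 L729231 q19813, e3 q21267 (flp_j L742574) q22494, e3 q21268 L729254 q19464, e3 q21269 (flp_j L734209) q21814, e3 q21270 (flp_j L734238) q21816, e3 q21271 (flp_j L734671) q21849, e3 q21272 (flp_j L736224) q21963, e3 q21273 (flp_j L736234) q21964, e3 q21274 L729299 q19481, e3 q21275 L729313 q19482, e3 q21276 L729323 q19483, e3 q21277 L729331 q19484, e3 q21278 L729338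 q19485, e3 q21279 L729346 q19486, e3 q21280 L729356 q19488, e3 q21281 L729364 q19489, e3 q21282 L729370 q19490, e3 q21283 L729382 q19493, e3 q21284 L729390 q19494, e3 q21285 (flp_j L742742) q22509, e3 q21286 (flp_j L742776) q22511, e3 q21287 (flp_j L744402) q22675, e3 q21288 (flp_j L741867) q22432, e3 q21289 (flp_j L739149) q22184, e3 q21290 (flp_j L741884) q22433, e3 q21291 (flp_j L743028) q22535, e3 q21292 (flp_j L745906) q22820, e3 q21293 (flp_j L745916) q22821, e3 q21294 (flp_j L745924) q22822, e3 q21295 (flp_j L742086) q22450, e3 q21296 (flp_j L745937) q22823, e3 q21297 (flp_j L745950) q22824, e3 q21298 (flp_j L745956) q22825, e3 q21299 (flp_j L745962) q22826, e3 q21300 (flp_j L729514) q19487, e3 q21301 (flp_j L746118) q22846, e3 q21302 (flp_j L745972) q22827, e3 q21303 (flp_j L745978) q22828, e3 q21304 (flp_j L745982) q22829, e3 q21305 L729548 q19492, e3 q21306 (flp_j L746152) q22852, e3 q21307 (flp_j L745992) q22830, e3 q21308 (flp_j L746000) q22831, e3 q21309 L729575 q19504, e3 q21310 L729591 q19505, e3 q21311 L729600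 q19506, trivial⟩ (by decide +kernel)

theorem ce_j_333 : ∀ r, r < 64 → sm gj (Qf (21312 + r)) = Qf (tab Gen.j (21312 + r)) :=
  edges_tab (sm gj) Qf (tab Gen.j) 21312 [(21312, 19508), (21313, 19509), (21314, 19510), (21315, 19513), (21316, 19514), (21317, 19515), (21318, 22856), (21319, 22857), (21320, 22781), (21321, 22858), (21322, 22859), (21323, 19512), (21324, 22866), (21325, 22860), (21326, 22861), (21327, 19517), (21328, 21328), (21329, 19520), (21330, 22869), (21331, 19524), (21332, 22870), (21333, 21850), (21334, 19537), (21335, 19538), (21336, 19539), (21337, 19540), (21338, 19541), (21339, 22185), (21340, 22434), (21341, 22669), (21342, 22872), (21343, 22873), (21344, 22874), (21345, 22875), (21346, 22876), (21347, 19545), (21348, 19587), (21349, 19592), (21350, 19593), (21351, 19600), (21352, 19616), (21353, 19617), (21354, 19623), (21355, 19630), (21356, 19641), (21357, 19654), (21358, 19655), (21359, 19698), (21360, 21755), (21361, 21744), (21362, 19695), (21363, 19699), (21364, 19702), (21365, 19607), (21366,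 19612), (21367, 19583), (21368, 19584), (21369, 22300), (21370, 22301), (21371, 22889), (21372, 21765), (21373, 22884), (21374, 22238), (21375, 21771)]
    ⟨e3 q21312 L729611 q19508, e3 q21313 L729622 q19509, e3 q21314 L729631 q19510, e3 q21315 L729643 q19513, e3 q21316 L729650 q19514, e3 q21317 L729658 q19515, e3 q21318 (flp_j L746179) q22856, e3 q21319 (flp_j L746192) q22857, e3 q21320 (flp_j L745528) q22781, e3 q21321 (flp_j L746204) q22858, e3 q21322 (flp_j L746213) q22859, e3 q21323 L729724 q19512, e3 q21324 (flp_j L746285) q22866, e3 q21325 (flp_j L746222) q22860, e3 q21326 (flp_j L746229) q22861, e3 q21327 L729749 q19517, e3 q21328 L729759 q21328, e3 q21329 L729775 q19520, e3 q21330 (flp_j L746308) q22869, e3 q21331 L729796 q19524, e3 q21332 (flp_j L746315) q22870, e3 q21333 (flp_j L734680) q21850, e3 q21334 L729817 q19537, e3 q21335 L729826 q19538, e3 q21336 L729831 q19539, e3 q21337 L729836 q19540, e3 q21338 L729841 q19541, e3 q21339 (flp_j L739165) q22185, e3 q21340 (flp_j L741897) q22434, e3 q21341 (flp_j L744325)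 q22669, e3 q21342 (flp_j L746331) q22872, e3 q21343 (flp_j L746337) q22873, e3 q21344 (flp_j L746344) q22874, e3 q21345 (flp_j L746350) q22875, e3 q21346 (flp_j L746357) q22876, e3 q21347 L729889 q19545, e3 q21348 L729896 q19587, e3 q21349 L729910 q19592, e3 q21350 L729919 q19593, e3 q21351 L729925 q19600, e3 q21352 L729934 q19616, e3 q21353 L729941 q19617, e3 q21354 L729950 q19623, e3 q21355 L729957 q19630, e3 q21356 L729966 q19641, e3 q21357 L729974 q19654, e3 q21358 L729981 q19655, e3 q21359 L729990 q19698, e3 q21360 (flp_j L733364) q21755, e3 q21361 (flp_j L733184) q21744, e3 q21362 L730011 q19695, e3 q21363 L730019 q19699, e3 q21364 L730025 q19702, e3 q21365 L730041 q19607, e3 q21366 L730051 q19612, e3 q21367 L730069 q19583, e3 q21368 L730079 q19584, e3 q21369 (flp_j L740471) q22300, e3 q21370 (flp_j L740483) q22301, e3 q21371 (flp_j L746462) q22889, e3 q21372 (flp_j L733507) q21765, e3 q21373 (flp_j L746410) q22884, e3 q21374 (flp_j L739813) q22238, e3 q21375 (flp_j L733602) q21771, trivial⟩ (by decide +kernel)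

theorem ce_j_334 : ∀ r, r < 64 → sm gj (Qf (21376 + r)) = Qf (tab Gen.j (21376 + r)) :=
  edges_tab (sm gj) Qf (tab Gen.j) 21376 [(21376, 21773), (21377, 21741), (21378, 22266), (21379, 22267), (21380, 22268), (21381, 22687), (21382, 22280), (21383, 22073), (21384, 22885), (21385, 19608), (21386, 22302), (21387, 22303), (21388, 22304), (21389, 22305), (21390, 22306), (21391, 22307), (21392, 22888), (21393, 22903), (21394, 22323), (21395, 22324), (21396, 22325), (21397, 22081), (21398, 22886), (21399, 22887), (21400, 22349), (21401, 22350), (21402, 22351), (21403, 22352), (21404, 22339), (21405, 22243), (21406, 19863), (21407, 21749), (21408, 21752), (21409, 22688), (21410, 21753), (21411, 22074), (21412, 22211), (21413, 22212), (21414, 19637), (21415, 21760), (21416, 21764), (21417, 22927), (21418, 21736), (21419, 21772), (21420, 21740), (21421, 22694), (21422, 22704), (21423, 21876), (21424, 22696), (21425, 22699), (21426, 22707), (21427, 22702), (21428, 22705), (21429, 22288), (21430, 22080), (21431, 22147), (21432, 22148),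 (21433, 22289), (21434, 22290), (21435, 19670), (21436, 19671), (21437, 19676), (21438, 19677), (21439, 19681)]
    ⟨e3 q21376 (flp_j L733626) q21773, e3 q21377 (flp_j L733132) q21741, e3 q21378 (flp_j L740112) q22266, e3 q21379 (flp_j L740131) q22267, e3 q21380 (flp_j L740145) q22268, e3 q21381 (flp_j L744548) q22687, e3 q21382 (flp_j L740258) q22280, e3 q21383 (flp_j L737695) q22073, e3 q21384 (flp_j L746418) q22885, e3 q21385 L730215 q19608, e3 q21386 (flp_j L740497) q22302, e3 q21387 (flp_j L740510) q22303, e3 q21388 (flp_j L740524) q22304, e3 q21389 (flp_j L740538) q22305, e3 q21390 (flp_j L740550) q22306, e3 q21391 (flp_j L740560) q22307, e3 q21392 (flp_j L746448) q22888, e3 q21393 (flp_j L746574) q22903, e3 q21394 (flp_j L740695) q22323, e3 q21395 (flp_j L740707) q22324, e3 q21396 (flp_j L740722) q22325, e3 q21397 (flp_j L737790) q22081, e3 q21398 (flp_j L746425) q22886, e3 q21399 (flp_j L746434) q22887, e3 q21400 (flp_j L740943) q22349, e3 q21401 (flp_j L740954) q22350, e3 q21402 (flp_j L740963) q22351, e3 q21403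 (flp_j L740976) q22352, e3 q21404 (flp_j L740834) q22339, e3 q21405 (flp_j L739859) q22243, e3 q21406 L730351 q19863, e3 q21407 (flp_j L733282) q21749, e3 q21408 (flp_j L733323) q21752, e3 q21409 (flp_j L744562) q22688, e3 q21410 (flp_j L733335) q21753, e3 q21411 (flp_j L737706) q22074, e3 q21412 (flp_j L739501) q22211, e3 q21413 (flp_j L739509) q22212, e3 q21414 L730418 q19637, e3 q21415 (flp_j L733451) q21760, e3 q21416 (flp_j L733497) q21764, e3 q21417 (flp_j L746748) q22927, e3 q21418 (flp_j L733053) q21736, e3 q21419 (flp_j L733613) q21772, e3 q21420 (flp_j L733121) q21740, e3 q21421 (flp_j L744632) q22694, e3 q21422 (flp_j L744735) q22704, e3 q21423 (flp_j L735058) q21876, e3 q21424 (flp_j L744659) q22696, e3 q21425 (flp_j L744695) q22699, e3 q21426 (flp_j L744764) q22707, e3 q21427 (flp_j L744717) q22702, e3 q21428 (flp_j L744745) q22705, e3 q21429 (flp_j L740335) q22288, e3 q21430 (flp_j L737777) q22080, e3 q21431 (flp_j L738678) q22147, e3 q21432 (flp_j L738690) q22148, e3 q21433 (flp_j L740348) q22289, e3 q21434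 (flp_j L740356) q22290, e3 q21435 L730560 q19670, e3 q21436 L730568 q19671, e3 q21437 L730576 q19676, e3 q21438 L730582 q19677, e3 q21439 L730588 q19681, trivial⟩ (by decide +kernel)

theorem ce_j_335 : ∀ r, r < 64 → sm gj (Qf (21440 + r)) = Qf (tab Gen.j (21440 + r)) :=
  edges_tab (sm gj) Qf (tab Gen.j) 21440 [(21440, 22152), (21441, 22157), (21442, 21869), (21443, 21742), (21444, 22946), (21445, 22947), (21446, 21884), (21447, 21897), (21448, 21714), (21449, 21745), (21450, 22948), (21451, 22949), (21452, 19679), (21453, 22964), (21454, 22690), (21455, 22950), (21456, 19687), (21457, 22161), (21458, 21743), (21459, 22155), (21460, 21768), (21461, 21715), (21462, 19693), (21463, 22332), (21464, 22228), (21465, 22165), (21466, 19709), (21467, 19713), (21468, 22162), (21469, 21873), (21470, 21875), (21471, 22971), (21472, 21887), (21473, 21901), (21474, 21906), (21475, 22340), (21476, 21770), (21477, 22241), (21478, 22176), (21479, 22365), (21480, 22366), (21481, 19726), (21482, 22981), (21483, 22399), (21484, 22381), (21485,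 22382), (21486, 19734), (21487, 22398), (21488, 22985), (21489, 21866), (21490, 22390), (21491, 22391), (21492, 22128), (21493, 22392), (21494, 22393), (21495, 19752), (21496, 19753), (21497, 19754), (21498, 19755), (21499, 19756), (21500, 19757), (21501, 19758), (21502, 22419), (21503, 19759)]
    ⟨e3 q21440 (flp_j L738740) q22152, e3 q21441 (flp_j L738798) q22157, e3 q21442 (flp_j L734957) q21869, e3 q21443 (flp_j L733154) q21742, e3 q21444 (flp_j L746867) q22946, e3 q21445 (flp_j L746875) q22947, e3 q21446 (flp_j L735183) q21884, e3 q21447 (flp_j L735373) q21897, e3 q21448 (flp_j L732712) q21714, e3 q21449 (flp_j L733206) q21745, e3 q21450 (flp_j L746881) q22948, e3 q21451 (flp_j L746885) q22949, e3 q21452 L730674 q19679, e3 q21453 (flp_j L746975) q22964, e3 q21454 (flp_j L744580) q22690, e3 q21455 (flp_j L746891) q22950, e3 q21456 L730696 q19687, e3 q21457 (flp_j L738846) q22161, e3 q21458 (flp_j L733168) q21743, e3 q21459 (flp_j L738764) q22155, e3 q21460 (flp_j L733555) q21768, e3 q21461 (flp_j L732726) q21715, e3 q21462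 L730740 q19693, e3 q21463 (flp_j L740771) q22332, e3 q21464 (flp_j L739683) q22228, e3 q21465 (flp_j L738901) q22165, e3 q21466 L730767 q19709, e3 q21467 L730772 q19713, e3 q21468 (flp_j L738864) q22162, e3 q21469 (flp_j L735011) q21873, e3 q21470 (flp_j L735043) q21875, e3 q21471 (flp_j L747016) q22971, e3 q21472 (flp_j L735224) q21887, e3 q21473 (flp_j L735419) q21901, e3 q21474 (flp_j L735492) q21906, e3 q21475 (flp_j L740844) q22340, e3 q21476 (flp_j L733589) q21770, e3 q21477 (flp_j L739843) q22241, e3 q21478 (flp_j L739046) q22176, e3 q21479 (flp_j L741125) q22365, e3 q21480 (flp_j L741136) q22366, e3 q21481 L730866 q19726, e3 q21482 (flp_j L747081) q22981, e3 q21483 (flp_j L741529) q22399, e3 q21484 (flp_j L741301) q22381, e3 q21485 (flp_j L741312) q22382, e3 q21486 L730897 q19734, e3 q21487 (flp_j L741513) q22398, e3 q21488 (flp_j L747107) q22985, e3 q21489 (flp_j L734906) q21866, e3 q21490 (flp_j L741415) q22390, e3 q21491 (flp_j L741428) q22391, e3 q21492 (flp_j L738448) q22128, e3 q21493 (flp_j L741443) q22392,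 e3 q21494 (flp_j L741451) q22393, e3 q21495 L730963 q19752, e3 q21496 L730973 q19753, e3 q21497 L730981 q19754, e3 q21498 L730987 q19755, e3 q21499 L730996 q19756, e3 q21500 L731006 q19757, e3 q21501 L731014 q19758, e3 q21502 (flp_j L741730) q22419, e3 q21503 L731032 q19759, trivial⟩ (by decide +kernel)

theorem ce_j_336 : ∀ r, r < 64 → sm gj (Qf (21504 + r)) = Qf (tab Gen.j (21504 + r)) :=
  edges_tab (sm gj) Qf (tab Gen.j) 21504 [(21504, 19760), (21505, 22437), (21506, 22438), (21507, 22993), (21508, 22994), (21509, 22995), (21510, 22996), (21511, 22997), (21512, 22998), (21513, 23000), (21514, 23001), (21515, 19768), (21516, 19769), (21517, 19770), (21518, 19771), (21519, 22420), (21520, 23012), (21521, 23013), (21522, 23014), (21523, 19775), (21524, 22439), (21525, 21812), (21526, 21813), (21527, 22397), (21528, 19782), (21529, 23020), (21530, 22451), (21531, 22452), (21532, 22453), (21533, 22454), (21534, 19796), (21535, 19797), (21536, 19800), (21537, 19801), (21538, 22533), (21539, 22677), (21540, 21980), (21541, 23025),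 (21542, 21941), (21543, 21987), (21544, 23026), (21545, 23027), (21546, 19804), (21547, 22002), (21548, 21954), (21549, 19882), (21550, 19912), (21551, 22526), (21552, 22801), (21553, 22814), (21554, 22463), (21555, 22804), (21556, 22807), (21557, 22408), (21558, 22811), (21559, 21935), (21560, 22519), (21561, 22520), (21562, 22522), (21563, 22523), (21564, 19830), (21565, 19831), (21566, 19834), (21567, 19837)]
    ⟨e3 q21504 L731036 q19760, e3 q21505 (flp_j L741926) q22437, e3 q21506 (flp_j L741945) q22438, e3 q21507 (flp_j L747172) q22993, e3 q21508 (flp_j L747180) q22994, e3 q21509 (flp_j L747189) q22995, e3 q21510 (flp_j L747195) q22996, e3 q21511 (flp_j L747205) q22997, e3 q21512 (flp_j L747209) q22998, e3 q21513 (flp_j L747227) q23000, e3 q21514 (flp_j L747233) q23001, e3 q21515 L731119 q19768, e3 q21516 L731130 q19769, e3 q21517 L731138 q19770, e3 q21518 L731143 q19771, e3 q21519 (flp_j L741739) q22420, e3 q21520 (flp_j L747305) q23012, e3 q21521 (flp_j L747312) q23013, e3 q21522 (flp_j L747319) q23014, e3 q21523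 L731178 q19775, e3 q21524 (flp_j L741958) q22439, e3 q21525 (flp_j L734181) q21812, e3 q21526 (flp_j L734195) q21813, e3 q21527 (flp_j L741497) q22397, e3 q21528 L731219 q19782, e3 q21529 (flp_j L747358) q23020, e3 q21530 (flp_j L742103) q22451, e3 q21531 (flp_j L742116) q22452, e3 q21532 (flp_j L742129) q22453, e3 q21533 (flp_j L742139) q22454, e3 q21534 L731269 q19796, e3 q21535 L731277 q19797, e3 q21536 L731287 q19800, e3 q21537 L731293 q19801, e3 q21538 (flp_j L743004) q22533, e3 q21539 (flp_j L744419) q22677, e3 q21540 (flp_j L736462) q21980, e3 q21541 (flp_j L747397) q23025, e3 q21542 (flp_j L735939) q21941, e3 q21543 (flp_j L736556) q21987, e3 q21544 (flp_j L747403) q23026, e3 q21545 (flp_j L747409) q23027, e3 q21546 L731352 q19804, e3 q21547 (flp_j L736710) q22002, e3 q21548 (flp_j L736104) q21954, e3 q21549 L731376 q19882, e3 q21550 L731388 q19912, e3 q21551 (flp_j L742930) q22526, e3 q21552 (flp_j L745741) q22801, e3 q21553 (flp_j L745855) q22814, e3 q21554 (flp_j L742238) q22463, e3 q21555 (flp_j L745772) q22804,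 e3 q21556 (flp_j L745790) q22807, e3 q21557 (flp_j L741611) q22408, e3 q21558 (flp_j L745821) q22811, e3 q21559 (flp_j L735850) q21935, e3 q21560 (flp_j L742843) q22519, e3 q21561 (flp_j L742854) q22520, e3 q21562 (flp_j L742876) q22522, e3 q21563 (flp_j L742884) q22523, e3 q21564 L731481 q19830, e3 q21565 L731489 q19831, e3 q21566 L731501 q19834, e3 q21567 L731509 q19837, trivial⟩ (by decide +kernel)

theorem ce_j_337 : ∀ r, r < 64 → sm gj (Qf (21568 + r)) = Qf (tab Gen.j (21568 + r)) :=
  edges_tab (sm gj) Qf (tab Gen.j) 21568 [(21568, 19841), (21569, 22537), (21570, 22678), (21571, 21932), (21572, 22466), (21573, 22468), (21574, 22782), (21575, 23049), (21576, 22506), (21577, 21881), (21578, 22784), (21579, 22464), (21580, 23050), (21581, 19835), (21582, 23065), (21583, 22785), (21584, 23051), (21585, 19839), (21586, 23069), (21587, 22787), (21588, 23052), (21589, 19846), (21590, 19848), (21591, 19852), (21592, 22783), (21593, 23073), (21594, 19850), (21595, 23076), (21596, 22786), (21597, 19854), (21598, 21598), (21599,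 19857), (21600, 23079), (21601, 22568), (21602, 22569), (21603, 22922), (21604, 22572), (21605, 22573), (21606, 19883), (21607, 19884), (21608, 19890), (21609, 19893), (21610, 19894), (21611, 19895), (21612, 19874), (21613, 23092), (21614, 19898), (21615, 19899), (21616, 22536), (21617, 22538), (21618, 22734), (21619, 19928), (21620, 23035), (21621, 23085), (21622, 23086), (21623, 21777), (21624, 22736), (21625, 21882), (21626, 21893), (21627, 22465), (21628, 23087), (21629, 19892), (21630, 23108), (21631, 23088)]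
    ⟨e3 q21568 L731515 q19841, e3 q21569 (flp_j L743054) q22537, e3 q21570 (flp_j L744431) q22678, e3 q21571 L735814 q21932, e3 q21572 (flp_j L742279) q22466, e3 q21573 (flp_j L742304) q22468, e3 q21574 (flp_j L745540) q22782, e3 q21575 (flp_j L747551) q23049, e3 q21576 (flp_j L742714) q22506, e3 q21577 (flp_j L735130) q21881, e3 q21578 (flp_j L745563) q22784, e3 q21579 (flp_j L742256) q22464, e3 q21580 (flp_j L747559) q23050, e3 q21581 (flp_j L731597) q19835, e3 q21582 (flp_j L747660) q23065, e3 q21583 (flp_j L745573) q22785, e3 q21584 (flp_j L747563) q23051, e3 q21585 L731631 q19839, e3 q21586 (flp_j L747688) q23069, e3 q21587 (flp_j L745592) q22787, e3 q21588 (flp_j L747569) q23052, e3 q21589 L731656 q19846, e3 q21590 L731671 q19848, e3 q21591 L731678 q19852, e3 q21592 (flp_j L745550) q22783, e3 q21593 (flp_j L747713) q23073, e3 q21594 L731707 q19850, e3 q21595 (flp_j L747744) q23076, e3 q21596 (flp_j L745581) q22786, e3 q21597 L731730 q19854, e3 q21598 L731738 q21598, e3 q21599 L731747 q19857, e3 q21600 (flp_j L747765)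 q23079, e3 q21601 (flp_j L743397) q22568, e3 q21602 (flp_j L743407) q22569, e3 q21603 (flp_j L746709) q22922, e3 q21604 (flp_j L743438) q22572, e3 q21605 (flp_j L743444) q22573, e3 q21606 L731799 q19883, e3 q21607 L731807 q19884, e3 q21608 L731815 q19890, e3 q21609 L731825 q19893, e3 q21610 L731829 q19894, e3 q21611 L731835 q19895, e3 q21612 L731845 q19874, e3 q21613 (flp_j L747866) q23092, e3 q21614 L731857 q19898, e3 q21615 L731861 q19899, e3 q21616 (flp_j L743042) q22536, e3 q21617 (flp_j L743064) q22538, e3 q21618 (flp_j L745053) q22734, e3 q21619 L731895 q19928, e3 q21620 (flp_j L747459) q23035, e3 q21621 (flp_j L747806) q23085, e3 q21622 (flp_j L747812) q23086, e3 q21623 (flp_j L733686) q21777, e3 q21624 (flp_j L745082) q22736, e3 q21625 (flp_j L735151) q21882, e3 q21626 (flp_j L735311) q21893, e3 q21627 (flp_j L742266) q22465, e3 q21628 (flp_j L747822) q23087, e3 q21629 L731959 q19892, e3 q21630 (flp_j L747960) q23108, e3 q21631 (flp_j L747832) q23088, trivial⟩ (by decide +kernel)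

theorem ce_j_338 : ∀ r, r < 64 → sm gj (Qf (21632 + r)) = Qf (tab Gen.j (21632 + r)) :=
  edges_tab (sm gj) Qf (tab Gen.j) 21632 [(21632, 23089), (21633, 23090), (21634, 23091), (21635, 19897), (21636, 23115), (21637, 23094), (21638, 23095), (21639, 19910), (21640, 19911), (21641, 19913), (21642, 19914), (21643, 19917), (21644, 19918), (21645, 19919), (21646, 19909), (21647, 23119), (21648, 23036), (21649, 23120), (21650, 23121), (21651, 19916), (21652, 23128), (21653, 23122), (21654, 23123), (21655, 19922), (21656, 23131), (21657, 19926), (21658, 22735), (21659, 21847), (21660, 19939), (21661, 19940), (21662, 19942), (21663, 19943), (21664, 19988), (21665, 22546), (21666, 23133), (21667, 22042), (21668, 22490), (21669, 23134), (21670, 23135), (21671, 22415), (21672, 19949), (21673, 21950), (21674, 22492), (21675, 22491), (21676, 21874), (21677, 21888), (21678, 19987), (21679, 19965), (21680, 22766), (21681, 19993), (21682, 21778), (21683, 22737), (21684, 21883), (21685, 21894), (21686, 21886), (21687, 22767), (21688, 19991),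 (21689, 21908), (21690, 19995), (21691, 19990), (21692, 19989), (21693, 19992), (21694, 23136), (21695, 23154)]
    ⟨e3 q21632 (flp_j L747836) q23089, e3 q21633 (flp_j L747844) q23090, e3 q21634 (flp_j L747854) q23091, e3 q21635 L731991 q19897, e3 q21636 (flp_j L747990) q23115, e3 q21637 (flp_j L747876) q23094, e3 q21638 (flp_j L747880) q23095, e3 q21639 L732011 q19910, e3 q21640 L732020 q19911, e3 q21641 L732028 q19913, e3 q21642 L732035 q19914, e3 q21643 L732045 q19917, e3 q21644 L732054 q19918, e3 q21645 L732064 q19919, e3 q21646 L732073 q19909, e3 q21647 (flp_j L748008) q23119, e3 q21648 (flp_j L747469) q23036, e3 q21649 (flp_j L748016) q23120, e3 q21650 (flp_j L748025) q23121, e3 q21651 L732111 q19916, e3 q21652 (flp_j L748078) q23128, e3 q21653 (flp_j L748031) q23122, e3 q21654 (flp_j L748041) q23123, e3 q21655 L732138 q19922, e3 q21656 (flp_j L748103) q23131, e3 q21657 L732151 q19926, e3 q21658 (flp_j L745068) q22735, e3 q21659 (flp_j L734645) q21847, e3 q21660 L732185 q19939, e3 q21661 L732198 q19940, e3 q21662 L732208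 q19942, e3 q21663 L732217 q19943, e3 q21664 L732229 q19988, e3 q21665 (flp_j L743145) q22546, e3 q21666 (flp_j L748124) q23133, e3 q21667 L737203 q22042, e3 q21668 (flp_j L742520) q22490, e3 q21669 (flp_j L748132) q23134, e3 q21670 (flp_j L748137) q23135, e3 q21671 (flp_j L741677) q22415, e3 q21672 L732276 q19949, e3 q21673 (flp_j L736049) q21950, e3 q21674 (flp_j L742544) q22492, e3 q21675 (flp_j L742529) q22491, e3 q21676 (flp_j L735023) q21874, e3 q21677 (flp_j L735236) q21888, e3 q21678 L732312 q19987, e3 q21679 L732324 q19965, e3 q21680 (flp_j L745379) q22766, e3 q21681 L732348 q19993, e3 q21682 (flp_j L733700) q21778, e3 q21683 (flp_j L745093) q22737, e3 q21684 (flp_j L735165) q21883, e3 q21685 (flp_j L735323) q21894, e3 q21686 (flp_j L735203) q21886, e3 q21687 (flp_j L745389) q22767, e3 q21688 L732390 q19991, e3 q21689 (flp_j L735523) q21908, e3 q21690 L732405 q19995, e3 q21691 L732415 q19990, e3 q21692 L732425 q19989, e3 q21693 L732430 q19992, e3 q21694 (flp_j L748148) q23136, e3 q21695 (flp_j L748269) q23154, trivial⟩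 (by decide +kernel)

theorem ce_j_339 : ∀ r, r < 64 → sm gj (Qf (21696 + r)) = Qf (tab Gen.j (21696 + r)) :=
  edges_tab (sm gj) Qf (tab Gen.j) 21696 [(21696, 23153), (21697, 23152), (21698, 23146), (21699, 21828), (21700, 22013), (21701, 21842), (21702, 20003), (21703, 20031), (21704, 20483), (21705, 20053), (21706, 20054), (21707, 20058), (21708, 20082), (21709, 20530), (21710, 20098), (21711, 20099), (21712, 20105), (21713, 20695), (21714, 21448), (21715, 21461), (21716, 20712), (21717, 20722), (21718, 23158), (21719, 20036), (21720, 20037), (21721, 20038), (21722, 20658), (21723, 21115), (21724, 21116), (21725, 23165), (21726, 23166), (21727, 20048), (21728, 20049), (21729, 20094), (21730, 20077), (21731, 20080), (21732, 21114), (21733, 20668), (21734, 20674), (21735, 23171), (21736, 21418), (21737, 20414), (21738, 20436), (21739, 23159), (21740, 21420), (21741, 21377), (21742, 21443), (21743, 21458), (21744, 21361), (21745, 21449), (21746, 20525), (21747, 20074), (21748, 20075), (21749, 21407), (21750, 23182), (21751,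 23173), (21752, 21408), (21753, 21410), (21754, 23174), (21755, 21360), (21756, 20089), (21757, 21107), (21758, 20087), (21759, 23190)]
    ⟨e3 q21696 (flp_j L748259) q23153, e3 q21697 (flp_j L748250) q23152, e3 q21698 (flp_j L748207) q23146, e3 q21699 (flp_j L734383) q21828, e3 q21700 L736851 q22013, e3 q21701 (flp_j L734568) q21842, e3 q21702 L732495 q20003, e3 q21703 L732514 q20031, e3 q21704 L732532 q20483, e3 q21705 L732552 q20053, e3 q21706 L732568 q20054, e3 q21707 L732584 q20058, e3 q21708 L732600 q20082, e3 q21709 L732621 q20530, e3 q21710 L732637 q20098, e3 q21711 L732655 q20099, e3 q21712 L732673 q20105, e3 q21713 L732690 q20695, e3 q21714 L732712 q21448, e3 q21715 L732726 q21461, e3 q21716 L732745 q20712, e3 q21717 L732759 q20722, e3 q21718 (flp_j L748301) q23158, e3 q21719 L732788 q20036, e3 q21720 L732810 q20037, e3 q21721 L732824 q20038, e3 q21722 L732840 q20658, e3 q21723 L732862 q21115, e3 q21724 L732876 q21116, e3 q21725 (flp_j L748433) q23165, e3 q21726 (flp_j L748447) q23166, e3 q21727 L732920 q20048,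 e3 q21728 L732934 q20049, e3 q21729 L732956 q20094, e3 q21730 L732967 q20077, e3 q21731 L732988 q20080, e3 q21732 L733000 q21114, e3 q21733 L733017 q20668, e3 q21734 L733029 q20674, e3 q21735 (flp_j L748521) q23171, e3 q21736 L733053 q21418, e3 q21737 L733071 q20414, e3 q21738 L733089 q20436, e3 q21739 (flp_j L748320) q23159, e3 q21740 L733121 q21420, e3 q21741 L733132 q21377, e3 q21742 L733154 q21443, e3 q21743 L733168 q21458, e3 q21744 L733184 q21361, e3 q21745 L733206 q21449, e3 q21746 L733224 q20525, e3 q21747 L733246 q20074, e3 q21748 L733260 q20075, e3 q21749 L733282 q21407, e3 q21750 (flp_j L748707) q23182, e3 q21751 (flp_j L748562) q23173, e3 q21752 L733323 q21408, e3 q21753 L733335 q21410, e3 q21754 (flp_j L748576) q23174, e3 q21755 L733364 q21360, e3 q21756 L733385 q20089, e3 q21757 L733401 q21107, e3 q21758 (flp_j L733405) q20087, e3 q21759 (flp_j L748835) q23190, trivial⟩ (by decide +kernel)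

theorem ce_j_340 : ∀ r, r < 64 → sm gj (Qf (21760 + r)) = Qf (tab Gen.j (21760 + r)) :=
  edges_tab (sm gj) Qf (tab Gen.j) 21760 [(21760, 21415), (21761, 23188), (21762, 20091), (21763, 23194), (21764, 21416), (21765, 21372), (21766, 23172), (21767, 20097), (21768, 21460), (21769, 23160), (21770, 21476), (21771, 21375), (21772, 21419), (21773, 21376), (21774, 20109), (21775, 20110), (21776, 20887), (21777, 21623), (21778, 21682), (21779, 23202), (21780, 23203), (21781, 23204), (21782, 20205), (21783, 20206), (21784, 20116), (21785, 20117), (21786, 20118), (21787, 20119), (21788, 20120), (21789, 23215), (21790, 23216), (21791, 23217), (21792, 23219), (21793, 23220), (21794, 20125), (21795, 20859), (21796, 20126), (21797, 20127), (21798, 23227), (21799, 23229), (21800, 23230), (21801, 21801), (21802, 21802), (21803, 21124), (21804, 21142), (21805, 20140), (21806, 20141), (21807, 20142), (21808, 20874), (21809, 20143), (21810, 20144), (21811, 21100), (21812, 21525), (21813, 21526), (21814, 21269), (21815, 21238), (21816, 21270),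 (21817, 23235), (21818, 23236), (21819, 23237), (21820, 23239), (21821, 23240), (21822, 20152), (21823, 20153)]
    ⟨e3 q21760 L733451 q21415, e3 q21761 (flp_j L748797) q23188, e3 q21762 L733475 q20091, e3 q21763 (flp_j L748883) q23194, e3 q21764 L733497 q21416, e3 q21765 L733507 q21372, e3 q21766 (flp_j L748541) q23172, e3 q21767 L733543 q20097, e3 q21768 L733555 q21460, e3 q21769 (flp_j L748340) q23160, e3 q21770 L733589 q21476, e3 q21771 L733602 q21375, e3 q21772 L733613 q21419, e3 q21773 L733626 q21376, e3 q21774 L733643 q20109, e3 q21775 L733662 q20110, e3 q21776 L733670 q20887, e3 q21777 L733686 q21623, e3 q21778 L733700 q21682, e3 q21779 (flp_j L749000) q23202, e3 q21780 (flp_j L749021) q23203, e3 q21781 (flp_j L749034) q23204, e3 q21782 L733750 q20205, e3 q21783 L733771 q20206, e3 q21784 L733783 q20116, e3 q21785 L733802 q20117, e3 q21786 L733812 q20118, e3 q21787 L733826 q20119, e3 q21788 L733836 q20120, e3 q21789 (flp_j L749201) q23215, e3 q21790 (flp_j L749222) q23216, e3 q21791 (flp_j L749236) q23217, e3 q21792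 (flp_j L749270) q23219, e3 q21793 (flp_j L749280) q23220, e3 q21794 L733918 q20125, e3 q21795 L733934 q20859, e3 q21796 L733947 q20126, e3 q21797 L733960 q20127, e3 q21798 (flp_j L749380) q23227, e3 q21799 (flp_j L749411) q23229, e3 q21800 (flp_j L749422) q23230, e3 q21801 L734012 q21801, e3 q21802 L734028 q21802, e3 q21803 L734052 q21124, e3 q21804 L734065 q21142, e3 q21805 L734079 q20140, e3 q21806 L734099 q20141, e3 q21807 L734113 q20142, e3 q21808 L734127 q20874, e3 q21809 L734139 q20143, e3 q21810 L734149 q20144, e3 q21811 L734161 q21100, e3 q21812 L734181 q21525, e3 q21813 L734195 q21526, e3 q21814 L734209 q21269, e3 q21815 L734224 q21238, e3 q21816 L734238 q21270, e3 q21817 (flp_j L749502) q23235, e3 q21818 (flp_j L749516) q23236, e3 q21819 (flp_j L749528) q23237, e3 q21820 (flp_j L749560) q23239, e3 q21821 (flp_j L749568) q23240, e3 q21822 L734309 q20152, e3 q21823 L734322 q20153, trivial⟩ (by decide +kernel)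

theorem ce_j_341 : ∀ r, r < 64 → sm gj (Qf (21824 + r)) = Qf (tab Gen.j (21824 + r)) :=
  edges_tab (sm gj) Qf (tab Gen.j) 21824 [(21824, 20154), (21825, 20890), (21826, 20155), (21827, 20156), (21828, 21699), (21829, 23254), (21830, 23255), (21831, 23256), (21832, 23258), (21833, 23259), (21834, 21834), (21835, 21835), (21836, 21836), (21837, 20898), (21838, 20164), (21839, 20165), (21840, 23268), (21841, 23269), (21842, 21701), (21843, 20174), (21844, 21098), (21845, 21082), (21846, 20750), (21847, 21659), (21848, 21239), (21849, 21271), (21850, 21333), (21851, 23272), (21852, 20177), (21853, 23281), (21854, 20182), (21855, 20183), (21856, 23282), (21857, 23283), (21858, 20185), (21859, 20490), (21860, 20491), (21861, 20492), (21862, 20191), (21863, 20192), (21864, 20194), (21865, 20195), (21866, 21489), (21867, 23290), (21868, 23291), (21869, 21442), (21870, 23292), (21871, 20198), (21872, 23298), (21873, 21469), (21874, 21676), (21875, 21470), (21876, 21423), (21877, 23213), (21878, 23214), (21879, 20212), (21880, 20213),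 (21881, 21577), (21882, 21625), (21883, 21684), (21884, 21446), (21885, 23303), (21886, 21686), (21887, 21472)]
    ⟨e3 q21824 L734333 q20154, e3 q21825 L734350 q20890, e3 q21826 L734360 q20155, e3 q21827 L734369 q20156, e3 q21828 L734383 q21699, e3 q21829 (flp_j L749762) q23254, e3 q21830 (flp_j L749773) q23255, e3 q21831 (flp_j L749787) q23256, e3 q21832 (flp_j L749810) q23258, e3 q21833 (flp_j L749821) q23259, e3 q21834 L734458 q21834, e3 q21835 L734476 q21835, e3 q21836 L734494 q21836, e3 q21837 L734513 q20898, e3 q21838 L734524 q20164, e3 q21839 L734534 q20165, e3 q21840 (flp_j L749938) q23268, e3 q21841 (flp_j L749950) q23269, e3 q21842 L734568 q21701, e3 q21843 L734585 q20174, e3 q21844 L734601 q21098, e3 q21845 L734617 q21082, e3 q21846 L734632 q20750, e3 q21847 L734645 q21659, e3 q21848 L734660 q21239, e3 q21849 L734671 q21271, e3 q21850 L734680 q21333, e3 q21851 (flp_j L749992) q23272, e3 q21852 L734703 q20177, e3 q21853 (flp_j L750112) q23281, e3 q21854 L734727 q20182, e3 q21855 L734749 q20183, e3 q21856 (flp_j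 L750131) q23282, e3 q21857 (flp_j L750145) q23283, e3 q21858 L734794 q20185, e3 q21859 L734807 q20490, e3 q21860 L734822 q20491, e3 q21861 L734839 q20492, e3 q21862 L734849 q20191, e3 q21863 L734868 q20192, e3 q21864 L734882 q20194, e3 q21865 L734892 q20195, e3 q21866 L734906 q21489, e3 q21867 (flp_j L750259) q23290, e3 q21868 (flp_j L750271) q23291, e3 q21869 L734957 q21442, e3 q21870 (flp_j L750285) q23292, e3 q21871 L734980 q20198, e3 q21872 (flp_j L750370) q23298, e3 q21873 L735011 q21469, e3 q21874 L735023 q21676, e3 q21875 L735043 q21470, e3 q21876 L735058 q21423, e3 q21877 (flp_j L749172) q23213, e3 q21878 (flp_j L749185) q23214, e3 q21879 L735104 q20212, e3 q21880 L735114 q20213, e3 q21881 L735130 q21577, e3 q21882 L735151 q21625, e3 q21883 L735165 q21684, e3 q21884 L735183 q21446, e3 q21885 (flp_j L750455) q23303, e3 q21886 L735203 q21686, e3 q21887 L735224 q21472, trivial⟩ (by decide +kernel)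

theorem ce_j_342 : ∀ r, r < 64 → sm gj (Qf (21888 + r)) = Qf (tab Gen.j (21888 + r)) :=
  edges_tab (sm gj) Qf (tab Gen.j) 21888 [(21888, 21677), (21889, 21182), (21890, 21183), (21891, 21184), (21892, 20228), (21893, 21626), (21894, 21685), (21895, 20226), (21896, 23315), (21897, 21447), (21898, 23312), (21899, 20231), (21900, 23319), (21901, 21473), (21902, 20235), (21903, 23322), (21904, 20238), (21905, 23323), (21906, 21474), (21907, 20241), (21908, 21689), (21909, 20246), (21910, 20247), (21911, 20248), (21912, 20249), (21913, 20250), (21914, 20251), (21915, 20639), (21916, 23325), (21917, 23326), (21918, 23327), (21919, 23328), (21920, 23329), (21921, 23330), (21922, 23332), (21923, 23333), (21924, 20926), (21925, 21240), (21926, 21241), (21927, 20260), (21928, 20261), (21929, 20262), (21930, 20264), (21931, 20265), (21932, 21571), (21933, 20267), (21934, 20268), (21935, 21559), (21936, 23347), (21937, 23348), (21938, 21099), (21939, 21101), (21940, 23349), (21941, 21542), (21942, 23350), (21943, 23351), (21944, 20266),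 (21945, 23364), (21946, 23353), (21947, 23354), (21948, 20274), (21949, 20277), (21950, 21673), (21951, 20280)]
    ⟨e3 q21888 L735236 q21677, e3 q21889 L735253 q21182, e3 q21890 L735270 q21183, e3 q21891 L735281 q21184, e3 q21892 L735295 q20228, e3 q21893 L735311 q21626, e3 q21894 L735323 q21685, e3 q21895 (flp_j L735329) q20226, e3 q21896 (flp_j L750641) q23315, e3 q21897 L735373 q21447, e3 q21898 (flp_j L750589) q23312, e3 q21899 L735397 q20231, e3 q21900 (flp_j L750689) q23319, e3 q21901 L735419 q21473, e3 q21902 L735436 q20235, e3 q21903 (flp_j L750728) q23322, e3 q21904 L735470 q20238, e3 q21905 (flp_j L750748) q23323, e3 q21906 L735492 q21474, e3 q21907 L735506 q20241, e3 q21908 L735523 q21689, e3 q21909 L735536 q20246, e3 q21910 L735552 q20247, e3 q21911 L735566 q20248, e3 q21912 L735576 q20249, e3 q21913 L735591 q20250, e3 q21914 L735600 q20251, e3 q21915 L735612 q20639, e3 q21916 (flp_j L750778) q23325, e3 q21917 (flp_j L750798) q23326, e3 q21918 (flp_j L750808) q23327, e3 q21919 (flp_j L750827) q23328, e3 q21920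 (flp_j L750844) q23329, e3 q21921 (flp_j L750855) q23330, e3 q21922 (flp_j L750887) q23332, e3 q21923 (flp_j L750897) q23333, e3 q21924 L735708 q20926, e3 q21925 L735723 q21240, e3 q21926 L735732 q21241, e3 q21927 L735744 q20260, e3 q21928 L735763 q20261, e3 q21929 L735773 q20262, e3 q21930 L735788 q20264, e3 q21931 L735798 q20265, e3 q21932 (flp_j L735814) q21571, e3 q21933 L735828 q20267, e3 q21934 L735836 q20268, e3 q21935 L735850 q21559, e3 q21936 (flp_j L751073) q23347, e3 q21937 (flp_j L751085) q23348, e3 q21938 L735893 q21099, e3 q21939 L735914 q21101, e3 q21940 (flp_j L751100) q23349, e3 q21941 L735939 q21542, e3 q21942 (flp_j L751112) q23350, e3 q21943 (flp_j L751122) q23351, e3 q21944 (flp_j L735960) q20266, e3 q21945 (flp_j L751298) q23364, e3 q21946 (flp_j L751153) q23353, e3 q21947 (flp_j L751161) q23354, e3 q21948 L736023 q20274, e3 q21949 L736032 q20277, e3 q21950 L736049 q21673, e3 q21951 L736061 q20280, trivial⟩ (by decide +kernel)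

theorem ce_j_343 : ∀ r, r < 64 → sm gj (Qf (21952 + r)) = Qf (tab Gen.j (21952 + r)) :=
  edges_tab (sm gj) Qf (tab Gen.j) 21952 [(21952, 20281), (21953, 23368), (21954, 21548), (21955, 23369), (21956, 20279), (21957, 23374), (21958, 23371), (21959, 23372), (21960, 20285), (21961, 23378), (21962, 23379), (21963, 21272), (21964, 21273), (21965, 20299), (21966, 20300), (21967, 20303), (21968, 20304), (21969, 20309), (21970, 20310), (21971, 20296), (21972, 23389), (21973, 20313), (21974, 20314), (21975, 21151), (21976, 23383), (21977, 23384), (21978, 20756), (21979, 21153), (21980, 21540), (21981, 23385), (21982, 23386), (21983, 21084), (21984, 21155), (21985, 20307), (21986, 23403), (21987, 21543), (21988, 23387), (21989, 23388), (21990, 20312), (21991, 23409), (21992, 23391), (21993, 23392), (21994, 20322), (21995, 20325), (21996, 20329), (21997, 20319), (21998, 23417), (21999, 20332), (22000, 20333), (22001, 23414), (22002, 21547), (22003, 23415), (22004, 20327), (22005, 23423), (22006, 23416), (22007, 20331), (22008, 23425),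 (22009, 23419), (22010, 23420), (22011, 23421), (22012, 20337), (22013, 21700), (22014, 20340), (22015, 20343)]
    ⟨e3 q21952 L736072 q20281, e3 q21953 (flp_j L751337) q23368, e3 q21954 L736104 q21548, e3 q21955 (flp_j L751353) q23369, e3 q21956 L736136 q20279, e3 q21957 (flp_j L751427) q23374, e3 q21958 (flp_j L751383) q23371, e3 q21959 (flp_j L751393) q23372, e3 q21960 L736185 q20285, e3 q21961 (flp_j L751475) q23378, e3 q21962 L751484 q23379, e3 q21963 L736224 q21272, e3 q21964 L736234 q21273, e3 q21965 L736246 q20299, e3 q21966 L736268 q20300, e3 q21967 L736282 q20303, e3 q21968 L736292 q20304, e3 q21969 L736304 q20309, e3 q21970 L736312 q20310, e3 q21971 (flp_j L736316) q20296, e3 q21972 (flp_j L751621) q23389, e3 q21973 L736358 q20313, e3 q21974 L736364 q20314, e3 q21975 L736376 q21151, e3 q21976 (flp_j L751549) q23383, e3 q21977 (flp_j L751563) q23384, e3 q21978 L736426 q20756, e3 q21979 L736444 q21153, e3 q21980 L736462 q21540, e3 q21981 (flp_j L751577) q23385, e3 q21982 (flp_j L751585) q23386, e3 q21983 L736496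 q21084, e3 q21984 L736510 q21155, e3 q21985 (flp_j L736512) q20307, e3 q21986 (flp_j L751809) q23403, e3 q21987 L736556 q21543, e3 q21988 (flp_j L751595) q23387, e3 q21989 (flp_j L751603) q23388, e3 q21990 L736576 q20312, e3 q21991 (flp_j L751867) q23409, e3 q21992 (flp_j L751643) q23391, e3 q21993 (flp_j L751649) q23392, e3 q21994 L736609 q20322, e3 q21995 L736618 q20325, e3 q21996 L736627 q20329, e3 q21997 L736646 q20319, e3 q21998 (flp_j L751948) q23417, e3 q21999 L736667 q20332, e3 q22000 L736676 q20333, e3 q22001 (flp_j L751900) q23414, e3 q22002 L736710 q21547, e3 q22003 (flp_j L751919) q23415, e3 q22004 L736746 q20327, e3 q22005 (flp_j L752034) q23423, e3 q22006 (flp_j L751933) q23416, e3 q22007 L736778 q20331, e3 q22008 (flp_j L752062) q23425, e3 q22009 (flp_j L751973) q23419, e3 q22010 (flp_j L751985) q23420, e3 q22011 (flp_j L751996) q23421, e3 q22012 L736831 q20337, e3 q22013 (flp_j L736851) q21700, e3 q22014 L736858 q20340, e3 q22015 L736877 q20343, trivial⟩ (by decide +kernel)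

theorem ce_j_344 : ∀ r, r < 64 → sm gj (Qf (22016 + r)) = Qf (tab Gen.j (22016 + r)) :=
  edges_tab (sm gj) Qf (tab Gen.j) 22016 [(22016, 23429), (22017, 20348), (22018, 20349), (22019, 20350), (22020, 20347), (22021, 23433), (22022, 23434), (22023, 23431), (22024, 23432), (22025, 20352), (22026, 20358), (22027, 20362), (22028, 20366), (22029, 21152), (22030, 21163), (22031, 20757), (22032, 21154), (22033, 21164), (22034, 23438), (22035, 21047), (22036, 21156), (22037, 21165), (22038, 23439), (22039, 20370), (22040, 20371), (22041, 23441), (22042, 21667), (22043, 20531), (22044, 20508), (22045, 20468), (22046, 20469), (22047, 20534), (22048, 20484), (22049, 20485), (22050, 20507), (22051, 20509), (22052, 20511), (22053, 20512), (22054, 20532), (22055, 20535), (22056, 20537), (22057, 20538), (22058, 20563), (22059, 20564), (22060, 20409), (22061, 20617), (22062, 20587), (22063, 20588), (22064, 20589), (22065, 20590), (22066, 20616), (22067, 20618), (22068, 20619), (22069, 20620), (22070, 20621), (22071, 20634), (22072, 20635),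 (22073, 21383), (22074, 21411), (22075, 20671), (22076, 20672), (22077, 20673), (22078, 20675), (22079, 20676)]
    ⟨e3 q22016 (flp_j L752107) q23429, e3 q22017 L736900 q20348, e3 q22018 L736911 q20349, e3 q22019 L736923 q20350, e3 q22020 L736936 q20347, e3 q22021 (flp_j L752161) q23433, e3 q22022 (flp_j L752172) q23434, e3 q22023 (flp_j L752133) q23431, e3 q22024 (flp_j L752148) q23432, e3 q22025 L736986 q20352, e3 q22026 L737007 q20358, e3 q22027 L737016 q20362, e3 q22028 L737023 q20366, e3 q22029 L737042 q21152, e3 q22030 L737058 q21163, e3 q22031 L737074 q20757, e3 q22032 L737086 q21154, e3 q22033 L737096 q21164, e3 q22034 (flp_j L752216) q23438, e3 q22035 L737118 q21047, e3 q22036 L737130 q21156, e3 q22037 L737144 q21165, e3 q22038 (flp_j L752227) q23439, e3 q22039 L737165 q20370, e3 q22040 L737176 q20371, e3 q22041 (flp_j L752258) q23441, e3 q22042 (flp_j L737203) q21667, e3 q22043 L737219 q20531, e3 q22044 L737239 q20508, e3 q22045 L737259 q20468, e3 q22046 L737277 q20469, e3 q22047 L737295 q20534, e3 q22048 L737311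 q20484, e3 q22049 L737329 q20485, e3 q22050 L737351 q20507, e3 q22051 L737359 q20509, e3 q22052 L737380 q20511, e3 q22053 L737386 q20512, e3 q22054 L737403 q20532, e3 q22055 L737421 q20535, e3 q22056 L737437 q20537, e3 q22057 L737455 q20538, e3 q22058 L737477 q20563, e3 q22059 L737487 q20564, e3 q22060 L737508 q20409, e3 q22061 L737528 q20617, e3 q22062 L737546 q20587, e3 q22063 L737564 q20588, e3 q22064 L737576 q20589, e3 q22065 L737585 q20590, e3 q22066 L737604 q20616, e3 q22067 L737616 q20618, e3 q22068 L737626 q20619, e3 q22069 L737639 q20620, e3 q22070 L737651 q20621, e3 q22071 L737665 q20634, e3 q22072 L737683 q20635, e3 q22073 L737695 q21383, e3 q22074 L737706 q21411, e3 q22075 L737721 q20671, e3 q22076 L737736 q20672, e3 q22077 L737744 q20673, e3 q22078 L737757 q20675, e3 q22079 L737766 q20676, trivial⟩ (by decide +kernel)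

theorem ce_j_345 : ∀ r, r < 64 → sm gj (Qf (22080 + r)) = Qf (tab Gen.j (22080 + r)) :=
  edges_tab (sm gj) Qf (tab Gen.j) 22080 [(22080, 21430), (22081, 21397), (22082, 20720), (22083, 20721), (22084, 20723), (22085, 20724), (22086, 20725), (22087, 20726), (22088, 20454), (22089, 20455), (22090, 23466), (22091, 23467), (22092, 20457), (22093, 20461), (22094, 20462), (22095, 20498), (22096, 20505), (22097, 20496), (22098, 23469), (22099, 23470), (22100, 20467), (22101, 20506), (22102, 20497), (22103, 20503), (22104, 23451), (22105, 23452), (22106, 20550), (22107, 20551), (22108, 20477), (22109, 20478), (22110, 20523), (22111, 20528), (22112, 20520), (22113, 23480), (22114, 20529), (22115, 20521), (22116, 20526), (22117, 20546), (22118, 20540), (22119, 23285), (22120, 23286), (22121, 23287), (22122, 23288), (22123, 23289), (22124, 20499), (22125, 20500), (22126, 21125), (22127, 21134), (22128, 21492), (22129, 23473), (22130, 23476), (22131, 20556), (22132, 23471), (22133, 23494), (22134, 21139), (22135, 23477), (22136, 20557),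 (22137, 23472), (22138, 23475), (22139, 23453), (22140, 23454), (22141, 20562), (22142, 23455), (22143, 23456)]
    ⟨e3 q22080 L737777 q21430, e3 q22081 L737790 q21397, e3 q22082 L737801 q20720, e3 q22083 L737816 q20721, e3 q22084 L737828 q20723, e3 q22085 L737837 q20724, e3 q22086 L737844 q20725, e3 q22087 L737853 q20726, e3 q22088 L737869 q20454, e3 q22089 L737889 q20455, e3 q22090 (flp_j L752687) q23466, e3 q22091 (flp_j L752699) q23467, e3 q22092 L737931 q20457, e3 q22093 L737945 q20461, e3 q22094 L737967 q20462, e3 q22095 L737979 q20498, e3 q22096 L737998 q20505, e3 q22097 L738010 q20496, e3 q22098 (flp_j L752737) q23469, e3 q22099 (flp_j L752751) q23470, e3 q22100 L738054 q20467, e3 q22101 L738072 q20506, e3 q22102 L738089 q20497, e3 q22103 L738103 q20503, e3 q22104 (flp_j L752394) q23451, e3 q22105 (flp_j L752413) q23452, e3 q22106 L738147 q20550, e3 q22107 L738169 q20551, e3 q22108 L738183 q20477, e3 q22109 L738193 q20478, e3 q22110 L738211 q20523, e3 q22111 L738223 q20528, e3 q22112 L738241 q20520, e3 q22113 (flp_j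 L752915) q23480, e3 q22114 L738259 q20529, e3 q22115 L738279 q20521, e3 q22116 L738289 q20526, e3 q22117 L738307 q20546, e3 q22118 L738322 q20540, e3 q22119 (flp_j L750177) q23285, e3 q22120 (flp_j L750197) q23286, e3 q22121 (flp_j L750209) q23287, e3 q22122 (flp_j L750228) q23288, e3 q22123 (flp_j L750239) q23289, e3 q22124 L738393 q20499, e3 q22125 L738403 q20500, e3 q22126 L738419 q21125, e3 q22127 L738438 q21134, e3 q22128 L738448 q21492, e3 q22129 (flp_j L752805) q23473, e3 q22130 (flp_j L752848) q23476, e3 q22131 L738487 q20556, e3 q22132 (flp_j L752771) q23471, e3 q22133 (flp_j L753111) q23494, e3 q22134 L738511 q21139, e3 q22135 (flp_j L752860) q23477, e3 q22136 L738537 q20557, e3 q22137 (flp_j L752785) q23472, e3 q22138 (flp_j L752827) q23475, e3 q22139 (flp_j L752432) q23453, e3 q22140 (flp_j L752451) q23454, e3 q22141 L738596 q20562, e3 q22142 (flp_j L752470) q23455, e3 q22143 (flp_j L752489) q23456, trivial⟩ (by decide +kernel)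

theorem ce_j_346 : ∀ r, r < 64 → sm gj (Qf (22144 + r)) = Qf (tab Gen.j (22144 + r)) :=
  edges_tab (sm gj) Qf (tab Gen.j) 22144 [(22144, 21121), (22145, 21122), (22146, 20524), (22147, 21431), (22148, 21432), (22149, 20768), (22150, 23483), (22151, 23485), (22152, 21440), (22153, 23481), (22154, 23510), (22155, 21459), (22156, 20615), (22157, 21441), (22158, 23482), (22159, 20613), (22160, 20552), (22161, 21457), (22162, 21468), (22163, 20630), (22164, 23487), (22165, 21465), (22166, 20771), (22167, 20774), (22168, 23486), (22169, 20624), (22170, 23478), (22171, 23479), (22172, 20558), (22173, 20559), (22174, 20576), (22175, 20585), (22176, 21478), (22177, 23500), (22178, 23505), (22179, 23530), (22180, 20586), (22181, 23508), (22182, 20568), (22183, 20569), (22184, 21289), (22185, 21339), (22186, 23531), (22187, 23538), (22188, 23539), (22189, 20574), (22190, 20575), (22191, 20577), (22192, 20578), (22193, 20601), (22194, 20611), (22195, 20983), (22196, 20599), (22197, 23546), (22198, 23547), (22199, 23532), (22200, 23548),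 (22201, 20584), (22202, 20612), (22203, 20600), (22204, 20610), (22205, 23507), (22206, 23533), (22207, 23504)]
    ⟨e3 q22144 L738644 q21121, e3 q22145 L738656 q21122, e3 q22146 L738666 q20524, e3 q22147 L738678 q21431, e3 q22148 L738690 q21432, e3 q22149 L738706 q20768, e3 q22150 (flp_j L752961) q23483, e3 q22151 (flp_j L752983) q23485, e3 q22152 L738740 q21440, e3 q22153 (flp_j L752929) q23481, e3 q22154 (flp_j L753324) q23510, e3 q22155 L738764 q21459, e3 q22156 L738782 q20615, e3 q22157 L738798 q21441, e3 q22158 (flp_j L752941) q23482, e3 q22159 L738814 q20613, e3 q22160 L738834 q20552, e3 q22161 L738846 q21457, e3 q22162 L738864 q21468, e3 q22163 L738877 q20630, e3 q22164 (flp_j L753016) q23487, e3 q22165 L738901 q21465, e3 q22166 L738916 q20771, e3 q22167 L738928 q20774, e3 q22168 (flp_j L752999) q23486, e3 q22169 L738950 q20624, e3 q22170 (flp_j L752885) q23478, e3 q22171 (flp_j L752899) q23479, e3 q22172 L738995 q20558, e3 q22173 L739005 q20559, e3 q22174 L739017 q20576, e3 q22175 L739036 q20585, e3 q22176 L739046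 q21478, e3 q22177 (flp_j L753197) q23500, e3 q22178 (flp_j L753261) q23505, e3 q22179 (flp_j L753583) q23530, e3 q22180 L739095 q20586, e3 q22181 (flp_j L753297) q23508, e3 q22182 L739118 q20568, e3 q22183 L739137 q20569, e3 q22184 L739149 q21289, e3 q22185 L739165 q21339, e3 q22186 (flp_j L753595) q23531, e3 q22187 (flp_j L753694) q23538, e3 q22188 (flp_j L753707) q23539, e3 q22189 L739215 q20574, e3 q22190 L739234 q20575, e3 q22191 L739242 q20577, e3 q22192 L739250 q20578, e3 q22193 L739264 q20601, e3 q22194 L739283 q20611, e3 q22195 L739291 q20983, e3 q22196 L739306 q20599, e3 q22197 (flp_j L753817) q23546, e3 q22198 (flp_j L753829) q23547, e3 q22199 (flp_j L753616) q23532, e3 q22200 (flp_j L753839) q23548, e3 q22201 L739366 q20584, e3 q22202 L739382 q20612, e3 q22203 L739400 q20600, e3 q22204 L739414 q20610, e3 q22205 (flp_j L753280) q23507, e3 q22206 (flp_j L753630) q23533, e3 q22207 (flp_j L753242) q23504, trivial⟩ (by decide +kernel)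

theorem ce_j_347 : ∀ r, r < 64 → sm gj (Qf (22208 + r)) = Qf (tab Gen.j (22208 + r)) :=
  edges_tab (sm gj) Qf (tab Gen.j) 22208 [(22208, 23457), (22209, 23458), (22210, 23459), (22211, 21412), (22212, 21413), (22213, 20602), (22214, 20603), (22215, 20655), (22216, 20604), (22217, 20605), (22218, 20665), (22219, 23552), (22220, 23558), (22221, 23549), (22222, 23563), (22223, 23521), (22224, 23565), (22225, 23566), (22226, 20614), (22227, 20666), (22228, 21464), (22229, 23550), (22230, 23557), (22231, 20719), (22232, 23519), (22233, 20715), (22234, 23460), (22235, 23461), (22236, 23462), (22237, 23463), (22238, 21374), (22239, 20751), (22240, 23528), (22241, 21477), (22242, 23524), (22243, 21405), (22244, 20733), (22245, 20731), (22246, 20640), (22247, 20641), (22248, 20642), (22249, 20643), (22250, 20644), (22251, 23334), (22252, 23335), (22253, 23588), (22254, 23589), (22255, 23590), (22256, 23591), (22257, 23592), (22258, 23593), (22259, 21128), (22260, 21137), (22261, 20654), (22262, 20656), (22263, 20657), (22264, 20659),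 (22265, 20660), (22266, 21378), (22267, 21379), (22268, 21380), (22269, 23604), (22270, 23605), (22271, 23564)]
    ⟨e3 q22208 (flp_j L752508) q23457, e3 q22209 (flp_j L752527) q23458, e3 q22210 (flp_j L752546) q23459, e3 q22211 L739501 q21412, e3 q22212 L739509 q21413, e3 q22213 L739519 q20602, e3 q22214 L739529 q20603, e3 q22215 L739547 q20655, e3 q22216 L739561 q20604, e3 q22217 L739569 q20605, e3 q22218 L739585 q20665, e3 q22219 (flp_j L753904) q23552, e3 q22220 (flp_j L753976) q23558, e3 q22221 (flp_j L753857) q23549, e3 q22222 (flp_j L754043) q23563, e3 q22223 (flp_j L753452) q23521, e3 q22224 (flp_j L754073) q23565, e3 q22225 (flp_j L754079) q23566, e3 q22226 L739659 q20614, e3 q22227 L739673 q20666, e3 q22228 L739683 q21464, e3 q22229 (flp_j L753871) q23550, e3 q22230 (flp_j L753955) q23557, e3 q22231 L739712 q20719, e3 q22232 (flp_j L753424) q23519, e3 q22233 L739732 q20715, e3 q22234 (flp_j L752563) q23460, e3 q22235 (flp_j L752585) q23461, e3 q22236 (flp_j L752603) q23462, e3 q22237 (flp_j L752624) q23463, e3 q22238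 L739813 q21374, e3 q22239 L739822 q20751, e3 q22240 (flp_j L753554) q23528, e3 q22241 L739843 q21477, e3 q22242 (flp_j L753493) q23524, e3 q22243 L739859 q21405, e3 q22244 L739877 q20733, e3 q22245 L739888 q20731, e3 q22246 L739899 q20640, e3 q22247 L739913 q20641, e3 q22248 L739921 q20642, e3 q22249 L739936 q20643, e3 q22250 L739945 q20644, e3 q22251 (flp_j L750911) q23334, e3 q22252 (flp_j L750931) q23335, e3 q22253 (flp_j L754339) q23588, e3 q22254 (flp_j L754358) q23589, e3 q22255 (flp_j L754375) q23590, e3 q22256 (flp_j L754386) q23591, e3 q22257 (flp_j L754399) q23592, e3 q22258 (flp_j L754409) q23593, e3 q22259 L740033 q21128, e3 q22260 L740043 q21137, e3 q22261 L740059 q20654, e3 q22262 L740070 q20656, e3 q22263 L740080 q20657, e3 q22264 L740092 q20659, e3 q22265 L740098 q20660, e3 q22266 L740112 q21378, e3 q22267 L740131 q21379, e3 q22268 L740145 q21380, e3 q22269 (flp_j L754533) q23604, e3 q22270 (flp_j L754550) q23605, e3 q22271 (flp_j L754061) q23564, trivial⟩ (by decide +kernel)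

theorem ce_j_348 : ∀ r, r < 64 → sm gj (Qf (22272 + r)) = Qf (tab Gen.j (22272 + r)) :=
  edges_tab (sm gj) Qf (tab Gen.j) 22272 [(22272, 23606), (22273, 23607), (22274, 23167), (22275, 23608), (22276, 23609), (22277, 20667), (22278, 20669), (22279, 20670), (22280, 21382), (22281, 23567), (22282, 23198), (22283, 23561), (22284, 23175), (22285, 23621), (22286, 23559), (22287, 23464), (22288, 21429), (22289, 21433), (22290, 21434), (22291, 20692), (22292, 20693), (22293, 20694), (22294, 20696), (22295, 20697), (22296, 20698), (22297, 20701), (22298, 20702), (22299, 20777), (22300, 21369), (22301, 21370), (22302, 21386), (22303, 21387), (22304, 21388), (22305, 21389), (22306, 21390), (22307, 21391), (22308, 23630), (22309, 23631), (22310, 23632), (22311, 23633), (22312, 23161), (22313, 23634), (22314, 23635), (22315, 23636), (22316, 20700), (22317, 23656), (22318, 23637), (22319, 23638), (22320, 20713), (22321, 20714), (22322, 20718), (22323, 21394), (22324, 21395), (22325, 21396), (22326, 23163), (22327, 23661), (22328, 23579),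 (22329, 23578), (22330, 23581), (22331, 20717), (22332, 21463), (22333, 23580), (22334, 23662), (22335, 23576)]
    ⟨e3 q22272 (flp_j L754560) q23606, e3 q22273 (flp_j L754570) q23607, e3 q22274 (flp_j L748467) q23167, e3 q22275 (flp_j L754583) q23608, e3 q22276 (flp_j L754589) q23609, e3 q22277 L740224 q20667, e3 q22278 L740235 q20669, e3 q22279 L740245 q20670, e3 q22280 L740258 q21382, e3 q22281 (flp_j L754095) q23567, e3 q22282 (flp_j L748937) q23198, e3 q22283 (flp_j L754016) q23561, e3 q22284 (flp_j L748592) q23175, e3 q22285 (flp_j L754712) q23621, e3 q22286 (flp_j L753992) q23559, e3 q22287 (flp_j L752643) q23464, e3 q22288 L740335 q21429, e3 q22289 L740348 q21433, e3 q22290 L740356 q21434, e3 q22291 L740366 q20692, e3 q22292 L740381 q20693, e3 q22293 L740393 q20694, e3 q22294 L740405 q20696, e3 q22295 L740415 q20697, e3 q22296 L740423 q20698, e3 q22297 L740435 q20701, e3 q22298 L740439 q20702, e3 q22299 L740453 q20777, e3 q22300 L740471 q21369, e3 q22301 L740483 q21370, e3 q22302 L740497 q21386, e3 q22303 L740510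 q21387, e3 q22304 L740524 q21388, e3 q22305 L740538 q21389, e3 q22306 L740550 q21390, e3 q22307 L740560 q21391, e3 q22308 (flp_j L754803) q23630, e3 q22309 (flp_j L754818) q23631, e3 q22310 (flp_j L754832) q23632, e3 q22311 (flp_j L754842) q23633, e3 q22312 (flp_j L748366) q23161, e3 q22313 (flp_j L754854) q23634, e3 q22314 (flp_j L754860) q23635, e3 q22315 (flp_j L754866) q23636, e3 q22316 L740634 q20700, e3 q22317 (flp_j L755063) q23656, e3 q22318 (flp_j L754876) q23637, e3 q22319 (flp_j L754882) q23638, e3 q22320 L740664 q20713, e3 q22321 L740672 q20714, e3 q22322 L740681 q20718, e3 q22323 L740695 q21394, e3 q22324 L740707 q21395, e3 q22325 L740722 q21396, e3 q22326 (flp_j L748396) q23163, e3 q22327 (flp_j L755097) q23661, e3 q22328 (flp_j L754233) q23579, e3 q22329 (flp_j L754212) q23578, e3 q22330 (flp_j L754256) q23581, e3 q22331 L740761 q20717, e3 q22332 L740771 q21463, e3 q22333 (flp_j L754246) q23580, e3 q22334 (flp_j L755104) q23662, e3 q22335 (flp_j L754187) q23576, trivial⟩ (by decide +kernel)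

theorem ce_j_349 : ∀ r, r < 64 → sm gj (Qf (22336 + r)) = Qf (tab Gen.j (22336 + r)) :=
  edges_tab (sm gj) Qf (tab Gen.j) 22336 [(22336, 23465), (22337, 23164), (22338, 20732), (22339, 21404), (22340, 21475), (22341, 23587), (22342, 23586), (22343, 20746), (22344, 20747), (22345, 20748), (22346, 20749), (22347, 20778), (22348, 20820), (22349, 21400), (22350, 21401), (22351, 21402), (22352, 21403), (22353, 23676), (22354, 23677), (22355, 23275), (22356, 23678), (22357, 23583), (22358, 20758), (22359, 20759), (22360, 23396), (22361, 23442), (22362, 23689), (22363, 20762), (22364, 23693), (22365, 21479), (22366, 21480), (22367, 20769), (22368, 23513), (22369, 23695), (22370, 20772), (22371, 23526), (22372, 23527), (22373, 20779), (22374, 20780), (22375, 20781), (22376, 23639), (22377, 23679), (22378, 23699), (22379, 23700), (22380, 20839), (22381, 21484), (22382, 21485), (22383, 20787), (22384, 20788), (22385, 23707), (22386, 23708), (22387, 20791), (22388, 20792), (22389, 23711), (22390, 21490), (22391, 21491), (22392, 21493),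 (22393, 21494), (22394, 20806), (22395, 20809), (22396, 20810), (22397, 21527), (22398, 21487), (22399, 21483)]
    ⟨e3 q22336 (flp_j L752662) q23465, e3 q22337 (flp_j L748408) q23164, e3 q22338 L740823 q20732, e3 q22339 L740834 q21404, e3 q22340 L740844 q21475, e3 q22341 (flp_j L754326) q23587, e3 q22342 (flp_j L754312) q23586, e3 q22343 L740876 q20746, e3 q22344 L740885 q20747, e3 q22345 L740892 q20748, e3 q22346 L740899 q20749, e3 q22347 L740915 q20778, e3 q22348 L740930 q20820, e3 q22349 L740943 q21400, e3 q22350 L740954 q21401, e3 q22351 L740963 q21402, e3 q22352 L740976 q21403, e3 q22353 (flp_j L755241) q23676, e3 q22354 (flp_j L755250) q23677, e3 q22355 (flp_j L750033) q23275, e3 q22356 (flp_j L755258) q23678, e3 q22357 (flp_j L754276) q23583, e3 q22358 L741027 q20758, e3 q22359 L741037 q20759, e3 q22360 (flp_j L751717) q23396, e3 q22361 (flp_j L752275) q23442, e3 q22362 (flp_j L755383) q23689, e3 q22363 L741096 q20762, e3 q22364 (flp_j L755437) q23693, e3 q22365 L741125 q21479, e3 q22366 L741136 q21480, e3 q22367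 L741150 q20769, e3 q22368 (flp_j L753370) q23513, e3 q22369 (flp_j L755464) q23695, e3 q22370 L741181 q20772, e3 q22371 (flp_j L753521) q23526, e3 q22372 (flp_j L753537) q23527, e3 q22373 L741216 q20779, e3 q22374 L741227 q20780, e3 q22375 L741234 q20781, e3 q22376 (flp_j L754902) q23639, e3 q22377 (flp_j L755274) q23679, e3 q22378 (flp_j L755511) q23699, e3 q22379 (flp_j L755519) q23700, e3 q22380 L741286 q20839, e3 q22381 L741301 q21484, e3 q22382 L741312 q21485, e3 q22383 L741328 q20787, e3 q22384 L741338 q20788, e3 q22385 (flp_j L755598) q23707, e3 q22386 (flp_j L755606) q23708, e3 q22387 L741372 q20791, e3 q22388 L741381 q20792, e3 q22389 (flp_j L755638) q23711, e3 q22390 L741415 q21490, e3 q22391 L741428 q21491, e3 q22392 L741443 q21493, e3 q22393 L741451 q21494, e3 q22394 L741465 q20806, e3 q22395 L741477 q20809, e3 q22396 L741481 q20810, e3 q22397 L741497 q21527, e3 q22398 L741513 q21487, e3 q22399 L741529 q21483, trivial⟩ (by decide +kernel)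

theorem ce_j_350 : ∀ r, r < 64 → sm gj (Qf (22400 + r)) = Qf (tab Gen.j (22400 + r)) :=
  edges_tab (sm gj) Qf (tab Gen.j) 22400 [(22400, 23716), (22401, 20808), (22402, 23723), (22403, 23717), (22404, 23718), (22405, 20816), (22406, 20815), (22407, 23729), (22408, 21557), (22409, 23728), (22410, 20819), (22411, 23680), (22412, 20825), (22413, 20823), (22414, 23733), (22415, 21671), (22416, 20830), (22417, 20831), (22418, 23735), (22419, 21502), (22420, 21519), (22421, 20840), (22422, 20841), (22423, 20842), (22424, 23705), (22425, 23738), (22426, 23739), (22427, 23740), (22428, 20844), (22429, 20849), (22430, 20850), (22431, 20851), (22432, 21288), (22433, 21290), (22434, 21340), (22435, 23745), (22436, 23746), (22437, 21505), (22438, 21506), (22439, 21524), (22440, 23218), (22441, 20857), (22442, 20858), (22443, 23755), (22444, 23756), (22445, 23228), (22446, 20862), (22447, 20863), (22448, 23760), (22449, 23761), (22450, 21295), (22451, 21530), (22452, 21531), (22453, 21532), (22454, 21533), (22455, 20880), (22456, 20882),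 (22457, 23205), (22458, 20883), (22459, 20884), (22460, 23238), (22461, 20885), (22462, 20886), (22463, 21554)]
    ⟨e3 q22400 (flp_j L755697) q23716, e3 q22401 L741555 q20808, e3 q22402 (flp_j L755791) q23723, e3 q22403 (flp_j L755709) q23717, e3 q22404 (flp_j L755715) q23718, e3 q22405 L741581 q20816, e3 q22406 L741595 q20815, e3 q22407 (flp_j L755835) q23729, e3 q22408 L741611 q21557, e3 q22409 (flp_j L755821) q23728, e3 q22410 L741632 q20819, e3 q22411 (flp_j L755285) q23680, e3 q22412 L741650 q20825, e3 q22413 L741663 q20823, e3 q22414 (flp_j L755876) q23733, e3 q22415 L741677 q21671, e3 q22416 L741694 q20830, e3 q22417 L741706 q20831, e3 q22418 (flp_j L755900) q23735, e3 q22419 L741730 q21502, e3 q22420 L741739 q21519, e3 q22421 L741751 q20840, e3 q22422 L741761 q20841, e3 q22423 L741771 q20842, e3 q22424 (flp_j L755572) q23705, e3 q22425 (flp_j L755934) q23738, e3 q22426 (flp_j L755944) q23739, e3 q22427 (flp_j L755953) q23740, e3 q22428 L741808 q20844, e3 q22429 L741823 q20849, e3 q22430 L741840 q20850, e3 q22431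 L741853 q20851, e3 q22432 L741867 q21288, e3 q22433 L741884 q21290, e3 q22434 L741897 q21340, e3 q22435 (flp_j L755990) q23745, e3 q22436 (flp_j L756004) q23746, e3 q22437 L741926 q21505, e3 q22438 L741945 q21506, e3 q22439 L741958 q21524, e3 q22440 (flp_j L749256) q23218, e3 q22441 L741984 q20857, e3 q22442 L741994 q20858, e3 q22443 (flp_j L756118) q23755, e3 q22444 (flp_j L756126) q23756, e3 q22445 (flp_j L749399) q23228, e3 q22446 L742038 q20862, e3 q22447 L742047 q20863, e3 q22448 (flp_j L756169) q23760, e3 q22449 (flp_j L756181) q23761, e3 q22450 L742086 q21295, e3 q22451 L742103 q21530, e3 q22452 L742116 q21531, e3 q22453 L742129 q21532, e3 q22454 L742139 q21533, e3 q22455 L742149 q20880, e3 q22456 L742164 q20882, e3 q22457 (flp_j L749050) q23205, e3 q22458 L742190 q20883, e3 q22459 L742202 q20884, e3 q22460 (flp_j L749548) q23238, e3 q22461 L742222 q20885, e3 q22462 L742228 q20886, e3 q22463 L742238 q21554, trivial⟩ (by decide +kernel)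

theorem ce_j_351 : ∀ r, r < 64 → sm gj (Qf (22464 + r)) = Qf (tab Gen.j (22464 + r)) :=
  edges_tab (sm gj) Qf (tab Gen.j) 22464 [(22464, 21579), (22465, 21627), (22466, 21572), (22467, 23768), (22468, 21573), (22469, 23769), (22470, 23771), (22471, 23772), (22472, 23774), (22473, 23775), (22474, 23206), (22475, 20893), (22476, 20894), (22477, 23257), (22478, 20895), (22479, 20896), (22480, 23789), (22481, 23790), (22482, 23792), (22483, 23793), (22484, 23267), (22485, 20901), (22486, 20902), (22487, 23799), (22488, 20910), (22489, 21097), (22490, 21668), (22491, 21675), (22492, 21674), (22493, 21258), (22494, 21267), (22495, 20920), (22496, 20921), (22497, 20923), (22498, 20924), (22499, 20925), (22500, 23344), (22501, 20927), (22502, 20928), (22503, 21193), (22504, 21220), (22505, 20948), (22506, 21576), (22507, 23804), (22508, 23805), (22509, 21285), (22510, 21007), (22511, 21286), (22512, 23245), (22513, 23806), (22514, 23807), (22515, 23808), (22516, 23345), (22517, 23810), (22518, 23811), (22519, 21560), (22520, 21561),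 (22521, 23331), (22522, 21562), (22523, 21563), (22524, 20943), (22525, 20944), (22526, 21551), (22527, 20949)]
    ⟨e3 q22464 L742256 q21579, e3 q22465 L742266 q21627, e3 q22466 L742279 q21572, e3 q22467 (flp_j L756267) q23768, e3 q22468 L742304 q21573, e3 q22469 (flp_j L756277) q23769, e3 q22470 (flp_j L756305) q23771, e3 q22471 (flp_j L756315) q23772, e3 q22472 (flp_j L756335) q23774, e3 q22473 (flp_j L756341) q23775, e3 q22474 (flp_j L749070) q23206, e3 q22475 L742370 q20893, e3 q22476 L742381 q20894, e3 q22477 (flp_j L749800) q23257, e3 q22478 L742401 q20895, e3 q22479 L742412 q20896, e3 q22480 (flp_j L756484) q23789, e3 q22481 (flp_j L756496) q23790, e3 q22482 (flp_j L756518) q23792, e3 q22483 (flp_j L756526) q23793, e3 q22484 (flp_j L749929) q23267, e3 q22485 L742466 q20901, e3 q22486 L742474 q20902, e3 q22487 (flp_j L756580) q23799, e3 q22488 L742491 q20910, e3 q22489 L742508 q21097, e3 q22490 L742520 q21668, e3 q22491 L742529 q21675, e3 q22492 L742544 q21674, e3 q22493 L742562 q21258, e3 q22494 L742574 q21267, e3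 q22495 L742586 q20920, e3 q22496 L742603 q20921, e3 q22497 L742615 q20923, e3 q22498 L742630 q20924, e3 q22499 L742639 q20925, e3 q22500 (flp_j L751034) q23344, e3 q22501 L742657 q20927, e3 q22502 L742663 q20928, e3 q22503 L742673 q21193, e3 q22504 L742688 q21220, e3 q22505 L742698 q20948, e3 q22506 L742714 q21576, e3 q22507 (flp_j L756647) q23804, e3 q22508 (flp_j L756658) q23805, e3 q22509 L742742 q21285, e3 q22510 L742762 q21007, e3 q22511 L742776 q21286, e3 q22512 (flp_j L749657) q23245, e3 q22513 (flp_j L756675) q23806, e3 q22514 (flp_j L756685) q23807, e3 q22515 (flp_j L756692) q23808, e3 q22516 (flp_j L751045) q23345, e3 q22517 (flp_j L756712) q23810, e3 q22518 (flp_j L756716) q23811, e3 q22519 L742843 q21560, e3 q22520 L742854 q21561, e3 q22521 (flp_j L750874) q23331, e3 q22522 L742876 q21562, e3 q22523 L742884 q21563, e3 q22524 L742898 q20943, e3 q22525 L742908 q20944, e3 q22526 L742930 q21551, e3 q22527 L742944 q20949, trivial⟩ (by decide +kernel)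

theorem ce_j_352 : ∀ r, r < 64 → sm gj (Qf (22528 + r)) = Qf (tab Gen.j (22528 + r)) :=
  edges_tab (sm gj) Qf (tab Gen.j) 22528 [(22528, 20950), (22529, 20939), (22530, 23836), (22531, 20953), (22532, 20954), (22533, 21538), (22534, 23832), (22535, 21291), (22536, 21616), (22537, 21569), (22538, 21617), (22539, 23814), (22540, 23834), (22541, 23835), (22542, 20952), (22543, 23849), (22544, 23838), (22545, 23839), (22546, 21665), (22547, 20965), (22548, 20966), (22549, 20960), (22550, 23856), (22551, 20969), (22552, 20970), (22553, 20964), (22554, 23861), (22555, 23855), (22556, 20968), (22557, 23863), (22558, 23858), (22559, 23859), (22560, 23860), (22561, 20972), (22562, 20974), (22563, 23868), (22564, 21083), (22565, 21081), (22566, 21079), (22567, 23540), (22568, 21601), (22569, 21602), (22570, 21078), (22571, 23551), (22572, 21604), (22573, 21605), (22574, 21003), (22575, 21004), (22576, 21005), (22577, 21006), (22578, 21008), (22579, 21009), (22580, 21010), (22581, 23541), (22582, 21012), (22583, 21013), (22584, 21014),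 (22585, 21015), (22586, 20995), (22587, 23887), (22588, 21018), (22589, 21019), (22590, 21020), (22591, 21000)]
    ⟨e3 q22528 L742954 q20950, e3 q22529 (flp_j L742958) q20939, e3 q22530 (flp_j L756992) q23836, e3 q22531 L742982 q20953, e3 q22532 L742988 q20954, e3 q22533 L743004 q21538, e3 q22534 (flp_j L756934) q23832, e3 q22535 L743028 q21291, e3 q22536 L743042 q21616, e3 q22537 L743054 q21569, e3 q22538 L743064 q21617, e3 q22539 (flp_j L756761) q23814, e3 q22540 (flp_j L756966) q23834, e3 q22541 (flp_j L756974) q23835, e3 q22542 L743108 q20952, e3 q22543 (flp_j L757130) q23849, e3 q22544 (flp_j L757006) q23838, e3 q22545 (flp_j L757012) q23839, e3 q22546 L743145 q21665, e3 q22547 L743155 q20965, e3 q22548 L743164 q20966, e3 q22549 L743184 q20960, e3 q22550 (flp_j L757198) q23856, e3 q22551 L743197 q20969, e3 q22552 L743207 q20970, e3 q22553 L743228 q20964, e3 q22554 (flp_j L757254) q23861, e3 q22555 (flp_j L757181) q23855, e3 q22556 L743260 q20968, e3 q22557 (flp_j L757274) q23863, e3 q22558 (flp_j L757214) q23858, e3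 q22559 (flp_j L757223) q23859, e3 q22560 (flp_j L757235) q23860, e3 q22561 L743311 q20972, e3 q22562 L743318 q20974, e3 q22563 (flp_j L757326) q23868, e3 q22564 L743350 q21083, e3 q22565 L743361 q21081, e3 q22566 L743375 q21079, e3 q22567 (flp_j L753721) q23540, e3 q22568 L743397 q21601, e3 q22569 L743407 q21602, e3 q22570 L743418 q21078, e3 q22571 (flp_j L753886) q23551, e3 q22572 L743438 q21604, e3 q22573 L743444 q21605, e3 q22574 L743458 q21003, e3 q22575 L743470 q21004, e3 q22576 L743484 q21005, e3 q22577 L743505 q21006, e3 q22578 L743517 q21008, e3 q22579 L743525 q21009, e3 q22580 L743535 q21010, e3 q22581 (flp_j L753740) q23541, e3 q22582 L743563 q21012, e3 q22583 L743574 q21013, e3 q22584 L743588 q21014, e3 q22585 L743594 q21015, e3 q22586 (flp_j L743596) q20995, e3 q22587 (flp_j L757534) q23887, e3 q22588 L743624 q21018, e3 q22589 L743628 q21019, e3 q22590 L743636 q21020, e3 q22591 L743648 q21000, trivial⟩ (by decide +kernel)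

theorem ce_j_353 : ∀ r, r < 64 → sm gj (Qf (22592 + r)) = Qf (tab Gen.j (22592 + r)) :=
  edges_tab (sm gj) Qf (tab Gen.j) 22592 [(22592, 23892), (22593, 21023), (22594, 21024), (22595, 23878), (22596, 23596), (22597, 23879), (22598, 23874), (22599, 23819), (22600, 23880), (22601, 23881), (22602, 23870), (22603, 21011), (22604, 23208), (22605, 23905), (22606, 23883), (22607, 23884), (22608, 23885), (22609, 23886), (22610, 21017), (22611, 23913), (22612, 23889), (22613, 23890), (22614, 23891), (22615, 23401), (22616, 21022), (22617, 23920), (22618, 23894), (22619, 23895), (22620, 23896), (22621, 21040), (22622, 21041), (22623, 21030), (22624, 23927), (22625, 21044), (22626, 21045), (22627, 21046), (22628, 21035), (22629, 23931), (22630, 21050), (22631, 21051), (22632, 21052), (22633, 21039), (22634, 23937), (22635, 23926), (22636, 21043), (22637, 23939), (22638, 23929), (22639, 23930), (22640, 23446), (22641, 21049), (22642, 23943), (22643, 23944), (22644, 23934), (22645, 23935), (22646, 23936), (22647, 21054), (22648, 21056),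 (22649, 23949), (22650, 21059), (22651, 21062), (22652, 23951), (22653, 23952), (22654, 21069), (22655, 21070)]
    ⟨e3 q22592 (flp_j L757572) q23892, e3 q22593 L743660 q21023, e3 q22594 L743664 q21024, e3 q22595 (flp_j L757432) q23878, e3 q22596 (flp_j L754447) q23596, e3 q22597 (flp_j L757451) q23879, e3 q22598 (flp_j L757397) q23874, e3 q22599 (flp_j L756821) q23819, e3 q22600 (flp_j L757463) q23880, e3 q22601 (flp_j L757469) q23881, e3 q22602 (flp_j L757355) q23870, e3 q22603 (flp_j L743740) q21011, e3 q22604 (flp_j L749099) q23208, e3 q22605 (flp_j L757679) q23905, e3 q22606 (flp_j L757495) q23883, e3 q22607 (flp_j L757502) q23884, e3 q22608 (flp_j L757514) q23885, e3 q22609 (flp_j L757520) q23886, e3 q22610 L743799 q21017, e3 q22611 (flp_j L757740) q23913, e3 q22612 (flp_j L757548) q23889, e3 q22613 (flp_j L757552) q23890, e3 q22614 (flp_j L757560) q23891, e3 q22615 (flp_j L751777) q23401, e3 q22616 L743849 q21022, e3 q22617 (flp_j L757788) q23920, e3 q22618 (flp_j L757582) q23894, e3 q22619 (flp_j L757586) q23895,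 e3 q22620 (flp_j L757592) q23896, e3 q22621 L743877 q21040, e3 q22622 L743884 q21041, e3 q22623 L743897 q21030, e3 q22624 (flp_j L757832) q23927, e3 q22625 L743910 q21044, e3 q22626 L743916 q21045, e3 q22627 L743932 q21046, e3 q22628 L743944 q21035, e3 q22629 (flp_j L757863) q23931, e3 q22630 L743957 q21050, e3 q22631 L743963 q21051, e3 q22632 L743972 q21052, e3 q22633 L743989 q21039, e3 q22634 (flp_j L757923) q23937, e3 q22635 (flp_j L757820) q23926, e3 q22636 L744018 q21043, e3 q22637 (flp_j L757936) q23939, e3 q22638 (flp_j L757846) q23929, e3 q22639 (flp_j L757855) q23930, e3 q22640 (flp_j L752327) q23446, e3 q22641 L744054 q21049, e3 q22642 (flp_j L757968) q23943, e3 q22643 (flp_j L757976) q23944, e3 q22644 (flp_j L757884) q23934, e3 q22645 (flp_j L757892) q23935, e3 q22646 (flp_j L757905) q23936, e3 q22647 L744111 q21054, e3 q22648 L744118 q21056, e3 q22649 (flp_j L758021) q23949, e3 q22650 L744135 q21059, e3 q22651 L744146 q21062, e3 q22652 (flp_j L758040) q23951, e3 q22653 (flp_j L758050) q23952, e3 q22654 L744166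 q21069, e3 q22655 L744173 q21070, trivial⟩ (by decide +kernel)

theorem ce_j_354 : ∀ r, r < 64 → sm gj (Qf (22656 + r)) = Qf (tab Gen.j (22656 + r)) :=
  edges_tab (sm gj) Qf (tab Gen.j) 22656 [(22656, 21071), (22657, 21067), (22658, 21068), (22659, 23959), (22660, 23956), (22661, 23957), (22662, 23958), (22663, 21080), (22664, 23801), (22665, 23274), (22666, 23869), (22667, 23242), (22668, 23359), (22669, 21341), (22670, 21090), (22671, 21093), (22672, 21221), (22673, 21219), (22674, 23450), (22675, 21287), (22676, 23437), (22677, 21539), (22678, 21570), (22679, 23273), (22680, 23358), (22681, 23241), (22682, 21173), (22683, 21138), (22684, 21140), (22685, 21111), (22686, 23189), (22687, 21381), (22688, 21409), (22689, 23975), (22690, 21454), (22691, 23168), (22692, 21127), (22693, 21130), (22694, 21421), (22695, 23509), (22696, 21424), (22697, 23234), (22698, 23495), (22699, 21425), (22700, 23982), (22701, 23603), (22702, 21427), (22703, 23983), (22704, 21422), (22705, 21428), (22706, 23496), (22707, 21426), (22708, 23503),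 (22709, 21174), (22710, 21175), (22711, 21176), (22712, 21149), (22713, 24000), (22714, 21157), (22715, 23393), (22716, 23440), (22717, 23397), (22718, 23443), (22719, 23402)]
    ⟨e3 q22656 L744186 q21071, e3 q22657 L744195 q21067, e3 q22658 L744203 q21068, e3 q22659 (flp_j L758112) q23959, e3 q22660 (flp_j L758084) q23956, e3 q22661 (flp_j L758093) q23957, e3 q22662 (flp_j L758102) q23958, e3 q22663 L744253 q21080, e3 q22664 (flp_j L756600) q23801, e3 q22665 (flp_j L750022) q23274, e3 q22666 (flp_j L757345) q23869, e3 q22667 (flp_j L749606) q23242, e3 q22668 (flp_j L751244) q23359, e3 q22669 L744325 q21341, e3 q22670 L744342 q21090, e3 q22671 L744350 q21093, e3 q22672 L744365 q21221, e3 q22673 L744381 q21219, e3 q22674 (flp_j L752382) q23450, e3 q22675 L744402 q21287, e3 q22676 (flp_j L752207) q23437, e3 q22677 L744419 q21539, e3 q22678 L744431 q21570, e3 q22679 (flp_j L750009) q23273, e3 q22680 (flp_j L751227) q23358, e3 q22681 (flp_j L749586) q23241, e3 q22682 L744483 q21173, e3 q22683 L744492 q21138, e3 q22684 L744505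 q21140, e3 q22685 L744522 q21111, e3 q22686 (flp_j L748811) q23189, e3 q22687 L744548 q21381, e3 q22688 L744562 q21409, e3 q22689 (flp_j L758277) q23975, e3 q22690 L744580 q21454, e3 q22691 (flp_j L748481) q23168, e3 q22692 L744604 q21127, e3 q22693 L744614 q21130, e3 q22694 L744632 q21421, e3 q22695 (flp_j L753318) q23509, e3 q22696 L744659 q21424, e3 q22697 (flp_j L749486) q23234, e3 q22698 (flp_j L753131) q23495, e3 q22699 L744695 q21425, e3 q22700 (flp_j L758361) q23982, e3 q22701 (flp_j L754516) q23603, e3 q22702 L744717 q21427, e3 q22703 (flp_j L758369) q23983, e3 q22704 L744735 q21422, e3 q22705 L744745 q21428, e3 q22706 (flp_j L753143) q23496, e3 q22707 L744764 q21426, e3 q22708 (flp_j L753223) q23503, e3 q22709 L744788 q21174, e3 q22710 L744798 q21175, e3 q22711 L744812 q21176, e3 q22712 L744826 q21149, e3 q22713 (flp_j L758558) q24000, e3 q22714 L744850 q21157, e3 q22715 (flp_j L751667) q23393, e3 q22716 (flp_j L752244) q23440, e3 q22717 (flp_j L751731) q23397, e3 q22718 (flp_j L752287) q23443, e3 q22719 (flp_j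 L751789) q23402, trivial⟩ (by decide +kernel)

theorem ce_j_355 : ∀ r, r < 64 → sm gj (Qf (22720 + r)) = Qf (tab Gen.j (22720 + r)) :=
  edges_tab (sm gj) Qf (tab Gen.j) 22720 [(22720, 23447), (22721, 24002), (22722, 21161), (22723, 21162), (22724, 23444), (22725, 23448), (22726, 21169), (22727, 21172), (22728, 24010), (22729, 23968), (22730, 23997), (22731, 23998), (22732, 23999), (22733, 21178), (22734, 21618), (22735, 21658), (22736, 21624), (22737, 21683), (22738, 23310), (22739, 23311), (22740, 21194), (22741, 21195), (22742, 21196), (22743, 21197), (22744, 21198), (22745, 21199), (22746, 21200), (22747, 21201), (22748, 21202), (22749, 23812), (22750, 24022), (22751, 24023), (22752, 24024), (22753, 24025), (22754, 24026), (22755, 24027), (22756, 24028), (22757, 24029), (22758, 24030), (22759, 21208), (22760, 21209), (22761, 21210), (22762, 21211), (22763, 24042), (22764, 24043), (22765, 24044), (22766, 21680), (22767, 21687), (22768, 21222), (22769, 21223), (22770, 21224), (22771, 21225), (22772, 23813), (22773, 23970),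 (22774, 24049), (22775, 24050), (22776, 24051), (22777, 24052), (22778, 21229), (22779, 21230), (22780, 24059), (22781, 21320), (22782, 21574), (22783, 21592)]
    ⟨e3 q22720 (flp_j L752342) q23447, e3 q22721 (flp_j L758584) q24002, e3 q22722 L744933 q21161, e3 q22723 L744942 q21162, e3 q22724 (flp_j L752301) q23444, e3 q22725 (flp_j L752354) q23448, e3 q22726 L744970 q21169, e3 q22727 L744983 q21172, e3 q22728 (flp_j L758658) q24010, e3 q22729 (flp_j L758207) q23968, e3 q22730 (flp_j L758517) q23997, e3 q22731 (flp_j L758527) q23998, e3 q22732 (flp_j L758542) q23999, e3 q22733 L745038 q21178, e3 q22734 L745053 q21618, e3 q22735 L745068 q21658, e3 q22736 L745082 q21624, e3 q22737 L745093 q21683, e3 q22738 (flp_j L750569) q23310, e3 q22739 (flp_j L750581) q23311, e3 q22740 L745116 q21194, e3 q22741 L745124 q21195, e3 q22742 L745134 q21196, e3 q22743 L745149 q21197, e3 q22744 L745161 q21198, e3 q22745 L745171 q21199, e3 q22746 L745179 q21200, e3 q22747 L745195 q21201, e3 q22748 L745203 q21202, e3 q22749 (flp_j L756732) q23812,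 e3 q22750 (flp_j L758773) q24022, e3 q22751 (flp_j L758781) q24023, e3 q22752 (flp_j L758796) q24024, e3 q22753 (flp_j L758808) q24025, e3 q22754 (flp_j L758820) q24026, e3 q22755 (flp_j L758828) q24027, e3 q22756 (flp_j L758836) q24028, e3 q22757 (flp_j L758848) q24029, e3 q22758 (flp_j L758862) q24030, e3 q22759 L745301 q21208, e3 q22760 L745313 q21209, e3 q22761 L745322 q21210, e3 q22762 L745336 q21211, e3 q22763 (flp_j L758954) q24042, e3 q22764 (flp_j L758964) q24043, e3 q22765 (flp_j L758977) q24044, e3 q22766 L745379 q21680, e3 q22767 L745389 q21687, e3 q22768 L745400 q21222, e3 q22769 L745412 q21223, e3 q22770 L745421 q21224, e3 q22771 L745432 q21225, e3 q22772 (flp_j L756743) q23813, e3 q22773 (flp_j L758236) q23970, e3 q22774 (flp_j L759027) q24049, e3 q22775 (flp_j L759037) q24050, e3 q22776 (flp_j L759051) q24051, e3 q22777 (flp_j L759062) q24052, e3 q22778 L745493 q21229, e3 q22779 L745504 q21230, e3 q22780 (flp_j L759128) q24059, e3 q22781 L745528 q21320, e3 q22782 L745540 q21574, e3 q22783 L745550 q21592, trivial⟩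 (by decide +kernel)

theorem ce_j_356 : ∀ r, r < 64 → sm gj (Qf (22784 + r)) = Qf (tab Gen.j (22784 + r)) :=
  edges_tab (sm gj) Qf (tab Gen.j) 22784 [(22784, 21578), (22785, 21583), (22786, 21596), (22787, 21587), (22788, 23221), (22789, 23247), (22790, 23277), (22791, 23346), (22792, 21248), (22793, 21250), (22794, 21251), (22795, 21253), (22796, 21254), (22797, 21256), (22798, 21257), (22799, 21260), (22800, 24072), (22801, 21552), (22802, 24073), (22803, 24074), (22804, 21555), (22805, 24075), (22806, 24076), (22807, 21556), (22808, 24077), (22809, 24078), (22810, 23803), (22811, 21558), (22812, 24079), (22813, 21265), (22814, 21553), (22815, 23246), (22816, 23248), (22817, 23278), (22818, 23381), (22819, 23382), (22820, 21292), (22821, 21293), (22822, 21294), (22823, 21296), (22824, 21297), (22825, 21298), (22826, 21299), (22827, 21302), (22828, 21303), (22829, 21304), (22830, 21307), (22831, 21308), (22832, 23818), (22833, 23820), (22834, 23747), (22835, 23542), (22836, 23748), (22837, 23842), (22838, 24098), (22839,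 24099), (22840, 24100), (22841, 23764), (22842, 24101), (22843, 24102), (22844, 24103), (22845, 24104), (22846, 21301), (22847, 24126)]
    ⟨e3 q22784 L745563 q21578, e3 q22785 L745573 q21583, e3 q22786 L745581 q21596, e3 q22787 L745592 q21587, e3 q22788 (flp_j L749297) q23221, e3 q22789 (flp_j L749688) q23247, e3 q22790 (flp_j L750062) q23277, e3 q22791 (flp_j L751055) q23346, e3 q22792 L745638 q21248, e3 q22793 L745651 q21250, e3 q22794 L745661 q21251, e3 q22795 L745672 q21253, e3 q22796 L745685 q21254, e3 q22797 L745695 q21256, e3 q22798 L745703 q21257, e3 q22799 L745714 q21260, e3 q22800 (flp_j L759261) q24072, e3 q22801 L745741 q21552, e3 q22802 (flp_j L759273) q24073, e3 q22803 (flp_j L759283) q24074, e3 q22804 L745772 q21555, e3 q22805 (flp_j L759299) q24075, e3 q22806 (flp_j L759308) q24076, e3 q22807 L745790 q21556, e3 q22808 (flp_j L759314) q24077, e3 q22809 (flp_j L759320) q24078, e3 q22810 (flp_j L756629) q23803, e3 q22811 L745821 q21558, e3 q22812 (flp_j L759329) q24079, e3 q22813 L745836 q21265, e3 q22814 L745855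 q21553, e3 q22815 (flp_j L749676) q23246, e3 q22816 (flp_j L749700) q23248, e3 q22817 (flp_j L750073) q23278, e3 q22818 (flp_j L751523) q23381, e3 q22819 (flp_j L751531) q23382, e3 q22820 L745906 q21292, e3 q22821 L745916 q21293, e3 q22822 L745924 q21294, e3 q22823 L745937 q21296, e3 q22824 L745950 q21297, e3 q22825 L745956 q21298, e3 q22826 L745962 q21299, e3 q22827 L745972 q21302, e3 q22828 L745978 q21303, e3 q22829 L745982 q21304, e3 q22830 L745992 q21307, e3 q22831 L746000 q21308, e3 q22832 (flp_j L756805) q23818, e3 q22833 (flp_j L756833) q23820, e3 q22834 (flp_j L756019) q23747, e3 q22835 (flp_j L753759) q23542, e3 q22836 (flp_j L756033) q23748, e3 q22837 (flp_j L757052) q23842, e3 q22838 (flp_j L759477) q24098, e3 q22839 (flp_j L759485) q24099, e3 q22840 (flp_j L759493) q24100, e3 q22841 (flp_j L756221) q23764, e3 q22842 (flp_j L759506) q24101, e3 q22843 (flp_j L759515) q24102, e3 q22844 (flp_j L759521) q24103, e3 q22845 (flp_j L759527) q24104, e3 q22846 L746118 q21301, e3 q22847 (flp_j L759692) q24126, trivial⟩ (by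 decide +kernel)

theorem ce_j_357 : ∀ r, r < 64 → sm gj (Qf (22848 + r)) = Qf (tab Gen.j (22848 + r)) :=
  edges_tab (sm gj) Qf (tab Gen.j) 22848 [(22848, 24105), (22849, 24106), (22850, 24107), (22851, 24108), (22852, 21306), (22853, 24133), (22854, 24109), (22855, 24110), (22856, 21318), (22857, 21319), (22858, 21321), (22859, 21322), (22860, 21325), (22861, 21326), (22862, 24137), (22863, 24138), (22864, 24061), (22865, 24139), (22866, 21324), (22867, 24144), (22868, 24140), (22869, 21330), (22870, 21332), (22871, 23279), (22872, 21342), (22873, 21343), (22874, 21344), (22875, 21345), (22876, 21346), (22877, 23543), (22878, 23749), (22879, 23969), (22880, 24147), (22881, 24148), (22882, 24149), (22883, 23953), (22884, 21373), (22885, 21384), (22886, 21398), (22887, 21399), (22888, 21392), (22889, 21371), (22890, 23640), (22891, 23196), (22892, 24156), (22893, 23177), (22894, 23200), (22895, 23201), (22896, 23178), (22897, 23489), (22898, 23610), (22899, 23611), (22900, 23612), (22901, 23977), (22902, 23622), (22903, 21393),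 (22904, 23488), (22905, 23641), (22906, 23642), (22907, 23643), (22908, 23644), (22909, 23645), (22910, 23646), (22911, 24155)]
    ⟨e3 q22848 (flp_j L759535) q24105, e3 q22849 (flp_j L759541) q24106, e3 q22850 (flp_j L759547) q24107, e3 q22851 (flp_j L759553) q24108, e3 q22852 L746152 q21306, e3 q22853 (flp_j L759724) q24133, e3 q22854 (flp_j L759563) q24109, e3 q22855 (flp_j L759571) q24110, e3 q22856 L746179 q21318, e3 q22857 L746192 q21319, e3 q22858 L746204 q21321, e3 q22859 L746213 q21322, e3 q22860 L746222 q21325, e3 q22861 L746229 q21326, e3 q22862 (flp_j L759750) q24137, e3 q22863 (flp_j L759761) q24138, e3 q22864 (flp_j L759150) q24061, e3 q22865 (flp_j L759772) q24139, e3 q22866 L746285 q21324, e3 q22867 (flp_j L759811) q24144, e3 q22868 (flp_j L759779) q24140, e3 q22869 L746308 q21330, e3 q22870 L746315 q21332, e3 q22871 (flp_j L750087) q23279, e3 q22872 L746331 q21342, e3 q22873 L746337 q21343, e3 q22874 L746344 q21344, e3 q22875 L746350 q21345, e3 q22876 L746357 q21346, e3 q22877 (flp_j L753772) q23543, e3 q22878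 (flp_j L756044) q23749, e3 q22879 (flp_j L758222) q23969, e3 q22880 (flp_j L759828) q24147, e3 q22881 (flp_j L759835) q24148, e3 q22882 (flp_j L759843) q24149, e3 q22883 (flp_j L758061) q23953, e3 q22884 L746410 q21373, e3 q22885 L746418 q21384, e3 q22886 L746425 q21398, e3 q22887 L746434 q21399, e3 q22888 L746448 q21392, e3 q22889 L746462 q21371, e3 q22890 (flp_j L754916) q23640, e3 q22891 (flp_j L748911) q23196, e3 q22892 (flp_j L759900) q24156, e3 q22893 (flp_j L748620) q23177, e3 q22894 (flp_j L748972) q23200, e3 q22895 (flp_j L748987) q23201, e3 q22896 (flp_j L748638) q23178, e3 q22897 (flp_j L753050) q23489, e3 q22898 (flp_j L754608) q23610, e3 q22899 (flp_j L754624) q23611, e3 q22900 (flp_j L754638) q23612, e3 q22901 (flp_j L758303) q23977, e3 q22902 (flp_j L754727) q23622, e3 q22903 L746574 q21393, e3 q22904 (flp_j L753031) q23488, e3 q22905 (flp_j L754933) q23641, e3 q22906 (flp_j L754945) q23642, e3 q22907 (flp_j L754957) q23643, e3 q22908 (flp_j L754971) q23644, e3 q22909 (flp_j L754981) q23645, e3 q22910 (flp_j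 L754991) q23646, e3 q22911 (flp_j L759884) q24155, trivial⟩ (by decide +kernel)

theorem ce_j_358 : ∀ r, r < 64 → sm gj (Qf (22912 + r)) = Qf (tab Gen.j (22912 + r)) :=
  edges_tab (sm gj) Qf (tab Gen.j) 22912 [(22912, 24169), (22913, 23663), (22914, 23664), (22915, 23665), (22916, 23575), (22917, 23681), (22918, 23682), (22919, 23683), (22920, 23673), (22921, 23584), (22922, 21603), (22923, 23183), (22924, 23186), (22925, 23978), (22926, 23562), (22927, 21417), (22928, 23192), (22929, 23197), (22930, 24192), (22931, 23176), (22932, 23179), (22933, 23984), (22934, 23994), (22935, 23301), (22936, 23986), (22937, 23989), (22938, 23996), (22939, 23992), (22940, 23187), (22941, 23625), (22942, 23511), (22943, 23512), (22944, 23628), (22945, 23629), (22946, 21444), (22947, 21445), (22948, 21450), (22949, 21451), (22950, 21455), (22951, 23516), (22952, 23520), (22953, 23296), (22954, 23180), (22955, 24210), (22956, 24211), (22957, 23307), (22958, 23317), (22959, 23162), (22960, 23181), (22961, 24212), (22962, 24213), (22963, 23671),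 (22964, 21453), (22965, 24227), (22966, 23980), (22967, 24214), (22968, 23195), (22969, 23569), (22970, 23525), (22971, 21471), (22972, 23523), (22973, 23299), (22974, 23300), (22975, 23199)]
    ⟨e3 q22912 (flp_j L759992) q24169, e3 q22913 (flp_j L755116) q23663, e3 q22914 (flp_j L755133) q23664, e3 q22915 (flp_j L755146) q23665, e3 q22916 (flp_j L754165) q23575, e3 q22917 (flp_j L755299) q23681, e3 q22918 (flp_j L755310) q23682, e3 q22919 (flp_j L755324) q23683, e3 q22920 (flp_j L755210) q23673, e3 q22921 (flp_j L754289) q23584, e3 q22922 L746709 q21603, e3 q22923 (flp_j L748725) q23183, e3 q22924 (flp_j L748765) q23186, e3 q22925 (flp_j L758319) q23978, e3 q22926 (flp_j L754033) q23562, e3 q22927 L746748 q21417, e3 q22928 (flp_j L748861) q23192, e3 q22929 (flp_j L748925) q23197, e3 q22930 (flp_j L760139) q24192, e3 q22931 (flp_j L748608) q23176, e3 q22932 (flp_j L748652) q23179, e3 q22933 (flp_j L758385) q23984, e3 q22934 (flp_j L758484) q23994, e3 q22935 (flp_j L750429) q23301, e3 q22936 (flp_j L758412) q23986, e3 q22937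 (flp_j L758444) q23989, e3 q22938 (flp_j L758502) q23996, e3 q22939 (flp_j L758466) q23992, e3 q22940 (flp_j L748780) q23187, e3 q22941 (flp_j L754759) q23625, e3 q22942 (flp_j L753340) q23511, e3 q22943 (flp_j L753352) q23512, e3 q22944 (flp_j L754780) q23628, e3 q22945 (flp_j L754786) q23629, e3 q22946 L746867 q21444, e3 q22947 L746875 q21445, e3 q22948 L746881 q21450, e3 q22949 L746885 q21451, e3 q22950 L746891 q21455, e3 q22951 (flp_j L753398) q23516, e3 q22952 (flp_j L753438) q23520, e3 q22953 (flp_j L750349) q23296, e3 q22954 (flp_j L748673) q23180, e3 q22955 (flp_j L760247) q24210, e3 q22956 (flp_j L760253) q24211, e3 q22957 (flp_j L750525) q23307, e3 q22958 (flp_j L750665) q23317, e3 q22959 (flp_j L748380) q23162, e3 q22960 (flp_j L748685) q23181, e3 q22961 (flp_j L760259) q24212, e3 q22962 (flp_j L760265) q24213, e3 q22963 (flp_j L755190) q23671, e3 q22964 L746975 q21453, e3 q22965 (flp_j L760341) q24227, e3 q22966 (flp_j L758339) q23980, e3 q22967 (flp_j L760271) q24214, e3 q22968 (flp_j L748897) q23195, e3 q22969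 (flp_j L754115) q23569, e3 q22970 (flp_j L753508) q23525, e3 q22971 L747016 q21471, e3 q22972 (flp_j L753476) q23523, e3 q22973 (flp_j L750389) q23299, e3 q22974 (flp_j L750407) q23300, e3 q22975 (flp_j L748957) q23199, trivial⟩ (by decide +kernel)

theorem ce_j_359 : ∀ r, r < 64 → sm gj (Qf (22976 + r)) = Qf (tab Gen.j (22976 + r)) :=
  edges_tab (sm gj) Qf (tab Gen.j) 22976 [(22976, 23309), (22977, 23321), (22978, 23585), (22979, 23534), (22980, 23694), (22981, 21482), (22982, 24239), (22983, 23721), (22984, 23706), (22985, 21488), (22986, 23720), (22987, 24243), (22988, 23293), (22989, 23713), (22990, 23497), (22991, 23714), (22992, 23715), (22993, 21507), (22994, 21508), (22995, 21509), (22996, 21510), (22997, 21511), (22998, 21512), (22999, 23737), (23000, 21513), (23001, 21514), (23002, 23752), (23003, 23753), (23004, 24251), (23005, 24252), (23006, 24253), (23007, 24254), (23008, 24255), (23009, 24256), (23010, 24258), (23011, 24259), (23012, 21520), (23013, 21521), (23014, 21522), (23015, 24271), (23016, 24272), (23017,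 23243), (23018, 23244), (23019, 23719), (23020, 21529), (23021, 24277), (23022, 23765), (23023, 23766), (23024, 23767), (23025, 21541), (23026, 21544), (23027, 21545), (23028, 23840), (23029, 23398), (23030, 24282), (23031, 23361), (23032, 23405), (23033, 24283), (23034, 24284), (23035, 21620), (23036, 21648), (23037, 23833), (23038, 24081), (23039, 23424)]
    ⟨e3 q22976 (flp_j L750549) q23309, e3 q22977 (flp_j L750715) q23321, e3 q22978 (flp_j L754301) q23585, e3 q22979 (flp_j L753647) q23534, e3 q22980 (flp_j L755456) q23694, e3 q22981 L747081 q21482, e3 q22982 (flp_j L760413) q24239, e3 q22983 (flp_j L755761) q23721, e3 q22984 (flp_j L755584) q23706, e3 q22985 L747107 q21488, e3 q22986 (flp_j L755745) q23720, e3 q22987 (flp_j L760437) q24243, e3 q22988 (flp_j L750302) q23293, e3 q22989 (flp_j L755668) q23713, e3 q22990 (flp_j L753158) q23497, e3 q22991 (flp_j L755679) q23714, e3 q22992 (flp_j L755685) q23715, e3 q22993 L747172 q21507, e3 q22994 L747180 q21508, e3 q22995 L747189 q21509, e3 q22996 L747195 q21510, e3 q22997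 L747205 q21511, e3 q22998 L747209 q21512, e3 q22999 (flp_j L755922) q23737, e3 q23000 L747227 q21513, e3 q23001 L747233 q21514, e3 q23002 (flp_j L756080) q23752, e3 q23003 (flp_j L756094) q23753, e3 q23004 (flp_j L760495) q24251, e3 q23005 (flp_j L760501) q24252, e3 q23006 (flp_j L760508) q24253, e3 q23007 (flp_j L760512) q24254, e3 q23008 (flp_j L760520) q24255, e3 q23009 (flp_j L760524) q24256, e3 q23010 (flp_j L760540) q24258, e3 q23011 (flp_j L760546) q24259, e3 q23012 L747305 q21520, e3 q23013 L747312 q21521, e3 q23014 L747319 q21522, e3 q23015 (flp_j L760619) q24271, e3 q23016 (flp_j L760624) q24272, e3 q23017 (flp_j L749622) q23243, e3 q23018 (flp_j L749636) q23244, e3 q23019 (flp_j L755727) q23719, e3 q23020 L747358 q21529, e3 q23021 (flp_j L760652) q24277, e3 q23022 (flp_j L756235) q23765, e3 q23023 (flp_j L756246) q23766, e3 q23024 (flp_j L756254) q23767, e3 q23025 L747397 q21541, e3 q23026 L747403 q21544, e3 q23027 L747409 q21545, e3 q23028 (flp_j L757026) q23840, e3 q23029 (flp_j L751747) q23398, e3 q23030 (flp_j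 L760682) q24282, e3 q23031 (flp_j L751265) q23361, e3 q23032 (flp_j L751833) q23405, e3 q23033 (flp_j L760688) q24283, e3 q23034 (flp_j L760694) q24284, e3 q23035 L747459 q21620, e3 q23036 L747469 q21648, e3 q23037 (flp_j L756954) q23833, e3 q23038 (flp_j L759354) q24081, e3 q23039 L752054 q23424, trivial⟩ (by decide +kernel)

theorem ce_j_360 : ∀ r, r < 64 → sm gj (Qf (23040 + r)) = Qf (tab Gen.j (23040 + r)) :=
  edges_tab (sm gj) Qf (tab Gen.j) 23040 [(23040, 23776), (23041, 24084), (23042, 24087), (23043, 23731), (23044, 24091), (23045, 23355), (23046, 23828), (23047, 23830), (23048, 23831), (23049, 21575), (23050, 21580), (23051, 21584), (23052, 21588), (23053, 23844), (23054, 23352), (23055, 23779), (23056, 23781), (23057, 24062), (23058, 24307), (23059, 23207), (23060, 23815), (23061, 23304), (23062, 24064), (23063, 23777), (23064, 24308), (23065, 21582), (23066, 24323), (23067, 24065), (23068, 24309), (23069, 21586), (23070, 24328), (23071, 24067), (23072, 24310), (23073, 21593), (23074, 24063), (23075, 24332), (23076,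 21595), (23077, 24335), (23078, 24066), (23079, 21600), (23080, 23872), (23081, 23873), (23082, 24187), (23083, 23876), (23084, 23877), (23085, 21621), (23086, 21622), (23087, 21628), (23088, 21631), (23089, 21632), (23090, 21633), (23091, 21634), (23092, 21613), (23093, 24352), (23094, 21637), (23095, 21638), (23096, 23843), (23097, 23845), (23098, 24016), (23099, 24292), (23100, 24343), (23101, 24344), (23102, 23209), (23103, 24018)]
    ⟨e3 q23040 (flp_j L756357) q23776, e3 q23041 (flp_j L759379) q24084, e3 q23042 (flp_j L759394) q24087, e3 q23043 (flp_j L755851) q23731, e3 q23044 (flp_j L759426) q24091, e3 q23045 (flp_j L751180) q23355, e3 q23046 (flp_j L756894) q23828, e3 q23047 (flp_j L756914) q23830, e3 q23048 (flp_j L756922) q23831, e3 q23049 L747551 q21575, e3 q23050 L747559 q21580, e3 q23051 L747563 q21584, e3 q23052 L747569 q21588, e3 q23053 (flp_j L757072) q23844, e3 q23054 (flp_j L751139) q23352, e3 q23055 (flp_j L756394) q23779, e3 q23056 (flp_j L756413) q23781, e3 q23057 (flp_j L759164) q24062, e3 q23058 (flp_j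 L760829) q24307, e3 q23059 (flp_j L749080) q23207, e3 q23060 (flp_j L756772) q23815, e3 q23061 (flp_j L750474) q23304, e3 q23062 (flp_j L759186) q24064, e3 q23063 (flp_j L756367) q23777, e3 q23064 (flp_j L760837) q24308, e3 q23065 L747660 q21582, e3 q23066 (flp_j L760933) q24323, e3 q23067 (flp_j L759192) q24065, e3 q23068 (flp_j L760843) q24309, e3 q23069 L747688 q21586, e3 q23070 (flp_j L760965) q24328, e3 q23071 (flp_j L759207) q24067, e3 q23072 (flp_j L760851) q24310, e3 q23073 L747713 q21593, e3 q23074 (flp_j L759174) q24063, e3 q23075 (flp_j L760990) q24332, e3 q23076 L747744 q21595, e3 q23077 (flp_j L761015) q24335, e3 q23078 (flp_j L759198) q24066, e3 q23079 L747765 q21600, e3 q23080 (flp_j L757379) q23872, e3 q23081 (flp_j L757385) q23873, e3 q23082 (flp_j L760106) q24187, e3 q23083 (flp_j L757414) q23876, e3 q23084 (flp_j L757420) q23877, e3 q23085 L747806 q21621, e3 q23086 L747812 q21622, e3 q23087 L747822 q21628, e3 q23088 L747832 q21631, e3 q23089 L747836 q21632, e3 q23090 L747844 q21633, e3 q23091 L747854 q21634,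 e3 q23092 L747866 q21613, e3 q23093 (flp_j L761132) q24352, e3 q23094 L747876 q21637, e3 q23095 L747880 q21638, e3 q23096 (flp_j L757062) q23843, e3 q23097 (flp_j L757082) q23845, e3 q23098 (flp_j L758714) q24016, e3 q23099 (flp_j L760738) q24292, e3 q23100 (flp_j L761062) q24343, e3 q23101 (flp_j L761070) q24344, e3 q23102 (flp_j L749116) q23209, e3 q23103 (flp_j L758737) q24018, trivial⟩ (by decide +kernel)

theorem ce_j_361 : ∀ r, r < 64 → sm gj (Qf (23104 + r)) = Qf (tab Gen.j (23104 + r)) :=
  edges_tab (sm gj) Qf (tab Gen.j) 23104 [(23104, 23305), (23105, 23313), (23106, 23778), (23107, 24345), (23108, 21630), (23109, 24369), (23110, 24346), (23111, 24347), (23112, 24348), (23113, 24349), (23114, 24350), (23115, 21636), (23116, 24378), (23117, 24354), (23118, 24355), (23119, 21647), (23120, 21649), (23121, 21650), (23122, 21653), (23123, 21654), (23124, 24017), (23125, 24293), (23126, 24381), (23127, 24382), (23128, 21652), (23129, 24387), (23130, 24383), (23131, 21656), (23132, 23276), (23133, 21666), (23134, 21669),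 (23135, 21670), (23136, 21694), (23137, 23854), (23138, 24009), (23139, 23270), (23140, 23449), (23141, 23802), (23142, 24388), (23143, 23734), (23144, 23370), (23145, 24047), (23146, 21698), (23147, 23210), (23148, 24019), (23149, 23306), (23150, 23314), (23151, 24048), (23152, 21697), (23153, 21696), (23154, 21695), (23155, 24389), (23156, 24401), (23157, 23266), (23158, 21718), (23159, 21739), (23160, 21769), (23161, 22312), (23162, 22959), (23163, 22326), (23164, 22337), (23165, 21725), (23166, 21726), (23167, 22274)]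
    ⟨e3 q23104 (flp_j L750490) q23305, e3 q23105 (flp_j L750605) q23313, e3 q23106 (flp_j L756377) q23778, e3 q23107 (flp_j L761078) q24345, e3 q23108 L747960 q21630, e3 q23109 (flp_j L761220) q24369, e3 q23110 (flp_j L761086) q24346, e3 q23111 (flp_j L761092) q24347, e3 q23112 (flp_j L761100) q24348, e3 q23113 (flp_j L761106) q24349, e3 q23114 (flp_j L761116) q24350, e3 q23115 L747990 q21636, e3 q23116 (flp_j L761264) q24378, e3 q23117 (flp_j L761142) q24354, e3 q23118 (flp_j L761146) q24355, e3 q23119 L748008 q21647, e3 q23120 L748016 q21649, e3 q23121 L748025 q21650, e3 q23122 L748031 q21653, e3 q23123 L748041 q21654, e3 q23124 (flp_j L758725) q24017, e3 q23125 (flp_j L760748) q24293, e3 q23126 (flp_j L761278) q24381, e3 q23127 (flp_j L761286) q24382, e3 q23128 L748078 q21652, e3 q23129 (flp_j L761331) q24387, e3 q23130 (flp_j L761296) q24383, e3 q23131 L748103 q21656, e3 q23132 (flp_j L750048) q23276, e3 q23133 L748124 q21666, e3 q23134 L748132 q21669, e3 q23135 L748137 q21670, e3 q23136 L748148 q21694, e3 q23137 (flp_j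 L757171) q23854, e3 q23138 (flp_j L758648) q24009, e3 q23139 (flp_j L749964) q23270, e3 q23140 L752370 q23449, e3 q23141 (flp_j L756615) q23802, e3 q23142 (flp_j L761338) q24388, e3 q23143 (flp_j L755885) q23734, e3 q23144 (flp_j L751371) q23370, e3 q23145 (flp_j L759007) q24047, e3 q23146 L748207 q21698, e3 q23147 (flp_j L749127) q23210, e3 q23148 (flp_j L758746) q24019, e3 q23149 (flp_j L750504) q23306, e3 q23150 (flp_j L750619) q23314, e3 q23151 (flp_j L759018) q24048, e3 q23152 L748250 q21697, e3 q23153 L748259 q21696, e3 q23154 L748269 q21695, e3 q23155 (flp_j L761348) q24389, e3 q23156 (flp_j L761422) q24401, e3 q23157 (flp_j L749910) q23266, e3 q23158 L748301 q21718, e3 q23159 L748320 q21739, e3 q23160 L748340 q21769, e3 q23161 L748366 q22312, e3 q23162 L748380 q22959, e3 q23163 L748396 q22326, e3 q23164 L748408 q22337, e3 q23165 L748433 q21725, e3 q23166 L748447 q21726, e3 q23167 L748467 q22274, trivial⟩ (by decide +kernel)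

theorem ce_j_362 : ∀ r, r < 64 → sm gj (Qf (23168 + r)) = Qf (tab Gen.j (23168 + r)) :=
  edges_tab (sm gj) Qf (tab Gen.j) 23168 [(23168, 22691), (23169, 24405), (23170, 24406), (23171, 21735), (23172, 21766), (23173, 21751), (23174, 21754), (23175, 22284), (23176, 22931), (23177, 22893), (23178, 22896), (23179, 22932), (23180, 22954), (23181, 22960), (23182, 21750), (23183, 22923), (23184, 24417), (23185, 24411), (23186, 22924), (23187, 22940), (23188, 21761), (23189, 22686), (23190, 21759), (23191, 24424), (23192, 22928), (23193, 24422), (23194, 21763), (23195, 22968), (23196, 22891), (23197, 22929), (23198, 22282), (23199, 22975), (23200, 22894), (23201, 22895), (23202, 21779), (23203, 21780), (23204, 21781), (23205, 22457), (23206, 22474), (23207, 23059), (23208, 22604), (23209, 23102), (23210, 23147), (23211, 24434), (23212, 24435), (23213, 21877), (23214, 21878), (23215, 21789), (23216, 21790), (23217, 21791), (23218, 22440), (23219, 21792), (23220, 21793), (23221, 22788), (23222, 24445), (23223, 24446), (23224, 24447),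 (23225, 24449), (23226, 24450), (23227, 21798), (23228, 22445), (23229, 21799), (23230, 21800), (23231, 24457)]
    ⟨e3 q23168 L748481 q22691, e3 q23169 (flp_j L761492) q24405, e3 q23170 (flp_j L761504) q24406, e3 q23171 L748521 q21735, e3 q23172 L748541 q21766, e3 q23173 L748562 q21751, e3 q23174 L748576 q21754, e3 q23175 L748592 q22284, e3 q23176 L748608 q22931, e3 q23177 L748620 q22893, e3 q23178 L748638 q22896, e3 q23179 L748652 q22932, e3 q23180 L748673 q22954, e3 q23181 L748685 q22960, e3 q23182 L748707 q21750, e3 q23183 L748725 q22923, e3 q23184 (flp_j L761681) q24417, e3 q23185 (flp_j L761582) q24411, e3 q23186 L748765 q22924, e3 q23187 L748780 q22940, e3 q23188 L748797 q21761, e3 q23189 L748811 q22686, e3 q23190 L748835 q21759, e3 q23191 (flp_j L761791) q24424, e3 q23192 L748861 q22928, e3 q23193 (flp_j L761753) q24422, e3 q23194 L748883 q21763, e3 q23195 L748897 q22968, e3 q23196 L748911 q22891, e3 q23197 L748925 q22929, e3 q23198 L748937 q22282, e3 q23199 L748957 q22975, e3 q23200 L748972 q22894, e3 q23201 L748987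 q22895, e3 q23202 L749000 q21779, e3 q23203 L749021 q21780, e3 q23204 L749034 q21781, e3 q23205 L749050 q22457, e3 q23206 L749070 q22474, e3 q23207 L749080 q23059, e3 q23208 L749099 q22604, e3 q23209 L749116 q23102, e3 q23210 L749127 q23147, e3 q23211 (flp_j L761936) q24434, e3 q23212 (flp_j L761950) q24435, e3 q23213 L749172 q21877, e3 q23214 L749185 q21878, e3 q23215 L749201 q21789, e3 q23216 L749222 q21790, e3 q23217 L749236 q21791, e3 q23218 L749256 q22440, e3 q23219 L749270 q21792, e3 q23220 L749280 q21793, e3 q23221 L749297 q22788, e3 q23222 (flp_j L762109) q24445, e3 q23223 (flp_j L762125) q24446, e3 q23224 (flp_j L762139) q24447, e3 q23225 (flp_j L762176) q24449, e3 q23226 (flp_j L762186) q24450, e3 q23227 L749380 q21798, e3 q23228 L749399 q22445, e3 q23229 L749411 q21799, e3 q23230 L749422 q21800, e3 q23231 (flp_j L762276) q24457, trivial⟩ (by decide +kernel)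

theorem ce_j_363 : ∀ r, r < 64 → sm gj (Qf (23232 + r)) = Qf (tab Gen.j (23232 + r)) :=
  edges_tab (sm gj) Qf (tab Gen.j) 23232 [(23232, 24459), (23233, 24460), (23234, 22697), (23235, 21817), (23236, 21818), (23237, 21819), (23238, 22460), (23239, 21820), (23240, 21821), (23241, 22681), (23242, 22667), (23243, 23017), (23244, 23018), (23245, 22512), (23246, 22815), (23247, 22789), (23248, 22816), (23249, 24465), (23250, 24466), (23251, 24467), (23252, 24469), (23253, 24470), (23254, 21829), (23255, 21830), (23256, 21831), (23257, 22477), (23258, 21832), (23259, 21833), (23260, 24486), (23261, 24487), (23262, 24488), (23263, 24489), (23264, 24491), (23265, 24492), (23266, 23157), (23267, 22484), (23268, 21840), (23269, 21841), (23270, 23139), (23271, 24500), (23272, 21851), (23273, 22679), (23274, 22665), (23275, 22355), (23276, 23132), (23277, 22790), (23278, 22817), (23279, 22871), (23280, 24503), (23281, 21853), (23282, 21856), (23283, 21857), (23284, 24511), (23285, 22119), (23286, 22120), (23287, 22121), (23288, 22122),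 (23289, 22123), (23290, 21867), (23291, 21868), (23292, 21870), (23293, 22988), (23294, 24517), (23295, 24518)]
    ⟨e3 q23232 (flp_j L762306) q24459, e3 q23233 (flp_j L762318) q24460, e3 q23234 L749486 q22697, e3 q23235 L749502 q21817, e3 q23236 L749516 q21818, e3 q23237 L749528 q21819, e3 q23238 L749548 q22460, e3 q23239 L749560 q21820, e3 q23240 L749568 q21821, e3 q23241 L749586 q22681, e3 q23242 L749606 q22667, e3 q23243 L749622 q23017, e3 q23244 L749636 q23018, e3 q23245 L749657 q22512, e3 q23246 L749676 q22815, e3 q23247 L749688 q22789, e3 q23248 L749700 q22816, e3 q23249 (flp_j L762398) q24465, e3 q23250 (flp_j L762410) q24466, e3 q23251 (flp_j L762424) q24467, e3 q23252 (flp_j L762450) q24469, e3 q23253 (flp_j L762458) q24470, e3 q23254 L749762 q21829, e3 q23255 L749773 q21830, e3 q23256 L749787 q21831, e3 q23257 L749800 q22477, e3 q23258 L749810 q21832, e3 q23259 L749821 q21833, e3 q23260 (flp_j L762658) q24486, e3 q23261 (flp_j L762668) q24487, e3 q23262 (flp_j L762688) q24488, e3 q23263 (flp_j L762703) q24489,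 e3 q23264 (flp_j L762726) q24491, e3 q23265 (flp_j L762738) q24492, e3 q23266 L749910 q23157, e3 q23267 L749929 q22484, e3 q23268 L749938 q21840, e3 q23269 L749950 q21841, e3 q23270 L749964 q23139, e3 q23271 (flp_j L762849) q24500, e3 q23272 L749992 q21851, e3 q23273 L750009 q22679, e3 q23274 L750022 q22665, e3 q23275 L750033 q22355, e3 q23276 L750048 q23132, e3 q23277 L750062 q22790, e3 q23278 L750073 q22817, e3 q23279 L750087 q22871, e3 q23280 (flp_j L762893) q24503, e3 q23281 L750112 q21853, e3 q23282 L750131 q21856, e3 q23283 L750145 q21857, e3 q23284 (flp_j L763012) q24511, e3 q23285 L750177 q22119, e3 q23286 L750197 q22120, e3 q23287 L750209 q22121, e3 q23288 L750228 q22122, e3 q23289 L750239 q22123, e3 q23290 L750259 q21867, e3 q23291 L750271 q21868, e3 q23292 L750285 q21870, e3 q23293 L750302 q22988, e3 q23294 (flp_j L763108) q24517, e3 q23295 (flp_j L763120) q24518, trivial⟩ (by decide +kernel)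

theorem ce_j_364 : ∀ r, r < 64 → sm gj (Qf (23296 + r)) = Qf (tab Gen.j (23296 + r)) :=
  edges_tab (sm gj) Qf (tab Gen.j) 23296 [(23296, 22953), (23297, 24519), (23298, 21872), (23299, 22973), (23300, 22974), (23301, 22935), (23302, 24444), (23303, 21885), (23304, 23061), (23305, 23104), (23306, 23149), (23307, 22957), (23308, 24528), (23309, 22976), (23310, 22738), (23311, 22739), (23312, 21898), (23313, 23105), (23314, 23150), (23315, 21896), (23316, 24540), (23317, 22958), (23318, 24537), (23319, 21900), (23320, 24545), (23321, 22977), (23322, 21903), (23323, 21905), (23324, 24547), (23325, 21916), (23326, 21917), (23327, 21918), (23328, 21919), (23329, 21920), (23330, 21921), (23331, 22521), (23332, 21922), (23333, 21923), (23334, 22251), (23335, 22252), (23336, 24548), (23337, 24549), (23338, 24550), (23339, 24551), (23340, 24552), (23341, 24553), (23342, 24555), (23343, 24556), (23344, 22500), (23345, 22516), (23346, 22791), (23347, 21936), (23348, 21937), (23349, 21940), (23350, 21942), (23351, 21943), (23352, 23054),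 (23353, 21946), (23354, 21947), (23355, 23045), (23356, 24570), (23357, 24571), (23358, 22680), (23359, 22668)]
    ⟨e3 q23296 L750349 q22953, e3 q23297 (flp_j L763135) q24519, e3 q23298 L750370 q21872, e3 q23299 L750389 q22973, e3 q23300 L750407 q22974, e3 q23301 L750429 q22935, e3 q23302 (flp_j L762090) q24444, e3 q23303 L750455 q21885, e3 q23304 L750474 q23061, e3 q23305 L750490 q23104, e3 q23306 L750504 q23149, e3 q23307 L750525 q22957, e3 q23308 (flp_j L763264) q24528, e3 q23309 L750549 q22976, e3 q23310 L750569 q22738, e3 q23311 L750581 q22739, e3 q23312 L750589 q21898, e3 q23313 L750605 q23105, e3 q23314 L750619 q23150, e3 q23315 L750641 q21896, e3 q23316 (flp_j L763442) q24540, e3 q23317 L750665 q22958, e3 q23318 (flp_j L763392) q24537, e3 q23319 L750689 q21900, e3 q23320 (flp_j L763500) q24545, e3 q23321 L750715 q22977, e3 q23322 L750728 q21903, e3 q23323 L750748 q21905, e3 q23324 (flp_j L763534) q24547, e3 q23325 L750778 q21916, e3 q23326 L750798 q21917, e3 q23327 L750808 q21918, e3 q23328 L750827 q21919, e3 q23329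 L750844 q21920, e3 q23330 L750855 q21921, e3 q23331 L750874 q22521, e3 q23332 L750887 q21922, e3 q23333 L750897 q21923, e3 q23334 L750911 q22251, e3 q23335 L750931 q22252, e3 q23336 (flp_j L763557) q24548, e3 q23337 (flp_j L763570) q24549, e3 q23338 (flp_j L763589) q24550, e3 q23339 (flp_j L763606) q24551, e3 q23340 (flp_j L763618) q24552, e3 q23341 (flp_j L763629) q24553, e3 q23342 (flp_j L763662) q24555, e3 q23343 (flp_j L763672) q24556, e3 q23344 L751034 q22500, e3 q23345 L751045 q22516, e3 q23346 L751055 q22791, e3 q23347 L751073 q21936, e3 q23348 L751085 q21937, e3 q23349 L751100 q21940, e3 q23350 L751112 q21942, e3 q23351 L751122 q21943, e3 q23352 L751139 q23054, e3 q23353 L751153 q21946, e3 q23354 L751161 q21947, e3 q23355 L751180 q23045, e3 q23356 (flp_j L763846) q24570, e3 q23357 (flp_j L763858) q24571, e3 q23358 L751227 q22680, e3 q23359 L751244 q22668, trivial⟩ (by decide +kernel)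

theorem ce_j_365 : ∀ r, r < 64 → sm gj (Qf (23360 + r)) = Qf (tab Gen.j (23360 + r)) :=
  edges_tab (sm gj) Qf (tab Gen.j) 23360 [(23360, 24572), (23361, 23031), (23362, 24573), (23363, 24574), (23364, 21945), (23365, 24588), (23366, 24576), (23367, 24577), (23368, 21953), (23369, 21955), (23370, 23144), (23371, 21958), (23372, 21959), (23373, 24593), (23374, 21957), (23375, 24597), (23376, 24595), (23377, 24596), (23378, 21961), (23379, 21962), (23380, 24600), (23381, 22818), (23382, 22819), (23383, 21976), (23384, 21977), (23385, 21981), (23386, 21982), (23387, 21988), (23388, 21989), (23389, 21972), (23390, 24611), (23391, 21992), (23392, 21993), (23393, 22715), (23394, 24604), (23395, 24605), (23396, 22360), (23397, 22717), (23398, 23029), (23399, 24606), (23400, 24607), (23401, 22615), (23402, 22719), (23403, 21986), (23404, 24628), (23405, 23032), (23406, 24608), (23407, 24609), (23408, 24610), (23409, 21991), (23410, 24635), (23411, 24613), (23412, 24614), (23413, 24615), (23414, 22001), (23415, 22003), (23416, 22006),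 (23417, 21998), (23418, 24643), (23419, 22009), (23420, 22010), (23421, 22011), (23422, 24641), (23423, 22005)]
    ⟨e3 q23360 (flp_j L763874) q24572, e3 q23361 L751265 q23031, e3 q23362 (flp_j L763884) q24573, e3 q23363 (flp_j L763892) q24574, e3 q23364 L751298 q21945, e3 q23365 (flp_j L764073) q24588, e3 q23366 (flp_j L763921) q24576, e3 q23367 (flp_j L763927) q24577, e3 q23368 L751337 q21953, e3 q23369 L751353 q21955, e3 q23370 L751371 q23144, e3 q23371 L751383 q21958, e3 q23372 L751393 q21959, e3 q23373 (flp_j L764121) q24593, e3 q23374 L751427 q21957, e3 q23375 (flp_j L764180) q24597, e3 q23376 (flp_j L764150) q24595, e3 q23377 (flp_j L764165) q24596, e3 q23378 L751475 q21961, e3 q23379 (flp_j L751484) q21962, e3 q23380 (flp_j L764230) q24600, e3 q23381 L751523 q22818, e3 q23382 L751531 q22819, e3 q23383 L751549 q21976, e3 q23384 L751563 q21977, e3 q23385 L751577 q21981, e3 q23386 L751585 q21982, e3 q23387 L751595 q21988, e3 q23388 L751603 q21989, e3 q23389 L751621 q21972, e3 q23390 (flp_j L764357) q24611, e3 q23391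 L751643 q21992, e3 q23392 L751649 q21993, e3 q23393 L751667 q22715, e3 q23394 (flp_j L764273) q24604, e3 q23395 (flp_j L764287) q24605, e3 q23396 L751717 q22360, e3 q23397 L751731 q22717, e3 q23398 L751747 q23029, e3 q23399 (flp_j L764301) q24606, e3 q23400 (flp_j L764309) q24607, e3 q23401 L751777 q22615, e3 q23402 L751789 q22719, e3 q23403 L751809 q21986, e3 q23404 (flp_j L764577) q24628, e3 q23405 L751833 q23032, e3 q23406 (flp_j L764319) q24608, e3 q23407 (flp_j L764329) q24609, e3 q23408 (flp_j L764339) q24610, e3 q23409 L751867 q21991, e3 q23410 (flp_j L764653) q24635, e3 q23411 (flp_j L764377) q24613, e3 q23412 (flp_j L764389) q24614, e3 q23413 (flp_j L764397) q24615, e3 q23414 L751900 q22001, e3 q23415 L751919 q22003, e3 q23416 L751933 q22006, e3 q23417 L751948 q21998, e3 q23418 (flp_j L764725) q24643, e3 q23419 L751973 q22009, e3 q23420 L751985 q22010, e3 q23421 L751996 q22011, e3 q23422 (flp_j L764695) q24641, e3 q23423 L752034 q22005, trivial⟩ (by decide +kernel)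

theorem ce_j_366 : ∀ r, r < 64 → sm gj (Qf (23424 + r)) = Qf (tab Gen.j (23424 + r)) :=
  edges_tab (sm gj) Qf (tab Gen.j) 23424 [(23424, 23039), (23425, 22008), (23426, 24647), (23427, 24645), (23428, 24646), (23429, 22016), (23430, 24650), (23431, 22023), (23432, 22024), (23433, 22021), (23434, 22022), (23435, 24653), (23436, 24652), (23437, 22676), (23438, 22034), (23439, 22038), (23440, 22716), (23441, 22041), (23442, 22361), (23443, 22718), (23444, 22724), (23445, 24654), (23446, 22640), (23447, 22720), (23448, 22725), (23449, 23140), (23450, 22674), (23451, 22104), (23452, 22105), (23453, 22139), (23454, 22140), (23455, 22142), (23456, 22143), (23457, 22208), (23458, 22209), (23459, 22210), (23460, 22234), (23461, 22235), (23462, 22236), (23463, 22237), (23464, 22287), (23465, 22336), (23466, 22090), (23467, 22091), (23468, 24662), (23469, 22098), (23470, 22099), (23471, 22132), (23472, 22137), (23473, 22129), (23474, 24664), (23475, 22138), (23476, 22130), (23477, 22135), (23478, 22170), (23479, 22171), (23480, 22113),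 (23481, 22153), (23482, 22158), (23483, 22150), (23484, 24671), (23485, 22151), (23486, 22168), (23487, 22164)]
    ⟨e3 q23424 (flp_j L752054) q23039, e3 q23425 L752062 q22008, e3 q23426 (flp_j L764779) q24647, e3 q23427 (flp_j L764753) q24645, e3 q23428 (flp_j L764771) q24646, e3 q23429 L752107 q22016, e3 q23430 (flp_j L764815) q24650, e3 q23431 L752133 q22023, e3 q23432 L752148 q22024, e3 q23433 L752161 q22021, e3 q23434 L752172 q22022, e3 q23435 (flp_j L764863) q24653, e3 q23436 (flp_j L764846) q24652, e3 q23437 L752207 q22676, e3 q23438 L752216 q22034, e3 q23439 L752227 q22038, e3 q23440 L752244 q22716, e3 q23441 L752258 q22041, e3 q23442 L752275 q22361, e3 q23443 L752287 q22718, e3 q23444 L752301 q22724, e3 q23445 (flp_j L764880) q24654, e3 q23446 L752327 q22640, e3 q23447 L752342 q22720, e3 q23448 L752354 q22725, e3 q23449 (flp_j L752370) q23140, e3 q23450 L752382 q22674, e3 q23451 L752394 q22104, e3 q23452 L752413 q22105, e3 q23453 L752432 q22139, e3 q23454 L752451 q22140, e3 q23455 L752470 q22142, e3 q23456 L752489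 q22143, e3 q23457 L752508 q22208, e3 q23458 L752527 q22209, e3 q23459 L752546 q22210, e3 q23460 L752563 q22234, e3 q23461 L752585 q22235, e3 q23462 L752603 q22236, e3 q23463 L752624 q22237, e3 q23464 L752643 q22287, e3 q23465 L752662 q22336, e3 q23466 L752687 q22090, e3 q23467 L752699 q22091, e3 q23468 (flp_j L764997) q24662, e3 q23469 L752737 q22098, e3 q23470 L752751 q22099, e3 q23471 L752771 q22132, e3 q23472 L752785 q22137, e3 q23473 L752805 q22129, e3 q23474 (flp_j L765031) q24664, e3 q23475 L752827 q22138, e3 q23476 L752848 q22130, e3 q23477 L752860 q22135, e3 q23478 L752885 q22170, e3 q23479 L752899 q22171, e3 q23480 L752915 q22113, e3 q23481 L752929 q22153, e3 q23482 L752941 q22158, e3 q23483 L752961 q22150, e3 q23484 (flp_j L765143) q24671, e3 q23485 L752983 q22151, e3 q23486 L752999 q22168, e3 q23487 L753016 q22164, trivial⟩ (by decide +kernel)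

theorem ce_j_367 : ∀ r, r < 64 → sm gj (Qf (23488 + r)) = Qf (tab Gen.j (23488 + r)) :=
  edges_tab (sm gj) Qf (tab Gen.j) 23488 [(23488, 22904), (23489, 22897), (23490, 24513), (23491, 24514), (23492, 24515), (23493, 24516), (23494, 22133), (23495, 22698), (23496, 22706), (23497, 22990), (23498, 24667), (23499, 24669), (23500, 22177), (23501, 24665), (23502, 24683), (23503, 22708), (23504, 22207), (23505, 22178), (23506, 24666), (23507, 22205), (23508, 22181), (23509, 22695), (23510, 22154), (23511, 22942), (23512, 22943), (23513, 22368), (23514, 24674), (23515, 24676), (23516, 22951), (23517, 24672), (23518, 24697), (23519, 22232), (23520, 22952), (23521, 22223), (23522, 24673), (23523, 22972), (23524, 22242), (23525, 22970), (23526, 22371), (23527, 22372), (23528, 22240), (23529, 24670), (23530, 22179), (23531, 22186), (23532, 22199), (23533, 22206), (23534, 22979), (23535, 24689), (23536, 24693), (23537, 24712), (23538, 22187), (23539, 22188), (23540, 22567), (23541, 22581), (23542, 22835), (23543, 22877), (23544, 24713),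 (23545, 24719), (23546, 22197), (23547, 22198), (23548, 22200), (23549, 22221), (23550, 22229), (23551, 22571)]
    ⟨e3 q23488 L753031 q22904, e3 q23489 L753050 q22897, e3 q23490 (flp_j L763048) q24513, e3 q23491 (flp_j L763061) q24514, e3 q23492 (flp_j L763080) q24515, e3 q23493 (flp_j L763092) q24516, e3 q23494 L753111 q22133, e3 q23495 L753131 q22698, e3 q23496 L753143 q22706, e3 q23497 L753158 q22990, e3 q23498 (flp_j L765084) q24667, e3 q23499 (flp_j L765112) q24669, e3 q23500 L753197 q22177, e3 q23501 (flp_j L765049) q24665, e3 q23502 (flp_j L765308) q24683, e3 q23503 L753223 q22708, e3 q23504 L753242 q22207, e3 q23505 L753261 q22178, e3 q23506 (flp_j L765063) q24666, e3 q23507 L753280 q22205, e3 q23508 L753297 q22181, e3 q23509 L753318 q22695, e3 q23510 L753324 q22154, e3 q23511 L753340 q22942, e3 q23512 L753352 q22943, e3 q23513 L753370 q22368, e3 q23514 (flp_j L765187) q24674, e3 q23515 (flp_j L765211) q24676, e3 q23516 L753398 q22951, e3 q23517 (flp_j L765157) q24672, e3 q23518 (flp_j L765487) q24697, e3 q23519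 L753424 q22232, e3 q23520 L753438 q22952, e3 q23521 L753452 q22223, e3 q23522 (flp_j L765171) q24673, e3 q23523 L753476 q22972, e3 q23524 L753493 q22242, e3 q23525 L753508 q22970, e3 q23526 L753521 q22371, e3 q23527 L753537 q22372, e3 q23528 L753554 q22240, e3 q23529 (flp_j L765133) q24670, e3 q23530 L753583 q22179, e3 q23531 L753595 q22186, e3 q23532 L753616 q22199, e3 q23533 L753630 q22206, e3 q23534 L753647 q22979, e3 q23535 (flp_j L765391) q24689, e3 q23536 (flp_j L765436) q24693, e3 q23537 (flp_j L765661) q24712, e3 q23538 L753694 q22187, e3 q23539 L753707 q22188, e3 q23540 L753721 q22567, e3 q23541 L753740 q22581, e3 q23542 L753759 q22835, e3 q23543 L753772 q22877, e3 q23544 (flp_j L765680) q24713, e3 q23545 (flp_j L765750) q24719, e3 q23546 L753817 q22197, e3 q23547 L753829 q22198, e3 q23548 L753839 q22200, e3 q23549 L753857 q22221, e3 q23550 L753871 q22229, e3 q23551 L753886 q22571, trivial⟩ (by decide +kernel)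

theorem ce_j_368 : ∀ r, r < 64 → sm gj (Qf (23552 + r)) = Qf (tab Gen.j (23552 + r)) :=
  edges_tab (sm gj) Qf (tab Gen.j) 23552 [(23552, 22219), (23553, 24726), (23554, 24694), (23555, 24714), (23556, 24727), (23557, 22230), (23558, 22220), (23559, 22286), (23560, 24692), (23561, 22283), (23562, 22926), (23563, 22222), (23564, 22271), (23565, 22224), (23566, 22225), (23567, 22281), (23568, 24731), (23569, 22969), (23570, 24728), (23571, 24740), (23572, 24709), (23573, 24742), (23574, 24743), (23575, 22916), (23576, 22335), (23577, 24729), (23578, 22329), (23579, 22328), (23580, 22333), (23581, 22330), (23582, 24703), (23583, 22357), (23584, 22921), (23585, 22978), (23586, 22342), (23587, 22341), (23588, 22253), (23589, 22254), (23590, 22255), (23591, 22256), (23592, 22257), (23593, 22258), (23594, 24557), (23595, 24558), (23596, 22596), (23597, 24762), (23598, 24763), (23599, 24764), (23600, 24765), (23601, 24766), (23602, 24767), (23603, 22701), (23604, 22269), (23605, 22270), (23606, 22272), (23607, 22273), (23608, 22275),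 (23609, 22276), (23610, 22898), (23611, 22899), (23612, 22900), (23613, 24778), (23614, 24779), (23615, 24741)]
    ⟨e3 q23552 L753904 q22219, e3 q23553 (flp_j L765861) q24726, e3 q23554 (flp_j L765451) q24694, e3 q23555 (flp_j L765696) q24714, e3 q23556 (flp_j L765869) q24727, e3 q23557 L753955 q22230, e3 q23558 L753976 q22220, e3 q23559 L753992 q22286, e3 q23560 (flp_j L765419) q24692, e3 q23561 L754016 q22283, e3 q23562 L754033 q22926, e3 q23563 L754043 q22222, e3 q23564 L754061 q22271, e3 q23565 L754073 q22224, e3 q23566 L754079 q22225, e3 q23567 L754095 q22281, e3 q23568 (flp_j L765933) q24731, e3 q23569 L754115 q22969, e3 q23570 (flp_j L765887) q24728, e3 q23571 (flp_j L766025) q24740, e3 q23572 (flp_j L765617) q24709, e3 q23573 (flp_j L766053) q24742, e3 q23574 (flp_j L766061) q24743, e3 q23575 L754165 q22916, e3 q23576 L754187 q22335, e3 q23577 (flp_j L765901) q24729, e3 q23578 L754212 q22329, e3 q23579 L754233 q22328, e3 q23580 L754246 q22333, e3 q23581 L754256 q22330, e3 q23582 (flp_j L765549) q24703, e3 q23583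 L754276 q22357, e3 q23584 L754289 q22921, e3 q23585 L754301 q22978, e3 q23586 L754312 q22342, e3 q23587 L754326 q22341, e3 q23588 L754339 q22253, e3 q23589 L754358 q22254, e3 q23590 L754375 q22255, e3 q23591 L754386 q22256, e3 q23592 L754399 q22257, e3 q23593 L754409 q22258, e3 q23594 (flp_j L763694) q24557, e3 q23595 (flp_j L763707) q24558, e3 q23596 L754447 q22596, e3 q23597 (flp_j L766293) q24762, e3 q23598 (flp_j L766310) q24763, e3 q23599 (flp_j L766322) q24764, e3 q23600 (flp_j L766333) q24765, e3 q23601 (flp_j L766345) q24766, e3 q23602 (flp_j L766355) q24767, e3 q23603 L754516 q22701, e3 q23604 L754533 q22269, e3 q23605 L754550 q22270, e3 q23606 L754560 q22272, e3 q23607 L754570 q22273, e3 q23608 L754583 q22275, e3 q23609 L754589 q22276, e3 q23610 L754608 q22898, e3 q23611 L754624 q22899, e3 q23612 L754638 q22900, e3 q23613 (flp_j L766480) q24778, e3 q23614 (flp_j L766493) q24779, e3 q23615 (flp_j L766041) q24741, trivial⟩ (by decide +kernel)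

theorem ce_j_369 : ∀ r, r < 64 → sm gj (Qf (23616 + r)) = Qf (tab Gen.j (23616 + r)) :=
  edges_tab (sm gj) Qf (tab Gen.j) 23616 [(23616, 24780), (23617, 24781), (23618, 24407), (23619, 24782), (23620, 24783), (23621, 22285), (23622, 22902), (23623, 24430), (23624, 24737), (23625, 22941), (23626, 24736), (23627, 24797), (23628, 22944), (23629, 22945), (23630, 22308), (23631, 22309), (23632, 22310), (23633, 22311), (23634, 22313), (23635, 22314), (23636, 22315), (23637, 22318), (23638, 22319), (23639, 22376), (23640, 22890), (23641, 22905), (23642, 22906), (23643, 22907), (23644, 22908), (23645, 22909), (23646, 22910), (23647, 24804), (23648, 24805), (23649, 24806), (23650, 24807), (23651, 24402), (23652, 24808), (23653, 24809), (23654, 24810), (23655, 24758), (23656, 22317), (23657, 24835), (23658, 24811), (23659, 24812), (23660, 24813), (23661, 22327), (23662, 22334), (23663, 22913), (23664, 22914), (23665, 22915), (23666, 24404), (23667, 24757), (23668, 24841), (23669, 24755), (23670, 24754), (23671, 22963), (23672, 24750),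 (23673, 22920), (23674, 24761), (23675, 24651), (23676, 22353), (23677, 22354), (23678, 22356), (23679, 22377)]
    ⟨e3 q23616 (flp_j L766499) q24780, e3 q23617 (flp_j L766507) q24781, e3 q23618 (flp_j L761526) q24407, e3 q23619 (flp_j L766518) q24782, e3 q23620 (flp_j L766524) q24783, e3 q23621 L754712 q22285, e3 q23622 L754727 q22902, e3 q23623 (flp_j L761865) q24430, e3 q23624 (flp_j L765995) q24737, e3 q23625 L754759 q22941, e3 q23626 (flp_j L765980) q24736, e3 q23627 (flp_j L766650) q24797, e3 q23628 L754780 q22944, e3 q23629 L754786 q22945, e3 q23630 L754803 q22308, e3 q23631 L754818 q22309, e3 q23632 L754832 q22310, e3 q23633 L754842 q22311, e3 q23634 L754854 q22313, e3 q23635 L754860 q22314, e3 q23636 L754866 q22315, e3 q23637 L754876 q22318, e3 q23638 L754882 q22319, e3 q23639 L754902 q22376, e3 q23640 L754916 q22890, e3 q23641 L754933 q22905, e3 q23642 L754945 q22906, e3 q23643 L754957 q22907, e3 q23644 L754971 q22908, e3 q23645 L754981 q22909, e3 q23646 L754991 q22910, e3 q23647 (flp_j L766733) q24804, e3 q23648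 (flp_j L766744) q24805, e3 q23649 (flp_j L766758) q24806, e3 q23650 (flp_j L766766) q24807, e3 q23651 (flp_j L761441) q24402, e3 q23652 (flp_j L766776) q24808, e3 q23653 (flp_j L766780) q24809, e3 q23654 (flp_j L766788) q24810, e3 q23655 (flp_j L766226) q24758, e3 q23656 L755063 q22317, e3 q23657 (flp_j L767008) q24835, e3 q23658 (flp_j L766796) q24811, e3 q23659 (flp_j L766804) q24812, e3 q23660 (flp_j L766812) q24813, e3 q23661 L755097 q22327, e3 q23662 L755104 q22334, e3 q23663 L755116 q22913, e3 q23664 L755133 q22914, e3 q23665 L755146 q22915, e3 q23666 (flp_j L761471) q24404, e3 q23667 (flp_j L766211) q24757, e3 q23668 (flp_j L767056) q24841, e3 q23669 (flp_j L766183) q24755, e3 q23670 (flp_j L766167) q24754, e3 q23671 L755190 q22963, e3 q23672 (flp_j L766129) q24750, e3 q23673 L755210 q22920, e3 q23674 (flp_j L766271) q24761, e3 q23675 (flp_j L764832) q24651, e3 q23676 L755241 q22353, e3 q23677 L755250 q22354, e3 q23678 L755258 q22356, e3 q23679 L755274 q22377, trivial⟩ (by decide +kernel)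

theorem ce_j_370 : ∀ r, r < 64 → sm gj (Qf (23680 + r)) = Qf (tab Gen.j (23680 + r)) :=
  edges_tab (sm gj) Qf (tab Gen.j) 23680 [(23680, 22411), (23681, 22917), (23682, 22918), (23683, 22919), (23684, 24851), (23685, 24505), (23686, 24852), (23687, 24506), (23688, 24759), (23689, 22362), (23690, 24619), (23691, 24657), (23692, 24861), (23693, 22364), (23694, 22980), (23695, 22369), (23696, 24700), (23697, 24866), (23698, 24710), (23699, 22378), (23700, 22379), (23701, 24814), (23702, 24853), (23703, 24870), (23704, 24871), (23705, 22424), (23706, 22984), (23707, 22385), (23708, 22386), (23709, 24878), (23710, 24879), (23711, 22389), (23712, 24883), (23713, 22989), (23714, 22991), (23715, 22992), (23716, 22400), (23717, 22403), (23718, 22404), (23719, 23019), (23720, 22986), (23721, 22983), (23722, 24887), (23723, 22402), (23724, 24895), (23725, 24888), (23726, 24889), (23727, 24890), (23728, 22409), (23729, 22407), (23730, 24901), (23731, 23043), (23732, 24433), (23733, 22414), (23734, 23143), (23735, 22418), (23736, 24905),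 (23737, 22999), (23738, 22425), (23739, 22426), (23740, 22427), (23741, 24876), (23742, 24908), (23743, 24909)]
    ⟨e3 q23680 L755285 q22411, e3 q23681 L755299 q22917, e3 q23682 L755310 q22918, e3 q23683 L755324 q22919, e3 q23684 (flp_j L767152) q24851, e3 q23685 (flp_j L762922) q24505, e3 q23686 (flp_j L767161) q24852, e3 q23687 (flp_j L762938) q24506, e3 q23688 (flp_j L766240) q24759, e3 q23689 L755383 q22362, e3 q23690 (flp_j L764461) q24619, e3 q23691 (flp_j L764918) q24657, e3 q23692 (flp_j L767264) q24861, e3 q23693 L755437 q22364, e3 q23694 L755456 q22980, e3 q23695 L755464 q22369, e3 q23696 (flp_j L765523) q24700, e3 q23697 (flp_j L767327) q24866, e3 q23698 (flp_j L765631) q24710, e3 q23699 L755511 q22378, e3 q23700 L755519 q22379, e3 q23701 (flp_j L766830) q24814, e3 q23702 (flp_j L767174) q24853, e3 q23703 (flp_j L767372) q24870, e3 q23704 (flp_j L767378) q24871, e3 q23705 L755572 q22424, e3 q23706 L755584 q22984, e3 q23707 L755598 q22385, e3 q23708 L755606 q22386, e3 q23709 (flp_j L767453) q24878, e3 q23710 (flp_j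 L767463) q24879, e3 q23711 L755638 q22389, e3 q23712 (flp_j L767505) q24883, e3 q23713 L755668 q22989, e3 q23714 L755679 q22991, e3 q23715 L755685 q22992, e3 q23716 L755697 q22400, e3 q23717 L755709 q22403, e3 q23718 L755715 q22404, e3 q23719 L755727 q23019, e3 q23720 L755745 q22986, e3 q23721 L755761 q22983, e3 q23722 (flp_j L767554) q24887, e3 q23723 L755791 q22402, e3 q23724 (flp_j L767650) q24895, e3 q23725 (flp_j L767566) q24888, e3 q23726 (flp_j L767572) q24889, e3 q23727 (flp_j L767582) q24890, e3 q23728 L755821 q22409, e3 q23729 L755835 q22407, e3 q23730 (flp_j L767690) q24901, e3 q23731 L755851 q23043, e3 q23732 (flp_j L761914) q24433, e3 q23733 L755876 q22414, e3 q23734 L755885 q23143, e3 q23735 L755900 q22418, e3 q23736 (flp_j L767730) q24905, e3 q23737 L755922 q22999, e3 q23738 L755934 q22425, e3 q23739 L755944 q22426, e3 q23740 L755953 q22427, e3 q23741 (flp_j L767431) q24876, e3 q23742 (flp_j L767760) q24908, e3 q23743 (flp_j L767768) q24909, trivial⟩ (by decide +kernel)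

theorem ce_j_371 : ∀ r, r < 64 → sm gj (Qf (23744 + r)) = Qf (tab Gen.j (23744 + r)) :=
  edges_tab (sm gj) Qf (tab Gen.j) 23744 [(23744, 24910), (23745, 22435), (23746, 22436), (23747, 22834), (23748, 22836), (23749, 22878), (23750, 24915), (23751, 24916), (23752, 23002), (23753, 23003), (23754, 24448), (23755, 22443), (23756, 22444), (23757, 24925), (23758, 24926), (23759, 24458), (23760, 22448), (23761, 22449), (23762, 24931), (23763, 24932), (23764, 22841), (23765, 23022), (23766, 23023), (23767, 23024), (23768, 22467), (23769, 22469), (23770, 24436), (23771, 22470), (23772, 22471), (23773, 24468), (23774, 22472), (23775, 22473), (23776, 23040), (23777, 23063), (23778, 23106), (23779, 23055), (23780, 24938), (23781, 23056), (23782, 24939), (23783, 24941), (23784, 24942), (23785, 24944), (23786, 24945), (23787, 24946), (23788, 24437), (23789, 22480), (23790, 22481), (23791, 24490), (23792, 22482), (23793, 22483), (23794, 24961), (23795, 24962), (23796, 24965), (23797, 24498), (23798, 24499), (23799, 22487), (23800, 24860),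 (23801, 22664), (23802, 23141), (23803, 22810), (23804, 22507), (23805, 22508), (23806, 22513), (23807, 22514)]
    ⟨e3 q23744 (flp_j L767775) q24910, e3 q23745 L755990 q22435, e3 q23746 L756004 q22436, e3 q23747 L756019 q22834, e3 q23748 L756033 q22836, e3 q23749 L756044 q22878, e3 q23750 (flp_j L767816) q24915, e3 q23751 (flp_j L767826) q24916, e3 q23752 L756080 q23002, e3 q23753 L756094 q23003, e3 q23754 (flp_j L762162) q24448, e3 q23755 L756118 q22443, e3 q23756 L756126 q22444, e3 q23757 (flp_j L767938) q24925, e3 q23758 (flp_j L767948) q24926, e3 q23759 (flp_j L762294) q24458, e3 q23760 L756169 q22448, e3 q23761 L756181 q22449, e3 q23762 (flp_j L768000) q24931, e3 q23763 (flp_j L768011) q24932, e3 q23764 L756221 q22841, e3 q23765 L756235 q23022, e3 q23766 L756246 q23023, e3 q23767 L756254 q23024, e3 q23768 L756267 q22467, e3 q23769 L756277 q22469, e3 q23770 (flp_j L761970) q24436, e3 q23771 L756305 q22470, e3 q23772 L756315 q22471, e3 q23773 (flp_j L762440) q24468, e3 q23774 L756335 q22472, e3 q23775 L756341 q22473,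 e3 q23776 L756357 q23040, e3 q23777 L756367 q23063, e3 q23778 L756377 q23106, e3 q23779 L756394 q23055, e3 q23780 (flp_j L768083) q24938, e3 q23781 L756413 q23056, e3 q23782 (flp_j L768093) q24939, e3 q23783 (flp_j L768123) q24941, e3 q23784 (flp_j L768133) q24942, e3 q23785 (flp_j L768151) q24944, e3 q23786 (flp_j L768157) q24945, e3 q23787 (flp_j L768163) q24946, e3 q23788 (flp_j L761983) q24437, e3 q23789 L756484 q22480, e3 q23790 L756496 q22481, e3 q23791 (flp_j L762716) q24490, e3 q23792 L756518 q22482, e3 q23793 L756526 q22483, e3 q23794 (flp_j L768316) q24961, e3 q23795 (flp_j L768329) q24962, e3 q23796 (flp_j L768359) q24965, e3 q23797 (flp_j L762822) q24498, e3 q23798 (flp_j L762836) q24499, e3 q23799 L756580 q22487, e3 q23800 (flp_j L767254) q24860, e3 q23801 L756600 q22664, e3 q23802 L756615 q23141, e3 q23803 L756629 q22810, e3 q23804 L756647 q22507, e3 q23805 L756658 q22508, e3 q23806 L756675 q22513, e3 q23807 L756685 q22514, trivial⟩ (by decide +kernel)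

theorem ce_j_372 : ∀ r, r < 64 → sm gj (Qf (23808 + r)) = Qf (tab Gen.j (23808 + r)) :=
  edges_tab (sm gj) Qf (tab Gen.j) 23808 [(23808, 22515), (23809, 24567), (23810, 22517), (23811, 22518), (23812, 22749), (23813, 22772), (23814, 22539), (23815, 23060), (23816, 24973), (23817, 24642), (23818, 22832), (23819, 22599), (23820, 22833), (23821, 24475), (23822, 24974), (23823, 24975), (23824, 24656), (23825, 24568), (23826, 24977), (23827, 24978), (23828, 23046), (23829, 24554), (23830, 23047), (23831, 23048), (23832, 22534), (23833, 23037), (23834, 22540), (23835, 22541), (23836, 22530), (23837, 25006), (23838, 22544), (23839, 22545), (23840, 23028), (23841, 25002), (23842, 22837), (23843, 23096), (23844, 23053), (23845, 23097), (23846, 24981), (23847, 25004), (23848, 25005), (23849, 22543), (23850, 25021), (23851, 25008), (23852, 25009), (23853, 25010), (23854, 23137), (23855, 22555), (23856, 22550), (23857, 25028), (23858, 22558), (23859, 22559), (23860, 22560), (23861, 22554), (23862, 24660), (23863, 22557), (23864, 25033),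 (23865, 25034), (23866, 25031), (23867, 25032), (23868, 22563), (23869, 22666), (23870, 22602), (23871, 24720)]
    ⟨e3 q23808 L756692 q22515, e3 q23809 (flp_j L763809) q24567, e3 q23810 L756712 q22517, e3 q23811 L756716 q22518, e3 q23812 L756732 q22749, e3 q23813 L756743 q22772, e3 q23814 L756761 q22539, e3 q23815 L756772 q23060, e3 q23816 (flp_j L768444) q24973, e3 q23817 (flp_j L764714) q24642, e3 q23818 L756805 q22832, e3 q23819 L756821 q22599, e3 q23820 L756833 q22833, e3 q23821 (flp_j L762541) q24475, e3 q23822 (flp_j L768459) q24974, e3 q23823 (flp_j L768465) q24975, e3 q23824 (flp_j L764906) q24656, e3 q23825 (flp_j L763818) q24568, e3 q23826 (flp_j L768482) q24977, e3 q23827 (flp_j L768488) q24978, e3 q23828 L756894 q23046, e3 q23829 (flp_j L763651) q24554, e3 q23830 L756914 q23047, e3 q23831 L756922 q23048, e3 q23832 L756934 q22534, e3 q23833 L756954 q23037, e3 q23834 L756966 q22540, e3 q23835 L756974 q22541, e3 q23836 L756992 q22530, e3 q23837 (flp_j L768779) q25006, e3 q23838 L757006 q22544, e3 q23839 L757012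 q22545, e3 q23840 L757026 q23028, e3 q23841 (flp_j L768717) q25002, e3 q23842 L757052 q22837, e3 q23843 L757062 q23096, e3 q23844 L757072 q23053, e3 q23845 L757082 q23097, e3 q23846 (flp_j L768531) q24981, e3 q23847 (flp_j L768749) q25004, e3 q23848 (flp_j L768761) q25005, e3 q23849 L757130 q22543, e3 q23850 (flp_j L768931) q25021, e3 q23851 (flp_j L768793) q25008, e3 q23852 (flp_j L768799) q25009, e3 q23853 (flp_j L768807) q25010, e3 q23854 L757171 q23137, e3 q23855 L757181 q22555, e3 q23856 L757198 q22550, e3 q23857 (flp_j L768993) q25028, e3 q23858 L757214 q22558, e3 q23859 L757223 q22559, e3 q23860 L757235 q22560, e3 q23861 L757254 q22554, e3 q23862 (flp_j L764958) q24660, e3 q23863 L757274 q22557, e3 q23864 (flp_j L769043) q25033, e3 q23865 (flp_j L769054) q25034, e3 q23866 (flp_j L769021) q25031, e3 q23867 (flp_j L769032) q25032, e3 q23868 L757326 q22563, e3 q23869 L757345 q22666, e3 q23870 L757355 q22602, e3 q23871 (flp_j L765769) q24720, trivial⟩ (by decide +kernel)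

theorem ce_j_373 : ∀ r, r < 64 → sm gj (Qf (23872 + r)) = Qf (tab Gen.j (23872 + r)) :=
  edges_tab (sm gj) Qf (tab Gen.j) 23872 [(23872, 23080), (23873, 23081), (23874, 22598), (23875, 24730), (23876, 23083), (23877, 23084), (23878, 22595), (23879, 22597), (23880, 22600), (23881, 22601), (23882, 24721), (23883, 22606), (23884, 22607), (23885, 22608), (23886, 22609), (23887, 22587), (23888, 25057), (23889, 22612), (23890, 22613), (23891, 22614), (23892, 22592), (23893, 25063), (23894, 22618), (23895, 22619), (23896, 22620), (23897, 25049), (23898, 24770), (23899, 25044), (23900, 25043), (23901, 24987), (23902, 25050), (23903, 25051), (23904, 25039), (23905, 22605), (23906, 24439), (23907, 25078), (23908, 25053), (23909, 25054), (23910, 25055), (23911, 25056), (23912, 25038), (23913, 22611), (23914, 25089), (23915, 25059), (23916, 25060), (23917, 25061), (23918, 25062), (23919, 24625), (23920, 22617), (23921, 25098), (23922, 25099), (23923, 25066), (23924, 25067), (23925, 25068), (23926, 22635), (23927, 22624), (23928, 25106),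 (23929, 22638), (23930, 22639), (23931, 22629), (23932, 25110), (23933, 25111), (23934, 22644), (23935, 22645)]
    ⟨e3 q23872 L757379 q23080, e3 q23873 L757385 q23081, e3 q23874 L757397 q22598, e3 q23875 (flp_j L765917) q24730, e3 q23876 L757414 q23083, e3 q23877 L757420 q23084, e3 q23878 L757432 q22595, e3 q23879 L757451 q22597, e3 q23880 L757463 q22600, e3 q23881 L757469 q22601, e3 q23882 (flp_j L765786) q24721, e3 q23883 L757495 q22606, e3 q23884 L757502 q22607, e3 q23885 L757514 q22608, e3 q23886 L757520 q22609, e3 q23887 L757534 q22587, e3 q23888 (flp_j L769296) q25057, e3 q23889 L757548 q22612, e3 q23890 L757552 q22613, e3 q23891 L757560 q22614, e3 q23892 L757572 q22592, e3 q23893 (flp_j L769340) q25063, e3 q23894 L757582 q22618, e3 q23895 L757586 q22619, e3 q23896 L757592 q22620, e3 q23897 (flp_j L769214) q25049, e3 q23898 (flp_j L766398) q24770, e3 q23899 (flp_j L769174) q25044, e3 q23900 (flp_j L769158) q25043, e3 q23901 (flp_j L768595) q24987, e3 q23902 (flp_j L769226) q25050, e3 q23903 (flp_j L769230) q25051,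 e3 q23904 (flp_j L769115) q25039, e3 q23905 L757679 q22605, e3 q23906 (flp_j L762019) q24439, e3 q23907 (flp_j L769448) q25078, e3 q23908 (flp_j L769254) q25053, e3 q23909 (flp_j L769262) q25054, e3 q23910 (flp_j L769274) q25055, e3 q23911 (flp_j L769282) q25056, e3 q23912 (flp_j L769103) q25038, e3 q23913 L757740 q22611, e3 q23914 (flp_j L769534) q25089, e3 q23915 (flp_j L769308) q25059, e3 q23916 (flp_j L769314) q25060, e3 q23917 (flp_j L769322) q25061, e3 q23918 (flp_j L769330) q25062, e3 q23919 (flp_j L764533) q24625, e3 q23920 L757788 q22617, e3 q23921 (flp_j L769600) q25098, e3 q23922 (flp_j L769604) q25099, e3 q23923 (flp_j L769356) q25066, e3 q23924 (flp_j L769362) q25067, e3 q23925 (flp_j L769366) q25068, e3 q23926 L757820 q22635, e3 q23927 L757832 q22624, e3 q23928 (flp_j L769650) q25106, e3 q23929 L757846 q22638, e3 q23930 L757855 q22639, e3 q23931 L757863 q22629, e3 q23932 (flp_j L769686) q25110, e3 q23933 (flp_j L769696) q25111, e3 q23934 L757884 q22644, e3 q23935 L757892 q22645, trivial⟩ (by decide +kernel)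

theorem ce_j_374 : ∀ r, r < 64 → sm gj (Qf (23936 + r)) = Qf (tab Gen.j (23936 + r)) :=
  edges_tab (sm gj) Qf (tab Gen.j) 23936 [(23936, 22646), (23937, 22634), (23938, 25105), (23939, 22637), (23940, 25118), (23941, 25109), (23942, 24659), (23943, 22642), (23944, 22643), (23945, 25121), (23946, 25115), (23947, 25116), (23948, 25117), (23949, 22649), (23950, 25126), (23951, 22652), (23952, 22653), (23953, 22883), (23954, 25127), (23955, 24849), (23956, 22660), (23957, 22661), (23958, 22662), (23959, 22659), (23960, 25135), (23961, 25132), (23962, 25133), (23963, 25134), (23964, 24504), (23965, 24581), (23966, 24472), (23967, 24582), (23968, 22729), (23969, 22879), (23970, 22773), (23971, 24510), (23972, 24655), (23973, 24502), (23974, 24471), (23975, 22689), (23976, 24423), (23977, 22901), (23978, 22925), (23979, 25148), (23980, 22966), (23981, 24408), (23982, 22700), (23983, 22703), (23984, 22933), (23985, 24696), (23986, 22936), (23987, 24464), (23988, 24684), (23989, 22937), (23990, 25155), (23991, 24777), (23992, 22939),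 (23993, 25156), (23994, 22934), (23995, 24685), (23996, 22938), (23997, 22730), (23998, 22731), (23999, 22732)]
    ⟨e3 q23936 L757905 q22646, e3 q23937 L757923 q22634, e3 q23938 (flp_j L769640) q25105, e3 q23939 L757936 q22637, e3 q23940 (flp_j L769754) q25118, e3 q23941 (flp_j L769674) q25109, e3 q23942 (flp_j L764945) q24659, e3 q23943 L757968 q22642, e3 q23944 L757976 q22643, e3 q23945 (flp_j L769778) q25121, e3 q23946 (flp_j L769730) q25115, e3 q23947 (flp_j L769740) q25116, e3 q23948 (flp_j L769750) q25117, e3 q23949 L758021 q22649, e3 q23950 (flp_j L769822) q25126, e3 q23951 L758040 q22652, e3 q23952 L758050 q22653, e3 q23953 L758061 q22883, e3 q23954 (flp_j L769835) q25127, e3 q23955 (flp_j L767134) q24849, e3 q23956 L758084 q22660, e3 q23957 L758093 q22661, e3 q23958 L758102 q22662, e3 q23959 L758112 q22659, e3 q23960 (flp_j L769914) q25135, e3 q23961 (flp_j L769884) q25132, e3 q23962 (flp_j L769895) q25133, e3 q23963 (flp_j L769904) q25134, e3 q23964 (flp_j L762909) q24504, e3 q23965 (flp_j L763987) q24581, e3 q23966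 (flp_j L762492) q24472, e3 q23967 (flp_j L764004) q24582, e3 q23968 L758207 q22729, e3 q23969 L758222 q22879, e3 q23970 L758236 q22773, e3 q23971 (flp_j L762996) q24510, e3 q23972 (flp_j L764895) q24655, e3 q23973 (flp_j L762879) q24502, e3 q23974 (flp_j L762476) q24471, e3 q23975 L758277 q22689, e3 q23976 (flp_j L761769) q24423, e3 q23977 L758303 q22901, e3 q23978 L758319 q22925, e3 q23979 (flp_j L770046) q25148, e3 q23980 L758339 q22966, e3 q23981 (flp_j L761538) q24408, e3 q23982 L758361 q22700, e3 q23983 L758369 q22703, e3 q23984 L758385 q22933, e3 q23985 (flp_j L765475) q24696, e3 q23986 L758412 q22936, e3 q23987 (flp_j L762380) q24464, e3 q23988 (flp_j L765328) q24684, e3 q23989 L758444 q22937, e3 q23990 (flp_j L770122) q25155, e3 q23991 (flp_j L766457) q24777, e3 q23992 L758466 q22939, e3 q23993 (flp_j L770132) q25156, e3 q23994 L758484 q22934, e3 q23995 (flp_j L765342) q24685, e3 q23996 L758502 q22938, e3 q23997 L758517 q22730, e3 q23998 L758527 q22731, e3 q23999 L758542 q22732, trivial⟩ (by decide +kernel)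

theorem ce_j_375 : ∀ r, r < 64 → sm gj (Qf (24000 + r)) = Qf (tab Gen.j (24000 + r)) :=
  edges_tab (sm gj) Qf (tab Gen.j) 24000 [(24000, 22713), (24001, 25173), (24002, 22721), (24003, 24616), (24004, 24620), (24005, 24658), (24006, 24626), (24007, 24627), (24008, 25175), (24009, 23138), (24010, 22728), (24011, 25182), (24012, 25143), (24013, 25170), (24014, 25171), (24015, 25172), (24016, 23098), (24017, 23124), (24018, 23103), (24019, 23148), (24020, 24535), (24021, 24536), (24022, 22750), (24023, 22751), (24024, 22752), (24025, 22753), (24026, 22754), (24027, 22755), (24028, 22756), (24029, 22757), (24030, 22758), (24031, 24979), (24032, 25194), (24033, 25195), (24034, 25196), (24035, 25197), (24036, 25198), (24037, 25199), (24038, 25200), (24039, 25201), (24040, 25202), (24041, 25203), (24042, 22763), (24043, 22764), (24044, 22765), (24045, 25218), (24046, 25219), (24047, 23145), (24048, 23151), (24049, 22774), (24050, 22775), (24051, 22776), (24052, 22777), (24053, 24980), (24054, 25144), (24055, 25145), (24056, 25223),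 (24057, 25224), (24058, 25225), (24059, 22780), (24060, 25128), (24061, 22864), (24062, 23057), (24063, 23074)]
    ⟨e3 q24000 L758558 q22713, e3 q24001 (flp_j L770309) q25173, e3 q24002 L758584 q22721, e3 q24003 (flp_j L764415) q24616, e3 q24004 (flp_j L764473) q24620, e3 q24005 (flp_j L764933) q24658, e3 q24006 (flp_j L764545) q24626, e3 q24007 (flp_j L764557) q24627, e3 q24008 (flp_j L770331) q25175, e3 q24009 L758648 q23138, e3 q24010 L758658 q22728, e3 q24011 (flp_j L770391) q25182, e3 q24012 (flp_j L769992) q25143, e3 q24013 (flp_j L770272) q25170, e3 q24014 (flp_j L770282) q25171, e3 q24015 (flp_j L770295) q25172, e3 q24016 L758714 q23098, e3 q24017 L758725 q23124, e3 q24018 L758737 q23103, e3 q24019 L758746 q23148, e3 q24020 (flp_j L763370) q24535, e3 q24021 (flp_j L763378) q24536, e3 q24022 L758773 q22750, e3 q24023 L758781 q22751, e3 q24024 L758796 q22752, e3 q24025 L758808 q22753, e3 q24026 L758820 q22754, e3 q24027 L758828 q22755, e3 q24028 L758836 q22756, e3 q24029 L758848 q22757, e3 q24030 L758862 q22758, e3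 q24031 (flp_j L768502) q24979, e3 q24032 (flp_j L770498) q25194, e3 q24033 (flp_j L770504) q25195, e3 q24034 (flp_j L770517) q25196, e3 q24035 (flp_j L770525) q25197, e3 q24036 (flp_j L770535) q25198, e3 q24037 (flp_j L770543) q25199, e3 q24038 (flp_j L770551) q25200, e3 q24039 (flp_j L770561) q25201, e3 q24040 (flp_j L770575) q25202, e3 q24041 (flp_j L770585) q25203, e3 q24042 L758954 q22763, e3 q24043 L758964 q22764, e3 q24044 L758977 q22765, e3 q24045 (flp_j L770703) q25218, e3 q24046 (flp_j L770713) q25219, e3 q24047 L759007 q23145, e3 q24048 L759018 q23151, e3 q24049 L759027 q22774, e3 q24050 L759037 q22775, e3 q24051 L759051 q22776, e3 q24052 L759062 q22777, e3 q24053 (flp_j L768513) q24980, e3 q24054 (flp_j L770004) q25144, e3 q24055 (flp_j L770018) q25145, e3 q24056 (flp_j L770760) q25223, e3 q24057 (flp_j L770773) q25224, e3 q24058 (flp_j L770785) q25225, e3 q24059 L759128 q22780, e3 q24060 (flp_j L769846) q25128, e3 q24061 L759150 q22864, e3 q24062 L759164 q23057, e3 q24063 L759174 q23074, trivial⟩ (by decide +kernel)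

theorem ce_j_376 : ∀ r, r < 64 → sm gj (Qf (24064 + r)) = Qf (tab Gen.j (24064 + r)) :=
  edges_tab (sm gj) Qf (tab Gen.j) 24064 [(24064, 23062), (24065, 23067), (24066, 23078), (24067, 23071), (24068, 24451), (24069, 24477), (24070, 24507), (24071, 24569), (24072, 22800), (24073, 22802), (24074, 22803), (24075, 22805), (24076, 22806), (24077, 22808), (24078, 22809), (24079, 22812), (24080, 25243), (24081, 23038), (24082, 25244), (24083, 25245), (24084, 23041), (24085, 25246), (24086, 25247), (24087, 23042), (24088, 25248), (24089, 25249), (24090, 24972), (24091, 23044), (24092, 25250), (24093, 24476), (24094, 24478), (24095, 24508), (24096, 24602), (24097, 24603), (24098, 22838), (24099, 22839), (24100, 22840), (24101, 22842), (24102, 22843), (24103, 22844), (24104, 22845), (24105, 22848), (24106, 22849), (24107, 22850), (24108, 22851), (24109, 22854), (24110, 22855), (24111, 24986), (24112, 24988), (24113, 24917), (24114, 24722), (24115, 24918), (24116, 25013), (24117, 25272), (24118, 25273), (24119, 25274), (24120, 24934),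 (24121, 25275), (24122, 25276), (24123, 25277), (24124, 25278), (24125, 25279), (24126, 22847), (24127, 25308)]
    ⟨e3 q24064 L759186 q23062, e3 q24065 L759192 q23067, e3 q24066 L759198 q23078, e3 q24067 L759207 q23071, e3 q24068 (flp_j L762207) q24451, e3 q24069 (flp_j L762568) q24477, e3 q24070 (flp_j L762952) q24507, e3 q24071 (flp_j L763828) q24569, e3 q24072 L759261 q22800, e3 q24073 L759273 q22802, e3 q24074 L759283 q22803, e3 q24075 L759299 q22805, e3 q24076 L759308 q22806, e3 q24077 L759314 q22808, e3 q24078 L759320 q22809, e3 q24079 L759329 q22812, e3 q24080 (flp_j L770944) q25243, e3 q24081 L759354 q23038, e3 q24082 (flp_j L770952) q25244, e3 q24083 (flp_j L770962) q25245, e3 q24084 L759379 q23041, e3 q24085 (flp_j L770974) q25246, e3 q24086 (flp_j L770982) q25247, e3 q24087 L759394 q23042, e3 q24088 (flp_j L770990) q25248, e3 q24089 (flp_j L770998) q25249, e3 q24090 (flp_j L768426) q24972, e3 q24091 L759426 q23044, e3 q24092 (flp_j L771008) q25250, e3 q24093 (flp_j L762556) q24476, e3 q24094 (flp_j L762578) q24478,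 e3 q24095 (flp_j L762967) q24508, e3 q24096 (flp_j L764251) q24602, e3 q24097 (flp_j L764257) q24603, e3 q24098 L759477 q22838, e3 q24099 L759485 q22839, e3 q24100 L759493 q22840, e3 q24101 L759506 q22842, e3 q24102 L759515 q22843, e3 q24103 L759521 q22844, e3 q24104 L759527 q22845, e3 q24105 L759535 q22848, e3 q24106 L759541 q22849, e3 q24107 L759547 q22850, e3 q24108 L759553 q22851, e3 q24109 L759563 q22854, e3 q24110 L759571 q22855, e3 q24111 (flp_j L768577) q24986, e3 q24112 (flp_j L768605) q24988, e3 q24113 (flp_j L767843) q24917, e3 q24114 (flp_j L765800) q24722, e3 q24115 (flp_j L767853) q24918, e3 q24116 (flp_j L768845) q25013, e3 q24117 (flp_j L771167) q25272, e3 q24118 (flp_j L771173) q25273, e3 q24119 (flp_j L771181) q25274, e3 q24120 (flp_j L768040) q24934, e3 q24121 (flp_j L771192) q25275, e3 q24122 (flp_j L771200) q25276, e3 q24123 (flp_j L771206) q25277, e3 q24124 (flp_j L771212) q25278, e3 q24125 (flp_j L771218) q25279, e3 q24126 L759692 q22847, e3 q24127 (flp_j L771417) q25308, trivial⟩ (by decide +kernel)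

theorem ce_j_377 : ∀ r, r < 64 → sm gj (Qf (24128 + r)) = Qf (tab Gen.j (24128 + r)) :=
  edges_tab (sm gj) Qf (tab Gen.j) 24128 [(24128, 25280), (24129, 25281), (24130, 25282), (24131, 25283), (24132, 25284), (24133, 22853), (24134, 25316), (24135, 25286), (24136, 25287), (24137, 22862), (24138, 22863), (24139, 22865), (24140, 22868), (24141, 25112), (24142, 25319), (24143, 25320), (24144, 22867), (24145, 25322), (24146, 24509), (24147, 22880), (24148, 22881), (24149, 22882), (24150, 25129), (24151, 24723), (24152, 24919), (24153, 25323), (24154, 25324), (24155, 22911), (24156, 22892), (24157, 24815), (24158, 24431), (24159, 25329), (24160, 24412), (24161, 24432), (24162, 24414), (24163, 24678), (24164, 24784), (24165, 24785), (24166, 24786), (24167, 25150), (24168, 24798), (24169, 22912), (24170, 24677), (24171, 24816), (24172, 24817), (24173, 24818), (24174, 24819), (24175, 24820), (24176, 24821), (24177, 24822), (24178, 25328), (24179, 25340), (24180, 24842), (24181, 24843), (24182, 24745), (24183, 24854), (24184, 24855),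 (24185, 24848), (24186, 24760), (24187, 23082), (24188, 24418), (24189, 24421), (24190, 25151), (24191, 24739)]
    ⟨e3 q24128 (flp_j L771228) q25280, e3 q24129 (flp_j L771236) q25281, e3 q24130 (flp_j L771246) q25282, e3 q24131 (flp_j L771252) q25283, e3 q24132 (flp_j L771258) q25284, e3 q24133 L759724 q22853, e3 q24134 (flp_j L771455) q25316, e3 q24135 (flp_j L771270) q25286, e3 q24136 (flp_j L771282) q25287, e3 q24137 L759750 q22862, e3 q24138 L759761 q22863, e3 q24139 L759772 q22865, e3 q24140 L759779 q22868, e3 q24141 (flp_j L769705) q25112, e3 q24142 (flp_j L771477) q25319, e3 q24143 (flp_j L771486) q25320, e3 q24144 L759811 q22867, e3 q24145 (flp_j L771504) q25322, e3 q24146 (flp_j L762981) q24509, e3 q24147 L759828 q22880, e3 q24148 L759835 q22881, e3 q24149 L759843 q22882, e3 q24150 (flp_j L769859) q25129, e3 q24151 (flp_j L765813) q24723, e3 q24152 (flp_j L767867) q24919, e3 q24153 (flp_j L771509) q25323, e3 q24154 (flp_j L771516) q25324, e3 q24155 L759884 q22911, e3 q24156 L759900 q22892, e3 q24157 (flp_j L766840)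 q24815, e3 q24158 (flp_j L761883) q24431, e3 q24159 (flp_j L771562) q25329, e3 q24160 (flp_j L761596) q24412, e3 q24161 (flp_j L761899) q24432, e3 q24162 (flp_j L761630) q24414, e3 q24163 (flp_j L765249) q24678, e3 q24164 (flp_j L766541) q24784, e3 q24165 (flp_j L766553) q24785, e3 q24166 (flp_j L766567) q24786, e3 q24167 (flp_j L770070) q25150, e3 q24168 (flp_j L766665) q24798, e3 q24169 L759992 q22912, e3 q24170 (flp_j L765232) q24677, e3 q24171 (flp_j L766855) q24816, e3 q24172 (flp_j L766867) q24817, e3 q24173 (flp_j L766877) q24818, e3 q24174 (flp_j L766889) q24819, e3 q24175 (flp_j L766897) q24820, e3 q24176 (flp_j L766907) q24821, e3 q24177 (flp_j L766917) q24822, e3 q24178 (flp_j L771548) q25328, e3 q24179 (flp_j L771638) q25340, e3 q24180 (flp_j L767067) q24842, e3 q24181 (flp_j L767082) q24843, e3 q24182 (flp_j L766081) q24745, e3 q24183 (flp_j L767187) q24854, e3 q24184 (flp_j L767202) q24855, e3 q24185 (flp_j L767120) q24848, e3 q24186 (flp_j L766256) q24760, e3 q24187 L760106 q23082, e3 q24188 (flp_j L761699)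 q24418, e3 q24189 (flp_j L761742) q24421, e3 q24190 (flp_j L770084) q25151, e3 q24191 (flp_j L766017) q24739, trivial⟩ (by decide +kernel)

theorem ce_j_378 : ∀ r, r < 64 → sm gj (Qf (24192 + r)) = Qf (tab Gen.j (24192 + r)) :=
  edges_tab (sm gj) Qf (tab Gen.j) 24192 [(24192, 22930), (24193, 24426), (24194, 24427), (24195, 24413), (24196, 25362), (24197, 25157), (24198, 25168), (24199, 24526), (24200, 25159), (24201, 25162), (24202, 25163), (24203, 24800), (24204, 25166), (24205, 24420), (24206, 24698), (24207, 24699), (24208, 24802), (24209, 24803), (24210, 22955), (24211, 22956), (24212, 22961), (24213, 22962), (24214, 22967), (24215, 24704), (24216, 24708), (24217, 24523), (24218, 24415), (24219, 25382), (24220, 25383), (24221, 24429), (24222, 24532), (24223, 24542), (24224, 24543), (24225, 24403), (24226, 24416), (24227, 22965), (24228, 25384), (24229, 25385), (24230, 24837), (24231, 24746), (24232, 25401), (24233, 25153), (24234, 25386), (24235, 24525), (24236, 24534), (24237, 24715), (24238, 24865), (24239, 22982),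 (24240, 25410), (24241, 24893), (24242, 24877), (24243, 22987), (24244, 24892), (24245, 25414), (24246, 24520), (24247, 24884), (24248, 24686), (24249, 24885), (24250, 24886), (24251, 23004), (24252, 23005), (24253, 23006), (24254, 23007), (24255, 23008)]
    ⟨e3 q24192 L760139 q22930, e3 q24193 (flp_j L761815) q24426, e3 q24194 (flp_j L761827) q24427, e3 q24195 (flp_j L761614) q24413, e3 q24196 (flp_j L771780) q25362, e3 q24197 (flp_j L770146) q25157, e3 q24198 (flp_j L770252) q25168, e3 q24199 (flp_j L763240) q24526, e3 q24200 (flp_j L770172) q25159, e3 q24201 (flp_j L770204) q25162, e3 q24202 (flp_j L770212) q25163, e3 q24203 (flp_j L766688) q24800, e3 q24204 (flp_j L770234) q25166, e3 q24205 (flp_j L761727) q24420, e3 q24206 (flp_j L765497) q24698, e3 q24207 (flp_j L765509) q24699, e3 q24208 (flp_j L766706) q24802, e3 q24209 (flp_j L766714) q24803, e3 q24210 L760247 q22955, e3 q24211 L760253 q22956, e3 q24212 L760259 q22961, e3 q24213 L760265 q22962, e3 q24214 L760271 q22967, e3 q24215 (flp_j L765565) q24704, e3 q24216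 (flp_j L765601) q24708, e3 q24217 (flp_j L763195) q24523, e3 q24218 (flp_j L761645) q24415, e3 q24219 (flp_j L771894) q25382, e3 q24220 (flp_j L771900) q25383, e3 q24221 (flp_j L761851) q24429, e3 q24222 (flp_j L763328) q24532, e3 q24223 (flp_j L763466) q24542, e3 q24224 (flp_j L763476) q24543, e3 q24225 (flp_j L761453) q24403, e3 q24226 (flp_j L761663) q24416, e3 q24227 L760341 q22965, e3 q24228 (flp_j L771908) q25384, e3 q24229 (flp_j L771914) q25385, e3 q24230 (flp_j L767026) q24837, e3 q24231 (flp_j L766097) q24746, e3 q24232 (flp_j L772002) q25401, e3 q24233 (flp_j L770100) q25153, e3 q24234 (flp_j L771918) q25386, e3 q24235 (flp_j L763219) q24525, e3 q24236 (flp_j L763352) q24534, e3 q24237 (flp_j L765711) q24715, e3 q24238 (flp_j L767315) q24865, e3 q24239 L760413 q22982, e3 q24240 (flp_j L772052) q25410, e3 q24241 (flp_j L767624) q24893, e3 q24242 (flp_j L767441) q24877, e3 q24243 L760437 q22987, e3 q24244 (flp_j L767610) q24892, e3 q24245 (flp_j L772078) q25414, e3 q24246 (flp_j L763154) q24520, e3 q24247 (flp_j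 L767520) q24884, e3 q24248 (flp_j L765358) q24686, e3 q24249 (flp_j L767534) q24885, e3 q24250 (flp_j L767544) q24886, e3 q24251 L760495 q23004, e3 q24252 L760501 q23005, e3 q24253 L760508 q23006, e3 q24254 L760512 q23007, e3 q24255 L760520 q23008, trivial⟩ (by decide +kernel)

theorem ce_j_379 : ∀ r, r < 64 → sm gj (Qf (24256 + r)) = Qf (tab Gen.j (24256 + r)) :=
  edges_tab (sm gj) Qf (tab Gen.j) 24256 [(24256, 23009), (24257, 24907), (24258, 23010), (24259, 23011), (24260, 24922), (24261, 24923), (24262, 25423), (24263, 25424), (24264, 25425), (24265, 25426), (24266, 25427), (24267, 25428), (24268, 25429), (24269, 25431), (24270, 25432), (24271, 23015), (24272, 23016), (24273, 25445), (24274, 24473), (24275, 24474), (24276, 24891), (24277, 23021), (24278, 25449), (24279, 24935), (24280, 24936), (24281, 24937), (24282, 23030), (24283, 23033), (24284, 23034), (24285, 25011), (24286, 24621), (24287, 25455), (24288, 24584), (24289, 24630), (24290, 25456), (24291, 25457), (24292, 23099), (24293, 23125), (24294, 25003), (24295,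 25252), (24296, 24496), (24297, 24634), (24298, 24947), (24299, 25255), (24300, 25259), (24301, 24902), (24302, 25263), (24303, 24578), (24304, 24998), (24305, 25000), (24306, 25001), (24307, 23058), (24308, 23064), (24309, 23068), (24310, 23072), (24311, 25015), (24312, 24575), (24313, 24950), (24314, 24952), (24315, 25232), (24316, 25481), (24317, 24438), (24318, 24982), (24319, 24529)]
    ⟨e3 q24256 L760524 q23009, e3 q24257 (flp_j L767752) q24907, e3 q24258 L760540 q23010, e3 q24259 L760546 q23011, e3 q24260 (flp_j L767900) q24922, e3 q24261 (flp_j L767912) q24923, e3 q24262 (flp_j L772137) q25423, e3 q24263 (flp_j L772141) q25424, e3 q24264 (flp_j L772147) q25425, e3 q24265 (flp_j L772153) q25426, e3 q24266 (flp_j L772161) q25427, e3 q24267 (flp_j L772167) q25428, e3 q24268 (flp_j L772175) q25429, e3 q24269 (flp_j L772187) q25431, e3 q24270 (flp_j L772195) q25432, e3 q24271 L760619 q23015, e3 q24272 L760624 q23016, e3 q24273 (flp_j L772274) q25445, e3 q24274 (flp_j L762504) q24473, e3 q24275 (flp_j L762518) q24474,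 e3 q24276 (flp_j L767594) q24891, e3 q24277 L760652 q23021, e3 q24278 (flp_j L772295) q25449, e3 q24279 (flp_j L768052) q24935, e3 q24280 (flp_j L768064) q24936, e3 q24281 (flp_j L768072) q24937, e3 q24282 L760682 q23030, e3 q24283 L760688 q23033, e3 q24284 L760694 q23034, e3 q24285 (flp_j L768819) q25011, e3 q24286 (flp_j L764487) q24621, e3 q24287 (flp_j L772330) q25455, e3 q24288 (flp_j L764024) q24584, e3 q24289 (flp_j L764605) q24630, e3 q24290 (flp_j L772336) q25456, e3 q24291 (flp_j L772340) q25457, e3 q24292 L760738 q23099, e3 q24293 L760748 q23125, e3 q24294 (flp_j L768739) q25003, e3 q24295 (flp_j L771032) q25252, e3 q24296 L762801 q24496, e3 q24297 L764645 q24634, e3 q24298 (flp_j L768177) q24947, e3 q24299 (flp_j L771054) q25255, e3 q24300 (flp_j L771077) q25259, e3 q24301 (flp_j L767698) q24902, e3 q24302 (flp_j L771109) q25263, e3 q24303 (flp_j L763944) q24578, e3 q24304 (flp_j L768676) q24998, e3 q24305 (flp_j L768699) q25000, e3 q24306 (flp_j L768707) q25001, e3 q24307 L760829 q23058, e3 q24308 L760837 q23064,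 e3 q24309 L760843 q23068, e3 q24310 L760851 q23072, e3 q24311 (flp_j L768865) q25015, e3 q24312 (flp_j L763909) q24575, e3 q24313 (flp_j L768214) q24950, e3 q24314 (flp_j L768234) q24952, e3 q24315 (flp_j L770843) q25232, e3 q24316 (flp_j L772473) q25481, e3 q24317 (flp_j L762002) q24438, e3 q24318 (flp_j L768542) q24982, e3 q24319 (flp_j L763283) q24529, trivial⟩ (by decide +kernel)

theorem ce_j_380 : ∀ r, r < 64 → sm gj (Qf (24320 + r)) = Qf (tab Gen.j (24320 + r)) :=
  edges_tab (sm gj) Qf (tab Gen.j) 24320 [(24320, 25235), (24321, 24948), (24322, 25482), (24323, 23066), (24324, 25499), (24325, 25236), (24326, 25237), (24327, 25483), (24328, 23070), (24329, 25505), (24330, 25238), (24331, 25484), (24332, 23075), (24333, 25233), (24334, 25234), (24335, 23077), (24336, 25509), (24337, 25041), (24338, 25042), (24339, 25357), (24340, 25046), (24341, 25047), (24342, 25048), (24343, 23100), (24344, 23101), (24345, 23107), (24346, 23110), (24347, 23111), (24348, 23112), (24349, 23113), (24350, 23114), (24351, 25188), (24352,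 23093), (24353, 25529), (24354, 23117), (24355, 23118), (24356, 25014), (24357, 25016), (24358, 25464), (24359, 25518), (24360, 25519), (24361, 25520), (24362, 24440), (24363, 25190), (24364, 24530), (24365, 24538), (24366, 24539), (24367, 24949), (24368, 25521), (24369, 23109), (24370, 25548), (24371, 25549), (24372, 25522), (24373, 25523), (24374, 25524), (24375, 25525), (24376, 25526), (24377, 25527), (24378, 23116), (24379, 25558), (24380, 25531), (24381, 23126), (24382, 23127), (24383, 23130)]
    ⟨e3 q24320 (flp_j L770873) q25235, e3 q24321 (flp_j L768187) q24948, e3 q24322 (flp_j L772479) q25482, e3 q24323 L760933 q23066, e3 q24324 (flp_j L772581) q25499, e3 q24325 (flp_j L770881) q25236, e3 q24326 (flp_j L770889) q25237, e3 q24327 (flp_j L772487) q25483, e3 q24328 L760965 q23070, e3 q24329 (flp_j L772623) q25505, e3 q24330 (flp_j L770899) q25238, e3 q24331 (flp_j L772493) q25484, e3 q24332 L760990 q23075, e3 q24333 (flp_j L770851) q25233, e3 q24334 (flp_j L770862) q25234, e3 q24335 L761015 q23077, e3 q24336 (flp_j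 L772652) q25509, e3 q24337 (flp_j L769140) q25041, e3 q24338 (flp_j L769146) q25042, e3 q24339 (flp_j L771746) q25357, e3 q24340 (flp_j L769193) q25046, e3 q24341 (flp_j L769197) q25047, e3 q24342 (flp_j L769204) q25048, e3 q24343 L761062 q23100, e3 q24344 L761070 q23101, e3 q24345 L761078 q23107, e3 q24346 L761086 q23110, e3 q24347 L761092 q23111, e3 q24348 L761100 q23112, e3 q24349 L761106 q23113, e3 q24350 L761116 q23114, e3 q24351 (flp_j L770443) q25188, e3 q24352 L761132 q23093, e3 q24353 (flp_j L772797) q25529, e3 q24354 L761142 q23117, e3 q24355 L761146 q23118, e3 q24356 (flp_j L768855) q25014, e3 q24357 (flp_j L768881) q25016, e3 q24358 (flp_j L772378) q25464, e3 q24359 (flp_j L772699) q25518, e3 q24360 (flp_j L772707) q25519, e3 q24361 (flp_j L772719) q25520, e3 q24362 (flp_j L762031) q24440, e3 q24363 (flp_j L770464) q25190, e3 q24364 (flp_j L763297) q24530, e3 q24365 (flp_j L763406) q24538, e3 q24366 (flp_j L763420) q24539, e3 q24367 (flp_j L768201) q24949, e3 q24368 (flp_j L772729) q25521, e3 q24369 L761220 q23109,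 e3 q24370 (flp_j L772897) q25548, e3 q24371 (flp_j L772903) q25549, e3 q24372 (flp_j L772741) q25522, e3 q24373 (flp_j L772747) q25523, e3 q24374 (flp_j L772755) q25524, e3 q24375 (flp_j L772765) q25525, e3 q24376 (flp_j L772773) q25526, e3 q24377 (flp_j L772781) q25527, e3 q24378 L761264 q23116, e3 q24379 (flp_j L772949) q25558, e3 q24380 (flp_j L772807) q25531, e3 q24381 L761278 q23126, e3 q24382 L761286 q23127, e3 q24383 L761296 q23130, trivial⟩ (by decide +kernel)

theorem ce_j_381 : ∀ r, r < 64 → sm gj (Qf (24384 + r)) = Qf (tab Gen.j (24384 + r)) :=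
  edges_tab (sm gj) Qf (tab Gen.j) 24384 [(24384, 25189), (24385, 25465), (24386, 25560), (24387, 23129), (24388, 23142), (24389, 23155), (24390, 25027), (24391, 24661), (24392, 24501), (24393, 24971), (24394, 24904), (24395, 24594), (24396, 25221), (24397, 24441), (24398, 25191), (24399, 24531), (24400, 25222), (24401, 23156), (24402, 23651), (24403, 24225), (24404, 23666), (24405, 23169), (24406, 23170), (24407, 23618), (24408, 23981), (24409, 25570), (24410, 25571), (24411, 23185), (24412, 24160), (24413, 24195), (24414, 24162), (24415, 24218), (24416, 24226), (24417, 23184), (24418, 24188), (24419, 25581), (24420, 24205), (24421, 24189), (24422, 23193), (24423, 23976), (24424, 23191), (24425, 25588), (24426, 24193), (24427, 24194), (24428, 25586), (24429, 24221), (24430, 23623), (24431, 24158), (24432, 24161), (24433, 23732), (24434, 23211), (24435, 23212), (24436, 23770), (24437, 23788), (24438, 24317), (24439, 23906), (24440, 24362), (24441, 24397), (24442, 25597), (24443, 25598), (24444, 23302), (24445, 23222), (24446,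 23223), (24447, 23224)]
    ⟨e3 q24384 (flp_j L770454) q25189, e3 q24385 (flp_j L772386) q25465, e3 q24386 (flp_j L772959) q25560, e3 q24387 L761331 q23129, e3 q24388 L761338 q23142, e3 q24389 L761348 q23155, e3 q24390 (flp_j L768978) q25027, e3 q24391 (flp_j L764981) q24661, e3 q24392 (flp_j L762866) q24501, e3 q24393 (flp_j L768411) q24971, e3 q24394 (flp_j L767722) q24904, e3 q24395 (flp_j L764135) q24594, e3 q24396 (flp_j L770735) q25221, e3 q24397 (flp_j L762042) q24441, e3 q24398 (flp_j L770476) q25191, e3 q24399 (flp_j L763311) q24531, e3 q24400 (flp_j L770748) q25222, e3 q24401 L761422 q23156, e3 q24402 L761441 q23651, e3 q24403 L761453 q24225, e3 q24404 L761471 q23666, e3 q24405 L761492 q23169, e3 q24406 L761504 q23170, e3 q24407 L761526 q23618, e3 q24408 L761538 q23981, e3 q24409 (flp_j L773058) q25570, e3 q24410 (flp_j L773074) q25571, e3 q24411 L761582 q23185, e3 q24412 L761596 q24160, e3 q24413 L761614 q24195, e3 q24414 L761630 q24162, e3 q24415 L761645 q24218, e3 q24416 L761663 q24226, e3 q24417 L761681 q23184,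 e3 q24418 L761699 q24188, e3 q24419 (flp_j L773230) q25581, e3 q24420 L761727 q24205, e3 q24421 L761742 q24189, e3 q24422 L761753 q23193, e3 q24423 L761769 q23976, e3 q24424 L761791 q23191, e3 q24425 (flp_j L773341) q25588, e3 q24426 L761815 q24193, e3 q24427 L761827 q24194, e3 q24428 (flp_j L773307) q25586, e3 q24429 L761851 q24221, e3 q24430 L761865 q23623, e3 q24431 L761883 q24158, e3 q24432 L761899 q24161, e3 q24433 L761914 q23732, e3 q24434 L761936 q23211, e3 q24435 L761950 q23212, e3 q24436 L761970 q23770, e3 q24437 L761983 q23788, e3 q24438 L762002 q24317, e3 q24439 L762019 q23906, e3 q24440 L762031 q24362, e3 q24441 L762042 q24397, e3 q24442 (flp_j L773468) q25597, e3 q24443 (flp_j L773480) q25598, e3 q24444 L762090 q23302, e3 q24445 L762109 q23222, e3 q24446 L762125 q23223, e3 q24447 L762139 q23224, trivial⟩ (by decide +kernel)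

theorem ce_j_382 : ∀ r, r < 64 → sm gj (Qf (24448 + r)) = Qf (tab Gen.j (24448 + r)) :=
  edges_tab (sm gj) Qf (tab Gen.j) 24448 [(24448, 23754), (24449, 23225), (24450, 23226), (24451, 24068), (24452, 25608), (24453, 25609), (24454, 25610), (24455, 25612), (24456, 25613), (24457, 23231), (24458, 23759), (24459, 23232), (24460, 23233), (24461, 25622), (24462, 25624), (24463, 25625), (24464, 23987), (24465, 23249), (24466, 23250), (24467, 23251), (24468, 23773), (24469, 23252), (24470, 23253), (24471, 23974), (24472, 23966), (24473, 24274), (24474, 24275), (24475, 23821), (24476, 24093), (24477, 24069), (24478, 24094), (24479, 25628), (24480, 25629), (24481, 25630), (24482, 25631), (24483, 25633), (24484, 25634), (24485, 25635), (24486, 23260), (24487, 23261), (24488, 23262), (24489, 23263), (24490, 23791), (24491, 23264), (24492, 23265), (24493, 25654), (24494, 25655), (24495, 25656), (24496, 24296), (24497, 25660), (24498, 23797), (24499, 23798), (24500, 23271), (24501, 24392), (24502, 23973), (24503, 23280), (24504, 23964),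 (24505, 23685), (24506, 23687), (24507, 24070), (24508, 24095), (24509, 24146), (24510, 23971), (24511, 23284)]
    ⟨e3 q24448 L762162 q23754, e3 q24449 L762176 q23225, e3 q24450 L762186 q23226, e3 q24451 L762207 q24068, e3 q24452 (flp_j L773634) q25608, e3 q24453 (flp_j L773648) q25609, e3 q24454 (flp_j L773662) q25610, e3 q24455 (flp_j L773693) q25612, e3 q24456 (flp_j L773703) q25613, e3 q24457 L762276 q23231, e3 q24458 L762294 q23759, e3 q24459 L762306 q23232, e3 q24460 L762318 q23233, e3 q24461 (flp_j L773821) q25622, e3 q24462 (flp_j L773846) q25624, e3 q24463 (flp_j L773861) q25625, e3 q24464 L762380 q23987, e3 q24465 L762398 q23249, e3 q24466 L762410 q23250, e3 q24467 L762424 q23251, e3 q24468 L762440 q23773, e3 q24469 L762450 q23252, e3 q24470 L762458 q23253, e3 q24471 L762476 q23974, e3 q24472 L762492 q23966, e3 q24473 L762504 q24274, e3 q24474 L762518 q24275, e3 q24475 L762541 q23821, e3 q24476 L762556 q24093, e3 q24477 L762568 q24069, e3 q24478 L762578 q24094, e3 q24479 (flp_j L773907) q25628, e3 q24480 (flp_j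 L773919) q25629, e3 q24481 (flp_j L773933) q25630, e3 q24482 (flp_j L773947) q25631, e3 q24483 (flp_j L773973) q25633, e3 q24484 (flp_j L773981) q25634, e3 q24485 (flp_j L773993) q25635, e3 q24486 L762658 q23260, e3 q24487 L762668 q23261, e3 q24488 L762688 q23262, e3 q24489 L762703 q23263, e3 q24490 L762716 q23791, e3 q24491 L762726 q23264, e3 q24492 L762738 q23265, e3 q24493 (flp_j L774224) q25654, e3 q24494 (flp_j L774239) q25655, e3 q24495 (flp_j L774254) q25656, e3 q24496 (flp_j L762801) q24296, e3 q24497 (flp_j L774305) q25660, e3 q24498 L762822 q23797, e3 q24499 L762836 q23798, e3 q24500 L762849 q23271, e3 q24501 L762866 q24392, e3 q24502 L762879 q23973, e3 q24503 L762893 q23280, e3 q24504 L762909 q23964, e3 q24505 L762922 q23685, e3 q24506 L762938 q23687, e3 q24507 L762952 q24070, e3 q24508 L762967 q24095, e3 q24509 L762981 q24146, e3 q24510 L762996 q23971, e3 q24511 L763012 q23284, trivial⟩ (by decide +kernel)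

theorem ce_j_383 : ∀ r, r < 64 → sm gj (Qf (24512 + r)) = Qf (tab Gen.j (24512 + r)) :=
  edges_tab (sm gj) Qf (tab Gen.j) 24512 [(24512, 25673), (24513, 23490), (24514, 23491), (24515, 23492), (24516, 23493), (24517, 23294), (24518, 23295), (24519, 23297), (24520, 24246), (24521, 25679), (24522, 25680), (24523, 24217), (24524, 25681), (24525, 24235), (24526, 24199), (24527, 25607), (24528, 23308), (24529, 24319), (24530, 24364), (24531, 24399), (24532, 24222), (24533, 25690), (24534, 24236), (24535, 24020), (24536, 24021), (24537, 23318), (24538, 24365), (24539, 24366), (24540, 23316), (24541, 25702), (24542, 24223), (24543, 24224), (24544, 25699), (24545, 23320), (24546, 25708), (24547, 23324), (24548, 23336), (24549, 23337), (24550, 23338), (24551, 23339), (24552, 23340), (24553, 23341), (24554, 23829), (24555, 23342), (24556, 23343), (24557, 23594), (24558, 23595), (24559, 25709), (24560, 25710), (24561, 25711), (24562, 25712), (24563, 25713), (24564, 25714), (24565, 25716), (24566, 25717), (24567, 23809), (24568, 23825),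 (24569, 24071), (24570, 23356), (24571, 23357), (24572, 23360), (24573, 23362), (24574, 23363), (24575, 24312)]
    ⟨e3 q24512 (flp_j L774494) q25673, e3 q24513 L763048 q23490, e3 q24514 L763061 q23491, e3 q24515 L763080 q23492, e3 q24516 L763092 q23493, e3 q24517 L763108 q23294, e3 q24518 L763120 q23295, e3 q24519 L763135 q23297, e3 q24520 L763154 q24246, e3 q24521 (flp_j L774593) q25679, e3 q24522 (flp_j L774607) q25680, e3 q24523 L763195 q24217, e3 q24524 (flp_j L774622) q25681, e3 q24525 L763219 q24235, e3 q24526 L763240 q24199, e3 q24527 (flp_j L773613) q25607, e3 q24528 L763264 q23308, e3 q24529 L763283 q24319, e3 q24530 L763297 q24364, e3 q24531 L763311 q24399, e3 q24532 L763328 q24222, e3 q24533 (flp_j L774748) q25690, e3 q24534 L763352 q24236, e3 q24535 L763370 q24020, e3 q24536 L763378 q24021, e3 q24537 L763392 q23318, e3 q24538 L763406 q24365, e3 q24539 L763420 q24366, e3 q24540 L763442 q23316, e3 q24541 (flp_j L774916) q25702, e3 q24542 L763466 q24223, e3 q24543 L763476 q24224, e3 q24544 (flp_j L774872) q25699,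 e3 q24545 L763500 q23320, e3 q24546 (flp_j L774994) q25708, e3 q24547 L763534 q23324, e3 q24548 L763557 q23336, e3 q24549 L763570 q23337, e3 q24550 L763589 q23338, e3 q24551 L763606 q23339, e3 q24552 L763618 q23340, e3 q24553 L763629 q23341, e3 q24554 L763651 q23829, e3 q24555 L763662 q23342, e3 q24556 L763672 q23343, e3 q24557 L763694 q23594, e3 q24558 L763707 q23595, e3 q24559 (flp_j L775016) q25709, e3 q24560 (flp_j L775029) q25710, e3 q24561 (flp_j L775047) q25711, e3 q24562 (flp_j L775064) q25712, e3 q24563 (flp_j L775074) q25713, e3 q24564 (flp_j L775086) q25714, e3 q24565 (flp_j L775116) q25716, e3 q24566 (flp_j L775126) q25717, e3 q24567 L763809 q23809, e3 q24568 L763818 q23825, e3 q24569 L763828 q24071, e3 q24570 L763846 q23356, e3 q24571 L763858 q23357, e3 q24572 L763874 q23360, e3 q24573 L763884 q23362, e3 q24574 L763892 q23363, e3 q24575 L763909 q24312, trivial⟩ (by decide +kernel)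

theorem ce_j_384 : ∀ r, r < 64 → sm gj (Qf (24576 + r)) = Qf (tab Gen.j (24576 + r)) :=
  edges_tab (sm gj) Qf (tab Gen.j) 24576 [(24576, 23366), (24577, 23367), (24578, 24303), (24579, 25734), (24580, 25735), (24581, 23965), (24582, 23967), (24583, 25736), (24584, 24288), (24585, 25737), (24586, 25738), (24587, 25739), (24588, 23365), (24589, 25755), (24590, 25741), (24591, 25742), (24592, 25743), (24593, 23373), (24594, 24395), (24595, 23376), (24596, 23377), (24597, 23375), (24598, 25763), (24599, 25762), (24600, 23380), (24601, 25765), (24602, 24096), (24603, 24097), (24604, 23394), (24605, 23395), (24606, 23399), (24607, 23400), (24608, 23406), (24609, 23407), (24610, 23408), (24611, 23390), (24612, 25779), (24613, 23411), (24614, 23412), (24615, 23413), (24616, 24003), (24617, 25770), (24618, 25771), (24619, 23690), (24620, 24004), (24621, 24286), (24622, 25772), (24623, 25773), (24624, 25774), (24625, 23919), (24626, 24006), (24627, 24007), (24628, 23404), (24629, 25800), (24630, 24289), (24631, 25775), (24632, 25776),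 (24633, 25777), (24634, 24297), (24635, 23410), (24636, 25807), (24637, 25808), (24638, 25782), (24639, 25783)]
    ⟨e3 q24576 L763921 q23366, e3 q24577 L763927 q23367, e3 q24578 L763944 q24303, e3 q24579 (flp_j L775317) q25734, e3 q24580 (flp_j L775331) q25735, e3 q24581 L763987 q23965, e3 q24582 L764004 q23967, e3 q24583 (flp_j L775346) q25736, e3 q24584 L764024 q24288, e3 q24585 (flp_j L775358) q25737, e3 q24586 (flp_j L775368) q25738, e3 q24587 (flp_j L775380) q25739, e3 q24588 L764073 q23365, e3 q24589 (flp_j L775576) q25755, e3 q24590 (flp_j L775405) q25741, e3 q24591 (flp_j L775417) q25742, e3 q24592 (flp_j L775425) q25743, e3 q24593 L764121 q23373, e3 q24594 L764135 q24395, e3 q24595 L764150 q23376, e3 q24596 L764165 q23377, e3 q24597 L764180 q23375, e3 q24598 (flp_j L775674) q25763, e3 q24599 (flp_j L775659) q25762, e3 q24600 L764230 q23380, e3 q24601 (flp_j L775706) q25765, e3 q24602 L764251 q24096, e3 q24603 L764257 q24097, e3 q24604 L764273 q23394, e3 q24605 L764287 q23395, e3 q24606 L764301 q23399, e3 q24607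 L764309 q23400, e3 q24608 L764319 q23406, e3 q24609 L764329 q23407, e3 q24610 L764339 q23408, e3 q24611 L764357 q23390, e3 q24612 (flp_j L775871) q25779, e3 q24613 L764377 q23411, e3 q24614 L764389 q23412, e3 q24615 L764397 q23413, e3 q24616 L764415 q24003, e3 q24617 (flp_j L775757) q25770, e3 q24618 (flp_j L775773) q25771, e3 q24619 L764461 q23690, e3 q24620 L764473 q24004, e3 q24621 L764487 q24286, e3 q24622 (flp_j L775785) q25772, e3 q24623 (flp_j L775795) q25773, e3 q24624 (flp_j L775809) q25774, e3 q24625 L764533 q23919, e3 q24626 L764545 q24006, e3 q24627 L764557 q24007, e3 q24628 L764577 q23404, e3 q24629 (flp_j L776133) q25800, e3 q24630 L764605 q24289, e3 q24631 (flp_j L775825) q25775, e3 q24632 (flp_j L775835) q25776, e3 q24633 (flp_j L775845) q25777, e3 q24634 (flp_j L764645) q24297, e3 q24635 L764653 q23410, e3 q24636 (flp_j L776209) q25807, e3 q24637 (flp_j L776215) q25808, e3 q24638 (flp_j L775905) q25782, e3 q24639 (flp_j L775917) q25783, trivial⟩ (by decide +kernel)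

theorem ce_j_385 : ∀ r, r < 64 → sm gj (Qf (24640 + r)) = Qf (tab Gen.j (24640 + r)) :=
  edges_tab (sm gj) Qf (tab Gen.j) 24640 [(24640, 25784), (24641, 23422), (24642, 23817), (24643, 23418), (24644, 25814), (24645, 23427), (24646, 23428), (24647, 23426), (24648, 25816), (24649, 25817), (24650, 23430), (24651, 23675), (24652, 23436), (24653, 23435), (24654, 23445), (24655, 23972), (24656, 23824), (24657, 23691), (24658, 24005), (24659, 23942), (24660, 23862), (24661, 24391), (24662, 23468), (24663, 25823), (24664, 23474), (24665, 23501), (24666, 23506), (24667, 23498), (24668, 25825), (24669, 23499), (24670, 23529), (24671, 23484), (24672, 23517), (24673, 23522), (24674, 23514), (24675, 25832), (24676, 23515), (24677, 24170), (24678, 24163), (24679, 25675), (24680, 25676), (24681, 25677), (24682, 25678), (24683, 23502), (24684, 23988), (24685, 23995), (24686, 24248), (24687, 25828), (24688, 25830), (24689, 23535), (24690, 25826), (24691, 25844), (24692, 23560), (24693, 23536), (24694, 23554), (24695, 25827), (24696, 23985),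 (24697, 23518), (24698, 24206), (24699, 24207), (24700, 23696), (24701, 25835), (24702, 25836), (24703, 23582)]
    ⟨e3 q24640 (flp_j L775925) q25784, e3 q24641 L764695 q23422, e3 q24642 L764714 q23817, e3 q24643 L764725 q23418, e3 q24644 (flp_j L776267) q25814, e3 q24645 L764753 q23427, e3 q24646 L764771 q23428, e3 q24647 L764779 q23426, e3 q24648 (flp_j L776298) q25816, e3 q24649 (flp_j L776312) q25817, e3 q24650 L764815 q23430, e3 q24651 L764832 q23675, e3 q24652 L764846 q23436, e3 q24653 L764863 q23435, e3 q24654 L764880 q23445, e3 q24655 L764895 q23972, e3 q24656 L764906 q23824, e3 q24657 L764918 q23691, e3 q24658 L764933 q24005, e3 q24659 L764945 q23942, e3 q24660 L764958 q23862, e3 q24661 L764981 q24391, e3 q24662 L764997 q23468, e3 q24663 (flp_j L776396) q25823, e3 q24664 L765031 q23474, e3 q24665 L765049 q23501, e3 q24666 L765063 q23506, e3 q24667 L765084 q23498, e3 q24668 (flp_j L776430) q25825, e3 q24669 L765112 q23499, e3 q24670 L765133 q23529, e3 q24671 L765143 q23484, e3 q24672 L765157 q23517, e3 q24673 L765171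 q23522, e3 q24674 L765187 q23514, e3 q24675 (flp_j L776540) q25832, e3 q24676 L765211 q23515, e3 q24677 L765232 q24170, e3 q24678 L765249 q24163, e3 q24679 (flp_j L774532) q25675, e3 q24680 (flp_j L774545) q25676, e3 q24681 (flp_j L774565) q25677, e3 q24682 (flp_j L774577) q25678, e3 q24683 L765308 q23502, e3 q24684 L765328 q23988, e3 q24685 L765342 q23995, e3 q24686 L765358 q24248, e3 q24687 (flp_j L776479) q25828, e3 q24688 (flp_j L776507) q25830, e3 q24689 L765391 q23535, e3 q24690 (flp_j L776448) q25826, e3 q24691 (flp_j L776699) q25844, e3 q24692 L765419 q23560, e3 q24693 L765436 q23536, e3 q24694 L765451 q23554, e3 q24695 (flp_j L776462) q25827, e3 q24696 L765475 q23985, e3 q24697 L765487 q23518, e3 q24698 L765497 q24206, e3 q24699 L765509 q24207, e3 q24700 L765523 q23696, e3 q24701 (flp_j L776584) q25835, e3 q24702 (flp_j L776598) q25836, e3 q24703 L765549 q23582, trivial⟩ (by decide +kernel)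

theorem ce_j_386 : ∀ r, r < 64 → sm gj (Qf (24704 + r)) = Qf (tab Gen.j (24704 + r)) :=
  edges_tab (sm gj) Qf (tab Gen.j) 24704 [(24704, 24215), (24705, 25833), (24706, 25834), (24707, 25858), (24708, 24216), (24709, 23572), (24710, 23698), (24711, 25831), (24712, 23537), (24713, 23544), (24714, 23555), (24715, 24237), (24716, 25851), (24717, 25855), (24718, 25873), (24719, 23545), (24720, 23871), (24721, 23882), (24722, 24114), (24723, 24151), (24724, 25874), (24725, 25880), (24726, 23553), (24727, 23556), (24728, 23570), (24729, 23577), (24730, 23875), (24731, 23568), (24732, 25887), (24733, 25856), (24734, 25875), (24735, 25888), (24736, 23626), (24737, 23624), (24738, 25850), (24739, 24191), (24740, 23571), (24741, 23615), (24742, 23573), (24743, 23574), (24744, 25892), (24745, 24182), (24746, 24231), (24747, 25889), (24748, 25901), (24749, 25871), (24750, 23672), (24751, 25903), (24752, 25865), (24753, 25904), (24754, 23670), (24755, 23669), (24756, 25890), (24757, 23667), (24758, 23655), (24759, 23688), (24760, 24186),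 (24761, 23674), (24762, 23597), (24763, 23598), (24764, 23599), (24765, 23600), (24766, 23601), (24767, 23602)]
    ⟨e3 q24704 L765565 q24215, e3 q24705 (flp_j L776554) q25833, e3 q24706 (flp_j L776568) q25834, e3 q24707 (flp_j L776875) q25858, e3 q24708 L765601 q24216, e3 q24709 L765617 q23572, e3 q24710 L765631 q23698, e3 q24711 (flp_j L776524) q25831, e3 q24712 L765661 q23537, e3 q24713 L765680 q23544, e3 q24714 L765696 q23555, e3 q24715 L765711 q24237, e3 q24716 (flp_j L776793) q25851, e3 q24717 (flp_j L776831) q25855, e3 q24718 (flp_j L777045) q25873, e3 q24719 L765750 q23545, e3 q24720 L765769 q23871, e3 q24721 L765786 q23882, e3 q24722 L765800 q24114, e3 q24723 L765813 q24151, e3 q24724 (flp_j L777062) q25874, e3 q24725 (flp_j L777130) q25880, e3 q24726 L765861 q23553, e3 q24727 L765869 q23556, e3 q24728 L765887 q23570, e3 q24729 L765901 q23577, e3 q24730 L765917 q23875, e3 q24731 L765933 q23568, e3 q24732 (flp_j L777235) q25887, e3 q24733 (flp_j L776848) q25856, e3 q24734 (flp_j L777076) q25875, e3 q24735 (flp_j L777245)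 q25888, e3 q24736 L765980 q23626, e3 q24737 L765995 q23624, e3 q24738 (flp_j L776774) q25850, e3 q24739 L766017 q24191, e3 q24740 L766025 q23571, e3 q24741 L766041 q23615, e3 q24742 L766053 q23573, e3 q24743 L766061 q23574, e3 q24744 (flp_j L777302) q25892, e3 q24745 L766081 q24182, e3 q24746 L766097 q24231, e3 q24747 (flp_j L777259) q25889, e3 q24748 (flp_j L777400) q25901, e3 q24749 (flp_j L777021) q25871, e3 q24750 L766129 q23672, e3 q24751 (flp_j L777426) q25903, e3 q24752 (flp_j L776955) q25865, e3 q24753 (flp_j L777432) q25904, e3 q24754 L766167 q23670, e3 q24755 L766183 q23669, e3 q24756 (flp_j L777273) q25890, e3 q24757 L766211 q23667, e3 q24758 L766226 q23655, e3 q24759 L766240 q23688, e3 q24760 L766256 q24186, e3 q24761 L766271 q23674, e3 q24762 L766293 q23597, e3 q24763 L766310 q23598, e3 q24764 L766322 q23599, e3 q24765 L766333 q23600, e3 q24766 L766345 q23601, e3 q24767 L766355 q23602, trivial⟩ (by decide +kernel)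

theorem ce_j_387 : ∀ r, r < 64 → sm gj (Qf (24768 + r)) = Qf (tab Gen.j (24768 + r)) :=
  edges_tab (sm gj) Qf (tab Gen.j) 24768 [(24768, 25718), (24769, 25719), (24770, 23898), (24771, 25921), (24772, 25922), (24773, 25923), (24774, 25820), (24775, 25924), (24776, 25925), (24777, 23991), (24778, 23613), (24779, 23614), (24780, 23616), (24781, 23617), (24782, 23619), (24783, 23620), (24784, 24164), (24785, 24165), (24786, 24166), (24787, 25939), (24788, 25940), (24789, 25902), (24790, 25941), (24791, 25942), (24792, 25899), (24793, 25572), (24794, 25943), (24795, 25944), (24796, 25945), (24797, 23627), (24798, 24168), (24799, 25594), (24800, 24203), (24801, 25895), (24802, 24208), (24803, 24209), (24804, 23647), (24805, 23648), (24806, 23649), (24807, 23650), (24808, 23652), (24809, 23653), (24810, 23654), (24811, 23658), (24812, 23659), (24813, 23660), (24814, 23701), (24815, 24157), (24816, 24171), (24817, 24172), (24818, 24173), (24819, 24174), (24820, 24175), (24821, 24176), (24822, 24177), (24823, 25967), (24824, 25968),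 (24825, 25969), (24826, 25970), (24827, 25971), (24828, 25567), (24829, 25972), (24830, 25973), (24831, 25974)]
    ⟨e3 q24768 (flp_j L775146) q25718, e3 q24769 (flp_j L775159) q25719, e3 q24770 L766398 q23898, e3 q24771 (flp_j L777622) q25921, e3 q24772 (flp_j L777639) q25922, e3 q24773 (flp_j L777649) q25923, e3 q24774 (flp_j L776348) q25820, e3 q24775 (flp_j L777659) q25924, e3 q24776 (flp_j L777669) q25925, e3 q24777 L766457 q23991, e3 q24778 L766480 q23613, e3 q24779 L766493 q23614, e3 q24780 L766499 q23616, e3 q24781 L766507 q23617, e3 q24782 L766518 q23619, e3 q24783 L766524 q23620, e3 q24784 L766541 q24164, e3 q24785 L766553 q24165, e3 q24786 L766567 q24166, e3 q24787 (flp_j L777811) q25939, e3 q24788 (flp_j L777825) q25940, e3 q24789 (flp_j L777414) q25902, e3 q24790 (flp_j L777831) q25941, e3 q24791 (flp_j L777841) q25942, e3 q24792 (flp_j L777379) q25899, e3 q24793 (flp_j L773092) q25572, e3 q24794 (flp_j L777851) q25943, e3 q24795 (flp_j L777859) q25944, e3 q24796 (flp_j L777867) q25945, e3 q24797 L766650 q23627,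 e3 q24798 L766665 q24168, e3 q24799 (flp_j L773421) q25594, e3 q24800 L766688 q24203, e3 q24801 (flp_j L777338) q25895, e3 q24802 L766706 q24208, e3 q24803 L766714 q24209, e3 q24804 L766733 q23647, e3 q24805 L766744 q23648, e3 q24806 L766758 q23649, e3 q24807 L766766 q23650, e3 q24808 L766776 q23652, e3 q24809 L766780 q23653, e3 q24810 L766788 q23654, e3 q24811 L766796 q23658, e3 q24812 L766804 q23659, e3 q24813 L766812 q23660, e3 q24814 L766830 q23701, e3 q24815 L766840 q24157, e3 q24816 L766855 q24171, e3 q24817 L766867 q24172, e3 q24818 L766877 q24173, e3 q24819 L766889 q24174, e3 q24820 L766897 q24175, e3 q24821 L766907 q24176, e3 q24822 L766917 q24177, e3 q24823 (flp_j L778084) q25967, e3 q24824 (flp_j L778094) q25968, e3 q24825 (flp_j L778106) q25969, e3 q24826 (flp_j L778112) q25970, e3 q24827 (flp_j L778122) q25971, e3 q24828 (flp_j L773009) q25567, e3 q24829 (flp_j L778132) q25972, e3 q24830 (flp_j L778140) q25973, e3 q24831 (flp_j L778148) q25974, trivial⟩ (by decide +kernel)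

theorem ce_j_388 : ∀ r, r < 64 → sm gj (Qf (24832 + r)) = Qf (tab Gen.j (24832 + r)) :=
  edges_tab (sm gj) Qf (tab Gen.j) 24832 [(24832, 25975), (24833, 25919), (24834, 25908), (24835, 23657), (24836, 26007), (24837, 24230), (24838, 25976), (24839, 25977), (24840, 25978), (24841, 23668), (24842, 24180), (24843, 24181), (24844, 25569), (24845, 25918), (24846, 25917), (24847, 25913), (24848, 24185), (24849, 23955), (24850, 25815), (24851, 23684), (24852, 23686), (24853, 23702), (24854, 24183), (24855, 24184), (24856, 25669), (24857, 26020), (24858, 25670), (24859, 25920), (24860, 23800), (24861, 23692), (24862, 25788), (24863, 25821), (24864, 26026), (24865, 24238), (24866, 23697), (24867, 25861), (24868, 25862), (24869, 26031), (24870, 23703), (24871, 23704), (24872, 25979), (24873, 25596), (24874, 26035), (24875, 26036), (24876, 23741), (24877, 24242), (24878, 23709), (24879, 23710), (24880, 26045), (24881, 26046), (24882, 26047), (24883, 23712), (24884, 24247), (24885, 24249), (24886, 24250), (24887, 23722), (24888, 23725),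 (24889, 23726), (24890, 23727), (24891, 24276), (24892, 24244), (24893, 24241), (24894, 26055), (24895, 23724)]
    ⟨e3 q24832 (flp_j L778156) q25975, e3 q24833 (flp_j L777594) q25919, e3 q24834 (flp_j L777480) q25908, e3 q24835 L767008 q23657, e3 q24836 (flp_j L778431) q26007, e3 q24837 L767026 q24230, e3 q24838 (flp_j L778162) q25976, e3 q24839 (flp_j L778172) q25977, e3 q24840 (flp_j L778178) q25978, e3 q24841 L767056 q23668, e3 q24842 L767067 q24180, e3 q24843 L767082 q24181, e3 q24844 (flp_j L773041) q25569, e3 q24845 (flp_j L777577) q25918, e3 q24846 (flp_j L777562) q25917, e3 q24847 (flp_j L777528) q25913, e3 q24848 L767120 q24185, e3 q24849 L767134 q23955, e3 q24850 (flp_j L776283) q25815, e3 q24851 L767152 q23684, e3 q24852 L767161 q23686, e3 q24853 L767174 q23702, e3 q24854 L767187 q24183, e3 q24855 L767202 q24184, e3 q24856 (flp_j L774435) q25669, e3 q24857 (flp_j L778552) q26020, e3 q24858 (flp_j L774452) q25670, e3 q24859 (flp_j L777607) q25920, e3 q24860 L767254 q23800, e3 q24861 L767264 q23692, e3 q24862 (flp_j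 L775979) q25788, e3 q24863 (flp_j L776361) q25821, e3 q24864 (flp_j L778620) q26026, e3 q24865 L767315 q24238, e3 q24866 L767327 q23697, e3 q24867 (flp_j L776909) q25861, e3 q24868 (flp_j L776923) q25862, e3 q24869 (flp_j L778684) q26031, e3 q24870 L767372 q23703, e3 q24871 L767378 q23704, e3 q24872 (flp_j L778192) q25979, e3 q24873 (flp_j L773453) q25596, e3 q24874 (flp_j L778724) q26035, e3 q24875 (flp_j L778734) q26036, e3 q24876 L767431 q23741, e3 q24877 L767441 q24242, e3 q24878 L767453 q23709, e3 q24879 L767463 q23710, e3 q24880 (flp_j L778828) q26045, e3 q24881 (flp_j L778838) q26046, e3 q24882 (flp_j L778852) q26047, e3 q24883 L767505 q23712, e3 q24884 L767520 q24247, e3 q24885 L767534 q24249, e3 q24886 L767544 q24250, e3 q24887 L767554 q23722, e3 q24888 L767566 q23725, e3 q24889 L767572 q23726, e3 q24890 L767582 q23727, e3 q24891 L767594 q24276, e3 q24892 L767610 q24244, e3 q24893 L767624 q24241, e3 q24894 (flp_j L778939) q26055, e3 q24895 L767650 q23724, trivial⟩ (by decide +kernel)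

theorem ce_j_389 : ∀ r, r < 64 → sm gj (Qf (24896 + r)) = Qf (tab Gen.j (24896 + r)) :=
  edges_tab (sm gj) Qf (tab Gen.j) 24896 [(24896, 26063), (24897, 26064), (24898, 26056), (24899, 26057), (24900, 26058), (24901, 23730), (24902, 24301), (24903, 25578), (24904, 24394), (24905, 23736), (24906, 26072), (24907, 24257), (24908, 23742), (24909, 23743), (24910, 23744), (24911, 26043), (24912, 26075), (24913, 26076), (24914, 26077), (24915, 23750), (24916, 23751), (24917, 24113), (24918, 24115), (24919, 24152), (24920, 26083), (24921, 26084), (24922, 24260), (24923, 24261), (24924, 25611), (24925, 23757), (24926, 23758), (24927, 26095), (24928, 26096), (24929, 26097), (24930, 25623), (24931, 23762), (24932, 23763), (24933, 26103), (24934, 24120), (24935, 24279), (24936, 24280), (24937, 24281), (24938, 23780), (24939, 23782), (24940, 25599), (24941, 23783), (24942, 23784), (24943, 25632), (24944, 23785), (24945, 23786), (24946, 23787), (24947, 24298), (24948, 24321), (24949, 24367), (24950, 24313), (24951, 26110), (24952, 24314),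 (24953, 26111), (24954, 26113), (24955, 26114), (24956, 26115), (24957, 26118), (24958, 26119), (24959, 26120)]
    ⟨e3 q24896 (flp_j L779037) q26063, e3 q24897 (flp_j L779047) q26064, e3 q24898 (flp_j L778953) q26056, e3 q24899 (flp_j L778959) q26057, e3 q24900 (flp_j L778969) q26058, e3 q24901 L767690 q23730, e3 q24902 L767698 q24301, e3 q24903 (flp_j L773180) q25578, e3 q24904 L767722 q24394, e3 q24905 L767730 q23736, e3 q24906 (flp_j L779120) q26072, e3 q24907 L767752 q24257, e3 q24908 L767760 q23742, e3 q24909 L767768 q23743, e3 q24910 L767775 q23744, e3 q24911 (flp_j L778802) q26043, e3 q24912 (flp_j L779148) q26075, e3 q24913 (flp_j L779158) q26076, e3 q24914 (flp_j L779166) q26077, e3 q24915 L767816 q23750, e3 q24916 L767826 q23751, e3 q24917 L767843 q24113, e3 q24918 L767853 q24115, e3 q24919 L767867 q24152, e3 q24920 (flp_j L779217) q26083, e3 q24921 (flp_j L779229) q26084, e3 q24922 L767900 q24260, e3 q24923 L767912 q24261, e3 q24924 (flp_j L773681) q25611, e3 q24925 L767938 q23757, e3 q24926 L767948 q23758, e3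 q24927 (flp_j L779355) q26095, e3 q24928 (flp_j L779365) q26096, e3 q24929 (flp_j L779379) q26097, e3 q24930 (flp_j L773835) q25623, e3 q24931 L768000 q23762, e3 q24932 L768011 q23763, e3 q24933 (flp_j L779440) q26103, e3 q24934 L768040 q24120, e3 q24935 L768052 q24279, e3 q24936 L768064 q24280, e3 q24937 L768072 q24281, e3 q24938 L768083 q23780, e3 q24939 L768093 q23782, e3 q24940 (flp_j L773502) q25599, e3 q24941 L768123 q23783, e3 q24942 L768133 q23784, e3 q24943 (flp_j L773963) q25632, e3 q24944 L768151 q23785, e3 q24945 L768157 q23786, e3 q24946 L768163 q23787, e3 q24947 L768177 q24298, e3 q24948 L768187 q24321, e3 q24949 L768201 q24367, e3 q24950 L768214 q24313, e3 q24951 (flp_j L779514) q26110, e3 q24952 L768234 q24314, e3 q24953 (flp_j L779526) q26111, e3 q24954 (flp_j L779548) q26113, e3 q24955 (flp_j L779560) q26114, e3 q24956 (flp_j L779574) q26115, e3 q24957 (flp_j L779598) q26118, e3 q24958 (flp_j L779606) q26119, e3 q24959 (flp_j L779610) q26120, trivial⟩ (by decide +kernel)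

theorem ce_j_390 : ∀ r, r < 64 → sm gj (Qf (24960 + r)) = Qf (tab Gen.j (24960 + r)) :=
  edges_tab (sm gj) Qf (tab Gen.j) 24960 [(24960, 25600), (24961, 23794), (24962, 23795), (24963, 25658), (24964, 25659), (24965, 23796), (24966, 26137), (24967, 26140), (24968, 25664), (24969, 25665), (24970, 26025), (24971, 24393), (24972, 24090), (24973, 23816), (24974, 23822), (24975, 23823), (24976, 25731), (24977, 23826), (24978, 23827), (24979, 24031), (24980, 24053), (24981, 23846), (24982, 24318), (24983, 26146), (24984, 25657), (24985, 25778), (24986, 24111), (24987, 23901), (24988, 24112), (24989, 25640), (24990, 26147), (24991, 26148), (24992, 25819), (24993, 25667), (24994, 25732), (24995, 26150), (24996, 26151), (24997, 26152), (24998, 24304), (24999, 25715), (25000, 24305), (25001, 24306), (25002, 23841), (25003, 24294), (25004, 23847), (25005, 23848), (25006, 23837), (25007, 26186), (25008, 23851), (25009, 23852), (25010, 23853), (25011, 24285), (25012, 26182), (25013, 24116), (25014, 24356), (25015, 24311), (25016, 24357),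 (25017, 26156), (25018, 26184), (25019, 25799), (25020, 26185), (25021, 23850), (25022, 26202), (25023, 26203)]
    ⟨e3 q24960 (flp_j L773515) q25600, e3 q24961 L768316 q23794, e3 q24962 L768329 q23795, e3 q24963 (flp_j L774279) q25658, e3 q24964 (flp_j L774293) q25659, e3 q24965 L768359 q23796, e3 q24966 (flp_j L779780) q26137, e3 q24967 (flp_j L779812) q26140, e3 q24968 (flp_j L774359) q25664, e3 q24969 (flp_j L774376) q25665, e3 q24970 (flp_j L778609) q26025, e3 q24971 L768411 q24393, e3 q24972 L768426 q24090, e3 q24973 L768444 q23816, e3 q24974 L768459 q23822, e3 q24975 L768465 q23823, e3 q24976 (flp_j L775283) q25731, e3 q24977 L768482 q23826, e3 q24978 L768488 q23827, e3 q24979 L768502 q24031, e3 q24980 L768513 q24053, e3 q24981 L768531 q23846, e3 q24982 L768542 q24318, e3 q24983 (flp_j L779874) q26146, e3 q24984 (flp_j L774270) q25657, e3 q24985 (flp_j L775861) q25778, e3 q24986 L768577 q24111, e3 q24987 L768595 q23901, e3 q24988 L768605 q24112, e3 q24989 (flp_j L774072) q25640, e3 q24990 (flp_j L779888) q26147, e3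 q24991 (flp_j L779896) q26148, e3 q24992 (flp_j L776336) q25819, e3 q24993 (flp_j L774407) q25667, e3 q24994 (flp_j L775293) q25732, e3 q24995 (flp_j L779914) q26150, e3 q24996 (flp_j L779920) q26151, e3 q24997 (flp_j L779927) q26152, e3 q24998 L768676 q24304, e3 q24999 (flp_j L775104) q25715, e3 q25000 L768699 q24305, e3 q25001 L768707 q24306, e3 q25002 L768717 q23841, e3 q25003 L768739 q24294, e3 q25004 L768749 q23847, e3 q25005 L768761 q23848, e3 q25006 L768779 q23837, e3 q25007 (flp_j L780251) q26186, e3 q25008 L768793 q23851, e3 q25009 L768799 q23852, e3 q25010 L768807 q23853, e3 q25011 L768819 q24285, e3 q25012 (flp_j L780197) q26182, e3 q25013 L768845 q24116, e3 q25014 L768855 q24356, e3 q25015 L768865 q24311, e3 q25016 L768881 q24357, e3 q25017 (flp_j L779978) q26156, e3 q25018 (flp_j L780225) q26184, e3 q25019 (flp_j L776115) q25799, e3 q25020 (flp_j L780239) q26185, e3 q25021 L768931 q23850, e3 q25022 (flp_j L780409) q26202, e3 q25023 (flp_j L780415) q26203, trivial⟩ (by decide +kernel)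

theorem ce_j_391 : ∀ r, r < 64 → sm gj (Qf (25024 + r)) = Qf (tab Gen.j (25024 + r)) :=
  edges_tab (sm gj) Qf (tab Gen.j) 25024 [(25024, 26189), (25025, 26190), (25026, 26191), (25027, 24390), (25028, 23857), (25029, 26209), (25030, 26210), (25031, 23866), (25032, 23867), (25033, 23864), (25034, 23865), (25035, 26216), (25036, 26214), (25037, 26215), (25038, 23912), (25039, 23904), (25040, 25881), (25041, 24337), (25042, 24338), (25043, 23900), (25044, 23899), (25045, 25891), (25046, 24340), (25047, 24341), (25048, 24342), (25049, 23897), (25050, 23902), (25051, 23903), (25052, 25882), (25053, 23908), (25054, 23909), (25055, 23910), (25056, 23911), (25057, 23888), (25058, 26243), (25059, 23915), (25060, 23916), (25061, 23917), (25062, 23918), (25063, 23893), (25064, 26250), (25065, 26251), (25066, 23923), (25067, 23924), (25068, 23925), (25069, 26233), (25070, 25929), (25071, 26227), (25072, 26226), (25073, 26163), (25074, 26234), (25075, 26235), (25076, 26236), (25077, 26221), (25078, 23907), (25079, 25602), (25080, 26268),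 (25081, 26238), (25082, 26239), (25083, 26240), (25084, 26241), (25085, 25747), (25086, 26242), (25087, 26220)]
    ⟨e3 q25024 (flp_j L780273) q26189, e3 q25025 (flp_j L780281) q26190, e3 q25026 (flp_j L780287) q26191, e3 q25027 L768978 q24390, e3 q25028 L768993 q23857, e3 q25029 (flp_j L780466) q26209, e3 q25030 (flp_j L780481) q26210, e3 q25031 L769021 q23866, e3 q25032 L769032 q23867, e3 q25033 L769043 q23864, e3 q25034 L769054 q23865, e3 q25035 (flp_j L780544) q26216, e3 q25036 (flp_j L780521) q26214, e3 q25037 (flp_j L780532) q26215, e3 q25038 L769103 q23912, e3 q25039 L769115 q23904, e3 q25040 (flp_j L777151) q25881, e3 q25041 L769140 q24337, e3 q25042 L769146 q24338, e3 q25043 L769158 q23900, e3 q25044 L769174 q23899, e3 q25045 (flp_j L777288) q25891, e3 q25046 L769193 q24340, e3 q25047 L769197 q24341, e3 q25048 L769204 q24342, e3 q25049 L769214 q23897, e3 q25050 L769226 q23902, e3 q25051 L769230 q23903, e3 q25052 (flp_j L777168) q25882, e3 q25053 L769254 q23908, e3 q25054 L769262 q23909, e3 q25055 L769274 q23910,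 e3 q25056 L769282 q23911, e3 q25057 L769296 q23888, e3 q25058 (flp_j L780801) q26243, e3 q25059 L769308 q23915, e3 q25060 L769314 q23916, e3 q25061 L769322 q23917, e3 q25062 L769330 q23918, e3 q25063 L769340 q23893, e3 q25064 (flp_j L780851) q26250, e3 q25065 (flp_j L780857) q26251, e3 q25066 L769356 q23923, e3 q25067 L769362 q23924, e3 q25068 L769366 q23925, e3 q25069 (flp_j L780706) q26233, e3 q25070 (flp_j L777715) q25929, e3 q25071 (flp_j L780663) q26227, e3 q25072 (flp_j L780647) q26226, e3 q25073 (flp_j L780045) q26163, e3 q25074 (flp_j L780716) q26234, e3 q25075 (flp_j L780724) q26235, e3 q25076 (flp_j L780730) q26236, e3 q25077 (flp_j L780600) q26221, e3 q25078 L769448 q23907, e3 q25079 (flp_j L773550) q25602, e3 q25080 (flp_j L780984) q26268, e3 q25081 (flp_j L780756) q26238, e3 q25082 (flp_j L780766) q26239, e3 q25083 (flp_j L780772) q26240, e3 q25084 (flp_j L780783) q26241, e3 q25085 (flp_j L775483) q25747, e3 q25086 (flp_j L780791) q26242, e3 q25087 (flp_j L780590) q26220, trivial⟩ (by decide +kernel)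

theorem ce_j_392 : ∀ r, r < 64 → sm gj (Qf (25088 + r)) = Qf (tab Gen.j (25088 + r)) :=
  edges_tab (sm gj) Qf (tab Gen.j) 25088 [(25088, 25748), (25089, 23914), (25090, 26283), (25091, 26284), (25092, 26246), (25093, 26247), (25094, 25796), (25095, 26248), (25096, 26249), (25097, 25795), (25098, 23921), (25099, 23922), (25100, 26294), (25101, 26295), (25102, 26255), (25103, 26256), (25104, 26257), (25105, 23938), (25106, 23928), (25107, 26211), (25108, 26302), (25109, 23941), (25110, 23932), (25111, 23933), (25112, 24141), (25113, 26306), (25114, 26018), (25115, 23946), (25116, 23947), (25117, 23948), (25118, 23940), (25119, 26313), (25120, 26305), (25121, 23945), (25122, 26315), (25123, 26310), (25124, 26311), (25125, 26312), (25126, 23950), (25127, 23954), (25128, 24060), (25129, 24150), (25130, 26143), (25131, 26017), (25132, 23961), (25133, 23962), (25134, 23963), (25135, 23960), (25136, 26088), (25137, 26325), (25138, 26323), (25139, 26326), (25140, 26327), (25141, 25636), (25142, 25637), (25143, 24012), (25144, 24054),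 (25145, 24055), (25146, 25668), (25147, 25666), (25148, 23979), (25149, 25587), (25150, 24167), (25151, 24190)]
    ⟨e3 q25088 (flp_j L775501) q25748, e3 q25089 L769534 q23914, e3 q25090 (flp_j L781101) q26283, e3 q25091 (flp_j L781107) q26284, e3 q25092 (flp_j L780823) q26246, e3 q25093 (flp_j L780829) q26247, e3 q25094 (flp_j L776075) q25796, e3 q25095 (flp_j L780835) q26248, e3 q25096 (flp_j L780841) q26249, e3 q25097 (flp_j L776063) q25795, e3 q25098 L769600 q23921, e3 q25099 L769604 q23922, e3 q25100 (flp_j L781187) q26294, e3 q25101 (flp_j L781193) q26295, e3 q25102 (flp_j L780881) q26255, e3 q25103 (flp_j L780887) q26256, e3 q25104 (flp_j L780893) q26257, e3 q25105 L769640 q23938, e3 q25106 L769650 q23928, e3 q25107 (flp_j L780493) q26211, e3 q25108 (flp_j L781237) q26302, e3 q25109 L769674 q23941, e3 q25110 L769686 q23932, e3 q25111 L769696 q23933, e3 q25112 L769705 q24141, e3 q25113 (flp_j L781279) q26306, e3 q25114 (flp_j L778534) q26018, e3 q25115 L769730 q23946, e3 q25116 L769740 q23947, e3 q25117 L769750 q23948,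 e3 q25118 L769754 q23940, e3 q25119 (flp_j L781346) q26313, e3 q25120 (flp_j L781265) q26305, e3 q25121 L769778 q23945, e3 q25122 (flp_j L781366) q26315, e3 q25123 (flp_j L781320) q26310, e3 q25124 (flp_j L781332) q26311, e3 q25125 (flp_j L781338) q26312, e3 q25126 L769822 q23950, e3 q25127 L769835 q23954, e3 q25128 L769846 q24060, e3 q25129 L769859 q24150, e3 q25130 (flp_j L779840) q26143, e3 q25131 (flp_j L778518) q26017, e3 q25132 L769884 q23961, e3 q25133 L769895 q23962, e3 q25134 L769904 q23963, e3 q25135 L769914 q23960, e3 q25136 (flp_j L779281) q26088, e3 q25137 (flp_j L781458) q26325, e3 q25138 (flp_j L781439) q26323, e3 q25139 (flp_j L781469) q26326, e3 q25140 (flp_j L781476) q26327, e3 q25141 (flp_j L774011) q25636, e3 q25142 (flp_j L774025) q25637, e3 q25143 L769992 q24012, e3 q25144 L770004 q24054, e3 q25145 L770018 q24055, e3 q25146 (flp_j L774424) q25668, e3 q25147 (flp_j L774392) q25666, e3 q25148 L770046 q23979, e3 q25149 (flp_j L773323) q25587, e3 q25150 L770070 q24167, e3 q25151 L770084 q24190, trivial⟩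 (by decide +kernel)

theorem ce_j_393 : ∀ r, r < 64 → sm gj (Qf (25152 + r)) = Qf (tab Gen.j (25152 + r)) :=
  edges_tab (sm gj) Qf (tab Gen.j) 25152 [(25152, 26336), (25153, 24233), (25154, 25573), (25155, 23990), (25156, 23993), (25157, 24197), (25158, 25857), (25159, 24200), (25160, 25627), (25161, 25845), (25162, 24201), (25163, 24202), (25164, 26343), (25165, 25938), (25166, 24204), (25167, 26344), (25168, 24198), (25169, 25846), (25170, 24013), (25171, 24014), (25172, 24015), (25173, 24001), (25174, 26361), (25175, 24008), (25176, 25785), (25177, 25789), (25178, 25790), (25179, 25797), (25180, 25798), (25181, 26363), (25182, 24011), (25183, 26369), (25184, 26333), (25185, 26358), (25186, 26359), (25187, 26360), (25188, 24351), (25189, 24384), (25190, 24363), (25191, 24398), (25192, 25697), (25193, 25698), (25194, 24032), (25195, 24033), (25196, 24034), (25197, 24035), (25198, 24036), (25199, 24037), (25200, 24038), (25201, 24039), (25202, 24040), (25203, 24041), (25204, 26153), (25205, 26384), (25206, 26385), (25207,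 26386), (25208, 26387), (25209, 26388), (25210, 26389), (25211, 26390), (25212, 26391), (25213, 26392), (25214, 26393), (25215, 26394)]
    ⟨e3 q25152 (flp_j L781574) q26336, e3 q25153 L770100 q24233, e3 q25154 (flp_j L773108) q25573, e3 q25155 L770122 q23990, e3 q25156 L770132 q23993, e3 q25157 L770146 q24197, e3 q25158 (flp_j L776863) q25857, e3 q25159 L770172 q24200, e3 q25160 (flp_j L773893) q25627, e3 q25161 (flp_j L776713) q25845, e3 q25162 L770204 q24201, e3 q25163 L770212 q24202, e3 q25164 (flp_j L781660) q26343, e3 q25165 (flp_j L777792) q25938, e3 q25166 L770234 q24204, e3 q25167 (flp_j L781670) q26344, e3 q25168 L770252 q24198, e3 q25169 (flp_j L776729) q25846, e3 q25170 L770272 q24013, e3 q25171 L770282 q24014, e3 q25172 L770295 q24015, e3 q25173 L770309 q24001, e3 q25174 (flp_j L781867) q26361, e3 q25175 L770331 q24008, e3 q25176 (flp_j L775937) q25785, e3 q25177 (flp_j L775991) q25789, e3 q25178 (flp_j L776003) q25790, e3 q25179 (flp_j L776091) q25797, e3 q25180 (flp_j L776103) q25798, e3 q25181 (flp_j L781895)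 q26363, e3 q25182 L770391 q24011, e3 q25183 (flp_j L781943) q26369, e3 q25184 (flp_j L781539) q26333, e3 q25185 (flp_j L781831) q26358, e3 q25186 (flp_j L781841) q26359, e3 q25187 (flp_j L781853) q26360, e3 q25188 L770443 q24351, e3 q25189 L770454 q24384, e3 q25190 L770464 q24363, e3 q25191 L770476 q24398, e3 q25192 (flp_j L774846) q25697, e3 q25193 (flp_j L774858) q25698, e3 q25194 L770498 q24032, e3 q25195 L770504 q24033, e3 q25196 L770517 q24034, e3 q25197 L770525 q24035, e3 q25198 L770535 q24036, e3 q25199 L770543 q24037, e3 q25200 L770551 q24038, e3 q25201 L770561 q24039, e3 q25202 L770575 q24040, e3 q25203 L770585 q24041, e3 q25204 (flp_j L779939) q26153, e3 q25205 (flp_j L782078) q26384, e3 q25206 (flp_j L782084) q26385, e3 q25207 (flp_j L782096) q26386, e3 q25208 (flp_j L782108) q26387, e3 q25209 (flp_j L782118) q26388, e3 q25210 (flp_j L782130) q26389, e3 q25211 (flp_j L782142) q26390, e3 q25212 (flp_j L782152) q26391, e3 q25213 (flp_j L782162) q26392, e3 q25214 (flp_j L782170) q26393, e3 q25215 (flp_j L782180) q26394,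 trivial⟩ (by decide +kernel)

theorem ce_j_394 : ∀ r, r < 64 → sm gj (Qf (25216 + r)) = Qf (tab Gen.j (25216 + r)) :=
  edges_tab (sm gj) Qf (tab Gen.j) 25216 [(25216, 26396), (25217, 26397), (25218, 24045), (25219, 24046), (25220, 26307), (25221, 24396), (25222, 24400), (25223, 24056), (25224, 24057), (25225, 24058), (25226, 26321), (25227, 26154), (25228, 26155), (25229, 26334), (25230, 26335), (25231, 26414), (25232, 24315), (25233, 24333), (25234, 24334), (25235, 24320), (25236, 24325), (25237, 24326), (25238, 24330), (25239, 25614), (25240, 25642), (25241, 25671), (25242, 25733), (25243, 24080), (25244, 24082), (25245, 24083), (25246, 24085), (25247, 24086), (25248, 24088), (25249, 24089), (25250, 24092), (25251, 26431), (25252, 24295), (25253, 26432), (25254, 26433), (25255, 24299), (25256, 26434), (25257, 26435), (25258, 26436), (25259, 24300), (25260, 26437), (25261, 26438), (25262, 26145), (25263, 24302), (25264, 26439), (25265, 25641), (25266, 25643), (25267, 25644), (25268, 25672), (25269, 25767), (25270, 25768),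 (25271, 25769), (25272, 24117), (25273, 24118), (25274, 24119), (25275, 24121), (25276, 24122), (25277, 24123), (25278, 24124), (25279, 24125)]
    ⟨e3 q25216 (flp_j L782198) q26396, e3 q25217 (flp_j L782210) q26397, e3 q25218 L770703 q24045, e3 q25219 L770713 q24046, e3 q25220 (flp_j L781290) q26307, e3 q25221 L770735 q24396, e3 q25222 L770748 q24400, e3 q25223 L770760 q24056, e3 q25224 L770773 q24057, e3 q25225 L770785 q24058, e3 q25226 (flp_j L781414) q26321, e3 q25227 (flp_j L779950) q26154, e3 q25228 (flp_j L779964) q26155, e3 q25229 (flp_j L781553) q26334, e3 q25230 (flp_j L781564) q26335, e3 q25231 (flp_j L782347) q26414, e3 q25232 L770843 q24315, e3 q25233 L770851 q24333, e3 q25234 L770862 q24334, e3 q25235 L770873 q24320, e3 q25236 L770881 q24325, e3 q25237 L770889 q24326, e3 q25238 L770899 q24330, e3 q25239 (flp_j L773720) q25614, e3 q25240 (flp_j L774096) q25642, e3 q25241 (flp_j L774466) q25671, e3 q25242 (flp_j L775303) q25733, e3 q25243 L770944 q24080, e3 q25244 L770952 q24082, e3 q25245 L770962 q24083, e3 q25246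 L770974 q24085, e3 q25247 L770982 q24086, e3 q25248 L770990 q24088, e3 q25249 L770998 q24089, e3 q25250 L771008 q24092, e3 q25251 (flp_j L782507) q26431, e3 q25252 L771032 q24295, e3 q25253 (flp_j L782515) q26432, e3 q25254 (flp_j L782525) q26433, e3 q25255 L771054 q24299, e3 q25256 (flp_j L782535) q26434, e3 q25257 (flp_j L782545) q26435, e3 q25258 (flp_j L782553) q26436, e3 q25259 L771077 q24300, e3 q25260 (flp_j L782564) q26437, e3 q25261 (flp_j L782572) q26438, e3 q25262 (flp_j L779858) q26145, e3 q25263 L771109 q24302, e3 q25264 (flp_j L782582) q26439, e3 q25265 (flp_j L774086) q25641, e3 q25266 (flp_j L774106) q25643, e3 q25267 (flp_j L774118) q25644, e3 q25268 (flp_j L774479) q25672, e3 q25269 (flp_j L775726) q25767, e3 q25270 (flp_j L775732) q25768, e3 q25271 (flp_j L775743) q25769, e3 q25272 L771167 q24117, e3 q25273 L771173 q24118, e3 q25274 L771181 q24119, e3 q25275 L771192 q24121, e3 q25276 L771200 q24122, e3 q25277 L771206 q24123, e3 q25278 L771212 q24124, e3 q25279 L771218 q24125, trivial⟩ (by decide +kernel)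

theorem ce_j_395 : ∀ r, r < 64 → sm gj (Qf (25280 + r)) = Qf (tab Gen.j (25280 + r)) :=
  edges_tab (sm gj) Qf (tab Gen.j) 25280 [(25280, 24128), (25281, 24129), (25282, 24130), (25283, 24131), (25284, 24132), (25285, 26308), (25286, 24135), (25287, 24136), (25288, 26162), (25289, 26164), (25290, 26085), (25291, 25883), (25292, 26086), (25293, 26087), (25294, 26194), (25295, 26463), (25296, 26464), (25297, 26465), (25298, 26466), (25299, 26105), (25300, 26467), (25301, 26468), (25302, 26469), (25303, 26470), (25304, 26471), (25305, 26472), (25306, 26473), (25307, 26474), (25308, 24127), (25309, 26508), (25310, 26509), (25311, 26475), (25312, 26476), (25313, 26477), (25314, 26478), (25315, 26479), (25316, 24134), (25317, 26516), (25318, 26481), (25319, 24142), (25320, 24143), (25321, 26518), (25322, 24145), (25323, 24153), (25324, 24154), (25325, 26322), (25326, 25884), (25327, 26519), (25328, 24178), (25329, 24159), (25330, 25980), (25331, 25595), (25332, 25577), (25333, 26522), (25334, 25839), (25335, 25946), (25336, 25947),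 (25337, 25948), (25338, 25949), (25339, 26338), (25340, 24179), (25341, 25838), (25342, 25981), (25343, 25982)]
    ⟨e3 q25280 L771228 q24128, e3 q25281 L771236 q24129, e3 q25282 L771246 q24130, e3 q25283 L771252 q24131, e3 q25284 L771258 q24132, e3 q25285 (flp_j L781304) q26308, e3 q25286 L771270 q24135, e3 q25287 L771282 q24136, e3 q25288 (flp_j L780029) q26162, e3 q25289 (flp_j L780055) q26164, e3 q25290 (flp_j L779243) q26085, e3 q25291 (flp_j L777180) q25883, e3 q25292 (flp_j L779253) q26086, e3 q25293 (flp_j L779267) q26087, e3 q25294 (flp_j L780321) q26194, e3 q25295 (flp_j L782751) q26463, e3 q25296 (flp_j L782761) q26464, e3 q25297 (flp_j L782771) q26465, e3 q25298 (flp_j L782779) q26466, e3 q25299 (flp_j L779465) q26105, e3 q25300 (flp_j L782787) q26467, e3 q25301 (flp_j L782797) q26468, e3 q25302 (flp_j L782805) q26469, e3 q25303 (flp_j L782812) q26470, e3 q25304 (flp_j L782818) q26471, e3 q25305 (flp_j L782826) q26472, e3 q25306 (flp_j L782834) q26473, e3 q25307 (flp_j L782842) q26474, e3 q25308 L771417 q24127,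 e3 q25309 (flp_j L783077) q26508, e3 q25310 (flp_j L783083) q26509, e3 q25311 (flp_j L782852) q26475, e3 q25312 (flp_j L782860) q26476, e3 q25313 (flp_j L782868) q26477, e3 q25314 (flp_j L782874) q26478, e3 q25315 (flp_j L782880) q26479, e3 q25316 L771455 q24134, e3 q25317 (flp_j L783119) q26516, e3 q25318 (flp_j L782892) q26481, e3 q25319 L771477 q24142, e3 q25320 L771486 q24143, e3 q25321 (flp_j L783135) q26518, e3 q25322 L771504 q24145, e3 q25323 L771509 q24153, e3 q25324 L771516 q24154, e3 q25325 (flp_j L781423) q26322, e3 q25326 (flp_j L777194) q25884, e3 q25327 (flp_j L783142) q26519, e3 q25328 L771548 q24178, e3 q25329 L771562 q24159, e3 q25330 (flp_j L778204) q25980, e3 q25331 (flp_j L773435) q25595, e3 q25332 (flp_j L773162) q25577, e3 q25333 (flp_j L783173) q26522, e3 q25334 (flp_j L776644) q25839, e3 q25335 (flp_j L777881) q25946, e3 q25336 (flp_j L777893) q25947, e3 q25337 (flp_j L777907) q25948, e3 q25338 (flp_j L777921) q25949, e3 q25339 (flp_j L781600) q26338, e3 q25340 L771638 q24179, e3 q25341 (flp_j L776627)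 q25838, e3 q25342 (flp_j L778218) q25981, e3 q25343 (flp_j L778228) q25982, trivial⟩ (by decide +kernel)

theorem ce_j_396 : ∀ r, r < 64 → sm gj (Qf (25344 + r)) = Qf (tab Gen.j (25344 + r)) :=
  edges_tab (sm gj) Qf (tab Gen.j) 25344 [(25344, 25983), (25345, 25984), (25346, 25985), (25347, 25986), (25348, 25987), (25349, 25988), (25350, 25989), (25351, 25907), (25352, 26521), (25353, 26534), (25354, 26013), (25355, 26021), (25356, 26016), (25357, 24339), (25358, 25582), (25359, 25583), (25360, 26339), (25361, 25900), (25362, 24196), (25363, 25591), (25364, 25592), (25365, 25575), (25366, 26558), (25367, 26345), (25368, 26346), (25369, 25585), (25370, 25688), (25371, 26348), (25372, 26349), (25373, 26353), (25374, 26354), (25375, 25959), (25376, 26357), (25377, 25859), (25378, 25860), (25379, 25964), (25380, 25965), (25381, 25966), (25382, 24219), (25383, 24220), (25384, 24228), (25385, 24229), (25386, 24234), (25387, 25866), (25388, 25867), (25389, 25685), (25390, 25686), (25391, 25579), (25392, 26576), (25393, 26577), (25394,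 25590), (25395, 25694), (25396, 25695), (25397, 25705), (25398, 25706), (25399, 25568), (25400, 25580), (25401, 24232), (25402, 26578), (25403, 26579), (25404, 26009), (25405, 25906), (25406, 26594), (25407, 26341)]
    ⟨e3 q25344 (flp_j L778236) q25983, e3 q25345 (flp_j L778248) q25984, e3 q25346 (flp_j L778260) q25985, e3 q25347 (flp_j L778272) q25986, e3 q25348 (flp_j L778284) q25987, e3 q25349 (flp_j L778294) q25988, e3 q25350 (flp_j L778304) q25989, e3 q25351 (flp_j L777464) q25907, e3 q25352 (flp_j L783159) q26521, e3 q25353 (flp_j L783254) q26534, e3 q25354 (flp_j L778479) q26013, e3 q25355 (flp_j L778565) q26021, e3 q25356 (flp_j L778507) q26016, e3 q25357 L771746 q24339, e3 q25358 (flp_j L773246) q25582, e3 q25359 (flp_j L773262) q25583, e3 q25360 (flp_j L781614) q26339, e3 q25361 (flp_j L777392) q25900, e3 q25362 L771780 q24196, e3 q25363 (flp_j L773387) q25591, e3 q25364 (flp_j L773399) q25592, e3 q25365 (flp_j L773134) q25575, e3 q25366 (flp_j L783410) q26558, e3 q25367 (flp_j L781680) q26345, e3 q25368 (flp_j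 L781692) q26346, e3 q25369 (flp_j L773292) q25585, e3 q25370 (flp_j L774720) q25688, e3 q25371 (flp_j L781722) q26348, e3 q25372 (flp_j L781736) q26349, e3 q25373 (flp_j L781787) q26353, e3 q25374 (flp_j L781795) q26354, e3 q25375 (flp_j L778009) q25959, e3 q25376 (flp_j L781819) q26357, e3 q25377 (flp_j L776883) q25859, e3 q25378 (flp_j L776895) q25860, e3 q25379 (flp_j L778045) q25964, e3 q25380 (flp_j L778053) q25965, e3 q25381 (flp_j L778067) q25966, e3 q25382 L771894 q24219, e3 q25383 L771900 q24220, e3 q25384 L771908 q24228, e3 q25385 L771914 q24229, e3 q25386 L771918 q24234, e3 q25387 (flp_j L776969) q25866, e3 q25388 (flp_j L776981) q25867, e3 q25389 (flp_j L774676) q25685, e3 q25390 (flp_j L774692) q25686, e3 q25391 (flp_j L773196) q25579, e3 q25392 (flp_j L783519) q26576, e3 q25393 (flp_j L783527) q26577, e3 q25394 (flp_j L773371) q25590, e3 q25395 (flp_j L774808) q25694, e3 q25396 (flp_j L774822) q25695, e3 q25397 (flp_j L774958) q25705, e3 q25398 (flp_j L774968) q25706, e3 q25399 (flp_j L773023) q25568, e3 q25400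 (flp_j L773214) q25580, e3 q25401 L772002 q24232, e3 q25402 (flp_j L783533) q26578, e3 q25403 (flp_j L783539) q26579, e3 q25404 (flp_j L778449) q26009, e3 q25405 (flp_j L777448) q25906, e3 q25406 (flp_j L783621) q26594, e3 q25407 (flp_j L781636) q26341, trivial⟩ (by decide +kernel)

theorem ce_j_397 : ∀ r, r < 64 → sm gj (Qf (25408 + r)) = Qf (tab Gen.j (25408 + r)) :=
  edges_tab (sm gj) Qf (tab Gen.j) 25408 [(25408, 25876), (25409, 26030), (25410, 24240), (25411, 26602), (25412, 26061), (25413, 26044), (25414, 24245), (25415, 26060), (25416, 26605), (25417, 25682), (25418, 26051), (25419, 25847), (25420, 26052), (25421, 26053), (25422, 26054), (25423, 24262), (25424, 24263), (25425, 24264), (25426, 24265), (25427, 24266), (25428, 24267), (25429, 24268), (25430, 26074), (25431, 24269), (25432, 24270), (25433, 26092), (25434, 26093), (25435, 26615), (25436, 26616), (25437, 26617), (25438, 26618), (25439, 26619), (25440, 26620), (25441, 26621), (25442, 26622), (25443, 26623), (25444, 26625), (25445, 24273), (25446, 25638),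 (25447, 25639), (25448, 26059), (25449, 24278), (25450, 26640), (25451, 26106), (25452, 26107), (25453, 26108), (25454, 26109), (25455, 24287), (25456, 24290), (25457, 24291), (25458, 26192), (25459, 25791), (25460, 26645), (25461, 25751), (25462, 25802), (25463, 26646), (25464, 24358), (25465, 24385), (25466, 26183), (25467, 26442), (25468, 25806), (25469, 25650), (25470, 26121), (25471, 26445)]
    ⟨e3 q25408 (flp_j L777088) q25876, e3 q25409 (flp_j L778672) q26030, e3 q25410 L772052 q24240, e3 q25411 (flp_j L783666) q26602, e3 q25412 (flp_j L779011) q26061, e3 q25413 (flp_j L778816) q26044, e3 q25414 L772078 q24245, e3 q25415 (flp_j L778995) q26060, e3 q25416 (flp_j L783688) q26605, e3 q25417 (flp_j L774636) q25682, e3 q25418 (flp_j L778896) q26051, e3 q25419 (flp_j L776744) q25847, e3 q25420 (flp_j L778908) q26052, e3 q25421 (flp_j L778916) q26053, e3 q25422 (flp_j L778929) q26054, e3 q25423 L772137 q24262, e3 q25424 L772141 q24263, e3 q25425 L772147 q24264, e3 q25426 L772153 q24265, e3 q25427 L772161 q24266, e3 q25428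 L772167 q24267, e3 q25429 L772175 q24268, e3 q25430 (flp_j L779142) q26074, e3 q25431 L772187 q24269, e3 q25432 L772195 q24270, e3 q25433 (flp_j L779319) q26092, e3 q25434 (flp_j L779333) q26093, e3 q25435 (flp_j L783752) q26615, e3 q25436 (flp_j L783760) q26616, e3 q25437 (flp_j L783766) q26617, e3 q25438 (flp_j L783774) q26618, e3 q25439 (flp_j L783780) q26619, e3 q25440 (flp_j L783787) q26620, e3 q25441 (flp_j L783797) q26621, e3 q25442 (flp_j L783803) q26622, e3 q25443 (flp_j L783809) q26623, e3 q25444 (flp_j L783825) q26625, e3 q25445 L772274 q24273, e3 q25446 (flp_j L774037) q25638, e3 q25447 (flp_j L774051) q25639, e3 q25448 (flp_j L778979) q26059, e3 q25449 L772295 q24278, e3 q25450 (flp_j L783918) q26640, e3 q25451 (flp_j L779479) q26106, e3 q25452 (flp_j L779491) q26107, e3 q25453 (flp_j L779497) q26108, e3 q25454 (flp_j L779504) q26109, e3 q25455 L772330 q24287, e3 q25456 L772336 q24290, e3 q25457 L772340 q24291, e3 q25458 (flp_j L780299) q26192, e3 q25459 (flp_j L776019) q25791, e3 q25460 (flp_j L783948) q26645,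 e3 q25461 (flp_j L775530) q25751, e3 q25462 (flp_j L776165) q25802, e3 q25463 (flp_j L783956) q26646, e3 q25464 L772378 q24358, e3 q25465 L772386 q24385, e3 q25466 (flp_j L780213) q26183, e3 q25467 (flp_j L782607) q26442, e3 q25468 L776203 q25806, e3 q25469 L774188 q25650, e3 q25470 (flp_j L779622) q26121, e3 q25471 (flp_j L782631) q26445, trivial⟩ (by decide +kernel)

theorem ce_j_398 : ∀ r, r < 64 → sm gj (Qf (25472 + r)) = Qf (tab Gen.j (25472 + r)) :=
  edges_tab (sm gj) Qf (tab Gen.j) 25472 [(25472, 26070), (25473, 26450), (25474, 26069), (25475, 26454), (25476, 25744), (25477, 26177), (25478, 26179), (25479, 26180), (25480, 26181), (25481, 24316), (25482, 24322), (25483, 24327), (25484, 24331), (25485, 26196), (25486, 25740), (25487, 26124), (25488, 26127), (25489, 26418), (25490, 26419), (25491, 26671), (25492, 25601), (25493, 26157), (25494, 25691), (25495, 26421), (25496, 26422), (25497, 26122), (25498, 26672), (25499, 24324), (25500, 26692), (25501, 26693), (25502, 26423), (25503, 26424), (25504, 26673), (25505,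 24329), (25506, 26699), (25507, 26425), (25508, 26420), (25509, 24336), (25510, 26223), (25511, 26224), (25512, 26225), (25513, 26552), (25514, 26553), (25515, 26230), (25516, 26231), (25517, 26232), (25518, 24359), (25519, 24360), (25520, 24361), (25521, 24368), (25522, 24372), (25523, 24373), (25524, 24374), (25525, 24375), (25526, 24376), (25527, 24377), (25528, 26376), (25529, 24353), (25530, 26720), (25531, 24380), (25532, 26195), (25533, 26197), (25534, 26652), (25535, 26653)]
    ⟨e3 q25472 (flp_j L779095) q26070, e3 q25473 (flp_j L782666) q26450, e3 q25474 (flp_j L779081) q26069, e3 q25475 (flp_j L782698) q26454, e3 q25476 (flp_j L775441) q25744, e3 q25477 (flp_j L780150) q26177, e3 q25478 (flp_j L780172) q26179, e3 q25479 (flp_j L780178) q26180, e3 q25480 (flp_j L780187) q26181, e3 q25481 L772473 q24316, e3 q25482 L772479 q24322, e3 q25483 L772487 q24327, e3 q25484 L772493 q24331, e3 q25485 (flp_j L780345) q26196, e3 q25486 (flp_j L775395) q25740, e3 q25487 (flp_j L779660) q26124, e3 q25488 (flp_j L779691) q26127,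 e3 q25489 (flp_j L782385) q26418, e3 q25490 (flp_j L782395) q26419, e3 q25491 (flp_j L784097) q26671, e3 q25492 (flp_j L773533) q25601, e3 q25493 (flp_j L779990) q26157, e3 q25494 (flp_j L774764) q25691, e3 q25495 (flp_j L782418) q26421, e3 q25496 (flp_j L782426) q26422, e3 q25497 (flp_j L779634) q26122, e3 q25498 (flp_j L784105) q26672, e3 q25499 L772581 q24324, e3 q25500 (flp_j L784228) q26692, e3 q25501 (flp_j L784236) q26693, e3 q25502 (flp_j L782437) q26423, e3 q25503 (flp_j L782445) q26424, e3 q25504 (flp_j L784113) q26673, e3 q25505 L772623 q24329, e3 q25506 (flp_j L784280) q26699, e3 q25507 (flp_j L782455) q26425, e3 q25508 (flp_j L782407) q26420, e3 q25509 L772652 q24336, e3 q25510 (flp_j L780622) q26223, e3 q25511 (flp_j L780628) q26224, e3 q25512 (flp_j L780637) q26225, e3 q25513 (flp_j L783369) q26552, e3 q25514 (flp_j L783377) q26553, e3 q25515 (flp_j L780686) q26230, e3 q25516 (flp_j L780692) q26231, e3 q25517 (flp_j L780698) q26232, e3 q25518 L772699 q24359, e3 q25519 L772707 q24360, e3 q25520 L772719 q24361,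 e3 q25521 L772729 q24368, e3 q25522 L772741 q24372, e3 q25523 L772747 q24373, e3 q25524 L772755 q24374, e3 q25525 L772765 q24375, e3 q25526 L772773 q24376, e3 q25527 L772781 q24377, e3 q25528 (flp_j L782006) q26376, e3 q25529 L772797 q24353, e3 q25530 (flp_j L784433) q26720, e3 q25531 L772807 q24380, e3 q25532 (flp_j L780333) q26195, e3 q25533 (flp_j L780357) q26197, e3 q25534 (flp_j L783988) q26652, e3 q25535 (flp_j L783996) q26653, trivial⟩ (by decide +kernel)

theorem ce_j_399 : ∀ r, r < 64 → sm gj (Qf (25536 + r)) = Qf (tab Gen.j (25536 + r)) :=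
  edges_tab (sm gj) Qf (tab Gen.j) 25536 [(25536, 26709), (25537, 26710), (25538, 26711), (25539, 25603), (25540, 26378), (25541, 26379), (25542, 25692), (25543, 25693), (25544, 25700), (25545, 25701), (25546, 26123), (25547, 26712), (25548, 24370), (25549, 24371), (25550, 26740), (25551, 26738), (25552, 26741), (25553, 26713), (25554, 26714), (25555, 26715), (25556, 26717), (25557, 26718), (25558, 24379), (25559, 26747), (25560, 24386), (25561, 26377), (25562, 25822), (25563, 26071), (25564, 25761), (25565, 25604), (25566, 26380), (25567, 24828), (25568, 25399), (25569, 24844), (25570, 24409), (25571, 24410), (25572, 24793), (25573, 25154), (25574, 26752), (25575, 25365), (25576, 26753), (25577, 25332), (25578, 24903), (25579, 25391), (25580, 25400), (25581, 24419), (25582, 25358), (25583, 25359), (25584, 26763), (25585, 25369), (25586, 24428), (25587, 25149), (25588, 24425), (25589, 26769), (25590, 25394), (25591, 25363), (25592, 25364), (25593, 26767), (25594, 24799), (25595, 25331), (25596, 24873), (25597, 24442), (25598,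 24443), (25599, 24940)]
    ⟨e3 q25536 (flp_j L784333) q26709, e3 q25537 (flp_j L784343) q26710, e3 q25538 (flp_j L784355) q26711, e3 q25539 (flp_j L773560) q25603, e3 q25540 (flp_j L782028) q26378, e3 q25541 (flp_j L782040) q26379, e3 q25542 (flp_j L774778) q25692, e3 q25543 (flp_j L774792) q25693, e3 q25544 (flp_j L774884) q25700, e3 q25545 (flp_j L774898) q25701, e3 q25546 (flp_j L779646) q26123, e3 q25547 (flp_j L784365) q26712, e3 q25548 L772897 q24370, e3 q25549 L772903 q24371, e3 q25550 (flp_j L784551) q26740, e3 q25551 (flp_j L784537) q26738, e3 q25552 (flp_j L784557) q26741, e3 q25553 (flp_j L784375) q26713, e3 q25554 (flp_j L784381) q26714, e3 q25555 (flp_j L784387) q26715, e3 q25556 (flp_j L784409) q26717, e3 q25557 (flp_j L784419) q26718, e3 q25558 L772949 q24379, e3 q25559 (flp_j L784587) q26747, e3 q25560 L772959 q24386, e3 q25561 (flp_j L782018) q26377, e3 q25562 (flp_j L776384) q25822, e3 q25563 (flp_j L779111) q26071, e3 q25564 (flp_j L775644) q25761, e3 q25565 (flp_j L773572) q25604, e3 q25566 (flp_j L782052)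 q26380, e3 q25567 L773009 q24828, e3 q25568 L773023 q25399, e3 q25569 L773041 q24844, e3 q25570 L773058 q24409, e3 q25571 L773074 q24410, e3 q25572 L773092 q24793, e3 q25573 L773108 q25154, e3 q25574 (flp_j L784655) q26752, e3 q25575 L773134 q25365, e3 q25576 (flp_j L784671) q26753, e3 q25577 L773162 q25332, e3 q25578 L773180 q24903, e3 q25579 L773196 q25391, e3 q25580 L773214 q25400, e3 q25581 L773230 q24419, e3 q25582 L773246 q25358, e3 q25583 L773262 q25359, e3 q25584 (flp_j L784826) q26763, e3 q25585 L773292 q25369, e3 q25586 L773307 q24428, e3 q25587 L773323 q25149, e3 q25588 L773341 q24425, e3 q25589 (flp_j L784924) q26769, e3 q25590 L773371 q25394, e3 q25591 L773387 q25363, e3 q25592 L773399 q25364, e3 q25593 (flp_j L784888) q26767, e3 q25594 L773421 q24799, e3 q25595 L773435 q25331, e3 q25596 L773453 q24873, e3 q25597 L773468 q24442, e3 q25598 L773480 q24443, e3 q25599 L773502 q24940, trivial⟩ (by decide +kernel)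

theorem ce_j_400 : ∀ r, r < 64 → sm gj (Qf (25600 + r)) = Qf (tab Gen.j (25600 + r)) :=
  edges_tab (sm gj) Qf (tab Gen.j) 25600 [(25600, 24960), (25601, 25492), (25602, 25079), (25603, 25539), (25604, 25565), (25605, 26778), (25606, 26779), (25607, 24527), (25608, 24452), (25609, 24453), (25610, 24454), (25611, 24924), (25612, 24455), (25613, 24456), (25614, 25239), (25615, 26792), (25616, 26793), (25617, 26794), (25618, 26795), (25619, 26797), (25620, 26798), (25621, 26799), (25622, 24461), (25623, 24930), (25624, 24462), (25625, 24463), (25626, 26812), (25627, 25160), (25628, 24479), (25629, 24480), (25630, 24481), (25631, 24482), (25632, 24943), (25633, 24483), (25634, 24484), (25635, 24485), (25636, 25141), (25637, 25142), (25638, 25446), (25639, 25447), (25640, 24989), (25641, 25265), (25642, 25240), (25643, 25266), (25644, 25267), (25645, 26815), (25646, 26816), (25647, 26817), (25648, 26818), (25649, 26819), (25650, 25469), (25651, 26823), (25652, 26824), (25653, 26825), (25654, 24493), (25655, 24494), (25656, 24495),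 (25657, 24984), (25658, 24963), (25659, 24964), (25660, 24497), (25661, 26849), (25662, 26850), (25663, 26854)]
    ⟨e3 q25600 L773515 q24960, e3 q25601 L773533 q25492, e3 q25602 L773550 q25079, e3 q25603 L773560 q25539, e3 q25604 L773572 q25565, e3 q25605 (flp_j L785059) q26778, e3 q25606 (flp_j L785073) q26779, e3 q25607 L773613 q24527, e3 q25608 L773634 q24452, e3 q25609 L773648 q24453, e3 q25610 L773662 q24454, e3 q25611 L773681 q24924, e3 q25612 L773693 q24455, e3 q25613 L773703 q24456, e3 q25614 L773720 q25239, e3 q25615 (flp_j L785261) q26792, e3 q25616 (flp_j L785275) q26793, e3 q25617 (flp_j L785289) q26794, e3 q25618 (flp_j L785303) q26795, e3 q25619 (flp_j L785332) q26797, e3 q25620 (flp_j L785344) q26798, e3 q25621 (flp_j L785356) q26799, e3 q25622 L773821 q24461, e3 q25623 L773835 q24930, e3 q25624 L773846 q24462, e3 q25625 L773861 q24463, e3 q25626 (flp_j L785526) q26812, e3 q25627 L773893 q25160, e3 q25628 L773907 q24479, e3 q25629 L773919 q24480, e3 q25630 L773933 q24481, e3 q25631 L773947 q24482, e3 q25632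 L773963 q24943, e3 q25633 L773973 q24483, e3 q25634 L773981 q24484, e3 q25635 L773993 q24485, e3 q25636 L774011 q25141, e3 q25637 L774025 q25142, e3 q25638 L774037 q25446, e3 q25639 L774051 q25447, e3 q25640 L774072 q24989, e3 q25641 L774086 q25265, e3 q25642 L774096 q25240, e3 q25643 L774106 q25266, e3 q25644 L774118 q25267, e3 q25645 (flp_j L785569) q26815, e3 q25646 (flp_j L785583) q26816, e3 q25647 (flp_j L785597) q26817, e3 q25648 (flp_j L785611) q26818, e3 q25649 (flp_j L785625) q26819, e3 q25650 (flp_j L774188) q25469, e3 q25651 (flp_j L785675) q26823, e3 q25652 (flp_j L785685) q26824, e3 q25653 (flp_j L785697) q26825, e3 q25654 L774224 q24493, e3 q25655 L774239 q24494, e3 q25656 L774254 q24495, e3 q25657 L774270 q24984, e3 q25658 L774279 q24963, e3 q25659 L774293 q24964, e3 q25660 L774305 q24497, e3 q25661 (flp_j L785994) q26849, e3 q25662 (flp_j L786009) q26850, e3 q25663 (flp_j L786071) q26854, trivial⟩ (by decide +kernel)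

theorem ce_j_401 : ∀ r, r < 64 → sm gj (Qf (25664 + r)) = Qf (tab Gen.j (25664 + r)) :=
  edges_tab (sm gj) Qf (tab Gen.j) 25664 [(25664, 24968), (25665, 24969), (25666, 25147), (25667, 24993), (25668, 25146), (25669, 24856), (25670, 24858), (25671, 25241), (25672, 25268), (25673, 24512), (25674, 26861), (25675, 24679), (25676, 24680), (25677, 24681), (25678, 24682), (25679, 24521), (25680, 24522), (25681, 24524), (25682, 25417), (25683, 26866), (25684, 26867), (25685, 25389), (25686, 25390), (25687, 26868), (25688, 25370), (25689, 26791), (25690, 24533), (25691, 25494), (25692, 25542), (25693, 25543), (25694, 25395), (25695, 25396), (25696, 26879), (25697, 25192), (25698, 25193), (25699, 24544), (25700, 25544), (25701, 25545), (25702, 24541), (25703, 26893), (25704, 26894), (25705, 25397), (25706, 25398), (25707, 26890), (25708, 24546), (25709, 24559), (25710, 24560), (25711, 24561), (25712, 24562), (25713, 24563), (25714, 24564), (25715, 24999), (25716, 24565), (25717, 24566), (25718, 24768), (25719, 24769), (25720, 26899),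 (25721, 26851), (25722, 26900), (25723, 26901), (25724, 26902), (25725, 26903), (25726, 26904), (25727, 26905)]
    ⟨e3 q25664 L774359 q24968, e3 q25665 L774376 q24969, e3 q25666 L774392 q25147, e3 q25667 L774407 q24993, e3 q25668 L774424 q25146, e3 q25669 L774435 q24856, e3 q25670 L774452 q24858, e3 q25671 L774466 q25241, e3 q25672 L774479 q25268, e3 q25673 L774494 q24512, e3 q25674 (flp_j L786169) q26861, e3 q25675 L774532 q24679, e3 q25676 L774545 q24680, e3 q25677 L774565 q24681, e3 q25678 L774577 q24682, e3 q25679 L774593 q24521, e3 q25680 L774607 q24522, e3 q25681 L774622 q24524, e3 q25682 L774636 q25417, e3 q25683 (flp_j L786245) q26866, e3 q25684 (flp_j L786259) q26867, e3 q25685 L774676 q25389, e3 q25686 L774692 q25390, e3 q25687 (flp_j L786275) q26868, e3 q25688 L774720 q25370, e3 q25689 (flp_j L785243) q26791, e3 q25690 L774748 q24533, e3 q25691 L774764 q25494, e3 q25692 L774778 q25542, e3 q25693 L774792 q25543, e3 q25694 L774808 q25395, e3 q25695 L774822 q25396, e3 q25696 (flp_j L786439) q26879, e3 q25697 L774846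 q25192, e3 q25698 L774858 q25193, e3 q25699 L774872 q24544, e3 q25700 L774884 q25544, e3 q25701 L774898 q25545, e3 q25702 L774916 q24541, e3 q25703 (flp_j L786639) q26893, e3 q25704 (flp_j L786655) q26894, e3 q25705 L774958 q25397, e3 q25706 L774968 q25398, e3 q25707 (flp_j L786593) q26890, e3 q25708 L774994 q24546, e3 q25709 L775016 q24559, e3 q25710 L775029 q24560, e3 q25711 L775047 q24561, e3 q25712 L775064 q24562, e3 q25713 L775074 q24563, e3 q25714 L775086 q24564, e3 q25715 L775104 q24999, e3 q25716 L775116 q24565, e3 q25717 L775126 q24566, e3 q25718 L775146 q24768, e3 q25719 L775159 q24769, e3 q25720 (flp_j L786729) q26899, e3 q25721 (flp_j L786030) q26851, e3 q25722 (flp_j L786743) q26900, e3 q25723 (flp_j L786758) q26901, e3 q25724 (flp_j L786774) q26902, e3 q25725 (flp_j L786786) q26903, e3 q25726 (flp_j L786798) q26904, e3 q25727 (flp_j L786810) q26905, trivial⟩ (by decide +kernel)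

theorem ce_j_402 : ∀ r, r < 64 → sm gj (Qf (25728 + r)) = Qf (tab Gen.j (25728 + r)) :=
  edges_tab (sm gj) Qf (tab Gen.j) 25728 [(25728, 26907), (25729, 26908), (25730, 26909), (25731, 24976), (25732, 24994), (25733, 25242), (25734, 24579), (25735, 24580), (25736, 24583), (25737, 24585), (25738, 24586), (25739, 24587), (25740, 25486), (25741, 24590), (25742, 24591), (25743, 24592), (25744, 25476), (25745, 26931), (25746, 26932), (25747, 25085), (25748, 25088), (25749, 26933), (25750, 26934), (25751, 25461), (25752, 26935), (25753, 26936), (25754, 26937), (25755, 24589), (25756, 26957), (25757, 26958), (25758, 26940), (25759, 26941), (25760, 26942), (25761, 25564), (25762, 24599), (25763, 24598), (25764, 26965), (25765, 24601), (25766, 26967), (25767, 25269), (25768, 25270), (25769, 25271), (25770, 24617), (25771, 24618), (25772, 24622), (25773, 24623), (25774, 24624), (25775, 24631), (25776, 24632), (25777, 24633), (25778, 24985), (25779, 24612), (25780, 26982), (25781, 26983), (25782, 24638), (25783, 24639), (25784, 24640),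 (25785, 25176), (25786, 26973), (25787, 26974), (25788, 24862), (25789, 25177), (25790, 25178), (25791, 25459)]
    ⟨e3 q25728 (flp_j L786838) q26907, e3 q25729 (flp_j L786850) q26908, e3 q25730 (flp_j L786861) q26909, e3 q25731 L775283 q24976, e3 q25732 L775293 q24994, e3 q25733 L775303 q25242, e3 q25734 L775317 q24579, e3 q25735 L775331 q24580, e3 q25736 L775346 q24583, e3 q25737 L775358 q24585, e3 q25738 L775368 q24586, e3 q25739 L775380 q24587, e3 q25740 L775395 q25486, e3 q25741 L775405 q24590, e3 q25742 L775417 q24591, e3 q25743 L775425 q24592, e3 q25744 L775441 q25476, e3 q25745 (flp_j L787106) q26931, e3 q25746 (flp_j L787120) q26932, e3 q25747 L775483 q25085, e3 q25748 L775501 q25088, e3 q25749 (flp_j L787136) q26933, e3 q25750 (flp_j L787148) q26934, e3 q25751 L775530 q25461, e3 q25752 (flp_j L787163) q26935, e3 q25753 (flp_j L787173) q26936, e3 q25754 (flp_j L787185) q26937, e3 q25755 L775576 q24589, e3 q25756 (flp_j L787440) q26957, e3 q25757 (flp_j L787456) q26958, e3 q25758 (flp_j L787225) q26940, e3 q25759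 (flp_j L787237) q26941, e3 q25760 (flp_j L787245) q26942, e3 q25761 L775644 q25564, e3 q25762 L775659 q24599, e3 q25763 L775674 q24598, e3 q25764 (flp_j L787546) q26965, e3 q25765 L775706 q24601, e3 q25766 (flp_j L787573) q26967, e3 q25767 L775726 q25269, e3 q25768 L775732 q25270, e3 q25769 L775743 q25271, e3 q25770 L775757 q24617, e3 q25771 L775773 q24618, e3 q25772 L775785 q24622, e3 q25773 L775795 q24623, e3 q25774 L775809 q24624, e3 q25775 L775825 q24631, e3 q25776 L775835 q24632, e3 q25777 L775845 q24633, e3 q25778 L775861 q24985, e3 q25779 L775871 q24612, e3 q25780 (flp_j L787752) q26982, e3 q25781 (flp_j L787768) q26983, e3 q25782 L775905 q24638, e3 q25783 L775917 q24639, e3 q25784 L775925 q24640, e3 q25785 L775937 q25176, e3 q25786 (flp_j L787636) q26973, e3 q25787 (flp_j L787652) q26974, e3 q25788 L775979 q24862, e3 q25789 L775991 q25177, e3 q25790 L776003 q25178, e3 q25791 L776019 q25459, trivial⟩ (by decide +kernel)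

theorem ce_j_403 : ∀ r, r < 64 → sm gj (Qf (25792 + r)) = Qf (tab Gen.j (25792 + r)) :=
  edges_tab (sm gj) Qf (tab Gen.j) 25792 [(25792, 26975), (25793, 26976), (25794, 26977), (25795, 25097), (25796, 25094), (25797, 25179), (25798, 25180), (25799, 25019), (25800, 24629), (25801, 27007), (25802, 25462), (25803, 26978), (25804, 26979), (25805, 26980), (25806, 25468), (25807, 24636), (25808, 24637), (25809, 27013), (25810, 27014), (25811, 26987), (25812, 26988), (25813, 26989), (25814, 24644), (25815, 24850), (25816, 24648), (25817, 24649), (25818, 27020), (25819, 24992), (25820, 24774), (25821, 24863), (25822, 25562), (25823, 24663), (25824, 27023), (25825, 24668), (25826, 24690), (25827, 24695), (25828, 24687), (25829, 27025), (25830, 24688), (25831, 24711), (25832, 24675), (25833, 24705), (25834, 24706), (25835, 24701), (25836, 24702), (25837, 27032), (25838, 25341), (25839, 25334), (25840, 26863), (25841, 26777), (25842, 26864), (25843, 26865), (25844, 24691), (25845, 25161), (25846, 25169), (25847, 25419), (25848, 27028),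 (25849, 27029), (25850, 24738), (25851, 24716), (25852, 27026), (25853, 27027), (25854, 27046), (25855, 24717)]
    ⟨e3 q25792 (flp_j L787668) q26975, e3 q25793 (flp_j L787678) q26976, e3 q25794 (flp_j L787690) q26977, e3 q25795 L776063 q25097, e3 q25796 L776075 q25094, e3 q25797 L776091 q25179, e3 q25798 L776103 q25180, e3 q25799 L776115 q25019, e3 q25800 L776133 q24629, e3 q25801 (flp_j L788098) q27007, e3 q25802 L776165 q25462, e3 q25803 (flp_j L787706) q26978, e3 q25804 (flp_j L787716) q26979, e3 q25805 (flp_j L787726) q26980, e3 q25806 (flp_j L776203) q25468, e3 q25807 L776209 q24636, e3 q25808 L776215 q24637, e3 q25809 (flp_j L788166) q27013, e3 q25810 (flp_j L788174) q27014, e3 q25811 (flp_j L787820) q26987, e3 q25812 (flp_j L787832) q26988, e3 q25813 (flp_j L787842) q26989, e3 q25814 L776267 q24644, e3 q25815 L776283 q24850, e3 q25816 L776298 q24648, e3 q25817 L776312 q24649, e3 q25818 (flp_j L788228) q27020, e3 q25819 L776336 q24992, e3 q25820 L776348 q24774, e3 q25821 L776361 q24863, e3 q25822 L776384 q25562, e3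 q25823 L776396 q24663, e3 q25824 (flp_j L788270) q27023, e3 q25825 L776430 q24668, e3 q25826 L776448 q24690, e3 q25827 L776462 q24695, e3 q25828 L776479 q24687, e3 q25829 (flp_j L788304) q27025, e3 q25830 L776507 q24688, e3 q25831 L776524 q24711, e3 q25832 L776540 q24675, e3 q25833 L776554 q24705, e3 q25834 L776568 q24706, e3 q25835 L776584 q24701, e3 q25836 L776598 q24702, e3 q25837 (flp_j L788414) q27032, e3 q25838 L776627 q25341, e3 q25839 L776644 q25334, e3 q25840 (flp_j L786203) q26863, e3 q25841 (flp_j L785046) q26777, e3 q25842 (flp_j L786219) q26864, e3 q25843 (flp_j L786233) q26865, e3 q25844 L776699 q24691, e3 q25845 L776713 q25161, e3 q25846 L776729 q25169, e3 q25847 L776744 q25419, e3 q25848 (flp_j L788350) q27028, e3 q25849 (flp_j L788366) q27029, e3 q25850 L776774 q24738, e3 q25851 L776793 q24716, e3 q25852 (flp_j L788320) q27026, e3 q25853 (flp_j L788334) q27027, e3 q25854 (flp_j L788595) q27046, e3 q25855 L776831 q24717, trivial⟩ (by decide +kernel)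

theorem ce_j_404 : ∀ r, r < 64 → sm gj (Qf (25856 + r)) = Qf (tab Gen.j (25856 + r)) :=
  edges_tab (sm gj) Qf (tab Gen.j) 25856 [(25856, 24733), (25857, 25158), (25858, 24707), (25859, 25377), (25860, 25378), (25861, 24867), (25862, 24868), (25863, 27035), (25864, 27036), (25865, 24752), (25866, 25387), (25867, 25388), (25868, 27033), (25869, 27034), (25870, 27061), (25871, 24749), (25872, 27031), (25873, 24718), (25874, 24724), (25875, 24734), (25876, 25408), (25877, 27054), (25878, 27055), (25879, 27075), (25880, 24725), (25881, 25040), (25882, 25052), (25883, 25291), (25884, 25326), (25885, 27076), (25886, 27083), (25887, 24732), (25888, 24735), (25889, 24747), (25890, 24756), (25891, 25045), (25892, 24744), (25893, 27092), (25894, 27059), (25895, 24801), (25896, 27077), (25897, 27053), (25898, 27093), (25899, 24792), (25900, 25361), (25901, 24748), (25902, 24789), (25903, 24751), (25904, 24753), (25905, 27098), (25906, 25405), (25907, 25351), (25908, 24834), (25909, 27094), (25910, 27095), (25911, 27107), (25912, 27073),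 (25913, 24847), (25914, 27109), (25915, 27068), (25916, 27110), (25917, 24846), (25918, 24845), (25919, 24833)]
    ⟨e3 q25856 L776848 q24733, e3 q25857 L776863 q25158, e3 q25858 L776875 q24707, e3 q25859 L776883 q25377, e3 q25860 L776895 q25378, e3 q25861 L776909 q24867, e3 q25862 L776923 q24868, e3 q25863 (flp_j L788454) q27035, e3 q25864 (flp_j L788468) q27036, e3 q25865 L776955 q24752, e3 q25866 L776969 q25387, e3 q25867 L776981 q25388, e3 q25868 (flp_j L788426) q27033, e3 q25869 (flp_j L788438) q27034, e3 q25870 (flp_j L788790) q27061, e3 q25871 L777021 q24749, e3 q25872 (flp_j L788398) q27031, e3 q25873 L777045 q24718, e3 q25874 L777062 q24724, e3 q25875 L777076 q24734, e3 q25876 L777088 q25408, e3 q25877 (flp_j L788702) q27054, e3 q25878 (flp_j L788718) q27055, e3 q25879 (flp_j L788952) q27075, e3 q25880 L777130 q24725, e3 q25881 L777151 q25040, e3 q25882 L777168 q25052, e3 q25883 L777180 q25291, e3 q25884 L777194 q25326, e3 q25885 (flp_j L788968) q27076, e3 q25886 (flp_j L789055) q27083, e3 q25887 L777235 q24732,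 e3 q25888 L777245 q24735, e3 q25889 L777259 q24747, e3 q25890 L777273 q24756, e3 q25891 L777288 q25045, e3 q25892 L777302 q24744, e3 q25893 (flp_j L789182) q27092, e3 q25894 (flp_j L788760) q27059, e3 q25895 L777338 q24801, e3 q25896 (flp_j L788982) q27077, e3 q25897 (flp_j L788686) q27053, e3 q25898 (flp_j L789192) q27093, e3 q25899 L777379 q24792, e3 q25900 L777392 q25361, e3 q25901 L777400 q24748, e3 q25902 L777414 q24789, e3 q25903 L777426 q24751, e3 q25904 L777432 q24753, e3 q25905 (flp_j L789259) q27098, e3 q25906 L777448 q25405, e3 q25907 L777464 q25351, e3 q25908 L777480 q24834, e3 q25909 (flp_j L789204) q27094, e3 q25910 (flp_j L789218) q27095, e3 q25911 (flp_j L789351) q27107, e3 q25912 (flp_j L788928) q27073, e3 q25913 L777528 q24847, e3 q25914 (flp_j L789373) q27109, e3 q25915 (flp_j L788872) q27068, e3 q25916 (flp_j L789381) q27110, e3 q25917 L777562 q24846, e3 q25918 L777577 q24845, e3 q25919 L777594 q24833, trivial⟩ (by decide +kernel)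

theorem ce_j_405 : ∀ r, r < 64 → sm gj (Qf (25920 + r)) = Qf (tab Gen.j (25920 + r)) :=
  edges_tab (sm gj) Qf (tab Gen.j) 25920 [(25920, 24859), (25921, 24771), (25922, 24772), (25923, 24773), (25924, 24775), (25925, 24776), (25926, 26910), (25927, 26809), (25928, 26911), (25929, 25070), (25930, 27127), (25931, 27128), (25932, 27129), (25933, 27022), (25934, 26858), (25935, 27130), (25936, 27131), (25937, 27132), (25938, 25165), (25939, 24787), (25940, 24788), (25941, 24790), (25942, 24791), (25943, 24794), (25944, 24795), (25945, 24796), (25946, 25335), (25947, 25336), (25948, 25337), (25949, 25338), (25950, 27150), (25951, 27151), (25952, 27152), (25953, 27108), (25954, 26775), (25955, 27153), (25956, 27154), (25957, 27105), (25958, 26754), (25959, 25375), (25960, 27155), (25961, 27156), (25962, 27157), (25963, 27101), (25964, 25379), (25965, 25380), (25966, 25381), (25967, 24823), (25968, 24824), (25969, 24825), (25970, 24826), (25971, 24827), (25972, 24829), (25973, 24830), (25974, 24831), (25975, 24832), (25976, 24838),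 (25977, 24839), (25978, 24840), (25979, 24872), (25980, 25330), (25981, 25342), (25982, 25343), (25983, 25344)]
    ⟨e3 q25920 L777607 q24859, e3 q25921 L777622 q24771, e3 q25922 L777639 q24772, e3 q25923 L777649 q24773, e3 q25924 L777659 q24775, e3 q25925 L777669 q24776, e3 q25926 (flp_j L786879) q26910, e3 q25927 (flp_j L785487) q26809, e3 q25928 (flp_j L786893) q26911, e3 q25929 L777715 q25070, e3 q25930 (flp_j L789571) q27127, e3 q25931 (flp_j L789587) q27128, e3 q25932 (flp_j L789599) q27129, e3 q25933 (flp_j L788258) q27022, e3 q25934 (flp_j L786125) q26858, e3 q25935 (flp_j L789609) q27130, e3 q25936 (flp_j L789619) q27131, e3 q25937 (flp_j L789630) q27132, e3 q25938 L777792 q25165, e3 q25939 L777811 q24787, e3 q25940 L777825 q24788, e3 q25941 L777831 q24790, e3 q25942 L777841 q24791, e3 q25943 L777851 q24794, e3 q25944 L777859 q24795, e3 q25945 L777867 q24796, e3 q25946 L777881 q25335, e3 q25947 L777893 q25336, e3 q25948 L777907 q25337, e3 q25949 L777921 q25338, e3 q25950 (flp_j L789809) q27150, e3 q25951 (flp_j L789823)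 q27151, e3 q25952 (flp_j L789835) q27152, e3 q25953 (flp_j L789361) q27108, e3 q25954 (flp_j L785012) q26775, e3 q25955 (flp_j L789844) q27153, e3 q25956 (flp_j L789854) q27154, e3 q25957 (flp_j L789333) q27105, e3 q25958 (flp_j L784689) q26754, e3 q25959 L778009 q25375, e3 q25960 (flp_j L789862) q27155, e3 q25961 (flp_j L789872) q27156, e3 q25962 (flp_j L789878) q27157, e3 q25963 (flp_j L789293) q27101, e3 q25964 L778045 q25379, e3 q25965 L778053 q25380, e3 q25966 L778067 q25381, e3 q25967 L778084 q24823, e3 q25968 L778094 q24824, e3 q25969 L778106 q24825, e3 q25970 L778112 q24826, e3 q25971 L778122 q24827, e3 q25972 L778132 q24829, e3 q25973 L778140 q24830, e3 q25974 L778148 q24831, e3 q25975 L778156 q24832, e3 q25976 L778162 q24838, e3 q25977 L778172 q24839, e3 q25978 L778178 q24840, e3 q25979 L778192 q24872, e3 q25980 L778204 q25330, e3 q25981 L778218 q25342, e3 q25982 L778228 q25343, e3 q25983 L778236 q25344, trivial⟩ (by decide +kernel)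

theorem ce_j_406 : ∀ r, r < 64 → sm gj (Qf (25984 + r)) = Qf (tab Gen.j (25984 + r)) :=
  edges_tab (sm gj) Qf (tab Gen.j) 25984 [(25984, 25345), (25985, 25346), (25986, 25347), (25987, 25348), (25988, 25349), (25989, 25350), (25990, 27182), (25991, 27183), (25992, 27184), (25993, 27185), (25994, 27186), (25995, 27187), (25996, 27188), (25997, 27125), (25998, 26749), (25999, 26750), (26000, 27189), (26001, 27190), (26002, 27124), (26003, 27191), (26004, 27192), (26005, 27123), (26006, 27113), (26007, 24836), (26008, 27232), (26009, 25404), (26010, 27193), (26011, 27194), (26012, 27120), (26013, 25354), (26014, 27117), (26015, 26986), (26016, 25356), (26017, 25131), (26018, 25114), (26019, 26964), (26020, 24857), (26021, 25355), (26022, 26859), (26023, 27126), (26024, 26828), (26025, 24970), (26026, 24864), (26027, 26993), (26028, 26994), (26029, 27246), (26030, 25409), (26031, 24869), (26032, 27064), (26033, 27065), (26034, 27251), (26035, 24874), (26036, 24875), (26037, 27195), (26038, 26776), (26039, 26760), (26040, 27254),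 (26041, 27255), (26042, 27256), (26043, 24911), (26044, 25413), (26045, 24880), (26046, 24881), (26047, 24882)]
    ⟨e3 q25984 L778248 q25345, e3 q25985 L778260 q25346, e3 q25986 L778272 q25347, e3 q25987 L778284 q25348, e3 q25988 L778294 q25349, e3 q25989 L778304 q25350, e3 q25990 (flp_j L790120) q27182, e3 q25991 (flp_j L790130) q27183, e3 q25992 (flp_j L790140) q27184, e3 q25993 (flp_j L790151) q27185, e3 q25994 (flp_j L790165) q27186, e3 q25995 (flp_j L790175) q27187, e3 q25996 (flp_j L790185) q27188, e3 q25997 (flp_j L789543) q27125, e3 q25998 (flp_j L784603) q26749, e3 q25999 (flp_j L784619) q26750, e3 q26000 (flp_j L790195) q27189, e3 q26001 (flp_j L790203) q27190, e3 q26002 (flp_j L789529) q27124, e3 q26003 (flp_j L790211) q27191, e3 q26004 (flp_j L790219) q27192, e3 q26005 (flp_j L789515) q27123, e3 q26006 (flp_j L789413) q27113, e3 q26007 L778431 q24836, e3 q26008 (flp_j L790586) q27232, e3 q26009 L778449 q25404, e3 q26010 (flp_j L790227) q27193, e3 q26011 (flp_j L790237) q27194, e3 q26012 (flp_j L789493) q27120,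 e3 q26013 L778479 q25354, e3 q26014 (flp_j L789463) q27117, e3 q26015 (flp_j L787808) q26986, e3 q26016 L778507 q25356, e3 q26017 L778518 q25131, e3 q26018 L778534 q25114, e3 q26019 (flp_j L787532) q26964, e3 q26020 L778552 q24857, e3 q26021 L778565 q25355, e3 q26022 (flp_j L786138) q26859, e3 q26023 (flp_j L789558) q27126, e3 q26024 (flp_j L785739) q26828, e3 q26025 L778609 q24970, e3 q26026 L778620 q24864, e3 q26027 (flp_j L787900) q26993, e3 q26028 (flp_j L787916) q26994, e3 q26029 (flp_j L790720) q27246, e3 q26030 L778672 q25409, e3 q26031 L778684 q24869, e3 q26032 (flp_j L788826) q27064, e3 q26033 (flp_j L788840) q27065, e3 q26034 (flp_j L790786) q27251, e3 q26035 L778724 q24874, e3 q26036 L778734 q24875, e3 q26037 (flp_j L790249) q27195, e3 q26038 (flp_j L785030) q26776, e3 q26039 (flp_j L784778) q26760, e3 q26040 (flp_j L790816) q27254, e3 q26041 (flp_j L790826) q27255, e3 q26042 (flp_j L790837) q27256, e3 q26043 L778802 q24911, e3 q26044 L778816 q25413, e3 q26045 L778828 q24880, e3 q26046 L778838 q24881, e3 q26047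 L778852 q24882, trivial⟩ (by decide +kernel)

theorem ce_j_407 : ∀ r, r < 64 → sm gj (Qf (26048 + r)) = Qf (tab Gen.j (26048 + r)) :=
  edges_tab (sm gj) Qf (tab Gen.j) 26048 [(26048, 27266), (26049, 27267), (26050, 27268), (26051, 25418), (26052, 25420), (26053, 25421), (26054, 25422), (26055, 24894), (26056, 24898), (26057, 24899), (26058, 24900), (26059, 25448), (26060, 25415), (26061, 25412), (26062, 27275), (26063, 24896), (26064, 24897), (26065, 27281), (26066, 27282), (26067, 27276), (26068, 27277), (26069, 25474), (26070, 25472), (26071, 25563), (26072, 24906), (26073, 27289), (26074, 25430), (26075, 24912), (26076, 24913), (26077, 24914), (26078, 27263), (26079, 27264), (26080, 27292), (26081, 27293), (26082, 27294), (26083, 24920), (26084, 24921), (26085, 25290), (26086, 25292), (26087, 25293), (26088, 25136), (26089, 27299), (26090, 27300), (26091, 27301), (26092, 25433), (26093, 25434), (26094, 26796), (26095, 24927), (26096, 24928), (26097, 24929), (26098, 27316), (26099, 27317), (26100, 27318), (26101, 26810),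 (26102, 26811), (26103, 24933), (26104, 27324), (26105, 25299), (26106, 25451), (26107, 25452), (26108, 25453), (26109, 25454), (26110, 24951), (26111, 24953)]
    ⟨e3 q26048 (flp_j L790944) q27266, e3 q26049 (flp_j L790954) q27267, e3 q26050 (flp_j L790968) q27268, e3 q26051 L778896 q25418, e3 q26052 L778908 q25420, e3 q26053 L778916 q25421, e3 q26054 L778929 q25422, e3 q26055 L778939 q24894, e3 q26056 L778953 q24898, e3 q26057 L778959 q24899, e3 q26058 L778969 q24900, e3 q26059 L778979 q25448, e3 q26060 L778995 q25415, e3 q26061 L779011 q25412, e3 q26062 (flp_j L791048) q27275, e3 q26063 L779037 q24896, e3 q26064 L779047 q24897, e3 q26065 (flp_j L791132) q27281, e3 q26066 (flp_j L791144) q27282, e3 q26067 (flp_j L791062) q27276, e3 q26068 (flp_j L791068) q27277, e3 q26069 L779081 q25474, e3 q26070 L779095 q25472, e3 q26071 L779111 q25563, e3 q26072 L779120 q24906, e3 q26073 (flp_j L791216) q27289, e3 q26074 L779142 q25430, e3 q26075 L779148 q24912, e3 q26076 L779158 q24913, e3 q26077 L779166 q24914, e3 q26078 (flp_j L790903)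 q27263, e3 q26079 (flp_j L790917) q27264, e3 q26080 (flp_j L791248) q27292, e3 q26081 (flp_j L791258) q27293, e3 q26082 (flp_j L791266) q27294, e3 q26083 L779217 q24920, e3 q26084 L779229 q24921, e3 q26085 L779243 q25290, e3 q26086 L779253 q25292, e3 q26087 L779267 q25293, e3 q26088 L779281 q25136, e3 q26089 (flp_j L791308) q27299, e3 q26090 (flp_j L791320) q27300, e3 q26091 (flp_j L791335) q27301, e3 q26092 L779319 q25433, e3 q26093 L779333 q25434, e3 q26094 (flp_j L785320) q26796, e3 q26095 L779355 q24927, e3 q26096 L779365 q24928, e3 q26097 L779379 q24929, e3 q26098 (flp_j L791514) q27316, e3 q26099 (flp_j L791524) q27317, e3 q26100 (flp_j L791536) q27318, e3 q26101 (flp_j L785496) q26810, e3 q26102 (flp_j L785513) q26811, e3 q26103 L779440 q24933, e3 q26104 (flp_j L791599) q27324, e3 q26105 L779465 q25299, e3 q26106 L779479 q25451, e3 q26107 L779491 q25452, e3 q26108 L779497 q25453, e3 q26109 L779504 q25454, e3 q26110 L779514 q24951, e3 q26111 L779526 q24953, trivial⟩ (by decide +kernel)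

theorem ce_j_408 : ∀ r, r < 64 → sm gj (Qf (26112 + r)) = Qf (tab Gen.j (26112 + r)) :=
  edges_tab (sm gj) Qf (tab Gen.j) 26112 [(26112, 26780), (26113, 24954), (26114, 24955), (26115, 24956), (26116, 26821), (26117, 26822), (26118, 24957), (26119, 24958), (26120, 24959), (26121, 25470), (26122, 25497), (26123, 25546), (26124, 25487), (26125, 27332), (26126, 27333), (26127, 25488), (26128, 27334), (26129, 27337), (26130, 27338), (26131, 27339), (26132, 27343), (26133, 27344), (26134, 27345), (26135, 26781), (26136, 26782), (26137, 24966), (26138, 26852), (26139, 26853), (26140, 24967), (26141, 27362), (26142, 27245), (26143, 25130), (26144, 27244), (26145, 25262), (26146, 24983), (26147, 24990), (26148, 24991), (26149, 26927), (26150, 24995), (26151, 24996), (26152, 24997), (26153, 25204), (26154, 25227), (26155, 25228), (26156, 25017), (26157, 25493), (26158, 27367), (26159, 26981), (26160, 26820), (26161, 26857), (26162, 25288), (26163, 25073), (26164, 25289), (26165, 26831), (26166, 27368), (26167, 27369), (26168, 27370),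 (26169, 27019), (26170, 26856), (26171, 27241), (26172, 26928), (26173, 26929), (26174, 27373), (26175, 27374)]
    ⟨e3 q26112 (flp_j L785091) q26780, e3 q26113 L779548 q24954, e3 q26114 L779560 q24955, e3 q26115 L779574 q24956, e3 q26116 (flp_j L785653) q26821, e3 q26117 (flp_j L785665) q26822, e3 q26118 L779598 q24957, e3 q26119 L779606 q24958, e3 q26120 L779610 q24959, e3 q26121 L779622 q25470, e3 q26122 L779634 q25497, e3 q26123 L779646 q25546, e3 q26124 L779660 q25487, e3 q26125 (flp_j L791685) q27332, e3 q26126 (flp_j L791697) q27333, e3 q26127 L779691 q25488, e3 q26128 (flp_j L791710) q27334, e3 q26129 (flp_j L791746) q27337, e3 q26130 (flp_j L791758) q27338, e3 q26131 (flp_j L791772) q27339, e3 q26132 (flp_j L791804) q27343, e3 q26133 (flp_j L791812) q27344, e3 q26134 (flp_j L791820) q27345, e3 q26135 (flp_j L785104) q26781, e3 q26136 (flp_j L785121) q26782, e3 q26137 L779780 q24966, e3 q26138 (flp_j L786042) q26852, e3 q26139 (flp_j L786056) q26853, e3 q26140 L779812 q24967, e3 q26141 (flp_j L791994) q27362, e3 q26142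 (flp_j L790712) q27245, e3 q26143 L779840 q25130, e3 q26144 (flp_j L790698) q27244, e3 q26145 L779858 q25262, e3 q26146 L779874 q24983, e3 q26147 L779888 q24990, e3 q26148 L779896 q24991, e3 q26149 (flp_j L787059) q26927, e3 q26150 L779914 q24995, e3 q26151 L779920 q24996, e3 q26152 L779927 q24997, e3 q26153 L779939 q25204, e3 q26154 L779950 q25227, e3 q26155 L779964 q25228, e3 q26156 L779978 q25017, e3 q26157 L779990 q25493, e3 q26158 (flp_j L792041) q27367, e3 q26159 (flp_j L787744) q26981, e3 q26160 (flp_j L785643) q26820, e3 q26161 (flp_j L786114) q26857, e3 q26162 L780029 q25288, e3 q26163 L780045 q25073, e3 q26164 L780055 q25289, e3 q26165 (flp_j L785787) q26831, e3 q26166 (flp_j L792053) q27368, e3 q26167 (flp_j L792067) q27369, e3 q26168 (flp_j L792076) q27370, e3 q26169 (flp_j L788216) q27019, e3 q26170 (flp_j L786097) q26856, e3 q26171 (flp_j L790664) q27241, e3 q26172 (flp_j L787069) q26928, e3 q26173 (flp_j L787079) q26929, e3 q26174 (flp_j L792101) q27373, e3 q26175 (flp_j L792109) q27374, trivial⟩ (by decide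 +kernel)

theorem ce_j_409 : ∀ r, r < 64 → sm gj (Qf (26176 + r)) = Qf (tab Gen.j (26176 + r)) :=
  edges_tab (sm gj) Qf (tab Gen.j) 26176 [(26176, 27375), (26177, 25477), (26178, 26906), (26179, 25478), (26180, 25479), (26181, 25480), (26182, 25012), (26183, 25466), (26184, 25018), (26185, 25020), (26186, 25007), (26187, 27417), (26188, 27418), (26189, 25024), (26190, 25025), (26191, 25026), (26192, 25458), (26193, 27413), (26194, 25294), (26195, 25532), (26196, 25485), (26197, 25533), (26198, 27380), (26199, 27415), (26200, 27005), (26201, 27416), (26202, 25022), (26203, 25023), (26204, 27434), (26205, 27435), (26206, 27422), (26207, 27423), (26208, 27424), (26209, 25029), (26210, 25030), (26211, 25107), (26212, 27442), (26213, 27242), (26214, 25036), (26215, 25037), (26216, 25035), (26217, 27447), (26218, 27445), (26219, 27446), (26220, 25087), (26221, 25077), (26222, 27084), (26223, 25510), (26224, 25511), (26225, 25512), (26226, 25072), (26227, 25071), (26228, 27096), (26229, 27097), (26230, 25515), (26231, 25516), (26232,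 25517), (26233, 25069), (26234, 25074), (26235, 25075), (26236, 25076), (26237, 27085), (26238, 25081), (26239, 25082)]
    ⟨e3 q26176 (flp_j L792115) q27375, e3 q26177 L780150 q25477, e3 q26178 (flp_j L786826) q26906, e3 q26179 L780172 q25478, e3 q26180 L780178 q25479, e3 q26181 L780187 q25480, e3 q26182 L780197 q25012, e3 q26183 L780213 q25466, e3 q26184 L780225 q25018, e3 q26185 L780239 q25020, e3 q26186 L780251 q25007, e3 q26187 (flp_j L792511) q27417, e3 q26188 (flp_j L792523) q27418, e3 q26189 L780273 q25024, e3 q26190 L780281 q25025, e3 q26191 L780287 q25026, e3 q26192 L780299 q25458, e3 q26193 (flp_j L792457) q27413, e3 q26194 L780321 q25294, e3 q26195 L780333 q25532, e3 q26196 L780345 q25485, e3 q26197 L780357 q25533, e3 q26198 (flp_j L792176) q27380, e3 q26199 (flp_j L792487) q27415, e3 q26200 (flp_j L788062) q27005, e3 q26201 (flp_j L792499) q27416, e3 q26202 L780409 q25022, e3 q26203 L780415 q25023, e3 q26204 (flp_j L792681) q27434, e3 q26205 (flp_j L792689) q27435, e3 q26206 (flp_j L792553) q27422, e3 q26207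 (flp_j L792561) q27423, e3 q26208 (flp_j L792569) q27424, e3 q26209 L780466 q25029, e3 q26210 L780481 q25030, e3 q26211 L780493 q25107, e3 q26212 (flp_j L792755) q27442, e3 q26213 (flp_j L790675) q27242, e3 q26214 L780521 q25036, e3 q26215 L780532 q25037, e3 q26216 L780544 q25035, e3 q26217 (flp_j L792808) q27447, e3 q26218 (flp_j L792787) q27445, e3 q26219 (flp_j L792799) q27446, e3 q26220 L780590 q25087, e3 q26221 L780600 q25077, e3 q26222 (flp_j L789073) q27084, e3 q26223 L780622 q25510, e3 q26224 L780628 q25511, e3 q26225 L780637 q25512, e3 q26226 L780647 q25072, e3 q26227 L780663 q25071, e3 q26228 (flp_j L789234) q27096, e3 q26229 (flp_j L789244) q27097, e3 q26230 L780686 q25515, e3 q26231 L780692 q25516, e3 q26232 L780698 q25517, e3 q26233 L780706 q25069, e3 q26234 L780716 q25074, e3 q26235 L780724 q25075, e3 q26236 L780730 q25076, e3 q26237 (flp_j L789089) q27085, e3 q26238 L780756 q25081, e3 q26239 L780766 q25082, trivial⟩ (by decide +kernel)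

theorem ce_j_410 : ∀ r, r < 64 → sm gj (Qf (26240 + r)) = Qf (tab Gen.j (26240 + r)) :=
  edges_tab (sm gj) Qf (tab Gen.j) 26240 [(26240, 25083), (26241, 25084), (26242, 25086), (26243, 25058), (26244, 27478), (26245, 27479), (26246, 25092), (26247, 25093), (26248, 25095), (26249, 25096), (26250, 25064), (26251, 25065), (26252, 27487), (26253, 27488), (26254, 27222), (26255, 25102), (26256, 25103), (26257, 25104), (26258, 27467), (26259, 27137), (26260, 27461), (26261, 27458), (26262, 27460), (26263, 27391), (26264, 27468), (26265, 27469), (26266, 27470), (26267, 27453), (26268, 25080), (26269, 26784), (26270, 27505), (26271, 27506), (26272, 27473), (26273, 26952), (26274, 27474), (26275, 27475), (26276, 26949), (26277, 27476), (26278, 26947), (26279, 27477), (26280, 27452), (26281, 26827), (26282, 26948), (26283, 25090), (26284, 25091), (26285, 27525), (26286, 27526), (26287, 27527), (26288, 27483), (26289, 27484), (26290, 27485), (26291, 27002), (26292, 27486), (26293, 27001), (26294, 25100), (26295, 25101), (26296, 27536),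 (26297, 27537), (26298, 27538), (26299, 27493), (26300, 27494), (26301, 27495), (26302, 25108), (26303, 27443)]
    ⟨e3 q26240 L780772 q25083, e3 q26241 L780783 q25084, e3 q26242 L780791 q25086, e3 q26243 L780801 q25058, e3 q26244 (flp_j L793113) q27478, e3 q26245 (flp_j L793125) q27479, e3 q26246 L780823 q25092, e3 q26247 L780829 q25093, e3 q26248 L780835 q25095, e3 q26249 L780841 q25096, e3 q26250 L780851 q25064, e3 q26251 L780857 q25065, e3 q26252 (flp_j L793195) q27487, e3 q26253 (flp_j L793203) q27488, e3 q26254 L790520 q27222, e3 q26255 L780881 q25102, e3 q26256 L780887 q25103, e3 q26257 L780893 q25104, e3 q26258 (flp_j L793010) q27467, e3 q26259 (flp_j L789683) q27137, e3 q26260 (flp_j L792969) q27461, e3 q26261 (flp_j L792927) q27458, e3 q26262 (flp_j L792953) q27460, e3 q26263 (flp_j L792287) q27391, e3 q26264 (flp_j L793024) q27468, e3 q26265 (flp_j L793032) q27469, e3 q26266 (flp_j L793038) q27470, e3 q26267 (flp_j L792875) q27453, e3 q26268 L780984 q25080, e3 q26269 (flp_j L785152) q26784, e3 q26270 (flp_j L793333)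 q27505, e3 q26271 (flp_j L793343) q27506, e3 q26272 (flp_j L793069) q27473, e3 q26273 (flp_j L787378) q26952, e3 q26274 (flp_j L793079) q27474, e3 q26275 (flp_j L793087) q27475, e3 q26276 (flp_j L787348) q26949, e3 q26277 (flp_j L793095) q27476, e3 q26278 (flp_j L787318) q26947, e3 q26279 (flp_j L793105) q27477, e3 q26280 (flp_j L792863) q27452, e3 q26281 (flp_j L785725) q26827, e3 q26282 (flp_j L787332) q26948, e3 q26283 L781101 q25090, e3 q26284 L781107 q25091, e3 q26285 (flp_j L793499) q27525, e3 q26286 (flp_j L793505) q27526, e3 q26287 (flp_j L793511) q27527, e3 q26288 (flp_j L793159) q27483, e3 q26289 (flp_j L793165) q27484, e3 q26290 (flp_j L793171) q27485, e3 q26291 (flp_j L788020) q27002, e3 q26292 (flp_j L793185) q27486, e3 q26293 (flp_j L788008) q27001, e3 q26294 L781187 q25100, e3 q26295 L781193 q25101, e3 q26296 (flp_j L793585) q27536, e3 q26297 (flp_j L793591) q27537, e3 q26298 (flp_j L793601) q27538, e3 q26299 (flp_j L793231) q27493, e3 q26300 (flp_j L793239) q27494, e3 q26301 (flp_j L793247) q27495, e3 q26302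 L781237 q25108, e3 q26303 (flp_j L792768) q27443, trivial⟩ (by decide +kernel)

theorem ce_j_411 : ∀ r, r < 64 → sm gj (Qf (26304 + r)) = Qf (tab Gen.j (26304 + r)) :=
  edges_tab (sm gj) Qf (tab Gen.j) 26304 [(26304, 27546), (26305, 25120), (26306, 25113), (26307, 25220), (26308, 25285), (26309, 27550), (26310, 25123), (26311, 25124), (26312, 25125), (26313, 25119), (26314, 27549), (26315, 25122), (26316, 27306), (26317, 27554), (26318, 27555), (26319, 27556), (26320, 27557), (26321, 25226), (26322, 25325), (26323, 25138), (26324, 27307), (26325, 25137), (26326, 25139), (26327, 25140), (26328, 27088), (26329, 27564), (26330, 27566), (26331, 27388), (26332, 26826), (26333, 25184), (26334, 25229), (26335, 25230), (26336, 25152), (26337, 26768), (26338, 25339), (26339, 25360), (26340, 27570), (26341, 25407), (26342, 26755), (26343, 25164), (26344, 25167), (26345, 25367), (26346, 25368), (26347, 27060), (26348, 25371), (26349, 25372), (26350, 26814), (26351, 27047), (26352, 27048), (26353, 25373), (26354, 25374), (26355, 27574),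 (26356, 27149), (26357, 25376), (26358, 25185), (26359, 25186), (26360, 25187), (26361, 25174), (26362, 27589), (26363, 25181), (26364, 26990), (26365, 26995), (26366, 26996), (26367, 27003)]
    ⟨e3 q26304 (flp_j L793651) q27546, e3 q26305 L781265 q25120, e3 q26306 L781279 q25113, e3 q26307 L781290 q25220, e3 q26308 L781304 q25285, e3 q26309 (flp_j L793690) q27550, e3 q26310 L781320 q25123, e3 q26311 L781332 q25124, e3 q26312 L781338 q25125, e3 q26313 L781346 q25119, e3 q26314 (flp_j L793681) q27549, e3 q26315 L781366 q25122, e3 q26316 (flp_j L791398) q27306, e3 q26317 (flp_j L793728) q27554, e3 q26318 (flp_j L793734) q27555, e3 q26319 (flp_j L793742) q27556, e3 q26320 (flp_j L793752) q27557, e3 q26321 L781414 q25226, e3 q26322 L781423 q25325, e3 q26323 L781439 q25138, e3 q26324 (flp_j L791415) q27307, e3 q26325 L781458 q25137, e3 q26326 L781469 q25139, e3 q26327 L781476 q25140, e3 q26328 (flp_j L789129) q27088, e3 q26329 (flp_j L793827) q27564, e3 q26330 (flp_j L793848) q27566, e3 q26331 (flp_j L792249) q27388, e3 q26332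 (flp_j L785711) q26826, e3 q26333 L781539 q25184, e3 q26334 L781553 q25229, e3 q26335 L781564 q25230, e3 q26336 L781574 q25152, e3 q26337 (flp_j L784906) q26768, e3 q26338 L781600 q25339, e3 q26339 L781614 q25360, e3 q26340 (flp_j L793886) q27570, e3 q26341 L781636 q25407, e3 q26342 (flp_j L784705) q26755, e3 q26343 L781660 q25164, e3 q26344 L781670 q25167, e3 q26345 L781680 q25367, e3 q26346 L781692 q25368, e3 q26347 (flp_j L788778) q27060, e3 q26348 L781722 q25371, e3 q26349 L781736 q25372, e3 q26350 (flp_j L785557) q26814, e3 q26351 (flp_j L788609) q27047, e3 q26352 (flp_j L788625) q27048, e3 q26353 L781787 q25373, e3 q26354 L781795 q25374, e3 q26355 (flp_j L793944) q27574, e3 q26356 (flp_j L789791) q27149, e3 q26357 L781819 q25376, e3 q26358 L781831 q25185, e3 q26359 L781841 q25186, e3 q26360 L781853 q25187, e3 q26361 L781867 q25174, e3 q26362 (flp_j L794128) q27589, e3 q26363 L781895 q25181, e3 q26364 (flp_j L787858) q26990, e3 q26365 (flp_j L787934) q26995, e3 q26366 (flp_j L787946) q26996, e3 q26367 (flp_j L788036)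 q27003, trivial⟩ (by decide +kernel)

theorem ce_j_412 : ∀ r, r < 64 → sm gj (Qf (26368 + r)) = Qf (tab Gen.j (26368 + r)) :=
  edges_tab (sm gj) Qf (tab Gen.j) 26368 [(26368, 27004), (26369, 25183), (26370, 27594), (26371, 27524), (26372, 27569), (26373, 27586), (26374, 27587), (26375, 27588), (26376, 25528), (26377, 25561), (26378, 25540), (26379, 25541), (26380, 25566), (26381, 26887), (26382, 26888), (26383, 26889), (26384, 25205), (26385, 25206), (26386, 25207), (26387, 25208), (26388, 25209), (26389, 25210), (26390, 25211), (26391, 25212), (26392, 25213), (26393, 25214), (26394, 25215), (26395, 27551), (26396, 25216), (26397, 25217), (26398, 27376), (26399, 27377), (26400, 27607), (26401, 27608), (26402, 27609), (26403, 27610), (26404, 27611), (26405, 27612), (26406, 27613), (26407, 27614), (26408, 27615), (26409, 27616), (26410, 27617), (26411, 27618), (26412, 27619), (26413, 27621), (26414, 25231), (26415, 27563), (26416, 27378), (26417, 27379), (26418, 25489), (26419, 25490), (26420, 25508), (26421, 25495), (26422,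 25496), (26423, 25502), (26424, 25503), (26425, 25507), (26426, 26800), (26427, 26834), (26428, 26835), (26429, 26860), (26430, 26930), (26431, 25251)]
    ⟨e3 q26368 (flp_j L788048) q27004, e3 q26369 L781943 q25183, e3 q26370 (flp_j L794178) q27594, e3 q26371 (flp_j L793489) q27524, e3 q26372 (flp_j L793873) q27569, e3 q26373 (flp_j L794088) q27586, e3 q26374 (flp_j L794098) q27587, e3 q26375 (flp_j L794112) q27588, e3 q26376 L782006 q25528, e3 q26377 L782018 q25561, e3 q26378 L782028 q25540, e3 q26379 L782040 q25541, e3 q26380 L782052 q25566, e3 q26381 (flp_j L786554) q26887, e3 q26382 (flp_j L786566) q26888, e3 q26383 (flp_j L786581) q26889, e3 q26384 L782078 q25205, e3 q26385 L782084 q25206, e3 q26386 L782096 q25207, e3 q26387 L782108 q25208, e3 q26388 L782118 q25209, e3 q26389 L782130 q25210, e3 q26390 L782142 q25211, e3 q26391 L782152 q25212, e3 q26392 L782162 q25213, e3 q26393 L782170 q25214, e3 q26394 L782180 q25215, e3 q26395 (flp_j L793702) q27551, e3 q26396 L782198 q25216, e3 q26397 L782210 q25217, e3 q26398 (flp_j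 L792125) q27376, e3 q26399 (flp_j L792137) q27377, e3 q26400 (flp_j L794294) q27607, e3 q26401 (flp_j L794302) q27608, e3 q26402 (flp_j L794312) q27609, e3 q26403 (flp_j L794320) q27610, e3 q26404 (flp_j L794330) q27611, e3 q26405 (flp_j L794341) q27612, e3 q26406 (flp_j L794353) q27613, e3 q26407 (flp_j L794365) q27614, e3 q26408 (flp_j L794375) q27615, e3 q26409 (flp_j L794385) q27616, e3 q26410 (flp_j L794395) q27617, e3 q26411 (flp_j L794403) q27618, e3 q26412 (flp_j L794415) q27619, e3 q26413 (flp_j L794431) q27621, e3 q26414 L782347 q25231, e3 q26415 (flp_j L793809) q27563, e3 q26416 (flp_j L792153) q27378, e3 q26417 (flp_j L792163) q27379, e3 q26418 L782385 q25489, e3 q26419 L782395 q25490, e3 q26420 L782407 q25508, e3 q26421 L782418 q25495, e3 q26422 L782426 q25496, e3 q26423 L782437 q25502, e3 q26424 L782445 q25503, e3 q26425 L782455 q25507, e3 q26426 (flp_j L785372) q26800, e3 q26427 (flp_j L785826) q26834, e3 q26428 (flp_j L785838) q26835, e3 q26429 (flp_j L786153) q26860, e3 q26430 (flp_j L787092) q26930, e3 q26431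 L782507 q25251, trivial⟩ (by decide +kernel)

theorem ce_j_413 : ∀ r, r < 64 → sm gj (Qf (26432 + r)) = Qf (tab Gen.j (26432 + r)) :=
  edges_tab (sm gj) Qf (tab Gen.j) 26432 [(26432, 25253), (26433, 25254), (26434, 25256), (26435, 25257), (26436, 25258), (26437, 25260), (26438, 25261), (26439, 25264), (26440, 27652), (26441, 27653), (26442, 25467), (26443, 27654), (26444, 27655), (26445, 25471), (26446, 27656), (26447, 27657), (26448, 27658), (26449, 27659), (26450, 25473), (26451, 27660), (26452, 27661), (26453, 27366), (26454, 25475), (26455, 26832), (26456, 26833), (26457, 26836), (26458, 26837), (26459, 26838), (26460, 26970), (26461, 26971), (26462, 26972), (26463, 25295), (26464, 25296), (26465, 25297), (26466, 25298), (26467, 25300), (26468, 25301), (26469, 25302), (26470, 25303), (26471, 25304), (26472, 25305), (26473, 25306), (26474, 25307), (26475, 25311), (26476, 25312), (26477, 25313), (26478, 25314), (26479, 25315), (26480, 27552), (26481, 25318), (26482, 27389), (26483, 27390), (26484, 27392), (26485, 27302),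 (26486, 27303), (26487, 27086), (26488, 27087), (26489, 27304), (26490, 27305), (26491, 27427), (26492, 27685), (26493, 27686), (26494, 27687), (26495, 27688)]
    ⟨e3 q26432 L782515 q25253, e3 q26433 L782525 q25254, e3 q26434 L782535 q25256, e3 q26435 L782545 q25257, e3 q26436 L782553 q25258, e3 q26437 L782564 q25260, e3 q26438 L782572 q25261, e3 q26439 L782582 q25264, e3 q26440 (flp_j L794697) q27652, e3 q26441 (flp_j L794705) q27653, e3 q26442 L782607 q25467, e3 q26443 (flp_j L794716) q27654, e3 q26444 (flp_j L794726) q27655, e3 q26445 L782631 q25471, e3 q26446 (flp_j L794736) q27656, e3 q26447 (flp_j L794746) q27657, e3 q26448 (flp_j L794759) q27658, e3 q26449 (flp_j L794767) q27659, e3 q26450 L782666 q25473, e3 q26451 (flp_j L794777) q27660, e3 q26452 (flp_j L794785) q27661, e3 q26453 (flp_j L792025) q27366, e3 q26454 L782698 q25475, e3 q26455 (flp_j L785801) q26832, e3 q26456 (flp_j L785815) q26833, e3 q26457 (flp_j L785850) q26836, e3 q26458 (flp_j L785862) q26837, e3 q26459 (flp_j L785876) q26838, e3 q26460 (flp_j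 L787606) q26970, e3 q26461 (flp_j L787614) q26971, e3 q26462 (flp_j L787626) q26972, e3 q26463 L782751 q25295, e3 q26464 L782761 q25296, e3 q26465 L782771 q25297, e3 q26466 L782779 q25298, e3 q26467 L782787 q25300, e3 q26468 L782797 q25301, e3 q26469 L782805 q25302, e3 q26470 L782812 q25303, e3 q26471 L782818 q25304, e3 q26472 L782826 q25305, e3 q26473 L782834 q25306, e3 q26474 L782842 q25307, e3 q26475 L782852 q25311, e3 q26476 L782860 q25312, e3 q26477 L782868 q25313, e3 q26478 L782874 q25314, e3 q26479 L782880 q25315, e3 q26480 (flp_j L793712) q27552, e3 q26481 L782892 q25318, e3 q26482 (flp_j L792257) q27389, e3 q26483 (flp_j L792271) q27390, e3 q26484 (flp_j L792299) q27392, e3 q26485 (flp_j L791347) q27302, e3 q26486 (flp_j L791359) q27303, e3 q26487 (flp_j L789101) q27086, e3 q26488 (flp_j L789115) q27087, e3 q26489 (flp_j L791370) q27304, e3 q26490 (flp_j L791384) q27305, e3 q26491 (flp_j L792605) q27427, e3 q26492 (flp_j L794952) q27685, e3 q26493 (flp_j L794962) q27686, e3 q26494 (flp_j L794972) q27687, e3 q26495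 (flp_j L794980) q27688, trivial⟩ (by decide +kernel)

theorem ce_j_414 : ∀ r, r < 64 → sm gj (Qf (26496 + r)) = Qf (tab Gen.j (26496 + r)) :=
  edges_tab (sm gj) Qf (tab Gen.j) 26496 [(26496, 27326), (26497, 27327), (26498, 27689), (26499, 27690), (26500, 27691), (26501, 27692), (26502, 27693), (26503, 27694), (26504, 27695), (26505, 27696), (26506, 27697), (26507, 27698), (26508, 25309), (26509, 25310), (26510, 27730), (26511, 27731), (26512, 27700), (26513, 27701), (26514, 27702), (26515, 27703), (26516, 25317), (26517, 27736), (26518, 25321), (26519, 25327), (26520, 27387), (26521, 25352), (26522, 25333), (26523, 27196), (26524, 26774), (26525, 26759), (26526, 27739), (26527, 27039), (26528, 27158), (26529, 27159), (26530, 27160), (26531, 27161), (26532, 27162), (26533, 27571), (26534, 25353), (26535, 27038), (26536, 27197), (26537, 27198), (26538, 27199), (26539, 27200), (26540, 27201), (26541, 27202), (26542, 27203), (26543, 27204), (26544, 27205), (26545, 27206), (26546, 27207), (26547, 27208), (26548, 27209), (26549,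 27114), (26550, 27738), (26551, 27240), (26552, 25513), (26553, 25514), (26554, 26764), (26555, 26765), (26556, 27572), (26557, 27106), (26558, 25366), (26559, 26772)]
    ⟨e3 q26496 (flp_j L791620) q27326, e3 q26497 (flp_j L791634) q27327, e3 q26498 (flp_j L794988) q27689, e3 q26499 (flp_j L794998) q27690, e3 q26500 (flp_j L795011) q27691, e3 q26501 (flp_j L795019) q27692, e3 q26502 (flp_j L795025) q27693, e3 q26503 (flp_j L795033) q27694, e3 q26504 (flp_j L795041) q27695, e3 q26505 (flp_j L795047) q27696, e3 q26506 (flp_j L795055) q27697, e3 q26507 (flp_j L795063) q27698, e3 q26508 L783077 q25309, e3 q26509 L783083 q25310, e3 q26510 (flp_j L795286) q27730, e3 q26511 (flp_j L795292) q27731, e3 q26512 (flp_j L795079) q27700, e3 q26513 (flp_j L795087) q27701, e3 q26514 (flp_j L795095) q27702, e3 q26515 (flp_j L795101) q27703, e3 q26516 L783119 q25317, e3 q26517 (flp_j L795318) q27736, e3 q26518 L783135 q25321, e3 q26519 L783142 q25327, e3 q26520 (flp_j L792231) q27387, e3 q26521 L783159 q25352, e3 q26522 L783173 q25333, e3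 q26523 (flp_j L790263) q27196, e3 q26524 (flp_j L784994) q26774, e3 q26525 (flp_j L784759) q26759, e3 q26526 (flp_j L795350) q27739, e3 q26527 (flp_j L788512) q27039, e3 q26528 (flp_j L789890) q27158, e3 q26529 (flp_j L789904) q27159, e3 q26530 (flp_j L789917) q27160, e3 q26531 (flp_j L789931) q27161, e3 q26532 (flp_j L789945) q27162, e3 q26533 (flp_j L793902) q27571, e3 q26534 L783254 q25353, e3 q26535 (flp_j L788496) q27038, e3 q26536 (flp_j L790273) q27197, e3 q26537 (flp_j L790285) q27198, e3 q26538 (flp_j L790294) q27199, e3 q26539 (flp_j L790306) q27200, e3 q26540 (flp_j L790318) q27201, e3 q26541 (flp_j L790330) q27202, e3 q26542 (flp_j L790342) q27203, e3 q26543 (flp_j L790354) q27204, e3 q26544 (flp_j L790366) q27205, e3 q26545 (flp_j L790380) q27206, e3 q26546 (flp_j L790396) q27207, e3 q26547 (flp_j L790406) q27208, e3 q26548 (flp_j L790416) q27209, e3 q26549 (flp_j L789433) q27114, e3 q26550 (flp_j L795334) q27738, e3 q26551 (flp_j L790648) q27240, e3 q26552 L783369 q25513, e3 q26553 L783377 q25514, e3 q26554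 (flp_j L784842) q26764, e3 q26555 (flp_j L784858) q26765, e3 q26556 (flp_j L793918) q27572, e3 q26557 (flp_j L789343) q27106, e3 q26558 L783410 q25366, e3 q26559 (flp_j L784972) q26772, trivial⟩ (by decide +kernel)

theorem ce_j_415 : ∀ r, r < 64 → sm gj (Qf (26560 + r)) = Qf (tab Gen.j (26560 + r)) :=
  edges_tab (sm gj) Qf (tab Gen.j) 26560 [(26560, 26773), (26561, 26757), (26562, 27575), (26563, 27576), (26564, 26876), (26565, 26877), (26566, 27578), (26567, 27579), (26568, 27583), (26569, 27584), (26570, 27174), (26571, 27062), (26572, 27063), (26573, 27179), (26574, 27180), (26575, 27181), (26576, 25392), (26577, 25393), (26578, 25402), (26579, 25403), (26580, 27069), (26581, 27070), (26582, 26873), (26583, 26874), (26584, 26761), (26585, 27788), (26586, 27789), (26587, 26771), (26588, 26884), (26589, 26885), (26590, 26897), (26591, 26898), (26592, 26751), (26593, 26762), (26594, 25406), (26595, 27790), (26596, 27234), (26597, 27112), (26598, 27802), (26599, 27078), (26600, 27079), (26601, 27250), (26602, 25411), (26603,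 27280), (26604, 27265), (26605, 25416), (26606, 27279), (26607, 26869), (26608, 26870), (26609, 27271), (26610, 27049), (26611, 27050), (26612, 27272), (26613, 27273), (26614, 27274), (26615, 25435), (26616, 25436), (26617, 25437), (26618, 25438), (26619, 25439), (26620, 25440), (26621, 25441), (26622, 25442), (26623, 25443)]
    ⟨e3 q26560 (flp_j L784984) q26773, e3 q26561 (flp_j L784731) q26757, e3 q26562 (flp_j L793954) q27575, e3 q26563 (flp_j L793966) q27576, e3 q26564 (flp_j L786392) q26876, e3 q26565 (flp_j L786408) q26877, e3 q26566 (flp_j L793994) q27578, e3 q26567 (flp_j L794008) q27579, e3 q26568 (flp_j L794060) q27583, e3 q26569 (flp_j L794068) q27584, e3 q26570 (flp_j L790049) q27174, e3 q26571 (flp_j L788800) q27062, e3 q26572 (flp_j L788812) q27063, e3 q26573 (flp_j L790086) q27179, e3 q26574 (flp_j L790094) q27180, e3 q26575 (flp_j L790106) q27181, e3 q26576 L783519 q25392, e3 q26577 L783527 q25393, e3 q26578 L783533 q25402, e3 q26579 L783539 q25403, e3 q26580 (flp_j L788884) q27069, e3 q26581 (flp_j L788898)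 q27070, e3 q26582 (flp_j L786348) q26873, e3 q26583 (flp_j L786364) q26874, e3 q26584 (flp_j L784790) q26761, e3 q26585 (flp_j L795677) q27788, e3 q26586 (flp_j L795685) q27789, e3 q26587 (flp_j L784954) q26771, e3 q26588 (flp_j L786514) q26884, e3 q26589 (flp_j L786528) q26885, e3 q26590 (flp_j L786701) q26897, e3 q26591 (flp_j L786711) q26898, e3 q26592 (flp_j L784637) q26751, e3 q26593 (flp_j L784808) q26762, e3 q26594 L783621 q25406, e3 q26595 (flp_j L795691) q27790, e3 q26596 (flp_j L790604) q27234, e3 q26597 (flp_j L789401) q27112, e3 q26598 (flp_j L795761) q27802, e3 q26599 (flp_j L788996) q27078, e3 q26600 (flp_j L789010) q27079, e3 q26601 (flp_j L790776) q27250, e3 q26602 L783666 q25411, e3 q26603 (flp_j L791120) q27280, e3 q26604 (flp_j L790934) q27265, e3 q26605 L783688 q25416, e3 q26606 (flp_j L791102) q27279, e3 q26607 (flp_j L786289) q26869, e3 q26608 (flp_j L786305) q26870, e3 q26609 (flp_j L791002) q27271, e3 q26610 (flp_j L788641) q27049, e3 q26611 (flp_j L788653) q27050, e3 q26612 (flp_j L791014) q27272,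 e3 q26613 (flp_j L791024) q27273, e3 q26614 (flp_j L791036) q27274, e3 q26615 L783752 q25435, e3 q26616 L783760 q25436, e3 q26617 L783766 q25437, e3 q26618 L783774 q25438, e3 q26619 L783780 q25439, e3 q26620 L783787 q25440, e3 q26621 L783797 q25441, e3 q26622 L783803 q25442, e3 q26623 L783809 q25443, trivial⟩ (by decide +kernel)

theorem ce_j_416 : ∀ r, r < 64 → sm gj (Qf (26624 + r)) = Qf (tab Gen.j (26624 + r)) :=
  edges_tab (sm gj) Qf (tab Gen.j) 26624 [(26624, 27291), (26625, 25444), (26626, 27311), (26627, 27312), (26628, 27313), (26629, 27817), (26630, 27818), (26631, 27819), (26632, 27820), (26633, 27821), (26634, 27822), (26635, 27823), (26636, 27824), (26637, 26829), (26638, 26830), (26639, 27278), (26640, 25450), (26641, 27328), (26642, 27329), (26643, 27330), (26644, 27331), (26645, 25460), (26646, 25463), (26647, 27425), (26648, 26997), (26649, 27841), (26650, 26953), (26651, 27009), (26652, 25534), (26653, 25535), (26654, 27414), (26655, 27006), (26656, 27664), (26657, 27012), (26658, 26845), (26659, 27346),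 (26660, 27288), (26661, 27667), (26662, 27287), (26663, 27673), (26664, 27286), (26665, 26943), (26666, 26944), (26667, 27407), (26668, 27410), (26669, 27411), (26670, 27412), (26671, 25491), (26672, 25498), (26673, 25504), (26674, 27429), (26675, 26938), (26676, 26939), (26677, 27349), (26678, 27350), (26679, 27353), (26680, 27639), (26681, 27640), (26682, 27863), (26683, 26783), (26684, 27381), (26685, 27382), (26686, 26880), (26687, 26881)]
    ⟨e3 q26624 (flp_j L791238) q27291, e3 q26625 L783825 q25444, e3 q26626 (flp_j L791449) q27311, e3 q26627 (flp_j L791463) q27312, e3 q26628 (flp_j L791480) q27313, e3 q26629 (flp_j L795856) q27817, e3 q26630 (flp_j L795864) q27818, e3 q26631 (flp_j L795870) q27819, e3 q26632 (flp_j L795876) q27820, e3 q26633 (flp_j L795884) q27821, e3 q26634 (flp_j L795890) q27822, e3 q26635 (flp_j L795900) q27823, e3 q26636 (flp_j L795906) q27824, e3 q26637 (flp_j L785755) q26829, e3 q26638 (flp_j L785769) q26830, e3 q26639 (flp_j L791084) q27278, e3 q26640 L783918 q25450, e3 q26641 (flp_j L791651)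 q27328, e3 q26642 (flp_j L791661) q27329, e3 q26643 (flp_j L791669) q27330, e3 q26644 (flp_j L791675) q27331, e3 q26645 L783948 q25460, e3 q26646 L783956 q25463, e3 q26647 (flp_j L792583) q27425, e3 q26648 (flp_j L787962) q26997, e3 q26649 (flp_j L796018) q27841, e3 q26650 (flp_j L787398) q26953, e3 q26651 (flp_j L788130) q27009, e3 q26652 L783988 q25534, e3 q26653 L783996 q25535, e3 q26654 (flp_j L792473) q27414, e3 q26655 L788086 q27006, e3 q26656 (flp_j L794809) q27664, e3 q26657 L788160 q27012, e3 q26658 L785954 q26845, e3 q26659 (flp_j L791830) q27346, e3 q26660 (flp_j L791204) q27288, e3 q26661 (flp_j L794837) q27667, e3 q26662 (flp_j L791190) q27287, e3 q26663 (flp_j L794874) q27673, e3 q26664 (flp_j L791176) q27286, e3 q26665 (flp_j L787257) q26943, e3 q26666 (flp_j L787273) q26944, e3 q26667 (flp_j L792402) q27407, e3 q26668 (flp_j L792433) q27410, e3 q26669 (flp_j L792441) q27411, e3 q26670 (flp_j L792449) q27412, e3 q26671 L784097 q25491, e3 q26672 L784105 q25498, e3 q26673 L784113 q25504, e3 q26674 (flp_j L792627)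 q27429, e3 q26675 (flp_j L787199) q26938, e3 q26676 (flp_j L787213) q26939, e3 q26677 (flp_j L791870) q27349, e3 q26678 (flp_j L791882) q27350, e3 q26679 (flp_j L791913) q27353, e3 q26680 (flp_j L794582) q27639, e3 q26681 (flp_j L794592) q27640, e3 q26682 (flp_j L796151) q27863, e3 q26683 (flp_j L785136) q26783, e3 q26684 (flp_j L792188) q27381, e3 q26685 (flp_j L792196) q27382, e3 q26686 (flp_j L786451) q26880, e3 q26687 (flp_j L786467) q26881, trivial⟩ (by decide +kernel)

theorem ce_j_417 : ∀ r, r < 64 → sm gj (Qf (26688 + r)) = Qf (tab Gen.j (26688 + r)) :=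
  edges_tab (sm gj) Qf (tab Gen.j) 26688 [(26688, 27642), (26689, 27643), (26690, 27347), (26691, 27864), (26692, 25500), (26693, 25501), (26694, 27885), (26695, 27886), (26696, 27641), (26697, 27644), (26698, 27645), (26699, 25506), (26700, 27890), (26701, 27456), (26702, 27457), (26703, 27459), (26704, 27768), (26705, 27769), (26706, 27464), (26707, 27465), (26708, 27466), (26709, 25536), (26710, 25537), (26711, 25538), (26712, 25547), (26713, 25553), (26714, 25554), (26715, 25555), (26716, 27600), (26717, 25556), (26718, 25557), (26719, 27599), (26720, 25530), (26721, 27908), (26722, 27428), (26723, 27430), (26724, 27845), (26725, 27846), (26726, 27900), (26727, 27901), (26728, 27902), (26729, 26785), (26730, 26786), (26731, 27601), (26732, 27602), (26733, 27603), (26734, 26882), (26735, 26883), (26736, 26891), (26737, 26892), (26738, 25551), (26739, 27348), (26740, 25550), (26741, 25552), (26742, 27924), (26743, 27923), (26744, 27903), (26745, 27904), (26746, 27906), (26747, 25559), (26748, 26787), (26749, 25998), (26750,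 25999), (26751, 26592)]
    ⟨e3 q26688 (flp_j L794614) q27642, e3 q26689 (flp_j L794622) q27643, e3 q26690 (flp_j L791844) q27347, e3 q26691 (flp_j L796157) q27864, e3 q26692 L784228 q25500, e3 q26693 L784236 q25501, e3 q26694 (flp_j L796296) q27885, e3 q26695 (flp_j L796304) q27886, e3 q26696 (flp_j L794602) q27641, e3 q26697 (flp_j L794632) q27644, e3 q26698 (flp_j L794640) q27645, e3 q26699 L784280 q25506, e3 q26700 (flp_j L796334) q27890, e3 q26701 (flp_j L792912) q27456, e3 q26702 (flp_j L792918) q27457, e3 q26703 (flp_j L792943) q27459, e3 q26704 (flp_j L795548) q27768, e3 q26705 (flp_j L795558) q27769, e3 q26706 (flp_j L792993) q27464, e3 q26707 (flp_j L792999) q27465, e3 q26708 (flp_j L793003) q27466, e3 q26709 L784333 q25536, e3 q26710 L784343 q25537, e3 q26711 L784355 q25538, e3 q26712 L784365 q25547, e3 q26713 L784375 q25553, e3 q26714 L784381 q25554, e3 q26715 L784387 q25555, e3 q26716 (flp_j L794232) q27600, e3 q26717 L784409 q25556, e3 q26718 L784419 q25557, e3 q26719 (flp_j L794220) q27599, e3 q26720 L784433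 q25530, e3 q26721 (flp_j L796459) q27908, e3 q26722 (flp_j L792617) q27428, e3 q26723 (flp_j L792639) q27430, e3 q26724 (flp_j L796040) q27845, e3 q26725 (flp_j L796050) q27846, e3 q26726 (flp_j L796387) q27900, e3 q26727 (flp_j L796397) q27901, e3 q26728 (flp_j L796407) q27902, e3 q26729 (flp_j L785164) q26785, e3 q26730 (flp_j L785176) q26786, e3 q26731 (flp_j L794244) q27601, e3 q26732 (flp_j L794256) q27602, e3 q26733 (flp_j L794268) q27603, e3 q26734 (flp_j L786484) q26882, e3 q26735 (flp_j L786498) q26883, e3 q26736 (flp_j L786609) q26891, e3 q26737 (flp_j L786623) q26892, e3 q26738 L784537 q25551, e3 q26739 (flp_j L791860) q27348, e3 q26740 L784551 q25550, e3 q26741 L784557 q25552, e3 q26742 (flp_j L796563) q27924, e3 q26743 (flp_j L796555) q27923, e3 q26744 (flp_j L796415) q27903, e3 q26745 (flp_j L796423) q27904, e3 q26746 (flp_j L796443) q27906, e3 q26747 L784587 q25559, e3 q26748 (flp_j L785188) q26787, e3 q26749 L784603 q25998, e3 q26750 L784619 q25999, e3 q26751 L784637 q26592, trivial⟩ (by decide +kernel)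

theorem ce_j_418 : ∀ r, r < 64 → sm gj (Qf (26752 + r)) = Qf (tab Gen.j (26752 + r)) :=
  edges_tab (sm gj) Qf (tab Gen.j) 26752 [(26752, 25574), (26753, 25576), (26754, 25958), (26755, 26342), (26756, 27930), (26757, 26561), (26758, 27931), (26759, 26525), (26760, 26039), (26761, 26584), (26762, 26593), (26763, 25584), (26764, 26554), (26765, 26555), (26766, 27940), (26767, 25593), (26768, 26337), (26769, 25589), (26770, 27943), (26771, 26587), (26772, 26559), (26773, 26560), (26774, 26524), (26775, 25954), (26776, 26038), (26777, 25841), (26778, 25605), (26779, 25606), (26780, 26112), (26781, 26135), (26782, 26136), (26783, 26683), (26784, 26269), (26785, 26729), (26786, 26730), (26787, 26748), (26788, 27951), (26789, 27952), (26790, 27953), (26791, 25689), (26792, 25615), (26793, 25616), (26794, 25617), (26795, 25618), (26796, 26094), (26797, 25619), (26798, 25620), (26799, 25621), (26800, 26426), (26801, 27970), (26802, 27971), (26803, 27972), (26804, 27973), (26805, 27974), (26806, 27978), (26807, 27979), (26808, 27980),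 (26809, 25927), (26810, 26101), (26811, 26102), (26812, 25626), (26813, 27994), (26814, 26350), (26815, 25645)]
    ⟨e3 q26752 L784655 q25574, e3 q26753 L784671 q25576, e3 q26754 L784689 q25958, e3 q26755 L784705 q26342, e3 q26756 (flp_j L796639) q27930, e3 q26757 L784731 q26561, e3 q26758 (flp_j L796657) q27931, e3 q26759 L784759 q26525, e3 q26760 L784778 q26039, e3 q26761 L784790 q26584, e3 q26762 L784808 q26593, e3 q26763 L784826 q25584, e3 q26764 L784842 q26554, e3 q26765 L784858 q26555, e3 q26766 (flp_j L796807) q27940, e3 q26767 L784888 q25593, e3 q26768 L784906 q26337, e3 q26769 L784924 q25589, e3 q26770 (flp_j L796859) q27943, e3 q26771 L784954 q26587, e3 q26772 L784972 q26559, e3 q26773 L784984 q26560, e3 q26774 L784994 q26524, e3 q26775 L785012 q25954, e3 q26776 L785030 q26038, e3 q26777 L785046 q25841, e3 q26778 L785059 q25605, e3 q26779 L785073 q25606, e3 q26780 L785091 q26112, e3 q26781 L785104 q26135, e3 q26782 L785121 q26136, e3 q26783 L785136 q26683, e3 q26784 L785152 q26269, e3 q26785 L785164 q26729, e3 q26786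 L785176 q26730, e3 q26787 L785188 q26748, e3 q26788 (flp_j L796981) q27951, e3 q26789 (flp_j L796997) q27952, e3 q26790 (flp_j L797014) q27953, e3 q26791 L785243 q25689, e3 q26792 L785261 q25615, e3 q26793 L785275 q25616, e3 q26794 L785289 q25617, e3 q26795 L785303 q25618, e3 q26796 L785320 q26094, e3 q26797 L785332 q25619, e3 q26798 L785344 q25620, e3 q26799 L785356 q25621, e3 q26800 L785372 q26426, e3 q26801 (flp_j L797255) q27970, e3 q26802 (flp_j L797271) q27971, e3 q26803 (flp_j L797286) q27972, e3 q26804 (flp_j L797300) q27973, e3 q26805 (flp_j L797314) q27974, e3 q26806 (flp_j L797375) q27978, e3 q26807 (flp_j L797387) q27979, e3 q26808 (flp_j L797399) q27980, e3 q26809 L785487 q25927, e3 q26810 L785496 q26101, e3 q26811 L785513 q26102, e3 q26812 L785526 q25626, e3 q26813 (flp_j L797590) q27994, e3 q26814 L785557 q26350, e3 q26815 L785569 q25645, trivial⟩ (by decide +kernel)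

theorem ce_j_419 : ∀ r, r < 64 → sm gj (Qf (26816 + r)) = Qf (tab Gen.j (26816 + r)) :=
  edges_tab (sm gj) Qf (tab Gen.j) 26816 [(26816, 25646), (26817, 25647), (26818, 25648), (26819, 25649), (26820, 26160), (26821, 26116), (26822, 26117), (26823, 25651), (26824, 25652), (26825, 25653), (26826, 26332), (26827, 26281), (26828, 26024), (26829, 26637), (26830, 26638), (26831, 26165), (26832, 26455), (26833, 26456), (26834, 26427), (26835, 26428), (26836, 26457), (26837, 26458), (26838, 26459), (26839, 27997), (26840, 27998), (26841, 27999), (26842, 28000), (26843, 28001), (26844, 28002), (26845, 26658), (26846, 28007), (26847, 28008), (26848, 28009), (26849, 25661), (26850, 25662), (26851, 25721), (26852, 26138), (26853, 26139), (26854, 25663), (26855, 28038), (26856, 26170), (26857, 26161), (26858, 25934), (26859, 26022), (26860, 26429), (26861, 25674), (26862, 28044), (26863, 25840), (26864, 25842), (26865, 25843), (26866, 25683), (26867, 25684), (26868, 25687), (26869, 26607), (26870, 26608), (26871, 28050), (26872, 28051),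 (26873, 26582), (26874, 26583), (26875, 28052), (26876, 26564), (26877, 26565), (26878, 27969), (26879, 25696)]
    ⟨e3 q26816 L785583 q25646, e3 q26817 L785597 q25647, e3 q26818 L785611 q25648, e3 q26819 L785625 q25649, e3 q26820 L785643 q26160, e3 q26821 L785653 q26116, e3 q26822 L785665 q26117, e3 q26823 L785675 q25651, e3 q26824 L785685 q25652, e3 q26825 L785697 q25653, e3 q26826 L785711 q26332, e3 q26827 L785725 q26281, e3 q26828 L785739 q26024, e3 q26829 L785755 q26637, e3 q26830 L785769 q26638, e3 q26831 L785787 q26165, e3 q26832 L785801 q26455, e3 q26833 L785815 q26456, e3 q26834 L785826 q26427, e3 q26835 L785838 q26428, e3 q26836 L785850 q26457, e3 q26837 L785862 q26458, e3 q26838 L785876 q26459, e3 q26839 (flp_j L797633) q27997, e3 q26840 (flp_j L797647) q27998, e3 q26841 (flp_j L797661) q27999, e3 q26842 (flp_j L797677) q28000, e3 q26843 (flp_j L797691) q28001, e3 q26844 (flp_j L797705) q28002, e3 q26845 (flp_j L785954) q26658, e3 q26846 (flp_j L797769) q28007, e3 q26847 (flp_j L797779) q28008, e3 q26848 (flp_j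 L797791) q28009, e3 q26849 L785994 q25661, e3 q26850 L786009 q25662, e3 q26851 L786030 q25721, e3 q26852 L786042 q26138, e3 q26853 L786056 q26139, e3 q26854 L786071 q25663, e3 q26855 (flp_j L798179) q28038, e3 q26856 L786097 q26170, e3 q26857 L786114 q26161, e3 q26858 L786125 q25934, e3 q26859 L786138 q26022, e3 q26860 L786153 q26429, e3 q26861 L786169 q25674, e3 q26862 (flp_j L798269) q28044, e3 q26863 L786203 q25840, e3 q26864 L786219 q25842, e3 q26865 L786233 q25843, e3 q26866 L786245 q25683, e3 q26867 L786259 q25684, e3 q26868 L786275 q25687, e3 q26869 L786289 q26607, e3 q26870 L786305 q26608, e3 q26871 (flp_j L798364) q28050, e3 q26872 (flp_j L798378) q28051, e3 q26873 L786348 q26582, e3 q26874 L786364 q26583, e3 q26875 (flp_j L798396) q28052, e3 q26876 L786392 q26564, e3 q26877 L786408 q26565, e3 q26878 (flp_j L797239) q27969, e3 q26879 L786439 q25696, trivial⟩ (by decide +kernel)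

theorem ce_j_420 : ∀ r, r < 64 → sm gj (Qf (26880 + r)) = Qf (tab Gen.j (26880 + r)) :=
  edges_tab (sm gj) Qf (tab Gen.j) 26880 [(26880, 26686), (26881, 26687), (26882, 26734), (26883, 26735), (26884, 26588), (26885, 26589), (26886, 28062), (26887, 26381), (26888, 26382), (26889, 26383), (26890, 25707), (26891, 26736), (26892, 26737), (26893, 25703), (26894, 25704), (26895, 28073), (26896, 28074), (26897, 26590), (26898, 26591), (26899, 25720), (26900, 25722), (26901, 25723), (26902, 25724), (26903, 25725), (26904, 25726), (26905, 25727), (26906, 26178), (26907, 25728), (26908, 25729), (26909, 25730), (26910, 25926), (26911, 25928), (26912, 28078), (26913, 28079), (26914, 28039), (26915, 28080), (26916, 28081), (26917, 28082), (26918, 28083), (26919, 28084), (26920, 28085), (26921, 28086), (26922, 28087), (26923, 27957), (26924, 28091), (26925, 28092), (26926, 28093), (26927, 26149), (26928, 26172), (26929, 26173), (26930, 26430), (26931, 25745), (26932, 25746), (26933, 25749), (26934, 25750), (26935, 25752), (26936, 25753),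 (26937, 25754), (26938, 26675), (26939, 26676), (26940, 25758), (26941, 25759), (26942, 25760), (26943, 26665)]
    ⟨e3 q26880 L786451 q26686, e3 q26881 L786467 q26687, e3 q26882 L786484 q26734, e3 q26883 L786498 q26735, e3 q26884 L786514 q26588, e3 q26885 L786528 q26589, e3 q26886 (flp_j L798554) q28062, e3 q26887 L786554 q26381, e3 q26888 L786566 q26382, e3 q26889 L786581 q26383, e3 q26890 L786593 q25707, e3 q26891 L786609 q26736, e3 q26892 L786623 q26737, e3 q26893 L786639 q25703, e3 q26894 L786655 q25704, e3 q26895 (flp_j L798722) q28073, e3 q26896 (flp_j L798738) q28074, e3 q26897 L786701 q26590, e3 q26898 L786711 q26591, e3 q26899 L786729 q25720, e3 q26900 L786743 q25722, e3 q26901 L786758 q25723, e3 q26902 L786774 q25724, e3 q26903 L786786 q25725, e3 q26904 L786798 q25726, e3 q26905 L786810 q25727, e3 q26906 L786826 q26178, e3 q26907 L786838 q25728, e3 q26908 L786850 q25729, e3 q26909 L786861 q25730, e3 q26910 L786879 q25926, e3 q26911 L786893 q25928, e3 q26912 (flp_j L798802) q28078, e3 q26913 (flp_j L798818) q28079,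 e3 q26914 (flp_j L798200) q28039, e3 q26915 (flp_j L798832) q28080, e3 q26916 (flp_j L798846) q28081, e3 q26917 (flp_j L798862) q28082, e3 q26918 (flp_j L798877) q28083, e3 q26919 (flp_j L798893) q28084, e3 q26920 (flp_j L798906) q28085, e3 q26921 (flp_j L798918) q28086, e3 q26922 (flp_j L798930) q28087, e3 q26923 (flp_j L797075) q27957, e3 q26924 (flp_j L798981) q28091, e3 q26925 (flp_j L798995) q28092, e3 q26926 (flp_j L799007) q28093, e3 q26927 L787059 q26149, e3 q26928 L787069 q26172, e3 q26929 L787079 q26173, e3 q26930 L787092 q26430, e3 q26931 L787106 q25745, e3 q26932 L787120 q25746, e3 q26933 L787136 q25749, e3 q26934 L787148 q25750, e3 q26935 L787163 q25752, e3 q26936 L787173 q25753, e3 q26937 L787185 q25754, e3 q26938 L787199 q26675, e3 q26939 L787213 q26676, e3 q26940 L787225 q25758, e3 q26941 L787237 q25759, e3 q26942 L787245 q25760, e3 q26943 L787257 q26665, trivial⟩ (by decide +kernel)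

theorem ce_j_421 : ∀ r, r < 64 → sm gj (Qf (26944 + r)) = Qf (tab Gen.j (26944 + r)) :=
  edges_tab (sm gj) Qf (tab Gen.j) 26944 [(26944, 26666), (26945, 28118), (26946, 28119), (26947, 26278), (26948, 26282), (26949, 26276), (26950, 28120), (26951, 28121), (26952, 26273), (26953, 26650), (26954, 28122), (26955, 28123), (26956, 28124), (26957, 25756), (26958, 25757), (26959, 28145), (26960, 28146), (26961, 28128), (26962, 28129), (26963, 28130), (26964, 26019), (26965, 25764), (26966, 28152), (26967, 25766), (26968, 28154), (26969, 28155), (26970, 26460), (26971, 26461), (26972, 26462), (26973, 25786), (26974, 25787), (26975, 25792), (26976, 25793), (26977, 25794), (26978, 25803), (26979, 25804), (26980, 25805), (26981, 26159), (26982, 25780), (26983, 25781), (26984, 28170), (26985, 28171), (26986, 26015), (26987, 25811), (26988, 25812), (26989, 25813), (26990, 26364), (26991, 28162), (26992, 28163), (26993, 26027), (26994, 26028), (26995, 26365), (26996, 26366), (26997, 26648), (26998, 28164), (26999, 28165), (27000, 28166),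 (27001, 26293), (27002, 26291), (27003, 26367), (27004, 26368), (27005, 26200), (27006, 26655), (27007, 25801)]
    ⟨e3 q26944 L787273 q26666, e3 q26945 (flp_j L799287) q28118, e3 q26946 (flp_j L799301) q28119, e3 q26947 L787318 q26278, e3 q26948 L787332 q26282, e3 q26949 L787348 q26276, e3 q26950 (flp_j L799315) q28120, e3 q26951 (flp_j L799329) q28121, e3 q26952 L787378 q26273, e3 q26953 L787398 q26650, e3 q26954 (flp_j L799343) q28122, e3 q26955 (flp_j L799353) q28123, e3 q26956 (flp_j L799363) q28124, e3 q26957 L787440 q25756, e3 q26958 L787456 q25757, e3 q26959 (flp_j L799636) q28145, e3 q26960 (flp_j L799652) q28146, e3 q26961 (flp_j L799417) q28128, e3 q26962 (flp_j L799429) q28129, e3 q26963 (flp_j L799439) q28130, e3 q26964 L787532 q26019, e3 q26965 L787546 q25764, e3 q26966 (flp_j L799734) q28152, e3 q26967 L787573 q25766, e3 q26968 (flp_j L799762) q28154, e3 q26969 (flp_j L799778) q28155, e3 q26970 L787606 q26460, e3 q26971 L787614 q26461, e3 q26972 L787626 q26462, e3 q26973 L787636 q25786, e3 q26974 L787652 q25787,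 e3 q26975 L787668 q25792, e3 q26976 L787678 q25793, e3 q26977 L787690 q25794, e3 q26978 L787706 q25803, e3 q26979 L787716 q25804, e3 q26980 L787726 q25805, e3 q26981 L787744 q26159, e3 q26982 L787752 q25780, e3 q26983 L787768 q25781, e3 q26984 (flp_j L799963) q28170, e3 q26985 (flp_j L799979) q28171, e3 q26986 L787808 q26015, e3 q26987 L787820 q25811, e3 q26988 L787832 q25812, e3 q26989 L787842 q25813, e3 q26990 L787858 q26364, e3 q26991 (flp_j L799859) q28162, e3 q26992 (flp_j L799875) q28163, e3 q26993 L787900 q26027, e3 q26994 L787916 q26028, e3 q26995 L787934 q26365, e3 q26996 L787946 q26366, e3 q26997 L787962 q26648, e3 q26998 (flp_j L799893) q28164, e3 q26999 (flp_j L799903) q28165, e3 q27000 (flp_j L799915) q28166, e3 q27001 L788008 q26293, e3 q27002 L788020 q26291, e3 q27003 L788036 q26367, e3 q27004 L788048 q26368, e3 q27005 L788062 q26200, e3 q27006 (flp_j L788086) q26655, e3 q27007 L788098 q25801, trivial⟩ (by decide +kernel)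

theorem ce_j_422 : ∀ r, r < 64 → sm gj (Qf (27008 + r)) = Qf (tab Gen.j (27008 + r)) :=
  edges_tab (sm gj) Qf (tab Gen.j) 27008 [(27008, 28192), (27009, 26651), (27010, 28167), (27011, 28168), (27012, 26657), (27013, 25809), (27014, 25810), (27015, 28196), (27016, 28197), (27017, 28175), (27018, 28176), (27019, 26169), (27020, 25818), (27021, 28203), (27022, 25933), (27023, 25824), (27024, 28204), (27025, 25829), (27026, 25852), (27027, 25853), (27028, 25848), (27029, 25849), (27030, 28206), (27031, 25872), (27032, 25837), (27033, 25868), (27034, 25869), (27035, 25863), (27036, 25864), (27037, 28213), (27038, 26535), (27039, 26527), (27040, 28046), (27041, 27950), (27042, 27938), (27043, 28047), (27044, 28048), (27045, 28049), (27046, 25854), (27047, 26351), (27048, 26352), (27049, 26610), (27050, 26611), (27051, 28209), (27052, 28210), (27053, 25897), (27054, 25877), (27055, 25878), (27056, 28207), (27057, 28208), (27058, 28228), (27059, 25894), (27060, 26347), (27061, 25870), (27062, 26571), (27063, 26572), (27064, 26032),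 (27065, 26033), (27066, 28216), (27067, 28217), (27068, 25915), (27069, 26580), (27070, 26581), (27071, 28214)]
    ⟨e3 q27008 (flp_j L800281) q28192, e3 q27009 L788130 q26651, e3 q27010 (flp_j L799931) q28167, e3 q27011 (flp_j L799939) q28168, e3 q27012 (flp_j L788160) q26657, e3 q27013 L788166 q25809, e3 q27014 L788174 q25810, e3 q27015 (flp_j L800335) q28196, e3 q27016 (flp_j L800343) q28197, e3 q27017 (flp_j L800033) q28175, e3 q27018 (flp_j L800043) q28176, e3 q27019 L788216 q26169, e3 q27020 L788228 q25818, e3 q27021 (flp_j L800407) q28203, e3 q27022 L788258 q25933, e3 q27023 L788270 q25824, e3 q27024 (flp_j L800425) q28204, e3 q27025 L788304 q25829, e3 q27026 L788320 q25852, e3 q27027 L788334 q25853, e3 q27028 L788350 q25848, e3 q27029 L788366 q25849, e3 q27030 (flp_j L800461) q28206, e3 q27031 L788398 q25872, e3 q27032 L788414 q25837, e3 q27033 L788426 q25868, e3 q27034 L788438 q25869, e3 q27035 L788454 q25863, e3 q27036 L788468 q25864, e3 q27037 (flp_j L800573) q28213, e3 q27038 L788496 q26535, e3 q27039 L788512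 q26527, e3 q27040 (flp_j L798303) q28046, e3 q27041 (flp_j L796969) q27950, e3 q27042 (flp_j L796772) q27938, e3 q27043 (flp_j L798319) q28047, e3 q27044 (flp_j L798335) q28048, e3 q27045 (flp_j L798350) q28049, e3 q27046 L788595 q25854, e3 q27047 L788609 q26351, e3 q27048 L788625 q26352, e3 q27049 L788641 q26610, e3 q27050 L788653 q26611, e3 q27051 (flp_j L800507) q28209, e3 q27052 (flp_j L800523) q28210, e3 q27053 L788686 q25897, e3 q27054 L788702 q25877, e3 q27055 L788718 q25878, e3 q27056 (flp_j L800477) q28207, e3 q27057 (flp_j L800491) q28208, e3 q27058 (flp_j L800781) q28228, e3 q27059 L788760 q25894, e3 q27060 L788778 q26347, e3 q27061 L788790 q25870, e3 q27062 L788800 q26571, e3 q27063 L788812 q26572, e3 q27064 L788826 q26032, e3 q27065 L788840 q26033, e3 q27066 (flp_j L800619) q28216, e3 q27067 (flp_j L800633) q28217, e3 q27068 L788872 q25915, e3 q27069 L788884 q26580, e3 q27070 L788898 q26581, e3 q27071 (flp_j L800587) q28214, trivial⟩ (by decide +kernel)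

theorem ce_j_423 : ∀ r, r < 64 → sm gj (Qf (27072 + r)) = Qf (tab Gen.j (27072 + r)) :=
  edges_tab (sm gj) Qf (tab Gen.j) 27072 [(27072, 28215), (27073, 25912), (27074, 28212), (27075, 25879), (27076, 25885), (27077, 25896), (27078, 26599), (27079, 26600), (27080, 28237), (27081, 28238), (27082, 28254), (27083, 25886), (27084, 26222), (27085, 26237), (27086, 26487), (27087, 26488), (27088, 26328), (27089, 28255), (27090, 28233), (27091, 28261), (27092, 25893), (27093, 25898), (27094, 25909), (27095, 25910), (27096, 26228), (27097, 26229), (27098, 25905), (27099, 28273), (27100, 28241), (27101, 25963), (27102, 28256), (27103, 28236), (27104, 28274), (27105, 25957), (27106, 26557), (27107, 25911), (27108, 25953), (27109, 25914), (27110, 25916), (27111, 28280), (27112, 26597), (27113, 26006), (27114, 26549), (27115, 28275), (27116, 28276), (27117, 26014), (27118, 28289), (27119, 28252), (27120, 26012), (27121, 28291), (27122, 28248), (27123, 26005), (27124, 26002), (27125, 25997), (27126, 26023), (27127, 25930), (27128, 25931),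 (27129, 25932), (27130, 25935), (27131, 25936), (27132, 25937), (27133, 28094), (27134, 28095), (27135, 27975)]
    ⟨e3 q27072 (flp_j L800601) q28215, e3 q27073 L788928 q25912, e3 q27074 (flp_j L800557) q28212, e3 q27075 L788952 q25879, e3 q27076 L788968 q25885, e3 q27077 L788982 q25896, e3 q27078 L788996 q26599, e3 q27079 L789010 q26600, e3 q27080 (flp_j L800904) q28237, e3 q27081 (flp_j L800920) q28238, e3 q27082 (flp_j L801132) q28254, e3 q27083 L789055 q25886, e3 q27084 L789073 q26222, e3 q27085 L789089 q26237, e3 q27086 L789101 q26487, e3 q27087 L789115 q26488, e3 q27088 L789129 q26328, e3 q27089 (flp_j L801146) q28255, e3 q27090 (flp_j L800852) q28233, e3 q27091 (flp_j L801228) q28261, e3 q27092 L789182 q25893, e3 q27093 L789192 q25898, e3 q27094 L789204 q25909, e3 q27095 L789218 q25910, e3 q27096 L789234 q26228, e3 q27097 L789244 q26229, e3 q27098 L789259 q25905, e3 q27099 (flp_j L801400) q28273, e3 q27100 (flp_j L800952) q28241, e3 q27101 L789293 q25963, e3 q27102 (flp_j L801162) q28256, e3 q27103 (flp_j L800888)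 q28236, e3 q27104 (flp_j L801410) q28274, e3 q27105 L789333 q25957, e3 q27106 L789343 q26557, e3 q27107 L789351 q25911, e3 q27108 L789361 q25953, e3 q27109 L789373 q25914, e3 q27110 L789381 q25916, e3 q27111 (flp_j L801493) q28280, e3 q27112 L789401 q26597, e3 q27113 L789413 q26006, e3 q27114 L789433 q26549, e3 q27115 (flp_j L801424) q28275, e3 q27116 (flp_j L801438) q28276, e3 q27117 L789463 q26014, e3 q27118 (flp_j L801594) q28289, e3 q27119 (flp_j L801104) q28252, e3 q27120 L789493 q26012, e3 q27121 (flp_j L801620) q28291, e3 q27122 (flp_j L801052) q28248, e3 q27123 L789515 q26005, e3 q27124 L789529 q26002, e3 q27125 L789543 q25997, e3 q27126 L789558 q26023, e3 q27127 L789571 q25930, e3 q27128 L789587 q25931, e3 q27129 L789599 q25932, e3 q27130 L789609 q25935, e3 q27131 L789619 q25936, e3 q27132 L789630 q25937, e3 q27133 (flp_j L799021) q28094, e3 q27134 (flp_j L799037) q28095, e3 q27135 (flp_j L797335) q27975, trivial⟩ (by decide +kernel)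

theorem ce_j_424 : ∀ r, r < 64 → sm gj (Qf (27136 + r)) = Qf (tab Gen.j (27136 + r)) :=
  edges_tab (sm gj) Qf (tab Gen.j) 27136 [(27136, 28043), (27137, 26259), (27138, 28307), (27139, 28153), (27140, 28308), (27141, 28309), (27142, 28310), (27143, 28202), (27144, 28042), (27145, 28331), (27146, 28311), (27147, 28312), (27148, 28313), (27149, 26356), (27150, 25950), (27151, 25951), (27152, 25952), (27153, 25955), (27154, 25956), (27155, 25960), (27156, 25961), (27157, 25962), (27158, 26528), (27159, 26529), (27160, 26530), (27161, 26531), (27162, 26532), (27163, 28336), (27164, 28337), (27165, 28338), (27166, 28339), (27167, 28287), (27168, 28290), (27169, 27949), (27170, 28340), (27171, 28341), (27172, 28286), (27173, 27932), (27174, 26570), (27175, 28342), (27176, 28343), (27177, 28283), (27178, 28279), (27179, 26573), (27180, 26574), (27181, 26575), (27182, 25990), (27183, 25991), (27184, 25992), (27185, 25993), (27186, 25994), (27187, 25995), (27188, 25996), (27189, 26000), (27190, 26001), (27191, 26003), (27192, 26004),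 (27193, 26010), (27194, 26011), (27195, 26037), (27196, 26523), (27197, 26536), (27198, 26537), (27199, 26538)]
    ⟨e3 q27136 (flp_j L798256) q28043, e3 q27137 L789683 q26259, e3 q27138 (flp_j L801809) q28307, e3 q27139 (flp_j L799750) q28153, e3 q27140 (flp_j L801825) q28308, e3 q27141 (flp_j L801841) q28309, e3 q27142 (flp_j L801854) q28310, e3 q27143 (flp_j L800395) q28202, e3 q27144 (flp_j L798241) q28042, e3 q27145 L802046 q28331, e3 q27146 (flp_j L801862) q28311, e3 q27147 (flp_j L801874) q28312, e3 q27148 (flp_j L801886) q28313, e3 q27149 L789791 q26356, e3 q27150 L789809 q25950, e3 q27151 L789823 q25951, e3 q27152 L789835 q25952, e3 q27153 L789844 q25955, e3 q27154 L789854 q25956, e3 q27155 L789862 q25960, e3 q27156 L789872 q25961, e3 q27157 L789878 q25962, e3 q27158 L789890 q26528, e3 q27159 L789904 q26529, e3 q27160 L789917 q26530, e3 q27161 L789931 q26531, e3 q27162 L789945 q26532, e3 q27163 (flp_j L802115) q28336, e3 q27164 (flp_j L802131) q28337, e3 q27165 (flp_j L802144) q28338, e3 q27166 (flp_j L802158) q28339,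 e3 q27167 (flp_j L801577) q28287, e3 q27168 (flp_j L801606) q28290, e3 q27169 (flp_j L796949) q27949, e3 q27170 (flp_j L802168) q28340, e3 q27171 (flp_j L802178) q28341, e3 q27172 (flp_j L801557) q28286, e3 q27173 (flp_j L796675) q27932, e3 q27174 L790049 q26570, e3 q27175 (flp_j L802188) q28342, e3 q27176 (flp_j L802198) q28343, e3 q27177 (flp_j L801527) q28283, e3 q27178 (flp_j L801475) q28279, e3 q27179 L790086 q26573, e3 q27180 L790094 q26574, e3 q27181 L790106 q26575, e3 q27182 L790120 q25990, e3 q27183 L790130 q25991, e3 q27184 L790140 q25992, e3 q27185 L790151 q25993, e3 q27186 L790165 q25994, e3 q27187 L790175 q25995, e3 q27188 L790185 q25996, e3 q27189 L790195 q26000, e3 q27190 L790203 q26001, e3 q27191 L790211 q26003, e3 q27192 L790219 q26004, e3 q27193 L790227 q26010, e3 q27194 L790237 q26011, e3 q27195 L790249 q26037, e3 q27196 L790263 q26523, e3 q27197 L790273 q26536, e3 q27198 L790285 q26537, e3 q27199 L790294 q26538, trivial⟩ (by decide +kernel)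

theorem ce_j_425 : ∀ r, r < 64 → sm gj (Qf (27200 + r)) = Qf (tab Gen.j (27200 + r)) :=
  edges_tab (sm gj) Qf (tab Gen.j) 27200 [(27200, 26539), (27201, 26540), (27202, 26541), (27203, 26542), (27204, 26543), (27205, 26544), (27206, 26545), (27207, 26546), (27208, 26547), (27209, 26548), (27210, 28369), (27211, 28370), (27212, 28371), (27213, 28372), (27214, 28305), (27215, 28373), (27216, 28374), (27217, 28306), (27218, 28375), (27219, 28376), (27220, 28013), (27221, 28304), (27222, 26254), (27223, 27927), (27224, 27928), (27225, 28377), (27226, 28378), (27227, 28299), (27228, 28298), (27229, 28379), (27230, 28303), (27231, 28295), (27232, 26008), (27233, 28422), (27234, 26596), (27235, 28380), (27236, 28301), (27237, 28174), (27238, 28158), (27239, 28127), (27240, 26551), (27241, 26171), (27242, 26213), (27243, 28011), (27244, 26144), (27245, 26142), (27246, 26029), (27247, 28180), (27248, 28181), (27249, 28431), (27250, 26601), (27251, 26034), (27252, 28245), (27253, 28246), (27254, 26040), (27255, 26041), (27256, 26042),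 (27257, 28381), (27258, 27948), (27259, 27937), (27260, 28436), (27261, 28437), (27262, 28438), (27263, 26078)]
    ⟨e3 q27200 L790306 q26539, e3 q27201 L790318 q26540, e3 q27202 L790330 q26541, e3 q27203 L790342 q26542, e3 q27204 L790354 q26543, e3 q27205 L790366 q26544, e3 q27206 L790380 q26545, e3 q27207 L790396 q26546, e3 q27208 L790406 q26547, e3 q27209 L790416 q26548, e3 q27210 (flp_j L802460) q28369, e3 q27211 (flp_j L802476) q28370, e3 q27212 (flp_j L802489) q28371, e3 q27213 (flp_j L802499) q28372, e3 q27214 (flp_j L801786) q28305, e3 q27215 (flp_j L802509) q28373, e3 q27216 (flp_j L802523) q28374, e3 q27217 (flp_j L801799) q28306, e3 q27218 (flp_j L802533) q28375, e3 q27219 (flp_j L802543) q28376, e3 q27220 (flp_j L797853) q28013, e3 q27221 (flp_j L801770) q28304, e3 q27222 (flp_j L790520) q26254, e3 q27223 (flp_j L796585) q27927, e3 q27224 (flp_j L796601) q27928, e3 q27225 (flp_j L802555) q28377, e3 q27226 (flp_j L802563) q28378, e3 q27227 (flp_j L801720) q28299, e3 q27228 (flp_j L801702) q28298, e3 q27229 (flp_j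 L802571) q28379, e3 q27230 (flp_j L801758) q28303, e3 q27231 (flp_j L801670) q28295, e3 q27232 L790586 q26008, e3 q27233 (flp_j L802988) q28422, e3 q27234 L790604 q26596, e3 q27235 (flp_j L802579) q28380, e3 q27236 (flp_j L801742) q28301, e3 q27237 (flp_j L800021) q28174, e3 q27238 (flp_j L799816) q28158, e3 q27239 (flp_j L799405) q28127, e3 q27240 L790648 q26551, e3 q27241 L790664 q26171, e3 q27242 L790675 q26213, e3 q27243 (flp_j L797821) q28011, e3 q27244 L790698 q26144, e3 q27245 L790712 q26142, e3 q27246 L790720 q26029, e3 q27247 (flp_j L800101) q28180, e3 q27248 (flp_j L800117) q28181, e3 q27249 (flp_j L803076) q28431, e3 q27250 L790776 q26601, e3 q27251 L790786 q26034, e3 q27252 (flp_j L801012) q28245, e3 q27253 (flp_j L801026) q28246, e3 q27254 L790816 q26040, e3 q27255 L790826 q26041, e3 q27256 L790837 q26042, e3 q27257 (flp_j L802591) q28381, e3 q27258 (flp_j L796935) q27948, e3 q27259 (flp_j L796755) q27937, e3 q27260 (flp_j L803144) q28436, e3 q27261 (flp_j L803154) q28437, e3 q27262 (flp_j L803164) q28438, e3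 q27263 L790903 q26078, trivial⟩ (by decide +kernel)

theorem ce_j_426 : ∀ r, r < 64 → sm gj (Qf (27264 + r)) = Qf (tab Gen.j (27264 + r)) :=
  edges_tab (sm gj) Qf (tab Gen.j) 27264 [(27264, 26079), (27265, 26604), (27266, 26048), (27267, 26049), (27268, 26050), (27269, 28448), (27270, 28449), (27271, 26609), (27272, 26612), (27273, 26613), (27274, 26614), (27275, 26062), (27276, 26067), (27277, 26068), (27278, 26639), (27279, 26606), (27280, 26603), (27281, 26065), (27282, 26066), (27283, 28456), (27284, 28457), (27285, 28455), (27286, 26664), (27287, 26662), (27288, 26660), (27289, 26073), (27290, 28462), (27291, 26624), (27292, 26080), (27293, 26081), (27294, 26082), (27295, 28445), (27296, 28446), (27297, 28464), (27298, 28465), (27299, 26089), (27300, 26090), (27301, 26091), (27302, 26485), (27303, 26486), (27304, 26489), (27305, 26490), (27306, 26316), (27307, 26324), (27308, 28470), (27309, 28471), (27310, 28472), (27311, 26626), (27312, 26627), (27313, 26628), (27314, 27976), (27315, 27977), (27316, 26098), (27317,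 26099), (27318, 26100), (27319, 28489), (27320, 28490), (27321, 28491), (27322, 27992), (27323, 27993), (27324, 26104), (27325, 28496), (27326, 26496), (27327, 26497)]
    ⟨e3 q27264 L790917 q26079, e3 q27265 L790934 q26604, e3 q27266 L790944 q26048, e3 q27267 L790954 q26049, e3 q27268 L790968 q26050, e3 q27269 (flp_j L803275) q28448, e3 q27270 (flp_j L803285) q28449, e3 q27271 L791002 q26609, e3 q27272 L791014 q26612, e3 q27273 L791024 q26613, e3 q27274 L791036 q26614, e3 q27275 L791048 q26062, e3 q27276 L791062 q26067, e3 q27277 L791068 q26068, e3 q27278 L791084 q26639, e3 q27279 L791102 q26606, e3 q27280 L791120 q26603, e3 q27281 L791132 q26065, e3 q27282 L791144 q26066, e3 q27283 (flp_j L803372) q28456, e3 q27284 (flp_j L803384) q28457, e3 q27285 (flp_j L803360) q28455, e3 q27286 L791176 q26664, e3 q27287 L791190 q26662, e3 q27288 L791204 q26660, e3 q27289 L791216 q26073, e3 q27290 (flp_j L803444) q28462, e3 q27291 L791238 q26624, e3 q27292 L791248 q26080, e3 q27293 L791258 q26081, e3 q27294 L791266 q26082, e3 q27295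 (flp_j L803233) q28445, e3 q27296 (flp_j L803247) q28446, e3 q27297 (flp_j L803466) q28464, e3 q27298 (flp_j L803476) q28465, e3 q27299 L791308 q26089, e3 q27300 L791320 q26090, e3 q27301 L791335 q26091, e3 q27302 L791347 q26485, e3 q27303 L791359 q26486, e3 q27304 L791370 q26489, e3 q27305 L791384 q26490, e3 q27306 L791398 q26316, e3 q27307 L791415 q26324, e3 q27308 (flp_j L803527) q28470, e3 q27309 (flp_j L803539) q28471, e3 q27310 (flp_j L803555) q28472, e3 q27311 L791449 q26626, e3 q27312 L791463 q26627, e3 q27313 L791480 q26628, e3 q27314 (flp_j L797345) q27976, e3 q27315 (flp_j L797361) q27977, e3 q27316 L791514 q26098, e3 q27317 L791524 q26099, e3 q27318 L791536 q26100, e3 q27319 (flp_j L803753) q28489, e3 q27320 (flp_j L803763) q28490, e3 q27321 (flp_j L803775) q28491, e3 q27322 (flp_j L797559) q27992, e3 q27323 (flp_j L797574) q27993, e3 q27324 L791599 q26104, e3 q27325 (flp_j L803831) q28496, e3 q27326 L791620 q26496, e3 q27327 L791634 q26497, trivial⟩ (by decide +kernel)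

theorem ce_j_427 : ∀ r, r < 64 → sm gj (Qf (27328 + r)) = Qf (tab Gen.j (27328 + r)) :=
  edges_tab (sm gj) Qf (tab Gen.j) 27328 [(27328, 26641), (27329, 26642), (27330, 26643), (27331, 26644), (27332, 26125), (27333, 26126), (27334, 26128), (27335, 27954), (27336, 27955), (27337, 26129), (27338, 26130), (27339, 26131), (27340, 28004), (27341, 28005), (27342, 28006), (27343, 26132), (27344, 26133), (27345, 26134), (27346, 26659), (27347, 26690), (27348, 26739), (27349, 26677), (27350, 26678), (27351, 28503), (27352, 28504), (27353, 26679), (27354, 28505), (27355, 28508), (27356, 28509), (27357, 28510), (27358, 28515), (27359, 28516), (27360, 28412), (27361, 27956), (27362, 26141), (27363, 28040), (27364, 28430), (27365, 28429), (27366, 26453), (27367, 26158), (27368, 26166), (27369, 26167), (27370, 26168), (27371, 28113), (27372, 28114), (27373, 26174), (27374, 26175), (27375, 26176), (27376, 26398), (27377, 26399), (27378, 26416), (27379, 26417), (27380, 26198), (27381, 26684), (27382, 26685), (27383, 28533), (27384, 28169),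 (27385, 28027), (27386, 28003), (27387, 26520), (27388, 26331), (27389, 26482), (27390, 26483), (27391, 26263)]
    ⟨e3 q27328 L791651 q26641, e3 q27329 L791661 q26642, e3 q27330 L791669 q26643, e3 q27331 L791675 q26644, e3 q27332 L791685 q26125, e3 q27333 L791697 q26126, e3 q27334 L791710 q26128, e3 q27335 (flp_j L797030) q27954, e3 q27336 (flp_j L797046) q27955, e3 q27337 L791746 q26129, e3 q27338 L791758 q26130, e3 q27339 L791772 q26131, e3 q27340 (flp_j L797729) q28004, e3 q27341 (flp_j L797743) q28005, e3 q27342 (flp_j L797755) q28006, e3 q27343 L791804 q26132, e3 q27344 L791812 q26133, e3 q27345 L791820 q26134, e3 q27346 L791830 q26659, e3 q27347 L791844 q26690, e3 q27348 L791860 q26739, e3 q27349 L791870 q26677, e3 q27350 L791882 q26678, e3 q27351 (flp_j L803907) q28503, e3 q27352 (flp_j L803921) q28504, e3 q27353 L791913 q26679, e3 q27354 (flp_j L803935) q28505, e3 q27355 (flp_j L803971) q28508, e3 q27356 (flp_j L803983) q28509, e3 q27357 (flp_j L803995) q28510, e3 q27358 (flp_j L804039) q28515, e3 q27359 (flp_j L804047)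 q28516, e3 q27360 (flp_j L802916) q28412, e3 q27361 (flp_j L797064) q27956, e3 q27362 L791994 q26141, e3 q27363 (flp_j L798212) q28040, e3 q27364 (flp_j L803063) q28430, e3 q27365 (flp_j L803053) q28429, e3 q27366 L792025 q26453, e3 q27367 L792041 q26158, e3 q27368 L792053 q26166, e3 q27369 L792067 q26167, e3 q27370 L792076 q26168, e3 q27371 (flp_j L799222) q28113, e3 q27372 (flp_j L799238) q28114, e3 q27373 L792101 q26174, e3 q27374 L792109 q26175, e3 q27375 L792115 q26176, e3 q27376 L792125 q26398, e3 q27377 L792137 q26399, e3 q27378 L792153 q26416, e3 q27379 L792163 q26417, e3 q27380 L792176 q26198, e3 q27381 L792188 q26684, e3 q27382 L792196 q26685, e3 q27383 (flp_j L804220) q28533, e3 q27384 (flp_j L799955) q28169, e3 q27385 L798051 q28027, e3 q27386 (flp_j L797721) q28003, e3 q27387 L792231 q26520, e3 q27388 L792249 q26331, e3 q27389 L792257 q26482, e3 q27390 L792271 q26483, e3 q27391 L792287 q26263, trivial⟩ (by decide +kernel)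

theorem ce_j_428 : ∀ r, r < 64 → sm gj (Qf (27392 + r)) = Qf (tab Gen.j (27392 + r)) :=
  edges_tab (sm gj) Qf (tab Gen.j) 27392 [(27392, 26484), (27393, 28016), (27394, 28017), (27395, 28534), (27396, 28535), (27397, 28041), (27398, 28536), (27399, 28201), (27400, 28037), (27401, 28428), (27402, 28115), (27403, 28116), (27404, 28539), (27405, 28540), (27406, 28541), (27407, 26667), (27408, 28089), (27409, 28090), (27410, 26668), (27411, 26669), (27412, 26670), (27413, 26193), (27414, 26654), (27415, 26199), (27416, 26201), (27417, 26187), (27418, 26188), (27419, 28588), (27420, 28589), (27421, 28408), (27422, 26206), (27423, 26207), (27424, 26208), (27425, 26647), (27426, 28585), (27427, 26491), (27428, 26722), (27429, 26674), (27430, 26723), (27431, 28548), (27432, 28587), (27433, 28190), (27434, 26204), (27435, 26205), (27436, 28603), (27437, 28604), (27438, 28605), (27439, 28594), (27440, 28595), (27441, 28596), (27442, 26212), (27443, 26303), (27444, 28613), (27445, 26218), (27446, 26219), (27447, 26217), (27448, 28618),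 (27449, 28616), (27450, 28475), (27451, 28617), (27452, 26280), (27453, 26267), (27454, 28262), (27455, 28263)]
    ⟨e3 q27392 L792299 q26484, e3 q27393 (flp_j L797901) q28016, e3 q27394 (flp_j L797917) q28017, e3 q27395 (flp_j L804234) q28534, e3 q27396 (flp_j L804248) q28535, e3 q27397 (flp_j L798228) q28041, e3 q27398 (flp_j L804256) q28536, e3 q27399 (flp_j L800383) q28201, e3 q27400 (flp_j L798169) q28037, e3 q27401 (flp_j L803041) q28428, e3 q27402 (flp_j L799249) q28115, e3 q27403 (flp_j L799261) q28116, e3 q27404 (flp_j L804284) q28539, e3 q27405 (flp_j L804292) q28540, e3 q27406 (flp_j L804298) q28541, e3 q27407 L792402 q26667, e3 q27408 (flp_j L798954) q28089, e3 q27409 (flp_j L798970) q28090, e3 q27410 L792433 q26668, e3 q27411 L792441 q26669, e3 q27412 L792449 q26670, e3 q27413 L792457 q26193, e3 q27414 L792473 q26654, e3 q27415 L792487 q26199, e3 q27416 L792499 q26201, e3 q27417 L792511 q26187, e3 q27418 L792523 q26188, e3 q27419 (flp_j L804750) q28588, e3 q27420 (flp_j L804762) q28589, e3 q27421 L802880 q28408,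 e3 q27422 L792553 q26206, e3 q27423 L792561 q26207, e3 q27424 L792569 q26208, e3 q27425 L792583 q26647, e3 q27426 (flp_j L804706) q28585, e3 q27427 L792605 q26491, e3 q27428 L792617 q26722, e3 q27429 L792627 q26674, e3 q27430 L792639 q26723, e3 q27431 (flp_j L804383) q28548, e3 q27432 (flp_j L804736) q28587, e3 q27433 (flp_j L800245) q28190, e3 q27434 L792681 q26204, e3 q27435 L792689 q26205, e3 q27436 (flp_j L804908) q28603, e3 q27437 (flp_j L804916) q28604, e3 q27438 (flp_j L804926) q28605, e3 q27439 (flp_j L804800) q28594, e3 q27440 (flp_j L804810) q28595, e3 q27441 (flp_j L804824) q28596, e3 q27442 L792755 q26212, e3 q27443 L792768 q26303, e3 q27444 (flp_j L805014) q28613, e3 q27445 L792787 q26218, e3 q27446 L792799 q26219, e3 q27447 L792808 q26217, e3 q27448 (flp_j L805070) q28618, e3 q27449 (flp_j L805045) q28616, e3 q27450 (flp_j L803590) q28475, e3 q27451 (flp_j L805058) q28617, e3 q27452 L792863 q26280, e3 q27453 L792875 q26267, e3 q27454 (flp_j L801244) q28262, e3 q27455 (flp_j L801260) q28263, trivial⟩ (by decide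 +kernel)

theorem ce_j_429 : ∀ r, r < 64 → sm gj (Qf (27456 + r)) = Qf (tab Gen.j (27456 + r)) :=
  edges_tab (sm gj) Qf (tab Gen.j) 27456 [(27456, 26701), (27457, 26702), (27458, 26261), (27459, 26703), (27460, 26262), (27461, 26260), (27462, 28277), (27463, 28278), (27464, 26706), (27465, 26707), (27466, 26708), (27467, 26258), (27468, 26264), (27469, 26265), (27470, 26266), (27471, 28264), (27472, 28265), (27473, 26272), (27474, 26274), (27475, 26275), (27476, 26277), (27477, 26279), (27478, 26244), (27479, 26245), (27480, 28648), (27481, 28649), (27482, 28650), (27483, 26288), (27484, 26289), (27485, 26290), (27486, 26292), (27487, 26252), (27488, 26253), (27489, 28658), (27490, 28659), (27491, 28660), (27492, 28413), (27493, 26299), (27494, 26300), (27495, 26301), (27496, 28638), (27497, 28320), (27498, 28631), (27499, 28629), (27500, 28630), (27501, 28560), (27502, 28639), (27503, 28640), (27504, 28623), (27505, 26270), (27506, 26271), (27507, 27960), (27508, 27961), (27509, 28675), (27510, 28676), (27511, 28677), (27512,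 28643), (27513, 28141), (27514, 28644), (27515, 28645), (27516, 28646), (27517, 28137), (27518, 28647), (27519, 28135)]
    ⟨e3 q27456 L792912 q26701, e3 q27457 L792918 q26702, e3 q27458 L792927 q26261, e3 q27459 L792943 q26703, e3 q27460 L792953 q26262, e3 q27461 L792969 q26260, e3 q27462 (flp_j L801452) q28277, e3 q27463 (flp_j L801464) q28278, e3 q27464 L792993 q26706, e3 q27465 L792999 q26707, e3 q27466 L793003 q26708, e3 q27467 L793010 q26258, e3 q27468 L793024 q26264, e3 q27469 L793032 q26265, e3 q27470 L793038 q26266, e3 q27471 (flp_j L801275) q28264, e3 q27472 (flp_j L801291) q28265, e3 q27473 L793069 q26272, e3 q27474 L793079 q26274, e3 q27475 L793087 q26275, e3 q27476 L793095 q26277, e3 q27477 L793105 q26279, e3 q27478 L793113 q26244, e3 q27479 L793125 q26245, e3 q27480 (flp_j L805381) q28648, e3 q27481 (flp_j L805393) q28649, e3 q27482 (flp_j L805403) q28650, e3 q27483 L793159 q26288, e3 q27484 L793165 q26289, e3 q27485 L793171 q26290, e3 q27486 L793185 q26292, e3 q27487 L793195 q26252, e3 q27488 L793203 q26253,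 e3 q27489 (flp_j L805469) q28658, e3 q27490 (flp_j L805477) q28659, e3 q27491 (flp_j L805485) q28660, e3 q27492 L802928 q28413, e3 q27493 L793231 q26299, e3 q27494 L793239 q26300, e3 q27495 L793247 q26301, e3 q27496 (flp_j L805278) q28638, e3 q27497 (flp_j L801962) q28320, e3 q27498 (flp_j L805224) q28631, e3 q27499 (flp_j L805188) q28629, e3 q27500 (flp_j L805208) q28630, e3 q27501 (flp_j L804504) q28560, e3 q27502 (flp_j L805294) q28639, e3 q27503 (flp_j L805302) q28640, e3 q27504 (flp_j L805131) q28623, e3 q27505 L793333 q26270, e3 q27506 L793343 q26271, e3 q27507 (flp_j L797120) q27960, e3 q27508 (flp_j L797136) q27961, e3 q27509 (flp_j L805604) q28675, e3 q27510 (flp_j L805614) q28676, e3 q27511 (flp_j L805623) q28677, e3 q27512 (flp_j L805332) q28643, e3 q27513 (flp_j L799580) q28141, e3 q27514 (flp_j L805344) q28644, e3 q27515 (flp_j L805352) q28645, e3 q27516 (flp_j L805358) q28646, e3 q27517 (flp_j L799547) q28137, e3 q27518 (flp_j L805367) q28647, e3 q27519 (flp_j L799515) q28135, trivial⟩ (by decide +kernel)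

theorem ce_j_430 : ∀ r, r < 64 → sm gj (Qf (27520 + r)) = Qf (tab Gen.j (27520 + r)) :=
  edges_tab (sm gj) Qf (tab Gen.j) 27520 [(27520, 28010), (27521, 28622), (27522, 28012), (27523, 28136), (27524, 26371), (27525, 26285), (27526, 26286), (27527, 26287), (27528, 28699), (27529, 28700), (27530, 28701), (27531, 28655), (27532, 28656), (27533, 28188), (27534, 28657), (27535, 28187), (27536, 26296), (27537, 26297), (27538, 26298), (27539, 28708), (27540, 28709), (27541, 28478), (27542, 28665), (27543, 28666), (27544, 28667), (27545, 28668), (27546, 26304), (27547, 28614), (27548, 28319), (27549, 26314), (27550, 26309), (27551, 26395), (27552, 26480), (27553, 28479), (27554, 26317), (27555, 26318), (27556, 26319), (27557, 26320), (27558, 28719), (27559, 28268), (27560, 28723), (27561, 28724), (27562, 28725), (27563, 26415), (27564, 26329), (27565, 28269), (27566, 26330), (27567, 28547), (27568, 28556), (27569, 26372), (27570, 26340), (27571, 26533), (27572, 26556), (27573, 27933), (27574, 26355), (27575, 26562), (27576, 26563),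 (27577, 28242), (27578, 26566), (27579, 26567), (27580, 27996), (27581, 28229), (27582, 28230), (27583, 26568)]
    ⟨e3 q27520 (flp_j L797805) q28010, e3 q27521 (flp_j L805117) q28622, e3 q27522 (flp_j L797839) q28012, e3 q27523 (flp_j L799531) q28136, e3 q27524 L793489 q26371, e3 q27525 L793499 q26285, e3 q27526 L793505 q26286, e3 q27527 L793511 q26287, e3 q27528 (flp_j L805808) q28699, e3 q27529 (flp_j L805814) q28700, e3 q27530 (flp_j L805822) q28701, e3 q27531 (flp_j L805441) q28655, e3 q27532 (flp_j L805449) q28656, e3 q27533 (flp_j L800217) q28188, e3 q27534 (flp_j L805463) q28657, e3 q27535 (flp_j L800205) q28187, e3 q27536 L793585 q26296, e3 q27537 L793591 q26297, e3 q27538 L793601 q26298, e3 q27539 (flp_j L805886) q28708, e3 q27540 (flp_j L805898) q28709, e3 q27541 (flp_j L803632) q28478, e3 q27542 (flp_j L805517) q28665, e3 q27543 (flp_j L805523) q28666, e3 q27544 (flp_j L805533) q28667, e3 q27545 (flp_j L805541) q28668, e3 q27546 L793651 q26304, e3 q27547 (flp_j L805026) q28614, e3 q27548 (flp_j L801952) q28319,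 e3 q27549 L793681 q26314, e3 q27550 L793690 q26309, e3 q27551 L793702 q26395, e3 q27552 L793712 q26480, e3 q27553 (flp_j L803648) q28479, e3 q27554 L793728 q26317, e3 q27555 L793734 q26318, e3 q27556 L793742 q26319, e3 q27557 L793752 q26320, e3 q27558 (flp_j L805974) q28719, e3 q27559 (flp_j L801332) q28268, e3 q27560 (flp_j L806008) q28723, e3 q27561 (flp_j L806020) q28724, e3 q27562 (flp_j L806030) q28725, e3 q27563 L793809 q26415, e3 q27564 L793827 q26329, e3 q27565 (flp_j L801350) q28269, e3 q27566 L793848 q26330, e3 q27567 (flp_j L804373) q28547, e3 q27568 (flp_j L804456) q28556, e3 q27569 L793873 q26372, e3 q27570 L793886 q26340, e3 q27571 L793902 q26533, e3 q27572 L793918 q26556, e3 q27573 (flp_j L796693) q27933, e3 q27574 L793944 q26355, e3 q27575 L793954 q26562, e3 q27576 L793966 q26563, e3 q27577 (flp_j L800974) q28242, e3 q27578 L793994 q26566, e3 q27579 L794008 q26567, e3 q27580 (flp_j L797621) q27996, e3 q27581 (flp_j L800793) q28229, e3 q27582 (flp_j L800809) q28230, e3 q27583 L794060 q26568, trivial⟩ (by decide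 +kernel)

theorem ce_j_431 : ∀ r, r < 64 → sm gj (Qf (27584 + r)) = Qf (tab Gen.j (27584 + r)) :=
  edges_tab (sm gj) Qf (tab Gen.j) 27584 [(27584, 26569), (27585, 28335), (27586, 26373), (27587, 26374), (27588, 26375), (27589, 26362), (27590, 28177), (27591, 28182), (27592, 28183), (27593, 28189), (27594, 26370), (27595, 28697), (27596, 28698), (27597, 28739), (27598, 28740), (27599, 26719), (27600, 26716), (27601, 26731), (27602, 26732), (27603, 26733), (27604, 28069), (27605, 28070), (27606, 28071), (27607, 26400), (27608, 26401), (27609, 26402), (27610, 26403), (27611, 26404), (27612, 26405), (27613, 26406), (27614, 26407), (27615, 26408), (27616, 26409), (27617, 26410), (27618, 26411), (27619, 26412), (27620, 28720), (27621, 26413), (27622, 28542), (27623, 28543), (27624, 28544), (27625, 28755), (27626, 28756), (27627, 28757), (27628, 28758), (27629, 28759), (27630, 28760), (27631, 28761), (27632, 28762), (27633, 28764), (27634, 28765), (27635, 28766), (27636, 28767), (27637, 28546), (27638, 28545), (27639, 26680), (27640,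 26681), (27641, 26696), (27642, 26688), (27643, 26689), (27644, 26697), (27645, 26698), (27646, 27981), (27647, 27982)]
    ⟨e3 q27584 L794068 q26569, e3 q27585 (flp_j L802101) q28335, e3 q27586 L794088 q26373, e3 q27587 L794098 q26374, e3 q27588 L794112 q26375, e3 q27589 L794128 q26362, e3 q27590 (flp_j L800057) q28177, e3 q27591 (flp_j L800137) q28182, e3 q27592 (flp_j L800149) q28183, e3 q27593 (flp_j L800233) q28189, e3 q27594 L794178 q26370, e3 q27595 (flp_j L805788) q28697, e3 q27596 (flp_j L805798) q28698, e3 q27597 (flp_j L806186) q28739, e3 q27598 (flp_j L806196) q28740, e3 q27599 L794220 q26719, e3 q27600 L794232 q26716, e3 q27601 L794244 q26731, e3 q27602 L794256 q26732, e3 q27603 L794268 q26733, e3 q27604 (flp_j L798664) q28069, e3 q27605 (flp_j L798676) q28070, e3 q27606 (flp_j L798690) q28071, e3 q27607 L794294 q26400, e3 q27608 L794302 q26401, e3 q27609 L794312 q26402, e3 q27610 L794320 q26403, e3 q27611 L794330 q26404, e3 q27612 L794341 q26405, e3 q27613 L794353 q26406, e3 q27614 L794365 q26407, e3 q27615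 L794375 q26408, e3 q27616 L794385 q26409, e3 q27617 L794395 q26410, e3 q27618 L794403 q26411, e3 q27619 L794415 q26412, e3 q27620 (flp_j L805986) q28720, e3 q27621 L794431 q26413, e3 q27622 (flp_j L804305) q28542, e3 q27623 (flp_j L804319) q28543, e3 q27624 (flp_j L804331) q28544, e3 q27625 (flp_j L806332) q28755, e3 q27626 (flp_j L806340) q28756, e3 q27627 (flp_j L806350) q28757, e3 q27628 (flp_j L806358) q28758, e3 q27629 (flp_j L806368) q28759, e3 q27630 (flp_j L806378) q28760, e3 q27631 (flp_j L806390) q28761, e3 q27632 (flp_j L806404) q28762, e3 q27633 (flp_j L806424) q28764, e3 q27634 (flp_j L806434) q28765, e3 q27635 (flp_j L806446) q28766, e3 q27636 (flp_j L806456) q28767, e3 q27637 (flp_j L804353) q28546, e3 q27638 (flp_j L804343) q28545, e3 q27639 L794582 q26680, e3 q27640 L794592 q26681, e3 q27641 L794602 q26696, e3 q27642 L794614 q26688, e3 q27643 L794622 q26689, e3 q27644 L794632 q26697, e3 q27645 L794640 q26698, e3 q27646 (flp_j L797413) q27981, e3 q27647 (flp_j L797429) q27982, trivial⟩ (by decide +kernel)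

theorem ce_j_432 : ∀ r, r < 64 → sm gj (Qf (27648 + r)) = Qf (tab Gen.j (27648 + r)) :=
  edges_tab (sm gj) Qf (tab Gen.j) 27648 [(27648, 28021), (27649, 28022), (27650, 28023), (27651, 28117), (27652, 26440), (27653, 26441), (27654, 26443), (27655, 26444), (27656, 26446), (27657, 26447), (27658, 26448), (27659, 26449), (27660, 26451), (27661, 26452), (27662, 28795), (27663, 28796), (27664, 26656), (27665, 28797), (27666, 28798), (27667, 26661), (27668, 28799), (27669, 28800), (27670, 28801), (27671, 28802), (27672, 28803), (27673, 26663), (27674, 28804), (27675, 28532), (27676, 28018), (27677, 28019), (27678, 28020), (27679, 28024), (27680, 28025), (27681, 28026), (27682, 28159), (27683, 28160), (27684, 28161), (27685, 26492), (27686, 26493), (27687, 26494), (27688, 26495), (27689, 26498), (27690, 26499), (27691, 26500), (27692, 26501), (27693, 26502), (27694, 26503), (27695, 26504), (27696, 26505), (27697, 26506), (27698, 26507), (27699, 28557), (27700, 26512), (27701, 26513), (27702, 26514), (27703, 26515), (27704, 28721),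 (27705, 28558), (27706, 28559), (27707, 28561), (27708, 28473), (27709, 28474), (27710, 28266), (27711, 28267)]
    ⟨e3 q27648 (flp_j L797971) q28021, e3 q27649 (flp_j L797983) q28022, e3 q27650 (flp_j L797997) q28023, e3 q27651 (flp_j L799275) q28117, e3 q27652 L794697 q26440, e3 q27653 L794705 q26441, e3 q27654 L794716 q26443, e3 q27655 L794726 q26444, e3 q27656 L794736 q26446, e3 q27657 L794746 q26447, e3 q27658 L794759 q26448, e3 q27659 L794767 q26449, e3 q27660 L794777 q26451, e3 q27661 L794785 q26452, e3 q27662 (flp_j L806699) q28795, e3 q27663 (flp_j L806709) q28796, e3 q27664 L794809 q26656, e3 q27665 (flp_j L806721) q28797, e3 q27666 (flp_j L806731) q28798, e3 q27667 L794837 q26661, e3 q27668 (flp_j L806743) q28799, e3 q27669 (flp_j L806753) q28800, e3 q27670 (flp_j L806765) q28801, e3 q27671 (flp_j L806773) q28802, e3 q27672 (flp_j L806779) q28803, e3 q27673 L794874 q26663, e3 q27674 (flp_j L806788) q28804, e3 q27675 (flp_j L804206) q28532, e3 q27676 (flp_j L797932) q28018, e3 q27677 (flp_j L797946) q28019, e3 q27678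 (flp_j L797957) q28020, e3 q27679 (flp_j L798007) q28024, e3 q27680 (flp_j L798019) q28025, e3 q27681 (flp_j L798033) q28026, e3 q27682 (flp_j L799830) q28159, e3 q27683 (flp_j L799838) q28160, e3 q27684 (flp_j L799848) q28161, e3 q27685 L794952 q26492, e3 q27686 L794962 q26493, e3 q27687 L794972 q26494, e3 q27688 L794980 q26495, e3 q27689 L794988 q26498, e3 q27690 L794998 q26499, e3 q27691 L795011 q26500, e3 q27692 L795019 q26501, e3 q27693 L795025 q26502, e3 q27694 L795033 q26503, e3 q27695 L795041 q26504, e3 q27696 L795047 q26505, e3 q27697 L795055 q26506, e3 q27698 L795063 q26507, e3 q27699 (flp_j L804464) q28557, e3 q27700 L795079 q26512, e3 q27701 L795087 q26513, e3 q27702 L795095 q26514, e3 q27703 L795101 q26515, e3 q27704 (flp_j L805992) q28721, e3 q27705 (flp_j L804476) q28558, e3 q27706 (flp_j L804490) q28559, e3 q27707 (flp_j L804516) q28561, e3 q27708 (flp_j L803567) q28473, e3 q27709 (flp_j L803579) q28474, e3 q27710 (flp_j L801304) q28266, e3 q27711 (flp_j L801318) q28267, trivial⟩ (by decide +kernel)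

theorem ce_j_433 : ∀ r, r < 64 → sm gj (Qf (27712 + r)) = Qf (tab Gen.j (27712 + r)) :=
  edges_tab (sm gj) Qf (tab Gen.j) 27712 [(27712, 28476), (27713, 28477), (27714, 28598), (27715, 28825), (27716, 28826), (27717, 28827), (27718, 28497), (27719, 28498), (27720, 28828), (27721, 28829), (27722, 28830), (27723, 28831), (27724, 28832), (27725, 28833), (27726, 28834), (27727, 28835), (27728, 28837), (27729, 28838), (27730, 26510), (27731, 26511), (27732, 28864), (27733, 28865), (27734, 28840), (27735, 28841), (27736, 26517), (27737, 28318), (27738, 26550), (27739, 26526), (27740, 28382), (27741, 27947), (27742, 27936), (27743, 28220), (27744, 28221), (27745, 28344), (27746, 28345), (27747, 28346), (27748, 28347), (27749, 28348), (27750, 28349), (27751, 28218), (27752, 28219), (27753, 28383), (27754, 28384), (27755, 28385), (27756, 28386), (27757, 28387), (27758, 28388), (27759, 28389), (27760, 28390), (27761, 28391), (27762, 28392), (27763, 28393), (27764, 28394), (27765, 28395), (27766, 28396), (27767, 28294), (27768, 26704),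 (27769, 26705), (27770, 27941), (27771, 27942), (27772, 28288), (27773, 27946), (27774, 27935), (27775, 28731)]
    ⟨e3 q27712 (flp_j L803604) q28476, e3 q27713 (flp_j L803618) q28477, e3 q27714 (flp_j L804846) q28598, e3 q27715 (flp_j L806928) q28825, e3 q27716 (flp_j L806938) q28826, e3 q27717 (flp_j L806948) q28827, e3 q27718 (flp_j L803840) q28497, e3 q27719 (flp_j L803854) q28498, e3 q27720 (flp_j L806958) q28828, e3 q27721 (flp_j L806968) q28829, e3 q27722 (flp_j L806980) q28830, e3 q27723 (flp_j L806988) q28831, e3 q27724 (flp_j L806994) q28832, e3 q27725 (flp_j L807001) q28833, e3 q27726 (flp_j L807009) q28834, e3 q27727 (flp_j L807017) q28835, e3 q27728 (flp_j L807031) q28837, e3 q27729 (flp_j L807039) q28838, e3 q27730 L795286 q26510, e3 q27731 L795292 q26511, e3 q27732 (flp_j L807230) q28864, e3 q27733 (flp_j L807236) q28865, e3 q27734 (flp_j L807053) q28840, e3 q27735 (flp_j L807061) q28841, e3 q27736 L795318 q26517, e3 q27737 (flp_j L801932) q28318, e3 q27738 L795334 q26550, e3 q27739 L795350 q26526, e3 q27740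 (flp_j L802605) q28382, e3 q27741 (flp_j L796919) q27947, e3 q27742 (flp_j L796735) q27936, e3 q27743 (flp_j L800680) q28220, e3 q27744 (flp_j L800696) q28221, e3 q27745 (flp_j L802210) q28344, e3 q27746 (flp_j L802224) q28345, e3 q27747 (flp_j L802235) q28346, e3 q27748 (flp_j L802253) q28347, e3 q27749 (flp_j L802267) q28348, e3 q27750 (flp_j L802281) q28349, e3 q27751 (flp_j L800649) q28218, e3 q27752 (flp_j L800665) q28219, e3 q27753 (flp_j L802617) q28383, e3 q27754 (flp_j L802629) q28384, e3 q27755 (flp_j L802640) q28385, e3 q27756 (flp_j L802654) q28386, e3 q27757 (flp_j L802666) q28387, e3 q27758 (flp_j L802678) q28388, e3 q27759 (flp_j L802692) q28389, e3 q27760 (flp_j L802704) q28390, e3 q27761 (flp_j L802716) q28391, e3 q27762 (flp_j L802730) q28392, e3 q27763 (flp_j L802742) q28393, e3 q27764 (flp_j L802756) q28394, e3 q27765 (flp_j L802772) q28395, e3 q27766 (flp_j L802784) q28396, e3 q27767 (flp_j L801652) q28294, e3 q27768 L795548 q26704, e3 q27769 L795558 q26705, e3 q27770 (flp_j L796825) q27941, e3 q27771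 (flp_j L796841) q27942, e3 q27772 (flp_j L801584) q28288, e3 q27773 (flp_j L796909) q27946, e3 q27774 (flp_j L796721) q27935, e3 q27775 (flp_j L806083) q28731, trivial⟩ (by decide +kernel)

theorem ce_j_434 : ∀ r, r < 64 → sm gj (Qf (27776 + r)) = Qf (tab Gen.j (27776 + r)) :=
  edges_tab (sm gj) Qf (tab Gen.j) 27776 [(27776, 28732), (27777, 28059), (27778, 28060), (27779, 28733), (27780, 28734), (27781, 28735), (27782, 28738), (27783, 28362), (27784, 28243), (27785, 28244), (27786, 28367), (27787, 28368), (27788, 26585), (27789, 26586), (27790, 26595), (27791, 28249), (27792, 28250), (27793, 28057), (27794, 28058), (27795, 27939), (27796, 28908), (27797, 27945), (27798, 28067), (27799, 28068), (27800, 28077), (27801, 27929), (27802, 26598), (27803, 28423), (27804, 28293), (27805, 28257), (27806, 28258), (27807, 28434), (27808, 28447), (27809, 28053), (27810, 28054), (27811, 28451), (27812, 28231), (27813, 28232), (27814, 28452), (27815, 28453), (27816, 28454), (27817, 26629), (27818, 26630), (27819, 26631), (27820, 26632),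 (27821, 26633), (27822, 26634), (27823, 26635), (27824, 26636), (27825, 28463), (27826, 28483), (27827, 28484), (27828, 28485), (27829, 28924), (27830, 28925), (27831, 28926), (27832, 28927), (27833, 28928), (27834, 28929), (27835, 28014), (27836, 28015), (27837, 28499), (27838, 28500), (27839, 28501)]
    ⟨e3 q27776 (flp_j L806095) q28732, e3 q27777 (flp_j L798506) q28059, e3 q27778 (flp_j L798522) q28060, e3 q27779 (flp_j L806113) q28733, e3 q27780 (flp_j L806127) q28734, e3 q27781 (flp_j L806141) q28735, e3 q27782 (flp_j L806176) q28738, e3 q27783 (flp_j L802393) q28362, e3 q27784 (flp_j L800988) q28243, e3 q27785 (flp_j L800998) q28244, e3 q27786 (flp_j L802434) q28367, e3 q27787 (flp_j L802444) q28368, e3 q27788 L795677 q26585, e3 q27789 L795685 q26586, e3 q27790 L795691 q26595, e3 q27791 (flp_j L801066) q28249, e3 q27792 (flp_j L801080) q28250, e3 q27793 (flp_j L798472) q28057, e3 q27794 (flp_j L798488) q28058, e3 q27795 (flp_j L796787) q27939, e3 q27796 (flp_j L807534) q28908, e3 q27797 (flp_j L796891) q27945, e3 q27798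 (flp_j L798634) q28067, e3 q27799 (flp_j L798648) q28068, e3 q27800 (flp_j L798786) q28077, e3 q27801 (flp_j L796621) q27929, e3 q27802 L795761 q26598, e3 q27803 (flp_j L802998) q28423, e3 q27804 (flp_j L801642) q28293, e3 q27805 (flp_j L801176) q28257, e3 q27806 (flp_j L801190) q28258, e3 q27807 (flp_j L803122) q28434, e3 q27808 (flp_j L803263) q28447, e3 q27809 (flp_j L798410) q28053, e3 q27810 (flp_j L798426) q28054, e3 q27811 (flp_j L803315) q28451, e3 q27812 (flp_j L800825) q28231, e3 q27813 (flp_j L800839) q28232, e3 q27814 (flp_j L803329) q28452, e3 q27815 (flp_j L803339) q28453, e3 q27816 (flp_j L803351) q28454, e3 q27817 L795856 q26629, e3 q27818 L795864 q26630, e3 q27819 L795870 q26631, e3 q27820 L795876 q26632, e3 q27821 L795884 q26633, e3 q27822 L795890 q26634, e3 q27823 L795900 q26635, e3 q27824 L795906 q26636, e3 q27825 (flp_j L803456) q28463, e3 q27826 (flp_j L803679) q28483, e3 q27827 (flp_j L803693) q28484, e3 q27828 (flp_j L803711) q28485, e3 q27829 (flp_j L807642) q28924, e3 q27830 (flp_j L807650) q28925,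 e3 q27831 (flp_j L807656) q28926, e3 q27832 (flp_j L807664) q28927, e3 q27833 (flp_j L807670) q28928, e3 q27834 (flp_j L807677) q28929, e3 q27835 (flp_j L797871) q28014, e3 q27836 (flp_j L797885) q28015, e3 q27837 (flp_j L803872) q28499, e3 q27838 (flp_j L803882) q28500, e3 q27839 (flp_j L803890) q28501, trivial⟩ (by decide +kernel)

theorem ce_j_435 : ∀ r, r < 64 → sm gj (Qf (27840 + r)) = Qf (tab Gen.j (27840 + r)) :=
  edges_tab (sm gj) Qf (tab Gen.j) 27840 [(27840, 28502), (27841, 26649), (27842, 28597), (27843, 28184), (27844, 28142), (27845, 26724), (27846, 26725), (27847, 28586), (27848, 28191), (27849, 28808), (27850, 28195), (27851, 28034), (27852, 28517), (27853, 28461), (27854, 28810), (27855, 28460), (27856, 28459), (27857, 28131), (27858, 28132), (27859, 28579), (27860, 28582), (27861, 28583), (27862, 28584), (27863, 26682), (27864, 26691), (27865, 28600), (27866, 28125), (27867, 28126), (27868, 28519), (27869, 28520), (27870, 28524), (27871, 28782), (27872, 28783), (27873, 28784), (27874, 27958), (27875, 27959),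 (27876, 28549), (27877, 28550), (27878, 28551), (27879, 28063), (27880, 28064), (27881, 28785), (27882, 28786), (27883, 28787), (27884, 28518), (27885, 26694), (27886, 26695), (27887, 28972), (27888, 28973), (27889, 28788), (27890, 26700), (27891, 28626), (27892, 28627), (27893, 28628), (27894, 28894), (27895, 28895), (27896, 28896), (27897, 28635), (27898, 28636), (27899, 28637), (27900, 26726), (27901, 26727), (27902, 26728), (27903, 26744)]
    ⟨e3 q27840 (flp_j L803898) q28502, e3 q27841 L796018 q26649, e3 q27842 (flp_j L804834) q28597, e3 q27843 (flp_j L800167) q28184, e3 q27844 (flp_j L799602) q28142, e3 q27845 L796040 q26724, e3 q27846 L796050 q26725, e3 q27847 (flp_j L804722) q28586, e3 q27848 L800269 q28191, e3 q27849 (flp_j L806819) q28808, e3 q27850 L800327 q28195, e3 q27851 L798137 q28034, e3 q27852 (flp_j L804057) q28517, e3 q27853 (flp_j L803430) q28461, e3 q27854 (flp_j L806839) q28810, e3 q27855 (flp_j L803416) q28460, e3 q27856 (flp_j L803402) q28459, e3 q27857 (flp_j L799455) q28131, e3 q27858 (flp_j L799471)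 q28132, e3 q27859 (flp_j L804647) q28579, e3 q27860 (flp_j L804681) q28582, e3 q27861 (flp_j L804689) q28583, e3 q27862 (flp_j L804695) q28584, e3 q27863 L796151 q26682, e3 q27864 L796157 q26691, e3 q27865 (flp_j L804870) q28600, e3 q27866 (flp_j L799377) q28125, e3 q27867 (flp_j L799391) q28126, e3 q27868 (flp_j L804083) q28519, e3 q27869 (flp_j L804097) q28520, e3 q27870 (flp_j L804136) q28524, e3 q27871 (flp_j L806587) q28782, e3 q27872 (flp_j L806597) q28783, e3 q27873 (flp_j L806607) q28784, e3 q27874 (flp_j L797089) q27958, e3 q27875 (flp_j L797105) q27959, e3 q27876 (flp_j L804395) q28549, e3 q27877 (flp_j L804405) q28550, e3 q27878 (flp_j L804414) q28551, e3 q27879 (flp_j L798568) q28063, e3 q27880 (flp_j L798584) q28064, e3 q27881 (flp_j L806621) q28785, e3 q27882 (flp_j L806629) q28786, e3 q27883 (flp_j L806635) q28787, e3 q27884 (flp_j L804073) q28518, e3 q27885 L796296 q26694, e3 q27886 L796304 q26695, e3 q27887 (flp_j L807959) q28972, e3 q27888 (flp_j L807967) q28973, e3 q27889 (flp_j L806644) q28788, e3 q27890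 L796334 q26700, e3 q27891 (flp_j L805167) q28626, e3 q27892 (flp_j L805173) q28627, e3 q27893 (flp_j L805177) q28628, e3 q27894 (flp_j L807436) q28894, e3 q27895 (flp_j L807446) q28895, e3 q27896 (flp_j L807454) q28896, e3 q27897 (flp_j L805253) q28635, e3 q27898 (flp_j L805259) q28636, e3 q27899 (flp_j L805268) q28637, e3 q27900 L796387 q26726, e3 q27901 L796397 q26727, e3 q27902 L796407 q26728, e3 q27903 L796415 q26744, trivial⟩ (by decide +kernel)

theorem ce_j_436 : ∀ r, r < 64 → sm gj (Qf (27904 + r)) = Qf (tab Gen.j (27904 + r)) :=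
  edges_tab (sm gj) Qf (tab Gen.j) 27904 [(27904, 26745), (27905, 28748), (27906, 26746), (27907, 28747), (27908, 26721), (27909, 28599), (27910, 28939), (27911, 28940), (27912, 28982), (27913, 28983), (27914, 28751), (27915, 27962), (27916, 27963), (27917, 27964), (27918, 28749), (27919, 28750), (27920, 28065), (27921, 28066), (27922, 28072), (27923, 26743), (27924, 26742), (27925, 28995), (27926, 28984), (27927, 27223), (27928, 27224), (27929, 27801), (27930, 26756), (27931, 26758), (27932, 27173), (27933, 27573), (27934, 28998), (27935, 27774), (27936, 27742), (27937, 27259), (27938, 27042), (27939, 27795), (27940, 26766), (27941, 27770), (27942, 27771), (27943, 26770), (27944, 29005), (27945, 27797), (27946, 27773), (27947, 27741), (27948, 27258), (27949, 27169), (27950, 27041), (27951, 26788), (27952, 26789), (27953, 26790), (27954, 27335), (27955, 27336), (27956, 27361), (27957, 26923), (27958, 27874), (27959, 27875), (27960, 27507), (27961, 27508), (27962, 27915), (27963, 27916), (27964, 27917), (27965, 29018), (27966,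 29011), (27967, 29012)]
    ⟨e3 q27904 L796423 q26745, e3 q27905 (flp_j L806269) q28748, e3 q27906 L796443 q26746, e3 q27907 (flp_j L806255) q28747, e3 q27908 L796459 q26721, e3 q27909 (flp_j L804858) q28599, e3 q27910 (flp_j L807744) q28939, e3 q27911 (flp_j L807754) q28940, e3 q27912 (flp_j L808020) q28982, e3 q27913 (flp_j L808032) q28983, e3 q27914 (flp_j L806305) q28751, e3 q27915 (flp_j L797149) q27962, e3 q27916 (flp_j L797161) q27963, e3 q27917 (flp_j L797173) q27964, e3 q27918 (flp_j L806279) q28749, e3 q27919 (flp_j L806291) q28750, e3 q27920 (flp_j L798602) q28065, e3 q27921 (flp_j L798616) q28066, e3 q27922 (flp_j L798706) q28072, e3 q27923 L796555 q26743, e3 q27924 L796563 q26742, e3 q27925 (flp_j L808122) q28995, e3 q27926 (flp_j L808040) q28984, e3 q27927 L796585 q27223, e3 q27928 L796601 q27224, e3 q27929 L796621 q27801, e3 q27930 L796639 q26756, e3 q27931 L796657 q26758, e3 q27932 L796675 q27173, e3 q27933 L796693 q27573, e3 q27934 (flp_j L808174) q28998, e3 q27935 L796721 q27774, e3 q27936 L796735 q27742,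 e3 q27937 L796755 q27259, e3 q27938 L796772 q27042, e3 q27939 L796787 q27795, e3 q27940 L796807 q26766, e3 q27941 L796825 q27770, e3 q27942 L796841 q27771, e3 q27943 L796859 q26770, e3 q27944 (flp_j L808298) q29005, e3 q27945 L796891 q27797, e3 q27946 L796909 q27773, e3 q27947 L796919 q27741, e3 q27948 L796935 q27258, e3 q27949 L796949 q27169, e3 q27950 L796969 q27041, e3 q27951 L796981 q26788, e3 q27952 L796997 q26789, e3 q27953 L797014 q26790, e3 q27954 L797030 q27335, e3 q27955 L797046 q27336, e3 q27956 L797064 q27361, e3 q27957 L797075 q26923, e3 q27958 L797089 q27874, e3 q27959 L797105 q27875, e3 q27960 L797120 q27507, e3 q27961 L797136 q27508, e3 q27962 L797149 q27915, e3 q27963 L797161 q27916, e3 q27964 L797173 q27917, e3 q27965 (flp_j L808508) q29018, e3 q27966 (flp_j L808396) q29011, e3 q27967 (flp_j L808412) q29012, trivial⟩ (by decide +kernel)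

theorem ce_j_437 : ∀ r, r < 64 → sm gj (Qf (27968 + r)) = Qf (tab Gen.j (27968 + r)) :=
  edges_tab (sm gj) Qf (tab Gen.j) 27968 [(27968, 29013), (27969, 26878), (27970, 26801), (27971, 26802), (27972, 26803), (27973, 26804), (27974, 26805), (27975, 27135), (27976, 27314), (27977, 27315), (27978, 26806), (27979, 26807), (27980, 26808), (27981, 27646), (27982, 27647), (27983, 29034), (27984, 29035), (27985, 29036), (27986, 29037), (27987, 29038), (27988, 29039), (27989, 29044), (27990, 29045), (27991, 29046), (27992, 27322), (27993, 27323), (27994, 26813), (27995, 29060), (27996, 27580), (27997, 26839), (27998, 26840), (27999, 26841), (28000, 26842), (28001, 26843), (28002, 26844), (28003, 27386), (28004, 27340), (28005, 27341), (28006, 27342), (28007, 26846), (28008, 26847), (28009, 26848), (28010, 27520), (28011, 27243), (28012, 27522), (28013, 27220), (28014, 27835), (28015, 27836), (28016, 27393), (28017, 27394), (28018, 27676), (28019, 27677), (28020, 27678), (28021, 27648), (28022, 27649), (28023, 27650), (28024, 27679),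 (28025, 27680), (28026, 27681), (28027, 27385), (28028, 29062), (28029, 29063), (28030, 29064), (28031, 29065)]
    ⟨e3 q27968 (flp_j L808430) q29013, e3 q27969 L797239 q26878, e3 q27970 L797255 q26801, e3 q27971 L797271 q26802, e3 q27972 L797286 q26803, e3 q27973 L797300 q26804, e3 q27974 L797314 q26805, e3 q27975 L797335 q27135, e3 q27976 L797345 q27314, e3 q27977 L797361 q27315, e3 q27978 L797375 q26806, e3 q27979 L797387 q26807, e3 q27980 L797399 q26808, e3 q27981 L797413 q27646, e3 q27982 L797429 q27647, e3 q27983 (flp_j L808735) q29034, e3 q27984 (flp_j L808751) q29035, e3 q27985 (flp_j L808764) q29036, e3 q27986 (flp_j L808782) q29037, e3 q27987 (flp_j L808796) q29038, e3 q27988 (flp_j L808810) q29039, e3 q27989 (flp_j L808888) q29044, e3 q27990 (flp_j L808900) q29045, e3 q27991 (flp_j L808912) q29046, e3 q27992 L797559 q27322, e3 q27993 L797574 q27323, e3 q27994 L797590 q26813, e3 q27995 (flp_j L809104) q29060, e3 q27996 L797621 q27580, e3 q27997 L797633 q26839, e3 q27998 L797647 q26840, e3 q27999 L797661 q26841,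 e3 q28000 L797677 q26842, e3 q28001 L797691 q26843, e3 q28002 L797705 q26844, e3 q28003 L797721 q27386, e3 q28004 L797729 q27340, e3 q28005 L797743 q27341, e3 q28006 L797755 q27342, e3 q28007 L797769 q26846, e3 q28008 L797779 q26847, e3 q28009 L797791 q26848, e3 q28010 L797805 q27520, e3 q28011 L797821 q27243, e3 q28012 L797839 q27522, e3 q28013 L797853 q27220, e3 q28014 L797871 q27835, e3 q28015 L797885 q27836, e3 q28016 L797901 q27393, e3 q28017 L797917 q27394, e3 q28018 L797932 q27676, e3 q28019 L797946 q27677, e3 q28020 L797957 q27678, e3 q28021 L797971 q27648, e3 q28022 L797983 q27649, e3 q28023 L797997 q27650, e3 q28024 L798007 q27679, e3 q28025 L798019 q27680, e3 q28026 L798033 q27681, e3 q28027 (flp_j L798051) q27385, e3 q28028 (flp_j L809134) q29062, e3 q28029 (flp_j L809148) q29063, e3 q28030 (flp_j L809158) q29064, e3 q28031 (flp_j L809178) q29065, trivial⟩ (by decide +kernel)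

theorem ce_j_438 : ∀ r, r < 64 → sm gj (Qf (28032 + r)) = Qf (tab Gen.j (28032 + r)) :=
  edges_tab (sm gj) Qf (tab Gen.j) 28032 [(28032, 29067), (28033, 29068), (28034, 27851), (28035, 29074), (28036, 29075), (28037, 27400), (28038, 26855), (28039, 26914), (28040, 27363), (28041, 27397), (28042, 27144), (28043, 27136), (28044, 26862), (28045, 29105), (28046, 27040), (28047, 27043), (28048, 27044), (28049, 27045), (28050, 26871), (28051, 26872), (28052, 26875), (28053, 27809), (28054, 27810), (28055, 29110), (28056, 29111), (28057, 27793), (28058, 27794), (28059, 27777), (28060, 27778), (28061, 29033), (28062, 26886), (28063, 27879), (28064, 27880), (28065, 27920), (28066, 27921), (28067, 27798), (28068, 27799), (28069, 27604), (28070, 27605), (28071, 27606), (28072, 27922), (28073, 26895), (28074, 26896), (28075, 29128), (28076, 29129), (28077, 27800), (28078, 26912), (28079, 26913), (28080, 26915), (28081, 26916), (28082, 26917), (28083, 26918), (28084, 26919), (28085, 26920), (28086, 26921), (28087, 26922), (28088, 29019),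 (28089, 27408), (28090, 27409), (28091, 26924), (28092, 26925), (28093, 26926), (28094, 27133), (28095, 27134)]
    ⟨e3 q28032 (flp_j L809212) q29067, e3 q28033 (flp_j L809226) q29068, e3 q28034 (flp_j L798137) q27851, e3 q28035 (flp_j L809308) q29074, e3 q28036 (flp_j L809320) q29075, e3 q28037 L798169 q27400, e3 q28038 L798179 q26855, e3 q28039 L798200 q26914, e3 q28040 L798212 q27363, e3 q28041 L798228 q27397, e3 q28042 L798241 q27144, e3 q28043 L798256 q27136, e3 q28044 L798269 q26862, e3 q28045 (flp_j L809747) q29105, e3 q28046 L798303 q27040, e3 q28047 L798319 q27043, e3 q28048 L798335 q27044, e3 q28049 L798350 q27045, e3 q28050 L798364 q26871, e3 q28051 L798378 q26872, e3 q28052 L798396 q26875, e3 q28053 L798410 q27809, e3 q28054 L798426 q27810, e3 q28055 (flp_j L809827) q29110, e3 q28056 (flp_j L809841) q29111, e3 q28057 L798472 q27793, e3 q28058 L798488 q27794, e3 q28059 L798506 q27777, e3 q28060 L798522 q27778, e3 q28061 (flp_j L808719) q29033, e3 q28062 L798554 q26886, e3 q28063 L798568 q27879, e3 q28064 L798584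 q27880, e3 q28065 L798602 q27920, e3 q28066 L798616 q27921, e3 q28067 L798634 q27798, e3 q28068 L798648 q27799, e3 q28069 L798664 q27604, e3 q28070 L798676 q27605, e3 q28071 L798690 q27606, e3 q28072 L798706 q27922, e3 q28073 L798722 q26895, e3 q28074 L798738 q26896, e3 q28075 (flp_j L810125) q29128, e3 q28076 (flp_j L810141) q29129, e3 q28077 L798786 q27800, e3 q28078 L798802 q26912, e3 q28079 L798818 q26913, e3 q28080 L798832 q26915, e3 q28081 L798846 q26916, e3 q28082 L798862 q26917, e3 q28083 L798877 q26918, e3 q28084 L798893 q26919, e3 q28085 L798906 q26920, e3 q28086 L798918 q26921, e3 q28087 L798930 q26922, e3 q28088 (flp_j L808530) q29019, e3 q28089 L798954 q27408, e3 q28090 L798970 q27409, e3 q28091 L798981 q26924, e3 q28092 L798995 q26925, e3 q28093 L799007 q26926, e3 q28094 L799021 q27133, e3 q28095 L799037 q27134, trivial⟩ (by decide +kernel)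

theorem ce_j_439 : ∀ r, r < 64 → sm gj (Qf (28096 + r)) = Qf (tab Gen.j (28096 + r)) :=
  edges_tab (sm gj) Qf (tab Gen.j) 28096 [(28096, 29131), (28097, 29132), (28098, 29133), (28099, 29066), (28100, 29134), (28101, 29135), (28102, 29136), (28103, 29137), (28104, 29138), (28105, 29139), (28106, 29140), (28107, 29141), (28108, 29142), (28109, 29016), (28110, 29147), (28111, 29148), (28112, 29149), (28113, 27371), (28114, 27372), (28115, 27402), (28116, 27403), (28117, 27651), (28118, 26945), (28119, 26946), (28120, 26950), (28121, 26951), (28122, 26954), (28123, 26955), (28124, 26956), (28125, 27866), (28126, 27867), (28127, 27239), (28128, 26961), (28129, 26962), (28130, 26963), (28131, 27857), (28132, 27858), (28133, 29177), (28134, 29178), (28135, 27519), (28136, 27523), (28137, 27517), (28138, 29179), (28139, 29180), (28140, 29181), (28141, 27513), (28142, 27844), (28143, 29182), (28144, 29183), (28145, 26959), (28146, 26960), (28147, 29203), (28148, 29204), (28149, 29187), (28150, 29188), (28151, 29189), (28152, 26966),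 (28153, 27139), (28154, 26968), (28155, 26969), (28156, 29209), (28157, 29210), (28158, 27238), (28159, 27682)]
    ⟨e3 q28096 (flp_j L810177) q29131, e3 q28097 (flp_j L810193) q29132, e3 q28098 (flp_j L810207) q29133, e3 q28099 (flp_j L809200) q29066, e3 q28100 (flp_j L810223) q29134, e3 q28101 (flp_j L810239) q29135, e3 q28102 (flp_j L810252) q29136, e3 q28103 (flp_j L810268) q29137, e3 q28104 (flp_j L810284) q29138, e3 q28105 (flp_j L810297) q29139, e3 q28106 (flp_j L810311) q29140, e3 q28107 (flp_j L810323) q29141, e3 q28108 (flp_j L810337) q29142, e3 q28109 (flp_j L808476) q29016, e3 q28110 (flp_j L810404) q29147, e3 q28111 (flp_j L810418) q29148, e3 q28112 (flp_j L810428) q29149, e3 q28113 L799222 q27371, e3 q28114 L799238 q27372, e3 q28115 L799249 q27402, e3 q28116 L799261 q27403, e3 q28117 L799275 q27651, e3 q28118 L799287 q26945, e3 q28119 L799301 q26946, e3 q28120 L799315 q26950, e3 q28121 L799329 q26951, e3 q28122 L799343 q26954, e3 q28123 L799353 q26955, e3 q28124 L799363 q26956, e3 q28125 L799377 q27866, e3 q28126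 L799391 q27867, e3 q28127 L799405 q27239, e3 q28128 L799417 q26961, e3 q28129 L799429 q26962, e3 q28130 L799439 q26963, e3 q28131 L799455 q27857, e3 q28132 L799471 q27858, e3 q28133 (flp_j L810745) q29177, e3 q28134 (flp_j L810759) q29178, e3 q28135 L799515 q27519, e3 q28136 L799531 q27523, e3 q28137 L799547 q27517, e3 q28138 (flp_j L810775) q29179, e3 q28139 (flp_j L810789) q29180, e3 q28140 (flp_j L810803) q29181, e3 q28141 L799580 q27513, e3 q28142 L799602 q27844, e3 q28143 (flp_j L810814) q29182, e3 q28144 (flp_j L810824) q29183, e3 q28145 L799636 q26959, e3 q28146 L799652 q26960, e3 q28147 (flp_j L811115) q29203, e3 q28148 (flp_j L811131) q29204, e3 q28149 (flp_j L810880) q29187, e3 q28150 (flp_j L810890) q29188, e3 q28151 (flp_j L810908) q29189, e3 q28152 L799734 q26966, e3 q28153 L799750 q27139, e3 q28154 L799762 q26968, e3 q28155 L799778 q26969, e3 q28156 (flp_j L811205) q29209, e3 q28157 (flp_j L811221) q29210, e3 q28158 L799816 q27238, e3 q28159 L799830 q27682, trivial⟩ (by decide +kernel)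

theorem ce_j_440 : ∀ r, r < 64 → sm gj (Qf (28160 + r)) = Qf (tab Gen.j (28160 + r)) :=
  edges_tab (sm gj) Qf (tab Gen.j) 28160 [(28160, 27683), (28161, 27684), (28162, 26991), (28163, 26992), (28164, 26998), (28165, 26999), (28166, 27000), (28167, 27010), (28168, 27011), (28169, 27384), (28170, 26984), (28171, 26985), (28172, 29224), (28173, 29225), (28174, 27237), (28175, 27017), (28176, 27018), (28177, 27590), (28178, 29218), (28179, 29219), (28180, 27247), (28181, 27248), (28182, 27591), (28183, 27592), (28184, 27843), (28185, 29220), (28186, 29221), (28187, 27535), (28188, 27533), (28189, 27593), (28190, 27433), (28191, 27848), (28192, 27008), (28193, 29239), (28194, 29222), (28195, 27850), (28196, 27015), (28197, 27016), (28198, 29241), (28199, 29228), (28200, 29229), (28201, 27399), (28202, 27143), (28203, 27021), (28204, 27024), (28205, 29245), (28206, 27030), (28207, 27056), (28208, 27057), (28209, 27051), (28210, 27052), (28211, 29246), (28212, 27074), (28213, 27037), (28214, 27071), (28215, 27072), (28216, 27066),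 (28217, 27067), (28218, 27751), (28219, 27752), (28220, 27743), (28221, 27744), (28222, 29106), (28223, 29010)]
    ⟨e3 q28160 L799838 q27683, e3 q28161 L799848 q27684, e3 q28162 L799859 q26991, e3 q28163 L799875 q26992, e3 q28164 L799893 q26998, e3 q28165 L799903 q26999, e3 q28166 L799915 q27000, e3 q28167 L799931 q27010, e3 q28168 L799939 q27011, e3 q28169 L799955 q27384, e3 q28170 L799963 q26984, e3 q28171 L799979 q26985, e3 q28172 (flp_j L811401) q29224, e3 q28173 (flp_j L811417) q29225, e3 q28174 L800021 q27237, e3 q28175 L800033 q27017, e3 q28176 L800043 q27018, e3 q28177 L800057 q27590, e3 q28178 (flp_j L811315) q29218, e3 q28179 (flp_j L811331) q29219, e3 q28180 L800101 q27247, e3 q28181 L800117 q27248, e3 q28182 L800137 q27591, e3 q28183 L800149 q27592, e3 q28184 L800167 q27843, e3 q28185 (flp_j L811347) q29220, e3 q28186 (flp_j L811359) q29221, e3 q28187 L800205 q27535, e3 q28188 L800217 q27533, e3 q28189 L800233 q27593, e3 q28190 L800245 q27433, e3 q28191 (flp_j L800269) q27848, e3 q28192 L800281 q27008, e3 q28193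 (flp_j L811647) q29239, e3 q28194 (flp_j L811375) q29222, e3 q28195 (flp_j L800327) q27850, e3 q28196 L800335 q27015, e3 q28197 L800343 q27016, e3 q28198 (flp_j L811677) q29241, e3 q28199 (flp_j L811461) q29228, e3 q28200 (flp_j L811475) q29229, e3 q28201 L800383 q27399, e3 q28202 L800395 q27143, e3 q28203 L800407 q27021, e3 q28204 L800425 q27024, e3 q28205 (flp_j L811729) q29245, e3 q28206 L800461 q27030, e3 q28207 L800477 q27056, e3 q28208 L800491 q27057, e3 q28209 L800507 q27051, e3 q28210 L800523 q27052, e3 q28211 (flp_j L811749) q29246, e3 q28212 L800557 q27074, e3 q28213 L800573 q27037, e3 q28214 L800587 q27071, e3 q28215 L800601 q27072, e3 q28216 L800619 q27066, e3 q28217 L800633 q27067, e3 q28218 L800649 q27751, e3 q28219 L800665 q27752, e3 q28220 L800680 q27743, e3 q28221 L800696 q27744, e3 q28222 (flp_j L809763) q29106, e3 q28223 (flp_j L808384) q29010, trivial⟩ (by decide +kernel)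

theorem ce_j_441 : ∀ r, r < 64 → sm gj (Qf (28224 + r)) = Qf (tab Gen.j (28224 + r)) :=
  edges_tab (sm gj) Qf (tab Gen.j) 28224 [(28224, 29003), (28225, 29107), (28226, 29108), (28227, 29109), (28228, 27058), (28229, 27581), (28230, 27582), (28231, 27812), (28232, 27813), (28233, 27090), (28234, 29249), (28235, 29250), (28236, 27103), (28237, 27080), (28238, 27081), (28239, 29247), (28240, 29248), (28241, 27100), (28242, 27577), (28243, 27784), (28244, 27785), (28245, 27252), (28246, 27253), (28247, 29253), (28248, 27122), (28249, 27791), (28250, 27792), (28251, 29252), (28252, 27119), (28253, 29251), (28254, 27082), (28255, 27089), (28256, 27102), (28257, 27805), (28258, 27806), (28259, 29274), (28260, 29275), (28261, 27091), (28262, 27454), (28263, 27455), (28264, 27471), (28265, 27472), (28266, 27710), (28267, 27711), (28268, 27559), (28269, 27565), (28270, 29283), (28271, 29271), (28272, 29288), (28273, 27099), (28274, 27104), (28275, 27115), (28276, 27116), (28277, 27462), (28278, 27463), (28279, 27178), (28280, 27111),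 (28281, 29302), (28282, 29277), (28283, 27177), (28284, 29284), (28285, 29273), (28286, 27172), (28287, 27167)]
    ⟨e3 q28224 (flp_j L808264) q29003, e3 q28225 (flp_j L809779) q29107, e3 q28226 (flp_j L809795) q29108, e3 q28227 (flp_j L809811) q29109, e3 q28228 L800781 q27058, e3 q28229 L800793 q27581, e3 q28230 L800809 q27582, e3 q28231 L800825 q27812, e3 q28232 L800839 q27813, e3 q28233 L800852 q27090, e3 q28234 (flp_j L811799) q29249, e3 q28235 (flp_j L811815) q29250, e3 q28236 L800888 q27103, e3 q28237 L800904 q27080, e3 q28238 L800920 q27081, e3 q28239 (flp_j L811767) q29247, e3 q28240 (flp_j L811781) q29248, e3 q28241 L800952 q27100, e3 q28242 L800974 q27577, e3 q28243 L800988 q27784, e3 q28244 L800998 q27785, e3 q28245 L801012 q27252, e3 q28246 L801026 q27253, e3 q28247 (flp_j L811873) q29253, e3 q28248 L801052 q27122, e3 q28249 L801066 q27791, e3 q28250 L801080 q27792, e3 q28251 (flp_j L811855) q29252, e3 q28252 L801104 q27119, e3 q28253 (flp_j L811837) q29251, e3 q28254 L801132 q27082, e3 q28255 L801146 q27089,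 e3 q28256 L801162 q27102, e3 q28257 L801176 q27805, e3 q28258 L801190 q27806, e3 q28259 (flp_j L812175) q29274, e3 q28260 (flp_j L812191) q29275, e3 q28261 L801228 q27091, e3 q28262 L801244 q27454, e3 q28263 L801260 q27455, e3 q28264 L801275 q27471, e3 q28265 L801291 q27472, e3 q28266 L801304 q27710, e3 q28267 L801318 q27711, e3 q28268 L801332 q27559, e3 q28269 L801350 q27565, e3 q28270 (flp_j L812319) q29283, e3 q28271 (flp_j L812129) q29271, e3 q28272 (flp_j L812397) q29288, e3 q28273 L801400 q27099, e3 q28274 L801410 q27104, e3 q28275 L801424 q27115, e3 q28276 L801438 q27116, e3 q28277 L801452 q27462, e3 q28278 L801464 q27463, e3 q28279 L801475 q27178, e3 q28280 L801493 q27111, e3 q28281 (flp_j L812598) q29302, e3 q28282 (flp_j L812217) q29277, e3 q28283 L801527 q27177, e3 q28284 (flp_j L812337) q29284, e3 q28285 (flp_j L812157) q29273, e3 q28286 L801557 q27172, e3 q28287 L801577 q27167, trivial⟩ (by decide +kernel)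

theorem ce_j_442 : ∀ r, r < 64 → sm gj (Qf (28288 + r)) = Qf (tab Gen.j (28288 + r)) :=
  edges_tab (sm gj) Qf (tab Gen.j) 28288 [(28288, 27772), (28289, 27118), (28290, 27168), (28291, 27121), (28292, 29309), (28293, 27804), (28294, 27767), (28295, 27231), (28296, 29303), (28297, 29304), (28298, 27228), (28299, 27227), (28300, 29282), (28301, 27236), (28302, 29280), (28303, 27230), (28304, 27221), (28305, 27214), (28306, 27217), (28307, 27138), (28308, 27140), (28309, 27141), (28310, 27142), (28311, 27146), (28312, 27147), (28313, 27148), (28314, 29150), (28315, 29151), (28316, 29091), (28317, 29040), (28318, 27737), (28319, 27548), (28320, 27497), (28321, 29329), (28322, 29208), (28323, 29061), (28324, 29330), (28325, 29331), (28326, 29104), (28327, 29332), (28328, 29244), (28329, 29103), (28330, 29357), (28331, 27145), (28332, 29333), (28333, 29334), (28334, 29335), (28335, 27585), (28336, 27163), (28337, 27164), (28338, 27165), (28339, 27166), (28340, 27170), (28341, 27171), (28342, 27175), (28343, 27176), (28344, 27745),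 (28345, 27746), (28346, 27747), (28347, 27748), (28348, 27749), (28349, 27750), (28350, 29361), (28351, 29362)]
    ⟨e3 q28288 L801584 q27772, e3 q28289 L801594 q27118, e3 q28290 L801606 q27168, e3 q28291 L801620 q27121, e3 q28292 (flp_j L812695) q29309, e3 q28293 L801642 q27804, e3 q28294 L801652 q27767, e3 q28295 L801670 q27231, e3 q28296 (flp_j L812616) q29303, e3 q28297 (flp_j L812630) q29304, e3 q28298 L801702 q27228, e3 q28299 L801720 q27227, e3 q28300 (flp_j L812305) q29282, e3 q28301 L801742 q27236, e3 q28302 (flp_j L812271) q29280, e3 q28303 L801758 q27230, e3 q28304 L801770 q27221, e3 q28305 L801786 q27214, e3 q28306 L801799 q27217, e3 q28307 L801809 q27138, e3 q28308 L801825 q27140, e3 q28309 L801841 q27141, e3 q28310 L801854 q27142, e3 q28311 L801862 q27146, e3 q28312 L801874 q27147, e3 q28313 L801886 q27148, e3 q28314 (flp_j L810441) q29150, e3 q28315 (flp_j L810457) q29151, e3 q28316 L809562 q29091, e3 q28317 (flp_j L808830) q29040, e3 q28318 L801932 q27737, e3 q28319 L801952 q27548, e3 q28320 L801962 q27497,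 e3 q28321 (flp_j L812975) q29329, e3 q28322 (flp_j L811193) q29208, e3 q28323 (flp_j L809122) q29061, e3 q28324 (flp_j L812991) q29330, e3 q28325 (flp_j L813007) q29331, e3 q28326 (flp_j L809731) q29104, e3 q28327 (flp_j L813019) q29332, e3 q28328 (flp_j L811715) q29244, e3 q28329 (flp_j L809716) q29103, e3 q28330 L813245 q29357, e3 q28331 (flp_j L802046) q27145, e3 q28332 (flp_j L813031) q29333, e3 q28333 (flp_j L813043) q29334, e3 q28334 (flp_j L813051) q29335, e3 q28335 L802101 q27585, e3 q28336 L802115 q27163, e3 q28337 L802131 q27164, e3 q28338 L802144 q27165, e3 q28339 L802158 q27166, e3 q28340 L802168 q27170, e3 q28341 L802178 q27171, e3 q28342 L802188 q27175, e3 q28343 L802198 q27176, e3 q28344 L802210 q27745, e3 q28345 L802224 q27746, e3 q28346 L802235 q27747, e3 q28347 L802253 q27748, e3 q28348 L802267 q27749, e3 q28349 L802281 q27750, e3 q28350 (flp_j L813296) q29361, e3 q28351 (flp_j L813312) q29362, trivial⟩ (by decide +kernel)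

theorem ce_j_443 : ∀ r, r < 64 → sm gj (Qf (28352 + r)) = Qf (tab Gen.j (28352 + r)) :=
  edges_tab (sm gj) Qf (tab Gen.j) 28352 [(28352, 29315), (28353, 29363), (28354, 29364), (28355, 29365), (28356, 29314), (28357, 29316), (28358, 29008), (28359, 29366), (28360, 29313), (28361, 28999), (28362, 27783), (28363, 29367), (28364, 29311), (28365, 29308), (28366, 29146), (28367, 27786), (28368, 27787), (28369, 27210), (28370, 27211), (28371, 27212), (28372, 27213), (28373, 27215), (28374, 27216), (28375, 27218), (28376, 27219), (28377, 27225), (28378, 27226), (28379, 27229), (28380, 27235), (28381, 27257), (28382, 27740), (28383, 27753), (28384, 27754), (28385, 27755), (28386, 27756), (28387, 27757), (28388, 27758), (28389, 27759), (28390, 27760), (28391, 27761), (28392, 27762), (28393, 27763), (28394, 27764), (28395, 27765), (28396, 27766), (28397, 29389), (28398, 29390), (28399, 29328), (28400, 29391), (28401, 29392), (28402, 29393), (28403, 29323), (28404, 29394), (28405, 29395), (28406, 29077), (28407, 29327), (28408, 27421),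 (28409, 29396), (28410, 29079), (28411, 29326), (28412, 27360), (28413, 27492), (28414, 28996), (28415, 28997)]
    ⟨e3 q28352 (flp_j L812780) q29315, e3 q28353 (flp_j L813326) q29363, e3 q28354 (flp_j L813340) q29364, e3 q28355 (flp_j L813350) q29365, e3 q28356 (flp_j L812765) q29314, e3 q28357 (flp_j L812794) q29316, e3 q28358 (flp_j L808348) q29008, e3 q28359 (flp_j L813361) q29366, e3 q28360 (flp_j L812745) q29313, e3 q28361 (flp_j L808194) q28999, e3 q28362 L802393 q27783, e3 q28363 (flp_j L813371) q29367, e3 q28364 (flp_j L812721) q29311, e3 q28365 (flp_j L812675) q29308, e3 q28366 (flp_j L810388) q29146, e3 q28367 L802434 q27786, e3 q28368 L802444 q27787, e3 q28369 L802460 q27210, e3 q28370 L802476 q27211, e3 q28371 L802489 q27212, e3 q28372 L802499 q27213, e3 q28373 L802509 q27215, e3 q28374 L802523 q27216, e3 q28375 L802533 q27218, e3 q28376 L802543 q27219, e3 q28377 L802555 q27225, e3 q28378 L802563 q27226, e3 q28379 L802571 q27229, e3 q28380 L802579 q27235, e3 q28381 L802591 q27257, e3 q28382 L802605 q27740, e3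 q28383 L802617 q27753, e3 q28384 L802629 q27754, e3 q28385 L802640 q27755, e3 q28386 L802654 q27756, e3 q28387 L802666 q27757, e3 q28388 L802678 q27758, e3 q28389 L802692 q27759, e3 q28390 L802704 q27760, e3 q28391 L802716 q27761, e3 q28392 L802730 q27762, e3 q28393 L802742 q27763, e3 q28394 L802756 q27764, e3 q28395 L802772 q27765, e3 q28396 L802784 q27766, e3 q28397 (flp_j L813604) q29389, e3 q28398 (flp_j L813620) q29390, e3 q28399 (flp_j L812963) q29328, e3 q28400 (flp_j L813634) q29391, e3 q28401 (flp_j L813644) q29392, e3 q28402 (flp_j L813650) q29393, e3 q28403 (flp_j L812902) q29323, e3 q28404 (flp_j L813663) q29394, e3 q28405 (flp_j L813677) q29395, e3 q28406 (flp_j L809350) q29077, e3 q28407 (flp_j L812948) q29327, e3 q28408 (flp_j L802880) q27421, e3 q28409 (flp_j L813687) q29396, e3 q28410 (flp_j L809384) q29079, e3 q28411 (flp_j L812934) q29326, e3 q28412 L802916 q27360, e3 q28413 (flp_j L802928) q27492, e3 q28414 (flp_j L808136) q28996, e3 q28415 (flp_j L808152) q28997, trivial⟩ (by decide +kernel)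

theorem ce_j_444 : ∀ r, r < 64 → sm gj (Qf (28416 + r)) = Qf (tab Gen.j (28416 + r)) :=
  edges_tab (sm gj) Qf (tab Gen.j) 28416 [(28416, 29397), (28417, 29322), (28418, 29321), (28419, 29214), (28420, 29325), (28421, 29319), (28422, 27233), (28423, 27803), (28424, 29324), (28425, 29227), (28426, 29186), (28427, 29173), (28428, 27401), (28429, 27365), (28430, 27364), (28431, 27249), (28432, 29232), (28433, 29233), (28434, 27807), (28435, 29279), (28436, 27260), (28437, 27261), (28438, 27262), (28439, 29398), (28440, 29009), (28441, 29002), (28442, 29441), (28443, 29442), (28444, 29443), (28445, 27295), (28446, 27296), (28447, 27808), (28448, 27269), (28449, 27270), (28450, 29451), (28451, 27811), (28452, 27814), (28453, 27815), (28454, 27816), (28455, 27285), (28456, 27283), (28457, 27284), (28458, 29454), (28459, 27856), (28460, 27855), (28461, 27853), (28462, 27290), (28463, 27825), (28464, 27297), (28465, 27298), (28466, 29448), (28467, 29449), (28468, 29450), (28469, 29457), (28470, 27308), (28471, 27309), (28472, 27310),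 (28473, 27708), (28474, 27709), (28475, 27450), (28476, 27712), (28477, 27713), (28478, 27541), (28479, 27553)]
    ⟨e3 q28416 (flp_j L813697) q29397, e3 q28417 (flp_j L812882) q29322, e3 q28418 (flp_j L812864) q29321, e3 q28419 (flp_j L811268) q29214, e3 q28420 (flp_j L812922) q29325, e3 q28421 (flp_j L812838) q29319, e3 q28422 L802988 q27233, e3 q28423 L802998 q27803, e3 q28424 (flp_j L812912) q29324, e3 q28425 (flp_j L811449) q29227, e3 q28426 (flp_j L810868) q29186, e3 q28427 (flp_j L810692) q29173, e3 q28428 L803041 q27401, e3 q28429 L803053 q27365, e3 q28430 L803063 q27364, e3 q28431 L803076 q27249, e3 q28432 (flp_j L811529) q29232, e3 q28433 (flp_j L811545) q29233, e3 q28434 L803122 q27807, e3 q28435 (flp_j L812251) q29279, e3 q28436 L803144 q27260, e3 q28437 L803154 q27261, e3 q28438 L803164 q27262, e3 q28439 (flp_j L813709) q29398, e3 q28440 (flp_j L808368) q29009, e3 q28441 (flp_j L808246) q29002, e3 q28442 (flp_j L814150) q29441, e3 q28443 (flp_j L814160) q29442, e3 q28444 (flp_j L814172) q29443, e3 q28445 L803233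 q27295, e3 q28446 L803247 q27296, e3 q28447 L803263 q27808, e3 q28448 L803275 q27269, e3 q28449 L803285 q27270, e3 q28450 (flp_j L814270) q29451, e3 q28451 L803315 q27811, e3 q28452 L803329 q27814, e3 q28453 L803339 q27815, e3 q28454 L803351 q27816, e3 q28455 L803360 q27285, e3 q28456 L803372 q27283, e3 q28457 L803384 q27284, e3 q28458 (flp_j L814308) q29454, e3 q28459 L803402 q27856, e3 q28460 L803416 q27855, e3 q28461 L803430 q27853, e3 q28462 L803444 q27290, e3 q28463 L803456 q27825, e3 q28464 L803466 q27297, e3 q28465 L803476 q27298, e3 q28466 (flp_j L814227) q29448, e3 q28467 (flp_j L814241) q29449, e3 q28468 (flp_j L814255) q29450, e3 q28469 (flp_j L814346) q29457, e3 q28470 L803527 q27308, e3 q28471 L803539 q27309, e3 q28472 L803555 q27310, e3 q28473 L803567 q27708, e3 q28474 L803579 q27709, e3 q28475 L803590 q27450, e3 q28476 L803604 q27712, e3 q28477 L803618 q27713, e3 q28478 L803632 q27541, e3 q28479 L803648 q27553, trivial⟩ (by decide +kernel)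

theorem ce_j_445 : ∀ r, r < 64 → sm gj (Qf (28480 + r)) = Qf (tab Gen.j (28480 + r)) :=
  edges_tab (sm gj) Qf (tab Gen.j) 28480 [(28480, 29460), (28481, 29461), (28482, 29462), (28483, 27826), (28484, 27827), (28485, 27828), (28486, 29041), (28487, 29042), (28488, 29043), (28489, 27319), (28490, 27320), (28491, 27321), (28492, 29481), (28493, 29482), (28494, 29483), (28495, 29059), (28496, 27325), (28497, 27718), (28498, 27719), (28499, 27837), (28500, 27838), (28501, 27839), (28502, 27840), (28503, 27351), (28504, 27352), (28505, 27354), (28506, 29014), (28507, 29015), (28508, 27355), (28509, 27356), (28510, 27357), (28511, 29070), (28512, 29071), (28513, 29072), (28514, 29073), (28515, 27358), (28516, 27359), (28517, 27852), (28518, 27884), (28519, 27868), (28520, 27869), (28521, 29492), (28522, 29493), (28523, 29494), (28524, 27870), (28525, 29498), (28526, 29499), (28527, 29429), (28528, 29503), (28529, 29427), (28530, 29423), (28531, 29017), (28532, 27675), (28533, 27383), (28534, 27395), (28535, 27396), (28536, 27398),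 (28537, 29171), (28538, 29172), (28539, 27404), (28540, 27405), (28541, 27406), (28542, 27622), (28543, 27623)]
    ⟨e3 q28480 (flp_j L814384) q29460, e3 q28481 (flp_j L814396) q29461, e3 q28482 (flp_j L814408) q29462, e3 q28483 L803679 q27826, e3 q28484 L803693 q27827, e3 q28485 L803711 q27828, e3 q28486 (flp_j L808840) q29041, e3 q28487 (flp_j L808856) q29042, e3 q28488 (flp_j L808870) q29043, e3 q28489 L803753 q27319, e3 q28490 L803763 q27320, e3 q28491 L803775 q27321, e3 q28492 (flp_j L814629) q29481, e3 q28493 (flp_j L814641) q29482, e3 q28494 (flp_j L814657) q29483, e3 q28495 (flp_j L809088) q29059, e3 q28496 L803831 q27325, e3 q28497 L803840 q27718, e3 q28498 L803854 q27719, e3 q28499 L803872 q27837, e3 q28500 L803882 q27838, e3 q28501 L803890 q27839, e3 q28502 L803898 q27840, e3 q28503 L803907 q27351, e3 q28504 L803921 q27352, e3 q28505 L803935 q27354, e3 q28506 (flp_j L808446) q29014, e3 q28507 (flp_j L808462) q29015, e3 q28508 L803971 q27355, e3 q28509 L803983 q27356, e3 q28510 L803995 q27357, e3 q28511 (flp_j L809252)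 q29070, e3 q28512 (flp_j L809266) q29071, e3 q28513 (flp_j L809276) q29072, e3 q28514 (flp_j L809292) q29073, e3 q28515 L804039 q27358, e3 q28516 L804047 q27359, e3 q28517 L804057 q27852, e3 q28518 L804073 q27884, e3 q28519 L804083 q27868, e3 q28520 L804097 q27869, e3 q28521 (flp_j L814757) q29492, e3 q28522 (flp_j L814771) q29493, e3 q28523 (flp_j L814785) q29494, e3 q28524 L804136 q27870, e3 q28525 (flp_j L814832) q29498, e3 q28526 (flp_j L814844) q29499, e3 q28527 (flp_j L814031) q29429, e3 q28528 (flp_j L814880) q29503, e3 q28529 (flp_j L814009) q29427, e3 q28530 (flp_j L813967) q29423, e3 q28531 (flp_j L808492) q29017, e3 q28532 L804206 q27675, e3 q28533 L804220 q27383, e3 q28534 L804234 q27395, e3 q28535 L804248 q27396, e3 q28536 L804256 q27398, e3 q28537 (flp_j L810663) q29171, e3 q28538 (flp_j L810679) q29172, e3 q28539 L804284 q27404, e3 q28540 L804292 q27405, e3 q28541 L804298 q27406, e3 q28542 L804305 q27622, e3 q28543 L804319 q27623, trivial⟩ (by decide +kernel)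

theorem ce_j_446 : ∀ r, r < 64 → sm gj (Qf (28544 + r)) = Qf (tab Gen.j (28544 + r)) :=
  edges_tab (sm gj) Qf (tab Gen.j) 28544 [(28544, 27624), (28545, 27638), (28546, 27637), (28547, 27567), (28548, 27431), (28549, 27876), (28550, 27877), (28551, 27878), (28552, 29515), (28553, 29223), (28554, 29069), (28555, 29094), (28556, 27568), (28557, 27699), (28558, 27705), (28559, 27706), (28560, 27501), (28561, 27707), (28562, 29081), (28563, 29082), (28564, 29083), (28565, 29516), (28566, 29517), (28567, 29518), (28568, 29098), (28569, 29439), (28570, 29243), (28571, 29102), (28572, 29430), (28573, 29174), (28574, 29175), (28575, 29176), (28576, 29522), (28577, 29523), (28578, 29524), (28579, 27859), (28580, 29144), (28581, 29145), (28582, 27860), (28583, 27861), (28584, 27862), (28585, 27426), (28586, 27847), (28587, 27432), (28588, 27419), (28589, 27420), (28590, 29572), (28591, 29573), (28592, 29574), (28593, 29424), (28594, 27439), (28595, 27440), (28596, 27441), (28597, 27842), (28598, 27714), (28599, 27909), (28600, 27865),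 (28601, 29531), (28602, 29237), (28603, 27436), (28604, 27437), (28605, 27438), (28606, 29584), (28607, 29585)]
    ⟨e3 q28544 L804331 q27624, e3 q28545 L804343 q27638, e3 q28546 L804353 q27637, e3 q28547 L804373 q27567, e3 q28548 L804383 q27431, e3 q28549 L804395 q27876, e3 q28550 L804405 q27877, e3 q28551 L804414 q27878, e3 q28552 (flp_j L815000) q29515, e3 q28553 (flp_j L811391) q29223, e3 q28554 (flp_j L809242) q29069, e3 q28555 L809604 q29094, e3 q28556 L804456 q27568, e3 q28557 L804464 q27699, e3 q28558 L804476 q27705, e3 q28559 L804490 q27706, e3 q28560 L804504 q27501, e3 q28561 L804516 q27707, e3 q28562 (flp_j L809418) q29081, e3 q28563 (flp_j L809434) q29082, e3 q28564 (flp_j L809447) q29083, e3 q28565 (flp_j L815016) q29516, e3 q28566 (flp_j L815030) q29517, e3 q28567 (flp_j L815040) q29518, e3 q28568 (flp_j L809658) q29098, e3 q28569 (flp_j L814121) q29439, e3 q28570 (flp_j L811705) q29243, e3 q28571 (flp_j L809704) q29102, e3 q28572 (flp_j L814049) q29430, e3 q28573 (flp_j L810708) q29174, e3 q28574 (flp_j L810720)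 q29175, e3 q28575 (flp_j L810732) q29176, e3 q28576 (flp_j L815074) q29522, e3 q28577 (flp_j L815082) q29523, e3 q28578 (flp_j L815089) q29524, e3 q28579 L804647 q27859, e3 q28580 (flp_j L810359) q29144, e3 q28581 (flp_j L810375) q29145, e3 q28582 L804681 q27860, e3 q28583 L804689 q27861, e3 q28584 L804695 q27862, e3 q28585 L804706 q27426, e3 q28586 L804722 q27847, e3 q28587 L804736 q27432, e3 q28588 L804750 q27419, e3 q28589 L804762 q27420, e3 q28590 (flp_j L815560) q29572, e3 q28591 (flp_j L815572) q29573, e3 q28592 (flp_j L815580) q29574, e3 q28593 L813979 q29424, e3 q28594 L804800 q27439, e3 q28595 L804810 q27440, e3 q28596 L804824 q27441, e3 q28597 L804834 q27842, e3 q28598 L804846 q27714, e3 q28599 L804858 q27909, e3 q28600 L804870 q27865, e3 q28601 (flp_j L815175) q29531, e3 q28602 (flp_j L811609) q29237, e3 q28603 L804908 q27436, e3 q28604 L804916 q27437, e3 q28605 L804926 q27438, e3 q28606 (flp_j L815688) q29584, e3 q28607 (flp_j L815700) q29585, trivial⟩ (by decide +kernel)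

theorem ce_j_447 : ∀ r, r < 64 → sm gj (Qf (28608 + r)) = Qf (tab Gen.j (28608 + r)) :=
  edges_tab (sm gj) Qf (tab Gen.j) 28608 [(28608, 29586), (28609, 29579), (28610, 29580), (28611, 29581), (28612, 29582), (28613, 27444), (28614, 27547), (28615, 29541), (28616, 27449), (28617, 27451), (28618, 27448), (28619, 29291), (28620, 29466), (28621, 29294), (28622, 27521), (28623, 27504), (28624, 29289), (28625, 29290), (28626, 27891), (28627, 27892), (28628, 27893), (28629, 27499), (28630, 27500), (28631, 27498), (28632, 29305), (28633, 29306), (28634, 29307), (28635, 27897), (28636, 27898), (28637, 27899), (28638, 27496), (28639, 27502), (28640, 27503), (28641, 29292), (28642, 29293), (28643, 27512), (28644, 27514), (28645, 27515), (28646, 27516), (28647, 27518), (28648, 27480), (28649, 27481), (28650, 27482), (28651, 29618), (28652, 29619), (28653, 29594), (28654, 29620), (28655, 27531), (28656, 27532), (28657, 27534), (28658, 27489), (28659, 27490), (28660, 27491), (28661, 29629), (28662, 29630), (28663, 29428), (28664, 29470),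 (28665, 27542), (28666, 27543), (28667, 27544), (28668, 27545), (28669, 29343), (28670, 29604), (28671, 29603)]
    ⟨e3 q28608 (flp_j L815716) q29586, e3 q28609 (flp_j L815626) q29579, e3 q28610 (flp_j L815638) q29580, e3 q28611 (flp_j L815654) q29581, e3 q28612 (flp_j L815664) q29582, e3 q28613 L805014 q27444, e3 q28614 L805026 q27547, e3 q28615 (flp_j L815272) q29541, e3 q28616 L805045 q27449, e3 q28617 L805058 q27451, e3 q28618 L805070 q27448, e3 q28619 (flp_j L812442) q29291, e3 q28620 (flp_j L814452) q29466, e3 q28621 (flp_j L812487) q29294, e3 q28622 L805117 q27521, e3 q28623 L805131 q27504, e3 q28624 (flp_j L812413) q29289, e3 q28625 (flp_j L812429) q29290, e3 q28626 L805167 q27891, e3 q28627 L805173 q27892, e3 q28628 L805177 q27893, e3 q28629 L805188 q27499, e3 q28630 L805208 q27500, e3 q28631 L805224 q27498, e3 q28632 (flp_j L812644) q29305, e3 q28633 (flp_j L812656) q29306, e3 q28634 (flp_j L812666) q29307, e3 q28635 L805253 q27897, e3 q28636 L805259 q27898, e3 q28637 L805268 q27899, e3 q28638 L805278 q27496, e3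 q28639 L805294 q27502, e3 q28640 L805302 q27503, e3 q28641 (flp_j L812458) q29292, e3 q28642 (flp_j L812474) q29293, e3 q28643 L805332 q27512, e3 q28644 L805344 q27514, e3 q28645 L805352 q27515, e3 q28646 L805358 q27516, e3 q28647 L805367 q27518, e3 q28648 L805381 q27480, e3 q28649 L805393 q27481, e3 q28650 L805403 q27482, e3 q28651 (flp_j L816044) q29618, e3 q28652 (flp_j L816056) q29619, e3 q28653 (flp_j L815806) q29594, e3 q28654 (flp_j L816064) q29620, e3 q28655 L805441 q27531, e3 q28656 L805449 q27532, e3 q28657 L805463 q27534, e3 q28658 L805469 q27489, e3 q28659 L805477 q27490, e3 q28660 L805485 q27491, e3 q28661 (flp_j L816152) q29629, e3 q28662 (flp_j L816162) q29630, e3 q28663 L814023 q29428, e3 q28664 (flp_j L814511) q29470, e3 q28665 L805517 q27542, e3 q28666 L805523 q27543, e3 q28667 L805533 q27544, e3 q28668 L805541 q27545, e3 q28669 (flp_j L813133) q29343, e3 q28670 (flp_j L815917) q29604, e3 q28671 (flp_j L815897) q29603, trivial⟩ (by decide +kernel)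

theorem ce_j_448 : ∀ r, r < 64 → sm gj (Qf (28672 + r)) = Qf (tab Gen.j (28672 + r)) :=
  edges_tab (sm gj) Qf (tab Gen.j) 28672 [(28672, 29570), (28673, 29544), (28674, 29610), (28675, 27509), (28676, 27510), (28677, 27511), (28678, 29023), (28679, 29024), (28680, 29025), (28681, 29643), (28682, 29644), (28683, 29645), (28684, 29646), (28685, 29614), (28686, 29200), (28687, 29201), (28688, 29615), (28689, 29616), (28690, 29196), (28691, 29197), (28692, 29617), (28693, 29194), (28694, 29076), (28695, 29078), (28696, 29195), (28697, 27595), (28698, 27596), (28699, 27528), (28700, 27529), (28701, 27530), (28702, 29668), (28703, 29669), (28704, 29626), (28705, 29236), (28706, 29627), (28707, 29628), (28708, 27539), (28709, 27540), (28710, 29673), (28711, 29469), (28712, 29297), (28713, 29636), (28714, 29637), (28715, 29638), (28716, 29639), (28717, 29340), (28718, 29467), (28719, 27558), (28720, 27620), (28721, 27704), (28722, 29298), (28723, 27560), (28724, 27561), (28725, 27562), (28726, 29683), (28727, 29684), (28728, 29540),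 (28729, 29529), (28730, 29156), (28731, 27775), (28732, 27776), (28733, 27779), (28734, 27780), (28735, 27781)]
    ⟨e3 q28672 (flp_j L815528) q29570, e3 q28673 (flp_j L815315) q29544, e3 q28674 (flp_j L815964) q29610, e3 q28675 L805604 q27509, e3 q28676 L805614 q27510, e3 q28677 L805623 q27511, e3 q28678 (flp_j L808585) q29023, e3 q28679 (flp_j L808601) q29024, e3 q28680 (flp_j L808614) q29025, e3 q28681 (flp_j L816268) q29643, e3 q28682 (flp_j L816278) q29644, e3 q28683 (flp_j L816286) q29645, e3 q28684 (flp_j L816297) q29646, e3 q28685 (flp_j L816005) q29614, e3 q28686 (flp_j L811068) q29200, e3 q28687 (flp_j L811085) q29201, e3 q28688 (flp_j L816017) q29615, e3 q28689 (flp_j L816025) q29616, e3 q28690 (flp_j L811023) q29196, e3 q28691 (flp_j L811039) q29197, e3 q28692 (flp_j L816032) q29617, e3 q28693 (flp_j L810989) q29194, e3 q28694 (flp_j L809334) q29076, e3 q28695 (flp_j L809370) q29078, e3 q28696 (flp_j L811007) q29195, e3 q28697 L805788 q27595, e3 q28698 L805798 q27596, e3 q28699 L805808 q27528, e3 q28700 L805814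 q27529, e3 q28701 L805822 q27530, e3 q28702 (flp_j L816471) q29668, e3 q28703 (flp_j L816479) q29669, e3 q28704 (flp_j L816118) q29626, e3 q28705 (flp_j L811593) q29236, e3 q28706 (flp_j L816132) q29627, e3 q28707 (flp_j L816142) q29628, e3 q28708 L805886 q27539, e3 q28709 L805898 q27540, e3 q28710 (flp_j L816517) q29673, e3 q28711 (flp_j L814495) q29469, e3 q28712 (flp_j L812531) q29297, e3 q28713 (flp_j L816204) q29636, e3 q28714 (flp_j L816212) q29637, e3 q28715 (flp_j L816222) q29638, e3 q28716 (flp_j L816230) q29639, e3 q28717 (flp_j L813102) q29340, e3 q28718 (flp_j L814469) q29467, e3 q28719 L805974 q27558, e3 q28720 L805986 q27620, e3 q28721 L805992 q27704, e3 q28722 (flp_j L812547) q29298, e3 q28723 L806008 q27560, e3 q28724 L806020 q27561, e3 q28725 L806030 q27562, e3 q28726 (flp_j L816605) q29683, e3 q28727 (flp_j L816617) q29684, e3 q28728 (flp_j L815262) q29540, e3 q28729 (flp_j L815149) q29529, e3 q28730 (flp_j L810509) q29156, e3 q28731 L806083 q27775, e3 q28732 L806095 q27776, e3 q28733 L806113 q27779, e3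 q28734 L806127 q27780, e3 q28735 L806141 q27781, trivial⟩ (by decide +kernel)

theorem ce_j_449 : ∀ r, r < 64 → sm gj (Qf (28736 + r)) = Qf (tab Gen.j (28736 + r)) :=
  edges_tab (sm gj) Qf (tab Gen.j) 28736 [(28736, 29266), (28737, 29267), (28738, 27782), (28739, 27597), (28740, 27598), (28741, 29230), (28742, 29234), (28743, 29666), (28744, 29667), (28745, 29663), (28746, 29692), (28747, 27907), (28748, 27905), (28749, 27918), (28750, 27919), (28751, 27914), (28752, 29125), (28753, 29126), (28754, 29127), (28755, 27625), (28756, 27626), (28757, 27627), (28758, 27628), (28759, 27629), (28760, 27630), (28761, 27631), (28762, 27632), (28763, 29530), (28764, 27633), (28765, 27634), (28766, 27635), (28767, 27636), (28768, 29682), (28769, 29525), (28770, 29526), (28771, 29527), (28772, 29528), (28773, 29702), (28774, 29703), (28775, 29704), (28776, 29705), (28777, 29706), (28778, 29707), (28779, 29708), (28780, 29710), (28781, 29711), (28782, 27871), (28783, 27872), (28784, 27873), (28785, 27881), (28786, 27882), (28787, 27883),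 (28788, 27889), (28789, 29047), (28790, 29048), (28791, 29049), (28792, 29088), (28793, 29089), (28794, 29090), (28795, 27662), (28796, 27663), (28797, 27665), (28798, 27666), (28799, 27668)]
    ⟨e3 q28736 (flp_j L812058) q29266, e3 q28737 (flp_j L812074) q29267, e3 q28738 L806176 q27782, e3 q28739 L806186 q27597, e3 q28740 L806196 q27598, e3 q28741 (flp_j L811495) q29230, e3 q28742 (flp_j L811563) q29234, e3 q28743 (flp_j L816453) q29666, e3 q28744 (flp_j L816463) q29667, e3 q28745 (flp_j L816418) q29663, e3 q28746 (flp_j L816709) q29692, e3 q28747 L806255 q27907, e3 q28748 L806269 q27905, e3 q28749 L806279 q27918, e3 q28750 L806291 q27919, e3 q28751 L806305 q27914, e3 q28752 (flp_j L810084) q29125, e3 q28753 (flp_j L810096) q29126, e3 q28754 (flp_j L810110) q29127, e3 q28755 L806332 q27625, e3 q28756 L806340 q27626, e3 q28757 L806350 q27627, e3 q28758 L806358 q27628, e3 q28759 L806368 q27629, e3 q28760 L806378 q27630, e3 q28761 L806390 q27631, e3 q28762 L806404 q27632, e3 q28763 (flp_j L815159) q29530, e3 q28764 L806424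 q27633, e3 q28765 L806434 q27634, e3 q28766 L806446 q27635, e3 q28767 L806456 q27636, e3 q28768 (flp_j L816595) q29682, e3 q28769 (flp_j L815099) q29525, e3 q28770 (flp_j L815113) q29526, e3 q28771 (flp_j L815123) q29527, e3 q28772 (flp_j L815133) q29528, e3 q28773 (flp_j L816806) q29702, e3 q28774 (flp_j L816816) q29703, e3 q28775 (flp_j L816824) q29704, e3 q28776 (flp_j L816834) q29705, e3 q28777 (flp_j L816842) q29706, e3 q28778 (flp_j L816857) q29707, e3 q28779 (flp_j L816869) q29708, e3 q28780 (flp_j L816891) q29710, e3 q28781 (flp_j L816905) q29711, e3 q28782 L806587 q27871, e3 q28783 L806597 q27872, e3 q28784 L806607 q27873, e3 q28785 L806621 q27881, e3 q28786 L806629 q27882, e3 q28787 L806635 q27883, e3 q28788 L806644 q27889, e3 q28789 (flp_j L808928) q29047, e3 q28790 (flp_j L808944) q29048, e3 q28791 (flp_j L808957) q29049, e3 q28792 (flp_j L809516) q29088, e3 q28793 (flp_j L809528) q29089, e3 q28794 (flp_j L809542) q29090, e3 q28795 L806699 q27662, e3 q28796 L806709 q27663, e3 q28797 L806721 q27665, e3 q28798 L806731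 q27666, e3 q28799 L806743 q27668, trivial⟩ (by decide +kernel)

theorem ce_j_450 : ∀ r, r < 64 → sm gj (Qf (28800 + r)) = Qf (tab Gen.j (28800 + r)) :=
  edges_tab (sm gj) Qf (tab Gen.j) 28800 [(28800, 27669), (28801, 27670), (28802, 27671), (28803, 27672), (28804, 27674), (28805, 29730), (28806, 29731), (28807, 29732), (28808, 27849), (28809, 29733), (28810, 27854), (28811, 29734), (28812, 29735), (28813, 29736), (28814, 29737), (28815, 29738), (28816, 29084), (28817, 29085), (28818, 29086), (28819, 29087), (28820, 29092), (28821, 29093), (28822, 29215), (28823, 29216), (28824, 29217), (28825, 27715), (28826, 27716), (28827, 27717), (28828, 27720), (28829, 27721), (28830, 27722), (28831, 27723), (28832, 27724), (28833, 27725), (28834, 27726), (28835, 27727), (28836, 29341), (28837, 27728), (28838, 27729), (28839, 29539), (28840, 27734), (28841, 27735), (28842, 29633), (28843, 29542), (28844, 29543), (28845, 29463), (28846, 29464), (28847, 29465), (28848, 29295), (28849, 29296), (28850, 29468), (28851, 29583), (28852, 29753),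 (28853, 29487), (28854, 29488), (28855, 29489), (28856, 29754), (28857, 29755), (28858, 29756), (28859, 29757), (28860, 29758), (28861, 29759), (28862, 29760), (28863, 29762)]
    ⟨e3 q28800 L806753 q27669, e3 q28801 L806765 q27670, e3 q28802 L806773 q27671, e3 q28803 L806779 q27672, e3 q28804 L806788 q27674, e3 q28805 (flp_j L817072) q29730, e3 q28806 (flp_j L817082) q29731, e3 q28807 (flp_j L817088) q29732, e3 q28808 L806819 q27849, e3 q28809 (flp_j L817099) q29733, e3 q28810 L806839 q27854, e3 q28811 (flp_j L817111) q29734, e3 q28812 (flp_j L817121) q29735, e3 q28813 (flp_j L817129) q29736, e3 q28814 (flp_j L817140) q29737, e3 q28815 (flp_j L817148) q29738, e3 q28816 (flp_j L809467) q29084, e3 q28817 (flp_j L809481) q29085, e3 q28818 (flp_j L809491) q29086, e3 q28819 (flp_j L809502) q29087, e3 q28820 (flp_j L809572) q29092, e3 q28821 (flp_j L809586) q29093, e3 q28822 (flp_j L811282) q29215, e3 q28823 (flp_j L811294) q29216, e3 q28824 (flp_j L811301) q29217, e3 q28825 L806928 q27715, e3 q28826 L806938 q27716, e3 q28827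 L806948 q27717, e3 q28828 L806958 q27720, e3 q28829 L806968 q27721, e3 q28830 L806980 q27722, e3 q28831 L806988 q27723, e3 q28832 L806994 q27724, e3 q28833 L807001 q27725, e3 q28834 L807009 q27726, e3 q28835 L807017 q27727, e3 q28836 (flp_j L813110) q29341, e3 q28837 L807031 q27728, e3 q28838 L807039 q27729, e3 q28839 (flp_j L815248) q29539, e3 q28840 L807053 q27734, e3 q28841 L807061 q27735, e3 q28842 (flp_j L816180) q29633, e3 q28843 (flp_j L815285) q29542, e3 q28844 (flp_j L815299) q29543, e3 q28845 (flp_j L814421) q29463, e3 q28846 (flp_j L814433) q29464, e3 q28847 (flp_j L814441) q29465, e3 q28848 (flp_j L812503) q29295, e3 q28849 (flp_j L812517) q29296, e3 q28850 (flp_j L814481) q29468, e3 q28851 (flp_j L815676) q29583, e3 q28852 (flp_j L817229) q29753, e3 q28853 (flp_j L814696) q29487, e3 q28854 (flp_j L814710) q29488, e3 q28855 (flp_j L814724) q29489, e3 q28856 (flp_j L817239) q29754, e3 q28857 (flp_j L817249) q29755, e3 q28858 (flp_j L817257) q29756, e3 q28859 (flp_j L817268) q29757, e3 q28860 (flp_j L817276) q29758,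 e3 q28861 (flp_j L817284) q29759, e3 q28862 (flp_j L817292) q29760, e3 q28863 (flp_j L817306) q29762, trivial⟩ (by decide +kernel)

theorem ce_j_451 : ∀ r, r < 64 → sm gj (Qf (28864 + r)) = Qf (tab Gen.j (28864 + r)) :=
  edges_tab (sm gj) Qf (tab Gen.j) 28864 [(28864, 27732), (28865, 27733), (28866, 29776), (28867, 29007), (28868, 29001), (28869, 29257), (28870, 29258), (28871, 29259), (28872, 29368), (28873, 29369), (28874, 29370), (28875, 29371), (28876, 29372), (28877, 29373), (28878, 29254), (28879, 29255), (28880, 29256), (28881, 29399), (28882, 29400), (28883, 29401), (28884, 29402), (28885, 29403), (28886, 29404), (28887, 29405), (28888, 29406), (28889, 29407), (28890, 29408), (28891, 29409), (28892, 29410), (28893, 29318), (28894, 27894), (28895, 27895), (28896, 27896), (28897, 29004), (28898, 29000), (28899, 29688), (28900, 29117), (28901, 29118), (28902, 29119), (28903, 29689), (28904, 29690), (28905, 29384), (28906, 29278), (28907, 29388), (28908, 27796), (28909, 29281), (28910, 29116), (28911, 29006), (28912,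 29124), (28913, 29317), (28914, 29285), (28915, 29286), (28916, 29112), (28917, 29113), (28918, 29114), (28919, 29268), (28920, 29269), (28921, 29270), (28922, 29452), (28923, 29453), (28924, 27829), (28925, 27830), (28926, 27831), (28927, 27832)]
    ⟨e3 q28864 L807230 q27732, e3 q28865 L807236 q27733, e3 q28866 (flp_j L817399) q29776, e3 q28867 (flp_j L808334) q29007, e3 q28868 (flp_j L808226) q29001, e3 q28869 (flp_j L811936) q29257, e3 q28870 (flp_j L811952) q29258, e3 q28871 (flp_j L811965) q29259, e3 q28872 (flp_j L813385) q29368, e3 q28873 (flp_j L813399) q29369, e3 q28874 (flp_j L813409) q29370, e3 q28875 (flp_j L813426) q29371, e3 q28876 (flp_j L813444) q29372, e3 q28877 (flp_j L813458) q29373, e3 q28878 (flp_j L811889) q29254, e3 q28879 (flp_j L811905) q29255, e3 q28880 (flp_j L811918) q29256, e3 q28881 (flp_j L813723) q29399, e3 q28882 (flp_j L813735) q29400, e3 q28883 (flp_j L813743) q29401, e3 q28884 (flp_j L813756) q29402, e3 q28885 (flp_j L813772) q29403, e3 q28886 (flp_j L813784) q29404, e3 q28887 (flp_j L813796)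 q29405, e3 q28888 (flp_j L813810) q29406, e3 q28889 (flp_j L813824) q29407, e3 q28890 (flp_j L813838) q29408, e3 q28891 (flp_j L813852) q29409, e3 q28892 (flp_j L813868) q29410, e3 q28893 (flp_j L812820) q29318, e3 q28894 L807436 q27894, e3 q28895 L807446 q27895, e3 q28896 L807454 q27896, e3 q28897 (flp_j L808278) q29004, e3 q28898 (flp_j L808212) q29000, e3 q28899 (flp_j L816653) q29688, e3 q28900 (flp_j L809948) q29117, e3 q28901 (flp_j L809964) q29118, e3 q28902 (flp_j L809980) q29119, e3 q28903 (flp_j L816671) q29689, e3 q28904 (flp_j L816685) q29690, e3 q28905 (flp_j L813550) q29384, e3 q28906 (flp_j L812237) q29278, e3 q28907 (flp_j L813588) q29388, e3 q28908 L807534 q27796, e3 q28909 (flp_j L812287) q29281, e3 q28910 (flp_j L809928) q29116, e3 q28911 (flp_j L808316) q29006, e3 q28912 (flp_j L810068) q29124, e3 q28913 (flp_j L812810) q29317, e3 q28914 (flp_j L812351) q29285, e3 q28915 (flp_j L812365) q29286, e3 q28916 (flp_j L809861) q29112, e3 q28917 (flp_j L809877) q29113, e3 q28918 (flp_j L809893) q29114, e3 q28919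 (flp_j L812092) q29268, e3 q28920 (flp_j L812106) q29269, e3 q28921 (flp_j L812116) q29270, e3 q28922 (flp_j L814284) q29452, e3 q28923 (flp_j L814296) q29453, e3 q28924 L807642 q27829, e3 q28925 L807650 q27830, e3 q28926 L807656 q27831, e3 q28927 L807664 q27832, trivial⟩ (by decide +kernel)

theorem ce_j_452 : ∀ r, r < 64 → sm gj (Qf (28928 + r)) = Qf (tab Gen.j (28928 + r)) :=
  edges_tab (sm gj) Qf (tab Gen.j) 28928 [(28928, 27833), (28929, 27834), (28930, 29474), (28931, 29475), (28932, 29476), (28933, 29811), (28934, 29812), (28935, 29813), (28936, 29080), (28937, 29490), (28938, 29491), (28939, 27910), (28940, 27911), (28941, 29571), (28942, 29238), (28943, 29240), (28944, 29100), (28945, 29504), (28946, 29456), (28947, 29455), (28948, 29190), (28949, 29191), (28950, 29192), (28951, 29568), (28952, 29569), (28953, 29184), (28954, 29185), (28955, 29505), (28956, 29506), (28957, 29507), (28958, 29720), (28959, 29721), (28960, 29535), (28961, 29020), (28962, 29021), (28963, 29022), (28964, 29532), (28965, 29533), (28966,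 29534), (28967, 29120), (28968, 29121), (28969, 29122), (28970, 29722), (28971, 29723), (28972, 27887), (28973, 27888), (28974, 29844), (28975, 29601), (28976, 29602), (28977, 29798), (28978, 29799), (28979, 29607), (28980, 29608), (28981, 29609), (28982, 27912), (28983, 27913), (28984, 27926), (28985, 29696), (28986, 29695), (28987, 29820), (28988, 29852), (28989, 29698), (28990, 29028), (28991, 29026)]
    ⟨e3 q28928 L807670 q27833, e3 q28929 L807677 q27834, e3 q28930 (flp_j L814546) q29474, e3 q28931 (flp_j L814560) q29475, e3 q28932 (flp_j L814574) q29476, e3 q28933 (flp_j L817651) q29811, e3 q28934 (flp_j L817657) q29812, e3 q28935 (flp_j L817665) q29813, e3 q28936 (flp_j L809402) q29080, e3 q28937 (flp_j L814739) q29490, e3 q28938 (flp_j L814747) q29491, e3 q28939 L807744 q27910, e3 q28940 L807754 q27911, e3 q28941 (flp_j L815544) q29571, e3 q28942 (flp_j L811633) q29238, e3 q28943 L811669 q29240, e3 q28944 L809684 q29100, e3 q28945 (flp_j L814892) q29504, e3 q28946 (flp_j L814336) q29456, e3 q28947 (flp_j L814320)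 q29455, e3 q28948 (flp_j L810922) q29190, e3 q28949 (flp_j L810938) q29191, e3 q28950 (flp_j L810954) q29192, e3 q28951 (flp_j L815505) q29568, e3 q28952 (flp_j L815513) q29569, e3 q28953 (flp_j L810840) q29184, e3 q28954 (flp_j L810854) q29185, e3 q28955 (flp_j L814904) q29505, e3 q28956 (flp_j L814918) q29506, e3 q28957 (flp_j L814932) q29507, e3 q28958 (flp_j L816983) q29720, e3 q28959 (flp_j L816995) q29721, e3 q28960 (flp_j L815214) q29535, e3 q28961 (flp_j L808540) q29020, e3 q28962 (flp_j L808556) q29021, e3 q28963 (flp_j L808569) q29022, e3 q28964 (flp_j L815189) q29532, e3 q28965 (flp_j L815199) q29533, e3 q28966 (flp_j L815205) q29534, e3 q28967 (flp_j L809999) q29120, e3 q28968 (flp_j L810015) q29121, e3 q28969 (flp_j L810031) q29122, e3 q28970 (flp_j L817005) q29722, e3 q28971 (flp_j L817013) q29723, e3 q28972 L807959 q27887, e3 q28973 L807967 q27888, e3 q28974 (flp_j L817863) q29844, e3 q28975 (flp_j L815881) q29601, e3 q28976 (flp_j L815887) q29602, e3 q28977 (flp_j L817565) q29798, e3 q28978 (flp_j L817573)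 q29799, e3 q28979 (flp_j L815941) q29607, e3 q28980 (flp_j L815945) q29608, e3 q28981 (flp_j L815954) q29609, e3 q28982 L808020 q27912, e3 q28983 L808032 q27913, e3 q28984 L808040 q27926, e3 q28985 (flp_j L816749) q29696, e3 q28986 (flp_j L816735) q29695, e3 q28987 (flp_j L817709) q29820, e3 q28988 (flp_j L817910) q29852, e3 q28989 (flp_j L816773) q29698, e3 q28990 (flp_j L808654) q29028, e3 q28991 (flp_j L808628) q29026, trivial⟩ (by decide +kernel)

theorem ce_j_453 : ∀ r, r < 64 → sm gj (Qf (28992 + r)) = Qf (tab Gen.j (28992 + r)) :=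
  edges_tab (sm gj) Qf (tab Gen.j) 28992 [(28992, 29027), (28993, 29697), (28994, 29123), (28995, 27925), (28996, 28414), (28997, 28415), (28998, 27934), (28999, 28361), (29000, 28898), (29001, 28868), (29002, 28441), (29003, 28224), (29004, 28897), (29005, 27944), (29006, 28911), (29007, 28867), (29008, 28358), (29009, 28440), (29010, 28223), (29011, 27966), (29012, 27967), (29013, 27968), (29014, 28506), (29015, 28507), (29016, 28109), (29017, 28531), (29018, 27965), (29019, 28088), (29020, 28961), (29021, 28962), (29022, 28963), (29023, 28678), (29024, 28679), (29025, 28680), (29026, 28991), (29027, 28992), (29028, 28990), (29029, 29872), (29030, 29864), (29031, 29865), (29032, 29866), (29033, 28061), (29034, 27983), (29035, 27984), (29036, 27985), (29037, 27986), (29038, 27987), (29039, 27988), (29040, 28317), (29041, 28486), (29042, 28487), (29043, 28488), (29044, 27989), (29045, 27990), (29046, 27991), (29047, 28789), (29048, 28790), (29049, 28791), (29050, 29889), (29051, 29890), (29052, 29891), (29053, 29892), (29054,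 29894), (29055, 29895)]
    ⟨e3 q28992 (flp_j L808640) q29027, e3 q28993 (flp_j L816761) q29697, e3 q28994 (flp_j L810050) q29123, e3 q28995 L808122 q27925, e3 q28996 L808136 q28414, e3 q28997 L808152 q28415, e3 q28998 L808174 q27934, e3 q28999 L808194 q28361, e3 q29000 L808212 q28898, e3 q29001 L808226 q28868, e3 q29002 L808246 q28441, e3 q29003 L808264 q28224, e3 q29004 L808278 q28897, e3 q29005 L808298 q27944, e3 q29006 L808316 q28911, e3 q29007 L808334 q28867, e3 q29008 L808348 q28358, e3 q29009 L808368 q28440, e3 q29010 L808384 q28223, e3 q29011 L808396 q27966, e3 q29012 L808412 q27967, e3 q29013 L808430 q27968, e3 q29014 L808446 q28506, e3 q29015 L808462 q28507, e3 q29016 L808476 q28109, e3 q29017 L808492 q28531, e3 q29018 L808508 q27965, e3 q29019 L808530 q28088, e3 q29020 L808540 q28961, e3 q29021 L808556 q28962, e3 q29022 L808569 q28963, e3 q29023 L808585 q28678, e3 q29024 L808601 q28679, e3 q29025 L808614 q28680, e3 q29026 L808628 q28991, e3 q29027 L808640 q28992, e3 q29028 L808654 q28990, e3 q29029 (flp_j L818203)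 q29872, e3 q29030 (flp_j L818076) q29864, e3 q29031 (flp_j L818092) q29865, e3 q29032 (flp_j L818108) q29866, e3 q29033 L808719 q28061, e3 q29034 L808735 q27983, e3 q29035 L808751 q27984, e3 q29036 L808764 q27985, e3 q29037 L808782 q27986, e3 q29038 L808796 q27987, e3 q29039 L808810 q27988, e3 q29040 L808830 q28317, e3 q29041 L808840 q28486, e3 q29042 L808856 q28487, e3 q29043 L808870 q28488, e3 q29044 L808888 q27989, e3 q29045 L808900 q27990, e3 q29046 L808912 q27991, e3 q29047 L808928 q28789, e3 q29048 L808944 q28790, e3 q29049 L808957 q28791, e3 q29050 (flp_j L818450) q29889, e3 q29051 (flp_j L818466) q29890, e3 q29052 (flp_j L818478) q29891, e3 q29053 (flp_j L818497) q29892, e3 q29054 (flp_j L818532) q29894, e3 q29055 (flp_j L818546) q29895, trivial⟩ (by decide +kernel)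

theorem ce_j_454 : ∀ r, r < 64 → sm gj (Qf (29056 + r)) = Qf (tab Gen.j (29056 + r)) :=
  edges_tab (sm gj) Qf (tab Gen.j) 29056 [(29056, 29901), (29057, 29902), (29058, 29903), (29059, 28495), (29060, 27995), (29061, 28323), (29062, 28028), (29063, 28029), (29064, 28030), (29065, 28031), (29066, 28099), (29067, 28032), (29068, 28033), (29069, 28554), (29070, 28511), (29071, 28512), (29072, 28513), (29073, 28514), (29074, 28035), (29075, 28036), (29076, 28694), (29077, 28406), (29078, 28695), (29079, 28410), (29080, 28936), (29081, 28562), (29082, 28563), (29083, 28564), (29084, 28816), (29085, 28817), (29086, 28818), (29087, 28819), (29088, 28792), (29089, 28793), (29090, 28794), (29091, 28316), (29092, 28820), (29093, 28821), (29094, 28555), (29095, 29917), (29096, 29918), (29097, 29919), (29098, 28568), (29099, 29921), (29100, 28944), (29101, 29926), (29102, 28571), (29103, 28329), (29104, 28326), (29105, 28045), (29106, 28222), (29107, 28225), (29108, 28226), (29109, 28227), (29110, 28055), (29111, 28056), (29112, 28916),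 (29113, 28917), (29114, 28918), (29115, 29955), (29116, 28910), (29117, 28900), (29118, 28901), (29119, 28902)]
    ⟨e3 q29056 (flp_j L818642) q29901, e3 q29057 (flp_j L818654) q29902, e3 q29058 (flp_j L818672) q29903, e3 q29059 L809088 q28495, e3 q29060 L809104 q27995, e3 q29061 L809122 q28323, e3 q29062 L809134 q28028, e3 q29063 L809148 q28029, e3 q29064 L809158 q28030, e3 q29065 L809178 q28031, e3 q29066 L809200 q28099, e3 q29067 L809212 q28032, e3 q29068 L809226 q28033, e3 q29069 L809242 q28554, e3 q29070 L809252 q28511, e3 q29071 L809266 q28512, e3 q29072 L809276 q28513, e3 q29073 L809292 q28514, e3 q29074 L809308 q28035, e3 q29075 L809320 q28036, e3 q29076 L809334 q28694, e3 q29077 L809350 q28406, e3 q29078 L809370 q28695, e3 q29079 L809384 q28410, e3 q29080 L809402 q28936, e3 q29081 L809418 q28562, e3 q29082 L809434 q28563, e3 q29083 L809447 q28564, e3 q29084 L809467 q28816, e3 q29085 L809481 q28817, e3 q29086 L809491 q28818, e3 q29087 L809502 q28819, e3 q29088 L809516 q28792, e3 q29089 L809528 q28793, e3 q29090 L809542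 q28794, e3 q29091 (flp_j L809562) q28316, e3 q29092 L809572 q28820, e3 q29093 L809586 q28821, e3 q29094 (flp_j L809604) q28555, e3 q29095 (flp_j L818869) q29917, e3 q29096 (flp_j L818879) q29918, e3 q29097 (flp_j L818899) q29919, e3 q29098 L809658 q28568, e3 q29099 (flp_j L818933) q29921, e3 q29100 (flp_j L809684) q28944, e3 q29101 (flp_j L819003) q29926, e3 q29102 L809704 q28571, e3 q29103 L809716 q28329, e3 q29104 L809731 q28326, e3 q29105 L809747 q28045, e3 q29106 L809763 q28222, e3 q29107 L809779 q28225, e3 q29108 L809795 q28226, e3 q29109 L809811 q28227, e3 q29110 L809827 q28055, e3 q29111 L809841 q28056, e3 q29112 L809861 q28916, e3 q29113 L809877 q28917, e3 q29114 L809893 q28918, e3 q29115 (flp_j L819445) q29955, e3 q29116 L809928 q28910, e3 q29117 L809948 q28900, e3 q29118 L809964 q28901, e3 q29119 L809980 q28902, trivial⟩ (by decide +kernel)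

theorem ce_j_455 : ∀ r, r < 64 → sm gj (Qf (29120 + r)) = Qf (tab Gen.j (29120 + r)) :=
  edges_tab (sm gj) Qf (tab Gen.j) 29120 [(29120, 28967), (29121, 28968), (29122, 28969), (29123, 28994), (29124, 28912), (29125, 28752), (29126, 28753), (29127, 28754), (29128, 28075), (29129, 28076), (29130, 29965), (29131, 28096), (29132, 28097), (29133, 28098), (29134, 28100), (29135, 28101), (29136, 28102), (29137, 28103), (29138, 28104), (29139, 28105), (29140, 28106), (29141, 28107), (29142, 28108), (29143, 29871), (29144, 28580), (29145, 28581), (29146, 28366), (29147, 28110), (29148, 28111), (29149, 28112), (29150, 28314), (29151, 28315), (29152, 29966), (29153, 29967), (29154, 29920), (29155, 29968), (29156, 28730), (29157, 29969), (29158, 29970), (29159, 29971), (29160, 29972), (29161, 29974), (29162, 29975), (29163, 29976), (29164, 29977), (29165, 29979), (29166, 29980), (29167, 29870), (29168, 29986), (29169, 29987), (29170, 29988), (29171, 28537), (29172, 28538), (29173, 28427), (29174, 28573), (29175, 28574), (29176, 28575),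 (29177, 28133), (29178, 28134), (29179, 28138), (29180, 28139), (29181, 28140), (29182, 28143), (29183, 28144)]
    ⟨e3 q29120 L809999 q28967, e3 q29121 L810015 q28968, e3 q29122 L810031 q28969, e3 q29123 L810050 q28994, e3 q29124 L810068 q28912, e3 q29125 L810084 q28752, e3 q29126 L810096 q28753, e3 q29127 L810110 q28754, e3 q29128 L810125 q28075, e3 q29129 L810141 q28076, e3 q29130 (flp_j L819608) q29965, e3 q29131 L810177 q28096, e3 q29132 L810193 q28097, e3 q29133 L810207 q28098, e3 q29134 L810223 q28100, e3 q29135 L810239 q28101, e3 q29136 L810252 q28102, e3 q29137 L810268 q28103, e3 q29138 L810284 q28104, e3 q29139 L810297 q28105, e3 q29140 L810311 q28106, e3 q29141 L810323 q28107, e3 q29142 L810337 q28108, e3 q29143 (flp_j L818193) q29871, e3 q29144 L810359 q28580, e3 q29145 L810375 q28581, e3 q29146 L810388 q28366, e3 q29147 L810404 q28110, e3 q29148 L810418 q28111, e3 q29149 L810428 q28112, e3 q29150 L810441 q28314, e3 q29151 L810457 q28315, e3 q29152 (flp_j L819628) q29966, e3 q29153 (flp_j L819644) q29967, e3 q29154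 (flp_j L818921) q29920, e3 q29155 (flp_j L819656) q29968, e3 q29156 L810509 q28730, e3 q29157 (flp_j L819674) q29969, e3 q29158 (flp_j L819690) q29970, e3 q29159 (flp_j L819702) q29971, e3 q29160 (flp_j L819717) q29972, e3 q29161 (flp_j L819752) q29974, e3 q29162 (flp_j L819768) q29975, e3 q29163 (flp_j L819780) q29976, e3 q29164 (flp_j L819795) q29977, e3 q29165 (flp_j L819828) q29979, e3 q29166 (flp_j L819840) q29980, e3 q29167 (flp_j L818169) q29870, e3 q29168 (flp_j L819927) q29986, e3 q29169 (flp_j L819937) q29987, e3 q29170 (flp_j L819950) q29988, e3 q29171 L810663 q28537, e3 q29172 L810679 q28538, e3 q29173 L810692 q28427, e3 q29174 L810708 q28573, e3 q29175 L810720 q28574, e3 q29176 L810732 q28575, e3 q29177 L810745 q28133, e3 q29178 L810759 q28134, e3 q29179 L810775 q28138, e3 q29180 L810789 q28139, e3 q29181 L810803 q28140, e3 q29182 L810814 q28143, e3 q29183 L810824 q28144, trivial⟩ (by decide +kernel)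

theorem ce_j_456 : ∀ r, r < 64 → sm gj (Qf (29184 + r)) = Qf (tab Gen.j (29184 + r)) :=
  edges_tab (sm gj) Qf (tab Gen.j) 29184 [(29184, 28953), (29185, 28954), (29186, 28426), (29187, 28149), (29188, 28150), (29189, 28151), (29190, 28948), (29191, 28949), (29192, 28950), (29193, 30017), (29194, 28693), (29195, 28696), (29196, 28690), (29197, 28691), (29198, 30018), (29199, 30019), (29200, 28686), (29201, 28687), (29202, 30020), (29203, 28147), (29204, 28148), (29205, 30034), (29206, 30023), (29207, 30024), (29208, 28322), (29209, 28156), (29210, 28157), (29211, 30037), (29212, 30038), (29213, 30039), (29214, 28419), (29215, 28822), (29216, 28823), (29217, 28824), (29218, 28178), (29219, 28179), (29220, 28185), (29221, 28186), (29222, 28194), (29223, 28553), (29224, 28172), (29225, 28173), (29226, 30052), (29227, 28425), (29228, 28199), (29229, 28200), (29230, 28741), (29231, 30049), (29232, 28432), (29233, 28433), (29234, 28742), (29235, 30050), (29236, 28705), (29237, 28602), (29238, 28942), (29239, 28193), (29240, 28943),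 (29241, 28198), (29242, 30054), (29243, 28570), (29244, 28328), (29245, 28205), (29246, 28211), (29247, 28239)]
    ⟨e3 q29184 L810840 q28953, e3 q29185 L810854 q28954, e3 q29186 L810868 q28426, e3 q29187 L810880 q28149, e3 q29188 L810890 q28150, e3 q29189 L810908 q28151, e3 q29190 L810922 q28948, e3 q29191 L810938 q28949, e3 q29192 L810954 q28950, e3 q29193 (flp_j L820283) q30017, e3 q29194 L810989 q28693, e3 q29195 L811007 q28696, e3 q29196 L811023 q28690, e3 q29197 L811039 q28691, e3 q29198 (flp_j L820301) q30018, e3 q29199 (flp_j L820315) q30019, e3 q29200 L811068 q28686, e3 q29201 L811085 q28687, e3 q29202 (flp_j L820327) q30020, e3 q29203 L811115 q28147, e3 q29204 L811131 q28148, e3 q29205 (flp_j L820525) q30034, e3 q29206 (flp_j L820371) q30023, e3 q29207 (flp_j L820389) q30024, e3 q29208 L811193 q28322, e3 q29209 L811205 q28156, e3 q29210 L811221 q28157, e3 q29211 (flp_j L820571) q30037, e3 q29212 (flp_j L820587) q30038, e3 q29213 (flp_j L820603) q30039, e3 q29214 L811268 q28419, e3 q29215 L811282 q28822, e3 q29216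 L811294 q28823, e3 q29217 L811301 q28824, e3 q29218 L811315 q28178, e3 q29219 L811331 q28179, e3 q29220 L811347 q28185, e3 q29221 L811359 q28186, e3 q29222 L811375 q28194, e3 q29223 L811391 q28553, e3 q29224 L811401 q28172, e3 q29225 L811417 q28173, e3 q29226 (flp_j L820776) q30052, e3 q29227 L811449 q28425, e3 q29228 L811461 q28199, e3 q29229 L811475 q28200, e3 q29230 L811495 q28741, e3 q29231 (flp_j L820722) q30049, e3 q29232 L811529 q28432, e3 q29233 L811545 q28433, e3 q29234 L811563 q28742, e3 q29235 (flp_j L820742) q30050, e3 q29236 L811593 q28705, e3 q29237 L811609 q28602, e3 q29238 L811633 q28942, e3 q29239 L811647 q28193, e3 q29240 (flp_j L811669) q28943, e3 q29241 L811677 q28198, e3 q29242 (flp_j L820810) q30054, e3 q29243 L811705 q28570, e3 q29244 L811715 q28328, e3 q29245 L811729 q28205, e3 q29246 L811749 q28211, e3 q29247 L811767 q28239, trivial⟩ (by decide +kernel)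

theorem ce_j_457 : ∀ r, r < 64 → sm gj (Qf (29248 + r)) = Qf (tab Gen.j (29248 + r)) :=
  edges_tab (sm gj) Qf (tab Gen.j) 29248 [(29248, 28240), (29249, 28234), (29250, 28235), (29251, 28253), (29252, 28251), (29253, 28247), (29254, 28878), (29255, 28879), (29256, 28880), (29257, 28869), (29258, 28870), (29259, 28871), (29260, 29951), (29261, 29863), (29262, 29860), (29263, 29952), (29264, 29953), (29265, 29954), (29266, 28736), (29267, 28737), (29268, 28919), (29269, 28920), (29270, 28921), (29271, 28271), (29272, 30059), (29273, 28285), (29274, 28259), (29275, 28260), (29276, 30058), (29277, 28282), (29278, 28906), (29279, 28435), (29280, 28302), (29281, 28909), (29282, 28300), (29283, 28270), (29284, 28284), (29285, 28914), (29286, 28915), (29287, 30078), (29288, 28272), (29289, 28624), (29290, 28625), (29291, 28619), (29292, 28641), (29293, 28642), (29294, 28621), (29295, 28848), (29296, 28849), (29297, 28712), (29298, 28722), (29299, 30080), (29300, 30075), (29301, 30076), (29302, 28281), (29303, 28296), (29304, 28297),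 (29305, 28632), (29306, 28633), (29307, 28634), (29308, 28365), (29309, 28292), (29310, 30079), (29311, 28364)]
    ⟨e3 q29248 L811781 q28240, e3 q29249 L811799 q28234, e3 q29250 L811815 q28235, e3 q29251 L811837 q28253, e3 q29252 L811855 q28251, e3 q29253 L811873 q28247, e3 q29254 L811889 q28878, e3 q29255 L811905 q28879, e3 q29256 L811918 q28880, e3 q29257 L811936 q28869, e3 q29258 L811952 q28870, e3 q29259 L811965 q28871, e3 q29260 (flp_j L819378) q29951, e3 q29261 (flp_j L818062) q29863, e3 q29262 (flp_j L818010) q29860, e3 q29263 (flp_j L819396) q29952, e3 q29264 (flp_j L819412) q29953, e3 q29265 (flp_j L819428) q29954, e3 q29266 L812058 q28736, e3 q29267 L812074 q28737, e3 q29268 L812092 q28919, e3 q29269 L812106 q28920, e3 q29270 L812116 q28921, e3 q29271 L812129 q28271, e3 q29272 (flp_j L820900) q30059, e3 q29273 L812157 q28285, e3 q29274 L812175 q28259, e3 q29275 L812191 q28260, e3 q29276 (flp_j L820882) q30058, e3 q29277 L812217 q28282, e3 q29278 L812237 q28906, e3 q29279 L812251 q28435, e3 q29280 L812271 q28302,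 e3 q29281 L812287 q28909, e3 q29282 L812305 q28300, e3 q29283 L812319 q28270, e3 q29284 L812337 q28284, e3 q29285 L812351 q28914, e3 q29286 L812365 q28915, e3 q29287 (flp_j L821197) q30078, e3 q29288 L812397 q28272, e3 q29289 L812413 q28624, e3 q29290 L812429 q28625, e3 q29291 L812442 q28619, e3 q29292 L812458 q28641, e3 q29293 L812474 q28642, e3 q29294 L812487 q28621, e3 q29295 L812503 q28848, e3 q29296 L812517 q28849, e3 q29297 L812531 q28712, e3 q29298 L812547 q28722, e3 q29299 (flp_j L821237) q30080, e3 q29300 (flp_j L821142) q30075, e3 q29301 (flp_j L821159) q30076, e3 q29302 L812598 q28281, e3 q29303 L812616 q28296, e3 q29304 L812630 q28297, e3 q29305 L812644 q28632, e3 q29306 L812656 q28633, e3 q29307 L812666 q28634, e3 q29308 L812675 q28365, e3 q29309 L812695 q28292, e3 q29310 (flp_j L821217) q30079, e3 q29311 L812721 q28364, trivial⟩ (by decide +kernel)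

theorem ce_j_458 : ∀ r, r < 64 → sm gj (Qf (29312 + r)) = Qf (tab Gen.j (29312 + r)) :=
  edges_tab (sm gj) Qf (tab Gen.j) 29312 [(29312, 30077), (29313, 28360), (29314, 28356), (29315, 28352), (29316, 28357), (29317, 28913), (29318, 28893), (29319, 28421), (29320, 30098), (29321, 28418), (29322, 28417), (29323, 28403), (29324, 28424), (29325, 28420), (29326, 28411), (29327, 28407), (29328, 28399), (29329, 28321), (29330, 28324), (29331, 28325), (29332, 28327), (29333, 28332), (29334, 28333), (29335, 28334), (29336, 29989), (29337, 29990), (29338, 29896), (29339, 29941), (29340, 28717), (29341, 28836), (29342, 29893), (29343, 28669), (29344, 30115), (29345, 30036), (29346, 30009), (29347, 29915), (29348, 29978), (29349, 30116), (29350, 30117), (29351, 30118), (29352, 29947), (29353, 29973), (29354, 30057), (29355, 29950), (29356, 30141), (29357, 28330), (29358, 30119), (29359, 30120), (29360, 30102), (29361, 28350), (29362, 28351), (29363, 28353), (29364, 28354), (29365, 28355), (29366, 28359), (29367, 28363), (29368, 28872),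 (29369, 28873), (29370, 28874), (29371, 28875), (29372, 28876), (29373, 28877), (29374, 30146), (29375, 30147)]
    ⟨e3 q29312 (flp_j L821179) q30077, e3 q29313 L812745 q28360, e3 q29314 L812765 q28356, e3 q29315 L812780 q28352, e3 q29316 L812794 q28357, e3 q29317 L812810 q28913, e3 q29318 L812820 q28893, e3 q29319 L812838 q28421, e3 q29320 (flp_j L821508) q30098, e3 q29321 L812864 q28418, e3 q29322 L812882 q28417, e3 q29323 L812902 q28403, e3 q29324 L812912 q28424, e3 q29325 L812922 q28420, e3 q29326 L812934 q28411, e3 q29327 L812948 q28407, e3 q29328 L812963 q28399, e3 q29329 L812975 q28321, e3 q29330 L812991 q28324, e3 q29331 L813007 q28325, e3 q29332 L813019 q28327, e3 q29333 L813031 q28332, e3 q29334 L813043 q28333, e3 q29335 L813051 q28334, e3 q29336 (flp_j L819966) q29989, e3 q29337 (flp_j L819982) q29990, e3 q29338 (flp_j L818566) q29896, e3 q29339 L819234 q29941, e3 q29340 L813102 q28717, e3 q29341 L813110 q28836, e3 q29342 (flp_j L818520) q29893, e3 q29343 L813133 q28669, e3 q29344 (flp_j L821769) q30115, e3 q29345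 (flp_j L820557) q30036, e3 q29346 (flp_j L820177) q30009, e3 q29347 (flp_j L818840) q29915, e3 q29348 (flp_j L819818) q29978, e3 q29349 (flp_j L821787) q30116, e3 q29350 (flp_j L821803) q30117, e3 q29351 (flp_j L821815) q30118, e3 q29352 (flp_j L819324) q29947, e3 q29353 (flp_j L819740) q29973, e3 q29354 (flp_j L820870) q30057, e3 q29355 (flp_j L819366) q29950, e3 q29356 L822027 q30141, e3 q29357 (flp_j L813245) q28330, e3 q29358 (flp_j L821828) q30119, e3 q29359 (flp_j L821838) q30120, e3 q29360 (flp_j L821557) q30102, e3 q29361 L813296 q28350, e3 q29362 L813312 q28351, e3 q29363 L813326 q28353, e3 q29364 L813340 q28354, e3 q29365 L813350 q28355, e3 q29366 L813361 q28359, e3 q29367 L813371 q28363, e3 q29368 L813385 q28872, e3 q29369 L813399 q28873, e3 q29370 L813409 q28874, e3 q29371 L813426 q28875, e3 q29372 L813444 q28876, e3 q29373 L813458 q28877, e3 q29374 (flp_j L822089) q30146, e3 q29375 (flp_j L822105) q30147, trivial⟩ (by decide +kernel)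

theorem ce_j_459 : ∀ r, r < 64 → sm gj (Qf (29376 + r)) = Qf (tab Gen.j (29376 + r)) :=
  edges_tab (sm gj) Qf (tab Gen.j) 29376 [(29376, 30003), (29377, 30106), (29378, 30148), (29379, 30149), (29380, 30105), (29381, 30097), (29382, 29861), (29383, 30104), (29384, 28905), (29385, 30103), (29386, 30101), (29387, 29985), (29388, 28907), (29389, 28397), (29390, 28398), (29391, 28400), (29392, 28401), (29393, 28402), (29394, 28404), (29395, 28405), (29396, 28409), (29397, 28416), (29398, 28439), (29399, 28881), (29400, 28882), (29401, 28883), (29402, 28884), (29403, 28885), (29404, 28886), (29405, 28887), (29406, 28888), (29407, 28889), (29408, 28890), (29409, 28891), (29410, 28892), (29411, 30165), (29412, 30166), (29413, 30033), (29414, 30112), (29415, 30167), (29416, 30168), (29417, 30111), (29418, 30044), (29419, 30043), (29420, 30169), (29421, 29928), (29422, 30114), (29423, 28530), (29424, 28593), (29425, 29929), (29426, 30113), (29427, 28529), (29428, 28663), (29429, 28527), (29430, 28572), (29431, 29857), (29432, 30110),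 (29433, 30109), (29434, 30042), (29435, 30013), (29436, 30108), (29437, 30053), (29438, 30022), (29439, 28569)]
    ⟨e3 q29376 (flp_j L820117) q30003, e3 q29377 (flp_j L821625) q30106, e3 q29378 (flp_j L822121) q30148, e3 q29379 (flp_j L822131) q30149, e3 q29380 (flp_j L821611) q30105, e3 q29381 (flp_j L821494) q30097, e3 q29382 (flp_j L818024) q29861, e3 q29383 (flp_j L821591) q30104, e3 q29384 L813550 q28905, e3 q29385 (flp_j L821573) q30103, e3 q29386 (flp_j L821542) q30101, e3 q29387 (flp_j L819909) q29985, e3 q29388 L813588 q28907, e3 q29389 L813604 q28397, e3 q29390 L813620 q28398, e3 q29391 L813634 q28400, e3 q29392 L813644 q28401, e3 q29393 L813650 q28402, e3 q29394 L813663 q28404, e3 q29395 L813677 q28405, e3 q29396 L813687 q28409, e3 q29397 L813697 q28416, e3 q29398 L813709 q28439, e3 q29399 L813723 q28881, e3 q29400 L813735 q28882, e3 q29401 L813743 q28883, e3 q29402 L813756 q28884, e3 q29403 L813772 q28885, e3 q29404 L813784 q28886, e3 q29405 L813796 q28887, e3 q29406 L813810 q28888, e3 q29407 L813824 q28889,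 e3 q29408 L813838 q28890, e3 q29409 L813852 q28891, e3 q29410 L813868 q28892, e3 q29411 (flp_j L822290) q30165, e3 q29412 (flp_j L822306) q30166, e3 q29413 (flp_j L820509) q30033, e3 q29414 (flp_j L821729) q30112, e3 q29415 (flp_j L822318) q30167, e3 q29416 (flp_j L822326) q30168, e3 q29417 (flp_j L821715) q30111, e3 q29418 (flp_j L820672) q30044, e3 q29419 (flp_j L820653) q30043, e3 q29420 (flp_j L822340) q30169, e3 q29421 (flp_j L819035) q29928, e3 q29422 (flp_j L821757) q30114, e3 q29423 L813967 q28530, e3 q29424 (flp_j L813979) q28593, e3 q29425 (flp_j L819055) q29929, e3 q29426 (flp_j L821743) q30113, e3 q29427 L814009 q28529, e3 q29428 (flp_j L814023) q28663, e3 q29429 L814031 q28527, e3 q29430 L814049 q28572, e3 q29431 (flp_j L817952) q29857, e3 q29432 (flp_j L821695) q30110, e3 q29433 (flp_j L821675) q30109, e3 q29434 (flp_j L820638) q30042, e3 q29435 (flp_j L820232) q30013, e3 q29436 (flp_j L821657) q30108, e3 q29437 (flp_j L820796) q30053, e3 q29438 (flp_j L820359) q30022, e3 q29439 L814121 q28569, trivial⟩ (by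 decide +kernel)

theorem ce_j_460 : ∀ r, r < 64 → sm gj (Qf (29440 + r)) = Qf (tab Gen.j (29440 + r)) :=
  edges_tab (sm gj) Qf (tab Gen.j) 29440 [(29440, 30055), (29441, 28442), (29442, 28443), (29443, 28444), (29444, 29862), (29445, 29859), (29446, 30201), (29447, 30202), (29448, 28466), (29449, 28467), (29450, 28468), (29451, 28450), (29452, 28922), (29453, 28923), (29454, 28458), (29455, 28947), (29456, 28946), (29457, 28469), (29458, 30206), (29459, 30207), (29460, 28480), (29461, 28481), (29462, 28482), (29463, 28845), (29464, 28846), (29465, 28847), (29466, 28620), (29467, 28718), (29468, 28850), (29469, 28711), (29470, 28664), (29471, 30213), (29472, 30214), (29473, 30215), (29474, 28930), (29475, 28931), (29476, 28932), (29477, 29897), (29478, 29898), (29479, 29899), (29480, 29900), (29481, 28492), (29482, 28493), (29483, 28494), (29484, 30233), (29485, 30234), (29486, 29916), (29487, 28853), (29488, 28854), (29489, 28855), (29490, 28937), (29491, 28938), (29492, 28521), (29493, 28522), (29494, 28523), (29495, 29867),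 (29496, 29868), (29497, 29869), (29498, 28525), (29499, 28526), (29500, 29923), (29501, 29924), (29502, 29925), (29503, 28528)]
    ⟨e3 q29440 (flp_j L820830) q30055, e3 q29441 L814150 q28442, e3 q29442 L814160 q28443, e3 q29443 L814172 q28444, e3 q29444 (flp_j L818046) q29862, e3 q29445 (flp_j L817992) q29859, e3 q29446 (flp_j L822667) q30201, e3 q29447 (flp_j L822679) q30202, e3 q29448 L814227 q28466, e3 q29449 L814241 q28467, e3 q29450 L814255 q28468, e3 q29451 L814270 q28450, e3 q29452 L814284 q28922, e3 q29453 L814296 q28923, e3 q29454 L814308 q28458, e3 q29455 L814320 q28947, e3 q29456 L814336 q28946, e3 q29457 L814346 q28469, e3 q29458 (flp_j L822722) q30206, e3 q29459 (flp_j L822736) q30207, e3 q29460 L814384 q28480, e3 q29461 L814396 q28481, e3 q29462 L814408 q28482, e3 q29463 L814421 q28845, e3 q29464 L814433 q28846, e3 q29465 L814441 q28847, e3 q29466 L814452 q28620, e3 q29467 L814469 q28718, e3 q29468 L814481 q28850, e3 q29469 L814495 q28711, e3 q29470 L814511 q28664, e3 q29471 (flp_j L822820) q30213, e3 q29472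 (flp_j L822832) q30214, e3 q29473 (flp_j L822845) q30215, e3 q29474 L814546 q28930, e3 q29475 L814560 q28931, e3 q29476 L814574 q28932, e3 q29477 (flp_j L818578) q29897, e3 q29478 (flp_j L818594) q29898, e3 q29479 (flp_j L818606) q29899, e3 q29480 (flp_j L818624) q29900, e3 q29481 L814629 q28492, e3 q29482 L814641 q28493, e3 q29483 L814657 q28494, e3 q29484 (flp_j L823044) q30233, e3 q29485 (flp_j L823058) q30234, e3 q29486 (flp_j L818856) q29916, e3 q29487 L814696 q28853, e3 q29488 L814710 q28854, e3 q29489 L814724 q28855, e3 q29490 L814739 q28937, e3 q29491 L814747 q28938, e3 q29492 L814757 q28521, e3 q29493 L814771 q28522, e3 q29494 L814785 q28523, e3 q29495 (flp_j L818125) q29867, e3 q29496 (flp_j L818141) q29868, e3 q29497 (flp_j L818153) q29869, e3 q29498 L814832 q28525, e3 q29499 L814844 q28526, e3 q29500 (flp_j L818961) q29923, e3 q29501 (flp_j L818971) q29924, e3 q29502 (flp_j L818987) q29925, e3 q29503 L814880 q28528, trivial⟩ (by decide +kernel)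

theorem ce_j_461 : ∀ r, r < 64 → sm gj (Qf (29504 + r)) = Qf (tab Gen.j (29504 + r)) :=
  edges_tab (sm gj) Qf (tab Gen.j) 29504 [(29504, 28945), (29505, 28955), (29506, 28956), (29507, 28957), (29508, 30240), (29509, 30241), (29510, 30187), (29511, 30244), (29512, 30195), (29513, 30193), (29514, 30191), (29515, 28552), (29516, 28565), (29517, 28566), (29518, 28567), (29519, 30010), (29520, 30011), (29521, 30012), (29522, 28576), (29523, 28577), (29524, 28578), (29525, 28769), (29526, 28770), (29527, 28771), (29528, 28772), (29529, 28729), (29530, 28763), (29531, 28601), (29532, 28964), (29533, 28965), (29534, 28966), (29535, 28960), (29536, 30051), (29537, 29922), (29538, 29943), (29539, 28839), (29540, 28728), (29541, 28615), (29542, 28843), (29543, 28844), (29544, 28673), (29545, 29930), (29546, 29931), (29547, 29932), (29548, 29933), (29549, 29877), (29550, 30255), (29551, 30256), (29552, 29946), (29553, 29938), (29554, 29937), (29555, 30197), (29556, 29949), (29557, 30196), (29558, 30014), (29559, 30015), (29560, 30016),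 (29561, 30260), (29562, 30261), (29563, 30262), (29564, 30263), (29565, 29982), (29566, 29983), (29567, 29984)]
    ⟨e3 q29504 L814892 q28945, e3 q29505 L814904 q28955, e3 q29506 L814918 q28956, e3 q29507 L814932 q28957, e3 q29508 (flp_j L823129) q30240, e3 q29509 (flp_j L823143) q30241, e3 q29510 (flp_j L822512) q30187, e3 q29511 (flp_j L823177) q30244, e3 q29512 (flp_j L822605) q30195, e3 q29513 (flp_j L822583) q30193, e3 q29514 (flp_j L822557) q30191, e3 q29515 L815000 q28552, e3 q29516 L815016 q28565, e3 q29517 L815030 q28566, e3 q29518 L815040 q28567, e3 q29519 (flp_j L820191) q30010, e3 q29520 (flp_j L820207) q30011, e3 q29521 (flp_j L820219) q30012, e3 q29522 L815074 q28576, e3 q29523 L815082 q28577, e3 q29524 L815089 q28578, e3 q29525 L815099 q28769, e3 q29526 L815113 q28770, e3 q29527 L815123 q28771, e3 q29528 L815133 q28772, e3 q29529 L815149 q28729, e3 q29530 L815159 q28763, e3 q29531 L815175 q28601, e3 q29532 L815189 q28964, e3 q29533 L815199 q28965, e3 q29534 L815205 q28966, e3 q29535 L815214 q28960, e3 q29536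 (flp_j L820764) q30051, e3 q29537 (flp_j L818949) q29922, e3 q29538 L819264 q29943, e3 q29539 L815248 q28839, e3 q29540 L815262 q28728, e3 q29541 L815272 q28615, e3 q29542 L815285 q28843, e3 q29543 L815299 q28844, e3 q29544 L815315 q28673, e3 q29545 (flp_j L819073) q29930, e3 q29546 (flp_j L819089) q29931, e3 q29547 (flp_j L819101) q29932, e3 q29548 (flp_j L819114) q29933, e3 q29549 (flp_j L818289) q29877, e3 q29550 (flp_j L823285) q30255, e3 q29551 (flp_j L823295) q30256, e3 q29552 (flp_j L819310) q29946, e3 q29553 (flp_j L819188) q29938, e3 q29554 (flp_j L819169) q29937, e3 q29555 (flp_j L822635) q30197, e3 q29556 (flp_j L819356) q29949, e3 q29557 (flp_j L822623) q30196, e3 q29558 (flp_j L820248) q30014, e3 q29559 (flp_j L820262) q30015, e3 q29560 (flp_j L820271) q30016, e3 q29561 (flp_j L823328) q30260, e3 q29562 (flp_j L823332) q30261, e3 q29563 (flp_j L823341) q30262, e3 q29564 (flp_j L823352) q30263, e3 q29565 (flp_j L819866) q29982, e3 q29566 (flp_j L819882) q29983, e3 q29567 (flp_j L819894) q29984, trivial⟩ (by decide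 +kernel)

theorem ce_j_462 : ∀ r, r < 64 → sm gj (Qf (29568 + r)) = Qf (tab Gen.j (29568 + r)) :=
  edges_tab (sm gj) Qf (tab Gen.j) 29568 [(29568, 28951), (29569, 28952), (29570, 28672), (29571, 28941), (29572, 28590), (29573, 28591), (29574, 28592), (29575, 30304), (29576, 30305), (29577, 30192), (29578, 30276), (29579, 28609), (29580, 28610), (29581, 28611), (29582, 28612), (29583, 28851), (29584, 28606), (29585, 28607), (29586, 28608), (29587, 30314), (29588, 30315), (29589, 30085), (29590, 30311), (29591, 30312), (29592, 30218), (29593, 30313), (29594, 28653), (29595, 30086), (29596, 30219), (29597, 30090), (29598, 30082), (29599, 30083), (29600, 30084), (29601, 28975), (29602, 28976), (29603, 28671), (29604, 28670), (29605, 30099), (29606, 30100), (29607, 28979), (29608, 28980), (29609, 28981), (29610, 28674), (29611, 30087), (29612, 30088), (29613, 30089), (29614, 28685), (29615, 28688), (29616, 28689), (29617, 28692), (29618, 28651), (29619, 28652), (29620, 28654), (29621, 30339), (29622, 30308), (29623, 30340), (29624,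 30126), (29625, 30221), (29626, 28704), (29627, 28706), (29628, 28707), (29629, 28661), (29630, 28662), (29631, 30349)]
    ⟨e3 q29568 L815505 q28951, e3 q29569 L815513 q28952, e3 q29570 L815528 q28672, e3 q29571 L815544 q28941, e3 q29572 L815560 q28590, e3 q29573 L815572 q28591, e3 q29574 L815580 q28592, e3 q29575 (flp_j L823743) q30304, e3 q29576 (flp_j L823753) q30305, e3 q29577 L822571 q30192, e3 q29578 (flp_j L823494) q30276, e3 q29579 L815626 q28609, e3 q29580 L815638 q28610, e3 q29581 L815654 q28611, e3 q29582 L815664 q28612, e3 q29583 L815676 q28851, e3 q29584 L815688 q28606, e3 q29585 L815700 q28607, e3 q29586 L815716 q28608, e3 q29587 (flp_j L823851) q30314, e3 q29588 (flp_j L823869) q30315, e3 q29589 (flp_j L821316) q30085, e3 q29590 (flp_j L823817) q30311, e3 q29591 (flp_j L823831) q30312, e3 q29592 (flp_j L822875) q30218, e3 q29593 (flp_j L823841) q30313, e3 q29594 L815806 q28653, e3 q29595 (flp_j L821339) q30086, e3 q29596 (flp_j L822888) q30219, e3 q29597 (flp_j L821392) q30090, e3 q29598 (flp_j L821273) q30082,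 e3 q29599 (flp_j L821289) q30083, e3 q29600 (flp_j L821301) q30084, e3 q29601 L815881 q28975, e3 q29602 L815887 q28976, e3 q29603 L815897 q28671, e3 q29604 L815917 q28670, e3 q29605 (flp_j L821524) q30099, e3 q29606 (flp_j L821534) q30100, e3 q29607 L815941 q28979, e3 q29608 L815945 q28980, e3 q29609 L815954 q28981, e3 q29610 L815964 q28674, e3 q29611 (flp_j L821351) q30087, e3 q29612 (flp_j L821367) q30088, e3 q29613 (flp_j L821379) q30089, e3 q29614 L816005 q28685, e3 q29615 L816017 q28688, e3 q29616 L816025 q28689, e3 q29617 L816032 q28692, e3 q29618 L816044 q28651, e3 q29619 L816056 q28652, e3 q29620 L816064 q28654, e3 q29621 (flp_j L824103) q30339, e3 q29622 (flp_j L823783) q30308, e3 q29623 (flp_j L824113) q30340, e3 q29624 (flp_j L821902) q30126, e3 q29625 (flp_j L822917) q30221, e3 q29626 L816118 q28704, e3 q29627 L816132 q28706, e3 q29628 L816142 q28707, e3 q29629 L816152 q28661, e3 q29630 L816162 q28662, e3 q29631 (flp_j L824201) q30349, trivial⟩ (by decide +kernel)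

theorem ce_j_463 : ∀ r, r < 64 → sm gj (Qf (29632 + r)) = Qf (tab Gen.j (29632 + r)) :=
  edges_tab (sm gj) Qf (tab Gen.j) 29632 [(29632, 30194), (29633, 28842), (29634, 30223), (29635, 30094), (29636, 28713), (29637, 28714), (29638, 28715), (29639, 28716), (29640, 30127), (29641, 30326), (29642, 30303), (29643, 28681), (29644, 28682), (29645, 28683), (29646, 28684), (29647, 29878), (29648, 29879), (29649, 29880), (29650, 29881), (29651, 30358), (29652, 30359), (29653, 30360), (29654, 30220), (29655, 30030), (29656, 30032), (29657, 29911), (29658, 30335), (29659, 30027), (29660, 30336), (29661, 30028), (29662, 30337), (29663, 28745), (29664, 30338), (29665, 29927), (29666, 28743), (29667, 28744), (29668, 28702), (29669, 28703), (29670, 30382), (29671, 30347), (29672, 30348), (29673, 28710), (29674, 30222), (29675, 30093), (29676, 30353), (29677, 30354), (29678, 30355), (29679, 30275), (29680, 29882), (29681, 30091), (29682, 28768), (29683, 28726), (29684, 28727), (29685, 30389), (29686, 30268), (29687, 29994), (29688, 28899),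 (29689, 28903), (29690, 28904), (29691, 30072), (29692, 28746), (29693, 30381), (29694, 30379), (29695, 28986)]
    ⟨e3 q29632 L822597 q30194, e3 q29633 L816180 q28842, e3 q29634 (flp_j L822945) q30223, e3 q29635 (flp_j L821457) q30094, e3 q29636 L816204 q28713, e3 q29637 L816212 q28714, e3 q29638 L816222 q28715, e3 q29639 L816230 q28716, e3 q29640 (flp_j L821914) q30127, e3 q29641 (flp_j L823990) q30326, e3 q29642 (flp_j L823729) q30303, e3 q29643 L816268 q28681, e3 q29644 L816278 q28682, e3 q29645 L816286 q28683, e3 q29646 L816297 q28684, e3 q29647 (flp_j L818301) q29878, e3 q29648 (flp_j L818317) q29879, e3 q29649 (flp_j L818329) q29880, e3 q29650 (flp_j L818342) q29881, e3 q29651 (flp_j L824280) q30358, e3 q29652 (flp_j L824288) q30359, e3 q29653 (flp_j L824296) q30360, e3 q29654 (flp_j L822903) q30220, e3 q29655 (flp_j L820475) q30030, e3 q29656 (flp_j L820496) q30032, e3 q29657 (flp_j L818778) q29911, e3 q29658 (flp_j L824069) q30335, e3 q29659 (flp_j L820437) q30027, e3 q29660 (flp_j L824073) q30336, e3 q29661 (flp_j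 L820453) q30028, e3 q29662 (flp_j L824082) q30337, e3 q29663 L816418 q28745, e3 q29664 (flp_j L824093) q30338, e3 q29665 (flp_j L819019) q29927, e3 q29666 L816453 q28743, e3 q29667 L816463 q28744, e3 q29668 L816471 q28702, e3 q29669 L816479 q28703, e3 q29670 (flp_j L824463) q30382, e3 q29671 (flp_j L824181) q30347, e3 q29672 (flp_j L824191) q30348, e3 q29673 L816517 q28710, e3 q29674 (flp_j L822929) q30222, e3 q29675 (flp_j L821441) q30093, e3 q29676 (flp_j L824233) q30353, e3 q29677 (flp_j L824247) q30354, e3 q29678 (flp_j L824255) q30355, e3 q29679 (flp_j L823484) q30275, e3 q29680 (flp_j L818365) q29882, e3 q29681 (flp_j L821415) q30091, e3 q29682 L816595 q28768, e3 q29683 L816605 q28726, e3 q29684 L816617 q28727, e3 q29685 (flp_j L824533) q30389, e3 q29686 (flp_j L823412) q30268, e3 q29687 (flp_j L820026) q29994, e3 q29688 L816653 q28899, e3 q29689 L816671 q28903, e3 q29690 L816685 q28904, e3 q29691 (flp_j L821100) q30072, e3 q29692 L816709 q28746, e3 q29693 (flp_j L824453) q30381, e3 q29694 (flp_j L824431) q30379, e3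 q29695 L816735 q28986, trivial⟩ (by decide +kernel)

theorem ce_j_464 : ∀ r, r < 64 → sm gj (Qf (29696 + r)) = Qf (tab Gen.j (29696 + r)) :=
  edges_tab (sm gj) Qf (tab Gen.j) 29696 [(29696, 28985), (29697, 28993), (29698, 28989), (29699, 29962), (29700, 29963), (29701, 29964), (29702, 28773), (29703, 28774), (29704, 28775), (29705, 28776), (29706, 28777), (29707, 28778), (29708, 28779), (29709, 30267), (29710, 28780), (29711, 28781), (29712, 30388), (29713, 30264), (29714, 30265), (29715, 30266), (29716, 30401), (29717, 30402), (29718, 30403), (29719, 30404), (29720, 28958), (29721, 28959), (29722, 28970), (29723, 28971), (29724, 29904), (29725, 29905), (29726, 29906), (29727, 29907), (29728, 29939), (29729, 29940), (29730, 28805), (29731, 28806), (29732, 28807), (29733, 28809), (29734, 28811), (29735, 28812), (29736, 28813), (29737, 28814), (29738, 28815), (29739, 30418), (29740, 30419), (29741, 30420), (29742, 30421), (29743, 30422), (29744, 30423), (29745, 29934), (29746, 29935), (29747, 29936), (29748, 29942), (29749,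 30045), (29750, 30046), (29751, 30047), (29752, 30048), (29753, 28852), (29754, 28856), (29755, 28857), (29756, 28858), (29757, 28859), (29758, 28860), (29759, 28861)]
    ⟨e3 q29696 L816749 q28985, e3 q29697 L816761 q28993, e3 q29698 L816773 q28989, e3 q29699 (flp_j L819565) q29962, e3 q29700 (flp_j L819579) q29963, e3 q29701 (flp_j L819594) q29964, e3 q29702 L816806 q28773, e3 q29703 L816816 q28774, e3 q29704 L816824 q28775, e3 q29705 L816834 q28776, e3 q29706 L816842 q28777, e3 q29707 L816857 q28778, e3 q29708 L816869 q28779, e3 q29709 (flp_j L823396) q30267, e3 q29710 L816891 q28780, e3 q29711 L816905 q28781, e3 q29712 (flp_j L824521) q30388, e3 q29713 (flp_j L823364) q30264, e3 q29714 (flp_j L823374) q30265, e3 q29715 (flp_j L823384) q30266, e3 q29716 (flp_j L824651) q30401, e3 q29717 (flp_j L824659) q30402, e3 q29718 (flp_j L824667) q30403, e3 q29719 (flp_j L824681) q30404, e3 q29720 L816983 q28958, e3 q29721 L816995 q28959, e3 q29722 L817005 q28970, e3 q29723 L817013 q28971, e3 q29724 (flp_j L818686) q29904, e3 q29725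 (flp_j L818702) q29905, e3 q29726 (flp_j L818714) q29906, e3 q29727 (flp_j L818729) q29907, e3 q29728 (flp_j L819200) q29939, e3 q29729 (flp_j L819214) q29940, e3 q29730 L817072 q28805, e3 q29731 L817082 q28806, e3 q29732 L817088 q28807, e3 q29733 L817099 q28809, e3 q29734 L817111 q28811, e3 q29735 L817121 q28812, e3 q29736 L817129 q28813, e3 q29737 L817140 q28814, e3 q29738 L817148 q28815, e3 q29739 (flp_j L824805) q30418, e3 q29740 (flp_j L824813) q30419, e3 q29741 (flp_j L824821) q30420, e3 q29742 (flp_j L824831) q30421, e3 q29743 (flp_j L824841) q30422, e3 q29744 (flp_j L824849) q30423, e3 q29745 (flp_j L819134) q29934, e3 q29746 (flp_j L819144) q29935, e3 q29747 (flp_j L819154) q29936, e3 q29748 (flp_j L819246) q29942, e3 q29749 (flp_j L820682) q30045, e3 q29750 (flp_j L820688) q30046, e3 q29751 (flp_j L820699) q30047, e3 q29752 (flp_j L820710) q30048, e3 q29753 L817229 q28852, e3 q29754 L817239 q28856, e3 q29755 L817249 q28857, e3 q29756 L817257 q28858, e3 q29757 L817268 q28859, e3 q29758 L817276 q28860, e3 q29759 L817284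 q28861, trivial⟩ (by decide +kernel)

theorem ce_j_465 : ∀ r, r < 64 → sm gj (Qf (29760 + r)) = Qf (tab Gen.j (29760 + r)) :=
  edges_tab (sm gj) Qf (tab Gen.j) 29760 [(29760, 28862), (29761, 30124), (29762, 28863), (29763, 30274), (29764, 30350), (29765, 30277), (29766, 30216), (29767, 30217), (29768, 30092), (29769, 30236), (29770, 30237), (29771, 30436), (29772, 30437), (29773, 30438), (29774, 30439), (29775, 30440), (29776, 28866), (29777, 29858), (29778, 30064), (29779, 30065), (29780, 30066), (29781, 30067), (29782, 30150), (29783, 30151), (29784, 30152), (29785, 30153), (29786, 30060), (29787, 30061), (29788, 30062), (29789, 30063), (29790, 30170), (29791, 30171), (29792, 30172), (29793, 30173), (29794, 30174), (29795, 30175), (29796, 30176), (29797, 30107), (29798, 28977), (29799, 28978), (29800, 29958), (29801, 29959), (29802, 30391), (29803, 30392), (29804, 30081), (29805, 29956), (29806, 29957), (29807, 30073), (29808, 30074), (29809, 30208), (29810, 30209), (29811, 28933), (29812, 28934), (29813, 28935), (29814,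 30227), (29815, 30228), (29816, 30473), (29817, 30474), (29818, 30238), (29819, 30239), (29820, 28987), (29821, 30056), (29822, 29948), (29823, 30210)]
    ⟨e3 q29760 L817292 q28862, e3 q29761 (flp_j L821876) q30124, e3 q29762 L817306 q28863, e3 q29763 (flp_j L823468) q30274, e3 q29764 (flp_j L824211) q30350, e3 q29765 (flp_j L823506) q30277, e3 q29766 (flp_j L822857) q30216, e3 q29767 (flp_j L822865) q30217, e3 q29768 (flp_j L821427) q30092, e3 q29769 (flp_j L823078) q30236, e3 q29770 (flp_j L823092) q30237, e3 q29771 (flp_j L824916) q30436, e3 q29772 (flp_j L824926) q30437, e3 q29773 (flp_j L824936) q30438, e3 q29774 (flp_j L824944) q30439, e3 q29775 (flp_j L824951) q30440, e3 q29776 L817399 q28866, e3 q29777 (flp_j L817972) q29858, e3 q29778 (flp_j L820983) q30064, e3 q29779 (flp_j L820999) q30065, e3 q29780 (flp_j L821011) q30066, e3 q29781 (flp_j L821030) q30067, e3 q29782 (flp_j L822145) q30150, e3 q29783 (flp_j L822155) q30151, e3 q29784 (flp_j L822171) q30152, e3 q29785 (flp_j L822189) q30153, e3 q29786 (flp_j L820920)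 q30060, e3 q29787 (flp_j L820936) q30061, e3 q29788 (flp_j L820948) q30062, e3 q29789 (flp_j L820963) q30063, e3 q29790 (flp_j L822352) q30170, e3 q29791 (flp_j L822360) q30171, e3 q29792 (flp_j L822372) q30172, e3 q29793 (flp_j L822388) q30173, e3 q29794 (flp_j L822402) q30174, e3 q29795 (flp_j L822416) q30175, e3 q29796 (flp_j L822432) q30176, e3 q29797 (flp_j L821637) q30107, e3 q29798 L817565 q28977, e3 q29799 L817573 q28978, e3 q29800 (flp_j L819499) q29958, e3 q29801 (flp_j L819515) q29959, e3 q29802 (flp_j L824555) q30391, e3 q29803 (flp_j L824567) q30392, e3 q29804 (flp_j L821253) q30081, e3 q29805 (flp_j L819465) q29956, e3 q29806 (flp_j L819481) q29957, e3 q29807 (flp_j L821118) q30073, e3 q29808 (flp_j L821130) q30074, e3 q29809 (flp_j L822752) q30208, e3 q29810 (flp_j L822760) q30209, e3 q29811 L817651 q28933, e3 q29812 L817657 q28934, e3 q29813 L817665 q28935, e3 q29814 (flp_j L822976) q30227, e3 q29815 (flp_j L822990) q30228, e3 q29816 (flp_j L825180) q30473, e3 q29817 (flp_j L825184) q30474, e3 q29818 (flp_j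 L823108) q30238, e3 q29819 (flp_j L823116) q30239, e3 q29820 L817709 q28987, e3 q29821 (flp_j L820858) q30056, e3 q29822 L819344 q29948, e3 q29823 (flp_j L822781) q30210, trivial⟩ (by decide +kernel)

theorem ce_j_466 : ∀ r, r < 64 → sm gj (Qf (29824 + r)) = Qf (tab Gen.j (29824 + r)) :=
  edges_tab (sm gj) Qf (tab Gen.j) 29824 [(29824, 30025), (29825, 30026), (29826, 30301), (29827, 30302), (29828, 30021), (29829, 30247), (29830, 30248), (29831, 30249), (29832, 30411), (29833, 30271), (29834, 29876), (29835, 29873), (29836, 29874), (29837, 29875), (29838, 30269), (29839, 30270), (29840, 29960), (29841, 29961), (29842, 30412), (29843, 30413), (29844, 28974), (29845, 30325), (29846, 30327), (29847, 30463), (29848, 30464), (29849, 30330), (29850, 30331), (29851, 30332), (29852, 28988), (29853, 30395), (29854, 30396), (29855, 29884), (29856, 29883), (29857, 29431), (29858, 29777), (29859, 29445), (29860, 29262), (29861, 29382), (29862, 29444), (29863, 29261), (29864, 29030), (29865, 29031), (29866, 29032), (29867, 29495), (29868,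 29496), (29869, 29497), (29870, 29167), (29871, 29143), (29872, 29029), (29873, 29835), (29874, 29836), (29875, 29837), (29876, 29834), (29877, 29549), (29878, 29647), (29879, 29648), (29880, 29649), (29881, 29650), (29882, 29680), (29883, 29856), (29884, 29855), (29885, 30510), (29886, 30504), (29887, 30505)]
    ⟨e3 q29824 (flp_j L820403) q30025, e3 q29825 (flp_j L820419) q30026, e3 q29826 (flp_j L823708) q30301, e3 q29827 (flp_j L823714) q30302, e3 q29828 (flp_j L820345) q30021, e3 q29829 (flp_j L823209) q30247, e3 q29830 (flp_j L823223) q30248, e3 q29831 (flp_j L823234) q30249, e3 q29832 (flp_j L824746) q30411, e3 q29833 (flp_j L823440) q30271, e3 q29834 (flp_j L818266) q29876, e3 q29835 (flp_j L818223) q29873, e3 q29836 (flp_j L818239) q29874, e3 q29837 (flp_j L818251) q29875, e3 q29838 (flp_j L823422) q30269, e3 q29839 (flp_j L823430) q30270, e3 q29840 (flp_j L819533) q29960, e3 q29841 (flp_j L819549) q29961, e3 q29842 (flp_j L824756) q30412, e3 q29843 (flp_j L824764) q30413, e3 q29844 L817863 q28974, e3 q29845 (flp_j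 L823978) q30325, e3 q29846 (flp_j L824004) q30327, e3 q29847 (flp_j L825116) q30463, e3 q29848 (flp_j L825120) q30464, e3 q29849 (flp_j L824022) q30330, e3 q29850 (flp_j L824032) q30331, e3 q29851 (flp_j L824043) q30332, e3 q29852 L817910 q28988, e3 q29853 (flp_j L824595) q30395, e3 q29854 (flp_j L824607) q30396, e3 q29855 (flp_j L818387) q29884, e3 q29856 (flp_j L818375) q29883, e3 q29857 L817952 q29431, e3 q29858 L817972 q29777, e3 q29859 L817992 q29445, e3 q29860 L818010 q29262, e3 q29861 L818024 q29382, e3 q29862 L818046 q29444, e3 q29863 L818062 q29261, e3 q29864 L818076 q29030, e3 q29865 L818092 q29031, e3 q29866 L818108 q29032, e3 q29867 L818125 q29495, e3 q29868 L818141 q29496, e3 q29869 L818153 q29497, e3 q29870 L818169 q29167, e3 q29871 L818193 q29143, e3 q29872 L818203 q29029, e3 q29873 L818223 q29835, e3 q29874 L818239 q29836, e3 q29875 L818251 q29837, e3 q29876 L818266 q29834, e3 q29877 L818289 q29549, e3 q29878 L818301 q29647, e3 q29879 L818317 q29648, e3 q29880 L818329 q29649, e3 q29881 L818342 q29650, e3 q29882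 L818365 q29680, e3 q29883 L818375 q29856, e3 q29884 L818387 q29855, e3 q29885 (flp_j L825500) q30510, e3 q29886 (flp_j L825407) q30504, e3 q29887 (flp_j L825423) q30505, trivial⟩ (by decide +kernel)

theorem ce_j_467 : ∀ r, r < 64 → sm gj (Qf (29888 + r)) = Qf (tab Gen.j (29888 + r)) :=
  edges_tab (sm gj) Qf (tab Gen.j) 29888 [(29888, 30506), (29889, 29050), (29890, 29051), (29891, 29052), (29892, 29053), (29893, 29342), (29894, 29054), (29895, 29055), (29896, 29338), (29897, 29477), (29898, 29478), (29899, 29479), (29900, 29480), (29901, 29056), (29902, 29057), (29903, 29058), (29904, 29724), (29905, 29725), (29906, 29726), (29907, 29727), (29908, 30529), (29909, 30530), (29910, 30531), (29911, 29657), (29912, 30533), (29913, 30539), (29914, 30540), (29915, 29347), (29916, 29486), (29917, 29095), (29918, 29096), (29919, 29097), (29920, 29154), (29921, 29099), (29922, 29537), (29923, 29500), (29924, 29501), (29925, 29502), (29926, 29101), (29927, 29665), (29928, 29421), (29929, 29425), (29930, 29545), (29931, 29546), (29932,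 29547), (29933, 29548), (29934, 29745), (29935, 29746), (29936, 29747), (29937, 29554), (29938, 29553), (29939, 29728), (29940, 29729), (29941, 29339), (29942, 29748), (29943, 29538), (29944, 30552), (29945, 30553), (29946, 29552), (29947, 29352), (29948, 29822), (29949, 29556), (29950, 29355), (29951, 29260)]
    ⟨e3 q29888 (flp_j L825440) q30506, e3 q29889 L818450 q29050, e3 q29890 L818466 q29051, e3 q29891 L818478 q29052, e3 q29892 L818497 q29053, e3 q29893 L818520 q29342, e3 q29894 L818532 q29054, e3 q29895 L818546 q29055, e3 q29896 L818566 q29338, e3 q29897 L818578 q29477, e3 q29898 L818594 q29478, e3 q29899 L818606 q29479, e3 q29900 L818624 q29480, e3 q29901 L818642 q29056, e3 q29902 L818654 q29057, e3 q29903 L818672 q29058, e3 q29904 L818686 q29724, e3 q29905 L818702 q29725, e3 q29906 L818714 q29726, e3 q29907 L818729 q29727, e3 q29908 (flp_j L825765) q30529, e3 q29909 (flp_j L825777) q30530, e3 q29910 (flp_j L825795) q30531, e3 q29911 L818778 q29657, e3 q29912 (flp_j L825831) q30533, e3 q29913 (flp_j L825929) q30539,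 e3 q29914 (flp_j L825947) q30540, e3 q29915 L818840 q29347, e3 q29916 L818856 q29486, e3 q29917 L818869 q29095, e3 q29918 L818879 q29096, e3 q29919 L818899 q29097, e3 q29920 L818921 q29154, e3 q29921 L818933 q29099, e3 q29922 L818949 q29537, e3 q29923 L818961 q29500, e3 q29924 L818971 q29501, e3 q29925 L818987 q29502, e3 q29926 L819003 q29101, e3 q29927 L819019 q29665, e3 q29928 L819035 q29421, e3 q29929 L819055 q29425, e3 q29930 L819073 q29545, e3 q29931 L819089 q29546, e3 q29932 L819101 q29547, e3 q29933 L819114 q29548, e3 q29934 L819134 q29745, e3 q29935 L819144 q29746, e3 q29936 L819154 q29747, e3 q29937 L819169 q29554, e3 q29938 L819188 q29553, e3 q29939 L819200 q29728, e3 q29940 L819214 q29729, e3 q29941 (flp_j L819234) q29339, e3 q29942 L819246 q29748, e3 q29943 (flp_j L819264) q29538, e3 q29944 (flp_j L826106) q30552, e3 q29945 (flp_j L826128) q30553, e3 q29946 L819310 q29552, e3 q29947 L819324 q29352, e3 q29948 (flp_j L819344) q29822, e3 q29949 L819356 q29556, e3 q29950 L819366 q29355, e3 q29951 L819378 q29260, trivial⟩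 (by decide +kernel)

theorem ce_j_468 : ∀ r, r < 64 → sm gj (Qf (29952 + r)) = Qf (tab Gen.j (29952 + r)) :=
  edges_tab (sm gj) Qf (tab Gen.j) 29952 [(29952, 29263), (29953, 29264), (29954, 29265), (29955, 29115), (29956, 29805), (29957, 29806), (29958, 29800), (29959, 29801), (29960, 29840), (29961, 29841), (29962, 29699), (29963, 29700), (29964, 29701), (29965, 29130), (29966, 29152), (29967, 29153), (29968, 29155), (29969, 29157), (29970, 29158), (29971, 29159), (29972, 29160), (29973, 29353), (29974, 29161), (29975, 29162), (29976, 29163), (29977, 29164), (29978, 29348), (29979, 29165), (29980, 29166), (29981, 30511), (29982, 29565), (29983, 29566), (29984, 29567), (29985, 29387), (29986, 29168), (29987, 29169), (29988, 29170), (29989, 29336), (29990, 29337), (29991, 30588), (29992, 30554), (29993, 30589), (29994, 29687), (29995, 30590), (29996, 30591), (29997, 30592), (29998, 30593), (29999, 30595), (30000, 30596), (30001, 30597), (30002, 30598), (30003, 29376), (30004, 30600), (30005, 30509), (30006, 30606), (30007,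 30607), (30008, 30608), (30009, 29346), (30010, 29519), (30011, 29520), (30012, 29521), (30013, 29435), (30014, 29558), (30015, 29559)]
    ⟨e3 q29952 L819396 q29263, e3 q29953 L819412 q29264, e3 q29954 L819428 q29265, e3 q29955 L819445 q29115, e3 q29956 L819465 q29805, e3 q29957 L819481 q29806, e3 q29958 L819499 q29800, e3 q29959 L819515 q29801, e3 q29960 L819533 q29840, e3 q29961 L819549 q29841, e3 q29962 L819565 q29699, e3 q29963 L819579 q29700, e3 q29964 L819594 q29701, e3 q29965 L819608 q29130, e3 q29966 L819628 q29152, e3 q29967 L819644 q29153, e3 q29968 L819656 q29155, e3 q29969 L819674 q29157, e3 q29970 L819690 q29158, e3 q29971 L819702 q29159, e3 q29972 L819717 q29160, e3 q29973 L819740 q29353, e3 q29974 L819752 q29161, e3 q29975 L819768 q29162, e3 q29976 L819780 q29163, e3 q29977 L819795 q29164, e3 q29978 L819818 q29348, e3 q29979 L819828 q29165, e3 q29980 L819840 q29166, e3 q29981 (flp_j L825526) q30511, e3 q29982 L819866 q29565, e3 q29983 L819882 q29566, e3 q29984 L819894 q29567, e3 q29985 L819909 q29387, e3 q29986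 L819927 q29168, e3 q29987 L819937 q29169, e3 q29988 L819950 q29170, e3 q29989 L819966 q29336, e3 q29990 L819982 q29337, e3 q29991 (flp_j L826675) q30588, e3 q29992 (flp_j L826150) q30554, e3 q29993 (flp_j L826687) q30589, e3 q29994 L820026 q29687, e3 q29995 (flp_j L826705) q30590, e3 q29996 (flp_j L826717) q30591, e3 q29997 (flp_j L826731) q30592, e3 q29998 (flp_j L826746) q30593, e3 q29999 (flp_j L826780) q30595, e3 q30000 (flp_j L826792) q30596, e3 q30001 (flp_j L826806) q30597, e3 q30002 (flp_j L826821) q30598, e3 q30003 L820117 q29376, e3 q30004 (flp_j L826853) q30600, e3 q30005 (flp_j L825484) q30509, e3 q30006 (flp_j L826934) q30606, e3 q30007 (flp_j L826940) q30607, e3 q30008 (flp_j L826955) q30608, e3 q30009 L820177 q29346, e3 q30010 L820191 q29519, e3 q30011 L820207 q29520, e3 q30012 L820219 q29521, e3 q30013 L820232 q29435, e3 q30014 L820248 q29558, e3 q30015 L820262 q29559, trivial⟩ (by decide +kernel)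

theorem ce_j_469 : ∀ r, r < 64 → sm gj (Qf (30016 + r)) = Qf (tab Gen.j (30016 + r)) :=
  edges_tab (sm gj) Qf (tab Gen.j) 30016 [(30016, 29560), (30017, 29193), (30018, 29198), (30019, 29199), (30020, 29202), (30021, 29828), (30022, 29438), (30023, 29206), (30024, 29207), (30025, 29824), (30026, 29825), (30027, 29659), (30028, 29661), (30029, 30638), (30030, 29655), (30031, 30639), (30032, 29656), (30033, 29413), (30034, 29205), (30035, 30641), (30036, 29345), (30037, 29211), (30038, 29212), (30039, 29213), (30040, 30651), (30041, 30652), (30042, 29434), (30043, 29419), (30044, 29418), (30045, 29749), (30046, 29750), (30047, 29751), (30048, 29752), (30049, 29231), (30050, 29235), (30051, 29536), (30052, 29226), (30053, 29437), (30054, 29242), (30055, 29440), (30056, 29821), (30057, 29354), (30058, 29276), (30059, 29272), (30060, 29786), (30061, 29787), (30062, 29788), (30063, 29789), (30064, 29778), (30065, 29779), (30066, 29780), (30067, 29781), (30068, 30503), (30069, 30502), (30070, 30576), (30071, 30577), (30072, 29691),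 (30073, 29807), (30074, 29808), (30075, 29300), (30076, 29301), (30077, 29312), (30078, 29287), (30079, 29310)]
    ⟨e3 q30016 L820271 q29560, e3 q30017 L820283 q29193, e3 q30018 L820301 q29198, e3 q30019 L820315 q29199, e3 q30020 L820327 q29202, e3 q30021 L820345 q29828, e3 q30022 L820359 q29438, e3 q30023 L820371 q29206, e3 q30024 L820389 q29207, e3 q30025 L820403 q29824, e3 q30026 L820419 q29825, e3 q30027 L820437 q29659, e3 q30028 L820453 q29661, e3 q30029 (flp_j L827314) q30638, e3 q30030 L820475 q29655, e3 q30031 (flp_j L827322) q30639, e3 q30032 L820496 q29656, e3 q30033 L820509 q29413, e3 q30034 L820525 q29205, e3 q30035 (flp_j L827355) q30641, e3 q30036 L820557 q29345, e3 q30037 L820571 q29211, e3 q30038 L820587 q29212, e3 q30039 L820603 q29213, e3 q30040 (flp_j L827500) q30651, e3 q30041 (flp_j L827516) q30652, e3 q30042 L820638 q29434, e3 q30043 L820653 q29419, e3 q30044 L820672 q29418, e3 q30045 L820682 q29749, e3 q30046 L820688 q29750, e3 q30047 L820699 q29751, e3 q30048 L820710 q29752, e3 q30049 L820722 q29231,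 e3 q30050 L820742 q29235, e3 q30051 L820764 q29536, e3 q30052 L820776 q29226, e3 q30053 L820796 q29437, e3 q30054 L820810 q29242, e3 q30055 L820830 q29440, e3 q30056 L820858 q29821, e3 q30057 L820870 q29354, e3 q30058 L820882 q29276, e3 q30059 L820900 q29272, e3 q30060 L820920 q29786, e3 q30061 L820936 q29787, e3 q30062 L820948 q29788, e3 q30063 L820963 q29789, e3 q30064 L820983 q29778, e3 q30065 L820999 q29779, e3 q30066 L821011 q29780, e3 q30067 L821030 q29781, e3 q30068 (flp_j L825393) q30503, e3 q30069 (flp_j L825375) q30502, e3 q30070 (flp_j L826480) q30576, e3 q30071 (flp_j L826496) q30577, e3 q30072 L821100 q29691, e3 q30073 L821118 q29807, e3 q30074 L821130 q29808, e3 q30075 L821142 q29300, e3 q30076 L821159 q29301, e3 q30077 L821179 q29312, e3 q30078 L821197 q29287, e3 q30079 L821217 q29310, trivial⟩ (by decide +kernel)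

theorem ce_j_470 : ∀ r, r < 64 → sm gj (Qf (30080 + r)) = Qf (tab Gen.j (30080 + r)) :=
  edges_tab (sm gj) Qf (tab Gen.j) 30080 [(30080, 29299), (30081, 29804), (30082, 29598), (30083, 29599), (30084, 29600), (30085, 29589), (30086, 29595), (30087, 29611), (30088, 29612), (30089, 29613), (30090, 29597), (30091, 29681), (30092, 29768), (30093, 29675), (30094, 29635), (30095, 30672), (30096, 30674), (30097, 29381), (30098, 29320), (30099, 29605), (30100, 29606), (30101, 29386), (30102, 29360), (30103, 29385), (30104, 29383), (30105, 29380), (30106, 29377), (30107, 29797), (30108, 29436), (30109, 29433), (30110, 29432), (30111, 29417), (30112, 29414), (30113, 29426), (30114, 29422), (30115, 29344), (30116, 29349), (30117, 29350), (30118, 29351), (30119, 29358), (30120, 29359), (30121, 30609), (30122, 30534), (30123, 30571), (30124, 29761), (30125, 30532), (30126, 29624), (30127, 29640), (30128, 30650), (30129, 30628), (30130, 30551), (30131, 30528), (30132, 30599), (30133, 30700), (30134, 30701), (30135, 30574), (30136, 30569),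 (30137, 30694), (30138, 30594), (30139, 30575), (30140, 30725), (30141, 29356), (30142, 30702), (30143, 30703)]
    ⟨e3 q30080 L821237 q29299, e3 q30081 L821253 q29804, e3 q30082 L821273 q29598, e3 q30083 L821289 q29599, e3 q30084 L821301 q29600, e3 q30085 L821316 q29589, e3 q30086 L821339 q29595, e3 q30087 L821351 q29611, e3 q30088 L821367 q29612, e3 q30089 L821379 q29613, e3 q30090 L821392 q29597, e3 q30091 L821415 q29681, e3 q30092 L821427 q29768, e3 q30093 L821441 q29675, e3 q30094 L821457 q29635, e3 q30095 (flp_j L827781) q30672, e3 q30096 (flp_j L827814) q30674, e3 q30097 L821494 q29381, e3 q30098 L821508 q29320, e3 q30099 L821524 q29605, e3 q30100 L821534 q29606, e3 q30101 L821542 q29386, e3 q30102 L821557 q29360, e3 q30103 L821573 q29385, e3 q30104 L821591 q29383, e3 q30105 L821611 q29380, e3 q30106 L821625 q29377, e3 q30107 L821637 q29797, e3 q30108 L821657 q29436, e3 q30109 L821675 q29433, e3 q30110 L821695 q29432, e3 q30111 L821715 q29417, e3 q30112 L821729 q29414, e3 q30113 L821743 q29426, e3 q30114 L821757 q29422,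 e3 q30115 L821769 q29344, e3 q30116 L821787 q29349, e3 q30117 L821803 q29350, e3 q30118 L821815 q29351, e3 q30119 L821828 q29358, e3 q30120 L821838 q29359, e3 q30121 (flp_j L826971) q30609, e3 q30122 (flp_j L825851) q30534, e3 q30123 L826406 q30571, e3 q30124 L821876 q29761, e3 q30125 (flp_j L825819) q30532, e3 q30126 L821902 q29624, e3 q30127 L821914 q29640, e3 q30128 (flp_j L827486) q30650, e3 q30129 (flp_j L827186) q30628, e3 q30130 (flp_j L826096) q30551, e3 q30131 (flp_j L825751) q30528, e3 q30132 (flp_j L826843) q30599, e3 q30133 (flp_j L828179) q30700, e3 q30134 (flp_j L828191) q30701, e3 q30135 (flp_j L826454) q30574, e3 q30136 (flp_j L826374) q30569, e3 q30137 (flp_j L828085) q30694, e3 q30138 (flp_j L826768) q30594, e3 q30139 (flp_j L826468) q30575, e3 q30140 L828422 q30725, e3 q30141 (flp_j L822027) q29356, e3 q30142 (flp_j L828201) q30702, e3 q30143 (flp_j L828207) q30703, trivial⟩ (by decide +kernel)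

theorem ce_j_471 : ∀ r, r < 64 → sm gj (Qf (30144 + r)) = Qf (tab Gen.j (30144 + r)) :=
  edges_tab (sm gj) Qf (tab Gen.j) 30144 [(30144, 30693), (30145, 30605), (30146, 29374), (30147, 29375), (30148, 29378), (30149, 29379), (30150, 29782), (30151, 29783), (30152, 29784), (30153, 29785), (30154, 30730), (30155, 30622), (30156, 30696), (30157, 30623), (30158, 30731), (30159, 30695), (30160, 30732), (30161, 30689), (30162, 30683), (30163, 30691), (30164, 30604), (30165, 29411), (30166, 29412), (30167, 29415), (30168, 29416), (30169, 29420), (30170, 29790), (30171, 29791), (30172, 29792), (30173, 29793), (30174, 29794), (30175, 29795), (30176, 29796), (30177, 30746), (30178, 30649), (30179, 30698), (30180, 30617), (30181, 30549), (30182, 30747), (30183, 30697), (30184, 30748), (30185, 30657), (30186, 30656), (30187, 29510), (30188, 30632), (30189, 30558), (30190, 30699), (30191, 29514), (30192, 29577), (30193, 29513), (30194, 29632), (30195, 29512), (30196, 29557), (30197, 29555), (30198, 30654), (30199, 30631), (30200, 30640),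 (30201, 29446), (30202, 29447), (30203, 30501), (30204, 30772), (30205, 30773), (30206, 29458), (30207, 29459)]
    ⟨e3 q30144 (flp_j L828072) q30693, e3 q30145 (flp_j L826920) q30605, e3 q30146 L822089 q29374, e3 q30147 L822105 q29375, e3 q30148 L822121 q29378, e3 q30149 L822131 q29379, e3 q30150 L822145 q29782, e3 q30151 L822155 q29783, e3 q30152 L822171 q29784, e3 q30153 L822189 q29785, e3 q30154 (flp_j L828487) q30730, e3 q30155 (flp_j L827114) q30622, e3 q30156 (flp_j L828119) q30696, e3 q30157 (flp_j L827129) q30623, e3 q30158 (flp_j L828501) q30731, e3 q30159 (flp_j L828105) q30695, e3 q30160 (flp_j L828509) q30732, e3 q30161 (flp_j L828029) q30689, e3 q30162 (flp_j L827948) q30683, e3 q30163 (flp_j L828051) q30691, e3 q30164 (flp_j L826903) q30604, e3 q30165 L822290 q29411, e3 q30166 L822306 q29412, e3 q30167 L822318 q29415, e3 q30168 L822326 q29416, e3 q30169 L822340 q29420, e3 q30170 L822352 q29790, e3 q30171 L822360 q29791, e3 q30172 L822372 q29792, e3 q30173 L822388 q29793, e3 q30174 L822402 q29794, e3 q30175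 L822416 q29795, e3 q30176 L822432 q29796, e3 q30177 (flp_j L828660) q30746, e3 q30178 (flp_j L827468) q30649, e3 q30179 (flp_j L828151) q30698, e3 q30180 (flp_j L827057) q30617, e3 q30181 (flp_j L826064) q30549, e3 q30182 (flp_j L828670) q30747, e3 q30183 (flp_j L828137) q30697, e3 q30184 (flp_j L828680) q30748, e3 q30185 (flp_j L827583) q30657, e3 q30186 (flp_j L827565) q30656, e3 q30187 L822512 q29510, e3 q30188 (flp_j L827241) q30632, e3 q30189 (flp_j L826212) q30558, e3 q30190 (flp_j L828167) q30699, e3 q30191 L822557 q29514, e3 q30192 (flp_j L822571) q29577, e3 q30193 L822583 q29513, e3 q30194 (flp_j L822597) q29632, e3 q30195 L822605 q29512, e3 q30196 L822623 q29557, e3 q30197 L822635 q29555, e3 q30198 (flp_j L827542) q30654, e3 q30199 (flp_j L827224) q30631, e3 q30200 (flp_j L827339) q30640, e3 q30201 L822667 q29446, e3 q30202 L822679 q29447, e3 q30203 (flp_j L825357) q30501, e3 q30204 (flp_j L828928) q30772, e3 q30205 (flp_j L828940) q30773, e3 q30206 L822722 q29458, e3 q30207 L822736 q29459, trivial⟩ (by decide +kernel)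

theorem ce_j_472 : ∀ r, r < 64 → sm gj (Qf (30208 + r)) = Qf (tab Gen.j (30208 + r)) :=
  edges_tab (sm gj) Qf (tab Gen.j) 30208 [(30208, 29809), (30209, 29810), (30210, 29823), (30211, 30775), (30212, 30776), (30213, 29471), (30214, 29472), (30215, 29473), (30216, 29766), (30217, 29767), (30218, 29592), (30219, 29596), (30220, 29654), (30221, 29625), (30222, 29674), (30223, 29634), (30224, 30779), (30225, 30780), (30226, 30781), (30227, 29814), (30228, 29815), (30229, 30535), (30230, 30536), (30231, 30537), (30232, 30538), (30233, 29484), (30234, 29485), (30235, 30797), (30236, 29769), (30237, 29770), (30238, 29818), (30239, 29819), (30240, 29508), (30241, 29509), (30242, 30507), (30243, 30508), (30244, 29511), (30245, 30556), (30246, 30557), (30247, 29829), (30248, 29830), (30249, 29831), (30250, 30801), (30251, 30802), (30252, 30764), (30253, 30768), (30254, 30766), (30255, 29550), (30256, 29551), (30257, 30629), (30258, 30630), (30259, 30633), (30260, 29561), (30261, 29562), (30262, 29563), (30263, 29564), (30264, 29713),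 (30265, 29714), (30266, 29715), (30267, 29709), (30268, 29686), (30269, 29838), (30270, 29839), (30271, 29833)]
    ⟨e3 q30208 L822752 q29809, e3 q30209 L822760 q29810, e3 q30210 L822781 q29823, e3 q30211 (flp_j L828961) q30775, e3 q30212 (flp_j L828975) q30776, e3 q30213 L822820 q29471, e3 q30214 L822832 q29472, e3 q30215 L822845 q29473, e3 q30216 L822857 q29766, e3 q30217 L822865 q29767, e3 q30218 L822875 q29592, e3 q30219 L822888 q29596, e3 q30220 L822903 q29654, e3 q30221 L822917 q29625, e3 q30222 L822929 q29674, e3 q30223 L822945 q29634, e3 q30224 (flp_j L829018) q30779, e3 q30225 (flp_j L829028) q30780, e3 q30226 (flp_j L829043) q30781, e3 q30227 L822976 q29814, e3 q30228 L822990 q29815, e3 q30229 (flp_j L825863) q30535, e3 q30230 (flp_j L825875) q30536, e3 q30231 (flp_j L825893) q30537, e3 q30232 (flp_j L825915) q30538, e3 q30233 L823044 q29484, e3 q30234 L823058 q29485, e3 q30235 (flp_j L829226) q30797, e3 q30236 L823078 q29769, e3 q30237 L823092 q29770, e3 q30238 L823108 q29818, e3 q30239 L823116 q29819, e3 q30240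 L823129 q29508, e3 q30241 L823143 q29509, e3 q30242 (flp_j L825456) q30507, e3 q30243 (flp_j L825468) q30508, e3 q30244 L823177 q29511, e3 q30245 (flp_j L826176) q30556, e3 q30246 (flp_j L826194) q30557, e3 q30247 L823209 q29829, e3 q30248 L823223 q29830, e3 q30249 L823234 q29831, e3 q30250 (flp_j L829277) q30801, e3 q30251 (flp_j L829285) q30802, e3 q30252 (flp_j L828824) q30764, e3 q30253 (flp_j L828876) q30768, e3 q30254 (flp_j L828852) q30766, e3 q30255 L823285 q29550, e3 q30256 L823295 q29551, e3 q30257 (flp_j L827200) q30629, e3 q30258 (flp_j L827212) q30630, e3 q30259 (flp_j L827258) q30633, e3 q30260 L823328 q29561, e3 q30261 L823332 q29562, e3 q30262 L823341 q29563, e3 q30263 L823352 q29564, e3 q30264 L823364 q29713, e3 q30265 L823374 q29714, e3 q30266 L823384 q29715, e3 q30267 L823396 q29709, e3 q30268 L823412 q29686, e3 q30269 L823422 q29838, e3 q30270 L823430 q29839, e3 q30271 L823440 q29833, trivial⟩ (by decide +kernel)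

theorem ce_j_473 : ∀ r, r < 64 → sm gj (Qf (30272 + r)) = Qf (tab Gen.j (30272 + r)) :=
  edges_tab (sm gj) Qf (tab Gen.j) 30272 [(30272, 30555), (30273, 30572), (30274, 29763), (30275, 29679), (30276, 29578), (30277, 29765), (30278, 30559), (30279, 30560), (30280, 30561), (30281, 30562), (30282, 30563), (30283, 30516), (30284, 30810), (30285, 30573), (30286, 30811), (30287, 30568), (30288, 30567), (30289, 30770), (30290, 30769), (30291, 30634), (30292, 30635), (30293, 30636), (30294, 30637), (30295, 30815), (30296, 30816), (30297, 30817), (30298, 30818), (30299, 30602), (30300, 30603), (30301, 29826), (30302, 29827), (30303, 29642), (30304, 29575), (30305, 29576), (30306, 30855), (30307, 30767), (30308, 29622), (30309, 30828), (30310, 30678), (30311, 29590), (30312, 29591), (30313, 29593), (30314, 29587), (30315, 29588), (30316, 30860), (30317, 30677), (30318, 30783), (30319, 30859), (30320, 30785), (30321, 30681), (30322, 30682), (30323, 30675), (30324, 30676), (30325, 29845), (30326, 29641), (30327, 29846), (30328, 30690),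 (30329, 30692), (30330, 29849), (30331, 29850), (30332, 29851), (30333, 30679), (30334, 30680), (30335, 29658)]
    ⟨e3 q30272 (flp_j L826166) q30555, e3 q30273 L826424 q30572, e3 q30274 L823468 q29763, e3 q30275 L823484 q29679, e3 q30276 L823494 q29578, e3 q30277 L823506 q29765, e3 q30278 (flp_j L826232) q30559, e3 q30279 (flp_j L826244) q30560, e3 q30280 (flp_j L826256) q30561, e3 q30281 (flp_j L826273) q30562, e3 q30282 (flp_j L826290) q30563, e3 q30283 (flp_j L825599) q30516, e3 q30284 (flp_j L829368) q30810, e3 q30285 (flp_j L826440) q30573, e3 q30286 (flp_j L829378) q30811, e3 q30287 (flp_j L826357) q30568, e3 q30288 (flp_j L826339) q30567, e3 q30289 (flp_j L828908) q30770, e3 q30290 (flp_j L828896) q30769, e3 q30291 (flp_j L827268) q30634, e3 q30292 (flp_j L827276) q30635, e3 q30293 (flp_j L827289) q30636, e3 q30294 (flp_j L827302) q30637, e3 q30295 (flp_j L829412) q30815, e3 q30296 (flp_j L829420) q30816, e3 q30297 (flp_j L829431) q30817, e3 q30298 (flp_j L829441) q30818, e3 q30299 (flp_j L826877) q30602, e3 q30300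 (flp_j L826889) q30603, e3 q30301 L823708 q29826, e3 q30302 L823714 q29827, e3 q30303 L823729 q29642, e3 q30304 L823743 q29575, e3 q30305 L823753 q29576, e3 q30306 (flp_j L829823) q30855, e3 q30307 L828866 q30767, e3 q30308 L823783 q29622, e3 q30309 (flp_j L829560) q30828, e3 q30310 (flp_j L827882) q30678, e3 q30311 L823817 q29590, e3 q30312 L823831 q29591, e3 q30313 L823841 q29593, e3 q30314 L823851 q29587, e3 q30315 L823869 q29588, e3 q30316 (flp_j L829885) q30860, e3 q30317 (flp_j L827860) q30677, e3 q30318 (flp_j L829065) q30783, e3 q30319 (flp_j L829871) q30859, e3 q30320 (flp_j L829086) q30785, e3 q30321 (flp_j L827918) q30681, e3 q30322 (flp_j L827933) q30682, e3 q30323 (flp_j L827834) q30675, e3 q30324 (flp_j L827846) q30676, e3 q30325 L823978 q29845, e3 q30326 L823990 q29641, e3 q30327 L824004 q29846, e3 q30328 (flp_j L828041) q30690, e3 q30329 (flp_j L828063) q30692, e3 q30330 L824022 q29849, e3 q30331 L824032 q29850, e3 q30332 L824043 q29851, e3 q30333 (flp_j L827894) q30679, e3 q30334 (flp_j L827906) q30680, e3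 q30335 L824069 q29658, trivial⟩ (by decide +kernel)

theorem ce_j_474 : ∀ r, r < 64 → sm gj (Qf (30336 + r)) = Qf (tab Gen.j (30336 + r)) :=
  edges_tab (sm gj) Qf (tab Gen.j) 30336 [(30336, 29660), (30337, 29662), (30338, 29664), (30339, 29621), (30340, 29623), (30341, 30856), (30342, 30877), (30343, 30708), (30344, 30787), (30345, 30522), (30346, 30684), (30347, 29671), (30348, 29672), (30349, 29631), (30350, 29764), (30351, 30788), (30352, 30686), (30353, 29676), (30354, 29677), (30355, 29678), (30356, 30853), (30357, 30854), (30358, 29651), (30359, 29652), (30360, 29653), (30361, 30517), (30362, 30518), (30363, 30519), (30364, 30520), (30365, 30521), (30366, 30887), (30367, 30888), (30368, 30889), (30369, 30786), (30370, 30647), (30371, 30648), (30372, 30548), (30373, 30544), (30374, 30873), (30375, 30644), (30376, 30874), (30377, 30645), (30378, 30875), (30379, 29694), (30380, 30876), (30381, 29693), (30382, 29670), (30383, 30882), (30384, 30685), (30385, 30885), (30386, 30827), (30387, 30612), (30388, 29712), (30389,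 29685), (30390, 30822), (30391, 29802), (30392, 29803), (30393, 30905), (30394, 30907), (30395, 29853), (30396, 29854), (30397, 30584), (30398, 30585), (30399, 30586)]
    ⟨e3 q30336 L824073 q29660, e3 q30337 L824082 q29662, e3 q30338 L824093 q29664, e3 q30339 L824103 q29621, e3 q30340 L824113 q29623, e3 q30341 (flp_j L829839) q30856, e3 q30342 (flp_j L830045) q30877, e3 q30343 (flp_j L828266) q30708, e3 q30344 (flp_j L829114) q30787, e3 q30345 (flp_j L825683) q30522, e3 q30346 (flp_j L827966) q30684, e3 q30347 L824181 q29671, e3 q30348 L824191 q29672, e3 q30349 L824201 q29631, e3 q30350 L824211 q29764, e3 q30351 (flp_j L829130) q30788, e3 q30352 (flp_j L827994) q30686, e3 q30353 L824233 q29676, e3 q30354 L824247 q29677, e3 q30355 L824255 q29678, e3 q30356 (flp_j L829794) q30853, e3 q30357 (flp_j L829811) q30854, e3 q30358 L824280 q29651, e3 q30359 L824288 q29652, e3 q30360 L824296 q29653, e3 q30361 (flp_j L825611) q30517, e3 q30362 (flp_j L825623) q30518, e3 q30363 (flp_j L825635) q30519, e3 q30364 (flp_j L825650) q30520,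 e3 q30365 (flp_j L825665) q30521, e3 q30366 (flp_j L830143) q30887, e3 q30367 (flp_j L830153) q30888, e3 q30368 (flp_j L830163) q30889, e3 q30369 (flp_j L829100) q30786, e3 q30370 (flp_j L827443) q30647, e3 q30371 (flp_j L827456) q30648, e3 q30372 (flp_j L826051) q30548, e3 q30373 (flp_j L826004) q30544, e3 q30374 (flp_j L830008) q30873, e3 q30375 (flp_j L827404) q30644, e3 q30376 (flp_j L830016) q30874, e3 q30377 (flp_j L827420) q30645, e3 q30378 (flp_j L830027) q30875, e3 q30379 L824431 q29694, e3 q30380 (flp_j L830037) q30876, e3 q30381 L824453 q29693, e3 q30382 L824463 q29670, e3 q30383 (flp_j L830093) q30882, e3 q30384 (flp_j L827978) q30685, e3 q30385 (flp_j L830125) q30885, e3 q30386 (flp_j L829548) q30827, e3 q30387 (flp_j L827007) q30612, e3 q30388 L824521 q29712, e3 q30389 L824533 q29685, e3 q30390 (flp_j L829491) q30822, e3 q30391 L824555 q29802, e3 q30392 L824567 q29803, e3 q30393 (flp_j L830276) q30905, e3 q30394 (flp_j L830295) q30907, e3 q30395 L824595 q29853, e3 q30396 L824607 q29854, e3 q30397 (flp_j L826619)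 q30584, e3 q30398 (flp_j L826631) q30585, e3 q30399 (flp_j L826644) q30586, trivial⟩ (by decide +kernel)

theorem ce_j_475 : ∀ r, r < 64 → sm gj (Qf (30400 + r)) = Qf (tab Gen.j (30400 + r)) :=
  edges_tab (sm gj) Qf (tab Gen.j) 30400 [(30400, 30587), (30401, 29716), (30402, 29717), (30403, 29718), (30404, 29719), (30405, 30821), (30406, 30883), (30407, 30819), (30408, 30820), (30409, 30917), (30410, 30918), (30411, 29832), (30412, 29842), (30413, 29843), (30414, 30541), (30415, 30542), (30416, 30543), (30417, 30570), (30418, 29739), (30419, 29740), (30420, 29741), (30421, 29742), (30422, 29743), (30423, 29744), (30424, 30925), (30425, 30926), (30426, 30927), (30427, 30928), (30428, 30929), (30429, 30564), (30430, 30565), (30431, 30566), (30432, 30658), (30433, 30659), (30434, 30660), (30435, 30661), (30436, 29771), (30437, 29772), (30438, 29773), (30439, 29774), (30440, 29775), (30441, 30706), (30442, 30826), (30443, 30782), (30444, 30784), (30445, 30798), (30446, 30799), (30447, 30938), (30448, 30939), (30449, 30940), (30450,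 30665), (30451, 30666), (30452, 30667), (30453, 30733), (30454, 30734), (30455, 30735), (30456, 30662), (30457, 30663), (30458, 30664), (30459, 30749), (30460, 30750), (30461, 30751), (30462, 30752), (30463, 29847)]
    ⟨e3 q30400 (flp_j L826661) q30587, e3 q30401 L824651 q29716, e3 q30402 L824659 q29717, e3 q30403 L824667 q29718, e3 q30404 L824681 q29719, e3 q30405 (flp_j L829475) q30821, e3 q30406 (flp_j L830103) q30883, e3 q30407 (flp_j L829451) q30819, e3 q30408 (flp_j L829463) q30820, e3 q30409 (flp_j L830383) q30917, e3 q30410 (flp_j L830393) q30918, e3 q30411 L824746 q29832, e3 q30412 L824756 q29842, e3 q30413 L824764 q29843, e3 q30414 (flp_j L825961) q30541, e3 q30415 (flp_j L825973) q30542, e3 q30416 (flp_j L825987) q30543, e3 q30417 (flp_j L826386) q30570, e3 q30418 L824805 q29739, e3 q30419 L824813 q29740, e3 q30420 L824821 q29741, e3 q30421 L824831 q29742, e3 q30422 L824841 q29743, e3 q30423 L824849 q29744, e3 q30424 (flp_j L830457) q30925, e3 q30425 (flp_j L830463) q30926, e3 q30426 (flp_j L830474) q30927, e3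 q30427 (flp_j L830484) q30928, e3 q30428 (flp_j L830495) q30929, e3 q30429 (flp_j L826302) q30564, e3 q30430 (flp_j L826314) q30565, e3 q30431 (flp_j L826328) q30566, e3 q30432 (flp_j L827593) q30658, e3 q30433 (flp_j L827603) q30659, e3 q30434 (flp_j L827614) q30660, e3 q30435 (flp_j L827624) q30661, e3 q30436 L824916 q29771, e3 q30437 L824926 q29772, e3 q30438 L824936 q29773, e3 q30439 L824944 q29774, e3 q30440 L824951 q29775, e3 q30441 (flp_j L828240) q30706, e3 q30442 (flp_j L829532) q30826, e3 q30443 (flp_j L829053) q30782, e3 q30444 (flp_j L829075) q30784, e3 q30445 (flp_j L829236) q30798, e3 q30446 (flp_j L829250) q30799, e3 q30447 (flp_j L830542) q30938, e3 q30448 (flp_j L830552) q30939, e3 q30449 (flp_j L830563) q30940, e3 q30450 (flp_j L827682) q30665, e3 q30451 (flp_j L827694) q30666, e3 q30452 (flp_j L827712) q30667, e3 q30453 (flp_j L828524) q30733, e3 q30454 (flp_j L828542) q30734, e3 q30455 (flp_j L828558) q30735, e3 q30456 (flp_j L827636) q30662, e3 q30457 (flp_j L827648) q30663, e3 q30458 (flp_j L827662)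 q30664, e3 q30459 (flp_j L828691) q30749, e3 q30460 (flp_j L828705) q30750, e3 q30461 (flp_j L828717) q30751, e3 q30462 (flp_j L828732) q30752, e3 q30463 L825116 q29847, trivial⟩ (by decide +kernel)

theorem ce_j_476 : ∀ r, r < 64 → sm gj (Qf (30464 + r)) = Qf (tab Gen.j (30464 + r)) :=
  edges_tab (sm gj) Qf (tab Gen.j) 30464 [(30464, 29848), (30465, 30580), (30466, 30581), (30467, 30911), (30468, 30578), (30469, 30579), (30470, 30671), (30471, 30673), (30472, 30777), (30473, 29816), (30474, 29817), (30475, 30792), (30476, 30793), (30477, 30960), (30478, 30800), (30479, 30642), (30480, 30643), (30481, 30852), (30482, 30804), (30483, 30805), (30484, 30806), (30485, 30515), (30486, 30824), (30487, 30514), (30488, 30512), (30489, 30513), (30490, 30823), (30491, 30825), (30492, 30582), (30493, 30583), (30494, 30921), (30495, 30867), (30496, 30954), (30497, 30869), (30498, 30870), (30499, 30688), (30500, 30523), (30501, 30203), (30502, 30069), (30503, 30068), (30504, 29886), (30505, 29887), (30506, 29888), (30507, 30242), (30508,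 30243), (30509, 30005), (30510, 29885), (30511, 29981), (30512, 30488), (30513, 30489), (30514, 30487), (30515, 30485), (30516, 30283), (30517, 30361), (30518, 30362), (30519, 30363), (30520, 30364), (30521, 30365), (30522, 30345), (30523, 30500), (30524, 30986), (30525, 30981), (30526, 30982), (30527, 30983)]
    ⟨e3 q30464 L825120 q29848, e3 q30465 (flp_j L826549) q30580, e3 q30466 (flp_j L826565) q30581, e3 q30467 (flp_j L830336) q30911, e3 q30468 (flp_j L826514) q30578, e3 q30469 (flp_j L826530) q30579, e3 q30470 (flp_j L827767) q30671, e3 q30471 (flp_j L827795) q30673, e3 q30472 (flp_j L828990) q30777, e3 q30473 L825180 q29816, e3 q30474 L825184 q29817, e3 q30475 (flp_j L829163) q30792, e3 q30476 (flp_j L829177) q30793, e3 q30477 (flp_j L830702) q30960, e3 q30478 (flp_j L829265) q30800, e3 q30479 (flp_j L827369) q30642, e3 q30480 (flp_j L827385) q30643, e3 q30481 (flp_j L829778) q30852, e3 q30482 (flp_j L829312) q30804, e3 q30483 (flp_j L829320) q30805, e3 q30484 (flp_j L829333) q30806, e3 q30485 (flp_j L825579) q30515,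 e3 q30486 (flp_j L829509) q30824, e3 q30487 (flp_j L825564) q30514, e3 q30488 (flp_j L825538) q30512, e3 q30489 (flp_j L825550) q30513, e3 q30490 (flp_j L829499) q30823, e3 q30491 (flp_j L829517) q30825, e3 q30492 (flp_j L826584) q30582, e3 q30493 (flp_j L826600) q30583, e3 q30494 (flp_j L830426) q30921, e3 q30495 (flp_j L829962) q30867, e3 q30496 (flp_j L830664) q30954, e3 q30497 (flp_j L829972) q30869, e3 q30498 (flp_j L829983) q30870, e3 q30499 (flp_j L828014) q30688, e3 q30500 (flp_j L825693) q30523, e3 q30501 L825357 q30203, e3 q30502 L825375 q30069, e3 q30503 L825393 q30068, e3 q30504 L825407 q29886, e3 q30505 L825423 q29887, e3 q30506 L825440 q29888, e3 q30507 L825456 q30242, e3 q30508 L825468 q30243, e3 q30509 L825484 q30005, e3 q30510 L825500 q29885, e3 q30511 L825526 q29981, e3 q30512 L825538 q30488, e3 q30513 L825550 q30489, e3 q30514 L825564 q30487, e3 q30515 L825579 q30485, e3 q30516 L825599 q30283, e3 q30517 L825611 q30361, e3 q30518 L825623 q30362, e3 q30519 L825635 q30363, e3 q30520 L825650 q30364, e3 q30521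 L825665 q30365, e3 q30522 L825683 q30345, e3 q30523 L825693 q30500, e3 q30524 (flp_j L830928) q30986, e3 q30525 (flp_j L830849) q30981, e3 q30526 (flp_j L830863) q30982, e3 q30527 (flp_j L830880) q30983, trivial⟩ (by decide +kernel)

theorem ce_j_477 : ∀ r, r < 64 → sm gj (Qf (30528 + r)) = Qf (tab Gen.j (30528 + r)) :=
  edges_tab (sm gj) Qf (tab Gen.j) 30528 [(30528, 30131), (30529, 29908), (30530, 29909), (30531, 29910), (30532, 30125), (30533, 29912), (30534, 30122), (30535, 30229), (30536, 30230), (30537, 30231), (30538, 30232), (30539, 29913), (30540, 29914), (30541, 30414), (30542, 30415), (30543, 30416), (30544, 30373), (30545, 31008), (30546, 31009), (30547, 31010), (30548, 30372), (30549, 30181), (30550, 31016), (30551, 30130), (30552, 29944), (30553, 29945), (30554, 29992), (30555, 30272), (30556, 30245), (30557, 30246), (30558, 30189), (30559, 30278), (30560, 30279), (30561, 30280), (30562, 30281), (30563, 30282), (30564, 30429), (30565, 30430), (30566, 30431), (30567, 30288), (30568, 30287), (30569, 30136), (30570,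 30417), (30571, 30123), (30572, 30273), (30573, 30285), (30574, 30135), (30575, 30139), (30576, 30070), (30577, 30071), (30578, 30468), (30579, 30469), (30580, 30465), (30581, 30466), (30582, 30492), (30583, 30493), (30584, 30397), (30585, 30398), (30586, 30399), (30587, 30400), (30588, 29991), (30589, 29993), (30590, 29995), (30591, 29996)]
    ⟨e3 q30528 L825751 q30131, e3 q30529 L825765 q29908, e3 q30530 L825777 q29909, e3 q30531 L825795 q29910, e3 q30532 L825819 q30125, e3 q30533 L825831 q29912, e3 q30534 L825851 q30122, e3 q30535 L825863 q30229, e3 q30536 L825875 q30230, e3 q30537 L825893 q30231, e3 q30538 L825915 q30232, e3 q30539 L825929 q29913, e3 q30540 L825947 q29914, e3 q30541 L825961 q30414, e3 q30542 L825973 q30415, e3 q30543 L825987 q30416, e3 q30544 L826004 q30373, e3 q30545 (flp_j L831251) q31008, e3 q30546 (flp_j L831271) q31009, e3 q30547 (flp_j L831287) q31010, e3 q30548 L826051 q30372, e3 q30549 L826064 q30181, e3 q30550 (flp_j L831400) q31016, e3 q30551 L826096 q30130, e3 q30552 L826106 q29944, e3 q30553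 L826128 q29945, e3 q30554 L826150 q29992, e3 q30555 L826166 q30272, e3 q30556 L826176 q30245, e3 q30557 L826194 q30246, e3 q30558 L826212 q30189, e3 q30559 L826232 q30278, e3 q30560 L826244 q30279, e3 q30561 L826256 q30280, e3 q30562 L826273 q30281, e3 q30563 L826290 q30282, e3 q30564 L826302 q30429, e3 q30565 L826314 q30430, e3 q30566 L826328 q30431, e3 q30567 L826339 q30288, e3 q30568 L826357 q30287, e3 q30569 L826374 q30136, e3 q30570 L826386 q30417, e3 q30571 (flp_j L826406) q30123, e3 q30572 (flp_j L826424) q30273, e3 q30573 L826440 q30285, e3 q30574 L826454 q30135, e3 q30575 L826468 q30139, e3 q30576 L826480 q30070, e3 q30577 L826496 q30071, e3 q30578 L826514 q30468, e3 q30579 L826530 q30469, e3 q30580 L826549 q30465, e3 q30581 L826565 q30466, e3 q30582 L826584 q30492, e3 q30583 L826600 q30493, e3 q30584 L826619 q30397, e3 q30585 L826631 q30398, e3 q30586 L826644 q30399, e3 q30587 L826661 q30400, e3 q30588 L826675 q29991, e3 q30589 L826687 q29993, e3 q30590 L826705 q29995, e3 q30591 L826717 q29996, trivial⟩ (by decide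 +kernel)

theorem ce_j_478 : ∀ r, r < 64 → sm gj (Qf (30592 + r)) = Qf (tab Gen.j (30592 + r)) :=
  edges_tab (sm gj) Qf (tab Gen.j) 30592 [(30592, 29997), (30593, 29998), (30594, 30138), (30595, 29999), (30596, 30000), (30597, 30001), (30598, 30002), (30599, 30132), (30600, 30004), (30601, 30987), (30602, 30299), (30603, 30300), (30604, 30164), (30605, 30145), (30606, 30006), (30607, 30007), (30608, 30008), (30609, 30121), (30610, 31027), (30611, 31051), (30612, 30387), (30613, 31052), (30614, 31053), (30615, 31054), (30616, 31055), (30617, 30180), (30618, 31057), (30619, 31058), (30620, 31059), (30621, 31060), (30622, 30155), (30623, 30157), (30624, 30985), (30625, 31067), (30626, 31068), (30627, 31069), (30628, 30129), (30629, 30257), (30630, 30258), (30631, 30199), (30632, 30188), (30633, 30259), (30634, 30291), (30635, 30292), (30636, 30293), (30637, 30294), (30638, 30029), (30639, 30031), (30640, 30200), (30641, 30035), (30642, 30479), (30643, 30480), (30644, 30375), (30645, 30377), (30646, 31094), (30647, 30370), (30648,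 30371), (30649, 30178), (30650, 30128), (30651, 30040), (30652, 30041), (30653, 31101), (30654, 30198), (30655, 31102)]
    ⟨e3 q30592 L826731 q29997, e3 q30593 L826746 q29998, e3 q30594 L826768 q30138, e3 q30595 L826780 q29999, e3 q30596 L826792 q30000, e3 q30597 L826806 q30001, e3 q30598 L826821 q30002, e3 q30599 L826843 q30132, e3 q30600 L826853 q30004, e3 q30601 (flp_j L830954) q30987, e3 q30602 L826877 q30299, e3 q30603 L826889 q30300, e3 q30604 L826903 q30164, e3 q30605 L826920 q30145, e3 q30606 L826934 q30006, e3 q30607 L826940 q30007, e3 q30608 L826955 q30008, e3 q30609 L826971 q30121, e3 q30610 (flp_j L831567) q31027, e3 q30611 (flp_j L831939) q31051, e3 q30612 L827007 q30387, e3 q30613 (flp_j L831955) q31052, e3 q30614 (flp_j L831971) q31053, e3 q30615 (flp_j L831985) q31054, e3 q30616 (flp_j L832000) q31055, e3 q30617 L827057 q30180, e3 q30618 (flp_j L832032) q31057, e3 q30619 (flp_j L832048) q31058, e3 q30620 (flp_j L832062) q31059, e3 q30621 (flp_j L832077) q31060, e3 q30622 L827114 q30155, e3 q30623 L827129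 q30157, e3 q30624 (flp_j L830912) q30985, e3 q30625 (flp_j L832180) q31067, e3 q30626 (flp_j L832196) q31068, e3 q30627 (flp_j L832211) q31069, e3 q30628 L827186 q30129, e3 q30629 L827200 q30257, e3 q30630 L827212 q30258, e3 q30631 L827224 q30199, e3 q30632 L827241 q30188, e3 q30633 L827258 q30259, e3 q30634 L827268 q30291, e3 q30635 L827276 q30292, e3 q30636 L827289 q30293, e3 q30637 L827302 q30294, e3 q30638 L827314 q30029, e3 q30639 L827322 q30031, e3 q30640 L827339 q30200, e3 q30641 L827355 q30035, e3 q30642 L827369 q30479, e3 q30643 L827385 q30480, e3 q30644 L827404 q30375, e3 q30645 L827420 q30377, e3 q30646 (flp_j L832514) q31094, e3 q30647 L827443 q30370, e3 q30648 L827456 q30371, e3 q30649 L827468 q30178, e3 q30650 L827486 q30128, e3 q30651 L827500 q30040, e3 q30652 L827516 q30041, e3 q30653 (flp_j L832612) q31101, e3 q30654 L827542 q30198, e3 q30655 (flp_j L832628) q31102, trivial⟩ (by decide +kernel)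

theorem ce_j_479 : ∀ r, r < 64 → sm gj (Qf (30656 + r)) = Qf (tab Gen.j (30656 + r)) :=
  edges_tab (sm gj) Qf (tab Gen.j) 30656 [(30656, 30186), (30657, 30185), (30658, 30432), (30659, 30433), (30660, 30434), (30661, 30435), (30662, 30456), (30663, 30457), (30664, 30458), (30665, 30450), (30666, 30451), (30667, 30452), (30668, 30980), (30669, 31042), (30670, 31043), (30671, 30470), (30672, 30095), (30673, 30471), (30674, 30096), (30675, 30323), (30676, 30324), (30677, 30317), (30678, 30310), (30679, 30333), (30680, 30334), (30681, 30321), (30682, 30322), (30683, 30162), (30684, 30346), (30685, 30384), (30686, 30352), (30687, 31121), (30688, 30499), (30689, 30161), (30690, 30328), (30691, 30163), (30692, 30329), (30693, 30144), (30694, 30137), (30695, 30159), (30696, 30156), (30697, 30183), (30698, 30179), (30699, 30190), (30700, 30133), (30701, 30134), (30702, 30142), (30703, 30143), (30704, 31012), (30705, 31040), (30706, 30441), (30707, 31011), (30708, 30343), (30709, 31083), (30710, 31026), (30711, 31084), (30712, 31007),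 (30713, 31061), (30714, 31001), (30715, 31021), (30716, 31141), (30717, 31041), (30718, 31142), (30719, 31039)]
    ⟨e3 q30656 L827565 q30186, e3 q30657 L827583 q30185, e3 q30658 L827593 q30432, e3 q30659 L827603 q30433, e3 q30660 L827614 q30434, e3 q30661 L827624 q30435, e3 q30662 L827636 q30456, e3 q30663 L827648 q30457, e3 q30664 L827662 q30458, e3 q30665 L827682 q30450, e3 q30666 L827694 q30451, e3 q30667 L827712 q30452, e3 q30668 (flp_j L830835) q30980, e3 q30669 (flp_j L831793) q31042, e3 q30670 (flp_j L831809) q31043, e3 q30671 L827767 q30470, e3 q30672 L827781 q30095, e3 q30673 L827795 q30471, e3 q30674 L827814 q30096, e3 q30675 L827834 q30323, e3 q30676 L827846 q30324, e3 q30677 L827860 q30317, e3 q30678 L827882 q30310, e3 q30679 L827894 q30333, e3 q30680 L827906 q30334, e3 q30681 L827918 q30321, e3 q30682 L827933 q30322, e3 q30683 L827948 q30162, e3 q30684 L827966 q30346, e3 q30685 L827978 q30384, e3 q30686 L827994 q30352, e3 q30687 (flp_j L832904) q31121, e3 q30688 L828014 q30499, e3 q30689 L828029 q30161, e3 q30690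 L828041 q30328, e3 q30691 L828051 q30163, e3 q30692 L828063 q30329, e3 q30693 L828072 q30144, e3 q30694 L828085 q30137, e3 q30695 L828105 q30159, e3 q30696 L828119 q30156, e3 q30697 L828137 q30183, e3 q30698 L828151 q30179, e3 q30699 L828167 q30190, e3 q30700 L828179 q30133, e3 q30701 L828191 q30134, e3 q30702 L828201 q30142, e3 q30703 L828207 q30143, e3 q30704 (flp_j L831330) q31012, e3 q30705 L831763 q31040, e3 q30706 L828240 q30441, e3 q30707 (flp_j L831312) q31011, e3 q30708 L828266 q30343, e3 q30709 (flp_j L832373) q31083, e3 q30710 (flp_j L831547) q31026, e3 q30711 (flp_j L832388) q31084, e3 q30712 (flp_j L831239) q31007, e3 q30713 (flp_j L832099) q31061, e3 q30714 (flp_j L831161) q31001, e3 q30715 (flp_j L831474) q31021, e3 q30716 (flp_j L833195) q31141, e3 q30717 (flp_j L831779) q31041, e3 q30718 (flp_j L833207) q31142, e3 q30719 (flp_j L831743) q31039, trivial⟩ (by decide +kernel)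

theorem ce_j_480 : ∀ r, r < 64 → sm gj (Qf (30720 + r)) = Qf (tab Gen.j (30720 + r)) :=
  edges_tab (sm gj) Qf (tab Gen.j) 30720 [(30720, 31138), (30721, 31056), (30722, 31033), (30723, 30994), (30724, 31161), (30725, 30140), (30726, 31143), (30727, 31136), (30728, 31137), (30729, 31066), (30730, 30154), (30731, 30158), (30732, 30160), (30733, 30453), (30734, 30454), (30735, 30455), (30736, 31077), (30737, 31139), (30738, 31079), (30739, 31080), (30740, 31002), (30741, 31166), (30742, 31134), (30743, 31111), (30744, 31130), (30745, 31064), (30746, 30177), (30747, 30182), (30748, 30184), (30749, 30459), (30750, 30460), (30751, 30461), (30752, 30462), (30753, 31099), (30754, 31140), (30755, 31100), (30756, 31074), (30757, 31025), (30758, 30993), (30759, 31176), (30760, 31105), (30761, 31104), (30762, 31107), (30763, 31106), (30764, 30252), (30765, 31088), (30766, 30254), (30767, 30307), (30768, 30253), (30769, 30290), (30770, 30289), (30771, 31086), (30772, 30204), (30773, 30205), (30774, 31192), (30775, 30211), (30776, 30212),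 (30777, 30472), (30778, 31194), (30779, 30224), (30780, 30225), (30781, 30226), (30782, 30443), (30783, 30318)]
    ⟨e3 q30720 (flp_j L833145) q31138, e3 q30721 (flp_j L832022) q31056, e3 q30722 (flp_j L831651) q31033, e3 q30723 (flp_j L831063) q30994, e3 q30724 L833403 q31161, e3 q30725 (flp_j L828422) q30140, e3 q30726 (flp_j L833218) q31143, e3 q30727 (flp_j L833120) q31136, e3 q30728 (flp_j L833133) q31137, e3 q30729 (flp_j L832168) q31066, e3 q30730 L828487 q30154, e3 q30731 L828501 q30158, e3 q30732 L828509 q30160, e3 q30733 L828524 q30453, e3 q30734 L828542 q30454, e3 q30735 L828558 q30455, e3 q30736 (flp_j L832300) q31077, e3 q30737 (flp_j L833165) q31139, e3 q30738 (flp_j L832322) q31079, e3 q30739 (flp_j L832336) q31080, e3 q30740 (flp_j L831176) q31002, e3 q30741 (flp_j L833467) q31166, e3 q30742 (flp_j L833100) q31134, e3 q30743 (flp_j L832745) q31111, e3 q30744 (flp_j L833040) q31130, e3 q30745 (flp_j L832137) q31064, e3 q30746 L828660 q30177, e3 q30747 L828670 q30182, e3 q30748 L828680 q30184, e3 q30749 L828691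 q30459, e3 q30750 L828705 q30460, e3 q30751 L828717 q30461, e3 q30752 L828732 q30462, e3 q30753 (flp_j L832583) q31099, e3 q30754 (flp_j L833183) q31140, e3 q30755 (flp_j L832596) q31100, e3 q30756 (flp_j L832262) q31074, e3 q30757 (flp_j L831527) q31025, e3 q30758 (flp_j L831036) q30993, e3 q30759 (flp_j L833570) q31176, e3 q30760 (flp_j L832675) q31105, e3 q30761 (flp_j L832655) q31104, e3 q30762 (flp_j L832705) q31107, e3 q30763 (flp_j L832686) q31106, e3 q30764 L828824 q30252, e3 q30765 (flp_j L832443) q31088, e3 q30766 L828852 q30254, e3 q30767 (flp_j L828866) q30307, e3 q30768 L828876 q30253, e3 q30769 L828896 q30290, e3 q30770 L828908 q30289, e3 q30771 (flp_j L832414) q31086, e3 q30772 L828928 q30204, e3 q30773 L828940 q30205, e3 q30774 (flp_j L833723) q31192, e3 q30775 L828961 q30211, e3 q30776 L828975 q30212, e3 q30777 L828990 q30472, e3 q30778 (flp_j L833744) q31194, e3 q30779 L829018 q30224, e3 q30780 L829028 q30225, e3 q30781 L829043 q30226, e3 q30782 L829053 q30443, e3 q30783 L829065 q30318, trivial⟩ (by decide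 +kernel)

theorem ce_j_481 : ∀ r, r < 64 → sm gj (Qf (30784 + r)) = Qf (tab Gen.j (30784 + r)) :=
  edges_tab (sm gj) Qf (tab Gen.j) 30784 [(30784, 30444), (30785, 30320), (30786, 30369), (30787, 30344), (30788, 30351), (30789, 31197), (30790, 31198), (30791, 31199), (30792, 30475), (30793, 30476), (30794, 31013), (30795, 31014), (30796, 31015), (30797, 30235), (30798, 30445), (30799, 30446), (30800, 30478), (30801, 30250), (30802, 30251), (30803, 30984), (30804, 30482), (30805, 30483), (30806, 30484), (30807, 31212), (30808, 31187), (30809, 31189), (30810, 30284), (30811, 30286), (30812, 31085), (30813, 31087), (30814, 31089), (30815, 30295), (30816, 30296), (30817, 30297), (30818, 30298), (30819, 30407), (30820, 30408), (30821, 30405), (30822, 30390), (30823, 30490), (30824, 30486), (30825, 30491), (30826, 30442), (30827, 30386), (30828, 30309), (30829, 31028), (30830, 31029), (30831, 31030), (30832, 31031), (30833, 31032), (30834, 30992), (30835, 31218), (30836, 31036), (30837, 31035), (30838, 31191), (30839, 31038), (30840,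 31037), (30841, 31090), (30842, 31091), (30843, 31092), (30844, 31093), (30845, 31222), (30846, 31223), (30847, 31224)]
    ⟨e3 q30784 L829075 q30444, e3 q30785 L829086 q30320, e3 q30786 L829100 q30369, e3 q30787 L829114 q30344, e3 q30788 L829130 q30351, e3 q30789 (flp_j L833786) q31197, e3 q30790 (flp_j L833802) q31198, e3 q30791 (flp_j L833815) q31199, e3 q30792 L829163 q30475, e3 q30793 L829177 q30476, e3 q30794 (flp_j L831340) q31013, e3 q30795 (flp_j L831360) q31014, e3 q30796 (flp_j L831382) q31015, e3 q30797 L829226 q30235, e3 q30798 L829236 q30445, e3 q30799 L829250 q30446, e3 q30800 L829265 q30478, e3 q30801 L829277 q30250, e3 q30802 L829285 q30251, e3 q30803 (flp_j L830894) q30984, e3 q30804 L829312 q30482, e3 q30805 L829320 q30483, e3 q30806 L829333 q30484, e3 q30807 (flp_j L833969) q31212, e3 q30808 (flp_j L833661) q31187, e3 q30809 (flp_j L833684) q31189, e3 q30810 L829368 q30284, e3 q30811 L829378 q30286, e3 q30812 (flp_j L832400) q31085, e3 q30813 (flp_j L832430) q31087, e3 q30814 (flp_j L832459) q31089, e3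 q30815 L829412 q30295, e3 q30816 L829420 q30296, e3 q30817 L829431 q30297, e3 q30818 L829441 q30298, e3 q30819 L829451 q30407, e3 q30820 L829463 q30408, e3 q30821 L829475 q30405, e3 q30822 L829491 q30390, e3 q30823 L829499 q30490, e3 q30824 L829509 q30486, e3 q30825 L829517 q30491, e3 q30826 L829532 q30442, e3 q30827 L829548 q30386, e3 q30828 L829560 q30309, e3 q30829 (flp_j L831577) q31028, e3 q30830 (flp_j L831591) q31029, e3 q30831 (flp_j L831607) q31030, e3 q30832 (flp_j L831620) q31031, e3 q30833 (flp_j L831636) q31032, e3 q30834 (flp_j L831029) q30992, e3 q30835 (flp_j L834033) q31218, e3 q30836 (flp_j L831697) q31036, e3 q30837 (flp_j L831677) q31035, e3 q30838 (flp_j L833713) q31191, e3 q30839 (flp_j L831727) q31038, e3 q30840 (flp_j L831708) q31037, e3 q30841 (flp_j L832469) q31090, e3 q30842 (flp_j L832481) q31091, e3 q30843 (flp_j L832492) q31092, e3 q30844 (flp_j L832504) q31093, e3 q30845 (flp_j L834066) q31222, e3 q30846 (flp_j L834077) q31223, e3 q30847 (flp_j L834087) q31224, trivial⟩ (by decide +kernel)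

theorem ce_j_482 : ∀ r, r < 64 → sm gj (Qf (30848 + r)) = Qf (tab Gen.j (30848 + r)) :=
  edges_tab (sm gj) Qf (tab Gen.j) 30848 [(30848, 31204), (30849, 31225), (30850, 31063), (30851, 31065), (30852, 30481), (30853, 30356), (30854, 30357), (30855, 30306), (30856, 30341), (30857, 31229), (30858, 31125), (30859, 30319), (30860, 30316), (30861, 31123), (30862, 31201), (30863, 31127), (30864, 31129), (30865, 31122), (30866, 31124), (30867, 30495), (30868, 31135), (30869, 30497), (30870, 30498), (30871, 31126), (30872, 31128), (30873, 30374), (30874, 30376), (30875, 30378), (30876, 30380), (30877, 30342), (30878, 31146), (30879, 31203), (30880, 31000), (30881, 31131), (30882, 30383), (30883, 30406), (30884, 31132), (30885, 30385), (30886, 31249), (30887, 30366), (30888, 30367), (30889, 30368), (30890, 30995), (30891, 30996), (30892, 30997), (30893, 30998), (30894, 30999), (30895, 31264), (30896, 31202), (30897, 31205), (30898, 31098), (30899, 31023), (30900, 31024), (30901, 31020), (30902, 31257), (30903, 31096), (30904, 31258),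 (30905, 30393), (30906, 31259), (30907, 30394), (30908, 31260), (30909, 31227), (30910, 31070), (30911, 30467)]
    ⟨e3 q30848 (flp_j L833878) q31204, e3 q30849 (flp_j L834096) q31225, e3 q30850 (flp_j L832121) q31063, e3 q30851 (flp_j L832153) q31065, e3 q30852 L829778 q30481, e3 q30853 L829794 q30356, e3 q30854 L829811 q30357, e3 q30855 L829823 q30306, e3 q30856 L829839 q30341, e3 q30857 (flp_j L834148) q31229, e3 q30858 (flp_j L832975) q31125, e3 q30859 L829871 q30319, e3 q30860 L829885 q30316, e3 q30861 (flp_j L832938) q31123, e3 q30862 (flp_j L833837) q31201, e3 q30863 (flp_j L832999) q31127, e3 q30864 (flp_j L833026) q31129, e3 q30865 (flp_j L832922) q31122, e3 q30866 (flp_j L832952) q31124, e3 q30867 L829962 q30495, e3 q30868 (flp_j L833110) q31135, e3 q30869 L829972 q30497, e3 q30870 L829983 q30498, e3 q30871 (flp_j L832985) q31126, e3 q30872 (flp_j L833013) q31128, e3 q30873 L830008 q30374, e3 q30874 L830016 q30376, e3 q30875 L830027 q30378, e3 q30876 L830037 q30380, e3 q30877 L830045 q30342, e3 q30878 (flp_j L833260)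 q31146, e3 q30879 (flp_j L833869) q31203, e3 q30880 (flp_j L831146) q31000, e3 q30881 (flp_j L833058) q31131, e3 q30882 L830093 q30383, e3 q30883 L830103 q30406, e3 q30884 (flp_j L833074) q31132, e3 q30885 L830125 q30385, e3 q30886 (flp_j L834350) q31249, e3 q30887 L830143 q30366, e3 q30888 L830153 q30367, e3 q30889 L830163 q30368, e3 q30890 (flp_j L831073) q30995, e3 q30891 (flp_j L831087) q30996, e3 q30892 (flp_j L831101) q30997, e3 q30893 (flp_j L831114) q30998, e3 q30894 (flp_j L831128) q30999, e3 q30895 (flp_j L834490) q31264, e3 q30896 (flp_j L833853) q31202, e3 q30897 (flp_j L833893) q31205, e3 q30898 (flp_j L832569) q31098, e3 q30899 (flp_j L831502) q31023, e3 q30900 (flp_j L831515) q31024, e3 q30901 (flp_j L831459) q31020, e3 q30902 (flp_j L834425) q31257, e3 q30903 (flp_j L832548) q31096, e3 q30904 (flp_j L834436) q31258, e3 q30905 L830276 q30393, e3 q30906 (flp_j L834446) q31259, e3 q30907 L830295 q30394, e3 q30908 (flp_j L834455) q31260, e3 q30909 (flp_j L834126) q31227, e3 q30910 (flp_j L832227) q31070, e3 q30911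 L830336 q30467, trivial⟩ (by decide +kernel)

theorem ce_j_483 : ∀ r, r < 64 → sm gj (Qf (30912 + r)) = Qf (tab Gen.j (30912 + r)) :=
  edges_tab (sm gj) Qf (tab Gen.j) 30912 [(30912, 31278), (30913, 31047), (30914, 31048), (30915, 31049), (30916, 31050), (30917, 30409), (30918, 30410), (30919, 31226), (30920, 31286), (30921, 30494), (30922, 31017), (30923, 31018), (30924, 31019), (30925, 30424), (30926, 30425), (30927, 30426), (30928, 30427), (30929, 30428), (30930, 31290), (30931, 31291), (30932, 31292), (30933, 31034), (30934, 31108), (30935, 31109), (30936, 31110), (30937, 31112), (30938, 30447), (30939, 30448), (30940, 30449), (30941, 31144), (30942, 31200), (30943, 31210), (30944, 31298), (30945, 31299), (30946, 31116), (30947, 31117), (30948, 31118), (30949, 31167), (30950, 31113), (30951, 31114), (30952, 31115), (30953, 31177), (30954, 30496), (30955, 31045), (30956, 31280), (30957, 31044), (30958, 31120), (30959, 31195), (30960, 30477), (30961, 31208), (30962, 31311), (30963, 31211), (30964, 31095), (30965, 31248),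 (30966, 31213), (30967, 31214), (30968, 31215), (30969, 30991), (30970, 30989), (30971, 30988), (30972, 30990), (30973, 31228), (30974, 31046), (30975, 31288)]
    ⟨e3 q30912 (flp_j L834595) q31278, e3 q30913 (flp_j L831882) q31047, e3 q30914 (flp_j L831896) q31048, e3 q30915 (flp_j L831911) q31049, e3 q30916 (flp_j L831927) q31050, e3 q30917 L830383 q30409, e3 q30918 L830393 q30410, e3 q30919 (flp_j L834108) q31226, e3 q30920 (flp_j L834669) q31286, e3 q30921 L830426 q30494, e3 q30922 (flp_j L831412) q31017, e3 q30923 (flp_j L831428) q31018, e3 q30924 (flp_j L831444) q31019, e3 q30925 L830457 q30424, e3 q30926 L830463 q30425, e3 q30927 L830474 q30426, e3 q30928 L830484 q30427, e3 q30929 L830495 q30428, e3 q30930 (flp_j L834705) q31290, e3 q30931 (flp_j L834717) q31291, e3 q30932 (flp_j L834725) q31292, e3 q30933 (flp_j L831665) q31034, e3 q30934 (flp_j L832715) q31108, e3 q30935 (flp_j L832726) q31109, e3 q30936 (flp_j L832736) q31110, e3 q30937 (flp_j L832758) q31112, e3 q30938 L830542 q30447, e3 q30939 L830552 q30448,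 e3 q30940 L830563 q30449, e3 q30941 (flp_j L833232) q31144, e3 q30942 (flp_j L833825) q31200, e3 q30943 (flp_j L833944) q31210, e3 q30944 (flp_j L834760) q31298, e3 q30945 (flp_j L834768) q31299, e3 q30946 (flp_j L832817) q31116, e3 q30947 (flp_j L832837) q31117, e3 q30948 (flp_j L832855) q31118, e3 q30949 (flp_j L833483) q31167, e3 q30950 (flp_j L832768) q31113, e3 q30951 (flp_j L832784) q31114, e3 q30952 (flp_j L832800) q31115, e3 q30953 (flp_j L833580) q31177, e3 q30954 L830664 q30496, e3 q30955 (flp_j L831846) q31045, e3 q30956 (flp_j L834619) q31280, e3 q30957 (flp_j L831828) q31044, e3 q30958 (flp_j L832884) q31120, e3 q30959 (flp_j L833758) q31195, e3 q30960 L830702 q30477, e3 q30961 (flp_j L833918) q31208, e3 q30962 (flp_j L834852) q31311, e3 q30963 (flp_j L833956) q31211, e3 q30964 (flp_j L832530) q31095, e3 q30965 (flp_j L834333) q31248, e3 q30966 (flp_j L833981) q31213, e3 q30967 (flp_j L833995) q31214, e3 q30968 (flp_j L834006) q31215, e3 q30969 (flp_j L831009) q30991, e3 q30970 (flp_j L830980) q30989, e3 q30971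 (flp_j L830964) q30988, e3 q30972 (flp_j L830994) q30990, e3 q30973 (flp_j L834134) q31228, e3 q30974 (flp_j L831864) q31046, e3 q30975 (flp_j L834688) q31288, trivial⟩ (by decide +kernel)

theorem ce_j_484 : ∀ r, r < 64 → sm gj (Qf (30976 + r)) = Qf (tab Gen.j (30976 + r)) :=
  edges_tab (sm gj) Qf (tab Gen.j) 30976 [(30976, 31253), (30977, 31307), (30978, 31255), (30979, 31133), (30980, 30668), (30981, 30525), (30982, 30526), (30983, 30527), (30984, 30803), (30985, 30624), (30986, 30524), (30987, 30601), (30988, 30971), (30989, 30970), (30990, 30972), (30991, 30969), (30992, 30834), (30993, 30758), (30994, 30723), (30995, 30890), (30996, 30891), (30997, 30892), (30998, 30893), (30999, 30894), (31000, 30880), (31001, 30714), (31002, 30740), (31003, 31325), (31004, 31322), (31005, 31323), (31006, 31324), (31007, 30712), (31008, 30545), (31009, 30546), (31010, 30547), (31011, 30707), (31012, 30704), (31013, 30794), (31014, 30795), (31015, 30796), (31016, 30550), (31017, 30922), (31018, 30923), (31019, 30924), (31020, 30901),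 (31021, 30715), (31022, 31345), (31023, 30899), (31024, 30900), (31025, 30757), (31026, 30710), (31027, 30610), (31028, 30829), (31029, 30830), (31030, 30831), (31031, 30832), (31032, 30833), (31033, 30722), (31034, 30933), (31035, 30837), (31036, 30836), (31037, 30840), (31038, 30839), (31039, 30719)]
    ⟨e3 q30976 (flp_j L834392) q31253, e3 q30977 (flp_j L834824) q31307, e3 q30978 (flp_j L834409) q31255, e3 q30979 (flp_j L833084) q31133, e3 q30980 L830835 q30668, e3 q30981 L830849 q30525, e3 q30982 L830863 q30526, e3 q30983 L830880 q30527, e3 q30984 L830894 q30803, e3 q30985 L830912 q30624, e3 q30986 L830928 q30524, e3 q30987 L830954 q30601, e3 q30988 L830964 q30971, e3 q30989 L830980 q30970, e3 q30990 L830994 q30972, e3 q30991 L831009 q30969, e3 q30992 L831029 q30834, e3 q30993 L831036 q30758, e3 q30994 L831063 q30723, e3 q30995 L831073 q30890, e3 q30996 L831087 q30891, e3 q30997 L831101 q30892, e3 q30998 L831114 q30893, e3 q30999 L831128 q30894, e3 q31000 L831146 q30880, e3 q31001 L831161 q30714, e3 q31002 L831176 q30740,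 e3 q31003 (flp_j L834983) q31325, e3 q31004 (flp_j L834932) q31322, e3 q31005 (flp_j L834950) q31323, e3 q31006 (flp_j L834967) q31324, e3 q31007 L831239 q30712, e3 q31008 L831251 q30545, e3 q31009 L831271 q30546, e3 q31010 L831287 q30547, e3 q31011 L831312 q30707, e3 q31012 L831330 q30704, e3 q31013 L831340 q30794, e3 q31014 L831360 q30795, e3 q31015 L831382 q30796, e3 q31016 L831400 q30550, e3 q31017 L831412 q30922, e3 q31018 L831428 q30923, e3 q31019 L831444 q30924, e3 q31020 L831459 q30901, e3 q31021 L831474 q30715, e3 q31022 (flp_j L835290) q31345, e3 q31023 L831502 q30899, e3 q31024 L831515 q30900, e3 q31025 L831527 q30757, e3 q31026 L831547 q30710, e3 q31027 L831567 q30610, e3 q31028 L831577 q30829, e3 q31029 L831591 q30830, e3 q31030 L831607 q30831, e3 q31031 L831620 q30832, e3 q31032 L831636 q30833, e3 q31033 L831651 q30722, e3 q31034 L831665 q30933, e3 q31035 L831677 q30837, e3 q31036 L831697 q30836, e3 q31037 L831708 q30840, e3 q31038 L831727 q30839, e3 q31039 L831743 q30719, trivial⟩ (by decide +kernel)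

theorem ce_j_485 : ∀ r, r < 64 → sm gj (Qf (31040 + r)) = Qf (tab Gen.j (31040 + r)) :=
  edges_tab (sm gj) Qf (tab Gen.j) 31040 [(31040, 30705), (31041, 30717), (31042, 30669), (31043, 30670), (31044, 30957), (31045, 30955), (31046, 30974), (31047, 30913), (31048, 30914), (31049, 30915), (31050, 30916), (31051, 30611), (31052, 30613), (31053, 30614), (31054, 30615), (31055, 30616), (31056, 30721), (31057, 30618), (31058, 30619), (31059, 30620), (31060, 30621), (31061, 30713), (31062, 31326), (31063, 30850), (31064, 30745), (31065, 30851), (31066, 30729), (31067, 30625), (31068, 30626), (31069, 30627), (31070, 30910), (31071, 31375), (31072, 31376), (31073, 31378), (31074, 30756), (31075, 31379), (31076, 31380), (31077, 30736), (31078, 31382), (31079, 30738), (31080, 30739), (31081, 31386), (31082, 31387), (31083, 30709), (31084, 30711), (31085, 30812), (31086, 30771), (31087, 30813), (31088, 30765), (31089, 30814), (31090, 30841), (31091, 30842), (31092, 30843), (31093, 30844), (31094, 30646), (31095, 30964), (31096, 30903),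 (31097, 31408), (31098, 30898), (31099, 30753), (31100, 30755), (31101, 30653), (31102, 30655), (31103, 31413)]
    ⟨e3 q31040 (flp_j L831763) q30705, e3 q31041 L831779 q30717, e3 q31042 L831793 q30669, e3 q31043 L831809 q30670, e3 q31044 L831828 q30957, e3 q31045 L831846 q30955, e3 q31046 L831864 q30974, e3 q31047 L831882 q30913, e3 q31048 L831896 q30914, e3 q31049 L831911 q30915, e3 q31050 L831927 q30916, e3 q31051 L831939 q30611, e3 q31052 L831955 q30613, e3 q31053 L831971 q30614, e3 q31054 L831985 q30615, e3 q31055 L832000 q30616, e3 q31056 L832022 q30721, e3 q31057 L832032 q30618, e3 q31058 L832048 q30619, e3 q31059 L832062 q30620, e3 q31060 L832077 q30621, e3 q31061 L832099 q30713, e3 q31062 (flp_j L835011) q31326, e3 q31063 L832121 q30850, e3 q31064 L832137 q30745, e3 q31065 L832153 q30851, e3 q31066 L832168 q30729, e3 q31067 L832180 q30625, e3 q31068 L832196 q30626, e3 q31069 L832211 q30627, e3 q31070 L832227 q30910, e3 q31071 (flp_j L835764) q31375, e3 q31072 (flp_j L835780) q31376, e3 q31073 (flp_j L835813) q31378,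 e3 q31074 L832262 q30756, e3 q31075 (flp_j L835829) q31379, e3 q31076 (flp_j L835845) q31380, e3 q31077 L832300 q30736, e3 q31078 (flp_j L835878) q31382, e3 q31079 L832322 q30738, e3 q31080 L832336 q30739, e3 q31081 (flp_j L835937) q31386, e3 q31082 (flp_j L835954) q31387, e3 q31083 L832373 q30709, e3 q31084 L832388 q30711, e3 q31085 L832400 q30812, e3 q31086 L832414 q30771, e3 q31087 L832430 q30813, e3 q31088 L832443 q30765, e3 q31089 L832459 q30814, e3 q31090 L832469 q30841, e3 q31091 L832481 q30842, e3 q31092 L832492 q30843, e3 q31093 L832504 q30844, e3 q31094 L832514 q30646, e3 q31095 L832530 q30964, e3 q31096 L832548 q30903, e3 q31097 (flp_j L836231) q31408, e3 q31098 L832569 q30898, e3 q31099 L832583 q30753, e3 q31100 L832596 q30755, e3 q31101 L832612 q30653, e3 q31102 L832628 q30655, e3 q31103 (flp_j L836315) q31413, trivial⟩ (by decide +kernel)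

theorem ce_j_486 : ∀ r, r < 64 → sm gj (Qf (31104 + r)) = Qf (tab Gen.j (31104 + r)) :=
  edges_tab (sm gj) Qf (tab Gen.j) 31104 [(31104, 30761), (31105, 30760), (31106, 30763), (31107, 30762), (31108, 30934), (31109, 30935), (31110, 30936), (31111, 30743), (31112, 30937), (31113, 30950), (31114, 30951), (31115, 30952), (31116, 30946), (31117, 30947), (31118, 30948), (31119, 31367), (31120, 30958), (31121, 30687), (31122, 30865), (31123, 30861), (31124, 30866), (31125, 30858), (31126, 30871), (31127, 30863), (31128, 30872), (31129, 30864), (31130, 30744), (31131, 30881), (31132, 30884), (31133, 30979), (31134, 30742), (31135, 30868), (31136, 30727), (31137, 30728), (31138, 30720), (31139, 30737), (31140, 30754), (31141, 30716), (31142, 30718), (31143, 30726), (31144, 30941), (31145, 31346), (31146, 30878), (31147, 31398), (31148, 31343), (31149, 31381), (31150, 31344), (31151, 31339), (31152, 31351), (31153, 31437), (31154, 31365), (31155, 31435), (31156, 31377), (31157, 31366), (31158, 31436), (31159, 31361), (31160, 31332),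 (31161, 30724), (31162, 31438), (31163, 31434), (31164, 31384), (31165, 31385), (31166, 30741), (31167, 30949)]
    ⟨e3 q31104 L832655 q30761, e3 q31105 L832675 q30760, e3 q31106 L832686 q30763, e3 q31107 L832705 q30762, e3 q31108 L832715 q30934, e3 q31109 L832726 q30935, e3 q31110 L832736 q30936, e3 q31111 L832745 q30743, e3 q31112 L832758 q30937, e3 q31113 L832768 q30950, e3 q31114 L832784 q30951, e3 q31115 L832800 q30952, e3 q31116 L832817 q30946, e3 q31117 L832837 q30947, e3 q31118 L832855 q30948, e3 q31119 (flp_j L835627) q31367, e3 q31120 L832884 q30958, e3 q31121 L832904 q30687, e3 q31122 L832922 q30865, e3 q31123 L832938 q30861, e3 q31124 L832952 q30866, e3 q31125 L832975 q30858, e3 q31126 L832985 q30871, e3 q31127 L832999 q30863, e3 q31128 L833013 q30872, e3 q31129 L833026 q30864, e3 q31130 L833040 q30744, e3 q31131 L833058 q30881, e3 q31132 L833074 q30884, e3 q31133 L833084 q30979, e3 q31134 L833100 q30742, e3 q31135 L833110 q30868, e3 q31136 L833120 q30727, e3 q31137 L833133 q30728, e3 q31138 L833145 q30720, e3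 q31139 L833165 q30737, e3 q31140 L833183 q30754, e3 q31141 L833195 q30716, e3 q31142 L833207 q30718, e3 q31143 L833218 q30726, e3 q31144 L833232 q30941, e3 q31145 (flp_j L835316) q31346, e3 q31146 L833260 q30878, e3 q31147 (flp_j L836099) q31398, e3 q31148 (flp_j L835261) q31343, e3 q31149 (flp_j L835869) q31381, e3 q31150 (flp_j L835276) q31344, e3 q31151 (flp_j L835204) q31339, e3 q31152 (flp_j L835391) q31351, e3 q31153 (flp_j L836656) q31437, e3 q31154 (flp_j L835600) q31365, e3 q31155 (flp_j L836629) q31435, e3 q31156 (flp_j L835804) q31377, e3 q31157 (flp_j L835615) q31366, e3 q31158 (flp_j L836642) q31436, e3 q31159 (flp_j L835535) q31361, e3 q31160 (flp_j L835104) q31332, e3 q31161 (flp_j L833403) q30724, e3 q31162 (flp_j L836666) q31438, e3 q31163 (flp_j L836615) q31434, e3 q31164 (flp_j L835910) q31384, e3 q31165 (flp_j L835925) q31385, e3 q31166 L833467 q30741, e3 q31167 L833483 q30949, trivial⟩ (by decide +kernel)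

theorem ce_j_487 : ∀ r, r < 64 → sm gj (Qf (31168 + r)) = Qf (tab Gen.j (31168 + r)) :=
  edges_tab (sm gj) Qf (tab Gen.j) 31168 [(31168, 31394), (31169, 31395), (31170, 31396), (31171, 31340), (31172, 31454), (31173, 31418), (31174, 31429), (31175, 31420), (31176, 30759), (31177, 30953), (31178, 31412), (31179, 31390), (31180, 31354), (31181, 31391), (31182, 31355), (31183, 31331), (31184, 31462), (31185, 31416), (31186, 31415), (31187, 30808), (31188, 31400), (31189, 30809), (31190, 31402), (31191, 30838), (31192, 30774), (31193, 31473), (31194, 30778), (31195, 30959), (31196, 31474), (31197, 30789), (31198, 30790), (31199, 30791), (31200, 30942), (31201, 30862), (31202, 30896), (31203, 30879), (31204, 30848), (31205, 30897), (31206, 31475), (31207, 31476), (31208, 30961), (31209, 31347), (31210, 30943), (31211, 30963), (31212, 30807), (31213, 30966), (31214, 30967), (31215, 30968), (31216, 31483), (31217, 31471), (31218, 30835), (31219, 31399), (31220, 31401), (31221, 31403), (31222, 30845), (31223, 30846), (31224, 30847),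 (31225, 30849), (31226, 30919), (31227, 30909), (31228, 30973), (31229, 30857), (31230, 31356), (31231, 31357)]
    ⟨e3 q31168 (flp_j L836039) q31394, e3 q31169 (flp_j L836055) q31395, e3 q31170 (flp_j L836070) q31396, e3 q31171 (flp_j L835218) q31340, e3 q31172 (flp_j L836850) q31454, e3 q31173 (flp_j L836383) q31418, e3 q31174 (flp_j L836548) q31429, e3 q31175 (flp_j L836406) q31420, e3 q31176 L833570 q30759, e3 q31177 L833580 q30953, e3 q31178 (flp_j L836299) q31412, e3 q31179 (flp_j L835987) q31390, e3 q31180 (flp_j L835434) q31354, e3 q31181 (flp_j L836002) q31391, e3 q31182 (flp_j L835447) q31355, e3 q31183 (flp_j L835078) q31331, e3 q31184 (flp_j L836945) q31462, e3 q31185 (flp_j L836362) q31416, e3 q31186 (flp_j L836342) q31415, e3 q31187 L833661 q30808, e3 q31188 (flp_j L836125) q31400, e3 q31189 L833684 q30809, e3 q31190 (flp_j L836154) q31402, e3 q31191 L833713 q30838, e3 q31192 L833723 q30774, e3 q31193 (flp_j L837053) q31473, e3 q31194 L833744 q30778, e3 q31195 L833758 q30959, e3 q31196 (flp_j L837068) q31474,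 e3 q31197 L833786 q30789, e3 q31198 L833802 q30790, e3 q31199 L833815 q30791, e3 q31200 L833825 q30942, e3 q31201 L833837 q30862, e3 q31202 L833853 q30896, e3 q31203 L833869 q30879, e3 q31204 L833878 q30848, e3 q31205 L833893 q30897, e3 q31206 (flp_j L837085) q31475, e3 q31207 (flp_j L837102) q31476, e3 q31208 L833918 q30961, e3 q31209 (flp_j L835332) q31347, e3 q31210 L833944 q30943, e3 q31211 L833956 q30963, e3 q31212 L833969 q30807, e3 q31213 L833981 q30966, e3 q31214 L833995 q30967, e3 q31215 L834006 q30968, e3 q31216 (flp_j L837192) q31483, e3 q31217 (flp_j L837029) q31471, e3 q31218 L834033 q30835, e3 q31219 (flp_j L836111) q31399, e3 q31220 (flp_j L836143) q31401, e3 q31221 (flp_j L836171) q31403, e3 q31222 L834066 q30845, e3 q31223 L834077 q30846, e3 q31224 L834087 q30847, e3 q31225 L834096 q30849, e3 q31226 L834108 q30919, e3 q31227 L834126 q30909, e3 q31228 L834134 q30973, e3 q31229 L834148 q30857, e3 q31230 (flp_j L835461) q31356, e3 q31231 (flp_j L835475) q31357, trivial⟩ (by decide +kernel)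

theorem ce_j_488 : ∀ r, r < 64 → sm gj (Qf (31232 + r)) = Qf (tab Gen.j (31232 + r)) :=
  edges_tab (sm gj) Qf (tab Gen.j) 31232 [(31232, 31358), (31233, 31329), (31234, 31359), (31235, 31360), (31236, 31487), (31237, 31364), (31238, 31363), (31239, 31404), (31240, 31405), (31241, 31406), (31242, 31407), (31243, 31490), (31244, 31478), (31245, 31491), (31246, 31431), (31247, 31383), (31248, 30965), (31249, 30886), (31250, 31426), (31251, 31428), (31252, 31425), (31253, 30976), (31254, 31433), (31255, 30978), (31256, 31427), (31257, 30902), (31258, 30904), (31259, 30906), (31260, 30908), (31261, 31336), (31262, 31430), (31263, 31504), (31264, 30895), (31265, 31333), (31266, 31334), (31267, 31335), (31268, 31337), (31269, 31338), (31270, 31509), (31271, 31479), (31272, 31411), (31273, 31353), (31274, 31349), (31275, 31350), (31276, 31410), (31277, 31507), (31278, 30912), (31279, 31508), (31280, 30956), (31281, 31516), (31282, 31371), (31283, 31372), (31284, 31373), (31285, 31374), (31286, 30920), (31287, 31520), (31288, 30975),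 (31289, 31348), (31290, 30930), (31291, 30931), (31292, 30932), (31293, 31522), (31294, 31523), (31295, 31362)]
    ⟨e3 q31232 (flp_j L835493) q31358, e3 q31233 (flp_j L835059) q31329, e3 q31234 (flp_j L835504) q31359, e3 q31235 (flp_j L835521) q31360, e3 q31236 (flp_j L837241) q31487, e3 q31237 (flp_j L835582) q31364, e3 q31238 (flp_j L835562) q31363, e3 q31239 (flp_j L836181) q31404, e3 q31240 (flp_j L836194) q31405, e3 q31241 (flp_j L836208) q31406, e3 q31242 (flp_j L836221) q31407, e3 q31243 (flp_j L837270) q31490, e3 q31244 (flp_j L837125) q31478, e3 q31245 (flp_j L837280) q31491, e3 q31246 (flp_j L836577) q31431, e3 q31247 (flp_j L835894) q31383, e3 q31248 L834333 q30965, e3 q31249 L834350 q30886, e3 q31250 (flp_j L836508) q31426, e3 q31251 (flp_j L836532) q31428, e3 q31252 (flp_j L836484) q31425, e3 q31253 L834392 q30976, e3 q31254 (flp_j L836602) q31433, e3 q31255 L834409 q30978, e3 q31256 (flp_j L836518) q31427, e3 q31257 L834425 q30902, e3 q31258 L834436 q30904, e3 q31259 L834446 q30906, e3 q31260 L834455 q30908,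 e3 q31261 (flp_j L835164) q31336, e3 q31262 (flp_j L836568) q31430, e3 q31263 (flp_j L837417) q31504, e3 q31264 L834490 q30895, e3 q31265 (flp_j L835114) q31333, e3 q31266 (flp_j L835128) q31334, e3 q31267 (flp_j L835144) q31335, e3 q31268 (flp_j L835173) q31337, e3 q31269 (flp_j L835188) q31338, e3 q31270 (flp_j L837468) q31509, e3 q31271 (flp_j L837141) q31479, e3 q31272 (flp_j L836285) q31411, e3 q31273 (flp_j L835420) q31353, e3 q31274 (flp_j L835362) q31349, e3 q31275 (flp_j L835377) q31350, e3 q31276 (flp_j L836267) q31410, e3 q31277 (flp_j L837452) q31507, e3 q31278 L834595 q30912, e3 q31279 (flp_j L837462) q31508, e3 q31280 L834619 q30956, e3 q31281 (flp_j L837525) q31516, e3 q31282 (flp_j L835700) q31371, e3 q31283 (flp_j L835717) q31372, e3 q31284 (flp_j L835735) q31373, e3 q31285 (flp_j L835752) q31374, e3 q31286 L834669 q30920, e3 q31287 (flp_j L837559) q31520, e3 q31288 L834688 q30975, e3 q31289 (flp_j L835346) q31348, e3 q31290 L834705 q30930, e3 q31291 L834717 q30931, e3 q31292 L834725 q30932, e3 q31293 (flp_j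 L837579) q31522, e3 q31294 (flp_j L837588) q31523, e3 q31295 (flp_j L835549) q31362, trivial⟩ (by decide +kernel)

theorem ce_j_489 : ∀ r, r < 64 → sm gj (Qf (31296 + r)) = Qf (tab Gen.j (31296 + r)) :=
  edges_tab (sm gj) Qf (tab Gen.j) 31296 [(31296, 31417), (31297, 31419), (31298, 30944), (31299, 30945), (31300, 31477), (31301, 31482), (31302, 31525), (31303, 31422), (31304, 31455), (31305, 31421), (31306, 31463), (31307, 30977), (31308, 31369), (31309, 31368), (31310, 31424), (31311, 30962), (31312, 31481), (31313, 31409), (31314, 31484), (31315, 31485), (31316, 31328), (31317, 31330), (31318, 31327), (31319, 31492), (31320, 31370), (31321, 31432), (31322, 31004), (31323, 31005), (31324, 31006), (31325, 31003), (31326, 31062), (31327, 31318), (31328, 31316), (31329, 31233), (31330, 31317), (31331, 31183), (31332, 31160), (31333, 31265), (31334, 31266), (31335, 31267), (31336, 31261), (31337, 31268), (31338, 31269), (31339, 31151), (31340, 31171), (31341, 31531), (31342, 31532), (31343, 31148), (31344, 31150), (31345,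 31022), (31346, 31145), (31347, 31209), (31348, 31289), (31349, 31274), (31350, 31275), (31351, 31152), (31352, 31548), (31353, 31273), (31354, 31180), (31355, 31182), (31356, 31230), (31357, 31231), (31358, 31232), (31359, 31234)]
    ⟨e3 q31296 (flp_j L836373) q31417, e3 q31297 (flp_j L836397) q31419, e3 q31298 L834760 q30944, e3 q31299 L834768 q30945, e3 q31300 (flp_j L837112) q31477, e3 q31301 (flp_j L837177) q31482, e3 q31302 (flp_j L837602) q31525, e3 q31303 (flp_j L836438) q31422, e3 q31304 (flp_j L836867) q31455, e3 q31305 (flp_j L836420) q31421, e3 q31306 (flp_j L836954) q31463, e3 q31307 L834824 q30977, e3 q31308 (flp_j L835664) q31369, e3 q31309 (flp_j L835645) q31368, e3 q31310 (flp_j L836469) q31424, e3 q31311 L834852 q30962, e3 q31312 (flp_j L837160) q31481, e3 q31313 (flp_j L836248) q31409, e3 q31314 (flp_j L837205) q31484, e3 q31315 (flp_j L837220) q31485, e3 q31316 (flp_j L835037) q31328, e3 q31317 (flp_j L835068) q31330, e3 q31318 (flp_j L835021) q31327, e3 q31319 (flp_j L837286) q31492, e3 q31320 (flp_j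 L835683) q31370, e3 q31321 (flp_j L836591) q31432, e3 q31322 L834932 q31004, e3 q31323 L834950 q31005, e3 q31324 L834967 q31006, e3 q31325 L834983 q31003, e3 q31326 L835011 q31062, e3 q31327 L835021 q31318, e3 q31328 L835037 q31316, e3 q31329 L835059 q31233, e3 q31330 L835068 q31317, e3 q31331 L835078 q31183, e3 q31332 L835104 q31160, e3 q31333 L835114 q31265, e3 q31334 L835128 q31266, e3 q31335 L835144 q31267, e3 q31336 L835164 q31261, e3 q31337 L835173 q31268, e3 q31338 L835188 q31269, e3 q31339 L835204 q31151, e3 q31340 L835218 q31171, e3 q31341 (flp_j L837655) q31531, e3 q31342 (flp_j L837674) q31532, e3 q31343 L835261 q31148, e3 q31344 L835276 q31150, e3 q31345 L835290 q31022, e3 q31346 L835316 q31145, e3 q31347 L835332 q31209, e3 q31348 L835346 q31289, e3 q31349 L835362 q31274, e3 q31350 L835377 q31275, e3 q31351 L835391 q31152, e3 q31352 (flp_j L837933) q31548, e3 q31353 L835420 q31273, e3 q31354 L835434 q31180, e3 q31355 L835447 q31182, e3 q31356 L835461 q31230, e3 q31357 L835475 q31231, e3 q31358 L835493 q31232,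 e3 q31359 L835504 q31234, trivial⟩ (by decide +kernel)

theorem ce_j_490 : ∀ r, r < 64 → sm gj (Qf (31360 + r)) = Qf (tab Gen.j (31360 + r)) :=
  edges_tab (sm gj) Qf (tab Gen.j) 31360 [(31360, 31235), (31361, 31159), (31362, 31295), (31363, 31238), (31364, 31237), (31365, 31154), (31366, 31157), (31367, 31119), (31368, 31309), (31369, 31308), (31370, 31320), (31371, 31282), (31372, 31283), (31373, 31284), (31374, 31285), (31375, 31071), (31376, 31072), (31377, 31156), (31378, 31073), (31379, 31075), (31380, 31076), (31381, 31149), (31382, 31078), (31383, 31247), (31384, 31164), (31385, 31165), (31386, 31081), (31387, 31082), (31388, 31566), (31389, 31567), (31390, 31179), (31391, 31181), (31392, 31568), (31393, 31569), (31394, 31168), (31395, 31169), (31396, 31170), (31397, 31572), (31398, 31147), (31399, 31219), (31400, 31188), (31401, 31220), (31402, 31190), (31403, 31221), (31404, 31239), (31405, 31240), (31406, 31241), (31407, 31242), (31408, 31097), (31409, 31313), (31410, 31276), (31411, 31272), (31412, 31178), (31413,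 31103), (31414, 31585), (31415, 31186), (31416, 31185), (31417, 31296), (31418, 31173), (31419, 31297), (31420, 31175), (31421, 31305), (31422, 31303), (31423, 31563)]
    ⟨e3 q31360 L835521 q31235, e3 q31361 L835535 q31159, e3 q31362 L835549 q31295, e3 q31363 L835562 q31238, e3 q31364 L835582 q31237, e3 q31365 L835600 q31154, e3 q31366 L835615 q31157, e3 q31367 L835627 q31119, e3 q31368 L835645 q31309, e3 q31369 L835664 q31308, e3 q31370 L835683 q31320, e3 q31371 L835700 q31282, e3 q31372 L835717 q31283, e3 q31373 L835735 q31284, e3 q31374 L835752 q31285, e3 q31375 L835764 q31071, e3 q31376 L835780 q31072, e3 q31377 L835804 q31156, e3 q31378 L835813 q31073, e3 q31379 L835829 q31075, e3 q31380 L835845 q31076, e3 q31381 L835869 q31149, e3 q31382 L835878 q31078, e3 q31383 L835894 q31247, e3 q31384 L835910 q31164, e3 q31385 L835925 q31165, e3 q31386 L835937 q31081, e3 q31387 L835954 q31082, e3 q31388 (flp_j L838231) q31566, e3 q31389 (flp_j L838248) q31567, e3 q31390 L835987 q31179, e3 q31391 L836002 q31181, e3 q31392 (flp_j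 L838264) q31568, e3 q31393 (flp_j L838281) q31569, e3 q31394 L836039 q31168, e3 q31395 L836055 q31169, e3 q31396 L836070 q31170, e3 q31397 (flp_j L838333) q31572, e3 q31398 L836099 q31147, e3 q31399 L836111 q31219, e3 q31400 L836125 q31188, e3 q31401 L836143 q31220, e3 q31402 L836154 q31190, e3 q31403 L836171 q31221, e3 q31404 L836181 q31239, e3 q31405 L836194 q31240, e3 q31406 L836208 q31241, e3 q31407 L836221 q31242, e3 q31408 L836231 q31097, e3 q31409 L836248 q31313, e3 q31410 L836267 q31276, e3 q31411 L836285 q31272, e3 q31412 L836299 q31178, e3 q31413 L836315 q31103, e3 q31414 (flp_j L838518) q31585, e3 q31415 L836342 q31186, e3 q31416 L836362 q31185, e3 q31417 L836373 q31296, e3 q31418 L836383 q31173, e3 q31419 L836397 q31297, e3 q31420 L836406 q31175, e3 q31421 L836420 q31305, e3 q31422 L836438 q31303, e3 q31423 (flp_j L838179) q31563, trivial⟩ (by decide +kernel)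

theorem ce_j_491 : ∀ r, r < 64 → sm gj (Qf (31424 + r)) = Qf (tab Gen.j (31424 + r)) :=
  edges_tab (sm gj) Qf (tab Gen.j) 31424 [(31424, 31310), (31425, 31252), (31426, 31250), (31427, 31256), (31428, 31251), (31429, 31174), (31430, 31262), (31431, 31246), (31432, 31321), (31433, 31254), (31434, 31163), (31435, 31155), (31436, 31158), (31437, 31153), (31438, 31162), (31439, 31578), (31440, 31547), (31441, 31542), (31442, 31551), (31443, 31544), (31444, 31552), (31445, 31598), (31446, 31562), (31447, 31597), (31448, 31558), (31449, 31536), (31450, 31559), (31451, 31538), (31452, 31596), (31453, 31571), (31454, 31172), (31455, 31304), (31456, 31576), (31457, 31577), (31458, 31543), (31459, 31545), (31460, 31588), (31461, 31590), (31462, 31184), (31463, 31306), (31464, 31584), (31465, 31574), (31466, 31554), (31467, 31535), (31468, 31537), (31469, 31587), (31470, 31586), (31471, 31217), (31472, 31580), (31473, 31193), (31474, 31196), (31475, 31206), (31476, 31207), (31477, 31300), (31478, 31244), (31479, 31271), (31480, 31615),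 (31481, 31312), (31482, 31301), (31483, 31216), (31484, 31314), (31485, 31315), (31486, 31613), (31487, 31236)]
    ⟨e3 q31424 L836469 q31310, e3 q31425 L836484 q31252, e3 q31426 L836508 q31250, e3 q31427 L836518 q31256, e3 q31428 L836532 q31251, e3 q31429 L836548 q31174, e3 q31430 L836568 q31262, e3 q31431 L836577 q31246, e3 q31432 L836591 q31321, e3 q31433 L836602 q31254, e3 q31434 L836615 q31163, e3 q31435 L836629 q31155, e3 q31436 L836642 q31158, e3 q31437 L836656 q31153, e3 q31438 L836666 q31162, e3 q31439 (flp_j L838419) q31578, e3 q31440 (flp_j L837919) q31547, e3 q31441 (flp_j L837838) q31542, e3 q31442 (flp_j L837983) q31551, e3 q31443 (flp_j L837873) q31544, e3 q31444 (flp_j L838000) q31552, e3 q31445 (flp_j L838718) q31598, e3 q31446 (flp_j L838167) q31562, e3 q31447 (flp_j L838704) q31597, e3 q31448 (flp_j L838096) q31558, e3 q31449 (flp_j L837745) q31536, e3 q31450 (flp_j L838113) q31559, e3 q31451 (flp_j L837779) q31538, e3 q31452 (flp_j L838690) q31596, e3 q31453 (flp_j L838314) q31571, e3 q31454 L836850 q31172,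 e3 q31455 L836867 q31304, e3 q31456 (flp_j L838384) q31576, e3 q31457 (flp_j L838400) q31577, e3 q31458 (flp_j L837854) q31543, e3 q31459 (flp_j L837888) q31545, e3 q31460 (flp_j L838570) q31588, e3 q31461 (flp_j L838593) q31590, e3 q31462 L836945 q31184, e3 q31463 L836954 q31306, e3 q31464 (flp_j L838502) q31584, e3 q31465 (flp_j L838356) q31574, e3 q31466 (flp_j L838033) q31554, e3 q31467 (flp_j L837717) q31535, e3 q31468 (flp_j L837752) q31537, e3 q31469 (flp_j L838557) q31587, e3 q31470 (flp_j L838536) q31586, e3 q31471 L837029 q31217, e3 q31472 (flp_j L838446) q31580, e3 q31473 L837053 q31193, e3 q31474 L837068 q31196, e3 q31475 L837085 q31206, e3 q31476 L837102 q31207, e3 q31477 L837112 q31300, e3 q31478 L837125 q31244, e3 q31479 L837141 q31271, e3 q31480 (flp_j L838910) q31615, e3 q31481 L837160 q31312, e3 q31482 L837177 q31301, e3 q31483 L837192 q31216, e3 q31484 L837205 q31314, e3 q31485 L837220 q31315, e3 q31486 (flp_j L838882) q31613, e3 q31487 L837241 q31236, trivial⟩ (by decide +kernel)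

theorem ce_j_492 : ∀ r, r < 64 → sm gj (Qf (31488 + r)) = Qf (tab Gen.j (31488 + r)) :=
  edges_tab (sm gj) Qf (tab Gen.j) 31488 [(31488, 31579), (31489, 31581), (31490, 31243), (31491, 31245), (31492, 31319), (31493, 31555), (31494, 31556), (31495, 31557), (31496, 31561), (31497, 31560), (31498, 31582), (31499, 31583), (31500, 31616), (31501, 31620), (31502, 31595), (31503, 31570), (31504, 31263), (31505, 31593), (31506, 31594), (31507, 31277), (31508, 31279), (31509, 31270), (31510, 31539), (31511, 31540), (31512, 31541), (31513, 31617), (31514, 31553), (31515, 31550), (31516, 31281), (31517, 31625), (31518, 31564), (31519, 31565), (31520, 31287), (31521, 31549), (31522, 31293), (31523, 31294), (31524, 31589), (31525, 31302), (31526, 31592), (31527, 31591), (31528, 31618), (31529, 31534), (31530, 31533), (31531, 31341), (31532, 31342), (31533, 31530), (31534, 31529), (31535, 31467), (31536, 31449), (31537, 31468), (31538, 31451), (31539, 31510), (31540, 31511), (31541, 31512), (31542, 31441), (31543, 31458), (31544, 31443),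 (31545, 31459), (31546, 31631), (31547, 31440), (31548, 31352), (31549, 31521), (31550, 31515), (31551, 31442)]
    ⟨e3 q31488 (flp_j L838431) q31579, e3 q31489 (flp_j L838464) q31581, e3 q31490 L837270 q31243, e3 q31491 L837280 q31245, e3 q31492 L837286 q31319, e3 q31493 (flp_j L838047) q31555, e3 q31494 (flp_j L838062) q31556, e3 q31495 (flp_j L838080) q31557, e3 q31496 (flp_j L838149) q31561, e3 q31497 (flp_j L838128) q31560, e3 q31498 (flp_j L838475) q31582, e3 q31499 (flp_j L838489) q31583, e3 q31500 (flp_j L838923) q31616, e3 q31501 (flp_j L838971) q31620, e3 q31502 (flp_j L838675) q31595, e3 q31503 (flp_j L838297) q31570, e3 q31504 L837417 q31263, e3 q31505 (flp_j L838643) q31593, e3 q31506 (flp_j L838660) q31594, e3 q31507 L837452 q31277, e3 q31508 L837462 q31279, e3 q31509 L837468 q31270, e3 q31510 (flp_j L837789) q31539, e3 q31511 (flp_j L837804) q31540, e3 q31512 (flp_j L837820) q31541, e3 q31513 (flp_j L838940) q31617, e3 q31514 (flp_j L838019) q31553, e3 q31515 (flp_j L837967) q31550, e3 q31516 L837525 q31281,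 e3 q31517 (flp_j L839022) q31625, e3 q31518 (flp_j L838201) q31564, e3 q31519 (flp_j L838219) q31565, e3 q31520 L837559 q31287, e3 q31521 (flp_j L837950) q31549, e3 q31522 L837579 q31293, e3 q31523 L837588 q31294, e3 q31524 (flp_j L838583) q31589, e3 q31525 L837602 q31302, e3 q31526 (flp_j L838626) q31592, e3 q31527 (flp_j L838607) q31591, e3 q31528 (flp_j L838951) q31618, e3 q31529 (flp_j L837705) q31534, e3 q31530 (flp_j L837688) q31533, e3 q31531 L837655 q31341, e3 q31532 L837674 q31342, e3 q31533 L837688 q31530, e3 q31534 L837705 q31529, e3 q31535 L837717 q31467, e3 q31536 L837745 q31449, e3 q31537 L837752 q31468, e3 q31538 L837779 q31451, e3 q31539 L837789 q31510, e3 q31540 L837804 q31511, e3 q31541 L837820 q31512, e3 q31542 L837838 q31441, e3 q31543 L837854 q31458, e3 q31544 L837873 q31443, e3 q31545 L837888 q31459, e3 q31546 (flp_j L839076) q31631, e3 q31547 L837919 q31440, e3 q31548 L837933 q31352, e3 q31549 L837950 q31521, e3 q31550 L837967 q31515, e3 q31551 L837983 q31442, trivial⟩ (by decide +kernel)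

theorem ce_j_493 : ∀ r, r < 64 → sm gj (Qf (31552 + r)) = Qf (tab Gen.j (31552 + r)) :=
  edges_tab (sm gj) Qf (tab Gen.j) 31552 [(31552, 31444), (31553, 31514), (31554, 31466), (31555, 31493), (31556, 31494), (31557, 31495), (31558, 31448), (31559, 31450), (31560, 31497), (31561, 31496), (31562, 31446), (31563, 31423), (31564, 31518), (31565, 31519), (31566, 31388), (31567, 31389), (31568, 31392), (31569, 31393), (31570, 31503), (31571, 31453), (31572, 31397), (31573, 31648), (31574, 31465), (31575, 31649), (31576, 31456), (31577, 31457), (31578, 31439), (31579, 31488), (31580, 31472), (31581, 31489), (31582, 31498), (31583, 31499), (31584, 31464), (31585, 31414), (31586, 31470), (31587, 31469), (31588, 31460), (31589, 31524), (31590, 31461), (31591, 31527), (31592, 31526), (31593, 31505), (31594, 31506), (31595, 31502), (31596, 31452), (31597, 31447), (31598, 31445), (31599, 31639), (31600, 31637), (31601, 31641), (31602, 31646), (31603, 31658), (31604, 31645), (31605, 31634), (31606, 31650), (31607, 31652), (31608, 31638),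 (31609, 31656), (31610, 31651), (31611, 31642), (31612, 31633), (31613, 31486), (31614, 31653), (31615, 31480)]
    ⟨e3 q31552 L838000 q31444, e3 q31553 L838019 q31514, e3 q31554 L838033 q31466, e3 q31555 L838047 q31493, e3 q31556 L838062 q31494, e3 q31557 L838080 q31495, e3 q31558 L838096 q31448, e3 q31559 L838113 q31450, e3 q31560 L838128 q31497, e3 q31561 L838149 q31496, e3 q31562 L838167 q31446, e3 q31563 L838179 q31423, e3 q31564 L838201 q31518, e3 q31565 L838219 q31519, e3 q31566 L838231 q31388, e3 q31567 L838248 q31389, e3 q31568 L838264 q31392, e3 q31569 L838281 q31393, e3 q31570 L838297 q31503, e3 q31571 L838314 q31453, e3 q31572 L838333 q31397, e3 q31573 (flp_j L839361) q31648, e3 q31574 L838356 q31465, e3 q31575 (flp_j L839378) q31649, e3 q31576 L838384 q31456, e3 q31577 L838400 q31457, e3 q31578 L838419 q31439, e3 q31579 L838431 q31488, e3 q31580 L838446 q31472, e3 q31581 L838464 q31489, e3 q31582 L838475 q31498, e3 q31583 L838489 q31499, e3 q31584 L838502 q31464, e3 q31585 L838518 q31414, e3 q31586 L838536 q31470,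 e3 q31587 L838557 q31469, e3 q31588 L838570 q31460, e3 q31589 L838583 q31524, e3 q31590 L838593 q31461, e3 q31591 L838607 q31527, e3 q31592 L838626 q31526, e3 q31593 L838643 q31505, e3 q31594 L838660 q31506, e3 q31595 L838675 q31502, e3 q31596 L838690 q31452, e3 q31597 L838704 q31447, e3 q31598 L838718 q31445, e3 q31599 (flp_j L839212) q31639, e3 q31600 (flp_j L839177) q31637, e3 q31601 (flp_j L839241) q31641, e3 q31602 (flp_j L839331) q31646, e3 q31603 (flp_j L839523) q31658, e3 q31604 (flp_j L839310) q31645, e3 q31605 (flp_j L839131) q31634, e3 q31606 (flp_j L839395) q31650, e3 q31607 (flp_j L839431) q31652, e3 q31608 (flp_j L839193) q31638, e3 q31609 (flp_j L839493) q31656, e3 q31610 (flp_j L839412) q31651, e3 q31611 (flp_j L839260) q31642, e3 q31612 (flp_j L839103) q31633, e3 q31613 L838882 q31486, e3 q31614 (flp_j L839446) q31653, e3 q31615 L838910 q31480, trivial⟩ (by decide +kernel)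

theorem ce_j_494 : ∀ r, r < 55 → sm gj (Qf (31616 + r)) = Qf (tab Gen.j (31616 + r)) :=
  edges_tab (sm gj) Qf (tab Gen.j) 31616 [(31616, 31500), (31617, 31513), (31618, 31528), (31619, 31654), (31620, 31501), (31621, 31643), (31622, 31644), (31623, 31655), (31624, 31657), (31625, 31517), (31626, 31635), (31627, 31636), (31628, 31640), (31629, 31647), (31630, 31632), (31631, 31546), (31632, 31630), (31633, 31612), (31634, 31605), (31635, 31626), (31636, 31627), (31637, 31600), (31638, 31608), (31639, 31599), (31640, 31628), (31641, 31601), (31642, 31611), (31643, 31621), (31644, 31622), (31645, 31604), (31646, 31602), (31647, 31629), (31648, 31573), (31649, 31575), (31650, 31606), (31651, 31610), (31652, 31607), (31653, 31614), (31654, 31619), (31655, 31623), (31656, 31609), (31657, 31624), (31658, 31603), (31659, 31667), (31660, 31669), (31661, 31670), (31662, 31666), (31663, 31668), (31664, 31665), (31665, 31664), (31666, 31662), (31667, 31659), (31668, 31663), (31669, 31660), (31670, 31661)]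
    ⟨e3 q31616 L838923 q31500, e3 q31617 L838940 q31513, e3 q31618 L838951 q31528, e3 q31619 (flp_j L839465) q31654, e3 q31620 L838971 q31501, e3 q31621 (flp_j L839275) q31643, e3 q31622 (flp_j L839294) q31644, e3 q31623 (flp_j L839480) q31655, e3 q31624 (flp_j L839508) q31657, e3 q31625 L839022 q31517, e3 q31626 (flp_j L839142) q31635, e3 q31627 (flp_j L839159) q31636, e3 q31628 (flp_j L839225) q31640, e3 q31629 (flp_j L839348) q31647, e3 q31630 (flp_j L839091) q31632, e3 q31631 L839076 q31546, e3 q31632 L839091 q31630, e3 q31633 L839103 q31612, e3 q31634 L839131 q31605, e3 q31635 L839142 q31626, e3 q31636 L839159 q31627, e3 q31637 L839177 q31600, e3 q31638 L839193 q31608, e3 q31639 L839212 q31599, e3 q31640 L839225 q31628, e3 q31641 L839241 q31601, e3 q31642 L839260 q31611, e3 q31643 L839275 q31621, e3 q31644 L839294 q31622, e3 q31645 L839310 q31604, e3 q31646 L839331 q31602, e3 q31647 L839348 q31629, e3 q31648 L839361 q31573, e3 q31649 L839378 q31575, e3 q31650 L839395 q31606, e3 q31651 L839412 q31610, e3 q31652 L839431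 q31607, e3 q31653 L839446 q31614, e3 q31654 L839465 q31619, e3 q31655 L839480 q31623, e3 q31656 L839493 q31609, e3 q31657 L839508 q31624, e3 q31658 L839523 q31603, e3 q31659 (flp_j L839660) q31667, e3 q31660 (flp_j L839692) q31669, e3 q31661 (flp_j L839715) q31670, e3 q31662 (flp_j L839643) q31666, e3 q31663 (flp_j L839677) q31668, e3 q31664 (flp_j L839614) q31665, e3 q31665 L839614 q31664, e3 q31666 L839643 q31662, e3 q31667 L839660 q31659, e3 q31668 L839677 q31663, e3 q31669 L839692 q31660, e3 q31670 L839715 q31661, trivial⟩ (by decide +kernel)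

theorem cl_j : ∀ i, i < 31671 → sm gj (Qf i) = Qf (tab Gen.j i) :=
  all_of_chunks (fun i => sm gj (Qf i) = Qf (tab Gen.j i)) 494 55
    ⟨ce_j_0, ce_j_1, ce_j_2, ce_j_3, ce_j_4, ce_j_5, ce_j_6, ce_j_7, ce_j_8, ce_j_9, ce_j_10, ce_j_11, ce_j_12, ce_j_13, ce_j_14, ce_j_15, ce_j_16, ce_j_17, ce_j_18, ce_j_19, ce_j_20, ce_j_21, ce_j_22, ce_j_23, ce_j_24, ce_j_25, ce_j_26, ce_j_27, ce_j_28, ce_j_29, ce_j_30, ce_j_31, ce_j_32, ce_j_33, ce_j_34, ce_j_35, ce_j_36, ce_j_37, ce_j_38, ce_j_39, ce_j_40, ce_j_41, ce_j_42, ce_j_43, ce_j_44, ce_j_45, ce_j_46, ce_j_47, ce_j_48, ce_j_49, ce_j_50, ce_j_51, ce_j_52, ce_j_53, ce_j_54, ce_j_55, ce_j_56, ce_j_57, ce_j_58, ce_j_59, ce_j_60, ce_j_61, ce_j_62, ce_j_63, ce_j_64, ce_j_65, ce_j_66, ce_j_67, ce_j_68, ce_j_69, ce_j_70, ce_j_71, ce_j_72, ce_j_73, ce_j_74, ce_j_75, ce_j_76, ce_j_77, ce_j_78, ce_j_79, ce_j_80, ce_j_81, ce_j_82, ce_j_83, ce_j_84, ce_j_85, ce_j_86, ce_j_87, ce_j_88, ce_j_89, ce_j_90, ce_j_91, ce_j_92, ce_j_93, ce_j_94, ce_j_95, ce_j_96, ce_j_97, ce_j_98, ce_j_99, ce_j_100,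 ce_j_101, ce_j_102, ce_j_103, ce_j_104, ce_j_105, ce_j_106, ce_j_107, ce_j_108, ce_j_109, ce_j_110, ce_j_111, ce_j_112, ce_j_113, ce_j_114, ce_j_115, ce_j_116, ce_j_117, ce_j_118, ce_j_119, ce_j_120, ce_j_121, ce_j_122, ce_j_123, ce_j_124, ce_j_125, ce_j_126, ce_j_127, ce_j_128, ce_j_129, ce_j_130, ce_j_131, ce_j_132, ce_j_133, ce_j_134, ce_j_135, ce_j_136, ce_j_137, ce_j_138, ce_j_139, ce_j_140, ce_j_141, ce_j_142, ce_j_143, ce_j_144, ce_j_145, ce_j_146, ce_j_147, ce_j_148, ce_j_149, ce_j_150, ce_j_151, ce_j_152, ce_j_153, ce_j_154, ce_j_155, ce_j_156, ce_j_157, ce_j_158, ce_j_159, ce_j_160, ce_j_161, ce_j_162, ce_j_163, ce_j_164, ce_j_165, ce_j_166, ce_j_167, ce_j_168, ce_j_169, ce_j_170, ce_j_171, ce_j_172, ce_j_173, ce_j_174, ce_j_175, ce_j_176, ce_j_177, ce_j_178, ce_j_179, ce_j_180, ce_j_181, ce_j_182, ce_j_183, ce_j_184, ce_j_185, ce_j_186, ce_j_187, ce_j_188, ce_j_189, ce_j_190, ce_j_191, ce_j_192, ce_j_193, ce_j_194, ce_j_195, ce_j_196, ce_j_197, ce_j_198, ce_j_199, ce_j_200, ce_j_201, ce_j_202, ce_j_203, ce_j_204,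 ce_j_205, ce_j_206, ce_j_207, ce_j_208, ce_j_209, ce_j_210, ce_j_211, ce_j_212, ce_j_213, ce_j_214, ce_j_215, ce_j_216, ce_j_217, ce_j_218, ce_j_219, ce_j_220, ce_j_221, ce_j_222, ce_j_223, ce_j_224, ce_j_225, ce_j_226, ce_j_227, ce_j_228, ce_j_229, ce_j_230, ce_j_231, ce_j_232, ce_j_233, ce_j_234, ce_j_235, ce_j_236, ce_j_237, ce_j_238, ce_j_239, ce_j_240, ce_j_241, ce_j_242, ce_j_243, ce_j_244, ce_j_245, ce_j_246, ce_j_247, ce_j_248, ce_j_249, ce_j_250, ce_j_251, ce_j_252, ce_j_253, ce_j_254, ce_j_255, ce_j_256, ce_j_257, ce_j_258, ce_j_259, ce_j_260, ce_j_261, ce_j_262, ce_j_263, ce_j_264, ce_j_265, ce_j_266, ce_j_267, ce_j_268, ce_j_269, ce_j_270, ce_j_271, ce_j_272, ce_j_273, ce_j_274, ce_j_275, ce_j_276, ce_j_277, ce_j_278, ce_j_279, ce_j_280, ce_j_281, ce_j_282, ce_j_283, ce_j_284, ce_j_285, ce_j_286, ce_j_287, ce_j_288, ce_j_289, ce_j_290, ce_j_291, ce_j_292, ce_j_293, ce_j_294, ce_j_295, ce_j_296, ce_j_297, ce_j_298, ce_j_299, ce_j_300, ce_j_301, ce_j_302, ce_j_303, ce_j_304, ce_j_305, ce_j_306, ce_j_307, ce_j_308,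 ce_j_309, ce_j_310, ce_j_311, ce_j_312, ce_j_313, ce_j_314, ce_j_315, ce_j_316, ce_j_317, ce_j_318, ce_j_319, ce_j_320, ce_j_321, ce_j_322, ce_j_323, ce_j_324, ce_j_325, ce_j_326, ce_j_327, ce_j_328, ce_j_329, ce_j_330, ce_j_331, ce_j_332, ce_j_333, ce_j_334, ce_j_335, ce_j_336, ce_j_337, ce_j_338, ce_j_339, ce_j_340, ce_j_341, ce_j_342, ce_j_343, ce_j_344, ce_j_345, ce_j_346, ce_j_347, ce_j_348, ce_j_349, ce_j_350, ce_j_351, ce_j_352, ce_j_353, ce_j_354, ce_j_355, ce_j_356, ce_j_357, ce_j_358, ce_j_359, ce_j_360, ce_j_361, ce_j_362, ce_j_363, ce_j_364, ce_j_365, ce_j_366, ce_j_367, ce_j_368, ce_j_369, ce_j_370, ce_j_371, ce_j_372, ce_j_373, ce_j_374, ce_j_375, ce_j_376, ce_j_377, ce_j_378, ce_j_379, ce_j_380, ce_j_381, ce_j_382, ce_j_383, ce_j_384, ce_j_385, ce_j_386, ce_j_387, ce_j_388, ce_j_389, ce_j_390, ce_j_391, ce_j_392, ce_j_393, ce_j_394, ce_j_395, ce_j_396, ce_j_397, ce_j_398, ce_j_399, ce_j_400, ce_j_401, ce_j_402, ce_j_403, ce_j_404, ce_j_405, ce_j_406, ce_j_407, ce_j_408, ce_j_409, ce_j_410, ce_j_411, ce_j_412,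 ce_j_413, ce_j_414, ce_j_415, ce_j_416, ce_j_417, ce_j_418, ce_j_419, ce_j_420, ce_j_421, ce_j_422, ce_j_423, ce_j_424, ce_j_425, ce_j_426, ce_j_427, ce_j_428, ce_j_429, ce_j_430, ce_j_431, ce_j_432, ce_j_433, ce_j_434, ce_j_435, ce_j_436, ce_j_437, ce_j_438, ce_j_439, ce_j_440, ce_j_441, ce_j_442, ce_j_443, ce_j_444, ce_j_445, ce_j_446, ce_j_447, ce_j_448, ce_j_449, ce_j_450, ce_j_451, ce_j_452, ce_j_453, ce_j_454, ce_j_455, ce_j_456, ce_j_457, ce_j_458, ce_j_459, ce_j_460, ce_j_461, ce_j_462, ce_j_463, ce_j_464, ce_j_465, ce_j_466, ce_j_467, ce_j_468, ce_j_469, ce_j_470, ce_j_471, ce_j_472, ce_j_473, ce_j_474, ce_j_475, ce_j_476, ce_j_477, ce_j_478, ce_j_479, ce_j_480, ce_j_481, ce_j_482, ce_j_483, ce_j_484, ce_j_485, ce_j_486, ce_j_487, ce_j_488, ce_j_489, ce_j_490, ce_j_491, ce_j_492, ce_j_493, trivial⟩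
    ce_j_494


end Cfsg.Agent.Helper28.FicA
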