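import Cfsg.Agent.Helper28.FicC0

/-!
# The Fi₂₃ presentation, cosets of the subgroup generated by a, …, i: the table is an involution table (helper28; generated)
-/

set_option autoImplicit false
set_option maxRecDepth 100000
set_option linter.unusedSimpArgs false
set_option linter.constructorNameAsVariable false

noncomputable section

namespace Cfsg.Agent.Helper28.FicA

open Cfsg.Spor Cfsg.Spor.Fi23 Cfsg.Agent.Helper28.CosetTable

theorem tabok_a_0 : allFrom (fun i => Nat.ble 31671 i || Nat.ble (tq_a i + 1) 31671 && Nat.beq (tq_a (tq_a i)) i) 0 8333 = true := by decide +kernel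
theorem tabok_a_1 : allFrom (fun i => Nat.ble 31671 i || Nat.ble (tq_a i + 1) 31671 && Nat.beq (tq_a (tq_a i)) i) 8333 8333 = true := by decide +kernel
theorem tabok_a_2 : allFrom (fun i => Nat.ble 31671 i || Nat.ble (tq_a i + 1) 31671 && Nat.beq (tq_a (tq_a i)) i) 16666 8333 = true := by decide +kernel
theorem tabok_a_3 : allFrom (fun i => Nat.ble 31671 i || Nat.ble (tq_a i + 1) 31671 && Nat.beq (tq_a (tq_a i)) i) 24999 8333 = true := by decide +kernel
theorem tabok_a : ∀ i, i < 31671 → (Nat.ble (tq_a i + 1) 31671 && Nat.beq (tq_a (tq_a i)) i) = true :=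
  blocks_lt (fun i => Nat.ble (tq_a i + 1) 31671 && Nat.beq (tq_a (tq_a i)) i) 31671 8333 4 (by norm_num) ⟨tabok_a_0, tabok_a_1, tabok_a_2, tabok_a_3, trivial⟩

theorem tabok_b_0 : allFrom (fun i => Nat.ble 31671 i || Nat.ble (tq_b i + 1) 31671 && Nat.beq (tq_b (tq_b i)) i) 0 8333 = true := by decide +kernel
theorem tabok_b_1 : allFrom (fun i => Nat.ble 31671 i || Nat.ble (tq_b i + 1) 31671 && Nat.beq (tq_b (tq_b i)) i) 8333 8333 = true := by decide +kernel
theorem tabok_b_2 : allFrom (fun i => Nat.ble 31671 i || Nat.ble (tq_b i + 1) 31671 && Nat.beq (tq_b (tq_b i)) i) 16666 8333 = true := by decide +kernel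
theorem tabok_b_3 : allFrom (fun i => Nat.ble 31671 i || Nat.ble (tq_b i + 1) 31671 && Nat.beq (tq_b (tq_b i)) i) 24999 8333 = true := by decide +kernel
theorem tabok_b : ∀ i, i < 31671 → (Nat.ble (tq_b i + 1) 31671 && Nat.beq (tq_b (tq_b i)) i) = true :=
  blocks_lt (fun i => Nat.ble (tq_b i + 1) 31671 && Nat.beq (tq_b (tq_b i)) i) 31671 8333 4 (by norm_num) ⟨tabok_b_0, tabok_b_1, tabok_b_2, tabok_b_3, trivial⟩

theorem tabok_c_0 : allFrom (fun i => Nat.ble 31671 i || Nat.ble (tq_c i + 1) 31671 && Nat.beq (tq_c (tq_c i)) i) 0 8333 = true := by decide +kernel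
theorem tabok_c_1 : allFrom (fun i => Nat.ble 31671 i || Nat.ble (tq_c i + 1) 31671 && Nat.beq (tq_c (tq_c i)) i) 8333 8333 = true := by decide +kernel
theorem tabok_c_2 : allFrom (fun i => Nat.ble 31671 i || Nat.ble (tq_c i + 1) 31671 && Nat.beq (tq_c (tq_c i)) i) 16666 8333 = true := by decide +kernel
theorem tabok_c_3 : allFrom (fun i => Nat.ble 31671 i || Nat.ble (tq_c i + 1) 31671 && Nat.beq (tq_c (tq_c i)) i) 24999 8333 = true := by decide +kernel
theorem tabok_c : ∀ i, i < 31671 → (Nat.ble (tq_c i + 1) 31671 && Nat.beq (tq_c (tq_c i)) i) = true :=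
  blocks_lt (fun i => Nat.ble (tq_c i + 1) 31671 && Nat.beq (tq_c (tq_c i)) i) 31671 8333 4 (by norm_num) ⟨tabok_c_0, tabok_c_1, tabok_c_2, tabok_c_3, trivial⟩

theorem tabok_d_0 : allFrom (fun i => Nat.ble 31671 i || Nat.ble (tq_d i + 1) 31671 && Nat.beq (tq_d (tq_d i)) i) 0 8333 = true := by decide +kernel
theorem tabok_d_1 : allFrom (fun i => Nat.ble 31671 i || Nat.ble (tq_d i + 1) 31671 && Nat.beq (tq_d (tq_d i)) i) 8333 8333 = true := by decide +kernel
theorem tabok_d_2 : allFrom (fun i => Nat.ble 31671 i || Nat.ble (tq_d i + 1) 31671 && Nat.beq (tq_d (tq_d i)) i) 16666 8333 = true := by decide +kernel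
theorem tabok_d_3 : allFrom (fun i => Nat.ble 31671 i || Nat.ble (tq_d i + 1) 31671 && Nat.beq (tq_d (tq_d i)) i) 24999 8333 = true := by decide +kernel
theorem tabok_d : ∀ i, i < 31671 → (Nat.ble (tq_d i + 1) 31671 && Nat.beq (tq_d (tq_d i)) i) = true :=
  blocks_lt (fun i => Nat.ble (tq_d i + 1) 31671 && Nat.beq (tq_d (tq_d i)) i) 31671 8333 4 (by norm_num) ⟨tabok_d_0, tabok_d_1, tabok_d_2, tabok_d_3, trivial⟩

theorem tabok_e_0 : allFrom (fun i => Nat.ble 31671 i || Nat.ble (tq_e i + 1) 31671 && Nat.beq (tq_e (tq_e i)) i) 0 8333 = true := by decide +kernel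
theorem tabok_e_1 : allFrom (fun i => Nat.ble 31671 i || Nat.ble (tq_e i + 1) 31671 && Nat.beq (tq_e (tq_e i)) i) 8333 8333 = true := by decide +kernel
theorem tabok_e_2 : allFrom (fun i => Nat.ble 31671 i || Nat.ble (tq_e i + 1) 31671 && Nat.beq (tq_e (tq_e i)) i) 16666 8333 = true := by decide +kernel
theorem tabok_e_3 : allFrom (fun i => Nat.ble 31671 i || Nat.ble (tq_e i + 1) 31671 && Nat.beq (tq_e (tq_e i)) i) 24999 8333 = true := by decide +kernel
theorem tabok_e : ∀ i, i < 31671 → (Nat.ble (tq_e i + 1) 31671 && Nat.beq (tq_e (tq_e i)) i) = true :=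
  blocks_lt (fun i => Nat.ble (tq_e i + 1) 31671 && Nat.beq (tq_e (tq_e i)) i) 31671 8333 4 (by norm_num) ⟨tabok_e_0, tabok_e_1, tabok_e_2, tabok_e_3, trivial⟩

theorem tabok_f_0 : allFrom (fun i => Nat.ble 31671 i || Nat.ble (tq_f i + 1) 31671 && Nat.beq (tq_f (tq_f i)) i) 0 8333 = true := by decide +kernel
theorem tabok_f_1 : allFrom (fun i => Nat.ble 31671 i || Nat.ble (tq_f i + 1) 31671 && Nat.beq (tq_f (tq_f i)) i) 8333 8333 = true := by decide +kernel
theorem tabok_f_2 : allFrom (fun i => Nat.ble 31671 i || Nat.ble (tq_f i + 1) 31671 && Nat.beq (tq_f (tq_f i)) i) 16666 8333 = true := by decide +kernel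
theorem tabok_f_3 : allFrom (fun i => Nat.ble 31671 i || Nat.ble (tq_f i + 1) 31671 && Nat.beq (tq_f (tq_f i)) i) 24999 8333 = true := by decide +kernel
theorem tabok_f : ∀ i, i < 31671 → (Nat.ble (tq_f i + 1) 31671 && Nat.beq (tq_f (tq_f i)) i) = true :=
  blocks_lt (fun i => Nat.ble (tq_f i + 1) 31671 && Nat.beq (tq_f (tq_f i)) i) 31671 8333 4 (by norm_num) ⟨tabok_f_0, tabok_f_1, tabok_f_2, tabok_f_3, trivial⟩

theorem tabok_g_0 : allFrom (fun i => Nat.ble 31671 i || Nat.ble (tq_g i + 1) 31671 && Nat.beq (tq_g (tq_g i)) i) 0 8333 = true := by decide +kernel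
theorem tabok_g_1 : allFrom (fun i => Nat.ble 31671 i || Nat.ble (tq_g i + 1) 31671 && Nat.beq (tq_g (tq_g i)) i) 8333 8333 = true := by decide +kernel
theorem tabok_g_2 : allFrom (fun i => Nat.ble 31671 i || Nat.ble (tq_g i + 1) 31671 && Nat.beq (tq_g (tq_g i)) i) 16666 8333 = true := by decide +kernel
theorem tabok_g_3 : allFrom (fun i => Nat.ble 31671 i || Nat.ble (tq_g i + 1) 31671 && Nat.beq (tq_g (tq_g i)) i) 24999 8333 = true := by decide +kernel
theorem tabok_g : ∀ i, i < 31671 → (Nat.ble (tq_g i + 1) 31671 && Nat.beq (tq_g (tq_g i)) i) = true :=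
  blocks_lt (fun i => Nat.ble (tq_g i + 1) 31671 && Nat.beq (tq_g (tq_g i)) i) 31671 8333 4 (by norm_num) ⟨tabok_g_0, tabok_g_1, tabok_g_2, tabok_g_3, trivial⟩

theorem tabok_j_0 : allFrom (fun i => Nat.ble 31671 i || Nat.ble (tq_j i + 1) 31671 && Nat.beq (tq_j (tq_j i)) i) 0 8333 = true := by decide +kernel
theorem tabok_j_1 : allFrom (fun i => Nat.ble 31671 i || Nat.ble (tq_j i + 1) 31671 && Nat.beq (tq_j (tq_j i)) i) 8333 8333 = true := by decide +kernel
theorem tabok_j_2 : allFrom (fun i => Nat.ble 31671 i || Nat.ble (tq_j i + 1) 31671 && Nat.beq (tq_j (tq_j i)) i) 16666 8333 = true := by decide +kernel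
theorem tabok_j_3 : allFrom (fun i => Nat.ble 31671 i || Nat.ble (tq_j i + 1) 31671 && Nat.beq (tq_j (tq_j i)) i) 24999 8333 = true := by decide +kernel
theorem tabok_j : ∀ i, i < 31671 → (Nat.ble (tq_j i + 1) 31671 && Nat.beq (tq_j (tq_j i)) i) = true :=
  blocks_lt (fun i => Nat.ble (tq_j i + 1) 31671 && Nat.beq (tq_j (tq_j i)) i) 31671 8333 4 (by norm_num) ⟨tabok_j_0, tabok_j_1, tabok_j_2, tabok_j_3, trivial⟩

theorem tabok_h_0 : allFrom (fun i => Nat.ble 31671 i || Nat.ble (tq_h i + 1) 31671 && Nat.beq (tq_h (tq_h i)) i) 0 8333 = true := by decide +kernel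
theorem tabok_h_1 : allFrom (fun i => Nat.ble 31671 i || Nat.ble (tq_h i + 1) 31671 && Nat.beq (tq_h (tq_h i)) i) 8333 8333 = true := by decide +kernel
theorem tabok_h_2 : allFrom (fun i => Nat.ble 31671 i || Nat.ble (tq_h i + 1) 31671 && Nat.beq (tq_h (tq_h i)) i) 16666 8333 = true := by decide +kernel
theorem tabok_h_3 : allFrom (fun i => Nat.ble 31671 i || Nat.ble (tq_h i + 1) 31671 && Nat.beq (tq_h (tq_h i)) i) 24999 8333 = true := by decide +kernel
theorem tabok_h : ∀ i, i < 31671 → (Nat.ble (tq_h i + 1) 31671 && Nat.beq (tq_h (tq_h i)) i) = true :=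
  blocks_lt (fun i => Nat.ble (tq_h i + 1) 31671 && Nat.beq (tq_h (tq_h i)) i) 31671 8333 4 (by norm_num) ⟨tabok_h_0, tabok_h_1, tabok_h_2, tabok_h_3, trivial⟩

theorem tabok_i_0 : allFrom (fun i => Nat.ble 31671 i || Nat.ble (tq_i i + 1) 31671 && Nat.beq (tq_i (tq_i i)) i) 0 8333 = true := by decide +kernel
theorem tabok_i_1 : allFrom (fun i => Nat.ble 31671 i || Nat.ble (tq_i i + 1) 31671 && Nat.beq (tq_i (tq_i i)) i) 8333 8333 = true := by decide +kernel
theorem tabok_i_2 : allFrom (fun i => Nat.ble 31671 i || Nat.ble (tq_i i + 1) 31671 && Nat.beq (tq_i (tq_i i)) i) 16666 8333 = true := by decide +kernel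
theorem tabok_i_3 : allFrom (fun i => Nat.ble 31671 i || Nat.ble (tq_i i + 1) 31671 && Nat.beq (tq_i (tq_i i)) i) 24999 8333 = true := by decide +kernel
theorem tabok_i : ∀ i, i < 31671 → (Nat.ble (tq_i i + 1) 31671 && Nat.beq (tq_i (tq_i i)) i) = true :=
  blocks_lt (fun i => Nat.ble (tq_i i + 1) 31671 && Nat.beq (tq_i (tq_i i)) i) 31671 8333 4 (by norm_num) ⟨tabok_i_0, tabok_i_1, tabok_i_2, tabok_i_3, trivial⟩

theorem ht : IsInv tab 31671 := by
  constructor
  · intro gg i hi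
    cases gg
    · exact Nat.le_of_ble_eq_true (Bool.and_eq_true_iff.mp (tabok_a i hi)).1
    · exact Nat.le_of_ble_eq_true (Bool.and_eq_true_iff.mp (tabok_b i hi)).1
    · exact Nat.le_of_ble_eq_true (Bool.and_eq_true_iff.mp (tabok_c i hi)).1
    · exact Nat.le_of_ble_eq_true (Bool.and_eq_true_iff.mp (tabok_d i hi)).1
    · exact Nat.le_of_ble_eq_true (Bool.and_eq_true_iff.mp (tabok_e i hi)).1
    · exact Nat.le_of_ble_eq_true (Bool.and_eq_true_iff.mp (tabok_f i hi)).1
    · exact Nat.le_of_ble_eq_true (Bool.and_eq_true_iff.mp (tabok_g i hi)).1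
    · exact Nat.le_of_ble_eq_true (Bool.and_eq_true_iff.mp (tabok_j i hi)).1
    · exact Nat.le_of_ble_eq_true (Bool.and_eq_true_iff.mp (tabok_h i hi)).1
    · exact Nat.le_of_ble_eq_true (Bool.and_eq_true_iff.mp (tabok_i i hi)).1
  · intro gg i hi
    cases gg
    · exact Nat.eq_of_beq_eq_true (Bool.and_eq_true_iff.mp (tabok_a i hi)).2
    · exact Nat.eq_of_beq_eq_true (Bool.and_eq_true_iff.mp (tabok_b i hi)).2
    · exact Nat.eq_of_beq_eq_true (Bool.and_eq_true_iff.mp (tabok_c i hi)).2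
    · exact Nat.eq_of_beq_eq_true (Bool.and_eq_true_iff.mp (tabok_d i hi)).2
    · exact Nat.eq_of_beq_eq_true (Bool.and_eq_true_iff.mp (tabok_e i hi)).2
    · exact Nat.eq_of_beq_eq_true (Bool.and_eq_true_iff.mp (tabok_f i hi)).2
    · exact Nat.eq_of_beq_eq_true (Bool.and_eq_true_iff.mp (tabok_g i hi)).2
    · exact Nat.eq_of_beq_eq_true (Bool.and_eq_true_iff.mp (tabok_j i hi)).2
    · exact Nat.eq_of_beq_eq_true (Bool.and_eq_true_iff.mp (tabok_h i hi)).2
    · exact Nat.eq_of_beq_eq_true (Bool.and_eq_true_iff.mp (tabok_i i hi)).2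

theorem parok_0 : allFrom (fun i => Nat.ble 31671 i || Nat.beq i 0 || (Nat.ble (PARf i + 1) i && Nat.beq (tab (genOf (PGNf i)) (PARf i)) i)) 0 4166 = true := by decide +kernel
theorem parok_1 : allFrom (fun i => Nat.ble 31671 i || Nat.beq i 0 || (Nat.ble (PARf i + 1) i && Nat.beq (tab (genOf (PGNf i)) (PARf i)) i)) 4166 4166 = true := by decide +kernel
theorem parok_2 : allFrom (fun i => Nat.ble 31671 i || Nat.beq i 0 || (Nat.ble (PARf i + 1) i && Nat.beq (tab (genOf (PGNf i)) (PARf i)) i)) 8332 4166 = true := by decide +kernel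
theorem parok_3 : allFrom (fun i => Nat.ble 31671 i || Nat.beq i 0 || (Nat.ble (PARf i + 1) i && Nat.beq (tab (genOf (PGNf i)) (PARf i)) i)) 12498 4166 = true := by decide +kernel
theorem parok_4 : allFrom (fun i => Nat.ble 31671 i || Nat.beq i 0 || (Nat.ble (PARf i + 1) i && Nat.beq (tab (genOf (PGNf i)) (PARf i)) i)) 16664 4166 = true := by decide +kernel
theorem parok_5 : allFrom (fun i => Nat.ble 31671 i || Nat.beq i 0 || (Nat.ble (PARf i + 1) i && Nat.beq (tab (genOf (PGNf i)) (PARf i)) i)) 20830 4166 = true := by decide +kernel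
theorem parok_6 : allFrom (fun i => Nat.ble 31671 i || Nat.beq i 0 || (Nat.ble (PARf i + 1) i && Nat.beq (tab (genOf (PGNf i)) (PARf i)) i)) 24996 4166 = true := by decide +kernel
theorem parok_7 : allFrom (fun i => Nat.ble 31671 i || Nat.beq i 0 || (Nat.ble (PARf i + 1) i && Nat.beq (tab (genOf (PGNf i)) (PARf i)) i)) 29162 4166 = true := by decide +kernel
theorem parok : ∀ i, i < 31671 → (Nat.beq i 0 || (Nat.ble (PARf i + 1) i && Nat.beq (tab (genOf (PGNf i)) (PARf i)) i)) = true :=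
  blocks_lt (fun i => Nat.beq i 0 || (Nat.ble (PARf i + 1) i && Nat.beq (tab (genOf (PGNf i)) (PARf i)) i)) 31671 4166 8 (by norm_num) ⟨parok_0, parok_1, parok_2, parok_3, parok_4, parok_5, parok_6, parok_7, trivial⟩

theorem hpar : ∀ i, 0 < i → i < 31671 → ∃ j gg, j < i ∧ tab gg j = i := by
  intro i h0 hi
  have h := parok i hi
  rw [Bool.or_eq_true, Bool.and_eq_true] at h
  rcases h with h | h
  · exact absurd (Nat.eq_of_beq_eq_true h) (by omega)
  · exact ⟨_, _, Nat.le_of_ble_eq_true h.1, Nat.eq_of_beq_eq_true h.2⟩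

theorem evalT_nil' (i : ℕ) : evalT tab [] i = i := rfl

theorem evalT_cons' (gg : Gen) (w : List Gen) (i : ℕ) : evalT tab (gg :: w) i = tab gg (evalT tab w i) := rfl

theorem tab_a (i : ℕ) : tab Gen.a i = tq_a i := rfl
theorem tab_b (i : ℕ) : tab Gen.b i = tq_b i := rfl
theorem tab_c (i : ℕ) : tab Gen.c i = tq_c i := rfl
theorem tab_d (i : ℕ) : tab Gen.d i = tq_d i := rfl
theorem tab_e (i : ℕ) : tab Gen.e i = tq_e i := rfl
theorem tab_f (i : ℕ) : tab Gen.f i = tq_f i := rfl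
theorem tab_g (i : ℕ) : tab Gen.g i = tq_g i := rfl
theorem tab_j (i : ℕ) : tab Gen.j i = tq_j i := rfl
theorem tab_h (i : ℕ) : tab Gen.h i = tq_h i := rfl
theorem tab_i (i : ℕ) : tab Gen.i i = tq_i i := rfl

end Cfsg.Agent.Helper28.FicA
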