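import Cfsg.Agent.Helper28.FicR0

/-!
# The Fi₂₃ presentation, cosets of the subgroup generated by a, …, i: relator checks, part 7 (helper28; generated)
-/

set_option autoImplicit false
set_option maxRecDepth 100000
set_option linter.unusedSimpArgs false
set_option linter.constructorNameAsVariable false

noncomputable section

namespace Cfsg.Agent.Helper28.FicA

open Cfsg.Spor Cfsg.Spor.Fi23 Cfsg.Agent.Helper28.CosetTable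

theorem exr_0_0 : allFrom (fun i => Nat.ble 31671 i || Nat.beq (tq_d (tq_c (tq_b (tq_d (tq_e (tq_f (tq_d (tq_h (tq_i (tq_d (tq_c (tq_b (tq_d (tq_e (tq_f (tq_d (tq_h (tq_i (tq_d (tq_c (tq_b (tq_d (tq_e (tq_f (tq_d (tq_h (tq_i (tq_d (tq_c (tq_b (tq_d (tq_e (tq_f (tq_d (tq_h (tq_i (tq_d (tq_c (tq_b (tq_d (tq_e (tq_f (tq_d (tq_h (tq_i (tq_d (tq_c (tq_b (tq_d (tq_e (tq_f (tq_d (tq_h (tq_i (tq_d (tq_c (tq_b (tq_d (tq_e (tq_f (tq_d (tq_h (tq_i (tq_d (tq_c (tq_b (tq_d (tq_e (tq_f (tq_d (tq_h (tq_i (tq_d (tq_c (tq_b (tq_d (tq_e (tq_f (tq_d (tq_h (tq_i (tq_d (tq_c (tq_b (tq_d (tq_e (tq_f (tq_d (tq_h (tq_i i)))))))))))))))))))))))))))))))))))))))))))))))))))))))))))))))))))))))))))))))))))))))))) i) 0 277 = true := by decide +kernel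
theorem exr_0_1 : allFrom (fun i => Nat.ble 31671 i || Nat.beq (tq_d (tq_c (tq_b (tq_d (tq_e (tq_f (tq_d (tq_h (tq_i (tq_d (tq_c (tq_b (tq_d (tq_e (tq_f (tq_d (tq_h (tq_i (tq_d (tq_c (tq_b (tq_d (tq_e (tq_f (tq_d (tq_h (tq_i (tq_d (tq_c (tq_b (tq_d (tq_e (tq_f (tq_d (tq_h (tq_i (tq_d (tq_c (tq_b (tq_d (tq_e (tq_f (tq_d (tq_h (tq_i (tq_d (tq_c (tq_b (tq_d (tq_e (tq_f (tq_d (tq_h (tq_i (tq_d (tq_c (tq_b (tq_d (tq_e (tq_f (tq_d (tq_h (tq_i (tq_d (tq_c (tq_b (tq_d (tq_e (tq_f (tq_d (tq_h (tq_i (tq_d (tq_c (tq_b (tq_d (tq_e (tq_f (tq_d (tq_h (tq_i (tq_d (tq_c (tq_b (tq_d (tq_e (tq_f (tq_d (tq_h (tq_i i)))))))))))))))))))))))))))))))))))))))))))))))))))))))))))))))))))))))))))))))))))))))))) i) 277 277 = true := by decide +kernel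
theorem exr_0_2 : allFrom (fun i => Nat.ble 31671 i || Nat.beq (tq_d (tq_c (tq_b (tq_d (tq_e (tq_f (tq_d (tq_h (tq_i (tq_d (tq_c (tq_b (tq_d (tq_e (tq_f (tq_d (tq_h (tq_i (tq_d (tq_c (tq_b (tq_d (tq_e (tq_f (tq_d (tq_h (tq_i (tq_d (tq_c (tq_b (tq_d (tq_e (tq_f (tq_d (tq_h (tq_i (tq_d (tq_c (tq_b (tq_d (tq_e (tq_f (tq_d (tq_h (tq_i (tq_d (tq_c (tq_b (tq_d (tq_e (tq_f (tq_d (tq_h (tq_i (tq_d (tq_c (tq_b (tq_d (tq_e (tq_f (tq_d (tq_h (tq_i (tq_d (tq_c (tq_b (tq_d (tq_e (tq_f (tq_d (tq_h (tq_i (tq_d (tq_c (tq_b (tq_d (tq_e (tq_f (tq_d (tq_h (tq_i (tq_d (tq_c (tq_b (tq_d (tq_e (tq_f (tq_d (tq_h (tq_i i)))))))))))))))))))))))))))))))))))))))))))))))))))))))))))))))))))))))))))))))))))))))))) i) 554 277 = true := by decide +kernel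
theorem exr_0_3 : allFrom (fun i => Nat.ble 31671 i || Nat.beq (tq_d (tq_c (tq_b (tq_d (tq_e (tq_f (tq_d (tq_h (tq_i (tq_d (tq_c (tq_b (tq_d (tq_e (tq_f (tq_d (tq_h (tq_i (tq_d (tq_c (tq_b (tq_d (tq_e (tq_f (tq_d (tq_h (tq_i (tq_d (tq_c (tq_b (tq_d (tq_e (tq_f (tq_d (tq_h (tq_i (tq_d (tq_c (tq_b (tq_d (tq_e (tq_f (tq_d (tq_h (tq_i (tq_d (tq_c (tq_b (tq_d (tq_e (tq_f (tq_d (tq_h (tq_i (tq_d (tq_c (tq_b (tq_d (tq_e (tq_f (tq_d (tq_h (tq_i (tq_d (tq_c (tq_b (tq_d (tq_e (tq_f (tq_d (tq_h (tq_i (tq_d (tq_c (tq_b (tq_d (tq_e (tq_f (tq_d (tq_h (tq_i (tq_d (tq_c (tq_b (tq_d (tq_e (tq_f (tq_d (tq_h (tq_i i)))))))))))))))))))))))))))))))))))))))))))))))))))))))))))))))))))))))))))))))))))))))))) i) 831 277 = true := by decide +kernel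
theorem exr_0_4 : allFrom (fun i => Nat.ble 31671 i || Nat.beq (tq_d (tq_c (tq_b (tq_d (tq_e (tq_f (tq_d (tq_h (tq_i (tq_d (tq_c (tq_b (tq_d (tq_e (tq_f (tq_d (tq_h (tq_i (tq_d (tq_c (tq_b (tq_d (tq_e (tq_f (tq_d (tq_h (tq_i (tq_d (tq_c (tq_b (tq_d (tq_e (tq_f (tq_d (tq_h (tq_i (tq_d (tq_c (tq_b (tq_d (tq_e (tq_f (tq_d (tq_h (tq_i (tq_d (tq_c (tq_b (tq_d (tq_e (tq_f (tq_d (tq_h (tq_i (tq_d (tq_c (tq_b (tq_d (tq_e (tq_f (tq_d (tq_h (tq_i (tq_d (tq_c (tq_b (tq_d (tq_e (tq_f (tq_d (tq_h (tq_i (tq_d (tq_c (tq_b (tq_d (tq_e (tq_f (tq_d (tq_h (tq_i (tq_d (tq_c (tq_b (tq_d (tq_e (tq_f (tq_d (tq_h (tq_i i)))))))))))))))))))))))))))))))))))))))))))))))))))))))))))))))))))))))))))))))))))))))))) i) 1108 277 = true := by decide +kernel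
theorem exr_0_5 : allFrom (fun i => Nat.ble 31671 i || Nat.beq (tq_d (tq_c (tq_b (tq_d (tq_e (tq_f (tq_d (tq_h (tq_i (tq_d (tq_c (tq_b (tq_d (tq_e (tq_f (tq_d (tq_h (tq_i (tq_d (tq_c (tq_b (tq_d (tq_e (tq_f (tq_d (tq_h (tq_i (tq_d (tq_c (tq_b (tq_d (tq_e (tq_f (tq_d (tq_h (tq_i (tq_d (tq_c (tq_b (tq_d (tq_e (tq_f (tq_d (tq_h (tq_i (tq_d (tq_c (tq_b (tq_d (tq_e (tq_f (tq_d (tq_h (tq_i (tq_d (tq_c (tq_b (tq_d (tq_e (tq_f (tq_d (tq_h (tq_i (tq_d (tq_c (tq_b (tq_d (tq_e (tq_f (tq_d (tq_h (tq_i (tq_d (tq_c (tq_b (tq_d (tq_e (tq_f (tq_d (tq_h (tq_i (tq_d (tq_c (tq_b (tq_d (tq_e (tq_f (tq_d (tq_h (tq_i i)))))))))))))))))))))))))))))))))))))))))))))))))))))))))))))))))))))))))))))))))))))))))) i) 1385 277 = true := by decide +kernel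
theorem exr_0_6 : allFrom (fun i => Nat.ble 31671 i || Nat.beq (tq_d (tq_c (tq_b (tq_d (tq_e (tq_f (tq_d (tq_h (tq_i (tq_d (tq_c (tq_b (tq_d (tq_e (tq_f (tq_d (tq_h (tq_i (tq_d (tq_c (tq_b (tq_d (tq_e (tq_f (tq_d (tq_h (tq_i (tq_d (tq_c (tq_b (tq_d (tq_e (tq_f (tq_d (tq_h (tq_i (tq_d (tq_c (tq_b (tq_d (tq_e (tq_f (tq_d (tq_h (tq_i (tq_d (tq_c (tq_b (tq_d (tq_e (tq_f (tq_d (tq_h (tq_i (tq_d (tq_c (tq_b (tq_d (tq_e (tq_f (tq_d (tq_h (tq_i (tq_d (tq_c (tq_b (tq_d (tq_e (tq_f (tq_d (tq_h (tq_i (tq_d (tq_c (tq_b (tq_d (tq_e (tq_f (tq_d (tq_h (tq_i (tq_d (tq_c (tq_b (tq_d (tq_e (tq_f (tq_d (tq_h (tq_i i)))))))))))))))))))))))))))))))))))))))))))))))))))))))))))))))))))))))))))))))))))))))))) i) 1662 277 = true := by decide +kernel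
theorem exr_0_7 : allFrom (fun i => Nat.ble 31671 i || Nat.beq (tq_d (tq_c (tq_b (tq_d (tq_e (tq_f (tq_d (tq_h (tq_i (tq_d (tq_c (tq_b (tq_d (tq_e (tq_f (tq_d (tq_h (tq_i (tq_d (tq_c (tq_b (tq_d (tq_e (tq_f (tq_d (tq_h (tq_i (tq_d (tq_c (tq_b (tq_d (tq_e (tq_f (tq_d (tq_h (tq_i (tq_d (tq_c (tq_b (tq_d (tq_e (tq_f (tq_d (tq_h (tq_i (tq_d (tq_c (tq_b (tq_d (tq_e (tq_f (tq_d (tq_h (tq_i (tq_d (tq_c (tq_b (tq_d (tq_e (tq_f (tq_d (tq_h (tq_i (tq_d (tq_c (tq_b (tq_d (tq_e (tq_f (tq_d (tq_h (tq_i (tq_d (tq_c (tq_b (tq_d (tq_e (tq_f (tq_d (tq_h (tq_i (tq_d (tq_c (tq_b (tq_d (tq_e (tq_f (tq_d (tq_h (tq_i i)))))))))))))))))))))))))))))))))))))))))))))))))))))))))))))))))))))))))))))))))))))))))) i) 1939 277 = true := by decide +kernel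
theorem exr_0_8 : allFrom (fun i => Nat.ble 31671 i || Nat.beq (tq_d (tq_c (tq_b (tq_d (tq_e (tq_f (tq_d (tq_h (tq_i (tq_d (tq_c (tq_b (tq_d (tq_e (tq_f (tq_d (tq_h (tq_i (tq_d (tq_c (tq_b (tq_d (tq_e (tq_f (tq_d (tq_h (tq_i (tq_d (tq_c (tq_b (tq_d (tq_e (tq_f (tq_d (tq_h (tq_i (tq_d (tq_c (tq_b (tq_d (tq_e (tq_f (tq_d (tq_h (tq_i (tq_d (tq_c (tq_b (tq_d (tq_e (tq_f (tq_d (tq_h (tq_i (tq_d (tq_c (tq_b (tq_d (tq_e (tq_f (tq_d (tq_h (tq_i (tq_d (tq_c (tq_b (tq_d (tq_e (tq_f (tq_d (tq_h (tq_i (tq_d (tq_c (tq_b (tq_d (tq_e (tq_f (tq_d (tq_h (tq_i (tq_d (tq_c (tq_b (tq_d (tq_e (tq_f (tq_d (tq_h (tq_i i)))))))))))))))))))))))))))))))))))))))))))))))))))))))))))))))))))))))))))))))))))))))))) i) 2216 277 = true := by decide +kernel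
theorem exr_0_9 : allFrom (fun i => Nat.ble 31671 i || Nat.beq (tq_d (tq_c (tq_b (tq_d (tq_e (tq_f (tq_d (tq_h (tq_i (tq_d (tq_c (tq_b (tq_d (tq_e (tq_f (tq_d (tq_h (tq_i (tq_d (tq_c (tq_b (tq_d (tq_e (tq_f (tq_d (tq_h (tq_i (tq_d (tq_c (tq_b (tq_d (tq_e (tq_f (tq_d (tq_h (tq_i (tq_d (tq_c (tq_b (tq_d (tq_e (tq_f (tq_d (tq_h (tq_i (tq_d (tq_c (tq_b (tq_d (tq_e (tq_f (tq_d (tq_h (tq_i (tq_d (tq_c (tq_b (tq_d (tq_e (tq_f (tq_d (tq_h (tq_i (tq_d (tq_c (tq_b (tq_d (tq_e (tq_f (tq_d (tq_h (tq_i (tq_d (tq_c (tq_b (tq_d (tq_e (tq_f (tq_d (tq_h (tq_i (tq_d (tq_c (tq_b (tq_d (tq_e (tq_f (tq_d (tq_h (tq_i i)))))))))))))))))))))))))))))))))))))))))))))))))))))))))))))))))))))))))))))))))))))))))) i) 2493 277 = true := by decide +kernel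
theorem exr_0_10 : allFrom (fun i => Nat.ble 31671 i || Nat.beq (tq_d (tq_c (tq_b (tq_d (tq_e (tq_f (tq_d (tq_h (tq_i (tq_d (tq_c (tq_b (tq_d (tq_e (tq_f (tq_d (tq_h (tq_i (tq_d (tq_c (tq_b (tq_d (tq_e (tq_f (tq_d (tq_h (tq_i (tq_d (tq_c (tq_b (tq_d (tq_e (tq_f (tq_d (tq_h (tq_i (tq_d (tq_c (tq_b (tq_d (tq_e (tq_f (tq_d (tq_h (tq_i (tq_d (tq_c (tq_b (tq_d (tq_e (tq_f (tq_d (tq_h (tq_i (tq_d (tq_c (tq_b (tq_d (tq_e (tq_f (tq_d (tq_h (tq_i (tq_d (tq_c (tq_b (tq_d (tq_e (tq_f (tq_d (tq_h (tq_i (tq_d (tq_c (tq_b (tq_d (tq_e (tq_f (tq_d (tq_h (tq_i (tq_d (tq_c (tq_b (tq_d (tq_e (tq_f (tq_d (tq_h (tq_i i)))))))))))))))))))))))))))))))))))))))))))))))))))))))))))))))))))))))))))))))))))))))))) i) 2770 277 = true := by decide +kernel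
theorem exr_0_11 : allFrom (fun i => Nat.ble 31671 i || Nat.beq (tq_d (tq_c (tq_b (tq_d (tq_e (tq_f (tq_d (tq_h (tq_i (tq_d (tq_c (tq_b (tq_d (tq_e (tq_f (tq_d (tq_h (tq_i (tq_d (tq_c (tq_b (tq_d (tq_e (tq_f (tq_d (tq_h (tq_i (tq_d (tq_c (tq_b (tq_d (tq_e (tq_f (tq_d (tq_h (tq_i (tq_d (tq_c (tq_b (tq_d (tq_e (tq_f (tq_d (tq_h (tq_i (tq_d (tq_c (tq_b (tq_d (tq_e (tq_f (tq_d (tq_h (tq_i (tq_d (tq_c (tq_b (tq_d (tq_e (tq_f (tq_d (tq_h (tq_i (tq_d (tq_c (tq_b (tq_d (tq_e (tq_f (tq_d (tq_h (tq_i (tq_d (tq_c (tq_b (tq_d (tq_e (tq_f (tq_d (tq_h (tq_i (tq_d (tq_c (tq_b (tq_d (tq_e (tq_f (tq_d (tq_h (tq_i i)))))))))))))))))))))))))))))))))))))))))))))))))))))))))))))))))))))))))))))))))))))))))) i) 3047 277 = true := by decide +kernel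
theorem exr_0_12 : allFrom (fun i => Nat.ble 31671 i || Nat.beq (tq_d (tq_c (tq_b (tq_d (tq_e (tq_f (tq_d (tq_h (tq_i (tq_d (tq_c (tq_b (tq_d (tq_e (tq_f (tq_d (tq_h (tq_i (tq_d (tq_c (tq_b (tq_d (tq_e (tq_f (tq_d (tq_h (tq_i (tq_d (tq_c (tq_b (tq_d (tq_e (tq_f (tq_d (tq_h (tq_i (tq_d (tq_c (tq_b (tq_d (tq_e (tq_f (tq_d (tq_h (tq_i (tq_d (tq_c (tq_b (tq_d (tq_e (tq_f (tq_d (tq_h (tq_i (tq_d (tq_c (tq_b (tq_d (tq_e (tq_f (tq_d (tq_h (tq_i (tq_d (tq_c (tq_b (tq_d (tq_e (tq_f (tq_d (tq_h (tq_i (tq_d (tq_c (tq_b (tq_d (tq_e (tq_f (tq_d (tq_h (tq_i (tq_d (tq_c (tq_b (tq_d (tq_e (tq_f (tq_d (tq_h (tq_i i)))))))))))))))))))))))))))))))))))))))))))))))))))))))))))))))))))))))))))))))))))))))))) i) 3324 277 = true := by decide +kernel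
theorem exr_0_13 : allFrom (fun i => Nat.ble 31671 i || Nat.beq (tq_d (tq_c (tq_b (tq_d (tq_e (tq_f (tq_d (tq_h (tq_i (tq_d (tq_c (tq_b (tq_d (tq_e (tq_f (tq_d (tq_h (tq_i (tq_d (tq_c (tq_b (tq_d (tq_e (tq_f (tq_d (tq_h (tq_i (tq_d (tq_c (tq_b (tq_d (tq_e (tq_f (tq_d (tq_h (tq_i (tq_d (tq_c (tq_b (tq_d (tq_e (tq_f (tq_d (tq_h (tq_i (tq_d (tq_c (tq_b (tq_d (tq_e (tq_f (tq_d (tq_h (tq_i (tq_d (tq_c (tq_b (tq_d (tq_e (tq_f (tq_d (tq_h (tq_i (tq_d (tq_c (tq_b (tq_d (tq_e (tq_f (tq_d (tq_h (tq_i (tq_d (tq_c (tq_b (tq_d (tq_e (tq_f (tq_d (tq_h (tq_i (tq_d (tq_c (tq_b (tq_d (tq_e (tq_f (tq_d (tq_h (tq_i i)))))))))))))))))))))))))))))))))))))))))))))))))))))))))))))))))))))))))))))))))))))))))) i) 3601 277 = true := by decide +kernel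
theorem exr_0_14 : allFrom (fun i => Nat.ble 31671 i || Nat.beq (tq_d (tq_c (tq_b (tq_d (tq_e (tq_f (tq_d (tq_h (tq_i (tq_d (tq_c (tq_b (tq_d (tq_e (tq_f (tq_d (tq_h (tq_i (tq_d (tq_c (tq_b (tq_d (tq_e (tq_f (tq_d (tq_h (tq_i (tq_d (tq_c (tq_b (tq_d (tq_e (tq_f (tq_d (tq_h (tq_i (tq_d (tq_c (tq_b (tq_d (tq_e (tq_f (tq_d (tq_h (tq_i (tq_d (tq_c (tq_b (tq_d (tq_e (tq_f (tq_d (tq_h (tq_i (tq_d (tq_c (tq_b (tq_d (tq_e (tq_f (tq_d (tq_h (tq_i (tq_d (tq_c (tq_b (tq_d (tq_e (tq_f (tq_d (tq_h (tq_i (tq_d (tq_c (tq_b (tq_d (tq_e (tq_f (tq_d (tq_h (tq_i (tq_d (tq_c (tq_b (tq_d (tq_e (tq_f (tq_d (tq_h (tq_i i)))))))))))))))))))))))))))))))))))))))))))))))))))))))))))))))))))))))))))))))))))))))))) i) 3878 277 = true := by decide +kernel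
theorem exr_0_15 : allFrom (fun i => Nat.ble 31671 i || Nat.beq (tq_d (tq_c (tq_b (tq_d (tq_e (tq_f (tq_d (tq_h (tq_i (tq_d (tq_c (tq_b (tq_d (tq_e (tq_f (tq_d (tq_h (tq_i (tq_d (tq_c (tq_b (tq_d (tq_e (tq_f (tq_d (tq_h (tq_i (tq_d (tq_c (tq_b (tq_d (tq_e (tq_f (tq_d (tq_h (tq_i (tq_d (tq_c (tq_b (tq_d (tq_e (tq_f (tq_d (tq_h (tq_i (tq_d (tq_c (tq_b (tq_d (tq_e (tq_f (tq_d (tq_h (tq_i (tq_d (tq_c (tq_b (tq_d (tq_e (tq_f (tq_d (tq_h (tq_i (tq_d (tq_c (tq_b (tq_d (tq_e (tq_f (tq_d (tq_h (tq_i (tq_d (tq_c (tq_b (tq_d (tq_e (tq_f (tq_d (tq_h (tq_i (tq_d (tq_c (tq_b (tq_d (tq_e (tq_f (tq_d (tq_h (tq_i i)))))))))))))))))))))))))))))))))))))))))))))))))))))))))))))))))))))))))))))))))))))))))) i) 4155 277 = true := by decide +kernel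
theorem exr_0_16 : allFrom (fun i => Nat.ble 31671 i || Nat.beq (tq_d (tq_c (tq_b (tq_d (tq_e (tq_f (tq_d (tq_h (tq_i (tq_d (tq_c (tq_b (tq_d (tq_e (tq_f (tq_d (tq_h (tq_i (tq_d (tq_c (tq_b (tq_d (tq_e (tq_f (tq_d (tq_h (tq_i (tq_d (tq_c (tq_b (tq_d (tq_e (tq_f (tq_d (tq_h (tq_i (tq_d (tq_c (tq_b (tq_d (tq_e (tq_f (tq_d (tq_h (tq_i (tq_d (tq_c (tq_b (tq_d (tq_e (tq_f (tq_d (tq_h (tq_i (tq_d (tq_c (tq_b (tq_d (tq_e (tq_f (tq_d (tq_h (tq_i (tq_d (tq_c (tq_b (tq_d (tq_e (tq_f (tq_d (tq_h (tq_i (tq_d (tq_c (tq_b (tq_d (tq_e (tq_f (tq_d (tq_h (tq_i (tq_d (tq_c (tq_b (tq_d (tq_e (tq_f (tq_d (tq_h (tq_i i)))))))))))))))))))))))))))))))))))))))))))))))))))))))))))))))))))))))))))))))))))))))))) i) 4432 277 = true := by decide +kernel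
theorem exr_0_17 : allFrom (fun i => Nat.ble 31671 i || Nat.beq (tq_d (tq_c (tq_b (tq_d (tq_e (tq_f (tq_d (tq_h (tq_i (tq_d (tq_c (tq_b (tq_d (tq_e (tq_f (tq_d (tq_h (tq_i (tq_d (tq_c (tq_b (tq_d (tq_e (tq_f (tq_d (tq_h (tq_i (tq_d (tq_c (tq_b (tq_d (tq_e (tq_f (tq_d (tq_h (tq_i (tq_d (tq_c (tq_b (tq_d (tq_e (tq_f (tq_d (tq_h (tq_i (tq_d (tq_c (tq_b (tq_d (tq_e (tq_f (tq_d (tq_h (tq_i (tq_d (tq_c (tq_b (tq_d (tq_e (tq_f (tq_d (tq_h (tq_i (tq_d (tq_c (tq_b (tq_d (tq_e (tq_f (tq_d (tq_h (tq_i (tq_d (tq_c (tq_b (tq_d (tq_e (tq_f (tq_d (tq_h (tq_i (tq_d (tq_c (tq_b (tq_d (tq_e (tq_f (tq_d (tq_h (tq_i i)))))))))))))))))))))))))))))))))))))))))))))))))))))))))))))))))))))))))))))))))))))))))) i) 4709 277 = true := by decide +kernel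
theorem exr_0_18 : allFrom (fun i => Nat.ble 31671 i || Nat.beq (tq_d (tq_c (tq_b (tq_d (tq_e (tq_f (tq_d (tq_h (tq_i (tq_d (tq_c (tq_b (tq_d (tq_e (tq_f (tq_d (tq_h (tq_i (tq_d (tq_c (tq_b (tq_d (tq_e (tq_f (tq_d (tq_h (tq_i (tq_d (tq_c (tq_b (tq_d (tq_e (tq_f (tq_d (tq_h (tq_i (tq_d (tq_c (tq_b (tq_d (tq_e (tq_f (tq_d (tq_h (tq_i (tq_d (tq_c (tq_b (tq_d (tq_e (tq_f (tq_d (tq_h (tq_i (tq_d (tq_c (tq_b (tq_d (tq_e (tq_f (tq_d (tq_h (tq_i (tq_d (tq_c (tq_b (tq_d (tq_e (tq_f (tq_d (tq_h (tq_i (tq_d (tq_c (tq_b (tq_d (tq_e (tq_f (tq_d (tq_h (tq_i (tq_d (tq_c (tq_b (tq_d (tq_e (tq_f (tq_d (tq_h (tq_i i)))))))))))))))))))))))))))))))))))))))))))))))))))))))))))))))))))))))))))))))))))))))))) i) 4986 277 = true := by decide +kernel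
theorem exr_0_19 : allFrom (fun i => Nat.ble 31671 i || Nat.beq (tq_d (tq_c (tq_b (tq_d (tq_e (tq_f (tq_d (tq_h (tq_i (tq_d (tq_c (tq_b (tq_d (tq_e (tq_f (tq_d (tq_h (tq_i (tq_d (tq_c (tq_b (tq_d (tq_e (tq_f (tq_d (tq_h (tq_i (tq_d (tq_c (tq_b (tq_d (tq_e (tq_f (tq_d (tq_h (tq_i (tq_d (tq_c (tq_b (tq_d (tq_e (tq_f (tq_d (tq_h (tq_i (tq_d (tq_c (tq_b (tq_d (tq_e (tq_f (tq_d (tq_h (tq_i (tq_d (tq_c (tq_b (tq_d (tq_e (tq_f (tq_d (tq_h (tq_i (tq_d (tq_c (tq_b (tq_d (tq_e (tq_f (tq_d (tq_h (tq_i (tq_d (tq_c (tq_b (tq_d (tq_e (tq_f (tq_d (tq_h (tq_i (tq_d (tq_c (tq_b (tq_d (tq_e (tq_f (tq_d (tq_h (tq_i i)))))))))))))))))))))))))))))))))))))))))))))))))))))))))))))))))))))))))))))))))))))))))) i) 5263 277 = true := by decide +kernel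
theorem exr_0_20 : allFrom (fun i => Nat.ble 31671 i || Nat.beq (tq_d (tq_c (tq_b (tq_d (tq_e (tq_f (tq_d (tq_h (tq_i (tq_d (tq_c (tq_b (tq_d (tq_e (tq_f (tq_d (tq_h (tq_i (tq_d (tq_c (tq_b (tq_d (tq_e (tq_f (tq_d (tq_h (tq_i (tq_d (tq_c (tq_b (tq_d (tq_e (tq_f (tq_d (tq_h (tq_i (tq_d (tq_c (tq_b (tq_d (tq_e (tq_f (tq_d (tq_h (tq_i (tq_d (tq_c (tq_b (tq_d (tq_e (tq_f (tq_d (tq_h (tq_i (tq_d (tq_c (tq_b (tq_d (tq_e (tq_f (tq_d (tq_h (tq_i (tq_d (tq_c (tq_b (tq_d (tq_e (tq_f (tq_d (tq_h (tq_i (tq_d (tq_c (tq_b (tq_d (tq_e (tq_f (tq_d (tq_h (tq_i (tq_d (tq_c (tq_b (tq_d (tq_e (tq_f (tq_d (tq_h (tq_i i)))))))))))))))))))))))))))))))))))))))))))))))))))))))))))))))))))))))))))))))))))))))))) i) 5540 277 = true := by decide +kernel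
theorem exr_0_21 : allFrom (fun i => Nat.ble 31671 i || Nat.beq (tq_d (tq_c (tq_b (tq_d (tq_e (tq_f (tq_d (tq_h (tq_i (tq_d (tq_c (tq_b (tq_d (tq_e (tq_f (tq_d (tq_h (tq_i (tq_d (tq_c (tq_b (tq_d (tq_e (tq_f (tq_d (tq_h (tq_i (tq_d (tq_c (tq_b (tq_d (tq_e (tq_f (tq_d (tq_h (tq_i (tq_d (tq_c (tq_b (tq_d (tq_e (tq_f (tq_d (tq_h (tq_i (tq_d (tq_c (tq_b (tq_d (tq_e (tq_f (tq_d (tq_h (tq_i (tq_d (tq_c (tq_b (tq_d (tq_e (tq_f (tq_d (tq_h (tq_i (tq_d (tq_c (tq_b (tq_d (tq_e (tq_f (tq_d (tq_h (tq_i (tq_d (tq_c (tq_b (tq_d (tq_e (tq_f (tq_d (tq_h (tq_i (tq_d (tq_c (tq_b (tq_d (tq_e (tq_f (tq_d (tq_h (tq_i i)))))))))))))))))))))))))))))))))))))))))))))))))))))))))))))))))))))))))))))))))))))))))) i) 5817 277 = true := by decide +kernel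
theorem exr_0_22 : allFrom (fun i => Nat.ble 31671 i || Nat.beq (tq_d (tq_c (tq_b (tq_d (tq_e (tq_f (tq_d (tq_h (tq_i (tq_d (tq_c (tq_b (tq_d (tq_e (tq_f (tq_d (tq_h (tq_i (tq_d (tq_c (tq_b (tq_d (tq_e (tq_f (tq_d (tq_h (tq_i (tq_d (tq_c (tq_b (tq_d (tq_e (tq_f (tq_d (tq_h (tq_i (tq_d (tq_c (tq_b (tq_d (tq_e (tq_f (tq_d (tq_h (tq_i (tq_d (tq_c (tq_b (tq_d (tq_e (tq_f (tq_d (tq_h (tq_i (tq_d (tq_c (tq_b (tq_d (tq_e (tq_f (tq_d (tq_h (tq_i (tq_d (tq_c (tq_b (tq_d (tq_e (tq_f (tq_d (tq_h (tq_i (tq_d (tq_c (tq_b (tq_d (tq_e (tq_f (tq_d (tq_h (tq_i (tq_d (tq_c (tq_b (tq_d (tq_e (tq_f (tq_d (tq_h (tq_i i)))))))))))))))))))))))))))))))))))))))))))))))))))))))))))))))))))))))))))))))))))))))))) i) 6094 277 = true := by decide +kernel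
theorem exr_0_23 : allFrom (fun i => Nat.ble 31671 i || Nat.beq (tq_d (tq_c (tq_b (tq_d (tq_e (tq_f (tq_d (tq_h (tq_i (tq_d (tq_c (tq_b (tq_d (tq_e (tq_f (tq_d (tq_h (tq_i (tq_d (tq_c (tq_b (tq_d (tq_e (tq_f (tq_d (tq_h (tq_i (tq_d (tq_c (tq_b (tq_d (tq_e (tq_f (tq_d (tq_h (tq_i (tq_d (tq_c (tq_b (tq_d (tq_e (tq_f (tq_d (tq_h (tq_i (tq_d (tq_c (tq_b (tq_d (tq_e (tq_f (tq_d (tq_h (tq_i (tq_d (tq_c (tq_b (tq_d (tq_e (tq_f (tq_d (tq_h (tq_i (tq_d (tq_c (tq_b (tq_d (tq_e (tq_f (tq_d (tq_h (tq_i (tq_d (tq_c (tq_b (tq_d (tq_e (tq_f (tq_d (tq_h (tq_i (tq_d (tq_c (tq_b (tq_d (tq_e (tq_f (tq_d (tq_h (tq_i i)))))))))))))))))))))))))))))))))))))))))))))))))))))))))))))))))))))))))))))))))))))))))) i) 6371 277 = true := by decide +kernel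
theorem exr_0_24 : allFrom (fun i => Nat.ble 31671 i || Nat.beq (tq_d (tq_c (tq_b (tq_d (tq_e (tq_f (tq_d (tq_h (tq_i (tq_d (tq_c (tq_b (tq_d (tq_e (tq_f (tq_d (tq_h (tq_i (tq_d (tq_c (tq_b (tq_d (tq_e (tq_f (tq_d (tq_h (tq_i (tq_d (tq_c (tq_b (tq_d (tq_e (tq_f (tq_d (tq_h (tq_i (tq_d (tq_c (tq_b (tq_d (tq_e (tq_f (tq_d (tq_h (tq_i (tq_d (tq_c (tq_b (tq_d (tq_e (tq_f (tq_d (tq_h (tq_i (tq_d (tq_c (tq_b (tq_d (tq_e (tq_f (tq_d (tq_h (tq_i (tq_d (tq_c (tq_b (tq_d (tq_e (tq_f (tq_d (tq_h (tq_i (tq_d (tq_c (tq_b (tq_d (tq_e (tq_f (tq_d (tq_h (tq_i (tq_d (tq_c (tq_b (tq_d (tq_e (tq_f (tq_d (tq_h (tq_i i)))))))))))))))))))))))))))))))))))))))))))))))))))))))))))))))))))))))))))))))))))))))))) i) 6648 277 = true := by decide +kernel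
theorem exr_0_25 : allFrom (fun i => Nat.ble 31671 i || Nat.beq (tq_d (tq_c (tq_b (tq_d (tq_e (tq_f (tq_d (tq_h (tq_i (tq_d (tq_c (tq_b (tq_d (tq_e (tq_f (tq_d (tq_h (tq_i (tq_d (tq_c (tq_b (tq_d (tq_e (tq_f (tq_d (tq_h (tq_i (tq_d (tq_c (tq_b (tq_d (tq_e (tq_f (tq_d (tq_h (tq_i (tq_d (tq_c (tq_b (tq_d (tq_e (tq_f (tq_d (tq_h (tq_i (tq_d (tq_c (tq_b (tq_d (tq_e (tq_f (tq_d (tq_h (tq_i (tq_d (tq_c (tq_b (tq_d (tq_e (tq_f (tq_d (tq_h (tq_i (tq_d (tq_c (tq_b (tq_d (tq_e (tq_f (tq_d (tq_h (tq_i (tq_d (tq_c (tq_b (tq_d (tq_e (tq_f (tq_d (tq_h (tq_i (tq_d (tq_c (tq_b (tq_d (tq_e (tq_f (tq_d (tq_h (tq_i i)))))))))))))))))))))))))))))))))))))))))))))))))))))))))))))))))))))))))))))))))))))))))) i) 6925 277 = true := by decide +kernel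
theorem exr_0_26 : allFrom (fun i => Nat.ble 31671 i || Nat.beq (tq_d (tq_c (tq_b (tq_d (tq_e (tq_f (tq_d (tq_h (tq_i (tq_d (tq_c (tq_b (tq_d (tq_e (tq_f (tq_d (tq_h (tq_i (tq_d (tq_c (tq_b (tq_d (tq_e (tq_f (tq_d (tq_h (tq_i (tq_d (tq_c (tq_b (tq_d (tq_e (tq_f (tq_d (tq_h (tq_i (tq_d (tq_c (tq_b (tq_d (tq_e (tq_f (tq_d (tq_h (tq_i (tq_d (tq_c (tq_b (tq_d (tq_e (tq_f (tq_d (tq_h (tq_i (tq_d (tq_c (tq_b (tq_d (tq_e (tq_f (tq_d (tq_h (tq_i (tq_d (tq_c (tq_b (tq_d (tq_e (tq_f (tq_d (tq_h (tq_i (tq_d (tq_c (tq_b (tq_d (tq_e (tq_f (tq_d (tq_h (tq_i (tq_d (tq_c (tq_b (tq_d (tq_e (tq_f (tq_d (tq_h (tq_i i)))))))))))))))))))))))))))))))))))))))))))))))))))))))))))))))))))))))))))))))))))))))))) i) 7202 277 = true := by decide +kernel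
theorem exr_0_27 : allFrom (fun i => Nat.ble 31671 i || Nat.beq (tq_d (tq_c (tq_b (tq_d (tq_e (tq_f (tq_d (tq_h (tq_i (tq_d (tq_c (tq_b (tq_d (tq_e (tq_f (tq_d (tq_h (tq_i (tq_d (tq_c (tq_b (tq_d (tq_e (tq_f (tq_d (tq_h (tq_i (tq_d (tq_c (tq_b (tq_d (tq_e (tq_f (tq_d (tq_h (tq_i (tq_d (tq_c (tq_b (tq_d (tq_e (tq_f (tq_d (tq_h (tq_i (tq_d (tq_c (tq_b (tq_d (tq_e (tq_f (tq_d (tq_h (tq_i (tq_d (tq_c (tq_b (tq_d (tq_e (tq_f (tq_d (tq_h (tq_i (tq_d (tq_c (tq_b (tq_d (tq_e (tq_f (tq_d (tq_h (tq_i (tq_d (tq_c (tq_b (tq_d (tq_e (tq_f (tq_d (tq_h (tq_i (tq_d (tq_c (tq_b (tq_d (tq_e (tq_f (tq_d (tq_h (tq_i i)))))))))))))))))))))))))))))))))))))))))))))))))))))))))))))))))))))))))))))))))))))))))) i) 7479 277 = true := by decide +kernel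
theorem exr_0_28 : allFrom (fun i => Nat.ble 31671 i || Nat.beq (tq_d (tq_c (tq_b (tq_d (tq_e (tq_f (tq_d (tq_h (tq_i (tq_d (tq_c (tq_b (tq_d (tq_e (tq_f (tq_d (tq_h (tq_i (tq_d (tq_c (tq_b (tq_d (tq_e (tq_f (tq_d (tq_h (tq_i (tq_d (tq_c (tq_b (tq_d (tq_e (tq_f (tq_d (tq_h (tq_i (tq_d (tq_c (tq_b (tq_d (tq_e (tq_f (tq_d (tq_h (tq_i (tq_d (tq_c (tq_b (tq_d (tq_e (tq_f (tq_d (tq_h (tq_i (tq_d (tq_c (tq_b (tq_d (tq_e (tq_f (tq_d (tq_h (tq_i (tq_d (tq_c (tq_b (tq_d (tq_e (tq_f (tq_d (tq_h (tq_i (tq_d (tq_c (tq_b (tq_d (tq_e (tq_f (tq_d (tq_h (tq_i (tq_d (tq_c (tq_b (tq_d (tq_e (tq_f (tq_d (tq_h (tq_i i)))))))))))))))))))))))))))))))))))))))))))))))))))))))))))))))))))))))))))))))))))))))))) i) 7756 277 = true := by decide +kernel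
theorem exr_0_29 : allFrom (fun i => Nat.ble 31671 i || Nat.beq (tq_d (tq_c (tq_b (tq_d (tq_e (tq_f (tq_d (tq_h (tq_i (tq_d (tq_c (tq_b (tq_d (tq_e (tq_f (tq_d (tq_h (tq_i (tq_d (tq_c (tq_b (tq_d (tq_e (tq_f (tq_d (tq_h (tq_i (tq_d (tq_c (tq_b (tq_d (tq_e (tq_f (tq_d (tq_h (tq_i (tq_d (tq_c (tq_b (tq_d (tq_e (tq_f (tq_d (tq_h (tq_i (tq_d (tq_c (tq_b (tq_d (tq_e (tq_f (tq_d (tq_h (tq_i (tq_d (tq_c (tq_b (tq_d (tq_e (tq_f (tq_d (tq_h (tq_i (tq_d (tq_c (tq_b (tq_d (tq_e (tq_f (tq_d (tq_h (tq_i (tq_d (tq_c (tq_b (tq_d (tq_e (tq_f (tq_d (tq_h (tq_i (tq_d (tq_c (tq_b (tq_d (tq_e (tq_f (tq_d (tq_h (tq_i i)))))))))))))))))))))))))))))))))))))))))))))))))))))))))))))))))))))))))))))))))))))))))) i) 8033 277 = true := by decide +kernel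
theorem exr_0_30 : allFrom (fun i => Nat.ble 31671 i || Nat.beq (tq_d (tq_c (tq_b (tq_d (tq_e (tq_f (tq_d (tq_h (tq_i (tq_d (tq_c (tq_b (tq_d (tq_e (tq_f (tq_d (tq_h (tq_i (tq_d (tq_c (tq_b (tq_d (tq_e (tq_f (tq_d (tq_h (tq_i (tq_d (tq_c (tq_b (tq_d (tq_e (tq_f (tq_d (tq_h (tq_i (tq_d (tq_c (tq_b (tq_d (tq_e (tq_f (tq_d (tq_h (tq_i (tq_d (tq_c (tq_b (tq_d (tq_e (tq_f (tq_d (tq_h (tq_i (tq_d (tq_c (tq_b (tq_d (tq_e (tq_f (tq_d (tq_h (tq_i (tq_d (tq_c (tq_b (tq_d (tq_e (tq_f (tq_d (tq_h (tq_i (tq_d (tq_c (tq_b (tq_d (tq_e (tq_f (tq_d (tq_h (tq_i (tq_d (tq_c (tq_b (tq_d (tq_e (tq_f (tq_d (tq_h (tq_i i)))))))))))))))))))))))))))))))))))))))))))))))))))))))))))))))))))))))))))))))))))))))))) i) 8310 277 = true := by decide +kernel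
theorem exr_0_31 : allFrom (fun i => Nat.ble 31671 i || Nat.beq (tq_d (tq_c (tq_b (tq_d (tq_e (tq_f (tq_d (tq_h (tq_i (tq_d (tq_c (tq_b (tq_d (tq_e (tq_f (tq_d (tq_h (tq_i (tq_d (tq_c (tq_b (tq_d (tq_e (tq_f (tq_d (tq_h (tq_i (tq_d (tq_c (tq_b (tq_d (tq_e (tq_f (tq_d (tq_h (tq_i (tq_d (tq_c (tq_b (tq_d (tq_e (tq_f (tq_d (tq_h (tq_i (tq_d (tq_c (tq_b (tq_d (tq_e (tq_f (tq_d (tq_h (tq_i (tq_d (tq_c (tq_b (tq_d (tq_e (tq_f (tq_d (tq_h (tq_i (tq_d (tq_c (tq_b (tq_d (tq_e (tq_f (tq_d (tq_h (tq_i (tq_d (tq_c (tq_b (tq_d (tq_e (tq_f (tq_d (tq_h (tq_i (tq_d (tq_c (tq_b (tq_d (tq_e (tq_f (tq_d (tq_h (tq_i i)))))))))))))))))))))))))))))))))))))))))))))))))))))))))))))))))))))))))))))))))))))))))) i) 8587 277 = true := by decide +kernel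
theorem exr_0_32 : allFrom (fun i => Nat.ble 31671 i || Nat.beq (tq_d (tq_c (tq_b (tq_d (tq_e (tq_f (tq_d (tq_h (tq_i (tq_d (tq_c (tq_b (tq_d (tq_e (tq_f (tq_d (tq_h (tq_i (tq_d (tq_c (tq_b (tq_d (tq_e (tq_f (tq_d (tq_h (tq_i (tq_d (tq_c (tq_b (tq_d (tq_e (tq_f (tq_d (tq_h (tq_i (tq_d (tq_c (tq_b (tq_d (tq_e (tq_f (tq_d (tq_h (tq_i (tq_d (tq_c (tq_b (tq_d (tq_e (tq_f (tq_d (tq_h (tq_i (tq_d (tq_c (tq_b (tq_d (tq_e (tq_f (tq_d (tq_h (tq_i (tq_d (tq_c (tq_b (tq_d (tq_e (tq_f (tq_d (tq_h (tq_i (tq_d (tq_c (tq_b (tq_d (tq_e (tq_f (tq_d (tq_h (tq_i (tq_d (tq_c (tq_b (tq_d (tq_e (tq_f (tq_d (tq_h (tq_i i)))))))))))))))))))))))))))))))))))))))))))))))))))))))))))))))))))))))))))))))))))))))))) i) 8864 277 = true := by decide +kernel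
theorem exr_0_33 : allFrom (fun i => Nat.ble 31671 i || Nat.beq (tq_d (tq_c (tq_b (tq_d (tq_e (tq_f (tq_d (tq_h (tq_i (tq_d (tq_c (tq_b (tq_d (tq_e (tq_f (tq_d (tq_h (tq_i (tq_d (tq_c (tq_b (tq_d (tq_e (tq_f (tq_d (tq_h (tq_i (tq_d (tq_c (tq_b (tq_d (tq_e (tq_f (tq_d (tq_h (tq_i (tq_d (tq_c (tq_b (tq_d (tq_e (tq_f (tq_d (tq_h (tq_i (tq_d (tq_c (tq_b (tq_d (tq_e (tq_f (tq_d (tq_h (tq_i (tq_d (tq_c (tq_b (tq_d (tq_e (tq_f (tq_d (tq_h (tq_i (tq_d (tq_c (tq_b (tq_d (tq_e (tq_f (tq_d (tq_h (tq_i (tq_d (tq_c (tq_b (tq_d (tq_e (tq_f (tq_d (tq_h (tq_i (tq_d (tq_c (tq_b (tq_d (tq_e (tq_f (tq_d (tq_h (tq_i i)))))))))))))))))))))))))))))))))))))))))))))))))))))))))))))))))))))))))))))))))))))))))) i) 9141 277 = true := by decide +kernel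
theorem exr_0_34 : allFrom (fun i => Nat.ble 31671 i || Nat.beq (tq_d (tq_c (tq_b (tq_d (tq_e (tq_f (tq_d (tq_h (tq_i (tq_d (tq_c (tq_b (tq_d (tq_e (tq_f (tq_d (tq_h (tq_i (tq_d (tq_c (tq_b (tq_d (tq_e (tq_f (tq_d (tq_h (tq_i (tq_d (tq_c (tq_b (tq_d (tq_e (tq_f (tq_d (tq_h (tq_i (tq_d (tq_c (tq_b (tq_d (tq_e (tq_f (tq_d (tq_h (tq_i (tq_d (tq_c (tq_b (tq_d (tq_e (tq_f (tq_d (tq_h (tq_i (tq_d (tq_c (tq_b (tq_d (tq_e (tq_f (tq_d (tq_h (tq_i (tq_d (tq_c (tq_b (tq_d (tq_e (tq_f (tq_d (tq_h (tq_i (tq_d (tq_c (tq_b (tq_d (tq_e (tq_f (tq_d (tq_h (tq_i (tq_d (tq_c (tq_b (tq_d (tq_e (tq_f (tq_d (tq_h (tq_i i)))))))))))))))))))))))))))))))))))))))))))))))))))))))))))))))))))))))))))))))))))))))))) i) 9418 277 = true := by decide +kernel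
theorem exr_0_35 : allFrom (fun i => Nat.ble 31671 i || Nat.beq (tq_d (tq_c (tq_b (tq_d (tq_e (tq_f (tq_d (tq_h (tq_i (tq_d (tq_c (tq_b (tq_d (tq_e (tq_f (tq_d (tq_h (tq_i (tq_d (tq_c (tq_b (tq_d (tq_e (tq_f (tq_d (tq_h (tq_i (tq_d (tq_c (tq_b (tq_d (tq_e (tq_f (tq_d (tq_h (tq_i (tq_d (tq_c (tq_b (tq_d (tq_e (tq_f (tq_d (tq_h (tq_i (tq_d (tq_c (tq_b (tq_d (tq_e (tq_f (tq_d (tq_h (tq_i (tq_d (tq_c (tq_b (tq_d (tq_e (tq_f (tq_d (tq_h (tq_i (tq_d (tq_c (tq_b (tq_d (tq_e (tq_f (tq_d (tq_h (tq_i (tq_d (tq_c (tq_b (tq_d (tq_e (tq_f (tq_d (tq_h (tq_i (tq_d (tq_c (tq_b (tq_d (tq_e (tq_f (tq_d (tq_h (tq_i i)))))))))))))))))))))))))))))))))))))))))))))))))))))))))))))))))))))))))))))))))))))))))) i) 9695 277 = true := by decide +kernel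
theorem exr_0_36 : allFrom (fun i => Nat.ble 31671 i || Nat.beq (tq_d (tq_c (tq_b (tq_d (tq_e (tq_f (tq_d (tq_h (tq_i (tq_d (tq_c (tq_b (tq_d (tq_e (tq_f (tq_d (tq_h (tq_i (tq_d (tq_c (tq_b (tq_d (tq_e (tq_f (tq_d (tq_h (tq_i (tq_d (tq_c (tq_b (tq_d (tq_e (tq_f (tq_d (tq_h (tq_i (tq_d (tq_c (tq_b (tq_d (tq_e (tq_f (tq_d (tq_h (tq_i (tq_d (tq_c (tq_b (tq_d (tq_e (tq_f (tq_d (tq_h (tq_i (tq_d (tq_c (tq_b (tq_d (tq_e (tq_f (tq_d (tq_h (tq_i (tq_d (tq_c (tq_b (tq_d (tq_e (tq_f (tq_d (tq_h (tq_i (tq_d (tq_c (tq_b (tq_d (tq_e (tq_f (tq_d (tq_h (tq_i (tq_d (tq_c (tq_b (tq_d (tq_e (tq_f (tq_d (tq_h (tq_i i)))))))))))))))))))))))))))))))))))))))))))))))))))))))))))))))))))))))))))))))))))))))))) i) 9972 277 = true := by decide +kernel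
theorem exr_0_37 : allFrom (fun i => Nat.ble 31671 i || Nat.beq (tq_d (tq_c (tq_b (tq_d (tq_e (tq_f (tq_d (tq_h (tq_i (tq_d (tq_c (tq_b (tq_d (tq_e (tq_f (tq_d (tq_h (tq_i (tq_d (tq_c (tq_b (tq_d (tq_e (tq_f (tq_d (tq_h (tq_i (tq_d (tq_c (tq_b (tq_d (tq_e (tq_f (tq_d (tq_h (tq_i (tq_d (tq_c (tq_b (tq_d (tq_e (tq_f (tq_d (tq_h (tq_i (tq_d (tq_c (tq_b (tq_d (tq_e (tq_f (tq_d (tq_h (tq_i (tq_d (tq_c (tq_b (tq_d (tq_e (tq_f (tq_d (tq_h (tq_i (tq_d (tq_c (tq_b (tq_d (tq_e (tq_f (tq_d (tq_h (tq_i (tq_d (tq_c (tq_b (tq_d (tq_e (tq_f (tq_d (tq_h (tq_i (tq_d (tq_c (tq_b (tq_d (tq_e (tq_f (tq_d (tq_h (tq_i i)))))))))))))))))))))))))))))))))))))))))))))))))))))))))))))))))))))))))))))))))))))))))) i) 10249 277 = true := by decide +kernel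
theorem exr_0_38 : allFrom (fun i => Nat.ble 31671 i || Nat.beq (tq_d (tq_c (tq_b (tq_d (tq_e (tq_f (tq_d (tq_h (tq_i (tq_d (tq_c (tq_b (tq_d (tq_e (tq_f (tq_d (tq_h (tq_i (tq_d (tq_c (tq_b (tq_d (tq_e (tq_f (tq_d (tq_h (tq_i (tq_d (tq_c (tq_b (tq_d (tq_e (tq_f (tq_d (tq_h (tq_i (tq_d (tq_c (tq_b (tq_d (tq_e (tq_f (tq_d (tq_h (tq_i (tq_d (tq_c (tq_b (tq_d (tq_e (tq_f (tq_d (tq_h (tq_i (tq_d (tq_c (tq_b (tq_d (tq_e (tq_f (tq_d (tq_h (tq_i (tq_d (tq_c (tq_b (tq_d (tq_e (tq_f (tq_d (tq_h (tq_i (tq_d (tq_c (tq_b (tq_d (tq_e (tq_f (tq_d (tq_h (tq_i (tq_d (tq_c (tq_b (tq_d (tq_e (tq_f (tq_d (tq_h (tq_i i)))))))))))))))))))))))))))))))))))))))))))))))))))))))))))))))))))))))))))))))))))))))))) i) 10526 277 = true := by decide +kernel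
theorem exr_0_39 : allFrom (fun i => Nat.ble 31671 i || Nat.beq (tq_d (tq_c (tq_b (tq_d (tq_e (tq_f (tq_d (tq_h (tq_i (tq_d (tq_c (tq_b (tq_d (tq_e (tq_f (tq_d (tq_h (tq_i (tq_d (tq_c (tq_b (tq_d (tq_e (tq_f (tq_d (tq_h (tq_i (tq_d (tq_c (tq_b (tq_d (tq_e (tq_f (tq_d (tq_h (tq_i (tq_d (tq_c (tq_b (tq_d (tq_e (tq_f (tq_d (tq_h (tq_i (tq_d (tq_c (tq_b (tq_d (tq_e (tq_f (tq_d (tq_h (tq_i (tq_d (tq_c (tq_b (tq_d (tq_e (tq_f (tq_d (tq_h (tq_i (tq_d (tq_c (tq_b (tq_d (tq_e (tq_f (tq_d (tq_h (tq_i (tq_d (tq_c (tq_b (tq_d (tq_e (tq_f (tq_d (tq_h (tq_i (tq_d (tq_c (tq_b (tq_d (tq_e (tq_f (tq_d (tq_h (tq_i i)))))))))))))))))))))))))))))))))))))))))))))))))))))))))))))))))))))))))))))))))))))))))) i) 10803 277 = true := by decide +kernel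
theorem exr_0_40 : allFrom (fun i => Nat.ble 31671 i || Nat.beq (tq_d (tq_c (tq_b (tq_d (tq_e (tq_f (tq_d (tq_h (tq_i (tq_d (tq_c (tq_b (tq_d (tq_e (tq_f (tq_d (tq_h (tq_i (tq_d (tq_c (tq_b (tq_d (tq_e (tq_f (tq_d (tq_h (tq_i (tq_d (tq_c (tq_b (tq_d (tq_e (tq_f (tq_d (tq_h (tq_i (tq_d (tq_c (tq_b (tq_d (tq_e (tq_f (tq_d (tq_h (tq_i (tq_d (tq_c (tq_b (tq_d (tq_e (tq_f (tq_d (tq_h (tq_i (tq_d (tq_c (tq_b (tq_d (tq_e (tq_f (tq_d (tq_h (tq_i (tq_d (tq_c (tq_b (tq_d (tq_e (tq_f (tq_d (tq_h (tq_i (tq_d (tq_c (tq_b (tq_d (tq_e (tq_f (tq_d (tq_h (tq_i (tq_d (tq_c (tq_b (tq_d (tq_e (tq_f (tq_d (tq_h (tq_i i)))))))))))))))))))))))))))))))))))))))))))))))))))))))))))))))))))))))))))))))))))))))))) i) 11080 277 = true := by decide +kernel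
theorem exr_0_41 : allFrom (fun i => Nat.ble 31671 i || Nat.beq (tq_d (tq_c (tq_b (tq_d (tq_e (tq_f (tq_d (tq_h (tq_i (tq_d (tq_c (tq_b (tq_d (tq_e (tq_f (tq_d (tq_h (tq_i (tq_d (tq_c (tq_b (tq_d (tq_e (tq_f (tq_d (tq_h (tq_i (tq_d (tq_c (tq_b (tq_d (tq_e (tq_f (tq_d (tq_h (tq_i (tq_d (tq_c (tq_b (tq_d (tq_e (tq_f (tq_d (tq_h (tq_i (tq_d (tq_c (tq_b (tq_d (tq_e (tq_f (tq_d (tq_h (tq_i (tq_d (tq_c (tq_b (tq_d (tq_e (tq_f (tq_d (tq_h (tq_i (tq_d (tq_c (tq_b (tq_d (tq_e (tq_f (tq_d (tq_h (tq_i (tq_d (tq_c (tq_b (tq_d (tq_e (tq_f (tq_d (tq_h (tq_i (tq_d (tq_c (tq_b (tq_d (tq_e (tq_f (tq_d (tq_h (tq_i i)))))))))))))))))))))))))))))))))))))))))))))))))))))))))))))))))))))))))))))))))))))))))) i) 11357 277 = true := by decide +kernel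
theorem exr_0_42 : allFrom (fun i => Nat.ble 31671 i || Nat.beq (tq_d (tq_c (tq_b (tq_d (tq_e (tq_f (tq_d (tq_h (tq_i (tq_d (tq_c (tq_b (tq_d (tq_e (tq_f (tq_d (tq_h (tq_i (tq_d (tq_c (tq_b (tq_d (tq_e (tq_f (tq_d (tq_h (tq_i (tq_d (tq_c (tq_b (tq_d (tq_e (tq_f (tq_d (tq_h (tq_i (tq_d (tq_c (tq_b (tq_d (tq_e (tq_f (tq_d (tq_h (tq_i (tq_d (tq_c (tq_b (tq_d (tq_e (tq_f (tq_d (tq_h (tq_i (tq_d (tq_c (tq_b (tq_d (tq_e (tq_f (tq_d (tq_h (tq_i (tq_d (tq_c (tq_b (tq_d (tq_e (tq_f (tq_d (tq_h (tq_i (tq_d (tq_c (tq_b (tq_d (tq_e (tq_f (tq_d (tq_h (tq_i (tq_d (tq_c (tq_b (tq_d (tq_e (tq_f (tq_d (tq_h (tq_i i)))))))))))))))))))))))))))))))))))))))))))))))))))))))))))))))))))))))))))))))))))))))))) i) 11634 277 = true := by decide +kernel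
theorem exr_0_43 : allFrom (fun i => Nat.ble 31671 i || Nat.beq (tq_d (tq_c (tq_b (tq_d (tq_e (tq_f (tq_d (tq_h (tq_i (tq_d (tq_c (tq_b (tq_d (tq_e (tq_f (tq_d (tq_h (tq_i (tq_d (tq_c (tq_b (tq_d (tq_e (tq_f (tq_d (tq_h (tq_i (tq_d (tq_c (tq_b (tq_d (tq_e (tq_f (tq_d (tq_h (tq_i (tq_d (tq_c (tq_b (tq_d (tq_e (tq_f (tq_d (tq_h (tq_i (tq_d (tq_c (tq_b (tq_d (tq_e (tq_f (tq_d (tq_h (tq_i (tq_d (tq_c (tq_b (tq_d (tq_e (tq_f (tq_d (tq_h (tq_i (tq_d (tq_c (tq_b (tq_d (tq_e (tq_f (tq_d (tq_h (tq_i (tq_d (tq_c (tq_b (tq_d (tq_e (tq_f (tq_d (tq_h (tq_i (tq_d (tq_c (tq_b (tq_d (tq_e (tq_f (tq_d (tq_h (tq_i i)))))))))))))))))))))))))))))))))))))))))))))))))))))))))))))))))))))))))))))))))))))))))) i) 11911 277 = true := by decide +kernel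
theorem exr_0_44 : allFrom (fun i => Nat.ble 31671 i || Nat.beq (tq_d (tq_c (tq_b (tq_d (tq_e (tq_f (tq_d (tq_h (tq_i (tq_d (tq_c (tq_b (tq_d (tq_e (tq_f (tq_d (tq_h (tq_i (tq_d (tq_c (tq_b (tq_d (tq_e (tq_f (tq_d (tq_h (tq_i (tq_d (tq_c (tq_b (tq_d (tq_e (tq_f (tq_d (tq_h (tq_i (tq_d (tq_c (tq_b (tq_d (tq_e (tq_f (tq_d (tq_h (tq_i (tq_d (tq_c (tq_b (tq_d (tq_e (tq_f (tq_d (tq_h (tq_i (tq_d (tq_c (tq_b (tq_d (tq_e (tq_f (tq_d (tq_h (tq_i (tq_d (tq_c (tq_b (tq_d (tq_e (tq_f (tq_d (tq_h (tq_i (tq_d (tq_c (tq_b (tq_d (tq_e (tq_f (tq_d (tq_h (tq_i (tq_d (tq_c (tq_b (tq_d (tq_e (tq_f (tq_d (tq_h (tq_i i)))))))))))))))))))))))))))))))))))))))))))))))))))))))))))))))))))))))))))))))))))))))))) i) 12188 277 = true := by decide +kernel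
theorem exr_0_45 : allFrom (fun i => Nat.ble 31671 i || Nat.beq (tq_d (tq_c (tq_b (tq_d (tq_e (tq_f (tq_d (tq_h (tq_i (tq_d (tq_c (tq_b (tq_d (tq_e (tq_f (tq_d (tq_h (tq_i (tq_d (tq_c (tq_b (tq_d (tq_e (tq_f (tq_d (tq_h (tq_i (tq_d (tq_c (tq_b (tq_d (tq_e (tq_f (tq_d (tq_h (tq_i (tq_d (tq_c (tq_b (tq_d (tq_e (tq_f (tq_d (tq_h (tq_i (tq_d (tq_c (tq_b (tq_d (tq_e (tq_f (tq_d (tq_h (tq_i (tq_d (tq_c (tq_b (tq_d (tq_e (tq_f (tq_d (tq_h (tq_i (tq_d (tq_c (tq_b (tq_d (tq_e (tq_f (tq_d (tq_h (tq_i (tq_d (tq_c (tq_b (tq_d (tq_e (tq_f (tq_d (tq_h (tq_i (tq_d (tq_c (tq_b (tq_d (tq_e (tq_f (tq_d (tq_h (tq_i i)))))))))))))))))))))))))))))))))))))))))))))))))))))))))))))))))))))))))))))))))))))))))) i) 12465 277 = true := by decide +kernel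
theorem exr_0_46 : allFrom (fun i => Nat.ble 31671 i || Nat.beq (tq_d (tq_c (tq_b (tq_d (tq_e (tq_f (tq_d (tq_h (tq_i (tq_d (tq_c (tq_b (tq_d (tq_e (tq_f (tq_d (tq_h (tq_i (tq_d (tq_c (tq_b (tq_d (tq_e (tq_f (tq_d (tq_h (tq_i (tq_d (tq_c (tq_b (tq_d (tq_e (tq_f (tq_d (tq_h (tq_i (tq_d (tq_c (tq_b (tq_d (tq_e (tq_f (tq_d (tq_h (tq_i (tq_d (tq_c (tq_b (tq_d (tq_e (tq_f (tq_d (tq_h (tq_i (tq_d (tq_c (tq_b (tq_d (tq_e (tq_f (tq_d (tq_h (tq_i (tq_d (tq_c (tq_b (tq_d (tq_e (tq_f (tq_d (tq_h (tq_i (tq_d (tq_c (tq_b (tq_d (tq_e (tq_f (tq_d (tq_h (tq_i (tq_d (tq_c (tq_b (tq_d (tq_e (tq_f (tq_d (tq_h (tq_i i)))))))))))))))))))))))))))))))))))))))))))))))))))))))))))))))))))))))))))))))))))))))))) i) 12742 277 = true := by decide +kernel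
theorem exr_0_47 : allFrom (fun i => Nat.ble 31671 i || Nat.beq (tq_d (tq_c (tq_b (tq_d (tq_e (tq_f (tq_d (tq_h (tq_i (tq_d (tq_c (tq_b (tq_d (tq_e (tq_f (tq_d (tq_h (tq_i (tq_d (tq_c (tq_b (tq_d (tq_e (tq_f (tq_d (tq_h (tq_i (tq_d (tq_c (tq_b (tq_d (tq_e (tq_f (tq_d (tq_h (tq_i (tq_d (tq_c (tq_b (tq_d (tq_e (tq_f (tq_d (tq_h (tq_i (tq_d (tq_c (tq_b (tq_d (tq_e (tq_f (tq_d (tq_h (tq_i (tq_d (tq_c (tq_b (tq_d (tq_e (tq_f (tq_d (tq_h (tq_i (tq_d (tq_c (tq_b (tq_d (tq_e (tq_f (tq_d (tq_h (tq_i (tq_d (tq_c (tq_b (tq_d (tq_e (tq_f (tq_d (tq_h (tq_i (tq_d (tq_c (tq_b (tq_d (tq_e (tq_f (tq_d (tq_h (tq_i i)))))))))))))))))))))))))))))))))))))))))))))))))))))))))))))))))))))))))))))))))))))))))) i) 13019 277 = true := by decide +kernel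
theorem exr_0_48 : allFrom (fun i => Nat.ble 31671 i || Nat.beq (tq_d (tq_c (tq_b (tq_d (tq_e (tq_f (tq_d (tq_h (tq_i (tq_d (tq_c (tq_b (tq_d (tq_e (tq_f (tq_d (tq_h (tq_i (tq_d (tq_c (tq_b (tq_d (tq_e (tq_f (tq_d (tq_h (tq_i (tq_d (tq_c (tq_b (tq_d (tq_e (tq_f (tq_d (tq_h (tq_i (tq_d (tq_c (tq_b (tq_d (tq_e (tq_f (tq_d (tq_h (tq_i (tq_d (tq_c (tq_b (tq_d (tq_e (tq_f (tq_d (tq_h (tq_i (tq_d (tq_c (tq_b (tq_d (tq_e (tq_f (tq_d (tq_h (tq_i (tq_d (tq_c (tq_b (tq_d (tq_e (tq_f (tq_d (tq_h (tq_i (tq_d (tq_c (tq_b (tq_d (tq_e (tq_f (tq_d (tq_h (tq_i (tq_d (tq_c (tq_b (tq_d (tq_e (tq_f (tq_d (tq_h (tq_i i)))))))))))))))))))))))))))))))))))))))))))))))))))))))))))))))))))))))))))))))))))))))))) i) 13296 277 = true := by decide +kernel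
theorem exr_0_49 : allFrom (fun i => Nat.ble 31671 i || Nat.beq (tq_d (tq_c (tq_b (tq_d (tq_e (tq_f (tq_d (tq_h (tq_i (tq_d (tq_c (tq_b (tq_d (tq_e (tq_f (tq_d (tq_h (tq_i (tq_d (tq_c (tq_b (tq_d (tq_e (tq_f (tq_d (tq_h (tq_i (tq_d (tq_c (tq_b (tq_d (tq_e (tq_f (tq_d (tq_h (tq_i (tq_d (tq_c (tq_b (tq_d (tq_e (tq_f (tq_d (tq_h (tq_i (tq_d (tq_c (tq_b (tq_d (tq_e (tq_f (tq_d (tq_h (tq_i (tq_d (tq_c (tq_b (tq_d (tq_e (tq_f (tq_d (tq_h (tq_i (tq_d (tq_c (tq_b (tq_d (tq_e (tq_f (tq_d (tq_h (tq_i (tq_d (tq_c (tq_b (tq_d (tq_e (tq_f (tq_d (tq_h (tq_i (tq_d (tq_c (tq_b (tq_d (tq_e (tq_f (tq_d (tq_h (tq_i i)))))))))))))))))))))))))))))))))))))))))))))))))))))))))))))))))))))))))))))))))))))))))) i) 13573 277 = true := by decide +kernel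
theorem exr_0_50 : allFrom (fun i => Nat.ble 31671 i || Nat.beq (tq_d (tq_c (tq_b (tq_d (tq_e (tq_f (tq_d (tq_h (tq_i (tq_d (tq_c (tq_b (tq_d (tq_e (tq_f (tq_d (tq_h (tq_i (tq_d (tq_c (tq_b (tq_d (tq_e (tq_f (tq_d (tq_h (tq_i (tq_d (tq_c (tq_b (tq_d (tq_e (tq_f (tq_d (tq_h (tq_i (tq_d (tq_c (tq_b (tq_d (tq_e (tq_f (tq_d (tq_h (tq_i (tq_d (tq_c (tq_b (tq_d (tq_e (tq_f (tq_d (tq_h (tq_i (tq_d (tq_c (tq_b (tq_d (tq_e (tq_f (tq_d (tq_h (tq_i (tq_d (tq_c (tq_b (tq_d (tq_e (tq_f (tq_d (tq_h (tq_i (tq_d (tq_c (tq_b (tq_d (tq_e (tq_f (tq_d (tq_h (tq_i (tq_d (tq_c (tq_b (tq_d (tq_e (tq_f (tq_d (tq_h (tq_i i)))))))))))))))))))))))))))))))))))))))))))))))))))))))))))))))))))))))))))))))))))))))))) i) 13850 277 = true := by decide +kernel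
theorem exr_0_51 : allFrom (fun i => Nat.ble 31671 i || Nat.beq (tq_d (tq_c (tq_b (tq_d (tq_e (tq_f (tq_d (tq_h (tq_i (tq_d (tq_c (tq_b (tq_d (tq_e (tq_f (tq_d (tq_h (tq_i (tq_d (tq_c (tq_b (tq_d (tq_e (tq_f (tq_d (tq_h (tq_i (tq_d (tq_c (tq_b (tq_d (tq_e (tq_f (tq_d (tq_h (tq_i (tq_d (tq_c (tq_b (tq_d (tq_e (tq_f (tq_d (tq_h (tq_i (tq_d (tq_c (tq_b (tq_d (tq_e (tq_f (tq_d (tq_h (tq_i (tq_d (tq_c (tq_b (tq_d (tq_e (tq_f (tq_d (tq_h (tq_i (tq_d (tq_c (tq_b (tq_d (tq_e (tq_f (tq_d (tq_h (tq_i (tq_d (tq_c (tq_b (tq_d (tq_e (tq_f (tq_d (tq_h (tq_i (tq_d (tq_c (tq_b (tq_d (tq_e (tq_f (tq_d (tq_h (tq_i i)))))))))))))))))))))))))))))))))))))))))))))))))))))))))))))))))))))))))))))))))))))))))) i) 14127 277 = true := by decide +kernel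
theorem exr_0_52 : allFrom (fun i => Nat.ble 31671 i || Nat.beq (tq_d (tq_c (tq_b (tq_d (tq_e (tq_f (tq_d (tq_h (tq_i (tq_d (tq_c (tq_b (tq_d (tq_e (tq_f (tq_d (tq_h (tq_i (tq_d (tq_c (tq_b (tq_d (tq_e (tq_f (tq_d (tq_h (tq_i (tq_d (tq_c (tq_b (tq_d (tq_e (tq_f (tq_d (tq_h (tq_i (tq_d (tq_c (tq_b (tq_d (tq_e (tq_f (tq_d (tq_h (tq_i (tq_d (tq_c (tq_b (tq_d (tq_e (tq_f (tq_d (tq_h (tq_i (tq_d (tq_c (tq_b (tq_d (tq_e (tq_f (tq_d (tq_h (tq_i (tq_d (tq_c (tq_b (tq_d (tq_e (tq_f (tq_d (tq_h (tq_i (tq_d (tq_c (tq_b (tq_d (tq_e (tq_f (tq_d (tq_h (tq_i (tq_d (tq_c (tq_b (tq_d (tq_e (tq_f (tq_d (tq_h (tq_i i)))))))))))))))))))))))))))))))))))))))))))))))))))))))))))))))))))))))))))))))))))))))))) i) 14404 277 = true := by decide +kernel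
theorem exr_0_53 : allFrom (fun i => Nat.ble 31671 i || Nat.beq (tq_d (tq_c (tq_b (tq_d (tq_e (tq_f (tq_d (tq_h (tq_i (tq_d (tq_c (tq_b (tq_d (tq_e (tq_f (tq_d (tq_h (tq_i (tq_d (tq_c (tq_b (tq_d (tq_e (tq_f (tq_d (tq_h (tq_i (tq_d (tq_c (tq_b (tq_d (tq_e (tq_f (tq_d (tq_h (tq_i (tq_d (tq_c (tq_b (tq_d (tq_e (tq_f (tq_d (tq_h (tq_i (tq_d (tq_c (tq_b (tq_d (tq_e (tq_f (tq_d (tq_h (tq_i (tq_d (tq_c (tq_b (tq_d (tq_e (tq_f (tq_d (tq_h (tq_i (tq_d (tq_c (tq_b (tq_d (tq_e (tq_f (tq_d (tq_h (tq_i (tq_d (tq_c (tq_b (tq_d (tq_e (tq_f (tq_d (tq_h (tq_i (tq_d (tq_c (tq_b (tq_d (tq_e (tq_f (tq_d (tq_h (tq_i i)))))))))))))))))))))))))))))))))))))))))))))))))))))))))))))))))))))))))))))))))))))))))) i) 14681 277 = true := by decide +kernel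
theorem exr_0_54 : allFrom (fun i => Nat.ble 31671 i || Nat.beq (tq_d (tq_c (tq_b (tq_d (tq_e (tq_f (tq_d (tq_h (tq_i (tq_d (tq_c (tq_b (tq_d (tq_e (tq_f (tq_d (tq_h (tq_i (tq_d (tq_c (tq_b (tq_d (tq_e (tq_f (tq_d (tq_h (tq_i (tq_d (tq_c (tq_b (tq_d (tq_e (tq_f (tq_d (tq_h (tq_i (tq_d (tq_c (tq_b (tq_d (tq_e (tq_f (tq_d (tq_h (tq_i (tq_d (tq_c (tq_b (tq_d (tq_e (tq_f (tq_d (tq_h (tq_i (tq_d (tq_c (tq_b (tq_d (tq_e (tq_f (tq_d (tq_h (tq_i (tq_d (tq_c (tq_b (tq_d (tq_e (tq_f (tq_d (tq_h (tq_i (tq_d (tq_c (tq_b (tq_d (tq_e (tq_f (tq_d (tq_h (tq_i (tq_d (tq_c (tq_b (tq_d (tq_e (tq_f (tq_d (tq_h (tq_i i)))))))))))))))))))))))))))))))))))))))))))))))))))))))))))))))))))))))))))))))))))))))))) i) 14958 277 = true := by decide +kernel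
theorem exr_0_55 : allFrom (fun i => Nat.ble 31671 i || Nat.beq (tq_d (tq_c (tq_b (tq_d (tq_e (tq_f (tq_d (tq_h (tq_i (tq_d (tq_c (tq_b (tq_d (tq_e (tq_f (tq_d (tq_h (tq_i (tq_d (tq_c (tq_b (tq_d (tq_e (tq_f (tq_d (tq_h (tq_i (tq_d (tq_c (tq_b (tq_d (tq_e (tq_f (tq_d (tq_h (tq_i (tq_d (tq_c (tq_b (tq_d (tq_e (tq_f (tq_d (tq_h (tq_i (tq_d (tq_c (tq_b (tq_d (tq_e (tq_f (tq_d (tq_h (tq_i (tq_d (tq_c (tq_b (tq_d (tq_e (tq_f (tq_d (tq_h (tq_i (tq_d (tq_c (tq_b (tq_d (tq_e (tq_f (tq_d (tq_h (tq_i (tq_d (tq_c (tq_b (tq_d (tq_e (tq_f (tq_d (tq_h (tq_i (tq_d (tq_c (tq_b (tq_d (tq_e (tq_f (tq_d (tq_h (tq_i i)))))))))))))))))))))))))))))))))))))))))))))))))))))))))))))))))))))))))))))))))))))))))) i) 15235 277 = true := by decide +kernel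
theorem exr_0_56 : allFrom (fun i => Nat.ble 31671 i || Nat.beq (tq_d (tq_c (tq_b (tq_d (tq_e (tq_f (tq_d (tq_h (tq_i (tq_d (tq_c (tq_b (tq_d (tq_e (tq_f (tq_d (tq_h (tq_i (tq_d (tq_c (tq_b (tq_d (tq_e (tq_f (tq_d (tq_h (tq_i (tq_d (tq_c (tq_b (tq_d (tq_e (tq_f (tq_d (tq_h (tq_i (tq_d (tq_c (tq_b (tq_d (tq_e (tq_f (tq_d (tq_h (tq_i (tq_d (tq_c (tq_b (tq_d (tq_e (tq_f (tq_d (tq_h (tq_i (tq_d (tq_c (tq_b (tq_d (tq_e (tq_f (tq_d (tq_h (tq_i (tq_d (tq_c (tq_b (tq_d (tq_e (tq_f (tq_d (tq_h (tq_i (tq_d (tq_c (tq_b (tq_d (tq_e (tq_f (tq_d (tq_h (tq_i (tq_d (tq_c (tq_b (tq_d (tq_e (tq_f (tq_d (tq_h (tq_i i)))))))))))))))))))))))))))))))))))))))))))))))))))))))))))))))))))))))))))))))))))))))))) i) 15512 277 = true := by decide +kernel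
theorem exr_0_57 : allFrom (fun i => Nat.ble 31671 i || Nat.beq (tq_d (tq_c (tq_b (tq_d (tq_e (tq_f (tq_d (tq_h (tq_i (tq_d (tq_c (tq_b (tq_d (tq_e (tq_f (tq_d (tq_h (tq_i (tq_d (tq_c (tq_b (tq_d (tq_e (tq_f (tq_d (tq_h (tq_i (tq_d (tq_c (tq_b (tq_d (tq_e (tq_f (tq_d (tq_h (tq_i (tq_d (tq_c (tq_b (tq_d (tq_e (tq_f (tq_d (tq_h (tq_i (tq_d (tq_c (tq_b (tq_d (tq_e (tq_f (tq_d (tq_h (tq_i (tq_d (tq_c (tq_b (tq_d (tq_e (tq_f (tq_d (tq_h (tq_i (tq_d (tq_c (tq_b (tq_d (tq_e (tq_f (tq_d (tq_h (tq_i (tq_d (tq_c (tq_b (tq_d (tq_e (tq_f (tq_d (tq_h (tq_i (tq_d (tq_c (tq_b (tq_d (tq_e (tq_f (tq_d (tq_h (tq_i i)))))))))))))))))))))))))))))))))))))))))))))))))))))))))))))))))))))))))))))))))))))))))) i) 15789 277 = true := by decide +kernel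
theorem exr_0_58 : allFrom (fun i => Nat.ble 31671 i || Nat.beq (tq_d (tq_c (tq_b (tq_d (tq_e (tq_f (tq_d (tq_h (tq_i (tq_d (tq_c (tq_b (tq_d (tq_e (tq_f (tq_d (tq_h (tq_i (tq_d (tq_c (tq_b (tq_d (tq_e (tq_f (tq_d (tq_h (tq_i (tq_d (tq_c (tq_b (tq_d (tq_e (tq_f (tq_d (tq_h (tq_i (tq_d (tq_c (tq_b (tq_d (tq_e (tq_f (tq_d (tq_h (tq_i (tq_d (tq_c (tq_b (tq_d (tq_e (tq_f (tq_d (tq_h (tq_i (tq_d (tq_c (tq_b (tq_d (tq_e (tq_f (tq_d (tq_h (tq_i (tq_d (tq_c (tq_b (tq_d (tq_e (tq_f (tq_d (tq_h (tq_i (tq_d (tq_c (tq_b (tq_d (tq_e (tq_f (tq_d (tq_h (tq_i (tq_d (tq_c (tq_b (tq_d (tq_e (tq_f (tq_d (tq_h (tq_i i)))))))))))))))))))))))))))))))))))))))))))))))))))))))))))))))))))))))))))))))))))))))))) i) 16066 277 = true := by decide +kernel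
theorem exr_0_59 : allFrom (fun i => Nat.ble 31671 i || Nat.beq (tq_d (tq_c (tq_b (tq_d (tq_e (tq_f (tq_d (tq_h (tq_i (tq_d (tq_c (tq_b (tq_d (tq_e (tq_f (tq_d (tq_h (tq_i (tq_d (tq_c (tq_b (tq_d (tq_e (tq_f (tq_d (tq_h (tq_i (tq_d (tq_c (tq_b (tq_d (tq_e (tq_f (tq_d (tq_h (tq_i (tq_d (tq_c (tq_b (tq_d (tq_e (tq_f (tq_d (tq_h (tq_i (tq_d (tq_c (tq_b (tq_d (tq_e (tq_f (tq_d (tq_h (tq_i (tq_d (tq_c (tq_b (tq_d (tq_e (tq_f (tq_d (tq_h (tq_i (tq_d (tq_c (tq_b (tq_d (tq_e (tq_f (tq_d (tq_h (tq_i (tq_d (tq_c (tq_b (tq_d (tq_e (tq_f (tq_d (tq_h (tq_i (tq_d (tq_c (tq_b (tq_d (tq_e (tq_f (tq_d (tq_h (tq_i i)))))))))))))))))))))))))))))))))))))))))))))))))))))))))))))))))))))))))))))))))))))))))) i) 16343 277 = true := by decide +kernel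
theorem exr_0_60 : allFrom (fun i => Nat.ble 31671 i || Nat.beq (tq_d (tq_c (tq_b (tq_d (tq_e (tq_f (tq_d (tq_h (tq_i (tq_d (tq_c (tq_b (tq_d (tq_e (tq_f (tq_d (tq_h (tq_i (tq_d (tq_c (tq_b (tq_d (tq_e (tq_f (tq_d (tq_h (tq_i (tq_d (tq_c (tq_b (tq_d (tq_e (tq_f (tq_d (tq_h (tq_i (tq_d (tq_c (tq_b (tq_d (tq_e (tq_f (tq_d (tq_h (tq_i (tq_d (tq_c (tq_b (tq_d (tq_e (tq_f (tq_d (tq_h (tq_i (tq_d (tq_c (tq_b (tq_d (tq_e (tq_f (tq_d (tq_h (tq_i (tq_d (tq_c (tq_b (tq_d (tq_e (tq_f (tq_d (tq_h (tq_i (tq_d (tq_c (tq_b (tq_d (tq_e (tq_f (tq_d (tq_h (tq_i (tq_d (tq_c (tq_b (tq_d (tq_e (tq_f (tq_d (tq_h (tq_i i)))))))))))))))))))))))))))))))))))))))))))))))))))))))))))))))))))))))))))))))))))))))))) i) 16620 277 = true := by decide +kernel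
theorem exr_0_61 : allFrom (fun i => Nat.ble 31671 i || Nat.beq (tq_d (tq_c (tq_b (tq_d (tq_e (tq_f (tq_d (tq_h (tq_i (tq_d (tq_c (tq_b (tq_d (tq_e (tq_f (tq_d (tq_h (tq_i (tq_d (tq_c (tq_b (tq_d (tq_e (tq_f (tq_d (tq_h (tq_i (tq_d (tq_c (tq_b (tq_d (tq_e (tq_f (tq_d (tq_h (tq_i (tq_d (tq_c (tq_b (tq_d (tq_e (tq_f (tq_d (tq_h (tq_i (tq_d (tq_c (tq_b (tq_d (tq_e (tq_f (tq_d (tq_h (tq_i (tq_d (tq_c (tq_b (tq_d (tq_e (tq_f (tq_d (tq_h (tq_i (tq_d (tq_c (tq_b (tq_d (tq_e (tq_f (tq_d (tq_h (tq_i (tq_d (tq_c (tq_b (tq_d (tq_e (tq_f (tq_d (tq_h (tq_i (tq_d (tq_c (tq_b (tq_d (tq_e (tq_f (tq_d (tq_h (tq_i i)))))))))))))))))))))))))))))))))))))))))))))))))))))))))))))))))))))))))))))))))))))))))) i) 16897 277 = true := by decide +kernel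
theorem exr_0_62 : allFrom (fun i => Nat.ble 31671 i || Nat.beq (tq_d (tq_c (tq_b (tq_d (tq_e (tq_f (tq_d (tq_h (tq_i (tq_d (tq_c (tq_b (tq_d (tq_e (tq_f (tq_d (tq_h (tq_i (tq_d (tq_c (tq_b (tq_d (tq_e (tq_f (tq_d (tq_h (tq_i (tq_d (tq_c (tq_b (tq_d (tq_e (tq_f (tq_d (tq_h (tq_i (tq_d (tq_c (tq_b (tq_d (tq_e (tq_f (tq_d (tq_h (tq_i (tq_d (tq_c (tq_b (tq_d (tq_e (tq_f (tq_d (tq_h (tq_i (tq_d (tq_c (tq_b (tq_d (tq_e (tq_f (tq_d (tq_h (tq_i (tq_d (tq_c (tq_b (tq_d (tq_e (tq_f (tq_d (tq_h (tq_i (tq_d (tq_c (tq_b (tq_d (tq_e (tq_f (tq_d (tq_h (tq_i (tq_d (tq_c (tq_b (tq_d (tq_e (tq_f (tq_d (tq_h (tq_i i)))))))))))))))))))))))))))))))))))))))))))))))))))))))))))))))))))))))))))))))))))))))))) i) 17174 277 = true := by decide +kernel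
theorem exr_0_63 : allFrom (fun i => Nat.ble 31671 i || Nat.beq (tq_d (tq_c (tq_b (tq_d (tq_e (tq_f (tq_d (tq_h (tq_i (tq_d (tq_c (tq_b (tq_d (tq_e (tq_f (tq_d (tq_h (tq_i (tq_d (tq_c (tq_b (tq_d (tq_e (tq_f (tq_d (tq_h (tq_i (tq_d (tq_c (tq_b (tq_d (tq_e (tq_f (tq_d (tq_h (tq_i (tq_d (tq_c (tq_b (tq_d (tq_e (tq_f (tq_d (tq_h (tq_i (tq_d (tq_c (tq_b (tq_d (tq_e (tq_f (tq_d (tq_h (tq_i (tq_d (tq_c (tq_b (tq_d (tq_e (tq_f (tq_d (tq_h (tq_i (tq_d (tq_c (tq_b (tq_d (tq_e (tq_f (tq_d (tq_h (tq_i (tq_d (tq_c (tq_b (tq_d (tq_e (tq_f (tq_d (tq_h (tq_i (tq_d (tq_c (tq_b (tq_d (tq_e (tq_f (tq_d (tq_h (tq_i i)))))))))))))))))))))))))))))))))))))))))))))))))))))))))))))))))))))))))))))))))))))))))) i) 17451 277 = true := by decide +kernel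
theorem exr_0_64 : allFrom (fun i => Nat.ble 31671 i || Nat.beq (tq_d (tq_c (tq_b (tq_d (tq_e (tq_f (tq_d (tq_h (tq_i (tq_d (tq_c (tq_b (tq_d (tq_e (tq_f (tq_d (tq_h (tq_i (tq_d (tq_c (tq_b (tq_d (tq_e (tq_f (tq_d (tq_h (tq_i (tq_d (tq_c (tq_b (tq_d (tq_e (tq_f (tq_d (tq_h (tq_i (tq_d (tq_c (tq_b (tq_d (tq_e (tq_f (tq_d (tq_h (tq_i (tq_d (tq_c (tq_b (tq_d (tq_e (tq_f (tq_d (tq_h (tq_i (tq_d (tq_c (tq_b (tq_d (tq_e (tq_f (tq_d (tq_h (tq_i (tq_d (tq_c (tq_b (tq_d (tq_e (tq_f (tq_d (tq_h (tq_i (tq_d (tq_c (tq_b (tq_d (tq_e (tq_f (tq_d (tq_h (tq_i (tq_d (tq_c (tq_b (tq_d (tq_e (tq_f (tq_d (tq_h (tq_i i)))))))))))))))))))))))))))))))))))))))))))))))))))))))))))))))))))))))))))))))))))))))))) i) 17728 277 = true := by decide +kernel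
theorem exr_0_65 : allFrom (fun i => Nat.ble 31671 i || Nat.beq (tq_d (tq_c (tq_b (tq_d (tq_e (tq_f (tq_d (tq_h (tq_i (tq_d (tq_c (tq_b (tq_d (tq_e (tq_f (tq_d (tq_h (tq_i (tq_d (tq_c (tq_b (tq_d (tq_e (tq_f (tq_d (tq_h (tq_i (tq_d (tq_c (tq_b (tq_d (tq_e (tq_f (tq_d (tq_h (tq_i (tq_d (tq_c (tq_b (tq_d (tq_e (tq_f (tq_d (tq_h (tq_i (tq_d (tq_c (tq_b (tq_d (tq_e (tq_f (tq_d (tq_h (tq_i (tq_d (tq_c (tq_b (tq_d (tq_e (tq_f (tq_d (tq_h (tq_i (tq_d (tq_c (tq_b (tq_d (tq_e (tq_f (tq_d (tq_h (tq_i (tq_d (tq_c (tq_b (tq_d (tq_e (tq_f (tq_d (tq_h (tq_i (tq_d (tq_c (tq_b (tq_d (tq_e (tq_f (tq_d (tq_h (tq_i i)))))))))))))))))))))))))))))))))))))))))))))))))))))))))))))))))))))))))))))))))))))))))) i) 18005 277 = true := by decide +kernel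
theorem exr_0_66 : allFrom (fun i => Nat.ble 31671 i || Nat.beq (tq_d (tq_c (tq_b (tq_d (tq_e (tq_f (tq_d (tq_h (tq_i (tq_d (tq_c (tq_b (tq_d (tq_e (tq_f (tq_d (tq_h (tq_i (tq_d (tq_c (tq_b (tq_d (tq_e (tq_f (tq_d (tq_h (tq_i (tq_d (tq_c (tq_b (tq_d (tq_e (tq_f (tq_d (tq_h (tq_i (tq_d (tq_c (tq_b (tq_d (tq_e (tq_f (tq_d (tq_h (tq_i (tq_d (tq_c (tq_b (tq_d (tq_e (tq_f (tq_d (tq_h (tq_i (tq_d (tq_c (tq_b (tq_d (tq_e (tq_f (tq_d (tq_h (tq_i (tq_d (tq_c (tq_b (tq_d (tq_e (tq_f (tq_d (tq_h (tq_i (tq_d (tq_c (tq_b (tq_d (tq_e (tq_f (tq_d (tq_h (tq_i (tq_d (tq_c (tq_b (tq_d (tq_e (tq_f (tq_d (tq_h (tq_i i)))))))))))))))))))))))))))))))))))))))))))))))))))))))))))))))))))))))))))))))))))))))))) i) 18282 277 = true := by decide +kernel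
theorem exr_0_67 : allFrom (fun i => Nat.ble 31671 i || Nat.beq (tq_d (tq_c (tq_b (tq_d (tq_e (tq_f (tq_d (tq_h (tq_i (tq_d (tq_c (tq_b (tq_d (tq_e (tq_f (tq_d (tq_h (tq_i (tq_d (tq_c (tq_b (tq_d (tq_e (tq_f (tq_d (tq_h (tq_i (tq_d (tq_c (tq_b (tq_d (tq_e (tq_f (tq_d (tq_h (tq_i (tq_d (tq_c (tq_b (tq_d (tq_e (tq_f (tq_d (tq_h (tq_i (tq_d (tq_c (tq_b (tq_d (tq_e (tq_f (tq_d (tq_h (tq_i (tq_d (tq_c (tq_b (tq_d (tq_e (tq_f (tq_d (tq_h (tq_i (tq_d (tq_c (tq_b (tq_d (tq_e (tq_f (tq_d (tq_h (tq_i (tq_d (tq_c (tq_b (tq_d (tq_e (tq_f (tq_d (tq_h (tq_i (tq_d (tq_c (tq_b (tq_d (tq_e (tq_f (tq_d (tq_h (tq_i i)))))))))))))))))))))))))))))))))))))))))))))))))))))))))))))))))))))))))))))))))))))))))) i) 18559 277 = true := by decide +kernel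
theorem exr_0_68 : allFrom (fun i => Nat.ble 31671 i || Nat.beq (tq_d (tq_c (tq_b (tq_d (tq_e (tq_f (tq_d (tq_h (tq_i (tq_d (tq_c (tq_b (tq_d (tq_e (tq_f (tq_d (tq_h (tq_i (tq_d (tq_c (tq_b (tq_d (tq_e (tq_f (tq_d (tq_h (tq_i (tq_d (tq_c (tq_b (tq_d (tq_e (tq_f (tq_d (tq_h (tq_i (tq_d (tq_c (tq_b (tq_d (tq_e (tq_f (tq_d (tq_h (tq_i (tq_d (tq_c (tq_b (tq_d (tq_e (tq_f (tq_d (tq_h (tq_i (tq_d (tq_c (tq_b (tq_d (tq_e (tq_f (tq_d (tq_h (tq_i (tq_d (tq_c (tq_b (tq_d (tq_e (tq_f (tq_d (tq_h (tq_i (tq_d (tq_c (tq_b (tq_d (tq_e (tq_f (tq_d (tq_h (tq_i (tq_d (tq_c (tq_b (tq_d (tq_e (tq_f (tq_d (tq_h (tq_i i)))))))))))))))))))))))))))))))))))))))))))))))))))))))))))))))))))))))))))))))))))))))))) i) 18836 277 = true := by decide +kernel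
theorem exr_0_69 : allFrom (fun i => Nat.ble 31671 i || Nat.beq (tq_d (tq_c (tq_b (tq_d (tq_e (tq_f (tq_d (tq_h (tq_i (tq_d (tq_c (tq_b (tq_d (tq_e (tq_f (tq_d (tq_h (tq_i (tq_d (tq_c (tq_b (tq_d (tq_e (tq_f (tq_d (tq_h (tq_i (tq_d (tq_c (tq_b (tq_d (tq_e (tq_f (tq_d (tq_h (tq_i (tq_d (tq_c (tq_b (tq_d (tq_e (tq_f (tq_d (tq_h (tq_i (tq_d (tq_c (tq_b (tq_d (tq_e (tq_f (tq_d (tq_h (tq_i (tq_d (tq_c (tq_b (tq_d (tq_e (tq_f (tq_d (tq_h (tq_i (tq_d (tq_c (tq_b (tq_d (tq_e (tq_f (tq_d (tq_h (tq_i (tq_d (tq_c (tq_b (tq_d (tq_e (tq_f (tq_d (tq_h (tq_i (tq_d (tq_c (tq_b (tq_d (tq_e (tq_f (tq_d (tq_h (tq_i i)))))))))))))))))))))))))))))))))))))))))))))))))))))))))))))))))))))))))))))))))))))))))) i) 19113 277 = true := by decide +kernel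
theorem exr_0_70 : allFrom (fun i => Nat.ble 31671 i || Nat.beq (tq_d (tq_c (tq_b (tq_d (tq_e (tq_f (tq_d (tq_h (tq_i (tq_d (tq_c (tq_b (tq_d (tq_e (tq_f (tq_d (tq_h (tq_i (tq_d (tq_c (tq_b (tq_d (tq_e (tq_f (tq_d (tq_h (tq_i (tq_d (tq_c (tq_b (tq_d (tq_e (tq_f (tq_d (tq_h (tq_i (tq_d (tq_c (tq_b (tq_d (tq_e (tq_f (tq_d (tq_h (tq_i (tq_d (tq_c (tq_b (tq_d (tq_e (tq_f (tq_d (tq_h (tq_i (tq_d (tq_c (tq_b (tq_d (tq_e (tq_f (tq_d (tq_h (tq_i (tq_d (tq_c (tq_b (tq_d (tq_e (tq_f (tq_d (tq_h (tq_i (tq_d (tq_c (tq_b (tq_d (tq_e (tq_f (tq_d (tq_h (tq_i (tq_d (tq_c (tq_b (tq_d (tq_e (tq_f (tq_d (tq_h (tq_i i)))))))))))))))))))))))))))))))))))))))))))))))))))))))))))))))))))))))))))))))))))))))))) i) 19390 277 = true := by decide +kernel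
theorem exr_0_71 : allFrom (fun i => Nat.ble 31671 i || Nat.beq (tq_d (tq_c (tq_b (tq_d (tq_e (tq_f (tq_d (tq_h (tq_i (tq_d (tq_c (tq_b (tq_d (tq_e (tq_f (tq_d (tq_h (tq_i (tq_d (tq_c (tq_b (tq_d (tq_e (tq_f (tq_d (tq_h (tq_i (tq_d (tq_c (tq_b (tq_d (tq_e (tq_f (tq_d (tq_h (tq_i (tq_d (tq_c (tq_b (tq_d (tq_e (tq_f (tq_d (tq_h (tq_i (tq_d (tq_c (tq_b (tq_d (tq_e (tq_f (tq_d (tq_h (tq_i (tq_d (tq_c (tq_b (tq_d (tq_e (tq_f (tq_d (tq_h (tq_i (tq_d (tq_c (tq_b (tq_d (tq_e (tq_f (tq_d (tq_h (tq_i (tq_d (tq_c (tq_b (tq_d (tq_e (tq_f (tq_d (tq_h (tq_i (tq_d (tq_c (tq_b (tq_d (tq_e (tq_f (tq_d (tq_h (tq_i i)))))))))))))))))))))))))))))))))))))))))))))))))))))))))))))))))))))))))))))))))))))))))) i) 19667 277 = true := by decide +kernel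
theorem exr_0_72 : allFrom (fun i => Nat.ble 31671 i || Nat.beq (tq_d (tq_c (tq_b (tq_d (tq_e (tq_f (tq_d (tq_h (tq_i (tq_d (tq_c (tq_b (tq_d (tq_e (tq_f (tq_d (tq_h (tq_i (tq_d (tq_c (tq_b (tq_d (tq_e (tq_f (tq_d (tq_h (tq_i (tq_d (tq_c (tq_b (tq_d (tq_e (tq_f (tq_d (tq_h (tq_i (tq_d (tq_c (tq_b (tq_d (tq_e (tq_f (tq_d (tq_h (tq_i (tq_d (tq_c (tq_b (tq_d (tq_e (tq_f (tq_d (tq_h (tq_i (tq_d (tq_c (tq_b (tq_d (tq_e (tq_f (tq_d (tq_h (tq_i (tq_d (tq_c (tq_b (tq_d (tq_e (tq_f (tq_d (tq_h (tq_i (tq_d (tq_c (tq_b (tq_d (tq_e (tq_f (tq_d (tq_h (tq_i (tq_d (tq_c (tq_b (tq_d (tq_e (tq_f (tq_d (tq_h (tq_i i)))))))))))))))))))))))))))))))))))))))))))))))))))))))))))))))))))))))))))))))))))))))))) i) 19944 277 = true := by decide +kernel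
theorem exr_0_73 : allFrom (fun i => Nat.ble 31671 i || Nat.beq (tq_d (tq_c (tq_b (tq_d (tq_e (tq_f (tq_d (tq_h (tq_i (tq_d (tq_c (tq_b (tq_d (tq_e (tq_f (tq_d (tq_h (tq_i (tq_d (tq_c (tq_b (tq_d (tq_e (tq_f (tq_d (tq_h (tq_i (tq_d (tq_c (tq_b (tq_d (tq_e (tq_f (tq_d (tq_h (tq_i (tq_d (tq_c (tq_b (tq_d (tq_e (tq_f (tq_d (tq_h (tq_i (tq_d (tq_c (tq_b (tq_d (tq_e (tq_f (tq_d (tq_h (tq_i (tq_d (tq_c (tq_b (tq_d (tq_e (tq_f (tq_d (tq_h (tq_i (tq_d (tq_c (tq_b (tq_d (tq_e (tq_f (tq_d (tq_h (tq_i (tq_d (tq_c (tq_b (tq_d (tq_e (tq_f (tq_d (tq_h (tq_i (tq_d (tq_c (tq_b (tq_d (tq_e (tq_f (tq_d (tq_h (tq_i i)))))))))))))))))))))))))))))))))))))))))))))))))))))))))))))))))))))))))))))))))))))))))) i) 20221 277 = true := by decide +kernel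
theorem exr_0_74 : allFrom (fun i => Nat.ble 31671 i || Nat.beq (tq_d (tq_c (tq_b (tq_d (tq_e (tq_f (tq_d (tq_h (tq_i (tq_d (tq_c (tq_b (tq_d (tq_e (tq_f (tq_d (tq_h (tq_i (tq_d (tq_c (tq_b (tq_d (tq_e (tq_f (tq_d (tq_h (tq_i (tq_d (tq_c (tq_b (tq_d (tq_e (tq_f (tq_d (tq_h (tq_i (tq_d (tq_c (tq_b (tq_d (tq_e (tq_f (tq_d (tq_h (tq_i (tq_d (tq_c (tq_b (tq_d (tq_e (tq_f (tq_d (tq_h (tq_i (tq_d (tq_c (tq_b (tq_d (tq_e (tq_f (tq_d (tq_h (tq_i (tq_d (tq_c (tq_b (tq_d (tq_e (tq_f (tq_d (tq_h (tq_i (tq_d (tq_c (tq_b (tq_d (tq_e (tq_f (tq_d (tq_h (tq_i (tq_d (tq_c (tq_b (tq_d (tq_e (tq_f (tq_d (tq_h (tq_i i)))))))))))))))))))))))))))))))))))))))))))))))))))))))))))))))))))))))))))))))))))))))))) i) 20498 277 = true := by decide +kernel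
theorem exr_0_75 : allFrom (fun i => Nat.ble 31671 i || Nat.beq (tq_d (tq_c (tq_b (tq_d (tq_e (tq_f (tq_d (tq_h (tq_i (tq_d (tq_c (tq_b (tq_d (tq_e (tq_f (tq_d (tq_h (tq_i (tq_d (tq_c (tq_b (tq_d (tq_e (tq_f (tq_d (tq_h (tq_i (tq_d (tq_c (tq_b (tq_d (tq_e (tq_f (tq_d (tq_h (tq_i (tq_d (tq_c (tq_b (tq_d (tq_e (tq_f (tq_d (tq_h (tq_i (tq_d (tq_c (tq_b (tq_d (tq_e (tq_f (tq_d (tq_h (tq_i (tq_d (tq_c (tq_b (tq_d (tq_e (tq_f (tq_d (tq_h (tq_i (tq_d (tq_c (tq_b (tq_d (tq_e (tq_f (tq_d (tq_h (tq_i (tq_d (tq_c (tq_b (tq_d (tq_e (tq_f (tq_d (tq_h (tq_i (tq_d (tq_c (tq_b (tq_d (tq_e (tq_f (tq_d (tq_h (tq_i i)))))))))))))))))))))))))))))))))))))))))))))))))))))))))))))))))))))))))))))))))))))))))) i) 20775 277 = true := by decide +kernel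
theorem exr_0_76 : allFrom (fun i => Nat.ble 31671 i || Nat.beq (tq_d (tq_c (tq_b (tq_d (tq_e (tq_f (tq_d (tq_h (tq_i (tq_d (tq_c (tq_b (tq_d (tq_e (tq_f (tq_d (tq_h (tq_i (tq_d (tq_c (tq_b (tq_d (tq_e (tq_f (tq_d (tq_h (tq_i (tq_d (tq_c (tq_b (tq_d (tq_e (tq_f (tq_d (tq_h (tq_i (tq_d (tq_c (tq_b (tq_d (tq_e (tq_f (tq_d (tq_h (tq_i (tq_d (tq_c (tq_b (tq_d (tq_e (tq_f (tq_d (tq_h (tq_i (tq_d (tq_c (tq_b (tq_d (tq_e (tq_f (tq_d (tq_h (tq_i (tq_d (tq_c (tq_b (tq_d (tq_e (tq_f (tq_d (tq_h (tq_i (tq_d (tq_c (tq_b (tq_d (tq_e (tq_f (tq_d (tq_h (tq_i (tq_d (tq_c (tq_b (tq_d (tq_e (tq_f (tq_d (tq_h (tq_i i)))))))))))))))))))))))))))))))))))))))))))))))))))))))))))))))))))))))))))))))))))))))))) i) 21052 277 = true := by decide +kernel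
theorem exr_0_77 : allFrom (fun i => Nat.ble 31671 i || Nat.beq (tq_d (tq_c (tq_b (tq_d (tq_e (tq_f (tq_d (tq_h (tq_i (tq_d (tq_c (tq_b (tq_d (tq_e (tq_f (tq_d (tq_h (tq_i (tq_d (tq_c (tq_b (tq_d (tq_e (tq_f (tq_d (tq_h (tq_i (tq_d (tq_c (tq_b (tq_d (tq_e (tq_f (tq_d (tq_h (tq_i (tq_d (tq_c (tq_b (tq_d (tq_e (tq_f (tq_d (tq_h (tq_i (tq_d (tq_c (tq_b (tq_d (tq_e (tq_f (tq_d (tq_h (tq_i (tq_d (tq_c (tq_b (tq_d (tq_e (tq_f (tq_d (tq_h (tq_i (tq_d (tq_c (tq_b (tq_d (tq_e (tq_f (tq_d (tq_h (tq_i (tq_d (tq_c (tq_b (tq_d (tq_e (tq_f (tq_d (tq_h (tq_i (tq_d (tq_c (tq_b (tq_d (tq_e (tq_f (tq_d (tq_h (tq_i i)))))))))))))))))))))))))))))))))))))))))))))))))))))))))))))))))))))))))))))))))))))))))) i) 21329 277 = true := by decide +kernel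
theorem exr_0_78 : allFrom (fun i => Nat.ble 31671 i || Nat.beq (tq_d (tq_c (tq_b (tq_d (tq_e (tq_f (tq_d (tq_h (tq_i (tq_d (tq_c (tq_b (tq_d (tq_e (tq_f (tq_d (tq_h (tq_i (tq_d (tq_c (tq_b (tq_d (tq_e (tq_f (tq_d (tq_h (tq_i (tq_d (tq_c (tq_b (tq_d (tq_e (tq_f (tq_d (tq_h (tq_i (tq_d (tq_c (tq_b (tq_d (tq_e (tq_f (tq_d (tq_h (tq_i (tq_d (tq_c (tq_b (tq_d (tq_e (tq_f (tq_d (tq_h (tq_i (tq_d (tq_c (tq_b (tq_d (tq_e (tq_f (tq_d (tq_h (tq_i (tq_d (tq_c (tq_b (tq_d (tq_e (tq_f (tq_d (tq_h (tq_i (tq_d (tq_c (tq_b (tq_d (tq_e (tq_f (tq_d (tq_h (tq_i (tq_d (tq_c (tq_b (tq_d (tq_e (tq_f (tq_d (tq_h (tq_i i)))))))))))))))))))))))))))))))))))))))))))))))))))))))))))))))))))))))))))))))))))))))))) i) 21606 277 = true := by decide +kernel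
theorem exr_0_79 : allFrom (fun i => Nat.ble 31671 i || Nat.beq (tq_d (tq_c (tq_b (tq_d (tq_e (tq_f (tq_d (tq_h (tq_i (tq_d (tq_c (tq_b (tq_d (tq_e (tq_f (tq_d (tq_h (tq_i (tq_d (tq_c (tq_b (tq_d (tq_e (tq_f (tq_d (tq_h (tq_i (tq_d (tq_c (tq_b (tq_d (tq_e (tq_f (tq_d (tq_h (tq_i (tq_d (tq_c (tq_b (tq_d (tq_e (tq_f (tq_d (tq_h (tq_i (tq_d (tq_c (tq_b (tq_d (tq_e (tq_f (tq_d (tq_h (tq_i (tq_d (tq_c (tq_b (tq_d (tq_e (tq_f (tq_d (tq_h (tq_i (tq_d (tq_c (tq_b (tq_d (tq_e (tq_f (tq_d (tq_h (tq_i (tq_d (tq_c (tq_b (tq_d (tq_e (tq_f (tq_d (tq_h (tq_i (tq_d (tq_c (tq_b (tq_d (tq_e (tq_f (tq_d (tq_h (tq_i i)))))))))))))))))))))))))))))))))))))))))))))))))))))))))))))))))))))))))))))))))))))))))) i) 21883 277 = true := by decide +kernel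
theorem exr_0_80 : allFrom (fun i => Nat.ble 31671 i || Nat.beq (tq_d (tq_c (tq_b (tq_d (tq_e (tq_f (tq_d (tq_h (tq_i (tq_d (tq_c (tq_b (tq_d (tq_e (tq_f (tq_d (tq_h (tq_i (tq_d (tq_c (tq_b (tq_d (tq_e (tq_f (tq_d (tq_h (tq_i (tq_d (tq_c (tq_b (tq_d (tq_e (tq_f (tq_d (tq_h (tq_i (tq_d (tq_c (tq_b (tq_d (tq_e (tq_f (tq_d (tq_h (tq_i (tq_d (tq_c (tq_b (tq_d (tq_e (tq_f (tq_d (tq_h (tq_i (tq_d (tq_c (tq_b (tq_d (tq_e (tq_f (tq_d (tq_h (tq_i (tq_d (tq_c (tq_b (tq_d (tq_e (tq_f (tq_d (tq_h (tq_i (tq_d (tq_c (tq_b (tq_d (tq_e (tq_f (tq_d (tq_h (tq_i (tq_d (tq_c (tq_b (tq_d (tq_e (tq_f (tq_d (tq_h (tq_i i)))))))))))))))))))))))))))))))))))))))))))))))))))))))))))))))))))))))))))))))))))))))))) i) 22160 277 = true := by decide +kernel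
theorem exr_0_81 : allFrom (fun i => Nat.ble 31671 i || Nat.beq (tq_d (tq_c (tq_b (tq_d (tq_e (tq_f (tq_d (tq_h (tq_i (tq_d (tq_c (tq_b (tq_d (tq_e (tq_f (tq_d (tq_h (tq_i (tq_d (tq_c (tq_b (tq_d (tq_e (tq_f (tq_d (tq_h (tq_i (tq_d (tq_c (tq_b (tq_d (tq_e (tq_f (tq_d (tq_h (tq_i (tq_d (tq_c (tq_b (tq_d (tq_e (tq_f (tq_d (tq_h (tq_i (tq_d (tq_c (tq_b (tq_d (tq_e (tq_f (tq_d (tq_h (tq_i (tq_d (tq_c (tq_b (tq_d (tq_e (tq_f (tq_d (tq_h (tq_i (tq_d (tq_c (tq_b (tq_d (tq_e (tq_f (tq_d (tq_h (tq_i (tq_d (tq_c (tq_b (tq_d (tq_e (tq_f (tq_d (tq_h (tq_i (tq_d (tq_c (tq_b (tq_d (tq_e (tq_f (tq_d (tq_h (tq_i i)))))))))))))))))))))))))))))))))))))))))))))))))))))))))))))))))))))))))))))))))))))))))) i) 22437 277 = true := by decide +kernel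
theorem exr_0_82 : allFrom (fun i => Nat.ble 31671 i || Nat.beq (tq_d (tq_c (tq_b (tq_d (tq_e (tq_f (tq_d (tq_h (tq_i (tq_d (tq_c (tq_b (tq_d (tq_e (tq_f (tq_d (tq_h (tq_i (tq_d (tq_c (tq_b (tq_d (tq_e (tq_f (tq_d (tq_h (tq_i (tq_d (tq_c (tq_b (tq_d (tq_e (tq_f (tq_d (tq_h (tq_i (tq_d (tq_c (tq_b (tq_d (tq_e (tq_f (tq_d (tq_h (tq_i (tq_d (tq_c (tq_b (tq_d (tq_e (tq_f (tq_d (tq_h (tq_i (tq_d (tq_c (tq_b (tq_d (tq_e (tq_f (tq_d (tq_h (tq_i (tq_d (tq_c (tq_b (tq_d (tq_e (tq_f (tq_d (tq_h (tq_i (tq_d (tq_c (tq_b (tq_d (tq_e (tq_f (tq_d (tq_h (tq_i (tq_d (tq_c (tq_b (tq_d (tq_e (tq_f (tq_d (tq_h (tq_i i)))))))))))))))))))))))))))))))))))))))))))))))))))))))))))))))))))))))))))))))))))))))))) i) 22714 277 = true := by decide +kernel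
theorem exr_0_83 : allFrom (fun i => Nat.ble 31671 i || Nat.beq (tq_d (tq_c (tq_b (tq_d (tq_e (tq_f (tq_d (tq_h (tq_i (tq_d (tq_c (tq_b (tq_d (tq_e (tq_f (tq_d (tq_h (tq_i (tq_d (tq_c (tq_b (tq_d (tq_e (tq_f (tq_d (tq_h (tq_i (tq_d (tq_c (tq_b (tq_d (tq_e (tq_f (tq_d (tq_h (tq_i (tq_d (tq_c (tq_b (tq_d (tq_e (tq_f (tq_d (tq_h (tq_i (tq_d (tq_c (tq_b (tq_d (tq_e (tq_f (tq_d (tq_h (tq_i (tq_d (tq_c (tq_b (tq_d (tq_e (tq_f (tq_d (tq_h (tq_i (tq_d (tq_c (tq_b (tq_d (tq_e (tq_f (tq_d (tq_h (tq_i (tq_d (tq_c (tq_b (tq_d (tq_e (tq_f (tq_d (tq_h (tq_i (tq_d (tq_c (tq_b (tq_d (tq_e (tq_f (tq_d (tq_h (tq_i i)))))))))))))))))))))))))))))))))))))))))))))))))))))))))))))))))))))))))))))))))))))))))) i) 22991 277 = true := by decide +kernel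
theorem exr_0_84 : allFrom (fun i => Nat.ble 31671 i || Nat.beq (tq_d (tq_c (tq_b (tq_d (tq_e (tq_f (tq_d (tq_h (tq_i (tq_d (tq_c (tq_b (tq_d (tq_e (tq_f (tq_d (tq_h (tq_i (tq_d (tq_c (tq_b (tq_d (tq_e (tq_f (tq_d (tq_h (tq_i (tq_d (tq_c (tq_b (tq_d (tq_e (tq_f (tq_d (tq_h (tq_i (tq_d (tq_c (tq_b (tq_d (tq_e (tq_f (tq_d (tq_h (tq_i (tq_d (tq_c (tq_b (tq_d (tq_e (tq_f (tq_d (tq_h (tq_i (tq_d (tq_c (tq_b (tq_d (tq_e (tq_f (tq_d (tq_h (tq_i (tq_d (tq_c (tq_b (tq_d (tq_e (tq_f (tq_d (tq_h (tq_i (tq_d (tq_c (tq_b (tq_d (tq_e (tq_f (tq_d (tq_h (tq_i (tq_d (tq_c (tq_b (tq_d (tq_e (tq_f (tq_d (tq_h (tq_i i)))))))))))))))))))))))))))))))))))))))))))))))))))))))))))))))))))))))))))))))))))))))))) i) 23268 277 = true := by decide +kernel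
theorem exr_0_85 : allFrom (fun i => Nat.ble 31671 i || Nat.beq (tq_d (tq_c (tq_b (tq_d (tq_e (tq_f (tq_d (tq_h (tq_i (tq_d (tq_c (tq_b (tq_d (tq_e (tq_f (tq_d (tq_h (tq_i (tq_d (tq_c (tq_b (tq_d (tq_e (tq_f (tq_d (tq_h (tq_i (tq_d (tq_c (tq_b (tq_d (tq_e (tq_f (tq_d (tq_h (tq_i (tq_d (tq_c (tq_b (tq_d (tq_e (tq_f (tq_d (tq_h (tq_i (tq_d (tq_c (tq_b (tq_d (tq_e (tq_f (tq_d (tq_h (tq_i (tq_d (tq_c (tq_b (tq_d (tq_e (tq_f (tq_d (tq_h (tq_i (tq_d (tq_c (tq_b (tq_d (tq_e (tq_f (tq_d (tq_h (tq_i (tq_d (tq_c (tq_b (tq_d (tq_e (tq_f (tq_d (tq_h (tq_i (tq_d (tq_c (tq_b (tq_d (tq_e (tq_f (tq_d (tq_h (tq_i i)))))))))))))))))))))))))))))))))))))))))))))))))))))))))))))))))))))))))))))))))))))))))) i) 23545 277 = true := by decide +kernel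
theorem exr_0_86 : allFrom (fun i => Nat.ble 31671 i || Nat.beq (tq_d (tq_c (tq_b (tq_d (tq_e (tq_f (tq_d (tq_h (tq_i (tq_d (tq_c (tq_b (tq_d (tq_e (tq_f (tq_d (tq_h (tq_i (tq_d (tq_c (tq_b (tq_d (tq_e (tq_f (tq_d (tq_h (tq_i (tq_d (tq_c (tq_b (tq_d (tq_e (tq_f (tq_d (tq_h (tq_i (tq_d (tq_c (tq_b (tq_d (tq_e (tq_f (tq_d (tq_h (tq_i (tq_d (tq_c (tq_b (tq_d (tq_e (tq_f (tq_d (tq_h (tq_i (tq_d (tq_c (tq_b (tq_d (tq_e (tq_f (tq_d (tq_h (tq_i (tq_d (tq_c (tq_b (tq_d (tq_e (tq_f (tq_d (tq_h (tq_i (tq_d (tq_c (tq_b (tq_d (tq_e (tq_f (tq_d (tq_h (tq_i (tq_d (tq_c (tq_b (tq_d (tq_e (tq_f (tq_d (tq_h (tq_i i)))))))))))))))))))))))))))))))))))))))))))))))))))))))))))))))))))))))))))))))))))))))))) i) 23822 277 = true := by decide +kernel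
theorem exr_0_87 : allFrom (fun i => Nat.ble 31671 i || Nat.beq (tq_d (tq_c (tq_b (tq_d (tq_e (tq_f (tq_d (tq_h (tq_i (tq_d (tq_c (tq_b (tq_d (tq_e (tq_f (tq_d (tq_h (tq_i (tq_d (tq_c (tq_b (tq_d (tq_e (tq_f (tq_d (tq_h (tq_i (tq_d (tq_c (tq_b (tq_d (tq_e (tq_f (tq_d (tq_h (tq_i (tq_d (tq_c (tq_b (tq_d (tq_e (tq_f (tq_d (tq_h (tq_i (tq_d (tq_c (tq_b (tq_d (tq_e (tq_f (tq_d (tq_h (tq_i (tq_d (tq_c (tq_b (tq_d (tq_e (tq_f (tq_d (tq_h (tq_i (tq_d (tq_c (tq_b (tq_d (tq_e (tq_f (tq_d (tq_h (tq_i (tq_d (tq_c (tq_b (tq_d (tq_e (tq_f (tq_d (tq_h (tq_i (tq_d (tq_c (tq_b (tq_d (tq_e (tq_f (tq_d (tq_h (tq_i i)))))))))))))))))))))))))))))))))))))))))))))))))))))))))))))))))))))))))))))))))))))))))) i) 24099 277 = true := by decide +kernel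
theorem exr_0_88 : allFrom (fun i => Nat.ble 31671 i || Nat.beq (tq_d (tq_c (tq_b (tq_d (tq_e (tq_f (tq_d (tq_h (tq_i (tq_d (tq_c (tq_b (tq_d (tq_e (tq_f (tq_d (tq_h (tq_i (tq_d (tq_c (tq_b (tq_d (tq_e (tq_f (tq_d (tq_h (tq_i (tq_d (tq_c (tq_b (tq_d (tq_e (tq_f (tq_d (tq_h (tq_i (tq_d (tq_c (tq_b (tq_d (tq_e (tq_f (tq_d (tq_h (tq_i (tq_d (tq_c (tq_b (tq_d (tq_e (tq_f (tq_d (tq_h (tq_i (tq_d (tq_c (tq_b (tq_d (tq_e (tq_f (tq_d (tq_h (tq_i (tq_d (tq_c (tq_b (tq_d (tq_e (tq_f (tq_d (tq_h (tq_i (tq_d (tq_c (tq_b (tq_d (tq_e (tq_f (tq_d (tq_h (tq_i (tq_d (tq_c (tq_b (tq_d (tq_e (tq_f (tq_d (tq_h (tq_i i)))))))))))))))))))))))))))))))))))))))))))))))))))))))))))))))))))))))))))))))))))))))))) i) 24376 277 = true := by decide +kernel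
theorem exr_0_89 : allFrom (fun i => Nat.ble 31671 i || Nat.beq (tq_d (tq_c (tq_b (tq_d (tq_e (tq_f (tq_d (tq_h (tq_i (tq_d (tq_c (tq_b (tq_d (tq_e (tq_f (tq_d (tq_h (tq_i (tq_d (tq_c (tq_b (tq_d (tq_e (tq_f (tq_d (tq_h (tq_i (tq_d (tq_c (tq_b (tq_d (tq_e (tq_f (tq_d (tq_h (tq_i (tq_d (tq_c (tq_b (tq_d (tq_e (tq_f (tq_d (tq_h (tq_i (tq_d (tq_c (tq_b (tq_d (tq_e (tq_f (tq_d (tq_h (tq_i (tq_d (tq_c (tq_b (tq_d (tq_e (tq_f (tq_d (tq_h (tq_i (tq_d (tq_c (tq_b (tq_d (tq_e (tq_f (tq_d (tq_h (tq_i (tq_d (tq_c (tq_b (tq_d (tq_e (tq_f (tq_d (tq_h (tq_i (tq_d (tq_c (tq_b (tq_d (tq_e (tq_f (tq_d (tq_h (tq_i i)))))))))))))))))))))))))))))))))))))))))))))))))))))))))))))))))))))))))))))))))))))))))) i) 24653 277 = true := by decide +kernel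
theorem exr_0_90 : allFrom (fun i => Nat.ble 31671 i || Nat.beq (tq_d (tq_c (tq_b (tq_d (tq_e (tq_f (tq_d (tq_h (tq_i (tq_d (tq_c (tq_b (tq_d (tq_e (tq_f (tq_d (tq_h (tq_i (tq_d (tq_c (tq_b (tq_d (tq_e (tq_f (tq_d (tq_h (tq_i (tq_d (tq_c (tq_b (tq_d (tq_e (tq_f (tq_d (tq_h (tq_i (tq_d (tq_c (tq_b (tq_d (tq_e (tq_f (tq_d (tq_h (tq_i (tq_d (tq_c (tq_b (tq_d (tq_e (tq_f (tq_d (tq_h (tq_i (tq_d (tq_c (tq_b (tq_d (tq_e (tq_f (tq_d (tq_h (tq_i (tq_d (tq_c (tq_b (tq_d (tq_e (tq_f (tq_d (tq_h (tq_i (tq_d (tq_c (tq_b (tq_d (tq_e (tq_f (tq_d (tq_h (tq_i (tq_d (tq_c (tq_b (tq_d (tq_e (tq_f (tq_d (tq_h (tq_i i)))))))))))))))))))))))))))))))))))))))))))))))))))))))))))))))))))))))))))))))))))))))))) i) 24930 277 = true := by decide +kernel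
theorem exr_0_91 : allFrom (fun i => Nat.ble 31671 i || Nat.beq (tq_d (tq_c (tq_b (tq_d (tq_e (tq_f (tq_d (tq_h (tq_i (tq_d (tq_c (tq_b (tq_d (tq_e (tq_f (tq_d (tq_h (tq_i (tq_d (tq_c (tq_b (tq_d (tq_e (tq_f (tq_d (tq_h (tq_i (tq_d (tq_c (tq_b (tq_d (tq_e (tq_f (tq_d (tq_h (tq_i (tq_d (tq_c (tq_b (tq_d (tq_e (tq_f (tq_d (tq_h (tq_i (tq_d (tq_c (tq_b (tq_d (tq_e (tq_f (tq_d (tq_h (tq_i (tq_d (tq_c (tq_b (tq_d (tq_e (tq_f (tq_d (tq_h (tq_i (tq_d (tq_c (tq_b (tq_d (tq_e (tq_f (tq_d (tq_h (tq_i (tq_d (tq_c (tq_b (tq_d (tq_e (tq_f (tq_d (tq_h (tq_i (tq_d (tq_c (tq_b (tq_d (tq_e (tq_f (tq_d (tq_h (tq_i i)))))))))))))))))))))))))))))))))))))))))))))))))))))))))))))))))))))))))))))))))))))))))) i) 25207 277 = true := by decide +kernel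
theorem exr_0_92 : allFrom (fun i => Nat.ble 31671 i || Nat.beq (tq_d (tq_c (tq_b (tq_d (tq_e (tq_f (tq_d (tq_h (tq_i (tq_d (tq_c (tq_b (tq_d (tq_e (tq_f (tq_d (tq_h (tq_i (tq_d (tq_c (tq_b (tq_d (tq_e (tq_f (tq_d (tq_h (tq_i (tq_d (tq_c (tq_b (tq_d (tq_e (tq_f (tq_d (tq_h (tq_i (tq_d (tq_c (tq_b (tq_d (tq_e (tq_f (tq_d (tq_h (tq_i (tq_d (tq_c (tq_b (tq_d (tq_e (tq_f (tq_d (tq_h (tq_i (tq_d (tq_c (tq_b (tq_d (tq_e (tq_f (tq_d (tq_h (tq_i (tq_d (tq_c (tq_b (tq_d (tq_e (tq_f (tq_d (tq_h (tq_i (tq_d (tq_c (tq_b (tq_d (tq_e (tq_f (tq_d (tq_h (tq_i (tq_d (tq_c (tq_b (tq_d (tq_e (tq_f (tq_d (tq_h (tq_i i)))))))))))))))))))))))))))))))))))))))))))))))))))))))))))))))))))))))))))))))))))))))))) i) 25484 277 = true := by decide +kernel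
theorem exr_0_93 : allFrom (fun i => Nat.ble 31671 i || Nat.beq (tq_d (tq_c (tq_b (tq_d (tq_e (tq_f (tq_d (tq_h (tq_i (tq_d (tq_c (tq_b (tq_d (tq_e (tq_f (tq_d (tq_h (tq_i (tq_d (tq_c (tq_b (tq_d (tq_e (tq_f (tq_d (tq_h (tq_i (tq_d (tq_c (tq_b (tq_d (tq_e (tq_f (tq_d (tq_h (tq_i (tq_d (tq_c (tq_b (tq_d (tq_e (tq_f (tq_d (tq_h (tq_i (tq_d (tq_c (tq_b (tq_d (tq_e (tq_f (tq_d (tq_h (tq_i (tq_d (tq_c (tq_b (tq_d (tq_e (tq_f (tq_d (tq_h (tq_i (tq_d (tq_c (tq_b (tq_d (tq_e (tq_f (tq_d (tq_h (tq_i (tq_d (tq_c (tq_b (tq_d (tq_e (tq_f (tq_d (tq_h (tq_i (tq_d (tq_c (tq_b (tq_d (tq_e (tq_f (tq_d (tq_h (tq_i i)))))))))))))))))))))))))))))))))))))))))))))))))))))))))))))))))))))))))))))))))))))))))) i) 25761 277 = true := by decide +kernel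
theorem exr_0_94 : allFrom (fun i => Nat.ble 31671 i || Nat.beq (tq_d (tq_c (tq_b (tq_d (tq_e (tq_f (tq_d (tq_h (tq_i (tq_d (tq_c (tq_b (tq_d (tq_e (tq_f (tq_d (tq_h (tq_i (tq_d (tq_c (tq_b (tq_d (tq_e (tq_f (tq_d (tq_h (tq_i (tq_d (tq_c (tq_b (tq_d (tq_e (tq_f (tq_d (tq_h (tq_i (tq_d (tq_c (tq_b (tq_d (tq_e (tq_f (tq_d (tq_h (tq_i (tq_d (tq_c (tq_b (tq_d (tq_e (tq_f (tq_d (tq_h (tq_i (tq_d (tq_c (tq_b (tq_d (tq_e (tq_f (tq_d (tq_h (tq_i (tq_d (tq_c (tq_b (tq_d (tq_e (tq_f (tq_d (tq_h (tq_i (tq_d (tq_c (tq_b (tq_d (tq_e (tq_f (tq_d (tq_h (tq_i (tq_d (tq_c (tq_b (tq_d (tq_e (tq_f (tq_d (tq_h (tq_i i)))))))))))))))))))))))))))))))))))))))))))))))))))))))))))))))))))))))))))))))))))))))))) i) 26038 277 = true := by decide +kernel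
theorem exr_0_95 : allFrom (fun i => Nat.ble 31671 i || Nat.beq (tq_d (tq_c (tq_b (tq_d (tq_e (tq_f (tq_d (tq_h (tq_i (tq_d (tq_c (tq_b (tq_d (tq_e (tq_f (tq_d (tq_h (tq_i (tq_d (tq_c (tq_b (tq_d (tq_e (tq_f (tq_d (tq_h (tq_i (tq_d (tq_c (tq_b (tq_d (tq_e (tq_f (tq_d (tq_h (tq_i (tq_d (tq_c (tq_b (tq_d (tq_e (tq_f (tq_d (tq_h (tq_i (tq_d (tq_c (tq_b (tq_d (tq_e (tq_f (tq_d (tq_h (tq_i (tq_d (tq_c (tq_b (tq_d (tq_e (tq_f (tq_d (tq_h (tq_i (tq_d (tq_c (tq_b (tq_d (tq_e (tq_f (tq_d (tq_h (tq_i (tq_d (tq_c (tq_b (tq_d (tq_e (tq_f (tq_d (tq_h (tq_i (tq_d (tq_c (tq_b (tq_d (tq_e (tq_f (tq_d (tq_h (tq_i i)))))))))))))))))))))))))))))))))))))))))))))))))))))))))))))))))))))))))))))))))))))))))) i) 26315 277 = true := by decide +kernel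
theorem exr_0_96 : allFrom (fun i => Nat.ble 31671 i || Nat.beq (tq_d (tq_c (tq_b (tq_d (tq_e (tq_f (tq_d (tq_h (tq_i (tq_d (tq_c (tq_b (tq_d (tq_e (tq_f (tq_d (tq_h (tq_i (tq_d (tq_c (tq_b (tq_d (tq_e (tq_f (tq_d (tq_h (tq_i (tq_d (tq_c (tq_b (tq_d (tq_e (tq_f (tq_d (tq_h (tq_i (tq_d (tq_c (tq_b (tq_d (tq_e (tq_f (tq_d (tq_h (tq_i (tq_d (tq_c (tq_b (tq_d (tq_e (tq_f (tq_d (tq_h (tq_i (tq_d (tq_c (tq_b (tq_d (tq_e (tq_f (tq_d (tq_h (tq_i (tq_d (tq_c (tq_b (tq_d (tq_e (tq_f (tq_d (tq_h (tq_i (tq_d (tq_c (tq_b (tq_d (tq_e (tq_f (tq_d (tq_h (tq_i (tq_d (tq_c (tq_b (tq_d (tq_e (tq_f (tq_d (tq_h (tq_i i)))))))))))))))))))))))))))))))))))))))))))))))))))))))))))))))))))))))))))))))))))))))))) i) 26592 277 = true := by decide +kernel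
theorem exr_0_97 : allFrom (fun i => Nat.ble 31671 i || Nat.beq (tq_d (tq_c (tq_b (tq_d (tq_e (tq_f (tq_d (tq_h (tq_i (tq_d (tq_c (tq_b (tq_d (tq_e (tq_f (tq_d (tq_h (tq_i (tq_d (tq_c (tq_b (tq_d (tq_e (tq_f (tq_d (tq_h (tq_i (tq_d (tq_c (tq_b (tq_d (tq_e (tq_f (tq_d (tq_h (tq_i (tq_d (tq_c (tq_b (tq_d (tq_e (tq_f (tq_d (tq_h (tq_i (tq_d (tq_c (tq_b (tq_d (tq_e (tq_f (tq_d (tq_h (tq_i (tq_d (tq_c (tq_b (tq_d (tq_e (tq_f (tq_d (tq_h (tq_i (tq_d (tq_c (tq_b (tq_d (tq_e (tq_f (tq_d (tq_h (tq_i (tq_d (tq_c (tq_b (tq_d (tq_e (tq_f (tq_d (tq_h (tq_i (tq_d (tq_c (tq_b (tq_d (tq_e (tq_f (tq_d (tq_h (tq_i i)))))))))))))))))))))))))))))))))))))))))))))))))))))))))))))))))))))))))))))))))))))))))) i) 26869 277 = true := by decide +kernel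
theorem exr_0_98 : allFrom (fun i => Nat.ble 31671 i || Nat.beq (tq_d (tq_c (tq_b (tq_d (tq_e (tq_f (tq_d (tq_h (tq_i (tq_d (tq_c (tq_b (tq_d (tq_e (tq_f (tq_d (tq_h (tq_i (tq_d (tq_c (tq_b (tq_d (tq_e (tq_f (tq_d (tq_h (tq_i (tq_d (tq_c (tq_b (tq_d (tq_e (tq_f (tq_d (tq_h (tq_i (tq_d (tq_c (tq_b (tq_d (tq_e (tq_f (tq_d (tq_h (tq_i (tq_d (tq_c (tq_b (tq_d (tq_e (tq_f (tq_d (tq_h (tq_i (tq_d (tq_c (tq_b (tq_d (tq_e (tq_f (tq_d (tq_h (tq_i (tq_d (tq_c (tq_b (tq_d (tq_e (tq_f (tq_d (tq_h (tq_i (tq_d (tq_c (tq_b (tq_d (tq_e (tq_f (tq_d (tq_h (tq_i (tq_d (tq_c (tq_b (tq_d (tq_e (tq_f (tq_d (tq_h (tq_i i)))))))))))))))))))))))))))))))))))))))))))))))))))))))))))))))))))))))))))))))))))))))))) i) 27146 277 = true := by decide +kernel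
theorem exr_0_99 : allFrom (fun i => Nat.ble 31671 i || Nat.beq (tq_d (tq_c (tq_b (tq_d (tq_e (tq_f (tq_d (tq_h (tq_i (tq_d (tq_c (tq_b (tq_d (tq_e (tq_f (tq_d (tq_h (tq_i (tq_d (tq_c (tq_b (tq_d (tq_e (tq_f (tq_d (tq_h (tq_i (tq_d (tq_c (tq_b (tq_d (tq_e (tq_f (tq_d (tq_h (tq_i (tq_d (tq_c (tq_b (tq_d (tq_e (tq_f (tq_d (tq_h (tq_i (tq_d (tq_c (tq_b (tq_d (tq_e (tq_f (tq_d (tq_h (tq_i (tq_d (tq_c (tq_b (tq_d (tq_e (tq_f (tq_d (tq_h (tq_i (tq_d (tq_c (tq_b (tq_d (tq_e (tq_f (tq_d (tq_h (tq_i (tq_d (tq_c (tq_b (tq_d (tq_e (tq_f (tq_d (tq_h (tq_i (tq_d (tq_c (tq_b (tq_d (tq_e (tq_f (tq_d (tq_h (tq_i i)))))))))))))))))))))))))))))))))))))))))))))))))))))))))))))))))))))))))))))))))))))))))) i) 27423 277 = true := by decide +kernel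
theorem exr_0_100 : allFrom (fun i => Nat.ble 31671 i || Nat.beq (tq_d (tq_c (tq_b (tq_d (tq_e (tq_f (tq_d (tq_h (tq_i (tq_d (tq_c (tq_b (tq_d (tq_e (tq_f (tq_d (tq_h (tq_i (tq_d (tq_c (tq_b (tq_d (tq_e (tq_f (tq_d (tq_h (tq_i (tq_d (tq_c (tq_b (tq_d (tq_e (tq_f (tq_d (tq_h (tq_i (tq_d (tq_c (tq_b (tq_d (tq_e (tq_f (tq_d (tq_h (tq_i (tq_d (tq_c (tq_b (tq_d (tq_e (tq_f (tq_d (tq_h (tq_i (tq_d (tq_c (tq_b (tq_d (tq_e (tq_f (tq_d (tq_h (tq_i (tq_d (tq_c (tq_b (tq_d (tq_e (tq_f (tq_d (tq_h (tq_i (tq_d (tq_c (tq_b (tq_d (tq_e (tq_f (tq_d (tq_h (tq_i (tq_d (tq_c (tq_b (tq_d (tq_e (tq_f (tq_d (tq_h (tq_i i)))))))))))))))))))))))))))))))))))))))))))))))))))))))))))))))))))))))))))))))))))))))))) i) 27700 277 = true := by decide +kernel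
theorem exr_0_101 : allFrom (fun i => Nat.ble 31671 i || Nat.beq (tq_d (tq_c (tq_b (tq_d (tq_e (tq_f (tq_d (tq_h (tq_i (tq_d (tq_c (tq_b (tq_d (tq_e (tq_f (tq_d (tq_h (tq_i (tq_d (tq_c (tq_b (tq_d (tq_e (tq_f (tq_d (tq_h (tq_i (tq_d (tq_c (tq_b (tq_d (tq_e (tq_f (tq_d (tq_h (tq_i (tq_d (tq_c (tq_b (tq_d (tq_e (tq_f (tq_d (tq_h (tq_i (tq_d (tq_c (tq_b (tq_d (tq_e (tq_f (tq_d (tq_h (tq_i (tq_d (tq_c (tq_b (tq_d (tq_e (tq_f (tq_d (tq_h (tq_i (tq_d (tq_c (tq_b (tq_d (tq_e (tq_f (tq_d (tq_h (tq_i (tq_d (tq_c (tq_b (tq_d (tq_e (tq_f (tq_d (tq_h (tq_i (tq_d (tq_c (tq_b (tq_d (tq_e (tq_f (tq_d (tq_h (tq_i i)))))))))))))))))))))))))))))))))))))))))))))))))))))))))))))))))))))))))))))))))))))))))) i) 27977 277 = true := by decide +kernel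
theorem exr_0_102 : allFrom (fun i => Nat.ble 31671 i || Nat.beq (tq_d (tq_c (tq_b (tq_d (tq_e (tq_f (tq_d (tq_h (tq_i (tq_d (tq_c (tq_b (tq_d (tq_e (tq_f (tq_d (tq_h (tq_i (tq_d (tq_c (tq_b (tq_d (tq_e (tq_f (tq_d (tq_h (tq_i (tq_d (tq_c (tq_b (tq_d (tq_e (tq_f (tq_d (tq_h (tq_i (tq_d (tq_c (tq_b (tq_d (tq_e (tq_f (tq_d (tq_h (tq_i (tq_d (tq_c (tq_b (tq_d (tq_e (tq_f (tq_d (tq_h (tq_i (tq_d (tq_c (tq_b (tq_d (tq_e (tq_f (tq_d (tq_h (tq_i (tq_d (tq_c (tq_b (tq_d (tq_e (tq_f (tq_d (tq_h (tq_i (tq_d (tq_c (tq_b (tq_d (tq_e (tq_f (tq_d (tq_h (tq_i (tq_d (tq_c (tq_b (tq_d (tq_e (tq_f (tq_d (tq_h (tq_i i)))))))))))))))))))))))))))))))))))))))))))))))))))))))))))))))))))))))))))))))))))))))))) i) 28254 277 = true := by decide +kernel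
theorem exr_0_103 : allFrom (fun i => Nat.ble 31671 i || Nat.beq (tq_d (tq_c (tq_b (tq_d (tq_e (tq_f (tq_d (tq_h (tq_i (tq_d (tq_c (tq_b (tq_d (tq_e (tq_f (tq_d (tq_h (tq_i (tq_d (tq_c (tq_b (tq_d (tq_e (tq_f (tq_d (tq_h (tq_i (tq_d (tq_c (tq_b (tq_d (tq_e (tq_f (tq_d (tq_h (tq_i (tq_d (tq_c (tq_b (tq_d (tq_e (tq_f (tq_d (tq_h (tq_i (tq_d (tq_c (tq_b (tq_d (tq_e (tq_f (tq_d (tq_h (tq_i (tq_d (tq_c (tq_b (tq_d (tq_e (tq_f (tq_d (tq_h (tq_i (tq_d (tq_c (tq_b (tq_d (tq_e (tq_f (tq_d (tq_h (tq_i (tq_d (tq_c (tq_b (tq_d (tq_e (tq_f (tq_d (tq_h (tq_i (tq_d (tq_c (tq_b (tq_d (tq_e (tq_f (tq_d (tq_h (tq_i i)))))))))))))))))))))))))))))))))))))))))))))))))))))))))))))))))))))))))))))))))))))))))) i) 28531 277 = true := by decide +kernel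
theorem exr_0_104 : allFrom (fun i => Nat.ble 31671 i || Nat.beq (tq_d (tq_c (tq_b (tq_d (tq_e (tq_f (tq_d (tq_h (tq_i (tq_d (tq_c (tq_b (tq_d (tq_e (tq_f (tq_d (tq_h (tq_i (tq_d (tq_c (tq_b (tq_d (tq_e (tq_f (tq_d (tq_h (tq_i (tq_d (tq_c (tq_b (tq_d (tq_e (tq_f (tq_d (tq_h (tq_i (tq_d (tq_c (tq_b (tq_d (tq_e (tq_f (tq_d (tq_h (tq_i (tq_d (tq_c (tq_b (tq_d (tq_e (tq_f (tq_d (tq_h (tq_i (tq_d (tq_c (tq_b (tq_d (tq_e (tq_f (tq_d (tq_h (tq_i (tq_d (tq_c (tq_b (tq_d (tq_e (tq_f (tq_d (tq_h (tq_i (tq_d (tq_c (tq_b (tq_d (tq_e (tq_f (tq_d (tq_h (tq_i (tq_d (tq_c (tq_b (tq_d (tq_e (tq_f (tq_d (tq_h (tq_i i)))))))))))))))))))))))))))))))))))))))))))))))))))))))))))))))))))))))))))))))))))))))))) i) 28808 277 = true := by decide +kernel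
theorem exr_0_105 : allFrom (fun i => Nat.ble 31671 i || Nat.beq (tq_d (tq_c (tq_b (tq_d (tq_e (tq_f (tq_d (tq_h (tq_i (tq_d (tq_c (tq_b (tq_d (tq_e (tq_f (tq_d (tq_h (tq_i (tq_d (tq_c (tq_b (tq_d (tq_e (tq_f (tq_d (tq_h (tq_i (tq_d (tq_c (tq_b (tq_d (tq_e (tq_f (tq_d (tq_h (tq_i (tq_d (tq_c (tq_b (tq_d (tq_e (tq_f (tq_d (tq_h (tq_i (tq_d (tq_c (tq_b (tq_d (tq_e (tq_f (tq_d (tq_h (tq_i (tq_d (tq_c (tq_b (tq_d (tq_e (tq_f (tq_d (tq_h (tq_i (tq_d (tq_c (tq_b (tq_d (tq_e (tq_f (tq_d (tq_h (tq_i (tq_d (tq_c (tq_b (tq_d (tq_e (tq_f (tq_d (tq_h (tq_i (tq_d (tq_c (tq_b (tq_d (tq_e (tq_f (tq_d (tq_h (tq_i i)))))))))))))))))))))))))))))))))))))))))))))))))))))))))))))))))))))))))))))))))))))))))) i) 29085 277 = true := by decide +kernel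
theorem exr_0_106 : allFrom (fun i => Nat.ble 31671 i || Nat.beq (tq_d (tq_c (tq_b (tq_d (tq_e (tq_f (tq_d (tq_h (tq_i (tq_d (tq_c (tq_b (tq_d (tq_e (tq_f (tq_d (tq_h (tq_i (tq_d (tq_c (tq_b (tq_d (tq_e (tq_f (tq_d (tq_h (tq_i (tq_d (tq_c (tq_b (tq_d (tq_e (tq_f (tq_d (tq_h (tq_i (tq_d (tq_c (tq_b (tq_d (tq_e (tq_f (tq_d (tq_h (tq_i (tq_d (tq_c (tq_b (tq_d (tq_e (tq_f (tq_d (tq_h (tq_i (tq_d (tq_c (tq_b (tq_d (tq_e (tq_f (tq_d (tq_h (tq_i (tq_d (tq_c (tq_b (tq_d (tq_e (tq_f (tq_d (tq_h (tq_i (tq_d (tq_c (tq_b (tq_d (tq_e (tq_f (tq_d (tq_h (tq_i (tq_d (tq_c (tq_b (tq_d (tq_e (tq_f (tq_d (tq_h (tq_i i)))))))))))))))))))))))))))))))))))))))))))))))))))))))))))))))))))))))))))))))))))))))))) i) 29362 277 = true := by decide +kernel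
theorem exr_0_107 : allFrom (fun i => Nat.ble 31671 i || Nat.beq (tq_d (tq_c (tq_b (tq_d (tq_e (tq_f (tq_d (tq_h (tq_i (tq_d (tq_c (tq_b (tq_d (tq_e (tq_f (tq_d (tq_h (tq_i (tq_d (tq_c (tq_b (tq_d (tq_e (tq_f (tq_d (tq_h (tq_i (tq_d (tq_c (tq_b (tq_d (tq_e (tq_f (tq_d (tq_h (tq_i (tq_d (tq_c (tq_b (tq_d (tq_e (tq_f (tq_d (tq_h (tq_i (tq_d (tq_c (tq_b (tq_d (tq_e (tq_f (tq_d (tq_h (tq_i (tq_d (tq_c (tq_b (tq_d (tq_e (tq_f (tq_d (tq_h (tq_i (tq_d (tq_c (tq_b (tq_d (tq_e (tq_f (tq_d (tq_h (tq_i (tq_d (tq_c (tq_b (tq_d (tq_e (tq_f (tq_d (tq_h (tq_i (tq_d (tq_c (tq_b (tq_d (tq_e (tq_f (tq_d (tq_h (tq_i i)))))))))))))))))))))))))))))))))))))))))))))))))))))))))))))))))))))))))))))))))))))))))) i) 29639 277 = true := by decide +kernel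
theorem exr_0_108 : allFrom (fun i => Nat.ble 31671 i || Nat.beq (tq_d (tq_c (tq_b (tq_d (tq_e (tq_f (tq_d (tq_h (tq_i (tq_d (tq_c (tq_b (tq_d (tq_e (tq_f (tq_d (tq_h (tq_i (tq_d (tq_c (tq_b (tq_d (tq_e (tq_f (tq_d (tq_h (tq_i (tq_d (tq_c (tq_b (tq_d (tq_e (tq_f (tq_d (tq_h (tq_i (tq_d (tq_c (tq_b (tq_d (tq_e (tq_f (tq_d (tq_h (tq_i (tq_d (tq_c (tq_b (tq_d (tq_e (tq_f (tq_d (tq_h (tq_i (tq_d (tq_c (tq_b (tq_d (tq_e (tq_f (tq_d (tq_h (tq_i (tq_d (tq_c (tq_b (tq_d (tq_e (tq_f (tq_d (tq_h (tq_i (tq_d (tq_c (tq_b (tq_d (tq_e (tq_f (tq_d (tq_h (tq_i (tq_d (tq_c (tq_b (tq_d (tq_e (tq_f (tq_d (tq_h (tq_i i)))))))))))))))))))))))))))))))))))))))))))))))))))))))))))))))))))))))))))))))))))))))))) i) 29916 277 = true := by decide +kernel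
theorem exr_0_109 : allFrom (fun i => Nat.ble 31671 i || Nat.beq (tq_d (tq_c (tq_b (tq_d (tq_e (tq_f (tq_d (tq_h (tq_i (tq_d (tq_c (tq_b (tq_d (tq_e (tq_f (tq_d (tq_h (tq_i (tq_d (tq_c (tq_b (tq_d (tq_e (tq_f (tq_d (tq_h (tq_i (tq_d (tq_c (tq_b (tq_d (tq_e (tq_f (tq_d (tq_h (tq_i (tq_d (tq_c (tq_b (tq_d (tq_e (tq_f (tq_d (tq_h (tq_i (tq_d (tq_c (tq_b (tq_d (tq_e (tq_f (tq_d (tq_h (tq_i (tq_d (tq_c (tq_b (tq_d (tq_e (tq_f (tq_d (tq_h (tq_i (tq_d (tq_c (tq_b (tq_d (tq_e (tq_f (tq_d (tq_h (tq_i (tq_d (tq_c (tq_b (tq_d (tq_e (tq_f (tq_d (tq_h (tq_i (tq_d (tq_c (tq_b (tq_d (tq_e (tq_f (tq_d (tq_h (tq_i i)))))))))))))))))))))))))))))))))))))))))))))))))))))))))))))))))))))))))))))))))))))))))) i) 30193 277 = true := by decide +kernel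
theorem exr_0_110 : allFrom (fun i => Nat.ble 31671 i || Nat.beq (tq_d (tq_c (tq_b (tq_d (tq_e (tq_f (tq_d (tq_h (tq_i (tq_d (tq_c (tq_b (tq_d (tq_e (tq_f (tq_d (tq_h (tq_i (tq_d (tq_c (tq_b (tq_d (tq_e (tq_f (tq_d (tq_h (tq_i (tq_d (tq_c (tq_b (tq_d (tq_e (tq_f (tq_d (tq_h (tq_i (tq_d (tq_c (tq_b (tq_d (tq_e (tq_f (tq_d (tq_h (tq_i (tq_d (tq_c (tq_b (tq_d (tq_e (tq_f (tq_d (tq_h (tq_i (tq_d (tq_c (tq_b (tq_d (tq_e (tq_f (tq_d (tq_h (tq_i (tq_d (tq_c (tq_b (tq_d (tq_e (tq_f (tq_d (tq_h (tq_i (tq_d (tq_c (tq_b (tq_d (tq_e (tq_f (tq_d (tq_h (tq_i (tq_d (tq_c (tq_b (tq_d (tq_e (tq_f (tq_d (tq_h (tq_i i)))))))))))))))))))))))))))))))))))))))))))))))))))))))))))))))))))))))))))))))))))))))))) i) 30470 277 = true := by decide +kernel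
theorem exr_0_111 : allFrom (fun i => Nat.ble 31671 i || Nat.beq (tq_d (tq_c (tq_b (tq_d (tq_e (tq_f (tq_d (tq_h (tq_i (tq_d (tq_c (tq_b (tq_d (tq_e (tq_f (tq_d (tq_h (tq_i (tq_d (tq_c (tq_b (tq_d (tq_e (tq_f (tq_d (tq_h (tq_i (tq_d (tq_c (tq_b (tq_d (tq_e (tq_f (tq_d (tq_h (tq_i (tq_d (tq_c (tq_b (tq_d (tq_e (tq_f (tq_d (tq_h (tq_i (tq_d (tq_c (tq_b (tq_d (tq_e (tq_f (tq_d (tq_h (tq_i (tq_d (tq_c (tq_b (tq_d (tq_e (tq_f (tq_d (tq_h (tq_i (tq_d (tq_c (tq_b (tq_d (tq_e (tq_f (tq_d (tq_h (tq_i (tq_d (tq_c (tq_b (tq_d (tq_e (tq_f (tq_d (tq_h (tq_i (tq_d (tq_c (tq_b (tq_d (tq_e (tq_f (tq_d (tq_h (tq_i i)))))))))))))))))))))))))))))))))))))))))))))))))))))))))))))))))))))))))))))))))))))))))) i) 30747 277 = true := by decide +kernel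
theorem exr_0_112 : allFrom (fun i => Nat.ble 31671 i || Nat.beq (tq_d (tq_c (tq_b (tq_d (tq_e (tq_f (tq_d (tq_h (tq_i (tq_d (tq_c (tq_b (tq_d (tq_e (tq_f (tq_d (tq_h (tq_i (tq_d (tq_c (tq_b (tq_d (tq_e (tq_f (tq_d (tq_h (tq_i (tq_d (tq_c (tq_b (tq_d (tq_e (tq_f (tq_d (tq_h (tq_i (tq_d (tq_c (tq_b (tq_d (tq_e (tq_f (tq_d (tq_h (tq_i (tq_d (tq_c (tq_b (tq_d (tq_e (tq_f (tq_d (tq_h (tq_i (tq_d (tq_c (tq_b (tq_d (tq_e (tq_f (tq_d (tq_h (tq_i (tq_d (tq_c (tq_b (tq_d (tq_e (tq_f (tq_d (tq_h (tq_i (tq_d (tq_c (tq_b (tq_d (tq_e (tq_f (tq_d (tq_h (tq_i (tq_d (tq_c (tq_b (tq_d (tq_e (tq_f (tq_d (tq_h (tq_i i)))))))))))))))))))))))))))))))))))))))))))))))))))))))))))))))))))))))))))))))))))))))))) i) 31024 277 = true := by decide +kernel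
theorem exr_0_113 : allFrom (fun i => Nat.ble 31671 i || Nat.beq (tq_d (tq_c (tq_b (tq_d (tq_e (tq_f (tq_d (tq_h (tq_i (tq_d (tq_c (tq_b (tq_d (tq_e (tq_f (tq_d (tq_h (tq_i (tq_d (tq_c (tq_b (tq_d (tq_e (tq_f (tq_d (tq_h (tq_i (tq_d (tq_c (tq_b (tq_d (tq_e (tq_f (tq_d (tq_h (tq_i (tq_d (tq_c (tq_b (tq_d (tq_e (tq_f (tq_d (tq_h (tq_i (tq_d (tq_c (tq_b (tq_d (tq_e (tq_f (tq_d (tq_h (tq_i (tq_d (tq_c (tq_b (tq_d (tq_e (tq_f (tq_d (tq_h (tq_i (tq_d (tq_c (tq_b (tq_d (tq_e (tq_f (tq_d (tq_h (tq_i (tq_d (tq_c (tq_b (tq_d (tq_e (tq_f (tq_d (tq_h (tq_i (tq_d (tq_c (tq_b (tq_d (tq_e (tq_f (tq_d (tq_h (tq_i i)))))))))))))))))))))))))))))))))))))))))))))))))))))))))))))))))))))))))))))))))))))))))) i) 31301 277 = true := by decide +kernel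
theorem exr_0_114 : allFrom (fun i => Nat.ble 31671 i || Nat.beq (tq_d (tq_c (tq_b (tq_d (tq_e (tq_f (tq_d (tq_h (tq_i (tq_d (tq_c (tq_b (tq_d (tq_e (tq_f (tq_d (tq_h (tq_i (tq_d (tq_c (tq_b (tq_d (tq_e (tq_f (tq_d (tq_h (tq_i (tq_d (tq_c (tq_b (tq_d (tq_e (tq_f (tq_d (tq_h (tq_i (tq_d (tq_c (tq_b (tq_d (tq_e (tq_f (tq_d (tq_h (tq_i (tq_d (tq_c (tq_b (tq_d (tq_e (tq_f (tq_d (tq_h (tq_i (tq_d (tq_c (tq_b (tq_d (tq_e (tq_f (tq_d (tq_h (tq_i (tq_d (tq_c (tq_b (tq_d (tq_e (tq_f (tq_d (tq_h (tq_i (tq_d (tq_c (tq_b (tq_d (tq_e (tq_f (tq_d (tq_h (tq_i (tq_d (tq_c (tq_b (tq_d (tq_e (tq_f (tq_d (tq_h (tq_i i)))))))))))))))))))))))))))))))))))))))))))))))))))))))))))))))))))))))))))))))))))))))))) i) 31578 277 = true := by decide +kernel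
theorem exr_0 : ∀ i, i < 31671 → (Nat.beq (tq_d (tq_c (tq_b (tq_d (tq_e (tq_f (tq_d (tq_h (tq_i (tq_d (tq_c (tq_b (tq_d (tq_e (tq_f (tq_d (tq_h (tq_i (tq_d (tq_c (tq_b (tq_d (tq_e (tq_f (tq_d (tq_h (tq_i (tq_d (tq_c (tq_b (tq_d (tq_e (tq_f (tq_d (tq_h (tq_i (tq_d (tq_c (tq_b (tq_d (tq_e (tq_f (tq_d (tq_h (tq_i (tq_d (tq_c (tq_b (tq_d (tq_e (tq_f (tq_d (tq_h (tq_i (tq_d (tq_c (tq_b (tq_d (tq_e (tq_f (tq_d (tq_h (tq_i (tq_d (tq_c (tq_b (tq_d (tq_e (tq_f (tq_d (tq_h (tq_i (tq_d (tq_c (tq_b (tq_d (tq_e (tq_f (tq_d (tq_h (tq_i (tq_d (tq_c (tq_b (tq_d (tq_e (tq_f (tq_d (tq_h (tq_i i)))))))))))))))))))))))))))))))))))))))))))))))))))))))))))))))))))))))))))))))))))))))))) i) = true :=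
  blocks_lt (fun i => Nat.beq (tq_d (tq_c (tq_b (tq_d (tq_e (tq_f (tq_d (tq_h (tq_i (tq_d (tq_c (tq_b (tq_d (tq_e (tq_f (tq_d (tq_h (tq_i (tq_d (tq_c (tq_b (tq_d (tq_e (tq_f (tq_d (tq_h (tq_i (tq_d (tq_c (tq_b (tq_d (tq_e (tq_f (tq_d (tq_h (tq_i (tq_d (tq_c (tq_b (tq_d (tq_e (tq_f (tq_d (tq_h (tq_i (tq_d (tq_c (tq_b (tq_d (tq_e (tq_f (tq_d (tq_h (tq_i (tq_d (tq_c (tq_b (tq_d (tq_e (tq_f (tq_d (tq_h (tq_i (tq_d (tq_c (tq_b (tq_d (tq_e (tq_f (tq_d (tq_h (tq_i (tq_d (tq_c (tq_b (tq_d (tq_e (tq_f (tq_d (tq_h (tq_i (tq_d (tq_c (tq_b (tq_d (tq_e (tq_f (tq_d (tq_h (tq_i i)))))))))))))))))))))))))))))))))))))))))))))))))))))))))))))))))))))))))))))))))))))))))) i) 31671 277 115 (by norm_num) ⟨exr_0_0, exr_0_1, exr_0_2, exr_0_3, exr_0_4, exr_0_5, exr_0_6, exr_0_7, exr_0_8, exr_0_9, exr_0_10, exr_0_11,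 exr_0_12, exr_0_13, exr_0_14, exr_0_15, exr_0_16, exr_0_17, exr_0_18, exr_0_19, exr_0_20, exr_0_21, exr_0_22, exr_0_23, exr_0_24, exr_0_25, exr_0_26, exr_0_27, exr_0_28, exr_0_29, exr_0_30, exr_0_31, exr_0_32, exr_0_33, exr_0_34, exr_0_35, exr_0_36, exr_0_37, exr_0_38, exr_0_39, exr_0_40, exr_0_41, exr_0_42, exr_0_43, exr_0_44, exr_0_45, exr_0_46, exr_0_47, exr_0_48, exr_0_49, exr_0_50, exr_0_51, exr_0_52, exr_0_53, exr_0_54, exr_0_55, exr_0_56, exr_0_57, exr_0_58, exr_0_59, exr_0_60, exr_0_61, exr_0_62, exr_0_63, exr_0_64, exr_0_65, exr_0_66, exr_0_67, exr_0_68, exr_0_69, exr_0_70, exr_0_71, exr_0_72, exr_0_73, exr_0_74, exr_0_75, exr_0_76, exr_0_77, exr_0_78, exr_0_79, exr_0_80, exr_0_81, exr_0_82, exr_0_83, exr_0_84, exr_0_85, exr_0_86, exr_0_87, exr_0_88, exr_0_89, exr_0_90, exr_0_91,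 exr_0_92, exr_0_93, exr_0_94, exr_0_95, exr_0_96, exr_0_97, exr_0_98, exr_0_99, exr_0_100, exr_0_101, exr_0_102, exr_0_103, exr_0_104, exr_0_105, exr_0_106, exr_0_107, exr_0_108, exr_0_109, exr_0_110, exr_0_111, exr_0_112, exr_0_113, exr_0_114, trivial⟩

theorem ex_0 : ∀ i, i < 31671 → evalT tab [Gen.d, Gen.c, Gen.b, Gen.d, Gen.e, Gen.f, Gen.d, Gen.h, Gen.i, Gen.d, Gen.c, Gen.b, Gen.d, Gen.e, Gen.f, Gen.d, Gen.h, Gen.i, Gen.d, Gen.c, Gen.b, Gen.d, Gen.e, Gen.f, Gen.d, Gen.h, Gen.i, Gen.d, Gen.c, Gen.b, Gen.d, Gen.e, Gen.f, Gen.d, Gen.h, Gen.i, Gen.d, Gen.c, Gen.b, Gen.d, Gen.e, Gen.f, Gen.d, Gen.h, Gen.i, Gen.d, Gen.c, Gen.b, Gen.d, Gen.e, Gen.f, Gen.d, Gen.h, Gen.i, Gen.d, Gen.c, Gen.b, Gen.d, Gen.e, Gen.f, Gen.d, Gen.h, Gen.i, Gen.d, Gen.c, Gen.b, Gen.d, Gen.e, Gen.f, Gen.d, Gen.h, Gen.i,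 Gen.d, Gen.c, Gen.b, Gen.d, Gen.e, Gen.f, Gen.d, Gen.h, Gen.i, Gen.d, Gen.c, Gen.b, Gen.d, Gen.e, Gen.f, Gen.d, Gen.h, Gen.i] i = i := by
  intro i hi
  have h := Nat.eq_of_beq_eq_true (exr_0 i hi)
  simp only [evalT_cons', evalT_nil', tab_a, tab_b, tab_c, tab_d, tab_e, tab_f, tab_g, tab_j, tab_h, tab_i]
  exact h

end Cfsg.Agent.Helper28.FicA
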