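import Cfsg.Agent.Helper28.FicR0

/-!
# The Fi₂₃ presentation, cosets of the subgroup generated by a, …, i: relator checks, part 8 (helper28; generated)
-/

set_option autoImplicit false
set_option maxRecDepth 100000
set_option linter.unusedSimpArgs false
set_option linter.constructorNameAsVariable false

noncomputable section

namespace Cfsg.Agent.Helper28.FicA

open Cfsg.Spor Cfsg.Spor.Fi23 Cfsg.Agent.Helper28.CosetTable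

theorem exr_1_0 : allFrom (fun i => Nat.ble 31671 i || Nat.beq (tq_a (tq_b (tq_c (tq_d (tq_e (tq_f (tq_h (tq_a (tq_b (tq_c (tq_d (tq_e (tq_f (tq_h (tq_a (tq_b (tq_c (tq_d (tq_e (tq_f (tq_h (tq_a (tq_b (tq_c (tq_d (tq_e (tq_f (tq_h (tq_a (tq_b (tq_c (tq_d (tq_e (tq_f (tq_h (tq_a (tq_b (tq_c (tq_d (tq_e (tq_f (tq_h (tq_a (tq_b (tq_c (tq_d (tq_e (tq_f (tq_h (tq_a (tq_b (tq_c (tq_d (tq_e (tq_f (tq_h (tq_a (tq_b (tq_c (tq_d (tq_e (tq_f (tq_h i))))))))))))))))))))))))))))))))))))))))))))))))))))))))))))))) i) 0 396 = true := by decide +kernel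
theorem exr_1_1 : allFrom (fun i => Nat.ble 31671 i || Nat.beq (tq_a (tq_b (tq_c (tq_d (tq_e (tq_f (tq_h (tq_a (tq_b (tq_c (tq_d (tq_e (tq_f (tq_h (tq_a (tq_b (tq_c (tq_d (tq_e (tq_f (tq_h (tq_a (tq_b (tq_c (tq_d (tq_e (tq_f (tq_h (tq_a (tq_b (tq_c (tq_d (tq_e (tq_f (tq_h (tq_a (tq_b (tq_c (tq_d (tq_e (tq_f (tq_h (tq_a (tq_b (tq_c (tq_d (tq_e (tq_f (tq_h (tq_a (tq_b (tq_c (tq_d (tq_e (tq_f (tq_h (tq_a (tq_b (tq_c (tq_d (tq_e (tq_f (tq_h i))))))))))))))))))))))))))))))))))))))))))))))))))))))))))))))) i) 396 396 = true := by decide +kernel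
theorem exr_1_2 : allFrom (fun i => Nat.ble 31671 i || Nat.beq (tq_a (tq_b (tq_c (tq_d (tq_e (tq_f (tq_h (tq_a (tq_b (tq_c (tq_d (tq_e (tq_f (tq_h (tq_a (tq_b (tq_c (tq_d (tq_e (tq_f (tq_h (tq_a (tq_b (tq_c (tq_d (tq_e (tq_f (tq_h (tq_a (tq_b (tq_c (tq_d (tq_e (tq_f (tq_h (tq_a (tq_b (tq_c (tq_d (tq_e (tq_f (tq_h (tq_a (tq_b (tq_c (tq_d (tq_e (tq_f (tq_h (tq_a (tq_b (tq_c (tq_d (tq_e (tq_f (tq_h (tq_a (tq_b (tq_c (tq_d (tq_e (tq_f (tq_h i))))))))))))))))))))))))))))))))))))))))))))))))))))))))))))))) i) 792 396 = true := by decide +kernel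
theorem exr_1_3 : allFrom (fun i => Nat.ble 31671 i || Nat.beq (tq_a (tq_b (tq_c (tq_d (tq_e (tq_f (tq_h (tq_a (tq_b (tq_c (tq_d (tq_e (tq_f (tq_h (tq_a (tq_b (tq_c (tq_d (tq_e (tq_f (tq_h (tq_a (tq_b (tq_c (tq_d (tq_e (tq_f (tq_h (tq_a (tq_b (tq_c (tq_d (tq_e (tq_f (tq_h (tq_a (tq_b (tq_c (tq_d (tq_e (tq_f (tq_h (tq_a (tq_b (tq_c (tq_d (tq_e (tq_f (tq_h (tq_a (tq_b (tq_c (tq_d (tq_e (tq_f (tq_h (tq_a (tq_b (tq_c (tq_d (tq_e (tq_f (tq_h i))))))))))))))))))))))))))))))))))))))))))))))))))))))))))))))) i) 1188 396 = true := by decide +kernel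
theorem exr_1_4 : allFrom (fun i => Nat.ble 31671 i || Nat.beq (tq_a (tq_b (tq_c (tq_d (tq_e (tq_f (tq_h (tq_a (tq_b (tq_c (tq_d (tq_e (tq_f (tq_h (tq_a (tq_b (tq_c (tq_d (tq_e (tq_f (tq_h (tq_a (tq_b (tq_c (tq_d (tq_e (tq_f (tq_h (tq_a (tq_b (tq_c (tq_d (tq_e (tq_f (tq_h (tq_a (tq_b (tq_c (tq_d (tq_e (tq_f (tq_h (tq_a (tq_b (tq_c (tq_d (tq_e (tq_f (tq_h (tq_a (tq_b (tq_c (tq_d (tq_e (tq_f (tq_h (tq_a (tq_b (tq_c (tq_d (tq_e (tq_f (tq_h i))))))))))))))))))))))))))))))))))))))))))))))))))))))))))))))) i) 1584 396 = true := by decide +kernel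
theorem exr_1_5 : allFrom (fun i => Nat.ble 31671 i || Nat.beq (tq_a (tq_b (tq_c (tq_d (tq_e (tq_f (tq_h (tq_a (tq_b (tq_c (tq_d (tq_e (tq_f (tq_h (tq_a (tq_b (tq_c (tq_d (tq_e (tq_f (tq_h (tq_a (tq_b (tq_c (tq_d (tq_e (tq_f (tq_h (tq_a (tq_b (tq_c (tq_d (tq_e (tq_f (tq_h (tq_a (tq_b (tq_c (tq_d (tq_e (tq_f (tq_h (tq_a (tq_b (tq_c (tq_d (tq_e (tq_f (tq_h (tq_a (tq_b (tq_c (tq_d (tq_e (tq_f (tq_h (tq_a (tq_b (tq_c (tq_d (tq_e (tq_f (tq_h i))))))))))))))))))))))))))))))))))))))))))))))))))))))))))))))) i) 1980 396 = true := by decide +kernel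
theorem exr_1_6 : allFrom (fun i => Nat.ble 31671 i || Nat.beq (tq_a (tq_b (tq_c (tq_d (tq_e (tq_f (tq_h (tq_a (tq_b (tq_c (tq_d (tq_e (tq_f (tq_h (tq_a (tq_b (tq_c (tq_d (tq_e (tq_f (tq_h (tq_a (tq_b (tq_c (tq_d (tq_e (tq_f (tq_h (tq_a (tq_b (tq_c (tq_d (tq_e (tq_f (tq_h (tq_a (tq_b (tq_c (tq_d (tq_e (tq_f (tq_h (tq_a (tq_b (tq_c (tq_d (tq_e (tq_f (tq_h (tq_a (tq_b (tq_c (tq_d (tq_e (tq_f (tq_h (tq_a (tq_b (tq_c (tq_d (tq_e (tq_f (tq_h i))))))))))))))))))))))))))))))))))))))))))))))))))))))))))))))) i) 2376 396 = true := by decide +kernel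
theorem exr_1_7 : allFrom (fun i => Nat.ble 31671 i || Nat.beq (tq_a (tq_b (tq_c (tq_d (tq_e (tq_f (tq_h (tq_a (tq_b (tq_c (tq_d (tq_e (tq_f (tq_h (tq_a (tq_b (tq_c (tq_d (tq_e (tq_f (tq_h (tq_a (tq_b (tq_c (tq_d (tq_e (tq_f (tq_h (tq_a (tq_b (tq_c (tq_d (tq_e (tq_f (tq_h (tq_a (tq_b (tq_c (tq_d (tq_e (tq_f (tq_h (tq_a (tq_b (tq_c (tq_d (tq_e (tq_f (tq_h (tq_a (tq_b (tq_c (tq_d (tq_e (tq_f (tq_h (tq_a (tq_b (tq_c (tq_d (tq_e (tq_f (tq_h i))))))))))))))))))))))))))))))))))))))))))))))))))))))))))))))) i) 2772 396 = true := by decide +kernel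
theorem exr_1_8 : allFrom (fun i => Nat.ble 31671 i || Nat.beq (tq_a (tq_b (tq_c (tq_d (tq_e (tq_f (tq_h (tq_a (tq_b (tq_c (tq_d (tq_e (tq_f (tq_h (tq_a (tq_b (tq_c (tq_d (tq_e (tq_f (tq_h (tq_a (tq_b (tq_c (tq_d (tq_e (tq_f (tq_h (tq_a (tq_b (tq_c (tq_d (tq_e (tq_f (tq_h (tq_a (tq_b (tq_c (tq_d (tq_e (tq_f (tq_h (tq_a (tq_b (tq_c (tq_d (tq_e (tq_f (tq_h (tq_a (tq_b (tq_c (tq_d (tq_e (tq_f (tq_h (tq_a (tq_b (tq_c (tq_d (tq_e (tq_f (tq_h i))))))))))))))))))))))))))))))))))))))))))))))))))))))))))))))) i) 3168 396 = true := by decide +kernel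
theorem exr_1_9 : allFrom (fun i => Nat.ble 31671 i || Nat.beq (tq_a (tq_b (tq_c (tq_d (tq_e (tq_f (tq_h (tq_a (tq_b (tq_c (tq_d (tq_e (tq_f (tq_h (tq_a (tq_b (tq_c (tq_d (tq_e (tq_f (tq_h (tq_a (tq_b (tq_c (tq_d (tq_e (tq_f (tq_h (tq_a (tq_b (tq_c (tq_d (tq_e (tq_f (tq_h (tq_a (tq_b (tq_c (tq_d (tq_e (tq_f (tq_h (tq_a (tq_b (tq_c (tq_d (tq_e (tq_f (tq_h (tq_a (tq_b (tq_c (tq_d (tq_e (tq_f (tq_h (tq_a (tq_b (tq_c (tq_d (tq_e (tq_f (tq_h i))))))))))))))))))))))))))))))))))))))))))))))))))))))))))))))) i) 3564 396 = true := by decide +kernel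
theorem exr_1_10 : allFrom (fun i => Nat.ble 31671 i || Nat.beq (tq_a (tq_b (tq_c (tq_d (tq_e (tq_f (tq_h (tq_a (tq_b (tq_c (tq_d (tq_e (tq_f (tq_h (tq_a (tq_b (tq_c (tq_d (tq_e (tq_f (tq_h (tq_a (tq_b (tq_c (tq_d (tq_e (tq_f (tq_h (tq_a (tq_b (tq_c (tq_d (tq_e (tq_f (tq_h (tq_a (tq_b (tq_c (tq_d (tq_e (tq_f (tq_h (tq_a (tq_b (tq_c (tq_d (tq_e (tq_f (tq_h (tq_a (tq_b (tq_c (tq_d (tq_e (tq_f (tq_h (tq_a (tq_b (tq_c (tq_d (tq_e (tq_f (tq_h i))))))))))))))))))))))))))))))))))))))))))))))))))))))))))))))) i) 3960 396 = true := by decide +kernel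
theorem exr_1_11 : allFrom (fun i => Nat.ble 31671 i || Nat.beq (tq_a (tq_b (tq_c (tq_d (tq_e (tq_f (tq_h (tq_a (tq_b (tq_c (tq_d (tq_e (tq_f (tq_h (tq_a (tq_b (tq_c (tq_d (tq_e (tq_f (tq_h (tq_a (tq_b (tq_c (tq_d (tq_e (tq_f (tq_h (tq_a (tq_b (tq_c (tq_d (tq_e (tq_f (tq_h (tq_a (tq_b (tq_c (tq_d (tq_e (tq_f (tq_h (tq_a (tq_b (tq_c (tq_d (tq_e (tq_f (tq_h (tq_a (tq_b (tq_c (tq_d (tq_e (tq_f (tq_h (tq_a (tq_b (tq_c (tq_d (tq_e (tq_f (tq_h i))))))))))))))))))))))))))))))))))))))))))))))))))))))))))))))) i) 4356 396 = true := by decide +kernel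
theorem exr_1_12 : allFrom (fun i => Nat.ble 31671 i || Nat.beq (tq_a (tq_b (tq_c (tq_d (tq_e (tq_f (tq_h (tq_a (tq_b (tq_c (tq_d (tq_e (tq_f (tq_h (tq_a (tq_b (tq_c (tq_d (tq_e (tq_f (tq_h (tq_a (tq_b (tq_c (tq_d (tq_e (tq_f (tq_h (tq_a (tq_b (tq_c (tq_d (tq_e (tq_f (tq_h (tq_a (tq_b (tq_c (tq_d (tq_e (tq_f (tq_h (tq_a (tq_b (tq_c (tq_d (tq_e (tq_f (tq_h (tq_a (tq_b (tq_c (tq_d (tq_e (tq_f (tq_h (tq_a (tq_b (tq_c (tq_d (tq_e (tq_f (tq_h i))))))))))))))))))))))))))))))))))))))))))))))))))))))))))))))) i) 4752 396 = true := by decide +kernel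
theorem exr_1_13 : allFrom (fun i => Nat.ble 31671 i || Nat.beq (tq_a (tq_b (tq_c (tq_d (tq_e (tq_f (tq_h (tq_a (tq_b (tq_c (tq_d (tq_e (tq_f (tq_h (tq_a (tq_b (tq_c (tq_d (tq_e (tq_f (tq_h (tq_a (tq_b (tq_c (tq_d (tq_e (tq_f (tq_h (tq_a (tq_b (tq_c (tq_d (tq_e (tq_f (tq_h (tq_a (tq_b (tq_c (tq_d (tq_e (tq_f (tq_h (tq_a (tq_b (tq_c (tq_d (tq_e (tq_f (tq_h (tq_a (tq_b (tq_c (tq_d (tq_e (tq_f (tq_h (tq_a (tq_b (tq_c (tq_d (tq_e (tq_f (tq_h i))))))))))))))))))))))))))))))))))))))))))))))))))))))))))))))) i) 5148 396 = true := by decide +kernel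
theorem exr_1_14 : allFrom (fun i => Nat.ble 31671 i || Nat.beq (tq_a (tq_b (tq_c (tq_d (tq_e (tq_f (tq_h (tq_a (tq_b (tq_c (tq_d (tq_e (tq_f (tq_h (tq_a (tq_b (tq_c (tq_d (tq_e (tq_f (tq_h (tq_a (tq_b (tq_c (tq_d (tq_e (tq_f (tq_h (tq_a (tq_b (tq_c (tq_d (tq_e (tq_f (tq_h (tq_a (tq_b (tq_c (tq_d (tq_e (tq_f (tq_h (tq_a (tq_b (tq_c (tq_d (tq_e (tq_f (tq_h (tq_a (tq_b (tq_c (tq_d (tq_e (tq_f (tq_h (tq_a (tq_b (tq_c (tq_d (tq_e (tq_f (tq_h i))))))))))))))))))))))))))))))))))))))))))))))))))))))))))))))) i) 5544 396 = true := by decide +kernel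
theorem exr_1_15 : allFrom (fun i => Nat.ble 31671 i || Nat.beq (tq_a (tq_b (tq_c (tq_d (tq_e (tq_f (tq_h (tq_a (tq_b (tq_c (tq_d (tq_e (tq_f (tq_h (tq_a (tq_b (tq_c (tq_d (tq_e (tq_f (tq_h (tq_a (tq_b (tq_c (tq_d (tq_e (tq_f (tq_h (tq_a (tq_b (tq_c (tq_d (tq_e (tq_f (tq_h (tq_a (tq_b (tq_c (tq_d (tq_e (tq_f (tq_h (tq_a (tq_b (tq_c (tq_d (tq_e (tq_f (tq_h (tq_a (tq_b (tq_c (tq_d (tq_e (tq_f (tq_h (tq_a (tq_b (tq_c (tq_d (tq_e (tq_f (tq_h i))))))))))))))))))))))))))))))))))))))))))))))))))))))))))))))) i) 5940 396 = true := by decide +kernel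
theorem exr_1_16 : allFrom (fun i => Nat.ble 31671 i || Nat.beq (tq_a (tq_b (tq_c (tq_d (tq_e (tq_f (tq_h (tq_a (tq_b (tq_c (tq_d (tq_e (tq_f (tq_h (tq_a (tq_b (tq_c (tq_d (tq_e (tq_f (tq_h (tq_a (tq_b (tq_c (tq_d (tq_e (tq_f (tq_h (tq_a (tq_b (tq_c (tq_d (tq_e (tq_f (tq_h (tq_a (tq_b (tq_c (tq_d (tq_e (tq_f (tq_h (tq_a (tq_b (tq_c (tq_d (tq_e (tq_f (tq_h (tq_a (tq_b (tq_c (tq_d (tq_e (tq_f (tq_h (tq_a (tq_b (tq_c (tq_d (tq_e (tq_f (tq_h i))))))))))))))))))))))))))))))))))))))))))))))))))))))))))))))) i) 6336 396 = true := by decide +kernel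
theorem exr_1_17 : allFrom (fun i => Nat.ble 31671 i || Nat.beq (tq_a (tq_b (tq_c (tq_d (tq_e (tq_f (tq_h (tq_a (tq_b (tq_c (tq_d (tq_e (tq_f (tq_h (tq_a (tq_b (tq_c (tq_d (tq_e (tq_f (tq_h (tq_a (tq_b (tq_c (tq_d (tq_e (tq_f (tq_h (tq_a (tq_b (tq_c (tq_d (tq_e (tq_f (tq_h (tq_a (tq_b (tq_c (tq_d (tq_e (tq_f (tq_h (tq_a (tq_b (tq_c (tq_d (tq_e (tq_f (tq_h (tq_a (tq_b (tq_c (tq_d (tq_e (tq_f (tq_h (tq_a (tq_b (tq_c (tq_d (tq_e (tq_f (tq_h i))))))))))))))))))))))))))))))))))))))))))))))))))))))))))))))) i) 6732 396 = true := by decide +kernel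
theorem exr_1_18 : allFrom (fun i => Nat.ble 31671 i || Nat.beq (tq_a (tq_b (tq_c (tq_d (tq_e (tq_f (tq_h (tq_a (tq_b (tq_c (tq_d (tq_e (tq_f (tq_h (tq_a (tq_b (tq_c (tq_d (tq_e (tq_f (tq_h (tq_a (tq_b (tq_c (tq_d (tq_e (tq_f (tq_h (tq_a (tq_b (tq_c (tq_d (tq_e (tq_f (tq_h (tq_a (tq_b (tq_c (tq_d (tq_e (tq_f (tq_h (tq_a (tq_b (tq_c (tq_d (tq_e (tq_f (tq_h (tq_a (tq_b (tq_c (tq_d (tq_e (tq_f (tq_h (tq_a (tq_b (tq_c (tq_d (tq_e (tq_f (tq_h i))))))))))))))))))))))))))))))))))))))))))))))))))))))))))))))) i) 7128 396 = true := by decide +kernel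
theorem exr_1_19 : allFrom (fun i => Nat.ble 31671 i || Nat.beq (tq_a (tq_b (tq_c (tq_d (tq_e (tq_f (tq_h (tq_a (tq_b (tq_c (tq_d (tq_e (tq_f (tq_h (tq_a (tq_b (tq_c (tq_d (tq_e (tq_f (tq_h (tq_a (tq_b (tq_c (tq_d (tq_e (tq_f (tq_h (tq_a (tq_b (tq_c (tq_d (tq_e (tq_f (tq_h (tq_a (tq_b (tq_c (tq_d (tq_e (tq_f (tq_h (tq_a (tq_b (tq_c (tq_d (tq_e (tq_f (tq_h (tq_a (tq_b (tq_c (tq_d (tq_e (tq_f (tq_h (tq_a (tq_b (tq_c (tq_d (tq_e (tq_f (tq_h i))))))))))))))))))))))))))))))))))))))))))))))))))))))))))))))) i) 7524 396 = true := by decide +kernel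
theorem exr_1_20 : allFrom (fun i => Nat.ble 31671 i || Nat.beq (tq_a (tq_b (tq_c (tq_d (tq_e (tq_f (tq_h (tq_a (tq_b (tq_c (tq_d (tq_e (tq_f (tq_h (tq_a (tq_b (tq_c (tq_d (tq_e (tq_f (tq_h (tq_a (tq_b (tq_c (tq_d (tq_e (tq_f (tq_h (tq_a (tq_b (tq_c (tq_d (tq_e (tq_f (tq_h (tq_a (tq_b (tq_c (tq_d (tq_e (tq_f (tq_h (tq_a (tq_b (tq_c (tq_d (tq_e (tq_f (tq_h (tq_a (tq_b (tq_c (tq_d (tq_e (tq_f (tq_h (tq_a (tq_b (tq_c (tq_d (tq_e (tq_f (tq_h i))))))))))))))))))))))))))))))))))))))))))))))))))))))))))))))) i) 7920 396 = true := by decide +kernel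
theorem exr_1_21 : allFrom (fun i => Nat.ble 31671 i || Nat.beq (tq_a (tq_b (tq_c (tq_d (tq_e (tq_f (tq_h (tq_a (tq_b (tq_c (tq_d (tq_e (tq_f (tq_h (tq_a (tq_b (tq_c (tq_d (tq_e (tq_f (tq_h (tq_a (tq_b (tq_c (tq_d (tq_e (tq_f (tq_h (tq_a (tq_b (tq_c (tq_d (tq_e (tq_f (tq_h (tq_a (tq_b (tq_c (tq_d (tq_e (tq_f (tq_h (tq_a (tq_b (tq_c (tq_d (tq_e (tq_f (tq_h (tq_a (tq_b (tq_c (tq_d (tq_e (tq_f (tq_h (tq_a (tq_b (tq_c (tq_d (tq_e (tq_f (tq_h i))))))))))))))))))))))))))))))))))))))))))))))))))))))))))))))) i) 8316 396 = true := by decide +kernel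
theorem exr_1_22 : allFrom (fun i => Nat.ble 31671 i || Nat.beq (tq_a (tq_b (tq_c (tq_d (tq_e (tq_f (tq_h (tq_a (tq_b (tq_c (tq_d (tq_e (tq_f (tq_h (tq_a (tq_b (tq_c (tq_d (tq_e (tq_f (tq_h (tq_a (tq_b (tq_c (tq_d (tq_e (tq_f (tq_h (tq_a (tq_b (tq_c (tq_d (tq_e (tq_f (tq_h (tq_a (tq_b (tq_c (tq_d (tq_e (tq_f (tq_h (tq_a (tq_b (tq_c (tq_d (tq_e (tq_f (tq_h (tq_a (tq_b (tq_c (tq_d (tq_e (tq_f (tq_h (tq_a (tq_b (tq_c (tq_d (tq_e (tq_f (tq_h i))))))))))))))))))))))))))))))))))))))))))))))))))))))))))))))) i) 8712 396 = true := by decide +kernel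
theorem exr_1_23 : allFrom (fun i => Nat.ble 31671 i || Nat.beq (tq_a (tq_b (tq_c (tq_d (tq_e (tq_f (tq_h (tq_a (tq_b (tq_c (tq_d (tq_e (tq_f (tq_h (tq_a (tq_b (tq_c (tq_d (tq_e (tq_f (tq_h (tq_a (tq_b (tq_c (tq_d (tq_e (tq_f (tq_h (tq_a (tq_b (tq_c (tq_d (tq_e (tq_f (tq_h (tq_a (tq_b (tq_c (tq_d (tq_e (tq_f (tq_h (tq_a (tq_b (tq_c (tq_d (tq_e (tq_f (tq_h (tq_a (tq_b (tq_c (tq_d (tq_e (tq_f (tq_h (tq_a (tq_b (tq_c (tq_d (tq_e (tq_f (tq_h i))))))))))))))))))))))))))))))))))))))))))))))))))))))))))))))) i) 9108 396 = true := by decide +kernel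
theorem exr_1_24 : allFrom (fun i => Nat.ble 31671 i || Nat.beq (tq_a (tq_b (tq_c (tq_d (tq_e (tq_f (tq_h (tq_a (tq_b (tq_c (tq_d (tq_e (tq_f (tq_h (tq_a (tq_b (tq_c (tq_d (tq_e (tq_f (tq_h (tq_a (tq_b (tq_c (tq_d (tq_e (tq_f (tq_h (tq_a (tq_b (tq_c (tq_d (tq_e (tq_f (tq_h (tq_a (tq_b (tq_c (tq_d (tq_e (tq_f (tq_h (tq_a (tq_b (tq_c (tq_d (tq_e (tq_f (tq_h (tq_a (tq_b (tq_c (tq_d (tq_e (tq_f (tq_h (tq_a (tq_b (tq_c (tq_d (tq_e (tq_f (tq_h i))))))))))))))))))))))))))))))))))))))))))))))))))))))))))))))) i) 9504 396 = true := by decide +kernel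
theorem exr_1_25 : allFrom (fun i => Nat.ble 31671 i || Nat.beq (tq_a (tq_b (tq_c (tq_d (tq_e (tq_f (tq_h (tq_a (tq_b (tq_c (tq_d (tq_e (tq_f (tq_h (tq_a (tq_b (tq_c (tq_d (tq_e (tq_f (tq_h (tq_a (tq_b (tq_c (tq_d (tq_e (tq_f (tq_h (tq_a (tq_b (tq_c (tq_d (tq_e (tq_f (tq_h (tq_a (tq_b (tq_c (tq_d (tq_e (tq_f (tq_h (tq_a (tq_b (tq_c (tq_d (tq_e (tq_f (tq_h (tq_a (tq_b (tq_c (tq_d (tq_e (tq_f (tq_h (tq_a (tq_b (tq_c (tq_d (tq_e (tq_f (tq_h i))))))))))))))))))))))))))))))))))))))))))))))))))))))))))))))) i) 9900 396 = true := by decide +kernel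
theorem exr_1_26 : allFrom (fun i => Nat.ble 31671 i || Nat.beq (tq_a (tq_b (tq_c (tq_d (tq_e (tq_f (tq_h (tq_a (tq_b (tq_c (tq_d (tq_e (tq_f (tq_h (tq_a (tq_b (tq_c (tq_d (tq_e (tq_f (tq_h (tq_a (tq_b (tq_c (tq_d (tq_e (tq_f (tq_h (tq_a (tq_b (tq_c (tq_d (tq_e (tq_f (tq_h (tq_a (tq_b (tq_c (tq_d (tq_e (tq_f (tq_h (tq_a (tq_b (tq_c (tq_d (tq_e (tq_f (tq_h (tq_a (tq_b (tq_c (tq_d (tq_e (tq_f (tq_h (tq_a (tq_b (tq_c (tq_d (tq_e (tq_f (tq_h i))))))))))))))))))))))))))))))))))))))))))))))))))))))))))))))) i) 10296 396 = true := by decide +kernel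
theorem exr_1_27 : allFrom (fun i => Nat.ble 31671 i || Nat.beq (tq_a (tq_b (tq_c (tq_d (tq_e (tq_f (tq_h (tq_a (tq_b (tq_c (tq_d (tq_e (tq_f (tq_h (tq_a (tq_b (tq_c (tq_d (tq_e (tq_f (tq_h (tq_a (tq_b (tq_c (tq_d (tq_e (tq_f (tq_h (tq_a (tq_b (tq_c (tq_d (tq_e (tq_f (tq_h (tq_a (tq_b (tq_c (tq_d (tq_e (tq_f (tq_h (tq_a (tq_b (tq_c (tq_d (tq_e (tq_f (tq_h (tq_a (tq_b (tq_c (tq_d (tq_e (tq_f (tq_h (tq_a (tq_b (tq_c (tq_d (tq_e (tq_f (tq_h i))))))))))))))))))))))))))))))))))))))))))))))))))))))))))))))) i) 10692 396 = true := by decide +kernel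
theorem exr_1_28 : allFrom (fun i => Nat.ble 31671 i || Nat.beq (tq_a (tq_b (tq_c (tq_d (tq_e (tq_f (tq_h (tq_a (tq_b (tq_c (tq_d (tq_e (tq_f (tq_h (tq_a (tq_b (tq_c (tq_d (tq_e (tq_f (tq_h (tq_a (tq_b (tq_c (tq_d (tq_e (tq_f (tq_h (tq_a (tq_b (tq_c (tq_d (tq_e (tq_f (tq_h (tq_a (tq_b (tq_c (tq_d (tq_e (tq_f (tq_h (tq_a (tq_b (tq_c (tq_d (tq_e (tq_f (tq_h (tq_a (tq_b (tq_c (tq_d (tq_e (tq_f (tq_h (tq_a (tq_b (tq_c (tq_d (tq_e (tq_f (tq_h i))))))))))))))))))))))))))))))))))))))))))))))))))))))))))))))) i) 11088 396 = true := by decide +kernel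
theorem exr_1_29 : allFrom (fun i => Nat.ble 31671 i || Nat.beq (tq_a (tq_b (tq_c (tq_d (tq_e (tq_f (tq_h (tq_a (tq_b (tq_c (tq_d (tq_e (tq_f (tq_h (tq_a (tq_b (tq_c (tq_d (tq_e (tq_f (tq_h (tq_a (tq_b (tq_c (tq_d (tq_e (tq_f (tq_h (tq_a (tq_b (tq_c (tq_d (tq_e (tq_f (tq_h (tq_a (tq_b (tq_c (tq_d (tq_e (tq_f (tq_h (tq_a (tq_b (tq_c (tq_d (tq_e (tq_f (tq_h (tq_a (tq_b (tq_c (tq_d (tq_e (tq_f (tq_h (tq_a (tq_b (tq_c (tq_d (tq_e (tq_f (tq_h i))))))))))))))))))))))))))))))))))))))))))))))))))))))))))))))) i) 11484 396 = true := by decide +kernel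
theorem exr_1_30 : allFrom (fun i => Nat.ble 31671 i || Nat.beq (tq_a (tq_b (tq_c (tq_d (tq_e (tq_f (tq_h (tq_a (tq_b (tq_c (tq_d (tq_e (tq_f (tq_h (tq_a (tq_b (tq_c (tq_d (tq_e (tq_f (tq_h (tq_a (tq_b (tq_c (tq_d (tq_e (tq_f (tq_h (tq_a (tq_b (tq_c (tq_d (tq_e (tq_f (tq_h (tq_a (tq_b (tq_c (tq_d (tq_e (tq_f (tq_h (tq_a (tq_b (tq_c (tq_d (tq_e (tq_f (tq_h (tq_a (tq_b (tq_c (tq_d (tq_e (tq_f (tq_h (tq_a (tq_b (tq_c (tq_d (tq_e (tq_f (tq_h i))))))))))))))))))))))))))))))))))))))))))))))))))))))))))))))) i) 11880 396 = true := by decide +kernel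
theorem exr_1_31 : allFrom (fun i => Nat.ble 31671 i || Nat.beq (tq_a (tq_b (tq_c (tq_d (tq_e (tq_f (tq_h (tq_a (tq_b (tq_c (tq_d (tq_e (tq_f (tq_h (tq_a (tq_b (tq_c (tq_d (tq_e (tq_f (tq_h (tq_a (tq_b (tq_c (tq_d (tq_e (tq_f (tq_h (tq_a (tq_b (tq_c (tq_d (tq_e (tq_f (tq_h (tq_a (tq_b (tq_c (tq_d (tq_e (tq_f (tq_h (tq_a (tq_b (tq_c (tq_d (tq_e (tq_f (tq_h (tq_a (tq_b (tq_c (tq_d (tq_e (tq_f (tq_h (tq_a (tq_b (tq_c (tq_d (tq_e (tq_f (tq_h i))))))))))))))))))))))))))))))))))))))))))))))))))))))))))))))) i) 12276 396 = true := by decide +kernel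
theorem exr_1_32 : allFrom (fun i => Nat.ble 31671 i || Nat.beq (tq_a (tq_b (tq_c (tq_d (tq_e (tq_f (tq_h (tq_a (tq_b (tq_c (tq_d (tq_e (tq_f (tq_h (tq_a (tq_b (tq_c (tq_d (tq_e (tq_f (tq_h (tq_a (tq_b (tq_c (tq_d (tq_e (tq_f (tq_h (tq_a (tq_b (tq_c (tq_d (tq_e (tq_f (tq_h (tq_a (tq_b (tq_c (tq_d (tq_e (tq_f (tq_h (tq_a (tq_b (tq_c (tq_d (tq_e (tq_f (tq_h (tq_a (tq_b (tq_c (tq_d (tq_e (tq_f (tq_h (tq_a (tq_b (tq_c (tq_d (tq_e (tq_f (tq_h i))))))))))))))))))))))))))))))))))))))))))))))))))))))))))))))) i) 12672 396 = true := by decide +kernel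
theorem exr_1_33 : allFrom (fun i => Nat.ble 31671 i || Nat.beq (tq_a (tq_b (tq_c (tq_d (tq_e (tq_f (tq_h (tq_a (tq_b (tq_c (tq_d (tq_e (tq_f (tq_h (tq_a (tq_b (tq_c (tq_d (tq_e (tq_f (tq_h (tq_a (tq_b (tq_c (tq_d (tq_e (tq_f (tq_h (tq_a (tq_b (tq_c (tq_d (tq_e (tq_f (tq_h (tq_a (tq_b (tq_c (tq_d (tq_e (tq_f (tq_h (tq_a (tq_b (tq_c (tq_d (tq_e (tq_f (tq_h (tq_a (tq_b (tq_c (tq_d (tq_e (tq_f (tq_h (tq_a (tq_b (tq_c (tq_d (tq_e (tq_f (tq_h i))))))))))))))))))))))))))))))))))))))))))))))))))))))))))))))) i) 13068 396 = true := by decide +kernel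
theorem exr_1_34 : allFrom (fun i => Nat.ble 31671 i || Nat.beq (tq_a (tq_b (tq_c (tq_d (tq_e (tq_f (tq_h (tq_a (tq_b (tq_c (tq_d (tq_e (tq_f (tq_h (tq_a (tq_b (tq_c (tq_d (tq_e (tq_f (tq_h (tq_a (tq_b (tq_c (tq_d (tq_e (tq_f (tq_h (tq_a (tq_b (tq_c (tq_d (tq_e (tq_f (tq_h (tq_a (tq_b (tq_c (tq_d (tq_e (tq_f (tq_h (tq_a (tq_b (tq_c (tq_d (tq_e (tq_f (tq_h (tq_a (tq_b (tq_c (tq_d (tq_e (tq_f (tq_h (tq_a (tq_b (tq_c (tq_d (tq_e (tq_f (tq_h i))))))))))))))))))))))))))))))))))))))))))))))))))))))))))))))) i) 13464 396 = true := by decide +kernel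
theorem exr_1_35 : allFrom (fun i => Nat.ble 31671 i || Nat.beq (tq_a (tq_b (tq_c (tq_d (tq_e (tq_f (tq_h (tq_a (tq_b (tq_c (tq_d (tq_e (tq_f (tq_h (tq_a (tq_b (tq_c (tq_d (tq_e (tq_f (tq_h (tq_a (tq_b (tq_c (tq_d (tq_e (tq_f (tq_h (tq_a (tq_b (tq_c (tq_d (tq_e (tq_f (tq_h (tq_a (tq_b (tq_c (tq_d (tq_e (tq_f (tq_h (tq_a (tq_b (tq_c (tq_d (tq_e (tq_f (tq_h (tq_a (tq_b (tq_c (tq_d (tq_e (tq_f (tq_h (tq_a (tq_b (tq_c (tq_d (tq_e (tq_f (tq_h i))))))))))))))))))))))))))))))))))))))))))))))))))))))))))))))) i) 13860 396 = true := by decide +kernel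
theorem exr_1_36 : allFrom (fun i => Nat.ble 31671 i || Nat.beq (tq_a (tq_b (tq_c (tq_d (tq_e (tq_f (tq_h (tq_a (tq_b (tq_c (tq_d (tq_e (tq_f (tq_h (tq_a (tq_b (tq_c (tq_d (tq_e (tq_f (tq_h (tq_a (tq_b (tq_c (tq_d (tq_e (tq_f (tq_h (tq_a (tq_b (tq_c (tq_d (tq_e (tq_f (tq_h (tq_a (tq_b (tq_c (tq_d (tq_e (tq_f (tq_h (tq_a (tq_b (tq_c (tq_d (tq_e (tq_f (tq_h (tq_a (tq_b (tq_c (tq_d (tq_e (tq_f (tq_h (tq_a (tq_b (tq_c (tq_d (tq_e (tq_f (tq_h i))))))))))))))))))))))))))))))))))))))))))))))))))))))))))))))) i) 14256 396 = true := by decide +kernel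
theorem exr_1_37 : allFrom (fun i => Nat.ble 31671 i || Nat.beq (tq_a (tq_b (tq_c (tq_d (tq_e (tq_f (tq_h (tq_a (tq_b (tq_c (tq_d (tq_e (tq_f (tq_h (tq_a (tq_b (tq_c (tq_d (tq_e (tq_f (tq_h (tq_a (tq_b (tq_c (tq_d (tq_e (tq_f (tq_h (tq_a (tq_b (tq_c (tq_d (tq_e (tq_f (tq_h (tq_a (tq_b (tq_c (tq_d (tq_e (tq_f (tq_h (tq_a (tq_b (tq_c (tq_d (tq_e (tq_f (tq_h (tq_a (tq_b (tq_c (tq_d (tq_e (tq_f (tq_h (tq_a (tq_b (tq_c (tq_d (tq_e (tq_f (tq_h i))))))))))))))))))))))))))))))))))))))))))))))))))))))))))))))) i) 14652 396 = true := by decide +kernel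
theorem exr_1_38 : allFrom (fun i => Nat.ble 31671 i || Nat.beq (tq_a (tq_b (tq_c (tq_d (tq_e (tq_f (tq_h (tq_a (tq_b (tq_c (tq_d (tq_e (tq_f (tq_h (tq_a (tq_b (tq_c (tq_d (tq_e (tq_f (tq_h (tq_a (tq_b (tq_c (tq_d (tq_e (tq_f (tq_h (tq_a (tq_b (tq_c (tq_d (tq_e (tq_f (tq_h (tq_a (tq_b (tq_c (tq_d (tq_e (tq_f (tq_h (tq_a (tq_b (tq_c (tq_d (tq_e (tq_f (tq_h (tq_a (tq_b (tq_c (tq_d (tq_e (tq_f (tq_h (tq_a (tq_b (tq_c (tq_d (tq_e (tq_f (tq_h i))))))))))))))))))))))))))))))))))))))))))))))))))))))))))))))) i) 15048 396 = true := by decide +kernel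
theorem exr_1_39 : allFrom (fun i => Nat.ble 31671 i || Nat.beq (tq_a (tq_b (tq_c (tq_d (tq_e (tq_f (tq_h (tq_a (tq_b (tq_c (tq_d (tq_e (tq_f (tq_h (tq_a (tq_b (tq_c (tq_d (tq_e (tq_f (tq_h (tq_a (tq_b (tq_c (tq_d (tq_e (tq_f (tq_h (tq_a (tq_b (tq_c (tq_d (tq_e (tq_f (tq_h (tq_a (tq_b (tq_c (tq_d (tq_e (tq_f (tq_h (tq_a (tq_b (tq_c (tq_d (tq_e (tq_f (tq_h (tq_a (tq_b (tq_c (tq_d (tq_e (tq_f (tq_h (tq_a (tq_b (tq_c (tq_d (tq_e (tq_f (tq_h i))))))))))))))))))))))))))))))))))))))))))))))))))))))))))))))) i) 15444 396 = true := by decide +kernel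
theorem exr_1_40 : allFrom (fun i => Nat.ble 31671 i || Nat.beq (tq_a (tq_b (tq_c (tq_d (tq_e (tq_f (tq_h (tq_a (tq_b (tq_c (tq_d (tq_e (tq_f (tq_h (tq_a (tq_b (tq_c (tq_d (tq_e (tq_f (tq_h (tq_a (tq_b (tq_c (tq_d (tq_e (tq_f (tq_h (tq_a (tq_b (tq_c (tq_d (tq_e (tq_f (tq_h (tq_a (tq_b (tq_c (tq_d (tq_e (tq_f (tq_h (tq_a (tq_b (tq_c (tq_d (tq_e (tq_f (tq_h (tq_a (tq_b (tq_c (tq_d (tq_e (tq_f (tq_h (tq_a (tq_b (tq_c (tq_d (tq_e (tq_f (tq_h i))))))))))))))))))))))))))))))))))))))))))))))))))))))))))))))) i) 15840 396 = true := by decide +kernel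
theorem exr_1_41 : allFrom (fun i => Nat.ble 31671 i || Nat.beq (tq_a (tq_b (tq_c (tq_d (tq_e (tq_f (tq_h (tq_a (tq_b (tq_c (tq_d (tq_e (tq_f (tq_h (tq_a (tq_b (tq_c (tq_d (tq_e (tq_f (tq_h (tq_a (tq_b (tq_c (tq_d (tq_e (tq_f (tq_h (tq_a (tq_b (tq_c (tq_d (tq_e (tq_f (tq_h (tq_a (tq_b (tq_c (tq_d (tq_e (tq_f (tq_h (tq_a (tq_b (tq_c (tq_d (tq_e (tq_f (tq_h (tq_a (tq_b (tq_c (tq_d (tq_e (tq_f (tq_h (tq_a (tq_b (tq_c (tq_d (tq_e (tq_f (tq_h i))))))))))))))))))))))))))))))))))))))))))))))))))))))))))))))) i) 16236 396 = true := by decide +kernel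
theorem exr_1_42 : allFrom (fun i => Nat.ble 31671 i || Nat.beq (tq_a (tq_b (tq_c (tq_d (tq_e (tq_f (tq_h (tq_a (tq_b (tq_c (tq_d (tq_e (tq_f (tq_h (tq_a (tq_b (tq_c (tq_d (tq_e (tq_f (tq_h (tq_a (tq_b (tq_c (tq_d (tq_e (tq_f (tq_h (tq_a (tq_b (tq_c (tq_d (tq_e (tq_f (tq_h (tq_a (tq_b (tq_c (tq_d (tq_e (tq_f (tq_h (tq_a (tq_b (tq_c (tq_d (tq_e (tq_f (tq_h (tq_a (tq_b (tq_c (tq_d (tq_e (tq_f (tq_h (tq_a (tq_b (tq_c (tq_d (tq_e (tq_f (tq_h i))))))))))))))))))))))))))))))))))))))))))))))))))))))))))))))) i) 16632 396 = true := by decide +kernel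
theorem exr_1_43 : allFrom (fun i => Nat.ble 31671 i || Nat.beq (tq_a (tq_b (tq_c (tq_d (tq_e (tq_f (tq_h (tq_a (tq_b (tq_c (tq_d (tq_e (tq_f (tq_h (tq_a (tq_b (tq_c (tq_d (tq_e (tq_f (tq_h (tq_a (tq_b (tq_c (tq_d (tq_e (tq_f (tq_h (tq_a (tq_b (tq_c (tq_d (tq_e (tq_f (tq_h (tq_a (tq_b (tq_c (tq_d (tq_e (tq_f (tq_h (tq_a (tq_b (tq_c (tq_d (tq_e (tq_f (tq_h (tq_a (tq_b (tq_c (tq_d (tq_e (tq_f (tq_h (tq_a (tq_b (tq_c (tq_d (tq_e (tq_f (tq_h i))))))))))))))))))))))))))))))))))))))))))))))))))))))))))))))) i) 17028 396 = true := by decide +kernel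
theorem exr_1_44 : allFrom (fun i => Nat.ble 31671 i || Nat.beq (tq_a (tq_b (tq_c (tq_d (tq_e (tq_f (tq_h (tq_a (tq_b (tq_c (tq_d (tq_e (tq_f (tq_h (tq_a (tq_b (tq_c (tq_d (tq_e (tq_f (tq_h (tq_a (tq_b (tq_c (tq_d (tq_e (tq_f (tq_h (tq_a (tq_b (tq_c (tq_d (tq_e (tq_f (tq_h (tq_a (tq_b (tq_c (tq_d (tq_e (tq_f (tq_h (tq_a (tq_b (tq_c (tq_d (tq_e (tq_f (tq_h (tq_a (tq_b (tq_c (tq_d (tq_e (tq_f (tq_h (tq_a (tq_b (tq_c (tq_d (tq_e (tq_f (tq_h i))))))))))))))))))))))))))))))))))))))))))))))))))))))))))))))) i) 17424 396 = true := by decide +kernel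
theorem exr_1_45 : allFrom (fun i => Nat.ble 31671 i || Nat.beq (tq_a (tq_b (tq_c (tq_d (tq_e (tq_f (tq_h (tq_a (tq_b (tq_c (tq_d (tq_e (tq_f (tq_h (tq_a (tq_b (tq_c (tq_d (tq_e (tq_f (tq_h (tq_a (tq_b (tq_c (tq_d (tq_e (tq_f (tq_h (tq_a (tq_b (tq_c (tq_d (tq_e (tq_f (tq_h (tq_a (tq_b (tq_c (tq_d (tq_e (tq_f (tq_h (tq_a (tq_b (tq_c (tq_d (tq_e (tq_f (tq_h (tq_a (tq_b (tq_c (tq_d (tq_e (tq_f (tq_h (tq_a (tq_b (tq_c (tq_d (tq_e (tq_f (tq_h i))))))))))))))))))))))))))))))))))))))))))))))))))))))))))))))) i) 17820 396 = true := by decide +kernel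
theorem exr_1_46 : allFrom (fun i => Nat.ble 31671 i || Nat.beq (tq_a (tq_b (tq_c (tq_d (tq_e (tq_f (tq_h (tq_a (tq_b (tq_c (tq_d (tq_e (tq_f (tq_h (tq_a (tq_b (tq_c (tq_d (tq_e (tq_f (tq_h (tq_a (tq_b (tq_c (tq_d (tq_e (tq_f (tq_h (tq_a (tq_b (tq_c (tq_d (tq_e (tq_f (tq_h (tq_a (tq_b (tq_c (tq_d (tq_e (tq_f (tq_h (tq_a (tq_b (tq_c (tq_d (tq_e (tq_f (tq_h (tq_a (tq_b (tq_c (tq_d (tq_e (tq_f (tq_h (tq_a (tq_b (tq_c (tq_d (tq_e (tq_f (tq_h i))))))))))))))))))))))))))))))))))))))))))))))))))))))))))))))) i) 18216 396 = true := by decide +kernel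
theorem exr_1_47 : allFrom (fun i => Nat.ble 31671 i || Nat.beq (tq_a (tq_b (tq_c (tq_d (tq_e (tq_f (tq_h (tq_a (tq_b (tq_c (tq_d (tq_e (tq_f (tq_h (tq_a (tq_b (tq_c (tq_d (tq_e (tq_f (tq_h (tq_a (tq_b (tq_c (tq_d (tq_e (tq_f (tq_h (tq_a (tq_b (tq_c (tq_d (tq_e (tq_f (tq_h (tq_a (tq_b (tq_c (tq_d (tq_e (tq_f (tq_h (tq_a (tq_b (tq_c (tq_d (tq_e (tq_f (tq_h (tq_a (tq_b (tq_c (tq_d (tq_e (tq_f (tq_h (tq_a (tq_b (tq_c (tq_d (tq_e (tq_f (tq_h i))))))))))))))))))))))))))))))))))))))))))))))))))))))))))))))) i) 18612 396 = true := by decide +kernel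
theorem exr_1_48 : allFrom (fun i => Nat.ble 31671 i || Nat.beq (tq_a (tq_b (tq_c (tq_d (tq_e (tq_f (tq_h (tq_a (tq_b (tq_c (tq_d (tq_e (tq_f (tq_h (tq_a (tq_b (tq_c (tq_d (tq_e (tq_f (tq_h (tq_a (tq_b (tq_c (tq_d (tq_e (tq_f (tq_h (tq_a (tq_b (tq_c (tq_d (tq_e (tq_f (tq_h (tq_a (tq_b (tq_c (tq_d (tq_e (tq_f (tq_h (tq_a (tq_b (tq_c (tq_d (tq_e (tq_f (tq_h (tq_a (tq_b (tq_c (tq_d (tq_e (tq_f (tq_h (tq_a (tq_b (tq_c (tq_d (tq_e (tq_f (tq_h i))))))))))))))))))))))))))))))))))))))))))))))))))))))))))))))) i) 19008 396 = true := by decide +kernel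
theorem exr_1_49 : allFrom (fun i => Nat.ble 31671 i || Nat.beq (tq_a (tq_b (tq_c (tq_d (tq_e (tq_f (tq_h (tq_a (tq_b (tq_c (tq_d (tq_e (tq_f (tq_h (tq_a (tq_b (tq_c (tq_d (tq_e (tq_f (tq_h (tq_a (tq_b (tq_c (tq_d (tq_e (tq_f (tq_h (tq_a (tq_b (tq_c (tq_d (tq_e (tq_f (tq_h (tq_a (tq_b (tq_c (tq_d (tq_e (tq_f (tq_h (tq_a (tq_b (tq_c (tq_d (tq_e (tq_f (tq_h (tq_a (tq_b (tq_c (tq_d (tq_e (tq_f (tq_h (tq_a (tq_b (tq_c (tq_d (tq_e (tq_f (tq_h i))))))))))))))))))))))))))))))))))))))))))))))))))))))))))))))) i) 19404 396 = true := by decide +kernel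
theorem exr_1_50 : allFrom (fun i => Nat.ble 31671 i || Nat.beq (tq_a (tq_b (tq_c (tq_d (tq_e (tq_f (tq_h (tq_a (tq_b (tq_c (tq_d (tq_e (tq_f (tq_h (tq_a (tq_b (tq_c (tq_d (tq_e (tq_f (tq_h (tq_a (tq_b (tq_c (tq_d (tq_e (tq_f (tq_h (tq_a (tq_b (tq_c (tq_d (tq_e (tq_f (tq_h (tq_a (tq_b (tq_c (tq_d (tq_e (tq_f (tq_h (tq_a (tq_b (tq_c (tq_d (tq_e (tq_f (tq_h (tq_a (tq_b (tq_c (tq_d (tq_e (tq_f (tq_h (tq_a (tq_b (tq_c (tq_d (tq_e (tq_f (tq_h i))))))))))))))))))))))))))))))))))))))))))))))))))))))))))))))) i) 19800 396 = true := by decide +kernel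
theorem exr_1_51 : allFrom (fun i => Nat.ble 31671 i || Nat.beq (tq_a (tq_b (tq_c (tq_d (tq_e (tq_f (tq_h (tq_a (tq_b (tq_c (tq_d (tq_e (tq_f (tq_h (tq_a (tq_b (tq_c (tq_d (tq_e (tq_f (tq_h (tq_a (tq_b (tq_c (tq_d (tq_e (tq_f (tq_h (tq_a (tq_b (tq_c (tq_d (tq_e (tq_f (tq_h (tq_a (tq_b (tq_c (tq_d (tq_e (tq_f (tq_h (tq_a (tq_b (tq_c (tq_d (tq_e (tq_f (tq_h (tq_a (tq_b (tq_c (tq_d (tq_e (tq_f (tq_h (tq_a (tq_b (tq_c (tq_d (tq_e (tq_f (tq_h i))))))))))))))))))))))))))))))))))))))))))))))))))))))))))))))) i) 20196 396 = true := by decide +kernel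
theorem exr_1_52 : allFrom (fun i => Nat.ble 31671 i || Nat.beq (tq_a (tq_b (tq_c (tq_d (tq_e (tq_f (tq_h (tq_a (tq_b (tq_c (tq_d (tq_e (tq_f (tq_h (tq_a (tq_b (tq_c (tq_d (tq_e (tq_f (tq_h (tq_a (tq_b (tq_c (tq_d (tq_e (tq_f (tq_h (tq_a (tq_b (tq_c (tq_d (tq_e (tq_f (tq_h (tq_a (tq_b (tq_c (tq_d (tq_e (tq_f (tq_h (tq_a (tq_b (tq_c (tq_d (tq_e (tq_f (tq_h (tq_a (tq_b (tq_c (tq_d (tq_e (tq_f (tq_h (tq_a (tq_b (tq_c (tq_d (tq_e (tq_f (tq_h i))))))))))))))))))))))))))))))))))))))))))))))))))))))))))))))) i) 20592 396 = true := by decide +kernel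
theorem exr_1_53 : allFrom (fun i => Nat.ble 31671 i || Nat.beq (tq_a (tq_b (tq_c (tq_d (tq_e (tq_f (tq_h (tq_a (tq_b (tq_c (tq_d (tq_e (tq_f (tq_h (tq_a (tq_b (tq_c (tq_d (tq_e (tq_f (tq_h (tq_a (tq_b (tq_c (tq_d (tq_e (tq_f (tq_h (tq_a (tq_b (tq_c (tq_d (tq_e (tq_f (tq_h (tq_a (tq_b (tq_c (tq_d (tq_e (tq_f (tq_h (tq_a (tq_b (tq_c (tq_d (tq_e (tq_f (tq_h (tq_a (tq_b (tq_c (tq_d (tq_e (tq_f (tq_h (tq_a (tq_b (tq_c (tq_d (tq_e (tq_f (tq_h i))))))))))))))))))))))))))))))))))))))))))))))))))))))))))))))) i) 20988 396 = true := by decide +kernel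
theorem exr_1_54 : allFrom (fun i => Nat.ble 31671 i || Nat.beq (tq_a (tq_b (tq_c (tq_d (tq_e (tq_f (tq_h (tq_a (tq_b (tq_c (tq_d (tq_e (tq_f (tq_h (tq_a (tq_b (tq_c (tq_d (tq_e (tq_f (tq_h (tq_a (tq_b (tq_c (tq_d (tq_e (tq_f (tq_h (tq_a (tq_b (tq_c (tq_d (tq_e (tq_f (tq_h (tq_a (tq_b (tq_c (tq_d (tq_e (tq_f (tq_h (tq_a (tq_b (tq_c (tq_d (tq_e (tq_f (tq_h (tq_a (tq_b (tq_c (tq_d (tq_e (tq_f (tq_h (tq_a (tq_b (tq_c (tq_d (tq_e (tq_f (tq_h i))))))))))))))))))))))))))))))))))))))))))))))))))))))))))))))) i) 21384 396 = true := by decide +kernel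
theorem exr_1_55 : allFrom (fun i => Nat.ble 31671 i || Nat.beq (tq_a (tq_b (tq_c (tq_d (tq_e (tq_f (tq_h (tq_a (tq_b (tq_c (tq_d (tq_e (tq_f (tq_h (tq_a (tq_b (tq_c (tq_d (tq_e (tq_f (tq_h (tq_a (tq_b (tq_c (tq_d (tq_e (tq_f (tq_h (tq_a (tq_b (tq_c (tq_d (tq_e (tq_f (tq_h (tq_a (tq_b (tq_c (tq_d (tq_e (tq_f (tq_h (tq_a (tq_b (tq_c (tq_d (tq_e (tq_f (tq_h (tq_a (tq_b (tq_c (tq_d (tq_e (tq_f (tq_h (tq_a (tq_b (tq_c (tq_d (tq_e (tq_f (tq_h i))))))))))))))))))))))))))))))))))))))))))))))))))))))))))))))) i) 21780 396 = true := by decide +kernel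
theorem exr_1_56 : allFrom (fun i => Nat.ble 31671 i || Nat.beq (tq_a (tq_b (tq_c (tq_d (tq_e (tq_f (tq_h (tq_a (tq_b (tq_c (tq_d (tq_e (tq_f (tq_h (tq_a (tq_b (tq_c (tq_d (tq_e (tq_f (tq_h (tq_a (tq_b (tq_c (tq_d (tq_e (tq_f (tq_h (tq_a (tq_b (tq_c (tq_d (tq_e (tq_f (tq_h (tq_a (tq_b (tq_c (tq_d (tq_e (tq_f (tq_h (tq_a (tq_b (tq_c (tq_d (tq_e (tq_f (tq_h (tq_a (tq_b (tq_c (tq_d (tq_e (tq_f (tq_h (tq_a (tq_b (tq_c (tq_d (tq_e (tq_f (tq_h i))))))))))))))))))))))))))))))))))))))))))))))))))))))))))))))) i) 22176 396 = true := by decide +kernel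
theorem exr_1_57 : allFrom (fun i => Nat.ble 31671 i || Nat.beq (tq_a (tq_b (tq_c (tq_d (tq_e (tq_f (tq_h (tq_a (tq_b (tq_c (tq_d (tq_e (tq_f (tq_h (tq_a (tq_b (tq_c (tq_d (tq_e (tq_f (tq_h (tq_a (tq_b (tq_c (tq_d (tq_e (tq_f (tq_h (tq_a (tq_b (tq_c (tq_d (tq_e (tq_f (tq_h (tq_a (tq_b (tq_c (tq_d (tq_e (tq_f (tq_h (tq_a (tq_b (tq_c (tq_d (tq_e (tq_f (tq_h (tq_a (tq_b (tq_c (tq_d (tq_e (tq_f (tq_h (tq_a (tq_b (tq_c (tq_d (tq_e (tq_f (tq_h i))))))))))))))))))))))))))))))))))))))))))))))))))))))))))))))) i) 22572 396 = true := by decide +kernel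
theorem exr_1_58 : allFrom (fun i => Nat.ble 31671 i || Nat.beq (tq_a (tq_b (tq_c (tq_d (tq_e (tq_f (tq_h (tq_a (tq_b (tq_c (tq_d (tq_e (tq_f (tq_h (tq_a (tq_b (tq_c (tq_d (tq_e (tq_f (tq_h (tq_a (tq_b (tq_c (tq_d (tq_e (tq_f (tq_h (tq_a (tq_b (tq_c (tq_d (tq_e (tq_f (tq_h (tq_a (tq_b (tq_c (tq_d (tq_e (tq_f (tq_h (tq_a (tq_b (tq_c (tq_d (tq_e (tq_f (tq_h (tq_a (tq_b (tq_c (tq_d (tq_e (tq_f (tq_h (tq_a (tq_b (tq_c (tq_d (tq_e (tq_f (tq_h i))))))))))))))))))))))))))))))))))))))))))))))))))))))))))))))) i) 22968 396 = true := by decide +kernel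
theorem exr_1_59 : allFrom (fun i => Nat.ble 31671 i || Nat.beq (tq_a (tq_b (tq_c (tq_d (tq_e (tq_f (tq_h (tq_a (tq_b (tq_c (tq_d (tq_e (tq_f (tq_h (tq_a (tq_b (tq_c (tq_d (tq_e (tq_f (tq_h (tq_a (tq_b (tq_c (tq_d (tq_e (tq_f (tq_h (tq_a (tq_b (tq_c (tq_d (tq_e (tq_f (tq_h (tq_a (tq_b (tq_c (tq_d (tq_e (tq_f (tq_h (tq_a (tq_b (tq_c (tq_d (tq_e (tq_f (tq_h (tq_a (tq_b (tq_c (tq_d (tq_e (tq_f (tq_h (tq_a (tq_b (tq_c (tq_d (tq_e (tq_f (tq_h i))))))))))))))))))))))))))))))))))))))))))))))))))))))))))))))) i) 23364 396 = true := by decide +kernel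
theorem exr_1_60 : allFrom (fun i => Nat.ble 31671 i || Nat.beq (tq_a (tq_b (tq_c (tq_d (tq_e (tq_f (tq_h (tq_a (tq_b (tq_c (tq_d (tq_e (tq_f (tq_h (tq_a (tq_b (tq_c (tq_d (tq_e (tq_f (tq_h (tq_a (tq_b (tq_c (tq_d (tq_e (tq_f (tq_h (tq_a (tq_b (tq_c (tq_d (tq_e (tq_f (tq_h (tq_a (tq_b (tq_c (tq_d (tq_e (tq_f (tq_h (tq_a (tq_b (tq_c (tq_d (tq_e (tq_f (tq_h (tq_a (tq_b (tq_c (tq_d (tq_e (tq_f (tq_h (tq_a (tq_b (tq_c (tq_d (tq_e (tq_f (tq_h i))))))))))))))))))))))))))))))))))))))))))))))))))))))))))))))) i) 23760 396 = true := by decide +kernel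
theorem exr_1_61 : allFrom (fun i => Nat.ble 31671 i || Nat.beq (tq_a (tq_b (tq_c (tq_d (tq_e (tq_f (tq_h (tq_a (tq_b (tq_c (tq_d (tq_e (tq_f (tq_h (tq_a (tq_b (tq_c (tq_d (tq_e (tq_f (tq_h (tq_a (tq_b (tq_c (tq_d (tq_e (tq_f (tq_h (tq_a (tq_b (tq_c (tq_d (tq_e (tq_f (tq_h (tq_a (tq_b (tq_c (tq_d (tq_e (tq_f (tq_h (tq_a (tq_b (tq_c (tq_d (tq_e (tq_f (tq_h (tq_a (tq_b (tq_c (tq_d (tq_e (tq_f (tq_h (tq_a (tq_b (tq_c (tq_d (tq_e (tq_f (tq_h i))))))))))))))))))))))))))))))))))))))))))))))))))))))))))))))) i) 24156 396 = true := by decide +kernel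
theorem exr_1_62 : allFrom (fun i => Nat.ble 31671 i || Nat.beq (tq_a (tq_b (tq_c (tq_d (tq_e (tq_f (tq_h (tq_a (tq_b (tq_c (tq_d (tq_e (tq_f (tq_h (tq_a (tq_b (tq_c (tq_d (tq_e (tq_f (tq_h (tq_a (tq_b (tq_c (tq_d (tq_e (tq_f (tq_h (tq_a (tq_b (tq_c (tq_d (tq_e (tq_f (tq_h (tq_a (tq_b (tq_c (tq_d (tq_e (tq_f (tq_h (tq_a (tq_b (tq_c (tq_d (tq_e (tq_f (tq_h (tq_a (tq_b (tq_c (tq_d (tq_e (tq_f (tq_h (tq_a (tq_b (tq_c (tq_d (tq_e (tq_f (tq_h i))))))))))))))))))))))))))))))))))))))))))))))))))))))))))))))) i) 24552 396 = true := by decide +kernel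
theorem exr_1_63 : allFrom (fun i => Nat.ble 31671 i || Nat.beq (tq_a (tq_b (tq_c (tq_d (tq_e (tq_f (tq_h (tq_a (tq_b (tq_c (tq_d (tq_e (tq_f (tq_h (tq_a (tq_b (tq_c (tq_d (tq_e (tq_f (tq_h (tq_a (tq_b (tq_c (tq_d (tq_e (tq_f (tq_h (tq_a (tq_b (tq_c (tq_d (tq_e (tq_f (tq_h (tq_a (tq_b (tq_c (tq_d (tq_e (tq_f (tq_h (tq_a (tq_b (tq_c (tq_d (tq_e (tq_f (tq_h (tq_a (tq_b (tq_c (tq_d (tq_e (tq_f (tq_h (tq_a (tq_b (tq_c (tq_d (tq_e (tq_f (tq_h i))))))))))))))))))))))))))))))))))))))))))))))))))))))))))))))) i) 24948 396 = true := by decide +kernel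
theorem exr_1_64 : allFrom (fun i => Nat.ble 31671 i || Nat.beq (tq_a (tq_b (tq_c (tq_d (tq_e (tq_f (tq_h (tq_a (tq_b (tq_c (tq_d (tq_e (tq_f (tq_h (tq_a (tq_b (tq_c (tq_d (tq_e (tq_f (tq_h (tq_a (tq_b (tq_c (tq_d (tq_e (tq_f (tq_h (tq_a (tq_b (tq_c (tq_d (tq_e (tq_f (tq_h (tq_a (tq_b (tq_c (tq_d (tq_e (tq_f (tq_h (tq_a (tq_b (tq_c (tq_d (tq_e (tq_f (tq_h (tq_a (tq_b (tq_c (tq_d (tq_e (tq_f (tq_h (tq_a (tq_b (tq_c (tq_d (tq_e (tq_f (tq_h i))))))))))))))))))))))))))))))))))))))))))))))))))))))))))))))) i) 25344 396 = true := by decide +kernel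
theorem exr_1_65 : allFrom (fun i => Nat.ble 31671 i || Nat.beq (tq_a (tq_b (tq_c (tq_d (tq_e (tq_f (tq_h (tq_a (tq_b (tq_c (tq_d (tq_e (tq_f (tq_h (tq_a (tq_b (tq_c (tq_d (tq_e (tq_f (tq_h (tq_a (tq_b (tq_c (tq_d (tq_e (tq_f (tq_h (tq_a (tq_b (tq_c (tq_d (tq_e (tq_f (tq_h (tq_a (tq_b (tq_c (tq_d (tq_e (tq_f (tq_h (tq_a (tq_b (tq_c (tq_d (tq_e (tq_f (tq_h (tq_a (tq_b (tq_c (tq_d (tq_e (tq_f (tq_h (tq_a (tq_b (tq_c (tq_d (tq_e (tq_f (tq_h i))))))))))))))))))))))))))))))))))))))))))))))))))))))))))))))) i) 25740 396 = true := by decide +kernel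
theorem exr_1_66 : allFrom (fun i => Nat.ble 31671 i || Nat.beq (tq_a (tq_b (tq_c (tq_d (tq_e (tq_f (tq_h (tq_a (tq_b (tq_c (tq_d (tq_e (tq_f (tq_h (tq_a (tq_b (tq_c (tq_d (tq_e (tq_f (tq_h (tq_a (tq_b (tq_c (tq_d (tq_e (tq_f (tq_h (tq_a (tq_b (tq_c (tq_d (tq_e (tq_f (tq_h (tq_a (tq_b (tq_c (tq_d (tq_e (tq_f (tq_h (tq_a (tq_b (tq_c (tq_d (tq_e (tq_f (tq_h (tq_a (tq_b (tq_c (tq_d (tq_e (tq_f (tq_h (tq_a (tq_b (tq_c (tq_d (tq_e (tq_f (tq_h i))))))))))))))))))))))))))))))))))))))))))))))))))))))))))))))) i) 26136 396 = true := by decide +kernel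
theorem exr_1_67 : allFrom (fun i => Nat.ble 31671 i || Nat.beq (tq_a (tq_b (tq_c (tq_d (tq_e (tq_f (tq_h (tq_a (tq_b (tq_c (tq_d (tq_e (tq_f (tq_h (tq_a (tq_b (tq_c (tq_d (tq_e (tq_f (tq_h (tq_a (tq_b (tq_c (tq_d (tq_e (tq_f (tq_h (tq_a (tq_b (tq_c (tq_d (tq_e (tq_f (tq_h (tq_a (tq_b (tq_c (tq_d (tq_e (tq_f (tq_h (tq_a (tq_b (tq_c (tq_d (tq_e (tq_f (tq_h (tq_a (tq_b (tq_c (tq_d (tq_e (tq_f (tq_h (tq_a (tq_b (tq_c (tq_d (tq_e (tq_f (tq_h i))))))))))))))))))))))))))))))))))))))))))))))))))))))))))))))) i) 26532 396 = true := by decide +kernel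
theorem exr_1_68 : allFrom (fun i => Nat.ble 31671 i || Nat.beq (tq_a (tq_b (tq_c (tq_d (tq_e (tq_f (tq_h (tq_a (tq_b (tq_c (tq_d (tq_e (tq_f (tq_h (tq_a (tq_b (tq_c (tq_d (tq_e (tq_f (tq_h (tq_a (tq_b (tq_c (tq_d (tq_e (tq_f (tq_h (tq_a (tq_b (tq_c (tq_d (tq_e (tq_f (tq_h (tq_a (tq_b (tq_c (tq_d (tq_e (tq_f (tq_h (tq_a (tq_b (tq_c (tq_d (tq_e (tq_f (tq_h (tq_a (tq_b (tq_c (tq_d (tq_e (tq_f (tq_h (tq_a (tq_b (tq_c (tq_d (tq_e (tq_f (tq_h i))))))))))))))))))))))))))))))))))))))))))))))))))))))))))))))) i) 26928 396 = true := by decide +kernel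
theorem exr_1_69 : allFrom (fun i => Nat.ble 31671 i || Nat.beq (tq_a (tq_b (tq_c (tq_d (tq_e (tq_f (tq_h (tq_a (tq_b (tq_c (tq_d (tq_e (tq_f (tq_h (tq_a (tq_b (tq_c (tq_d (tq_e (tq_f (tq_h (tq_a (tq_b (tq_c (tq_d (tq_e (tq_f (tq_h (tq_a (tq_b (tq_c (tq_d (tq_e (tq_f (tq_h (tq_a (tq_b (tq_c (tq_d (tq_e (tq_f (tq_h (tq_a (tq_b (tq_c (tq_d (tq_e (tq_f (tq_h (tq_a (tq_b (tq_c (tq_d (tq_e (tq_f (tq_h (tq_a (tq_b (tq_c (tq_d (tq_e (tq_f (tq_h i))))))))))))))))))))))))))))))))))))))))))))))))))))))))))))))) i) 27324 396 = true := by decide +kernel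
theorem exr_1_70 : allFrom (fun i => Nat.ble 31671 i || Nat.beq (tq_a (tq_b (tq_c (tq_d (tq_e (tq_f (tq_h (tq_a (tq_b (tq_c (tq_d (tq_e (tq_f (tq_h (tq_a (tq_b (tq_c (tq_d (tq_e (tq_f (tq_h (tq_a (tq_b (tq_c (tq_d (tq_e (tq_f (tq_h (tq_a (tq_b (tq_c (tq_d (tq_e (tq_f (tq_h (tq_a (tq_b (tq_c (tq_d (tq_e (tq_f (tq_h (tq_a (tq_b (tq_c (tq_d (tq_e (tq_f (tq_h (tq_a (tq_b (tq_c (tq_d (tq_e (tq_f (tq_h (tq_a (tq_b (tq_c (tq_d (tq_e (tq_f (tq_h i))))))))))))))))))))))))))))))))))))))))))))))))))))))))))))))) i) 27720 396 = true := by decide +kernel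
theorem exr_1_71 : allFrom (fun i => Nat.ble 31671 i || Nat.beq (tq_a (tq_b (tq_c (tq_d (tq_e (tq_f (tq_h (tq_a (tq_b (tq_c (tq_d (tq_e (tq_f (tq_h (tq_a (tq_b (tq_c (tq_d (tq_e (tq_f (tq_h (tq_a (tq_b (tq_c (tq_d (tq_e (tq_f (tq_h (tq_a (tq_b (tq_c (tq_d (tq_e (tq_f (tq_h (tq_a (tq_b (tq_c (tq_d (tq_e (tq_f (tq_h (tq_a (tq_b (tq_c (tq_d (tq_e (tq_f (tq_h (tq_a (tq_b (tq_c (tq_d (tq_e (tq_f (tq_h (tq_a (tq_b (tq_c (tq_d (tq_e (tq_f (tq_h i))))))))))))))))))))))))))))))))))))))))))))))))))))))))))))))) i) 28116 396 = true := by decide +kernel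
theorem exr_1_72 : allFrom (fun i => Nat.ble 31671 i || Nat.beq (tq_a (tq_b (tq_c (tq_d (tq_e (tq_f (tq_h (tq_a (tq_b (tq_c (tq_d (tq_e (tq_f (tq_h (tq_a (tq_b (tq_c (tq_d (tq_e (tq_f (tq_h (tq_a (tq_b (tq_c (tq_d (tq_e (tq_f (tq_h (tq_a (tq_b (tq_c (tq_d (tq_e (tq_f (tq_h (tq_a (tq_b (tq_c (tq_d (tq_e (tq_f (tq_h (tq_a (tq_b (tq_c (tq_d (tq_e (tq_f (tq_h (tq_a (tq_b (tq_c (tq_d (tq_e (tq_f (tq_h (tq_a (tq_b (tq_c (tq_d (tq_e (tq_f (tq_h i))))))))))))))))))))))))))))))))))))))))))))))))))))))))))))))) i) 28512 396 = true := by decide +kernel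
theorem exr_1_73 : allFrom (fun i => Nat.ble 31671 i || Nat.beq (tq_a (tq_b (tq_c (tq_d (tq_e (tq_f (tq_h (tq_a (tq_b (tq_c (tq_d (tq_e (tq_f (tq_h (tq_a (tq_b (tq_c (tq_d (tq_e (tq_f (tq_h (tq_a (tq_b (tq_c (tq_d (tq_e (tq_f (tq_h (tq_a (tq_b (tq_c (tq_d (tq_e (tq_f (tq_h (tq_a (tq_b (tq_c (tq_d (tq_e (tq_f (tq_h (tq_a (tq_b (tq_c (tq_d (tq_e (tq_f (tq_h (tq_a (tq_b (tq_c (tq_d (tq_e (tq_f (tq_h (tq_a (tq_b (tq_c (tq_d (tq_e (tq_f (tq_h i))))))))))))))))))))))))))))))))))))))))))))))))))))))))))))))) i) 28908 396 = true := by decide +kernel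
theorem exr_1_74 : allFrom (fun i => Nat.ble 31671 i || Nat.beq (tq_a (tq_b (tq_c (tq_d (tq_e (tq_f (tq_h (tq_a (tq_b (tq_c (tq_d (tq_e (tq_f (tq_h (tq_a (tq_b (tq_c (tq_d (tq_e (tq_f (tq_h (tq_a (tq_b (tq_c (tq_d (tq_e (tq_f (tq_h (tq_a (tq_b (tq_c (tq_d (tq_e (tq_f (tq_h (tq_a (tq_b (tq_c (tq_d (tq_e (tq_f (tq_h (tq_a (tq_b (tq_c (tq_d (tq_e (tq_f (tq_h (tq_a (tq_b (tq_c (tq_d (tq_e (tq_f (tq_h (tq_a (tq_b (tq_c (tq_d (tq_e (tq_f (tq_h i))))))))))))))))))))))))))))))))))))))))))))))))))))))))))))))) i) 29304 396 = true := by decide +kernel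
theorem exr_1_75 : allFrom (fun i => Nat.ble 31671 i || Nat.beq (tq_a (tq_b (tq_c (tq_d (tq_e (tq_f (tq_h (tq_a (tq_b (tq_c (tq_d (tq_e (tq_f (tq_h (tq_a (tq_b (tq_c (tq_d (tq_e (tq_f (tq_h (tq_a (tq_b (tq_c (tq_d (tq_e (tq_f (tq_h (tq_a (tq_b (tq_c (tq_d (tq_e (tq_f (tq_h (tq_a (tq_b (tq_c (tq_d (tq_e (tq_f (tq_h (tq_a (tq_b (tq_c (tq_d (tq_e (tq_f (tq_h (tq_a (tq_b (tq_c (tq_d (tq_e (tq_f (tq_h (tq_a (tq_b (tq_c (tq_d (tq_e (tq_f (tq_h i))))))))))))))))))))))))))))))))))))))))))))))))))))))))))))))) i) 29700 396 = true := by decide +kernel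
theorem exr_1_76 : allFrom (fun i => Nat.ble 31671 i || Nat.beq (tq_a (tq_b (tq_c (tq_d (tq_e (tq_f (tq_h (tq_a (tq_b (tq_c (tq_d (tq_e (tq_f (tq_h (tq_a (tq_b (tq_c (tq_d (tq_e (tq_f (tq_h (tq_a (tq_b (tq_c (tq_d (tq_e (tq_f (tq_h (tq_a (tq_b (tq_c (tq_d (tq_e (tq_f (tq_h (tq_a (tq_b (tq_c (tq_d (tq_e (tq_f (tq_h (tq_a (tq_b (tq_c (tq_d (tq_e (tq_f (tq_h (tq_a (tq_b (tq_c (tq_d (tq_e (tq_f (tq_h (tq_a (tq_b (tq_c (tq_d (tq_e (tq_f (tq_h i))))))))))))))))))))))))))))))))))))))))))))))))))))))))))))))) i) 30096 396 = true := by decide +kernel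
theorem exr_1_77 : allFrom (fun i => Nat.ble 31671 i || Nat.beq (tq_a (tq_b (tq_c (tq_d (tq_e (tq_f (tq_h (tq_a (tq_b (tq_c (tq_d (tq_e (tq_f (tq_h (tq_a (tq_b (tq_c (tq_d (tq_e (tq_f (tq_h (tq_a (tq_b (tq_c (tq_d (tq_e (tq_f (tq_h (tq_a (tq_b (tq_c (tq_d (tq_e (tq_f (tq_h (tq_a (tq_b (tq_c (tq_d (tq_e (tq_f (tq_h (tq_a (tq_b (tq_c (tq_d (tq_e (tq_f (tq_h (tq_a (tq_b (tq_c (tq_d (tq_e (tq_f (tq_h (tq_a (tq_b (tq_c (tq_d (tq_e (tq_f (tq_h i))))))))))))))))))))))))))))))))))))))))))))))))))))))))))))))) i) 30492 396 = true := by decide +kernel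
theorem exr_1_78 : allFrom (fun i => Nat.ble 31671 i || Nat.beq (tq_a (tq_b (tq_c (tq_d (tq_e (tq_f (tq_h (tq_a (tq_b (tq_c (tq_d (tq_e (tq_f (tq_h (tq_a (tq_b (tq_c (tq_d (tq_e (tq_f (tq_h (tq_a (tq_b (tq_c (tq_d (tq_e (tq_f (tq_h (tq_a (tq_b (tq_c (tq_d (tq_e (tq_f (tq_h (tq_a (tq_b (tq_c (tq_d (tq_e (tq_f (tq_h (tq_a (tq_b (tq_c (tq_d (tq_e (tq_f (tq_h (tq_a (tq_b (tq_c (tq_d (tq_e (tq_f (tq_h (tq_a (tq_b (tq_c (tq_d (tq_e (tq_f (tq_h i))))))))))))))))))))))))))))))))))))))))))))))))))))))))))))))) i) 30888 396 = true := by decide +kernel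
theorem exr_1_79 : allFrom (fun i => Nat.ble 31671 i || Nat.beq (tq_a (tq_b (tq_c (tq_d (tq_e (tq_f (tq_h (tq_a (tq_b (tq_c (tq_d (tq_e (tq_f (tq_h (tq_a (tq_b (tq_c (tq_d (tq_e (tq_f (tq_h (tq_a (tq_b (tq_c (tq_d (tq_e (tq_f (tq_h (tq_a (tq_b (tq_c (tq_d (tq_e (tq_f (tq_h (tq_a (tq_b (tq_c (tq_d (tq_e (tq_f (tq_h (tq_a (tq_b (tq_c (tq_d (tq_e (tq_f (tq_h (tq_a (tq_b (tq_c (tq_d (tq_e (tq_f (tq_h (tq_a (tq_b (tq_c (tq_d (tq_e (tq_f (tq_h i))))))))))))))))))))))))))))))))))))))))))))))))))))))))))))))) i) 31284 396 = true := by decide +kernel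
theorem exr_1 : ∀ i, i < 31671 → (Nat.beq (tq_a (tq_b (tq_c (tq_d (tq_e (tq_f (tq_h (tq_a (tq_b (tq_c (tq_d (tq_e (tq_f (tq_h (tq_a (tq_b (tq_c (tq_d (tq_e (tq_f (tq_h (tq_a (tq_b (tq_c (tq_d (tq_e (tq_f (tq_h (tq_a (tq_b (tq_c (tq_d (tq_e (tq_f (tq_h (tq_a (tq_b (tq_c (tq_d (tq_e (tq_f (tq_h (tq_a (tq_b (tq_c (tq_d (tq_e (tq_f (tq_h (tq_a (tq_b (tq_c (tq_d (tq_e (tq_f (tq_h (tq_a (tq_b (tq_c (tq_d (tq_e (tq_f (tq_h i))))))))))))))))))))))))))))))))))))))))))))))))))))))))))))))) i) = true :=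
  blocks_lt (fun i => Nat.beq (tq_a (tq_b (tq_c (tq_d (tq_e (tq_f (tq_h (tq_a (tq_b (tq_c (tq_d (tq_e (tq_f (tq_h (tq_a (tq_b (tq_c (tq_d (tq_e (tq_f (tq_h (tq_a (tq_b (tq_c (tq_d (tq_e (tq_f (tq_h (tq_a (tq_b (tq_c (tq_d (tq_e (tq_f (tq_h (tq_a (tq_b (tq_c (tq_d (tq_e (tq_f (tq_h (tq_a (tq_b (tq_c (tq_d (tq_e (tq_f (tq_h (tq_a (tq_b (tq_c (tq_d (tq_e (tq_f (tq_h (tq_a (tq_b (tq_c (tq_d (tq_e (tq_f (tq_h i))))))))))))))))))))))))))))))))))))))))))))))))))))))))))))))) i) 31671 396 80 (by norm_num) ⟨exr_1_0, exr_1_1, exr_1_2, exr_1_3, exr_1_4, exr_1_5, exr_1_6, exr_1_7, exr_1_8, exr_1_9, exr_1_10, exr_1_11, exr_1_12, exr_1_13, exr_1_14, exr_1_15, exr_1_16, exr_1_17, exr_1_18, exr_1_19, exr_1_20, exr_1_21, exr_1_22, exr_1_23, exr_1_24, exr_1_25, exr_1_26, exr_1_27, exr_1_28, exr_1_29, exr_1_30, exr_1_31,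 exr_1_32, exr_1_33, exr_1_34, exr_1_35, exr_1_36, exr_1_37, exr_1_38, exr_1_39, exr_1_40, exr_1_41, exr_1_42, exr_1_43, exr_1_44, exr_1_45, exr_1_46, exr_1_47, exr_1_48, exr_1_49, exr_1_50, exr_1_51, exr_1_52, exr_1_53, exr_1_54, exr_1_55, exr_1_56, exr_1_57, exr_1_58, exr_1_59, exr_1_60, exr_1_61, exr_1_62, exr_1_63, exr_1_64, exr_1_65, exr_1_66, exr_1_67, exr_1_68, exr_1_69, exr_1_70, exr_1_71, exr_1_72, exr_1_73, exr_1_74, exr_1_75, exr_1_76, exr_1_77, exr_1_78, exr_1_79, trivial⟩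

theorem ex_1 : ∀ i, i < 31671 → evalT tab [Gen.a, Gen.b, Gen.c, Gen.d, Gen.e, Gen.f, Gen.h, Gen.a, Gen.b, Gen.c, Gen.d, Gen.e, Gen.f, Gen.h, Gen.a, Gen.b, Gen.c, Gen.d, Gen.e, Gen.f, Gen.h, Gen.a, Gen.b, Gen.c, Gen.d, Gen.e, Gen.f, Gen.h, Gen.a, Gen.b, Gen.c, Gen.d, Gen.e, Gen.f, Gen.h, Gen.a, Gen.b, Gen.c, Gen.d, Gen.e, Gen.f, Gen.h, Gen.a, Gen.b, Gen.c, Gen.d, Gen.e, Gen.f, Gen.h, Gen.a, Gen.b, Gen.c, Gen.d, Gen.e, Gen.f, Gen.h, Gen.a, Gen.b, Gen.c, Gen.d, Gen.e, Gen.f, Gen.h] i = i := by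
  intro i hi
  have h := Nat.eq_of_beq_eq_true (exr_1 i hi)
  simp only [evalT_cons', evalT_nil', tab_a, tab_b, tab_c, tab_d, tab_e, tab_f, tab_g, tab_j, tab_h, tab_i]
  exact h

end Cfsg.Agent.Helper28.FicA
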