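import Cfsg.Agent.Helper28.CosetTable
import Cfsg.Prelude.Def_Spor_He

/-!
# The Held group presentation, cosets of the subgroup generated by a, c, d, e, f, (ab)², (bcde)⁷: relators as statements about cosets (helper28)

Generated. The generators act on the cosets of the subgroup; every relator, read at a coset, is a closed
path, and the lemmas here turn "all edges of the path but one are known" into the last edge, and "all
edges are known" into an equality of cosets.
-/

set_option autoImplicit false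
set_option maxRecDepth 100000
set_option linter.unusedSimpArgs false

noncomputable section

namespace Cfsg.Agent.Helper28.HeA

open Cfsg.Spor Cfsg.Spor.He Cfsg.Agent.Helper28.CosetTable

/-- The relators. -/
abbrev rels : Set (FreeGroup Gen) := coxRelators edges ∪ {r | r ∈ extra}

/-- The presented group. -/
abbrev Grp : Type := PresentedGroup rels

/-- The image of a generator. -/
def gen (x : Gen) : Grp := PresentedGroup.of x

theorem mk_of (x : Gen) : PresentedGroup.mk rels (FreeGroup.of x) = gen x := rfl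

/-- The subgroup. -/
def H : Subgroup Grp := (Subgroup.closure ({a, c, d, e, f, (a * b) ^ 2, (b * c * d * e) ^ 7} : Set (FreeGroup Gen))).map (PresentedGroup.mk rels)

/-- The cosets. -/
abbrev Q : Type := Grp ⧸ H

theorem nodes (x : Gen) : x ∈ coxNodes edges := by cases x <;> decide

theorem cox (x y : Gen) : (gen x * gen y) ^ coxLabel edges x y = 1 := by
  have h := PresentedGroup.one_of_mem (rels := rels) (x := (FreeGroup.of x * FreeGroup.of y) ^ coxLabel edges x y)
    (Or.inl ⟨x, nodes x, y, nodes y, rfl⟩)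
  rw [map_pow, map_mul] at h
  exact h

theorem sq (x : Gen) : gen x * gen x = 1 := by
  have h := cox x x
  have e : coxLabel edges x x = 1 := by simp [coxLabel]
  rw [e, pow_one] at h
  exact h

theorem inv_gen (x : Gen) : (gen x)⁻¹ = gen x := inv_eq_of_mul_eq_one_left (sq x)

theorem extra_one (r : FreeGroup Gen) (hr : r ∈ extra) : PresentedGroup.mk rels r = 1 :=
  PresentedGroup.one_of_mem (Or.inr hr)

/-- The coset of the identity. -/
def N0 : Q := ((1 : Grp) : Q)

theorem smul_N0 (h : Grp) (hh : h ∈ H) : h • N0 = N0 := by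
  show ((h * 1 : Grp) : Q) = ((1 : Grp) : Q)
  rw [QuotientGroup.eq]
  simpa using H.inv_mem hh

/-- The action on cosets, as a plain function. -/
def sm (g : Grp) (q : Q) : Q := g • q

theorem sm_def (g : Grp) (q : Q) : sm g q = g • q := rfl

theorem trfs {g : Grp} {x y x' y' : Q} (hx : x = x') (h : sm g x = y) (hy : y = y') : sm g x' = y' := by
  subst hx; subst hy; exact h

theorem eqes {g : Grp} {x y z : Q} (h1 : sm g x = y) (h2 : sm g x = z) : y = z := h1.symm.trans h2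

/-- The generator a. -/
abbrev ga : Grp := gen Gen.a
/-- The generator b. -/
abbrev gb : Grp := gen Gen.b
/-- The generator c. -/
abbrev gc : Grp := gen Gen.c
/-- The generator d. -/
abbrev gd : Grp := gen Gen.d
/-- The generator e. -/
abbrev ge : Grp := gen Gen.e
/-- The generator f. -/
abbrev gf : Grp := gen Gen.f
/-- The generator g. -/
abbrev gg : Grp := gen Gen.g

theorem flp_a {x y : Q} (h : sm ga x = y) : sm ga y = x := flp (sq Gen.a) h
theorem flp_b {x y : Q} (h : sm gb x = y) : sm gb y = x := flp (sq Gen.b) h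
theorem flp_c {x y : Q} (h : sm gc x = y) : sm gc y = x := flp (sq Gen.c) h
theorem flp_d {x y : Q} (h : sm gd x = y) : sm gd y = x := flp (sq Gen.d) h
theorem flp_e {x y : Q} (h : sm ge x = y) : sm ge y = x := flp (sq Gen.e) h
theorem flp_f {x y : Q} (h : sm gf x = y) : sm gf y = x := flp (sq Gen.f) h
theorem flp_g {x y : Q} (h : sm gg x = y) : sm gg y = x := flp (sq Gen.g) h

theorem relG_7 : ga * gb * ga * gb * ga * gb * ga * gb = 1 := by
  have h := cox Gen.a Gen.b
  have e : coxLabel edges Gen.a Gen.b = 4 := by decide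
  rw [e] at h
  simp only [pow_succ, pow_zero, one_mul, ← mul_assoc] at h
  exact h

theorem rel_7 (q : Q) : ga • gb • ga • gb • ga • gb • ga • gb • q = q := by
  have h := congrArg (· • q) relG_7
  simp only [mul_smul, one_smul] at h
  exact h

theorem relG_8 : ga * gc * ga * gc = 1 := by
  have h := cox Gen.a Gen.c
  have e : coxLabel edges Gen.a Gen.c = 2 := by decide
  rw [e] at h
  simp only [pow_succ, pow_zero, one_mul, ← mul_assoc] at h
  exact h

theorem rel_8 (q : Q) : ga • gc • ga • gc • q = q := by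
  have h := congrArg (· • q) relG_8
  simp only [mul_smul, one_smul] at h
  exact h

theorem relG_9 : ga * gd * ga * gd = 1 := by
  have h := cox Gen.a Gen.d
  have e : coxLabel edges Gen.a Gen.d = 2 := by decide
  rw [e] at h
  simp only [pow_succ, pow_zero, one_mul, ← mul_assoc] at h
  exact h

theorem rel_9 (q : Q) : ga • gd • ga • gd • q = q := by
  have h := congrArg (· • q) relG_9
  simp only [mul_smul, one_smul] at h
  exact h

theorem relG_10 : ga * ge * ga * ge = 1 := by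
  have h := cox Gen.a Gen.e
  have e : coxLabel edges Gen.a Gen.e = 2 := by decide
  rw [e] at h
  simp only [pow_succ, pow_zero, one_mul, ← mul_assoc] at h
  exact h

theorem rel_10 (q : Q) : ga • ge • ga • ge • q = q := by
  have h := congrArg (· • q) relG_10
  simp only [mul_smul, one_smul] at h
  exact h

theorem relG_11 : ga * gf * ga * gf = 1 := by
  have h := cox Gen.a Gen.f
  have e : coxLabel edges Gen.a Gen.f = 2 := by decide
  rw [e] at h
  simp only [pow_succ, pow_zero, one_mul, ← mul_assoc] at h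
  exact h

theorem rel_11 (q : Q) : ga • gf • ga • gf • q = q := by
  have h := congrArg (· • q) relG_11
  simp only [mul_smul, one_smul] at h
  exact h

theorem relG_12 : ga * gg * ga * gg = 1 := by
  have h := cox Gen.a Gen.g
  have e : coxLabel edges Gen.a Gen.g = 2 := by decide
  rw [e] at h
  simp only [pow_succ, pow_zero, one_mul, ← mul_assoc] at h
  exact h

theorem rel_12 (q : Q) : ga • gg • ga • gg • q = q := by
  have h := congrArg (· • q) relG_12
  simp only [mul_smul, one_smul] at h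
  exact h

theorem relG_13 : gb * gc * gb * gc * gb * gc = 1 := by
  have h := cox Gen.b Gen.c
  have e : coxLabel edges Gen.b Gen.c = 3 := by decide
  rw [e] at h
  simp only [pow_succ, pow_zero, one_mul, ← mul_assoc] at h
  exact h

theorem rel_13 (q : Q) : gb • gc • gb • gc • gb • gc • q = q := by
  have h := congrArg (· • q) relG_13
  simp only [mul_smul, one_smul] at h
  exact h

theorem relG_14 : gb * gd * gb * gd = 1 := by
  have h := cox Gen.b Gen.d
  have e : coxLabel edges Gen.b Gen.d = 2 := by decide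
  rw [e] at h
  simp only [pow_succ, pow_zero, one_mul, ← mul_assoc] at h
  exact h

theorem rel_14 (q : Q) : gb • gd • gb • gd • q = q := by
  have h := congrArg (· • q) relG_14
  simp only [mul_smul, one_smul] at h
  exact h

theorem relG_15 : gb * ge * gb * ge = 1 := by
  have h := cox Gen.b Gen.e
  have e : coxLabel edges Gen.b Gen.e = 2 := by decide
  rw [e] at h
  simp only [pow_succ, pow_zero, one_mul, ← mul_assoc] at h
  exact h

theorem rel_15 (q : Q) : gb • ge • gb • ge • q = q := by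
  have h := congrArg (· • q) relG_15
  simp only [mul_smul, one_smul] at h
  exact h

theorem relG_16 : gb * gf * gb * gf = 1 := by
  have h := cox Gen.b Gen.f
  have e : coxLabel edges Gen.b Gen.f = 2 := by decide
  rw [e] at h
  simp only [pow_succ, pow_zero, one_mul, ← mul_assoc] at h
  exact h

theorem rel_16 (q : Q) : gb • gf • gb • gf • q = q := by
  have h := congrArg (· • q) relG_16
  simp only [mul_smul, one_smul] at h
  exact h

theorem relG_17 : gb * gg * gb * gg = 1 := by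
  have h := cox Gen.b Gen.g
  have e : coxLabel edges Gen.b Gen.g = 2 := by decide
  rw [e] at h
  simp only [pow_succ, pow_zero, one_mul, ← mul_assoc] at h
  exact h

theorem rel_17 (q : Q) : gb • gg • gb • gg • q = q := by
  have h := congrArg (· • q) relG_17
  simp only [mul_smul, one_smul] at h
  exact h

theorem relG_19 : gc * ge * gc * ge = 1 := by
  have h := cox Gen.c Gen.e
  have e : coxLabel edges Gen.c Gen.e = 2 := by decide
  rw [e] at h
  simp only [pow_succ, pow_zero, one_mul, ← mul_assoc] at h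
  exact h

theorem rel_19 (q : Q) : gc • ge • gc • ge • q = q := by
  have h := congrArg (· • q) relG_19
  simp only [mul_smul, one_smul] at h
  exact h

theorem relG_20 : gc * gf * gc * gf = 1 := by
  have h := cox Gen.c Gen.f
  have e : coxLabel edges Gen.c Gen.f = 2 := by decide
  rw [e] at h
  simp only [pow_succ, pow_zero, one_mul, ← mul_assoc] at h
  exact h

theorem rel_20 (q : Q) : gc • gf • gc • gf • q = q := by
  have h := congrArg (· • q) relG_20
  simp only [mul_smul, one_smul] at h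
  exact h

theorem relG_21 : gc * gg * gc * gg = 1 := by
  have h := cox Gen.c Gen.g
  have e : coxLabel edges Gen.c Gen.g = 2 := by decide
  rw [e] at h
  simp only [pow_succ, pow_zero, one_mul, ← mul_assoc] at h
  exact h

theorem rel_21 (q : Q) : gc • gg • gc • gg • q = q := by
  have h := congrArg (· • q) relG_21
  simp only [mul_smul, one_smul] at h
  exact h

theorem relG_22 : gd * ge * gd * ge * gd * ge = 1 := by
  have h := cox Gen.d Gen.e
  have e : coxLabel edges Gen.d Gen.e = 3 := by decide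
  rw [e] at h
  simp only [pow_succ, pow_zero, one_mul, ← mul_assoc] at h
  exact h

theorem rel_22 (q : Q) : gd • ge • gd • ge • gd • ge • q = q := by
  have h := congrArg (· • q) relG_22
  simp only [mul_smul, one_smul] at h
  exact h

theorem relG_23 : gd * gf * gd * gf * gd * gf = 1 := by
  have h := cox Gen.d Gen.f
  have e : coxLabel edges Gen.d Gen.f = 3 := by decide
  rw [e] at h
  simp only [pow_succ, pow_zero, one_mul, ← mul_assoc] at h
  exact h

theorem rel_23 (q : Q) : gd • gf • gd • gf • gd • gf • q = q := by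
  have h := congrArg (· • q) relG_23
  simp only [mul_smul, one_smul] at h
  exact h

theorem relG_24 : gd * gg * gd * gg * gd * gg = 1 := by
  have h := cox Gen.d Gen.g
  have e : coxLabel edges Gen.d Gen.g = 3 := by decide
  rw [e] at h
  simp only [pow_succ, pow_zero, one_mul, ← mul_assoc] at h
  exact h

theorem rel_24 (q : Q) : gd • gg • gd • gg • gd • gg • q = q := by
  have h := congrArg (· • q) relG_24
  simp only [mul_smul, one_smul] at h
  exact h

theorem relG_25 : ge * gf * ge * gf = 1 := by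
  have h := cox Gen.e Gen.f
  have e : coxLabel edges Gen.e Gen.f = 2 := by decide
  rw [e] at h
  simp only [pow_succ, pow_zero, one_mul, ← mul_assoc] at h
  exact h

theorem rel_25 (q : Q) : ge • gf • ge • gf • q = q := by
  have h := congrArg (· • q) relG_25
  simp only [mul_smul, one_smul] at h
  exact h

theorem relG_26 : ge * gg * ge * gg = 1 := by
  have h := cox Gen.e Gen.g
  have e : coxLabel edges Gen.e Gen.g = 2 := by decide
  rw [e] at h
  simp only [pow_succ, pow_zero, one_mul, ← mul_assoc] at h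
  exact h

theorem rel_26 (q : Q) : ge • gg • ge • gg • q = q := by
  have h := congrArg (· • q) relG_26
  simp only [mul_smul, one_smul] at h
  exact h

theorem relG_28 : ge * gg * gf * gg * gf = 1 := by
  have h := extra_one (e * ((f * g) ^ 2)⁻¹) (by simp [extra])
  simp only [map_mul, map_pow, map_inv, mk_of, pow_succ, pow_zero, one_mul, mul_inv_rev, inv_gen, ← mul_assoc] at h
  exact h

theorem rel_28 (q : Q) : ge • gg • gf • gg • gf • q = q := by
  have h := congrArg (· • q) relG_28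
  simp only [mul_smul, one_smul] at h
  exact h

theorem relG_29 : ge * gc * gb * ga * gc * gb * ga * gc * gb * ga = 1 := by
  have h := extra_one (e * ((a * b * c) ^ 3)⁻¹) (by simp [extra])
  simp only [map_mul, map_pow, map_inv, mk_of, pow_succ, pow_zero, one_mul, mul_inv_rev, inv_gen, ← mul_assoc] at h
  exact h

theorem rel_29 (q : Q) : ge • gc • gb • ga • gc • gb • ga • gc • gb • ga • q = q := by
  have h := congrArg (· • q) relG_29
  simp only [mul_smul, one_smul] at h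
  exact h

theorem relG_30 : ga * gd * gc * gd * gc * gd * gc * gd * gc * gd * gc = 1 := by
  have h := extra_one (a * ((c * d) ^ 5)⁻¹) (by simp [extra])
  simp only [map_mul, map_pow, map_inv, mk_of, pow_succ, pow_zero, one_mul, mul_inv_rev, inv_gen, ← mul_assoc] at h
  exact h

theorem rel_30 (q : Q) : ga • gd • gc • gd • gc • gd • gc • gd • gc • gd • gc • q = q := by
  have h := congrArg (· • q) relG_30
  simp only [mul_smul, one_smul] at h
  exact h

theorem relG_31 : gc * gd * gf * gg * gc * gd * gf * gg * gc * gd * gf * gg * gc * gd * gf * gg = 1 := by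
  have h := extra_one ((c * d * f * g) ^ 4) (by simp [extra])
  simp only [map_mul, map_pow, map_inv, mk_of, pow_succ, pow_zero, one_mul, mul_inv_rev, inv_gen, ← mul_assoc] at h
  exact h

theorem rel_31 (q : Q) : gc • gd • gf • gg • gc • gd • gf • gg • gc • gd • gf • gg • gc • gd • gf • gg • q = q := by
  have h := congrArg (· • q) relG_31
  simp only [mul_smul, one_smul] at h
  exact h

theorem rot_7_1 (X : Q) : gb • ga • gb • ga • gb • ga • gb • ga • X = X := by
  exact smul_left_cancel ga (smul_left_cancel gb (smul_left_cancel ga (smul_left_cancel gb (smul_left_cancel ga (smul_left_cancel gb (smul_left_cancel ga (rel_7 (ga • gb • ga • gb • ga • gb • ga • X))))))))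

theorem rot_7_2 (X : Q) : ga • gb • ga • gb • ga • gb • ga • gb • X = X := by
  exact smul_left_cancel gb (smul_left_cancel ga (smul_left_cancel gb (smul_left_cancel ga (smul_left_cancel gb (smul_left_cancel ga (rel_7 (ga • gb • ga • gb • ga • gb • X)))))))

theorem rot_7_3 (X : Q) : gb • ga • gb • ga • gb • ga • gb • ga • X = X := by
  exact smul_left_cancel ga (smul_left_cancel gb (smul_left_cancel ga (smul_left_cancel gb (smul_left_cancel ga (rel_7 (ga • gb • ga • gb • ga • X))))))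

theorem rot_8_0 (X : Q) : ga • gc • ga • gc • X = X := by
  exact rel_8 X

theorem rot_8_1 (X : Q) : gc • ga • gc • ga • X = X := by
  exact smul_left_cancel ga (smul_left_cancel gc (smul_left_cancel ga (rel_8 (ga • gc • ga • X))))

theorem rot_8_2 (X : Q) : ga • gc • ga • gc • X = X := by
  exact smul_left_cancel gc (smul_left_cancel ga (rel_8 (ga • gc • X)))

theorem rot_8_3 (X : Q) : gc • ga • gc • ga • X = X := by
  exact smul_left_cancel ga (rel_8 (ga • X))

theorem rot_9_0 (X : Q) : ga • gd • ga • gd • X = X := by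
  exact rel_9 X

theorem rot_9_1 (X : Q) : gd • ga • gd • ga • X = X := by
  exact smul_left_cancel ga (smul_left_cancel gd (smul_left_cancel ga (rel_9 (ga • gd • ga • X))))

theorem rot_9_2 (X : Q) : ga • gd • ga • gd • X = X := by
  exact smul_left_cancel gd (smul_left_cancel ga (rel_9 (ga • gd • X)))

theorem rot_9_3 (X : Q) : gd • ga • gd • ga • X = X := by
  exact smul_left_cancel ga (rel_9 (ga • X))

theorem rot_10_0 (X : Q) : ga • ge • ga • ge • X = X := by
  exact rel_10 X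

theorem rot_10_1 (X : Q) : ge • ga • ge • ga • X = X := by
  exact smul_left_cancel ga (smul_left_cancel ge (smul_left_cancel ga (rel_10 (ga • ge • ga • X))))

theorem rot_10_2 (X : Q) : ga • ge • ga • ge • X = X := by
  exact smul_left_cancel ge (smul_left_cancel ga (rel_10 (ga • ge • X)))

theorem rot_10_3 (X : Q) : ge • ga • ge • ga • X = X := by
  exact smul_left_cancel ga (rel_10 (ga • X))

theorem rot_11_0 (X : Q) : ga • gf • ga • gf • X = X := by
  exact rel_11 X

theorem rot_11_1 (X : Q) : gf • ga • gf • ga • X = X := by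
  exact smul_left_cancel ga (smul_left_cancel gf (smul_left_cancel ga (rel_11 (ga • gf • ga • X))))

theorem rot_11_2 (X : Q) : ga • gf • ga • gf • X = X := by
  exact smul_left_cancel gf (smul_left_cancel ga (rel_11 (ga • gf • X)))

theorem rot_11_3 (X : Q) : gf • ga • gf • ga • X = X := by
  exact smul_left_cancel ga (rel_11 (ga • X))

theorem rot_12_0 (X : Q) : ga • gg • ga • gg • X = X := by
  exact rel_12 X

theorem rot_12_1 (X : Q) : gg • ga • gg • ga • X = X := by
  exact smul_left_cancel ga (smul_left_cancel gg (smul_left_cancel ga (rel_12 (ga • gg • ga • X))))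

theorem rot_12_2 (X : Q) : ga • gg • ga • gg • X = X := by
  exact smul_left_cancel gg (smul_left_cancel ga (rel_12 (ga • gg • X)))

theorem rot_12_3 (X : Q) : gg • ga • gg • ga • X = X := by
  exact smul_left_cancel ga (rel_12 (ga • X))

theorem rot_13_1 (X : Q) : gc • gb • gc • gb • gc • gb • X = X := by
  exact smul_left_cancel gb (smul_left_cancel gc (smul_left_cancel gb (smul_left_cancel gc (smul_left_cancel gb (rel_13 (gb • gc • gb • gc • gb • X))))))

theorem rot_13_2 (X : Q) : gb • gc • gb • gc • gb • gc • X = X := by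
  exact smul_left_cancel gc (smul_left_cancel gb (smul_left_cancel gc (smul_left_cancel gb (rel_13 (gb • gc • gb • gc • X)))))

theorem rot_13_3 (X : Q) : gc • gb • gc • gb • gc • gb • X = X := by
  exact smul_left_cancel gb (smul_left_cancel gc (smul_left_cancel gb (rel_13 (gb • gc • gb • X))))

theorem rot_13_4 (X : Q) : gb • gc • gb • gc • gb • gc • X = X := by
  exact smul_left_cancel gc (smul_left_cancel gb (rel_13 (gb • gc • X)))

theorem rot_13_5 (X : Q) : gc • gb • gc • gb • gc • gb • X = X := by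
  exact smul_left_cancel gb (rel_13 (gb • X))

theorem rot_14_0 (X : Q) : gb • gd • gb • gd • X = X := by
  exact rel_14 X

theorem rot_14_1 (X : Q) : gd • gb • gd • gb • X = X := by
  exact smul_left_cancel gb (smul_left_cancel gd (smul_left_cancel gb (rel_14 (gb • gd • gb • X))))

theorem rot_14_2 (X : Q) : gb • gd • gb • gd • X = X := by
  exact smul_left_cancel gd (smul_left_cancel gb (rel_14 (gb • gd • X)))

theorem rot_14_3 (X : Q) : gd • gb • gd • gb • X = X := by
  exact smul_left_cancel gb (rel_14 (gb • X))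

theorem rot_15_0 (X : Q) : gb • ge • gb • ge • X = X := by
  exact rel_15 X

theorem rot_15_1 (X : Q) : ge • gb • ge • gb • X = X := by
  exact smul_left_cancel gb (smul_left_cancel ge (smul_left_cancel gb (rel_15 (gb • ge • gb • X))))

theorem rot_15_2 (X : Q) : gb • ge • gb • ge • X = X := by
  exact smul_left_cancel ge (smul_left_cancel gb (rel_15 (gb • ge • X)))

theorem rot_15_3 (X : Q) : ge • gb • ge • gb • X = X := by
  exact smul_left_cancel gb (rel_15 (gb • X))

theorem rot_16_0 (X : Q) : gb • gf • gb • gf • X = X := by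
  exact rel_16 X

theorem rot_16_1 (X : Q) : gf • gb • gf • gb • X = X := by
  exact smul_left_cancel gb (smul_left_cancel gf (smul_left_cancel gb (rel_16 (gb • gf • gb • X))))

theorem rot_16_2 (X : Q) : gb • gf • gb • gf • X = X := by
  exact smul_left_cancel gf (smul_left_cancel gb (rel_16 (gb • gf • X)))

theorem rot_16_3 (X : Q) : gf • gb • gf • gb • X = X := by
  exact smul_left_cancel gb (rel_16 (gb • X))

theorem rot_17_0 (X : Q) : gb • gg • gb • gg • X = X := by
  exact rel_17 X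

theorem rot_17_1 (X : Q) : gg • gb • gg • gb • X = X := by
  exact smul_left_cancel gb (smul_left_cancel gg (smul_left_cancel gb (rel_17 (gb • gg • gb • X))))

theorem rot_17_2 (X : Q) : gb • gg • gb • gg • X = X := by
  exact smul_left_cancel gg (smul_left_cancel gb (rel_17 (gb • gg • X)))

theorem rot_17_3 (X : Q) : gg • gb • gg • gb • X = X := by
  exact smul_left_cancel gb (rel_17 (gb • X))

theorem rot_19_0 (X : Q) : gc • ge • gc • ge • X = X := by
  exact rel_19 X

theorem rot_19_1 (X : Q) : ge • gc • ge • gc • X = X := by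
  exact smul_left_cancel gc (smul_left_cancel ge (smul_left_cancel gc (rel_19 (gc • ge • gc • X))))

theorem rot_19_2 (X : Q) : gc • ge • gc • ge • X = X := by
  exact smul_left_cancel ge (smul_left_cancel gc (rel_19 (gc • ge • X)))

theorem rot_19_3 (X : Q) : ge • gc • ge • gc • X = X := by
  exact smul_left_cancel gc (rel_19 (gc • X))

theorem rot_20_0 (X : Q) : gc • gf • gc • gf • X = X := by
  exact rel_20 X

theorem rot_20_1 (X : Q) : gf • gc • gf • gc • X = X := by
  exact smul_left_cancel gc (smul_left_cancel gf (smul_left_cancel gc (rel_20 (gc • gf • gc • X))))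

theorem rot_20_2 (X : Q) : gc • gf • gc • gf • X = X := by
  exact smul_left_cancel gf (smul_left_cancel gc (rel_20 (gc • gf • X)))

theorem rot_20_3 (X : Q) : gf • gc • gf • gc • X = X := by
  exact smul_left_cancel gc (rel_20 (gc • X))

theorem rot_21_0 (X : Q) : gc • gg • gc • gg • X = X := by
  exact rel_21 X

theorem rot_21_1 (X : Q) : gg • gc • gg • gc • X = X := by
  exact smul_left_cancel gc (smul_left_cancel gg (smul_left_cancel gc (rel_21 (gc • gg • gc • X))))

theorem rot_21_2 (X : Q) : gc • gg • gc • gg • X = X := by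
  exact smul_left_cancel gg (smul_left_cancel gc (rel_21 (gc • gg • X)))

theorem rot_21_3 (X : Q) : gg • gc • gg • gc • X = X := by
  exact smul_left_cancel gc (rel_21 (gc • X))

theorem rot_22_0 (X : Q) : gd • ge • gd • ge • gd • ge • X = X := by
  exact rel_22 X

theorem rot_22_1 (X : Q) : ge • gd • ge • gd • ge • gd • X = X := by
  exact smul_left_cancel gd (smul_left_cancel ge (smul_left_cancel gd (smul_left_cancel ge (smul_left_cancel gd (rel_22 (gd • ge • gd • ge • gd • X))))))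

theorem rot_22_2 (X : Q) : gd • ge • gd • ge • gd • ge • X = X := by
  exact smul_left_cancel ge (smul_left_cancel gd (smul_left_cancel ge (smul_left_cancel gd (rel_22 (gd • ge • gd • ge • X)))))

theorem rot_22_3 (X : Q) : ge • gd • ge • gd • ge • gd • X = X := by
  exact smul_left_cancel gd (smul_left_cancel ge (smul_left_cancel gd (rel_22 (gd • ge • gd • X))))

theorem rot_22_4 (X : Q) : gd • ge • gd • ge • gd • ge • X = X := by
  exact smul_left_cancel ge (smul_left_cancel gd (rel_22 (gd • ge • X)))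

theorem rot_22_5 (X : Q) : ge • gd • ge • gd • ge • gd • X = X := by
  exact smul_left_cancel gd (rel_22 (gd • X))

theorem rot_23_0 (X : Q) : gd • gf • gd • gf • gd • gf • X = X := by
  exact rel_23 X

theorem rot_23_1 (X : Q) : gf • gd • gf • gd • gf • gd • X = X := by
  exact smul_left_cancel gd (smul_left_cancel gf (smul_left_cancel gd (smul_left_cancel gf (smul_left_cancel gd (rel_23 (gd • gf • gd • gf • gd • X))))))

theorem rot_23_2 (X : Q) : gd • gf • gd • gf • gd • gf • X = X := by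
  exact smul_left_cancel gf (smul_left_cancel gd (smul_left_cancel gf (smul_left_cancel gd (rel_23 (gd • gf • gd • gf • X)))))

theorem rot_23_3 (X : Q) : gf • gd • gf • gd • gf • gd • X = X := by
  exact smul_left_cancel gd (smul_left_cancel gf (smul_left_cancel gd (rel_23 (gd • gf • gd • X))))

theorem rot_23_4 (X : Q) : gd • gf • gd • gf • gd • gf • X = X := by
  exact smul_left_cancel gf (smul_left_cancel gd (rel_23 (gd • gf • X)))

theorem rot_23_5 (X : Q) : gf • gd • gf • gd • gf • gd • X = X := by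
  exact smul_left_cancel gd (rel_23 (gd • X))

theorem rot_24_0 (X : Q) : gd • gg • gd • gg • gd • gg • X = X := by
  exact rel_24 X

theorem rot_24_1 (X : Q) : gg • gd • gg • gd • gg • gd • X = X := by
  exact smul_left_cancel gd (smul_left_cancel gg (smul_left_cancel gd (smul_left_cancel gg (smul_left_cancel gd (rel_24 (gd • gg • gd • gg • gd • X))))))

theorem rot_24_2 (X : Q) : gd • gg • gd • gg • gd • gg • X = X := by
  exact smul_left_cancel gg (smul_left_cancel gd (smul_left_cancel gg (smul_left_cancel gd (rel_24 (gd • gg • gd • gg • X)))))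

theorem rot_24_3 (X : Q) : gg • gd • gg • gd • gg • gd • X = X := by
  exact smul_left_cancel gd (smul_left_cancel gg (smul_left_cancel gd (rel_24 (gd • gg • gd • X))))

theorem rot_24_4 (X : Q) : gd • gg • gd • gg • gd • gg • X = X := by
  exact smul_left_cancel gg (smul_left_cancel gd (rel_24 (gd • gg • X)))

theorem rot_24_5 (X : Q) : gg • gd • gg • gd • gg • gd • X = X := by
  exact smul_left_cancel gd (rel_24 (gd • X))

theorem rot_25_0 (X : Q) : ge • gf • ge • gf • X = X := by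
  exact rel_25 X

theorem rot_25_1 (X : Q) : gf • ge • gf • ge • X = X := by
  exact smul_left_cancel ge (smul_left_cancel gf (smul_left_cancel ge (rel_25 (ge • gf • ge • X))))

theorem rot_25_2 (X : Q) : ge • gf • ge • gf • X = X := by
  exact smul_left_cancel gf (smul_left_cancel ge (rel_25 (ge • gf • X)))

theorem rot_25_3 (X : Q) : gf • ge • gf • ge • X = X := by
  exact smul_left_cancel ge (rel_25 (ge • X))

theorem rot_26_0 (X : Q) : ge • gg • ge • gg • X = X := by
  exact rel_26 X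

theorem rot_26_1 (X : Q) : gg • ge • gg • ge • X = X := by
  exact smul_left_cancel ge (smul_left_cancel gg (smul_left_cancel ge (rel_26 (ge • gg • ge • X))))

theorem rot_26_2 (X : Q) : ge • gg • ge • gg • X = X := by
  exact smul_left_cancel gg (smul_left_cancel ge (rel_26 (ge • gg • X)))

theorem rot_26_3 (X : Q) : gg • ge • gg • ge • X = X := by
  exact smul_left_cancel ge (rel_26 (ge • X))

theorem rot_28_0 (X : Q) : ge • gg • gf • gg • gf • X = X := by
  exact rel_28 X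

theorem rot_28_1 (X : Q) : gf • ge • gg • gf • gg • X = X := by
  exact smul_left_cancel gg (smul_left_cancel gf (smul_left_cancel gg (smul_left_cancel ge (rel_28 (ge • gg • gf • gg • X)))))

theorem rot_28_2 (X : Q) : gg • gf • ge • gg • gf • X = X := by
  exact smul_left_cancel gf (smul_left_cancel gg (smul_left_cancel ge (rel_28 (ge • gg • gf • X))))

theorem rot_28_3 (X : Q) : gf • gg • gf • ge • gg • X = X := by
  exact smul_left_cancel gg (smul_left_cancel ge (rel_28 (ge • gg • X)))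

theorem rot_28_4 (X : Q) : gg • gf • gg • gf • ge • X = X := by
  exact smul_left_cancel ge (rel_28 (ge • X))

theorem rot_29_0 (X : Q) : ge • gc • gb • ga • gc • gb • ga • gc • gb • ga • X = X := by
  exact rel_29 X

theorem rot_29_1 (X : Q) : ga • ge • gc • gb • ga • gc • gb • ga • gc • gb • X = X := by
  exact smul_left_cancel gb (smul_left_cancel gc (smul_left_cancel ga (smul_left_cancel gb (smul_left_cancel gc (smul_left_cancel ga (smul_left_cancel gb (smul_left_cancel gc (smul_left_cancel ge (rel_29 (ge • gc • gb • ga • gc • gb • ga • gc • gb • X))))))))))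

theorem rot_29_2 (X : Q) : gb • ga • ge • gc • gb • ga • gc • gb • ga • gc • X = X := by
  exact smul_left_cancel gc (smul_left_cancel ga (smul_left_cancel gb (smul_left_cancel gc (smul_left_cancel ga (smul_left_cancel gb (smul_left_cancel gc (smul_left_cancel ge (rel_29 (ge • gc • gb • ga • gc • gb • ga • gc • X)))))))))

theorem rot_29_3 (X : Q) : gc • gb • ga • ge • gc • gb • ga • gc • gb • ga • X = X := by
  exact smul_left_cancel ga (smul_left_cancel gb (smul_left_cancel gc (smul_left_cancel ga (smul_left_cancel gb (smul_left_cancel gc (smul_left_cancel ge (rel_29 (ge • gc • gb • ga • gc • gb • ga • X))))))))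

theorem rot_29_4 (X : Q) : ga • gc • gb • ga • ge • gc • gb • ga • gc • gb • X = X := by
  exact smul_left_cancel gb (smul_left_cancel gc (smul_left_cancel ga (smul_left_cancel gb (smul_left_cancel gc (smul_left_cancel ge (rel_29 (ge • gc • gb • ga • gc • gb • X)))))))

theorem rot_29_5 (X : Q) : gb • ga • gc • gb • ga • ge • gc • gb • ga • gc • X = X := by
  exact smul_left_cancel gc (smul_left_cancel ga (smul_left_cancel gb (smul_left_cancel gc (smul_left_cancel ge (rel_29 (ge • gc • gb • ga • gc • X))))))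

theorem rot_29_6 (X : Q) : gc • gb • ga • gc • gb • ga • ge • gc • gb • ga • X = X := by
  exact smul_left_cancel ga (smul_left_cancel gb (smul_left_cancel gc (smul_left_cancel ge (rel_29 (ge • gc • gb • ga • X)))))

theorem rot_29_7 (X : Q) : ga • gc • gb • ga • gc • gb • ga • ge • gc • gb • X = X := by
  exact smul_left_cancel gb (smul_left_cancel gc (smul_left_cancel ge (rel_29 (ge • gc • gb • X))))

theorem rot_29_8 (X : Q) : gb • ga • gc • gb • ga • gc • gb • ga • ge • gc • X = X := by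
  exact smul_left_cancel gc (smul_left_cancel ge (rel_29 (ge • gc • X)))

theorem rot_29_9 (X : Q) : gc • gb • ga • gc • gb • ga • gc • gb • ga • ge • X = X := by
  exact smul_left_cancel ge (rel_29 (ge • X))

theorem rot_30_0 (X : Q) : ga • gd • gc • gd • gc • gd • gc • gd • gc • gd • gc • X = X := by
  exact rel_30 X

theorem rot_30_1 (X : Q) : gc • ga • gd • gc • gd • gc • gd • gc • gd • gc • gd • X = X := by
  exact smul_left_cancel gd (smul_left_cancel gc (smul_left_cancel gd (smul_left_cancel gc (smul_left_cancel gd (smul_left_cancel gc (smul_left_cancel gd (smul_left_cancel gc (smul_left_cancel gd (smul_left_cancel ga (rel_30 (ga • gd • gc • gd • gc • gd • gc • gd • gc • gd • X)))))))))))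

theorem rot_30_2 (X : Q) : gd • gc • ga • gd • gc • gd • gc • gd • gc • gd • gc • X = X := by
  exact smul_left_cancel gc (smul_left_cancel gd (smul_left_cancel gc (smul_left_cancel gd (smul_left_cancel gc (smul_left_cancel gd (smul_left_cancel gc (smul_left_cancel gd (smul_left_cancel ga (rel_30 (ga • gd • gc • gd • gc • gd • gc • gd • gc • X))))))))))

theorem rot_30_3 (X : Q) : gc • gd • gc • ga • gd • gc • gd • gc • gd • gc • gd • X = X := by
  exact smul_left_cancel gd (smul_left_cancel gc (smul_left_cancel gd (smul_left_cancel gc (smul_left_cancel gd (smul_left_cancel gc (smul_left_cancel gd (smul_left_cancel ga (rel_30 (ga • gd • gc • gd • gc • gd • gc • gd • X)))))))))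

theorem rot_30_4 (X : Q) : gd • gc • gd • gc • ga • gd • gc • gd • gc • gd • gc • X = X := by
  exact smul_left_cancel gc (smul_left_cancel gd (smul_left_cancel gc (smul_left_cancel gd (smul_left_cancel gc (smul_left_cancel gd (smul_left_cancel ga (rel_30 (ga • gd • gc • gd • gc • gd • gc • X))))))))

theorem rot_30_5 (X : Q) : gc • gd • gc • gd • gc • ga • gd • gc • gd • gc • gd • X = X := by
  exact smul_left_cancel gd (smul_left_cancel gc (smul_left_cancel gd (smul_left_cancel gc (smul_left_cancel gd (smul_left_cancel ga (rel_30 (ga • gd • gc • gd • gc • gd • X)))))))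

theorem rot_30_6 (X : Q) : gd • gc • gd • gc • gd • gc • ga • gd • gc • gd • gc • X = X := by
  exact smul_left_cancel gc (smul_left_cancel gd (smul_left_cancel gc (smul_left_cancel gd (smul_left_cancel ga (rel_30 (ga • gd • gc • gd • gc • X))))))

theorem rot_30_7 (X : Q) : gc • gd • gc • gd • gc • gd • gc • ga • gd • gc • gd • X = X := by
  exact smul_left_cancel gd (smul_left_cancel gc (smul_left_cancel gd (smul_left_cancel ga (rel_30 (ga • gd • gc • gd • X)))))

theorem rot_30_8 (X : Q) : gd • gc • gd • gc • gd • gc • gd • gc • ga • gd • gc • X = X := by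
  exact smul_left_cancel gc (smul_left_cancel gd (smul_left_cancel ga (rel_30 (ga • gd • gc • X))))

theorem rot_30_9 (X : Q) : gc • gd • gc • gd • gc • gd • gc • gd • gc • ga • gd • X = X := by
  exact smul_left_cancel gd (smul_left_cancel ga (rel_30 (ga • gd • X)))

theorem rot_30_10 (X : Q) : gd • gc • gd • gc • gd • gc • gd • gc • gd • gc • ga • X = X := by
  exact smul_left_cancel ga (rel_30 (ga • X))

theorem rot_31_0 (X : Q) : gc • gd • gf • gg • gc • gd • gf • gg • gc • gd • gf • gg • gc • gd • gf • gg • X = X := by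
  exact rel_31 X

theorem rot_31_1 (X : Q) : gg • gc • gd • gf • gg • gc • gd • gf • gg • gc • gd • gf • gg • gc • gd • gf • X = X := by
  exact smul_left_cancel gf (smul_left_cancel gd (smul_left_cancel gc (smul_left_cancel gg (smul_left_cancel gf (smul_left_cancel gd (smul_left_cancel gc (smul_left_cancel gg (smul_left_cancel gf (smul_left_cancel gd (smul_left_cancel gc (smul_left_cancel gg (smul_left_cancel gf (smul_left_cancel gd (smul_left_cancel gc (rel_31 (gc • gd • gf • gg • gc • gd • gf • gg • gc • gd • gf • gg • gc • gd • gf • X))))))))))))))))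

theorem rot_31_2 (X : Q) : gf • gg • gc • gd • gf • gg • gc • gd • gf • gg • gc • gd • gf • gg • gc • gd • X = X := by
  exact smul_left_cancel gd (smul_left_cancel gc (smul_left_cancel gg (smul_left_cancel gf (smul_left_cancel gd (smul_left_cancel gc (smul_left_cancel gg (smul_left_cancel gf (smul_left_cancel gd (smul_left_cancel gc (smul_left_cancel gg (smul_left_cancel gf (smul_left_cancel gd (smul_left_cancel gc (rel_31 (gc • gd • gf • gg • gc • gd • gf • gg • gc • gd • gf • gg • gc • gd • X)))))))))))))))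

theorem rot_31_3 (X : Q) : gd • gf • gg • gc • gd • gf • gg • gc • gd • gf • gg • gc • gd • gf • gg • gc • X = X := by
  exact smul_left_cancel gc (smul_left_cancel gg (smul_left_cancel gf (smul_left_cancel gd (smul_left_cancel gc (smul_left_cancel gg (smul_left_cancel gf (smul_left_cancel gd (smul_left_cancel gc (smul_left_cancel gg (smul_left_cancel gf (smul_left_cancel gd (smul_left_cancel gc (rel_31 (gc • gd • gf • gg • gc • gd • gf • gg • gc • gd • gf • gg • gc • X))))))))))))))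

theorem rot_31_4 (X : Q) : gc • gd • gf • gg • gc • gd • gf • gg • gc • gd • gf • gg • gc • gd • gf • gg • X = X := by
  exact smul_left_cancel gg (smul_left_cancel gf (smul_left_cancel gd (smul_left_cancel gc (smul_left_cancel gg (smul_left_cancel gf (smul_left_cancel gd (smul_left_cancel gc (smul_left_cancel gg (smul_left_cancel gf (smul_left_cancel gd (smul_left_cancel gc (rel_31 (gc • gd • gf • gg • gc • gd • gf • gg • gc • gd • gf • gg • X)))))))))))))

theorem rot_31_5 (X : Q) : gg • gc • gd • gf • gg • gc • gd • gf • gg • gc • gd • gf • gg • gc • gd • gf • X = X := by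
  exact smul_left_cancel gf (smul_left_cancel gd (smul_left_cancel gc (smul_left_cancel gg (smul_left_cancel gf (smul_left_cancel gd (smul_left_cancel gc (smul_left_cancel gg (smul_left_cancel gf (smul_left_cancel gd (smul_left_cancel gc (rel_31 (gc • gd • gf • gg • gc • gd • gf • gg • gc • gd • gf • X))))))))))))

theorem rot_31_6 (X : Q) : gf • gg • gc • gd • gf • gg • gc • gd • gf • gg • gc • gd • gf • gg • gc • gd • X = X := by
  exact smul_left_cancel gd (smul_left_cancel gc (smul_left_cancel gg (smul_left_cancel gf (smul_left_cancel gd (smul_left_cancel gc (smul_left_cancel gg (smul_left_cancel gf (smul_left_cancel gd (smul_left_cancel gc (rel_31 (gc • gd • gf • gg • gc • gd • gf • gg • gc • gd • X)))))))))))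

theorem rot_31_7 (X : Q) : gd • gf • gg • gc • gd • gf • gg • gc • gd • gf • gg • gc • gd • gf • gg • gc • X = X := by
  exact smul_left_cancel gc (smul_left_cancel gg (smul_left_cancel gf (smul_left_cancel gd (smul_left_cancel gc (smul_left_cancel gg (smul_left_cancel gf (smul_left_cancel gd (smul_left_cancel gc (rel_31 (gc • gd • gf • gg • gc • gd • gf • gg • gc • X))))))))))

theorem rot_31_8 (X : Q) : gc • gd • gf • gg • gc • gd • gf • gg • gc • gd • gf • gg • gc • gd • gf • gg • X = X := by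
  exact smul_left_cancel gg (smul_left_cancel gf (smul_left_cancel gd (smul_left_cancel gc (smul_left_cancel gg (smul_left_cancel gf (smul_left_cancel gd (smul_left_cancel gc (rel_31 (gc • gd • gf • gg • gc • gd • gf • gg • X)))))))))

theorem rot_31_9 (X : Q) : gg • gc • gd • gf • gg • gc • gd • gf • gg • gc • gd • gf • gg • gc • gd • gf • X = X := by
  exact smul_left_cancel gf (smul_left_cancel gd (smul_left_cancel gc (smul_left_cancel gg (smul_left_cancel gf (smul_left_cancel gd (smul_left_cancel gc (rel_31 (gc • gd • gf • gg • gc • gd • gf • X))))))))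

theorem rot_31_10 (X : Q) : gf • gg • gc • gd • gf • gg • gc • gd • gf • gg • gc • gd • gf • gg • gc • gd • X = X := by
  exact smul_left_cancel gd (smul_left_cancel gc (smul_left_cancel gg (smul_left_cancel gf (smul_left_cancel gd (smul_left_cancel gc (rel_31 (gc • gd • gf • gg • gc • gd • X)))))))

theorem rot_31_11 (X : Q) : gd • gf • gg • gc • gd • gf • gg • gc • gd • gf • gg • gc • gd • gf • gg • gc • X = X := by
  exact smul_left_cancel gc (smul_left_cancel gg (smul_left_cancel gf (smul_left_cancel gd (smul_left_cancel gc (rel_31 (gc • gd • gf • gg • gc • X))))))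

theorem rot_31_12 (X : Q) : gc • gd • gf • gg • gc • gd • gf • gg • gc • gd • gf • gg • gc • gd • gf • gg • X = X := by
  exact smul_left_cancel gg (smul_left_cancel gf (smul_left_cancel gd (smul_left_cancel gc (rel_31 (gc • gd • gf • gg • X)))))

theorem rot_31_13 (X : Q) : gg • gc • gd • gf • gg • gc • gd • gf • gg • gc • gd • gf • gg • gc • gd • gf • X = X := by
  exact smul_left_cancel gf (smul_left_cancel gd (smul_left_cancel gc (rel_31 (gc • gd • gf • X))))

theorem rot_31_14 (X : Q) : gf • gg • gc • gd • gf • gg • gc • gd • gf • gg • gc • gd • gf • gg • gc • gd • X = X := by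
  exact smul_left_cancel gd (smul_left_cancel gc (rel_31 (gc • gd • X)))

theorem rot_31_15 (X : Q) : gd • gf • gg • gc • gd • gf • gg • gc • gd • gf • gg • gc • gd • gf • gg • gc • X = X := by
  exact smul_left_cancel gc (rel_31 (gc • X))

theorem coi_9_1 {X z1 z2 z3 z4 : Q} (e0 : sm ga X = z1) (e1 : sm gd z1 = z2) (e2 : sm ga z2 = z3) (e3 : sm gd z3 = z4) : z4 = X := by
  subst e0
  subst e1
  subst e2
  subst e3
  exact rot_9_1 X

theorem coi_11_2 {X z1 z2 z3 z4 : Q} (e0 : sm gf X = z1) (e1 : sm ga z1 = z2) (e2 : sm gf z2 = z3) (e3 : sm ga z3 = z4) : z4 = X := by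
  subst e0
  subst e1
  subst e2
  subst e3
  exact rot_11_2 X

theorem coi_13_3 {X z1 z2 z3 z4 z5 z6 : Q} (e0 : sm gb X = z1) (e1 : sm gc z1 = z2) (e2 : sm gb z2 = z3) (e3 : sm gc z3 = z4) (e4 : sm gb z4 = z5) (e5 : sm gc z5 = z6) : z6 = X := by
  subst e0
  subst e1
  subst e2
  subst e3
  subst e4
  subst e5
  exact rot_13_3 X

theorem coi_14_2 {X z1 z2 z3 z4 : Q} (e0 : sm gd X = z1) (e1 : sm gb z1 = z2) (e2 : sm gd z2 = z3) (e3 : sm gb z3 = z4) : z4 = X := by
  subst e0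
  subst e1
  subst e2
  subst e3
  exact rot_14_2 X

theorem coi_17_0 {X z1 z2 z3 z4 : Q} (e0 : sm gg X = z1) (e1 : sm gb z1 = z2) (e2 : sm gg z2 = z3) (e3 : sm gb z3 = z4) : z4 = X := by
  subst e0
  subst e1
  subst e2
  subst e3
  exact rot_17_0 X

theorem coi_17_2 {X z1 z2 z3 z4 : Q} (e0 : sm gg X = z1) (e1 : sm gb z1 = z2) (e2 : sm gg z2 = z3) (e3 : sm gb z3 = z4) : z4 = X := by
  subst e0
  subst e1
  subst e2
  subst e3
  exact rot_17_2 X

theorem coi_17_3 {X z1 z2 z3 z4 : Q} (e0 : sm gb X = z1) (e1 : sm gg z1 = z2) (e2 : sm gb z2 = z3) (e3 : sm gg z3 = z4) : z4 = X := by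
  subst e0
  subst e1
  subst e2
  subst e3
  exact rot_17_3 X

theorem coi_19_3 {X z1 z2 z3 z4 : Q} (e0 : sm gc X = z1) (e1 : sm ge z1 = z2) (e2 : sm gc z2 = z3) (e3 : sm ge z3 = z4) : z4 = X := by
  subst e0
  subst e1
  subst e2
  subst e3
  exact rot_19_3 X

theorem coi_20_2 {X z1 z2 z3 z4 : Q} (e0 : sm gf X = z1) (e1 : sm gc z1 = z2) (e2 : sm gf z2 = z3) (e3 : sm gc z3 = z4) : z4 = X := by
  subst e0
  subst e1
  subst e2
  subst e3
  exact rot_20_2 X

theorem coi_20_3 {X z1 z2 z3 z4 : Q} (e0 : sm gc X = z1) (e1 : sm gf z1 = z2) (e2 : sm gc z2 = z3) (e3 : sm gf z3 = z4) : z4 = X := by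
  subst e0
  subst e1
  subst e2
  subst e3
  exact rot_20_3 X

theorem coi_22_3 {X z1 z2 z3 z4 z5 z6 : Q} (e0 : sm gd X = z1) (e1 : sm ge z1 = z2) (e2 : sm gd z2 = z3) (e3 : sm ge z3 = z4) (e4 : sm gd z4 = z5) (e5 : sm ge z5 = z6) : z6 = X := by
  subst e0
  subst e1
  subst e2
  subst e3
  subst e4
  subst e5
  exact rot_22_3 X

theorem coi_22_4 {X z1 z2 z3 z4 z5 z6 : Q} (e0 : sm ge X = z1) (e1 : sm gd z1 = z2) (e2 : sm ge z2 = z3) (e3 : sm gd z3 = z4) (e4 : sm ge z4 = z5) (e5 : sm gd z5 = z6) : z6 = X := by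
  subst e0
  subst e1
  subst e2
  subst e3
  subst e4
  subst e5
  exact rot_22_4 X

theorem coi_22_5 {X z1 z2 z3 z4 z5 z6 : Q} (e0 : sm gd X = z1) (e1 : sm ge z1 = z2) (e2 : sm gd z2 = z3) (e3 : sm ge z3 = z4) (e4 : sm gd z4 = z5) (e5 : sm ge z5 = z6) : z6 = X := by
  subst e0
  subst e1
  subst e2
  subst e3
  subst e4
  subst e5
  exact rot_22_5 X

theorem coi_23_2 {X z1 z2 z3 z4 z5 z6 : Q} (e0 : sm gf X = z1) (e1 : sm gd z1 = z2) (e2 : sm gf z2 = z3) (e3 : sm gd z3 = z4) (e4 : sm gf z4 = z5) (e5 : sm gd z5 = z6) : z6 = X := by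
  subst e0
  subst e1
  subst e2
  subst e3
  subst e4
  subst e5
  exact rot_23_2 X

theorem coi_23_3 {X z1 z2 z3 z4 z5 z6 : Q} (e0 : sm gd X = z1) (e1 : sm gf z1 = z2) (e2 : sm gd z2 = z3) (e3 : sm gf z3 = z4) (e4 : sm gd z4 = z5) (e5 : sm gf z5 = z6) : z6 = X := by
  subst e0
  subst e1
  subst e2
  subst e3
  subst e4
  subst e5
  exact rot_23_3 X

theorem coi_23_4 {X z1 z2 z3 z4 z5 z6 : Q} (e0 : sm gf X = z1) (e1 : sm gd z1 = z2) (e2 : sm gf z2 = z3) (e3 : sm gd z3 = z4) (e4 : sm gf z4 = z5) (e5 : sm gd z5 = z6) : z6 = X := by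
  subst e0
  subst e1
  subst e2
  subst e3
  subst e4
  subst e5
  exact rot_23_4 X

theorem coi_23_5 {X z1 z2 z3 z4 z5 z6 : Q} (e0 : sm gd X = z1) (e1 : sm gf z1 = z2) (e2 : sm gd z2 = z3) (e3 : sm gf z3 = z4) (e4 : sm gd z4 = z5) (e5 : sm gf z5 = z6) : z6 = X := by
  subst e0
  subst e1
  subst e2
  subst e3
  subst e4
  subst e5
  exact rot_23_5 X

theorem coi_24_0 {X z1 z2 z3 z4 z5 z6 : Q} (e0 : sm gg X = z1) (e1 : sm gd z1 = z2) (e2 : sm gg z2 = z3) (e3 : sm gd z3 = z4) (e4 : sm gg z4 = z5) (e5 : sm gd z5 = z6) : z6 = X := by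
  subst e0
  subst e1
  subst e2
  subst e3
  subst e4
  subst e5
  exact rot_24_0 X

theorem coi_24_5 {X z1 z2 z3 z4 z5 z6 : Q} (e0 : sm gd X = z1) (e1 : sm gg z1 = z2) (e2 : sm gd z2 = z3) (e3 : sm gg z3 = z4) (e4 : sm gd z4 = z5) (e5 : sm gg z5 = z6) : z6 = X := by
  subst e0
  subst e1
  subst e2
  subst e3
  subst e4
  subst e5
  exact rot_24_5 X

theorem coi_25_3 {X z1 z2 z3 z4 : Q} (e0 : sm ge X = z1) (e1 : sm gf z1 = z2) (e2 : sm ge z2 = z3) (e3 : sm gf z3 = z4) : z4 = X := by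
  subst e0
  subst e1
  subst e2
  subst e3
  exact rot_25_3 X

theorem coi_28_0 {X z1 z2 z3 z4 z5 : Q} (e0 : sm gf X = z1) (e1 : sm gg z1 = z2) (e2 : sm gf z2 = z3) (e3 : sm gg z3 = z4) (e4 : sm ge z4 = z5) : z5 = X := by
  subst e0
  subst e1
  subst e2
  subst e3
  subst e4
  exact rot_28_0 X

theorem coi_28_2 {X z1 z2 z3 z4 z5 : Q} (e0 : sm gf X = z1) (e1 : sm gg z1 = z2) (e2 : sm ge z2 = z3) (e3 : sm gf z3 = z4) (e4 : sm gg z4 = z5) : z5 = X := by
  subst e0
  subst e1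
  subst e2
  subst e3
  subst e4
  exact rot_28_2 X

theorem coi_29_9 {X z1 z2 z3 z4 z5 z6 z7 z8 z9 z10 : Q} (e0 : sm ge X = z1) (e1 : sm ga z1 = z2) (e2 : sm gb z2 = z3) (e3 : sm gc z3 = z4) (e4 : sm ga z4 = z5) (e5 : sm gb z5 = z6) (e6 : sm gc z6 = z7) (e7 : sm ga z7 = z8) (e8 : sm gb z8 = z9) (e9 : sm gc z9 = z10) : z10 = X := by
  subst e0
  subst e1
  subst e2
  subst e3
  subst e4
  subst e5
  subst e6
  subst e7
  subst e8
  subst e9
  exact rot_29_9 X

theorem coi_30_2 {X z1 z2 z3 z4 z5 z6 z7 z8 z9 z10 z11 : Q} (e0 : sm gc X = z1) (e1 : sm gd z1 = z2) (e2 : sm gc z2 = z3) (e3 : sm gd z3 = z4) (e4 : sm gc z4 = z5) (e5 : sm gd z5 = z6) (e6 : sm gc z6 = z7) (e7 : sm gd z7 = z8) (e8 : sm ga z8 = z9) (e9 : sm gc z9 = z10) (e10 : sm gd z10 = z11) : z11 = X := by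
  subst e0
  subst e1
  subst e2
  subst e3
  subst e4
  subst e5
  subst e6
  subst e7
  subst e8
  subst e9
  subst e10
  exact rot_30_2 X

theorem coi_30_4 {X z1 z2 z3 z4 z5 z6 z7 z8 z9 z10 z11 : Q} (e0 : sm gc X = z1) (e1 : sm gd z1 = z2) (e2 : sm gc z2 = z3) (e3 : sm gd z3 = z4) (e4 : sm gc z4 = z5) (e5 : sm gd z5 = z6) (e6 : sm ga z6 = z7) (e7 : sm gc z7 = z8) (e8 : sm gd z8 = z9) (e9 : sm gc z9 = z10) (e10 : sm gd z10 = z11) : z11 = X := by
  subst e0
  subst e1
  subst e2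
  subst e3
  subst e4
  subst e5
  subst e6
  subst e7
  subst e8
  subst e9
  subst e10
  exact rot_30_4 X

theorem coi_30_5 {X z1 z2 z3 z4 z5 z6 z7 z8 z9 z10 z11 : Q} (e0 : sm gd X = z1) (e1 : sm gc z1 = z2) (e2 : sm gd z2 = z3) (e3 : sm gc z3 = z4) (e4 : sm gd z4 = z5) (e5 : sm ga z5 = z6) (e6 : sm gc z6 = z7) (e7 : sm gd z7 = z8) (e8 : sm gc z8 = z9) (e9 : sm gd z9 = z10) (e10 : sm gc z10 = z11) : z11 = X := by
  subst e0
  subst e1
  subst e2
  subst e3
  subst e4
  subst e5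
  subst e6
  subst e7
  subst e8
  subst e9
  subst e10
  exact rot_30_5 X

theorem coi_30_6 {X z1 z2 z3 z4 z5 z6 z7 z8 z9 z10 z11 : Q} (e0 : sm gc X = z1) (e1 : sm gd z1 = z2) (e2 : sm gc z2 = z3) (e3 : sm gd z3 = z4) (e4 : sm ga z4 = z5) (e5 : sm gc z5 = z6) (e6 : sm gd z6 = z7) (e7 : sm gc z7 = z8) (e8 : sm gd z8 = z9) (e9 : sm gc z9 = z10) (e10 : sm gd z10 = z11) : z11 = X := by
  subst e0
  subst e1
  subst e2
  subst e3
  subst e4
  subst e5
  subst e6
  subst e7
  subst e8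
  subst e9
  subst e10
  exact rot_30_6 X

theorem coi_30_7 {X z1 z2 z3 z4 z5 z6 z7 z8 z9 z10 z11 : Q} (e0 : sm gd X = z1) (e1 : sm gc z1 = z2) (e2 : sm gd z2 = z3) (e3 : sm ga z3 = z4) (e4 : sm gc z4 = z5) (e5 : sm gd z5 = z6) (e6 : sm gc z6 = z7) (e7 : sm gd z7 = z8) (e8 : sm gc z8 = z9) (e9 : sm gd z9 = z10) (e10 : sm gc z10 = z11) : z11 = X := by
  subst e0
  subst e1
  subst e2
  subst e3
  subst e4
  subst e5
  subst e6
  subst e7
  subst e8
  subst e9
  subst e10
  exact rot_30_7 X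

theorem coi_30_8 {X z1 z2 z3 z4 z5 z6 z7 z8 z9 z10 z11 : Q} (e0 : sm gc X = z1) (e1 : sm gd z1 = z2) (e2 : sm ga z2 = z3) (e3 : sm gc z3 = z4) (e4 : sm gd z4 = z5) (e5 : sm gc z5 = z6) (e6 : sm gd z6 = z7) (e7 : sm gc z7 = z8) (e8 : sm gd z8 = z9) (e9 : sm gc z9 = z10) (e10 : sm gd z10 = z11) : z11 = X := by
  subst e0
  subst e1
  subst e2
  subst e3
  subst e4
  subst e5
  subst e6
  subst e7
  subst e8
  subst e9
  subst e10
  exact rot_30_8 X

theorem coi_31_0 {X z1 z2 z3 z4 z5 z6 z7 z8 z9 z10 z11 z12 z13 z14 z15 z16 : Q} (e0 : sm gg X = z1) (e1 : sm gf z1 = z2) (e2 : sm gd z2 = z3) (e3 : sm gc z3 = z4) (e4 : sm gg z4 = z5) (e5 : sm gf z5 = z6) (e6 : sm gd z6 = z7) (e7 : sm gc z7 = z8) (e8 : sm gg z8 = z9) (e9 : sm gf z9 = z10) (e10 : sm gd z10 = z11) (e11 : sm gc z11 = z12) (e12 : sm gg z12 = z13) (e13 : sm gf z13 = z14) (e14 : sm gd z14 = z15) (e15 : sm gc z15 = z16) : z16 = X := by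
  subst e0
  subst e1
  subst e2
  subst e3
  subst e4
  subst e5
  subst e6
  subst e7
  subst e8
  subst e9
  subst e10
  subst e11
  subst e12
  subst e13
  subst e14
  subst e15
  exact rot_31_0 X

theorem coi_31_4 {X z1 z2 z3 z4 z5 z6 z7 z8 z9 z10 z11 z12 z13 z14 z15 z16 : Q} (e0 : sm gg X = z1) (e1 : sm gf z1 = z2) (e2 : sm gd z2 = z3) (e3 : sm gc z3 = z4) (e4 : sm gg z4 = z5) (e5 : sm gf z5 = z6) (e6 : sm gd z6 = z7) (e7 : sm gc z7 = z8) (e8 : sm gg z8 = z9) (e9 : sm gf z9 = z10) (e10 : sm gd z10 = z11) (e11 : sm gc z11 = z12) (e12 : sm gg z12 = z13) (e13 : sm gf z13 = z14) (e14 : sm gd z14 = z15) (e15 : sm gc z15 = z16) : z16 = X := by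
  subst e0
  subst e1
  subst e2
  subst e3
  subst e4
  subst e5
  subst e6
  subst e7
  subst e8
  subst e9
  subst e10
  subst e11
  subst e12
  subst e13
  subst e14
  subst e15
  exact rot_31_4 X

theorem coi_31_5 {X z1 z2 z3 z4 z5 z6 z7 z8 z9 z10 z11 z12 z13 z14 z15 z16 : Q} (e0 : sm gf X = z1) (e1 : sm gd z1 = z2) (e2 : sm gc z2 = z3) (e3 : sm gg z3 = z4) (e4 : sm gf z4 = z5) (e5 : sm gd z5 = z6) (e6 : sm gc z6 = z7) (e7 : sm gg z7 = z8) (e8 : sm gf z8 = z9) (e9 : sm gd z9 = z10) (e10 : sm gc z10 = z11) (e11 : sm gg z11 = z12) (e12 : sm gf z12 = z13) (e13 : sm gd z13 = z14) (e14 : sm gc z14 = z15) (e15 : sm gg z15 = z16) : z16 = X := by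
  subst e0
  subst e1
  subst e2
  subst e3
  subst e4
  subst e5
  subst e6
  subst e7
  subst e8
  subst e9
  subst e10
  subst e11
  subst e12
  subst e13
  subst e14
  subst e15
  exact rot_31_5 X

theorem coi_31_7 {X z1 z2 z3 z4 z5 z6 z7 z8 z9 z10 z11 z12 z13 z14 z15 z16 : Q} (e0 : sm gc X = z1) (e1 : sm gg z1 = z2) (e2 : sm gf z2 = z3) (e3 : sm gd z3 = z4) (e4 : sm gc z4 = z5) (e5 : sm gg z5 = z6) (e6 : sm gf z6 = z7) (e7 : sm gd z7 = z8) (e8 : sm gc z8 = z9) (e9 : sm gg z9 = z10) (e10 : sm gf z10 = z11) (e11 : sm gd z11 = z12) (e12 : sm gc z12 = z13) (e13 : sm gg z13 = z14) (e14 : sm gf z14 = z15) (e15 : sm gd z15 = z16) : z16 = X := by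
  subst e0
  subst e1
  subst e2
  subst e3
  subst e4
  subst e5
  subst e6
  subst e7
  subst e8
  subst e9
  subst e10
  subst e11
  subst e12
  subst e13
  subst e14
  subst e15
  exact rot_31_7 X

theorem coi_31_8 {X z1 z2 z3 z4 z5 z6 z7 z8 z9 z10 z11 z12 z13 z14 z15 z16 : Q} (e0 : sm gg X = z1) (e1 : sm gf z1 = z2) (e2 : sm gd z2 = z3) (e3 : sm gc z3 = z4) (e4 : sm gg z4 = z5) (e5 : sm gf z5 = z6) (e6 : sm gd z6 = z7) (e7 : sm gc z7 = z8) (e8 : sm gg z8 = z9) (e9 : sm gf z9 = z10) (e10 : sm gd z10 = z11) (e11 : sm gc z11 = z12) (e12 : sm gg z12 = z13) (e13 : sm gf z13 = z14) (e14 : sm gd z14 = z15) (e15 : sm gc z15 = z16) : z16 = X := by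
  subst e0
  subst e1
  subst e2
  subst e3
  subst e4
  subst e5
  subst e6
  subst e7
  subst e8
  subst e9
  subst e10
  subst e11
  subst e12
  subst e13
  subst e14
  subst e15
  exact rot_31_8 X

theorem coi_31_9 {X z1 z2 z3 z4 z5 z6 z7 z8 z9 z10 z11 z12 z13 z14 z15 z16 : Q} (e0 : sm gf X = z1) (e1 : sm gd z1 = z2) (e2 : sm gc z2 = z3) (e3 : sm gg z3 = z4) (e4 : sm gf z4 = z5) (e5 : sm gd z5 = z6) (e6 : sm gc z6 = z7) (e7 : sm gg z7 = z8) (e8 : sm gf z8 = z9) (e9 : sm gd z9 = z10) (e10 : sm gc z10 = z11) (e11 : sm gg z11 = z12) (e12 : sm gf z12 = z13) (e13 : sm gd z13 = z14) (e14 : sm gc z14 = z15) (e15 : sm gg z15 = z16) : z16 = X := by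
  subst e0
  subst e1
  subst e2
  subst e3
  subst e4
  subst e5
  subst e6
  subst e7
  subst e8
  subst e9
  subst e10
  subst e11
  subst e12
  subst e13
  subst e14
  subst e15
  exact rot_31_9 X

theorem coi_31_10 {X z1 z2 z3 z4 z5 z6 z7 z8 z9 z10 z11 z12 z13 z14 z15 z16 : Q} (e0 : sm gd X = z1) (e1 : sm gc z1 = z2) (e2 : sm gg z2 = z3) (e3 : sm gf z3 = z4) (e4 : sm gd z4 = z5) (e5 : sm gc z5 = z6) (e6 : sm gg z6 = z7) (e7 : sm gf z7 = z8) (e8 : sm gd z8 = z9) (e9 : sm gc z9 = z10) (e10 : sm gg z10 = z11) (e11 : sm gf z11 = z12) (e12 : sm gd z12 = z13) (e13 : sm gc z13 = z14) (e14 : sm gg z14 = z15) (e15 : sm gf z15 = z16) : z16 = X := by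
  subst e0
  subst e1
  subst e2
  subst e3
  subst e4
  subst e5
  subst e6
  subst e7
  subst e8
  subst e9
  subst e10
  subst e11
  subst e12
  subst e13
  subst e14
  subst e15
  exact rot_31_10 X

theorem coi_31_11 {X z1 z2 z3 z4 z5 z6 z7 z8 z9 z10 z11 z12 z13 z14 z15 z16 : Q} (e0 : sm gc X = z1) (e1 : sm gg z1 = z2) (e2 : sm gf z2 = z3) (e3 : sm gd z3 = z4) (e4 : sm gc z4 = z5) (e5 : sm gg z5 = z6) (e6 : sm gf z6 = z7) (e7 : sm gd z7 = z8) (e8 : sm gc z8 = z9) (e9 : sm gg z9 = z10) (e10 : sm gf z10 = z11) (e11 : sm gd z11 = z12) (e12 : sm gc z12 = z13) (e13 : sm gg z13 = z14) (e14 : sm gf z14 = z15) (e15 : sm gd z15 = z16) : z16 = X := by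
  subst e0
  subst e1
  subst e2
  subst e3
  subst e4
  subst e5
  subst e6
  subst e7
  subst e8
  subst e9
  subst e10
  subst e11
  subst e12
  subst e13
  subst e14
  subst e15
  exact rot_31_11 X

theorem coi_31_12 {X z1 z2 z3 z4 z5 z6 z7 z8 z9 z10 z11 z12 z13 z14 z15 z16 : Q} (e0 : sm gg X = z1) (e1 : sm gf z1 = z2) (e2 : sm gd z2 = z3) (e3 : sm gc z3 = z4) (e4 : sm gg z4 = z5) (e5 : sm gf z5 = z6) (e6 : sm gd z6 = z7) (e7 : sm gc z7 = z8) (e8 : sm gg z8 = z9) (e9 : sm gf z9 = z10) (e10 : sm gd z10 = z11) (e11 : sm gc z11 = z12) (e12 : sm gg z12 = z13) (e13 : sm gf z13 = z14) (e14 : sm gd z14 = z15) (e15 : sm gc z15 = z16) : z16 = X := by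
  subst e0
  subst e1
  subst e2
  subst e3
  subst e4
  subst e5
  subst e6
  subst e7
  subst e8
  subst e9
  subst e10
  subst e11
  subst e12
  subst e13
  subst e14
  subst e15
  exact rot_31_12 X

theorem coi_31_13 {X z1 z2 z3 z4 z5 z6 z7 z8 z9 z10 z11 z12 z13 z14 z15 z16 : Q} (e0 : sm gf X = z1) (e1 : sm gd z1 = z2) (e2 : sm gc z2 = z3) (e3 : sm gg z3 = z4) (e4 : sm gf z4 = z5) (e5 : sm gd z5 = z6) (e6 : sm gc z6 = z7) (e7 : sm gg z7 = z8) (e8 : sm gf z8 = z9) (e9 : sm gd z9 = z10) (e10 : sm gc z10 = z11) (e11 : sm gg z11 = z12) (e12 : sm gf z12 = z13) (e13 : sm gd z13 = z14) (e14 : sm gc z14 = z15) (e15 : sm gg z15 = z16) : z16 = X := by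
  subst e0
  subst e1
  subst e2
  subst e3
  subst e4
  subst e5
  subst e6
  subst e7
  subst e8
  subst e9
  subst e10
  subst e11
  subst e12
  subst e13
  subst e14
  subst e15
  exact rot_31_13 X

theorem coi_31_14 {X z1 z2 z3 z4 z5 z6 z7 z8 z9 z10 z11 z12 z13 z14 z15 z16 : Q} (e0 : sm gd X = z1) (e1 : sm gc z1 = z2) (e2 : sm gg z2 = z3) (e3 : sm gf z3 = z4) (e4 : sm gd z4 = z5) (e5 : sm gc z5 = z6) (e6 : sm gg z6 = z7) (e7 : sm gf z7 = z8) (e8 : sm gd z8 = z9) (e9 : sm gc z9 = z10) (e10 : sm gg z10 = z11) (e11 : sm gf z11 = z12) (e12 : sm gd z12 = z13) (e13 : sm gc z13 = z14) (e14 : sm gg z14 = z15) (e15 : sm gf z15 = z16) : z16 = X := by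
  subst e0
  subst e1
  subst e2
  subst e3
  subst e4
  subst e5
  subst e6
  subst e7
  subst e8
  subst e9
  subst e10
  subst e11
  subst e12
  subst e13
  subst e14
  subst e15
  exact rot_31_14 X

theorem coi_31_15 {X z1 z2 z3 z4 z5 z6 z7 z8 z9 z10 z11 z12 z13 z14 z15 z16 : Q} (e0 : sm gc X = z1) (e1 : sm gg z1 = z2) (e2 : sm gf z2 = z3) (e3 : sm gd z3 = z4) (e4 : sm gc z4 = z5) (e5 : sm gg z5 = z6) (e6 : sm gf z6 = z7) (e7 : sm gd z7 = z8) (e8 : sm gc z8 = z9) (e9 : sm gg z9 = z10) (e10 : sm gf z10 = z11) (e11 : sm gd z11 = z12) (e12 : sm gc z12 = z13) (e13 : sm gg z13 = z14) (e14 : sm gf z14 = z15) (e15 : sm gd z15 = z16) : z16 = X := by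
  subst e0
  subst e1
  subst e2
  subst e3
  subst e4
  subst e5
  subst e6
  subst e7
  subst e8
  subst e9
  subst e10
  subst e11
  subst e12
  subst e13
  subst e14
  subst e15
  exact rot_31_15 X

theorem ded_7_0 {X z1 z2 z3 z4 z5 z6 z7 : Q} (e0 : sm ga X = z1) (e1 : sm gb z1 = z2) (e2 : sm ga z2 = z3) (e3 : sm gb z3 = z4) (e4 : sm ga z4 = z5) (e5 : sm gb z5 = z6) (e6 : sm ga z6 = z7) : sm gb z7 = X := by
  subst e0
  subst e1
  subst e2
  subst e3
  subst e4
  subst e5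
  subst e6
  exact rot_7_1 X

theorem ded_7_1 {X z1 z2 z3 z4 z5 z6 z7 : Q} (e0 : sm gb X = z1) (e1 : sm ga z1 = z2) (e2 : sm gb z2 = z3) (e3 : sm ga z3 = z4) (e4 : sm gb z4 = z5) (e5 : sm ga z5 = z6) (e6 : sm gb z6 = z7) : sm ga z7 = X := by
  subst e0
  subst e1
  subst e2
  subst e3
  subst e4
  subst e5
  subst e6
  exact rot_7_2 X

theorem ded_7_2 {X z1 z2 z3 z4 z5 z6 z7 : Q} (e0 : sm ga X = z1) (e1 : sm gb z1 = z2) (e2 : sm ga z2 = z3) (e3 : sm gb z3 = z4) (e4 : sm ga z4 = z5) (e5 : sm gb z5 = z6) (e6 : sm ga z6 = z7) : sm gb z7 = X := by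
  subst e0
  subst e1
  subst e2
  subst e3
  subst e4
  subst e5
  subst e6
  exact rot_7_3 X

theorem ded_8_0 {X z1 z2 z3 : Q} (e0 : sm ga X = z1) (e1 : sm gc z1 = z2) (e2 : sm ga z2 = z3) : sm gc z3 = X := by
  subst e0
  subst e1
  subst e2
  exact rot_8_1 X

theorem ded_8_1 {X z1 z2 z3 : Q} (e0 : sm gc X = z1) (e1 : sm ga z1 = z2) (e2 : sm gc z2 = z3) : sm ga z3 = X := by
  subst e0
  subst e1
  subst e2
  exact rot_8_2 X

theorem ded_8_2 {X z1 z2 z3 : Q} (e0 : sm ga X = z1) (e1 : sm gc z1 = z2) (e2 : sm ga z2 = z3) : sm gc z3 = X := by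
  subst e0
  subst e1
  subst e2
  exact rot_8_3 X

theorem ded_8_3 {X z1 z2 z3 : Q} (e0 : sm gc X = z1) (e1 : sm ga z1 = z2) (e2 : sm gc z2 = z3) : sm ga z3 = X := by
  subst e0
  subst e1
  subst e2
  exact rot_8_0 X

theorem ded_9_0 {X z1 z2 z3 : Q} (e0 : sm ga X = z1) (e1 : sm gd z1 = z2) (e2 : sm ga z2 = z3) : sm gd z3 = X := by
  subst e0
  subst e1
  subst e2
  exact rot_9_1 X

theorem ded_9_1 {X z1 z2 z3 : Q} (e0 : sm gd X = z1) (e1 : sm ga z1 = z2) (e2 : sm gd z2 = z3) : sm ga z3 = X := by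
  subst e0
  subst e1
  subst e2
  exact rot_9_2 X

theorem ded_9_2 {X z1 z2 z3 : Q} (e0 : sm ga X = z1) (e1 : sm gd z1 = z2) (e2 : sm ga z2 = z3) : sm gd z3 = X := by
  subst e0
  subst e1
  subst e2
  exact rot_9_3 X

theorem ded_9_3 {X z1 z2 z3 : Q} (e0 : sm gd X = z1) (e1 : sm ga z1 = z2) (e2 : sm gd z2 = z3) : sm ga z3 = X := by
  subst e0
  subst e1
  subst e2
  exact rot_9_0 X

theorem ded_10_0 {X z1 z2 z3 : Q} (e0 : sm ga X = z1) (e1 : sm ge z1 = z2) (e2 : sm ga z2 = z3) : sm ge z3 = X := by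
  subst e0
  subst e1
  subst e2
  exact rot_10_1 X

theorem ded_10_1 {X z1 z2 z3 : Q} (e0 : sm ge X = z1) (e1 : sm ga z1 = z2) (e2 : sm ge z2 = z3) : sm ga z3 = X := by
  subst e0
  subst e1
  subst e2
  exact rot_10_2 X

theorem ded_10_2 {X z1 z2 z3 : Q} (e0 : sm ga X = z1) (e1 : sm ge z1 = z2) (e2 : sm ga z2 = z3) : sm ge z3 = X := by
  subst e0
  subst e1
  subst e2
  exact rot_10_3 X

theorem ded_10_3 {X z1 z2 z3 : Q} (e0 : sm ge X = z1) (e1 : sm ga z1 = z2) (e2 : sm ge z2 = z3) : sm ga z3 = X := by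
  subst e0
  subst e1
  subst e2
  exact rot_10_0 X

theorem ded_11_0 {X z1 z2 z3 : Q} (e0 : sm ga X = z1) (e1 : sm gf z1 = z2) (e2 : sm ga z2 = z3) : sm gf z3 = X := by
  subst e0
  subst e1
  subst e2
  exact rot_11_1 X

theorem ded_11_1 {X z1 z2 z3 : Q} (e0 : sm gf X = z1) (e1 : sm ga z1 = z2) (e2 : sm gf z2 = z3) : sm ga z3 = X := by
  subst e0
  subst e1
  subst e2
  exact rot_11_2 X

theorem ded_11_2 {X z1 z2 z3 : Q} (e0 : sm ga X = z1) (e1 : sm gf z1 = z2) (e2 : sm ga z2 = z3) : sm gf z3 = X := by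
  subst e0
  subst e1
  subst e2
  exact rot_11_3 X

theorem ded_11_3 {X z1 z2 z3 : Q} (e0 : sm gf X = z1) (e1 : sm ga z1 = z2) (e2 : sm gf z2 = z3) : sm ga z3 = X := by
  subst e0
  subst e1
  subst e2
  exact rot_11_0 X

theorem ded_12_0 {X z1 z2 z3 : Q} (e0 : sm ga X = z1) (e1 : sm gg z1 = z2) (e2 : sm ga z2 = z3) : sm gg z3 = X := by
  subst e0
  subst e1
  subst e2
  exact rot_12_1 X

theorem ded_12_1 {X z1 z2 z3 : Q} (e0 : sm gg X = z1) (e1 : sm ga z1 = z2) (e2 : sm gg z2 = z3) : sm ga z3 = X := by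
  subst e0
  subst e1
  subst e2
  exact rot_12_2 X

theorem ded_12_2 {X z1 z2 z3 : Q} (e0 : sm ga X = z1) (e1 : sm gg z1 = z2) (e2 : sm ga z2 = z3) : sm gg z3 = X := by
  subst e0
  subst e1
  subst e2
  exact rot_12_3 X

theorem ded_12_3 {X z1 z2 z3 : Q} (e0 : sm gg X = z1) (e1 : sm ga z1 = z2) (e2 : sm gg z2 = z3) : sm ga z3 = X := by
  subst e0
  subst e1
  subst e2
  exact rot_12_0 X

theorem ded_13_0 {X z1 z2 z3 z4 z5 : Q} (e0 : sm gb X = z1) (e1 : sm gc z1 = z2) (e2 : sm gb z2 = z3) (e3 : sm gc z3 = z4) (e4 : sm gb z4 = z5) : sm gc z5 = X := by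
  subst e0
  subst e1
  subst e2
  subst e3
  subst e4
  exact rot_13_1 X

theorem ded_13_1 {X z1 z2 z3 z4 z5 : Q} (e0 : sm gc X = z1) (e1 : sm gb z1 = z2) (e2 : sm gc z2 = z3) (e3 : sm gb z3 = z4) (e4 : sm gc z4 = z5) : sm gb z5 = X := by
  subst e0
  subst e1
  subst e2
  subst e3
  subst e4
  exact rot_13_2 X

theorem ded_13_2 {X z1 z2 z3 z4 z5 : Q} (e0 : sm gb X = z1) (e1 : sm gc z1 = z2) (e2 : sm gb z2 = z3) (e3 : sm gc z3 = z4) (e4 : sm gb z4 = z5) : sm gc z5 = X := by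
  subst e0
  subst e1
  subst e2
  subst e3
  subst e4
  exact rot_13_3 X

theorem ded_13_3 {X z1 z2 z3 z4 z5 : Q} (e0 : sm gc X = z1) (e1 : sm gb z1 = z2) (e2 : sm gc z2 = z3) (e3 : sm gb z3 = z4) (e4 : sm gc z4 = z5) : sm gb z5 = X := by
  subst e0
  subst e1
  subst e2
  subst e3
  subst e4
  exact rot_13_4 X

theorem ded_13_4 {X z1 z2 z3 z4 z5 : Q} (e0 : sm gb X = z1) (e1 : sm gc z1 = z2) (e2 : sm gb z2 = z3) (e3 : sm gc z3 = z4) (e4 : sm gb z4 = z5) : sm gc z5 = X := by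
  subst e0
  subst e1
  subst e2
  subst e3
  subst e4
  exact rot_13_5 X

theorem ded_14_0 {X z1 z2 z3 : Q} (e0 : sm gb X = z1) (e1 : sm gd z1 = z2) (e2 : sm gb z2 = z3) : sm gd z3 = X := by
  subst e0
  subst e1
  subst e2
  exact rot_14_1 X

theorem ded_14_1 {X z1 z2 z3 : Q} (e0 : sm gd X = z1) (e1 : sm gb z1 = z2) (e2 : sm gd z2 = z3) : sm gb z3 = X := by
  subst e0
  subst e1
  subst e2
  exact rot_14_2 X

theorem ded_14_2 {X z1 z2 z3 : Q} (e0 : sm gb X = z1) (e1 : sm gd z1 = z2) (e2 : sm gb z2 = z3) : sm gd z3 = X := by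
  subst e0
  subst e1
  subst e2
  exact rot_14_3 X

theorem ded_14_3 {X z1 z2 z3 : Q} (e0 : sm gd X = z1) (e1 : sm gb z1 = z2) (e2 : sm gd z2 = z3) : sm gb z3 = X := by
  subst e0
  subst e1
  subst e2
  exact rot_14_0 X

theorem ded_15_0 {X z1 z2 z3 : Q} (e0 : sm gb X = z1) (e1 : sm ge z1 = z2) (e2 : sm gb z2 = z3) : sm ge z3 = X := by
  subst e0
  subst e1
  subst e2
  exact rot_15_1 X

theorem ded_15_1 {X z1 z2 z3 : Q} (e0 : sm ge X = z1) (e1 : sm gb z1 = z2) (e2 : sm ge z2 = z3) : sm gb z3 = X := by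
  subst e0
  subst e1
  subst e2
  exact rot_15_2 X

theorem ded_15_2 {X z1 z2 z3 : Q} (e0 : sm gb X = z1) (e1 : sm ge z1 = z2) (e2 : sm gb z2 = z3) : sm ge z3 = X := by
  subst e0
  subst e1
  subst e2
  exact rot_15_3 X

theorem ded_15_3 {X z1 z2 z3 : Q} (e0 : sm ge X = z1) (e1 : sm gb z1 = z2) (e2 : sm ge z2 = z3) : sm gb z3 = X := by
  subst e0
  subst e1
  subst e2
  exact rot_15_0 X

theorem ded_16_0 {X z1 z2 z3 : Q} (e0 : sm gb X = z1) (e1 : sm gf z1 = z2) (e2 : sm gb z2 = z3) : sm gf z3 = X := by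
  subst e0
  subst e1
  subst e2
  exact rot_16_1 X

theorem ded_16_1 {X z1 z2 z3 : Q} (e0 : sm gf X = z1) (e1 : sm gb z1 = z2) (e2 : sm gf z2 = z3) : sm gb z3 = X := by
  subst e0
  subst e1
  subst e2
  exact rot_16_2 X

theorem ded_16_2 {X z1 z2 z3 : Q} (e0 : sm gb X = z1) (e1 : sm gf z1 = z2) (e2 : sm gb z2 = z3) : sm gf z3 = X := by
  subst e0
  subst e1
  subst e2
  exact rot_16_3 X

theorem ded_16_3 {X z1 z2 z3 : Q} (e0 : sm gf X = z1) (e1 : sm gb z1 = z2) (e2 : sm gf z2 = z3) : sm gb z3 = X := by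
  subst e0
  subst e1
  subst e2
  exact rot_16_0 X

theorem ded_17_0 {X z1 z2 z3 : Q} (e0 : sm gb X = z1) (e1 : sm gg z1 = z2) (e2 : sm gb z2 = z3) : sm gg z3 = X := by
  subst e0
  subst e1
  subst e2
  exact rot_17_1 X

theorem ded_17_1 {X z1 z2 z3 : Q} (e0 : sm gg X = z1) (e1 : sm gb z1 = z2) (e2 : sm gg z2 = z3) : sm gb z3 = X := by
  subst e0
  subst e1
  subst e2
  exact rot_17_2 X

theorem ded_17_2 {X z1 z2 z3 : Q} (e0 : sm gb X = z1) (e1 : sm gg z1 = z2) (e2 : sm gb z2 = z3) : sm gg z3 = X := by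
  subst e0
  subst e1
  subst e2
  exact rot_17_3 X

theorem ded_17_3 {X z1 z2 z3 : Q} (e0 : sm gg X = z1) (e1 : sm gb z1 = z2) (e2 : sm gg z2 = z3) : sm gb z3 = X := by
  subst e0
  subst e1
  subst e2
  exact rot_17_0 X

theorem ded_19_0 {X z1 z2 z3 : Q} (e0 : sm gc X = z1) (e1 : sm ge z1 = z2) (e2 : sm gc z2 = z3) : sm ge z3 = X := by
  subst e0
  subst e1
  subst e2
  exact rot_19_1 X

theorem ded_19_1 {X z1 z2 z3 : Q} (e0 : sm ge X = z1) (e1 : sm gc z1 = z2) (e2 : sm ge z2 = z3) : sm gc z3 = X := by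
  subst e0
  subst e1
  subst e2
  exact rot_19_2 X

theorem ded_19_2 {X z1 z2 z3 : Q} (e0 : sm gc X = z1) (e1 : sm ge z1 = z2) (e2 : sm gc z2 = z3) : sm ge z3 = X := by
  subst e0
  subst e1
  subst e2
  exact rot_19_3 X

theorem ded_19_3 {X z1 z2 z3 : Q} (e0 : sm ge X = z1) (e1 : sm gc z1 = z2) (e2 : sm ge z2 = z3) : sm gc z3 = X := by
  subst e0
  subst e1
  subst e2
  exact rot_19_0 X

theorem ded_20_0 {X z1 z2 z3 : Q} (e0 : sm gc X = z1) (e1 : sm gf z1 = z2) (e2 : sm gc z2 = z3) : sm gf z3 = X := by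
  subst e0
  subst e1
  subst e2
  exact rot_20_1 X

theorem ded_20_1 {X z1 z2 z3 : Q} (e0 : sm gf X = z1) (e1 : sm gc z1 = z2) (e2 : sm gf z2 = z3) : sm gc z3 = X := by
  subst e0
  subst e1
  subst e2
  exact rot_20_2 X

theorem ded_20_2 {X z1 z2 z3 : Q} (e0 : sm gc X = z1) (e1 : sm gf z1 = z2) (e2 : sm gc z2 = z3) : sm gf z3 = X := by
  subst e0
  subst e1
  subst e2
  exact rot_20_3 X

theorem ded_20_3 {X z1 z2 z3 : Q} (e0 : sm gf X = z1) (e1 : sm gc z1 = z2) (e2 : sm gf z2 = z3) : sm gc z3 = X := by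
  subst e0
  subst e1
  subst e2
  exact rot_20_0 X

theorem ded_21_0 {X z1 z2 z3 : Q} (e0 : sm gc X = z1) (e1 : sm gg z1 = z2) (e2 : sm gc z2 = z3) : sm gg z3 = X := by
  subst e0
  subst e1
  subst e2
  exact rot_21_1 X

theorem ded_21_1 {X z1 z2 z3 : Q} (e0 : sm gg X = z1) (e1 : sm gc z1 = z2) (e2 : sm gg z2 = z3) : sm gc z3 = X := by
  subst e0
  subst e1
  subst e2
  exact rot_21_2 X

theorem ded_21_2 {X z1 z2 z3 : Q} (e0 : sm gc X = z1) (e1 : sm gg z1 = z2) (e2 : sm gc z2 = z3) : sm gg z3 = X := by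
  subst e0
  subst e1
  subst e2
  exact rot_21_3 X

theorem ded_21_3 {X z1 z2 z3 : Q} (e0 : sm gg X = z1) (e1 : sm gc z1 = z2) (e2 : sm gg z2 = z3) : sm gc z3 = X := by
  subst e0
  subst e1
  subst e2
  exact rot_21_0 X

theorem ded_22_0 {X z1 z2 z3 z4 z5 : Q} (e0 : sm gd X = z1) (e1 : sm ge z1 = z2) (e2 : sm gd z2 = z3) (e3 : sm ge z3 = z4) (e4 : sm gd z4 = z5) : sm ge z5 = X := by
  subst e0
  subst e1
  subst e2
  subst e3
  subst e4
  exact rot_22_1 X

theorem ded_22_1 {X z1 z2 z3 z4 z5 : Q} (e0 : sm ge X = z1) (e1 : sm gd z1 = z2) (e2 : sm ge z2 = z3) (e3 : sm gd z3 = z4) (e4 : sm ge z4 = z5) : sm gd z5 = X := by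
  subst e0
  subst e1
  subst e2
  subst e3
  subst e4
  exact rot_22_2 X

theorem ded_22_2 {X z1 z2 z3 z4 z5 : Q} (e0 : sm gd X = z1) (e1 : sm ge z1 = z2) (e2 : sm gd z2 = z3) (e3 : sm ge z3 = z4) (e4 : sm gd z4 = z5) : sm ge z5 = X := by
  subst e0
  subst e1
  subst e2
  subst e3
  subst e4
  exact rot_22_3 X

theorem ded_22_3 {X z1 z2 z3 z4 z5 : Q} (e0 : sm ge X = z1) (e1 : sm gd z1 = z2) (e2 : sm ge z2 = z3) (e3 : sm gd z3 = z4) (e4 : sm ge z4 = z5) : sm gd z5 = X := by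
  subst e0
  subst e1
  subst e2
  subst e3
  subst e4
  exact rot_22_4 X

theorem ded_22_4 {X z1 z2 z3 z4 z5 : Q} (e0 : sm gd X = z1) (e1 : sm ge z1 = z2) (e2 : sm gd z2 = z3) (e3 : sm ge z3 = z4) (e4 : sm gd z4 = z5) : sm ge z5 = X := by
  subst e0
  subst e1
  subst e2
  subst e3
  subst e4
  exact rot_22_5 X

theorem ded_22_5 {X z1 z2 z3 z4 z5 : Q} (e0 : sm ge X = z1) (e1 : sm gd z1 = z2) (e2 : sm ge z2 = z3) (e3 : sm gd z3 = z4) (e4 : sm ge z4 = z5) : sm gd z5 = X := by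
  subst e0
  subst e1
  subst e2
  subst e3
  subst e4
  exact rot_22_0 X

theorem ded_23_0 {X z1 z2 z3 z4 z5 : Q} (e0 : sm gd X = z1) (e1 : sm gf z1 = z2) (e2 : sm gd z2 = z3) (e3 : sm gf z3 = z4) (e4 : sm gd z4 = z5) : sm gf z5 = X := by
  subst e0
  subst e1
  subst e2
  subst e3
  subst e4
  exact rot_23_1 X

theorem ded_23_1 {X z1 z2 z3 z4 z5 : Q} (e0 : sm gf X = z1) (e1 : sm gd z1 = z2) (e2 : sm gf z2 = z3) (e3 : sm gd z3 = z4) (e4 : sm gf z4 = z5) : sm gd z5 = X := by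
  subst e0
  subst e1
  subst e2
  subst e3
  subst e4
  exact rot_23_2 X

theorem ded_23_2 {X z1 z2 z3 z4 z5 : Q} (e0 : sm gd X = z1) (e1 : sm gf z1 = z2) (e2 : sm gd z2 = z3) (e3 : sm gf z3 = z4) (e4 : sm gd z4 = z5) : sm gf z5 = X := by
  subst e0
  subst e1
  subst e2
  subst e3
  subst e4
  exact rot_23_3 X

theorem ded_23_3 {X z1 z2 z3 z4 z5 : Q} (e0 : sm gf X = z1) (e1 : sm gd z1 = z2) (e2 : sm gf z2 = z3) (e3 : sm gd z3 = z4) (e4 : sm gf z4 = z5) : sm gd z5 = X := by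
  subst e0
  subst e1
  subst e2
  subst e3
  subst e4
  exact rot_23_4 X

theorem ded_23_4 {X z1 z2 z3 z4 z5 : Q} (e0 : sm gd X = z1) (e1 : sm gf z1 = z2) (e2 : sm gd z2 = z3) (e3 : sm gf z3 = z4) (e4 : sm gd z4 = z5) : sm gf z5 = X := by
  subst e0
  subst e1
  subst e2
  subst e3
  subst e4
  exact rot_23_5 X

theorem ded_23_5 {X z1 z2 z3 z4 z5 : Q} (e0 : sm gf X = z1) (e1 : sm gd z1 = z2) (e2 : sm gf z2 = z3) (e3 : sm gd z3 = z4) (e4 : sm gf z4 = z5) : sm gd z5 = X := by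
  subst e0
  subst e1
  subst e2
  subst e3
  subst e4
  exact rot_23_0 X

theorem ded_24_0 {X z1 z2 z3 z4 z5 : Q} (e0 : sm gd X = z1) (e1 : sm gg z1 = z2) (e2 : sm gd z2 = z3) (e3 : sm gg z3 = z4) (e4 : sm gd z4 = z5) : sm gg z5 = X := by
  subst e0
  subst e1
  subst e2
  subst e3
  subst e4
  exact rot_24_1 X

theorem ded_24_1 {X z1 z2 z3 z4 z5 : Q} (e0 : sm gg X = z1) (e1 : sm gd z1 = z2) (e2 : sm gg z2 = z3) (e3 : sm gd z3 = z4) (e4 : sm gg z4 = z5) : sm gd z5 = X := by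
  subst e0
  subst e1
  subst e2
  subst e3
  subst e4
  exact rot_24_2 X

theorem ded_24_2 {X z1 z2 z3 z4 z5 : Q} (e0 : sm gd X = z1) (e1 : sm gg z1 = z2) (e2 : sm gd z2 = z3) (e3 : sm gg z3 = z4) (e4 : sm gd z4 = z5) : sm gg z5 = X := by
  subst e0
  subst e1
  subst e2
  subst e3
  subst e4
  exact rot_24_3 X

theorem ded_24_3 {X z1 z2 z3 z4 z5 : Q} (e0 : sm gg X = z1) (e1 : sm gd z1 = z2) (e2 : sm gg z2 = z3) (e3 : sm gd z3 = z4) (e4 : sm gg z4 = z5) : sm gd z5 = X := by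
  subst e0
  subst e1
  subst e2
  subst e3
  subst e4
  exact rot_24_4 X

theorem ded_24_4 {X z1 z2 z3 z4 z5 : Q} (e0 : sm gd X = z1) (e1 : sm gg z1 = z2) (e2 : sm gd z2 = z3) (e3 : sm gg z3 = z4) (e4 : sm gd z4 = z5) : sm gg z5 = X := by
  subst e0
  subst e1
  subst e2
  subst e3
  subst e4
  exact rot_24_5 X

theorem ded_24_5 {X z1 z2 z3 z4 z5 : Q} (e0 : sm gg X = z1) (e1 : sm gd z1 = z2) (e2 : sm gg z2 = z3) (e3 : sm gd z3 = z4) (e4 : sm gg z4 = z5) : sm gd z5 = X := by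
  subst e0
  subst e1
  subst e2
  subst e3
  subst e4
  exact rot_24_0 X

theorem ded_25_0 {X z1 z2 z3 : Q} (e0 : sm ge X = z1) (e1 : sm gf z1 = z2) (e2 : sm ge z2 = z3) : sm gf z3 = X := by
  subst e0
  subst e1
  subst e2
  exact rot_25_1 X

theorem ded_25_1 {X z1 z2 z3 : Q} (e0 : sm gf X = z1) (e1 : sm ge z1 = z2) (e2 : sm gf z2 = z3) : sm ge z3 = X := by
  subst e0
  subst e1
  subst e2
  exact rot_25_2 X

theorem ded_25_2 {X z1 z2 z3 : Q} (e0 : sm ge X = z1) (e1 : sm gf z1 = z2) (e2 : sm ge z2 = z3) : sm gf z3 = X := by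
  subst e0
  subst e1
  subst e2
  exact rot_25_3 X

theorem ded_25_3 {X z1 z2 z3 : Q} (e0 : sm gf X = z1) (e1 : sm ge z1 = z2) (e2 : sm gf z2 = z3) : sm ge z3 = X := by
  subst e0
  subst e1
  subst e2
  exact rot_25_0 X

theorem ded_26_0 {X z1 z2 z3 : Q} (e0 : sm ge X = z1) (e1 : sm gg z1 = z2) (e2 : sm ge z2 = z3) : sm gg z3 = X := by
  subst e0
  subst e1
  subst e2
  exact rot_26_1 X

theorem ded_26_1 {X z1 z2 z3 : Q} (e0 : sm gg X = z1) (e1 : sm ge z1 = z2) (e2 : sm gg z2 = z3) : sm ge z3 = X := by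
  subst e0
  subst e1
  subst e2
  exact rot_26_2 X

theorem ded_26_2 {X z1 z2 z3 : Q} (e0 : sm ge X = z1) (e1 : sm gg z1 = z2) (e2 : sm ge z2 = z3) : sm gg z3 = X := by
  subst e0
  subst e1
  subst e2
  exact rot_26_3 X

theorem ded_26_3 {X z1 z2 z3 : Q} (e0 : sm gg X = z1) (e1 : sm ge z1 = z2) (e2 : sm gg z2 = z3) : sm ge z3 = X := by
  subst e0
  subst e1
  subst e2
  exact rot_26_0 X

theorem ded_28_0 {X z1 z2 z3 z4 : Q} (e0 : sm gg X = z1) (e1 : sm gf z1 = z2) (e2 : sm gg z2 = z3) (e3 : sm ge z3 = z4) : sm gf z4 = X := by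
  subst e0
  subst e1
  subst e2
  subst e3
  exact rot_28_1 X

theorem ded_28_1 {X z1 z2 z3 z4 : Q} (e0 : sm gf X = z1) (e1 : sm gg z1 = z2) (e2 : sm ge z2 = z3) (e3 : sm gf z3 = z4) : sm gg z4 = X := by
  subst e0
  subst e1
  subst e2
  subst e3
  exact rot_28_2 X

theorem ded_28_2 {X z1 z2 z3 z4 : Q} (e0 : sm gg X = z1) (e1 : sm ge z1 = z2) (e2 : sm gf z2 = z3) (e3 : sm gg z3 = z4) : sm gf z4 = X := by
  subst e0
  subst e1
  subst e2
  subst e3
  exact rot_28_3 X

theorem ded_28_3 {X z1 z2 z3 z4 : Q} (e0 : sm ge X = z1) (e1 : sm gf z1 = z2) (e2 : sm gg z2 = z3) (e3 : sm gf z3 = z4) : sm gg z4 = X := by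
  subst e0
  subst e1
  subst e2
  subst e3
  exact rot_28_4 X

theorem ded_28_4 {X z1 z2 z3 z4 : Q} (e0 : sm gf X = z1) (e1 : sm gg z1 = z2) (e2 : sm gf z2 = z3) (e3 : sm gg z3 = z4) : sm ge z4 = X := by
  subst e0
  subst e1
  subst e2
  subst e3
  exact rot_28_0 X

theorem ded_29_0 {X z1 z2 z3 z4 z5 z6 z7 z8 z9 : Q} (e0 : sm gb X = z1) (e1 : sm gc z1 = z2) (e2 : sm ga z2 = z3) (e3 : sm gb z3 = z4) (e4 : sm gc z4 = z5) (e5 : sm ga z5 = z6) (e6 : sm gb z6 = z7) (e7 : sm gc z7 = z8) (e8 : sm ge z8 = z9) : sm ga z9 = X := by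
  subst e0
  subst e1
  subst e2
  subst e3
  subst e4
  subst e5
  subst e6
  subst e7
  subst e8
  exact rot_29_1 X

theorem ded_29_1 {X z1 z2 z3 z4 z5 z6 z7 z8 z9 : Q} (e0 : sm gc X = z1) (e1 : sm ga z1 = z2) (e2 : sm gb z2 = z3) (e3 : sm gc z3 = z4) (e4 : sm ga z4 = z5) (e5 : sm gb z5 = z6) (e6 : sm gc z6 = z7) (e7 : sm ge z7 = z8) (e8 : sm ga z8 = z9) : sm gb z9 = X := by
  subst e0
  subst e1
  subst e2
  subst e3
  subst e4
  subst e5
  subst e6
  subst e7
  subst e8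
  exact rot_29_2 X

theorem ded_29_2 {X z1 z2 z3 z4 z5 z6 z7 z8 z9 : Q} (e0 : sm ga X = z1) (e1 : sm gb z1 = z2) (e2 : sm gc z2 = z3) (e3 : sm ga z3 = z4) (e4 : sm gb z4 = z5) (e5 : sm gc z5 = z6) (e6 : sm ge z6 = z7) (e7 : sm ga z7 = z8) (e8 : sm gb z8 = z9) : sm gc z9 = X := by
  subst e0
  subst e1
  subst e2
  subst e3
  subst e4
  subst e5
  subst e6
  subst e7
  subst e8
  exact rot_29_3 X

theorem ded_29_3 {X z1 z2 z3 z4 z5 z6 z7 z8 z9 : Q} (e0 : sm gb X = z1) (e1 : sm gc z1 = z2) (e2 : sm ga z2 = z3) (e3 : sm gb z3 = z4) (e4 : sm gc z4 = z5) (e5 : sm ge z5 = z6) (e6 : sm ga z6 = z7) (e7 : sm gb z7 = z8) (e8 : sm gc z8 = z9) : sm ga z9 = X := by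
  subst e0
  subst e1
  subst e2
  subst e3
  subst e4
  subst e5
  subst e6
  subst e7
  subst e8
  exact rot_29_4 X

theorem ded_29_4 {X z1 z2 z3 z4 z5 z6 z7 z8 z9 : Q} (e0 : sm gc X = z1) (e1 : sm ga z1 = z2) (e2 : sm gb z2 = z3) (e3 : sm gc z3 = z4) (e4 : sm ge z4 = z5) (e5 : sm ga z5 = z6) (e6 : sm gb z6 = z7) (e7 : sm gc z7 = z8) (e8 : sm ga z8 = z9) : sm gb z9 = X := by
  subst e0
  subst e1
  subst e2
  subst e3
  subst e4
  subst e5
  subst e6
  subst e7
  subst e8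
  exact rot_29_5 X

theorem ded_29_5 {X z1 z2 z3 z4 z5 z6 z7 z8 z9 : Q} (e0 : sm ga X = z1) (e1 : sm gb z1 = z2) (e2 : sm gc z2 = z3) (e3 : sm ge z3 = z4) (e4 : sm ga z4 = z5) (e5 : sm gb z5 = z6) (e6 : sm gc z6 = z7) (e7 : sm ga z7 = z8) (e8 : sm gb z8 = z9) : sm gc z9 = X := by
  subst e0
  subst e1
  subst e2
  subst e3
  subst e4
  subst e5
  subst e6
  subst e7
  subst e8
  exact rot_29_6 X

theorem ded_29_6 {X z1 z2 z3 z4 z5 z6 z7 z8 z9 : Q} (e0 : sm gb X = z1) (e1 : sm gc z1 = z2) (e2 : sm ge z2 = z3) (e3 : sm ga z3 = z4) (e4 : sm gb z4 = z5) (e5 : sm gc z5 = z6) (e6 : sm ga z6 = z7) (e7 : sm gb z7 = z8) (e8 : sm gc z8 = z9) : sm ga z9 = X := by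
  subst e0
  subst e1
  subst e2
  subst e3
  subst e4
  subst e5
  subst e6
  subst e7
  subst e8
  exact rot_29_7 X

theorem ded_29_7 {X z1 z2 z3 z4 z5 z6 z7 z8 z9 : Q} (e0 : sm gc X = z1) (e1 : sm ge z1 = z2) (e2 : sm ga z2 = z3) (e3 : sm gb z3 = z4) (e4 : sm gc z4 = z5) (e5 : sm ga z5 = z6) (e6 : sm gb z6 = z7) (e7 : sm gc z7 = z8) (e8 : sm ga z8 = z9) : sm gb z9 = X := by
  subst e0
  subst e1
  subst e2
  subst e3
  subst e4
  subst e5
  subst e6
  subst e7
  subst e8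
  exact rot_29_8 X

theorem ded_29_8 {X z1 z2 z3 z4 z5 z6 z7 z8 z9 : Q} (e0 : sm ge X = z1) (e1 : sm ga z1 = z2) (e2 : sm gb z2 = z3) (e3 : sm gc z3 = z4) (e4 : sm ga z4 = z5) (e5 : sm gb z5 = z6) (e6 : sm gc z6 = z7) (e7 : sm ga z7 = z8) (e8 : sm gb z8 = z9) : sm gc z9 = X := by
  subst e0
  subst e1
  subst e2
  subst e3
  subst e4
  subst e5
  subst e6
  subst e7
  subst e8
  exact rot_29_9 X

theorem ded_29_9 {X z1 z2 z3 z4 z5 z6 z7 z8 z9 : Q} (e0 : sm ga X = z1) (e1 : sm gb z1 = z2) (e2 : sm gc z2 = z3) (e3 : sm ga z3 = z4) (e4 : sm gb z4 = z5) (e5 : sm gc z5 = z6) (e6 : sm ga z6 = z7) (e7 : sm gb z7 = z8) (e8 : sm gc z8 = z9) : sm ge z9 = X := by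
  subst e0
  subst e1
  subst e2
  subst e3
  subst e4
  subst e5
  subst e6
  subst e7
  subst e8
  exact rot_29_0 X

theorem ded_30_0 {X z1 z2 z3 z4 z5 z6 z7 z8 z9 z10 : Q} (e0 : sm gd X = z1) (e1 : sm gc z1 = z2) (e2 : sm gd z2 = z3) (e3 : sm gc z3 = z4) (e4 : sm gd z4 = z5) (e5 : sm gc z5 = z6) (e6 : sm gd z6 = z7) (e7 : sm gc z7 = z8) (e8 : sm gd z8 = z9) (e9 : sm ga z9 = z10) : sm gc z10 = X := by
  subst e0
  subst e1
  subst e2
  subst e3
  subst e4
  subst e5
  subst e6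
  subst e7
  subst e8
  subst e9
  exact rot_30_1 X

theorem ded_30_1 {X z1 z2 z3 z4 z5 z6 z7 z8 z9 z10 : Q} (e0 : sm gc X = z1) (e1 : sm gd z1 = z2) (e2 : sm gc z2 = z3) (e3 : sm gd z3 = z4) (e4 : sm gc z4 = z5) (e5 : sm gd z5 = z6) (e6 : sm gc z6 = z7) (e7 : sm gd z7 = z8) (e8 : sm ga z8 = z9) (e9 : sm gc z9 = z10) : sm gd z10 = X := by
  subst e0
  subst e1
  subst e2
  subst e3
  subst e4
  subst e5
  subst e6
  subst e7
  subst e8
  subst e9
  exact rot_30_2 X

theorem ded_30_2 {X z1 z2 z3 z4 z5 z6 z7 z8 z9 z10 : Q} (e0 : sm gd X = z1) (e1 : sm gc z1 = z2) (e2 : sm gd z2 = z3) (e3 : sm gc z3 = z4) (e4 : sm gd z4 = z5) (e5 : sm gc z5 = z6) (e6 : sm gd z6 = z7) (e7 : sm ga z7 = z8) (e8 : sm gc z8 = z9) (e9 : sm gd z9 = z10) : sm gc z10 = X := by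
  subst e0
  subst e1
  subst e2
  subst e3
  subst e4
  subst e5
  subst e6
  subst e7
  subst e8
  subst e9
  exact rot_30_3 X

theorem ded_30_3 {X z1 z2 z3 z4 z5 z6 z7 z8 z9 z10 : Q} (e0 : sm gc X = z1) (e1 : sm gd z1 = z2) (e2 : sm gc z2 = z3) (e3 : sm gd z3 = z4) (e4 : sm gc z4 = z5) (e5 : sm gd z5 = z6) (e6 : sm ga z6 = z7) (e7 : sm gc z7 = z8) (e8 : sm gd z8 = z9) (e9 : sm gc z9 = z10) : sm gd z10 = X := by
  subst e0
  subst e1
  subst e2
  subst e3
  subst e4
  subst e5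
  subst e6
  subst e7
  subst e8
  subst e9
  exact rot_30_4 X

theorem ded_30_4 {X z1 z2 z3 z4 z5 z6 z7 z8 z9 z10 : Q} (e0 : sm gd X = z1) (e1 : sm gc z1 = z2) (e2 : sm gd z2 = z3) (e3 : sm gc z3 = z4) (e4 : sm gd z4 = z5) (e5 : sm ga z5 = z6) (e6 : sm gc z6 = z7) (e7 : sm gd z7 = z8) (e8 : sm gc z8 = z9) (e9 : sm gd z9 = z10) : sm gc z10 = X := by
  subst e0
  subst e1
  subst e2
  subst e3
  subst e4
  subst e5
  subst e6
  subst e7
  subst e8
  subst e9
  exact rot_30_5 X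

theorem ded_30_5 {X z1 z2 z3 z4 z5 z6 z7 z8 z9 z10 : Q} (e0 : sm gc X = z1) (e1 : sm gd z1 = z2) (e2 : sm gc z2 = z3) (e3 : sm gd z3 = z4) (e4 : sm ga z4 = z5) (e5 : sm gc z5 = z6) (e6 : sm gd z6 = z7) (e7 : sm gc z7 = z8) (e8 : sm gd z8 = z9) (e9 : sm gc z9 = z10) : sm gd z10 = X := by
  subst e0
  subst e1
  subst e2
  subst e3
  subst e4
  subst e5
  subst e6
  subst e7
  subst e8
  subst e9
  exact rot_30_6 X

theorem ded_30_6 {X z1 z2 z3 z4 z5 z6 z7 z8 z9 z10 : Q} (e0 : sm gd X = z1) (e1 : sm gc z1 = z2) (e2 : sm gd z2 = z3) (e3 : sm ga z3 = z4) (e4 : sm gc z4 = z5) (e5 : sm gd z5 = z6) (e6 : sm gc z6 = z7) (e7 : sm gd z7 = z8) (e8 : sm gc z8 = z9) (e9 : sm gd z9 = z10) : sm gc z10 = X := by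
  subst e0
  subst e1
  subst e2
  subst e3
  subst e4
  subst e5
  subst e6
  subst e7
  subst e8
  subst e9
  exact rot_30_7 X

theorem ded_30_7 {X z1 z2 z3 z4 z5 z6 z7 z8 z9 z10 : Q} (e0 : sm gc X = z1) (e1 : sm gd z1 = z2) (e2 : sm ga z2 = z3) (e3 : sm gc z3 = z4) (e4 : sm gd z4 = z5) (e5 : sm gc z5 = z6) (e6 : sm gd z6 = z7) (e7 : sm gc z7 = z8) (e8 : sm gd z8 = z9) (e9 : sm gc z9 = z10) : sm gd z10 = X := by
  subst e0
  subst e1
  subst e2
  subst e3
  subst e4
  subst e5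
  subst e6
  subst e7
  subst e8
  subst e9
  exact rot_30_8 X

theorem ded_30_8 {X z1 z2 z3 z4 z5 z6 z7 z8 z9 z10 : Q} (e0 : sm gd X = z1) (e1 : sm ga z1 = z2) (e2 : sm gc z2 = z3) (e3 : sm gd z3 = z4) (e4 : sm gc z4 = z5) (e5 : sm gd z5 = z6) (e6 : sm gc z6 = z7) (e7 : sm gd z7 = z8) (e8 : sm gc z8 = z9) (e9 : sm gd z9 = z10) : sm gc z10 = X := by
  subst e0
  subst e1
  subst e2
  subst e3
  subst e4
  subst e5
  subst e6
  subst e7
  subst e8
  subst e9
  exact rot_30_9 X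

theorem ded_30_9 {X z1 z2 z3 z4 z5 z6 z7 z8 z9 z10 : Q} (e0 : sm ga X = z1) (e1 : sm gc z1 = z2) (e2 : sm gd z2 = z3) (e3 : sm gc z3 = z4) (e4 : sm gd z4 = z5) (e5 : sm gc z5 = z6) (e6 : sm gd z6 = z7) (e7 : sm gc z7 = z8) (e8 : sm gd z8 = z9) (e9 : sm gc z9 = z10) : sm gd z10 = X := by
  subst e0
  subst e1
  subst e2
  subst e3
  subst e4
  subst e5
  subst e6
  subst e7
  subst e8
  subst e9
  exact rot_30_10 X

theorem ded_30_10 {X z1 z2 z3 z4 z5 z6 z7 z8 z9 z10 : Q} (e0 : sm gc X = z1) (e1 : sm gd z1 = z2) (e2 : sm gc z2 = z3) (e3 : sm gd z3 = z4) (e4 : sm gc z4 = z5) (e5 : sm gd z5 = z6) (e6 : sm gc z6 = z7) (e7 : sm gd z7 = z8) (e8 : sm gc z8 = z9) (e9 : sm gd z9 = z10) : sm ga z10 = X := by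
  subst e0
  subst e1
  subst e2
  subst e3
  subst e4
  subst e5
  subst e6
  subst e7
  subst e8
  subst e9
  exact rot_30_0 X

theorem ded_31_0 {X z1 z2 z3 z4 z5 z6 z7 z8 z9 z10 z11 z12 z13 z14 z15 : Q} (e0 : sm gf X = z1) (e1 : sm gd z1 = z2) (e2 : sm gc z2 = z3) (e3 : sm gg z3 = z4) (e4 : sm gf z4 = z5) (e5 : sm gd z5 = z6) (e6 : sm gc z6 = z7) (e7 : sm gg z7 = z8) (e8 : sm gf z8 = z9) (e9 : sm gd z9 = z10) (e10 : sm gc z10 = z11) (e11 : sm gg z11 = z12) (e12 : sm gf z12 = z13) (e13 : sm gd z13 = z14) (e14 : sm gc z14 = z15) : sm gg z15 = X := by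
  subst e0
  subst e1
  subst e2
  subst e3
  subst e4
  subst e5
  subst e6
  subst e7
  subst e8
  subst e9
  subst e10
  subst e11
  subst e12
  subst e13
  subst e14
  exact rot_31_1 X

theorem ded_31_1 {X z1 z2 z3 z4 z5 z6 z7 z8 z9 z10 z11 z12 z13 z14 z15 : Q} (e0 : sm gd X = z1) (e1 : sm gc z1 = z2) (e2 : sm gg z2 = z3) (e3 : sm gf z3 = z4) (e4 : sm gd z4 = z5) (e5 : sm gc z5 = z6) (e6 : sm gg z6 = z7) (e7 : sm gf z7 = z8) (e8 : sm gd z8 = z9) (e9 : sm gc z9 = z10) (e10 : sm gg z10 = z11) (e11 : sm gf z11 = z12) (e12 : sm gd z12 = z13) (e13 : sm gc z13 = z14) (e14 : sm gg z14 = z15) : sm gf z15 = X := by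
  subst e0
  subst e1
  subst e2
  subst e3
  subst e4
  subst e5
  subst e6
  subst e7
  subst e8
  subst e9
  subst e10
  subst e11
  subst e12
  subst e13
  subst e14
  exact rot_31_2 X

theorem ded_31_2 {X z1 z2 z3 z4 z5 z6 z7 z8 z9 z10 z11 z12 z13 z14 z15 : Q} (e0 : sm gc X = z1) (e1 : sm gg z1 = z2) (e2 : sm gf z2 = z3) (e3 : sm gd z3 = z4) (e4 : sm gc z4 = z5) (e5 : sm gg z5 = z6) (e6 : sm gf z6 = z7) (e7 : sm gd z7 = z8) (e8 : sm gc z8 = z9) (e9 : sm gg z9 = z10) (e10 : sm gf z10 = z11) (e11 : sm gd z11 = z12) (e12 : sm gc z12 = z13) (e13 : sm gg z13 = z14) (e14 : sm gf z14 = z15) : sm gd z15 = X := by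
  subst e0
  subst e1
  subst e2
  subst e3
  subst e4
  subst e5
  subst e6
  subst e7
  subst e8
  subst e9
  subst e10
  subst e11
  subst e12
  subst e13
  subst e14
  exact rot_31_3 X

theorem ded_31_3 {X z1 z2 z3 z4 z5 z6 z7 z8 z9 z10 z11 z12 z13 z14 z15 : Q} (e0 : sm gg X = z1) (e1 : sm gf z1 = z2) (e2 : sm gd z2 = z3) (e3 : sm gc z3 = z4) (e4 : sm gg z4 = z5) (e5 : sm gf z5 = z6) (e6 : sm gd z6 = z7) (e7 : sm gc z7 = z8) (e8 : sm gg z8 = z9) (e9 : sm gf z9 = z10) (e10 : sm gd z10 = z11) (e11 : sm gc z11 = z12) (e12 : sm gg z12 = z13) (e13 : sm gf z13 = z14) (e14 : sm gd z14 = z15) : sm gc z15 = X := by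
  subst e0
  subst e1
  subst e2
  subst e3
  subst e4
  subst e5
  subst e6
  subst e7
  subst e8
  subst e9
  subst e10
  subst e11
  subst e12
  subst e13
  subst e14
  exact rot_31_4 X

theorem ded_31_4 {X z1 z2 z3 z4 z5 z6 z7 z8 z9 z10 z11 z12 z13 z14 z15 : Q} (e0 : sm gf X = z1) (e1 : sm gd z1 = z2) (e2 : sm gc z2 = z3) (e3 : sm gg z3 = z4) (e4 : sm gf z4 = z5) (e5 : sm gd z5 = z6) (e6 : sm gc z6 = z7) (e7 : sm gg z7 = z8) (e8 : sm gf z8 = z9) (e9 : sm gd z9 = z10) (e10 : sm gc z10 = z11) (e11 : sm gg z11 = z12) (e12 : sm gf z12 = z13) (e13 : sm gd z13 = z14) (e14 : sm gc z14 = z15) : sm gg z15 = X := by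
  subst e0
  subst e1
  subst e2
  subst e3
  subst e4
  subst e5
  subst e6
  subst e7
  subst e8
  subst e9
  subst e10
  subst e11
  subst e12
  subst e13
  subst e14
  exact rot_31_5 X

theorem ded_31_5 {X z1 z2 z3 z4 z5 z6 z7 z8 z9 z10 z11 z12 z13 z14 z15 : Q} (e0 : sm gd X = z1) (e1 : sm gc z1 = z2) (e2 : sm gg z2 = z3) (e3 : sm gf z3 = z4) (e4 : sm gd z4 = z5) (e5 : sm gc z5 = z6) (e6 : sm gg z6 = z7) (e7 : sm gf z7 = z8) (e8 : sm gd z8 = z9) (e9 : sm gc z9 = z10) (e10 : sm gg z10 = z11) (e11 : sm gf z11 = z12) (e12 : sm gd z12 = z13) (e13 : sm gc z13 = z14) (e14 : sm gg z14 = z15) : sm gf z15 = X := by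
  subst e0
  subst e1
  subst e2
  subst e3
  subst e4
  subst e5
  subst e6
  subst e7
  subst e8
  subst e9
  subst e10
  subst e11
  subst e12
  subst e13
  subst e14
  exact rot_31_6 X

theorem ded_31_6 {X z1 z2 z3 z4 z5 z6 z7 z8 z9 z10 z11 z12 z13 z14 z15 : Q} (e0 : sm gc X = z1) (e1 : sm gg z1 = z2) (e2 : sm gf z2 = z3) (e3 : sm gd z3 = z4) (e4 : sm gc z4 = z5) (e5 : sm gg z5 = z6) (e6 : sm gf z6 = z7) (e7 : sm gd z7 = z8) (e8 : sm gc z8 = z9) (e9 : sm gg z9 = z10) (e10 : sm gf z10 = z11) (e11 : sm gd z11 = z12) (e12 : sm gc z12 = z13) (e13 : sm gg z13 = z14) (e14 : sm gf z14 = z15) : sm gd z15 = X := by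
  subst e0
  subst e1
  subst e2
  subst e3
  subst e4
  subst e5
  subst e6
  subst e7
  subst e8
  subst e9
  subst e10
  subst e11
  subst e12
  subst e13
  subst e14
  exact rot_31_7 X

theorem ded_31_7 {X z1 z2 z3 z4 z5 z6 z7 z8 z9 z10 z11 z12 z13 z14 z15 : Q} (e0 : sm gg X = z1) (e1 : sm gf z1 = z2) (e2 : sm gd z2 = z3) (e3 : sm gc z3 = z4) (e4 : sm gg z4 = z5) (e5 : sm gf z5 = z6) (e6 : sm gd z6 = z7) (e7 : sm gc z7 = z8) (e8 : sm gg z8 = z9) (e9 : sm gf z9 = z10) (e10 : sm gd z10 = z11) (e11 : sm gc z11 = z12) (e12 : sm gg z12 = z13) (e13 : sm gf z13 = z14) (e14 : sm gd z14 = z15) : sm gc z15 = X := by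
  subst e0
  subst e1
  subst e2
  subst e3
  subst e4
  subst e5
  subst e6
  subst e7
  subst e8
  subst e9
  subst e10
  subst e11
  subst e12
  subst e13
  subst e14
  exact rot_31_8 X

theorem ded_31_8 {X z1 z2 z3 z4 z5 z6 z7 z8 z9 z10 z11 z12 z13 z14 z15 : Q} (e0 : sm gf X = z1) (e1 : sm gd z1 = z2) (e2 : sm gc z2 = z3) (e3 : sm gg z3 = z4) (e4 : sm gf z4 = z5) (e5 : sm gd z5 = z6) (e6 : sm gc z6 = z7) (e7 : sm gg z7 = z8) (e8 : sm gf z8 = z9) (e9 : sm gd z9 = z10) (e10 : sm gc z10 = z11) (e11 : sm gg z11 = z12) (e12 : sm gf z12 = z13) (e13 : sm gd z13 = z14) (e14 : sm gc z14 = z15) : sm gg z15 = X := by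
  subst e0
  subst e1
  subst e2
  subst e3
  subst e4
  subst e5
  subst e6
  subst e7
  subst e8
  subst e9
  subst e10
  subst e11
  subst e12
  subst e13
  subst e14
  exact rot_31_9 X

theorem ded_31_9 {X z1 z2 z3 z4 z5 z6 z7 z8 z9 z10 z11 z12 z13 z14 z15 : Q} (e0 : sm gd X = z1) (e1 : sm gc z1 = z2) (e2 : sm gg z2 = z3) (e3 : sm gf z3 = z4) (e4 : sm gd z4 = z5) (e5 : sm gc z5 = z6) (e6 : sm gg z6 = z7) (e7 : sm gf z7 = z8) (e8 : sm gd z8 = z9) (e9 : sm gc z9 = z10) (e10 : sm gg z10 = z11) (e11 : sm gf z11 = z12) (e12 : sm gd z12 = z13) (e13 : sm gc z13 = z14) (e14 : sm gg z14 = z15) : sm gf z15 = X := by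
  subst e0
  subst e1
  subst e2
  subst e3
  subst e4
  subst e5
  subst e6
  subst e7
  subst e8
  subst e9
  subst e10
  subst e11
  subst e12
  subst e13
  subst e14
  exact rot_31_10 X

theorem ded_31_10 {X z1 z2 z3 z4 z5 z6 z7 z8 z9 z10 z11 z12 z13 z14 z15 : Q} (e0 : sm gc X = z1) (e1 : sm gg z1 = z2) (e2 : sm gf z2 = z3) (e3 : sm gd z3 = z4) (e4 : sm gc z4 = z5) (e5 : sm gg z5 = z6) (e6 : sm gf z6 = z7) (e7 : sm gd z7 = z8) (e8 : sm gc z8 = z9) (e9 : sm gg z9 = z10) (e10 : sm gf z10 = z11) (e11 : sm gd z11 = z12) (e12 : sm gc z12 = z13) (e13 : sm gg z13 = z14) (e14 : sm gf z14 = z15) : sm gd z15 = X := by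
  subst e0
  subst e1
  subst e2
  subst e3
  subst e4
  subst e5
  subst e6
  subst e7
  subst e8
  subst e9
  subst e10
  subst e11
  subst e12
  subst e13
  subst e14
  exact rot_31_11 X

theorem ded_31_11 {X z1 z2 z3 z4 z5 z6 z7 z8 z9 z10 z11 z12 z13 z14 z15 : Q} (e0 : sm gg X = z1) (e1 : sm gf z1 = z2) (e2 : sm gd z2 = z3) (e3 : sm gc z3 = z4) (e4 : sm gg z4 = z5) (e5 : sm gf z5 = z6) (e6 : sm gd z6 = z7) (e7 : sm gc z7 = z8) (e8 : sm gg z8 = z9) (e9 : sm gf z9 = z10) (e10 : sm gd z10 = z11) (e11 : sm gc z11 = z12) (e12 : sm gg z12 = z13) (e13 : sm gf z13 = z14) (e14 : sm gd z14 = z15) : sm gc z15 = X := by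
  subst e0
  subst e1
  subst e2
  subst e3
  subst e4
  subst e5
  subst e6
  subst e7
  subst e8
  subst e9
  subst e10
  subst e11
  subst e12
  subst e13
  subst e14
  exact rot_31_12 X

theorem ded_31_13 {X z1 z2 z3 z4 z5 z6 z7 z8 z9 z10 z11 z12 z13 z14 z15 : Q} (e0 : sm gd X = z1) (e1 : sm gc z1 = z2) (e2 : sm gg z2 = z3) (e3 : sm gf z3 = z4) (e4 : sm gd z4 = z5) (e5 : sm gc z5 = z6) (e6 : sm gg z6 = z7) (e7 : sm gf z7 = z8) (e8 : sm gd z8 = z9) (e9 : sm gc z9 = z10) (e10 : sm gg z10 = z11) (e11 : sm gf z11 = z12) (e12 : sm gd z12 = z13) (e13 : sm gc z13 = z14) (e14 : sm gg z14 = z15) : sm gf z15 = X := by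
  subst e0
  subst e1
  subst e2
  subst e3
  subst e4
  subst e5
  subst e6
  subst e7
  subst e8
  subst e9
  subst e10
  subst e11
  subst e12
  subst e13
  subst e14
  exact rot_31_14 X

theorem ded_31_14 {X z1 z2 z3 z4 z5 z6 z7 z8 z9 z10 z11 z12 z13 z14 z15 : Q} (e0 : sm gc X = z1) (e1 : sm gg z1 = z2) (e2 : sm gf z2 = z3) (e3 : sm gd z3 = z4) (e4 : sm gc z4 = z5) (e5 : sm gg z5 = z6) (e6 : sm gf z6 = z7) (e7 : sm gd z7 = z8) (e8 : sm gc z8 = z9) (e9 : sm gg z9 = z10) (e10 : sm gf z10 = z11) (e11 : sm gd z11 = z12) (e12 : sm gc z12 = z13) (e13 : sm gg z13 = z14) (e14 : sm gf z14 = z15) : sm gd z15 = X := by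
  subst e0
  subst e1
  subst e2
  subst e3
  subst e4
  subst e5
  subst e6
  subst e7
  subst e8
  subst e9
  subst e10
  subst e11
  subst e12
  subst e13
  subst e14
  exact rot_31_15 X

theorem ded_31_15 {X z1 z2 z3 z4 z5 z6 z7 z8 z9 z10 z11 z12 z13 z14 z15 : Q} (e0 : sm gg X = z1) (e1 : sm gf z1 = z2) (e2 : sm gd z2 = z3) (e3 : sm gc z3 = z4) (e4 : sm gg z4 = z5) (e5 : sm gf z5 = z6) (e6 : sm gd z6 = z7) (e7 : sm gc z7 = z8) (e8 : sm gg z8 = z9) (e9 : sm gf z9 = z10) (e10 : sm gd z10 = z11) (e11 : sm gc z11 = z12) (e12 : sm gg z12 = z13) (e13 : sm gf z13 = z14) (e14 : sm gd z14 = z15) : sm gc z15 = X := by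
  subst e0
  subst e1
  subst e2
  subst e3
  subst e4
  subst e5
  subst e6
  subst e7
  subst e8
  subst e9
  subst e10
  subst e11
  subst e12
  subst e13
  subst e14
  exact rot_31_0 X

theorem sub_0 : ga • N0 = N0 := by
  have hm : PresentedGroup.mk rels (a) ∈ H :=
    Subgroup.mem_map_of_mem _ (Subgroup.subset_closure (by simp))
  have h := smul_N0 _ hm
  simp only [map_mul, map_pow, mk_of, pow_succ, pow_zero, one_mul, ← mul_assoc, mul_smul] at h
  exact h

theorem sub_1 : gc • N0 = N0 := by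
  have hm : PresentedGroup.mk rels (c) ∈ H :=
    Subgroup.mem_map_of_mem _ (Subgroup.subset_closure (by simp))
  have h := smul_N0 _ hm
  simp only [map_mul, map_pow, mk_of, pow_succ, pow_zero, one_mul, ← mul_assoc, mul_smul] at h
  exact h

theorem sub_2 : gd • N0 = N0 := by
  have hm : PresentedGroup.mk rels (d) ∈ H :=
    Subgroup.mem_map_of_mem _ (Subgroup.subset_closure (by simp))
  have h := smul_N0 _ hm
  simp only [map_mul, map_pow, mk_of, pow_succ, pow_zero, one_mul, ← mul_assoc, mul_smul] at h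
  exact h

theorem sub_3 : ge • N0 = N0 := by
  have hm : PresentedGroup.mk rels (e) ∈ H :=
    Subgroup.mem_map_of_mem _ (Subgroup.subset_closure (by simp))
  have h := smul_N0 _ hm
  simp only [map_mul, map_pow, mk_of, pow_succ, pow_zero, one_mul, ← mul_assoc, mul_smul] at h
  exact h

theorem sub_4 : gf • N0 = N0 := by
  have hm : PresentedGroup.mk rels (f) ∈ H :=
    Subgroup.mem_map_of_mem _ (Subgroup.subset_closure (by simp))
  have h := smul_N0 _ hm
  simp only [map_mul, map_pow, mk_of, pow_succ, pow_zero, one_mul, ← mul_assoc, mul_smul] at h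
  exact h

theorem sub_5 : ga • gb • ga • gb • N0 = N0 := by
  have hm : PresentedGroup.mk rels ((a * b) ^ 2) ∈ H :=
    Subgroup.mem_map_of_mem _ (Subgroup.subset_closure (by simp))
  have h := smul_N0 _ hm
  simp only [map_mul, map_pow, mk_of, pow_succ, pow_zero, one_mul, ← mul_assoc, mul_smul] at h
  exact h

theorem sub_6 : gb • gc • gd • ge • gb • gc • gd • ge • gb • gc • gd • ge • gb • gc • gd • ge • gb • gc • gd • ge • gb • gc • gd • ge • gb • gc • gd • ge • N0 = N0 := by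
  have hm : PresentedGroup.mk rels ((b * c * d * e) ^ 7) ∈ H :=
    Subgroup.mem_map_of_mem _ (Subgroup.subset_closure (by simp))
  have h := smul_N0 _ hm
  simp only [map_mul, map_pow, mk_of, pow_succ, pow_zero, one_mul, ← mul_assoc, mul_smul] at h
  exact h

theorem sded_0_0  : sm ga N0 = N0 := by
  exact sub_0

theorem sded_1_0  : sm gc N0 = N0 := by
  exact sub_1

theorem sded_2_0  : sm gd N0 = N0 := by
  exact sub_2

theorem sded_3_0  : sm ge N0 = N0 := by
  exact sub_3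

theorem sded_4_0  : sm gf N0 = N0 := by
  exact sub_4

theorem sded_5_1 {u1 v2 v3 : Q} (f0 : sm gb N0 = u1) (b2 : sm gb v2 = v3) (b3 : sm ga v3 = N0) : sm ga u1 = v2 := by
  subst f0
  subst b2
  exact smul_left_cancel gb (smul_left_cancel ga (sub_5.trans b3.symm))

theorem sded_6_17 {u1 u2 u3 u4 u5 u6 u7 u8 u9 u10 u11 u12 u13 u14 u15 u16 u17 v18 v19 v20 v21 v22 v23 v24 v25 v26 v27 : Q} (f0 : sm ge N0 = u1) (f1 : sm gd u1 = u2) (f2 : sm gc u2 = u3) (f3 : sm gb u3 = u4) (f4 : sm ge u4 = u5) (f5 : sm gd u5 = u6) (f6 : sm gc u6 = u7) (f7 : sm gb u7 = u8) (f8 : sm ge u8 = u9) (f9 : sm gd u9 = u10) (f10 : sm gc u10 = u11) (f11 : sm gb u11 = u12) (f12 : sm ge u12 = u13) (f13 : sm gd u13 = u14) (f14 : sm gc u14 = u15) (f15 : sm gb u15 = u16) (f16 : sm ge u16 = u17) (b18 : sm gc v18 = v19) (b19 : sm gb v19 = v20) (b20 : sm ge v20 = v21) (b21 : sm gd v21 = v22) (b22 : sm gc v22 = v23) (b23 : sm gb v23 = v24) (b24 : sm ge v24 = v25) (b25 : sm gd v25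 = v26) (b26 : sm gc v26 = v27) (b27 : sm gb v27 = N0) : sm gd u17 = v18 := by
  subst f0
  subst f1
  subst f2
  subst f3
  subst f4
  subst f5
  subst f6
  subst f7
  subst f8
  subst f9
  subst f10
  subst f11
  subst f12
  subst f13
  subst f14
  subst f15
  subst f16
  subst b18
  subst b19
  subst b20
  subst b21
  subst b22
  subst b23
  subst b24
  subst b25
  subst b26
  exact smul_left_cancel gc (smul_left_cancel gb (smul_left_cancel ge (smul_left_cancel gd (smul_left_cancel gc (smul_left_cancel gb (smul_left_cancel ge (smul_left_cancel gd (smul_left_cancel gc (smul_left_cancel gb (sub_6.trans b27.symm))))))))))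

attribute [irreducible] sm

end Cfsg.Agent.Helper28.HeA
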