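import Cfsg.Agent.Helper28.HeA

/-! # The Held group presentation, cosets of the subgroup generated by a, c, d, e, f, (ab)², (bcde)⁷: the coset enumeration, part 0 (helper28; generated) -/

set_option autoImplicit false

noncomputable section

namespace Cfsg.Agent.Helper28.HeA

open Cfsg.Agent.Helper28.CosetTable

/-- A coset. -/ def N1 : Q := sm gb N0
/-- A coset. -/ def N2 : Q := sm gg N0
/-- A coset. -/ def N3 : Q := sm gc N1
/-- A coset. -/ def N4 : Q := sm gg N1
/-- A coset. -/ def N5 : Q := sm gd N2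
/-- A coset. -/ def N6 : Q := sm gd N3
/-- A coset. -/ def N7 : Q := sm gg N3
/-- A coset. -/ def N8 : Q := sm gd N4
/-- A coset. -/ def N9 : Q := sm gc N5
/-- A coset. -/ def N10 : Q := sm ge N5
/-- A coset. -/ def N11 : Q := sm gf N5
/-- A coset. -/ def N12 : Q := sm gc N6
/-- A coset. -/ def N13 : Q := sm ge N6
/-- A coset. -/ def N14 : Q := sm gf N6
/-- A coset. -/ def N15 : Q := sm gg N6
/-- A coset. -/ def N16 : Q := sm gd N7
/-- A coset. -/ def N17 : Q := sm gc N8
/-- A coset. -/ def N18 : Q := sm ge N8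
/-- A coset. -/ def N19 : Q := sm gf N8
/-- A coset. -/ def N20 : Q := sm gb N9
/-- A coset. -/ def N21 : Q := sm gd N9
/-- A coset. -/ def N22 : Q := sm ge N9
/-- A coset. -/ def N23 : Q := sm gf N9
/-- A coset. -/ def N24 : Q := sm gf N10
/-- A coset. -/ def N25 : Q := sm gb N12
/-- A coset. -/ def N26 : Q := sm gd N12
/-- A coset. -/ def N27 : Q := sm ge N12
/-- A coset. -/ def N28 : Q := sm gf N12
/-- A coset. -/ def N29 : Q := sm gg N12
/-- A coset. -/ def N30 : Q := sm gf N13
/-- A coset. -/ def N31 : Q := sm gg N13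
/-- A coset. -/ def N32 : Q := sm gg N14
/-- A coset. -/ def N33 : Q := sm gd N15
/-- A coset. -/ def N34 : Q := sm gf N15
/-- A coset. -/ def N35 : Q := sm gc N16
/-- A coset. -/ def N36 : Q := sm ge N16
/-- A coset. -/ def N37 : Q := sm gf N16
/-- A coset. -/ def N38 : Q := sm gb N17
/-- A coset. -/ def N39 : Q := sm gd N17
/-- A coset. -/ def N40 : Q := sm ge N17
/-- A coset. -/ def N41 : Q := sm gf N17
/-- A coset. -/ def N42 : Q := sm gf N18
/-- A coset. -/ def N43 : Q := sm ga N20
/-- A coset. -/ def N44 : Q := sm gd N20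
/-- A coset. -/ def N45 : Q := sm gf N20
/-- A coset. -/ def N46 : Q := sm gc N21
/-- A coset. -/ def N47 : Q := sm ge N21
/-- A coset. -/ def N48 : Q := sm gf N21
/-- A coset. -/ def N49 : Q := sm gg N21
/-- A coset. -/ def N50 : Q := sm gd N22
/-- A coset. -/ def N51 : Q := sm gf N22
/-- A coset. -/ def N52 : Q := sm gd N24
/-- A coset. -/ def N53 : Q := sm ga N25
/-- A coset. -/ def N54 : Q := sm gd N25
/-- A coset. -/ def N55 : Q := sm gf N25
/-- A coset. -/ def N56 : Q := sm gg N25
/-- A coset. -/ def N57 : Q := sm ge N26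
/-- A coset. -/ def N58 : Q := sm gf N26
/-- A coset. -/ def N59 : Q := sm gg N26
/-- A coset. -/ def N60 : Q := sm gd N27
/-- A coset. -/ def N61 : Q := sm gf N27
/-- A coset. -/ def N62 : Q := sm gg N27
/-- A coset. -/ def N63 : Q := sm gd N28
/-- A coset. -/ def N64 : Q := sm gg N28
/-- A coset. -/ def N65 : Q := sm gd N29
/-- A coset. -/ def N66 : Q := sm gf N29
/-- A coset. -/ def N67 : Q := sm gd N30
/-- A coset. -/ def N68 : Q := sm gd N31
/-- A coset. -/ def N69 : Q := sm gd N32
/-- A coset. -/ def N70 : Q := sm gc N33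
/-- A coset. -/ def N71 : Q := sm ge N33
/-- A coset. -/ def N72 : Q := sm gf N33
/-- A coset. -/ def N73 : Q := sm gd N34
/-- A coset. -/ def N74 : Q := sm gb N35
/-- A coset. -/ def N75 : Q := sm gd N35
/-- A coset. -/ def N76 : Q := sm ge N35
/-- A coset. -/ def N77 : Q := sm gf N35
/-- A coset. -/ def N78 : Q := sm gf N36
/-- A coset. -/ def N79 : Q := sm gg N37
/-- A coset. -/ def N80 : Q := sm ga N38
/-- A coset. -/ def N81 : Q := sm gd N38
/-- A coset. -/ def N82 : Q := sm gf N38
/-- A coset. -/ def N83 : Q := sm gc N39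
/-- A coset. -/ def N84 : Q := sm ge N39
/-- A coset. -/ def N85 : Q := sm gf N39
/-- A coset. -/ def N86 : Q := sm gg N39
/-- A coset. -/ def N87 : Q := sm gd N40
/-- A coset. -/ def N88 : Q := sm gf N40
/-- A coset. -/ def N89 : Q := sm gd N41
/-- A coset. -/ def N90 : Q := sm gd N42
/-- A coset. -/ def N91 : Q := sm gd N43
/-- A coset. -/ def N92 : Q := sm gf N43
/-- A coset. -/ def N93 : Q := sm gc N44
/-- A coset. -/ def N94 : Q := sm ge N44
/-- A coset. -/ def N95 : Q := sm gg N44
/-- A coset. -/ def N96 : Q := sm ge N46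
/-- A coset. -/ def N97 : Q := sm gf N46
/-- A coset. -/ def N98 : Q := sm gd N47
/-- A coset. -/ def N99 : Q := sm gg N48
/-- A coset. -/ def N100 : Q := sm gd N53
/-- A coset. -/ def N101 : Q := sm gf N53
/-- A coset. -/ def N102 : Q := sm gg N53
/-- A coset. -/ def N103 : Q := sm gc N54
/-- A coset. -/ def N104 : Q := sm ge N54
/-- A coset. -/ def N105 : Q := sm gf N54
/-- A coset. -/ def N106 : Q := sm gg N54
/-- A coset. -/ def N107 : Q := sm gd N55
/-- A coset. -/ def N108 : Q := sm gg N55
/-- A coset. -/ def N109 : Q := sm gd N56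
/-- A coset. -/ def N110 : Q := sm gf N56
/-- A coset. -/ def N111 : Q := sm gd N57
/-- A coset. -/ def N112 : Q := sm gf N57
/-- A coset. -/ def N113 : Q := sm gg N57
/-- A coset. -/ def N114 : Q := sm gd N58
/-- A coset. -/ def N115 : Q := sm gg N58
/-- A coset. -/ def N116 : Q := sm gd N59
/-- A coset. -/ def N117 : Q := sm gf N59
/-- A coset. -/ def N118 : Q := sm gc N60
/-- A coset. -/ def N119 : Q := sm gf N60
/-- A coset. -/ def N120 : Q := sm gg N60
/-- A coset. -/ def N121 : Q := sm gd N61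
/-- A coset. -/ def N122 : Q := sm gd N62
/-- A coset. -/ def N123 : Q := sm gc N63
/-- A coset. -/ def N124 : Q := sm ge N63
/-- A coset. -/ def N125 : Q := sm gg N63
/-- A coset. -/ def N126 : Q := sm gd N64
/-- A coset. -/ def N127 : Q := sm gc N65
/-- A coset. -/ def N128 : Q := sm ge N65
/-- A coset. -/ def N129 : Q := sm gf N65
/-- A coset. -/ def N130 : Q := sm gd N66
/-- A coset. -/ def N131 : Q := sm gc N67
/-- A coset. -/ def N132 : Q := sm gg N67
/-- A coset. -/ def N133 : Q := sm gc N68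
/-- A coset. -/ def N134 : Q := sm ge N68
/-- A coset. -/ def N135 : Q := sm gf N68
/-- A coset. -/ def N136 : Q := sm gc N69
/-- A coset. -/ def N137 : Q := sm ge N69
/-- A coset. -/ def N138 : Q := sm gf N69
/-- A coset. -/ def N139 : Q := sm gb N70
/-- A coset. -/ def N140 : Q := sm gd N70
/-- A coset. -/ def N141 : Q := sm ge N70
/-- A coset. -/ def N142 : Q := sm gf N70
/-- A coset. -/ def N143 : Q := sm gd N72
/-- A coset. -/ def N144 : Q := sm gc N73
/-- A coset. -/ def N145 : Q := sm ge N73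
/-- A coset. -/ def N146 : Q := sm gg N73
/-- A coset. -/ def N147 : Q := sm ga N74
/-- A coset. -/ def N148 : Q := sm gd N74
/-- A coset. -/ def N149 : Q := sm gf N74
/-- A coset. -/ def N150 : Q := sm gc N75
/-- A coset. -/ def N151 : Q := sm ge N75
/-- A coset. -/ def N152 : Q := sm gf N75
/-- A coset. -/ def N153 : Q := sm gg N75
/-- A coset. -/ def N154 : Q := sm gd N76
/-- A coset. -/ def N155 : Q := sm gf N76
/-- A coset. -/ def N156 : Q := sm gd N77
/-- A coset. -/ def N157 : Q := sm gg N77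
/-- A coset. -/ def N158 : Q := sm gd N78
/-- A coset. -/ def N159 : Q := sm gd N79
/-- A coset. -/ def N160 : Q := sm gd N80
/-- A coset. -/ def N161 : Q := sm gf N80
/-- A coset. -/ def N162 : Q := sm gc N81
/-- A coset. -/ def N163 : Q := sm ge N81
/-- A coset. -/ def N164 : Q := sm gf N81
/-- A coset. -/ def N165 : Q := sm gg N81
/-- A coset. -/ def N166 : Q := sm gd N82
/-- A coset. -/ def N167 : Q := sm gb N83
/-- A coset. -/ def N168 : Q := sm ge N83
/-- A coset. -/ def N169 : Q := sm gf N83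
/-- A coset. -/ def N170 : Q := sm gg N83
/-- A coset. -/ def N171 : Q := sm gd N84
/-- A coset. -/ def N172 : Q := sm gf N84
/-- A coset. -/ def N173 : Q := sm gg N84
/-- A coset. -/ def N174 : Q := sm gd N85
/-- A coset. -/ def N175 : Q := sm gg N85
/-- A coset. -/ def N176 : Q := sm gf N86
/-- A coset. -/ def N177 : Q := sm gc N87
/-- A coset. -/ def N178 : Q := sm gf N87
/-- A coset. -/ def N179 : Q := sm gg N87
/-- A coset. -/ def N180 : Q := sm gd N88
/-- A coset. -/ def N181 : Q := sm gc N89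
/-- A coset. -/ def N182 : Q := sm ge N89
/-- A coset. -/ def N183 : Q := sm gg N89
/-- A coset. -/ def N184 : Q := sm gc N90
/-- A coset. -/ def N185 : Q := sm gc N91
/-- A coset. -/ def N186 : Q := sm ge N91
/-- A coset. -/ def N187 : Q := sm gg N91
/-- A coset. -/ def N188 : Q := sm gb N93
/-- A coset. -/ def N189 : Q := sm gd N93
/-- A coset. -/ def N190 : Q := sm ge N93
/-- A coset. -/ def N191 : Q := sm gg N94
/-- A coset. -/ def N192 : Q := sm gf N95
/-- A coset. -/ def N193 : Q := sm gd N96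
/-- A coset. -/ def N194 : Q := sm gd N97
/-- A coset. -/ def N195 : Q := sm gc N100
/-- A coset. -/ def N196 : Q := sm ge N100
/-- A coset. -/ def N197 : Q := sm gf N100
/-- A coset. -/ def N198 : Q := sm gg N100
/-- A coset. -/ def N199 : Q := sm gd N101
/-- A coset. -/ def N200 : Q := sm gd N102
/-- A coset. -/ def N201 : Q := sm gd N103
/-- A coset. -/ def N202 : Q := sm ge N103
/-- A coset. -/ def N203 : Q := sm gf N103
/-- A coset. -/ def N204 : Q := sm gg N103
/-- A coset. -/ def N205 : Q := sm gf N104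
/-- A coset. -/ def N206 : Q := sm gg N104
/-- A coset. -/ def N207 : Q := sm gd N105
/-- A coset. -/ def N208 : Q := sm gg N105
/-- A coset. -/ def N209 : Q := sm gd N106
/-- A coset. -/ def N210 : Q := sm gf N106
/-- A coset. -/ def N211 : Q := sm gc N107
/-- A coset. -/ def N212 : Q := sm ge N107
/-- A coset. -/ def N213 : Q := sm gg N107
/-- A coset. -/ def N214 : Q := sm gd N108
/-- A coset. -/ def N215 : Q := sm gc N109
/-- A coset. -/ def N216 : Q := sm ge N109
/-- A coset. -/ def N217 : Q := sm gf N109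
/-- A coset. -/ def N218 : Q := sm gd N110
/-- A coset. -/ def N219 : Q := sm gf N111
/-- A coset. -/ def N220 : Q := sm gg N111
/-- A coset. -/ def N221 : Q := sm gd N112
/-- A coset. -/ def N222 : Q := sm gd N113
/-- A coset. -/ def N223 : Q := sm gc N114
/-- A coset. -/ def N224 : Q := sm ge N114
/-- A coset. -/ def N225 : Q := sm gg N114
/-- A coset. -/ def N226 : Q := sm gd N115
/-- A coset. -/ def N227 : Q := sm gc N116
/-- A coset. -/ def N228 : Q := sm ge N116
/-- A coset. -/ def N229 : Q := sm gf N116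
/-- A coset. -/ def N230 : Q := sm gd N117
/-- A coset. -/ def N231 : Q := sm gd N119
/-- A coset. -/ def N232 : Q := sm gg N119
/-- A coset. -/ def N233 : Q := sm gd N120
/-- A coset. -/ def N234 : Q := sm gf N120
/-- A coset. -/ def N235 : Q := sm gc N121
/-- A coset. -/ def N236 : Q := sm ge N121
/-- A coset. -/ def N237 : Q := sm gg N121
/-- A coset. -/ def N238 : Q := sm gc N122
/-- A coset. -/ def N239 : Q := sm ge N122
/-- A coset. -/ def N240 : Q := sm gf N122
/-- A coset. -/ def N241 : Q := sm gb N123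
/-- A coset. -/ def N242 : Q := sm gd N123
/-- A coset. -/ def N243 : Q := sm ge N123
/-- A coset. -/ def N244 : Q := sm gg N123
/-- A coset. -/ def N245 : Q := sm gg N124
/-- A coset. -/ def N246 : Q := sm gd N125
/-- A coset. -/ def N247 : Q := sm gf N125
/-- A coset. -/ def N248 : Q := sm gc N126
/-- A coset. -/ def N249 : Q := sm ge N126
/-- A coset. -/ def N250 : Q := sm gf N126
/-- A coset. -/ def N251 : Q := sm gb N127
/-- A coset. -/ def N252 : Q := sm gd N127
/-- A coset. -/ def N253 : Q := sm ge N127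
/-- A coset. -/ def N254 : Q := sm gf N127
/-- A coset. -/ def N255 : Q := sm gf N128
/-- A coset. -/ def N256 : Q := sm gd N129
/-- A coset. -/ def N257 : Q := sm gg N129
/-- A coset. -/ def N258 : Q := sm gc N130
/-- A coset. -/ def N259 : Q := sm ge N130
/-- A coset. -/ def N260 : Q := sm gg N130
/-- A coset. -/ def N261 : Q := sm gb N131
/-- A coset. -/ def N262 : Q := sm gd N131
/-- A coset. -/ def N263 : Q := sm gg N131
/-- A coset. -/ def N264 : Q := sm gb N133
/-- A coset. -/ def N265 : Q := sm gd N133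
/-- A coset. -/ def N266 : Q := sm ge N133
/-- A coset. -/ def N267 : Q := sm gf N133
/-- A coset. -/ def N268 : Q := sm gf N134
/-- A coset. -/ def N269 : Q := sm gb N136
/-- A coset. -/ def N270 : Q := sm gd N136
/-- A coset. -/ def N271 : Q := sm ge N136
/-- A coset. -/ def N272 : Q := sm gf N136
/-- A coset. -/ def N273 : Q := sm gf N137
/-- A coset. -/ def N274 : Q := sm ga N139
/-- A coset. -/ def N275 : Q := sm gd N139
/-- A coset. -/ def N276 : Q := sm gf N139
/-- A coset. -/ def N277 : Q := sm gc N140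
/-- A coset. -/ def N278 : Q := sm ge N140
/-- A coset. -/ def N279 : Q := sm gf N140
/-- A coset. -/ def N280 : Q := sm gg N140
/-- A coset. -/ def N281 : Q := sm gc N143
/-- A coset. -/ def N282 : Q := sm ge N143
/-- A coset. -/ def N283 : Q := sm gg N143
/-- A coset. -/ def N284 : Q := sm gb N144
/-- A coset. -/ def N285 : Q := sm gd N144
/-- A coset. -/ def N286 : Q := sm ge N144
/-- A coset. -/ def N287 : Q := sm gg N144
/-- A coset. -/ def N289 : Q := sm gf N146
/-- A coset. -/ def N290 : Q := sm gd N147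
/-- A coset. -/ def N291 : Q := sm gf N147
/-- A coset. -/ def N292 : Q := sm gc N148
/-- A coset. -/ def N293 : Q := sm ge N148
/-- A coset. -/ def N294 : Q := sm gf N148
/-- A coset. -/ def N295 : Q := sm gg N148
/-- A coset. -/ def N296 : Q := sm gd N149
/-- A coset. -/ def N297 : Q := sm gg N149
/-- A coset. -/ def N298 : Q := sm gb N150
/-- A coset. -/ def N299 : Q := sm ge N150
/-- A coset. -/ def N300 : Q := sm gf N150
/-- A coset. -/ def N301 : Q := sm gg N150
/-- A coset. -/ def N302 : Q := sm gd N151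
/-- A coset. -/ def N303 : Q := sm gf N151
/-- A coset. -/ def N304 : Q := sm gg N151
/-- A coset. -/ def N305 : Q := sm gd N152
/-- A coset. -/ def N306 : Q := sm gg N152
/-- A coset. -/ def N307 : Q := sm gf N153
/-- A coset. -/ def N308 : Q := sm gc N154
/-- A coset. -/ def N309 : Q := sm gf N154
/-- A coset. -/ def N310 : Q := sm gg N154
/-- A coset. -/ def N311 : Q := sm gd N155
/-- A coset. -/ def N312 : Q := sm gc N156
/-- A coset. -/ def N313 : Q := sm ge N156
/-- A coset. -/ def N314 : Q := sm gc N158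
/-- A coset. -/ def N315 : Q := sm gg N158
/-- A coset. -/ def N316 : Q := sm gc N159
/-- A coset. -/ def N317 : Q := sm ge N159
/-- A coset. -/ def N318 : Q := sm gf N159
/-- A coset. -/ def N319 : Q := sm gc N160
/-- A coset. -/ def N320 : Q := sm ge N160
/-- A coset. -/ def N321 : Q := sm gf N160
/-- A coset. -/ def N322 : Q := sm gg N160
/-- A coset. -/ def N323 : Q := sm gd N161
/-- A coset. -/ def N324 : Q := sm gb N162
/-- A coset. -/ def N325 : Q := sm gd N162
/-- A coset. -/ def N326 : Q := sm ge N162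
/-- A coset. -/ def N327 : Q := sm gf N162
/-- A coset. -/ def N328 : Q := sm gg N162
/-- A coset. -/ def N329 : Q := sm gf N163
/-- A coset. -/ def N330 : Q := sm gg N163
/-- A coset. -/ def N331 : Q := sm gd N164
/-- A coset. -/ def N332 : Q := sm gg N164
/-- A coset. -/ def N333 : Q := sm gf N165
/-- A coset. -/ def N334 : Q := sm gc N166
/-- A coset. -/ def N335 : Q := sm ge N166
/-- A coset. -/ def N336 : Q := sm gg N166
/-- A coset. -/ def N337 : Q := sm ga N167
/-- A coset. -/ def N338 : Q := sm ge N167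
/-- A coset. -/ def N339 : Q := sm gf N167
/-- A coset. -/ def N340 : Q := sm gg N167
/-- A coset. -/ def N341 : Q := sm gd N168
/-- A coset. -/ def N342 : Q := sm gf N168
/-- A coset. -/ def N343 : Q := sm gg N168
/-- A coset. -/ def N344 : Q := sm gd N169
/-- A coset. -/ def N345 : Q := sm gg N169
/-- A coset. -/ def N346 : Q := sm gd N170
/-- A coset. -/ def N347 : Q := sm gf N170
/-- A coset. -/ def N348 : Q := sm gc N171
/-- A coset. -/ def N349 : Q := sm gf N171
/-- A coset. -/ def N350 : Q := sm gg N171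
/-- A coset. -/ def N351 : Q := sm gd N172
/-- A coset. -/ def N352 : Q := sm gd N173
/-- A coset. -/ def N353 : Q := sm gc N174
/-- A coset. -/ def N354 : Q := sm ge N174
/-- A coset. -/ def N355 : Q := sm gg N174
/-- A coset. -/ def N356 : Q := sm gd N175
/-- A coset. -/ def N357 : Q := sm gd N176
/-- A coset. -/ def N358 : Q := sm gb N177
/-- A coset. -/ def N359 : Q := sm gd N177
/-- A coset. -/ def N360 : Q := sm gf N177
/-- A coset. -/ def N361 : Q := sm gg N177
/-- A coset. -/ def N362 : Q := sm gd N178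
/-- A coset. -/ def N363 : Q := sm gg N178
/-- A coset. -/ def N364 : Q := sm gf N179
/-- A coset. -/ def N365 : Q := sm gc N180
/-- A coset. -/ def N366 : Q := sm ge N180
/-- A coset. -/ def N367 : Q := sm gg N180
/-- A coset. -/ def N368 : Q := sm gb N181
/-- A coset. -/ def N369 : Q := sm gd N181
/-- A coset. -/ def N370 : Q := sm ge N181
/-- A coset. -/ def N371 : Q := sm gg N182
/-- A coset. -/ def N372 : Q := sm gd N184
/-- A coset. -/ def N373 : Q := sm gb N185
/-- A coset. -/ def N374 : Q := sm gd N185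
/-- A coset. -/ def N375 : Q := sm ge N185
/-- A coset. -/ def N376 : Q := sm gg N185
/-- A coset. -/ def N377 : Q := sm gd N188
/-- A coset. -/ def N378 : Q := sm ge N188
/-- A coset. -/ def N379 : Q := sm gc N189
/-- A coset. -/ def N380 : Q := sm ge N189
/-- A coset. -/ def N381 : Q := sm gf N189
/-- A coset. -/ def N382 : Q := sm gg N189
/-- A coset. -/ def N383 : Q := sm gd N190
/-- A coset. -/ def N384 : Q := sm gd N191
/-- A coset. -/ def N385 : Q := sm gd N192
/-- A coset. -/ def N386 : Q := sm gb N195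
/-- A coset. -/ def N387 : Q := sm gf N195
/-- A coset. -/ def N388 : Q := sm gg N195
/-- A coset. -/ def N389 : Q := sm gf N196
/-- A coset. -/ def N390 : Q := sm gg N196
/-- A coset. -/ def N391 : Q := sm gd N197
/-- A coset. -/ def N392 : Q := sm gg N197
/-- A coset. -/ def N393 : Q := sm gd N198
/-- A coset. -/ def N394 : Q := sm gf N198
/-- A coset. -/ def N395 : Q := sm gc N199
/-- A coset. -/ def N396 : Q := sm ge N199
/-- A coset. -/ def N397 : Q := sm gg N199
/-- A coset. -/ def N398 : Q := sm gc N200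
/-- A coset. -/ def N399 : Q := sm ge N200
/-- A coset. -/ def N400 : Q := sm gf N200
/-- A coset. -/ def N401 : Q := sm gf N201
/-- A coset. -/ def N402 : Q := sm gg N201
/-- A coset. -/ def N403 : Q := sm gd N203
/-- A coset. -/ def N404 : Q := sm gg N203
/-- A coset. -/ def N405 : Q := sm gd N204
/-- A coset. -/ def N406 : Q := sm gf N204
/-- A coset. -/ def N407 : Q := sm gd N205
/-- A coset. -/ def N408 : Q := sm gd N206
/-- A coset. -/ def N409 : Q := sm gc N207
/-- A coset. -/ def N410 : Q := sm ge N207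
/-- A coset. -/ def N411 : Q := sm gg N207
/-- A coset. -/ def N412 : Q := sm gd N208
/-- A coset. -/ def N413 : Q := sm gc N209
/-- A coset. -/ def N414 : Q := sm ge N209
/-- A coset. -/ def N415 : Q := sm gf N209
/-- A coset. -/ def N416 : Q := sm gd N210
/-- A coset. -/ def N417 : Q := sm gb N211
/-- A coset. -/ def N418 : Q := sm gd N211
/-- A coset. -/ def N419 : Q := sm ge N211
/-- A coset. -/ def N420 : Q := sm gg N211
/-- A coset. -/ def N421 : Q := sm gg N212
/-- A coset. -/ def N422 : Q := sm gd N213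
/-- A coset. -/ def N423 : Q := sm gf N213
/-- A coset. -/ def N424 : Q := sm gc N214
/-- A coset. -/ def N425 : Q := sm ge N214
/-- A coset. -/ def N426 : Q := sm gf N214
/-- A coset. -/ def N427 : Q := sm gb N215
/-- A coset. -/ def N428 : Q := sm gd N215
/-- A coset. -/ def N429 : Q := sm ge N215
/-- A coset. -/ def N430 : Q := sm gf N215
/-- A coset. -/ def N431 : Q := sm gf N216
/-- A coset. -/ def N432 : Q := sm gd N217
/-- A coset. -/ def N433 : Q := sm gg N217
/-- A coset. -/ def N434 : Q := sm gc N218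
/-- A coset. -/ def N435 : Q := sm ge N218
/-- A coset. -/ def N436 : Q := sm gg N218
/-- A coset. -/ def N437 : Q := sm gd N219
/-- A coset. -/ def N438 : Q := sm gd N220
/-- A coset. -/ def N439 : Q := sm gc N221
/-- A coset. -/ def N440 : Q := sm ge N221
/-- A coset. -/ def N441 : Q := sm gg N221
/-- A coset. -/ def N442 : Q := sm gc N222
/-- A coset. -/ def N443 : Q := sm ge N222
/-- A coset. -/ def N444 : Q := sm gf N222
/-- A coset. -/ def N445 : Q := sm gb N223
/-- A coset. -/ def N446 : Q := sm gd N223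
/-- A coset. -/ def N447 : Q := sm ge N223
/-- A coset. -/ def N448 : Q := sm gg N223
/-- A coset. -/ def N449 : Q := sm gd N225
/-- A coset. -/ def N450 : Q := sm gc N226
/-- A coset. -/ def N451 : Q := sm ge N226
/-- A coset. -/ def N452 : Q := sm gf N226
/-- A coset. -/ def N453 : Q := sm gb N227
/-- A coset. -/ def N454 : Q := sm gd N227
/-- A coset. -/ def N455 : Q := sm ge N227
/-- A coset. -/ def N456 : Q := sm gf N227
/-- A coset. -/ def N457 : Q := sm gd N229
/-- A coset. -/ def N458 : Q := sm gc N230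
/-- A coset. -/ def N459 : Q := sm ge N230
/-- A coset. -/ def N460 : Q := sm gg N230
/-- A coset. -/ def N461 : Q := sm gc N231
/-- A coset. -/ def N462 : Q := sm ge N231
/-- A coset. -/ def N463 : Q := sm gg N231
/-- A coset. -/ def N464 : Q := sm gd N232
/-- A coset. -/ def N465 : Q := sm gc N233
/-- A coset. -/ def N466 : Q := sm ge N233
/-- A coset. -/ def N467 : Q := sm gf N233
/-- A coset. -/ def N468 : Q := sm gd N234
/-- A coset. -/ def N469 : Q := sm gb N235
/-- A coset. -/ def N470 : Q := sm gd N235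
/-- A coset. -/ def N471 : Q := sm ge N235
/-- A coset. -/ def N472 : Q := sm gg N235
/-- A coset. -/ def N473 : Q := sm gg N236
/-- A coset. -/ def N474 : Q := sm gf N237
/-- A coset. -/ def N475 : Q := sm gb N238
/-- A coset. -/ def N476 : Q := sm gd N238
/-- A coset. -/ def N477 : Q := sm ge N238
/-- A coset. -/ def N478 : Q := sm gf N238
/-- A coset. -/ def N479 : Q := sm gf N239
/-- A coset. -/ def N480 : Q := sm gg N240
/-- A coset. -/ def N481 : Q := sm ga N241
/-- A coset. -/ def N482 : Q := sm gd N241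
/-- A coset. -/ def N483 : Q := sm ge N241
/-- A coset. -/ def N484 : Q := sm gg N241
/-- A coset. -/ def N485 : Q := sm ge N242
/-- A coset. -/ def N486 : Q := sm gf N242
/-- A coset. -/ def N487 : Q := sm gg N242
/-- A coset. -/ def N488 : Q := sm gd N243
/-- A coset. -/ def N489 : Q := sm gg N243
/-- A coset. -/ def N490 : Q := sm gd N244
/-- A coset. -/ def N491 : Q := sm gf N244
/-- A coset. -/ def N492 : Q := sm gd N245
/-- A coset. -/ def N493 : Q := sm gd N247
/-- A coset. -/ def N494 : Q := sm gb N248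
/-- A coset. -/ def N495 : Q := sm gd N248
/-- A coset. -/ def N496 : Q := sm gf N249
/-- A coset. -/ def N497 : Q := sm ga N251
/-- A coset. -/ def N498 : Q := sm gd N251
/-- A coset. -/ def N499 : Q := sm ge N251
/-- A coset. -/ def N500 : Q := sm gf N251
/-- A coset. -/ def N501 : Q := sm gc N252
/-- A coset. -/ def N502 : Q := sm ge N252
/-- A coset. -/ def N503 : Q := sm gf N252
/-- A coset. -/ def N504 : Q := sm gg N252
/-- A coset. -/ def N505 : Q := sm gd N253
/-- A coset. -/ def N506 : Q := sm gf N253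
/-- A coset. -/ def N507 : Q := sm gd N254
/-- A coset. -/ def N508 : Q := sm gg N254
/-- A coset. -/ def N509 : Q := sm gd N255
/-- A coset. -/ def N510 : Q := sm gc N256
/-- A coset. -/ def N511 : Q := sm ge N256
/-- A coset. -/ def N512 : Q := sm gg N256
/-- A coset. -/ def N513 : Q := sm gd N257
/-- A coset. -/ def N514 : Q := sm gb N258
/-- A coset. -/ def N515 : Q := sm gd N258
/-- A coset. -/ def N516 : Q := sm ge N258
/-- A coset. -/ def N517 : Q := sm gg N259
/-- A coset. -/ def N518 : Q := sm gd N261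
/-- A coset. -/ def N519 : Q := sm gg N261
/-- A coset. -/ def N520 : Q := sm gc N262
/-- A coset. -/ def N521 : Q := sm ge N262
/-- A coset. -/ def N522 : Q := sm gf N262
/-- A coset. -/ def N523 : Q := sm gg N262
/-- A coset. -/ def N524 : Q := sm gd N263
/-- A coset. -/ def N525 : Q := sm ga N264
/-- A coset. -/ def N526 : Q := sm gd N264
/-- A coset. -/ def N527 : Q := sm gf N264
/-- A coset. -/ def N528 : Q := sm gc N265
/-- A coset. -/ def N529 : Q := sm ge N265
/-- A coset. -/ def N530 : Q := sm gf N265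
/-- A coset. -/ def N531 : Q := sm gg N265
/-- A coset. -/ def N532 : Q := sm gd N266
/-- A coset. -/ def N533 : Q := sm gf N266
/-- A coset. -/ def N534 : Q := sm gd N267
/-- A coset. -/ def N535 : Q := sm ga N269
/-- A coset. -/ def N536 : Q := sm gd N269
/-- A coset. -/ def N537 : Q := sm gf N269
/-- A coset. -/ def N538 : Q := sm gc N270
/-- A coset. -/ def N539 : Q := sm ge N270
/-- A coset. -/ def N540 : Q := sm gf N270
/-- A coset. -/ def N541 : Q := sm gg N270
/-- A coset. -/ def N542 : Q := sm gd N271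
/-- A coset. -/ def N543 : Q := sm gf N271
/-- A coset. -/ def N544 : Q := sm gd N272
/-- A coset. -/ def N545 : Q := sm gd N273
/-- A coset. -/ def N546 : Q := sm gd N274
/-- A coset. -/ def N547 : Q := sm gc N275
/-- A coset. -/ def N548 : Q := sm ge N275
/-- A coset. -/ def N549 : Q := sm gg N275
/-- A coset. -/ def N550 : Q := sm gb N277
/-- A coset. -/ def N551 : Q := sm ge N277
/-- A coset. -/ def N552 : Q := sm gf N277
/-- A coset. -/ def N553 : Q := sm gg N277
/-- A coset. -/ def N554 : Q := sm gd N278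
/-- A coset. -/ def N555 : Q := sm gg N278
/-- A coset. -/ def N556 : Q := sm gg N279
/-- A coset. -/ def N557 : Q := sm gf N280
/-- A coset. -/ def N558 : Q := sm gb N281
/-- A coset. -/ def N559 : Q := sm gd N281
/-- A coset. -/ def N560 : Q := sm ge N281
/-- A coset. -/ def N561 : Q := sm gg N281
/-- A coset. -/ def N562 : Q := sm ga N284
/-- A coset. -/ def N563 : Q := sm gd N284
/-- A coset. -/ def N564 : Q := sm gg N284
/-- A coset. -/ def N565 : Q := sm gc N285
/-- A coset. -/ def N566 : Q := sm ge N285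
/-- A coset. -/ def N567 : Q := sm gf N285
/-- A coset. -/ def N568 : Q := sm gg N285
/-- A coset. -/ def N569 : Q := sm gd N286
/-- A coset. -/ def N570 : Q := sm gg N286
/-- A coset. -/ def N571 : Q := sm gd N287
/-- A coset. -/ def N572 : Q := sm gf N287
/-- A coset. -/ def N573 : Q := sm gc N290
/-- A coset. -/ def N574 : Q := sm ge N290
/-- A coset. -/ def N575 : Q := sm gf N290
/-- A coset. -/ def N576 : Q := sm gg N290
/-- A coset. -/ def N577 : Q := sm gd N291
/-- A coset. -/ def N578 : Q := sm gb N292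
/-- A coset. -/ def N579 : Q := sm gd N292
/-- A coset. -/ def N580 : Q := sm ge N292
/-- A coset. -/ def N581 : Q := sm gf N292
/-- A coset. -/ def N582 : Q := sm gg N292
/-- A coset. -/ def N584 : Q := sm gg N293
/-- A coset. -/ def N585 : Q := sm gd N294
/-- A coset. -/ def N586 : Q := sm gg N294
/-- A coset. -/ def N587 : Q := sm gf N295
/-- A coset. -/ def N588 : Q := sm gc N296
/-- A coset. -/ def N590 : Q := sm ga N298
/-- A coset. -/ def N591 : Q := sm ge N298
/-- A coset. -/ def N592 : Q := sm gf N298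
/-- A coset. -/ def N593 : Q := sm gg N298
/-- A coset. -/ def N594 : Q := sm gd N299
/-- A coset. -/ def N595 : Q := sm gf N299
/-- A coset. -/ def N596 : Q := sm gg N299
/-- A coset. -/ def N597 : Q := sm gd N300
/-- A coset. -/ def N598 : Q := sm gg N300
/-- A coset. -/ def N599 : Q := sm gd N301
/-- A coset. -/ def N600 : Q := sm gf N301
/-- A coset. -/ def N601 : Q := sm gc N302
/-- A coset. -/ def N602 : Q := sm gf N302
/-- A coset. -/ def N603 : Q := sm gg N302
/-- A coset. -/ def N604 : Q := sm gd N303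
/-- A coset. -/ def N605 : Q := sm gd N304
/-- A coset. -/ def N606 : Q := sm gc N305
/-- A coset. -/ def N607 : Q := sm ge N305
/-- A coset. -/ def N608 : Q := sm gg N305
/-- A coset. -/ def N609 : Q := sm gd N306
/-- A coset. -/ def N610 : Q := sm gd N307
/-- A coset. -/ def N611 : Q := sm gb N308
/-- A coset. -/ def N612 : Q := sm gd N308
/-- A coset. -/ def N613 : Q := sm gf N308
/-- A coset. -/ def N614 : Q := sm gg N308
/-- A coset. -/ def N615 : Q := sm gd N309
/-- A coset. -/ def N616 : Q := sm gg N309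
/-- A coset. -/ def N617 : Q := sm gf N310
/-- A coset. -/ def N618 : Q := sm gc N311
/-- A coset. -/ def N619 : Q := sm ge N311
/-- A coset. -/ def N620 : Q := sm gb N312
/-- A coset. -/ def N621 : Q := sm gd N312
/-- A coset. -/ def N622 : Q := sm ge N312
/-- A coset. -/ def N623 : Q := sm gb N314
/-- A coset. -/ def N624 : Q := sm gd N314
/-- A coset. -/ def N625 : Q := sm gg N314
/-- A coset. -/ def N626 : Q := sm gb N316
/-- A coset. -/ def N627 : Q := sm gd N316
/-- A coset. -/ def N628 : Q := sm ge N316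
/-- A coset. -/ def N629 : Q := sm gf N316
/-- A coset. -/ def N630 : Q := sm gb N319
/-- A coset. -/ def N631 : Q := sm gd N319
/-- A coset. -/ def N632 : Q := sm ge N319
/-- A coset. -/ def N633 : Q := sm gf N319
/-- A coset. -/ def N634 : Q := sm gg N319
/-- A coset. -/ def N635 : Q := sm gf N320
/-- A coset. -/ def N636 : Q := sm gg N320
/-- A coset. -/ def N637 : Q := sm gd N321
/-- A coset. -/ def N638 : Q := sm gg N321
/-- A coset. -/ def N639 : Q := sm gf N322
/-- A coset. -/ def N640 : Q := sm gc N323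
/-- A coset. -/ def N641 : Q := sm ge N323
/-- A coset. -/ def N642 : Q := sm gg N323
/-- A coset. -/ def N643 : Q := sm ga N324
/-- A coset. -/ def N644 : Q := sm gd N324
/-- A coset. -/ def N645 : Q := sm ge N324
/-- A coset. -/ def N646 : Q := sm gf N324
/-- A coset. -/ def N647 : Q := sm gg N324
/-- A coset. -/ def N648 : Q := sm gc N325
/-- A coset. -/ def N649 : Q := sm ge N325
/-- A coset. -/ def N650 : Q := sm gf N325
/-- A coset. -/ def N651 : Q := sm gg N325
/-- A coset. -/ def N652 : Q := sm gd N326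
/-- A coset. -/ def N653 : Q := sm gf N326
/-- A coset. -/ def N654 : Q := sm gg N326
/-- A coset. -/ def N655 : Q := sm gd N327
/-- A coset. -/ def N656 : Q := sm gg N327
/-- A coset. -/ def N657 : Q := sm gd N328
/-- A coset. -/ def N658 : Q := sm gf N328
/-- A coset. -/ def N659 : Q := sm gd N329
/-- A coset. -/ def N660 : Q := sm gd N330
/-- A coset. -/ def N661 : Q := sm gc N331
/-- A coset. -/ def N662 : Q := sm ge N331
/-- A coset. -/ def N663 : Q := sm gg N331
/-- A coset. -/ def N664 : Q := sm gd N332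
/-- A coset. -/ def N665 : Q := sm gd N333
/-- A coset. -/ def N666 : Q := sm gb N334
/-- A coset. -/ def N667 : Q := sm gd N334
/-- A coset. -/ def N668 : Q := sm ge N334
/-- A coset. -/ def N669 : Q := sm gg N334
/-- A coset. -/ def N670 : Q := sm gg N335
/-- A coset. -/ def N671 : Q := sm gf N337
/-- A coset. -/ def N672 : Q := sm gg N337
/-- A coset. -/ def N673 : Q := sm gd N338
/-- A coset. -/ def N674 : Q := sm gf N338
/-- A coset. -/ def N675 : Q := sm gg N338
/-- A coset. -/ def N676 : Q := sm gd N339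
/-- A coset. -/ def N677 : Q := sm gg N339
/-- A coset. -/ def N678 : Q := sm gd N340
/-- A coset. -/ def N679 : Q := sm gf N340
/-- A coset. -/ def N680 : Q := sm gf N341
/-- A coset. -/ def N681 : Q := sm gg N341
/-- A coset. -/ def N682 : Q := sm gd N342
/-- A coset. -/ def N683 : Q := sm gd N343
/-- A coset. -/ def N684 : Q := sm gc N344
/-- A coset. -/ def N685 : Q := sm ge N344
/-- A coset. -/ def N686 : Q := sm gg N344
/-- A coset. -/ def N687 : Q := sm gd N345
/-- A coset. -/ def N688 : Q := sm gc N346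
/-- A coset. -/ def N689 : Q := sm ge N346
/-- A coset. -/ def N690 : Q := sm gf N346
/-- A coset. -/ def N691 : Q := sm gd N347
/-- A coset. -/ def N692 : Q := sm gf N348
/-- A coset. -/ def N693 : Q := sm gg N348
/-- A coset. -/ def N694 : Q := sm gd N349
/-- A coset. -/ def N695 : Q := sm gd N350
/-- A coset. -/ def N696 : Q := sm gc N351
/-- A coset. -/ def N697 : Q := sm ge N351
/-- A coset. -/ def N698 : Q := sm gg N351
/-- A coset. -/ def N699 : Q := sm gc N352
/-- A coset. -/ def N700 : Q := sm gf N352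
/-- A coset. -/ def N701 : Q := sm gb N353
/-- A coset. -/ def N702 : Q := sm gd N353
/-- A coset. -/ def N703 : Q := sm gd N355
/-- A coset. -/ def N704 : Q := sm gc N356
/-- A coset. -/ def N705 : Q := sm ge N356
/-- A coset. -/ def N706 : Q := sm gf N356
/-- A coset. -/ def N707 : Q := sm gc N357
/-- A coset. -/ def N708 : Q := sm ge N357
/-- A coset. -/ def N709 : Q := sm gg N357
/-- A coset. -/ def N710 : Q := sm gd N358
/-- A coset. -/ def N711 : Q := sm gf N358
/-- A coset. -/ def N712 : Q := sm gg N358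
/-- A coset. -/ def N713 : Q := sm gf N359
/-- A coset. -/ def N714 : Q := sm gg N359
/-- A coset. -/ def N715 : Q := sm gd N360
/-- A coset. -/ def N716 : Q := sm gg N360
/-- A coset. -/ def N717 : Q := sm gd N361
/-- A coset. -/ def N718 : Q := sm ge N362
/-- A coset. -/ def N719 : Q := sm gd N363
/-- A coset. -/ def N720 : Q := sm gd N364
/-- A coset. -/ def N721 : Q := sm gb N365
/-- A coset. -/ def N722 : Q := sm gd N365
/-- A coset. -/ def N723 : Q := sm ga N368
/-- A coset. -/ def N724 : Q := sm gd N368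
/-- A coset. -/ def N725 : Q := sm ge N368
/-- A coset. -/ def N726 : Q := sm ge N369
/-- A coset. -/ def N727 : Q := sm gf N369
/-- A coset. -/ def N728 : Q := sm gg N369
/-- A coset. -/ def N729 : Q := sm gd N370
/-- A coset. -/ def N730 : Q := sm gd N371
/-- A coset. -/ def N731 : Q := sm gc N372
/-- A coset. -/ def N732 : Q := sm ge N372
/-- A coset. -/ def N733 : Q := sm gf N372
/-- A coset. -/ def N734 : Q := sm gg N372
/-- A coset. -/ def N735 : Q := sm gd N373
/-- A coset. -/ def N736 : Q := sm gc N374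
/-- A coset. -/ def N737 : Q := sm ge N374
/-- A coset. -/ def N738 : Q := sm gf N374
/-- A coset. -/ def N739 : Q := sm gg N374
/-- A coset. -/ def N740 : Q := sm gd N375
/-- A coset. -/ def N741 : Q := sm gd N376
/-- A coset. -/ def N742 : Q := sm gc N377
/-- A coset. -/ def N743 : Q := sm ge N377
/-- A coset. -/ def N744 : Q := sm gf N377
/-- A coset. -/ def N745 : Q := sm gg N377
/-- A coset. -/ def N746 : Q := sm gd N378
/-- A coset. -/ def N747 : Q := sm gb N379
/-- A coset. -/ def N748 : Q := sm gd N379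
/-- A coset. -/ def N749 : Q := sm ge N379
/-- A coset. -/ def N750 : Q := sm gf N379
/-- A coset. -/ def N751 : Q := sm gg N379
/-- A coset. -/ def N752 : Q := sm gd N380
/-- A coset. -/ def N753 : Q := sm gf N380
/-- A coset. -/ def N754 : Q := sm gg N380
/-- A coset. -/ def N755 : Q := sm gg N381
/-- A coset. -/ def N756 : Q := sm gf N382
/-- A coset. -/ def N757 : Q := sm gc N383
/-- A coset. -/ def N758 : Q := sm gf N383
/-- A coset. -/ def N759 : Q := sm gg N383
/-- A coset. -/ def N760 : Q := sm gc N384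
/-- A coset. -/ def N761 : Q := sm gc N385
/-- A coset. -/ def N762 : Q := sm gf N386
/-- A coset. -/ def N763 : Q := sm gg N386
/-- A coset. -/ def N764 : Q := sm gd N387
/-- A coset. -/ def N765 : Q := sm gg N387
/-- A coset. -/ def N766 : Q := sm gd N388
/-- A coset. -/ def N767 : Q := sm gf N388
/-- A coset. -/ def N768 : Q := sm gd N389
/-- A coset. -/ def N769 : Q := sm gd N390
/-- A coset. -/ def N770 : Q := sm gc N391
/-- A coset. -/ def N771 : Q := sm ge N391
/-- A coset. -/ def N772 : Q := sm gg N391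
/-- A coset. -/ def N773 : Q := sm gd N392
/-- A coset. -/ def N774 : Q := sm gc N393
/-- A coset. -/ def N775 : Q := sm ge N393
/-- A coset. -/ def N776 : Q := sm gf N393
/-- A coset. -/ def N777 : Q := sm gd N394
/-- A coset. -/ def N778 : Q := sm gb N395
/-- A coset. -/ def N779 : Q := sm gd N395
/-- A coset. -/ def N780 : Q := sm ge N395
/-- A coset. -/ def N781 : Q := sm gg N395
/-- A coset. -/ def N782 : Q := sm gg N396
/-- A coset. -/ def N783 : Q := sm gf N397
/-- A coset. -/ def N784 : Q := sm gb N398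
/-- A coset. -/ def N785 : Q := sm gd N398
/-- A coset. -/ def N786 : Q := sm ge N398
/-- A coset. -/ def N787 : Q := sm gf N398
/-- A coset. -/ def N788 : Q := sm gf N399
/-- A coset. -/ def N789 : Q := sm gg N400
/-- A coset. -/ def N790 : Q := sm gd N401
/-- A coset. -/ def N791 : Q := sm gd N402
/-- A coset. -/ def N792 : Q := sm gc N403
/-- A coset. -/ def N793 : Q := sm ge N403
/-- A coset. -/ def N794 : Q := sm gg N403
/-- A coset. -/ def N795 : Q := sm gd N404
/-- A coset. -/ def N796 : Q := sm gc N405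
/-- A coset. -/ def N797 : Q := sm ge N405
/-- A coset. -/ def N798 : Q := sm gf N405
/-- A coset. -/ def N799 : Q := sm gd N406
/-- A coset. -/ def N800 : Q := sm gc N407
/-- A coset. -/ def N801 : Q := sm ge N407
/-- A coset. -/ def N802 : Q := sm gg N407
/-- A coset. -/ def N803 : Q := sm gc N408
/-- A coset. -/ def N804 : Q := sm ge N408
/-- A coset. -/ def N805 : Q := sm gf N408
/-- A coset. -/ def N806 : Q := sm gb N409
/-- A coset. -/ def N807 : Q := sm gd N409
/-- A coset. -/ def N808 : Q := sm ge N409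
/-- A coset. -/ def N809 : Q := sm gg N409
/-- A coset. -/ def N810 : Q := sm gd N411
/-- A coset. -/ def N811 : Q := sm gc N412
/-- A coset. -/ def N812 : Q := sm ge N412
/-- A coset. -/ def N813 : Q := sm gf N412
/-- A coset. -/ def N814 : Q := sm gb N413
/-- A coset. -/ def N815 : Q := sm gd N413
/-- A coset. -/ def N816 : Q := sm ge N413
/-- A coset. -/ def N817 : Q := sm gf N413
/-- A coset. -/ def N818 : Q := sm gd N415
/-- A coset. -/ def N819 : Q := sm gc N416
/-- A coset. -/ def N820 : Q := sm ge N416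
/-- A coset. -/ def N821 : Q := sm gg N416
/-- A coset. -/ def N822 : Q := sm ga N417
/-- A coset. -/ def N823 : Q := sm gd N417
/-- A coset. -/ def N824 : Q := sm ge N417
/-- A coset. -/ def N825 : Q := sm gg N417
/-- A coset. -/ def N826 : Q := sm gc N418
/-- A coset. -/ def N827 : Q := sm ge N418
/-- A coset. -/ def N828 : Q := sm gf N418
/-- A coset. -/ def N829 : Q := sm gg N418
/-- A coset. -/ def N830 : Q := sm gd N419
/-- A coset. -/ def N831 : Q := sm gg N419
/-- A coset. -/ def N832 : Q := sm gd N420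
/-- A coset. -/ def N833 : Q := sm gf N420
/-- A coset. -/ def N834 : Q := sm gd N421
/-- A coset. -/ def N835 : Q := sm gc N422
/-- A coset. -/ def N836 : Q := sm gd N423
/-- A coset. -/ def N837 : Q := sm gb N424
/-- A coset. -/ def N838 : Q := sm gd N424
/-- A coset. -/ def N839 : Q := sm ge N424
/-- A coset. -/ def N840 : Q := sm gf N424
/-- A coset. -/ def N841 : Q := sm gf N425
/-- A coset. -/ def N842 : Q := sm ga N427
/-- A coset. -/ def N843 : Q := sm gd N427
/-- A coset. -/ def N844 : Q := sm ge N427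
/-- A coset. -/ def N845 : Q := sm gf N427
/-- A coset. -/ def N846 : Q := sm gc N428
/-- A coset. -/ def N847 : Q := sm ge N428
/-- A coset. -/ def N848 : Q := sm gf N428
/-- A coset. -/ def N849 : Q := sm gg N428
/-- A coset. -/ def N850 : Q := sm gd N429
/-- A coset. -/ def N851 : Q := sm gf N429
/-- A coset. -/ def N852 : Q := sm gd N430
/-- A coset. -/ def N853 : Q := sm gg N430
/-- A coset. -/ def N855 : Q := sm gc N432
/-- A coset. -/ def N856 : Q := sm ge N432
/-- A coset. -/ def N857 : Q := sm gd N433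
/-- A coset. -/ def N858 : Q := sm gb N434
/-- A coset. -/ def N859 : Q := sm gd N434
/-- A coset. -/ def N860 : Q := sm ge N434
/-- A coset. -/ def N861 : Q := sm gg N434
/-- A coset. -/ def N862 : Q := sm gg N435
/-- A coset. -/ def N863 : Q := sm gc N437
/-- A coset. -/ def N864 : Q := sm ge N437
/-- A coset. -/ def N865 : Q := sm gg N437
/-- A coset. -/ def N866 : Q := sm gc N438
/-- A coset. -/ def N867 : Q := sm ge N438
/-- A coset. -/ def N868 : Q := sm gf N438
/-- A coset. -/ def N869 : Q := sm gb N439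
/-- A coset. -/ def N870 : Q := sm gd N439
/-- A coset. -/ def N871 : Q := sm ge N439
/-- A coset. -/ def N872 : Q := sm gg N439
/-- A coset. -/ def N873 : Q := sm gg N440
/-- A coset. -/ def N874 : Q := sm gf N441
/-- A coset. -/ def N875 : Q := sm gb N442
/-- A coset. -/ def N876 : Q := sm gd N442
/-- A coset. -/ def N877 : Q := sm ge N442
/-- A coset. -/ def N878 : Q := sm gf N442
/-- A coset. -/ def N879 : Q := sm gf N443
/-- A coset. -/ def N880 : Q := sm gg N444
/-- A coset. -/ def N881 : Q := sm ga N445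
/-- A coset. -/ def N882 : Q := sm gd N445
/-- A coset. -/ def N883 : Q := sm ge N445
/-- A coset. -/ def N884 : Q := sm gg N445
/-- A coset. -/ def N885 : Q := sm gc N446
/-- A coset. -/ def N886 : Q := sm ge N446
/-- A coset. -/ def N887 : Q := sm gf N446
/-- A coset. -/ def N888 : Q := sm gg N446
/-- A coset. -/ def N889 : Q := sm gd N448
/-- A coset. -/ def N890 : Q := sm gc N449
/-- A coset. -/ def N891 : Q := sm ge N449
/-- A coset. -/ def N893 : Q := sm gb N450
/-- A coset. -/ def N894 : Q := sm gd N450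
/-- A coset. -/ def N895 : Q := sm ge N450
/-- A coset. -/ def N896 : Q := sm gf N450
/-- A coset. -/ def N898 : Q := sm gg N452
/-- A coset. -/ def N899 : Q := sm ga N453
/-- A coset. -/ def N900 : Q := sm gd N453
/-- A coset. -/ def N901 : Q := sm ge N453
/-- A coset. -/ def N902 : Q := sm gf N453
/-- A coset. -/ def N903 : Q := sm gc N454
/-- A coset. -/ def N904 : Q := sm ge N454
/-- A coset. -/ def N905 : Q := sm gf N454
/-- A coset. -/ def N906 : Q := sm gg N454
/-- A coset. -/ def N907 : Q := sm gd N455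
/-- A coset. -/ def N908 : Q := sm gd N456
/-- A coset. -/ def N909 : Q := sm gc N457
/-- A coset. -/ def N910 : Q := sm ge N457
/-- A coset. -/ def N911 : Q := sm gg N457
/-- A coset. -/ def N912 : Q := sm gb N458
/-- A coset. -/ def N913 : Q := sm gd N458
/-- A coset. -/ def N914 : Q := sm ge N458
/-- A coset. -/ def N915 : Q := sm gg N458
/-- A coset. -/ def N916 : Q := sm gg N459
/-- A coset. -/ def N917 : Q := sm gf N460
/-- A coset. -/ def N918 : Q := sm gb N461
/-- A coset. -/ def N919 : Q := sm ge N461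
/-- A coset. -/ def N920 : Q := sm gg N461
/-- A coset. -/ def N921 : Q := sm gd N463
/-- A coset. -/ def N922 : Q := sm gc N464
/-- A coset. -/ def N923 : Q := sm ge N464
/-- A coset. -/ def N924 : Q := sm gf N464
/-- A coset. -/ def N925 : Q := sm gb N465
/-- A coset. -/ def N926 : Q := sm gd N465
/-- A coset. -/ def N927 : Q := sm ge N465
/-- A coset. -/ def N928 : Q := sm gf N465
/-- A coset. -/ def N929 : Q := sm gd N467
/-- A coset. -/ def N930 : Q := sm gc N468
/-- A coset. -/ def N931 : Q := sm ge N468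
/-- A coset. -/ def N932 : Q := sm gg N468
/-- A coset. -/ def N933 : Q := sm gd N469
/-- A coset. -/ def N934 : Q := sm gg N469
/-- A coset. -/ def N935 : Q := sm gc N470
/-- A coset. -/ def N936 : Q := sm ge N470
/-- A coset. -/ def N937 : Q := sm gg N470
/-- A coset. -/ def N938 : Q := sm gd N471
/-- A coset. -/ def N939 : Q := sm gg N471
/-- A coset. -/ def N940 : Q := sm gd N472
/-- A coset. -/ def N941 : Q := sm gf N472
/-- A coset. -/ def N942 : Q := sm gd N473
/-- A coset. -/ def N943 : Q := sm gd N474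
/-- A coset. -/ def N944 : Q := sm gd N475
/-- A coset. -/ def N945 : Q := sm gf N475
/-- A coset. -/ def N946 : Q := sm gc N476
/-- A coset. -/ def N947 : Q := sm ge N476
/-- A coset. -/ def N948 : Q := sm gf N476
/-- A coset. -/ def N949 : Q := sm gg N476
/-- A coset. -/ def N950 : Q := sm gd N477
/-- A coset. -/ def N951 : Q := sm gf N477
/-- A coset. -/ def N952 : Q := sm gd N478
/-- A coset. -/ def N953 : Q := sm gg N478
/-- A coset. -/ def N954 : Q := sm gd N479
/-- A coset. -/ def N955 : Q := sm gd N481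
/-- A coset. -/ def N956 : Q := sm gg N481
/-- A coset. -/ def N957 : Q := sm gc N482
/-- A coset. -/ def N958 : Q := sm ge N482
/-- A coset. -/ def N959 : Q := sm gf N482
/-- A coset. -/ def N960 : Q := sm gg N482
/-- A coset. -/ def N961 : Q := sm gd N483
/-- A coset. -/ def N962 : Q := sm gg N483
/-- A coset. -/ def N963 : Q := sm gd N484
/-- A coset. -/ def N964 : Q := sm gf N484
/-- A coset. -/ def N965 : Q := sm gd N485
/-- A coset. -/ def N966 : Q := sm gf N485
/-- A coset. -/ def N967 : Q := sm gg N485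
/-- A coset. -/ def N968 : Q := sm gg N486
/-- A coset. -/ def N969 : Q := sm gd N487
/-- A coset. -/ def N970 : Q := sm gf N487
/-- A coset. -/ def N971 : Q := sm gc N488
/-- A coset. -/ def N972 : Q := sm gg N488
/-- A coset. -/ def N973 : Q := sm gd N489
/-- A coset. -/ def N974 : Q := sm gc N490
/-- A coset. -/ def N975 : Q := sm ge N490
/-- A coset. -/ def N976 : Q := sm gf N490
/-- A coset. -/ def N977 : Q := sm gd N491
/-- A coset. -/ def N978 : Q := sm gc N492
/-- A coset. -/ def N979 : Q := sm gf N492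
/-- A coset. -/ def N980 : Q := sm gc N493
/-- A coset. -/ def N981 : Q := sm ge N493
/-- A coset. -/ def N982 : Q := sm gg N493
/-- A coset. -/ def N983 : Q := sm ga N494
/-- A coset. -/ def N984 : Q := sm gd N494
/-- A coset. -/ def N985 : Q := sm gc N495
/-- A coset. -/ def N986 : Q := sm ge N495
/-- A coset. -/ def N987 : Q := sm gf N495
/-- A coset. -/ def N988 : Q := sm gg N495
/-- A coset. -/ def N989 : Q := sm gd N496
/-- A coset. -/ def N990 : Q := sm gd N497
/-- A coset. -/ def N991 : Q := sm gf N497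
/-- A coset. -/ def N992 : Q := sm gc N498
/-- A coset. -/ def N993 : Q := sm ge N498
/-- A coset. -/ def N994 : Q := sm gf N498
/-- A coset. -/ def N995 : Q := sm gg N498
/-- A coset. -/ def N996 : Q := sm gd N499
/-- A coset. -/ def N997 : Q := sm gf N499
/-- A coset. -/ def N998 : Q := sm gd N500
/-- A coset. -/ def N999 : Q := sm gg N500
/-- A coset. -/ def N1000 : Q := sm gb N501
/-- A coset. -/ def N1001 : Q := sm ge N501
/-- A coset. -/ def N1002 : Q := sm gf N501
/-- A coset. -/ def N1003 : Q := sm gg N501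
/-- A coset. -/ def N1004 : Q := sm gd N502
/-- A coset. -/ def N1005 : Q := sm gf N502
/-- A coset. -/ def N1006 : Q := sm gg N502
/-- A coset. -/ def N1007 : Q := sm gd N503
/-- A coset. -/ def N1008 : Q := sm gg N503
/-- A coset. -/ def N1009 : Q := sm gf N504
/-- A coset. -/ def N1010 : Q := sm gc N505
/-- A coset. -/ def N1011 : Q := sm gf N505
/-- A coset. -/ def N1012 : Q := sm gg N505
/-- A coset. -/ def N1013 : Q := sm gd N506
/-- A coset. -/ def N1014 : Q := sm gc N507
/-- A coset. -/ def N1015 : Q := sm ge N507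
/-- A coset. -/ def N1016 : Q := sm gg N507
/-- A coset. -/ def N1017 : Q := sm gc N509
/-- A coset. -/ def N1018 : Q := sm ge N509
/-- A coset. -/ def N1019 : Q := sm gg N509
/-- A coset. -/ def N1020 : Q := sm gb N510
/-- A coset. -/ def N1021 : Q := sm gd N510
/-- A coset. -/ def N1022 : Q := sm gd N512
/-- A coset. -/ def N1023 : Q := sm gc N513
/-- A coset. -/ def N1024 : Q := sm ge N513
/-- A coset. -/ def N1025 : Q := sm gf N513
/-- A coset. -/ def N1026 : Q := sm gd N514
/-- A coset. -/ def N1027 : Q := sm gc N515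
/-- A coset. -/ def N1028 : Q := sm ge N515
/-- A coset. -/ def N1030 : Q := sm gd N517
/-- A coset. -/ def N1031 : Q := sm gc N518
/-- A coset. -/ def N1032 : Q := sm ge N518
/-- A coset. -/ def N1033 : Q := sm gf N518
/-- A coset. -/ def N1034 : Q := sm gg N518
/-- A coset. -/ def N1036 : Q := sm gb N520
/-- A coset. -/ def N1037 : Q := sm ge N520
/-- A coset. -/ def N1038 : Q := sm gf N520
/-- A coset. -/ def N1039 : Q := sm gg N520
/-- A coset. -/ def N1040 : Q := sm gf N521
/-- A coset. -/ def N1041 : Q := sm gg N521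
/-- A coset. -/ def N1042 : Q := sm gg N522
/-- A coset. -/ def N1043 : Q := sm gd N523
/-- A coset. -/ def N1044 : Q := sm gf N523
/-- A coset. -/ def N1045 : Q := sm gc N524
/-- A coset. -/ def N1046 : Q := sm ge N524
/-- A coset. -/ def N1047 : Q := sm gf N524
/-- A coset. -/ def N1048 : Q := sm gd N525
/-- A coset. -/ def N1049 : Q := sm gf N525
/-- A coset. -/ def N1050 : Q := sm gc N526
/-- A coset. -/ def N1051 : Q := sm ge N526
/-- A coset. -/ def N1052 : Q := sm gf N526
/-- A coset. -/ def N1053 : Q := sm gg N526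
/-- A coset. -/ def N1054 : Q := sm gd N527
/-- A coset. -/ def N1055 : Q := sm gb N528
/-- A coset. -/ def N1056 : Q := sm ge N528
/-- A coset. -/ def N1057 : Q := sm gf N528
/-- A coset. -/ def N1058 : Q := sm gg N528
/-- A coset. -/ def N1059 : Q := sm gd N529
/-- A coset. -/ def N1060 : Q := sm gf N529
/-- A coset. -/ def N1061 : Q := sm gg N529
/-- A coset. -/ def N1062 : Q := sm gd N530
/-- A coset. -/ def N1063 : Q := sm gg N530
/-- A coset. -/ def N1064 : Q := sm gf N531
/-- A coset. -/ def N1065 : Q := sm gc N532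
/-- A coset. -/ def N1066 : Q := sm gf N532
/-- A coset. -/ def N1067 : Q := sm gg N532
/-- A coset. -/ def N1068 : Q := sm gd N533
/-- A coset. -/ def N1069 : Q := sm gc N534
/-- A coset. -/ def N1070 : Q := sm ge N534
/-- A coset. -/ def N1071 : Q := sm gg N534
/-- A coset. -/ def N1072 : Q := sm gd N535
/-- A coset. -/ def N1073 : Q := sm gf N535
/-- A coset. -/ def N1074 : Q := sm gc N536
/-- A coset. -/ def N1075 : Q := sm ge N536
/-- A coset. -/ def N1076 : Q := sm gf N536
/-- A coset. -/ def N1077 : Q := sm gg N536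
/-- A coset. -/ def N1078 : Q := sm gd N537
/-- A coset. -/ def N1079 : Q := sm gb N538
/-- A coset. -/ def N1080 : Q := sm ge N538
/-- A coset. -/ def N1081 : Q := sm gf N538
/-- A coset. -/ def N1082 : Q := sm gg N538
/-- A coset. -/ def N1083 : Q := sm gd N539
/-- A coset. -/ def N1084 : Q := sm gf N539
/-- A coset. -/ def N1085 : Q := sm gg N539
/-- A coset. -/ def N1086 : Q := sm gd N540
/-- A coset. -/ def N1087 : Q := sm gg N540
/-- A coset. -/ def N1088 : Q := sm gf N541
/-- A coset. -/ def N1089 : Q := sm gc N542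
/-- A coset. -/ def N1090 : Q := sm gf N542
/-- A coset. -/ def N1091 : Q := sm gg N542
/-- A coset. -/ def N1092 : Q := sm gd N543
/-- A coset. -/ def N1093 : Q := sm gc N544
/-- A coset. -/ def N1094 : Q := sm ge N544
/-- A coset. -/ def N1095 : Q := sm gg N544
/-- A coset. -/ def N1096 : Q := sm gc N545
/-- A coset. -/ def N1097 : Q := sm gc N546
/-- A coset. -/ def N1098 : Q := sm ge N546
/-- A coset. -/ def N1099 : Q := sm gg N546
/-- A coset. -/ def N1100 : Q := sm gb N547
/-- A coset. -/ def N1101 : Q := sm gd N547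
/-- A coset. -/ def N1102 : Q := sm ge N547
/-- A coset. -/ def N1103 : Q := sm gg N547
/-- A coset. -/ def N1104 : Q := sm gg N548
/-- A coset. -/ def N1105 : Q := sm gf N549
/-- A coset. -/ def N1106 : Q := sm ga N550
/-- A coset. -/ def N1107 : Q := sm ge N550
/-- A coset. -/ def N1108 : Q := sm gf N550
/-- A coset. -/ def N1110 : Q := sm gd N551
/-- A coset. -/ def N1111 : Q := sm gf N551
/-- A coset. -/ def N1112 : Q := sm gg N551
/-- A coset. -/ def N1113 : Q := sm gd N552
/-- A coset. -/ def N1114 : Q := sm gg N552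
/-- A coset. -/ def N1115 : Q := sm gd N553
/-- A coset. -/ def N1116 : Q := sm gf N553
/-- A coset. -/ def N1117 : Q := sm gd N555
/-- A coset. -/ def N1118 : Q := sm gd N557
/-- A coset. -/ def N1119 : Q := sm ga N558
/-- A coset. -/ def N1120 : Q := sm gd N558
/-- A coset. -/ def N1121 : Q := sm gg N558
/-- A coset. -/ def N1122 : Q := sm ge N559
/-- A coset. -/ def N1123 : Q := sm gf N559
/-- A coset. -/ def N1124 : Q := sm gg N559
/-- A coset. -/ def N1125 : Q := sm gd N560
/-- A coset. -/ def N1126 : Q := sm gd N561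
/-- A coset. -/ def N1127 : Q := sm gd N562
/-- A coset. -/ def N1128 : Q := sm gg N562
/-- A coset. -/ def N1129 : Q := sm gc N563
/-- A coset. -/ def N1130 : Q := sm ge N563
/-- A coset. -/ def N1131 : Q := sm gf N563
/-- A coset. -/ def N1132 : Q := sm gg N563
/-- A coset. -/ def N1133 : Q := sm gd N564
/-- A coset. -/ def N1134 : Q := sm gf N564
/-- A coset. -/ def N1135 : Q := sm gb N565
/-- A coset. -/ def N1136 : Q := sm ge N565
/-- A coset. -/ def N1137 : Q := sm gf N565
/-- A coset. -/ def N1138 : Q := sm gg N565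
/-- A coset. -/ def N1139 : Q := sm gd N566
/-- A coset. -/ def N1140 : Q := sm gf N566
/-- A coset. -/ def N1141 : Q := sm gg N566
/-- A coset. -/ def N1142 : Q := sm gg N567
/-- A coset. -/ def N1143 : Q := sm gd N568
/-- A coset. -/ def N1144 : Q := sm gf N568
/-- A coset. -/ def N1145 : Q := sm gc N569
/-- A coset. -/ def N1146 : Q := sm gf N569
/-- A coset. -/ def N1147 : Q := sm gg N569
/-- A coset. -/ def N1148 : Q := sm gd N570
/-- A coset. -/ def N1149 : Q := sm gc N571
/-- A coset. -/ def N1150 : Q := sm ge N571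
/-- A coset. -/ def N1151 : Q := sm gf N571
/-- A coset. -/ def N1152 : Q := sm gd N572
/-- A coset. -/ def N1153 : Q := sm gb N573
/-- A coset. -/ def N1154 : Q := sm gd N573
/-- A coset. -/ def N1155 : Q := sm ge N573
/-- A coset. -/ def N1159 : Q := sm gg N574
/-- A coset. -/ def N1160 : Q := sm gd N575
/-- A coset. -/ def N1163 : Q := sm gc N577
/-- A coset. -/ def N1165 : Q := sm ga N578
/-- A coset. -/ def N1166 : Q := sm gd N578
/-- A coset. -/ def N1170 : Q := sm gc N579
/-- A coset. -/ def N1172 : Q := sm gf N579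
/-- A coset. -/ def N1173 : Q := sm gg N579
/-- A coset. -/ def N1174 : Q := sm gd N580
/-- A coset. -/ def N1175 : Q := sm gf N580
/-- A coset. -/ def N1176 : Q := sm gg N580
/-- A coset. -/ def N1177 : Q := sm gd N581
/-- A coset. -/ def N1178 : Q := sm gg N581
/-- A coset. -/ def N1179 : Q := sm gd N582
/-- A coset. -/ def N1180 : Q := sm gf N582
/-- A coset. -/ def N1182 : Q := sm gd N584
/-- A coset. -/ def N1183 : Q := sm gc N585
/-- A coset. -/ def N1184 : Q := sm ge N585
/-- A coset. -/ def N1185 : Q := sm gg N585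
/-- A coset. -/ def N1187 : Q := sm gd N587
/-- A coset. -/ def N1188 : Q := sm gb N588
/-- A coset. -/ def N1189 : Q := sm gd N588
/-- A coset. -/ def N1190 : Q := sm ge N588
/-- A coset. -/ def N1191 : Q := sm gf N590
/-- A coset. -/ def N1194 : Q := sm gf N591
/-- A coset. -/ def N1195 : Q := sm gg N591
/-- A coset. -/ def N1196 : Q := sm gd N592
/-- A coset. -/ def N1197 : Q := sm gg N592
/-- A coset. -/ def N1198 : Q := sm gd N593
/-- A coset. -/ def N1199 : Q := sm gf N593
/-- A coset. -/ def N1200 : Q := sm gf N594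
/-- A coset. -/ def N1201 : Q := sm gg N594
/-- A coset. -/ def N1202 : Q := sm gd N595
/-- A coset. -/ def N1203 : Q := sm gd N596
/-- A coset. -/ def N1204 : Q := sm gc N597
/-- A coset. -/ def N1205 : Q := sm ge N597
/-- A coset. -/ def N1206 : Q := sm gg N597
/-- A coset. -/ def N1207 : Q := sm gd N598
/-- A coset. -/ def N1208 : Q := sm gc N599
/-- A coset. -/ def N1209 : Q := sm ge N599
/-- A coset. -/ def N1210 : Q := sm gf N599
/-- A coset. -/ def N1211 : Q := sm gd N600
/-- A coset. -/ def N1212 : Q := sm gf N601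
/-- A coset. -/ def N1213 : Q := sm gg N601
/-- A coset. -/ def N1214 : Q := sm gd N602
/-- A coset. -/ def N1215 : Q := sm gd N603
/-- A coset. -/ def N1216 : Q := sm gc N604
/-- A coset. -/ def N1217 : Q := sm ge N604
/-- A coset. -/ def N1218 : Q := sm gg N604
/-- A coset. -/ def N1219 : Q := sm gc N605
/-- A coset. -/ def N1220 : Q := sm gf N605
/-- A coset. -/ def N1221 : Q := sm gb N606
/-- A coset. -/ def N1222 : Q := sm gd N606
/-- A coset. -/ def N1223 : Q := sm gg N606
/-- A coset. -/ def N1224 : Q := sm gd N608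
/-- A coset. -/ def N1225 : Q := sm gc N609
/-- A coset. -/ def N1226 : Q := sm ge N609
/-- A coset. -/ def N1227 : Q := sm gc N610
/-- A coset. -/ def N1228 : Q := sm ge N610
/-- A coset. -/ def N1230 : Q := sm gf N611
/-- A coset. -/ def N1232 : Q := sm gf N612
/-- A coset. -/ def N1233 : Q := sm gg N612
/-- A coset. -/ def N1234 : Q := sm gd N613
/-- A coset. -/ def N1235 : Q := sm gg N613
/-- A coset. -/ def N1236 : Q := sm gd N614
/-- A coset. -/ def N1237 : Q := sm gf N614
/-- A coset. -/ def N1238 : Q := sm gc N615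
/-- A coset. -/ def N1239 : Q := sm gd N616
/-- A coset. -/ def N1240 : Q := sm gd N617
/-- A coset. -/ def N1241 : Q := sm gb N618
/-- A coset. -/ def N1242 : Q := sm gd N618
/-- A coset. -/ def N1243 : Q := sm ge N618
/-- A coset. -/ def N1244 : Q := sm ga N620
/-- A coset. -/ def N1245 : Q := sm gd N620
/-- A coset. -/ def N1246 : Q := sm ge N620
/-- A coset. -/ def N1247 : Q := sm ge N621
/-- A coset. -/ def N1248 : Q := sm gf N621
/-- A coset. -/ def N1249 : Q := sm gg N621
/-- A coset. -/ def N1250 : Q := sm gd N623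
/-- A coset. -/ def N1252 : Q := sm gc N624
/-- A coset. -/ def N1253 : Q := sm ge N624
/-- A coset. -/ def N1254 : Q := sm gf N624
/-- A coset. -/ def N1255 : Q := sm gg N624
/-- A coset. -/ def N1256 : Q := sm gd N625
/-- A coset. -/ def N1257 : Q := sm ga N626
/-- A coset. -/ def N1258 : Q := sm gd N626
/-- A coset. -/ def N1259 : Q := sm gf N626
/-- A coset. -/ def N1260 : Q := sm ge N627
/-- A coset. -/ def N1261 : Q := sm gf N627
/-- A coset. -/ def N1262 : Q := sm gg N627
/-- A coset. -/ def N1263 : Q := sm gd N628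
/-- A coset. -/ def N1264 : Q := sm gd N629
/-- A coset. -/ def N1265 : Q := sm gd N630
/-- A coset. -/ def N1266 : Q := sm gf N630
/-- A coset. -/ def N1267 : Q := sm gg N630
/-- A coset. -/ def N1268 : Q := sm ge N631
/-- A coset. -/ def N1269 : Q := sm gf N631
/-- A coset. -/ def N1270 : Q := sm gg N631
/-- A coset. -/ def N1271 : Q := sm gd N632
/-- A coset. -/ def N1272 : Q := sm gf N632
/-- A coset. -/ def N1273 : Q := sm gg N632
/-- A coset. -/ def N1274 : Q := sm gd N633
/-- A coset. -/ def N1275 : Q := sm gg N633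
/-- A coset. -/ def N1276 : Q := sm gd N634
/-- A coset. -/ def N1277 : Q := sm gf N634
/-- A coset. -/ def N1278 : Q := sm gd N635
/-- A coset. -/ def N1279 : Q := sm gd N636
/-- A coset. -/ def N1280 : Q := sm gc N637
/-- A coset. -/ def N1282 : Q := sm gd N638
/-- A coset. -/ def N1283 : Q := sm gd N639
/-- A coset. -/ def N1284 : Q := sm gb N640
/-- A coset. -/ def N1285 : Q := sm gd N640
/-- A coset. -/ def N1286 : Q := sm ge N640
/-- A coset. -/ def N1287 : Q := sm gg N640
/-- A coset. -/ def N1288 : Q := sm gd N643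
/-- A coset. -/ def N1289 : Q := sm gf N643
/-- A coset. -/ def N1290 : Q := sm gg N643
/-- A coset. -/ def N1291 : Q := sm gc N644
/-- A coset. -/ def N1292 : Q := sm ge N644
/-- A coset. -/ def N1293 : Q := sm gf N644
/-- A coset. -/ def N1294 : Q := sm gg N644
/-- A coset. -/ def N1295 : Q := sm gd N645
/-- A coset. -/ def N1296 : Q := sm gf N645
/-- A coset. -/ def N1297 : Q := sm gg N645
/-- A coset. -/ def N1298 : Q := sm gd N646
/-- A coset. -/ def N1299 : Q := sm gg N646
/-- A coset. -/ def N1300 : Q := sm gd N647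
/-- A coset. -/ def N1301 : Q := sm gf N647
/-- A coset. -/ def N1302 : Q := sm gb N648
/-- A coset. -/ def N1303 : Q := sm ge N648
/-- A coset. -/ def N1304 : Q := sm gf N648
/-- A coset. -/ def N1305 : Q := sm gg N648
/-- A coset. -/ def N1306 : Q := sm gd N649
/-- A coset. -/ def N1307 : Q := sm gf N649
/-- A coset. -/ def N1308 : Q := sm gg N649
/-- A coset. -/ def N1309 : Q := sm gd N650
/-- A coset. -/ def N1310 : Q := sm gg N650
/-- A coset. -/ def N1311 : Q := sm gd N651
/-- A coset. -/ def N1312 : Q := sm gf N651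
/-- A coset. -/ def N1313 : Q := sm gc N652
/-- A coset. -/ def N1314 : Q := sm gf N652
/-- A coset. -/ def N1315 : Q := sm gg N652
/-- A coset. -/ def N1316 : Q := sm gd N653
/-- A coset. -/ def N1317 : Q := sm gd N654
/-- A coset. -/ def N1318 : Q := sm gc N655
/-- A coset. -/ def N1319 : Q := sm ge N655
/-- A coset. -/ def N1320 : Q := sm gc N657
/-- A coset. -/ def N1321 : Q := sm ge N657
/-- A coset. -/ def N1322 : Q := sm gc N659
/-- A coset. -/ def N1323 : Q := sm ge N659
/-- A coset. -/ def N1325 : Q := sm gc N660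
/-- A coset. -/ def N1326 : Q := sm gf N660
/-- A coset. -/ def N1327 : Q := sm gb N661
/-- A coset. -/ def N1328 : Q := sm gd N661
/-- A coset. -/ def N1329 : Q := sm ge N661
/-- A coset. -/ def N1330 : Q := sm gg N661
/-- A coset. -/ def N1331 : Q := sm gd N663
/-- A coset. -/ def N1332 : Q := sm gc N664
/-- A coset. -/ def N1333 : Q := sm ge N664
/-- A coset. -/ def N1335 : Q := sm gc N665
/-- A coset. -/ def N1336 : Q := sm ge N665
/-- A coset. -/ def N1337 : Q := sm gg N665
/-- A coset. -/ def N1338 : Q := sm ga N666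
/-- A coset. -/ def N1339 : Q := sm gd N666
/-- A coset. -/ def N1340 : Q := sm ge N666
/-- A coset. -/ def N1341 : Q := sm ge N667
/-- A coset. -/ def N1342 : Q := sm gf N667
/-- A coset. -/ def N1343 : Q := sm gg N667
/-- A coset. -/ def N1344 : Q := sm gd N668
/-- A coset. -/ def N1345 : Q := sm gg N668
/-- A coset. -/ def N1346 : Q := sm gd N669
/-- A coset. -/ def N1348 : Q := sm gd N671
/-- A coset. -/ def N1349 : Q := sm gg N671
/-- A coset. -/ def N1351 : Q := sm gf N672
/-- A coset. -/ def N1353 : Q := sm gf N673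
/-- A coset. -/ def N1354 : Q := sm gg N673
/-- A coset. -/ def N1355 : Q := sm gd N674
/-- A coset. -/ def N1356 : Q := sm gd N675
/-- A coset. -/ def N1357 : Q := sm gc N676
/-- A coset. -/ def N1359 : Q := sm gc N678
/-- A coset. -/ def N1361 : Q := sm gf N678
/-- A coset. -/ def N1362 : Q := sm gd N679
/-- A coset. -/ def N1363 : Q := sm gd N680
/-- A coset. -/ def N1364 : Q := sm gg N680
/-- A coset. -/ def N1365 : Q := sm gd N681
/-- A coset. -/ def N1366 : Q := sm gf N681
/-- A coset. -/ def N1367 : Q := sm gc N682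
/-- A coset. -/ def N1368 : Q := sm ge N682
/-- A coset. -/ def N1369 : Q := sm gg N682
/-- A coset. -/ def N1370 : Q := sm gc N683
/-- A coset. -/ def N1371 : Q := sm ge N683
/-- A coset. -/ def N1372 : Q := sm gb N684
/-- A coset. -/ def N1373 : Q := sm gd N684
/-- A coset. -/ def N1374 : Q := sm ge N684
/-- A coset. -/ def N1375 : Q := sm gg N684
/-- A coset. -/ def N1376 : Q := sm gg N685
/-- A coset. -/ def N1377 : Q := sm gf N686
/-- A coset. -/ def N1378 : Q := sm gb N688
/-- A coset. -/ def N1379 : Q := sm gd N688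
/-- A coset. -/ def N1380 : Q := sm ge N688
/-- A coset. -/ def N1381 : Q := sm gf N688
/-- A coset. -/ def N1382 : Q := sm gf N689
/-- A coset. -/ def N1383 : Q := sm gd N690
/-- A coset. -/ def N1384 : Q := sm gg N690
/-- A coset. -/ def N1385 : Q := sm gc N691
/-- A coset. -/ def N1386 : Q := sm ge N691
/-- A coset. -/ def N1387 : Q := sm gg N691
/-- A coset. -/ def N1388 : Q := sm gd N693
/-- A coset. -/ def N1389 : Q := sm gc N694
/-- A coset. -/ def N1390 : Q := sm ge N694
/-- A coset. -/ def N1391 : Q := sm gg N694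
/-- A coset. -/ def N1392 : Q := sm gc N695
/-- A coset. -/ def N1393 : Q := sm gf N695
/-- A coset. -/ def N1394 : Q := sm gb N696
/-- A coset. -/ def N1395 : Q := sm gd N696
/-- A coset. -/ def N1396 : Q := sm ge N696
/-- A coset. -/ def N1397 : Q := sm gg N696
/-- A coset. -/ def N1398 : Q := sm gg N697
/-- A coset. -/ def N1399 : Q := sm gf N698
/-- A coset. -/ def N1400 : Q := sm gb N699
/-- A coset. -/ def N1401 : Q := sm gd N699
/-- A coset. -/ def N1402 : Q := sm gf N699
/-- A coset. -/ def N1404 : Q := sm gc N702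
/-- A coset. -/ def N1405 : Q := sm gf N702
/-- A coset. -/ def N1406 : Q := sm gc N703
/-- A coset. -/ def N1407 : Q := sm ge N703
/-- A coset. -/ def N1408 : Q := sm gf N703
/-- A coset. -/ def N1409 : Q := sm gb N704
/-- A coset. -/ def N1410 : Q := sm gd N704
/-- A coset. -/ def N1411 : Q := sm ge N704
/-- A coset. -/ def N1412 : Q := sm gf N704
/-- A coset. -/ def N1413 : Q := sm gf N705
/-- A coset. -/ def N1414 : Q := sm gg N706
/-- A coset. -/ def N1415 : Q := sm gb N707
/-- A coset. -/ def N1416 : Q := sm gd N707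
/-- A coset. -/ def N1417 : Q := sm ge N707
/-- A coset. -/ def N1418 : Q := sm gg N707
/-- A coset. -/ def N1419 : Q := sm gg N708
/-- A coset. -/ def N1421 : Q := sm gf N710
/-- A coset. -/ def N1422 : Q := sm gg N710
/-- A coset. -/ def N1423 : Q := sm gd N711
/-- A coset. -/ def N1424 : Q := sm gd N712
/-- A coset. -/ def N1425 : Q := sm gd N713
/-- A coset. -/ def N1426 : Q := sm gg N713
/-- A coset. -/ def N1427 : Q := sm gd N714
/-- A coset. -/ def N1429 : Q := sm gc N715
/-- A coset. -/ def N1430 : Q := sm ge N715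
/-- A coset. -/ def N1431 : Q := sm gg N715
/-- A coset. -/ def N1432 : Q := sm gc N717
/-- A coset. -/ def N1433 : Q := sm ge N717
/-- A coset. -/ def N1434 : Q := sm gc N719
/-- A coset. -/ def N1435 : Q := sm ge N719
/-- A coset. -/ def N1436 : Q := sm gf N719
/-- A coset. -/ def N1437 : Q := sm gc N720
/-- A coset. -/ def N1438 : Q := sm ge N720
/-- A coset. -/ def N1439 : Q := sm gg N720
/-- A coset. -/ def N1441 : Q := sm gc N722
/-- A coset. -/ def N1442 : Q := sm ge N722
/-- A coset. -/ def N1443 : Q := sm gg N722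
/-- A coset. -/ def N1444 : Q := sm gd N723
/-- A coset. -/ def N1446 : Q := sm ge N724
/-- A coset. -/ def N1447 : Q := sm gf N724
/-- A coset. -/ def N1448 : Q := sm gg N724
/-- A coset. -/ def N1449 : Q := sm gd N725
/-- A coset. -/ def N1450 : Q := sm gd N726
/-- A coset. -/ def N1451 : Q := sm gf N726
/-- A coset. -/ def N1452 : Q := sm gg N726
/-- A coset. -/ def N1453 : Q := sm gg N727
/-- A coset. -/ def N1454 : Q := sm gf N728
/-- A coset. -/ def N1455 : Q := sm gc N729
/-- A coset. -/ def N1456 : Q := sm gg N729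
/-- A coset. -/ def N1457 : Q := sm gc N730
/-- A coset. -/ def N1458 : Q := sm gf N730
/-- A coset. -/ def N1459 : Q := sm gb N731
/-- A coset. -/ def N1460 : Q := sm ge N731
/-- A coset. -/ def N1461 : Q := sm gg N731
/-- A coset. -/ def N1462 : Q := sm gf N732
/-- A coset. -/ def N1463 : Q := sm gg N732
/-- A coset. -/ def N1464 : Q := sm gf N734
/-- A coset. -/ def N1465 : Q := sm gc N735
/-- A coset. -/ def N1466 : Q := sm ge N735
/-- A coset. -/ def N1467 : Q := sm gf N735
/-- A coset. -/ def N1468 : Q := sm gg N735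
/-- A coset. -/ def N1469 : Q := sm gb N736
/-- A coset. -/ def N1470 : Q := sm ge N736
/-- A coset. -/ def N1471 : Q := sm gf N736
/-- A coset. -/ def N1472 : Q := sm gg N736
/-- A coset. -/ def N1473 : Q := sm gd N737
/-- A coset. -/ def N1474 : Q := sm gf N737
/-- A coset. -/ def N1475 : Q := sm gg N737
/-- A coset. -/ def N1476 : Q := sm gg N738
/-- A coset. -/ def N1477 : Q := sm gd N739
/-- A coset. -/ def N1478 : Q := sm gf N739
/-- A coset. -/ def N1479 : Q := sm gc N740
/-- A coset. -/ def N1480 : Q := sm gf N740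
/-- A coset. -/ def N1481 : Q := sm gg N740
/-- A coset. -/ def N1482 : Q := sm gc N741
/-- A coset. -/ def N1483 : Q := sm ge N741
/-- A coset. -/ def N1484 : Q := sm gf N741
/-- A coset. -/ def N1485 : Q := sm gb N742
/-- A coset. -/ def N1486 : Q := sm gd N742
/-- A coset. -/ def N1487 : Q := sm ge N742
/-- A coset. -/ def N1488 : Q := sm gf N742
/-- A coset. -/ def N1489 : Q := sm gg N742
/-- A coset. -/ def N1490 : Q := sm gd N743
/-- A coset. -/ def N1491 : Q := sm gf N743
/-- A coset. -/ def N1492 : Q := sm gg N743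
/-- A coset. -/ def N1493 : Q := sm gg N744
/-- A coset. -/ def N1494 : Q := sm gf N745
/-- A coset. -/ def N1495 : Q := sm gc N746
/-- A coset. -/ def N1496 : Q := sm gf N746
/-- A coset. -/ def N1497 : Q := sm gg N746
/-- A coset. -/ def N1498 : Q := sm ga N747
/-- A coset. -/ def N1499 : Q := sm gd N747
/-- A coset. -/ def N1500 : Q := sm ge N747
/-- A coset. -/ def N1501 : Q := sm gf N747
/-- A coset. -/ def N1502 : Q := sm gg N747
/-- A coset. -/ def N1503 : Q := sm ge N748
/-- A coset. -/ def N1504 : Q := sm gf N748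
/-- A coset. -/ def N1505 : Q := sm gg N748
/-- A coset. -/ def N1506 : Q := sm gd N749
/-- A coset. -/ def N1507 : Q := sm gf N749
/-- A coset. -/ def N1508 : Q := sm gg N749
/-- A coset. -/ def N1509 : Q := sm gd N750
/-- A coset. -/ def N1510 : Q := sm gg N750
/-- A coset. -/ def N1511 : Q := sm gd N751
/-- A coset. -/ def N1512 : Q := sm gf N751
/-- A coset. -/ def N1513 : Q := sm gc N752
/-- A coset. -/ def N1514 : Q := sm gf N752
/-- A coset. -/ def N1515 : Q := sm gg N752
/-- A coset. -/ def N1516 : Q := sm gd N753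
/-- A coset. -/ def N1517 : Q := sm gd N754
/-- A coset. -/ def N1518 : Q := sm gd N755
/-- A coset. -/ def N1519 : Q := sm gd N756
/-- A coset. -/ def N1520 : Q := sm gb N757
/-- A coset. -/ def N1521 : Q := sm gd N757
/-- A coset. -/ def N1522 : Q := sm gf N757
/-- A coset. -/ def N1523 : Q := sm gg N757
/-- A coset. -/ def N1524 : Q := sm gg N758
/-- A coset. -/ def N1525 : Q := sm gf N759
/-- A coset. -/ def N1526 : Q := sm gd N760
/-- A coset. -/ def N1527 : Q := sm gd N761
/-- A coset. -/ def N1528 : Q := sm gd N762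
/-- A coset. -/ def N1529 : Q := sm gd N763
/-- A coset. -/ def N1530 : Q := sm gc N764
/-- A coset. -/ def N1531 : Q := sm ge N764
/-- A coset. -/ def N1532 : Q := sm gg N764
/-- A coset. -/ def N1533 : Q := sm gd N765
/-- A coset. -/ def N1534 : Q := sm gc N766
/-- A coset. -/ def N1535 : Q := sm ge N766
/-- A coset. -/ def N1536 : Q := sm gf N766
/-- A coset. -/ def N1537 : Q := sm gd N767
/-- A coset. -/ def N1538 : Q := sm gc N768
/-- A coset. -/ def N1539 : Q := sm ge N768
/-- A coset. -/ def N1540 : Q := sm gg N768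
/-- A coset. -/ def N1541 : Q := sm gc N769
/-- A coset. -/ def N1542 : Q := sm ge N769
/-- A coset. -/ def N1543 : Q := sm gf N769
/-- A coset. -/ def N1544 : Q := sm gb N770
/-- A coset. -/ def N1545 : Q := sm gd N770
/-- A coset. -/ def N1546 : Q := sm ge N770
/-- A coset. -/ def N1547 : Q := sm gg N770
/-- A coset. -/ def N1548 : Q := sm gd N772
/-- A coset. -/ def N1549 : Q := sm gc N773
/-- A coset. -/ def N1550 : Q := sm ge N773
/-- A coset. -/ def N1552 : Q := sm gb N774
/-- A coset. -/ def N1553 : Q := sm gd N774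
/-- A coset. -/ def N1555 : Q := sm gf N774
/-- A coset. -/ def N1556 : Q := sm gd N776
/-- A coset. -/ def N1557 : Q := sm gc N777
/-- A coset. -/ def N1558 : Q := sm ge N777
/-- A coset. -/ def N1559 : Q := sm gg N777
/-- A coset. -/ def N1560 : Q := sm gd N778
/-- A coset. -/ def N1561 : Q := sm gg N778
/-- A coset. -/ def N1562 : Q := sm gc N779
/-- A coset. -/ def N1563 : Q := sm ge N779
/-- A coset. -/ def N1564 : Q := sm gf N779
/-- A coset. -/ def N1565 : Q := sm gg N779
/-- A coset. -/ def N1566 : Q := sm gd N780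
/-- A coset. -/ def N1567 : Q := sm gg N780
/-- A coset. -/ def N1568 : Q := sm gd N781
/-- A coset. -/ def N1569 : Q := sm gf N781
/-- A coset. -/ def N1570 : Q := sm gd N782
/-- A coset. -/ def N1571 : Q := sm gd N783
/-- A coset. -/ def N1572 : Q := sm gd N784
/-- A coset. -/ def N1573 : Q := sm gf N784
/-- A coset. -/ def N1574 : Q := sm gc N785
/-- A coset. -/ def N1575 : Q := sm ge N785
/-- A coset. -/ def N1576 : Q := sm gf N785
/-- A coset. -/ def N1578 : Q := sm gd N786
/-- A coset. -/ def N1579 : Q := sm gf N786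
/-- A coset. -/ def N1580 : Q := sm gd N787
/-- A coset. -/ def N1583 : Q := sm gc N790
/-- A coset. -/ def N1584 : Q := sm ge N790
/-- A coset. -/ def N1585 : Q := sm gg N790
/-- A coset. -/ def N1586 : Q := sm gc N791
/-- A coset. -/ def N1587 : Q := sm ge N791
/-- A coset. -/ def N1588 : Q := sm gf N791
/-- A coset. -/ def N1589 : Q := sm gb N792
/-- A coset. -/ def N1590 : Q := sm gd N792
/-- A coset. -/ def N1591 : Q := sm ge N792
/-- A coset. -/ def N1592 : Q := sm gg N792
/-- A coset. -/ def N1593 : Q := sm gg N793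
/-- A coset. -/ def N1594 : Q := sm gd N794
/-- A coset. -/ def N1595 : Q := sm gf N794
/-- A coset. -/ def N1596 : Q := sm gc N795
/-- A coset. -/ def N1597 : Q := sm ge N795
/-- A coset. -/ def N1598 : Q := sm gf N795
/-- A coset. -/ def N1599 : Q := sm gb N796
/-- A coset. -/ def N1600 : Q := sm gd N796
/-- A coset. -/ def N1601 : Q := sm ge N796
/-- A coset. -/ def N1602 : Q := sm gf N796
/-- A coset. -/ def N1603 : Q := sm gf N797
/-- A coset. -/ def N1604 : Q := sm gd N798
/-- A coset. -/ def N1605 : Q := sm gg N798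
/-- A coset. -/ def N1606 : Q := sm gc N799
/-- A coset. -/ def N1607 : Q := sm ge N799
/-- A coset. -/ def N1608 : Q := sm gg N799
/-- A coset. -/ def N1609 : Q := sm gb N800
/-- A coset. -/ def N1610 : Q := sm gd N800
/-- A coset. -/ def N1611 : Q := sm ge N800
/-- A coset. -/ def N1612 : Q := sm gg N800
/-- A coset. -/ def N1613 : Q := sm gg N801
/-- A coset. -/ def N1614 : Q := sm gf N802
/-- A coset. -/ def N1615 : Q := sm gb N803
/-- A coset. -/ def N1616 : Q := sm gd N803
/-- A coset. -/ def N1617 : Q := sm ge N803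
/-- A coset. -/ def N1618 : Q := sm gf N803
/-- A coset. -/ def N1619 : Q := sm gf N804
/-- A coset. -/ def N1620 : Q := sm gg N805
/-- A coset. -/ def N1621 : Q := sm ga N806
/-- A coset. -/ def N1622 : Q := sm gd N806
/-- A coset. -/ def N1623 : Q := sm ge N806
/-- A coset. -/ def N1625 : Q := sm gc N807
/-- A coset. -/ def N1626 : Q := sm ge N807
/-- A coset. -/ def N1627 : Q := sm gf N807
/-- A coset. -/ def N1628 : Q := sm gg N807
/-- A coset. -/ def N1629 : Q := sm gd N808
/-- A coset. -/ def N1630 : Q := sm gd N809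
/-- A coset. -/ def N1631 : Q := sm gc N810
/-- A coset. -/ def N1632 : Q := sm ge N810
/-- A coset. -/ def N1633 : Q := sm gf N810
/-- A coset. -/ def N1634 : Q := sm gb N811
/-- A coset. -/ def N1635 : Q := sm gd N811
/-- A coset. -/ def N1636 : Q := sm ge N811
/-- A coset. -/ def N1637 : Q := sm gf N811
/-- A coset. -/ def N1638 : Q := sm gf N812
/-- A coset. -/ def N1639 : Q := sm gg N813
/-- A coset. -/ def N1640 : Q := sm ga N814
/-- A coset. -/ def N1641 : Q := sm gd N814
/-- A coset. -/ def N1642 : Q := sm ge N814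
/-- A coset. -/ def N1643 : Q := sm gf N814
/-- A coset. -/ def N1644 : Q := sm gc N815
/-- A coset. -/ def N1645 : Q := sm ge N815
/-- A coset. -/ def N1646 : Q := sm gf N815
/-- A coset. -/ def N1647 : Q := sm gg N815
/-- A coset. -/ def N1649 : Q := sm gd N817
/-- A coset. -/ def N1650 : Q := sm gc N818
/-- A coset. -/ def N1651 : Q := sm ge N818
/-- A coset. -/ def N1652 : Q := sm gg N818
/-- A coset. -/ def N1653 : Q := sm gb N819
/-- A coset. -/ def N1654 : Q := sm gd N819
/-- A coset. -/ def N1655 : Q := sm ge N819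
/-- A coset. -/ def N1656 : Q := sm gg N819
/-- A coset. -/ def N1657 : Q := sm gg N820
/-- A coset. -/ def N1658 : Q := sm gf N821
/-- A coset. -/ def N1659 : Q := sm gd N822
/-- A coset. -/ def N1660 : Q := sm gg N822
/-- A coset. -/ def N1661 : Q := sm gc N823
/-- A coset. -/ def N1662 : Q := sm ge N823
/-- A coset. -/ def N1663 : Q := sm gf N823
/-- A coset. -/ def N1664 : Q := sm gg N823
/-- A coset. -/ def N1665 : Q := sm gd N824
/-- A coset. -/ def N1666 : Q := sm gg N824
/-- A coset. -/ def N1667 : Q := sm gd N825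
/-- A coset. -/ def N1668 : Q := sm gf N825
/-- A coset. -/ def N1669 : Q := sm gb N826
/-- A coset. -/ def N1670 : Q := sm ge N826
/-- A coset. -/ def N1671 : Q := sm gf N826
/-- A coset. -/ def N1672 : Q := sm gg N826
/-- A coset. -/ def N1673 : Q := sm gd N827
/-- A coset. -/ def N1674 : Q := sm gf N827
/-- A coset. -/ def N1675 : Q := sm gg N827
/-- A coset. -/ def N1676 : Q := sm gg N828
/-- A coset. -/ def N1677 : Q := sm gd N829
/-- A coset. -/ def N1678 : Q := sm gf N829
/-- A coset. -/ def N1679 : Q := sm gc N830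
/-- A coset. -/ def N1680 : Q := sm gf N830
/-- A coset. -/ def N1681 : Q := sm gg N830
/-- A coset. -/ def N1682 : Q := sm gd N831
/-- A coset. -/ def N1683 : Q := sm gc N832
/-- A coset. -/ def N1684 : Q := sm ge N832
/-- A coset. -/ def N1685 : Q := sm gf N832
/-- A coset. -/ def N1686 : Q := sm gd N833
/-- A coset. -/ def N1687 : Q := sm gc N834
/-- A coset. -/ def N1688 : Q := sm gf N834
/-- A coset. -/ def N1689 : Q := sm gd N835
/-- A coset. -/ def N1690 : Q := sm gc N836
/-- A coset. -/ def N1691 : Q := sm ge N836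
/-- A coset. -/ def N1692 : Q := sm gg N836
/-- A coset. -/ def N1693 : Q := sm ga N837
/-- A coset. -/ def N1694 : Q := sm gd N837
/-- A coset. -/ def N1695 : Q := sm gc N838
/-- A coset. -/ def N1696 : Q := sm ge N838
/-- A coset. -/ def N1697 : Q := sm gf N838
/-- A coset. -/ def N1698 : Q := sm gg N838
/-- A coset. -/ def N1699 : Q := sm gd N839
/-- A coset. -/ def N1700 : Q := sm gf N839
/-- A coset. -/ def N1701 : Q := sm gd N840
/-- A coset. -/ def N1702 : Q := sm gd N841
/-- A coset. -/ def N1703 : Q := sm gd N842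
/-- A coset. -/ def N1704 : Q := sm gf N842
/-- A coset. -/ def N1705 : Q := sm gc N843
/-- A coset. -/ def N1706 : Q := sm ge N843
/-- A coset. -/ def N1709 : Q := sm gd N844
/-- A coset. -/ def N1710 : Q := sm gf N844
/-- A coset. -/ def N1711 : Q := sm gd N845
/-- A coset. -/ def N1713 : Q := sm gb N846
/-- A coset. -/ def N1714 : Q := sm ge N846
/-- A coset. -/ def N1715 : Q := sm gf N846
/-- A coset. -/ def N1716 : Q := sm gg N846
/-- A coset. -/ def N1717 : Q := sm gd N847
/-- A coset. -/ def N1718 : Q := sm gf N847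
/-- A coset. -/ def N1719 : Q := sm gg N847
/-- A coset. -/ def N1720 : Q := sm gd N848
/-- A coset. -/ def N1721 : Q := sm gg N848
/-- A coset. -/ def N1722 : Q := sm gf N849
/-- A coset. -/ def N1723 : Q := sm gc N850
/-- A coset. -/ def N1724 : Q := sm gf N850
/-- A coset. -/ def N1725 : Q := sm gg N850
/-- A coset. -/ def N1726 : Q := sm gd N851
/-- A coset. -/ def N1727 : Q := sm gc N852
/-- A coset. -/ def N1728 : Q := sm ge N852
/-- A coset. -/ def N1729 : Q := sm gg N852
/-- A coset. -/ def N1730 : Q := sm gd N853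
/-- A coset. -/ def N1734 : Q := sm gb N855
/-- A coset. -/ def N1735 : Q := sm gd N855
/-- A coset. -/ def N1736 : Q := sm ge N855
/-- A coset. -/ def N1738 : Q := sm ge N857
/-- A coset. -/ def N1739 : Q := sm gf N857
/-- A coset. -/ def N1740 : Q := sm gd N858
/-- A coset. -/ def N1741 : Q := sm gc N859
/-- A coset. -/ def N1742 : Q := sm ge N859
/-- A coset. -/ def N1743 : Q := sm gf N859
/-- A coset. -/ def N1744 : Q := sm gg N859
/-- A coset. -/ def N1745 : Q := sm gd N860
/-- A coset. -/ def N1746 : Q := sm gg N860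
/-- A coset. -/ def N1747 : Q := sm gd N861
/-- A coset. -/ def N1748 : Q := sm gd N862
/-- A coset. -/ def N1749 : Q := sm gb N863
/-- A coset. -/ def N1750 : Q := sm ge N863
/-- A coset. -/ def N1751 : Q := sm gg N863
/-- A coset. -/ def N1752 : Q := sm gb N866
/-- A coset. -/ def N1753 : Q := sm gd N866
/-- A coset. -/ def N1754 : Q := sm ge N866
/-- A coset. -/ def N1755 : Q := sm gf N866
/-- A coset. -/ def N1756 : Q := sm ga N869
/-- A coset. -/ def N1757 : Q := sm gd N869
/-- A coset. -/ def N1758 : Q := sm ge N869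
/-- A coset. -/ def N1759 : Q := sm gg N869
/-- A coset. -/ def N1761 : Q := sm ge N870
/-- A coset. -/ def N1762 : Q := sm gg N870
/-- A coset. -/ def N1763 : Q := sm gg N871
/-- A coset. -/ def N1764 : Q := sm gd N872
/-- A coset. -/ def N1765 : Q := sm gf N872
/-- A coset. -/ def N1766 : Q := sm gd N874
/-- A coset. -/ def N1767 : Q := sm ga N875
/-- A coset. -/ def N1768 : Q := sm gd N875
/-- A coset. -/ def N1769 : Q := sm ge N875
/-- A coset. -/ def N1770 : Q := sm gf N875
/-- A coset. -/ def N1771 : Q := sm gc N876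
/-- A coset. -/ def N1772 : Q := sm ge N876
/-- A coset. -/ def N1773 : Q := sm gf N876
/-- A coset. -/ def N1774 : Q := sm gg N876
/-- A coset. -/ def N1775 : Q := sm gd N877
/-- A coset. -/ def N1776 : Q := sm gf N877
/-- A coset. -/ def N1777 : Q := sm gd N878
/-- A coset. -/ def N1778 : Q := sm gg N878
/-- A coset. -/ def N1779 : Q := sm gd N881
/-- A coset. -/ def N1780 : Q := sm gg N881
/-- A coset. -/ def N1781 : Q := sm gc N882
/-- A coset. -/ def N1782 : Q := sm gf N882
/-- A coset. -/ def N1783 : Q := sm gg N882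
/-- A coset. -/ def N1784 : Q := sm gd N884
/-- A coset. -/ def N1785 : Q := sm gb N885
/-- A coset. -/ def N1786 : Q := sm ge N885
/-- A coset. -/ def N1787 : Q := sm gf N885
/-- A coset. -/ def N1788 : Q := sm gg N885
/-- A coset. -/ def N1790 : Q := sm gg N886
/-- A coset. -/ def N1791 : Q := sm gg N887
/-- A coset. -/ def N1794 : Q := sm gc N889
/-- A coset. -/ def N1795 : Q := sm gf N889
/-- A coset. -/ def N1796 : Q := sm gb N890
/-- A coset. -/ def N1797 : Q := sm gd N890
/-- A coset. -/ def N1798 : Q := sm ge N890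
/-- A coset. -/ def N1799 : Q := sm gf N890
/-- A coset. -/ def N1800 : Q := sm ga N893
/-- A coset. -/ def N1801 : Q := sm gd N893
/-- A coset. -/ def N1802 : Q := sm ge N893
/-- A coset. -/ def N1803 : Q := sm gf N893
/-- A coset. -/ def N1804 : Q := sm gc N894
/-- A coset. -/ def N1805 : Q := sm ge N894
/-- A coset. -/ def N1806 : Q := sm gf N894
/-- A coset. -/ def N1807 : Q := sm gg N894
/-- A coset. -/ def N1808 : Q := sm gd N895
/-- A coset. -/ def N1809 : Q := sm gf N895
/-- A coset. -/ def N1810 : Q := sm gd N896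
/-- A coset. -/ def N1812 : Q := sm gd N899
/-- A coset. -/ def N1813 : Q := sm gf N899
/-- A coset. -/ def N1814 : Q := sm gc N900
/-- A coset. -/ def N1815 : Q := sm ge N900
/-- A coset. -/ def N1818 : Q := sm gd N901
/-- A coset. -/ def N1819 : Q := sm gd N902
/-- A coset. -/ def N1820 : Q := sm gb N903
/-- A coset. -/ def N1821 : Q := sm ge N903
/-- A coset. -/ def N1822 : Q := sm gf N903
/-- A coset. -/ def N1823 : Q := sm gg N903
/-- A coset. -/ def N1824 : Q := sm gd N904
/-- A coset. -/ def N1825 : Q := sm gf N904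
/-- A coset. -/ def N1826 : Q := sm gg N904
/-- A coset. -/ def N1827 : Q := sm gd N905
/-- A coset. -/ def N1828 : Q := sm gg N905
/-- A coset. -/ def N1829 : Q := sm gf N906
/-- A coset. -/ def N1830 : Q := sm gc N908
/-- A coset. -/ def N1831 : Q := sm ge N908
/-- A coset. -/ def N1832 : Q := sm gg N908
/-- A coset. -/ def N1833 : Q := sm gb N909
/-- A coset. -/ def N1834 : Q := sm gd N909
/-- A coset. -/ def N1835 : Q := sm ge N909
/-- A coset. -/ def N1836 : Q := sm gg N909
/-- A coset. -/ def N1837 : Q := sm ga N912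
/-- A coset. -/ def N1838 : Q := sm gd N912
/-- A coset. -/ def N1839 : Q := sm ge N912
/-- A coset. -/ def N1840 : Q := sm gg N912
/-- A coset. -/ def N1841 : Q := sm gc N913
/-- A coset. -/ def N1842 : Q := sm ge N913
/-- A coset. -/ def N1843 : Q := sm gf N913
/-- A coset. -/ def N1844 : Q := sm gg N913
/-- A coset. -/ def N1845 : Q := sm gd N914
/-- A coset. -/ def N1846 : Q := sm gg N914
/-- A coset. -/ def N1847 : Q := sm gd N916
/-- A coset. -/ def N1848 : Q := sm gd N917
/-- A coset. -/ def N1849 : Q := sm gg N918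
/-- A coset. -/ def N1850 : Q := sm gc N921
/-- A coset. -/ def N1851 : Q := sm ge N921
/-- A coset. -/ def N1852 : Q := sm gf N921
/-- A coset. -/ def N1853 : Q := sm gb N922
/-- A coset. -/ def N1854 : Q := sm gd N922
/-- A coset. -/ def N1855 : Q := sm ge N922
/-- A coset. -/ def N1856 : Q := sm gf N922
/-- A coset. -/ def N1857 : Q := sm gf N923
/-- A coset. -/ def N1858 : Q := sm gg N924
/-- A coset. -/ def N1859 : Q := sm gd N925
/-- A coset. -/ def N1860 : Q := sm gf N925
/-- A coset. -/ def N1861 : Q := sm gc N926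
/-- A coset. -/ def N1862 : Q := sm ge N926
/-- A coset. -/ def N1864 : Q := sm gd N927
/-- A coset. -/ def N1865 : Q := sm ge N929
/-- A coset. -/ def N1866 : Q := sm gb N930
/-- A coset. -/ def N1867 : Q := sm gd N930
/-- A coset. -/ def N1868 : Q := sm ge N930
/-- A coset. -/ def N1869 : Q := sm gg N930
/-- A coset. -/ def N1870 : Q := sm gg N931
/-- A coset. -/ def N1871 : Q := sm gf N932
/-- A coset. -/ def N1872 : Q := sm gc N933
/-- A coset. -/ def N1873 : Q := sm ge N933
/-- A coset. -/ def N1874 : Q := sm gg N933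
/-- A coset. -/ def N1875 : Q := sm gd N934
/-- A coset. -/ def N1876 : Q := sm gb N935
/-- A coset. -/ def N1877 : Q := sm ge N935
/-- A coset. -/ def N1878 : Q := sm gg N935
/-- A coset. -/ def N1879 : Q := sm gd N936
/-- A coset. -/ def N1880 : Q := sm gg N936
/-- A coset. -/ def N1881 : Q := sm gd N937
/-- A coset. -/ def N1882 : Q := sm gf N937
/-- A coset. -/ def N1883 : Q := sm gc N938
/-- A coset. -/ def N1885 : Q := sm gg N938
/-- A coset. -/ def N1886 : Q := sm gd N939
/-- A coset. -/ def N1887 : Q := sm gc N940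
/-- A coset. -/ def N1888 : Q := sm ge N940
/-- A coset. -/ def N1889 : Q := sm gf N940
/-- A coset. -/ def N1890 : Q := sm gd N941
/-- A coset. -/ def N1891 : Q := sm gc N942
/-- A coset. -/ def N1892 : Q := sm gf N942
/-- A coset. -/ def N1893 : Q := sm gc N943
/-- A coset. -/ def N1894 : Q := sm ge N943
/-- A coset. -/ def N1895 : Q := sm gc N944
/-- A coset. -/ def N1896 : Q := sm ge N944
/-- A coset. -/ def N1897 : Q := sm gf N944
/-- A coset. -/ def N1898 : Q := sm gg N944
/-- A coset. -/ def N1899 : Q := sm gd N945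
/-- A coset. -/ def N1900 : Q := sm gb N946
/-- A coset. -/ def N1901 : Q := sm ge N946
/-- A coset. -/ def N1902 : Q := sm gf N946
/-- A coset. -/ def N1903 : Q := sm gg N946
/-- A coset. -/ def N1904 : Q := sm gd N947
/-- A coset. -/ def N1906 : Q := sm gg N947
/-- A coset. -/ def N1907 : Q := sm gd N948
/-- A coset. -/ def N1908 : Q := sm gg N948
/-- A coset. -/ def N1910 : Q := sm gc N950
/-- A coset. -/ def N1911 : Q := sm gf N950
/-- A coset. -/ def N1912 : Q := sm gg N950
/-- A coset. -/ def N1913 : Q := sm gc N952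
/-- A coset. -/ def N1914 : Q := sm ge N952
/-- A coset. -/ def N1915 : Q := sm gg N952
/-- A coset. -/ def N1916 : Q := sm gc N954
/-- A coset. -/ def N1917 : Q := sm gg N954
/-- A coset. -/ def N1918 : Q := sm gc N955
/-- A coset. -/ def N1919 : Q := sm ge N955
/-- A coset. -/ def N1920 : Q := sm gf N955
/-- A coset. -/ def N1921 : Q := sm gg N955
/-- A coset. -/ def N1922 : Q := sm gd N956
/-- A coset. -/ def N1923 : Q := sm gd N957
/-- A coset. -/ def N1924 : Q := sm ge N957
/-- A coset. -/ def N1927 : Q := sm gd N958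
/-- A coset. -/ def N1929 : Q := sm gg N958
/-- A coset. -/ def N1930 : Q := sm gg N959
/-- A coset. -/ def N1931 : Q := sm gd N960
/-- A coset. -/ def N1933 : Q := sm gc N961
/-- A coset. -/ def N1934 : Q := sm gg N961
/-- A coset. -/ def N1935 : Q := sm gd N962
/-- A coset. -/ def N1936 : Q := sm gc N963
/-- A coset. -/ def N1937 : Q := sm ge N963
/-- A coset. -/ def N1938 : Q := sm gf N963
/-- A coset. -/ def N1939 : Q := sm gd N964
/-- A coset. -/ def N1940 : Q := sm gc N965
/-- A coset. -/ def N1941 : Q := sm gd N966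
/-- A coset. -/ def N1942 : Q := sm gd N967
/-- A coset. -/ def N1943 : Q := sm gd N968
/-- A coset. -/ def N1944 : Q := sm gc N969
/-- A coset. -/ def N1945 : Q := sm ge N969
/-- A coset. -/ def N1946 : Q := sm gf N969
/-- A coset. -/ def N1948 : Q := sm gb N971
/-- A coset. -/ def N1949 : Q := sm gg N971
/-- A coset. -/ def N1950 : Q := sm gd N972
/-- A coset. -/ def N1951 : Q := sm gc N973
/-- A coset. -/ def N1952 : Q := sm ge N973
/-- A coset. -/ def N1953 : Q := sm gf N973
/-- A coset. -/ def N1954 : Q := sm gb N974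
/-- A coset. -/ def N1955 : Q := sm gd N974
/-- A coset. -/ def N1956 : Q := sm ge N974
/-- A coset. -/ def N1957 : Q := sm gf N974
/-- A coset. -/ def N1958 : Q := sm gf N975
/-- A coset. -/ def N1959 : Q := sm gg N976
/-- A coset. -/ def N1960 : Q := sm gb N978
/-- A coset. -/ def N1961 : Q := sm gd N978
/-- A coset. -/ def N1962 : Q := sm gf N978
/-- A coset. -/ def N1964 : Q := sm gb N980
/-- A coset. -/ def N1965 : Q := sm gd N980
/-- A coset. -/ def N1966 : Q := sm ge N980
/-- A coset. -/ def N1967 : Q := sm gg N980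
/-- A coset. -/ def N1968 : Q := sm gf N982
/-- A coset. -/ def N1969 : Q := sm gd N983
/-- A coset. -/ def N1970 : Q := sm gc N984
/-- A coset. -/ def N1971 : Q := sm ge N984
/-- A coset. -/ def N1972 : Q := sm gg N984
/-- A coset. -/ def N1973 : Q := sm gb N985
/-- A coset. -/ def N1974 : Q := sm ge N985
/-- A coset. -/ def N1975 : Q := sm gf N985
/-- A coset. -/ def N1976 : Q := sm gf N986
/-- A coset. -/ def N1977 : Q := sm gg N986
/-- A coset. -/ def N1978 : Q := sm gg N987
/-- A coset. -/ def N1979 : Q := sm gf N988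
/-- A coset. -/ def N1980 : Q := sm gc N989
/-- A coset. -/ def N1982 : Q := sm gc N990
/-- A coset. -/ def N1983 : Q := sm ge N990
/-- A coset. -/ def N1984 : Q := sm gf N990
/-- A coset. -/ def N1985 : Q := sm gg N990
/-- A coset. -/ def N1986 : Q := sm gd N991
/-- A coset. -/ def N1987 : Q := sm gb N992
/-- A coset. -/ def N1988 : Q := sm gd N992
/-- A coset. -/ def N1989 : Q := sm ge N992
/-- A coset. -/ def N1990 : Q := sm gf N992
/-- A coset. -/ def N1991 : Q := sm gg N992
/-- A coset. -/ def N1992 : Q := sm gd N993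
/-- A coset. -/ def N1995 : Q := sm gd N994
/-- A coset. -/ def N1996 : Q := sm gg N994
/-- A coset. -/ def N1997 : Q := sm gf N995
/-- A coset. -/ def N1998 : Q := sm gc N996
/-- A coset. -/ def N1999 : Q := sm gf N996
/-- A coset. -/ def N2000 : Q := sm gg N996
/-- A coset. -/ def N2001 : Q := sm gd N997
/-- A coset. -/ def N2002 : Q := sm gc N998
/-- A coset. -/ def N2003 : Q := sm ge N998
/-- A coset. -/ def N2004 : Q := sm ga N1000
/-- A coset. -/ def N2005 : Q := sm ge N1000
/-- A coset. -/ def N2006 : Q := sm gf N1000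
/-- A coset. -/ def N2007 : Q := sm gg N1000
/-- A coset. -/ def N2008 : Q := sm gd N1001
/-- A coset. -/ def N2009 : Q := sm gf N1001
/-- A coset. -/ def N2011 : Q := sm gd N1002
/-- A coset. -/ def N2013 : Q := sm gd N1003
/-- A coset. -/ def N2014 : Q := sm gf N1003
/-- A coset. -/ def N2015 : Q := sm gc N1004
/-- A coset. -/ def N2016 : Q := sm gf N1004
/-- A coset. -/ def N2017 : Q := sm gg N1004
/-- A coset. -/ def N2018 : Q := sm gd N1005
/-- A coset. -/ def N2019 : Q := sm gd N1006
/-- A coset. -/ def N2020 : Q := sm gc N1007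
/-- A coset. -/ def N2021 : Q := sm ge N1007
/-- A coset. -/ def N2022 : Q := sm gg N1007
/-- A coset. -/ def N2023 : Q := sm gd N1008
/-- A coset. -/ def N2024 : Q := sm gb N1010
/-- A coset. -/ def N2025 : Q := sm gd N1010
/-- A coset. -/ def N2026 : Q := sm gf N1010
/-- A coset. -/ def N2027 : Q := sm gg N1010
/-- A coset. -/ def N2028 : Q := sm gd N1011
/-- A coset. -/ def N2029 : Q := sm gg N1011
/-- A coset. -/ def N2031 : Q := sm gc N1013
/-- A coset. -/ def N2033 : Q := sm gg N1013
/-- A coset. -/ def N2034 : Q := sm gb N1014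
/-- A coset. -/ def N2035 : Q := sm gd N1014
/-- A coset. -/ def N2036 : Q := sm ge N1014
/-- A coset. -/ def N2037 : Q := sm gg N1014
/-- A coset. -/ def N2038 : Q := sm gg N1015
/-- A coset. -/ def N2040 : Q := sm gb N1017
/-- A coset. -/ def N2041 : Q := sm gd N1017
/-- A coset. -/ def N2043 : Q := sm gg N1017
/-- A coset. -/ def N2044 : Q := sm gg N1018
/-- A coset. -/ def N2045 : Q := sm gd N1020
/-- A coset. -/ def N2046 : Q := sm gc N1021
/-- A coset. -/ def N2048 : Q := sm gc N1022
/-- A coset. -/ def N2050 : Q := sm gg N1025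
/-- A coset. -/ def N2051 : Q := sm gc N1026
/-- A coset. -/ def N2053 : Q := sm gf N1026
/-- A coset. -/ def N2054 : Q := sm gb N1027
/-- A coset. -/ def N2055 : Q := sm ge N1027
/-- A coset. -/ def N2056 : Q := sm gf N1027
/-- A coset. -/ def N2057 : Q := sm gf N1028
/-- A coset. -/ def N2059 : Q := sm gc N1030
/-- A coset. -/ def N2060 : Q := sm gb N1031
/-- A coset. -/ def N2061 : Q := sm gd N1031
/-- A coset. -/ def N2062 : Q := sm ge N1031
/-- A coset. -/ def N2063 : Q := sm gg N1031
/-- A coset. -/ def N2064 : Q := sm gg N1032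
/-- A coset. -/ def N2065 : Q := sm gd N1034
/-- A coset. -/ def N2069 : Q := sm ga N1036
/-- A coset. -/ def N2070 : Q := sm gg N1036
/-- A coset. -/ def N2071 : Q := sm gg N1037
/-- A coset. -/ def N2072 : Q := sm gd N1039
/-- A coset. -/ def N2073 : Q := sm gd N1041
/-- A coset. -/ def N2074 : Q := sm gc N1043
/-- A coset. -/ def N2075 : Q := sm ge N1043
/-- A coset. -/ def N2076 : Q := sm gf N1043
/-- A coset. -/ def N2077 : Q := sm gb N1045
/-- A coset. -/ def N2078 : Q := sm gd N1045
/-- A coset. -/ def N2079 : Q := sm ge N1045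
/-- A coset. -/ def N2080 : Q := sm gf N1046
/-- A coset. -/ def N2081 : Q := sm gc N1048
/-- A coset. -/ def N2082 : Q := sm ge N1048
/-- A coset. -/ def N2083 : Q := sm gf N1048
/-- A coset. -/ def N2084 : Q := sm gg N1048
/-- A coset. -/ def N2085 : Q := sm gd N1049
/-- A coset. -/ def N2086 : Q := sm gb N1050
/-- A coset. -/ def N2092 : Q := sm gg N1051
/-- A coset. -/ def N2093 : Q := sm gd N1052
/-- A coset. -/ def N2095 : Q := sm gf N1053
/-- A coset. -/ def N2096 : Q := sm gc N1054
/-- A coset. -/ def N2097 : Q := sm ge N1054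
/-- A coset. -/ def N2098 : Q := sm gg N1054
/-- A coset. -/ def N2099 : Q := sm ga N1055
/-- A coset. -/ def N2100 : Q := sm ge N1055
/-- A coset. -/ def N2101 : Q := sm gf N1055
/-- A coset. -/ def N2102 : Q := sm gg N1055
/-- A coset. -/ def N2103 : Q := sm gd N1056
/-- A coset. -/ def N2104 : Q := sm gf N1056
/-- A coset. -/ def N2105 : Q := sm gg N1056
/-- A coset. -/ def N2106 : Q := sm gd N1057
/-- A coset. -/ def N2107 : Q := sm gg N1057
/-- A coset. -/ def N2108 : Q := sm gd N1058
/-- A coset. -/ def N2109 : Q := sm gf N1058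
/-- A coset. -/ def N2110 : Q := sm gc N1059
/-- A coset. -/ def N2111 : Q := sm gf N1059
/-- A coset. -/ def N2112 : Q := sm gg N1059
/-- A coset. -/ def N2113 : Q := sm gd N1060
/-- A coset. -/ def N2114 : Q := sm gc N1062
/-- A coset. -/ def N2115 : Q := sm ge N1062
/-- A coset. -/ def N2116 : Q := sm gg N1062
/-- A coset. -/ def N2117 : Q := sm gd N1063
/-- A coset. -/ def N2118 : Q := sm gd N1064
/-- A coset. -/ def N2119 : Q := sm gb N1065
/-- A coset. -/ def N2120 : Q := sm gd N1065
/-- A coset. -/ def N2121 : Q := sm gf N1065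
/-- A coset. -/ def N2122 : Q := sm gg N1065
/-- A coset. -/ def N2123 : Q := sm gd N1066
/-- A coset. -/ def N2124 : Q := sm gg N1066
/-- A coset. -/ def N2126 : Q := sm gc N1068
/-- A coset. -/ def N2127 : Q := sm ge N1068
/-- A coset. -/ def N2128 : Q := sm gg N1068
/-- A coset. -/ def N2129 : Q := sm gb N1069
/-- A coset. -/ def N2130 : Q := sm gd N1069
/-- A coset. -/ def N2131 : Q := sm ge N1069
/-- A coset. -/ def N2132 : Q := sm gg N1070
/-- A coset. -/ def N2133 : Q := sm gc N1072
/-- A coset. -/ def N2135 : Q := sm gf N1072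
/-- A coset. -/ def N2137 : Q := sm gd N1073
/-- A coset. -/ def N2138 : Q := sm gb N1074
/-- A coset. -/ def N2139 : Q := sm gd N1074
/-- A coset. -/ def N2140 : Q := sm ge N1074
/-- A coset. -/ def N2141 : Q := sm gf N1074
/-- A coset. -/ def N2142 : Q := sm gg N1074
/-- A coset. -/ def N2144 : Q := sm gg N1075
/-- A coset. -/ def N2145 : Q := sm gd N1076
/-- A coset. -/ def N2146 : Q := sm gg N1076
/-- A coset. -/ def N2147 : Q := sm gf N1077
/-- A coset. -/ def N2148 : Q := sm gc N1078
/-- A coset. -/ def N2149 : Q := sm ge N1078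
/-- A coset. -/ def N2150 : Q := sm gg N1078
/-- A coset. -/ def N2151 : Q := sm ga N1079
/-- A coset. -/ def N2152 : Q := sm ge N1079
/-- A coset. -/ def N2154 : Q := sm gd N1080
/-- A coset. -/ def N2155 : Q := sm gf N1080
/-- A coset. -/ def N2156 : Q := sm gd N1081
/-- A coset. -/ def N2157 : Q := sm gg N1081
/-- A coset. -/ def N2158 : Q := sm gc N1083
/-- A coset. -/ def N2159 : Q := sm gf N1083
/-- A coset. -/ def N2160 : Q := sm gg N1083
/-- A coset. -/ def N2161 : Q := sm gd N1084
/-- A coset. -/ def N2162 : Q := sm gd N1085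
/-- A coset. -/ def N2163 : Q := sm gd N1087
/-- A coset. -/ def N2164 : Q := sm gd N1088
/-- A coset. -/ def N2165 : Q := sm gb N1089
/-- A coset. -/ def N2166 : Q := sm gd N1089
/-- A coset. -/ def N2167 : Q := sm gf N1089
/-- A coset. -/ def N2168 : Q := sm gg N1089
/-- A coset. -/ def N2169 : Q := sm gg N1090
/-- A coset. -/ def N2170 : Q := sm gf N1091
/-- A coset. -/ def N2171 : Q := sm gb N1093
/-- A coset. -/ def N2172 : Q := sm gg N1094
/-- A coset. -/ def N2173 : Q := sm gb N1096
/-- A coset. -/ def N2174 : Q := sm gd N1096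
/-- A coset. -/ def N2177 : Q := sm ge N1097
/-- A coset. -/ def N2180 : Q := sm gd N1100
/-- A coset. -/ def N2181 : Q := sm ge N1100
/-- A coset. -/ def N2183 : Q := sm gc N1101
/-- A coset. -/ def N2184 : Q := sm ge N1101
/-- A coset. -/ def N2185 : Q := sm gf N1101
/-- A coset. -/ def N2186 : Q := sm gg N1101
/-- A coset. -/ def N2187 : Q := sm gd N1102
/-- A coset. -/ def N2189 : Q := sm gd N1103
/-- A coset. -/ def N2190 : Q := sm gf N1103
/-- A coset. -/ def N2191 : Q := sm gd N1104
/-- A coset. -/ def N2192 : Q := sm gd N1105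
/-- A coset. -/ def N2199 : Q := sm gc N1110
/-- A coset. -/ def N2200 : Q := sm gf N1110
/-- A coset. -/ def N2201 : Q := sm gd N1111
/-- A coset. -/ def N2202 : Q := sm ge N1113
/-- A coset. -/ def N2203 : Q := sm gc N1115
/-- A coset. -/ def N2204 : Q := sm ge N1115
/-- A coset. -/ def N2205 : Q := sm gf N1115
/-- A coset. -/ def N2207 : Q := sm gc N1118
/-- A coset. -/ def N2208 : Q := sm gd N1119
/-- A coset. -/ def N2209 : Q := sm gc N1120
/-- A coset. -/ def N2211 : Q := sm gf N1120
/-- A coset. -/ def N2212 : Q := sm gg N1120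
/-- A coset. -/ def N2213 : Q := sm gd N1121
/-- A coset. -/ def N2214 : Q := sm gd N1122
/-- A coset. -/ def N2215 : Q := sm gf N1122
/-- A coset. -/ def N2216 : Q := sm gg N1122
/-- A coset. -/ def N2217 : Q := sm gg N1123
/-- A coset. -/ def N2218 : Q := sm gd N1124
/-- A coset. -/ def N2219 : Q := sm gf N1124
/-- A coset. -/ def N2220 : Q := sm gc N1125
/-- A coset. -/ def N2221 : Q := sm gf N1125
/-- A coset. -/ def N2222 : Q := sm ge N1126
/-- A coset. -/ def N2223 : Q := sm gc N1127
/-- A coset. -/ def N2227 : Q := sm gd N1128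
/-- A coset. -/ def N2228 : Q := sm gb N1129
/-- A coset. -/ def N2230 : Q := sm ge N1129
/-- A coset. -/ def N2234 : Q := sm gg N1130
/-- A coset. -/ def N2235 : Q := sm gg N1131
/-- A coset. -/ def N2238 : Q := sm gc N1133
/-- A coset. -/ def N2241 : Q := sm gd N1134
/-- A coset. -/ def N2243 : Q := sm ge N1135
/-- A coset. -/ def N2245 : Q := sm gg N1135
/-- A coset. -/ def N2246 : Q := sm gd N1136
/-- A coset. -/ def N2247 : Q := sm gf N1136
/-- A coset. -/ def N2249 : Q := sm gg N1137
/-- A coset. -/ def N2251 : Q := sm gf N1138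
/-- A coset. -/ def N2252 : Q := sm gc N1139
/-- A coset. -/ def N2253 : Q := sm gf N1139
/-- A coset. -/ def N2254 : Q := sm gg N1139
/-- A coset. -/ def N2255 : Q := sm gd N1140
/-- A coset. -/ def N2257 : Q := sm gd N1142
/-- A coset. -/ def N2258 : Q := sm gc N1143
/-- A coset. -/ def N2259 : Q := sm ge N1143
/-- A coset. -/ def N2260 : Q := sm gf N1143
/-- A coset. -/ def N2261 : Q := sm gd N1144
/-- A coset. -/ def N2262 : Q := sm gb N1145
/-- A coset. -/ def N2263 : Q := sm gd N1145
/-- A coset. -/ def N2264 : Q := sm gf N1145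
/-- A coset. -/ def N2266 : Q := sm gg N1146
/-- A coset. -/ def N2267 : Q := sm gd N1147
/-- A coset. -/ def N2268 : Q := sm gf N1147
/-- A coset. -/ def N2269 : Q := sm gc N1148
/-- A coset. -/ def N2270 : Q := sm ge N1148
/-- A coset. -/ def N2271 : Q := sm gf N1148
/-- A coset. -/ def N2272 : Q := sm gb N1149
/-- A coset. -/ def N2273 : Q := sm gd N1149
/-- A coset. -/ def N2274 : Q := sm ge N1149
/-- A coset. -/ def N2275 : Q := sm gf N1149
/-- A coset. -/ def N2276 : Q := sm gf N1150
/-- A coset. -/ def N2277 : Q := sm gg N1151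
/-- A coset. -/ def N2278 : Q := sm gd N1153
/-- A coset. -/ def N2279 : Q := sm gf N1153
/-- A coset. -/ def N2280 : Q := sm gg N1153
/-- A coset. -/ def N2281 : Q := sm gc N1154
/-- A coset. -/ def N2282 : Q := sm ge N1154
/-- A coset. -/ def N2285 : Q := sm gd N1155
/-- A coset. -/ def N2293 : Q := sm gd N1159
/-- A coset. -/ def N2294 : Q := sm gc N1160
/-- A coset. -/ def N2297 : Q := sm gb N1163
/-- A coset. -/ def N2300 : Q := sm gd N1165
/-- A coset. -/ def N2301 : Q := sm gf N1165
/-- A coset. -/ def N2303 : Q := sm gc N1166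
/-- A coset. -/ def N2315 : Q := sm ge N1170
/-- A coset. -/ def N2316 : Q := sm gf N1170
/-- A coset. -/ def N2317 : Q := sm gg N1170
/-- A coset. -/ def N2321 : Q := sm gd N1172
/-- A coset. -/ def N2322 : Q := sm gg N1172
/-- A coset. -/ def N2323 : Q := sm gd N1173
/-- A coset. -/ def N2326 : Q := sm gf N1174
/-- A coset. -/ def N2327 : Q := sm gg N1174
/-- A coset. -/ def N2328 : Q := sm gd N1175
/-- A coset. -/ def N2331 : Q := sm ge N1177
/-- A coset. -/ def N2337 : Q := sm gc N1182
/-- A coset. -/ def N2338 : Q := sm gf N1182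
/-- A coset. -/ def N2339 : Q := sm gb N1183
/-- A coset. -/ def N2340 : Q := sm gd N1183
/-- A coset. -/ def N2341 : Q := sm ge N1183
/-- A coset. -/ def N2342 : Q := sm gg N1183
/-- A coset. -/ def N2346 : Q := sm gc N1187
/-- A coset. -/ def N2352 : Q := sm ge N1189
/-- A coset. -/ def N2353 : Q := sm gf N1189
/-- A coset. -/ def N2354 : Q := sm gg N1189
/-- A coset. -/ def N2355 : Q := sm gd N1190
/-- A coset. -/ def N2356 : Q := sm gd N1191
/-- A coset. -/ def N2363 : Q := sm gd N1194
/-- A coset. -/ def N2364 : Q := sm gd N1195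
/-- A coset. -/ def N2365 : Q := sm gc N1196
/-- A coset. -/ def N2366 : Q := sm ge N1196
/-- A coset. -/ def N2368 : Q := sm gd N1197
/-- A coset. -/ def N2369 : Q := sm gc N1198
/-- A coset. -/ def N2370 : Q := sm ge N1198
/-- A coset. -/ def N2371 : Q := sm gf N1198
/-- A coset. -/ def N2373 : Q := sm gd N1201
/-- A coset. -/ def N2374 : Q := sm gg N1202
/-- A coset. -/ def N2375 : Q := sm gc N1203
/-- A coset. -/ def N2376 : Q := sm ge N1203
/-- A coset. -/ def N2377 : Q := sm gf N1203
/-- A coset. -/ def N2378 : Q := sm gb N1204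
/-- A coset. -/ def N2379 : Q := sm ge N1204
/-- A coset. -/ def N2380 : Q := sm gg N1204
/-- A coset. -/ def N2381 : Q := sm gd N1206
/-- A coset. -/ def N2382 : Q := sm gc N1207
/-- A coset. -/ def N2383 : Q := sm ge N1207
/-- A coset. -/ def N2384 : Q := sm gf N1207
/-- A coset. -/ def N2385 : Q := sm gb N1208
/-- A coset. -/ def N2386 : Q := sm gd N1208
/-- A coset. -/ def N2387 : Q := sm ge N1208
/-- A coset. -/ def N2388 : Q := sm gf N1208
/-- A coset. -/ def N2389 : Q := sm gd N1210
/-- A coset. -/ def N2390 : Q := sm gc N1211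
/-- A coset. -/ def N2391 : Q := sm ge N1211
/-- A coset. -/ def N2392 : Q := sm gg N1211
/-- A coset. -/ def N2393 : Q := sm gd N1213
/-- A coset. -/ def N2394 : Q := sm gc N1214
/-- A coset. -/ def N2395 : Q := sm gc N1215
/-- A coset. -/ def N2396 : Q := sm gb N1216
/-- A coset. -/ def N2397 : Q := sm gd N1216
/-- A coset. -/ def N2398 : Q := sm ge N1216
/-- A coset. -/ def N2399 : Q := sm gg N1216
/-- A coset. -/ def N2400 : Q := sm gb N1219
/-- A coset. -/ def N2401 : Q := sm gd N1219
/-- A coset. -/ def N2402 : Q := sm gf N1219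
/-- A coset. -/ def N2404 : Q := sm gd N1221
/-- A coset. -/ def N2405 : Q := sm gf N1222
/-- A coset. -/ def N2406 : Q := sm gd N1223
/-- A coset. -/ def N2407 : Q := sm gc N1224
/-- A coset. -/ def N2410 : Q := sm ge N1225
/-- A coset. -/ def N2411 : Q := sm gb N1227
/-- A coset. -/ def N2412 : Q := sm ge N1227
/-- A coset. -/ def N2416 : Q := sm gd N1230
/-- A coset. -/ def N2418 : Q := sm gd N1233
/-- A coset. -/ def N2421 : Q := sm ge N1236
/-- A coset. -/ def N2424 : Q := sm gb N1238
/-- A coset. -/ def N2425 : Q := sm gc N1239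
/-- A coset. -/ def N2426 : Q := sm gc N1240
/-- A coset. -/ def N2427 : Q := sm gd N1241
/-- A coset. -/ def N2428 : Q := sm gc N1242
/-- A coset. -/ def N2429 : Q := sm ge N1242
/-- A coset. -/ def N2430 : Q := sm gg N1242
/-- A coset. -/ def N2431 : Q := sm gd N1243
/-- A coset. -/ def N2432 : Q := sm gd N1244
/-- A coset. -/ def N2435 : Q := sm gf N1245
/-- A coset. -/ def N2437 : Q := sm gf N1247
/-- A coset. -/ def N2438 : Q := sm gg N1247
/-- A coset. -/ def N2439 : Q := sm gg N1248
/-- A coset. -/ def N2440 : Q := sm gf N1249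
/-- A coset. -/ def N2442 : Q := sm ge N1250
/-- A coset. -/ def N2444 : Q := sm gg N1250
/-- A coset. -/ def N2447 : Q := sm ge N1252
/-- A coset. -/ def N2448 : Q := sm gf N1252
/-- A coset. -/ def N2449 : Q := sm gg N1252
/-- A coset. -/ def N2450 : Q := sm gf N1253
/-- A coset. -/ def N2451 : Q := sm gg N1253
/-- A coset. -/ def N2452 : Q := sm gg N1254
/-- A coset. -/ def N2453 : Q := sm gd N1255
/-- A coset. -/ def N2454 : Q := sm gf N1255
/-- A coset. -/ def N2455 : Q := sm gc N1256
/-- A coset. -/ def N2457 : Q := sm gf N1256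
/-- A coset. -/ def N2458 : Q := sm gd N1257
/-- A coset. -/ def N2459 : Q := sm gc N1258
/-- A coset. -/ def N2460 : Q := sm ge N1258
/-- A coset. -/ def N2461 : Q := sm gf N1258
/-- A coset. -/ def N2462 : Q := sm gg N1258
/-- A coset. -/ def N2463 : Q := sm gd N1259
/-- A coset. -/ def N2464 : Q := sm gd N1260
/-- A coset. -/ def N2465 : Q := sm gf N1260
/-- A coset. -/ def N2467 : Q := sm gg N1261
/-- A coset. -/ def N2468 : Q := sm gf N1262
/-- A coset. -/ def N2469 : Q := sm gc N1263
/-- A coset. -/ def N2471 : Q := sm gg N1263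
/-- A coset. -/ def N2472 : Q := sm ge N1264
/-- A coset. -/ def N2474 : Q := sm gc N1265
/-- A coset. -/ def N2475 : Q := sm ge N1265
/-- A coset. -/ def N2476 : Q := sm gf N1265
/-- A coset. -/ def N2477 : Q := sm gg N1265
/-- A coset. -/ def N2478 : Q := sm gd N1266
/-- A coset. -/ def N2479 : Q := sm gg N1266
/-- A coset. -/ def N2480 : Q := sm gd N1267
/-- A coset. -/ def N2481 : Q := sm gf N1267
/-- A coset. -/ def N2482 : Q := sm gd N1268
/-- A coset. -/ def N2483 : Q := sm gf N1268
/-- A coset. -/ def N2484 : Q := sm gg N1268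
/-- A coset. -/ def N2485 : Q := sm gd N1269
/-- A coset. -/ def N2486 : Q := sm gg N1269
/-- A coset. -/ def N2487 : Q := sm gd N1270
/-- A coset. -/ def N2488 : Q := sm gf N1270
/-- A coset. -/ def N2489 : Q := sm gc N1271
/-- A coset. -/ def N2490 : Q := sm gf N1271
/-- A coset. -/ def N2491 : Q := sm gg N1271
/-- A coset. -/ def N2492 : Q := sm gd N1272
/-- A coset. -/ def N2493 : Q := sm gd N1273
/-- A coset. -/ def N2494 : Q := sm gc N1274
/-- A coset. -/ def N2495 : Q := sm ge N1274
/-- A coset. -/ def N2496 : Q := sm gc N1276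
/-- A coset. -/ def N2497 : Q := sm ge N1276
/-- A coset. -/ def N2498 : Q := sm gc N1278
/-- A coset. -/ def N2499 : Q := sm ge N1278
/-- A coset. -/ def N2500 : Q := sm gg N1278
/-- A coset. -/ def N2501 : Q := sm gc N1279
/-- A coset. -/ def N2502 : Q := sm gf N1279
/-- A coset. -/ def N2503 : Q := sm gd N1280
/-- A coset. -/ def N2504 : Q := sm ge N1280
/-- A coset. -/ def N2505 : Q := sm gc N1282
/-- A coset. -/ def N2506 : Q := sm ge N1282
/-- A coset. -/ def N2508 : Q := sm gc N1283
/-- A coset. -/ def N2509 : Q := sm ge N1283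
/-- A coset. -/ def N2510 : Q := sm gg N1283
/-- A coset. -/ def N2511 : Q := sm gd N1284
/-- A coset. -/ def N2512 : Q := sm ge N1285
/-- A coset. -/ def N2513 : Q := sm gf N1285
/-- A coset. -/ def N2514 : Q := sm gg N1285
/-- A coset. -/ def N2515 : Q := sm gd N1286
/-- A coset. -/ def N2516 : Q := sm gd N1287
/-- A coset. -/ def N2517 : Q := sm gc N1288
/-- A coset. -/ def N2518 : Q := sm ge N1288
/-- A coset. -/ def N2521 : Q := sm gd N1289
/-- A coset. -/ def N2522 : Q := sm gd N1290
/-- A coset. -/ def N2523 : Q := sm gb N1291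
/-- A coset. -/ def N2524 : Q := sm gd N1291
/-- A coset. -/ def N2527 : Q := sm gg N1291
/-- A coset. -/ def N2528 : Q := sm gd N1292
/-- A coset. -/ def N2529 : Q := sm gf N1292
/-- A coset. -/ def N2530 : Q := sm gg N1292
/-- A coset. -/ def N2531 : Q := sm gd N1293
/-- A coset. -/ def N2532 : Q := sm gg N1293
/-- A coset. -/ def N2533 : Q := sm gd N1294
/-- A coset. -/ def N2534 : Q := sm gf N1294
/-- A coset. -/ def N2535 : Q := sm gc N1295
/-- A coset. -/ def N2536 : Q := sm gf N1295
/-- A coset. -/ def N2537 : Q := sm gg N1295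
/-- A coset. -/ def N2538 : Q := sm gd N1296
/-- A coset. -/ def N2539 : Q := sm gd N1297
/-- A coset. -/ def N2540 : Q := sm gc N1298
/-- A coset. -/ def N2541 : Q := sm ge N1298
/-- A coset. -/ def N2542 : Q := sm gc N1300
/-- A coset. -/ def N2543 : Q := sm ge N1300
/-- A coset. -/ def N2544 : Q := sm ga N1302
/-- A coset. -/ def N2545 : Q := sm ge N1302
/-- A coset. -/ def N2546 : Q := sm gf N1302
/-- A coset. -/ def N2547 : Q := sm gg N1302
/-- A coset. -/ def N2548 : Q := sm gd N1303
/-- A coset. -/ def N2549 : Q := sm gf N1303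
/-- A coset. -/ def N2550 : Q := sm gg N1303
/-- A coset. -/ def N2551 : Q := sm gd N1304
/-- A coset. -/ def N2552 : Q := sm gg N1304
/-- A coset. -/ def N2553 : Q := sm gd N1305
/-- A coset. -/ def N2554 : Q := sm gf N1305
/-- A coset. -/ def N2555 : Q := sm gc N1306
/-- A coset. -/ def N2556 : Q := sm gf N1306
/-- A coset. -/ def N2557 : Q := sm gg N1306
/-- A coset. -/ def N2558 : Q := sm gd N1307
/-- A coset. -/ def N2559 : Q := sm gd N1308
/-- A coset. -/ def N2560 : Q := sm gc N1309
/-- A coset. -/ def N2561 : Q := sm ge N1309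
/-- A coset. -/ def N2562 : Q := sm gg N1309
/-- A coset. -/ def N2563 : Q := sm gd N1310
/-- A coset. -/ def N2564 : Q := sm gc N1311
/-- A coset. -/ def N2565 : Q := sm ge N1311
/-- A coset. -/ def N2566 : Q := sm gf N1311
/-- A coset. -/ def N2567 : Q := sm gd N1312
/-- A coset. -/ def N2568 : Q := sm gb N1313
/-- A coset. -/ def N2569 : Q := sm gd N1313
/-- A coset. -/ def N2570 : Q := sm gf N1313
/-- A coset. -/ def N2571 : Q := sm gg N1313
/-- A coset. -/ def N2572 : Q := sm gd N1314
/-- A coset. -/ def N2573 : Q := sm gg N1314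
/-- A coset. -/ def N2574 : Q := sm gd N1315
/-- A coset. -/ def N2575 : Q := sm gf N1315
/-- A coset. -/ def N2576 : Q := sm gc N1316
/-- A coset. -/ def N2577 : Q := sm ge N1316
/-- A coset. -/ def N2578 : Q := sm gc N1317
/-- A coset. -/ def N2579 : Q := sm ge N1317
/-- A coset. -/ def N2580 : Q := sm gb N1318
/-- A coset. -/ def N2581 : Q := sm gd N1318
/-- A coset. -/ def N2582 : Q := sm ge N1318
/-- A coset. -/ def N2583 : Q := sm gb N1320
/-- A coset. -/ def N2584 : Q := sm gd N1320
/-- A coset. -/ def N2585 : Q := sm ge N1320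
/-- A coset. -/ def N2586 : Q := sm gb N1322
/-- A coset. -/ def N2587 : Q := sm gd N1322
/-- A coset. -/ def N2588 : Q := sm ge N1322
/-- A coset. -/ def N2589 : Q := sm gg N1322
/-- A coset. -/ def N2590 : Q := sm gg N1323
/-- A coset. -/ def N2592 : Q := sm gb N1325
/-- A coset. -/ def N2593 : Q := sm gd N1325
/-- A coset. -/ def N2595 : Q := sm gd N1327
/-- A coset. -/ def N2596 : Q := sm gc N1328
/-- A coset. -/ def N2598 : Q := sm gf N1328
/-- A coset. -/ def N2599 : Q := sm gg N1328
/-- A coset. -/ def N2600 : Q := sm gd N1329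
/-- A coset. -/ def N2601 : Q := sm gd N1330
/-- A coset. -/ def N2602 : Q := sm gc N1331
/-- A coset. -/ def N2605 : Q := sm gb N1332
/-- A coset. -/ def N2608 : Q := sm gf N1332
/-- A coset. -/ def N2611 : Q := sm gb N1335
/-- A coset. -/ def N2613 : Q := sm ge N1335
/-- A coset. -/ def N2614 : Q := sm gg N1335
/-- A coset. -/ def N2615 : Q := sm gg N1336
/-- A coset. -/ def N2616 : Q := sm gd N1338
/-- A coset. -/ def N2617 : Q := sm gc N1339
/-- A coset. -/ def N2618 : Q := sm ge N1339
/-- A coset. -/ def N2619 : Q := sm gf N1339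
/-- A coset. -/ def N2620 : Q := sm gg N1339
/-- A coset. -/ def N2621 : Q := sm gd N1340
/-- A coset. -/ def N2622 : Q := sm gd N1341
/-- A coset. -/ def N2623 : Q := sm gf N1341
/-- A coset. -/ def N2624 : Q := sm gg N1341
/-- A coset. -/ def N2625 : Q := sm gg N1342
/-- A coset. -/ def N2626 : Q := sm gd N1343
/-- A coset. -/ def N2627 : Q := sm gf N1343
/-- A coset. -/ def N2628 : Q := sm gc N1344
/-- A coset. -/ def N2629 : Q := sm gf N1344
/-- A coset. -/ def N2630 : Q := sm gg N1344
/-- A coset. -/ def N2631 : Q := sm gd N1345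
/-- A coset. -/ def N2632 : Q := sm gc N1346
/-- A coset. -/ def N2633 : Q := sm ge N1346
/-- A coset. -/ def N2634 : Q := sm gf N1346
/-- A coset. -/ def N2637 : Q := sm gc N1348
/-- A coset. -/ def N2642 : Q := sm gd N1351
/-- A coset. -/ def N2646 : Q := sm gd N1353
/-- A coset. -/ def N2647 : Q := sm gg N1353
/-- A coset. -/ def N2648 : Q := sm gd N1354
/-- A coset. -/ def N2650 : Q := sm gc N1355
/-- A coset. -/ def N2651 : Q := sm ge N1355
/-- A coset. -/ def N2652 : Q := sm gg N1355
/-- A coset. -/ def N2653 : Q := sm gc N1356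
/-- A coset. -/ def N2655 : Q := sm gb N1357
/-- A coset. -/ def N2657 : Q := sm ge N1357
/-- A coset. -/ def N2661 : Q := sm gf N1359
/-- A coset. -/ def N2663 : Q := sm gd N1361
/-- A coset. -/ def N2664 : Q := sm gg N1361
/-- A coset. -/ def N2665 : Q := sm gg N1362
/-- A coset. -/ def N2666 : Q := sm gc N1363
/-- A coset. -/ def N2667 : Q := sm gg N1363
/-- A coset. -/ def N2668 : Q := sm gd N1364
/-- A coset. -/ def N2669 : Q := sm ge N1365
/-- A coset. -/ def N2670 : Q := sm gd N1366
/-- A coset. -/ def N2671 : Q := sm gb N1367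
/-- A coset. -/ def N2672 : Q := sm gd N1367
/-- A coset. -/ def N2673 : Q := sm ge N1367
/-- A coset. -/ def N2674 : Q := sm gg N1367
/-- A coset. -/ def N2675 : Q := sm gg N1368
/-- A coset. -/ def N2676 : Q := sm gf N1369
/-- A coset. -/ def N2677 : Q := sm gb N1370
/-- A coset. -/ def N2679 : Q := sm ga N1372
/-- A coset. -/ def N2680 : Q := sm ge N1372
/-- A coset. -/ def N2681 : Q := sm gg N1372
/-- A coset. -/ def N2682 : Q := sm gd N1374
/-- A coset. -/ def N2683 : Q := sm gg N1374
/-- A coset. -/ def N2684 : Q := sm gd N1375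
/-- A coset. -/ def N2685 : Q := sm gf N1375
/-- A coset. -/ def N2687 : Q := sm gd N1378
/-- A coset. -/ def N2689 : Q := sm gf N1378
/-- A coset. -/ def N2692 : Q := sm gg N1379
/-- A coset. -/ def N2695 : Q := sm gd N1381
/-- A coset. -/ def N2696 : Q := sm gg N1381
/-- A coset. -/ def N2697 : Q := sm gd N1382
/-- A coset. -/ def N2698 : Q := sm gd N1384
/-- A coset. -/ def N2699 : Q := sm gd N1385
/-- A coset. -/ def N2700 : Q := sm gg N1386
/-- A coset. -/ def N2702 : Q := sm ge N1388
/-- A coset. -/ def N2705 : Q := sm gd N1389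
/-- A coset. -/ def N2706 : Q := sm ge N1389
/-- A coset. -/ def N2708 : Q := sm gb N1392
/-- A coset. -/ def N2712 : Q := sm ge N1394
/-- A coset. -/ def N2714 : Q := sm gc N1395
/-- A coset. -/ def N2715 : Q := sm ge N1395
/-- A coset. -/ def N2716 : Q := sm gf N1395
/-- A coset. -/ def N2717 : Q := sm gg N1395
/-- A coset. -/ def N2718 : Q := sm gd N1396
/-- A coset. -/ def N2719 : Q := sm gg N1396
/-- A coset. -/ def N2720 : Q := sm gd N1397
/-- A coset. -/ def N2721 : Q := sm gf N1397
/-- A coset. -/ def N2722 : Q := sm gf N1400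
/-- A coset. -/ def N2723 : Q := sm gd N1402
/-- A coset. -/ def N2726 : Q := sm gb N1404
/-- A coset. -/ def N2727 : Q := sm gf N1404
/-- A coset. -/ def N2729 : Q := sm gd N1406
/-- A coset. -/ def N2730 : Q := sm ge N1406
/-- A coset. -/ def N2731 : Q := sm ga N1409
/-- A coset. -/ def N2733 : Q := sm ge N1409
/-- A coset. -/ def N2734 : Q := sm gf N1409
/-- A coset. -/ def N2735 : Q := sm gc N1410
/-- A coset. -/ def N2736 : Q := sm ge N1410
/-- A coset. -/ def N2737 : Q := sm gf N1410
/-- A coset. -/ def N2738 : Q := sm gg N1410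
/-- A coset. -/ def N2739 : Q := sm gd N1411
/-- A coset. -/ def N2742 : Q := sm gd N1415
/-- A coset. -/ def N2743 : Q := sm ge N1415
/-- A coset. -/ def N2745 : Q := sm gc N1416
/-- A coset. -/ def N2746 : Q := sm ge N1416
/-- A coset. -/ def N2747 : Q := sm gf N1416
/-- A coset. -/ def N2748 : Q := sm gg N1416
/-- A coset. -/ def N2750 : Q := sm gd N1418
/-- A coset. -/ def N2754 : Q := sm gd N1421
/-- A coset. -/ def N2755 : Q := sm gg N1421
/-- A coset. -/ def N2756 : Q := sm gd N1422
/-- A coset. -/ def N2758 : Q := sm gc N1423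
/-- A coset. -/ def N2759 : Q := sm ge N1423
/-- A coset. -/ def N2760 : Q := sm gg N1423
/-- A coset. -/ def N2763 : Q := sm gc N1425
/-- A coset. -/ def N2764 : Q := sm ge N1425
/-- A coset. -/ def N2765 : Q := sm gg N1425
/-- A coset. -/ def N2766 : Q := sm gd N1426
/-- A coset. -/ def N2768 : Q := sm gb N1429
/-- A coset. -/ def N2769 : Q := sm ge N1429
/-- A coset. -/ def N2770 : Q := sm gg N1429
/-- A coset. -/ def N2771 : Q := sm gg N1430
/-- A coset. -/ def N2772 : Q := sm gf N1431
/-- A coset. -/ def N2773 : Q := sm gb N1432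
/-- A coset. -/ def N2774 : Q := sm gd N1432
/-- A coset. -/ def N2775 : Q := sm gb N1434
/-- A coset. -/ def N2780 : Q := sm ge N1437
/-- A coset. -/ def N2781 : Q := sm gg N1437
/-- A coset. -/ def N2782 : Q := sm gg N1438
/-- A coset. -/ def N2786 : Q := sm gb N1441
/-- A coset. -/ def N2787 : Q := sm ge N1441
/-- A coset. -/ def N2788 : Q := sm gg N1441
/-- A coset. -/ def N2789 : Q := sm gf N1443
/-- A coset. -/ def N2791 : Q := sm ge N1444
/-- A coset. -/ def N2792 : Q := sm gf N1444
/-- A coset. -/ def N2797 : Q := sm gd N1446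
/-- A coset. -/ def N2798 : Q := sm gf N1446
/-- A coset. -/ def N2800 : Q := sm gg N1447
/-- A coset. -/ def N2801 : Q := sm gf N1448
/-- A coset. -/ def N2802 : Q := sm gc N1449
/-- A coset. -/ def N2803 : Q := sm gg N1449
/-- A coset. -/ def N2804 : Q := sm gc N1450
/-- A coset. -/ def N2806 : Q := sm gg N1455
/-- A coset. -/ def N2808 : Q := sm gd N1457
/-- A coset. -/ def N2809 : Q := sm gf N1457
/-- A coset. -/ def N2810 : Q := sm ga N1459
/-- A coset. -/ def N2811 : Q := sm gg N1459
/-- A coset. -/ def N2815 : Q := sm gb N1465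
/-- A coset. -/ def N2816 : Q := sm gd N1465
/-- A coset. -/ def N2817 : Q := sm ge N1465
/-- A coset. -/ def N2818 : Q := sm gf N1465
/-- A coset. -/ def N2819 : Q := sm gg N1465
/-- A coset. -/ def N2820 : Q := sm gf N1466
/-- A coset. -/ def N2821 : Q := sm gg N1466
/-- A coset. -/ def N2822 : Q := sm gg N1467
/-- A coset. -/ def N2823 : Q := sm gf N1468
/-- A coset. -/ def N2824 : Q := sm ga N1469
/-- A coset. -/ def N2825 : Q := sm ge N1469
/-- A coset. -/ def N2826 : Q := sm gf N1469
/-- A coset. -/ def N2827 : Q := sm gg N1469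
/-- A coset. -/ def N2828 : Q := sm gd N1470
/-- A coset. -/ def N2829 : Q := sm gf N1470
/-- A coset. -/ def N2830 : Q := sm gg N1470
/-- A coset. -/ def N2831 : Q := sm gd N1471
/-- A coset. -/ def N2832 : Q := sm gg N1471
/-- A coset. -/ def N2833 : Q := sm gd N1472
/-- A coset. -/ def N2834 : Q := sm gf N1472
/-- A coset. -/ def N2835 : Q := sm gc N1473
/-- A coset. -/ def N2836 : Q := sm gf N1473
/-- A coset. -/ def N2837 : Q := sm gg N1473
/-- A coset. -/ def N2838 : Q := sm gd N1474
/-- A coset. -/ def N2839 : Q := sm gd N1475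
/-- A coset. -/ def N2840 : Q := sm gd N1476
/-- A coset. -/ def N2841 : Q := sm gc N1477
/-- A coset. -/ def N2842 : Q := sm ge N1477
/-- A coset. -/ def N2843 : Q := sm gf N1477
/-- A coset. -/ def N2844 : Q := sm gd N1478
/-- A coset. -/ def N2845 : Q := sm gb N1479
/-- A coset. -/ def N2846 : Q := sm gd N1479
/-- A coset. -/ def N2847 : Q := sm gf N1479
/-- A coset. -/ def N2848 : Q := sm gg N1479
/-- A coset. -/ def N2849 : Q := sm gg N1480
/-- A coset. -/ def N2850 : Q := sm gf N1481
/-- A coset. -/ def N2851 : Q := sm gb N1482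
/-- A coset. -/ def N2852 : Q := sm gd N1482
/-- A coset. -/ def N2853 : Q := sm ge N1482
/-- A coset. -/ def N2854 : Q := sm gf N1482
/-- A coset. -/ def N2855 : Q := sm gf N1483
/-- A coset. -/ def N2856 : Q := sm gg N1484
/-- A coset. -/ def N2857 : Q := sm ga N1485
/-- A coset. -/ def N2858 : Q := sm gd N1485
/-- A coset. -/ def N2859 : Q := sm ge N1485
/-- A coset. -/ def N2860 : Q := sm gf N1485
/-- A coset. -/ def N2861 : Q := sm gg N1485
/-- A coset. -/ def N2862 : Q := sm ge N1486
/-- A coset. -/ def N2863 : Q := sm gf N1486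
/-- A coset. -/ def N2864 : Q := sm gg N1486
/-- A coset. -/ def N2865 : Q := sm gd N1487
/-- A coset. -/ def N2866 : Q := sm gf N1487
/-- A coset. -/ def N2867 : Q := sm gg N1487
/-- A coset. -/ def N2868 : Q := sm gd N1488
/-- A coset. -/ def N2869 : Q := sm gg N1488
/-- A coset. -/ def N2870 : Q := sm gd N1489
/-- A coset. -/ def N2871 : Q := sm gf N1489
/-- A coset. -/ def N2872 : Q := sm gc N1490
/-- A coset. -/ def N2873 : Q := sm gf N1490
/-- A coset. -/ def N2874 : Q := sm gg N1490
/-- A coset. -/ def N2875 : Q := sm gd N1491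
/-- A coset. -/ def N2876 : Q := sm gd N1492
/-- A coset. -/ def N2877 : Q := sm gd N1493
/-- A coset. -/ def N2878 : Q := sm gd N1494
/-- A coset. -/ def N2879 : Q := sm gb N1495
/-- A coset. -/ def N2880 : Q := sm gd N1495
/-- A coset. -/ def N2881 : Q := sm gf N1495
/-- A coset. -/ def N2882 : Q := sm gg N1495
/-- A coset. -/ def N2883 : Q := sm gg N1496
/-- A coset. -/ def N2884 : Q := sm gf N1497
/-- A coset. -/ def N2885 : Q := sm gd N1498
/-- A coset. -/ def N2886 : Q := sm gf N1498
/-- A coset. -/ def N2887 : Q := sm gg N1498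
/-- A coset. -/ def N2888 : Q := sm gc N1499
/-- A coset. -/ def N2889 : Q := sm ge N1499
/-- A coset. -/ def N2890 : Q := sm gf N1499
/-- A coset. -/ def N2891 : Q := sm gg N1499
/-- A coset. -/ def N2892 : Q := sm gd N1500
/-- A coset. -/ def N2893 : Q := sm gf N1500
/-- A coset. -/ def N2894 : Q := sm gg N1500
/-- A coset. -/ def N2895 : Q := sm gd N1501
/-- A coset. -/ def N2896 : Q := sm gg N1501
/-- A coset. -/ def N2897 : Q := sm gd N1502
/-- A coset. -/ def N2898 : Q := sm gf N1502
/-- A coset. -/ def N2899 : Q := sm gd N1503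
/-- A coset. -/ def N2900 : Q := sm gf N1503
/-- A coset. -/ def N2901 : Q := sm gg N1503
/-- A coset. -/ def N2902 : Q := sm gd N1504
/-- A coset. -/ def N2903 : Q := sm gg N1504
/-- A coset. -/ def N2904 : Q := sm gd N1505
/-- A coset. -/ def N2905 : Q := sm gf N1505
/-- A coset. -/ def N2906 : Q := sm gf N1506
/-- A coset. -/ def N2907 : Q := sm gg N1506
/-- A coset. -/ def N2908 : Q := sm gd N1507
/-- A coset. -/ def N2909 : Q := sm gd N1508
/-- A coset. -/ def N2910 : Q := sm gc N1509
/-- A coset. -/ def N2911 : Q := sm ge N1509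
/-- A coset. -/ def N2912 : Q := sm gg N1509
/-- A coset. -/ def N2913 : Q := sm gd N1510
/-- A coset. -/ def N2914 : Q := sm gc N1511
/-- A coset. -/ def N2915 : Q := sm ge N1511
/-- A coset. -/ def N2916 : Q := sm gf N1511
/-- A coset. -/ def N2917 : Q := sm gd N1512
/-- A coset. -/ def N2918 : Q := sm gd N1513
/-- A coset. -/ def N2919 : Q := sm gf N1513
/-- A coset. -/ def N2920 : Q := sm gg N1513
/-- A coset. -/ def N2921 : Q := sm gd N1514
/-- A coset. -/ def N2922 : Q := sm gd N1515
/-- A coset. -/ def N2923 : Q := sm gc N1516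
/-- A coset. -/ def N2924 : Q := sm gg N1516
/-- A coset. -/ def N2925 : Q := sm gc N1517
/-- A coset. -/ def N2926 : Q := sm gf N1517
/-- A coset. -/ def N2927 : Q := sm gc N1518
/-- A coset. -/ def N2928 : Q := sm ge N1518
/-- A coset. -/ def N2929 : Q := sm gf N1518
/-- A coset. -/ def N2930 : Q := sm gc N1519
/-- A coset. -/ def N2931 : Q := sm ge N1519
/-- A coset. -/ def N2932 : Q := sm gg N1519
/-- A coset. -/ def N2933 : Q := sm gd N1520
/-- A coset. -/ def N2934 : Q := sm gf N1520
/-- A coset. -/ def N2935 : Q := sm gg N1520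
/-- A coset. -/ def N2936 : Q := sm ge N1521
/-- A coset. -/ def N2937 : Q := sm gf N1521
/-- A coset. -/ def N2938 : Q := sm gg N1521
/-- A coset. -/ def N2939 : Q := sm gd N1522
/-- A coset. -/ def N2940 : Q := sm gd N1523
/-- A coset. -/ def N2941 : Q := sm gf N1523
/-- A coset. -/ def N2942 : Q := sm gd N1524
/-- A coset. -/ def N2943 : Q := sm gd N1525
/-- A coset. -/ def N2944 : Q := sm gc N1526
/-- A coset. -/ def N2945 : Q := sm ge N1526
/-- A coset. -/ def N2946 : Q := sm gf N1526
/-- A coset. -/ def N2947 : Q := sm gg N1526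
/-- A coset. -/ def N2948 : Q := sm gc N1527
/-- A coset. -/ def N2949 : Q := sm ge N1527
/-- A coset. -/ def N2950 : Q := sm gf N1527
/-- A coset. -/ def N2951 : Q := sm gg N1527
/-- A coset. -/ def N2952 : Q := sm gc N1528
/-- A coset. -/ def N2953 : Q := sm ge N1528
/-- A coset. -/ def N2954 : Q := sm gg N1528
/-- A coset. -/ def N2955 : Q := sm gc N1529
/-- A coset. -/ def N2956 : Q := sm ge N1529
/-- A coset. -/ def N2957 : Q := sm gf N1529
/-- A coset. -/ def N2958 : Q := sm gb N1530
/-- A coset. -/ def N2959 : Q := sm gd N1530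
/-- A coset. -/ def N2960 : Q := sm ge N1530
/-- A coset. -/ def N2961 : Q := sm gg N1530
/-- A coset. -/ def N2962 : Q := sm gg N1531
/-- A coset. -/ def N2963 : Q := sm gd N1532
/-- A coset. -/ def N2964 : Q := sm gf N1532
/-- A coset. -/ def N2965 : Q := sm gc N1533
/-- A coset. -/ def N2966 : Q := sm ge N1533
/-- A coset. -/ def N2967 : Q := sm gf N1533
/-- A coset. -/ def N2968 : Q := sm gb N1534
/-- A coset. -/ def N2969 : Q := sm gd N1534
/-- A coset. -/ def N2970 : Q := sm ge N1534
/-- A coset. -/ def N2971 : Q := sm gf N1534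
/-- A coset. -/ def N2972 : Q := sm gf N1535
/-- A coset. -/ def N2973 : Q := sm gd N1536
/-- A coset. -/ def N2974 : Q := sm gg N1536
/-- A coset. -/ def N2975 : Q := sm gc N1537
/-- A coset. -/ def N2976 : Q := sm ge N1537
/-- A coset. -/ def N2977 : Q := sm gg N1537
/-- A coset. -/ def N2978 : Q := sm gb N1538
/-- A coset. -/ def N2979 : Q := sm gd N1538
/-- A coset. -/ def N2980 : Q := sm ge N1538
/-- A coset. -/ def N2981 : Q := sm gg N1538
/-- A coset. -/ def N2982 : Q := sm gb N1541
/-- A coset. -/ def N2983 : Q := sm gd N1541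
/-- A coset. -/ def N2984 : Q := sm ge N1541
/-- A coset. -/ def N2985 : Q := sm gf N1541
/-- A coset. -/ def N2986 : Q := sm gd N1544
/-- A coset. -/ def N2988 : Q := sm gc N1545
/-- A coset. -/ def N2989 : Q := sm ge N1545
/-- A coset. -/ def N2990 : Q := sm gf N1545
/-- A coset. -/ def N2991 : Q := sm gg N1545
/-- A coset. -/ def N2992 : Q := sm gd N1546
/-- A coset. -/ def N2993 : Q := sm gd N1547
/-- A coset. -/ def N2994 : Q := sm gc N1548
/-- A coset. -/ def N2997 : Q := sm gb N1549
/-- A coset. -/ def N2998 : Q := sm gd N1549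
/-- A coset. -/ def N2999 : Q := sm ge N1549
/-- A coset. -/ def N3000 : Q := sm gf N1549
/-- A coset. -/ def N3001 : Q := sm gf N1550
/-- A coset. -/ def N3003 : Q := sm gd N1552
/-- A coset. -/ def N3004 : Q := sm gf N1552
/-- A coset. -/ def N3005 : Q := sm gc N1553
/-- A coset. -/ def N3007 : Q := sm gf N1553
/-- A coset. -/ def N3010 : Q := sm gd N1555
/-- A coset. -/ def N3011 : Q := sm gc N1556
/-- A coset. -/ def N3012 : Q := sm ge N1556
/-- A coset. -/ def N3013 : Q := sm gb N1557
/-- A coset. -/ def N3014 : Q := sm gd N1557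
/-- A coset. -/ def N3015 : Q := sm ge N1557
/-- A coset. -/ def N3016 : Q := sm gg N1557
/-- A coset. -/ def N3017 : Q := sm gg N1558
/-- A coset. -/ def N3019 : Q := sm gc N1560
/-- A coset. -/ def N3020 : Q := sm ge N1560
/-- A coset. -/ def N3021 : Q := sm gf N1560
/-- A coset. -/ def N3022 : Q := sm gg N1560
/-- A coset. -/ def N3023 : Q := sm gd N1561
/-- A coset. -/ def N3024 : Q := sm gf N1561
/-- A coset. -/ def N3025 : Q := sm gb N1562
/-- A coset. -/ def N3026 : Q := sm ge N1562
/-- A coset. -/ def N3027 : Q := sm gf N1562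
/-- A coset. -/ def N3028 : Q := sm gg N1562
/-- A coset. -/ def N3029 : Q := sm gd N1563
/-- A coset. -/ def N3030 : Q := sm gf N1563
/-- A coset. -/ def N3031 : Q := sm gg N1563
/-- A coset. -/ def N3032 : Q := sm gg N1564
/-- A coset. -/ def N3033 : Q := sm gd N1565
/-- A coset. -/ def N3034 : Q := sm gf N1565
/-- A coset. -/ def N3035 : Q := sm gc N1566
/-- A coset. -/ def N3036 : Q := sm gf N1566
/-- A coset. -/ def N3037 : Q := sm gg N1566
/-- A coset. -/ def N3038 : Q := sm gd N1567
/-- A coset. -/ def N3039 : Q := sm gc N1568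
/-- A coset. -/ def N3040 : Q := sm ge N1568
/-- A coset. -/ def N3041 : Q := sm gf N1568
/-- A coset. -/ def N3042 : Q := sm gd N1569
/-- A coset. -/ def N3043 : Q := sm gc N1570
/-- A coset. -/ def N3045 : Q := sm gc N1571
/-- A coset. -/ def N3046 : Q := sm ge N1571
/-- A coset. -/ def N3047 : Q := sm gg N1571
/-- A coset. -/ def N3048 : Q := sm gc N1572
/-- A coset. -/ def N3049 : Q := sm ge N1572
/-- A coset. -/ def N3050 : Q := sm gf N1572
/-- A coset. -/ def N3051 : Q := sm gg N1572
/-- A coset. -/ def N3052 : Q := sm gd N1573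
/-- A coset. -/ def N3054 : Q := sm gb N1574
/-- A coset. -/ def N3055 : Q := sm ge N1574
/-- A coset. -/ def N3056 : Q := sm gf N1574
/-- A coset. -/ def N3057 : Q := sm gg N1574
/-- A coset. -/ def N3058 : Q := sm gd N1575
/-- A coset. -/ def N3061 : Q := sm gd N1576
/-- A coset. -/ def N3064 : Q := sm gc N1578
/-- A coset. -/ def N3065 : Q := sm gf N1578
/-- A coset. -/ def N3067 : Q := sm gd N1579
/-- A coset. -/ def N3068 : Q := sm gc N1580
/-- A coset. -/ def N3069 : Q := sm ge N1580
/-- A coset. -/ def N3070 : Q := sm gg N1580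
/-- A coset. -/ def N3074 : Q := sm gb N1583
/-- A coset. -/ def N3075 : Q := sm gd N1583
/-- A coset. -/ def N3076 : Q := sm ge N1583
/-- A coset. -/ def N3077 : Q := sm gg N1583
/-- A coset. -/ def N3078 : Q := sm gb N1586
/-- A coset. -/ def N3079 : Q := sm gd N1586
/-- A coset. -/ def N3080 : Q := sm ge N1586
/-- A coset. -/ def N3081 : Q := sm gf N1586
/-- A coset. -/ def N3082 : Q := sm ga N1589
/-- A coset. -/ def N3083 : Q := sm gd N1589
/-- A coset. -/ def N3084 : Q := sm ge N1589
/-- A coset. -/ def N3085 : Q := sm gg N1589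
/-- A coset. -/ def N3086 : Q := sm gc N1590
/-- A coset. -/ def N3087 : Q := sm ge N1590
/-- A coset. -/ def N3088 : Q := sm gf N1590
/-- A coset. -/ def N3089 : Q := sm gg N1590
/-- A coset. -/ def N3090 : Q := sm gd N1591
/-- A coset. -/ def N3091 : Q := sm gg N1591
/-- A coset. -/ def N3092 : Q := sm gd N1592
/-- A coset. -/ def N3093 : Q := sm gf N1592
/-- A coset. -/ def N3094 : Q := sm gd N1593
/-- A coset. -/ def N3095 : Q := sm gc N1594
/-- A coset. -/ def N3096 : Q := sm ge N1594
/-- A coset. -/ def N3097 : Q := sm gf N1594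
/-- A coset. -/ def N3098 : Q := sm gd N1595
/-- A coset. -/ def N3099 : Q := sm gb N1596
/-- A coset. -/ def N3100 : Q := sm gd N1596
/-- A coset. -/ def N3101 : Q := sm ge N1596
/-- A coset. -/ def N3102 : Q := sm gf N1596
/-- A coset. -/ def N3103 : Q := sm gf N1597
/-- A coset. -/ def N3104 : Q := sm gg N1598
/-- A coset. -/ def N3105 : Q := sm ga N1599
/-- A coset. -/ def N3106 : Q := sm gd N1599
/-- A coset. -/ def N3107 : Q := sm ge N1599
/-- A coset. -/ def N3108 : Q := sm gf N1599
/-- A coset. -/ def N3109 : Q := sm gc N1600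
/-- A coset. -/ def N3110 : Q := sm ge N1600
/-- A coset. -/ def N3111 : Q := sm gf N1600
/-- A coset. -/ def N3112 : Q := sm gg N1600
/-- A coset. -/ def N3113 : Q := sm gd N1601
/-- A coset. -/ def N3114 : Q := sm gf N1601
/-- A coset. -/ def N3115 : Q := sm gd N1602
/-- A coset. -/ def N3116 : Q := sm gg N1602
/-- A coset. -/ def N3117 : Q := sm gd N1603
/-- A coset. -/ def N3118 : Q := sm gc N1604
/-- A coset. -/ def N3119 : Q := sm ge N1604
/-- A coset. -/ def N3120 : Q := sm gg N1604
/-- A coset. -/ def N3121 : Q := sm gd N1605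
/-- A coset. -/ def N3122 : Q := sm gd N1606
/-- A coset. -/ def N3123 : Q := sm ge N1606
/-- A coset. -/ def N3124 : Q := sm gg N1607
/-- A coset. -/ def N3125 : Q := sm ga N1609
/-- A coset. -/ def N3126 : Q := sm gd N1609
/-- A coset. -/ def N3127 : Q := sm ge N1609
/-- A coset. -/ def N3128 : Q := sm gg N1609
/-- A coset. -/ def N3129 : Q := sm gc N1610
/-- A coset. -/ def N3130 : Q := sm ge N1610
/-- A coset. -/ def N3131 : Q := sm gf N1610
/-- A coset. -/ def N3132 : Q := sm gg N1610
/-- A coset. -/ def N3133 : Q := sm gd N1611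
/-- A coset. -/ def N3134 : Q := sm gg N1611
/-- A coset. -/ def N3135 : Q := sm gd N1612
/-- A coset. -/ def N3136 : Q := sm gf N1612
/-- A coset. -/ def N3137 : Q := sm ga N1615
/-- A coset. -/ def N3138 : Q := sm gd N1615
/-- A coset. -/ def N3139 : Q := sm ge N1615
/-- A coset. -/ def N3140 : Q := sm gf N1615
/-- A coset. -/ def N3141 : Q := sm gc N1616
/-- A coset. -/ def N3142 : Q := sm ge N1616
/-- A coset. -/ def N3143 : Q := sm gf N1616
/-- A coset. -/ def N3144 : Q := sm gg N1616
/-- A coset. -/ def N3145 : Q := sm gd N1617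
/-- A coset. -/ def N3146 : Q := sm gf N1617
/-- A coset. -/ def N3147 : Q := sm gd N1618
/-- A coset. -/ def N3149 : Q := sm gd N1621
/-- A coset. -/ def N3151 : Q := sm ge N1622
/-- A coset. -/ def N3152 : Q := sm gf N1622
/-- A coset. -/ def N3153 : Q := sm gg N1622
/-- A coset. -/ def N3154 : Q := sm gd N1623
/-- A coset. -/ def N3156 : Q := sm gb N1625
/-- A coset. -/ def N3157 : Q := sm gd N1625
/-- A coset. -/ def N3158 : Q := sm ge N1625
/-- A coset. -/ def N3159 : Q := sm gf N1625
/-- A coset. -/ def N3160 : Q := sm gg N1625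
/-- A coset. -/ def N3161 : Q := sm gd N1626
/-- A coset. -/ def N3162 : Q := sm gf N1626
/-- A coset. -/ def N3163 : Q := sm gg N1626
/-- A coset. -/ def N3164 : Q := sm gg N1627
/-- A coset. -/ def N3165 : Q := sm gd N1628
/-- A coset. -/ def N3167 : Q := sm gc N1629
/-- A coset. -/ def N3168 : Q := sm gf N1629
/-- A coset. -/ def N3169 : Q := sm gg N1629
/-- A coset. -/ def N3170 : Q := sm gc N1630
/-- A coset. -/ def N3171 : Q := sm ge N1630
/-- A coset. -/ def N3172 : Q := sm gf N1630
/-- A coset. -/ def N3173 : Q := sm gb N1631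
/-- A coset. -/ def N3174 : Q := sm gd N1631
/-- A coset. -/ def N3175 : Q := sm ge N1631
/-- A coset. -/ def N3176 : Q := sm gf N1631
/-- A coset. -/ def N3177 : Q := sm ga N1634
/-- A coset. -/ def N3179 : Q := sm ge N1634
/-- A coset. -/ def N3180 : Q := sm gf N1634
/-- A coset. -/ def N3181 : Q := sm gc N1635
/-- A coset. -/ def N3182 : Q := sm ge N1635
/-- A coset. -/ def N3184 : Q := sm gg N1635
/-- A coset. -/ def N3185 : Q := sm gd N1636
/-- A coset. -/ def N3186 : Q := sm gf N1636
/-- A coset. -/ def N3187 : Q := sm gd N1637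
/-- A coset. -/ def N3188 : Q := sm gg N1637
/-- A coset. -/ def N3189 : Q := sm gd N1638
/-- A coset. -/ def N3190 : Q := sm gd N1640
/-- A coset. -/ def N3191 : Q := sm gc N1641
/-- A coset. -/ def N3193 : Q := sm gf N1641
/-- A coset. -/ def N3195 : Q := sm gd N1642
/-- A coset. -/ def N3196 : Q := sm gd N1643
/-- A coset. -/ def N3197 : Q := sm gb N1644
/-- A coset. -/ def N3198 : Q := sm gd N1644
/-- A coset. -/ def N3201 : Q := sm gg N1644
/-- A coset. -/ def N3203 : Q := sm gf N1645
/-- A coset. -/ def N3204 : Q := sm gg N1645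
/-- A coset. -/ def N3205 : Q := sm gd N1646
/-- A coset. -/ def N3207 : Q := sm gf N1647
/-- A coset. -/ def N3211 : Q := sm gc N1649
/-- A coset. -/ def N3212 : Q := sm ge N1649
/-- A coset. -/ def N3213 : Q := sm gg N1649
/-- A coset. -/ def N3214 : Q := sm gb N1650
/-- A coset. -/ def N3215 : Q := sm gd N1650
/-- A coset. -/ def N3216 : Q := sm ge N1650
/-- A coset. -/ def N3217 : Q := sm gg N1650
/-- A coset. -/ def N3218 : Q := sm ga N1653
/-- A coset. -/ def N3219 : Q := sm gd N1653
/-- A coset. -/ def N3220 : Q := sm ge N1653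
/-- A coset. -/ def N3221 : Q := sm gg N1653
/-- A coset. -/ def N3222 : Q := sm gc N1654
/-- A coset. -/ def N3223 : Q := sm ge N1654
/-- A coset. -/ def N3224 : Q := sm gf N1654
/-- A coset. -/ def N3225 : Q := sm gg N1654
/-- A coset. -/ def N3226 : Q := sm gd N1655
/-- A coset. -/ def N3227 : Q := sm gg N1655
/-- A coset. -/ def N3228 : Q := sm gd N1656
/-- A coset. -/ def N3229 : Q := sm gf N1656
/-- A coset. -/ def N3230 : Q := sm gd N1657
/-- A coset. -/ def N3231 : Q := sm gd N1658
/-- A coset. -/ def N3232 : Q := sm gc N1659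
/-- A coset. -/ def N3233 : Q := sm ge N1659
/-- A coset. -/ def N3234 : Q := sm gf N1659
/-- A coset. -/ def N3235 : Q := sm gg N1659
/-- A coset. -/ def N3236 : Q := sm gd N1660
/-- A coset. -/ def N3237 : Q := sm gb N1661
/-- A coset. -/ def N3238 : Q := sm gd N1661
/-- A coset. -/ def N3239 : Q := sm ge N1661
/-- A coset. -/ def N3240 : Q := sm gf N1661
/-- A coset. -/ def N3241 : Q := sm gg N1661
/-- A coset. -/ def N3242 : Q := sm gd N1662
/-- A coset. -/ def N3243 : Q := sm gf N1662
/-- A coset. -/ def N3244 : Q := sm gg N1662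
/-- A coset. -/ def N3245 : Q := sm gg N1663
/-- A coset. -/ def N3246 : Q := sm gd N1664
/-- A coset. -/ def N3247 : Q := sm gf N1664
/-- A coset. -/ def N3248 : Q := sm gc N1665
/-- A coset. -/ def N3249 : Q := sm gf N1665
/-- A coset. -/ def N3250 : Q := sm gg N1665
/-- A coset. -/ def N3251 : Q := sm gd N1666
/-- A coset. -/ def N3252 : Q := sm gc N1667
/-- A coset. -/ def N3253 : Q := sm ge N1667
/-- A coset. -/ def N3254 : Q := sm gf N1667
/-- A coset. -/ def N3255 : Q := sm gd N1668
/-- A coset. -/ def N3256 : Q := sm ga N1669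
/-- A coset. -/ def N3257 : Q := sm ge N1669
/-- A coset. -/ def N3258 : Q := sm gf N1669
/-- A coset. -/ def N3259 : Q := sm gg N1669
/-- A coset. -/ def N3260 : Q := sm gd N1670
/-- A coset. -/ def N3261 : Q := sm gf N1670
/-- A coset. -/ def N3262 : Q := sm gg N1670
/-- A coset. -/ def N3263 : Q := sm gd N1671
/-- A coset. -/ def N3264 : Q := sm gg N1671
/-- A coset. -/ def N3265 : Q := sm gd N1672
/-- A coset. -/ def N3266 : Q := sm gf N1672
/-- A coset. -/ def N3267 : Q := sm gc N1673
/-- A coset. -/ def N3268 : Q := sm gf N1673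
/-- A coset. -/ def N3269 : Q := sm gg N1673
/-- A coset. -/ def N3270 : Q := sm gd N1674
/-- A coset. -/ def N3271 : Q := sm gd N1675
/-- A coset. -/ def N3272 : Q := sm gd N1676
/-- A coset. -/ def N3273 : Q := sm gc N1677
/-- A coset. -/ def N3274 : Q := sm ge N1677
/-- A coset. -/ def N3275 : Q := sm gf N1677
/-- A coset. -/ def N3276 : Q := sm gd N1678
/-- A coset. -/ def N3277 : Q := sm gb N1679
/-- A coset. -/ def N3278 : Q := sm gd N1679
/-- A coset. -/ def N3279 : Q := sm gf N1679
/-- A coset. -/ def N3280 : Q := sm gg N1679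
/-- A coset. -/ def N3281 : Q := sm gg N1680
/-- A coset. -/ def N3282 : Q := sm gd N1681
/-- A coset. -/ def N3283 : Q := sm gf N1681
/-- A coset. -/ def N3284 : Q := sm gc N1682
/-- A coset. -/ def N3285 : Q := sm ge N1682
/-- A coset. -/ def N3287 : Q := sm gb N1683
/-- A coset. -/ def N3288 : Q := sm gd N1683
/-- A coset. -/ def N3289 : Q := sm ge N1683
/-- A coset. -/ def N3290 : Q := sm gf N1683
/-- A coset. -/ def N3291 : Q := sm gf N1684
/-- A coset. -/ def N3292 : Q := sm gd N1685
/-- A coset. -/ def N3293 : Q := sm gg N1685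
/-- A coset. -/ def N3294 : Q := sm gc N1686
/-- A coset. -/ def N3295 : Q := sm ge N1686
/-- A coset. -/ def N3296 : Q := sm gg N1686
/-- A coset. -/ def N3297 : Q := sm gb N1687
/-- A coset. -/ def N3300 : Q := sm gg N1688
/-- A coset. -/ def N3301 : Q := sm gc N1689
/-- A coset. -/ def N3302 : Q := sm ge N1689
/-- A coset. -/ def N3303 : Q := sm gf N1689
/-- A coset. -/ def N3304 : Q := sm gg N1689
/-- A coset. -/ def N3305 : Q := sm gb N1690
/-- A coset. -/ def N3306 : Q := sm gd N1690
/-- A coset. -/ def N3308 : Q := sm gg N1690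
/-- A coset. -/ def N3310 : Q := sm ge N1694
/-- A coset. -/ def N3311 : Q := sm gf N1694
/-- A coset. -/ def N3312 : Q := sm gb N1695
/-- A coset. -/ def N3313 : Q := sm ge N1695
/-- A coset. -/ def N3314 : Q := sm gf N1695
/-- A coset. -/ def N3315 : Q := sm gg N1695
/-- A coset. -/ def N3317 : Q := sm gf N1696
/-- A coset. -/ def N3318 : Q := sm gg N1696
/-- A coset. -/ def N3319 : Q := sm gd N1697
/-- A coset. -/ def N3320 : Q := sm gg N1697
/-- A coset. -/ def N3321 : Q := sm gc N1699
/-- A coset. -/ def N3322 : Q := sm gf N1699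
/-- A coset. -/ def N3323 : Q := sm gg N1699
/-- A coset. -/ def N3324 : Q := sm gd N1700
/-- A coset. -/ def N3325 : Q := sm gc N1701
/-- A coset. -/ def N3326 : Q := sm ge N1701
/-- A coset. -/ def N3327 : Q := sm gg N1701
/-- A coset. -/ def N3329 : Q := sm gg N1702
/-- A coset. -/ def N3330 : Q := sm gc N1703
/-- A coset. -/ def N3331 : Q := sm ge N1703
/-- A coset. -/ def N3332 : Q := sm gf N1703
/-- A coset. -/ def N3333 : Q := sm gg N1703
/-- A coset. -/ def N3334 : Q := sm gd N1704
/-- A coset. -/ def N3335 : Q := sm gb N1705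
/-- A coset. -/ def N3336 : Q := sm gd N1705
/-- A coset. -/ def N3337 : Q := sm ge N1705
/-- A coset. -/ def N3338 : Q := sm gf N1705
/-- A coset. -/ def N3339 : Q := sm gg N1705
/-- A coset. -/ def N3340 : Q := sm gd N1706
/-- A coset. -/ def N3341 : Q := sm gf N1706
/-- A coset. -/ def N3346 : Q := sm gc N1709
/-- A coset. -/ def N3349 : Q := sm gd N1710
/-- A coset. -/ def N3350 : Q := sm gc N1711
/-- A coset. -/ def N3354 : Q := sm ga N1713
/-- A coset. -/ def N3355 : Q := sm ge N1713
/-- A coset. -/ def N3358 : Q := sm gd N1714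
/-- A coset. -/ def N3359 : Q := sm gf N1714
/-- A coset. -/ def N3360 : Q := sm gg N1714
/-- A coset. -/ def N3361 : Q := sm gd N1715
/-- A coset. -/ def N3362 : Q := sm gg N1715
/-- A coset. -/ def N3364 : Q := sm gf N1716
/-- A coset. -/ def N3365 : Q := sm gc N1717
/-- A coset. -/ def N3366 : Q := sm gf N1717
/-- A coset. -/ def N3368 : Q := sm gd N1718
/-- A coset. -/ def N3369 : Q := sm gd N1719
/-- A coset. -/ def N3370 : Q := sm gc N1720
/-- A coset. -/ def N3371 : Q := sm ge N1720
/-- A coset. -/ def N3372 : Q := sm gg N1720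
/-- A coset. -/ def N3373 : Q := sm gd N1721
/-- A coset. -/ def N3374 : Q := sm gd N1722
/-- A coset. -/ def N3376 : Q := sm gd N1723
/-- A coset. -/ def N3377 : Q := sm gf N1723
/-- A coset. -/ def N3378 : Q := sm gg N1723
/-- A coset. -/ def N3379 : Q := sm gd N1724
/-- A coset. -/ def N3381 : Q := sm gf N1725
/-- A coset. -/ def N3382 : Q := sm gc N1726
/-- A coset. -/ def N3383 : Q := sm ge N1726
/-- A coset. -/ def N3385 : Q := sm gb N1727
/-- A coset. -/ def N3386 : Q := sm gd N1727
/-- A coset. -/ def N3388 : Q := sm gg N1727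
/-- A coset. -/ def N3389 : Q := sm gg N1728
/-- A coset. -/ def N3390 : Q := sm gd N1729
/-- A coset. -/ def N3391 : Q := sm gf N1729
/-- A coset. -/ def N3394 : Q := sm gf N1730
/-- A coset. -/ def N3400 : Q := sm gd N1734
/-- A coset. -/ def N3401 : Q := sm gc N1735
/-- A coset. -/ def N3405 : Q := sm gd N1736
/-- A coset. -/ def N3409 : Q := sm gg N1739
/-- A coset. -/ def N3410 : Q := sm ge N1740
/-- A coset. -/ def N3411 : Q := sm gg N1740
/-- A coset. -/ def N3412 : Q := sm ge N1741
/-- A coset. -/ def N3413 : Q := sm gg N1741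
/-- A coset. -/ def N3414 : Q := sm gd N1742
/-- A coset. -/ def N3415 : Q := sm gf N1742
/-- A coset. -/ def N3416 : Q := sm gg N1742
/-- A coset. -/ def N3417 : Q := sm gd N1744
/-- A coset. -/ def N3418 : Q := sm gf N1744
/-- A coset. -/ def N3419 : Q := sm gf N1745
/-- A coset. -/ def N3420 : Q := sm gd N1746
/-- A coset. -/ def N3421 : Q := sm gc N1747
/-- A coset. -/ def N3422 : Q := sm ge N1747
/-- A coset. -/ def N3423 : Q := sm gf N1747
/-- A coset. -/ def N3424 : Q := sm gc N1748
/-- A coset. -/ def N3425 : Q := sm gg N1749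
/-- A coset. -/ def N3426 : Q := sm gd N1751
/-- A coset. -/ def N3428 : Q := sm gf N1752
/-- A coset. -/ def N3429 : Q := sm gc N1753
/-- A coset. -/ def N3433 : Q := sm gd N1755
/-- A coset. -/ def N3434 : Q := sm gd N1756
/-- A coset. -/ def N3435 : Q := sm gg N1756
/-- A coset. -/ def N3437 : Q := sm gg N1757
/-- A coset. -/ def N3438 : Q := sm gg N1758
/-- A coset. -/ def N3444 : Q := sm gd N1762
/-- A coset. -/ def N3445 : Q := sm gd N1763
/-- A coset. -/ def N3446 : Q := sm gc N1764
/-- A coset. -/ def N3447 : Q := sm ge N1764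
/-- A coset. -/ def N3448 : Q := sm gf N1764
/-- A coset. -/ def N3450 : Q := sm gc N1766
/-- A coset. -/ def N3451 : Q := sm gd N1767
/-- A coset. -/ def N3455 : Q := sm gd N1769
/-- A coset. -/ def N3459 : Q := sm gd N1776
/-- A coset. -/ def N3460 : Q := sm gc N1777
/-- A coset. -/ def N3461 : Q := sm ge N1777
/-- A coset. -/ def N3462 : Q := sm gg N1777
/-- A coset. -/ def N3465 : Q := sm gf N1779
/-- A coset. -/ def N3466 : Q := sm gg N1779
/-- A coset. -/ def N3467 : Q := sm gd N1780
/-- A coset. -/ def N3468 : Q := sm gb N1781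
/-- A coset. -/ def N3470 : Q := sm gf N1781
/-- A coset. -/ def N3472 : Q := sm gg N1782
/-- A coset. -/ def N3474 : Q := sm gf N1783
/-- A coset. -/ def N3475 : Q := sm gc N1784
/-- A coset. -/ def N3477 : Q := sm ge N1785
/-- A coset. -/ def N3478 : Q := sm gf N1785
/-- A coset. -/ def N3479 : Q := sm gg N1785
/-- A coset. -/ def N3480 : Q := sm gd N1786
/-- A coset. -/ def N3482 : Q := sm gg N1786
/-- A coset. -/ def N3484 : Q := sm gg N1787
/-- A coset. -/ def N3485 : Q := sm gd N1788
/-- A coset. -/ def N3486 : Q := sm gf N1788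
/-- A coset. -/ def N3487 : Q := sm gd N1790
/-- A coset. -/ def N3489 : Q := sm gb N1794
/-- A coset. -/ def N3490 : Q := sm ga N1796
/-- A coset. -/ def N3491 : Q := sm gd N1796
/-- A coset. -/ def N3492 : Q := sm ge N1796
/-- A coset. -/ def N3493 : Q := sm gf N1796
/-- A coset. -/ def N3494 : Q := sm ge N1797
/-- A coset. -/ def N3495 : Q := sm gf N1797
/-- A coset. -/ def N3496 : Q := sm gd N1800
/-- A coset. -/ def N3497 : Q := sm gf N1800
/-- A coset. -/ def N3498 : Q := sm gc N1801
/-- A coset. -/ def N3499 : Q := sm ge N1801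
/-- A coset. -/ def N3500 : Q := sm gf N1801
/-- A coset. -/ def N3501 : Q := sm gd N1802
/-- A coset. -/ def N3503 : Q := sm gd N1803
/-- A coset. -/ def N3504 : Q := sm gd N1805
/-- A coset. -/ def N3506 : Q := sm gg N1808
/-- A coset. -/ def N3507 : Q := sm gd N1809
/-- A coset. -/ def N3508 : Q := sm gc N1810
/-- A coset. -/ def N3509 : Q := sm ge N1810
/-- A coset. -/ def N3510 : Q := sm gc N1812
/-- A coset. -/ def N3511 : Q := sm ge N1812
/-- A coset. -/ def N3512 : Q := sm gf N1812
/-- A coset. -/ def N3513 : Q := sm gg N1812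
/-- A coset. -/ def N3514 : Q := sm gd N1813
/-- A coset. -/ def N3515 : Q := sm gb N1814
/-- A coset. -/ def N3520 : Q := sm gd N1815
/-- A coset. -/ def N3528 : Q := sm gg N1819
/-- A coset. -/ def N3529 : Q := sm ga N1820
/-- A coset. -/ def N3530 : Q := sm ge N1820
/-- A coset. -/ def N3533 : Q := sm gd N1821
/-- A coset. -/ def N3534 : Q := sm gf N1821
/-- A coset. -/ def N3536 : Q := sm gd N1823
/-- A coset. -/ def N3537 : Q := sm gf N1823
/-- A coset. -/ def N3538 : Q := sm gd N1825
/-- A coset. -/ def N3539 : Q := sm gd N1826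
/-- A coset. -/ def N3540 : Q := sm gd N1828
/-- A coset. -/ def N3543 : Q := sm gg N1831
/-- A coset. -/ def N3544 : Q := sm ga N1833
/-- A coset. -/ def N3545 : Q := sm gd N1833
/-- A coset. -/ def N3546 : Q := sm ge N1833
/-- A coset. -/ def N3547 : Q := sm gg N1833
/-- A coset. -/ def N3548 : Q := sm gc N1834
/-- A coset. -/ def N3549 : Q := sm ge N1834
/-- A coset. -/ def N3550 : Q := sm gf N1834
/-- A coset. -/ def N3551 : Q := sm gd N1837
/-- A coset. -/ def N3552 : Q := sm gc N1838
/-- A coset. -/ def N3553 : Q := sm ge N1838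
/-- A coset. -/ def N3554 : Q := sm gf N1838
/-- A coset. -/ def N3555 : Q := sm gg N1838
/-- A coset. -/ def N3556 : Q := sm gd N1839
/-- A coset. -/ def N3557 : Q := sm gg N1839
/-- A coset. -/ def N3558 : Q := sm gb N1841
/-- A coset. -/ def N3559 : Q := sm ge N1841
/-- A coset. -/ def N3560 : Q := sm gf N1841
/-- A coset. -/ def N3561 : Q := sm gg N1841
/-- A coset. -/ def N3562 : Q := sm gd N1842
/-- A coset. -/ def N3563 : Q := sm gf N1842
/-- A coset. -/ def N3564 : Q := sm gg N1842
/-- A coset. -/ def N3565 : Q := sm gg N1843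
/-- A coset. -/ def N3566 : Q := sm gf N1844
/-- A coset. -/ def N3567 : Q := sm gc N1845
/-- A coset. -/ def N3569 : Q := sm gd N1846
/-- A coset. -/ def N3570 : Q := sm gc N1847
/-- A coset. -/ def N3571 : Q := sm gc N1848
/-- A coset. -/ def N3572 : Q := sm gb N1850
/-- A coset. -/ def N3574 : Q := sm gd N1853
/-- A coset. -/ def N3575 : Q := sm gf N1853
/-- A coset. -/ def N3576 : Q := sm ge N1854
/-- A coset. -/ def N3578 : Q := sm gd N1855
/-- A coset. -/ def N3579 : Q := sm gd N1856
/-- A coset. -/ def N3581 : Q := sm ge N1859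
/-- A coset. -/ def N3582 : Q := sm gg N1859
/-- A coset. -/ def N3584 : Q := sm gd N1862
/-- A coset. -/ def N3585 : Q := sm gc N1864
/-- A coset. -/ def N3586 : Q := sm gf N1864
/-- A coset. -/ def N3587 : Q := sm gg N1864
/-- A coset. -/ def N3588 : Q := sm gd N1866
/-- A coset. -/ def N3589 : Q := sm gg N1866
/-- A coset. -/ def N3590 : Q := sm gc N1867
/-- A coset. -/ def N3591 : Q := sm ge N1867
/-- A coset. -/ def N3592 : Q := sm gg N1867
/-- A coset. -/ def N3593 : Q := sm gd N1868
/-- A coset. -/ def N3594 : Q := sm gd N1869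
/-- A coset. -/ def N3595 : Q := sm gb N1872
/-- A coset. -/ def N3596 : Q := sm gd N1872
/-- A coset. -/ def N3597 : Q := sm ge N1872
/-- A coset. -/ def N3598 : Q := sm gg N1872
/-- A coset. -/ def N3600 : Q := sm gd N1874
/-- A coset. -/ def N3602 : Q := sm gc N1875
/-- A coset. -/ def N3604 : Q := sm gf N1875
/-- A coset. -/ def N3605 : Q := sm ga N1876
/-- A coset. -/ def N3606 : Q := sm ge N1876
/-- A coset. -/ def N3607 : Q := sm gg N1876
/-- A coset. -/ def N3608 : Q := sm gg N1877
/-- A coset. -/ def N3609 : Q := sm gd N1878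
/-- A coset. -/ def N3610 : Q := sm gf N1878
/-- A coset. -/ def N3611 : Q := sm gg N1879
/-- A coset. -/ def N3612 : Q := sm gd N1880
/-- A coset. -/ def N3613 : Q := sm gc N1881
/-- A coset. -/ def N3614 : Q := sm ge N1881
/-- A coset. -/ def N3615 : Q := sm gf N1881
/-- A coset. -/ def N3618 : Q := sm gd N1885
/-- A coset. -/ def N3620 : Q := sm gc N1886
/-- A coset. -/ def N3621 : Q := sm ge N1886
/-- A coset. -/ def N3622 : Q := sm gb N1887
/-- A coset. -/ def N3623 : Q := sm ge N1887
/-- A coset. -/ def N3624 : Q := sm gf N1888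
/-- A coset. -/ def N3625 : Q := sm gd N1889
/-- A coset. -/ def N3627 : Q := sm gb N1891
/-- A coset. -/ def N3628 : Q := sm gd N1891
/-- A coset. -/ def N3629 : Q := sm gf N1891
/-- A coset. -/ def N3630 : Q := sm gb N1893
/-- A coset. -/ def N3631 : Q := sm ge N1893
/-- A coset. -/ def N3632 : Q := sm gb N1895
/-- A coset. -/ def N3633 : Q := sm gd N1895
/-- A coset. -/ def N3634 : Q := sm ge N1895
/-- A coset. -/ def N3635 : Q := sm gf N1895
/-- A coset. -/ def N3637 : Q := sm gf N1896
/-- A coset. -/ def N3638 : Q := sm gg N1896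
/-- A coset. -/ def N3640 : Q := sm gg N1897
/-- A coset. -/ def N3641 : Q := sm gf N1898
/-- A coset. -/ def N3642 : Q := sm gc N1899
/-- A coset. -/ def N3643 : Q := sm ge N1899
/-- A coset. -/ def N3644 : Q := sm gg N1899
/-- A coset. -/ def N3645 : Q := sm ga N1900
/-- A coset. -/ def N3646 : Q := sm ge N1900
/-- A coset. -/ def N3647 : Q := sm gf N1900
/-- A coset. -/ def N3648 : Q := sm gg N1900
/-- A coset. -/ def N3649 : Q := sm gg N1901
/-- A coset. -/ def N3650 : Q := sm gd N1902
/-- A coset. -/ def N3651 : Q := sm gd N1903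
/-- A coset. -/ def N3653 : Q := sm gg N1904
/-- A coset. -/ def N3655 : Q := sm gd N1906
/-- A coset. -/ def N3656 : Q := sm gd N1908
/-- A coset. -/ def N3658 : Q := sm gb N1910
/-- A coset. -/ def N3659 : Q := sm gf N1910
/-- A coset. -/ def N3660 : Q := sm gg N1910
/-- A coset. -/ def N3661 : Q := sm gg N1911
/-- A coset. -/ def N3662 : Q := sm gf N1912
/-- A coset. -/ def N3663 : Q := sm gb N1913
/-- A coset. -/ def N3664 : Q := sm gg N1914
/-- A coset. -/ def N3666 : Q := sm gd N1916
/-- A coset. -/ def N3667 : Q := sm gb N1918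
/-- A coset. -/ def N3668 : Q := sm gd N1918
/-- A coset. -/ def N3672 : Q := sm gg N1919
/-- A coset. -/ def N3673 : Q := sm gg N1920
/-- A coset. -/ def N3674 : Q := sm gd N1921
/-- A coset. -/ def N3676 : Q := sm gc N1922
/-- A coset. -/ def N3677 : Q := sm ge N1922
/-- A coset. -/ def N3679 : Q := sm ge N1923
/-- A coset. -/ def N3680 : Q := sm gf N1923
/-- A coset. -/ def N3681 : Q := sm gg N1923
/-- A coset. -/ def N3682 : Q := sm gd N1924
/-- A coset. -/ def N3689 : Q := sm gc N1927
/-- A coset. -/ def N3690 : Q := sm gd N1929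
/-- A coset. -/ def N3691 : Q := sm gc N1931
/-- A coset. -/ def N3692 : Q := sm ge N1931
/-- A coset. -/ def N3695 : Q := sm gb N1933
/-- A coset. -/ def N3696 : Q := sm gd N1933
/-- A coset. -/ def N3697 : Q := sm gg N1933
/-- A coset. -/ def N3698 : Q := sm gd N1934
/-- A coset. -/ def N3699 : Q := sm gc N1935
/-- A coset. -/ def N3700 : Q := sm ge N1935
/-- A coset. -/ def N3702 : Q := sm gb N1936
/-- A coset. -/ def N3704 : Q := sm ge N1936
/-- A coset. -/ def N3705 : Q := sm gf N1936
/-- A coset. -/ def N3708 : Q := sm gc N1939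
/-- A coset. -/ def N3709 : Q := sm gc N1942
/-- A coset. -/ def N3711 : Q := sm gb N1944
/-- A coset. -/ def N3713 : Q := sm ge N1944
/-- A coset. -/ def N3717 : Q := sm gg N1948
/-- A coset. -/ def N3718 : Q := sm gd N1949
/-- A coset. -/ def N3719 : Q := sm ge N1950
/-- A coset. -/ def N3720 : Q := sm gb N1951
/-- A coset. -/ def N3721 : Q := sm gd N1951
/-- A coset. -/ def N3722 : Q := sm ge N1951
/-- A coset. -/ def N3724 : Q := sm gf N1952
/-- A coset. -/ def N3728 : Q := sm gf N1954
/-- A coset. -/ def N3729 : Q := sm ge N1955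
/-- A coset. -/ def N3730 : Q := sm gf N1955
/-- A coset. -/ def N3731 : Q := sm gg N1955
/-- A coset. -/ def N3732 : Q := sm gd N1956
/-- A coset. -/ def N3734 : Q := sm gd N1957
/-- A coset. -/ def N3735 : Q := sm gd N1959
/-- A coset. -/ def N3736 : Q := sm ga N1960
/-- A coset. -/ def N3739 : Q := sm gc N1961
/-- A coset. -/ def N3740 : Q := sm ge N1961
/-- A coset. -/ def N3741 : Q := sm gf N1961
/-- A coset. -/ def N3742 : Q := sm gg N1961
/-- A coset. -/ def N3743 : Q := sm gd N1962
/-- A coset. -/ def N3744 : Q := sm ga N1964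
/-- A coset. -/ def N3745 : Q := sm gd N1964
/-- A coset. -/ def N3746 : Q := sm ge N1964
/-- A coset. -/ def N3747 : Q := sm gg N1964
/-- A coset. -/ def N3748 : Q := sm gc N1965
/-- A coset. -/ def N3749 : Q := sm ge N1965
/-- A coset. -/ def N3750 : Q := sm gf N1965
/-- A coset. -/ def N3751 : Q := sm gg N1965
/-- A coset. -/ def N3752 : Q := sm gd N1967
/-- A coset. -/ def N3753 : Q := sm gc N1969
/-- A coset. -/ def N3754 : Q := sm ge N1969
/-- A coset. -/ def N3756 : Q := sm gb N1970
/-- A coset. -/ def N3757 : Q := sm gd N1970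
/-- A coset. -/ def N3758 : Q := sm ge N1970
/-- A coset. -/ def N3759 : Q := sm gg N1970
/-- A coset. -/ def N3764 : Q := sm gf N1973
/-- A coset. -/ def N3765 : Q := sm gd N1974
/-- A coset. -/ def N3766 : Q := sm gf N1974
/-- A coset. -/ def N3767 : Q := sm gd N1975
/-- A coset. -/ def N3768 : Q := sm gg N1975
/-- A coset. -/ def N3770 : Q := sm gd N1980
/-- A coset. -/ def N3772 : Q := sm gb N1982
/-- A coset. -/ def N3773 : Q := sm gd N1982
/-- A coset. -/ def N3774 : Q := sm ge N1982
/-- A coset. -/ def N3777 : Q := sm gf N1983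
/-- A coset. -/ def N3778 : Q := sm gg N1983
/-- A coset. -/ def N3779 : Q := sm gd N1984
/-- A coset. -/ def N3781 : Q := sm gf N1985
/-- A coset. -/ def N3782 : Q := sm gc N1986
/-- A coset. -/ def N3783 : Q := sm ge N1986
/-- A coset. -/ def N3784 : Q := sm ga N1987
/-- A coset. -/ def N3785 : Q := sm gd N1987
/-- A coset. -/ def N3786 : Q := sm ge N1987
/-- A coset. -/ def N3787 : Q := sm gf N1987
/-- A coset. -/ def N3788 : Q := sm gg N1987
/-- A coset. -/ def N3789 : Q := sm gc N1988
/-- A coset. -/ def N3790 : Q := sm ge N1988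
/-- A coset. -/ def N3791 : Q := sm gf N1988
/-- A coset. -/ def N3792 : Q := sm gg N1988
/-- A coset. -/ def N3793 : Q := sm gd N1989
/-- A coset. -/ def N3797 : Q := sm gg N1990
/-- A coset. -/ def N3798 : Q := sm gd N1991
/-- A coset. -/ def N3800 : Q := sm gc N1992
/-- A coset. -/ def N3805 : Q := sm gc N1995
/-- A coset. -/ def N3806 : Q := sm ge N1995
/-- A coset. -/ def N3807 : Q := sm gg N1995
/-- A coset. -/ def N3808 : Q := sm gd N1996
/-- A coset. -/ def N3809 : Q := sm gb N1998
/-- A coset. -/ def N3810 : Q := sm gd N1998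
/-- A coset. -/ def N3811 : Q := sm gf N1998
/-- A coset. -/ def N3813 : Q := sm gd N1999
/-- A coset. -/ def N3818 : Q := sm gg N2001
/-- A coset. -/ def N3819 : Q := sm gb N2002
/-- A coset. -/ def N3824 : Q := sm gd N2005
/-- A coset. -/ def N3825 : Q := sm gf N2005
/-- A coset. -/ def N3826 : Q := sm gg N2005
/-- A coset. -/ def N3830 : Q := sm gf N2007
/-- A coset. -/ def N3831 : Q := sm gf N2008
/-- A coset. -/ def N3832 : Q := sm gd N2009
/-- A coset. -/ def N3835 : Q := sm gc N2013
/-- A coset. -/ def N3836 : Q := sm ge N2013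
/-- A coset. -/ def N3837 : Q := sm gf N2013
/-- A coset. -/ def N3839 : Q := sm gd N2016
/-- A coset. -/ def N3840 : Q := sm gd N2017
/-- A coset. -/ def N3841 : Q := sm gc N2018
/-- A coset. -/ def N3845 : Q := sm gb N2020
/-- A coset. -/ def N3846 : Q := sm gg N2020
/-- A coset. -/ def N3847 : Q := sm gd N2022
/-- A coset. -/ def N3848 : Q := sm gc N2023
/-- A coset. -/ def N3849 : Q := sm gf N2023
/-- A coset. -/ def N3850 : Q := sm gd N2024
/-- A coset. -/ def N3851 : Q := sm gf N2024
/-- A coset. -/ def N3852 : Q := sm gg N2024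
/-- A coset. -/ def N3854 : Q := sm gd N2026
/-- A coset. -/ def N3857 : Q := sm gb N2031
/-- A coset. -/ def N3858 : Q := sm gd N2031
/-- A coset. -/ def N3860 : Q := sm gd N2034
/-- A coset. -/ def N3861 : Q := sm ge N2034
/-- A coset. -/ def N3862 : Q := sm gg N2034
/-- A coset. -/ def N3863 : Q := sm gc N2035
/-- A coset. -/ def N3864 : Q := sm ge N2035
/-- A coset. -/ def N3865 : Q := sm gf N2035
/-- A coset. -/ def N3868 : Q := sm gd N2040
/-- A coset. -/ def N3871 : Q := sm gc N2041
/-- A coset. -/ def N3876 : Q := sm gf N2045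
/-- A coset. -/ def N3878 : Q := sm gf N2046
/-- A coset. -/ def N3879 : Q := sm gb N2051
/-- A coset. -/ def N3880 : Q := sm gd N2051
/-- A coset. -/ def N3881 : Q := sm ge N2051
/-- A coset. -/ def N3882 : Q := sm gf N2051
/-- A coset. -/ def N3884 : Q := sm gg N2053
/-- A coset. -/ def N3886 : Q := sm ge N2054
/-- A coset. -/ def N3888 : Q := sm gd N2055
/-- A coset. -/ def N3891 : Q := sm ga N2060
/-- A coset. -/ def N3892 : Q := sm gd N2060
/-- A coset. -/ def N3893 : Q := sm gg N2060
/-- A coset. -/ def N3894 : Q := sm gc N2061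
/-- A coset. -/ def N3895 : Q := sm ge N2061
/-- A coset. -/ def N3896 : Q := sm gf N2061
/-- A coset. -/ def N3897 : Q := sm gg N2061
/-- A coset. -/ def N3898 : Q := sm gd N2062
/-- A coset. -/ def N3900 : Q := sm gd N2063
/-- A coset. -/ def N3901 : Q := sm gd N2064
/-- A coset. -/ def N3910 : Q := sm gg N2069
/-- A coset. -/ def N3911 : Q := sm gd N2070
/-- A coset. -/ def N3912 : Q := sm gc N2072
/-- A coset. -/ def N3914 : Q := sm gc N2073
/-- A coset. -/ def N3915 : Q := sm ge N2073
/-- A coset. -/ def N3916 : Q := sm gf N2073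
/-- A coset. -/ def N3917 : Q := sm gb N2074
/-- A coset. -/ def N3927 : Q := sm gf N2082
/-- A coset. -/ def N3928 : Q := sm gg N2082
/-- A coset. -/ def N3931 : Q := sm gf N2084
/-- A coset. -/ def N3932 : Q := sm gc N2085
/-- A coset. -/ def N3952 : Q := sm gc N2093
/-- A coset. -/ def N3953 : Q := sm ge N2093
/-- A coset. -/ def N3956 : Q := sm gd N2095
/-- A coset. -/ def N3957 : Q := sm gb N2096
/-- A coset. -/ def N3959 : Q := sm ge N2096
/-- A coset. -/ def N3960 : Q := sm gg N2096
/-- A coset. -/ def N3961 : Q := sm gg N2097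
/-- A coset. -/ def N3964 : Q := sm gd N2100
/-- A coset. -/ def N3965 : Q := sm gf N2100
/-- A coset. -/ def N3966 : Q := sm gg N2100
/-- A coset. -/ def N3967 : Q := sm gd N2101
/-- A coset. -/ def N3968 : Q := sm gg N2101
/-- A coset. -/ def N3970 : Q := sm gf N2102
/-- A coset. -/ def N3971 : Q := sm gc N2106
/-- A coset. -/ def N3972 : Q := sm gg N2106
/-- A coset. -/ def N3974 : Q := sm ge N2108
/-- A coset. -/ def N3975 : Q := sm gf N2108
/-- A coset. -/ def N3976 : Q := sm gf N2110
/-- A coset. -/ def N3977 : Q := sm gg N2110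
/-- A coset. -/ def N3978 : Q := sm gd N2111
/-- A coset. -/ def N3979 : Q := sm gc N2113
/-- A coset. -/ def N3980 : Q := sm ge N2113
/-- A coset. -/ def N3981 : Q := sm gg N2113
/-- A coset. -/ def N3982 : Q := sm gb N2114
/-- A coset. -/ def N3983 : Q := sm gd N2114
/-- A coset. -/ def N3984 : Q := sm gd N2119
/-- A coset. -/ def N3988 : Q := sm gf N2122
/-- A coset. -/ def N3989 : Q := sm ge N2123
/-- A coset. -/ def N3992 : Q := sm gb N2126
/-- A coset. -/ def N3993 : Q := sm ge N2126
/-- A coset. -/ def N3994 : Q := sm gg N2126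
/-- A coset. -/ def N3995 : Q := sm gg N2127
/-- A coset. -/ def N3996 : Q := sm gf N2128
/-- A coset. -/ def N3997 : Q := sm ga N2129
/-- A coset. -/ def N3999 : Q := sm ge N2129
/-- A coset. -/ def N4001 : Q := sm gd N2132
/-- A coset. -/ def N4002 : Q := sm gb N2133
/-- A coset. -/ def N4009 : Q := sm gg N2135
/-- A coset. -/ def N4011 : Q := sm gc N2137
/-- A coset. -/ def N4012 : Q := sm ga N2138
/-- A coset. -/ def N4014 : Q := sm ge N2138
/-- A coset. -/ def N4015 : Q := sm gf N2138
/-- A coset. -/ def N4019 : Q := sm gg N2139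
/-- A coset. -/ def N4021 : Q := sm gf N2140
/-- A coset. -/ def N4022 : Q := sm gg N2140
/-- A coset. -/ def N4023 : Q := sm gd N2141
/-- A coset. -/ def N4025 : Q := sm gd N2142
/-- A coset. -/ def N4028 : Q := sm gd N2144
/-- A coset. -/ def N4029 : Q := sm gc N2145
/-- A coset. -/ def N4030 : Q := sm gd N2146
/-- A coset. -/ def N4031 : Q := sm gd N2147
/-- A coset. -/ def N4032 : Q := sm gb N2148
/-- A coset. -/ def N4033 : Q := sm gd N2148
/-- A coset. -/ def N4034 : Q := sm ge N2148
/-- A coset. -/ def N4035 : Q := sm gg N2148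
/-- A coset. -/ def N4036 : Q := sm gf N2151
/-- A coset. -/ def N4038 : Q := sm gf N2152
/-- A coset. -/ def N4041 : Q := sm gf N2154
/-- A coset. -/ def N4042 : Q := sm gd N2155
/-- A coset. -/ def N4043 : Q := sm gc N2156
/-- A coset. -/ def N4044 : Q := sm ge N2156
/-- A coset. -/ def N4045 : Q := sm gg N2156
/-- A coset. -/ def N4046 : Q := sm gf N2158
/-- A coset. -/ def N4047 : Q := sm gd N2159
/-- A coset. -/ def N4048 : Q := sm gd N2160
/-- A coset. -/ def N4049 : Q := sm gc N2161
/-- A coset. -/ def N4051 : Q := sm gc N2162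
/-- A coset. -/ def N4052 : Q := sm gf N2162
/-- A coset. -/ def N4053 : Q := sm gc N2163
/-- A coset. -/ def N4054 : Q := sm ge N2163
/-- A coset. -/ def N4055 : Q := sm gf N2163
/-- A coset. -/ def N4056 : Q := sm ge N2164
/-- A coset. -/ def N4057 : Q := sm gg N2164
/-- A coset. -/ def N4059 : Q := sm gf N2165
/-- A coset. -/ def N4062 : Q := sm gd N2167
/-- A coset. -/ def N4063 : Q := sm gg N2167
/-- A coset. -/ def N4064 : Q := sm gd N2170
/-- A coset. -/ def N4065 : Q := sm gd N2173
/-- A coset. -/ def N4066 : Q := sm gc N2174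
/-- A coset. -/ def N4074 : Q := sm gd N2177
/-- A coset. -/ def N4078 : Q := sm gc N2180
/-- A coset. -/ def N4079 : Q := sm ge N2180
/-- A coset. -/ def N4082 : Q := sm gd N2181
/-- A coset. -/ def N4085 : Q := sm gb N2183
/-- A coset. -/ def N4086 : Q := sm ge N2183
/-- A coset. -/ def N4087 : Q := sm gf N2183
/-- A coset. -/ def N4088 : Q := sm gg N2183
/-- A coset. -/ def N4089 : Q := sm gd N2184
/-- A coset. -/ def N4092 : Q := sm gg N2185
/-- A coset. -/ def N4093 : Q := sm gd N2186
/-- A coset. -/ def N4095 : Q := sm gc N2187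
/-- A coset. -/ def N4096 : Q := sm gf N2187
/-- A coset. -/ def N4097 : Q := sm gg N2187
/-- A coset. -/ def N4099 : Q := sm gc N2189
/-- A coset. -/ def N4101 : Q := sm gf N2189
/-- A coset. -/ def N4103 : Q := sm gc N2191
/-- A coset. -/ def N4104 : Q := sm gc N2192
/-- A coset. -/ def N4112 : Q := sm gb N2199
/-- A coset. -/ def N4114 : Q := sm gd N2200
/-- A coset. -/ def N4115 : Q := sm gg N2201
/-- A coset. -/ def N4117 : Q := sm ge N2203
/-- A coset. -/ def N4118 : Q := sm gf N2204
/-- A coset. -/ def N4120 : Q := sm gb N2207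
/-- A coset. -/ def N4121 : Q := sm gc N2208
/-- A coset. -/ def N4124 : Q := sm gd N2209
/-- A coset. -/ def N4125 : Q := sm ge N2209
/-- A coset. -/ def N4126 : Q := sm gf N2209
/-- A coset. -/ def N4127 : Q := sm gg N2209
/-- A coset. -/ def N4130 : Q := sm gg N2211
/-- A coset. -/ def N4132 : Q := sm gc N2213
/-- A coset. -/ def N4133 : Q := sm ge N2213
/-- A coset. -/ def N4135 : Q := sm gd N2215
/-- A coset. -/ def N4136 : Q := sm gb N2220
/-- A coset. -/ def N4147 : Q := sm gc N2227
/-- A coset. -/ def N4161 : Q := sm gg N2230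
/-- A coset. -/ def N4167 : Q := sm gd N2234
/-- A coset. -/ def N4172 : Q := sm gb N2238
/-- A coset. -/ def N4178 : Q := sm gc N2241
/-- A coset. -/ def N4181 : Q := sm gd N2243
/-- A coset. -/ def N4187 : Q := sm gf N2246
/-- A coset. -/ def N4189 : Q := sm gd N2247
/-- A coset. -/ def N4194 : Q := sm gd N2251
/-- A coset. -/ def N4195 : Q := sm gf N2252
/-- A coset. -/ def N4199 : Q := sm gg N2255
/-- A coset. -/ def N4200 : Q := sm gb N2258
/-- A coset. -/ def N4203 : Q := sm gc N2261
/-- A coset. -/ def N4204 : Q := sm gd N2262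
/-- A coset. -/ def N4208 : Q := sm gg N2263
/-- A coset. -/ def N4209 : Q := sm gd N2264
/-- A coset. -/ def N4212 : Q := sm ge N2267
/-- A coset. -/ def N4213 : Q := sm gd N2268
/-- A coset. -/ def N4214 : Q := sm gb N2269
/-- A coset. -/ def N4215 : Q := sm ge N2269
/-- A coset. -/ def N4217 : Q := sm ga N2272
/-- A coset. -/ def N4218 : Q := sm gd N2272
/-- A coset. -/ def N4219 : Q := sm ge N2272
/-- A coset. -/ def N4222 : Q := sm ge N2278
/-- A coset. -/ def N4228 : Q := sm gf N2280
/-- A coset. -/ def N4230 : Q := sm ge N2281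
/-- A coset. -/ def N4242 : Q := sm gg N2285
/-- A coset. -/ def N4251 : Q := sm gb N2294
/-- A coset. -/ def N4261 : Q := sm gc N2300
/-- A coset. -/ def N4264 : Q := sm gg N2300
/-- A coset. -/ def N4294 : Q := sm gg N2315
/-- A coset. -/ def N4296 : Q := sm gg N2316
/-- A coset. -/ def N4305 : Q := sm ge N2321
/-- A coset. -/ def N4316 : Q := sm gd N2326
/-- A coset. -/ def N4337 : Q := sm ga N2339
/-- A coset. -/ def N4339 : Q := sm gc N2340
/-- A coset. -/ def N4341 : Q := sm gf N2340
/-- A coset. -/ def N4342 : Q := sm gg N2340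
/-- A coset. -/ def N4349 : Q := sm gb N2346
/-- A coset. -/ def N4362 : Q := sm gd N2352
/-- A coset. -/ def N4364 : Q := sm gg N2352
/-- A coset. -/ def N4365 : Q := sm gg N2353
/-- A coset. -/ def N4381 : Q := sm gg N2363
/-- A coset. -/ def N4383 : Q := sm ge N2364
/-- A coset. -/ def N4384 : Q := sm gf N2364
/-- A coset. -/ def N4387 : Q := sm ge N2365
/-- A coset. -/ def N4392 : Q := sm gf N2368
/-- A coset. -/ def N4393 : Q := sm gb N2369
/-- A coset. -/ def N4397 : Q := sm gd N2371
/-- A coset. -/ def N4404 : Q := sm ge N2375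
/-- A coset. -/ def N4406 : Q := sm ga N2378
/-- A coset. -/ def N4407 : Q := sm ge N2378
/-- A coset. -/ def N4408 : Q := sm gd N2379
/-- A coset. -/ def N4409 : Q := sm gd N2380
/-- A coset. -/ def N4415 : Q := sm gf N2385
/-- A coset. -/ def N4417 : Q := sm ge N2389
/-- A coset. -/ def N4419 : Q := sm gb N2390
/-- A coset. -/ def N4423 : Q := sm gd N2394
/-- A coset. -/ def N4424 : Q := sm gb N2395
/-- A coset. -/ def N4426 : Q := sm gd N2396
/-- A coset. -/ def N4428 : Q := sm gg N2396
/-- A coset. -/ def N4430 : Q := sm gd N2400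
/-- A coset. -/ def N4434 : Q := sm gf N2404
/-- A coset. -/ def N4440 : Q := sm ge N2411
/-- A coset. -/ def N4441 : Q := sm gd N2412
/-- A coset. -/ def N4450 : Q := sm gf N2418
/-- A coset. -/ def N4454 : Q := sm gf N2421
/-- A coset. -/ def N4455 : Q := sm gb N2425
/-- A coset. -/ def N4458 : Q := sm gd N2426
/-- A coset. -/ def N4459 : Q := sm gc N2427
/-- A coset. -/ def N4460 : Q := sm ge N2427
/-- A coset. -/ def N4463 : Q := sm ge N2428
/-- A coset. -/ def N4464 : Q := sm gg N2428
/-- A coset. -/ def N4466 : Q := sm gg N2429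
/-- A coset. -/ def N4468 : Q := sm gf N2431
/-- A coset. -/ def N4471 : Q := sm gf N2432
/-- A coset. -/ def N4483 : Q := sm gd N2440
/-- A coset. -/ def N4490 : Q := sm gg N2442
/-- A coset. -/ def N4492 : Q := sm gd N2444
/-- A coset. -/ def N4500 : Q := sm gf N2447
/-- A coset. -/ def N4501 : Q := sm gg N2447
/-- A coset. -/ def N4502 : Q := sm gd N2448
/-- A coset. -/ def N4503 : Q := sm gd N2449
/-- A coset. -/ def N4505 : Q := sm gd N2450
/-- A coset. -/ def N4510 : Q := sm gc N2458
/-- A coset. -/ def N4511 : Q := sm gf N2458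
/-- A coset. -/ def N4512 : Q := sm gg N2458
/-- A coset. -/ def N4513 : Q := sm gd N2459
/-- A coset. -/ def N4517 : Q := sm gf N2460
/-- A coset. -/ def N4520 : Q := sm gf N2462
/-- A coset. -/ def N4522 : Q := sm ge N2463
/-- A coset. -/ def N4523 : Q := sm gg N2463
/-- A coset. -/ def N4527 : Q := sm gf N2474
/-- A coset. -/ def N4528 : Q := sm gg N2474
/-- A coset. -/ def N4529 : Q := sm gf N2475
/-- A coset. -/ def N4530 : Q := sm gg N2475
/-- A coset. -/ def N4531 : Q := sm gd N2476
/-- A coset. -/ def N4532 : Q := sm gg N2476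
/-- A coset. -/ def N4533 : Q := sm gd N2477
/-- A coset. -/ def N4534 : Q := sm gf N2477
/-- A coset. -/ def N4535 : Q := sm gc N2478
/-- A coset. -/ def N4536 : Q := sm ge N2478
/-- A coset. -/ def N4537 : Q := sm gc N2480
/-- A coset. -/ def N4538 : Q := sm ge N2480
/-- A coset. -/ def N4539 : Q := sm gf N2482
/-- A coset. -/ def N4540 : Q := sm gg N2482
/-- A coset. -/ def N4541 : Q := sm gd N2483
/-- A coset. -/ def N4542 : Q := sm gd N2484
/-- A coset. -/ def N4543 : Q := sm gc N2485
/-- A coset. -/ def N4544 : Q := sm ge N2485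
/-- A coset. -/ def N4545 : Q := sm gg N2485
/-- A coset. -/ def N4546 : Q := sm gd N2486
/-- A coset. -/ def N4547 : Q := sm gc N2487
/-- A coset. -/ def N4548 : Q := sm ge N2487
/-- A coset. -/ def N4549 : Q := sm gf N2487
/-- A coset. -/ def N4550 : Q := sm gd N2488
/-- A coset. -/ def N4551 : Q := sm gb N2489
/-- A coset. -/ def N4552 : Q := sm gf N2489
/-- A coset. -/ def N4553 : Q := sm gg N2489
/-- A coset. -/ def N4554 : Q := sm gd N2490
/-- A coset. -/ def N4555 : Q := sm gg N2490
/-- A coset. -/ def N4556 : Q := sm gd N2491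
/-- A coset. -/ def N4557 : Q := sm gf N2491
/-- A coset. -/ def N4558 : Q := sm gc N2492
/-- A coset. -/ def N4559 : Q := sm ge N2492
/-- A coset. -/ def N4560 : Q := sm gc N2493
/-- A coset. -/ def N4561 : Q := sm ge N2493
/-- A coset. -/ def N4562 : Q := sm gb N2494
/-- A coset. -/ def N4563 : Q := sm gd N2494
/-- A coset. -/ def N4564 : Q := sm ge N2494
/-- A coset. -/ def N4565 : Q := sm gb N2496
/-- A coset. -/ def N4566 : Q := sm gd N2496
/-- A coset. -/ def N4567 : Q := sm ge N2496
/-- A coset. -/ def N4569 : Q := sm gd N2498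
/-- A coset. -/ def N4570 : Q := sm ge N2498
/-- A coset. -/ def N4572 : Q := sm gb N2501
/-- A coset. -/ def N4573 : Q := sm gd N2501
/-- A coset. -/ def N4575 : Q := sm gc N2503
/-- A coset. -/ def N4577 : Q := sm gf N2503
/-- A coset. -/ def N4578 : Q := sm gg N2503
/-- A coset. -/ def N4579 : Q := sm gd N2504
/-- A coset. -/ def N4580 : Q := sm gb N2505
/-- A coset. -/ def N4582 : Q := sm ge N2505
/-- A coset. -/ def N4589 : Q := sm ge N2511
/-- A coset. -/ def N4590 : Q := sm gf N2511
/-- A coset. -/ def N4591 : Q := sm gd N2512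
/-- A coset. -/ def N4592 : Q := sm gf N2512
/-- A coset. -/ def N4593 : Q := sm gg N2512
/-- A coset. -/ def N4594 : Q := sm gg N2513
/-- A coset. -/ def N4595 : Q := sm gd N2514
/-- A coset. -/ def N4596 : Q := sm gc N2515
/-- A coset. -/ def N4597 : Q := sm gf N2515
/-- A coset. -/ def N4598 : Q := sm gg N2515
/-- A coset. -/ def N4601 : Q := sm gf N2516
/-- A coset. -/ def N4604 : Q := sm ge N2517
/-- A coset. -/ def N4606 : Q := sm gg N2517
/-- A coset. -/ def N4613 : Q := sm gc N2521
/-- A coset. -/ def N4614 : Q := sm ge N2521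
/-- A coset. -/ def N4615 : Q := sm gc N2522
/-- A coset. -/ def N4616 : Q := sm ge N2522
/-- A coset. -/ def N4617 : Q := sm ga N2523
/-- A coset. -/ def N4618 : Q := sm gd N2523
/-- A coset. -/ def N4619 : Q := sm ge N2523
/-- A coset. -/ def N4620 : Q := sm gf N2523
/-- A coset. -/ def N4621 : Q := sm gg N2523
/-- A coset. -/ def N4622 : Q := sm gc N2524
/-- A coset. -/ def N4634 : Q := sm gf N2528
/-- A coset. -/ def N4635 : Q := sm gg N2528
/-- A coset. -/ def N4636 : Q := sm gd N2529
/-- A coset. -/ def N4637 : Q := sm gd N2530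
/-- A coset. -/ def N4639 : Q := sm ge N2531
/-- A coset. -/ def N4640 : Q := sm gg N2531
/-- A coset. -/ def N4641 : Q := sm gd N2532
/-- A coset. -/ def N4642 : Q := sm gc N2533
/-- A coset. -/ def N4643 : Q := sm ge N2533
/-- A coset. -/ def N4644 : Q := sm gf N2533
/-- A coset. -/ def N4645 : Q := sm gd N2534
/-- A coset. -/ def N4646 : Q := sm gb N2535
/-- A coset. -/ def N4648 : Q := sm gf N2535
/-- A coset. -/ def N4649 : Q := sm gg N2535
/-- A coset. -/ def N4650 : Q := sm gd N2536
/-- A coset. -/ def N4651 : Q := sm gg N2536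
/-- A coset. -/ def N4652 : Q := sm gd N2537
/-- A coset. -/ def N4653 : Q := sm gf N2537
/-- A coset. -/ def N4654 : Q := sm gc N2538
/-- A coset. -/ def N4655 : Q := sm ge N2538
/-- A coset. -/ def N4657 : Q := sm ge N2539
/-- A coset. -/ def N4658 : Q := sm gb N2540
/-- A coset. -/ def N4661 : Q := sm gb N2542
/-- A coset. -/ def N4664 : Q := sm gf N2544
/-- A coset. -/ def N4665 : Q := sm gg N2544
/-- A coset. -/ def N4666 : Q := sm gd N2545
/-- A coset. -/ def N4667 : Q := sm gf N2545
/-- A coset. -/ def N4668 : Q := sm gg N2545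
/-- A coset. -/ def N4669 : Q := sm gd N2546
/-- A coset. -/ def N4670 : Q := sm gg N2546
/-- A coset. -/ def N4671 : Q := sm gd N2547
/-- A coset. -/ def N4672 : Q := sm gf N2547
/-- A coset. -/ def N4673 : Q := sm gf N2548
/-- A coset. -/ def N4674 : Q := sm gg N2548
/-- A coset. -/ def N4675 : Q := sm gd N2549
/-- A coset. -/ def N4676 : Q := sm gd N2550
/-- A coset. -/ def N4677 : Q := sm gc N2551
/-- A coset. -/ def N4678 : Q := sm ge N2551
/-- A coset. -/ def N4679 : Q := sm gg N2551
/-- A coset. -/ def N4680 : Q := sm gd N2552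
/-- A coset. -/ def N4682 : Q := sm ge N2553
/-- A coset. -/ def N4683 : Q := sm gf N2553
/-- A coset. -/ def N4684 : Q := sm gd N2554
/-- A coset. -/ def N4685 : Q := sm gf N2555
/-- A coset. -/ def N4686 : Q := sm gg N2555
/-- A coset. -/ def N4687 : Q := sm gd N2556
/-- A coset. -/ def N4688 : Q := sm gd N2557
/-- A coset. -/ def N4689 : Q := sm gc N2558
/-- A coset. -/ def N4690 : Q := sm ge N2558
/-- A coset. -/ def N4691 : Q := sm gg N2558
/-- A coset. -/ def N4692 : Q := sm gc N2559
/-- A coset. -/ def N4693 : Q := sm ge N2559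
/-- A coset. -/ def N4694 : Q := sm gf N2559
/-- A coset. -/ def N4695 : Q := sm gb N2560
/-- A coset. -/ def N4696 : Q := sm gd N2560
/-- A coset. -/ def N4697 : Q := sm ge N2560
/-- A coset. -/ def N4698 : Q := sm gg N2560
/-- A coset. -/ def N4699 : Q := sm gd N2562
/-- A coset. -/ def N4700 : Q := sm gc N2563
/-- A coset. -/ def N4701 : Q := sm ge N2563
/-- A coset. -/ def N4702 : Q := sm gb N2564
/-- A coset. -/ def N4703 : Q := sm gd N2564
/-- A coset. -/ def N4704 : Q := sm ge N2564
/-- A coset. -/ def N4705 : Q := sm gf N2564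
/-- A coset. -/ def N4706 : Q := sm gd N2566
/-- A coset. -/ def N4707 : Q := sm gc N2567
/-- A coset. -/ def N4708 : Q := sm ge N2567
/-- A coset. -/ def N4709 : Q := sm gd N2568
/-- A coset. -/ def N4710 : Q := sm gf N2568
/-- A coset. -/ def N4711 : Q := sm gg N2568
/-- A coset. -/ def N4712 : Q := sm gf N2569
/-- A coset. -/ def N4713 : Q := sm gg N2569
/-- A coset. -/ def N4714 : Q := sm gd N2570
/-- A coset. -/ def N4715 : Q := sm gg N2570
/-- A coset. -/ def N4716 : Q := sm gd N2571
/-- A coset. -/ def N4717 : Q := sm gf N2571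
/-- A coset. -/ def N4718 : Q := sm gc N2572
/-- A coset. -/ def N4719 : Q := sm gd N2573
/-- A coset. -/ def N4720 : Q := sm gc N2574
/-- A coset. -/ def N4721 : Q := sm gd N2575
/-- A coset. -/ def N4722 : Q := sm gb N2576
/-- A coset. -/ def N4723 : Q := sm gd N2576
/-- A coset. -/ def N4724 : Q := sm ge N2576
/-- A coset. -/ def N4725 : Q := sm gb N2578
/-- A coset. -/ def N4726 : Q := sm gd N2578
/-- A coset. -/ def N4727 : Q := sm ge N2578
/-- A coset. -/ def N4728 : Q := sm ga N2580
/-- A coset. -/ def N4729 : Q := sm gd N2580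
/-- A coset. -/ def N4730 : Q := sm ge N2580
/-- A coset. -/ def N4731 : Q := sm gc N2581
/-- A coset. -/ def N4732 : Q := sm ge N2581
/-- A coset. -/ def N4733 : Q := sm gf N2581
/-- A coset. -/ def N4734 : Q := sm gg N2581
/-- A coset. -/ def N4735 : Q := sm gd N2582
/-- A coset. -/ def N4736 : Q := sm ga N2583
/-- A coset. -/ def N4737 : Q := sm gd N2583
/-- A coset. -/ def N4738 : Q := sm ge N2583
/-- A coset. -/ def N4739 : Q := sm ge N2584
/-- A coset. -/ def N4740 : Q := sm gf N2584
/-- A coset. -/ def N4741 : Q := sm gg N2584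
/-- A coset. -/ def N4742 : Q := sm gd N2585
/-- A coset. -/ def N4744 : Q := sm gd N2586
/-- A coset. -/ def N4745 : Q := sm ge N2586
/-- A coset. -/ def N4747 : Q := sm gc N2587
/-- A coset. -/ def N4754 : Q := sm gf N2589
/-- A coset. -/ def N4755 : Q := sm gd N2592
/-- A coset. -/ def N4757 : Q := sm gc N2593
/-- A coset. -/ def N4758 : Q := sm ge N2593
/-- A coset. -/ def N4759 : Q := sm gf N2593
/-- A coset. -/ def N4760 : Q := sm gg N2593
/-- A coset. -/ def N4764 : Q := sm gf N2595
/-- A coset. -/ def N4765 : Q := sm gg N2595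
/-- A coset. -/ def N4766 : Q := sm gb N2596
/-- A coset. -/ def N4767 : Q := sm gd N2596
/-- A coset. -/ def N4769 : Q := sm gf N2596
/-- A coset. -/ def N4770 : Q := sm gg N2596
/-- A coset. -/ def N4775 : Q := sm gd N2599
/-- A coset. -/ def N4778 : Q := sm gf N2600
/-- A coset. -/ def N4779 : Q := sm gg N2600
/-- A coset. -/ def N4780 : Q := sm ge N2601
/-- A coset. -/ def N4782 : Q := sm gd N2602
/-- A coset. -/ def N4783 : Q := sm ge N2602
/-- A coset. -/ def N4785 : Q := sm ga N2605
/-- A coset. -/ def N4795 : Q := sm gg N2608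
/-- A coset. -/ def N4799 : Q := sm gg N2611
/-- A coset. -/ def N4804 : Q := sm gg N2613
/-- A coset. -/ def N4806 : Q := sm gc N2616
/-- A coset. -/ def N4807 : Q := sm ge N2616
/-- A coset. -/ def N4808 : Q := sm gf N2616
/-- A coset. -/ def N4809 : Q := sm gg N2616
/-- A coset. -/ def N4810 : Q := sm gd N2617
/-- A coset. -/ def N4811 : Q := sm gd N2618
/-- A coset. -/ def N4812 : Q := sm gf N2618
/-- A coset. -/ def N4813 : Q := sm gc N2621
/-- A coset. -/ def N4814 : Q := sm gf N2621
/-- A coset. -/ def N4815 : Q := sm gg N2621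
/-- A coset. -/ def N4816 : Q := sm gf N2622
/-- A coset. -/ def N4817 : Q := sm gg N2622
/-- A coset. -/ def N4818 : Q := sm gd N2623
/-- A coset. -/ def N4819 : Q := sm gd N2624
/-- A coset. -/ def N4820 : Q := sm gd N2625
/-- A coset. -/ def N4821 : Q := sm gc N2626
/-- A coset. -/ def N4822 : Q := sm ge N2626
/-- A coset. -/ def N4823 : Q := sm gf N2626
/-- A coset. -/ def N4824 : Q := sm gd N2627
/-- A coset. -/ def N4825 : Q := sm gf N2628
/-- A coset. -/ def N4826 : Q := sm gg N2628
/-- A coset. -/ def N4827 : Q := sm gg N2629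
/-- A coset. -/ def N4828 : Q := sm gd N2630
/-- A coset. -/ def N4829 : Q := sm gf N2630
/-- A coset. -/ def N4832 : Q := sm gf N2631
/-- A coset. -/ def N4837 : Q := sm gf N2633
/-- A coset. -/ def N4838 : Q := sm gg N2634
/-- A coset. -/ def N4842 : Q := sm gb N2637
/-- A coset. -/ def N4851 : Q := sm gg N2642
/-- A coset. -/ def N4862 : Q := sm gd N2647
/-- A coset. -/ def N4866 : Q := sm gb N2650
/-- A coset. -/ def N4870 : Q := sm gg N2651
/-- A coset. -/ def N4871 : Q := sm gf N2652
/-- A coset. -/ def N4872 : Q := sm gb N2653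
/-- A coset. -/ def N4875 : Q := sm ga N2655
/-- A coset. -/ def N4877 : Q := sm ge N2655
/-- A coset. -/ def N4895 : Q := sm gd N2664
/-- A coset. -/ def N4897 : Q := sm gd N2666
/-- A coset. -/ def N4898 : Q := sm gg N2666
/-- A coset. -/ def N4899 : Q := sm gd N2667
/-- A coset. -/ def N4900 : Q := sm gc N2668
/-- A coset. -/ def N4901 : Q := sm ge N2668
/-- A coset. -/ def N4902 : Q := sm ga N2671
/-- A coset. -/ def N4904 : Q := sm ge N2671
/-- A coset. -/ def N4905 : Q := sm gg N2671
/-- A coset. -/ def N4906 : Q := sm gc N2672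
/-- A coset. -/ def N4907 : Q := sm gf N2672
/-- A coset. -/ def N4908 : Q := sm gg N2672
/-- A coset. -/ def N4910 : Q := sm gd N2674
/-- A coset. -/ def N4915 : Q := sm gf N2681
/-- A coset. -/ def N4916 : Q := sm gf N2682
/-- A coset. -/ def N4918 : Q := sm gc N2684
/-- A coset. -/ def N4919 : Q := sm ge N2684
/-- A coset. -/ def N4920 : Q := sm gf N2684
/-- A coset. -/ def N4926 : Q := sm gd N2689
/-- A coset. -/ def N4931 : Q := sm gc N2695
/-- A coset. -/ def N4934 : Q := sm ge N2699
/-- A coset. -/ def N4938 : Q := sm gc N2705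
/-- A coset. -/ def N4939 : Q := sm ge N2705
/-- A coset. -/ def N4942 : Q := sm gf N2708
/-- A coset. -/ def N4949 : Q := sm gg N2712
/-- A coset. -/ def N4958 : Q := sm gg N2729
/-- A coset. -/ def N4960 : Q := sm gf N2731
/-- A coset. -/ def N4966 : Q := sm gd N2734
/-- A coset. -/ def N4970 : Q := sm gd N2736
/-- A coset. -/ def N4972 : Q := sm gg N2736
/-- A coset. -/ def N4974 : Q := sm gg N2737
/-- A coset. -/ def N4975 : Q := sm gf N2738
/-- A coset. -/ def N4976 : Q := sm gc N2739
/-- A coset. -/ def N4987 : Q := sm gd N2748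
/-- A coset. -/ def N4988 : Q := sm gf N2748
/-- A coset. -/ def N5000 : Q := sm ge N2754
/-- A coset. -/ def N5001 : Q := sm gg N2754
/-- A coset. -/ def N5002 : Q := sm gd N2755
/-- A coset. -/ def N5005 : Q := sm gb N2758
/-- A coset. -/ def N5007 : Q := sm ge N2758
/-- A coset. -/ def N5009 : Q := sm gg N2759
/-- A coset. -/ def N5010 : Q := sm gf N2760
/-- A coset. -/ def N5016 : Q := sm gg N2769
/-- A coset. -/ def N5018 : Q := sm gg N2774
/-- A coset. -/ def N5024 : Q := sm gd N2780
/-- A coset. -/ def N5025 : Q := sm gg N2780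
/-- A coset. -/ def N5032 : Q := sm ge N2786
/-- A coset. -/ def N5033 : Q := sm gg N2786
/-- A coset. -/ def N5049 : Q := sm gc N2797
/-- A coset. -/ def N5056 : Q := sm gc N2808
/-- A coset. -/ def N5061 : Q := sm gd N2815
/-- A coset. -/ def N5062 : Q := sm gc N2816
/-- A coset. -/ def N5063 : Q := sm ge N2816
/-- A coset. -/ def N5064 : Q := sm gf N2816
/-- A coset. -/ def N5065 : Q := sm gg N2816
/-- A coset. -/ def N5066 : Q := sm gd N2817
/-- A coset. -/ def N5067 : Q := sm gg N2817
/-- A coset. -/ def N5068 : Q := sm gd N2818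
/-- A coset. -/ def N5069 : Q := sm gd N2819
/-- A coset. -/ def N5070 : Q := sm gd N2820
/-- A coset. -/ def N5071 : Q := sm gd N2821
/-- A coset. -/ def N5072 : Q := sm gd N2822
/-- A coset. -/ def N5073 : Q := sm gd N2823
/-- A coset. -/ def N5074 : Q := sm gf N2824
/-- A coset. -/ def N5075 : Q := sm gd N2825
/-- A coset. -/ def N5076 : Q := sm gg N2825
/-- A coset. -/ def N5077 : Q := sm gd N2826
/-- A coset. -/ def N5078 : Q := sm gd N2827
/-- A coset. -/ def N5079 : Q := sm gf N2828
/-- A coset. -/ def N5080 : Q := sm gg N2828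
/-- A coset. -/ def N5081 : Q := sm gd N2829
/-- A coset. -/ def N5082 : Q := sm gd N2830
/-- A coset. -/ def N5083 : Q := sm gc N2831
/-- A coset. -/ def N5084 : Q := sm ge N2831
/-- A coset. -/ def N5085 : Q := sm gg N2831
/-- A coset. -/ def N5086 : Q := sm gd N2832
/-- A coset. -/ def N5087 : Q := sm gc N2833
/-- A coset. -/ def N5088 : Q := sm ge N2833
/-- A coset. -/ def N5089 : Q := sm gf N2833
/-- A coset. -/ def N5090 : Q := sm gf N2835
/-- A coset. -/ def N5091 : Q := sm gg N2835
/-- A coset. -/ def N5092 : Q := sm gd N2836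
/-- A coset. -/ def N5093 : Q := sm gd N2837
/-- A coset. -/ def N5094 : Q := sm gc N2838
/-- A coset. -/ def N5095 : Q := sm gg N2838
/-- A coset. -/ def N5096 : Q := sm gc N2839
/-- A coset. -/ def N5097 : Q := sm ge N2839
/-- A coset. -/ def N5098 : Q := sm gf N2839
/-- A coset. -/ def N5099 : Q := sm gc N2840
/-- A coset. -/ def N5100 : Q := sm ge N2840
/-- A coset. -/ def N5101 : Q := sm gf N2840
/-- A coset. -/ def N5102 : Q := sm gd N2841
/-- A coset. -/ def N5103 : Q := sm gd N2843
/-- A coset. -/ def N5104 : Q := sm gc N2844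
/-- A coset. -/ def N5105 : Q := sm ge N2844
/-- A coset. -/ def N5106 : Q := sm gg N2844
/-- A coset. -/ def N5107 : Q := sm gd N2845
/-- A coset. -/ def N5108 : Q := sm gg N2845
/-- A coset. -/ def N5109 : Q := sm gf N2846
/-- A coset. -/ def N5110 : Q := sm gg N2846
/-- A coset. -/ def N5111 : Q := sm gd N2847
/-- A coset. -/ def N5112 : Q := sm gd N2848
/-- A coset. -/ def N5113 : Q := sm gf N2848
/-- A coset. -/ def N5114 : Q := sm gd N2849
/-- A coset. -/ def N5115 : Q := sm gd N2850
/-- A coset. -/ def N5116 : Q := sm gd N2851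
/-- A coset. -/ def N5117 : Q := sm ge N2852
/-- A coset. -/ def N5118 : Q := sm gf N2852
/-- A coset. -/ def N5119 : Q := sm gg N2852
/-- A coset. -/ def N5120 : Q := sm gd N2853
/-- A coset. -/ def N5121 : Q := sm gf N2853
/-- A coset. -/ def N5122 : Q := sm gd N2855
/-- A coset. -/ def N5123 : Q := sm gd N2856
/-- A coset. -/ def N5124 : Q := sm gd N2857
/-- A coset. -/ def N5125 : Q := sm gg N2857
/-- A coset. -/ def N5126 : Q := sm gc N2858
/-- A coset. -/ def N5127 : Q := sm ge N2858
/-- A coset. -/ def N5128 : Q := sm gf N2858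
/-- A coset. -/ def N5129 : Q := sm gg N2858
/-- A coset. -/ def N5130 : Q := sm gd N2859
/-- A coset. -/ def N5131 : Q := sm gf N2859
/-- A coset. -/ def N5132 : Q := sm gd N2860
/-- A coset. -/ def N5133 : Q := sm gd N2861
/-- A coset. -/ def N5134 : Q := sm gd N2862
/-- A coset. -/ def N5135 : Q := sm gf N2862
/-- A coset. -/ def N5136 : Q := sm gg N2862
/-- A coset. -/ def N5137 : Q := sm gd N2863
/-- A coset. -/ def N5138 : Q := sm gg N2863
/-- A coset. -/ def N5139 : Q := sm gd N2864
/-- A coset. -/ def N5140 : Q := sm gf N2864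
/-- A coset. -/ def N5141 : Q := sm gc N2865
/-- A coset. -/ def N5142 : Q := sm gf N2865
/-- A coset. -/ def N5143 : Q := sm gg N2865
/-- A coset. -/ def N5144 : Q := sm gd N2866
/-- A coset. -/ def N5147 : Q := sm gc N2870
/-- A coset. -/ def N5148 : Q := sm ge N2870
/-- A coset. -/ def N5149 : Q := sm gf N2870
/-- A coset. -/ def N5150 : Q := sm gd N2872
/-- A coset. -/ def N5151 : Q := sm gg N2872
/-- A coset. -/ def N5152 : Q := sm gd N2873
/-- A coset. -/ def N5153 : Q := sm gd N2874
/-- A coset. -/ def N5154 : Q := sm gc N2875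
/-- A coset. -/ def N5155 : Q := sm gg N2875
/-- A coset. -/ def N5156 : Q := sm gc N2876
/-- A coset. -/ def N5157 : Q := sm gf N2876
/-- A coset. -/ def N5158 : Q := sm gc N2877
/-- A coset. -/ def N5159 : Q := sm ge N2877
/-- A coset. -/ def N5160 : Q := sm gf N2877
/-- A coset. -/ def N5161 : Q := sm gc N2878
/-- A coset. -/ def N5162 : Q := sm ge N2878
/-- A coset. -/ def N5163 : Q := sm gg N2878
/-- A coset. -/ def N5164 : Q := sm gd N2879
/-- A coset. -/ def N5165 : Q := sm gf N2879
/-- A coset. -/ def N5166 : Q := sm gc N2880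
/-- A coset. -/ def N5167 : Q := sm ge N2880
/-- A coset. -/ def N5168 : Q := sm gf N2880
/-- A coset. -/ def N5169 : Q := sm gg N2880
/-- A coset. -/ def N5170 : Q := sm gd N2881
/-- A coset. -/ def N5171 : Q := sm gd N2883
/-- A coset. -/ def N5172 : Q := sm gd N2884
/-- A coset. -/ def N5173 : Q := sm gc N2885
/-- A coset. -/ def N5174 : Q := sm gf N2885
/-- A coset. -/ def N5175 : Q := sm gg N2885
/-- A coset. -/ def N5176 : Q := sm gd N2886
/-- A coset. -/ def N5177 : Q := sm gd N2887
/-- A coset. -/ def N5178 : Q := sm gf N2887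
/-- A coset. -/ def N5179 : Q := sm gd N2888
/-- A coset. -/ def N5180 : Q := sm ge N2888
/-- A coset. -/ def N5181 : Q := sm gf N2888
/-- A coset. -/ def N5182 : Q := sm gg N2888
/-- A coset. -/ def N5183 : Q := sm gd N2889
/-- A coset. -/ def N5184 : Q := sm gf N2889
/-- A coset. -/ def N5185 : Q := sm gg N2889
/-- A coset. -/ def N5186 : Q := sm gd N2890
/-- A coset. -/ def N5187 : Q := sm gg N2890
/-- A coset. -/ def N5188 : Q := sm gd N2891
/-- A coset. -/ def N5189 : Q := sm gf N2891
/-- A coset. -/ def N5191 : Q := sm gf N2892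
/-- A coset. -/ def N5192 : Q := sm gg N2892
/-- A coset. -/ def N5193 : Q := sm gd N2893
/-- A coset. -/ def N5194 : Q := sm gd N2894
/-- A coset. -/ def N5195 : Q := sm gc N2895
/-- A coset. -/ def N5196 : Q := sm ge N2895
/-- A coset. -/ def N5197 : Q := sm gg N2895
/-- A coset. -/ def N5199 : Q := sm gc N2897
/-- A coset. -/ def N5200 : Q := sm ge N2897
/-- A coset. -/ def N5201 : Q := sm gf N2899
/-- A coset. -/ def N5202 : Q := sm gg N2899
/-- A coset. -/ def N5203 : Q := sm gd N2900
/-- A coset. -/ def N5204 : Q := sm gd N2901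
/-- A coset. -/ def N5205 : Q := sm gc N2902
/-- A coset. -/ def N5206 : Q := sm ge N2902
/-- A coset. -/ def N5207 : Q := sm gg N2902
/-- A coset. -/ def N5209 : Q := sm gc N2904
/-- A coset. -/ def N5210 : Q := sm ge N2904
/-- A coset. -/ def N5211 : Q := sm gf N2904
/-- A coset. -/ def N5212 : Q := sm gd N2905
/-- A coset. -/ def N5213 : Q := sm gd N2906
/-- A coset. -/ def N5214 : Q := sm gg N2906
/-- A coset. -/ def N5216 : Q := sm gf N2907
/-- A coset. -/ def N5217 : Q := sm gc N2908
/-- A coset. -/ def N5218 : Q := sm ge N2908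
/-- A coset. -/ def N5220 : Q := sm ge N2909
/-- A coset. -/ def N5221 : Q := sm gf N2909
/-- A coset. -/ def N5222 : Q := sm gb N2910
/-- A coset. -/ def N5223 : Q := sm gd N2910
/-- A coset. -/ def N5224 : Q := sm ge N2910
/-- A coset. -/ def N5225 : Q := sm gg N2910
/-- A coset. -/ def N5226 : Q := sm gg N2911
/-- A coset. -/ def N5227 : Q := sm gd N2912
/-- A coset. -/ def N5228 : Q := sm gf N2912
/-- A coset. -/ def N5229 : Q := sm gc N2913
/-- A coset. -/ def N5230 : Q := sm ge N2913
/-- A coset. -/ def N5231 : Q := sm gf N2913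
/-- A coset. -/ def N5232 : Q := sm gb N2914
/-- A coset. -/ def N5233 : Q := sm gd N2914
/-- A coset. -/ def N5234 : Q := sm ge N2914
/-- A coset. -/ def N5235 : Q := sm gf N2914
/-- A coset. -/ def N5236 : Q := sm gf N2915
/-- A coset. -/ def N5237 : Q := sm gg N2916
/-- A coset. -/ def N5238 : Q := sm gf N2918
/-- A coset. -/ def N5239 : Q := sm gg N2918
/-- A coset. -/ def N5240 : Q := sm gd N2919
/-- A coset. -/ def N5241 : Q := sm gc N2921
/-- A coset. -/ def N5242 : Q := sm gg N2921
/-- A coset. -/ def N5243 : Q := sm gc N2922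
/-- A coset. -/ def N5244 : Q := sm gf N2922
/-- A coset. -/ def N5245 : Q := sm gb N2923
/-- A coset. -/ def N5246 : Q := sm gd N2923
/-- A coset. -/ def N5247 : Q := sm gg N2923
/-- A coset. -/ def N5248 : Q := sm gf N2924
/-- A coset. -/ def N5249 : Q := sm gb N2925
/-- A coset. -/ def N5250 : Q := sm gd N2925
/-- A coset. -/ def N5251 : Q := sm gf N2925
/-- A coset. -/ def N5252 : Q := sm gg N2926
/-- A coset. -/ def N5255 : Q := sm ge N2927
/-- A coset. -/ def N5256 : Q := sm gf N2927
/-- A coset. -/ def N5257 : Q := sm gf N2928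
/-- A coset. -/ def N5258 : Q := sm gg N2929
/-- A coset. -/ def N5259 : Q := sm gb N2930
/-- A coset. -/ def N5260 : Q := sm gd N2930
/-- A coset. -/ def N5261 : Q := sm ge N2930
/-- A coset. -/ def N5262 : Q := sm gg N2930
/-- A coset. -/ def N5263 : Q := sm gg N2931
/-- A coset. -/ def N5264 : Q := sm gf N2932
/-- A coset. -/ def N5266 : Q := sm ge N2933
/-- A coset. -/ def N5267 : Q := sm gf N2933
/-- A coset. -/ def N5268 : Q := sm gg N2933
/-- A coset. -/ def N5269 : Q := sm gd N2934
/-- A coset. -/ def N5270 : Q := sm gd N2935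
/-- A coset. -/ def N5271 : Q := sm gf N2936
/-- A coset. -/ def N5272 : Q := sm gg N2936
/-- A coset. -/ def N5273 : Q := sm gd N2937
/-- A coset. -/ def N5274 : Q := sm gg N2937
/-- A coset. -/ def N5275 : Q := sm gd N2938
/-- A coset. -/ def N5276 : Q := sm gf N2938
/-- A coset. -/ def N5277 : Q := sm gc N2939
/-- A coset. -/ def N5278 : Q := sm ge N2939
/-- A coset. -/ def N5280 : Q := sm ge N2940
/-- A coset. -/ def N5282 : Q := sm gc N2942
/-- A coset. -/ def N5283 : Q := sm ge N2942
/-- A coset. -/ def N5284 : Q := sm gf N2942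
/-- A coset. -/ def N5285 : Q := sm gc N2943
/-- A coset. -/ def N5286 : Q := sm ge N2943
/-- A coset. -/ def N5287 : Q := sm gg N2943
/-- A coset. -/ def N5288 : Q := sm gb N2944
/-- A coset. -/ def N5289 : Q := sm ge N2944
/-- A coset. -/ def N5290 : Q := sm gf N2944
/-- A coset. -/ def N5291 : Q := sm gf N2945
/-- A coset. -/ def N5292 : Q := sm gg N2945
/-- A coset. -/ def N5293 : Q := sm gg N2946
/-- A coset. -/ def N5294 : Q := sm gb N2948
/-- A coset. -/ def N5295 : Q := sm ge N2948
/-- A coset. -/ def N5296 : Q := sm gf N2948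
/-- A coset. -/ def N5297 : Q := sm gg N2948
/-- A coset. -/ def N5299 : Q := sm gg N2949
/-- A coset. -/ def N5300 : Q := sm gg N2950
/-- A coset. -/ def N5302 : Q := sm gb N2952
/-- A coset. -/ def N5303 : Q := sm gd N2952
/-- A coset. -/ def N5304 : Q := sm ge N2952
/-- A coset. -/ def N5305 : Q := sm gg N2952
/-- A coset. -/ def N5306 : Q := sm gb N2955
/-- A coset. -/ def N5307 : Q := sm gd N2955
/-- A coset. -/ def N5308 : Q := sm ge N2955
/-- A coset. -/ def N5309 : Q := sm gf N2955
/-- A coset. -/ def N5310 : Q := sm ga N2958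
/-- A coset. -/ def N5311 : Q := sm gd N2958
/-- A coset. -/ def N5312 : Q := sm ge N2958
/-- A coset. -/ def N5313 : Q := sm gg N2958
/-- A coset. -/ def N5314 : Q := sm ge N2959
/-- A coset. -/ def N5315 : Q := sm gf N2959
/-- A coset. -/ def N5316 : Q := sm gg N2959
/-- A coset. -/ def N5317 : Q := sm gd N2960
/-- A coset. -/ def N5318 : Q := sm gg N2960
/-- A coset. -/ def N5319 : Q := sm gd N2961
/-- A coset. -/ def N5320 : Q := sm gf N2961
/-- A coset. -/ def N5321 : Q := sm gd N2962
/-- A coset. -/ def N5322 : Q := sm gc N2963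
/-- A coset. -/ def N5323 : Q := sm ge N2963
/-- A coset. -/ def N5324 : Q := sm gf N2963
/-- A coset. -/ def N5325 : Q := sm gd N2964
/-- A coset. -/ def N5326 : Q := sm gd N2965
/-- A coset. -/ def N5327 : Q := sm ge N2965
/-- A coset. -/ def N5328 : Q := sm gf N2966
/-- A coset. -/ def N5329 : Q := sm ga N2968
/-- A coset. -/ def N5330 : Q := sm gd N2968
/-- A coset. -/ def N5331 : Q := sm ge N2968
/-- A coset. -/ def N5333 : Q := sm ge N2969
/-- A coset. -/ def N5334 : Q := sm gf N2969
/-- A coset. -/ def N5335 : Q := sm gg N2969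
/-- A coset. -/ def N5336 : Q := sm gd N2970
/-- A coset. -/ def N5337 : Q := sm gf N2970
/-- A coset. -/ def N5339 : Q := sm gg N2971
/-- A coset. -/ def N5340 : Q := sm gd N2972
/-- A coset. -/ def N5341 : Q := sm gc N2973
/-- A coset. -/ def N5342 : Q := sm ge N2973
/-- A coset. -/ def N5343 : Q := sm gg N2973
/-- A coset. -/ def N5344 : Q := sm gd N2974
/-- A coset. -/ def N5345 : Q := sm gb N2975
/-- A coset. -/ def N5346 : Q := sm gd N2975
/-- A coset. -/ def N5347 : Q := sm ge N2975
/-- A coset. -/ def N5348 : Q := sm gg N2976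
/-- A coset. -/ def N5349 : Q := sm gd N2978
/-- A coset. -/ def N5350 : Q := sm gg N2978
/-- A coset. -/ def N5351 : Q := sm gc N2979
/-- A coset. -/ def N5352 : Q := sm ge N2979
/-- A coset. -/ def N5353 : Q := sm gf N2979
/-- A coset. -/ def N5354 : Q := sm gg N2979
/-- A coset. -/ def N5355 : Q := sm gd N2980
/-- A coset. -/ def N5356 : Q := sm gd N2981
/-- A coset. -/ def N5357 : Q := sm gd N2982
/-- A coset. -/ def N5358 : Q := sm gf N2982
/-- A coset. -/ def N5359 : Q := sm gc N2983
/-- A coset. -/ def N5360 : Q := sm ge N2983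
/-- A coset. -/ def N5361 : Q := sm gf N2983
/-- A coset. -/ def N5362 : Q := sm gg N2983
/-- A coset. -/ def N5363 : Q := sm gd N2984
/-- A coset. -/ def N5366 : Q := sm ge N2986
/-- A coset. -/ def N5367 : Q := sm gf N2986
/-- A coset. -/ def N5368 : Q := sm gg N2986
/-- A coset. -/ def N5370 : Q := sm gb N2988
/-- A coset. -/ def N5371 : Q := sm ge N2988
/-- A coset. -/ def N5372 : Q := sm gf N2988
/-- A coset. -/ def N5373 : Q := sm gg N2988
/-- A coset. -/ def N5374 : Q := sm gd N2989
/-- A coset. -/ def N5375 : Q := sm gf N2989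
/-- A coset. -/ def N5376 : Q := sm gg N2989
/-- A coset. -/ def N5377 : Q := sm gg N2990
/-- A coset. -/ def N5378 : Q := sm gd N2991
/-- A coset. -/ def N5379 : Q := sm gf N2991
/-- A coset. -/ def N5380 : Q := sm gc N2992
/-- A coset. -/ def N5382 : Q := sm gg N2992
/-- A coset. -/ def N5383 : Q := sm gc N2993
/-- A coset. -/ def N5384 : Q := sm ge N2993
/-- A coset. -/ def N5385 : Q := sm gf N2993
/-- A coset. -/ def N5386 : Q := sm gb N2994
/-- A coset. -/ def N5387 : Q := sm gd N2994
/-- A coset. -/ def N5389 : Q := sm gf N2994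
/-- A coset. -/ def N5391 : Q := sm gf N2997
/-- A coset. -/ def N5392 : Q := sm gc N2998
/-- A coset. -/ def N5396 : Q := sm gd N2999
/-- A coset. -/ def N5402 : Q := sm gf N3003
/-- A coset. -/ def N5404 : Q := sm gd N3004
/-- A coset. -/ def N5407 : Q := sm gf N3005
/-- A coset. -/ def N5408 : Q := sm gg N3005
/-- A coset. -/ def N5412 : Q := sm gd N3007
/-- A coset. -/ def N5418 : Q := sm gc N3010
/-- A coset. -/ def N5419 : Q := sm ge N3010
/-- A coset. -/ def N5420 : Q := sm gg N3010
/-- A coset. -/ def N5423 : Q := sm gd N3013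
/-- A coset. -/ def N5424 : Q := sm gg N3013
/-- A coset. -/ def N5425 : Q := sm gc N3014
/-- A coset. -/ def N5426 : Q := sm ge N3014
/-- A coset. -/ def N5427 : Q := sm gf N3014
/-- A coset. -/ def N5428 : Q := sm gg N3014
/-- A coset. -/ def N5429 : Q := sm gd N3015
/-- A coset. -/ def N5430 : Q := sm gg N3015
/-- A coset. -/ def N5432 : Q := sm gf N3016
/-- A coset. -/ def N5433 : Q := sm gb N3019
/-- A coset. -/ def N5436 : Q := sm gf N3019
/-- A coset. -/ def N5437 : Q := sm gg N3019
/-- A coset. -/ def N5438 : Q := sm gf N3020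
/-- A coset. -/ def N5439 : Q := sm gg N3020
/-- A coset. -/ def N5440 : Q := sm gg N3021
/-- A coset. -/ def N5444 : Q := sm ge N3023
/-- A coset. -/ def N5447 : Q := sm ga N3025
/-- A coset. -/ def N5448 : Q := sm ge N3025
/-- A coset. -/ def N5449 : Q := sm gf N3025
/-- A coset. -/ def N5450 : Q := sm gg N3025
/-- A coset. -/ def N5451 : Q := sm gd N3026
/-- A coset. -/ def N5452 : Q := sm gf N3026
/-- A coset. -/ def N5453 : Q := sm gg N3026
/-- A coset. -/ def N5454 : Q := sm gd N3027
/-- A coset. -/ def N5455 : Q := sm gg N3027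
/-- A coset. -/ def N5456 : Q := sm gd N3028
/-- A coset. -/ def N5457 : Q := sm gf N3028
/-- A coset. -/ def N5458 : Q := sm gc N3029
/-- A coset. -/ def N5461 : Q := sm gd N3030
/-- A coset. -/ def N5462 : Q := sm gd N3031
/-- A coset. -/ def N5463 : Q := sm gd N3032
/-- A coset. -/ def N5464 : Q := sm gc N3033
/-- A coset. -/ def N5465 : Q := sm ge N3033
/-- A coset. -/ def N5467 : Q := sm gd N3034
/-- A coset. -/ def N5469 : Q := sm gd N3035
/-- A coset. -/ def N5470 : Q := sm gf N3035
/-- A coset. -/ def N5472 : Q := sm gg N3036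
/-- A coset. -/ def N5477 : Q := sm gf N3038
/-- A coset. -/ def N5479 : Q := sm gd N3039
/-- A coset. -/ def N5480 : Q := sm ge N3039
/-- A coset. -/ def N5483 : Q := sm gd N3041
/-- A coset. -/ def N5492 : Q := sm gd N3045
/-- A coset. -/ def N5493 : Q := sm ge N3045
/-- A coset. -/ def N5494 : Q := sm gg N3045
/-- A coset. -/ def N5495 : Q := sm gb N3048
/-- A coset. -/ def N5501 : Q := sm gg N3049
/-- A coset. -/ def N5502 : Q := sm gd N3050
/-- A coset. -/ def N5503 : Q := sm gg N3050
/-- A coset. -/ def N5507 : Q := sm gg N3052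
/-- A coset. -/ def N5509 : Q := sm ga N3054
/-- A coset. -/ def N5515 : Q := sm gg N3055
/-- A coset. -/ def N5516 : Q := sm gd N3056
/-- A coset. -/ def N5517 : Q := sm gg N3056
/-- A coset. -/ def N5520 : Q := sm gc N3058
/-- A coset. -/ def N5526 : Q := sm ge N3061
/-- A coset. -/ def N5530 : Q := sm gb N3064
/-- A coset. -/ def N5531 : Q := sm gd N3064
/-- A coset. -/ def N5532 : Q := sm gf N3064
/-- A coset. -/ def N5534 : Q := sm gd N3065
/-- A coset. -/ def N5538 : Q := sm ge N3067
/-- A coset. -/ def N5541 : Q := sm gd N3068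
/-- A coset. -/ def N5543 : Q := sm gg N3068
/-- A coset. -/ def N5546 : Q := sm gf N3070
/-- A coset. -/ def N5553 : Q := sm gd N3074
/-- A coset. -/ def N5554 : Q := sm gg N3074
/-- A coset. -/ def N5555 : Q := sm gc N3075
/-- A coset. -/ def N5556 : Q := sm ge N3075
/-- A coset. -/ def N5557 : Q := sm gf N3075
/-- A coset. -/ def N5558 : Q := sm gg N3075
/-- A coset. -/ def N5559 : Q := sm gd N3076
/-- A coset. -/ def N5560 : Q := sm gd N3077
/-- A coset. -/ def N5561 : Q := sm gd N3078
/-- A coset. -/ def N5562 : Q := sm gf N3078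
/-- A coset. -/ def N5563 : Q := sm gc N3079
/-- A coset. -/ def N5564 : Q := sm ge N3079
/-- A coset. -/ def N5565 : Q := sm gf N3079
/-- A coset. -/ def N5566 : Q := sm gg N3079
/-- A coset. -/ def N5567 : Q := sm gd N3080
/-- A coset. -/ def N5568 : Q := sm gd N3081
/-- A coset. -/ def N5569 : Q := sm gd N3082
/-- A coset. -/ def N5570 : Q := sm gg N3082
/-- A coset. -/ def N5571 : Q := sm gc N3083
/-- A coset. -/ def N5572 : Q := sm ge N3083
/-- A coset. -/ def N5573 : Q := sm gf N3083
/-- A coset. -/ def N5574 : Q := sm gg N3083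
/-- A coset. -/ def N5575 : Q := sm gd N3084
/-- A coset. -/ def N5576 : Q := sm gg N3084
/-- A coset. -/ def N5577 : Q := sm gd N3085
/-- A coset. -/ def N5578 : Q := sm gb N3086
/-- A coset. -/ def N5579 : Q := sm ge N3086
/-- A coset. -/ def N5580 : Q := sm gf N3086
/-- A coset. -/ def N5581 : Q := sm gg N3086
/-- A coset. -/ def N5582 : Q := sm gd N3087
/-- A coset. -/ def N5583 : Q := sm gf N3087
/-- A coset. -/ def N5584 : Q := sm gg N3087
/-- A coset. -/ def N5585 : Q := sm gg N3088
/-- A coset. -/ def N5586 : Q := sm gd N3089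
/-- A coset. -/ def N5587 : Q := sm gf N3089
/-- A coset. -/ def N5588 : Q := sm gc N3090
/-- A coset. -/ def N5589 : Q := sm gf N3090
/-- A coset. -/ def N5590 : Q := sm gg N3090
/-- A coset. -/ def N5591 : Q := sm gd N3091
/-- A coset. -/ def N5592 : Q := sm ge N3092
/-- A coset. -/ def N5593 : Q := sm gd N3093
/-- A coset. -/ def N5594 : Q := sm gc N3094
/-- A coset. -/ def N5595 : Q := sm ge N3094
/-- A coset. -/ def N5596 : Q := sm gd N3095
/-- A coset. -/ def N5597 : Q := sm gd N3097
/-- A coset. -/ def N5598 : Q := sm gc N3098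
/-- A coset. -/ def N5599 : Q := sm ge N3098
/-- A coset. -/ def N5600 : Q := sm gd N3099
/-- A coset. -/ def N5601 : Q := sm gc N3100
/-- A coset. -/ def N5602 : Q := sm ge N3100
/-- A coset. -/ def N5603 : Q := sm gf N3100
/-- A coset. -/ def N5604 : Q := sm gg N3100
/-- A coset. -/ def N5605 : Q := sm gd N3101
/-- A coset. -/ def N5606 : Q := sm gf N3101
/-- A coset. -/ def N5608 : Q := sm gd N3103
/-- A coset. -/ def N5609 : Q := sm gd N3104
/-- A coset. -/ def N5610 : Q := sm gd N3105
/-- A coset. -/ def N5611 : Q := sm gf N3105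
/-- A coset. -/ def N5612 : Q := sm gc N3106
/-- A coset. -/ def N5613 : Q := sm ge N3106
/-- A coset. -/ def N5614 : Q := sm gf N3106
/-- A coset. -/ def N5615 : Q := sm gg N3106
/-- A coset. -/ def N5616 : Q := sm gd N3107
/-- A coset. -/ def N5620 : Q := sm ge N3109
/-- A coset. -/ def N5621 : Q := sm gf N3109
/-- A coset. -/ def N5623 : Q := sm gd N3110
/-- A coset. -/ def N5624 : Q := sm gf N3110
/-- A coset. -/ def N5625 : Q := sm gg N3110
/-- A coset. -/ def N5626 : Q := sm gd N3111
/-- A coset. -/ def N5627 : Q := sm gg N3111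
/-- A coset. -/ def N5628 : Q := sm gf N3112
/-- A coset. -/ def N5629 : Q := sm gc N3113
/-- A coset. -/ def N5630 : Q := sm gf N3113
/-- A coset. -/ def N5631 : Q := sm gg N3113
/-- A coset. -/ def N5632 : Q := sm gd N3114
/-- A coset. -/ def N5634 : Q := sm gd N3116
/-- A coset. -/ def N5635 : Q := sm gc N3117
/-- A coset. -/ def N5636 : Q := sm ge N3117
/-- A coset. -/ def N5637 : Q := sm gd N3118
/-- A coset. -/ def N5638 : Q := sm gd N3120
/-- A coset. -/ def N5639 : Q := sm gc N3121
/-- A coset. -/ def N5640 : Q := sm gc N3122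
/-- A coset. -/ def N5641 : Q := sm ge N3122
/-- A coset. -/ def N5642 : Q := sm gf N3122
/-- A coset. -/ def N5643 : Q := sm gg N3122
/-- A coset. -/ def N5644 : Q := sm gd N3123
/-- A coset. -/ def N5645 : Q := sm gd N3125
/-- A coset. -/ def N5646 : Q := sm gg N3125
/-- A coset. -/ def N5647 : Q := sm gc N3126
/-- A coset. -/ def N5648 : Q := sm ge N3126
/-- A coset. -/ def N5649 : Q := sm gf N3126
/-- A coset. -/ def N5650 : Q := sm gg N3126
/-- A coset. -/ def N5651 : Q := sm gd N3127
/-- A coset. -/ def N5652 : Q := sm gg N3127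
/-- A coset. -/ def N5653 : Q := sm gd N3128
/-- A coset. -/ def N5654 : Q := sm gb N3129
/-- A coset. -/ def N5655 : Q := sm gd N3129
/-- A coset. -/ def N5656 : Q := sm ge N3129
/-- A coset. -/ def N5657 : Q := sm gf N3129
/-- A coset. -/ def N5658 : Q := sm gg N3129
/-- A coset. -/ def N5659 : Q := sm gd N3130
/-- A coset. -/ def N5660 : Q := sm gf N3130
/-- A coset. -/ def N5661 : Q := sm gg N3130
/-- A coset. -/ def N5662 : Q := sm gg N3131
/-- A coset. -/ def N5663 : Q := sm gd N3132
/-- A coset. -/ def N5664 : Q := sm gf N3132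
/-- A coset. -/ def N5665 : Q := sm gc N3133
/-- A coset. -/ def N5666 : Q := sm gf N3133
/-- A coset. -/ def N5667 : Q := sm gg N3133
/-- A coset. -/ def N5668 : Q := sm gd N3134
/-- A coset. -/ def N5669 : Q := sm gc N3135
/-- A coset. -/ def N5670 : Q := sm ge N3135
/-- A coset. -/ def N5671 : Q := sm gf N3135
/-- A coset. -/ def N5672 : Q := sm gd N3136
/-- A coset. -/ def N5673 : Q := sm gd N3137
/-- A coset. -/ def N5674 : Q := sm gf N3137
/-- A coset. -/ def N5675 : Q := sm gc N3138
/-- A coset. -/ def N5676 : Q := sm ge N3138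
/-- A coset. -/ def N5677 : Q := sm gf N3138
/-- A coset. -/ def N5678 : Q := sm gg N3138
/-- A coset. -/ def N5680 : Q := sm gf N3139
/-- A coset. -/ def N5682 : Q := sm gb N3141
/-- A coset. -/ def N5683 : Q := sm gd N3141
/-- A coset. -/ def N5684 : Q := sm ge N3141
/-- A coset. -/ def N5685 : Q := sm gf N3141
/-- A coset. -/ def N5686 : Q := sm gg N3141
/-- A coset. -/ def N5687 : Q := sm gd N3142
/-- A coset. -/ def N5688 : Q := sm gf N3142
/-- A coset. -/ def N5689 : Q := sm gg N3142
/-- A coset. -/ def N5690 : Q := sm gd N3143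
/-- A coset. -/ def N5691 : Q := sm gg N3143
/-- A coset. -/ def N5692 : Q := sm gf N3144
/-- A coset. -/ def N5703 : Q := sm gf N3149
/-- A coset. -/ def N5704 : Q := sm gg N3149
/-- A coset. -/ def N5710 : Q := sm gd N3151
/-- A coset. -/ def N5714 : Q := sm gd N3153
/-- A coset. -/ def N5717 : Q := sm gf N3154
/-- A coset. -/ def N5718 : Q := sm gg N3154
/-- A coset. -/ def N5723 : Q := sm gd N3156
/-- A coset. -/ def N5726 : Q := sm gg N3156
/-- A coset. -/ def N5727 : Q := sm ge N3157
/-- A coset. -/ def N5728 : Q := sm gf N3157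
/-- A coset. -/ def N5729 : Q := sm gg N3157
/-- A coset. -/ def N5737 : Q := sm gc N3161
/-- A coset. -/ def N5738 : Q := sm gf N3161
/-- A coset. -/ def N5739 : Q := sm gg N3161
/-- A coset. -/ def N5740 : Q := sm gd N3162
/-- A coset. -/ def N5742 : Q := sm gd N3164
/-- A coset. -/ def N5743 : Q := sm gc N3165
/-- A coset. -/ def N5744 : Q := sm ge N3165
/-- A coset. -/ def N5745 : Q := sm gf N3165
/-- A coset. -/ def N5747 : Q := sm gb N3167
/-- A coset. -/ def N5748 : Q := sm gd N3167
/-- A coset. -/ def N5749 : Q := sm gf N3167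
/-- A coset. -/ def N5750 : Q := sm gg N3167
/-- A coset. -/ def N5751 : Q := sm gg N3168
/-- A coset. -/ def N5752 : Q := sm gf N3169
/-- A coset. -/ def N5753 : Q := sm gb N3170
/-- A coset. -/ def N5755 : Q := sm ge N3170
/-- A coset. -/ def N5756 : Q := sm gf N3171
/-- A coset. -/ def N5757 : Q := sm ga N3173
/-- A coset. -/ def N5759 : Q := sm ge N3173
/-- A coset. -/ def N5760 : Q := sm gf N3173
/-- A coset. -/ def N5764 : Q := sm gg N3174
/-- A coset. -/ def N5765 : Q := sm gd N3177
/-- A coset. -/ def N5766 : Q := sm gf N3177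
/-- A coset. -/ def N5773 : Q := sm gd N3180
/-- A coset. -/ def N5775 : Q := sm gd N3181
/-- A coset. -/ def N5779 : Q := sm gd N3182
/-- A coset. -/ def N5788 : Q := sm gd N3186
/-- A coset. -/ def N5795 : Q := sm gg N3190
/-- A coset. -/ def N5796 : Q := sm gb N3191
/-- A coset. -/ def N5799 : Q := sm gf N3191
/-- A coset. -/ def N5804 : Q := sm gd N3193
/-- A coset. -/ def N5812 : Q := sm gg N3196
/-- A coset. -/ def N5817 : Q := sm gg N3197
/-- A coset. -/ def N5819 : Q := sm gf N3198
/-- A coset. -/ def N5832 : Q := sm gd N3204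
/-- A coset. -/ def N5833 : Q := sm gc N3205
/-- A coset. -/ def N5834 : Q := sm ge N3205
/-- A coset. -/ def N5835 : Q := sm gg N3205
/-- A coset. -/ def N5837 : Q := sm gd N3207
/-- A coset. -/ def N5847 : Q := sm gg N3212
/-- A coset. -/ def N5848 : Q := sm ga N3214
/-- A coset. -/ def N5849 : Q := sm gd N3214
/-- A coset. -/ def N5851 : Q := sm gg N3214
/-- A coset. -/ def N5854 : Q := sm gf N3215
/-- A coset. -/ def N5856 : Q := sm gd N3218
/-- A coset. -/ def N5857 : Q := sm gc N3219
/-- A coset. -/ def N5858 : Q := sm ge N3219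
/-- A coset. -/ def N5859 : Q := sm gf N3219
/-- A coset. -/ def N5860 : Q := sm gg N3219
/-- A coset. -/ def N5862 : Q := sm gg N3220
/-- A coset. -/ def N5864 : Q := sm gb N3222
/-- A coset. -/ def N5865 : Q := sm gd N3222
/-- A coset. -/ def N5866 : Q := sm ge N3222
/-- A coset. -/ def N5867 : Q := sm gf N3222
/-- A coset. -/ def N5868 : Q := sm gg N3222
/-- A coset. -/ def N5869 : Q := sm gd N3223
/-- A coset. -/ def N5870 : Q := sm gf N3223
/-- A coset. -/ def N5871 : Q := sm gg N3223
/-- A coset. -/ def N5872 : Q := sm gg N3224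
/-- A coset. -/ def N5873 : Q := sm gd N3225
/-- A coset. -/ def N5874 : Q := sm gf N3225
/-- A coset. -/ def N5878 : Q := sm gd N3227
/-- A coset. -/ def N5882 : Q := sm gc N3231
/-- A coset. -/ def N5884 : Q := sm gd N3232
/-- A coset. -/ def N5887 : Q := sm gg N3232
/-- A coset. -/ def N5888 : Q := sm gf N3233
/-- A coset. -/ def N5889 : Q := sm gg N3233
/-- A coset. -/ def N5891 : Q := sm gd N3235
/-- A coset. -/ def N5892 : Q := sm gf N3235
/-- A coset. -/ def N5893 : Q := sm gc N3236
/-- A coset. -/ def N5895 : Q := sm gf N3236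
/-- A coset. -/ def N5897 : Q := sm gd N3237
/-- A coset. -/ def N5901 : Q := sm gc N3238
/-- A coset. -/ def N5902 : Q := sm ge N3238
/-- A coset. -/ def N5903 : Q := sm gf N3238
/-- A coset. -/ def N5904 : Q := sm gg N3238
/-- A coset. -/ def N5906 : Q := sm gf N3239
/-- A coset. -/ def N5915 : Q := sm gd N3243
/-- A coset. -/ def N5916 : Q := sm gd N3244
/-- A coset. -/ def N5917 : Q := sm gd N3245
/-- A coset. -/ def N5919 : Q := sm ge N3246
/-- A coset. -/ def N5921 : Q := sm gd N3247
/-- A coset. -/ def N5930 : Q := sm ge N3251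
/-- A coset. -/ def N5932 : Q := sm gb N3252
/-- A coset. -/ def N5935 : Q := sm gf N3252
/-- A coset. -/ def N5936 : Q := sm gf N3253
/-- A coset. -/ def N5937 : Q := sm gd N3254
/-- A coset. -/ def N5944 : Q := sm gd N3257
/-- A coset. -/ def N5945 : Q := sm gf N3257
/-- A coset. -/ def N5946 : Q := sm gg N3257
/-- A coset. -/ def N5947 : Q := sm gd N3258
/-- A coset. -/ def N5948 : Q := sm gg N3258
/-- A coset. -/ def N5949 : Q := sm gd N3259
/-- A coset. -/ def N5951 : Q := sm gf N3260
/-- A coset. -/ def N5952 : Q := sm gg N3260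
/-- A coset. -/ def N5953 : Q := sm gd N3261
/-- A coset. -/ def N5955 : Q := sm gc N3263
/-- A coset. -/ def N5956 : Q := sm ge N3263
/-- A coset. -/ def N5957 : Q := sm gg N3263
/-- A coset. -/ def N5959 : Q := sm gc N3265
/-- A coset. -/ def N5960 : Q := sm ge N3265
/-- A coset. -/ def N5961 : Q := sm gf N3265
/-- A coset. -/ def N5963 : Q := sm gf N3267
/-- A coset. -/ def N5964 : Q := sm gg N3267
/-- A coset. -/ def N5965 : Q := sm gd N3268
/-- A coset. -/ def N5966 : Q := sm gd N3269
/-- A coset. -/ def N5967 : Q := sm gc N3270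
/-- A coset. -/ def N5968 : Q := sm gg N3270
/-- A coset. -/ def N5969 : Q := sm gc N3271
/-- A coset. -/ def N5970 : Q := sm ge N3271
/-- A coset. -/ def N5971 : Q := sm gf N3271
/-- A coset. -/ def N5972 : Q := sm gc N3272
/-- A coset. -/ def N5973 : Q := sm ge N3272
/-- A coset. -/ def N5974 : Q := sm gf N3272
/-- A coset. -/ def N5977 : Q := sm gd N3275
/-- A coset. -/ def N5978 : Q := sm gc N3276
/-- A coset. -/ def N5979 : Q := sm ge N3276
/-- A coset. -/ def N5980 : Q := sm gg N3276
/-- A coset. -/ def N5981 : Q := sm gd N3277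
/-- A coset. -/ def N5982 : Q := sm gf N3277
/-- A coset. -/ def N5984 : Q := sm gf N3278
/-- A coset. -/ def N5985 : Q := sm gg N3278
/-- A coset. -/ def N5986 : Q := sm gd N3279
/-- A coset. -/ def N5987 : Q := sm gg N3279
/-- A coset. -/ def N5991 : Q := sm gc N3282
/-- A coset. -/ def N5992 : Q := sm ge N3282
/-- A coset. -/ def N5993 : Q := sm gf N3282
/-- A coset. -/ def N5997 : Q := sm ge N3284
/-- A coset. -/ def N5999 : Q := sm gf N3285
/-- A coset. -/ def N6002 : Q := sm gd N3287
/-- A coset. -/ def N6003 : Q := sm ge N3287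
/-- A coset. -/ def N6005 : Q := sm gc N3288
/-- A coset. -/ def N6006 : Q := sm ge N3288
/-- A coset. -/ def N6007 : Q := sm gf N3288
/-- A coset. -/ def N6008 : Q := sm gg N3288
/-- A coset. -/ def N6009 : Q := sm gd N3289
/-- A coset. -/ def N6010 : Q := sm gf N3289
/-- A coset. -/ def N6011 : Q := sm gd N3290
/-- A coset. -/ def N6012 : Q := sm gd N3291
/-- A coset. -/ def N6013 : Q := sm gc N3292
/-- A coset. -/ def N6014 : Q := sm ge N3292
/-- A coset. -/ def N6015 : Q := sm gg N3292
/-- A coset. -/ def N6019 : Q := sm ge N3294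
/-- A coset. -/ def N6032 : Q := sm ge N3301
/-- A coset. -/ def N6034 : Q := sm gg N3301
/-- A coset. -/ def N6035 : Q := sm gf N3302
/-- A coset. -/ def N6038 : Q := sm gf N3304
/-- A coset. -/ def N6039 : Q := sm ga N3305
/-- A coset. -/ def N6040 : Q := sm gd N3305
/-- A coset. -/ def N6043 : Q := sm gc N3306
/-- A coset. -/ def N6044 : Q := sm ge N3306
/-- A coset. -/ def N6045 : Q := sm gf N3306
/-- A coset. -/ def N6046 : Q := sm gg N3306
/-- A coset. -/ def N6049 : Q := sm gf N3308
/-- A coset. -/ def N6051 : Q := sm gd N3314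
/-- A coset. -/ def N6052 : Q := sm gd N3315
/-- A coset. -/ def N6053 : Q := sm gd N3317
/-- A coset. -/ def N6055 : Q := sm gc N3319
/-- A coset. -/ def N6056 : Q := sm ge N3319
/-- A coset. -/ def N6057 : Q := sm gg N3319
/-- A coset. -/ def N6058 : Q := sm gd N3320
/-- A coset. -/ def N6059 : Q := sm gd N3321
/-- A coset. -/ def N6062 : Q := sm ge N3324
/-- A coset. -/ def N6063 : Q := sm gg N3324
/-- A coset. -/ def N6068 : Q := sm gg N3326
/-- A coset. -/ def N6069 : Q := sm gf N3327
/-- A coset. -/ def N6073 : Q := sm gb N3330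
/-- A coset. -/ def N6074 : Q := sm gd N3330
/-- A coset. -/ def N6075 : Q := sm ge N3330
/-- A coset. -/ def N6078 : Q := sm gf N3331
/-- A coset. -/ def N6082 : Q := sm gf N3333
/-- A coset. -/ def N6083 : Q := sm gc N3334
/-- A coset. -/ def N6086 : Q := sm ga N3335
/-- A coset. -/ def N6088 : Q := sm ge N3335
/-- A coset. -/ def N6096 : Q := sm gf N3337
/-- A coset. -/ def N6097 : Q := sm gg N3337
/-- A coset. -/ def N6099 : Q := sm gg N3338
/-- A coset. -/ def N6101 : Q := sm gf N3339
/-- A coset. -/ def N6102 : Q := sm gc N3340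
/-- A coset. -/ def N6112 : Q := sm gb N3346
/-- A coset. -/ def N6121 : Q := sm gg N3349
/-- A coset. -/ def N6122 : Q := sm gb N3350
/-- A coset. -/ def N6133 : Q := sm gg N3354
/-- A coset. -/ def N6141 : Q := sm gf N3358
/-- A coset. -/ def N6142 : Q := sm gg N3358
/-- A coset. -/ def N6144 : Q := sm gd N3360
/-- A coset. -/ def N6154 : Q := sm gg N3365
/-- A coset. -/ def N6155 : Q := sm gd N3366
/-- A coset. -/ def N6159 : Q := sm gg N3368
/-- A coset. -/ def N6161 : Q := sm gf N3369
/-- A coset. -/ def N6164 : Q := sm gd N3372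
/-- A coset. -/ def N6167 : Q := sm gf N3373
/-- A coset. -/ def N6170 : Q := sm gg N3374
/-- A coset. -/ def N6175 : Q := sm gg N3376
/-- A coset. -/ def N6177 : Q := sm gg N3377
/-- A coset. -/ def N6178 : Q := sm gd N3378
/-- A coset. -/ def N6180 : Q := sm gc N3379
/-- A coset. -/ def N6182 : Q := sm gg N3379
/-- A coset. -/ def N6185 : Q := sm gb N3382
/-- A coset. -/ def N6187 : Q := sm ge N3382
/-- A coset. -/ def N6191 : Q := sm ga N3385
/-- A coset. -/ def N6194 : Q := sm gg N3385
/-- A coset. -/ def N6197 : Q := sm gg N3386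
/-- A coset. -/ def N6200 : Q := sm gd N3388
/-- A coset. -/ def N6218 : Q := sm gg N3400
/-- A coset. -/ def N6220 : Q := sm gd N3401
/-- A coset. -/ def N6222 : Q := sm gf N3401
/-- A coset. -/ def N6230 : Q := sm gf N3405
/-- A coset. -/ def N6238 : Q := sm gd N3412
/-- A coset. -/ def N6239 : Q := sm gd N3413
/-- A coset. -/ def N6240 : Q := sm gd N3415
/-- A coset. -/ def N6241 : Q := sm gd N3416
/-- A coset. -/ def N6242 : Q := sm gc N3417
/-- A coset. -/ def N6243 : Q := sm ge N3417
/-- A coset. -/ def N6245 : Q := sm gd N3418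
/-- A coset. -/ def N6247 : Q := sm ge N3420
/-- A coset. -/ def N6253 : Q := sm gg N3423
/-- A coset. -/ def N6260 : Q := sm gd N3428
/-- A coset. -/ def N6264 : Q := sm gg N3434
/-- A coset. -/ def N6271 : Q := sm gf N3444
/-- A coset. -/ def N6277 : Q := sm gb N3450
/-- A coset. -/ def N6278 : Q := sm gc N3451
/-- A coset. -/ def N6279 : Q := sm gg N3451
/-- A coset. -/ def N6283 : Q := sm gc N3455
/-- A coset. -/ def N6292 : Q := sm gd N3460
/-- A coset. -/ def N6300 : Q := sm gd N3466
/-- A coset. -/ def N6302 : Q := sm gf N3467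
/-- A coset. -/ def N6304 : Q := sm gf N3468
/-- A coset. -/ def N6315 : Q := sm gb N3475
/-- A coset. -/ def N6317 : Q := sm gf N3475
/-- A coset. -/ def N6318 : Q := sm gd N3477
/-- A coset. -/ def N6320 : Q := sm gg N3477
/-- A coset. -/ def N6322 : Q := sm gg N3478
/-- A coset. -/ def N6332 : Q := sm gc N3496
/-- A coset. -/ def N6333 : Q := sm gf N3496
/-- A coset. -/ def N6334 : Q := sm gd N3498
/-- A coset. -/ def N6337 : Q := sm gd N3499
/-- A coset. -/ def N6340 : Q := sm gg N3501
/-- A coset. -/ def N6342 : Q := sm gc N3503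
/-- A coset. -/ def N6350 : Q := sm ge N3510
/-- A coset. -/ def N6353 : Q := sm gf N3511
/-- A coset. -/ def N6354 : Q := sm gg N3511
/-- A coset. -/ def N6355 : Q := sm gg N3512
/-- A coset. -/ def N6358 : Q := sm gg N3514
/-- A coset. -/ def N6359 : Q := sm ga N3515
/-- A coset. -/ def N6383 : Q := sm gb N3529
/-- A coset. -/ def N6384 : Q := sm ge N3529
/-- A coset. -/ def N6393 : Q := sm gc N3538
/-- A coset. -/ def N6394 : Q := sm gf N3539
/-- A coset. -/ def N6397 : Q := sm gf N3545
/-- A coset. -/ def N6398 : Q := sm ge N3548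
/-- A coset. -/ def N6402 : Q := sm gf N3551
/-- A coset. -/ def N6406 : Q := sm gf N3552
/-- A coset. -/ def N6408 : Q := sm gd N3553
/-- A coset. -/ def N6409 : Q := sm gf N3553
/-- A coset. -/ def N6410 : Q := sm gg N3553
/-- A coset. -/ def N6411 : Q := sm gg N3554
/-- A coset. -/ def N6412 : Q := sm gf N3555
/-- A coset. -/ def N6420 : Q := sm gd N3563
/-- A coset. -/ def N6422 : Q := sm gd N3566
/-- A coset. -/ def N6424 : Q := sm gd N3567
/-- A coset. -/ def N6426 : Q := sm gc N3569
/-- A coset. -/ def N6428 : Q := sm gb N3571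
/-- A coset. -/ def N6429 : Q := sm gc N3574
/-- A coset. -/ def N6431 : Q := sm gf N3574
/-- A coset. -/ def N6437 : Q := sm gg N3584
/-- A coset. -/ def N6440 : Q := sm ge N3588
/-- A coset. -/ def N6444 : Q := sm gd N3591
/-- A coset. -/ def N6445 : Q := sm gc N3593
/-- A coset. -/ def N6446 : Q := sm gf N3593
/-- A coset. -/ def N6448 : Q := sm gd N3595
/-- A coset. -/ def N6451 : Q := sm gc N3596
/-- A coset. -/ def N6452 : Q := sm ge N3596
/-- A coset. -/ def N6453 : Q := sm gf N3596
/-- A coset. -/ def N6454 : Q := sm gg N3596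
/-- A coset. -/ def N6458 : Q := sm gf N3598
/-- A coset. -/ def N6460 : Q := sm gc N3600
/-- A coset. -/ def N6461 : Q := sm ge N3600
/-- A coset. -/ def N6462 : Q := sm gf N3600
/-- A coset. -/ def N6466 : Q := sm ge N3602
/-- A coset. -/ def N6467 : Q := sm gf N3602
/-- A coset. -/ def N6469 : Q := sm gg N3605
/-- A coset. -/ def N6471 : Q := sm gd N3607
/-- A coset. -/ def N6472 : Q := sm gd N3611
/-- A coset. -/ def N6473 : Q := sm ge N3612
/-- A coset. -/ def N6474 : Q := sm gb N3613
/-- A coset. -/ def N6475 : Q := sm gd N3613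
/-- A coset. -/ def N6478 : Q := sm gd N3620
/-- A coset. -/ def N6479 : Q := sm ge N3620
/-- A coset. -/ def N6480 : Q := sm ga N3622
/-- A coset. -/ def N6481 : Q := sm ge N3622
/-- A coset. -/ def N6483 : Q := sm gd N3624
/-- A coset. -/ def N6489 : Q := sm ga N3632
/-- A coset. -/ def N6497 : Q := sm gg N3633
/-- A coset. -/ def N6500 : Q := sm gg N3634
/-- A coset. -/ def N6505 : Q := sm gd N3637
/-- A coset. -/ def N6510 : Q := sm gb N3642
/-- A coset. -/ def N6514 : Q := sm gg N3643
/-- A coset. -/ def N6516 : Q := sm gg N3646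
/-- A coset. -/ def N6517 : Q := sm gd N3647
/-- A coset. -/ def N6519 : Q := sm gc N3650
/-- A coset. -/ def N6520 : Q := sm ge N3651
/-- A coset. -/ def N6521 : Q := sm gd N3653
/-- A coset. -/ def N6522 : Q := sm gf N3655
/-- A coset. -/ def N6525 : Q := sm ga N3663
/-- A coset. -/ def N6526 : Q := sm gd N3667
/-- A coset. -/ def N6529 : Q := sm gc N3668
/-- A coset. -/ def N6532 : Q := sm gg N3668
/-- A coset. -/ def N6537 : Q := sm gd N3672
/-- A coset. -/ def N6538 : Q := sm gc N3674
/-- A coset. -/ def N6540 : Q := sm gf N3674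
/-- A coset. -/ def N6550 : Q := sm gd N3679
/-- A coset. -/ def N6551 : Q := sm gf N3679
/-- A coset. -/ def N6556 : Q := sm gf N3681
/-- A coset. -/ def N6559 : Q := sm gg N3682
/-- A coset. -/ def N6572 : Q := sm ge N3690
/-- A coset. -/ def N6573 : Q := sm gb N3691
/-- A coset. -/ def N6579 : Q := sm gd N3695
/-- A coset. -/ def N6580 : Q := sm gg N3695
/-- A coset. -/ def N6581 : Q := sm gc N3696
/-- A coset. -/ def N6582 : Q := sm ge N3696
/-- A coset. -/ def N6583 : Q := sm gf N3696
/-- A coset. -/ def N6584 : Q := sm gg N3696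
/-- A coset. -/ def N6586 : Q := sm gc N3698
/-- A coset. -/ def N6587 : Q := sm ge N3698
/-- A coset. -/ def N6590 : Q := sm ge N3699
/-- A coset. -/ def N6592 : Q := sm gf N3700
/-- A coset. -/ def N6595 : Q := sm ge N3702
/-- A coset. -/ def N6602 : Q := sm gf N3704
/-- A coset. -/ def N6607 : Q := sm gd N3709
/-- A coset. -/ def N6611 : Q := sm ge N3711
/-- A coset. -/ def N6612 : Q := sm gf N3711
/-- A coset. -/ def N6615 : Q := sm gd N3717
/-- A coset. -/ def N6617 : Q := sm gf N3720
/-- A coset. -/ def N6625 : Q := sm gg N3730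
/-- A coset. -/ def N6626 : Q := sm gf N3731
/-- A coset. -/ def N6627 : Q := sm gf N3732
/-- A coset. -/ def N6628 : Q := sm gg N3732
/-- A coset. -/ def N6630 : Q := sm gf N3735
/-- A coset. -/ def N6632 : Q := sm gf N3736
/-- A coset. -/ def N6637 : Q := sm gf N3739
/-- A coset. -/ def N6638 : Q := sm gf N3740
/-- A coset. -/ def N6640 : Q := sm gg N3744
/-- A coset. -/ def N6642 : Q := sm ge N3745
/-- A coset. -/ def N6643 : Q := sm gg N3745
/-- A coset. -/ def N6644 : Q := sm gd N3747
/-- A coset. -/ def N6646 : Q := sm gf N3748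
/-- A coset. -/ def N6647 : Q := sm gg N3748
/-- A coset. -/ def N6648 : Q := sm gb N3753
/-- A coset. -/ def N6650 : Q := sm ge N3753
/-- A coset. -/ def N6652 : Q := sm ga N3756
/-- A coset. -/ def N6654 : Q := sm ge N3756
/-- A coset. -/ def N6655 : Q := sm gc N3757
/-- A coset. -/ def N6662 : Q := sm gf N3759
/-- A coset. -/ def N6668 : Q := sm gc N3770
/-- A coset. -/ def N6671 : Q := sm gd N3772
/-- A coset. -/ def N6674 : Q := sm gc N3773
/-- A coset. -/ def N6675 : Q := sm ge N3773
/-- A coset. -/ def N6678 : Q := sm gd N3774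
/-- A coset. -/ def N6679 : Q := sm gf N3774
/-- A coset. -/ def N6685 : Q := sm gd N3777
/-- A coset. -/ def N6686 : Q := sm gd N3778
/-- A coset. -/ def N6689 : Q := sm gb N3782
/-- A coset. -/ def N6691 : Q := sm ge N3782
/-- A coset. -/ def N6692 : Q := sm gd N3784
/-- A coset. -/ def N6693 : Q := sm gf N3784
/-- A coset. -/ def N6696 : Q := sm ge N3785
/-- A coset. -/ def N6699 : Q := sm gd N3786
/-- A coset. -/ def N6701 : Q := sm gg N3786
/-- A coset. -/ def N6703 : Q := sm gg N3787
/-- A coset. -/ def N6707 : Q := sm gd N3789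
/-- A coset. -/ def N6709 : Q := sm gf N3789
/-- A coset. -/ def N6713 : Q := sm gg N3790
/-- A coset. -/ def N6715 : Q := sm gg N3791
/-- A coset. -/ def N6716 : Q := sm gd N3792
/-- A coset. -/ def N6731 : Q := sm gd N3800
/-- A coset. -/ def N6733 : Q := sm gg N3800
/-- A coset. -/ def N6743 : Q := sm gg N3805
/-- A coset. -/ def N6744 : Q := sm gd N3807
/-- A coset. -/ def N6746 : Q := sm gf N3808
/-- A coset. -/ def N6747 : Q := sm gd N3809
/-- A coset. -/ def N6748 : Q := sm gf N3809
/-- A coset. -/ def N6753 : Q := sm gg N3810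
/-- A coset. -/ def N6765 : Q := sm ga N3819
/-- A coset. -/ def N6767 : Q := sm ge N3819
/-- A coset. -/ def N6775 : Q := sm gc N3824
/-- A coset. -/ def N6784 : Q := sm ge N3839
/-- A coset. -/ def N6785 : Q := sm gg N3839
/-- A coset. -/ def N6787 : Q := sm ge N3841
/-- A coset. -/ def N6789 : Q := sm gc N3847
/-- A coset. -/ def N6791 : Q := sm gf N3848
/-- A coset. -/ def N6792 : Q := sm gc N3850
/-- A coset. -/ def N6800 : Q := sm gf N3860
/-- A coset. -/ def N6802 : Q := sm ge N3863
/-- A coset. -/ def N6804 : Q := sm gf N3864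
/-- A coset. -/ def N6807 : Q := sm gf N3868
/-- A coset. -/ def N6816 : Q := sm gd N3879
/-- A coset. -/ def N6817 : Q := sm ge N3879
/-- A coset. -/ def N6824 : Q := sm gf N3881
/-- A coset. -/ def N6826 : Q := sm gg N3882
/-- A coset. -/ def N6828 : Q := sm gf N3888
/-- A coset. -/ def N6830 : Q := sm gg N3891
/-- A coset. -/ def N6832 : Q := sm ge N3892
/-- A coset. -/ def N6833 : Q := sm gf N3892
/-- A coset. -/ def N6837 : Q := sm ge N3894
/-- A coset. -/ def N6839 : Q := sm gg N3894
/-- A coset. -/ def N6840 : Q := sm gd N3895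
/-- A coset. -/ def N6841 : Q := sm gf N3895
/-- A coset. -/ def N6843 : Q := sm gd N3896
/-- A coset. -/ def N6845 : Q := sm gd N3897
/-- A coset. -/ def N6846 : Q := sm gf N3897
/-- A coset. -/ def N6850 : Q := sm gc N3900
/-- A coset. -/ def N6851 : Q := sm ge N3900
/-- A coset. -/ def N6852 : Q := sm gf N3900
/-- A coset. -/ def N6854 : Q := sm ge N3901
/-- A coset. -/ def N6875 : Q := sm gf N3914
/-- A coset. -/ def N6876 : Q := sm gf N3915
/-- A coset. -/ def N6898 : Q := sm gd N3931
/-- A coset. -/ def N6947 : Q := sm ge N3952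
/-- A coset. -/ def N6948 : Q := sm gg N3952
/-- A coset. -/ def N6950 : Q := sm gc N3956
/-- A coset. -/ def N6959 : Q := sm gg N3959
/-- A coset. -/ def N6966 : Q := sm gc N3964
/-- A coset. -/ def N6977 : Q := sm gc N3984
/-- A coset. -/ def N6980 : Q := sm gg N3992
/-- A coset. -/ def N6981 : Q := sm gd N3995
/-- A coset. -/ def N6986 : Q := sm gf N4002
/-- A coset. -/ def N7003 : Q := sm gf N4012
/-- A coset. -/ def N7009 : Q := sm gf N4014
/-- A coset. -/ def N7018 : Q := sm gd N4019
/-- A coset. -/ def N7029 : Q := sm gf N4028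
/-- A coset. -/ def N7033 : Q := sm gf N4030
/-- A coset. -/ def N7034 : Q := sm gc N4031
/-- A coset. -/ def N7044 : Q := sm gg N4042
/-- A coset. -/ def N7046 : Q := sm gg N4043
/-- A coset. -/ def N7047 : Q := sm gc N4048
/-- A coset. -/ def N7053 : Q := sm gf N4053
/-- A coset. -/ def N7054 : Q := sm gf N4054
/-- A coset. -/ def N7058 : Q := sm gg N4064
/-- A coset. -/ def N7060 : Q := sm gf N4065
/-- A coset. -/ def N7077 : Q := sm gc N4074
/-- A coset. -/ def N7088 : Q := sm gb N4078
/-- A coset. -/ def N7090 : Q := sm ge N4078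
/-- A coset. -/ def N7093 : Q := sm gd N4079
/-- A coset. -/ def N7101 : Q := sm gg N4082
/-- A coset. -/ def N7107 : Q := sm ge N4085
/-- A coset. -/ def N7112 : Q := sm gg N4086
/-- A coset. -/ def N7114 : Q := sm gg N4087
/-- A coset. -/ def N7118 : Q := sm gf N4089
/-- A coset. -/ def N7123 : Q := sm gc N4093
/-- A coset. -/ def N7124 : Q := sm ge N4093
/-- A coset. -/ def N7125 : Q := sm gf N4093
/-- A coset. -/ def N7129 : Q := sm gf N4095
/-- A coset. -/ def N7133 : Q := sm gf N4097
/-- A coset. -/ def N7139 : Q := sm ge N4099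
/-- A coset. -/ def N7145 : Q := sm gb N4103
/-- A coset. -/ def N7147 : Q := sm gb N4104
/-- A coset. -/ def N7159 : Q := sm gf N4112
/-- A coset. -/ def N7161 : Q := sm gb N4121
/-- A coset. -/ def N7162 : Q := sm gd N4121
/-- A coset. -/ def N7163 : Q := sm ge N4121
/-- A coset. -/ def N7164 : Q := sm gf N4121
/-- A coset. -/ def N7169 : Q := sm gg N4124
/-- A coset. -/ def N7170 : Q := sm gd N4125
/-- A coset. -/ def N7171 : Q := sm gf N4125
/-- A coset. -/ def N7172 : Q := sm gg N4125
/-- A coset. -/ def N7176 : Q := sm gf N4127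
/-- A coset. -/ def N7178 : Q := sm gd N4132
/-- A coset. -/ def N7179 : Q := sm gd N4527
/-- A coset. -/ def N7180 : Q := sm gd N4529
/-- A coset. -/ def N7181 : Q := sm gd N4530
/-- A coset. -/ def N7182 : Q := sm gc N4531
/-- A coset. -/ def N7183 : Q := sm gd N4532
/-- A coset. -/ def N7184 : Q := sm gd N4534
/-- A coset. -/ def N7185 : Q := sm gb N4535
/-- A coset. -/ def N7186 : Q := sm ge N4535
/-- A coset. -/ def N7187 : Q := sm gb N4537
/-- A coset. -/ def N7188 : Q := sm gd N4537
/-- A coset. -/ def N7189 : Q := sm ge N4537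
/-- A coset. -/ def N7190 : Q := sm gc N4541
/-- A coset. -/ def N7191 : Q := sm ge N4541
/-- A coset. -/ def N7192 : Q := sm gg N4541
/-- A coset. -/ def N7193 : Q := sm gc N4542
/-- A coset. -/ def N7194 : Q := sm ge N4542
/-- A coset. -/ def N7195 : Q := sm gf N4542
/-- A coset. -/ def N7196 : Q := sm gb N4543
/-- A coset. -/ def N7197 : Q := sm gd N4543
/-- A coset. -/ def N7198 : Q := sm ge N4543
/-- A coset. -/ def N7199 : Q := sm gg N4543
/-- A coset. -/ def N7200 : Q := sm gd N4545
/-- A coset. -/ def N7201 : Q := sm ge N4546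
/-- A coset. -/ def N7202 : Q := sm gb N4547
/-- A coset. -/ def N7203 : Q := sm gd N4547
/-- A coset. -/ def N7204 : Q := sm ge N4547
/-- A coset. -/ def N7205 : Q := sm gf N4547
/-- A coset. -/ def N7206 : Q := sm gd N4549
/-- A coset. -/ def N7207 : Q := sm gc N4550
/-- A coset. -/ def N7208 : Q := sm ge N4550
/-- A coset. -/ def N7209 : Q := sm ga N4562
/-- A coset. -/ def N7210 : Q := sm gd N4562
/-- A coset. -/ def N7211 : Q := sm ge N4562
/-- A coset. -/ def N7212 : Q := sm ge N4563
/-- A coset. -/ def N7213 : Q := sm gf N4563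
/-- A coset. -/ def N7214 : Q := sm gg N4563
/-- A coset. -/ def N7215 : Q := sm gd N4564
/-- A coset. -/ def N7216 : Q := sm ga N4565
/-- A coset. -/ def N7217 : Q := sm gd N4565
/-- A coset. -/ def N7218 : Q := sm ge N4565
/-- A coset. -/ def N7219 : Q := sm gd N4567
/-- A coset. -/ def N7220 : Q := sm gd N4592
/-- A coset. -/ def N7221 : Q := sm gd N4593
/-- A coset. -/ def N7222 : Q := sm gd N4665
/-- A coset. -/ def N7223 : Q := sm gf N4665
/-- A coset. -/ def N7224 : Q := sm gd N4667
/-- A coset. -/ def N7225 : Q := sm gc N4671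
/-- A coset. -/ def N7226 : Q := sm gd N4672
/-- A coset. -/ def N7227 : Q := sm gd N4673
/-- A coset. -/ def N7228 : Q := sm gc N4675
/-- A coset. -/ def N7229 : Q := sm ge N4675
/-- A coset. -/ def N7230 : Q := sm gd N4677
/-- A coset. -/ def N7231 : Q := sm ge N4677
/-- A coset. -/ def N7232 : Q := sm gd N4685
/-- A coset. -/ def N7233 : Q := sm gc N4687
/-- A coset. -/ def N7234 : Q := sm gc N4688
/-- A coset. -/ def N7235 : Q := sm gb N4689
/-- A coset. -/ def N7236 : Q := sm gd N4689
/-- A coset. -/ def N7237 : Q := sm ge N4689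
/-- A coset. -/ def N7238 : Q := sm ga N4695
/-- A coset. -/ def N7239 : Q := sm gd N4695
/-- A coset. -/ def N7240 : Q := sm ge N4695
/-- A coset. -/ def N7241 : Q := sm gc N4696
/-- A coset. -/ def N7242 : Q := sm ge N4696
/-- A coset. -/ def N7243 : Q := sm gf N4696
/-- A coset. -/ def N7244 : Q := sm gg N4696
/-- A coset. -/ def N7245 : Q := sm gc N4699
/-- A coset. -/ def N7246 : Q := sm gb N4700
/-- A coset. -/ def N7247 : Q := sm ge N4700
/-- A coset. -/ def N7248 : Q := sm gd N4702
/-- A coset. -/ def N7249 : Q := sm gc N4703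
/-- A coset. -/ def N7250 : Q := sm gf N4703
/-- A coset. -/ def N7251 : Q := sm gc N4706
/-- A coset. -/ def N7252 : Q := sm gc N4714
/-- A coset. -/ def N7253 : Q := sm ge N4714
/-- A coset. -/ def N7254 : Q := sm gb N4718
/-- A coset. -/ def N7255 : Q := sm gc N4719
/-- A coset. -/ def N7256 : Q := sm gd N4722
/-- A coset. -/ def N7257 : Q := sm ge N4723
/-- A coset. -/ def N7258 : Q := sm gg N4723
/-- A coset. -/ def N7259 : Q := sm gd N4724
/-- A coset. -/ def N7260 : Q := sm gd N4725
/-- A coset. -/ def N7261 : Q := sm gc N4726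
/-- A coset. -/ def N7262 : Q := sm ge N4726
/-- A coset. -/ def N7263 : Q := sm gf N4726
/-- A coset. -/ def N7264 : Q := sm gd N4727
/-- A coset. -/ def N7265 : Q := sm gd N4728
/-- A coset. -/ def N7266 : Q := sm gc N4729
/-- A coset. -/ def N7267 : Q := sm ge N4729
/-- A coset. -/ def N7268 : Q := sm gg N4729
/-- A coset. -/ def N7269 : Q := sm gd N4730
/-- A coset. -/ def N7270 : Q := sm ge N4731
/-- A coset. -/ def N7271 : Q := sm gg N4731
/-- A coset. -/ def N7272 : Q := sm gd N4732
/-- A coset. -/ def N7273 : Q := sm gg N4732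
/-- A coset. -/ def N7274 : Q := sm gg N4733
/-- A coset. -/ def N7275 : Q := sm gf N4734
/-- A coset. -/ def N7276 : Q := sm gd N4736
/-- A coset. -/ def N7277 : Q := sm gc N4737
/-- A coset. -/ def N7278 : Q := sm gf N4737
/-- A coset. -/ def N7279 : Q := sm gd N4738
/-- A coset. -/ def N7280 : Q := sm gc N4742
/-- A coset. -/ def N7281 : Q := sm gf N4742
/-- A coset. -/ def N7282 : Q := sm gb N4757
/-- A coset. -/ def N7283 : Q := sm gd N4757
/-- A coset. -/ def N7284 : Q := sm ge N4757
/-- A coset. -/ def N7285 : Q := sm gg N4757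
/-- A coset. -/ def N7286 : Q := sm gf N4758
/-- A coset. -/ def N7287 : Q := sm gg N4758
/-- A coset. -/ def N7288 : Q := sm gf N4760
/-- A coset. -/ def N7289 : Q := sm gd N4817
/-- A coset. -/ def N7290 : Q := sm gc N4818
/-- A coset. -/ def N7291 : Q := sm gc N4819
/-- A coset. -/ def N7292 : Q := sm ge N4819
/-- A coset. -/ def N7293 : Q := sm ge N4820
/-- A coset. -/ def N7294 : Q := sm gd N4825
/-- A coset. -/ def N7295 : Q := sm gd N4838
/-- A coset. -/ def N7296 : Q := sm gd N5063
/-- A coset. -/ def N7297 : Q := sm gd N5064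
/-- A coset. -/ def N7298 : Q := sm gg N5066
/-- A coset. -/ def N7299 : Q := sm gc N5070
/-- A coset. -/ def N7300 : Q := sm gg N5070
/-- A coset. -/ def N7301 : Q := sm gd N5074
/-- A coset. -/ def N7302 : Q := sm gc N5077
/-- A coset. -/ def N7303 : Q := sm gd N5079
/-- A coset. -/ def N7304 : Q := sm ge N5081
/-- A coset. -/ def N7305 : Q := sm ge N5086
/-- A coset. -/ def N7306 : Q := sm gb N5087
/-- A coset. -/ def N7307 : Q := sm gf N5093
/-- A coset. -/ def N7308 : Q := sm gf N5097
/-- A coset. -/ def N7309 : Q := sm gc N5102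
/-- A coset. -/ def N7310 : Q := sm gf N5102
/-- A coset. -/ def N7311 : Q := sm gc N5103
/-- A coset. -/ def N7312 : Q := sm ge N5103
/-- A coset. -/ def N7313 : Q := sm gg N5103
/-- A coset. -/ def N7314 : Q := sm gb N5104
/-- A coset. -/ def N7315 : Q := sm gd N5104
/-- A coset. -/ def N7316 : Q := sm ge N5104
/-- A coset. -/ def N7317 : Q := sm gg N5104
/-- A coset. -/ def N7318 : Q := sm gg N5105
/-- A coset. -/ def N7319 : Q := sm gf N5106
/-- A coset. -/ def N7320 : Q := sm ge N5111
/-- A coset. -/ def N7321 : Q := sm gf N5114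
/-- A coset. -/ def N7322 : Q := sm ge N5115
/-- A coset. -/ def N7323 : Q := sm gc N5116
/-- A coset. -/ def N7324 : Q := sm ge N5116
/-- A coset. -/ def N7325 : Q := sm gd N5117
/-- A coset. -/ def N7326 : Q := sm gc N5120
/-- A coset. -/ def N7327 : Q := sm gf N5120
/-- A coset. -/ def N7328 : Q := sm gd N5121
/-- A coset. -/ def N7329 : Q := sm gc N5122
/-- A coset. -/ def N7330 : Q := sm ge N5123
/-- A coset. -/ def N7331 : Q := sm gf N5123
/-- A coset. -/ def N7332 : Q := sm gc N5124
/-- A coset. -/ def N7333 : Q := sm ge N5124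
/-- A coset. -/ def N7334 : Q := sm gg N5124
/-- A coset. -/ def N7335 : Q := sm gd N5126
/-- A coset. -/ def N7336 : Q := sm ge N5126
/-- A coset. -/ def N7337 : Q := sm gg N5126
/-- A coset. -/ def N7338 : Q := sm gd N5127
/-- A coset. -/ def N7339 : Q := sm gd N5129
/-- A coset. -/ def N7340 : Q := sm gc N5130
/-- A coset. -/ def N7341 : Q := sm gf N5130
/-- A coset. -/ def N7342 : Q := sm gg N5130
/-- A coset. -/ def N7343 : Q := sm gc N5133
/-- A coset. -/ def N7344 : Q := sm ge N5133
/-- A coset. -/ def N7345 : Q := sm gc N5134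
/-- A coset. -/ def N7346 : Q := sm gf N5134
/-- A coset. -/ def N7347 : Q := sm gc N5139
/-- A coset. -/ def N7348 : Q := sm gg N5141
/-- A coset. -/ def N7349 : Q := sm gd N5142
/-- A coset. -/ def N7350 : Q := sm gf N5143
/-- A coset. -/ def N7351 : Q := sm gb N5147
/-- A coset. -/ def N7352 : Q := sm ge N5147
/-- A coset. -/ def N7353 : Q := sm gf N5147
/-- A coset. -/ def N7354 : Q := sm gc N5150
/-- A coset. -/ def N7355 : Q := sm gg N5150
/-- A coset. -/ def N7356 : Q := sm gc N5152
/-- A coset. -/ def N7357 : Q := sm gb N5154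
/-- A coset. -/ def N7358 : Q := sm gg N5154
/-- A coset. -/ def N7359 : Q := sm gb N5156
/-- A coset. -/ def N7360 : Q := sm gd N5156
/-- A coset. -/ def N7361 : Q := sm gb N5161
/-- A coset. -/ def N7362 : Q := sm gg N5161
/-- A coset. -/ def N7363 : Q := sm gc N5164
/-- A coset. -/ def N7364 : Q := sm ge N5164
/-- A coset. -/ def N7365 : Q := sm gf N5164
/-- A coset. -/ def N7366 : Q := sm gf N5167
/-- A coset. -/ def N7367 : Q := sm gd N5168
/-- A coset. -/ def N7368 : Q := sm gg N5168
/-- A coset. -/ def N7369 : Q := sm gf N5171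
/-- A coset. -/ def N7370 : Q := sm gc N5176
/-- A coset. -/ def N7371 : Q := sm ge N5176
/-- A coset. -/ def N7372 : Q := sm gg N5176
/-- A coset. -/ def N7373 : Q := sm gc N5177
/-- A coset. -/ def N7374 : Q := sm gd N5184
/-- A coset. -/ def N7375 : Q := sm gc N5186
/-- A coset. -/ def N7376 : Q := sm ge N5186
/-- A coset. -/ def N7377 : Q := sm gc N5188
/-- A coset. -/ def N7378 : Q := sm gb N5195
/-- A coset. -/ def N7379 : Q := sm gd N5195
/-- A coset. -/ def N7380 : Q := sm ge N5195
/-- A coset. -/ def N7381 : Q := sm gg N5195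
/-- A coset. -/ def N7382 : Q := sm gb N5199
/-- A coset. -/ def N7383 : Q := sm gd N5199
/-- A coset. -/ def N7384 : Q := sm gd N5201
/-- A coset. -/ def N7385 : Q := sm gc N5203
/-- A coset. -/ def N7386 : Q := sm ge N5203
/-- A coset. -/ def N7387 : Q := sm gb N5205
/-- A coset. -/ def N7388 : Q := sm gd N5205
/-- A coset. -/ def N7389 : Q := sm ge N5222
/-- A coset. -/ def N7390 : Q := sm gd N5228
/-- A coset. -/ def N7391 : Q := sm gc N5233
/-- A coset. -/ def N7392 : Q := sm ge N5233
/-- A coset. -/ def N7393 : Q := sm gf N5233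
/-- A coset. -/ def N7394 : Q := sm gd N5238
/-- A coset. -/ def N7395 : Q := sm ge N5240
/-- A coset. -/ def N7396 : Q := sm gg N5240
/-- A coset. -/ def N7397 : Q := sm gb N5243
/-- A coset. -/ def N7398 : Q := sm gd N5243
/-- A coset. -/ def N7399 : Q := sm ga N5259
/-- A coset. -/ def N7400 : Q := sm ge N5259
/-- A coset. -/ def N7401 : Q := sm gg N5259
/-- A coset. -/ def N7402 : Q := sm gg N5261
/-- A coset. -/ def N7403 : Q := sm gd N5262
/-- A coset. -/ def N7404 : Q := sm gf N5262
/-- A coset. -/ def N7405 : Q := sm gf N5282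
/-- A coset. -/ def N7406 : Q := sm gf N5283
/-- A coset. -/ def N7407 : Q := sm gg N5286
/-- A coset. -/ def N7408 : Q := sm gf N5287
/-- A coset. -/ def N7409 : Q := sm ga N5288
/-- A coset. -/ def N7410 : Q := sm gd N5292
/-- A coset. -/ def N7411 : Q := sm gd N5293
/-- A coset. -/ def N7412 : Q := sm gd N5302
/-- A coset. -/ def N7413 : Q := sm gg N5302
/-- A coset. -/ def N7414 : Q := sm ge N5303
/-- A coset. -/ def N7415 : Q := sm gf N5303
/-- A coset. -/ def N7416 : Q := sm gg N5303
/-- A coset. -/ def N7417 : Q := sm gd N5305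
/-- A coset. -/ def N7418 : Q := sm gd N5310
/-- A coset. -/ def N7419 : Q := sm gg N5310
/-- A coset. -/ def N7420 : Q := sm ge N5311
/-- A coset. -/ def N7421 : Q := sm gf N5311
/-- A coset. -/ def N7422 : Q := sm gd N5312
/-- A coset. -/ def N7423 : Q := sm gg N5312
/-- A coset. -/ def N7424 : Q := sm gd N5314
/-- A coset. -/ def N7425 : Q := sm gf N5314
/-- A coset. -/ def N7426 : Q := sm gg N5314
/-- A coset. -/ def N7427 : Q := sm gf N5316
/-- A coset. -/ def N7428 : Q := sm gc N5317
/-- A coset. -/ def N7429 : Q := sm gf N5317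
/-- A coset. -/ def N7430 : Q := sm gg N5317
/-- A coset. -/ def N7431 : Q := sm gd N5318
/-- A coset. -/ def N7432 : Q := sm ge N5321
/-- A coset. -/ def N7433 : Q := sm ge N5325
/-- A coset. -/ def N7434 : Q := sm gd N5328
/-- A coset. -/ def N7435 : Q := sm gc N5336
/-- A coset. -/ def N7436 : Q := sm ge N5340
/-- A coset. -/ def N7437 : Q := sm gd N5341
/-- A coset. -/ def N7438 : Q := sm gd N5343
/-- A coset. -/ def N7439 : Q := sm gc N5344
/-- A coset. -/ def N7440 : Q := sm ge N5346
/-- A coset. -/ def N7441 : Q := sm gf N5346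
/-- A coset. -/ def N7442 : Q := sm gd N5347
/-- A coset. -/ def N7443 : Q := sm gb N5351
/-- A coset. -/ def N7444 : Q := sm ge N5351
/-- A coset. -/ def N7445 : Q := sm gf N5351
/-- A coset. -/ def N7446 : Q := sm gg N5351
/-- A coset. -/ def N7447 : Q := sm gf N5352
/-- A coset. -/ def N7448 : Q := sm gg N5352
/-- A coset. -/ def N7449 : Q := sm gg N5353
/-- A coset. -/ def N7450 : Q := sm gb N5359
/-- A coset. -/ def N7451 : Q := sm ge N5359
/-- A coset. -/ def N7452 : Q := sm gf N5359
/-- A coset. -/ def N7453 : Q := sm gg N5359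
/-- A coset. -/ def N7454 : Q := sm gf N5360
/-- A coset. -/ def N7455 : Q := sm gg N5360
/-- A coset. -/ def N7456 : Q := sm gg N5361
/-- A coset. -/ def N7457 : Q := sm gf N5362
/-- A coset. -/ def N7458 : Q := sm gd N5375
/-- A coset. -/ def N7459 : Q := sm gb N5425
/-- A coset. -/ def N7460 : Q := sm ge N5425
/-- A coset. -/ def N7461 : Q := sm gf N5425
/-- A coset. -/ def N7462 : Q := sm gc N5454
/-- A coset. -/ def N7463 : Q := sm gc N5456
/-- A coset. -/ def N7464 : Q := sm gc N5461
/-- A coset. -/ def N7465 : Q := sm gg N5461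
/-- A coset. -/ def N7466 : Q := sm gc N5462
/-- A coset. -/ def N7467 : Q := sm gf N5462
/-- A coset. -/ def N7468 : Q := sm gc N5463
/-- A coset. -/ def N7469 : Q := sm ge N5463
/-- A coset. -/ def N7470 : Q := sm gf N5463
/-- A coset. -/ def N7471 : Q := sm gc N5553
/-- A coset. -/ def N7472 : Q := sm ge N5553
/-- A coset. -/ def N7473 : Q := sm gf N5553
/-- A coset. -/ def N7474 : Q := sm gg N5553
/-- A coset. -/ def N7475 : Q := sm gd N5554
/-- A coset. -/ def N7476 : Q := sm gb N5555
/-- A coset. -/ def N7477 : Q := sm ge N5555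
/-- A coset. -/ def N7478 : Q := sm gf N5555
/-- A coset. -/ def N7479 : Q := sm gg N5555
/-- A coset. -/ def N7480 : Q := sm gf N5556
/-- A coset. -/ def N7481 : Q := sm gg N5556
/-- A coset. -/ def N7482 : Q := sm gg N5557
/-- A coset. -/ def N7483 : Q := sm gd N5558
/-- A coset. -/ def N7484 : Q := sm gf N5558
/-- A coset. -/ def N7485 : Q := sm gc N5561
/-- A coset. -/ def N7486 : Q := sm gg N5561
/-- A coset. -/ def N7487 : Q := sm gb N5563
/-- A coset. -/ def N7488 : Q := sm ge N5563
/-- A coset. -/ def N7489 : Q := sm gf N5563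
/-- A coset. -/ def N7490 : Q := sm gg N5563
/-- A coset. -/ def N7491 : Q := sm gf N5564
/-- A coset. -/ def N7492 : Q := sm gf N5566
/-- A coset. -/ def N7493 : Q := sm gf N5569
/-- A coset. -/ def N7494 : Q := sm gf N5571
/-- A coset. -/ def N7495 : Q := sm gd N5572
/-- A coset. -/ def N7496 : Q := sm gf N5572
/-- A coset. -/ def N7497 : Q := sm gc N5575
/-- A coset. -/ def N7498 : Q := sm gf N5575
/-- A coset. -/ def N7499 : Q := sm gd N5576
/-- A coset. -/ def N7500 : Q := sm gd N5579
/-- A coset. -/ def N7501 : Q := sm gd N5581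
/-- A coset. -/ def N7502 : Q := sm gc N5582
/-- A coset. -/ def N7503 : Q := sm gf N5582
/-- A coset. -/ def N7504 : Q := sm gg N5582
/-- A coset. -/ def N7505 : Q := sm gd N5585
/-- A coset. -/ def N7506 : Q := sm gb N5588
/-- A coset. -/ def N7507 : Q := sm gd N5588
/-- A coset. -/ def N7508 : Q := sm gf N5588
/-- A coset. -/ def N7509 : Q := sm gg N5589
/-- A coset. -/ def N7510 : Q := sm gf N5590
/-- A coset. -/ def N7511 : Q := sm gf N5591
/-- A coset. -/ def N7512 : Q := sm gb N5598
/-- A coset. -/ def N7513 : Q := sm gd N5598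
/-- A coset. -/ def N7514 : Q := sm gd N5606
/-- A coset. -/ def N7515 : Q := sm gc N5608
/-- A coset. -/ def N7516 : Q := sm gg N5608
/-- A coset. -/ def N7517 : Q := sm gc N5609
/-- A coset. -/ def N7518 : Q := sm ge N5609
/-- A coset. -/ def N7519 : Q := sm gd N5613
/-- A coset. -/ def N7520 : Q := sm gc N5616
/-- A coset. -/ def N7521 : Q := sm gc N5623
/-- A coset. -/ def N7522 : Q := sm gf N5623
/-- A coset. -/ def N7523 : Q := sm gb N5629
/-- A coset. -/ def N7524 : Q := sm gd N5629
/-- A coset. -/ def N7525 : Q := sm gf N5629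
/-- A coset. -/ def N7526 : Q := sm gf N5631
/-- A coset. -/ def N7527 : Q := sm gb N5635
/-- A coset. -/ def N7528 : Q := sm ge N5635
/-- A coset. -/ def N7529 : Q := sm gc N5637
/-- A coset. -/ def N7530 : Q := sm gf N5637
/-- A coset. -/ def N7531 : Q := sm gg N5637
/-- A coset. -/ def N7532 : Q := sm gc N5638
/-- A coset. -/ def N7533 : Q := sm gb N5639
/-- A coset. -/ def N7534 : Q := sm gd N5639
/-- A coset. -/ def N7535 : Q := sm ge N5640
/-- A coset. -/ def N7536 : Q := sm gf N5640
/-- A coset. -/ def N7537 : Q := sm gd N5641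
/-- A coset. -/ def N7538 : Q := sm gf N5641
/-- A coset. -/ def N7539 : Q := sm gg N5642
/-- A coset. -/ def N7540 : Q := sm gd N5648
/-- A coset. -/ def N7541 : Q := sm ga N5654
/-- A coset. -/ def N7542 : Q := sm gd N5654
/-- A coset. -/ def N7543 : Q := sm ge N5654
/-- A coset. -/ def N7544 : Q := sm gf N5654
/-- A coset. -/ def N7545 : Q := sm ge N5655
/-- A coset. -/ def N7546 : Q := sm gf N5655
/-- A coset. -/ def N7547 : Q := sm gg N5655
/-- A coset. -/ def N7548 : Q := sm gd N5656
/-- A coset. -/ def N7549 : Q := sm gf N5656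
/-- A coset. -/ def N7550 : Q := sm gg N5656
/-- A coset. -/ def N7551 : Q := sm gd N5657
/-- A coset. -/ def N7552 : Q := sm gd N5658
/-- A coset. -/ def N7553 : Q := sm gc N5659
/-- A coset. -/ def N7554 : Q := sm gg N5659
/-- A coset. -/ def N7555 : Q := sm gb N5665
/-- A coset. -/ def N7556 : Q := sm gf N5665
/-- A coset. -/ def N7557 : Q := sm gg N5665
/-- A coset. -/ def N7558 : Q := sm gb N5675
/-- A coset. -/ def N7559 : Q := sm ge N5675
/-- A coset. -/ def N7560 : Q := sm gf N5675
/-- A coset. -/ def N7561 : Q := sm gg N5675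
/-- A coset. -/ def N7562 : Q := sm gf N5676
/-- A coset. -/ def N7563 : Q := sm gg N5676
/-- A coset. -/ def N7564 : Q := sm gg N5677
/-- A coset. -/ def N7565 : Q := sm gf N5678
/-- A coset. -/ def N7566 : Q := sm ga N5682
/-- A coset. -/ def N7567 : Q := sm gd N5682
/-- A coset. -/ def N7568 : Q := sm gf N5682
/-- A coset. -/ def N7569 : Q := sm gg N5682
/-- A coset. -/ def N7570 : Q := sm gf N5683
/-- A coset. -/ def N7571 : Q := sm gd N5688
/-- A coset. -/ def N7572 : Q := sm gd N5689
/-- A coset. -/ def N7573 : Q := sm gd N5691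
/-- A coset. -/ def N7574 : Q := sm gc N5740
/-- A coset. -/ def N7575 : Q := sm gg N5740
/-- A coset. -/ def N7576 : Q := sm gc N5748
/-- A coset. -/ def N7577 : Q := sm ge N5857
/-- A coset. -/ def N7578 : Q := sm gd N5864
/-- A coset. -/ def N7579 : Q := sm ge N5864
/-- A coset. -/ def N7580 : Q := sm ge N5865
/-- A coset. -/ def N7581 : Q := sm gf N5865
/-- A coset. -/ def N7582 : Q := sm gd N5866
/-- A coset. -/ def N7583 : Q := sm gd N5870
/-- A coset. -/ def N7584 : Q := sm gd N5872
/-- A coset. -/ def N7585 : Q := sm gb N5955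
/-- A coset. -/ def N7586 : Q := sm gc N5966
/-- A coset. -/ def N7587 : Q := sm gf N5966
/-- A coset. -/ def N7588 : Q := sm gb N5967
/-- A coset. -/ def N7589 : Q := sm gg N5967
/-- A coset. -/ def N7590 : Q := sm gd N5969
/-- A coset. -/ def N7591 : Q := sm ge N5969
/-- A coset. -/ def N7592 : Q := sm gf N5969
/-- A coset. -/ def N7593 : Q := sm gf N5970
/-- A coset. -/ def N7594 : Q := sm gb N5978
/-- A coset. -/ def N7595 : Q := sm gd N5978
/-- A coset. -/ def N7596 : Q := sm gg N5978
/-- A coset. -/ def N7597 : Q := sm gg N5979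
/-- A coset. -/ def N7598 : Q := sm gc N6012
/-- A coset. -/ def N7599 : Q := sm gg N6012
/-- A coset. -/ def N7600 : Q := sm gb N6043
/-- A coset. -/ def N7601 : Q := sm ge N6043
/-- A coset. -/ def N7602 : Q := sm gf N6043
/-- A coset. -/ def N7603 : Q := sm gd N6850
/-- A coset. -/ def N7604 : Q := sm gc N7179
/-- A coset. -/ def N7605 : Q := sm ge N7179
/-- A coset. -/ def N7606 : Q := sm gc N7180
/-- A coset. -/ def N7607 : Q := sm gb N7182
/-- A coset. -/ def N7608 : Q := sm gd N7186
/-- A coset. -/ def N7609 : Q := sm gd N7189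
/-- A coset. -/ def N7610 : Q := sm gb N7190
/-- A coset. -/ def N7611 : Q := sm ge N7190
/-- A coset. -/ def N7612 : Q := sm ga N7196
/-- A coset. -/ def N7613 : Q := sm gd N7196
/-- A coset. -/ def N7614 : Q := sm ge N7196
/-- A coset. -/ def N7615 : Q := sm ge N7197
/-- A coset. -/ def N7616 : Q := sm gf N7197
/-- A coset. -/ def N7617 : Q := sm gf N7203
/-- A coset. -/ def N7618 : Q := sm gc N7206
/-- A coset. -/ def N7619 : Q := sm gd N7209
/-- A coset. -/ def N7620 : Q := sm ge N7210
/-- A coset. -/ def N7621 : Q := sm gf N7210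
/-- A coset. -/ def N7622 : Q := sm gg N7210
/-- A coset. -/ def N7623 : Q := sm gd N7211
/-- A coset. -/ def N7624 : Q := sm gg N7212
/-- A coset. -/ def N7625 : Q := sm gf N7214
/-- A coset. -/ def N7626 : Q := sm gc N7217
/-- A coset. -/ def N7627 : Q := sm gd N7218
/-- A coset. -/ def N7628 : Q := sm gc N7219
/-- A coset. -/ def N7629 : Q := sm gc N7220
/-- A coset. -/ def N7630 : Q := sm gc N7221
/-- A coset. -/ def N7631 : Q := sm gc N7222
/-- A coset. -/ def N7632 : Q := sm gd N7225
/-- A coset. -/ def N7633 : Q := sm gc N7227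
/-- A coset. -/ def N7634 : Q := sm gb N7228
/-- A coset. -/ def N7635 : Q := sm ge N7228
/-- A coset. -/ def N7636 : Q := sm gc N7230
/-- A coset. -/ def N7637 : Q := sm ge N7230
/-- A coset. -/ def N7638 : Q := sm ge N7232
/-- A coset. -/ def N7639 : Q := sm gb N7233
/-- A coset. -/ def N7640 : Q := sm ga N7235
/-- A coset. -/ def N7641 : Q := sm gd N7235
/-- A coset. -/ def N7642 : Q := sm ge N7235
/-- A coset. -/ def N7643 : Q := sm ge N7236
/-- A coset. -/ def N7644 : Q := sm gd N7238
/-- A coset. -/ def N7645 : Q := sm gc N7239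
/-- A coset. -/ def N7646 : Q := sm gf N7239
/-- A coset. -/ def N7647 : Q := sm gg N7239
/-- A coset. -/ def N7648 : Q := sm gd N7241
/-- A coset. -/ def N7649 : Q := sm gg N7242
/-- A coset. -/ def N7650 : Q := sm ge N7246
/-- A coset. -/ def N7651 : Q := sm gc N7248
/-- A coset. -/ def N7652 : Q := sm gf N7248
/-- A coset. -/ def N7653 : Q := sm gb N7252
/-- A coset. -/ def N7654 : Q := sm ge N7252
/-- A coset. -/ def N7655 : Q := sm gb N7255
/-- A coset. -/ def N7656 : Q := sm gc N7256
/-- A coset. -/ def N7657 : Q := sm ge N7256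
/-- A coset. -/ def N7658 : Q := sm gg N7256
/-- A coset. -/ def N7659 : Q := sm gc N7260
/-- A coset. -/ def N7660 : Q := sm gb N7261
/-- A coset. -/ def N7661 : Q := sm ge N7261
/-- A coset. -/ def N7662 : Q := sm gf N7261
/-- A coset. -/ def N7663 : Q := sm gg N7265
/-- A coset. -/ def N7664 : Q := sm gg N7266
/-- A coset. -/ def N7665 : Q := sm gg N7267
/-- A coset. -/ def N7666 : Q := sm gf N7268
/-- A coset. -/ def N7667 : Q := sm gc N7276
/-- A coset. -/ def N7668 : Q := sm gd N7277
/-- A coset. -/ def N7669 : Q := sm gf N7277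
/-- A coset. -/ def N7670 : Q := sm gc N7279
/-- A coset. -/ def N7671 : Q := sm gb N7280
/-- A coset. -/ def N7672 : Q := sm gd N7280
/-- A coset. -/ def N7673 : Q := sm ga N7282
/-- A coset. -/ def N7674 : Q := sm gd N7282
/-- A coset. -/ def N7675 : Q := sm gg N7282
/-- A coset. -/ def N7676 : Q := sm gd N7286
/-- A coset. -/ def N7677 : Q := sm gd N7287
/-- A coset. -/ def N7678 : Q := sm gc N7289
/-- A coset. -/ def N7679 : Q := sm gf N7289
/-- A coset. -/ def N7680 : Q := sm gb N7290
/-- A coset. -/ def N7681 : Q := sm gb N7291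
/-- A coset. -/ def N7682 : Q := sm gd N7291
/-- A coset. -/ def N7683 : Q := sm ge N7291
/-- A coset. -/ def N7684 : Q := sm gc N7294
/-- A coset. -/ def N7685 : Q := sm gf N7295
/-- A coset. -/ def N7686 : Q := sm gg N7297
/-- A coset. -/ def N7687 : Q := sm gd N7299
/-- A coset. -/ def N7688 : Q := sm gg N7299
/-- A coset. -/ def N7689 : Q := sm gc N7301
/-- A coset. -/ def N7690 : Q := sm gb N7309
/-- A coset. -/ def N7691 : Q := sm gf N7309
/-- A coset. -/ def N7692 : Q := sm gb N7311
/-- A coset. -/ def N7693 : Q := sm ga N7314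
/-- A coset. -/ def N7694 : Q := sm ge N7314
/-- A coset. -/ def N7695 : Q := sm gg N7314
/-- A coset. -/ def N7696 : Q := sm gg N7316
/-- A coset. -/ def N7697 : Q := sm gd N7317
/-- A coset. -/ def N7698 : Q := sm gd N7323
/-- A coset. -/ def N7699 : Q := sm ge N7323
/-- A coset. -/ def N7700 : Q := sm gf N7325
/-- A coset. -/ def N7701 : Q := sm gb N7332
/-- A coset. -/ def N7702 : Q := sm gg N7332
/-- A coset. -/ def N7703 : Q := sm ge N7335
/-- A coset. -/ def N7704 : Q := sm gd N7336
/-- A coset. -/ def N7705 : Q := sm gc N7338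
/-- A coset. -/ def N7706 : Q := sm gf N7338
/-- A coset. -/ def N7707 : Q := sm gc N7339
/-- A coset. -/ def N7708 : Q := sm gg N7340
/-- A coset. -/ def N7709 : Q := sm gf N7342
/-- A coset. -/ def N7710 : Q := sm gb N7343
/-- A coset. -/ def N7711 : Q := sm gd N7343
/-- A coset. -/ def N7712 : Q := sm gb N7347
/-- A coset. -/ def N7713 : Q := sm ge N7351
/-- A coset. -/ def N7714 : Q := sm gf N7351
/-- A coset. -/ def N7715 : Q := sm gd N7352
/-- A coset. -/ def N7716 : Q := sm gd N7353
/-- A coset. -/ def N7717 : Q := sm gd N7356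
/-- A coset. -/ def N7718 : Q := sm gd N7358
/-- A coset. -/ def N7719 : Q := sm gg N7361
/-- A coset. -/ def N7720 : Q := sm gd N7363
/-- A coset. -/ def N7721 : Q := sm ge N7363
/-- A coset. -/ def N7722 : Q := sm gf N7363
/-- A coset. -/ def N7723 : Q := sm gf N7364
/-- A coset. -/ def N7724 : Q := sm gg N7365
/-- A coset. -/ def N7725 : Q := sm gd N7370
/-- A coset. -/ def N7726 : Q := sm gg N7370
/-- A coset. -/ def N7727 : Q := sm gd N7373
/-- A coset. -/ def N7728 : Q := sm gc N7374
/-- A coset. -/ def N7729 : Q := sm gb N7375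
/-- A coset. -/ def N7730 : Q := sm ge N7375
/-- A coset. -/ def N7731 : Q := sm ge N7378
/-- A coset. -/ def N7732 : Q := sm gd N7381
/-- A coset. -/ def N7733 : Q := sm gd N7382
/-- A coset. -/ def N7734 : Q := sm gc N7383
/-- A coset. -/ def N7735 : Q := sm ge N7383
/-- A coset. -/ def N7736 : Q := sm gf N7383
/-- A coset. -/ def N7737 : Q := sm gb N7385
/-- A coset. -/ def N7738 : Q := sm ge N7385
/-- A coset. -/ def N7739 : Q := sm gd N7387
/-- A coset. -/ def N7740 : Q := sm gb N7391
/-- A coset. -/ def N7741 : Q := sm ge N7394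
/-- A coset. -/ def N7742 : Q := sm gg N7400
/-- A coset. -/ def N7743 : Q := sm gd N7401
/-- A coset. -/ def N7744 : Q := sm gf N7410
/-- A coset. -/ def N7745 : Q := sm gc N7411
/-- A coset. -/ def N7746 : Q := sm gf N7411
/-- A coset. -/ def N7747 : Q := sm gc N7412
/-- A coset. -/ def N7748 : Q := sm ge N7412
/-- A coset. -/ def N7749 : Q := sm gf N7412
/-- A coset. -/ def N7750 : Q := sm gg N7412
/-- A coset. -/ def N7751 : Q := sm gd N7413
/-- A coset. -/ def N7752 : Q := sm gf N7414
/-- A coset. -/ def N7753 : Q := sm gg N7414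
/-- A coset. -/ def N7754 : Q := sm gg N7415
/-- A coset. -/ def N7755 : Q := sm gd N7416
/-- A coset. -/ def N7756 : Q := sm gf N7416
/-- A coset. -/ def N7757 : Q := sm ge N7418
/-- A coset. -/ def N7758 : Q := sm gf N7418
/-- A coset. -/ def N7759 : Q := sm gd N7420
/-- A coset. -/ def N7760 : Q := sm gf N7420
/-- A coset. -/ def N7761 : Q := sm gc N7422
/-- A coset. -/ def N7762 : Q := sm gf N7422
/-- A coset. -/ def N7763 : Q := sm gg N7422
/-- A coset. -/ def N7764 : Q := sm gc N7424
/-- A coset. -/ def N7765 : Q := sm gg N7424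
/-- A coset. -/ def N7766 : Q := sm gb N7428
/-- A coset. -/ def N7767 : Q := sm gd N7428
/-- A coset. -/ def N7768 : Q := sm gf N7428
/-- A coset. -/ def N7769 : Q := sm gg N7428
/-- A coset. -/ def N7770 : Q := sm gg N7429
/-- A coset. -/ def N7771 : Q := sm gf N7430
/-- A coset. -/ def N7772 : Q := sm gf N7431
/-- A coset. -/ def N7773 : Q := sm gc N7434
/-- A coset. -/ def N7774 : Q := sm gb N7435
/-- A coset. -/ def N7775 : Q := sm gf N7437
/-- A coset. -/ def N7776 : Q := sm gc N7438
/-- A coset. -/ def N7777 : Q := sm gb N7439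
/-- A coset. -/ def N7778 : Q := sm gf N7440
/-- A coset. -/ def N7779 : Q := sm gg N7441
/-- A coset. -/ def N7780 : Q := sm ge N7443
/-- A coset. -/ def N7781 : Q := sm gg N7443
/-- A coset. -/ def N7782 : Q := sm gd N7444
/-- A coset. -/ def N7783 : Q := sm gf N7444
/-- A coset. -/ def N7784 : Q := sm gg N7444
/-- A coset. -/ def N7785 : Q := sm gd N7445
/-- A coset. -/ def N7786 : Q := sm ga N7450
/-- A coset. -/ def N7787 : Q := sm gf N7450
/-- A coset. -/ def N7788 : Q := sm gg N7450
/-- A coset. -/ def N7789 : Q := sm gd N7454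
/-- A coset. -/ def N7790 : Q := sm gd N7455
/-- A coset. -/ def N7791 : Q := sm gc N7458
/-- A coset. -/ def N7792 : Q := sm gb N7464
/-- A coset. -/ def N7793 : Q := sm gg N7464
/-- A coset. -/ def N7794 : Q := sm gd N7466
/-- A coset. -/ def N7795 : Q := sm gf N7466
/-- A coset. -/ def N7796 : Q := sm ge N7468
/-- A coset. -/ def N7797 : Q := sm gd N7471
/-- A coset. -/ def N7798 : Q := sm ge N7471
/-- A coset. -/ def N7799 : Q := sm gf N7471
/-- A coset. -/ def N7800 : Q := sm gf N7472
/-- A coset. -/ def N7801 : Q := sm gg N7473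
/-- A coset. -/ def N7802 : Q := sm gc N7475
/-- A coset. -/ def N7803 : Q := sm ge N7476
/-- A coset. -/ def N7804 : Q := sm gf N7476
/-- A coset. -/ def N7805 : Q := sm gf N7477
/-- A coset. -/ def N7806 : Q := sm gd N7478
/-- A coset. -/ def N7807 : Q := sm gg N7478
/-- A coset. -/ def N7808 : Q := sm gd N7484
/-- A coset. -/ def N7809 : Q := sm gb N7485
/-- A coset. -/ def N7810 : Q := sm ga N7487
/-- A coset. -/ def N7811 : Q := sm ge N7487
/-- A coset. -/ def N7812 : Q := sm gf N7487
/-- A coset. -/ def N7813 : Q := sm gf N7488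
/-- A coset. -/ def N7814 : Q := sm gf N7490
/-- A coset. -/ def N7815 : Q := sm gd N7494
/-- A coset. -/ def N7816 : Q := sm gc N7495
/-- A coset. -/ def N7817 : Q := sm gf N7495
/-- A coset. -/ def N7818 : Q := sm gf N7497
/-- A coset. -/ def N7819 : Q := sm gg N7498
/-- A coset. -/ def N7820 : Q := sm gf N7499
/-- A coset. -/ def N7821 : Q := sm gb N7502
/-- A coset. -/ def N7822 : Q := sm gf N7502
/-- A coset. -/ def N7823 : Q := sm gd N7506
/-- A coset. -/ def N7824 : Q := sm gf N7506
/-- A coset. -/ def N7825 : Q := sm gd N7508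
/-- A coset. -/ def N7826 : Q := sm gg N7508
/-- A coset. -/ def N7827 : Q := sm gd N7512
/-- A coset. -/ def N7828 : Q := sm gc N7514
/-- A coset. -/ def N7829 : Q := sm gb N7517
/-- A coset. -/ def N7830 : Q := sm gc N7519
/-- A coset. -/ def N7831 : Q := sm gb N7520
/-- A coset. -/ def N7832 : Q := sm gb N7521
/-- A coset. -/ def N7833 : Q := sm ga N7523
/-- A coset. -/ def N7834 : Q := sm gf N7523
/-- A coset. -/ def N7835 : Q := sm gf N7524
/-- A coset. -/ def N7836 : Q := sm gd N7525
/-- A coset. -/ def N7837 : Q := sm ge N7527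
/-- A coset. -/ def N7838 : Q := sm gf N7529
/-- A coset. -/ def N7839 : Q := sm gg N7529
/-- A coset. -/ def N7840 : Q := sm gf N7531
/-- A coset. -/ def N7841 : Q := sm gb N7532
/-- A coset. -/ def N7842 : Q := sm gg N7534
/-- A coset. -/ def N7843 : Q := sm gf N7542
/-- A coset. -/ def N7844 : Q := sm gd N7543
/-- A coset. -/ def N7845 : Q := sm gd N7546
/-- A coset. -/ def N7846 : Q := sm gg N7546
/-- A coset. -/ def N7847 : Q := sm gf N7547
/-- A coset. -/ def N7848 : Q := sm gc N7551
/-- A coset. -/ def N7849 : Q := sm ge N7551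
/-- A coset. -/ def N7850 : Q := sm gg N7553
/-- A coset. -/ def N7851 : Q := sm gg N7555
/-- A coset. -/ def N7852 : Q := sm ga N7558
/-- A coset. -/ def N7853 : Q := sm gf N7558
/-- A coset. -/ def N7854 : Q := sm gg N7558
/-- A coset. -/ def N7855 : Q := sm gf N7559
/-- A coset. -/ def N7856 : Q := sm gd N7562
/-- A coset. -/ def N7857 : Q := sm gc N7567
/-- A coset. -/ def N7858 : Q := sm gf N7567
/-- A coset. -/ def N7859 : Q := sm gc N7571
/-- A coset. -/ def N7860 : Q := sm gg N7571
/-- A coset. -/ def N7861 : Q := sm gf N7572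
/-- A coset. -/ def N7862 : Q := sm gb N7574
/-- A coset. -/ def N7863 : Q := sm gg N7574
/-- A coset. -/ def N7864 : Q := sm gb N7576
/-- A coset. -/ def N7865 : Q := sm gd N7577
/-- A coset. -/ def N7866 : Q := sm gf N7586
/-- A coset. -/ def N7867 : Q := sm gg N7588
/-- A coset. -/ def N7868 : Q := sm gf N7591
/-- A coset. -/ def N7869 : Q := sm gg N7594
/-- A coset. -/ def N7870 : Q := sm gg N7595
/-- A coset. -/ def N7871 : Q := sm gd N7596
/-- A coset. -/ def N7872 : Q := sm gb N7598
/-- A coset. -/ def N7873 : Q := sm gb N7604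
/-- A coset. -/ def N7874 : Q := sm ge N7604
/-- A coset. -/ def N7875 : Q := sm gb N7606
/-- A coset. -/ def N7876 : Q := sm ge N7610
/-- A coset. -/ def N7877 : Q := sm gf N7613
/-- A coset. -/ def N7878 : Q := sm gg N7620
/-- A coset. -/ def N7879 : Q := sm gf N7622
/-- A coset. -/ def N7880 : Q := sm gc N7627
/-- A coset. -/ def N7881 : Q := sm gb N7628
/-- A coset. -/ def N7882 : Q := sm gb N7629
/-- A coset. -/ def N7883 : Q := sm gd N7630
/-- A coset. -/ def N7884 : Q := sm gc N7632
/-- A coset. -/ def N7885 : Q := sm ga N7634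
/-- A coset. -/ def N7886 : Q := sm ge N7634
/-- A coset. -/ def N7887 : Q := sm ge N7641
/-- A coset. -/ def N7888 : Q := sm gg N7644
/-- A coset. -/ def N7889 : Q := sm gf N7645
/-- A coset. -/ def N7890 : Q := sm ga N7653
/-- A coset. -/ def N7891 : Q := sm ge N7653
/-- A coset. -/ def N7892 : Q := sm gb N7659
/-- A coset. -/ def N7893 : Q := sm ga N7660
/-- A coset. -/ def N7894 : Q := sm ge N7660
/-- A coset. -/ def N7895 : Q := sm gb N7670
/-- A coset. -/ def N7896 : Q := sm ga N7671
/-- A coset. -/ def N7897 : Q := sm gc N7674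
/-- A coset. -/ def N7898 : Q := sm ge N7681
/-- A coset. -/ def N7899 : Q := sm gb N7684
/-- A coset. -/ def N7900 : Q := sm gf N7690
/-- A coset. -/ def N7901 : Q := sm gg N7694
/-- A coset. -/ def N7902 : Q := sm gd N7695
/-- A coset. -/ def N7903 : Q := sm gb N7707
/-- A coset. -/ def N7904 : Q := sm gd N7710
/-- A coset. -/ def N7905 : Q := sm gc N7711
/-- A coset. -/ def N7906 : Q := sm gd N7713
/-- A coset. -/ def N7907 : Q := sm gd N7714
/-- A coset. -/ def N7908 : Q := sm gf N7720
/-- A coset. -/ def N7909 : Q := sm gc N7727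
/-- A coset. -/ def N7910 : Q := sm gb N7728
/-- A coset. -/ def N7911 : Q := sm gb N7734
/-- A coset. -/ def N7912 : Q := sm gc N7739
/-- A coset. -/ def N7913 : Q := sm gf N7747
/-- A coset. -/ def N7914 : Q := sm gf N7748
/-- A coset. -/ def N7915 : Q := sm gg N7749
/-- A coset. -/ def N7916 : Q := sm gd N7750
/-- A coset. -/ def N7917 : Q := sm gf N7750
/-- A coset. -/ def N7918 : Q := sm gf N7763
/-- A coset. -/ def N7919 : Q := sm gf N7769
/-- A coset. -/ def N7920 : Q := sm gb N7776
/-- A coset. -/ def N7921 : Q := sm gc N7789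
/-- A coset. -/ def N7922 : Q := sm gf N7790
/-- A coset. -/ def N7923 : Q := sm gb N7791
/-- A coset. -/ def N7924 : Q := sm gg N7792
/-- A coset. -/ def N7925 : Q := sm gc N7797
/-- A coset. -/ def N7926 : Q := sm gd N7799
/-- A coset. -/ def N7927 : Q := sm gf N7810
/-- A coset. -/ def N7928 : Q := sm gf N7811
/-- A coset. -/ def N7929 : Q := sm gb N7830
/-- A coset. -/ def N7930 : Q := sm gf N7833
/-- A coset. -/ def N7931 : Q := sm gd N7834
/-- A coset. -/ def N7932 : Q := sm gg N7859
/-- A coset. -/ def N7933 : Q := sm gb N7880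
theorem L0 : sm ga N0 = N0 := sded_0_0
theorem L1 : sm gc N0 = N0 := sded_1_0
theorem L2 : sm gd N0 = N0 := sded_2_0
theorem L3 : sm ge N0 = N0 := sded_3_0
theorem L4 : sm gf N0 = N0 := sded_4_0
theorem L5 : sm gb N0 = N1 := rfl
theorem L6 : sm gb N1 = N0 := flp_b L5
theorem L7 : sm gd N1 = N1 := ded_14_2 L6 L2 L5
theorem L8 : sm ge N1 = N1 := ded_15_2 L6 L3 L5
theorem L9 : sm gf N1 = N1 := ded_16_2 L6 L4 L5
theorem L10 : sm ga N1 = N1 := sded_5_1 L5 L6 L0
theorem L11 : sm gg N0 = N2 := rfl
theorem L12 : sm gg N2 = N0 := flp_g L11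
theorem L13 : sm ga N2 = N2 := ded_12_1 L12 L0 L11
theorem L14 : sm gc N2 = N2 := ded_21_1 L12 L1 L11
theorem L15 : sm ge N2 = N2 := ded_26_1 L12 L3 L11
theorem L16 : sm gf N2 = N2 := ded_28_0 L12 L4 L11 L15
theorem L17 : sm gc N1 = N3 := rfl
theorem L18 : sm gc N3 = N1 := flp_c L17
theorem L19 : sm ga N3 = N3 := ded_8_1 L18 L10 L17
theorem L20 : sm ge N3 = N3 := ded_19_2 L18 L8 L17
theorem L21 : sm gf N3 = N3 := ded_20_2 L18 L9 L17
theorem L22 : sm gb N3 = N3 := ded_13_1 L18 L6 L1 L5 L17
theorem L23 : sm gg N1 = N4 := rfl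
theorem L24 : sm gg N4 = N1 := flp_g L23
theorem L25 : sm ga N4 = N4 := ded_12_1 L24 L10 L23
theorem L26 : sm gb N4 = N2 := ded_17_1 L12 L5 L23
theorem L27 : sm gb N2 = N4 := flp_b L26
theorem L28 : sm ge N4 = N4 := ded_26_1 L24 L8 L23
theorem L29 : sm gf N4 = N4 := ded_28_0 L24 L9 L23 L28
theorem L30 : sm gd N2 = N5 := rfl
theorem L31 : sm gd N5 = N2 := flp_d L30
theorem L32 : sm ga N5 = N5 := ded_9_1 L31 L13 L30
theorem L33 : sm gg N5 = N5 := ded_24_2 L31 L12 L2 L11 L30
theorem L34 : sm gd N3 = N6 := rfl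
theorem L35 : sm gd N6 = N3 := flp_d L34
theorem L36 : sm ga N6 = N6 := ded_9_1 L35 L19 L34
theorem L37 : sm gb N6 = N6 := ded_14_1 L35 L22 L34
theorem L38 : sm gg N3 = N7 := rfl
theorem L39 : sm gg N7 = N3 := flp_g L38
theorem L40 : sm ga N7 = N7 := ded_12_1 L39 L19 L38
theorem L41 : sm gb N7 = N7 := ded_17_1 L39 L22 L38
theorem L42 : sm gc N7 = N4 := ded_21_1 L24 L17 L38
theorem L43 : sm gc N4 = N7 := flp_c L42
theorem L44 : sm ge N7 = N7 := ded_26_1 L39 L20 L38
theorem L45 : sm gf N7 = N7 := ded_28_0 L39 L21 L38 L44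
theorem L46 : sm gd N4 = N8 := rfl
theorem L47 : sm gd N8 = N4 := flp_d L46
theorem L48 : sm ga N8 = N8 := ded_9_1 L47 L25 L46
theorem L49 : sm gb N8 = N5 := ded_14_1 L31 L27 L46
theorem L50 : sm gb N5 = N8 := flp_b L49
theorem L51 : sm gg N8 = N8 := ded_24_2 L47 L24 L7 L23 L46
theorem L52 : sm gc N5 = N9 := rfl
theorem L53 : sm gc N9 = N5 := flp_c L52
theorem L54 : sm ga N9 = N9 := ded_8_1 L53 L32 L52
theorem L55 : sm gg N9 = N9 := ded_21_2 L53 L33 L52
theorem L56 : sm ge N5 = N10 := rfl
theorem L57 : sm ge N10 = N5 := flp_e L56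
theorem L58 : sm ga N10 = N10 := ded_10_1 L57 L32 L56
theorem L59 : sm gg N10 = N10 := ded_26_2 L57 L33 L56
theorem L60 : sm gd N10 = N10 := ded_22_1 L57 L31 L15 L30 L56
theorem L61 : sm gf N5 = N11 := rfl
theorem L62 : sm gf N11 = N5 := flp_f L61
theorem L63 : sm ga N11 = N11 := ded_11_1 L62 L32 L61
theorem L64 : sm gd N11 = N11 := ded_23_1 L62 L31 L16 L30 L61
theorem L65 : sm gc N6 = N12 := rfl
theorem L66 : sm gc N12 = N6 := flp_c L65
theorem L67 : sm ga N12 = N12 := ded_8_1 L66 L36 L65
theorem L68 : sm ge N6 = N13 := rfl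
theorem L69 : sm ge N13 = N6 := flp_e L68
theorem L70 : sm ga N13 = N13 := ded_10_1 L69 L36 L68
theorem L71 : sm gb N13 = N13 := ded_15_1 L69 L37 L68
theorem L72 : sm gd N13 = N13 := ded_22_1 L69 L35 L20 L34 L68
theorem L73 : sm gf N6 = N14 := rfl
theorem L74 : sm gf N14 = N6 := flp_f L73
theorem L75 : sm ga N14 = N14 := ded_11_1 L74 L36 L73
theorem L76 : sm gb N14 = N14 := ded_16_1 L74 L37 L73
theorem L77 : sm gd N14 = N14 := ded_23_1 L74 L35 L21 L34 L73
theorem L78 : sm gg N6 = N15 := rfl
theorem L79 : sm gg N15 = N6 := flp_g L78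
theorem L80 : sm ga N15 = N15 := ded_12_1 L79 L36 L78
theorem L81 : sm gb N15 = N15 := ded_17_1 L79 L37 L78
theorem L82 : sm gd N7 = N16 := rfl
theorem L83 : sm gd N16 = N7 := flp_d L82
theorem L84 : sm ga N16 = N16 := ded_9_1 L83 L40 L82
theorem L85 : sm gb N16 = N16 := ded_14_1 L83 L41 L82
theorem L86 : sm gc N8 = N17 := rfl
theorem L87 : sm gc N17 = N8 := flp_c L86
theorem L88 : sm ga N17 = N17 := ded_8_1 L87 L48 L86
theorem L89 : sm gg N17 = N17 := ded_21_2 L87 L51 L86
theorem L90 : sm ge N8 = N18 := rfl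
theorem L91 : sm ge N18 = N8 := flp_e L90
theorem L92 : sm ga N18 = N18 := ded_10_1 L91 L48 L90
theorem L93 : sm gb N18 = N10 := ded_15_1 L57 L50 L90
theorem L94 : sm gb N10 = N18 := flp_b L93
theorem L95 : sm gg N18 = N18 := ded_26_2 L91 L51 L90
theorem L96 : sm gd N18 = N18 := ded_22_1 L91 L47 L28 L46 L90
theorem L97 : sm gf N8 = N19 := rfl
theorem L98 : sm gf N19 = N8 := flp_f L97
theorem L99 : sm ga N19 = N19 := ded_11_1 L98 L48 L97
theorem L100 : sm gb N19 = N11 := ded_16_1 L62 L50 L97
theorem L101 : sm gb N11 = N19 := flp_b L100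
theorem L102 : sm gd N19 = N19 := ded_23_1 L98 L47 L29 L46 L97
theorem L103 : sm gb N9 = N20 := rfl
theorem L104 : sm gb N20 = N9 := flp_b L103
theorem L105 : sm gg N20 = N20 := ded_17_2 L104 L55 L103
theorem L106 : sm gd N9 = N21 := rfl
theorem L107 : sm gd N21 = N9 := flp_d L106
theorem L108 : sm ga N21 = N21 := ded_9_1 L107 L54 L106
theorem L109 : sm ge N9 = N22 := rfl
theorem L110 : sm ge N22 = N9 := flp_e L109
theorem L111 : sm ga N22 = N22 := ded_10_1 L110 L54 L109
theorem L112 : sm gc N22 = N10 := ded_19_1 L57 L52 L109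
theorem L113 : sm gc N10 = N22 := flp_c L112
theorem L114 : sm gg N22 = N22 := ded_26_2 L110 L55 L109
theorem L115 : sm gf N9 = N23 := rfl
theorem L116 : sm gf N23 = N9 := flp_f L115
theorem L117 : sm ga N23 = N23 := ded_11_1 L116 L54 L115
theorem L118 : sm gc N23 = N11 := ded_20_1 L62 L52 L115
theorem L119 : sm gc N11 = N23 := flp_c L118
theorem L120 : sm gf N10 = N24 := rfl
theorem L121 : sm gf N24 = N10 := flp_f L120
theorem L122 : sm ga N24 = N24 := ded_11_1 L121 L58 L120
theorem L123 : sm ge N24 = N11 := ded_25_1 L62 L56 L120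
theorem L124 : sm ge N11 = N24 := flp_e L123
theorem L125 : sm gg N24 = N11 := ded_28_3 L124 L121 L59 L120
theorem L126 : sm gg N11 = N24 := flp_g L125
theorem L127 : sm gb N12 = N25 := rfl
theorem L128 : sm gb N25 = N12 := flp_b L127
theorem L129 : sm gc N25 = N25 := ded_13_2 L128 L66 L37 L65 L127
theorem L130 : sm gd N12 = N26 := rfl
theorem L131 : sm gd N26 = N12 := flp_d L130
theorem L132 : sm ga N26 = N26 := ded_9_1 L131 L67 L130
theorem L133 : sm gc N26 = N26 := ded_30_0 L131 L66 L35 L18 L7 L17 L34 L65 L130 L132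
theorem L134 : sm ge N12 = N27 := rfl
theorem L135 : sm ge N27 = N12 := flp_e L134
theorem L136 : sm ga N27 = N27 := ded_10_1 L135 L67 L134
theorem L137 : sm gc N27 = N13 := ded_19_1 L69 L65 L134
theorem L138 : sm gc N13 = N27 := flp_c L137
theorem L139 : sm gf N12 = N28 := rfl
theorem L140 : sm gf N28 = N12 := flp_f L139
theorem L141 : sm ga N28 = N28 := ded_11_1 L140 L67 L139
theorem L142 : sm gc N28 = N14 := ded_20_1 L74 L65 L139
theorem L143 : sm gc N14 = N28 := flp_c L142
theorem L144 : sm gg N12 = N29 := rfl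
theorem L145 : sm gg N29 = N12 := flp_g L144
theorem L146 : sm ga N29 = N29 := ded_12_1 L145 L67 L144
theorem L147 : sm gc N29 = N15 := ded_21_1 L79 L65 L144
theorem L148 : sm gc N15 = N29 := flp_c L147
theorem L149 : sm gf N13 = N30 := rfl
theorem L150 : sm gf N30 = N13 := flp_f L149
theorem L151 : sm ga N30 = N30 := ded_11_1 L150 L70 L149
theorem L152 : sm gb N30 = N30 := ded_16_1 L150 L71 L149
theorem L153 : sm ge N30 = N14 := ded_25_1 L74 L68 L149
theorem L154 : sm ge N14 = N30 := flp_e L153
theorem L155 : sm gg N13 = N31 := rfl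
theorem L156 : sm gg N31 = N13 := flp_g L155
theorem L157 : sm ga N31 = N31 := ded_12_1 L156 L70 L155
theorem L158 : sm gb N31 = N31 := ded_17_1 L156 L71 L155
theorem L159 : sm ge N31 = N15 := ded_26_1 L79 L68 L155
theorem L160 : sm ge N15 = N31 := flp_e L159
theorem L161 : sm gg N14 = N32 := rfl
theorem L162 : sm gg N32 = N14 := flp_g L161
theorem L163 : sm ga N32 = N32 := ded_12_1 L162 L75 L161
theorem L164 : sm gb N32 = N32 := ded_17_1 L162 L76 L161
theorem L165 : sm gf N31 = N32 := ded_28_0 L162 L74 L78 L160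
theorem L166 : sm gf N32 = N31 := flp_f L165
theorem L167 : sm gd N15 = N33 := rfl
theorem L168 : sm gd N33 = N15 := flp_d L167
theorem L169 : sm ga N33 = N33 := ded_9_1 L168 L80 L167
theorem L170 : sm gb N33 = N33 := ded_14_1 L168 L81 L167
theorem L171 : sm gg N33 = N16 := ded_24_2 L83 L39 L34 L78 L167
theorem L172 : sm gg N16 = N33 := flp_g L171
theorem L173 : sm gf N15 = N34 := rfl
theorem L174 : sm gf N34 = N15 := flp_f L173
theorem L175 : sm ga N34 = N34 := ded_11_1 L174 L80 L173
theorem L176 : sm gb N34 = N34 := ded_16_1 L174 L81 L173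
theorem L177 : sm ge N34 = N32 := ded_25_1 L166 L159 L173
theorem L178 : sm ge N32 = N34 := flp_e L177
theorem L179 : sm gg N34 = N30 := ded_28_3 L153 L74 L78 L173
theorem L180 : sm gg N30 = N34 := flp_g L179
theorem L181 : sm gc N16 = N35 := rfl
theorem L182 : sm gc N35 = N16 := flp_c L181
theorem L183 : sm ga N35 = N35 := ded_8_1 L182 L84 L181
theorem L184 : sm ge N16 = N36 := rfl
theorem L185 : sm ge N36 = N16 := flp_e L184
theorem L186 : sm ga N36 = N36 := ded_10_1 L185 L84 L184
theorem L187 : sm gb N36 = N36 := ded_15_1 L185 L85 L184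
theorem L188 : sm gd N36 = N36 := ded_22_1 L185 L83 L44 L82 L184
theorem L189 : sm gf N16 = N37 := rfl
theorem L190 : sm gf N37 = N16 := flp_f L189
theorem L191 : sm ga N37 = N37 := ded_11_1 L190 L84 L189
theorem L192 : sm gb N37 = N37 := ded_16_1 L190 L85 L189
theorem L193 : sm gd N37 = N37 := ded_23_1 L190 L83 L45 L82 L189
theorem L194 : sm gb N17 = N38 := rfl
theorem L195 : sm gb N38 = N17 := flp_b L194
theorem L196 : sm gg N38 = N38 := ded_17_2 L195 L89 L194
theorem L197 : sm gc N38 = N20 := ded_13_2 L104 L53 L50 L86 L194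
theorem L198 : sm gc N20 = N38 := flp_c L197
theorem L199 : sm gd N17 = N39 := rfl
theorem L200 : sm gd N39 = N17 := flp_d L199
theorem L201 : sm ga N39 = N39 := ded_9_1 L200 L88 L199
theorem L202 : sm ge N17 = N40 := rfl
theorem L203 : sm ge N40 = N17 := flp_e L202
theorem L204 : sm ga N40 = N40 := ded_10_1 L203 L88 L202
theorem L205 : sm gc N40 = N18 := ded_19_1 L91 L86 L202
theorem L206 : sm gc N18 = N40 := flp_c L205
theorem L207 : sm gg N40 = N40 := ded_26_2 L203 L89 L202
theorem L208 : sm gf N17 = N41 := rfl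
theorem L209 : sm gf N41 = N17 := flp_f L208
theorem L210 : sm ga N41 = N41 := ded_11_1 L209 L88 L208
theorem L211 : sm gc N41 = N19 := ded_20_1 L98 L86 L208
theorem L212 : sm gc N19 = N41 := flp_c L211
theorem L213 : sm gf N18 = N42 := rfl
theorem L214 : sm gf N42 = N18 := flp_f L213
theorem L215 : sm ga N42 = N42 := ded_11_1 L214 L92 L213
theorem L216 : sm gb N42 = N24 := ded_16_1 L121 L94 L213
theorem L217 : sm gb N24 = N42 := flp_b L216
theorem L218 : sm ge N42 = N19 := ded_25_1 L98 L90 L213
theorem L219 : sm ge N19 = N42 := flp_e L218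
theorem L220 : sm gg N42 = N19 := ded_28_3 L219 L214 L95 L213
theorem L221 : sm gg N19 = N42 := flp_g L220
theorem L222 : sm ga N20 = N43 := rfl
theorem L223 : sm ga N43 = N20 := flp_a L222
theorem L224 : sm gg N43 = N43 := ded_12_2 L223 L105 L222
theorem L225 : sm gb N43 = N22 := ded_29_4 L112 L58 L94 L206 L203 L88 L194 L197 L222
theorem L226 : sm gb N22 = N43 := flp_b L225
theorem L227 : sm ge N20 = N43 := ded_29_9 L223 L104 L53 L32 L50 L86 L88 L194 L197
theorem L228 : sm ge N43 = N20 := flp_e L227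
theorem L229 : sm gd N20 = N44 := rfl
theorem L230 : sm gd N44 = N20 := flp_d L229
theorem L231 : sm gb N44 = N21 := ded_14_1 L107 L103 L229
theorem L232 : sm gb N21 = N44 := flp_b L231
theorem L233 : sm gf N20 = N45 := rfl
theorem L234 : sm gf N45 = N20 := flp_f L233
theorem L235 : sm gb N45 = N23 := ded_16_1 L116 L103 L233
theorem L236 : sm gb N23 = N45 := flp_b L235
theorem L237 : sm gc N21 = N46 := rfl
theorem L238 : sm gc N46 = N21 := flp_c L237
theorem L239 : sm ga N46 = N46 := ded_8_1 L238 L108 L237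
theorem L240 : sm gd N46 = N46 := ded_30_9 L239 L238 L107 L53 L31 L14 L30 L52 L106 L237
theorem L241 : sm ge N21 = N47 := rfl
theorem L242 : sm ge N47 = N21 := flp_e L241
theorem L243 : sm ga N47 = N47 := ded_10_1 L242 L108 L241
theorem L244 : sm gf N21 = N48 := rfl
theorem L245 : sm gf N48 = N21 := flp_f L244
theorem L246 : sm ga N48 = N48 := ded_11_1 L245 L108 L244
theorem L247 : sm gg N21 = N49 := rfl
theorem L248 : sm gg N49 = N21 := flp_g L247
theorem L251 : sm gd N22 = N50 := rfl
theorem L252 : sm gd N50 = N22 := flp_d L251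
theorem L254 : sm gf N22 = N51 := rfl
theorem L255 : sm gf N51 = N22 := flp_f L254
theorem L256 : sm ga N51 = N51 := ded_11_1 L255 L111 L254
theorem L257 : sm gc N51 = N24 := ded_20_1 L121 L113 L254
theorem L258 : sm gc N24 = N51 := flp_c L257
theorem L259 : sm ge N51 = N23 := ded_25_1 L116 L109 L254
theorem L260 : sm ge N23 = N51 := flp_e L259
theorem L261 : sm gg N51 = N23 := ded_28_3 L260 L255 L114 L254
theorem L262 : sm gg N23 = N51 := flp_g L261
theorem L263 : sm gd N23 = N51 := ded_31_2 L257 L125 L62 L31 L14 L12 L4 L2 L1 L11 L16 L30 L52 L55 L115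
theorem L264 : sm gd N51 = N23 := flp_d L263
theorem L265 : N50 = N48 := coi_23_4 L245 L107 L115 L263 L255 L251
theorem L266 : N50 = N48 := eqc rfl L265 rfl
theorem L268 : sm gd N48 = N22 := trfs L266 L252 rfl
theorem L269 : sm gd N22 = N48 := flp_d L268
theorem L270 : sm gd N24 = N52 := rfl
theorem L271 : sm gd N52 = N24 := flp_d L270
theorem L272 : sm ga N52 = N52 := ded_9_1 L271 L122 L270
theorem L273 : sm ge N52 = N52 := ded_22_2 L271 L123 L64 L124 L270
theorem L274 : sm gf N52 = N52 := ded_23_2 L271 L121 L60 L120 L270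
theorem L275 : sm gg N52 = N52 := ded_24_2 L271 L125 L64 L126 L270
theorem L276 : sm gc N52 = N52 := ded_30_0 L271 L258 L264 L118 L64 L119 L263 L257 L270 L272
theorem L277 : N46 = N49 := coi_31_12 L248 L244 L268 L112 L59 L120 L270 L276 L275 L274 L271 L258 L261 L116 L106 L237
theorem L278 : N49 = N46 := (eqc rfl L277 rfl).symm
theorem L281 : sm gg N46 = N21 := trfs L278 L248 rfl
theorem L282 : sm gg N21 = N46 := flp_g L281
theorem L283 : sm ga N25 = N53 := rfl
theorem L284 : sm ga N53 = N25 := flp_a L283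
theorem L285 : sm gc N53 = N53 := ded_8_2 L284 L129 L283
theorem L286 : sm gb N53 = N27 := ded_29_4 L137 L70 L71 L138 L135 L67 L127 L129 L283
theorem L287 : sm gb N27 = N53 := flp_b L286
theorem L288 : sm ge N25 = N53 := ded_29_9 L284 L128 L66 L36 L37 L65 L67 L127 L129
theorem L289 : sm ge N53 = N25 := flp_e L288
theorem L290 : sm gd N25 = N54 := rfl
theorem L291 : sm gd N54 = N25 := flp_d L290
theorem L292 : sm gb N54 = N26 := ded_14_1 L131 L127 L290
theorem L293 : sm gb N26 = N54 := flp_b L292
theorem L294 : sm gf N25 = N55 := rfl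
theorem L295 : sm gf N55 = N25 := flp_f L294
theorem L296 : sm gb N55 = N28 := ded_16_1 L140 L127 L294
theorem L297 : sm gb N28 = N55 := flp_b L296
theorem L298 : sm gc N55 = N55 := ded_20_1 L295 L129 L294
theorem L299 : sm gg N25 = N56 := rfl
theorem L300 : sm gg N56 = N25 := flp_g L299
theorem L301 : sm gb N56 = N29 := ded_17_1 L145 L127 L299
theorem L302 : sm gb N29 = N56 := flp_b L301
theorem L303 : sm gc N56 = N56 := ded_21_1 L300 L129 L299
theorem L304 : sm ge N26 = N57 := rfl
theorem L305 : sm ge N57 = N26 := flp_e L304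
theorem L306 : sm ga N57 = N57 := ded_10_1 L305 L132 L304
theorem L307 : sm gc N57 = N57 := ded_19_1 L305 L133 L304
theorem L308 : sm gf N26 = N58 := rfl
theorem L309 : sm gf N58 = N26 := flp_f L308
theorem L310 : sm ga N58 = N58 := ded_11_1 L309 L132 L308
theorem L311 : sm gc N58 = N58 := ded_20_1 L309 L133 L308
theorem L312 : sm gg N26 = N59 := rfl
theorem L313 : sm gg N59 = N26 := flp_g L312
theorem L314 : sm ga N59 = N59 := ded_12_1 L313 L132 L312
theorem L315 : sm gc N59 = N59 := ded_21_1 L313 L133 L312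
theorem L316 : sm gd N27 = N60 := rfl
theorem L317 : sm gd N60 = N27 := flp_d L316
theorem L318 : sm ga N60 = N60 := ded_9_1 L317 L136 L316
theorem L319 : sm gf N27 = N61 := rfl
theorem L320 : sm gf N61 = N27 := flp_f L319
theorem L321 : sm ga N61 = N61 := ded_11_1 L320 L136 L319
theorem L322 : sm gc N61 = N30 := ded_20_1 L150 L138 L319
theorem L323 : sm gc N30 = N61 := flp_c L322
theorem L324 : sm ge N61 = N28 := ded_25_1 L140 L134 L319
theorem L325 : sm ge N28 = N61 := flp_e L324
theorem L326 : sm gg N27 = N62 := rfl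
theorem L327 : sm gg N62 = N27 := flp_g L326
theorem L328 : sm ga N62 = N62 := ded_12_1 L327 L136 L326
theorem L329 : sm gc N62 = N31 := ded_21_1 L156 L138 L326
theorem L331 : sm ge N62 = N29 := ded_26_1 L145 L134 L326
theorem L332 : sm ge N29 = N62 := flp_e L331
theorem L333 : sm gd N28 = N63 := rfl
theorem L334 : sm gd N63 = N28 := flp_d L333
theorem L335 : sm ga N63 = N63 := ded_9_1 L334 L141 L333
theorem L336 : sm gg N28 = N64 := rfl
theorem L337 : sm gg N64 = N28 := flp_g L336
theorem L338 : sm ga N64 = N64 := ded_12_1 L337 L141 L336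
theorem L339 : sm gc N64 = N32 := ded_21_1 L162 L143 L336
theorem L340 : sm gc N32 = N64 := flp_c L339
theorem L341 : sm gf N62 = N64 := ded_28_0 L337 L140 L144 L332
theorem L342 : sm gf N64 = N62 := flp_f L341
theorem L343 : sm gd N29 = N65 := rfl
theorem L344 : sm gd N65 = N29 := flp_d L343
theorem L345 : sm ga N65 = N65 := ded_9_1 L344 L146 L343
theorem L346 : sm gf N29 = N66 := rfl
theorem L347 : sm gf N66 = N29 := flp_f L346
theorem L348 : sm ga N66 = N66 := ded_11_1 L347 L146 L346
theorem L349 : sm gc N66 = N34 := ded_20_1 L174 L148 L346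
theorem L350 : sm gc N34 = N66 := flp_c L349
theorem L351 : sm ge N66 = N64 := ded_25_1 L342 L331 L346
theorem L352 : sm ge N64 = N66 := flp_e L351
theorem L353 : sm gg N66 = N61 := ded_28_3 L324 L140 L144 L346

end Cfsg.Agent.Helper28.HeA
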