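import Cfsg.Agent.Helper28.HeB0

/-! # The Held group presentation, cosets of the subgroup generated by a, c, d, e, f, (ab)², (bcde)⁷: the coset enumeration, part 1 (helper28; generated) -/

set_option autoImplicit false

noncomputable section

namespace Cfsg.Agent.Helper28.HeA

open Cfsg.Agent.Helper28.CosetTable

theorem L354 : sm gg N61 = N66 := flp_g L353
theorem L355 : sm gd N30 = N67 := rfl
theorem L356 : sm gd N67 = N30 := flp_d L355
theorem L357 : sm ga N67 = N67 := ded_9_1 L356 L151 L355
theorem L358 : sm gb N67 = N67 := ded_14_1 L356 L152 L355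
theorem L359 : sm ge N67 = N67 := ded_22_2 L356 L153 L77 L154 L355
theorem L360 : sm gf N67 = N67 := ded_23_2 L356 L150 L72 L149 L355
theorem L361 : sm gd N31 = N68 := rfl
theorem L362 : sm gd N68 = N31 := flp_d L361
theorem L363 : sm ga N68 = N68 := ded_9_1 L362 L157 L361
theorem L364 : sm gb N68 = N68 := ded_14_1 L362 L158 L361
theorem L365 : sm gg N68 = N68 := ded_24_2 L362 L156 L72 L155 L361
theorem L366 : sm gd N32 = N69 := rfl
theorem L367 : sm gd N69 = N32 := flp_d L366
theorem L368 : sm ga N69 = N69 := ded_9_1 L367 L163 L366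
theorem L369 : sm gb N69 = N69 := ded_14_1 L367 L164 L366
theorem L370 : sm gg N69 = N69 := ded_24_2 L367 L162 L77 L161 L366
theorem L371 : sm gc N33 = N70 := rfl
theorem L372 : sm gc N70 = N33 := flp_c L371
theorem L373 : sm ga N70 = N70 := ded_8_1 L372 L169 L371
theorem L374 : sm gg N70 = N35 := ded_21_2 L182 L172 L371
theorem L375 : sm gg N35 = N70 := flp_g L374
theorem L376 : sm ge N33 = N71 := rfl
theorem L377 : sm ge N71 = N33 := flp_e L376
theorem L378 : sm ga N71 = N71 := ded_10_1 L377 L169 L376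
theorem L379 : sm gb N71 = N71 := ded_15_1 L377 L170 L376
theorem L380 : sm gg N71 = N36 := ded_26_2 L185 L172 L376
theorem L381 : sm gg N36 = N71 := flp_g L380
theorem L382 : sm gf N33 = N72 := rfl
theorem L383 : sm gf N72 = N33 := flp_f L382
theorem L384 : sm ga N72 = N72 := ded_11_1 L383 L169 L382
theorem L385 : sm gb N72 = N72 := ded_16_1 L383 L170 L382
theorem L386 : sm gd N34 = N73 := rfl
theorem L387 : sm gd N73 = N34 := flp_d L386
theorem L388 : sm ga N73 = N73 := ded_9_1 L387 L175 L386
theorem L389 : sm gb N73 = N73 := ded_14_1 L387 L176 L386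
theorem L390 : sm gb N35 = N74 := rfl
theorem L391 : sm gb N74 = N35 := flp_b L390
theorem L392 : sm gc N74 = N74 := ded_13_2 L391 L182 L85 L181 L390
theorem L393 : sm gd N35 = N75 := rfl
theorem L394 : sm gd N75 = N35 := flp_d L393
theorem L395 : sm ga N75 = N75 := ded_9_1 L394 L183 L393
theorem L396 : sm ge N35 = N76 := rfl
theorem L397 : sm ge N76 = N35 := flp_e L396
theorem L398 : sm ga N76 = N76 := ded_10_1 L397 L183 L396
theorem L399 : sm gc N76 = N36 := ded_19_1 L185 L181 L396
theorem L400 : sm gc N36 = N76 := flp_c L399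
theorem L401 : sm gf N35 = N77 := rfl
theorem L402 : sm gf N77 = N35 := flp_f L401
theorem L403 : sm ga N77 = N77 := ded_11_1 L402 L183 L401
theorem L404 : sm gc N77 = N37 := ded_20_1 L190 L181 L401
theorem L405 : sm gc N37 = N77 := flp_c L404
theorem L406 : sm gf N36 = N78 := rfl
theorem L407 : sm gf N78 = N36 := flp_f L406
theorem L410 : sm ge N78 = N37 := ded_25_1 L190 L184 L406
theorem L411 : sm ge N37 = N78 := flp_e L410
theorem L412 : sm gg N72 = N78 := ded_28_1 L407 L381 L377 L382
theorem L413 : sm gg N78 = N72 := flp_g L412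
theorem L414 : sm gg N37 = N79 := rfl
theorem L415 : sm gg N79 = N37 := flp_g L414
theorem L416 : sm ga N79 = N79 := ded_12_1 L415 L191 L414
theorem L417 : sm gb N79 = N79 := ded_17_1 L415 L192 L414
theorem L418 : sm ge N79 = N72 := ded_26_1 L412 L410 L414
theorem L419 : sm ge N72 = N79 := flp_e L418
theorem L420 : sm gf N71 = N79 := ded_28_0 L415 L190 L172 L376
theorem L422 : sm ga N38 = N80 := rfl
theorem L423 : sm ga N80 = N38 := flp_a L422
theorem L424 : sm gc N80 = N43 := ded_8_2 L223 L198 L422
theorem L425 : sm gc N43 = N80 := flp_c L424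
theorem L426 : sm gg N80 = N80 := ded_12_2 L423 L196 L422
theorem L427 : sm gb N80 = N40 := ded_29_4 L205 L92 L93 L113 L110 L54 L103 L198 L422
theorem L428 : sm gb N40 = N80 := flp_b L427
theorem L429 : sm ge N38 = N80 := ded_29_9 L423 L195 L87 L48 L49 L52 L54 L103 L198
theorem L430 : sm ge N80 = N38 := flp_e L429
theorem L431 : sm gd N38 = N81 := rfl
theorem L432 : sm gd N81 = N38 := flp_d L431
theorem L433 : sm gb N81 = N39 := ded_14_1 L200 L194 L431
theorem L434 : sm gb N39 = N81 := flp_b L433
theorem L435 : sm gf N38 = N82 := rfl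
theorem L436 : sm gf N82 = N38 := flp_f L435
theorem L437 : sm gb N82 = N41 := ded_16_1 L209 L194 L435
theorem L438 : sm gb N41 = N82 := flp_b L437
theorem L439 : sm gc N82 = N45 := ded_20_1 L234 L198 L435
theorem L440 : sm gc N45 = N82 := flp_c L439
theorem L441 : sm gc N39 = N83 := rfl
theorem L442 : sm gc N83 = N39 := flp_c L441
theorem L443 : sm ga N83 = N83 := ded_8_1 L442 L201 L441
theorem L444 : sm ge N39 = N84 := rfl
theorem L445 : sm ge N84 = N39 := flp_e L444
theorem L446 : sm ga N84 = N84 := ded_10_1 L445 L201 L444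
theorem L447 : sm gf N39 = N85 := rfl
theorem L448 : sm gf N85 = N39 := flp_f L447
theorem L449 : sm ga N85 = N85 := ded_11_1 L448 L201 L447
theorem L450 : sm gg N39 = N86 := rfl
theorem L451 : sm gg N86 = N39 := flp_g L450
theorem L452 : sm ga N86 = N86 := ded_12_1 L451 L201 L450
theorem L453 : sm gd N86 = N86 := ded_24_1 L451 L200 L89 L199 L450
theorem L454 : sm gd N40 = N87 := rfl
theorem L455 : sm gd N87 = N40 := flp_d L454
theorem L456 : sm ga N87 = N87 := ded_9_1 L455 L204 L454
theorem L457 : sm gf N40 = N88 := rfl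
theorem L458 : sm gf N88 = N40 := flp_f L457
theorem L459 : sm ga N88 = N88 := ded_11_1 L458 L204 L457
theorem L460 : sm gc N88 = N42 := ded_20_1 L214 L206 L457
theorem L461 : sm gc N42 = N88 := flp_c L460
theorem L462 : sm ge N88 = N41 := ded_25_1 L209 L202 L457
theorem L463 : sm ge N41 = N88 := flp_e L462
theorem L464 : sm gg N88 = N41 := ded_28_3 L463 L458 L207 L457
theorem L465 : sm gg N41 = N88 := flp_g L464
theorem L466 : sm gd N41 = N89 := rfl
theorem L467 : sm gd N89 = N41 := flp_d L466
theorem L468 : sm ga N89 = N89 := ded_9_1 L467 L210 L466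
theorem L469 : sm gd N42 = N90 := rfl
theorem L470 : sm gd N90 = N42 := flp_d L469
theorem L471 : sm ga N90 = N90 := ded_9_1 L470 L215 L469
theorem L472 : sm gb N90 = N52 := ded_14_1 L271 L217 L469
theorem L473 : sm gb N52 = N90 := flp_b L472
theorem L474 : sm ge N90 = N90 := ded_22_2 L470 L218 L102 L219 L469
theorem L475 : sm gf N90 = N90 := ded_23_2 L470 L214 L96 L213 L469
theorem L476 : sm gg N90 = N90 := ded_24_2 L470 L220 L102 L221 L469
theorem L477 : sm gd N43 = N91 := rfl
theorem L478 : sm gd N91 = N43 := flp_d L477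
theorem L479 : sm ga N91 = N44 := ded_9_1 L230 L222 L477
theorem L480 : sm ga N44 = N91 := flp_a L479
theorem L481 : sm gb N91 = N48 := ded_14_1 L268 L226 L477
theorem L482 : sm gb N48 = N91 := flp_b L481
theorem L483 : sm gf N44 = N91 := ded_16_0 L481 L245 L232
theorem L484 : sm gf N91 = N44 := flp_f L483
theorem L485 : sm gf N43 = N92 := rfl
theorem L486 : sm gf N92 = N43 := flp_f L485
theorem L487 : sm ga N92 = N45 := ded_11_1 L234 L222 L485
theorem L488 : sm ga N45 = N92 := flp_a L487
theorem L489 : sm gb N92 = N51 := ded_16_1 L255 L226 L485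
theorem L490 : sm gb N51 = N92 := flp_b L489
theorem L491 : sm ge N92 = N45 := ded_25_1 L234 L227 L485
theorem L492 : sm ge N45 = N92 := flp_e L491
theorem L493 : sm gg N92 = N45 := ded_28_3 L492 L486 L224 L485
theorem L494 : sm gg N45 = N92 := flp_g L493
theorem L495 : sm gd N92 = N45 := ded_23_1 L234 L229 L483 L478 L485
theorem L496 : sm gd N45 = N92 := flp_d L495
theorem L497 : sm gc N44 = N93 := rfl
theorem L498 : sm gc N93 = N44 := flp_c L497
theorem L499 : sm ge N44 = N94 := rfl
theorem L500 : sm ge N94 = N44 := flp_e L499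
theorem L501 : sm gb N94 = N47 := ded_15_1 L242 L232 L499
theorem L502 : sm gb N47 = N94 := flp_b L501
theorem L503 : sm gg N44 = N95 := rfl
theorem L504 : sm gg N95 = N44 := flp_g L503
theorem L505 : sm gb N95 = N46 := ded_17_1 L281 L232 L503
theorem L506 : sm gb N46 = N95 := flp_b L505
theorem L507 : sm gd N95 = N95 := ded_24_1 L504 L230 L105 L229 L503
theorem L508 : sm ge N46 = N96 := rfl
theorem L509 : sm ge N96 = N46 := flp_e L508
theorem L510 : sm ga N96 = N96 := ded_10_1 L509 L239 L508
theorem L511 : sm gc N96 = N47 := ded_19_1 L242 L237 L508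
theorem L512 : sm gc N47 = N96 := flp_c L511
theorem L513 : sm gg N96 = N47 := ded_26_2 L242 L282 L508
theorem L514 : sm gg N47 = N96 := flp_g L513
theorem L515 : sm gf N46 = N97 := rfl
theorem L516 : sm gf N97 = N46 := flp_f L515
theorem L517 : sm ga N97 = N97 := ded_11_1 L516 L239 L515
theorem L518 : sm gc N97 = N48 := ded_20_1 L245 L237 L515
theorem L519 : sm gc N48 = N97 := flp_c L518
theorem L520 : sm gd N47 = N98 := rfl
theorem L521 : sm gd N98 = N47 := flp_d L520
theorem L522 : sm ga N98 = N98 := ded_9_1 L521 L243 L520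
theorem L523 : sm ge N98 = N48 := ded_22_2 L268 L110 L106 L241 L520
theorem L524 : sm ge N48 = N98 := flp_e L523
theorem L525 : sm gf N47 = N98 := ded_25_0 L523 L245 L241
theorem L526 : sm gf N98 = N47 := flp_f L525
theorem L527 : sm gg N97 = N98 := ded_28_3 L523 L245 L282 L515
theorem L528 : sm gg N98 = N97 := flp_g L527
theorem L529 : sm gg N48 = N99 := rfl
theorem L530 : sm gg N99 = N48 := flp_g L529
theorem L531 : sm ga N99 = N99 := ded_12_1 L530 L246 L529
theorem L532 : sm gc N99 = N98 := ded_21_1 L528 L518 L529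
theorem L533 : sm gc N98 = N99 := flp_c L532
theorem L534 : sm ge N99 = N97 := ded_26_1 L527 L523 L529
theorem L535 : sm ge N97 = N99 := flp_e L534
theorem L536 : sm gf N96 = N99 := ded_28_0 L530 L245 L282 L508
theorem L537 : sm gf N99 = N96 := flp_f L536
theorem L538 : sm gd N99 = N99 := ded_24_1 L530 L268 L114 L269 L529
theorem L539 : sm gd N53 = N100 := rfl
theorem L540 : sm gd N100 = N53 := flp_d L539
theorem L541 : sm ga N100 = N54 := ded_9_1 L291 L283 L539
theorem L542 : sm ga N54 = N100 := flp_a L541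
theorem L543 : sm gb N100 = N60 := ded_14_1 L317 L287 L539
theorem L544 : sm gb N60 = N100 := flp_b L543
theorem L545 : sm gf N53 = N101 := rfl
theorem L546 : sm gf N101 = N53 := flp_f L545
theorem L547 : sm ga N101 = N55 := ded_11_1 L295 L283 L545
theorem L548 : sm ga N55 = N101 := flp_a L547
theorem L549 : sm gb N101 = N61 := ded_16_1 L320 L287 L545
theorem L550 : sm gb N61 = N101 := flp_b L549
theorem L551 : sm gc N101 = N101 := ded_20_1 L546 L285 L545
theorem L552 : sm ge N101 = N55 := ded_25_1 L295 L288 L545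
theorem L553 : sm ge N55 = N101 := flp_e L552
theorem L554 : sm gg N53 = N102 := rfl
theorem L555 : sm gg N102 = N53 := flp_g L554
theorem L556 : sm ga N102 = N56 := ded_12_1 L300 L283 L554
theorem L557 : sm ga N56 = N102 := flp_a L556
theorem L558 : sm gb N102 = N62 := ded_17_1 L327 L287 L554
theorem L559 : sm gb N62 = N102 := flp_b L558
theorem L560 : sm gc N102 = N102 := ded_21_1 L555 L285 L554
theorem L561 : sm ge N102 = N56 := ded_26_1 L300 L288 L554
theorem L562 : sm ge N56 = N102 := flp_e L561
theorem L563 : sm gc N54 = N103 := rfl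
theorem L564 : sm gc N103 = N54 := flp_c L563
theorem L565 : sm gb N103 = N103 := ded_13_1 L564 L292 L133 L293 L563
theorem L566 : sm ge N54 = N104 := rfl
theorem L567 : sm ge N104 = N54 := flp_e L566
theorem L568 : sm gb N104 = N57 := ded_15_1 L305 L293 L566
theorem L569 : sm gb N57 = N104 := flp_b L568
theorem L570 : sm gf N54 = N105 := rfl
theorem L571 : sm gf N105 = N54 := flp_f L570
theorem L572 : sm gb N105 = N58 := ded_16_1 L309 L293 L570
theorem L573 : sm gb N58 = N105 := flp_b L572
theorem L574 : sm gg N54 = N106 := rfl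
theorem L575 : sm gg N106 = N54 := flp_g L574
theorem L576 : sm gb N106 = N59 := ded_17_1 L313 L293 L574
theorem L577 : sm gb N59 = N106 := flp_b L576
theorem L578 : sm gd N55 = N107 := rfl
theorem L579 : sm gd N107 = N55 := flp_d L578
theorem L580 : sm gb N107 = N63 := ded_14_1 L334 L297 L578
theorem L581 : sm gb N63 = N107 := flp_b L580
theorem L582 : sm gg N55 = N108 := rfl
theorem L583 : sm gg N108 = N55 := flp_g L582
theorem L584 : sm gb N108 = N64 := ded_17_1 L337 L297 L582
theorem L585 : sm gb N64 = N108 := flp_b L584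
theorem L586 : sm gc N108 = N108 := ded_21_1 L583 L298 L582
theorem L587 : sm gf N102 = N108 := ded_28_0 L583 L295 L299 L562
theorem L588 : sm gf N108 = N102 := flp_f L587
theorem L589 : sm gd N56 = N109 := rfl
theorem L590 : sm gd N109 = N56 := flp_d L589
theorem L591 : sm gb N109 = N65 := ded_14_1 L344 L302 L589
theorem L592 : sm gb N65 = N109 := flp_b L591
theorem L593 : sm gf N56 = N110 := rfl
theorem L594 : sm gf N110 = N56 := flp_f L593
theorem L595 : sm ga N110 = N108 := ded_11_1 L588 L556 L593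
theorem L596 : sm ga N108 = N110 := flp_a L595
theorem L597 : sm gb N110 = N66 := ded_16_1 L347 L302 L593
theorem L598 : sm gb N66 = N110 := flp_b L597
theorem L599 : sm gc N110 = N110 := ded_20_1 L594 L303 L593
theorem L602 : sm gg N110 = N101 := ded_28_3 L552 L295 L299 L593
theorem L603 : sm gg N101 = N110 := flp_g L602
theorem L604 : sm gd N57 = N111 := rfl
theorem L605 : sm gd N111 = N57 := flp_d L604
theorem L606 : sm ga N111 = N111 := ded_9_1 L605 L306 L604
theorem L607 : sm ge N111 = N60 := ded_22_2 L317 L135 L130 L304 L604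
theorem L608 : sm ge N60 = N111 := flp_e L607
theorem L609 : sm gf N57 = N112 := rfl
theorem L610 : sm gf N112 = N57 := flp_f L609
theorem L611 : sm ga N112 = N112 := ded_11_1 L610 L306 L609
theorem L612 : sm gc N112 = N112 := ded_20_1 L610 L307 L609
theorem L613 : sm ge N112 = N58 := ded_25_1 L309 L304 L609
theorem L614 : sm ge N58 = N112 := flp_e L613
theorem L615 : sm gg N57 = N113 := rfl
theorem L616 : sm gg N113 = N57 := flp_g L615
theorem L617 : sm ga N113 = N113 := ded_12_1 L616 L306 L615
theorem L618 : sm gc N113 = N113 := ded_21_1 L616 L307 L615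
theorem L619 : sm ge N113 = N59 := ded_26_1 L313 L304 L615
theorem L620 : sm ge N59 = N113 := flp_e L619
theorem L621 : sm gd N58 = N114 := rfl
theorem L622 : sm gd N114 = N58 := flp_d L621
theorem L623 : sm ga N114 = N114 := ded_9_1 L622 L310 L621
theorem L624 : sm gf N114 = N63 := ded_23_2 L334 L140 L130 L308 L621
theorem L625 : sm gf N63 = N114 := flp_f L624
theorem L626 : sm gg N58 = N115 := rfl
theorem L627 : sm gg N115 = N58 := flp_g L626
theorem L628 : sm ga N115 = N115 := ded_12_1 L627 L310 L626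
theorem L629 : sm gc N115 = N115 := ded_21_1 L627 L311 L626
theorem L630 : sm gf N113 = N115 := ded_28_0 L627 L309 L312 L620
theorem L631 : sm gf N115 = N113 := flp_f L630
theorem L632 : sm gd N59 = N116 := rfl
theorem L633 : sm gd N116 = N59 := flp_d L632
theorem L634 : sm ga N116 = N116 := ded_9_1 L633 L314 L632
theorem L635 : sm gg N116 = N65 := ded_24_2 L344 L145 L130 L312 L632
theorem L636 : sm gg N65 = N116 := flp_g L635
theorem L637 : sm gf N59 = N117 := rfl
theorem L638 : sm gf N117 = N59 := flp_f L637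
theorem L639 : sm ga N117 = N117 := ded_11_1 L638 L314 L637
theorem L640 : sm gc N117 = N117 := ded_20_1 L638 L315 L637
theorem L641 : sm ge N117 = N115 := ded_25_1 L631 L619 L637
theorem L642 : sm ge N115 = N117 := flp_e L641
theorem L643 : sm gg N117 = N112 := ded_28_3 L613 L309 L312 L637
theorem L644 : sm gg N112 = N117 := flp_g L643
theorem L645 : sm gc N60 = N118 := rfl
theorem L646 : sm gc N118 = N60 := flp_c L645
theorem L648 : sm gf N60 = N119 := rfl
theorem L649 : sm gf N119 = N60 := flp_f L648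
theorem L650 : sm ga N119 = N119 := ded_11_1 L649 L318 L648
theorem L651 : sm gg N60 = N120 := rfl
theorem L652 : sm gg N120 = N60 := flp_g L651
theorem L653 : sm ga N120 = N120 := ded_12_1 L652 L318 L651
theorem L654 : sm gd N61 = N121 := rfl
theorem L655 : sm gd N121 = N61 := flp_d L654
theorem L656 : sm ga N121 = N121 := ded_9_1 L655 L321 L654
theorem L657 : sm gd N62 = N122 := rfl
theorem L658 : sm gd N122 = N62 := flp_d L657
theorem L659 : sm ga N122 = N122 := ded_9_1 L658 L328 L657
theorem L660 : sm gc N63 = N123 := rfl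
theorem L661 : sm gc N123 = N63 := flp_c L660
theorem L662 : sm ga N123 = N123 := ded_8_1 L661 L335 L660
theorem L663 : sm ge N63 = N124 := rfl
theorem L664 : sm ge N124 = N63 := flp_e L663
theorem L665 : sm ga N124 = N124 := ded_10_1 L664 L335 L663
theorem L666 : sm gg N63 = N125 := rfl
theorem L667 : sm gg N125 = N63 := flp_g L666
theorem L668 : sm ga N125 = N125 := ded_12_1 L667 L335 L666
theorem L669 : sm gd N64 = N126 := rfl
theorem L670 : sm gd N126 = N64 := flp_d L669
theorem L671 : sm ga N126 = N126 := ded_9_1 L670 L338 L669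
theorem L672 : sm gc N65 = N127 := rfl
theorem L673 : sm gc N127 = N65 := flp_c L672
theorem L674 : sm ga N127 = N127 := ded_8_1 L673 L345 L672
theorem L675 : sm ge N65 = N128 := rfl
theorem L676 : sm ge N128 = N65 := flp_e L675
theorem L678 : sm gf N65 = N129 := rfl
theorem L679 : sm gf N129 = N65 := flp_f L678
theorem L681 : sm gd N66 = N130 := rfl
theorem L682 : sm gd N130 = N66 := flp_d L681
theorem L683 : sm ga N130 = N130 := ded_9_1 L682 L348 L681
theorem L684 : sm gc N67 = N131 := rfl
theorem L685 : sm gc N131 = N67 := flp_c L684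
theorem L686 : sm ga N131 = N131 := ded_8_1 L685 L357 L684
theorem L687 : sm ge N131 = N131 := ded_19_2 L685 L359 L684
theorem L688 : sm gf N131 = N131 := ded_20_2 L685 L360 L684
theorem L689 : sm gg N67 = N132 := rfl
theorem L690 : sm gg N132 = N67 := flp_g L689
theorem L693 : sm ge N132 = N132 := ded_26_1 L690 L359 L689
theorem L694 : sm gf N132 = N132 := ded_28_0 L690 L360 L689 L693
theorem L695 : sm gc N68 = N133 := rfl
theorem L696 : sm gc N133 = N68 := flp_c L695
theorem L697 : sm ga N133 = N133 := ded_8_1 L696 L363 L695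
theorem L698 : sm gg N133 = N133 := ded_21_2 L696 L365 L695
theorem L699 : sm ge N68 = N134 := rfl
theorem L700 : sm ge N134 = N68 := flp_e L699
theorem L701 : sm ga N134 = N134 := ded_10_1 L700 L363 L699
theorem L702 : sm gb N134 = N134 := ded_15_1 L700 L364 L699
theorem L703 : sm gg N134 = N134 := ded_26_2 L700 L365 L699
theorem L704 : sm gd N134 = N71 := ded_22_1 L377 L168 L160 L361 L699
theorem L705 : sm gd N71 = N134 := flp_d L704
theorem L706 : sm gf N68 = N135 := rfl
theorem L707 : sm gf N135 = N68 := flp_f L706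
theorem L710 : sm gc N69 = N136 := rfl
theorem L711 : sm gc N136 = N69 := flp_c L710
theorem L712 : sm ga N136 = N136 := ded_8_1 L711 L368 L710
theorem L713 : sm gg N136 = N136 := ded_21_2 L711 L370 L710
theorem L714 : sm ge N69 = N137 := rfl
theorem L715 : sm ge N137 = N69 := flp_e L714
theorem L716 : sm ga N137 = N137 := ded_10_1 L715 L368 L714
theorem L717 : sm gb N137 = N137 := ded_15_1 L715 L369 L714
theorem L718 : sm gg N137 = N137 := ded_26_2 L715 L370 L714
theorem L719 : sm gf N69 = N138 := rfl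
theorem L720 : sm gf N138 = N69 := flp_f L719
theorem L723 : sm gd N138 = N135 := ded_23_1 L707 L362 L165 L366 L719
theorem L724 : sm gd N135 = N138 := flp_d L723
theorem L725 : sm gb N70 = N139 := rfl
theorem L726 : sm gb N139 = N70 := flp_b L725
theorem L727 : sm gg N139 = N74 := ded_17_2 L391 L375 L725
theorem L728 : sm gg N74 = N139 := flp_g L727
theorem L729 : sm gc N139 = N139 := ded_13_2 L726 L372 L170 L371 L725
theorem L730 : sm gd N70 = N140 := rfl
theorem L731 : sm gd N140 = N70 := flp_d L730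
theorem L732 : sm ga N140 = N140 := ded_9_1 L731 L373 L730
theorem L733 : sm ge N70 = N141 := rfl
theorem L734 : sm ge N141 = N70 := flp_e L733
theorem L736 : sm gc N141 = N71 := ded_19_1 L377 L371 L733
theorem L737 : sm gc N71 = N141 := flp_c L736
theorem L738 : sm gg N141 = N76 := ded_26_2 L397 L375 L733
theorem L739 : sm gg N76 = N141 := flp_g L738
theorem L740 : sm gf N70 = N142 := rfl
theorem L741 : sm gf N142 = N70 := flp_f L740
theorem L743 : sm gc N142 = N72 := ded_20_1 L383 L371 L740
theorem L744 : sm gc N72 = N142 := flp_c L743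
theorem L745 : sm gd N72 = N143 := rfl
theorem L746 : sm gd N143 = N72 := flp_d L745
theorem L747 : sm ga N143 = N143 := ded_9_1 L746 L384 L745
theorem L748 : sm gb N143 = N143 := ded_14_1 L746 L385 L745
theorem L749 : sm gf N143 = N73 := ded_23_2 L387 L174 L167 L382 L745
theorem L750 : sm gf N73 = N143 := flp_f L749
theorem L751 : sm gc N73 = N144 := rfl
theorem L752 : sm gc N144 = N73 := flp_c L751
theorem L753 : sm ga N144 = N144 := ded_8_1 L752 L388 L751
theorem L754 : sm ge N73 = N145 := rfl
theorem L755 : sm ge N145 = N73 := flp_e L754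
theorem L756 : sm ga N145 = N145 := ded_10_1 L755 L388 L754
theorem L757 : sm gb N145 = N145 := ded_15_1 L755 L389 L754
theorem L758 : sm gd N145 = N137 := ded_22_1 L715 L367 L178 L386 L754
theorem L759 : sm gd N137 = N145 := flp_d L758
theorem L760 : sm gg N73 = N146 := rfl
theorem L761 : sm gg N146 = N73 := flp_g L760
theorem L764 : sm gd N146 = N132 := ded_24_1 L690 L356 L180 L386 L760
theorem L765 : sm gd N132 = N146 := flp_d L764
theorem L766 : sm ga N74 = N147 := rfl
theorem L767 : sm ga N147 = N74 := flp_a L766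
theorem L769 : sm gb N147 = N76 := ded_29_4 L399 L186 L187 L400 L397 L183 L390 L392 L766
theorem L770 : sm gb N76 = N147 := flp_b L769
theorem L771 : sm ge N74 = N147 := ded_29_9 L767 L391 L182 L84 L85 L181 L183 L390 L392
theorem L773 : sm gd N74 = N148 := rfl
theorem L774 : sm gd N148 = N74 := flp_d L773
theorem L775 : sm gb N148 = N75 := ded_14_1 L394 L390 L773
theorem L776 : sm gb N75 = N148 := flp_b L775
theorem L777 : sm gf N74 = N149 := rfl
theorem L778 : sm gf N149 = N74 := flp_f L777
theorem L779 : sm gb N149 = N77 := ded_16_1 L402 L390 L777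
theorem L780 : sm gb N77 = N149 := flp_b L779
theorem L781 : sm gc N149 = N149 := ded_20_1 L778 L392 L777
theorem L782 : sm gc N75 = N150 := rfl
theorem L783 : sm gc N150 = N75 := flp_c L782
theorem L784 : sm ga N150 = N150 := ded_8_1 L783 L395 L782
theorem L785 : sm gd N83 = N150 := ded_30_9 L784 L783 L394 L182 L83 L42 L46 L86 L199 L441
theorem L786 : sm gd N150 = N83 := flp_d L785
theorem L787 : sm ge N75 = N151 := rfl
theorem L788 : sm ge N151 = N75 := flp_e L787
theorem L790 : sm gf N75 = N152 := rfl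
theorem L791 : sm gf N152 = N75 := flp_f L790
theorem L793 : sm gg N75 = N153 := rfl
theorem L794 : sm gg N153 = N75 := flp_g L793
theorem L796 : sm gd N76 = N154 := rfl
theorem L797 : sm gd N154 = N76 := flp_d L796
theorem L798 : sm ga N154 = N154 := ded_9_1 L797 L398 L796
theorem L799 : sm gf N76 = N155 := rfl
theorem L800 : sm gf N155 = N76 := flp_f L799
theorem L801 : sm ga N155 = N155 := ded_11_1 L800 L398 L799
theorem L802 : sm gc N155 = N78 := ded_20_1 L407 L400 L799
theorem L804 : sm ge N155 = N77 := ded_25_1 L402 L396 L799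
theorem L805 : sm ge N77 = N155 := flp_e L804
theorem L806 : sm gg N142 = N155 := ded_28_1 L800 L739 L734 L740
theorem L807 : sm gg N155 = N142 := flp_g L806
theorem L808 : sm gd N77 = N156 := rfl
theorem L809 : sm gd N156 = N77 := flp_d L808
theorem L810 : sm ga N156 = N156 := ded_9_1 L809 L403 L808
theorem L811 : sm gg N77 = N157 := rfl
theorem L812 : sm gg N157 = N77 := flp_g L811
theorem L814 : sm gc N157 = N79 := ded_21_1 L415 L405 L811
theorem L818 : sm gf N141 = N157 := ded_28_0 L812 L402 L375 L733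
theorem L819 : sm gf N157 = N141 := flp_f L818
theorem L820 : sm gd N142 = N157 := ded_31_2 L814 L415 L190 L83 L42 L24 L9 L7 L17 L38 L45 L82 L181 L375 L740
theorem L821 : sm gd N157 = N142 := flp_d L820
theorem L822 : sm gd N78 = N158 := rfl
theorem L823 : sm gd N158 = N78 := flp_d L822
theorem L826 : sm ge N158 = N158 := ded_22_2 L823 L410 L193 L411 L822
theorem L827 : sm gf N158 = N158 := ded_23_2 L823 L407 L188 L406 L822
theorem L828 : sm gd N79 = N159 := rfl
theorem L829 : sm gd N159 = N79 := flp_d L828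
theorem L830 : sm ga N159 = N159 := ded_9_1 L829 L416 L828
theorem L831 : sm gb N159 = N159 := ded_14_1 L829 L417 L828
theorem L832 : sm gg N159 = N159 := ded_24_2 L829 L415 L193 L414 L828
theorem L833 : sm gd N80 = N160 := rfl
theorem L834 : sm gd N160 = N80 := flp_d L833
theorem L835 : sm ga N160 = N81 := ded_9_1 L432 L422 L833
theorem L836 : sm ga N81 = N160 := flp_a L835
theorem L837 : sm gb N160 = N87 := ded_14_1 L455 L428 L833
theorem L838 : sm gb N87 = N160 := flp_b L837
theorem L839 : sm gf N80 = N161 := rfl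
theorem L840 : sm gf N161 = N80 := flp_f L839
theorem L841 : sm ga N161 = N82 := ded_11_1 L436 L422 L839
theorem L842 : sm ga N82 = N161 := flp_a L841
theorem L843 : sm gb N161 = N88 := ded_16_1 L458 L428 L839
theorem L844 : sm gb N88 = N161 := flp_b L843
theorem L845 : sm gc N161 = N92 := ded_20_1 L486 L425 L839
theorem L846 : sm gc N92 = N161 := flp_c L845
theorem L847 : sm ge N161 = N82 := ded_25_1 L436 L429 L839
theorem L848 : sm ge N82 = N161 := flp_e L847
theorem L849 : sm gg N161 = N82 := ded_28_3 L848 L840 L426 L839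
theorem L850 : sm gg N82 = N161 := flp_g L849
theorem L851 : sm gc N81 = N162 := rfl
theorem L852 : sm gc N162 = N81 := flp_c L851
theorem L853 : sm ge N81 = N163 := rfl
theorem L854 : sm ge N163 = N81 := flp_e L853
theorem L855 : sm gb N163 = N84 := ded_15_1 L445 L434 L853
theorem L856 : sm gb N84 = N163 := flp_b L855
theorem L857 : sm gf N81 = N164 := rfl
theorem L858 : sm gf N164 = N81 := flp_f L857
theorem L859 : sm gb N164 = N85 := ded_16_1 L448 L434 L857
theorem L860 : sm gb N85 = N164 := flp_b L859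
theorem L861 : sm gg N81 = N165 := rfl
theorem L862 : sm gg N165 = N81 := flp_g L861
theorem L863 : sm gb N165 = N86 := ded_17_1 L451 L434 L861
theorem L864 : sm gb N86 = N165 := flp_b L863
theorem L865 : sm gd N165 = N165 := ded_24_1 L862 L432 L196 L431 L861
theorem L866 : sm gd N82 = N166 := rfl
theorem L867 : sm gd N166 = N82 := flp_d L866
theorem L868 : sm gb N166 = N89 := ded_14_1 L467 L438 L866
theorem L869 : sm gb N89 = N166 := flp_b L868
theorem L870 : sm gb N83 = N167 := rfl
theorem L871 : sm gb N167 = N83 := flp_b L870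
theorem L872 : sm ge N83 = N168 := rfl
theorem L873 : sm ge N168 = N83 := flp_e L872
theorem L874 : sm ga N168 = N168 := ded_10_1 L873 L443 L872
theorem L875 : sm gc N168 = N84 := ded_19_1 L445 L441 L872
theorem L876 : sm gc N84 = N168 := flp_c L875
theorem L877 : sm gf N83 = N169 := rfl
theorem L878 : sm gf N169 = N83 := flp_f L877
theorem L879 : sm ga N169 = N169 := ded_11_1 L878 L443 L877
theorem L880 : sm gc N169 = N85 := ded_20_1 L448 L441 L877
theorem L881 : sm gc N85 = N169 := flp_c L880
theorem L882 : sm gg N83 = N170 := rfl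
theorem L883 : sm gg N170 = N83 := flp_g L882
theorem L884 : sm ga N170 = N170 := ded_12_1 L883 L443 L882
theorem L885 : sm gc N170 = N86 := ded_21_1 L451 L441 L882
theorem L886 : sm gc N86 = N170 := flp_c L885
theorem L887 : sm gd N84 = N171 := rfl
theorem L888 : sm gd N171 = N84 := flp_d L887
theorem L889 : sm ga N171 = N171 := ded_9_1 L888 L446 L887
theorem L890 : sm ge N171 = N87 := ded_22_2 L455 L203 L199 L444 L887
theorem L891 : sm ge N87 = N171 := flp_e L890
theorem L892 : sm gf N84 = N172 := rfl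
theorem L893 : sm gf N172 = N84 := flp_f L892
theorem L894 : sm ga N172 = N172 := ded_11_1 L893 L446 L892
theorem L895 : sm ge N172 = N85 := ded_25_1 L448 L444 L892
theorem L896 : sm ge N85 = N172 := flp_e L895
theorem L897 : sm gg N84 = N173 := rfl
theorem L898 : sm gg N173 = N84 := flp_g L897
theorem L899 : sm ga N173 = N173 := ded_12_1 L898 L446 L897
theorem L900 : sm ge N173 = N86 := ded_26_1 L451 L444 L897
theorem L901 : sm ge N86 = N173 := flp_e L900
theorem L902 : sm gd N85 = N174 := rfl
theorem L903 : sm gd N174 = N85 := flp_d L902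
theorem L905 : sm gf N174 = N89 := ded_23_2 L467 L209 L199 L447 L902
theorem L906 : sm gf N89 = N174 := flp_f L905
theorem L907 : sm gg N85 = N175 := rfl
theorem L908 : sm gg N175 = N85 := flp_g L907
theorem L909 : sm ga N175 = N175 := ded_12_1 L908 L449 L907
theorem L910 : sm gf N173 = N175 := ded_28_0 L908 L448 L450 L901
theorem L911 : sm gf N175 = N173 := flp_f L910
theorem L912 : sm gf N86 = N176 := rfl
theorem L913 : sm gf N176 = N86 := flp_f L912
theorem L914 : sm ga N176 = N176 := ded_11_1 L913 L452 L912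
theorem L915 : sm ge N176 = N175 := ded_25_1 L911 L900 L912
theorem L916 : sm ge N175 = N176 := flp_e L915
theorem L917 : sm gg N176 = N172 := ded_28_3 L895 L448 L450 L912
theorem L918 : sm gg N172 = N176 := flp_g L917
theorem L919 : sm gc N87 = N177 := rfl
theorem L920 : sm gc N177 = N87 := flp_c L919
theorem L921 : sm ga N177 = N177 := ded_8_1 L920 L456 L919
theorem L922 : sm gf N87 = N178 := rfl
theorem L923 : sm gf N178 = N87 := flp_f L922
theorem L924 : sm ga N178 = N178 := ded_11_1 L923 L456 L922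
theorem L925 : sm gg N87 = N179 := rfl
theorem L926 : sm gg N179 = N87 := flp_g L925
theorem L927 : sm ga N179 = N179 := ded_12_1 L926 L456 L925
theorem L928 : sm gd N179 = N179 := ded_24_1 L926 L455 L207 L454 L925
theorem L929 : sm gd N88 = N180 := rfl
theorem L930 : sm gd N180 = N88 := flp_d L929
theorem L931 : sm ga N180 = N180 := ded_9_1 L930 L459 L929
theorem L932 : sm gc N89 = N181 := rfl
theorem L933 : sm gc N181 = N89 := flp_c L932
theorem L934 : sm ga N181 = N181 := ded_8_1 L933 L468 L932
theorem L935 : sm ge N89 = N182 := rfl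
theorem L936 : sm ge N182 = N89 := flp_e L935
theorem L937 : sm ga N182 = N182 := ded_10_1 L936 L468 L935
theorem L938 : sm gg N89 = N183 := rfl
theorem L939 : sm gg N183 = N89 := flp_g L938
theorem L940 : sm ga N183 = N183 := ded_12_1 L939 L468 L938
theorem L941 : sm gc N90 = N184 := rfl
theorem L942 : sm gc N184 = N90 := flp_c L941
theorem L943 : sm ga N184 = N184 := ded_8_1 L942 L471 L941
theorem L944 : sm ge N184 = N184 := ded_19_2 L942 L474 L941
theorem L945 : sm gf N184 = N184 := ded_20_2 L942 L475 L941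
theorem L946 : sm gg N184 = N184 := ded_21_2 L942 L476 L941
theorem L947 : sm gb N184 = N184 := ded_13_1 L942 L472 L276 L473 L941
theorem L948 : sm gc N91 = N185 := rfl
theorem L949 : sm gc N185 = N91 := flp_c L948
theorem L950 : sm ga N185 = N93 := ded_8_1 L498 L480 L948
theorem L951 : sm ga N93 = N185 := flp_a L950
theorem L952 : sm gf N185 = N93 := ded_20_2 L498 L483 L948
theorem L953 : sm gf N93 = N185 := flp_f L952
theorem L954 : sm ge N91 = N186 := rfl
theorem L955 : sm ge N186 = N91 := flp_e L954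
theorem L956 : sm ga N186 = N94 := ded_10_1 L500 L480 L954
theorem L957 : sm ga N94 = N186 := flp_a L956
theorem L958 : sm gb N186 = N98 := ded_15_1 L523 L482 L954
theorem L959 : sm gb N98 = N186 := flp_b L958
theorem L960 : sm gf N186 = N94 := ded_25_2 L500 L483 L954
theorem L961 : sm gf N94 = N186 := flp_f L960
theorem L962 : sm gd N186 = N94 := ded_22_1 L500 L230 L227 L477 L954
theorem L963 : sm gd N94 = N186 := flp_d L962
theorem L964 : sm gg N91 = N187 := rfl
theorem L965 : sm gg N187 = N91 := flp_g L964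
theorem L966 : sm ga N187 = N95 := ded_12_1 L504 L480 L964
theorem L967 : sm ga N95 = N187 := flp_a L966
theorem L968 : sm gb N187 = N99 := ded_17_1 L530 L482 L964
theorem L969 : sm gb N99 = N187 := flp_b L968
theorem L970 : sm gd N187 = N187 := ded_24_1 L965 L478 L224 L477 L964
theorem L971 : sm gb N93 = N188 := rfl
theorem L972 : sm gb N188 = N93 := flp_b L971
theorem L973 : sm gc N188 = N95 := ded_13_2 L505 L238 L232 L497 L971
theorem L974 : sm gc N95 = N188 := flp_c L973
theorem L975 : sm gg N93 = N188 := ded_21_0 L973 L504 L497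
theorem L976 : sm gg N188 = N93 := flp_g L975
theorem L977 : sm gd N93 = N189 := rfl
theorem L978 : sm gd N189 = N93 := flp_d L977
theorem L979 : sm ge N93 = N190 := rfl
theorem L980 : sm ge N190 = N93 := flp_e L979
theorem L981 : sm gc N190 = N94 := ded_19_1 L500 L497 L979
theorem L982 : sm gc N94 = N190 := flp_c L981
theorem L983 : sm gg N94 = N191 := rfl
theorem L984 : sm gg N191 = N94 := flp_g L983
theorem L985 : sm gb N191 = N96 := ded_17_1 L513 L502 L983
theorem L986 : sm gb N96 = N191 := flp_b L985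
theorem L987 : sm ge N191 = N95 := ded_26_1 L504 L499 L983
theorem L988 : sm ge N95 = N191 := flp_e L987
theorem L989 : sm gf N191 = N187 := ded_28_2 L965 L954 L960 L983
theorem L990 : sm gf N187 = N191 := flp_f L989
theorem L991 : sm gf N95 = N192 := rfl
theorem L992 : sm gf N192 = N95 := flp_f L991
theorem L993 : sm ga N192 = N191 := ded_11_1 L989 L966 L991
theorem L994 : sm ga N191 = N192 := flp_a L993
theorem L995 : sm gb N192 = N97 := ded_16_1 L516 L506 L991
theorem L996 : sm gb N97 = N192 := flp_b L995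
theorem L997 : sm ge N192 = N187 := ded_25_1 L990 L987 L991
theorem L998 : sm ge N187 = N192 := flp_e L997
theorem L999 : sm gg N192 = N186 := ded_28_3 L955 L484 L503 L991
theorem L1000 : sm gg N186 = N192 := flp_g L999
theorem L1001 : sm gd N96 = N193 := rfl
theorem L1002 : sm gd N193 = N96 := flp_d L1001
theorem L1003 : sm ga N193 = N193 := ded_9_1 L1002 L510 L1001
theorem L1004 : sm ge N193 = N193 := ded_22_2 L1002 L509 L240 L508 L1001
theorem L1005 : sm gf N193 = N193 := ded_23_2 L1002 L536 L538 L537 L1001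
theorem L1006 : sm gc N193 = N193 := ded_30_0 L1002 L511 L520 L533 L538 L532 L521 L512 L1001 L1003
theorem L1007 : sm gd N97 = N194 := rfl
theorem L1008 : sm gd N194 = N97 := flp_d L1007
theorem L1009 : sm ga N194 = N194 := ded_9_1 L1008 L517 L1007
theorem L1010 : sm ge N194 = N194 := ded_22_2 L1008 L535 L538 L534 L1007
theorem L1011 : sm gf N194 = N194 := ded_23_2 L1008 L516 L240 L515 L1007
theorem L1012 : sm gg N194 = N193 := ded_24_2 L1002 L513 L520 L528 L1007
theorem L1013 : sm gg N193 = N194 := flp_g L1012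
theorem L1014 : sm gc N194 = N194 := ded_30_0 L1008 L518 L268 L112 L60 L113 L269 L519 L1007 L1009
theorem L1015 : sm gc N100 = N195 := rfl
theorem L1016 : sm gc N195 = N100 := flp_c L1015
theorem L1017 : sm ga N195 = N103 := ded_8_1 L564 L542 L1015
theorem L1018 : sm ga N103 = N195 := flp_a L1017
theorem L1019 : N118 = N111 := coi_29_9 L607 L318 L544 L1015 L1017 L565 L564 L542 L543 L645
theorem L1020 : N118 = N111 := eqc rfl L1019 rfl
theorem L1022 : sm gc N111 = N60 := trfs L1020 L646 rfl
theorem L1023 : sm gc N60 = N111 := flp_c L1022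
theorem L1024 : sm ge N100 = N196 := rfl
theorem L1025 : sm ge N196 = N100 := flp_e L1024
theorem L1026 : sm ga N196 = N104 := ded_10_1 L567 L542 L1024
theorem L1027 : sm ga N104 = N196 := flp_a L1026
theorem L1028 : sm gb N196 = N111 := ded_15_1 L607 L544 L1024
theorem L1029 : sm gb N111 = N196 := flp_b L1028
theorem L1030 : sm gd N196 = N104 := ded_22_1 L567 L291 L288 L539 L1024
theorem L1031 : sm gd N104 = N196 := flp_d L1030
theorem L1032 : sm gf N100 = N197 := rfl
theorem L1033 : sm gf N197 = N100 := flp_f L1032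
theorem L1034 : sm ga N197 = N105 := ded_11_1 L571 L542 L1032
theorem L1035 : sm ga N105 = N197 := flp_a L1034
theorem L1036 : sm gb N197 = N119 := ded_16_1 L649 L544 L1032
theorem L1037 : sm gb N119 = N197 := flp_b L1036
theorem L1038 : sm gg N100 = N198 := rfl
theorem L1039 : sm gg N198 = N100 := flp_g L1038
theorem L1040 : sm ga N198 = N106 := ded_12_1 L575 L542 L1038
theorem L1041 : sm ga N106 = N198 := flp_a L1040
theorem L1042 : sm gb N198 = N120 := ded_17_1 L652 L544 L1038
theorem L1043 : sm gb N120 = N198 := flp_b L1042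
theorem L1044 : sm gd N101 = N199 := rfl
theorem L1045 : sm gd N199 = N101 := flp_d L1044
theorem L1046 : sm ga N199 = N107 := ded_9_1 L579 L548 L1044
theorem L1047 : sm ga N107 = N199 := flp_a L1046
theorem L1048 : sm gb N199 = N121 := ded_14_1 L655 L550 L1044
theorem L1049 : sm gb N121 = N199 := flp_b L1048
theorem L1050 : sm gd N102 = N200 := rfl
theorem L1051 : sm gd N200 = N102 := flp_d L1050
theorem L1052 : sm ga N200 = N109 := ded_9_1 L590 L557 L1050
theorem L1053 : sm ga N109 = N200 := flp_a L1052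
theorem L1054 : sm gb N200 = N122 := ded_14_1 L658 L559 L1050
theorem L1055 : sm gb N122 = N200 := flp_b L1054
theorem L1056 : sm gd N103 = N201 := rfl
theorem L1057 : sm gd N201 = N103 := flp_d L1056
theorem L1058 : sm gb N201 = N201 := ded_14_1 L1057 L565 L1056
theorem L1059 : sm ge N103 = N202 := rfl
theorem L1060 : sm ge N202 = N103 := flp_e L1059
theorem L1062 : sm gc N202 = N104 := ded_19_1 L567 L563 L1059
theorem L1063 : sm gc N104 = N202 := flp_c L1062
theorem L1064 : sm gf N103 = N203 := rfl
theorem L1065 : sm gf N203 = N103 := flp_f L1064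
theorem L1066 : sm gb N203 = N203 := ded_16_1 L1065 L565 L1064
theorem L1067 : sm gc N203 = N105 := ded_20_1 L571 L563 L1064
theorem L1068 : sm gc N105 = N203 := flp_c L1067
theorem L1069 : sm gg N103 = N204 := rfl
theorem L1070 : sm gg N204 = N103 := flp_g L1069
theorem L1071 : sm gb N204 = N204 := ded_17_1 L1070 L565 L1069
theorem L1072 : sm gc N204 = N106 := ded_21_1 L575 L563 L1069
theorem L1073 : sm gc N106 = N204 := flp_c L1072
theorem L1074 : sm gf N104 = N205 := rfl
theorem L1075 : sm gf N205 = N104 := flp_f L1074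
theorem L1076 : sm gb N205 = N112 := ded_16_1 L610 L569 L1074
theorem L1077 : sm gb N112 = N205 := flp_b L1076
theorem L1078 : sm ge N205 = N105 := ded_25_1 L571 L566 L1074
theorem L1079 : sm ge N105 = N205 := flp_e L1078
theorem L1080 : sm gg N104 = N206 := rfl
theorem L1081 : sm gg N206 = N104 := flp_g L1080
theorem L1082 : sm gb N206 = N113 := ded_17_1 L616 L569 L1080
theorem L1083 : sm gb N113 = N206 := flp_b L1082
theorem L1084 : sm ge N206 = N106 := ded_26_1 L575 L566 L1080
theorem L1085 : sm ge N106 = N206 := flp_e L1084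
theorem L1086 : sm gd N105 = N207 := rfl
theorem L1087 : sm gd N207 = N105 := flp_d L1086
theorem L1088 : sm gb N207 = N114 := ded_14_1 L622 L573 L1086
theorem L1089 : sm gb N114 = N207 := flp_b L1088
theorem L1090 : sm gf N207 = N107 := ded_23_2 L579 L295 L290 L570 L1086
theorem L1091 : sm gf N107 = N207 := flp_f L1090
theorem L1092 : sm gg N105 = N208 := rfl
theorem L1093 : sm gg N208 = N105 := flp_g L1092
theorem L1094 : sm gb N208 = N115 := ded_17_1 L627 L573 L1092
theorem L1095 : sm gb N115 = N208 := flp_b L1094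
theorem L1096 : sm gf N206 = N208 := ded_28_0 L1093 L571 L574 L1085
theorem L1097 : sm gf N208 = N206 := flp_f L1096
theorem L1098 : sm gd N106 = N209 := rfl
theorem L1099 : sm gd N209 = N106 := flp_d L1098
theorem L1100 : sm gb N209 = N116 := ded_14_1 L633 L577 L1098
theorem L1101 : sm gb N116 = N209 := flp_b L1100
theorem L1102 : sm gg N209 = N109 := ded_24_2 L590 L300 L290 L574 L1098
theorem L1103 : sm gg N109 = N209 := flp_g L1102
theorem L1104 : sm gf N106 = N210 := rfl
theorem L1105 : sm gf N210 = N106 := flp_f L1104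
theorem L1106 : sm gb N210 = N117 := ded_16_1 L638 L577 L1104
theorem L1107 : sm gb N117 = N210 := flp_b L1106
theorem L1108 : sm ge N210 = N208 := ded_25_1 L1097 L1084 L1104
theorem L1109 : sm ge N208 = N210 := flp_e L1108
theorem L1110 : sm gg N210 = N205 := ded_28_3 L1078 L571 L574 L1104
theorem L1111 : sm gg N205 = N210 := flp_g L1110
theorem L1112 : sm gc N107 = N211 := rfl
theorem L1113 : sm gc N211 = N107 := flp_c L1112
theorem L1114 : sm ge N107 = N212 := rfl
theorem L1115 : sm ge N212 = N107 := flp_e L1114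
theorem L1116 : sm gb N212 = N124 := ded_15_1 L664 L581 L1114
theorem L1117 : sm gb N124 = N212 := flp_b L1116
theorem L1118 : sm gg N107 = N213 := rfl
theorem L1119 : sm gg N213 = N107 := flp_g L1118
theorem L1120 : sm gb N213 = N125 := ded_17_1 L667 L581 L1118
theorem L1121 : sm gb N125 = N213 := flp_b L1120
theorem L1122 : sm gd N108 = N214 := rfl
theorem L1123 : sm gd N214 = N108 := flp_d L1122
theorem L1124 : sm gb N214 = N126 := ded_14_1 L670 L585 L1122
theorem L1125 : sm gb N126 = N214 := flp_b L1124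
theorem L1126 : sm gc N109 = N215 := rfl
theorem L1127 : sm gc N215 = N109 := flp_c L1126
theorem L1128 : sm ge N109 = N216 := rfl
theorem L1129 : sm ge N216 = N109 := flp_e L1128
theorem L1130 : sm gb N216 = N128 := ded_15_1 L676 L592 L1128
theorem L1132 : sm gf N109 = N217 := rfl
theorem L1133 : sm gf N217 = N109 := flp_f L1132
theorem L1134 : sm gb N217 = N129 := ded_16_1 L679 L592 L1132
theorem L1135 : sm gb N129 = N217 := flp_b L1134
theorem L1136 : sm gd N110 = N218 := rfl
theorem L1137 : sm gd N218 = N110 := flp_d L1136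
theorem L1138 : sm ga N218 = N214 := ded_9_1 L1123 L596 L1136
theorem L1139 : sm ga N214 = N218 := flp_a L1138
theorem L1140 : sm gb N218 = N130 := ded_14_1 L682 L598 L1136
theorem L1141 : sm gb N130 = N218 := flp_b L1140
theorem L1142 : sm gf N111 = N219 := rfl
theorem L1143 : sm gf N219 = N111 := flp_f L1142
theorem L1144 : sm ga N219 = N219 := ded_11_1 L1143 L606 L1142
theorem L1145 : sm gc N219 = N119 := ded_20_1 L649 L1023 L1142
theorem L1146 : sm gc N119 = N219 := flp_c L1145
theorem L1147 : sm ge N219 = N119 := ded_25_1 L649 L608 L1142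
theorem L1148 : sm ge N119 = N219 := flp_e L1147
theorem L1149 : sm gg N111 = N220 := rfl
theorem L1150 : sm gg N220 = N111 := flp_g L1149
theorem L1151 : sm ga N220 = N220 := ded_12_1 L1150 L606 L1149
theorem L1152 : sm gc N220 = N120 := ded_21_1 L652 L1023 L1149
theorem L1153 : sm gc N120 = N220 := flp_c L1152
theorem L1154 : sm ge N220 = N120 := ded_26_1 L652 L608 L1149
theorem L1155 : sm ge N120 = N220 := flp_e L1154
theorem L1156 : sm gd N112 = N221 := rfl
theorem L1157 : sm gd N221 = N112 := flp_d L1156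
theorem L1158 : sm ga N221 = N221 := ded_9_1 L1157 L611 L1156
theorem L1159 : sm gd N113 = N222 := rfl
theorem L1160 : sm gd N222 = N113 := flp_d L1159
theorem L1161 : sm ga N222 = N222 := ded_9_1 L1160 L617 L1159
theorem L1162 : sm gc N114 = N223 := rfl
theorem L1163 : sm gc N223 = N114 := flp_c L1162
theorem L1164 : sm ga N223 = N223 := ded_8_1 L1163 L623 L1162
theorem L1165 : sm gf N223 = N123 := ded_20_2 L661 L625 L1162
theorem L1166 : sm gf N123 = N223 := flp_f L1165
theorem L1167 : sm ge N114 = N224 := rfl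
theorem L1168 : sm ge N224 = N114 := flp_e L1167
theorem L1169 : sm ga N224 = N224 := ded_10_1 L1168 L623 L1167
theorem L1170 : sm gf N224 = N124 := ded_25_2 L664 L625 L1167
theorem L1171 : sm gf N124 = N224 := flp_f L1170
theorem L1172 : sm gg N114 = N225 := rfl
theorem L1173 : sm gg N225 = N114 := flp_g L1172
theorem L1174 : sm ga N225 = N225 := ded_12_1 L1173 L623 L1172
theorem L1175 : sm gd N115 = N226 := rfl
theorem L1176 : sm gd N226 = N115 := flp_d L1175
theorem L1177 : sm ga N226 = N226 := ded_9_1 L1176 L628 L1175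
theorem L1178 : sm gc N116 = N227 := rfl
theorem L1179 : sm gc N227 = N116 := flp_c L1178
theorem L1180 : sm ga N227 = N227 := ded_8_1 L1179 L634 L1178
theorem L1181 : sm gg N227 = N127 := ded_21_2 L673 L636 L1178
theorem L1182 : sm gg N127 = N227 := flp_g L1181
theorem L1183 : sm ge N116 = N228 := rfl
theorem L1184 : sm ge N228 = N116 := flp_e L1183
theorem L1186 : sm gg N228 = N128 := ded_26_2 L676 L636 L1183
theorem L1187 : sm gg N128 = N228 := flp_g L1186
theorem L1188 : sm gf N116 = N229 := rfl
theorem L1189 : sm gf N229 = N116 := flp_f L1188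
theorem L1190 : sm ga N229 = N229 := ded_11_1 L1189 L634 L1188
theorem L1191 : sm gd N117 = N230 := rfl
theorem L1192 : sm gd N230 = N117 := flp_d L1191
theorem L1193 : sm ga N230 = N230 := ded_9_1 L1192 L639 L1191
theorem L1194 : sm gd N119 = N231 := rfl
theorem L1195 : sm gd N231 = N119 := flp_d L1194
theorem L1196 : sm ga N231 = N231 := ded_9_1 L1195 L650 L1194
theorem L1197 : sm gf N231 = N121 := ded_23_2 L655 L320 L316 L648 L1194
theorem L1198 : sm gf N121 = N231 := flp_f L1197
theorem L1199 : sm gg N119 = N232 := rfl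
theorem L1200 : sm gg N232 = N119 := flp_g L1199
theorem L1201 : sm ga N232 = N232 := ded_12_1 L1200 L650 L1199
theorem L1202 : sm gf N220 = N232 := ded_28_0 L1200 L649 L651 L1155
theorem L1203 : sm gf N232 = N220 := flp_f L1202
theorem L1204 : sm gd N120 = N233 := rfl
theorem L1205 : sm gd N233 = N120 := flp_d L1204
theorem L1206 : sm ga N233 = N233 := ded_9_1 L1205 L653 L1204
theorem L1207 : sm gg N233 = N122 := ded_24_2 L658 L327 L316 L651 L1204
theorem L1208 : sm gg N122 = N233 := flp_g L1207
theorem L1209 : sm gf N120 = N234 := rfl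
theorem L1210 : sm gf N234 = N120 := flp_f L1209
theorem L1211 : sm ga N234 = N234 := ded_11_1 L1210 L653 L1209
theorem L1212 : sm gc N234 = N232 := ded_20_1 L1203 L1152 L1209
theorem L1213 : sm gc N232 = N234 := flp_c L1212
theorem L1214 : sm ge N234 = N232 := ded_25_1 L1203 L1154 L1209
theorem L1215 : sm ge N232 = N234 := flp_e L1214
theorem L1216 : sm gg N234 = N219 := ded_28_3 L1147 L649 L651 L1209
theorem L1217 : sm gg N219 = N234 := flp_g L1216
theorem L1218 : sm gc N121 = N235 := rfl
theorem L1219 : sm gc N235 = N121 := flp_c L1218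
theorem L1220 : sm ga N235 = N235 := ded_8_1 L1219 L656 L1218
theorem L1221 : sm ge N121 = N236 := rfl
theorem L1222 : sm ge N236 = N121 := flp_e L1221
theorem L1223 : sm ga N236 = N236 := ded_10_1 L1222 L656 L1221
theorem L1224 : sm gd N236 = N124 := ded_22_1 L664 L334 L325 L654 L1221
theorem L1225 : sm gd N124 = N236 := flp_d L1224
theorem L1226 : sm gg N121 = N237 := rfl
theorem L1227 : sm gg N237 = N121 := flp_g L1226
theorem L1228 : sm ga N237 = N237 := ded_12_1 L1227 L656 L1226
theorem L1229 : sm gc N122 = N238 := rfl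
theorem L1230 : sm gc N238 = N122 := flp_c L1229
theorem L1231 : sm ga N238 = N238 := ded_8_1 L1230 L659 L1229
theorem L1232 : sm ge N122 = N239 := rfl
theorem L1233 : sm ge N239 = N122 := flp_e L1232
theorem L1235 : sm gd N239 = N128 := ded_22_1 L676 L344 L332 L657 L1232
theorem L1236 : sm gd N128 = N239 := flp_d L1235
theorem L1237 : sm gf N122 = N240 := rfl
theorem L1238 : sm gf N240 = N122 := flp_f L1237
theorem L1240 : sm gb N123 = N241 := rfl
theorem L1241 : sm gb N241 = N123 := flp_b L1240
theorem L1242 : sm gd N123 = N242 := rfl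
theorem L1243 : sm gd N242 = N123 := flp_d L1242
theorem L1244 : sm ga N242 = N242 := ded_9_1 L1243 L662 L1242
theorem L1245 : sm gc N242 = N242 := ded_30_0 L1243 L661 L334 L142 L77 L143 L333 L660 L1242 L1244
theorem L1246 : sm ge N123 = N243 := rfl
theorem L1247 : sm ge N243 = N123 := flp_e L1246
theorem L1248 : sm ga N243 = N243 := ded_10_1 L1247 L662 L1246
theorem L1249 : sm gc N243 = N124 := ded_19_1 L664 L660 L1246
theorem L1250 : sm gc N124 = N243 := flp_c L1249
theorem L1251 : sm gg N123 = N244 := rfl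
theorem L1252 : sm gg N244 = N123 := flp_g L1251
theorem L1253 : sm ga N244 = N244 := ded_12_1 L1252 L662 L1251
theorem L1254 : sm gc N244 = N125 := ded_21_1 L667 L660 L1251
theorem L1255 : sm gc N125 = N244 := flp_c L1254
theorem L1256 : sm gg N124 = N245 := rfl
theorem L1257 : sm gg N245 = N124 := flp_g L1256
theorem L1258 : sm ga N245 = N245 := ded_12_1 L1257 L665 L1256
theorem L1259 : sm ge N245 = N125 := ded_26_1 L667 L663 L1256
theorem L1261 : sm gf N245 = N225 := ded_28_2 L1173 L1167 L1170 L1256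
theorem L1262 : sm gf N225 = N245 := flp_f L1261
theorem L1263 : sm gd N125 = N246 := rfl
theorem L1264 : sm gd N246 = N125 := flp_d L1263
theorem L1266 : sm gg N246 = N126 := ded_24_2 L670 L337 L333 L666 L1263
theorem L1267 : sm gg N126 = N246 := flp_g L1266
theorem L1268 : sm gf N125 = N247 := rfl
theorem L1269 : sm gf N247 = N125 := flp_f L1268
theorem L1270 : sm ga N247 = N247 := ded_11_1 L1269 L668 L1268
theorem L1271 : sm ge N247 = N225 := ded_25_1 L1262 L1259 L1268
theorem L1272 : sm ge N225 = N247 := flp_e L1271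
theorem L1273 : sm gg N247 = N224 := ded_28_3 L1168 L624 L666 L1268
theorem L1274 : sm gg N224 = N247 := flp_g L1273
theorem L1275 : sm gc N126 = N248 := rfl
theorem L1276 : sm gc N248 = N126 := flp_c L1275
theorem L1277 : sm ga N248 = N248 := ded_8_1 L1276 L671 L1275
theorem L1278 : sm ge N126 = N249 := rfl
theorem L1279 : sm ge N249 = N126 := flp_e L1278
theorem L1280 : sm ga N249 = N249 := ded_10_1 L1279 L671 L1278
theorem L1281 : sm gf N126 = N250 := rfl
theorem L1282 : sm gf N250 = N126 := flp_f L1281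
theorem L1284 : sm gd N250 = N240 := ded_23_1 L1238 L658 L341 L669 L1281
theorem L1285 : sm gd N240 = N250 := flp_d L1284
theorem L1286 : sm gg N181 = N250 := ded_31_0 L1282 L670 L339 L162 L74 L35 L18 L23 L29 L46 L86 L89 L208 L466 L932
theorem L1287 : sm gg N250 = N181 := flp_g L1286
theorem L1288 : sm gc N250 = N183 := ded_21_1 L939 L932 L1286
theorem L1289 : sm gc N183 = N250 := flp_c L1288
theorem L1290 : sm gf N183 = N248 := ded_20_2 L1276 L1281 L1288
theorem L1291 : sm gf N248 = N183 := flp_f L1290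
theorem L1292 : sm gb N127 = N251 := rfl
theorem L1293 : sm gb N251 = N127 := flp_b L1292
theorem L1294 : sm gd N127 = N252 := rfl
theorem L1295 : sm gd N252 = N127 := flp_d L1294
theorem L1296 : sm ga N252 = N252 := ded_9_1 L1295 L674 L1294
theorem L1297 : sm ge N127 = N253 := rfl
theorem L1298 : sm ge N253 = N127 := flp_e L1297
theorem L1299 : sm ga N253 = N253 := ded_10_1 L1298 L674 L1297
theorem L1300 : sm gc N253 = N128 := ded_19_1 L676 L672 L1297
theorem L1301 : sm gc N128 = N253 := flp_c L1300
theorem L1302 : sm gf N127 = N254 := rfl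
theorem L1303 : sm gf N254 = N127 := flp_f L1302
theorem L1304 : sm ga N254 = N254 := ded_11_1 L1303 L674 L1302
theorem L1305 : sm gc N254 = N129 := ded_20_1 L679 L672 L1302
theorem L1306 : sm gc N129 = N254 := flp_c L1305
theorem L1307 : sm gf N128 = N255 := rfl
theorem L1308 : sm gf N255 = N128 := flp_f L1307
theorem L1310 : sm ge N255 = N129 := ded_25_1 L679 L675 L1307
theorem L1311 : sm ge N129 = N255 := flp_e L1310
theorem L1312 : sm gg N229 = N255 := ded_28_1 L1308 L1187 L1184 L1188
theorem L1313 : sm gg N255 = N229 := flp_g L1312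
theorem L1314 : sm gd N129 = N256 := rfl
theorem L1315 : sm gd N256 = N129 := flp_d L1314
theorem L1317 : sm gf N256 = N130 := ded_23_2 L682 L347 L343 L678 L1314
theorem L1318 : sm gf N130 = N256 := flp_f L1317
theorem L1319 : sm gg N129 = N257 := rfl
theorem L1320 : sm gg N257 = N129 := flp_g L1319
theorem L1322 : sm ge N257 = N229 := ded_26_1 L1312 L1310 L1319
theorem L1323 : sm ge N229 = N257 := flp_e L1322
theorem L1324 : sm gf N228 = N257 := ded_28_0 L1320 L679 L636 L1183
theorem L1326 : sm gc N130 = N258 := rfl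
theorem L1327 : sm gc N258 = N130 := flp_c L1326
theorem L1328 : sm ga N258 = N258 := ded_8_1 L1327 L683 L1326
theorem L1329 : sm ge N130 = N259 := rfl
theorem L1330 : sm ge N259 = N130 := flp_e L1329
theorem L1331 : sm ga N259 = N259 := ded_10_1 L1330 L683 L1329
theorem L1332 : sm gd N259 = N249 := ded_22_1 L1279 L670 L352 L681 L1329
theorem L1333 : sm gd N249 = N259 := flp_d L1332
theorem L1334 : sm gg N130 = N260 := rfl
theorem L1335 : sm gg N260 = N130 := flp_g L1334
theorem L1337 : sm gd N260 = N237 := ded_24_1 L1227 L655 L354 L681 L1334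
theorem L1338 : sm gd N237 = N260 := flp_d L1337
theorem L1339 : sm gb N131 = N261 := rfl
theorem L1340 : sm gb N261 = N131 := flp_b L1339
theorem L1341 : sm ge N261 = N261 := ded_15_2 L1340 L687 L1339
theorem L1342 : sm gf N261 = N261 := ded_16_2 L1340 L688 L1339
theorem L1343 : sm gc N261 = N261 := ded_13_2 L1340 L685 L358 L684 L1339
theorem L1344 : sm ga N261 = N261 := ded_29_6 L1340 L685 L359 L357 L358 L684 L686 L1339 L1343
theorem L1345 : sm gd N131 = N262 := rfl
theorem L1346 : sm gd N262 = N131 := flp_d L1345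
theorem L1347 : sm ga N262 = N262 := ded_9_1 L1346 L686 L1345
theorem L1348 : sm gg N131 = N263 := rfl
theorem L1349 : sm gg N263 = N131 := flp_g L1348
theorem L1351 : sm gc N263 = N132 := ded_21_1 L690 L684 L1348
theorem L1352 : sm gc N132 = N263 := flp_c L1351
theorem L1355 : sm gb N133 = N264 := rfl
theorem L1356 : sm gb N264 = N133 := flp_b L1355
theorem L1358 : sm gc N264 = N264 := ded_13_2 L1356 L696 L364 L695 L1355
theorem L1359 : sm gd N133 = N265 := rfl
theorem L1360 : sm gd N265 = N133 := flp_d L1359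
theorem L1362 : sm ge N133 = N266 := rfl
theorem L1363 : sm ge N266 = N133 := flp_e L1362
theorem L1364 : sm ga N266 = N266 := ded_10_1 L1363 L697 L1362
theorem L1365 : sm gc N266 = N134 := ded_19_1 L700 L695 L1362
theorem L1366 : sm gc N134 = N266 := flp_c L1365
theorem L1367 : sm gg N266 = N266 := ded_26_2 L1363 L698 L1362
theorem L1368 : sm gf N133 = N267 := rfl
theorem L1369 : sm gf N267 = N133 := flp_f L1368
theorem L1370 : sm ga N267 = N267 := ded_11_1 L1369 L697 L1368
theorem L1371 : sm gc N267 = N135 := ded_20_1 L707 L695 L1368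
theorem L1372 : sm gc N135 = N267 := flp_c L1371
theorem L1373 : sm gf N134 = N268 := rfl
theorem L1374 : sm gf N268 = N134 := flp_f L1373
theorem L1377 : sm ge N268 = N135 := ded_25_1 L707 L699 L1373
theorem L1378 : sm ge N135 = N268 := flp_e L1377
theorem L1379 : sm gg N268 = N135 := ded_28_3 L1378 L1374 L703 L1373
theorem L1381 : sm gb N136 = N269 := rfl
theorem L1382 : sm gb N269 = N136 := flp_b L1381
theorem L1383 : sm gg N269 = N269 := ded_17_2 L1382 L713 L1381
theorem L1384 : sm gc N269 = N269 := ded_13_2 L1382 L711 L369 L710 L1381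
theorem L1385 : sm gd N136 = N270 := rfl
theorem L1386 : sm gd N270 = N136 := flp_d L1385
theorem L1387 : sm ga N270 = N270 := ded_9_1 L1386 L712 L1385
theorem L1388 : sm ge N136 = N271 := rfl
theorem L1389 : sm ge N271 = N136 := flp_e L1388
theorem L1390 : sm ga N271 = N271 := ded_10_1 L1389 L712 L1388
theorem L1391 : sm gc N271 = N137 := ded_19_1 L715 L710 L1388
theorem L1392 : sm gc N137 = N271 := flp_c L1391
theorem L1393 : sm gg N271 = N271 := ded_26_2 L1389 L713 L1388
theorem L1394 : sm gf N136 = N272 := rfl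
theorem L1395 : sm gf N272 = N136 := flp_f L1394
theorem L1396 : sm ga N272 = N272 := ded_11_1 L1395 L712 L1394
theorem L1397 : sm gc N272 = N138 := ded_20_1 L720 L710 L1394
theorem L1399 : sm gf N137 = N273 := rfl
theorem L1400 : sm gf N273 = N137 := flp_f L1399
theorem L1401 : sm ga N273 = N273 := ded_11_1 L1400 L716 L1399
theorem L1403 : sm ge N273 = N138 := ded_25_1 L720 L714 L1399
theorem L1404 : sm ge N138 = N273 := flp_e L1403
theorem L1405 : sm gg N273 = N138 := ded_28_3 L1404 L1400 L718 L1399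
theorem L1406 : sm gg N138 = N273 := flp_g L1405
theorem L1407 : sm ga N139 = N274 := rfl
theorem L1408 : sm ga N274 = N139 := flp_a L1407
theorem L1409 : sm gc N274 = N274 := ded_8_2 L1408 L729 L1407
theorem L1410 : sm gg N274 = N147 := ded_12_2 L767 L728 L1407
theorem L1411 : sm gg N147 = N274 := flp_g L1410
theorem L1412 : sm gb N274 = N141 := ded_29_4 L736 L378 L379 L737 L734 L373 L725 L729 L1407
theorem L1413 : sm gb N141 = N274 := flp_b L1412
theorem L1414 : sm ge N139 = N274 := ded_29_9 L1408 L726 L372 L169 L170 L371 L373 L725 L729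
theorem L1415 : sm ge N274 = N139 := flp_e L1414
theorem L1416 : sm gd N139 = N275 := rfl
theorem L1417 : sm gd N275 = N139 := flp_d L1416
theorem L1418 : sm gb N275 = N140 := ded_14_1 L731 L725 L1416
theorem L1419 : sm gb N140 = N275 := flp_b L1418
theorem L1420 : sm gf N139 = N276 := rfl
theorem L1422 : sm gb N276 = N142 := ded_16_1 L741 L725 L1420
theorem L1423 : sm gb N142 = N276 := flp_b L1422
theorem L1425 : sm gc N140 = N277 := rfl
theorem L1426 : sm gc N277 = N140 := flp_c L1425
theorem L1428 : sm ge N140 = N278 := rfl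
theorem L1429 : sm ge N278 = N140 := flp_e L1428
theorem L1431 : sm gf N140 = N279 := rfl
theorem L1432 : sm gf N279 = N140 := flp_f L1431
theorem L1433 : sm ga N279 = N279 := ded_11_1 L1432 L732 L1431
theorem L1434 : sm gd N279 = N141 := ded_23_1 L818 L821 L741 L730 L1431
theorem L1435 : sm gd N141 = N279 := flp_d L1434
theorem L1436 : sm gg N140 = N280 := rfl
theorem L1437 : sm gg N280 = N140 := flp_g L1436
theorem L1439 : sm gd N280 = N153 := ded_24_1 L794 L394 L375 L730 L1436
theorem L1440 : sm gd N153 = N280 := flp_d L1439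
theorem L1441 : sm gc N143 = N281 := rfl
theorem L1442 : sm gc N281 = N143 := flp_c L1441
theorem L1443 : sm ga N281 = N281 := ded_8_1 L1442 L747 L1441
theorem L1444 : sm gf N281 = N144 := ded_20_2 L752 L750 L1441
theorem L1445 : sm gf N144 = N281 := flp_f L1444
theorem L1446 : sm ge N143 = N282 := rfl
theorem L1447 : sm ge N282 = N143 := flp_e L1446
theorem L1448 : sm ga N282 = N282 := ded_10_1 L1447 L747 L1446
theorem L1449 : sm gb N282 = N282 := ded_15_1 L1447 L748 L1446
theorem L1450 : sm gf N282 = N145 := ded_25_2 L755 L750 L1446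
theorem L1452 : sm gg N143 = N283 := rfl
theorem L1453 : sm gg N283 = N143 := flp_g L1452
theorem L1456 : sm gb N144 = N284 := rfl
theorem L1457 : sm gb N284 = N144 := flp_b L1456
theorem L1458 : sm gc N284 = N284 := ded_13_2 L1457 L752 L389 L751 L1456
theorem L1459 : sm gd N144 = N285 := rfl
theorem L1460 : sm gd N285 = N144 := flp_d L1459
theorem L1461 : sm ga N285 = N285 := ded_9_1 L1460 L753 L1459
theorem L1462 : sm ge N144 = N286 := rfl
theorem L1463 : sm ge N286 = N144 := flp_e L1462
theorem L1464 : sm ga N286 = N286 := ded_10_1 L1463 L753 L1462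
theorem L1465 : sm gc N286 = N145 := ded_19_1 L755 L751 L1462
theorem L1466 : sm gc N145 = N286 := flp_c L1465
theorem L1467 : sm gg N144 = N287 := rfl
theorem L1468 : sm gg N287 = N144 := flp_g L1467
theorem L1469 : sm ga N287 = N287 := ded_12_1 L1468 L753 L1467
theorem L1470 : sm gc N287 = N146 := ded_21_1 L761 L751 L1467
theorem L1471 : sm gc N146 = N287 := flp_c L1470
theorem L1481 : sm gf N146 = N289 := rfl
theorem L1482 : sm gf N289 = N146 := flp_f L1481
theorem L1487 : sm gg N289 = N282 := ded_28_3 L1447 L749 L760 L1481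
theorem L1488 : sm gg N282 = N289 := flp_g L1487
theorem L1490 : sm gd N147 = N290 := rfl
theorem L1491 : sm gd N290 = N147 := flp_d L1490
theorem L1492 : sm ga N290 = N148 := ded_9_1 L774 L766 L1490
theorem L1493 : sm ga N148 = N290 := flp_a L1492
theorem L1494 : sm gb N290 = N154 := ded_14_1 L797 L770 L1490
theorem L1495 : sm gb N154 = N290 := flp_b L1494
theorem L1496 : sm gf N147 = N291 := rfl
theorem L1497 : sm gf N291 = N147 := flp_f L1496
theorem L1498 : sm ga N291 = N149 := ded_11_1 L778 L766 L1496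
theorem L1499 : sm ga N149 = N291 := flp_a L1498
theorem L1500 : sm gb N291 = N155 := ded_16_1 L800 L770 L1496
theorem L1501 : sm gb N155 = N291 := flp_b L1500
theorem L1505 : sm gg N276 = N291 := ded_28_1 L1497 L1411 L1415 L1420
theorem L1507 : sm gc N148 = N292 := rfl
theorem L1508 : sm gc N292 = N148 := flp_c L1507
theorem L1509 : sm ge N148 = N293 := rfl
theorem L1510 : sm ge N293 = N148 := flp_e L1509
theorem L1511 : sm gb N293 = N151 := ded_15_1 L788 L776 L1509
theorem L1513 : sm gf N148 = N294 := rfl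
theorem L1514 : sm gf N294 = N148 := flp_f L1513
theorem L1515 : sm gb N294 = N152 := ded_16_1 L791 L776 L1513
theorem L1516 : sm gb N152 = N294 := flp_b L1515
theorem L1517 : sm gg N148 = N295 := rfl
theorem L1518 : sm gg N295 = N148 := flp_g L1517
theorem L1519 : sm gb N295 = N153 := ded_17_1 L794 L776 L1517
theorem L1520 : sm gb N153 = N295 := flp_b L1519
theorem L1521 : sm gd N149 = N296 := rfl
theorem L1522 : sm gd N296 = N149 := flp_d L1521
theorem L1523 : sm gb N296 = N156 := ded_14_1 L809 L780 L1521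
theorem L1524 : sm gb N156 = N296 := flp_b L1523
theorem L1525 : sm gg N149 = N297 := rfl
theorem L1526 : sm gg N297 = N149 := flp_g L1525
theorem L1529 : sm gb N297 = N157 := ded_17_1 L812 L780 L1525
theorem L1531 : sm gc N297 = N297 := ded_21_1 L1526 L781 L1525
theorem L1534 : sm gf N274 = N297 := ded_28_0 L1526 L778 L728 L1414
theorem L1535 : sm gf N297 = N274 := flp_f L1534
theorem L1536 : sm gd N276 = N297 := ded_14_0 L1529 L821 L1423
theorem L1537 : sm gd N297 = N276 := flp_d L1536
theorem L1538 : sm gb N150 = N298 := rfl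
theorem L1539 : sm gb N298 = N150 := flp_b L1538
theorem L1540 : sm gd N298 = N167 := ded_14_2 L871 L785 L1538
theorem L1541 : sm gd N167 = N298 := flp_d L1540
theorem L1542 : sm ge N150 = N299 := rfl
theorem L1543 : sm ge N299 = N150 := flp_e L1542
theorem L1544 : sm ga N299 = N299 := ded_10_1 L1543 L784 L1542
theorem L1545 : sm gc N299 = N151 := ded_19_1 L788 L782 L1542
theorem L1546 : sm gc N151 = N299 := flp_c L1545
theorem L1547 : sm gf N150 = N300 := rfl
theorem L1548 : sm gf N300 = N150 := flp_f L1547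
theorem L1550 : sm gc N300 = N152 := ded_20_1 L791 L782 L1547
theorem L1551 : sm gc N152 = N300 := flp_c L1550
theorem L1552 : sm gg N150 = N301 := rfl
theorem L1553 : sm gg N301 = N150 := flp_g L1552
theorem L1554 : sm ga N301 = N301 := ded_12_1 L1553 L784 L1552
theorem L1555 : sm gc N301 = N153 := ded_21_1 L794 L782 L1552
theorem L1556 : sm gc N153 = N301 := flp_c L1555
theorem L1557 : sm gd N151 = N302 := rfl
theorem L1560 : sm ge N302 = N154 := ded_22_2 L797 L397 L393 L787 L1557
theorem L1561 : sm ge N154 = N302 := flp_e L1560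
theorem L1562 : sm gf N151 = N303 := rfl
theorem L1563 : sm gf N303 = N151 := flp_f L1562
theorem L1565 : sm ge N303 = N152 := ded_25_1 L791 L787 L1562
theorem L1566 : sm ge N152 = N303 := flp_e L1565
theorem L1567 : sm gg N151 = N304 := rfl
theorem L1568 : sm gg N304 = N151 := flp_g L1567
theorem L1570 : sm ge N304 = N153 := ded_26_1 L794 L787 L1567
theorem L1571 : sm ge N153 = N304 := flp_e L1570
theorem L1572 : sm gd N152 = N305 := rfl
theorem L1573 : sm gd N305 = N152 := flp_d L1572
theorem L1575 : sm gf N305 = N156 := ded_23_2 L809 L402 L393 L790 L1572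
theorem L1576 : sm gf N156 = N305 := flp_f L1575
theorem L1577 : sm gg N152 = N306 := rfl
theorem L1578 : sm gg N306 = N152 := flp_g L1577
theorem L1580 : sm gf N304 = N306 := ded_28_0 L1578 L791 L793 L1571
theorem L1581 : sm gf N306 = N304 := flp_f L1580
theorem L1582 : sm gf N153 = N307 := rfl
theorem L1583 : sm gf N307 = N153 := flp_f L1582
theorem L1585 : sm ge N307 = N306 := ded_25_1 L1581 L1570 L1582
theorem L1586 : sm ge N306 = N307 := flp_e L1585
theorem L1587 : sm gg N307 = N303 := ded_28_3 L1565 L791 L793 L1582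
theorem L1588 : sm gg N303 = N307 := flp_g L1587
theorem L1589 : sm gc N154 = N308 := rfl
theorem L1590 : sm gc N308 = N154 := flp_c L1589
theorem L1591 : sm ga N308 = N308 := ded_8_1 L1590 L798 L1589
theorem L1592 : sm gf N154 = N309 := rfl
theorem L1593 : sm gf N309 = N154 := flp_f L1592
theorem L1595 : sm gg N154 = N310 := rfl
theorem L1596 : sm gg N310 = N154 := flp_g L1595
theorem L1598 : sm gd N155 = N311 := rfl
theorem L1599 : sm gd N311 = N155 := flp_d L1598
theorem L1600 : sm ga N311 = N311 := ded_9_1 L1599 L801 L1598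
theorem L1601 : sm gg N311 = N156 := ded_24_2 L809 L811 L821 L806 L1598
theorem L1602 : sm gg N156 = N311 := flp_g L1601
theorem L1603 : sm gc N156 = N312 := rfl
theorem L1604 : sm gc N312 = N156 := flp_c L1603
theorem L1605 : sm ga N312 = N312 := ded_8_1 L1604 L810 L1603
theorem L1606 : sm ge N156 = N313 := rfl
theorem L1607 : sm ge N313 = N156 := flp_e L1606
theorem L1609 : sm gc N158 = N314 := rfl
theorem L1610 : sm gc N314 = N158 := flp_c L1609
theorem L1612 : sm ge N314 = N314 := ded_19_2 L1610 L826 L1609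
theorem L1613 : sm gf N314 = N314 := ded_20_2 L1610 L827 L1609
theorem L1614 : sm gg N158 = N315 := rfl
theorem L1615 : sm gg N315 = N158 := flp_g L1614
theorem L1618 : sm ge N315 = N315 := ded_26_1 L1615 L826 L1614
theorem L1619 : sm gf N315 = N315 := ded_28_0 L1615 L827 L1614 L1618
theorem L1620 : sm gd N315 = N283 := ded_24_1 L1453 L746 L412 L822 L1614
theorem L1622 : sm gc N159 = N316 := rfl
theorem L1623 : sm gc N316 = N159 := flp_c L1622
theorem L1624 : sm ga N316 = N316 := ded_8_1 L1623 L830 L1622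
theorem L1625 : sm gg N316 = N316 := ded_21_2 L1623 L832 L1622
theorem L1626 : sm ge N159 = N317 := rfl
theorem L1627 : sm ge N317 = N159 := flp_e L1626
theorem L1628 : sm ga N317 = N317 := ded_10_1 L1627 L830 L1626
theorem L1629 : sm gb N317 = N317 := ded_15_1 L1627 L831 L1626
theorem L1631 : sm gd N317 = N282 := ded_22_1 L1447 L746 L419 L828 L1626
theorem L1633 : sm gf N159 = N318 := rfl
theorem L1634 : sm gf N318 = N159 := flp_f L1633
theorem L1635 : sm ga N318 = N318 := ded_11_1 L1634 L830 L1633
theorem L1636 : sm gb N318 = N318 := ded_16_1 L1634 L831 L1633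
theorem L1637 : sm gd N318 = N268 := ded_23_1 L1374 L704 L420 L828 L1633
theorem L1639 : sm gc N160 = N319 := rfl
theorem L1640 : sm gc N319 = N160 := flp_c L1639
theorem L1641 : sm ga N319 = N162 := ded_8_1 L852 L836 L1639
theorem L1642 : sm ga N162 = N319 := flp_a L1641
theorem L1643 : sm ge N160 = N320 := rfl
theorem L1644 : sm ge N320 = N160 := flp_e L1643
theorem L1645 : sm ga N320 = N163 := ded_10_1 L854 L836 L1643
theorem L1646 : sm ga N163 = N320 := flp_a L1645
theorem L1647 : sm gb N320 = N171 := ded_15_1 L890 L838 L1643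
theorem L1648 : sm gb N171 = N320 := flp_b L1647
theorem L1649 : sm gd N320 = N163 := ded_22_1 L854 L432 L429 L833 L1643
theorem L1650 : sm gd N163 = N320 := flp_d L1649
theorem L1651 : sm gf N160 = N321 := rfl
theorem L1652 : sm gf N321 = N160 := flp_f L1651
theorem L1653 : sm ga N321 = N164 := ded_11_1 L858 L836 L1651
theorem L1654 : sm ga N164 = N321 := flp_a L1653
theorem L1655 : sm gb N321 = N178 := ded_16_1 L923 L838 L1651
theorem L1656 : sm gb N178 = N321 := flp_b L1655
theorem L1657 : sm gg N160 = N322 := rfl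
theorem L1658 : sm gg N322 = N160 := flp_g L1657
theorem L1659 : sm ga N322 = N165 := ded_12_1 L862 L836 L1657
theorem L1660 : sm ga N165 = N322 := flp_a L1659
theorem L1661 : sm gb N322 = N179 := ded_17_1 L926 L838 L1657
theorem L1662 : sm gb N179 = N322 := flp_b L1661
theorem L1663 : sm gd N322 = N322 := ded_24_1 L1658 L834 L426 L833 L1657
theorem L1664 : sm gd N161 = N323 := rfl
theorem L1665 : sm gd N323 = N161 := flp_d L1664
theorem L1666 : sm ga N323 = N166 := ded_9_1 L867 L842 L1664
theorem L1667 : sm ga N166 = N323 := flp_a L1666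
theorem L1668 : sm gb N323 = N180 := ded_14_1 L930 L844 L1664
theorem L1669 : sm gb N180 = N323 := flp_b L1668
theorem L1670 : sm gb N162 = N324 := rfl
theorem L1671 : sm gb N324 = N162 := flp_b L1670
theorem L1672 : sm gc N324 = N167 := ded_13_2 L871 L442 L434 L851 L1670
theorem L1673 : sm gc N167 = N324 := flp_c L1672
theorem L1674 : sm gd N162 = N325 := rfl
theorem L1675 : sm gd N325 = N162 := flp_d L1674
theorem L1676 : sm ge N162 = N326 := rfl
theorem L1677 : sm ge N326 = N162 := flp_e L1676
theorem L1678 : sm gc N326 = N163 := ded_19_1 L854 L851 L1676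
theorem L1679 : sm gc N163 = N326 := flp_c L1678
theorem L1680 : sm gf N162 = N327 := rfl
theorem L1681 : sm gf N327 = N162 := flp_f L1680
theorem L1682 : sm gc N327 = N164 := ded_20_1 L858 L851 L1680
theorem L1683 : sm gc N164 = N327 := flp_c L1682
theorem L1684 : sm gg N162 = N328 := rfl
theorem L1685 : sm gg N328 = N162 := flp_g L1684
theorem L1686 : sm gc N328 = N165 := ded_21_1 L862 L851 L1684
theorem L1687 : sm gc N165 = N328 := flp_c L1686
theorem L1688 : sm gf N163 = N329 := rfl
theorem L1689 : sm gf N329 = N163 := flp_f L1688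
theorem L1690 : sm gb N329 = N172 := ded_16_1 L893 L856 L1688
theorem L1691 : sm gb N172 = N329 := flp_b L1690
theorem L1692 : sm ge N329 = N164 := ded_25_1 L858 L853 L1688
theorem L1693 : sm ge N164 = N329 := flp_e L1692
theorem L1694 : sm gg N163 = N330 := rfl
theorem L1695 : sm gg N330 = N163 := flp_g L1694
theorem L1696 : sm gb N330 = N173 := ded_17_1 L898 L856 L1694
theorem L1697 : sm gb N173 = N330 := flp_b L1696
theorem L1698 : sm ge N330 = N165 := ded_26_1 L862 L853 L1694
theorem L1699 : sm ge N165 = N330 := flp_e L1698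
theorem L1700 : sm gd N164 = N331 := rfl
theorem L1701 : sm gd N331 = N164 := flp_d L1700
theorem L1702 : sm gb N331 = N174 := ded_14_1 L903 L860 L1700
theorem L1703 : sm gb N174 = N331 := flp_b L1702
theorem L1704 : sm gf N331 = N166 := ded_23_2 L867 L436 L431 L857 L1700
theorem L1705 : sm gf N166 = N331 := flp_f L1704
theorem L1706 : sm gg N164 = N332 := rfl
theorem L1707 : sm gg N332 = N164 := flp_g L1706
theorem L1708 : sm gb N332 = N175 := ded_17_1 L908 L860 L1706
theorem L1709 : sm gb N175 = N332 := flp_b L1708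
theorem L1710 : sm gf N330 = N332 := ded_28_0 L1707 L858 L861 L1699
theorem L1711 : sm gf N332 = N330 := flp_f L1710
theorem L1712 : sm gf N165 = N333 := rfl
theorem L1713 : sm gf N333 = N165 := flp_f L1712
theorem L1714 : sm gb N333 = N176 := ded_16_1 L913 L864 L1712
theorem L1715 : sm gb N176 = N333 := flp_b L1714
theorem L1716 : sm ge N333 = N332 := ded_25_1 L1711 L1698 L1712
theorem L1717 : sm ge N332 = N333 := flp_e L1716
theorem L1718 : sm gg N333 = N329 := ded_28_3 L1692 L858 L861 L1712
theorem L1719 : sm gg N329 = N333 := flp_g L1718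
theorem L1720 : sm gc N166 = N334 := rfl
theorem L1721 : sm gc N334 = N166 := flp_c L1720
theorem L1722 : sm ge N166 = N335 := rfl
theorem L1723 : sm ge N335 = N166 := flp_e L1722
theorem L1724 : sm gb N335 = N182 := ded_15_1 L936 L869 L1722
theorem L1725 : sm gb N182 = N335 := flp_b L1724
theorem L1726 : sm gg N166 = N336 := rfl
theorem L1727 : sm gg N336 = N166 := flp_g L1726
theorem L1728 : sm gb N336 = N183 := ded_17_1 L939 L869 L1726
theorem L1729 : sm gb N183 = N336 := flp_b L1728
theorem L1730 : sm ga N167 = N337 := rfl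
theorem L1731 : sm ga N337 = N167 := flp_a L1730
theorem L1732 : sm ge N167 = N338 := rfl
theorem L1733 : sm ge N338 = N167 := flp_e L1732
theorem L1734 : sm gb N338 = N168 := ded_15_1 L873 L870 L1732
theorem L1735 : sm gb N168 = N338 := flp_b L1734
theorem L1736 : sm gf N167 = N339 := rfl
theorem L1737 : sm gf N339 = N167 := flp_f L1736
theorem L1738 : sm gb N339 = N169 := ded_16_1 L878 L870 L1736
theorem L1739 : sm gb N169 = N339 := flp_b L1738
theorem L1740 : sm gg N167 = N340 := rfl
theorem L1741 : sm gg N340 = N167 := flp_g L1740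
theorem L1742 : sm gb N340 = N170 := ded_17_1 L883 L870 L1740
theorem L1743 : sm gb N170 = N340 := flp_b L1742
theorem L1744 : sm gd N168 = N341 := rfl
theorem L1745 : sm gd N341 = N168 := flp_d L1744
theorem L1746 : sm ga N341 = N341 := ded_9_1 L1745 L874 L1744
theorem L1747 : sm gf N168 = N342 := rfl
theorem L1748 : sm gf N342 = N168 := flp_f L1747
theorem L1749 : sm ga N342 = N342 := ded_11_1 L1748 L874 L1747
theorem L1750 : sm gc N342 = N172 := ded_20_1 L893 L876 L1747
theorem L1751 : sm gc N172 = N342 := flp_c L1750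
theorem L1752 : sm ge N342 = N169 := ded_25_1 L878 L872 L1747
theorem L1753 : sm ge N169 = N342 := flp_e L1752
theorem L1754 : sm gg N168 = N343 := rfl
theorem L1755 : sm gg N343 = N168 := flp_g L1754
theorem L1757 : sm gc N343 = N173 := ded_21_1 L898 L876 L1754
theorem L1758 : sm gc N173 = N343 := flp_c L1757
theorem L1759 : sm ge N343 = N170 := ded_26_1 L883 L872 L1754
theorem L1760 : sm ge N170 = N343 := flp_e L1759
theorem L1761 : sm gd N169 = N344 := rfl
theorem L1762 : sm gd N344 = N169 := flp_d L1761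
theorem L1763 : sm ga N344 = N344 := ded_9_1 L1762 L879 L1761
theorem L1764 : sm gg N169 = N345 := rfl
theorem L1765 : sm gg N345 = N169 := flp_g L1764
theorem L1767 : sm gc N345 = N175 := ded_21_1 L908 L881 L1764
theorem L1768 : sm gc N175 = N345 := flp_c L1767
theorem L1769 : sm gf N343 = N345 := ded_28_0 L1765 L878 L882 L1760
theorem L1770 : sm gf N345 = N343 := flp_f L1769
theorem L1771 : sm gd N170 = N346 := rfl
theorem L1772 : sm gd N346 = N170 := flp_d L1771
theorem L1773 : sm ga N346 = N346 := ded_9_1 L1772 L884 L1771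
theorem L1774 : sm gf N170 = N347 := rfl
theorem L1775 : sm gf N347 = N170 := flp_f L1774
theorem L1777 : sm gc N347 = N176 := ded_20_1 L913 L886 L1774
theorem L1779 : sm ge N347 = N345 := ded_25_1 L1770 L1759 L1774
theorem L1780 : sm ge N345 = N347 := flp_e L1779
theorem L1781 : sm gg N347 = N342 := ded_28_3 L1752 L878 L882 L1774
theorem L1782 : sm gg N342 = N347 := flp_g L1781
theorem L1783 : sm gc N171 = N348 := rfl
theorem L1784 : sm gc N348 = N171 := flp_c L1783
theorem L1785 : sm ga N348 = N348 := ded_8_1 L1784 L889 L1783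
theorem L1786 : sm ge N348 = N177 := ded_19_2 L920 L891 L1783
theorem L1787 : sm ge N177 = N348 := flp_e L1786
theorem L1788 : sm gb N337 = N348 := ded_29_7 L1784 L890 L456 L838 L1639 L1641 L1670 L1672 L1730
theorem L1789 : sm gb N348 = N337 := flp_b L1788
theorem L1790 : sm gf N171 = N349 := rfl
theorem L1791 : sm gf N349 = N171 := flp_f L1790
theorem L1792 : sm ga N349 = N349 := ded_11_1 L1791 L889 L1790
theorem L1793 : sm ge N349 = N178 := ded_25_1 L923 L891 L1790
theorem L1794 : sm ge N178 = N349 := flp_e L1793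
theorem L1795 : sm gg N171 = N350 := rfl
theorem L1796 : sm gg N350 = N171 := flp_g L1795
theorem L1797 : sm ga N350 = N350 := ded_12_1 L1796 L889 L1795
theorem L1798 : sm ge N350 = N179 := ded_26_1 L926 L891 L1795
theorem L1799 : sm ge N179 = N350 := flp_e L1798
theorem L1800 : sm gd N172 = N351 := rfl
theorem L1801 : sm gd N351 = N172 := flp_d L1800
theorem L1802 : sm ga N351 = N351 := ded_9_1 L1801 L894 L1800
theorem L1803 : sm gd N173 = N352 := rfl
theorem L1804 : sm gd N352 = N173 := flp_d L1803
theorem L1805 : sm ga N352 = N352 := ded_9_1 L1804 L899 L1803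
theorem L1806 : sm ge N352 = N352 := ded_22_2 L1804 L900 L453 L901 L1803
theorem L1807 : sm gc N174 = N353 := rfl
theorem L1808 : sm gc N353 = N174 := flp_c L1807
theorem L1810 : sm gf N353 = N181 := ded_20_2 L933 L906 L1807
theorem L1811 : sm gf N181 = N353 := flp_f L1810
theorem L1812 : sm gg N353 = N249 := ded_28_3 L1279 L1281 L1287 L1811
theorem L1813 : sm gg N249 = N353 := flp_g L1812
theorem L1814 : sm ge N246 = N353 := ded_28_4 L1810 L1286 L1282 L1267
theorem L1816 : sm ge N174 = N354 := rfl
theorem L1817 : sm ge N354 = N174 := flp_e L1816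
theorem L1819 : sm gc N354 = N246 := ded_19_1 L1814 L1808 L1816
theorem L1820 : sm gc N246 = N354 := flp_c L1819
theorem L1821 : sm gf N354 = N182 := ded_25_2 L936 L906 L1816
theorem L1822 : sm gf N182 = N354 := flp_f L1821
theorem L1823 : sm gg N248 = N354 := ded_28_3 L1817 L905 L938 L1290
theorem L1824 : sm gg N354 = N248 := flp_g L1823
theorem L1825 : sm gg N174 = N355 := rfl
theorem L1826 : sm gg N355 = N174 := flp_g L1825
theorem L1828 : sm gc N355 = N249 := ded_21_1 L1813 L1808 L1825
theorem L1829 : sm gc N249 = N355 := flp_c L1828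
theorem L1830 : sm ge N355 = N248 := ded_26_1 L1823 L1817 L1825
theorem L1831 : sm ge N248 = N355 := flp_e L1830
theorem L1832 : sm gd N175 = N356 := rfl
theorem L1833 : sm gd N356 = N175 := flp_d L1832
theorem L1834 : sm ga N356 = N356 := ded_9_1 L1833 L909 L1832
theorem L1835 : sm gd N176 = N357 := rfl
theorem L1836 : sm gd N357 = N176 := flp_d L1835
theorem L1837 : sm ga N357 = N357 := ded_9_1 L1836 L914 L1835
theorem L1838 : sm gf N357 = N357 := ded_23_2 L1836 L913 L453 L912 L1835
theorem L1839 : sm gb N177 = N358 := rfl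
theorem L1840 : sm gb N358 = N177 := flp_b L1839
theorem L1841 : sm ge N358 = N337 := ded_15_2 L1788 L1786 L1839
theorem L1842 : sm ge N337 = N358 := flp_e L1841
theorem L1843 : sm ga N338 = N358 := ded_29_0 L1840 L920 L456 L838 L1639 L1641 L1670 L1672 L1732
theorem L1845 : sm gd N177 = N359 := rfl
theorem L1846 : sm gd N359 = N177 := flp_d L1845
theorem L1847 : sm ga N359 = N359 := ded_9_1 L1846 L921 L1845
theorem L1848 : sm gc N359 = N359 := ded_30_0 L1846 L920 L455 L205 L96 L206 L454 L919 L1845 L1847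
theorem L1849 : sm gf N177 = N360 := rfl
theorem L1850 : sm gf N360 = N177 := flp_f L1849
theorem L1851 : sm ga N360 = N360 := ded_11_1 L1850 L921 L1849
theorem L1852 : sm gc N360 = N178 := ded_20_1 L923 L919 L1849
theorem L1853 : sm gc N178 = N360 := flp_c L1852
theorem L1854 : sm gg N177 = N361 := rfl
theorem L1855 : sm gg N361 = N177 := flp_g L1854
theorem L1856 : sm ga N361 = N361 := ded_12_1 L1855 L921 L1854
theorem L1857 : sm gc N361 = N179 := ded_21_1 L926 L919 L1854
theorem L1858 : sm gc N179 = N361 := flp_c L1857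
theorem L1859 : sm gd N178 = N362 := rfl
theorem L1860 : sm gd N362 = N178 := flp_d L1859
theorem L1862 : sm gf N362 = N180 := ded_23_2 L930 L458 L454 L922 L1859
theorem L1863 : sm gf N180 = N362 := flp_f L1862
theorem L1864 : sm gg N258 = N362 := ded_31_0 L1862 L930 L460 L220 L98 L47 L43 L39 L21 L34 L65 L144 L346 L681 L1326
theorem L1865 : sm gg N362 = N258 := flp_g L1864
theorem L1866 : sm gc N362 = N260 := ded_21_1 L1335 L1326 L1864
theorem L1867 : sm gc N260 = N362 := flp_c L1866
theorem L1868 : sm gg N178 = N363 := rfl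
theorem L1869 : sm gg N363 = N178 := flp_g L1868
theorem L1870 : sm ga N363 = N363 := ded_12_1 L1869 L924 L1868
theorem L1871 : sm gf N350 = N363 := ded_28_0 L1869 L923 L925 L1799
theorem L1872 : sm gf N363 = N350 := flp_f L1871
theorem L1873 : sm gf N179 = N364 := rfl
theorem L1874 : sm gf N364 = N179 := flp_f L1873
theorem L1875 : sm ga N364 = N364 := ded_11_1 L1874 L927 L1873
theorem L1876 : sm ge N364 = N363 := ded_25_1 L1872 L1798 L1873
theorem L1877 : sm ge N363 = N364 := flp_e L1876
theorem L1878 : sm gg N364 = N349 := ded_28_3 L1793 L923 L925 L1873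
theorem L1879 : sm gg N349 = N364 := flp_g L1878
theorem L1880 : sm gc N180 = N365 := rfl
theorem L1881 : sm gc N365 = N180 := flp_c L1880
theorem L1882 : sm ga N365 = N365 := ded_8_1 L1881 L931 L1880
theorem L1883 : sm gf N365 = N260 := ded_20_2 L1867 L1862 L1880
theorem L1884 : sm gf N260 = N365 := flp_f L1883
theorem L1885 : sm ge N180 = N366 := rfl
theorem L1886 : sm ge N366 = N180 := flp_e L1885
theorem L1888 : sm gd N366 = N182 := ded_22_1 L936 L467 L463 L929 L1885
theorem L1889 : sm gd N182 = N366 := flp_d L1888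
theorem L1890 : sm gg N180 = N367 := rfl
theorem L1891 : sm gg N367 = N180 := flp_g L1890
theorem L1893 : sm gd N367 = N183 := ded_24_1 L939 L467 L465 L929 L1890
theorem L1894 : sm gd N183 = N367 := flp_d L1893
theorem L1895 : sm gb N181 = N368 := rfl
theorem L1896 : sm gb N368 = N181 := flp_b L1895
theorem L1897 : sm gd N181 = N369 := rfl
theorem L1898 : sm gd N369 = N181 := flp_d L1897
theorem L1899 : sm ga N369 = N369 := ded_9_1 L1898 L934 L1897
theorem L1900 : sm gc N369 = N369 := ded_30_0 L1898 L933 L467 L211 L102 L212 L466 L932 L1897 L1899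
theorem L1901 : sm ge N181 = N370 := rfl
theorem L1902 : sm ge N370 = N181 := flp_e L1901
theorem L1904 : sm gc N370 = N182 := ded_19_1 L936 L932 L1901
theorem L1905 : sm gc N182 = N370 := flp_c L1904
theorem L1906 : sm gf N370 = N246 := ded_25_2 L1814 L1810 L1901
theorem L1907 : sm gf N246 = N370 := flp_f L1906
theorem L1908 : sm gg N182 = N371 := rfl
theorem L1909 : sm gg N371 = N182 := flp_g L1908
theorem L1910 : sm ga N371 = N371 := ded_12_1 L1909 L937 L1908
theorem L1911 : sm ge N371 = N183 := ded_26_1 L939 L935 L1908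
theorem L1913 : sm gf N355 = N371 := ded_28_0 L1909 L1822 L1824 L1831
theorem L1914 : sm gf N371 = N355 := flp_f L1913
theorem L1915 : sm gd N184 = N372 := rfl
theorem L1916 : sm gd N372 = N184 := flp_d L1915
theorem L1917 : sm ga N372 = N372 := ded_9_1 L1916 L943 L1915
theorem L1918 : sm gb N372 = N372 := ded_14_1 L1916 L947 L1915
theorem L1919 : sm gb N185 = N373 := rfl
theorem L1920 : sm gb N373 = N185 := flp_b L1919
theorem L1921 : sm gf N373 = N188 := ded_16_2 L972 L953 L1919
theorem L1922 : sm gf N188 = N373 := flp_f L1921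
theorem L1923 : sm gc N373 = N192 := ded_13_2 L995 L518 L482 L948 L1919
theorem L1924 : sm gc N192 = N373 := flp_c L1923
theorem L1925 : sm gd N185 = N374 := rfl
theorem L1926 : sm gd N374 = N185 := flp_d L1925
theorem L1927 : sm ga N374 = N189 := ded_9_1 L978 L951 L1925
theorem L1928 : sm ga N189 = N374 := flp_a L1927
theorem L1929 : sm ge N185 = N375 := rfl
theorem L1930 : sm ge N375 = N185 := flp_e L1929
theorem L1931 : sm ga N375 = N190 := ded_10_1 L980 L951 L1929
theorem L1932 : sm ga N190 = N375 := flp_a L1931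
theorem L1933 : sm gc N375 = N186 := ded_19_1 L955 L948 L1929
theorem L1934 : sm gc N186 = N375 := flp_c L1933
theorem L1935 : sm gf N375 = N190 := ded_25_2 L980 L953 L1929
theorem L1936 : sm gf N190 = N375 := flp_f L1935
theorem L1937 : sm gg N373 = N375 := ded_28_3 L1930 L952 L975 L1922
theorem L1938 : sm gg N375 = N373 := flp_g L1937
theorem L1939 : sm gg N185 = N376 := rfl
theorem L1940 : sm gg N376 = N185 := flp_g L1939
theorem L1941 : sm ga N376 = N188 := ded_12_1 L976 L951 L1939
theorem L1942 : sm ga N188 = N376 := flp_a L1941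
theorem L1943 : sm gb N376 = N375 := ded_17_1 L1938 L1920 L1939
theorem L1944 : sm gb N375 = N376 := flp_b L1943
theorem L1945 : sm gc N376 = N187 := ded_21_1 L965 L948 L1939
theorem L1946 : sm gc N187 = N376 := flp_c L1945
theorem L1947 : sm ge N376 = N373 := ded_26_1 L1937 L1930 L1939
theorem L1948 : sm ge N373 = N376 := flp_e L1947
theorem L1949 : sm gd N188 = N377 := rfl
theorem L1950 : sm gd N377 = N188 := flp_d L1949
theorem L1951 : sm gb N377 = N189 := ded_14_1 L978 L971 L1949
theorem L1952 : sm gb N189 = N377 := flp_b L1951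
theorem L1953 : sm ge N188 = N378 := rfl
theorem L1954 : sm ge N378 = N188 := flp_e L1953
theorem L1955 : sm ga N378 = N373 := ded_10_1 L1948 L1941 L1953
theorem L1956 : sm ga N373 = N378 := flp_a L1955
theorem L1957 : sm gb N378 = N190 := ded_15_1 L980 L971 L1953
theorem L1958 : sm gb N190 = N378 := flp_b L1957
theorem L1959 : sm gc N378 = N191 := ded_19_1 L987 L974 L1953
theorem L1960 : sm gc N191 = N378 := flp_c L1959
theorem L1961 : sm gf N378 = N376 := ded_25_2 L1947 L1921 L1953
theorem L1962 : sm gf N376 = N378 := flp_f L1961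
theorem L1963 : sm gg N378 = N190 := ded_26_2 L980 L975 L1953
theorem L1964 : sm gg N190 = N378 := flp_g L1963
theorem L1965 : sm gc N189 = N379 := rfl
theorem L1966 : sm gc N379 = N189 := flp_c L1965
theorem L1967 : sm ge N189 = N380 := rfl
theorem L1968 : sm ge N380 = N189 := flp_e L1967
theorem L1969 : sm gf N189 = N381 := rfl
theorem L1970 : sm gf N381 = N189 := flp_f L1969
theorem L1971 : sm gg N189 = N382 := rfl
theorem L1972 : sm gg N382 = N189 := flp_g L1971
theorem L1973 : sm gd N190 = N383 := rfl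
theorem L1974 : sm gd N383 = N190 := flp_d L1973
theorem L1975 : sm gd N191 = N384 := rfl
theorem L1976 : sm gd N384 = N191 := flp_d L1975
theorem L1977 : sm gb N384 = N193 := ded_14_1 L1002 L986 L1975
theorem L1978 : sm gb N193 = N384 := flp_b L1977
theorem L1979 : sm ge N384 = N384 := ded_22_2 L1976 L987 L507 L988 L1975
theorem L1980 : sm gf N384 = N384 := ded_23_2 L1976 L989 L970 L990 L1975
theorem L1981 : sm gd N192 = N385 := rfl
theorem L1982 : sm gd N385 = N192 := flp_d L1981
theorem L1983 : sm ga N385 = N384 := ded_9_1 L1976 L994 L1981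
theorem L1984 : sm ga N384 = N385 := flp_a L1983
theorem L1985 : sm gb N385 = N194 := ded_14_1 L1008 L996 L1981
theorem L1986 : sm gb N194 = N385 := flp_b L1985
theorem L1987 : sm ge N385 = N385 := ded_22_2 L1982 L997 L970 L998 L1981
theorem L1988 : sm gf N385 = N385 := ded_23_2 L1982 L992 L507 L991 L1981
theorem L1989 : sm gg N385 = N384 := ded_24_2 L1976 L984 L963 L1000 L1981
theorem L1990 : sm gg N384 = N385 := flp_g L1989
theorem L1991 : sm gb N195 = N386 := rfl
theorem L1992 : sm gb N386 = N195 := flp_b L1991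
theorem L1993 : sm gc N386 = N196 := ded_13_2 L1028 L1022 L544 L1015 L1991
theorem L1994 : sm gc N196 = N386 := flp_c L1993
theorem L1995 : sm ga N202 = N386 := ded_29_6 L1992 L1016 L1024 L1026 L568 L307 L306 L569 L1063
theorem L1997 : sm ge N195 = N386 := ded_19_0 L1993 L1025 L1015
theorem L1998 : sm ge N386 = N195 := flp_e L1997
theorem L1999 : sm gd N195 = N386 := sded_6_17 L3 L2 L1 L5 L8 L7 L17 L22 L20 L34 L65 L127 L288 L539 L1015 L1991 L1998 L1993 L1028 L607 L317 L137 L71 L69 L35 L18 L6
theorem L2000 : sm gd N386 = N195 := flp_d L1999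
theorem L2001 : N201 = N202 := coi_9_1 L1995 L2000 L1017 L1056
theorem L2002 : N202 = N201 := (eqc rfl L2001 rfl).symm
theorem L2003 : sm ga N201 = N386 := trfs L2002 L1995 rfl
theorem L2004 : sm ga N386 = N201 := flp_a L2003
theorem L2006 : sm gc N201 = N104 := trfs L2002 L1062 rfl
theorem L2007 : sm gc N104 = N201 := flp_c L2006
theorem L2008 : sm ge N201 = N103 := trfs L2002 L1060 rfl
theorem L2009 : sm ge N103 = N201 := flp_e L2008
theorem L2010 : sm gf N195 = N387 := rfl
theorem L2011 : sm gf N387 = N195 := flp_f L2010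
theorem L2012 : sm ga N387 = N203 := ded_11_1 L1065 L1018 L2010
theorem L2013 : sm ga N203 = N387 := flp_a L2012
theorem L2014 : sm gc N387 = N197 := ded_20_1 L1033 L1015 L2010
theorem L2015 : sm gc N197 = N387 := flp_c L2014
theorem L2016 : sm gg N195 = N388 := rfl
theorem L2017 : sm gg N388 = N195 := flp_g L2016
theorem L2018 : sm ga N388 = N204 := ded_12_1 L1070 L1018 L2016
theorem L2019 : sm ga N204 = N388 := flp_a L2018
theorem L2020 : sm gc N388 = N198 := ded_21_1 L1039 L1015 L2016
theorem L2021 : sm gc N198 = N388 := flp_c L2020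
theorem L2022 : sm gf N196 = N389 := rfl
theorem L2023 : sm gf N389 = N196 := flp_f L2022
theorem L2024 : sm ga N389 = N205 := ded_11_1 L1075 L1027 L2022
theorem L2025 : sm ga N205 = N389 := flp_a L2024
theorem L2026 : sm gb N389 = N219 := ded_16_1 L1143 L1029 L2022
theorem L2027 : sm gb N219 = N389 := flp_b L2026
theorem L2028 : sm ge N389 = N197 := ded_25_1 L1033 L1024 L2022
theorem L2029 : sm ge N197 = N389 := flp_e L2028
theorem L2030 : sm gg N196 = N390 := rfl
theorem L2031 : sm gg N390 = N196 := flp_g L2030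
theorem L2032 : sm ga N390 = N206 := ded_12_1 L1081 L1027 L2030
theorem L2033 : sm ga N206 = N390 := flp_a L2032
theorem L2034 : sm gb N390 = N220 := ded_17_1 L1150 L1029 L2030
theorem L2035 : sm gb N220 = N390 := flp_b L2034
theorem L2036 : sm ge N390 = N198 := ded_26_1 L1039 L1024 L2030
theorem L2037 : sm ge N198 = N390 := flp_e L2036
theorem L2038 : sm gd N197 = N391 := rfl
theorem L2039 : sm gd N391 = N197 := flp_d L2038
theorem L2040 : sm ga N391 = N207 := ded_9_1 L1087 L1035 L2038
theorem L2041 : sm ga N207 = N391 := flp_a L2040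
theorem L2042 : sm gb N391 = N231 := ded_14_1 L1195 L1037 L2038
theorem L2043 : sm gb N231 = N391 := flp_b L2042
theorem L2044 : sm gf N391 = N199 := ded_23_2 L1045 L546 L539 L1032 L2038
theorem L2045 : sm gf N199 = N391 := flp_f L2044
theorem L2046 : sm gg N197 = N392 := rfl
theorem L2047 : sm gg N392 = N197 := flp_g L2046
theorem L2048 : sm ga N392 = N208 := ded_12_1 L1093 L1035 L2046
theorem L2049 : sm ga N208 = N392 := flp_a L2048
theorem L2050 : sm gb N392 = N232 := ded_17_1 L1200 L1037 L2046
theorem L2051 : sm gb N232 = N392 := flp_b L2050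
theorem L2052 : sm gf N390 = N392 := ded_28_0 L2047 L1033 L1038 L2037
theorem L2053 : sm gf N392 = N390 := flp_f L2052
theorem L2054 : sm gd N198 = N393 := rfl
theorem L2055 : sm gd N393 = N198 := flp_d L2054
theorem L2056 : sm ga N393 = N209 := ded_9_1 L1099 L1041 L2054
theorem L2057 : sm ga N209 = N393 := flp_a L2056
theorem L2058 : sm gb N393 = N233 := ded_14_1 L1205 L1043 L2054
theorem L2059 : sm gb N233 = N393 := flp_b L2058
theorem L2060 : sm gg N393 = N200 := ded_24_2 L1051 L555 L539 L1038 L2054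
theorem L2061 : sm gg N200 = N393 := flp_g L2060
theorem L2062 : sm gf N198 = N394 := rfl
theorem L2063 : sm gf N394 = N198 := flp_f L2062
theorem L2064 : sm ga N394 = N210 := ded_11_1 L1105 L1041 L2062
theorem L2065 : sm ga N210 = N394 := flp_a L2064
theorem L2066 : sm gb N394 = N234 := ded_16_1 L1210 L1043 L2062
theorem L2067 : sm gb N234 = N394 := flp_b L2066
theorem L2068 : sm ge N394 = N392 := ded_25_1 L2053 L2036 L2062
theorem L2069 : sm ge N392 = N394 := flp_e L2068
theorem L2070 : sm gg N394 = N389 := ded_28_3 L2028 L1033 L1038 L2062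
theorem L2071 : sm gg N389 = N394 := flp_g L2070
theorem L2072 : sm gc N199 = N395 := rfl
theorem L2073 : sm gc N395 = N199 := flp_c L2072
theorem L2074 : sm ga N395 = N211 := ded_8_1 L1113 L1047 L2072
theorem L2075 : sm ga N211 = N395 := flp_a L2074
theorem L2076 : sm ge N199 = N396 := rfl
theorem L2077 : sm ge N396 = N199 := flp_e L2076
theorem L2078 : sm ga N396 = N212 := ded_10_1 L1115 L1047 L2076
theorem L2079 : sm ga N212 = N396 := flp_a L2078
theorem L2080 : sm gb N396 = N236 := ded_15_1 L1222 L1049 L2076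
theorem L2081 : sm gb N236 = N396 := flp_b L2080
theorem L2082 : sm gd N396 = N212 := ded_22_1 L1115 L579 L553 L1044 L2076
theorem L2084 : sm gg N199 = N397 := rfl
theorem L2085 : sm gg N397 = N199 := flp_g L2084
theorem L2086 : sm ga N397 = N213 := ded_12_1 L1119 L1047 L2084
theorem L2087 : sm ga N213 = N397 := flp_a L2086
theorem L2088 : sm gb N397 = N237 := ded_17_1 L1227 L1049 L2084
theorem L2089 : sm gb N237 = N397 := flp_b L2088
theorem L2090 : sm gc N200 = N398 := rfl
theorem L2091 : sm gc N398 = N200 := flp_c L2090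
theorem L2092 : sm ga N398 = N215 := ded_8_1 L1127 L1053 L2090
theorem L2093 : sm ga N215 = N398 := flp_a L2092
theorem L2094 : sm ge N200 = N399 := rfl
theorem L2095 : sm ge N399 = N200 := flp_e L2094
theorem L2096 : sm ga N399 = N216 := ded_10_1 L1129 L1053 L2094
theorem L2097 : sm ga N216 = N399 := flp_a L2096
theorem L2100 : sm gd N399 = N216 := ded_22_1 L1129 L590 L562 L1050 L2094
theorem L2102 : sm gf N200 = N400 := rfl
theorem L2103 : sm gf N400 = N200 := flp_f L2102
theorem L2104 : sm ga N400 = N217 := ded_11_1 L1133 L1053 L2102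
theorem L2105 : sm ga N217 = N400 := flp_a L2104
theorem L2106 : sm gb N400 = N240 := ded_16_1 L1238 L1055 L2102
theorem L2108 : sm gf N201 = N401 := rfl
theorem L2109 : sm gf N401 = N201 := flp_f L2108
theorem L2110 : sm gb N401 = N401 := ded_16_1 L2109 L1058 L2108
theorem L2111 : sm gc N401 = N205 := ded_20_1 L1075 L2007 L2108
theorem L2112 : sm gc N205 = N401 := flp_c L2111
theorem L2113 : sm ge N401 = N203 := ded_25_1 L1065 L2009 L2108
theorem L2114 : sm ge N203 = N401 := flp_e L2113
theorem L2115 : sm gg N201 = N402 := rfl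
theorem L2116 : sm gg N402 = N201 := flp_g L2115
theorem L2117 : sm gb N402 = N402 := ded_17_1 L2116 L1058 L2115
theorem L2118 : sm gc N402 = N206 := ded_21_1 L1081 L2007 L2115
theorem L2119 : sm gc N206 = N402 := flp_c L2118
theorem L2120 : sm ge N402 = N204 := ded_26_1 L1070 L2009 L2115
theorem L2121 : sm ge N204 = N402 := flp_e L2120
theorem L2122 : sm gd N203 = N403 := rfl
theorem L2123 : sm gd N403 = N203 := flp_d L2122
theorem L2124 : sm gb N403 = N403 := ded_14_1 L2123 L1066 L2122
theorem L2125 : sm gg N203 = N404 := rfl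
theorem L2126 : sm gg N404 = N203 := flp_g L2125
theorem L2127 : sm gb N404 = N404 := ded_17_1 L2126 L1066 L2125
theorem L2128 : sm gc N404 = N208 := ded_21_1 L1093 L1068 L2125
theorem L2129 : sm gc N208 = N404 := flp_c L2128
theorem L2130 : sm gf N402 = N404 := ded_28_0 L2126 L1065 L1069 L2121
theorem L2131 : sm gf N404 = N402 := flp_f L2130
theorem L2132 : sm gd N204 = N405 := rfl
theorem L2133 : sm gd N405 = N204 := flp_d L2132
theorem L2134 : sm gb N405 = N405 := ded_14_1 L2133 L1071 L2132
theorem L2135 : sm gf N204 = N406 := rfl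
theorem L2136 : sm gf N406 = N204 := flp_f L2135
theorem L2137 : sm gb N406 = N406 := ded_16_1 L2136 L1071 L2135
theorem L2138 : sm gc N406 = N210 := ded_20_1 L1105 L1073 L2135
theorem L2139 : sm gc N210 = N406 := flp_c L2138
theorem L2140 : sm ge N406 = N404 := ded_25_1 L2131 L2120 L2135
theorem L2141 : sm ge N404 = N406 := flp_e L2140
theorem L2142 : sm gg N406 = N401 := ded_28_3 L2113 L1065 L1069 L2135
theorem L2143 : sm gg N401 = N406 := flp_g L2142
theorem L2144 : sm gd N205 = N407 := rfl
theorem L2145 : sm gd N407 = N205 := flp_d L2144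
theorem L2146 : sm gb N407 = N221 := ded_14_1 L1157 L1077 L2144
theorem L2147 : sm gb N221 = N407 := flp_b L2146
theorem L2148 : sm gd N206 = N408 := rfl
theorem L2149 : sm gd N408 = N206 := flp_d L2148
theorem L2150 : sm gb N408 = N222 := ded_14_1 L1160 L1083 L2148
theorem L2151 : sm gb N222 = N408 := flp_b L2150
theorem L2152 : sm gc N207 = N409 := rfl
theorem L2153 : sm gc N409 = N207 := flp_c L2152
theorem L2154 : sm gf N409 = N211 := ded_20_2 L1113 L1091 L2152
theorem L2155 : sm gf N211 = N409 := flp_f L2154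
theorem L2156 : sm ge N207 = N410 := rfl
theorem L2157 : sm ge N410 = N207 := flp_e L2156
theorem L2158 : sm gb N410 = N224 := ded_15_1 L1168 L1089 L2156
theorem L2159 : sm gb N224 = N410 := flp_b L2158
theorem L2160 : sm gf N410 = N212 := ded_25_2 L1115 L1091 L2156
theorem L2161 : sm gf N212 = N410 := flp_f L2160
theorem L2162 : sm gg N207 = N411 := rfl
theorem L2163 : sm gg N411 = N207 := flp_g L2162
theorem L2164 : sm gb N411 = N225 := ded_17_1 L1173 L1089 L2162
theorem L2165 : sm gb N225 = N411 := flp_b L2164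
theorem L2166 : sm gd N208 = N412 := rfl
theorem L2167 : sm gd N412 = N208 := flp_d L2166
theorem L2168 : sm gb N412 = N226 := ded_14_1 L1176 L1095 L2166
theorem L2169 : sm gb N226 = N412 := flp_b L2168
theorem L2170 : sm gc N209 = N413 := rfl
theorem L2171 : sm gc N413 = N209 := flp_c L2170
theorem L2172 : sm gg N413 = N215 := ded_21_2 L1127 L1103 L2170
theorem L2173 : sm gg N215 = N413 := flp_g L2172
theorem L2174 : sm ge N209 = N414 := rfl
theorem L2175 : sm ge N414 = N209 := flp_e L2174
theorem L2178 : sm gg N414 = N216 := ded_26_2 L1129 L1103 L2174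
theorem L2179 : sm gg N216 = N414 := flp_g L2178
theorem L2180 : sm gf N209 = N415 := rfl
theorem L2181 : sm gf N415 = N209 := flp_f L2180
theorem L2182 : sm gb N415 = N229 := ded_16_1 L1189 L1101 L2180
theorem L2183 : sm gb N229 = N415 := flp_b L2182
theorem L2184 : sm gd N210 = N416 := rfl
theorem L2185 : sm gd N416 = N210 := flp_d L2184
theorem L2186 : sm gb N416 = N230 := ded_14_1 L1192 L1107 L2184
theorem L2187 : sm gb N230 = N416 := flp_b L2186
theorem L2188 : sm gb N211 = N417 := rfl
theorem L2189 : sm gb N417 = N211 := flp_b L2188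
theorem L2190 : sm gc N417 = N241 := ded_13_2 L1241 L661 L581 L1112 L2188
theorem L2191 : sm gc N241 = N417 := flp_c L2190
theorem L2192 : sm gd N211 = N418 := rfl
theorem L2193 : sm gd N418 = N211 := flp_d L2192
theorem L2194 : sm ge N211 = N419 := rfl
theorem L2195 : sm ge N419 = N211 := flp_e L2194
theorem L2196 : sm gc N419 = N212 := ded_19_1 L1115 L1112 L2194
theorem L2197 : sm gc N212 = N419 := flp_c L2196
theorem L2198 : sm gg N211 = N420 := rfl
theorem L2199 : sm gg N420 = N211 := flp_g L2198
theorem L2200 : sm gc N420 = N213 := ded_21_1 L1119 L1112 L2198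
theorem L2201 : sm gc N213 = N420 := flp_c L2200
theorem L2202 : sm gg N212 = N421 := rfl
theorem L2203 : sm gg N421 = N212 := flp_g L2202
theorem L2204 : sm gb N421 = N245 := ded_17_1 L1257 L1117 L2202
theorem L2205 : sm gb N245 = N421 := flp_b L2204
theorem L2206 : sm ge N421 = N213 := ded_26_1 L1119 L1114 L2202
theorem L2208 : sm gf N421 = N411 := ded_28_2 L2163 L2156 L2160 L2202
theorem L2209 : sm gf N411 = N421 := flp_f L2208
theorem L2210 : sm gd N213 = N422 := rfl
theorem L2211 : sm gd N422 = N213 := flp_d L2210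
theorem L2212 : sm gb N422 = N246 := ded_14_1 L1264 L1121 L2210
theorem L2214 : sm gg N422 = N214 := ded_24_2 L1123 L583 L578 L1118 L2210
theorem L2215 : sm gg N214 = N422 := flp_g L2214
theorem L2216 : sm gf N213 = N423 := rfl
theorem L2217 : sm gf N423 = N213 := flp_f L2216
theorem L2218 : sm gb N423 = N247 := ded_16_1 L1269 L1121 L2216
theorem L2219 : sm gb N247 = N423 := flp_b L2218
theorem L2220 : sm ge N423 = N411 := ded_25_1 L2209 L2206 L2216
theorem L2221 : sm ge N411 = N423 := flp_e L2220
theorem L2222 : sm gg N423 = N410 := ded_28_3 L2157 L1090 L1118 L2216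
theorem L2223 : sm gg N410 = N423 := flp_g L2222
theorem L2224 : sm gc N214 = N424 := rfl
theorem L2225 : sm gc N424 = N214 := flp_c L2224
theorem L2226 : sm ge N214 = N425 := rfl
theorem L2228 : sm gb N425 = N249 := ded_15_1 L1279 L1125 L2226
theorem L2229 : sm gb N249 = N425 := flp_b L2228
theorem L2230 : sm gf N214 = N426 := rfl
theorem L2231 : sm gf N426 = N214 := flp_f L2230
theorem L2232 : sm gb N426 = N250 := ded_16_1 L1282 L1125 L2230
theorem L2234 : sm gd N426 = N400 := ded_23_1 L2103 L1051 L587 L1122 L2230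
theorem L2235 : sm gd N400 = N426 := flp_d L2234
theorem L2236 : sm gg N368 = N426 := ded_17_0 L2232 L1287 L1895
theorem L2237 : sm gg N426 = N368 := flp_g L2236
theorem L2238 : sm gb N215 = N427 := rfl
theorem L2239 : sm gb N427 = N215 := flp_b L2238
theorem L2240 : sm gc N427 = N251 := ded_13_2 L1293 L673 L592 L1126 L2238
theorem L2241 : sm gc N251 = N427 := flp_c L2240
theorem L2242 : sm gd N215 = N428 := rfl
theorem L2243 : sm gd N428 = N215 := flp_d L2242
theorem L2244 : sm ge N215 = N429 := rfl
theorem L2245 : sm ge N429 = N215 := flp_e L2244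
theorem L2246 : sm gc N429 = N216 := ded_19_1 L1129 L1126 L2244
theorem L2247 : sm gc N216 = N429 := flp_c L2246
theorem L2248 : sm gf N215 = N430 := rfl
theorem L2249 : sm gf N430 = N215 := flp_f L2248
theorem L2250 : sm gc N430 = N217 := ded_20_1 L1133 L1126 L2248
theorem L2251 : sm gc N217 = N430 := flp_c L2250
theorem L2252 : sm gf N216 = N431 := rfl
theorem L2253 : sm gf N431 = N216 := flp_f L2252
theorem L2256 : sm ge N431 = N217 := ded_25_1 L1133 L1128 L2252
theorem L2258 : sm gg N415 = N431 := ded_28_1 L2253 L2179 L2175 L2180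
theorem L2259 : sm gg N431 = N415 := flp_g L2258
theorem L2260 : sm gd N217 = N432 := rfl
theorem L2261 : sm gd N432 = N217 := flp_d L2260
theorem L2262 : sm ga N432 = N426 := ded_9_1 L2234 L2104 L2260
theorem L2263 : sm ga N426 = N432 := flp_a L2262
theorem L2264 : sm gb N432 = N256 := ded_14_1 L1315 L1135 L2260
theorem L2265 : sm gb N256 = N432 := flp_b L2264
theorem L2266 : sm gf N432 = N218 := ded_23_2 L1137 L594 L589 L1132 L2260
theorem L2267 : sm gf N218 = N432 := flp_f L2266
theorem L2268 : sm gg N217 = N433 := rfl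
theorem L2269 : sm gg N433 = N217 := flp_g L2268
theorem L2272 : sm ge N433 = N415 := ded_26_1 L2258 L2256 L2268
theorem L2273 : sm ge N415 = N433 := flp_e L2272
theorem L2274 : sm gf N414 = N433 := ded_28_0 L2269 L1133 L1103 L2174
theorem L2276 : sm gc N218 = N434 := rfl
theorem L2277 : sm gc N434 = N218 := flp_c L2276
theorem L2278 : sm ga N434 = N424 := ded_8_1 L2225 L1139 L2276
theorem L2279 : sm ga N424 = N434 := flp_a L2278
theorem L2280 : sm ge N218 = N435 := rfl
theorem L2281 : sm ge N435 = N218 := flp_e L2280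
theorem L2284 : sm gb N435 = N259 := ded_15_1 L1330 L1141 L2280
theorem L2285 : sm gb N259 = N435 := flp_b L2284
theorem L2288 : sm gg N218 = N436 := rfl
theorem L2289 : sm gg N436 = N218 := flp_g L2288
theorem L2290 : sm ga N436 = N422 := ded_12_1 L2214 L1139 L2288
theorem L2291 : sm ga N422 = N436 := flp_a L2290
theorem L2292 : sm gb N436 = N260 := ded_17_1 L1335 L1141 L2288
theorem L2294 : sm gd N436 = N397 := ded_24_1 L2085 L1045 L603 L1136 L2288
theorem L2295 : sm gd N397 = N436 := flp_d L2294
theorem L2296 : sm gd N219 = N437 := rfl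
theorem L2297 : sm gd N437 = N219 := flp_d L2296
theorem L2298 : sm ga N437 = N437 := ded_9_1 L2297 L1144 L2296
theorem L2299 : sm gf N437 = N221 := ded_23_2 L1157 L610 L604 L1142 L2296
theorem L2300 : sm gf N221 = N437 := flp_f L2299
theorem L2301 : sm gd N220 = N438 := rfl
theorem L2302 : sm gd N438 = N220 := flp_d L2301
theorem L2303 : sm ga N438 = N438 := ded_9_1 L2302 L1151 L2301
theorem L2304 : sm gg N438 = N222 := ded_24_2 L1160 L616 L604 L1149 L2301
theorem L2305 : sm gg N222 = N438 := flp_g L2304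
theorem L2306 : sm gc N221 = N439 := rfl
theorem L2307 : sm gc N439 = N221 := flp_c L2306
theorem L2308 : sm ga N439 = N439 := ded_8_1 L2307 L1158 L2306
theorem L2309 : sm ge N221 = N440 := rfl
theorem L2310 : sm ge N440 = N221 := flp_e L2309
theorem L2311 : sm ga N440 = N440 := ded_10_1 L2310 L1158 L2309
theorem L2312 : sm gd N440 = N224 := ded_22_1 L1168 L622 L614 L1156 L2309
theorem L2313 : sm gd N224 = N440 := flp_d L2312
theorem L2314 : sm gg N221 = N441 := rfl
theorem L2315 : sm gg N441 = N221 := flp_g L2314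
theorem L2316 : sm ga N441 = N441 := ded_12_1 L2315 L1158 L2314
theorem L2317 : sm gc N222 = N442 := rfl
theorem L2318 : sm gc N442 = N222 := flp_c L2317
theorem L2319 : sm ga N442 = N442 := ded_8_1 L2318 L1161 L2317
theorem L2320 : sm ge N222 = N443 := rfl
theorem L2321 : sm ge N443 = N222 := flp_e L2320
theorem L2323 : sm gd N443 = N228 := ded_22_1 L1184 L633 L620 L1159 L2320
theorem L2324 : sm gd N228 = N443 := flp_d L2323
theorem L2325 : sm gf N222 = N444 := rfl
theorem L2326 : sm gf N444 = N222 := flp_f L2325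
theorem L2328 : sm gb N223 = N445 := rfl
theorem L2329 : sm gb N445 = N223 := flp_b L2328
theorem L2330 : sm gf N445 = N241 := ded_16_2 L1241 L1166 L2328
theorem L2331 : sm gf N241 = N445 := flp_f L2330
theorem L2332 : sm gd N223 = N446 := rfl
theorem L2333 : sm gd N446 = N223 := flp_d L2332
theorem L2334 : sm ga N446 = N446 := ded_9_1 L2333 L1164 L2332
theorem L2335 : sm ge N223 = N447 := rfl
theorem L2336 : sm ge N447 = N223 := flp_e L2335
theorem L2338 : sm gc N447 = N224 := ded_19_1 L1168 L1162 L2335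
theorem L2339 : sm gc N224 = N447 := flp_c L2338
theorem L2340 : sm gf N447 = N243 := ded_25_2 L1247 L1166 L2335
theorem L2341 : sm gf N243 = N447 := flp_f L2340
theorem L2342 : sm gg N223 = N448 := rfl
theorem L2343 : sm gg N448 = N223 := flp_g L2342
theorem L2345 : sm gc N448 = N225 := ded_21_1 L1173 L1162 L2342
theorem L2346 : sm gc N225 = N448 := flp_c L2345
theorem L2347 : sm gd N225 = N449 := rfl
theorem L2348 : sm gd N449 = N225 := flp_d L2347
theorem L2350 : sm gg N449 = N226 := ded_24_2 L1176 L627 L621 L1172 L2347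
theorem L2351 : sm gg N226 = N449 := flp_g L2350
theorem L2352 : sm gc N226 = N450 := rfl
theorem L2353 : sm gc N450 = N226 := flp_c L2352
theorem L2354 : sm ga N450 = N450 := ded_8_1 L2353 L1177 L2352
theorem L2355 : sm ge N226 = N451 := rfl
theorem L2356 : sm ge N451 = N226 := flp_e L2355
theorem L2358 : sm gf N226 = N452 := rfl
theorem L2359 : sm gf N452 = N226 := flp_f L2358
theorem L2363 : sm gb N227 = N453 := rfl
theorem L2364 : sm gb N453 = N227 := flp_b L2363
theorem L2365 : sm gg N453 = N251 := ded_17_2 L1293 L1182 L2363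
theorem L2366 : sm gg N251 = N453 := flp_g L2365
theorem L2367 : sm gd N227 = N454 := rfl
theorem L2368 : sm gd N454 = N227 := flp_d L2367
theorem L2369 : sm ga N454 = N454 := ded_9_1 L2368 L1180 L2367
theorem L2370 : sm ge N227 = N455 := rfl
theorem L2371 : sm ge N455 = N227 := flp_e L2370
theorem L2373 : sm gc N455 = N228 := ded_19_1 L1184 L1178 L2370
theorem L2374 : sm gc N228 = N455 := flp_c L2373
theorem L2375 : sm gg N455 = N253 := ded_26_2 L1298 L1182 L2370
theorem L2376 : sm gg N253 = N455 := flp_g L2375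
theorem L2377 : sm gf N227 = N456 := rfl
theorem L2378 : sm gf N456 = N227 := flp_f L2377
theorem L2380 : sm gc N456 = N229 := ded_20_1 L1189 L1178 L2377
theorem L2381 : sm gc N229 = N456 := flp_c L2380
theorem L2382 : sm gd N229 = N457 := rfl
theorem L2383 : sm gd N457 = N229 := flp_d L2382
theorem L2384 : sm ga N457 = N457 := ded_9_1 L2383 L1190 L2382
theorem L2385 : sm gf N457 = N230 := ded_23_2 L1192 L638 L632 L1188 L2382
theorem L2386 : sm gf N230 = N457 := flp_f L2385
theorem L2387 : sm gc N230 = N458 := rfl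
theorem L2388 : sm gc N458 = N230 := flp_c L2387
theorem L2389 : sm ga N458 = N458 := ded_8_1 L2388 L1193 L2387
theorem L2390 : sm ge N230 = N459 := rfl
theorem L2391 : sm ge N459 = N230 := flp_e L2390
theorem L2392 : sm ga N459 = N459 := ded_10_1 L2391 L1193 L2390
theorem L2393 : sm gd N459 = N451 := ded_22_1 L2356 L1176 L642 L1191 L2390
theorem L2394 : sm gd N451 = N459 := flp_d L2393
theorem L2395 : sm gg N230 = N460 := rfl
theorem L2396 : sm gg N460 = N230 := flp_g L2395
theorem L2397 : sm ga N460 = N460 := ded_12_1 L2396 L1193 L2395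
theorem L2398 : sm gd N460 = N441 := ded_24_1 L2315 L1157 L644 L1191 L2395
theorem L2399 : sm gd N441 = N460 := flp_d L2398
theorem L2400 : sm gc N231 = N461 := rfl
theorem L2401 : sm gc N461 = N231 := flp_c L2400
theorem L2402 : sm ga N461 = N461 := ded_8_1 L2401 L1196 L2400
theorem L2403 : sm gf N461 = N235 := ded_20_2 L1219 L1198 L2400
theorem L2404 : sm gf N235 = N461 := flp_f L2403
theorem L2405 : sm ge N231 = N462 := rfl
theorem L2406 : sm ge N462 = N231 := flp_e L2405
theorem L2408 : sm gf N462 = N236 := ded_25_2 L1222 L1198 L2405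
theorem L2410 : sm gg N231 = N463 := rfl
theorem L2411 : sm gg N463 = N231 := flp_g L2410
theorem L2413 : sm gd N232 = N464 := rfl
theorem L2414 : sm gd N464 = N232 := flp_d L2413
theorem L2415 : sm ga N464 = N464 := ded_9_1 L2414 L1201 L2413
theorem L2416 : sm gc N233 = N465 := rfl
theorem L2417 : sm gc N465 = N233 := flp_c L2416
theorem L2418 : sm ga N465 = N465 := ded_8_1 L2417 L1206 L2416
theorem L2419 : sm gg N465 = N238 := ded_21_2 L1230 L1208 L2416
theorem L2420 : sm gg N238 = N465 := flp_g L2419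
theorem L2421 : sm ge N233 = N466 := rfl
theorem L2422 : sm ge N466 = N233 := flp_e L2421
theorem L2424 : sm gg N466 = N239 := ded_26_2 L1233 L1208 L2421
theorem L2425 : sm gg N239 = N466 := flp_g L2424
theorem L2426 : sm gf N233 = N467 := rfl
theorem L2427 : sm gf N467 = N233 := flp_f L2426
theorem L2429 : sm gd N234 = N468 := rfl
theorem L2430 : sm gd N468 = N234 := flp_d L2429
theorem L2431 : sm ga N468 = N468 := ded_9_1 L2430 L1211 L2429
theorem L2432 : sm gb N235 = N469 := rfl
theorem L2433 : sm gb N469 = N235 := flp_b L2432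
theorem L2434 : sm gd N235 = N470 := rfl
theorem L2435 : sm gd N470 = N235 := flp_d L2434
theorem L2436 : sm ga N470 = N470 := ded_9_1 L2435 L1220 L2434
theorem L2437 : sm ge N235 = N471 := rfl
theorem L2438 : sm ge N471 = N235 := flp_e L2437
theorem L2439 : sm ga N471 = N471 := ded_10_1 L2438 L1220 L2437
theorem L2440 : sm gc N471 = N236 := ded_19_1 L1222 L1218 L2437
theorem L2441 : sm gc N236 = N471 := flp_c L2440
theorem L2442 : sm gg N235 = N472 := rfl
theorem L2443 : sm gg N472 = N235 := flp_g L2442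
theorem L2444 : sm ga N472 = N472 := ded_12_1 L2443 L1220 L2442
theorem L2445 : sm gc N472 = N237 := ded_21_1 L1227 L1218 L2442
theorem L2446 : sm gc N237 = N472 := flp_c L2445
theorem L2447 : sm gg N236 = N473 := rfl
theorem L2448 : sm gg N473 = N236 := flp_g L2447
theorem L2449 : sm ga N473 = N473 := ded_12_1 L2448 L1223 L2447
theorem L2450 : sm ge N473 = N237 := ded_26_1 L1227 L1221 L2447
theorem L2451 : sm ge N237 = N473 := flp_e L2450
theorem L2452 : sm gf N473 = N463 := ded_28_2 L2411 L2405 L2408 L2447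
theorem L2453 : sm gf N463 = N473 := flp_f L2452
theorem L2454 : sm gf N237 = N474 := rfl
theorem L2455 : sm gf N474 = N237 := flp_f L2454
theorem L2456 : sm ga N474 = N474 := ded_11_1 L2455 L1228 L2454
theorem L2457 : sm ge N474 = N463 := ded_25_1 L2453 L2450 L2454
theorem L2458 : sm ge N463 = N474 := flp_e L2457
theorem L2459 : sm gg N474 = N462 := ded_28_3 L2406 L1197 L1226 L2454
theorem L2461 : sm gb N238 = N475 := rfl
theorem L2462 : sm gb N475 = N238 := flp_b L2461
theorem L2463 : sm gd N238 = N476 := rfl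
theorem L2464 : sm gd N476 = N238 := flp_d L2463
theorem L2465 : sm ga N476 = N476 := ded_9_1 L2464 L1231 L2463
theorem L2466 : sm ge N238 = N477 := rfl
theorem L2467 : sm ge N477 = N238 := flp_e L2466
theorem L2468 : sm ga N477 = N477 := ded_10_1 L2467 L1231 L2466
theorem L2469 : sm gc N477 = N239 := ded_19_1 L1233 L1229 L2466
theorem L2470 : sm gc N239 = N477 := flp_c L2469
theorem L2471 : sm gf N238 = N478 := rfl
theorem L2472 : sm gf N478 = N238 := flp_f L2471
theorem L2474 : sm gc N478 = N240 := ded_20_1 L1238 L1229 L2471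
theorem L2475 : sm gc N240 = N478 := flp_c L2474
theorem L2476 : sm gf N239 = N479 := rfl
theorem L2477 : sm gf N479 = N239 := flp_f L2476
theorem L2479 : sm ge N479 = N240 := ded_25_1 L1238 L1232 L2476
theorem L2481 : sm gg N467 = N479 := ded_28_1 L2477 L2425 L2422 L2426
theorem L2483 : sm gg N240 = N480 := rfl
theorem L2484 : sm gg N480 = N240 := flp_g L2483
theorem L2486 : sm ge N480 = N467 := ded_26_1 L2481 L2479 L2483
theorem L2488 : sm gf N466 = N480 := ded_28_0 L2484 L1238 L1208 L2421
theorem L2489 : sm gf N480 = N466 := flp_f L2488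
theorem L2490 : sm ga N241 = N481 := rfl
theorem L2491 : sm ga N481 = N241 := flp_a L2490
theorem L2492 : sm gb N481 = N471 := ded_29_7 L2440 L1222 L656 L1049 L2072 L2074 L2188 L2190 L2490
theorem L2493 : sm gb N471 = N481 := flp_b L2492
theorem L2494 : sm ge N469 = N481 := ded_15_0 L2492 L2438 L2432
theorem L2495 : sm ge N481 = N469 := flp_e L2494
theorem L2496 : sm gd N241 = N482 := rfl
theorem L2497 : sm gd N482 = N241 := flp_d L2496
theorem L2498 : sm gb N482 = N242 := ded_14_1 L1243 L1240 L2496
theorem L2499 : sm gb N242 = N482 := flp_b L2498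
theorem L2500 : sm ge N241 = N483 := rfl
theorem L2501 : sm ge N483 = N241 := flp_e L2500
theorem L2502 : sm ga N483 = N469 := ded_10_1 L2494 L2491 L2500
theorem L2503 : sm ga N469 = N483 := flp_a L2502
theorem L2504 : sm gb N483 = N243 := ded_15_1 L1247 L1240 L2500
theorem L2505 : sm gb N243 = N483 := flp_b L2504
theorem L2506 : sm gg N241 = N484 := rfl
theorem L2507 : sm gg N484 = N241 := flp_g L2506
theorem L2508 : sm gb N484 = N244 := ded_17_1 L1252 L1240 L2506
theorem L2509 : sm gb N244 = N484 := flp_b L2508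
theorem L2510 : sm ge N242 = N485 := rfl
theorem L2511 : sm ge N485 = N242 := flp_e L2510
theorem L2512 : sm ga N485 = N485 := ded_10_1 L2511 L1244 L2510
theorem L2513 : sm gc N485 = N485 := ded_19_1 L2511 L1245 L2510
theorem L2514 : sm gf N242 = N486 := rfl
theorem L2515 : sm gf N486 = N242 := flp_f L2514
theorem L2517 : sm gc N486 = N486 := ded_20_1 L2515 L1245 L2514
theorem L2518 : sm gg N242 = N487 := rfl
theorem L2519 : sm gg N487 = N242 := flp_g L2518
theorem L2522 : sm gd N243 = N488 := rfl
theorem L2523 : sm gd N488 = N243 := flp_d L2522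
theorem L2524 : sm ga N488 = N488 := ded_9_1 L2523 L1248 L2522
theorem L2525 : sm gg N243 = N489 := rfl
theorem L2526 : sm gg N489 = N243 := flp_g L2525
theorem L2528 : sm gc N489 = N245 := ded_21_1 L1257 L1250 L2525
theorem L2529 : sm gc N245 = N489 := flp_c L2528
theorem L2530 : sm ge N489 = N244 := ded_26_1 L1252 L1246 L2525
theorem L2531 : sm ge N244 = N489 := flp_e L2530
theorem L2532 : sm gf N489 = N448 := ded_28_2 L2343 L2335 L2340 L2525
theorem L2533 : sm gf N448 = N489 := flp_f L2532
theorem L2534 : sm gd N244 = N490 := rfl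
theorem L2535 : sm gd N490 = N244 := flp_d L2534
theorem L2536 : sm ga N490 = N490 := ded_9_1 L2535 L1253 L2534
theorem L2537 : sm gf N244 = N491 := rfl
theorem L2538 : sm gf N491 = N244 := flp_f L2537
theorem L2539 : sm ga N491 = N491 := ded_11_1 L2538 L1253 L2537
theorem L2540 : sm gc N491 = N247 := ded_20_1 L1269 L1255 L2537
theorem L2541 : sm gc N247 = N491 := flp_c L2540
theorem L2542 : sm ge N491 = N448 := ded_25_1 L2533 L2530 L2537
theorem L2543 : sm ge N448 = N491 := flp_e L2542
theorem L2546 : sm gd N245 = N492 := rfl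
theorem L2547 : sm gd N492 = N245 := flp_d L2546
theorem L2548 : sm ga N492 = N492 := ded_9_1 L2547 L1258 L2546
theorem L2549 : sm gd N247 = N493 := rfl
theorem L2550 : sm gd N493 = N247 := flp_d L2549
theorem L2551 : sm ga N493 = N493 := ded_9_1 L2550 L1270 L2549
theorem L2552 : sm gb N248 = N494 := rfl
theorem L2553 : sm gb N494 = N248 := flp_b L2552
theorem L2554 : sm gf N494 = N336 := ded_16_2 L1728 L1290 L2552
theorem L2555 : sm gf N336 = N494 := flp_f L2554
theorem L2556 : sm gd N248 = N495 := rfl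
theorem L2557 : sm gd N495 = N248 := flp_d L2556
theorem L2558 : sm ga N495 = N495 := ded_9_1 L2557 L1277 L2556
theorem L2559 : sm gf N249 = N496 := rfl
theorem L2560 : sm gf N496 = N249 := flp_f L2559
theorem L2561 : sm ga N496 = N496 := ded_11_1 L2560 L1280 L2559
theorem L2562 : sm gc N496 = N371 := ded_20_1 L1914 L1828 L2559
theorem L2563 : sm gc N371 = N496 := flp_c L2562
theorem L2564 : sm ge N496 = N250 := ded_25_1 L1282 L1278 L2559
theorem L2565 : sm ge N250 = N496 := flp_e L2564
theorem L2566 : sm gg N496 = N370 := ded_28_3 L1902 L1811 L1812 L2559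
theorem L2568 : sm ga N251 = N497 := rfl
theorem L2569 : sm ga N497 = N251 := flp_a L2568
theorem L2570 : sm gb N497 = N477 := ded_29_7 L2469 L1233 L659 L1055 L2090 L2092 L2238 L2240 L2568
theorem L2571 : sm gb N477 = N497 := flp_b L2570
theorem L2572 : sm ge N475 = N497 := ded_15_0 L2570 L2467 L2461
theorem L2574 : sm gd N251 = N498 := rfl
theorem L2575 : sm gd N498 = N251 := flp_d L2574
theorem L2576 : sm gb N498 = N252 := ded_14_1 L1295 L1292 L2574
theorem L2577 : sm gb N252 = N498 := flp_b L2576
theorem L2578 : sm ge N251 = N499 := rfl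
theorem L2579 : sm ge N499 = N251 := flp_e L2578
theorem L2580 : sm ga N499 = N475 := ded_10_1 L2572 L2569 L2578
theorem L2581 : sm ga N475 = N499 := flp_a L2580
theorem L2582 : sm gb N499 = N253 := ded_15_1 L1298 L1292 L2578
theorem L2583 : sm gb N253 = N499 := flp_b L2582
theorem L2584 : sm gf N251 = N500 := rfl
theorem L2585 : sm gf N500 = N251 := flp_f L2584
theorem L2586 : sm gb N500 = N254 := ded_16_1 L1303 L1292 L2584
theorem L2587 : sm gb N254 = N500 := flp_b L2586
theorem L2588 : sm gc N252 = N501 := rfl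
theorem L2589 : sm gc N501 = N252 := flp_c L2588
theorem L2590 : sm ga N501 = N501 := ded_8_1 L2589 L1296 L2588
theorem L2591 : sm gd N277 = N501 := ded_30_9 L2590 L2589 L1295 L673 L344 L147 L167 L371 L730 L1425
theorem L2593 : sm ge N252 = N502 := rfl
theorem L2594 : sm ge N502 = N252 := flp_e L2593
theorem L2596 : sm gf N252 = N503 := rfl
theorem L2597 : sm gf N503 = N252 := flp_f L2596
theorem L2599 : sm gg N252 = N504 := rfl
theorem L2600 : sm gg N504 = N252 := flp_g L2599
theorem L2602 : sm gd N253 = N505 := rfl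
theorem L2603 : sm gd N505 = N253 := flp_d L2602
theorem L2604 : sm ga N505 = N505 := ded_9_1 L2603 L1299 L2602
theorem L2605 : sm gf N253 = N506 := rfl
theorem L2606 : sm gf N506 = N253 := flp_f L2605
theorem L2608 : sm gc N506 = N255 := ded_20_1 L1308 L1301 L2605
theorem L2609 : sm gc N255 = N506 := flp_c L2608
theorem L2610 : sm ge N506 = N254 := ded_25_1 L1303 L1297 L2605
theorem L2612 : sm gg N456 = N506 := ded_28_1 L2606 L2376 L2371 L2377
theorem L2613 : sm gg N506 = N456 := flp_g L2612
theorem L2614 : sm gd N254 = N507 := rfl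
theorem L2615 : sm gd N507 = N254 := flp_d L2614
theorem L2616 : sm ga N507 = N507 := ded_9_1 L2615 L1304 L2614
theorem L2617 : sm gg N254 = N508 := rfl
theorem L2618 : sm gg N508 = N254 := flp_g L2617
theorem L2620 : sm gc N508 = N257 := ded_21_1 L1320 L1306 L2617
theorem L2622 : sm ge N508 = N456 := ded_26_1 L2612 L2610 L2617
theorem L2624 : sm gf N455 = N508 := ded_28_0 L2618 L1303 L1182 L2370
theorem L2625 : sm gf N508 = N455 := flp_f L2624
theorem L2626 : sm gd N255 = N509 := rfl
theorem L2627 : sm gd N509 = N255 := flp_d L2626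
theorem L2629 : sm gc N256 = N510 := rfl
theorem L2630 : sm gc N510 = N256 := flp_c L2629
theorem L2632 : sm gf N510 = N258 := ded_20_2 L1327 L1318 L2629
theorem L2633 : sm gf N258 = N510 := flp_f L2632
theorem L2634 : sm gg N510 = N366 := ded_28_3 L1886 L1863 L1865 L2633
theorem L2635 : sm gg N366 = N510 := flp_g L2634
theorem L2636 : sm ge N367 = N510 := ded_28_4 L2632 L1864 L1862 L1890
theorem L2638 : sm ge N256 = N511 := rfl
theorem L2639 : sm ge N511 = N256 := flp_e L2638
theorem L2641 : sm gc N511 = N367 := ded_19_1 L2636 L2630 L2638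
theorem L2642 : sm gc N367 = N511 := flp_c L2641
theorem L2643 : sm gf N511 = N259 := ded_25_2 L1330 L1318 L2638
theorem L2644 : sm gf N259 = N511 := flp_f L2643
theorem L2645 : sm gg N365 = N511 := ded_28_3 L2639 L1317 L1334 L1884
theorem L2646 : sm gg N511 = N365 := flp_g L2645
theorem L2647 : sm gd N461 = N447 := ded_31_10 L2338 L1274 L1269 L1263 L1820 L1824 L1291 L1894 L2642 L2646 L1883 L1337 L2446 L2443 L2404
theorem L2648 : sm gd N447 = N461 := flp_d L2647
theorem L2649 : sm gf N488 = N470 := ded_23_4 L2435 L2404 L2647 L2340 L2522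
theorem L2650 : sm gf N470 = N488 := flp_f L2649
theorem L2651 : sm gg N256 = N512 := rfl
theorem L2654 : sm gc N512 = N366 := ded_21_1 L2635 L2630 L2651
theorem L2656 : sm ge N512 = N365 := ded_26_1 L2645 L2639 L2651
theorem L2657 : sm ge N365 = N512 := flp_e L2656
theorem L2658 : sm gd N257 = N513 := rfl
theorem L2659 : sm gd N513 = N257 := flp_d L2658
theorem L2661 : sm gb N258 = N514 := rfl
theorem L2662 : sm gb N514 = N258 := flp_b L2661
theorem L2663 : sm gd N258 = N515 := rfl
theorem L2664 : sm gd N515 = N258 := flp_d L2663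
theorem L2665 : sm ga N515 = N515 := ded_9_1 L2664 L1328 L2663
theorem L2666 : sm ge N258 = N516 := rfl
theorem L2667 : sm ge N516 = N258 := flp_e L2666
theorem L2669 : sm gc N516 = N259 := ded_19_1 L1330 L1326 L2666
theorem L2670 : sm gc N259 = N516 := flp_c L2669
theorem L2671 : sm gf N516 = N367 := ded_25_2 L2636 L2632 L2666
theorem L2673 : sm gg N259 = N517 := rfl
theorem L2674 : sm gg N517 = N259 := flp_g L2673
theorem L2675 : sm ga N517 = N517 := ded_12_1 L2674 L1331 L2673
theorem L2676 : sm ge N517 = N260 := ded_26_1 L1335 L1329 L2673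
theorem L2677 : sm ge N260 = N517 := flp_e L2676
theorem L2678 : sm gf N512 = N517 := ded_28_0 L2674 L2644 L2646 L2657
theorem L2680 : sm gd N261 = N518 := rfl
theorem L2681 : sm gd N518 = N261 := flp_d L2680
theorem L2682 : sm ga N518 = N518 := ded_9_1 L2681 L1344 L2680
theorem L2683 : sm gb N518 = N262 := ded_14_1 L1346 L1339 L2680
theorem L2684 : sm gb N262 = N518 := flp_b L2683
theorem L2685 : sm gg N261 = N519 := rfl
theorem L2686 : sm gg N519 = N261 := flp_g L2685
theorem L2688 : sm gb N519 = N263 := ded_17_1 L1349 L1339 L2685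
theorem L2689 : sm gb N263 = N519 := flp_b L2688
theorem L2693 : sm gc N262 = N520 := rfl
theorem L2694 : sm gc N520 = N262 := flp_c L2693
theorem L2695 : sm ga N520 = N520 := ded_8_1 L2694 L1347 L2693
theorem L2696 : sm ge N262 = N521 := rfl
theorem L2697 : sm ge N521 = N262 := flp_e L2696
theorem L2698 : sm ga N521 = N521 := ded_10_1 L2697 L1347 L2696
theorem L2699 : sm gd N521 = N521 := ded_22_1 L2697 L1346 L687 L1345 L2696
theorem L2700 : sm gf N262 = N522 := rfl
theorem L2701 : sm gf N522 = N262 := flp_f L2700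
theorem L2704 : sm gg N262 = N523 := rfl
theorem L2705 : sm gg N523 = N262 := flp_g L2704
theorem L2706 : sm ga N523 = N523 := ded_12_1 L2705 L1347 L2704
theorem L2707 : sm gd N263 = N524 := rfl
theorem L2708 : sm gd N524 = N263 := flp_d L2707
theorem L2710 : sm ga N264 = N525 := rfl
theorem L2711 : sm ga N525 = N264 := flp_a L2710
theorem L2714 : sm gb N525 = N266 := ded_29_4 L1365 L701 L702 L1366 L1363 L697 L1355 L1358 L2710
theorem L2715 : sm gb N266 = N525 := flp_b L2714
theorem L2716 : sm ge N264 = N525 := ded_29_9 L2711 L1356 L696 L363 L364 L695 L697 L1355 L1358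
theorem L2718 : sm gd N264 = N526 := rfl
theorem L2719 : sm gd N526 = N264 := flp_d L2718
theorem L2720 : sm gb N526 = N265 := ded_14_1 L1360 L1355 L2718
theorem L2721 : sm gb N265 = N526 := flp_b L2720
theorem L2722 : sm gf N264 = N527 := rfl
theorem L2723 : sm gf N527 = N264 := flp_f L2722
theorem L2724 : sm gb N527 = N267 := ded_16_1 L1369 L1355 L2722
theorem L2725 : sm gb N267 = N527 := flp_b L2724
theorem L2727 : sm gc N265 = N528 := rfl
theorem L2728 : sm gc N528 = N265 := flp_c L2727
theorem L2730 : sm ge N265 = N529 := rfl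
theorem L2731 : sm ge N529 = N265 := flp_e L2730
theorem L2733 : sm gf N265 = N530 := rfl
theorem L2734 : sm gf N530 = N265 := flp_f L2733
theorem L2736 : sm gg N265 = N531 := rfl
theorem L2737 : sm gg N531 = N265 := flp_g L2736
theorem L2740 : sm gd N266 = N532 := rfl
theorem L2741 : sm gd N532 = N266 := flp_d L2740
theorem L2742 : sm ga N532 = N532 := ded_9_1 L2741 L1364 L2740
theorem L2743 : sm gf N266 = N533 := rfl
theorem L2744 : sm gf N533 = N266 := flp_f L2743
theorem L2745 : sm ga N533 = N533 := ded_11_1 L2744 L1364 L2743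
theorem L2746 : sm gc N533 = N268 := ded_20_1 L1374 L1366 L2743
theorem L2747 : sm gc N268 = N533 := flp_c L2746
theorem L2748 : sm ge N533 = N267 := ded_25_1 L1369 L1362 L2743
theorem L2749 : sm ge N267 = N533 := flp_e L2748
theorem L2750 : sm gg N533 = N267 := ded_28_3 L2749 L2744 L1367 L2743
theorem L2751 : sm gg N267 = N533 := flp_g L2750
theorem L2752 : sm gd N267 = N534 := rfl
theorem L2753 : sm gd N534 = N267 := flp_d L2752
theorem L2754 : sm ga N534 = N534 := ded_9_1 L2753 L1370 L2752
theorem L2755 : sm ga N269 = N535 := rfl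
theorem L2759 : sm gb N535 = N271 := ded_29_4 L1391 L716 L717 L1392 L1389 L712 L1381 L1384 L2755
theorem L2760 : sm gb N271 = N535 := flp_b L2759
theorem L2763 : sm gd N269 = N536 := rfl
theorem L2764 : sm gd N536 = N269 := flp_d L2763
theorem L2765 : sm gb N536 = N270 := ded_14_1 L1386 L1381 L2763
theorem L2766 : sm gb N270 = N536 := flp_b L2765
theorem L2767 : sm gf N269 = N537 := rfl
theorem L2768 : sm gf N537 = N269 := flp_f L2767
theorem L2769 : sm gb N537 = N272 := ded_16_1 L1395 L1381 L2767
theorem L2770 : sm gb N272 = N537 := flp_b L2769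
theorem L2772 : sm gc N270 = N538 := rfl
theorem L2773 : sm gc N538 = N270 := flp_c L2772
theorem L2775 : sm ge N270 = N539 := rfl
theorem L2776 : sm ge N539 = N270 := flp_e L2775
theorem L2777 : sm ga N539 = N539 := ded_10_1 L2776 L1387 L2775
theorem L2778 : sm gf N270 = N540 := rfl
theorem L2779 : sm gf N540 = N270 := flp_f L2778
theorem L2781 : sm gg N270 = N541 := rfl
theorem L2782 : sm gg N541 = N270 := flp_g L2781
theorem L2784 : sm gd N541 = N541 := ded_24_1 L2782 L1386 L713 L1385 L2781
theorem L2785 : sm gd N271 = N542 := rfl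
theorem L2786 : sm gd N542 = N271 := flp_d L2785
theorem L2787 : sm ga N542 = N542 := ded_9_1 L2786 L1390 L2785
theorem L2788 : sm gf N271 = N543 := rfl
theorem L2789 : sm gf N543 = N271 := flp_f L2788
theorem L2791 : sm gc N543 = N273 := ded_20_1 L1400 L1392 L2788
theorem L2792 : sm gc N273 = N543 := flp_c L2791
theorem L2793 : sm ge N543 = N272 := ded_25_1 L1395 L1388 L2788
theorem L2794 : sm ge N272 = N543 := flp_e L2793
theorem L2795 : sm gg N543 = N272 := ded_28_3 L2794 L2789 L1393 L2788
theorem L2796 : sm gg N272 = N543 := flp_g L2795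
theorem L2797 : sm gd N272 = N544 := rfl
theorem L2798 : sm gd N544 = N272 := flp_d L2797
theorem L2799 : sm ga N544 = N544 := ded_9_1 L2798 L1396 L2797
theorem L2800 : sm gd N273 = N545 := rfl
theorem L2801 : sm gd N545 = N273 := flp_d L2800
theorem L2802 : sm ga N545 = N545 := ded_9_1 L2801 L1401 L2800
theorem L2804 : sm ge N545 = N318 := ded_22_2 L1637 L1377 L724 L1404 L2800
theorem L2805 : sm ge N318 = N545 := flp_e L2804
theorem L2806 : sm gf N545 = N317 := ded_23_2 L1631 L1450 L758 L1399 L2800
theorem L2807 : sm gf N317 = N545 := flp_f L2806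
theorem L2808 : sm gg N545 = N318 := ded_24_2 L1637 L1379 L724 L1406 L2800
theorem L2809 : sm gg N318 = N545 := flp_g L2808
theorem L2810 : sm gd N274 = N546 := rfl
theorem L2811 : sm gd N546 = N274 := flp_d L2810
theorem L2812 : sm ga N546 = N275 := ded_9_1 L1417 L1407 L2810
theorem L2813 : sm ga N275 = N546 := flp_a L2812
theorem L2814 : sm gb N546 = N279 := ded_14_1 L1434 L1413 L2810
theorem L2815 : sm gb N279 = N546 := flp_b L2814
theorem L2816 : sm gf N546 = N275 := ded_23_2 L1417 L1420 L1536 L1535 L2810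
theorem L2817 : sm gf N275 = N546 := flp_f L2816
theorem L2818 : sm gc N275 = N547 := rfl
theorem L2819 : sm gc N547 = N275 := flp_c L2818
theorem L2820 : sm ge N275 = N548 := rfl
theorem L2821 : sm ge N548 = N275 := flp_e L2820
theorem L2824 : sm gg N275 = N549 := rfl
theorem L2825 : sm gg N549 = N275 := flp_g L2824
theorem L2828 : sm gd N549 = N295 := ded_24_1 L1518 L774 L728 L1416 L2824
theorem L2829 : sm gd N295 = N549 := flp_d L2828
theorem L2830 : sm gb N277 = N550 := rfl
theorem L2831 : sm gb N550 = N277 := flp_b L2830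
theorem L2832 : sm ge N277 = N551 := rfl
theorem L2833 : sm ge N551 = N277 := flp_e L2832
theorem L2835 : sm gc N551 = N278 := ded_19_1 L1429 L1425 L2832
theorem L2836 : sm gc N278 = N551 := flp_c L2835
theorem L2837 : sm gf N277 = N552 := rfl
theorem L2838 : sm gf N552 = N277 := flp_f L2837
theorem L2840 : sm gc N552 = N279 := ded_20_1 L1432 L1425 L2837
theorem L2841 : sm gc N279 = N552 := flp_c L2840
theorem L2842 : sm gg N277 = N553 := rfl
theorem L2843 : sm gg N553 = N277 := flp_g L2842
theorem L2845 : sm gc N553 = N280 := ded_21_1 L1437 L1425 L2842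
theorem L2846 : sm gc N280 = N553 := flp_c L2845
theorem L2847 : sm gd N278 = N554 := rfl
theorem L2848 : sm gd N554 = N278 := flp_d L2847
theorem L2850 : sm ge N554 = N279 := ded_22_2 L1434 L734 L730 L1428 L2847
theorem L2852 : sm gf N278 = N554 := ded_25_0 L2850 L1432 L1428
theorem L2853 : sm gf N554 = N278 := flp_f L2852
theorem L2854 : sm gg N278 = N555 := rfl
theorem L2855 : sm gg N555 = N278 := flp_g L2854
theorem L2857 : sm ge N555 = N280 := ded_26_1 L1437 L1428 L2854
theorem L2858 : sm ge N280 = N555 := flp_e L2857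
theorem L2859 : sm gg N279 = N556 := rfl
theorem L2860 : sm gg N556 = N279 := flp_g L2859
theorem L2862 : sm gf N555 = N556 := ded_28_0 L2860 L1432 L1436 L2858
theorem L2863 : sm gf N556 = N555 := flp_f L2862
theorem L2864 : sm gd N556 = N310 := ded_24_1 L1596 L797 L739 L1435 L2859
theorem L2865 : sm gd N310 = N556 := flp_d L2864
theorem L2866 : sm gf N280 = N557 := rfl
theorem L2869 : sm ge N557 = N556 := ded_25_1 L2863 L2857 L2866
theorem L2871 : sm gg N557 = N554 := ded_28_3 L2850 L1432 L1436 L2866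
theorem L2872 : sm gg N554 = N557 := flp_g L2871
theorem L2873 : sm gb N281 = N558 := rfl
theorem L2874 : sm gb N558 = N281 := flp_b L2873
theorem L2875 : sm gf N558 = N284 := ded_16_2 L1457 L1445 L2873
theorem L2876 : sm gf N284 = N558 := flp_f L2875
theorem L2877 : sm gc N558 = N558 := ded_13_2 L2874 L1442 L748 L1441 L2873
theorem L2878 : sm gd N281 = N559 := rfl
theorem L2879 : sm gd N559 = N281 := flp_d L2878
theorem L2881 : sm ge N281 = N560 := rfl
theorem L2882 : sm ge N560 = N281 := flp_e L2881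
theorem L2884 : sm gc N560 = N282 := ded_19_1 L1447 L1441 L2881
theorem L2885 : sm gc N282 = N560 := flp_c L2884
theorem L2886 : sm gf N560 = N286 := ded_25_2 L1463 L1445 L2881
theorem L2887 : sm gf N286 = N560 := flp_f L2886
theorem L2888 : sm gg N281 = N561 := rfl
theorem L2889 : sm gg N561 = N281 := flp_g L2888
theorem L2891 : sm gc N561 = N283 := ded_21_1 L1453 L1441 L2888
theorem L2892 : sm gc N283 = N561 := flp_c L2891
theorem L2893 : sm ga N284 = N562 := rfl
theorem L2894 : sm ga N562 = N284 := flp_a L2893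
theorem L2896 : sm gb N562 = N286 := ded_29_4 L1465 L756 L757 L1466 L1463 L753 L1456 L1458 L2893
theorem L2897 : sm gb N286 = N562 := flp_b L2896
theorem L2898 : sm ge N284 = N562 := ded_29_9 L2894 L1457 L752 L388 L389 L751 L753 L1456 L1458
theorem L2900 : sm gd N284 = N563 := rfl
theorem L2901 : sm gd N563 = N284 := flp_d L2900
theorem L2902 : sm gb N563 = N285 := ded_14_1 L1460 L1456 L2900
theorem L2903 : sm gb N285 = N563 := flp_b L2902
theorem L2904 : sm gg N284 = N564 := rfl
theorem L2905 : sm gg N564 = N284 := flp_g L2904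
theorem L2906 : sm gb N564 = N287 := ded_17_1 L1468 L1456 L2904
theorem L2907 : sm gb N287 = N564 := flp_b L2906
theorem L2909 : sm gc N285 = N565 := rfl
theorem L2910 : sm gc N565 = N285 := flp_c L2909
theorem L2911 : sm ga N565 = N565 := ded_8_1 L2910 L1461 L2909
theorem L2912 : sm ge N285 = N566 := rfl
theorem L2913 : sm ge N566 = N285 := flp_e L2912
theorem L2914 : sm ga N566 = N566 := ded_10_1 L2913 L1461 L2912
theorem L2915 : sm gf N285 = N567 := rfl
theorem L2916 : sm gf N567 = N285 := flp_f L2915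
theorem L2918 : sm gg N285 = N568 := rfl
theorem L2919 : sm gg N568 = N285 := flp_g L2918
theorem L2921 : sm gd N286 = N569 := rfl
theorem L2922 : sm gd N569 = N286 := flp_d L2921
theorem L2923 : sm ga N569 = N569 := ded_9_1 L2922 L1464 L2921
theorem L2924 : sm gg N286 = N570 := rfl
theorem L2925 : sm gg N570 = N286 := flp_g L2924
theorem L2926 : sm ga N570 = N570 := ded_12_1 L2925 L1464 L2924
theorem L2929 : sm ge N570 = N287 := ded_26_1 L1468 L1462 L2924
theorem L2930 : sm ge N287 = N570 := flp_e L2929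
theorem L2931 : sm gf N570 = N561 := ded_28_2 L2889 L2881 L2886 L2924
theorem L2932 : sm gf N561 = N570 := flp_f L2931
theorem L2933 : sm gd N287 = N571 := rfl
theorem L2934 : sm gd N571 = N287 := flp_d L2933
theorem L2935 : sm ga N571 = N571 := ded_9_1 L2934 L1469 L2933
theorem L2936 : sm gf N287 = N572 := rfl
theorem L2937 : sm gf N572 = N287 := flp_f L2936
theorem L2939 : sm gc N572 = N289 := ded_20_1 L1482 L1471 L2936
theorem L2941 : sm ge N572 = N561 := ded_25_1 L2932 L2929 L2936
theorem L2943 : sm gg N572 = N560 := ded_28_3 L2882 L1444 L1467 L2936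
theorem L2944 : sm gg N560 = N572 := flp_g L2943
theorem L2945 : sm gc N290 = N573 := rfl
theorem L2947 : sm ga N573 = N292 := ded_8_1 L1508 L1493 L2945
theorem L2948 : sm ga N292 = N573 := flp_a L2947
theorem L2949 : sm ge N290 = N574 := rfl
theorem L2950 : sm ge N574 = N290 := flp_e L2949
theorem L2951 : sm ga N574 = N293 := ded_10_1 L1510 L1493 L2949
theorem L2955 : sm gd N574 = N293 := ded_22_1 L1510 L774 L771 L1490 L2949
theorem L2956 : sm gd N293 = N574 := flp_d L2955
theorem L2957 : sm gf N290 = N575 := rfl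
theorem L2959 : sm ga N575 = N294 := ded_11_1 L1514 L1493 L2957
theorem L2960 : sm ga N294 = N575 := flp_a L2959
theorem L2963 : sm gg N290 = N576 := rfl
theorem L2964 : sm gg N576 = N290 := flp_g L2963
theorem L2969 : sm gd N291 = N577 := rfl
theorem L2970 : sm gd N577 = N291 := flp_d L2969
theorem L2971 : sm ga N577 = N296 := ded_9_1 L1522 L1499 L2969
theorem L2972 : sm ga N296 = N577 := flp_a L2971
theorem L2973 : sm gb N577 = N311 := ded_14_1 L1599 L1501 L2969
theorem L2974 : sm gb N311 = N577 := flp_b L2973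
theorem L2975 : sm gg N577 = N296 := ded_24_2 L1522 L1525 L1537 L1505 L2969
theorem L2976 : sm gg N296 = N577 := flp_g L2975
theorem L2977 : sm gb N292 = N578 := rfl
theorem L2978 : sm gb N578 = N292 := flp_b L2977
theorem L2979 : sm gc N578 = N298 := ded_13_2 L1539 L783 L776 L1507 L2977
theorem L2980 : sm gc N298 = N578 := flp_c L2979
theorem L2981 : sm gd N292 = N579 := rfl
theorem L2982 : sm gd N579 = N292 := flp_d L2981
theorem L2983 : sm ge N292 = N580 := rfl
theorem L2984 : sm ge N580 = N292 := flp_e L2983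
theorem L2987 : sm gf N292 = N581 := rfl
theorem L2988 : sm gf N581 = N292 := flp_f L2987
theorem L2989 : sm gc N581 = N294 := ded_20_1 L1514 L1507 L2987
theorem L2990 : sm gc N294 = N581 := flp_c L2989
theorem L2991 : sm gg N292 = N582 := rfl
theorem L2992 : sm gg N582 = N292 := flp_g L2991
theorem L3001 : sm gg N293 = N584 := rfl
theorem L3002 : sm gg N584 = N293 := flp_g L3001
theorem L3005 : sm ge N584 = N295 := ded_26_1 L1518 L1509 L3001
theorem L3007 : sm gd N294 = N585 := rfl
theorem L3008 : sm gd N585 = N294 := flp_d L3007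
theorem L3009 : sm gb N585 = N305 := ded_14_1 L1573 L1516 L3007
theorem L3010 : sm gb N305 = N585 := flp_b L3009
theorem L3011 : sm gf N585 = N296 := ded_23_2 L1522 L778 L773 L1513 L3007
theorem L3012 : sm gf N296 = N585 := flp_f L3011
theorem L3013 : sm gg N294 = N586 := rfl
theorem L3014 : sm gg N586 = N294 := flp_g L3013
theorem L3019 : sm gf N295 = N587 := rfl
theorem L3020 : sm gf N587 = N295 := flp_f L3019
theorem L3021 : sm gb N587 = N307 := ded_16_1 L1583 L1520 L3019
theorem L3022 : sm gb N307 = N587 := flp_b L3021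
theorem L3027 : sm gc N296 = N588 := rfl
theorem L3028 : sm gc N588 = N296 := flp_c L3027
theorem L3033 : sm ga N298 = N590 := rfl
theorem L3034 : sm ga N590 = N298 := flp_a L3033
theorem L3035 : sm gd N590 = N337 := ded_9_2 L1731 L1541 L3033
theorem L3036 : sm gd N337 = N590 := flp_d L3035
theorem L3037 : sm ge N298 = N591 := rfl
theorem L3039 : sm gb N591 = N299 := ded_15_1 L1543 L1538 L3037
theorem L3040 : sm gb N299 = N591 := flp_b L3039
theorem L3041 : sm gf N298 = N592 := rfl
theorem L3042 : sm gf N592 = N298 := flp_f L3041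
theorem L3043 : sm gb N592 = N300 := ded_16_1 L1548 L1538 L3041
theorem L3044 : sm gb N300 = N592 := flp_b L3043
theorem L3045 : sm gg N298 = N593 := rfl
theorem L3046 : sm gg N593 = N298 := flp_g L3045
theorem L3047 : sm gb N593 = N301 := ded_17_1 L1553 L1538 L3045
theorem L3048 : sm gb N301 = N593 := flp_b L3047
theorem L3049 : sm gd N299 = N594 := rfl
theorem L3050 : sm gd N594 = N299 := flp_d L3049
theorem L3051 : sm ga N594 = N594 := ded_9_1 L3050 L1544 L3049
theorem L3052 : sm ge N594 = N341 := ded_22_2 L1745 L873 L785 L1542 L3049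
theorem L3053 : sm ge N341 = N594 := flp_e L3052
theorem L3054 : sm gf N299 = N595 := rfl
theorem L3055 : sm gf N595 = N299 := flp_f L3054
theorem L3059 : sm ge N595 = N300 := ded_25_1 L1548 L1542 L3054
theorem L3061 : sm gg N299 = N596 := rfl
theorem L3062 : sm gg N596 = N299 := flp_g L3061
theorem L3064 : sm gc N596 = N304 := ded_21_1 L1568 L1546 L3061
theorem L3065 : sm gc N304 = N596 := flp_c L3064
theorem L3066 : sm ge N596 = N301 := ded_26_1 L1553 L1542 L3061
theorem L3067 : sm ge N301 = N596 := flp_e L3066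
theorem L3068 : sm gd N300 = N597 := rfl
theorem L3071 : sm gf N597 = N344 := ded_23_2 L1762 L878 L785 L1547 L3068
theorem L3072 : sm gf N344 = N597 := flp_f L3071
theorem L3073 : sm gg N300 = N598 := rfl
theorem L3074 : sm gg N598 = N300 := flp_g L3073
theorem L3076 : sm gc N598 = N306 := ded_21_1 L1578 L1551 L3073
theorem L3077 : sm gc N306 = N598 := flp_c L3076
theorem L3078 : sm gf N596 = N598 := ded_28_0 L3074 L1548 L1552 L3067
theorem L3079 : sm gf N598 = N596 := flp_f L3078
theorem L3080 : sm gd N301 = N599 := rfl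
theorem L3081 : sm gd N599 = N301 := flp_d L3080
theorem L3082 : sm ga N599 = N599 := ded_9_1 L3081 L1554 L3080
theorem L3083 : sm gg N599 = N346 := ded_24_2 L1772 L883 L785 L1552 L3080
theorem L3084 : sm gg N346 = N599 := flp_g L3083
theorem L3085 : sm gf N301 = N600 := rfl
theorem L3086 : sm gf N600 = N301 := flp_f L3085
theorem L3087 : sm ga N600 = N600 := ded_11_1 L3086 L1554 L3085
theorem L3088 : sm gc N600 = N307 := ded_20_1 L1583 L1556 L3085
theorem L3090 : sm ge N600 = N598 := ded_25_1 L3079 L3066 L3085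
theorem L3091 : sm ge N598 = N600 := flp_e L3090
theorem L3092 : sm gg N600 = N595 := ded_28_3 L3059 L1548 L1552 L3085
theorem L3093 : sm gg N595 = N600 := flp_g L3092
theorem L3094 : sm gc N302 = N601 := rfl
theorem L3095 : sm gc N601 = N302 := flp_c L3094
theorem L3097 : sm ge N601 = N308 := ded_19_2 L1590 L1561 L3094
theorem L3098 : sm ge N308 = N601 := flp_e L3097
theorem L3099 : sm gb N590 = N601 := ded_29_7 L3095 L1560 L798 L1495 L2945 L2947 L2977 L2979 L3033
theorem L3101 : sm gd N601 = N348 := ded_14_2 L1789 L3036 L3099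
theorem L3102 : sm gd N348 = N601 := flp_d L3101
theorem L3103 : sm gc N341 = N594 := ded_30_4 L3050 L1545 L1557 L3094 L3101 L1785 L1784 L888 L876 L1744
theorem L3105 : sm gf N302 = N602 := rfl
theorem L3106 : sm gf N602 = N302 := flp_f L3105
theorem L3108 : sm ge N602 = N309 := ded_25_1 L1593 L1561 L3105
theorem L3110 : sm gg N302 = N603 := rfl
theorem L3113 : sm ge N603 = N310 := ded_26_1 L1596 L1561 L3110
theorem L3114 : sm ge N310 = N603 := flp_e L3113
theorem L3115 : sm gd N303 = N604 := rfl
theorem L3116 : sm gd N604 = N303 := flp_d L3115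
theorem L3118 : sm gd N304 = N605 := rfl
theorem L3119 : sm gd N605 = N304 := flp_d L3118
theorem L3121 : sm gc N305 = N606 := rfl
theorem L3122 : sm gc N606 = N305 := flp_c L3121
theorem L3124 : sm gf N606 = N312 := ded_20_2 L1604 L1576 L3121
theorem L3125 : sm gf N312 = N606 := flp_f L3124
theorem L3126 : sm ge N305 = N607 := rfl
theorem L3127 : sm ge N607 = N305 := flp_e L3126
theorem L3129 : sm gf N607 = N313 := ded_25_2 L1607 L1576 L3126
theorem L3130 : sm gf N313 = N607 := flp_f L3129
theorem L3131 : sm gg N305 = N608 := rfl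
theorem L3132 : sm gg N608 = N305 := flp_g L3131
theorem L3134 : sm gd N306 = N609 := rfl
theorem L3135 : sm gd N609 = N306 := flp_d L3134
theorem L3137 : sm gd N307 = N610 := rfl
theorem L3138 : sm gd N610 = N307 := flp_d L3137
theorem L3140 : sm gb N308 = N611 := rfl
theorem L3141 : sm gb N611 = N308 := flp_b L3140
theorem L3144 : sm ga N591 = N611 := ded_29_0 L3141 L1590 L798 L1495 L2945 L2947 L2977 L2979 L3037
theorem L3146 : sm gd N308 = N612 := rfl
theorem L3147 : sm gd N612 = N308 := flp_d L3146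
theorem L3149 : sm ge N612 = N359 := ded_22_2 L1846 L1787 L3102 L3097 L3146
theorem L3150 : sm ge N359 = N612 := flp_e L3149
theorem L3152 : sm gf N308 = N613 := rfl
theorem L3153 : sm gf N613 = N308 := flp_f L3152
theorem L3155 : sm gc N613 = N309 := ded_20_1 L1593 L1589 L3152
theorem L3157 : sm gg N308 = N614 := rfl
theorem L3158 : sm gg N614 = N308 := flp_g L3157
theorem L3160 : sm gc N614 = N310 := ded_21_1 L1596 L1589 L3157
theorem L3161 : sm gc N310 = N614 := flp_c L3160
theorem L3162 : sm gd N309 = N615 := rfl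
theorem L3165 : sm gf N615 = N311 := ded_23_2 L1599 L800 L796 L1592 L3162
theorem L3166 : sm gf N311 = N615 := flp_f L3165
theorem L3167 : sm gg N607 = N615 := ded_28_1 L3165 L1601 L1606 L3130
theorem L3169 : sm ge N608 = N615 := ded_28_4 L3165 L1601 L1576 L3131
theorem L3170 : sm ge N615 = N608 := flp_e L3169
theorem L3171 : sm gg N309 = N616 := rfl
theorem L3172 : sm gg N616 = N309 := flp_g L3171
theorem L3174 : sm gf N603 = N616 := ded_28_0 L3172 L1593 L1595 L3114
theorem L3175 : sm gf N616 = N603 := flp_f L3174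
theorem L3176 : sm gf N310 = N617 := rfl
theorem L3177 : sm gf N617 = N310 := flp_f L3176
theorem L3179 : sm ge N617 = N616 := ded_25_1 L3175 L3113 L3176
theorem L3180 : sm ge N616 = N617 := flp_e L3179
theorem L3181 : sm gg N617 = N602 := ded_28_3 L3108 L1593 L1595 L3176
theorem L3182 : sm gg N602 = N617 := flp_g L3181
theorem L3183 : sm gc N311 = N618 := rfl
theorem L3184 : sm gc N618 = N311 := flp_c L3183
theorem L3185 : sm ga N618 = N618 := ded_8_1 L3184 L1600 L3183
theorem L3186 : sm gg N618 = N312 := ded_21_2 L1604 L1602 L3183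
theorem L3187 : sm gg N312 = N618 := flp_g L3186
theorem L3188 : sm ge N311 = N619 := rfl
theorem L3189 : sm ge N619 = N311 := flp_e L3188
theorem L3191 : sm gf N619 = N608 := ded_25_2 L3169 L3165 L3188
theorem L3195 : sm gd N619 = N313 := ded_22_1 L1607 L809 L805 L1598 L3188
theorem L3196 : sm gd N313 = N619 := flp_d L3195
theorem L3197 : sm gb N312 = N620 := rfl
theorem L3198 : sm gb N620 = N312 := flp_b L3197
theorem L3199 : sm gd N312 = N621 := rfl
theorem L3200 : sm gd N621 = N312 := flp_d L3199
theorem L3201 : sm ga N621 = N621 := ded_9_1 L3200 L1605 L3199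
theorem L3202 : sm gc N621 = N621 := ded_30_0 L3200 L1604 L809 L404 L193 L405 L808 L1603 L3199 L3201
theorem L3203 : sm ge N312 = N622 := rfl
theorem L3204 : sm ge N622 = N312 := flp_e L3203
theorem L3206 : sm gc N622 = N313 := ded_19_1 L1607 L1603 L3203
theorem L3207 : sm gc N313 = N622 := flp_c L3206
theorem L3208 : sm gb N314 = N623 := rfl
theorem L3214 : sm gd N314 = N624 := rfl
theorem L3215 : sm gd N624 = N314 := flp_d L3214
theorem L3217 : sm gg N314 = N625 := rfl
theorem L3218 : sm gg N625 = N314 := flp_g L3217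
theorem L3222 : sm ge N625 = N625 := ded_26_1 L3218 L1612 L3217
theorem L3223 : sm gf N625 = N625 := ded_28_0 L3218 L1613 L3217 L3222
theorem L3224 : sm gb N316 = N626 := rfl
theorem L3225 : sm gb N626 = N316 := flp_b L3224
theorem L3226 : sm gg N626 = N626 := ded_17_2 L3225 L1625 L3224
theorem L3227 : sm gc N626 = N626 := ded_13_2 L3225 L1623 L831 L1622 L3224
theorem L3228 : sm gd N316 = N627 := rfl
theorem L3229 : sm gd N627 = N316 := flp_d L3228
theorem L3230 : sm ga N627 = N627 := ded_9_1 L3229 L1624 L3228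
theorem L3231 : sm gc N627 = N559 := ded_30_0 L2879 L1442 L746 L744 L820 L814 L828 L1622 L3228 L3230
theorem L3232 : sm gc N559 = N627 := flp_c L3231
theorem L3233 : sm ge N316 = N628 := rfl
theorem L3234 : sm ge N628 = N316 := flp_e L3233
theorem L3236 : sm gc N628 = N317 := ded_19_1 L1627 L1622 L3233
theorem L3237 : sm gc N317 = N628 := flp_c L3236
theorem L3239 : sm gf N316 = N629 := rfl
theorem L3240 : sm gf N629 = N316 := flp_f L3239
theorem L3241 : sm ga N629 = N629 := ded_11_1 L3240 L1624 L3239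
theorem L3242 : sm gc N629 = N318 := ded_20_1 L1634 L1622 L3239
theorem L3243 : sm gc N318 = N629 := flp_c L3242
theorem L3244 : sm gb N319 = N630 := rfl
theorem L3245 : sm gb N630 = N319 := flp_b L3244
theorem L3246 : sm gc N630 = N358 := ded_13_2 L1840 L920 L838 L1639 L3244
theorem L3247 : sm gc N358 = N630 := flp_c L3246
theorem L3248 : sm gd N319 = N631 := rfl
theorem L3249 : sm gd N631 = N319 := flp_d L3248
theorem L3250 : sm ga N631 = N325 := ded_9_1 L1675 L1642 L3248
theorem L3251 : sm ga N325 = N631 := flp_a L3250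
theorem L3252 : sm ge N319 = N632 := rfl
theorem L3253 : sm ge N632 = N319 := flp_e L3252
theorem L3254 : sm ga N632 = N326 := ded_10_1 L1677 L1642 L3252
theorem L3255 : sm ga N326 = N632 := flp_a L3254
theorem L3256 : sm gc N632 = N320 := ded_19_1 L1644 L1639 L3252
theorem L3258 : sm gf N319 = N633 := rfl
theorem L3259 : sm gf N633 = N319 := flp_f L3258
theorem L3260 : sm ga N633 = N327 := ded_11_1 L1681 L1642 L3258
theorem L3261 : sm ga N327 = N633 := flp_a L3260
theorem L3262 : sm gc N633 = N321 := ded_20_1 L1652 L1639 L3258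
theorem L3263 : sm gc N321 = N633 := flp_c L3262
theorem L3264 : sm gg N319 = N634 := rfl
theorem L3265 : sm gg N634 = N319 := flp_g L3264
theorem L3266 : sm ga N634 = N328 := ded_12_1 L1685 L1642 L3264
theorem L3267 : sm ga N328 = N634 := flp_a L3266
theorem L3268 : sm gc N634 = N322 := ded_21_1 L1658 L1639 L3264
theorem L3269 : sm gc N322 = N634 := flp_c L3268
theorem L3270 : sm gf N320 = N635 := rfl
theorem L3271 : sm gf N635 = N320 := flp_f L3270
theorem L3272 : sm ga N635 = N329 := ded_11_1 L1689 L1646 L3270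
theorem L3273 : sm ga N329 = N635 := flp_a L3272
theorem L3274 : sm gb N635 = N349 := ded_16_1 L1791 L1648 L3270
theorem L3275 : sm gb N349 = N635 := flp_b L3274
theorem L3276 : sm ge N635 = N321 := ded_25_1 L1652 L1643 L3270
theorem L3277 : sm ge N321 = N635 := flp_e L3276
theorem L3278 : sm gg N320 = N636 := rfl
theorem L3279 : sm gg N636 = N320 := flp_g L3278
theorem L3280 : sm ga N636 = N330 := ded_12_1 L1695 L1646 L3278
theorem L3281 : sm ga N330 = N636 := flp_a L3280
theorem L3282 : sm gb N636 = N350 := ded_17_1 L1796 L1648 L3278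
theorem L3283 : sm gb N350 = N636 := flp_b L3282
theorem L3284 : sm ge N636 = N322 := ded_26_1 L1658 L1643 L3278
theorem L3285 : sm ge N322 = N636 := flp_e L3284
theorem L3286 : sm gd N321 = N637 := rfl
theorem L3287 : sm gd N637 = N321 := flp_d L3286
theorem L3288 : sm ga N637 = N331 := ded_9_1 L1701 L1654 L3286
theorem L3289 : sm ga N331 = N637 := flp_a L3288
theorem L3290 : sm gb N637 = N362 := ded_14_1 L1860 L1656 L3286
theorem L3291 : sm gb N362 = N637 := flp_b L3290
theorem L3292 : sm gf N637 = N323 := ded_23_2 L1665 L840 L833 L1651 L3286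
theorem L3293 : sm gf N323 = N637 := flp_f L3292
theorem L3294 : sm gg N514 = N637 := ded_17_0 L3290 L1865 L2661
theorem L3295 : sm gg N637 = N514 := flp_g L3294
theorem L3296 : sm gg N321 = N638 := rfl
theorem L3297 : sm gg N638 = N321 := flp_g L3296
theorem L3298 : sm ga N638 = N332 := ded_12_1 L1707 L1654 L3296
theorem L3299 : sm ga N332 = N638 := flp_a L3298
theorem L3300 : sm gb N638 = N363 := ded_17_1 L1869 L1656 L3296
theorem L3301 : sm gb N363 = N638 := flp_b L3300
theorem L3302 : sm gf N636 = N638 := ded_28_0 L3297 L1652 L1657 L3285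
theorem L3303 : sm gf N638 = N636 := flp_f L3302
theorem L3304 : sm gf N322 = N639 := rfl
theorem L3305 : sm gf N639 = N322 := flp_f L3304
theorem L3306 : sm ga N639 = N333 := ded_11_1 L1713 L1660 L3304
theorem L3307 : sm ga N333 = N639 := flp_a L3306
theorem L3308 : sm gb N639 = N364 := ded_16_1 L1874 L1662 L3304
theorem L3309 : sm gb N364 = N639 := flp_b L3308
theorem L3310 : sm ge N639 = N638 := ded_25_1 L3303 L3284 L3304
theorem L3311 : sm ge N638 = N639 := flp_e L3310
theorem L3312 : sm gg N639 = N635 := ded_28_3 L3276 L1652 L1657 L3304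
theorem L3313 : sm gg N635 = N639 := flp_g L3312
theorem L3314 : sm gc N323 = N640 := rfl
theorem L3315 : sm gc N640 = N323 := flp_c L3314
theorem L3316 : sm ga N640 = N334 := ded_8_1 L1721 L1667 L3314
theorem L3317 : sm ga N334 = N640 := flp_a L3316
theorem L3318 : sm ge N323 = N641 := rfl
theorem L3319 : sm ge N641 = N323 := flp_e L3318
theorem L3320 : sm ga N641 = N335 := ded_10_1 L1723 L1667 L3318
theorem L3321 : sm ga N335 = N641 := flp_a L3320
theorem L3326 : sm gg N323 = N642 := rfl
theorem L3327 : sm gg N642 = N323 := flp_g L3326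
theorem L3328 : sm ga N642 = N336 := ded_12_1 L1727 L1667 L3326
theorem L3330 : sm gb N642 = N367 := ded_17_1 L1891 L1669 L3326
theorem L3331 : sm gb N367 = N642 := flp_b L3330
theorem L3332 : sm gd N642 = N336 := ded_24_1 L1727 L867 L850 L1664 L3326
theorem L3333 : sm gd N336 = N642 := flp_d L3332
theorem L3334 : sm ga N324 = N643 := rfl
theorem L3335 : sm ga N643 = N324 := flp_a L3334
theorem L3336 : sm gc N643 = N337 := ded_8_2 L1731 L1673 L3334
theorem L3337 : sm gc N337 = N643 := flp_c L3336
theorem L3338 : sm gb N643 = N632 := ded_29_4 L3256 L1645 L855 L876 L873 L443 L870 L1673 L3334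
theorem L3339 : sm gb N632 = N643 := flp_b L3338
theorem L3340 : sm ge N630 = N643 := ded_29_9 L3335 L1671 L852 L836 L837 L919 L921 L1839 L3247
theorem L3341 : sm ge N643 = N630 := flp_e L3340
theorem L3342 : sm gd N324 = N644 := rfl
theorem L3343 : sm gd N644 = N324 := flp_d L3342
theorem L3344 : sm gb N644 = N325 := ded_14_1 L1675 L1670 L3342
theorem L3345 : sm gb N325 = N644 := flp_b L3344
theorem L3346 : sm ge N324 = N645 := rfl
theorem L3347 : sm ge N645 = N324 := flp_e L3346
theorem L3348 : sm ga N645 = N630 := ded_10_1 L3340 L3335 L3346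
theorem L3349 : sm ga N630 = N645 := flp_a L3348
theorem L3350 : sm gb N645 = N326 := ded_15_1 L1677 L1670 L3346
theorem L3351 : sm gb N326 = N645 := flp_b L3350
theorem L3352 : sm gc N645 = N338 := ded_19_1 L1733 L1673 L3346
theorem L3353 : sm gc N338 = N645 := flp_c L3352
theorem L3354 : sm gf N324 = N646 := rfl
theorem L3355 : sm gf N646 = N324 := flp_f L3354
theorem L3356 : sm gb N646 = N327 := ded_16_1 L1681 L1670 L3354
theorem L3357 : sm gb N327 = N646 := flp_b L3356
theorem L3358 : sm gc N646 = N339 := ded_20_1 L1737 L1673 L3354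
theorem L3359 : sm gc N339 = N646 := flp_c L3358
theorem L3360 : sm gg N324 = N647 := rfl
theorem L3361 : sm gg N647 = N324 := flp_g L3360
theorem L3362 : sm gb N647 = N328 := ded_17_1 L1685 L1670 L3360
theorem L3363 : sm gb N328 = N647 := flp_b L3362
theorem L3364 : sm gc N647 = N340 := ded_21_1 L1741 L1673 L3360
theorem L3365 : sm gc N340 = N647 := flp_c L3364
theorem L3366 : sm gc N325 = N648 := rfl
theorem L3367 : sm gc N648 = N325 := flp_c L3366
theorem L3368 : sm ge N325 = N649 := rfl
theorem L3369 : sm ge N649 = N325 := flp_e L3368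
theorem L3370 : sm gf N325 = N650 := rfl
theorem L3371 : sm gf N650 = N325 := flp_f L3370
theorem L3372 : sm gg N325 = N651 := rfl
theorem L3373 : sm gg N651 = N325 := flp_g L3372
theorem L3374 : sm gd N326 = N652 := rfl
theorem L3375 : sm gd N652 = N326 := flp_d L3374
theorem L3376 : sm gf N326 = N653 := rfl
theorem L3377 : sm gf N653 = N326 := flp_f L3376
theorem L3378 : sm gc N653 = N329 := ded_20_1 L1689 L1679 L3376
theorem L3379 : sm gc N329 = N653 := flp_c L3378
theorem L3380 : sm ge N653 = N327 := ded_25_1 L1681 L1676 L3376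
theorem L3381 : sm ge N327 = N653 := flp_e L3380
theorem L3382 : sm gg N326 = N654 := rfl
theorem L3383 : sm gg N654 = N326 := flp_g L3382
theorem L3384 : sm gc N654 = N330 := ded_21_1 L1695 L1679 L3382
theorem L3385 : sm gc N330 = N654 := flp_c L3384
theorem L3386 : sm ge N654 = N328 := ded_26_1 L1685 L1676 L3382
theorem L3387 : sm ge N328 = N654 := flp_e L3386
theorem L3388 : sm gd N327 = N655 := rfl
theorem L3389 : sm gd N655 = N327 := flp_d L3388
theorem L3390 : sm gg N327 = N656 := rfl
theorem L3391 : sm gg N656 = N327 := flp_g L3390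
theorem L3392 : sm gc N656 = N332 := ded_21_1 L1707 L1683 L3390
theorem L3393 : sm gc N332 = N656 := flp_c L3392
theorem L3394 : sm gf N654 = N656 := ded_28_0 L3391 L1681 L1684 L3387
theorem L3395 : sm gf N656 = N654 := flp_f L3394
theorem L3396 : sm gd N328 = N657 := rfl
theorem L3397 : sm gd N657 = N328 := flp_d L3396
theorem L3398 : sm gf N328 = N658 := rfl
theorem L3399 : sm gf N658 = N328 := flp_f L3398
theorem L3400 : sm gc N658 = N333 := ded_20_1 L1713 L1687 L3398
theorem L3401 : sm gc N333 = N658 := flp_c L3400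
theorem L3402 : sm ge N658 = N656 := ded_25_1 L3395 L3386 L3398
theorem L3403 : sm ge N656 = N658 := flp_e L3402
theorem L3404 : sm gg N658 = N653 := ded_28_3 L3380 L1681 L1684 L3398
theorem L3405 : sm gg N653 = N658 := flp_g L3404
theorem L3406 : sm gd N658 = N656 := ded_31_2 L3392 L1707 L858 L432 L197 L105 L233 L496 L846 L849 L436 L431 L851 L1684 L3398
theorem L3407 : sm gd N656 = N658 := flp_d L3406
theorem L3408 : sm gd N329 = N659 := rfl
theorem L3409 : sm gd N659 = N329 := flp_d L3408
theorem L3410 : sm gb N659 = N351 := ded_14_1 L1801 L1691 L3408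
theorem L3411 : sm gb N351 = N659 := flp_b L3410
theorem L3412 : sm gd N330 = N660 := rfl
theorem L3413 : sm gd N660 = N330 := flp_d L3412
theorem L3414 : sm gb N660 = N352 := ded_14_1 L1804 L1697 L3412
theorem L3415 : sm gb N352 = N660 := flp_b L3414
theorem L3416 : sm ge N660 = N660 := ded_22_2 L3413 L1698 L865 L1699 L3412
theorem L3417 : sm gc N331 = N661 := rfl
theorem L3418 : sm gc N661 = N331 := flp_c L3417
theorem L3419 : sm gf N661 = N334 := ded_20_2 L1721 L1705 L3417
theorem L3420 : sm gf N334 = N661 := flp_f L3419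
theorem L3421 : sm ge N331 = N662 := rfl
theorem L3422 : sm ge N662 = N331 := flp_e L3421
theorem L3425 : sm gf N662 = N335 := ded_25_2 L1723 L1705 L3421
theorem L3426 : sm gf N335 = N662 := flp_f L3425
theorem L3427 : sm gg N494 = N662 := ded_28_3 L3422 L1704 L1726 L2555
theorem L3429 : sm gg N331 = N663 := rfl
theorem L3430 : sm gg N663 = N331 := flp_g L3429
theorem L3431 : sm ga N663 = N514 := ded_12_1 L3294 L3288 L3429
theorem L3432 : sm ga N514 = N663 := flp_a L3431
theorem L3433 : sm gb N663 = N355 := ded_17_1 L1826 L1703 L3429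
theorem L3434 : sm gb N355 = N663 := flp_b L3433
theorem L3437 : sm gd N332 = N664 := rfl
theorem L3438 : sm gd N664 = N332 := flp_d L3437
theorem L3439 : sm gb N664 = N356 := ded_14_1 L1833 L1709 L3437
theorem L3440 : sm gb N356 = N664 := flp_b L3439
theorem L3441 : sm gd N333 = N665 := rfl
theorem L3442 : sm gd N665 = N333 := flp_d L3441
theorem L3443 : sm gb N665 = N357 := ded_14_1 L1836 L1715 L3441
theorem L3444 : sm gb N357 = N665 := flp_b L3443
theorem L3445 : sm gf N665 = N665 := ded_23_2 L3442 L1713 L865 L1712 L3441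
theorem L3446 : sm gb N334 = N666 := rfl
theorem L3447 : sm gb N666 = N334 := flp_b L3446
theorem L3448 : sm gc N666 = N368 := ded_13_2 L1896 L933 L869 L1720 L3446
theorem L3449 : sm gc N368 = N666 := flp_c L3448
theorem L3450 : sm gd N334 = N667 := rfl
theorem L3451 : sm gd N667 = N334 := flp_d L3450
theorem L3452 : sm gc N667 = N667 := ded_30_8 L3451 L3317 L3315 L1665 L845 L495 L440 L866 L1720 L3450
theorem L3453 : sm ge N334 = N668 := rfl
theorem L3454 : sm ge N668 = N334 := flp_e L3453
theorem L3455 : sm gc N668 = N335 := ded_19_1 L1723 L1720 L3453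
theorem L3456 : sm gc N335 = N668 := flp_c L3455
theorem L3457 : sm gg N334 = N669 := rfl
theorem L3458 : sm gg N669 = N334 := flp_g L3457
theorem L3459 : sm gc N669 = N336 := ded_21_1 L1727 L1720 L3457
theorem L3460 : sm gc N336 = N669 := flp_c L3459
theorem L3461 : sm gg N335 = N670 := rfl
theorem L3462 : sm gg N670 = N335 := flp_g L3461
theorem L3463 : sm gb N670 = N371 := ded_17_1 L1909 L1725 L3461
theorem L3464 : sm gb N371 = N670 := flp_b L3463
theorem L3465 : sm ge N670 = N336 := ded_26_1 L1727 L1722 L3461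
theorem L3469 : sm gf N337 = N671 := rfl
theorem L3470 : sm gf N671 = N337 := flp_f L3469
theorem L3471 : sm ga N671 = N339 := ded_11_1 L1737 L1730 L3469
theorem L3472 : sm ga N339 = N671 := flp_a L3471
theorem L3473 : sm gg N337 = N672 := rfl
theorem L3474 : sm gg N672 = N337 := flp_g L3473
theorem L3475 : sm ga N672 = N340 := ded_12_1 L1741 L1730 L3473
theorem L3476 : sm ga N340 = N672 := flp_a L3475
theorem L3477 : sm gd N338 = N673 := rfl
theorem L3478 : sm gd N673 = N338 := flp_d L3477
theorem L3481 : sm gf N338 = N674 := rfl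
theorem L3482 : sm gf N674 = N338 := flp_f L3481
theorem L3483 : sm gb N674 = N342 := ded_16_1 L1748 L1735 L3481
theorem L3484 : sm gb N342 = N674 := flp_b L3483
theorem L3485 : sm ge N674 = N339 := ded_25_1 L1737 L1732 L3481
theorem L3487 : sm gg N338 = N675 := rfl
theorem L3488 : sm gg N675 = N338 := flp_g L3487
theorem L3489 : sm gb N675 = N343 := ded_17_1 L1755 L1735 L3487
theorem L3490 : sm gb N343 = N675 := flp_b L3489
theorem L3491 : sm ge N675 = N340 := ded_26_1 L1741 L1732 L3487
theorem L3492 : sm ge N340 = N675 := flp_e L3491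
theorem L3493 : sm gd N339 = N676 := rfl
theorem L3494 : sm gd N676 = N339 := flp_d L3493
theorem L3495 : sm gb N676 = N344 := ded_14_1 L1762 L1739 L3493
theorem L3496 : sm gb N344 = N676 := flp_b L3495
theorem L3497 : sm gg N339 = N677 := rfl
theorem L3498 : sm gg N677 = N339 := flp_g L3497
theorem L3501 : sm gf N675 = N677 := ded_28_0 L3498 L1737 L1740 L3492
theorem L3502 : sm gf N677 = N675 := flp_f L3501
theorem L3503 : sm gd N340 = N678 := rfl
theorem L3504 : sm gd N678 = N340 := flp_d L3503
theorem L3505 : sm gb N678 = N346 := ded_14_1 L1772 L1743 L3503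
theorem L3506 : sm gb N346 = N678 := flp_b L3505
theorem L3507 : sm gf N340 = N679 := rfl
theorem L3508 : sm gf N679 = N340 := flp_f L3507
theorem L3509 : sm gb N679 = N347 := ded_16_1 L1775 L1743 L3507
theorem L3510 : sm gb N347 = N679 := flp_b L3509
theorem L3511 : sm ge N679 = N677 := ded_25_1 L3502 L3491 L3507
theorem L3513 : sm gg N679 = N674 := ded_28_3 L3485 L1737 L1740 L3507
theorem L3514 : sm gg N674 = N679 := flp_g L3513
theorem L3515 : sm gf N341 = N680 := rfl
theorem L3516 : sm gf N680 = N341 := flp_f L3515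
theorem L3517 : sm ga N680 = N680 := ded_11_1 L3516 L1746 L3515
theorem L3518 : sm gg N341 = N681 := rfl
theorem L3519 : sm gg N681 = N341 := flp_g L3518
theorem L3521 : sm gd N342 = N682 := rfl
theorem L3522 : sm gd N682 = N342 := flp_d L3521
theorem L3523 : sm ga N682 = N682 := ded_9_1 L3522 L1749 L3521
theorem L3524 : sm gd N343 = N683 := rfl
theorem L3525 : sm gd N683 = N343 := flp_d L3524
theorem L3527 : sm gc N344 = N684 := rfl
theorem L3528 : sm gc N684 = N344 := flp_c L3527
theorem L3529 : sm ga N684 = N684 := ded_8_1 L3528 L1763 L3527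
theorem L3530 : sm ge N344 = N685 := rfl
theorem L3531 : sm ge N685 = N344 := flp_e L3530
theorem L3533 : sm gg N344 = N686 := rfl
theorem L3534 : sm gg N686 = N344 := flp_g L3533
theorem L3535 : sm ga N686 = N686 := ded_12_1 L3534 L1763 L3533
theorem L3536 : sm gd N345 = N687 := rfl
theorem L3537 : sm gd N687 = N345 := flp_d L3536
theorem L3539 : sm gf N361 = N687 := ded_31_1 L3537 L1767 L908 L448 L200 L87 L51 L97 L102 L212 L465 L458 L454 L919 L1854
theorem L3540 : sm gf N687 = N361 := flp_f L3539
theorem L3541 : sm gc N687 = N364 := ded_20_1 L1874 L1858 L3539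
theorem L3542 : sm gc N364 = N687 := flp_c L3541
theorem L3543 : sm gc N346 = N688 := rfl
theorem L3544 : sm gc N688 = N346 := flp_c L3543
theorem L3545 : sm ga N688 = N688 := ded_8_1 L3544 L1773 L3543
theorem L3546 : sm ge N346 = N689 := rfl
theorem L3547 : sm ge N689 = N346 := flp_e L3546
theorem L3549 : sm gf N346 = N690 := rfl
theorem L3550 : sm gf N690 = N346 := flp_f L3549
theorem L3551 : sm ga N690 = N690 := ded_11_1 L3550 L1773 L3549
theorem L3552 : sm gd N347 = N691 := rfl
theorem L3553 : sm gd N691 = N347 := flp_d L3552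
theorem L3555 : sm gf N348 = N692 := rfl
theorem L3558 : sm gb N692 = N671 := ded_16_1 L3470 L1788 L3555
theorem L3560 : sm gc N692 = N349 := ded_20_1 L1791 L1783 L3555
theorem L3561 : sm gc N349 = N692 := flp_c L3560
theorem L3562 : sm ge N692 = N360 := ded_25_1 L1850 L1787 L3555
theorem L3564 : sm gg N692 = N687 := ded_28_1 L3540 L1855 L1787 L3555
theorem L3565 : sm gg N687 = N692 := flp_g L3564
theorem L3566 : sm gd N686 = N692 := ded_24_5 L3564 L3537 L1765 L1761 L3533
theorem L3567 : sm gd N692 = N686 := flp_d L3566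
theorem L3568 : sm gg N348 = N693 := rfl
theorem L3569 : sm gg N693 = N348 := flp_g L3568
theorem L3571 : sm gb N693 = N672 := ded_17_1 L3474 L1788 L3568
theorem L3573 : sm gc N693 = N350 := ded_21_1 L1796 L1783 L3568
theorem L3574 : sm gc N350 = N693 := flp_c L3573
theorem L3575 : sm ge N693 = N361 := ded_26_1 L1855 L1787 L3568
theorem L3576 : sm ge N361 = N693 := flp_e L3575
theorem L3577 : sm gd N349 = N694 := rfl
theorem L3578 : sm gd N694 = N349 := flp_d L3577
theorem L3579 : sm ga N694 = N694 := ded_9_1 L3578 L1792 L3577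
theorem L3580 : sm gf N694 = N351 := ded_23_2 L1801 L893 L887 L1790 L3577
theorem L3581 : sm gf N351 = N694 := flp_f L3580
theorem L3582 : sm gd N350 = N695 := rfl
theorem L3583 : sm gd N695 = N350 := flp_d L3582
theorem L3584 : sm ga N695 = N695 := ded_9_1 L3583 L1797 L3582
theorem L3585 : sm ge N695 = N695 := ded_22_2 L3583 L1798 L928 L1799 L3582
theorem L3586 : sm gg N695 = N352 := ded_24_2 L1804 L898 L887 L1795 L3582
theorem L3587 : sm gg N352 = N695 := flp_g L3586
theorem L3588 : sm gc N351 = N696 := rfl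
theorem L3589 : sm gc N696 = N351 := flp_c L3588
theorem L3590 : sm ga N696 = N696 := ded_8_1 L3589 L1802 L3588
theorem L3591 : sm ge N351 = N697 := rfl
theorem L3592 : sm ge N697 = N351 := flp_e L3591
theorem L3594 : sm gd N697 = N354 := ded_22_1 L1817 L903 L896 L1800 L3591
theorem L3595 : sm gd N354 = N697 := flp_d L3594
theorem L3596 : sm gg N351 = N698 := rfl
theorem L3597 : sm gg N698 = N351 := flp_g L3596
theorem L3599 : sm gc N352 = N699 := rfl
theorem L3600 : sm gc N699 = N352 := flp_c L3599
theorem L3601 : sm ga N699 = N699 := ded_8_1 L3600 L1805 L3599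
theorem L3603 : sm gf N352 = N700 := rfl
theorem L3604 : sm gf N700 = N352 := flp_f L3603
theorem L3607 : sm gb N353 = N701 := rfl
theorem L3609 : sm ge N701 = N422 := ded_15_2 L2212 L1814 L3607
theorem L3610 : sm ge N422 = N701 := flp_e L3609
theorem L3611 : sm gf N701 = N368 := ded_16_2 L1896 L1811 L3607
theorem L3612 : sm gf N368 = N701 := flp_f L3611
theorem L3613 : sm gg N701 = N425 := ded_17_2 L2228 L1813 L3607
theorem L3615 : sm gd N353 = N702 := rfl
theorem L3616 : sm gd N702 = N353 := flp_d L3615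
theorem L3618 : sm ge N702 = N492 := ded_22_2 L2547 L1259 L1263 L1814 L3615
theorem L3619 : sm ge N492 = N702 := flp_e L3618
theorem L3620 : sm gd N355 = N703 := rfl
theorem L3621 : sm gd N703 = N355 := flp_d L3620
theorem L3623 : sm gg N703 = N356 := ded_24_2 L1833 L908 L902 L1825 L3620
theorem L3624 : sm gg N356 = N703 := flp_g L3623
theorem L3625 : sm gc N356 = N704 := rfl
theorem L3626 : sm gc N704 = N356 := flp_c L3625
theorem L3627 : sm ga N704 = N704 := ded_8_1 L3626 L1834 L3625
theorem L3628 : sm ge N356 = N705 := rfl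
theorem L3629 : sm ge N705 = N356 := flp_e L3628
theorem L3631 : sm gf N356 = N706 := rfl
theorem L3632 : sm gf N706 = N356 := flp_f L3631
theorem L3634 : sm gd N706 = N700 := ded_23_1 L3604 L1804 L910 L1832 L3631
theorem L3635 : sm gd N700 = N706 := flp_d L3634
theorem L3636 : sm gc N357 = N707 := rfl
theorem L3637 : sm gc N707 = N357 := flp_c L3636
theorem L3638 : sm ga N707 = N707 := ded_8_1 L3637 L1837 L3636
theorem L3639 : sm gf N707 = N707 := ded_20_2 L3637 L1838 L3636
theorem L3640 : sm ge N357 = N708 := rfl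
theorem L3641 : sm ge N708 = N357 := flp_e L3640
theorem L3642 : sm ga N708 = N708 := ded_10_1 L3641 L1837 L3640
theorem L3643 : sm gf N708 = N708 := ded_25_2 L3641 L1838 L3640
theorem L3644 : sm gd N708 = N705 := ded_22_1 L3629 L1833 L916 L1835 L3640
theorem L3646 : sm gg N357 = N709 := rfl
theorem L3647 : sm gg N709 = N357 := flp_g L3646
theorem L3648 : sm ga N709 = N709 := ded_12_1 L3647 L1837 L3646
theorem L3649 : sm gd N709 = N698 := ded_24_1 L3597 L1801 L918 L1835 L3646
theorem L3650 : sm gd N698 = N709 := flp_d L3649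
theorem L3651 : sm gd N358 = N710 := rfl
theorem L3653 : sm ga N710 = N673 := ded_9_1 L3478 L1843 L3651
theorem L3654 : sm ga N673 = N710 := flp_a L3653
theorem L3655 : sm gb N710 = N359 := ded_14_1 L1846 L1839 L3651
theorem L3656 : sm gb N359 = N710 := flp_b L3655
theorem L3657 : sm gf N358 = N711 := rfl
theorem L3658 : sm gf N711 = N358 := flp_f L3657
theorem L3659 : sm ga N711 = N674 := ded_11_1 L3482 L1843 L3657
theorem L3660 : sm ga N674 = N711 := flp_a L3659
theorem L3661 : sm gb N711 = N360 := ded_16_1 L1850 L1839 L3657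
theorem L3662 : sm gb N360 = N711 := flp_b L3661
theorem L3663 : sm ge N711 = N671 := ded_25_1 L3470 L1842 L3657
theorem L3665 : sm gg N358 = N712 := rfl
theorem L3666 : sm gg N712 = N358 := flp_g L3665
theorem L3667 : sm ga N712 = N675 := ded_12_1 L3488 L1843 L3665
theorem L3668 : sm ga N675 = N712 := flp_a L3667
theorem L3669 : sm gb N712 = N361 := ded_17_1 L1855 L1839 L3665
theorem L3670 : sm gb N361 = N712 := flp_b L3669
theorem L3671 : sm ge N712 = N672 := ded_26_1 L3474 L1842 L3665
theorem L3672 : sm ge N672 = N712 := flp_e L3671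
theorem L3673 : sm gf N359 = N713 := rfl
theorem L3674 : sm gf N713 = N359 := flp_f L3673
theorem L3676 : sm gc N713 = N713 := ded_20_1 L3674 L1848 L3673
theorem L3677 : sm gg N359 = N714 := rfl
theorem L3678 : sm gg N714 = N359 := flp_g L3677
theorem L3680 : sm gc N714 = N714 := ded_21_1 L3678 L1848 L3677
theorem L3681 : sm gd N360 = N715 := rfl
theorem L3682 : sm gd N715 = N360 := flp_d L3681
theorem L3683 : sm ga N715 = N715 := ded_9_1 L3682 L1851 L3681
theorem L3684 : sm gg N360 = N716 := rfl
theorem L3685 : sm gg N716 = N360 := flp_g L3684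
theorem L3687 : sm gc N716 = N363 := ded_21_1 L1869 L1853 L3684
theorem L3688 : sm gc N363 = N716 := flp_c L3687
theorem L3689 : sm ge N716 = N687 := ded_26_1 L3565 L3562 L3684
theorem L3691 : sm gf N693 = N716 := ded_28_0 L3685 L1850 L1854 L3576
theorem L3692 : sm gf N716 = N693 := flp_f L3691
theorem L3693 : sm gd N361 = N717 := rfl
theorem L3694 : sm gd N717 = N361 := flp_d L3693
theorem L3695 : sm ga N717 = N717 := ded_9_1 L3694 L1856 L3693
theorem L3696 : sm gf N717 = N683 := ded_23_2 L3525 L1769 L3536 L3540 L3693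
theorem L3697 : sm gf N683 = N717 := flp_f L3696
theorem L3698 : sm ge N362 = N718 := rfl
theorem L3699 : sm ge N718 = N362 := flp_e L3698
theorem L3703 : sm gf N718 = N366 := ded_25_2 L1886 L1863 L3698
theorem L3704 : sm gf N366 = N718 := flp_f L3703
theorem L3705 : sm gg N718 = N516 := ded_26_2 L2667 L1864 L3698
theorem L3707 : sm gd N363 = N719 := rfl
theorem L3708 : sm gd N719 = N363 := flp_d L3707
theorem L3709 : sm ga N719 = N719 := ded_9_1 L3708 L1870 L3707
theorem L3710 : sm gg N719 = N515 := ded_24_2 L2664 L1864 L1860 L1868 L3707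
theorem L3711 : sm gg N515 = N719 := flp_g L3710
theorem L3712 : sm gd N364 = N720 := rfl
theorem L3713 : sm gd N720 = N364 := flp_d L3712
theorem L3715 : sm gf N720 = N720 := ded_23_2 L3713 L1874 L928 L1873 L3712
theorem L3716 : sm gb N365 = N721 := rfl
theorem L3717 : sm gb N721 = N365 := flp_b L3716
theorem L3720 : sm gd N365 = N722 := rfl
theorem L3721 : sm gd N722 = N365 := flp_d L3720
theorem L3722 : sm ga N722 = N722 := ded_9_1 L3721 L1882 L3720
theorem L3723 : sm ga N368 = N723 := rfl
theorem L3724 : sm ga N723 = N368 := flp_a L3723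
theorem L3725 : sm gg N723 = N432 := ded_12_2 L2262 L2237 L3723
theorem L3726 : sm gg N432 = N723 := flp_g L3725
theorem L3731 : sm gd N368 = N724 := rfl
theorem L3732 : sm gd N724 = N368 := flp_d L3731
theorem L3733 : sm gb N724 = N369 := ded_14_1 L1898 L1895 L3731
theorem L3734 : sm gb N369 = N724 := flp_b L3733
theorem L3735 : sm ge N368 = N725 := rfl
theorem L3736 : sm ge N725 = N368 := flp_e L3735
theorem L3739 : sm gb N725 = N370 := ded_15_1 L1902 L1895 L3735
theorem L3740 : sm gb N370 = N725 := flp_b L3739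
theorem L3741 : sm gf N725 = N422 := ded_25_2 L3610 L3611 L3735
theorem L3742 : sm gf N422 = N725 := flp_f L3741
theorem L3743 : sm ge N369 = N726 := rfl
theorem L3744 : sm ge N726 = N369 := flp_e L3743
theorem L3746 : sm gc N726 = N726 := ded_19_1 L3744 L1900 L3743
theorem L3747 : sm gf N369 = N727 := rfl
theorem L3748 : sm gf N727 = N369 := flp_f L3747
theorem L3750 : sm gc N727 = N727 := ded_20_1 L3748 L1900 L3747
theorem L3751 : sm gg N369 = N728 := rfl
theorem L3752 : sm gg N728 = N369 := flp_g L3751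
theorem L3754 : sm gc N728 = N728 := ded_21_1 L3752 L1900 L3751
theorem L3755 : sm gd N728 = N480 := ded_24_1 L2484 L1285 L1287 L1897 L3751
theorem L3756 : sm gd N480 = N728 := flp_d L3755
theorem L3757 : sm gd N370 = N729 := rfl
theorem L3758 : sm gd N729 = N370 := flp_d L3757
theorem L3760 : sm gf N729 = N493 := ded_23_2 L2550 L1269 L1263 L1907 L3757
theorem L3761 : sm gf N493 = N729 := flp_f L3760
theorem L3762 : sm gd N371 = N730 := rfl
theorem L3763 : sm gd N730 = N371 := flp_d L3762
theorem L3765 : sm gc N372 = N731 := rfl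
theorem L3766 : sm gc N731 = N372 := flp_c L3765
theorem L3767 : sm ga N731 = N731 := ded_8_1 L3766 L1917 L3765
theorem L3768 : sm ge N372 = N732 := rfl
theorem L3769 : sm ge N732 = N372 := flp_e L3768
theorem L3770 : sm ga N732 = N732 := ded_10_1 L3769 L1917 L3768
theorem L3771 : sm gb N732 = N732 := ded_15_1 L3769 L1918 L3768
theorem L3772 : sm gd N732 = N732 := ded_22_1 L3769 L1916 L944 L1915 L3768
theorem L3773 : sm gf N372 = N733 := rfl
theorem L3774 : sm gf N733 = N372 := flp_f L3773
theorem L3777 : sm gd N733 = N733 := ded_23_1 L3774 L1916 L945 L1915 L3773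
theorem L3778 : sm gg N372 = N734 := rfl
theorem L3779 : sm gg N734 = N372 := flp_g L3778
theorem L3780 : sm ga N734 = N734 := ded_12_1 L3779 L1917 L3778
theorem L3781 : sm gb N734 = N734 := ded_17_1 L3779 L1918 L3778
theorem L3782 : sm gd N734 = N734 := ded_24_1 L3779 L1916 L946 L1915 L3778
theorem L3783 : sm gd N373 = N735 := rfl
theorem L3784 : sm gd N735 = N373 := flp_d L3783
theorem L3785 : sm gb N735 = N374 := ded_14_1 L1926 L1919 L3783
theorem L3786 : sm gb N374 = N735 := flp_b L3785
theorem L3787 : sm gc N374 = N736 := rfl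
theorem L3788 : sm gc N736 = N374 := flp_c L3787
theorem L3789 : sm ga N736 = N379 := ded_8_1 L1966 L1928 L3787
theorem L3790 : sm ga N379 = N736 := flp_a L3789
theorem L3791 : sm gd N648 = N736 := ded_30_1 L3788 L1926 L949 L478 L425 L833 L1639 L3248 L3250 L3366
theorem L3792 : sm gd N736 = N648 := flp_d L3791
theorem L3793 : sm ge N374 = N737 := rfl
theorem L3794 : sm ge N737 = N374 := flp_e L3793
theorem L3795 : sm ga N737 = N380 := ded_10_1 L1968 L1928 L3793
theorem L3796 : sm ga N380 = N737 := flp_a L3795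
theorem L3797 : sm gf N374 = N738 := rfl
theorem L3798 : sm gf N738 = N374 := flp_f L3797
theorem L3799 : sm ga N738 = N381 := ded_11_1 L1970 L1928 L3797
theorem L3800 : sm ga N381 = N738 := flp_a L3799
theorem L3801 : sm gd N738 = N381 := ded_23_1 L1970 L978 L953 L1925 L3797
theorem L3802 : sm gd N381 = N738 := flp_d L3801
theorem L3803 : sm gg N374 = N739 := rfl
theorem L3804 : sm gg N739 = N374 := flp_g L3803
theorem L3805 : sm ga N739 = N382 := ded_12_1 L1972 L1928 L3803
theorem L3806 : sm ga N382 = N739 := flp_a L3805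
theorem L3807 : sm gd N375 = N740 := rfl
theorem L3808 : sm gd N740 = N375 := flp_d L3807
theorem L3809 : sm ga N740 = N383 := ded_9_1 L1974 L1932 L3807
theorem L3810 : sm ga N383 = N740 := flp_a L3809
theorem L3811 : sm gd N376 = N741 := rfl
theorem L3812 : sm gd N741 = N376 := flp_d L3811
theorem L3813 : sm ga N741 = N377 := ded_9_1 L1950 L1942 L3811
theorem L3814 : sm ga N377 = N741 := flp_a L3813
theorem L3815 : sm gb N741 = N740 := ded_14_1 L3808 L1944 L3811
theorem L3816 : sm gb N740 = N741 := flp_b L3815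
theorem L3817 : sm gc N377 = N742 := rfl
theorem L3818 : sm gc N742 = N377 := flp_c L3817
theorem L3819 : sm ge N377 = N743 := rfl
theorem L3820 : sm ge N743 = N377 := flp_e L3819
theorem L3821 : sm gb N743 = N380 := ded_15_1 L1968 L1952 L3819
theorem L3822 : sm gb N380 = N743 := flp_b L3821
theorem L3823 : sm gf N377 = N744 := rfl
theorem L3824 : sm gf N744 = N377 := flp_f L3823
theorem L3825 : sm gb N744 = N381 := ded_16_1 L1970 L1952 L3823
theorem L3826 : sm gb N381 = N744 := flp_b L3825
theorem L3827 : sm gg N377 = N745 := rfl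
theorem L3828 : sm gg N745 = N377 := flp_g L3827
theorem L3829 : sm gb N745 = N382 := ded_17_1 L1972 L1952 L3827
theorem L3830 : sm gb N382 = N745 := flp_b L3829
theorem L3831 : sm gd N745 = N382 := ded_24_1 L1972 L978 L975 L1949 L3827
theorem L3832 : sm gd N382 = N745 := flp_d L3831
theorem L3833 : sm gd N378 = N746 := rfl
theorem L3834 : sm gd N746 = N378 := flp_d L3833
theorem L3835 : sm ga N746 = N735 := ded_9_1 L3784 L1956 L3833
theorem L3836 : sm ga N735 = N746 := flp_a L3835
theorem L3837 : sm gb N746 = N383 := ded_14_1 L1974 L1958 L3833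
theorem L3838 : sm gb N383 = N746 := flp_b L3837
theorem L3839 : sm gb N379 = N747 := rfl
theorem L3840 : sm gb N747 = N379 := flp_b L3839
theorem L3841 : sm gd N379 = N748 := rfl
theorem L3842 : sm gd N748 = N379 := flp_d L3841
theorem L3843 : sm ga N748 = N648 := ded_9_1 L3791 L3789 L3841
theorem L3844 : sm ga N648 = N748 := flp_a L3843
theorem L3845 : sm gc N631 = N748 := ded_30_0 L3842 L1966 L978 L498 L230 L198 L431 L851 L1674 L3251
theorem L3846 : sm gc N748 = N631 := flp_c L3845
theorem L3847 : sm ge N379 = N749 := rfl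
theorem L3848 : sm ge N749 = N379 := flp_e L3847
theorem L3849 : sm gc N749 = N380 := ded_19_1 L1968 L1965 L3847
theorem L3850 : sm gc N380 = N749 := flp_c L3849
theorem L3851 : sm gf N379 = N750 := rfl
theorem L3852 : sm gf N750 = N379 := flp_f L3851
theorem L3853 : sm gc N750 = N381 := ded_20_1 L1970 L1965 L3851
theorem L3854 : sm gc N381 = N750 := flp_c L3853
theorem L3855 : sm gg N379 = N751 := rfl
theorem L3856 : sm gg N751 = N379 := flp_g L3855
theorem L3857 : sm gc N751 = N382 := ded_21_1 L1972 L1965 L3855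
theorem L3858 : sm gc N382 = N751 := flp_c L3857
theorem L3859 : sm gd N380 = N752 := rfl
theorem L3860 : sm gd N752 = N380 := flp_d L3859
theorem L3861 : sm ge N752 = N383 := ded_22_2 L1974 L980 L977 L1967 L3859
theorem L3862 : sm ge N383 = N752 := flp_e L3861
theorem L3863 : sm gf N380 = N753 := rfl
theorem L3864 : sm gf N753 = N380 := flp_f L3863
theorem L3865 : sm ge N753 = N381 := ded_25_1 L1970 L1967 L3863
theorem L3866 : sm ge N381 = N753 := flp_e L3865
theorem L3867 : sm gg N380 = N754 := rfl
theorem L3868 : sm gg N754 = N380 := flp_g L3867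
theorem L3869 : sm ge N754 = N382 := ded_26_1 L1972 L1967 L3867
theorem L3870 : sm ge N382 = N754 := flp_e L3869
theorem L3871 : sm gg N381 = N755 := rfl
theorem L3872 : sm gg N755 = N381 := flp_g L3871
theorem L3873 : sm gf N754 = N755 := ded_28_0 L3872 L1970 L1971 L3870
theorem L3874 : sm gf N755 = N754 := flp_f L3873
theorem L3875 : sm gf N382 = N756 := rfl
theorem L3876 : sm gf N756 = N382 := flp_f L3875
theorem L3877 : sm ge N756 = N755 := ded_25_1 L3874 L3869 L3875
theorem L3878 : sm ge N755 = N756 := flp_e L3877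
theorem L3879 : sm gg N756 = N753 := ded_28_3 L3865 L1970 L1971 L3875
theorem L3880 : sm gg N753 = N756 := flp_g L3879
theorem L3881 : sm gc N383 = N757 := rfl
theorem L3882 : sm gc N757 = N383 := flp_c L3881
theorem L3883 : sm gf N383 = N758 := rfl
theorem L3884 : sm gf N758 = N383 := flp_f L3883
theorem L3885 : sm gg N383 = N759 := rfl
theorem L3886 : sm gg N759 = N383 := flp_g L3885
theorem L3887 : sm gc N384 = N760 := rfl
theorem L3888 : sm gc N760 = N384 := flp_c L3887
theorem L3889 : sm ge N760 = N760 := ded_19_2 L3888 L1979 L3887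
theorem L3890 : sm gf N760 = N760 := ded_20_2 L3888 L1980 L3887
theorem L3891 : sm gb N760 = N760 := ded_13_1 L3888 L1977 L1006 L1978 L3887
theorem L3892 : sm gc N385 = N761 := rfl
theorem L3893 : sm gc N761 = N385 := flp_c L3892
theorem L3894 : sm ga N761 = N760 := ded_8_1 L3888 L1984 L3892
theorem L3895 : sm ga N760 = N761 := flp_a L3894
theorem L3896 : sm ge N761 = N761 := ded_19_2 L3893 L1987 L3892
theorem L3897 : sm gf N761 = N761 := ded_20_2 L3893 L1988 L3892
theorem L3898 : sm gg N761 = N760 := ded_21_2 L3888 L1990 L3892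
theorem L3899 : sm gg N760 = N761 := flp_g L3898
theorem L3900 : sm gb N761 = N761 := ded_13_1 L3893 L1985 L1014 L1986 L3892
theorem L3901 : sm gf N386 = N762 := rfl
theorem L3902 : sm gf N762 = N386 := flp_f L3901
theorem L3903 : sm ga N762 = N401 := ded_11_1 L2109 L2003 L3901
theorem L3904 : sm ga N401 = N762 := flp_a L3903
theorem L3905 : sm gb N762 = N387 := ded_16_1 L2011 L1991 L3901
theorem L3906 : sm gb N387 = N762 := flp_b L3905
theorem L3907 : sm gc N762 = N389 := ded_20_1 L2023 L1994 L3901
theorem L3908 : sm gc N389 = N762 := flp_c L3907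
theorem L3909 : sm ge N762 = N387 := ded_25_1 L2011 L1997 L3901
theorem L3910 : sm ge N387 = N762 := flp_e L3909
theorem L3911 : sm gg N386 = N763 := rfl
theorem L3912 : sm gg N763 = N386 := flp_g L3911
theorem L3913 : sm ga N763 = N402 := ded_12_1 L2116 L2003 L3911
theorem L3914 : sm ga N402 = N763 := flp_a L3913
theorem L3915 : sm gb N763 = N388 := ded_17_1 L2017 L1991 L3911
theorem L3916 : sm gb N388 = N763 := flp_b L3915
theorem L3917 : sm gc N763 = N390 := ded_21_1 L2031 L1994 L3911
theorem L3918 : sm gc N390 = N763 := flp_c L3917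
theorem L3919 : sm ge N763 = N388 := ded_26_1 L2017 L1997 L3911
theorem L3920 : sm ge N388 = N763 := flp_e L3919
theorem L3921 : sm gd N387 = N764 := rfl
theorem L3922 : sm gd N764 = N387 := flp_d L3921
theorem L3923 : sm ga N764 = N403 := ded_9_1 L2123 L2013 L3921
theorem L3924 : sm ga N403 = N764 := flp_a L3923
theorem L3925 : sm gg N387 = N765 := rfl
theorem L3926 : sm gg N765 = N387 := flp_g L3925
theorem L3927 : sm ga N765 = N404 := ded_12_1 L2126 L2013 L3925
theorem L3928 : sm ga N404 = N765 := flp_a L3927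
theorem L3929 : sm gc N765 = N392 := ded_21_1 L2047 L2015 L3925
theorem L3930 : sm gc N392 = N765 := flp_c L3929
theorem L3931 : sm gf N763 = N765 := ded_28_0 L3926 L2011 L2016 L3920
theorem L3932 : sm gf N765 = N763 := flp_f L3931
theorem L3933 : sm gd N388 = N766 := rfl
theorem L3934 : sm gd N766 = N388 := flp_d L3933
theorem L3935 : sm ga N766 = N405 := ded_9_1 L2133 L2019 L3933
theorem L3936 : sm ga N405 = N766 := flp_a L3935
theorem L3937 : sm gf N388 = N767 := rfl
theorem L3938 : sm gf N767 = N388 := flp_f L3937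
theorem L3939 : sm ga N767 = N406 := ded_11_1 L2136 L2019 L3937
theorem L3940 : sm ga N406 = N767 := flp_a L3939
theorem L3941 : sm gb N767 = N765 := ded_16_1 L3932 L3915 L3937
theorem L3942 : sm gb N765 = N767 := flp_b L3941
theorem L3943 : sm gc N767 = N394 := ded_20_1 L2063 L2021 L3937
theorem L3944 : sm gc N394 = N767 := flp_c L3943
theorem L3945 : sm ge N767 = N765 := ded_25_1 L3932 L3919 L3937
theorem L3946 : sm ge N765 = N767 := flp_e L3945
theorem L3947 : sm gg N767 = N762 := ded_28_3 L3909 L2011 L2016 L3937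
theorem L3948 : sm gg N762 = N767 := flp_g L3947
theorem L3949 : sm gd N389 = N768 := rfl
theorem L3950 : sm gd N768 = N389 := flp_d L3949
theorem L3951 : sm ga N768 = N407 := ded_9_1 L2145 L2025 L3949
theorem L3952 : sm ga N407 = N768 := flp_a L3951
theorem L3953 : sm gb N768 = N437 := ded_14_1 L2297 L2027 L3949
theorem L3954 : sm gb N437 = N768 := flp_b L3953
theorem L3955 : sm gf N768 = N407 := ded_23_2 L2145 L1075 L1031 L2022 L3949
theorem L3956 : sm gf N407 = N768 := flp_f L3955
theorem L3957 : sm gd N390 = N769 := rfl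
theorem L3958 : sm gd N769 = N390 := flp_d L3957
theorem L3959 : sm ga N769 = N408 := ded_9_1 L2149 L2033 L3957
theorem L3960 : sm ga N408 = N769 := flp_a L3959
theorem L3961 : sm gb N769 = N438 := ded_14_1 L2302 L2035 L3957
theorem L3962 : sm gb N438 = N769 := flp_b L3961
theorem L3963 : sm gg N769 = N408 := ded_24_2 L2149 L1081 L1031 L2030 L3957
theorem L3964 : sm gg N408 = N769 := flp_g L3963
theorem L3965 : sm gc N391 = N770 := rfl
theorem L3966 : sm gc N770 = N391 := flp_c L3965
theorem L3967 : sm ga N770 = N409 := ded_8_1 L2153 L2041 L3965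
theorem L3968 : sm ga N409 = N770 := flp_a L3967
theorem L3969 : sm gf N770 = N395 := ded_20_2 L2073 L2045 L3965
theorem L3970 : sm gf N395 = N770 := flp_f L3969
theorem L3971 : sm ge N391 = N771 := rfl
theorem L3972 : sm ge N771 = N391 := flp_e L3971
theorem L3973 : sm ga N771 = N410 := ded_10_1 L2157 L2041 L3971
theorem L3975 : sm gb N771 = N462 := ded_15_1 L2406 L2043 L3971
theorem L3977 : sm gf N771 = N396 := ded_25_2 L2077 L2045 L3971
theorem L3979 : sm gg N391 = N772 := rfl
theorem L3980 : sm gg N772 = N391 := flp_g L3979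
theorem L3981 : sm ga N772 = N411 := ded_12_1 L2163 L2041 L3979
theorem L3982 : sm ga N411 = N772 := flp_a L3981
theorem L3983 : sm gb N772 = N463 := ded_17_1 L2411 L2043 L3979
theorem L3984 : sm gb N463 = N772 := flp_b L3983
theorem L3985 : sm gd N392 = N773 := rfl
theorem L3986 : sm gd N773 = N392 := flp_d L3985
theorem L3987 : sm ga N773 = N412 := ded_9_1 L2167 L2049 L3985
theorem L3988 : sm ga N412 = N773 := flp_a L3987
theorem L3989 : sm gb N773 = N464 := ded_14_1 L2414 L2051 L3985
theorem L3990 : sm gb N464 = N773 := flp_b L3989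
theorem L3991 : sm gc N393 = N774 := rfl
theorem L3993 : sm ga N774 = N413 := ded_8_1 L2171 L2057 L3991
theorem L3994 : sm ga N413 = N774 := flp_a L3993
theorem L3995 : sm gg N774 = N398 := ded_21_2 L2091 L2061 L3991
theorem L3996 : sm gg N398 = N774 := flp_g L3995
theorem L3997 : sm ge N393 = N775 := rfl
theorem L3998 : sm ge N775 = N393 := flp_e L3997
theorem L3999 : sm ga N775 = N414 := ded_10_1 L2175 L2057 L3997
theorem L4000 : sm ga N414 = N775 := flp_a L3999
theorem L4001 : sm gb N775 = N466 := ded_15_1 L2422 L2059 L3997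
theorem L4003 : sm gg N775 = N399 := ded_26_2 L2095 L2061 L3997
theorem L4004 : sm gg N399 = N775 := flp_g L4003
theorem L4005 : sm gf N393 = N776 := rfl
theorem L4007 : sm ga N776 = N415 := ded_11_1 L2181 L2057 L4005
theorem L4008 : sm ga N415 = N776 := flp_a L4007
theorem L4009 : sm gb N776 = N467 := ded_16_1 L2427 L2059 L4005
theorem L4010 : sm gb N467 = N776 := flp_b L4009
theorem L4011 : sm gd N394 = N777 := rfl
theorem L4012 : sm gd N777 = N394 := flp_d L4011
theorem L4013 : sm ga N777 = N416 := ded_9_1 L2185 L2065 L4011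
theorem L4014 : sm ga N416 = N777 := flp_a L4013
theorem L4015 : sm gb N777 = N468 := ded_14_1 L2430 L2067 L4011
theorem L4016 : sm gb N468 = N777 := flp_b L4015
theorem L4017 : sm gb N395 = N778 := rfl
theorem L4018 : sm gb N778 = N395 := flp_b L4017
theorem L4019 : sm gc N778 = N469 := ded_13_2 L2433 L1219 L1049 L2072 L4017
theorem L4020 : sm gc N469 = N778 := flp_c L4019
theorem L4021 : sm gd N395 = N779 := rfl
theorem L4022 : sm gd N779 = N395 := flp_d L4021
theorem L4023 : sm ga N779 = N418 := ded_9_1 L2193 L2075 L4021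
theorem L4024 : sm ga N418 = N779 := flp_a L4023
theorem L4025 : sm ge N395 = N780 := rfl
theorem L4026 : sm ge N780 = N395 := flp_e L4025
theorem L4027 : sm ga N780 = N419 := ded_10_1 L2195 L2075 L4025
theorem L4028 : sm ga N419 = N780 := flp_a L4027
theorem L4029 : sm gc N780 = N396 := ded_19_1 L2077 L2072 L4025
theorem L4031 : sm gg N395 = N781 := rfl
theorem L4032 : sm gg N781 = N395 := flp_g L4031
theorem L4033 : sm ga N781 = N420 := ded_12_1 L2199 L2075 L4031
theorem L4034 : sm ga N420 = N781 := flp_a L4033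
theorem L4035 : sm gc N781 = N397 := ded_21_1 L2085 L2072 L4031
theorem L4036 : sm gc N397 = N781 := flp_c L4035
theorem L4037 : sm gg N396 = N782 := rfl
theorem L4039 : sm ga N782 = N421 := ded_12_1 L2203 L2079 L4037
theorem L4040 : sm ga N421 = N782 := flp_a L4039
theorem L4041 : sm gb N782 = N473 := ded_17_1 L2448 L2081 L4037
theorem L4042 : sm gb N473 = N782 := flp_b L4041
theorem L4043 : sm ge N782 = N397 := ded_26_1 L2085 L2076 L4037
theorem L4045 : sm gf N782 = N772 := ded_28_2 L3980 L3971 L3977 L4037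
theorem L4046 : sm gf N772 = N782 := flp_f L4045
theorem L4047 : sm gf N397 = N783 := rfl
theorem L4048 : sm gf N783 = N397 := flp_f L4047
theorem L4049 : sm ga N783 = N423 := ded_11_1 L2217 L2087 L4047
theorem L4050 : sm ga N423 = N783 := flp_a L4049
theorem L4051 : sm gb N783 = N474 := ded_16_1 L2455 L2089 L4047
theorem L4052 : sm gb N474 = N783 := flp_b L4051
theorem L4053 : sm ge N783 = N772 := ded_25_1 L4046 L4043 L4047
theorem L4055 : sm gg N783 = N771 := ded_28_3 L3972 L2044 L2084 L4047
theorem L4056 : sm gg N771 = N783 := flp_g L4055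
theorem L4057 : sm gb N398 = N784 := rfl
theorem L4058 : sm gb N784 = N398 := flp_b L4057
theorem L4059 : sm gc N784 = N475 := ded_13_2 L2462 L1230 L1055 L2090 L4057
theorem L4060 : sm gc N475 = N784 := flp_c L4059
theorem L4061 : sm gd N398 = N785 := rfl
theorem L4062 : sm gd N785 = N398 := flp_d L4061
theorem L4063 : sm ga N785 = N428 := ded_9_1 L2243 L2093 L4061
theorem L4064 : sm ga N428 = N785 := flp_a L4063
theorem L4065 : sm ge N398 = N786 := rfl
theorem L4066 : sm ge N786 = N398 := flp_e L4065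
theorem L4067 : sm ga N786 = N429 := ded_10_1 L2245 L2093 L4065
theorem L4068 : sm ga N429 = N786 := flp_a L4067
theorem L4069 : sm gc N786 = N399 := ded_19_1 L2095 L2090 L4065
theorem L4071 : sm gf N398 = N787 := rfl
theorem L4072 : sm gf N787 = N398 := flp_f L4071
theorem L4073 : sm ga N787 = N430 := ded_11_1 L2249 L2093 L4071
theorem L4074 : sm ga N430 = N787 := flp_a L4073
theorem L4077 : sm gf N399 = N788 := rfl
theorem L4078 : sm gf N788 = N399 := flp_f L4077
theorem L4083 : sm ge N788 = N400 := ded_25_1 L2103 L2094 L4077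
theorem L4085 : sm gg N776 = N788 := ded_28_1 L4078 L4004 L3998 L4005
theorem L4087 : sm gg N400 = N789 := rfl
theorem L4088 : sm gg N789 = N400 := flp_g L4087
theorem L4089 : sm ga N789 = N433 := ded_12_1 L2269 L2105 L4087
theorem L4093 : sm ge N789 = N776 := ded_26_1 L4085 L4083 L4087
theorem L4095 : sm gf N775 = N789 := ded_28_0 L4088 L2103 L2061 L3997
theorem L4096 : sm gf N789 = N775 := flp_f L4095
theorem L4097 : sm gd N401 = N790 := rfl
theorem L4098 : sm gd N790 = N401 := flp_d L4097
theorem L4099 : sm gb N790 = N790 := ded_14_1 L4098 L2110 L4097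
theorem L4100 : sm gf N790 = N403 := ded_23_2 L2123 L1065 L1056 L2108 L4097
theorem L4101 : sm gf N403 = N790 := flp_f L4100
theorem L4102 : sm gd N402 = N791 := rfl
theorem L4103 : sm gd N791 = N402 := flp_d L4102
theorem L4104 : sm gb N791 = N791 := ded_14_1 L4103 L2117 L4102
theorem L4105 : sm gg N791 = N405 := ded_24_2 L2133 L1070 L1056 L2115 L4102
theorem L4106 : sm gg N405 = N791 := flp_g L4105
theorem L4107 : sm gc N403 = N792 := rfl
theorem L4108 : sm gc N792 = N403 := flp_c L4107
theorem L4109 : sm ge N403 = N793 := rfl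
theorem L4110 : sm ge N793 = N403 := flp_e L4109
theorem L4111 : sm gb N793 = N793 := ded_15_1 L4110 L2124 L4109
theorem L4112 : sm gg N403 = N794 := rfl
theorem L4113 : sm gg N794 = N403 := flp_g L4112
theorem L4114 : sm gb N794 = N794 := ded_17_1 L4113 L2124 L4112
theorem L4115 : sm gd N404 = N795 := rfl
theorem L4116 : sm gd N795 = N404 := flp_d L4115
theorem L4117 : sm gb N795 = N795 := ded_14_1 L4116 L2127 L4115
theorem L4118 : sm gc N405 = N796 := rfl
theorem L4119 : sm gc N796 = N405 := flp_c L4118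
theorem L4120 : sm ge N405 = N797 := rfl
theorem L4121 : sm ge N797 = N405 := flp_e L4120
theorem L4122 : sm gb N797 = N797 := ded_15_1 L4121 L2134 L4120
theorem L4123 : sm gf N405 = N798 := rfl
theorem L4124 : sm gf N798 = N405 := flp_f L4123
theorem L4125 : sm gb N798 = N798 := ded_16_1 L4124 L2134 L4123
theorem L4126 : sm gd N406 = N799 := rfl
theorem L4127 : sm gd N799 = N406 := flp_d L4126
theorem L4128 : sm gb N799 = N799 := ded_14_1 L4127 L2137 L4126
theorem L4129 : sm gc N407 = N800 := rfl
theorem L4130 : sm gc N800 = N407 := flp_c L4129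
theorem L4131 : sm ge N407 = N801 := rfl
theorem L4132 : sm ge N801 = N407 := flp_e L4131
theorem L4133 : sm gb N801 = N440 := ded_15_1 L2310 L2147 L4131
theorem L4134 : sm gb N440 = N801 := flp_b L4133
theorem L4135 : sm gd N801 = N410 := ded_22_1 L2157 L1087 L1079 L2144 L4131
theorem L4136 : sm gd N410 = N801 := flp_d L4135
theorem L4137 : sm gg N407 = N802 := rfl
theorem L4138 : sm gg N802 = N407 := flp_g L4137
theorem L4139 : sm gb N802 = N441 := ded_17_1 L2315 L2147 L4137
theorem L4140 : sm gb N441 = N802 := flp_b L4139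
theorem L4141 : sm gc N408 = N803 := rfl
theorem L4142 : sm gc N803 = N408 := flp_c L4141
theorem L4143 : sm ge N408 = N804 := rfl
theorem L4144 : sm ge N804 = N408 := flp_e L4143
theorem L4145 : sm gb N804 = N443 := ded_15_1 L2321 L2151 L4143
theorem L4146 : sm gb N443 = N804 := flp_b L4145
theorem L4147 : sm gd N804 = N414 := ded_22_1 L2175 L1099 L1085 L2148 L4143
theorem L4148 : sm gd N414 = N804 := flp_d L4147
theorem L4149 : sm gf N408 = N805 := rfl
theorem L4150 : sm gf N805 = N408 := flp_f L4149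
theorem L4151 : sm gb N805 = N444 := ded_16_1 L2326 L2151 L4149
theorem L4153 : sm gb N409 = N806 := rfl
theorem L4154 : sm gb N806 = N409 := flp_b L4153
theorem L4155 : sm gf N806 = N417 := ded_16_2 L2189 L2155 L4153
theorem L4156 : sm gf N417 = N806 := flp_f L4155
theorem L4157 : sm gc N806 = N445 := ded_13_2 L2329 L1163 L1089 L2152 L4153
theorem L4158 : sm gc N445 = N806 := flp_c L4157
theorem L4159 : sm gd N409 = N807 := rfl
theorem L4160 : sm gd N807 = N409 := flp_d L4159
theorem L4161 : sm ge N409 = N808 := rfl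
theorem L4162 : sm ge N808 = N409 := flp_e L4161
theorem L4163 : sm gc N808 = N410 := ded_19_1 L2157 L2152 L4161
theorem L4164 : sm gc N410 = N808 := flp_c L4163
theorem L4165 : sm gf N808 = N419 := ded_25_2 L2195 L2155 L4161
theorem L4166 : sm gf N419 = N808 := flp_f L4165
theorem L4167 : sm gg N409 = N809 := rfl
theorem L4168 : sm gg N809 = N409 := flp_g L4167
theorem L4169 : sm gc N809 = N411 := ded_21_1 L2163 L2152 L4167
theorem L4171 : sm gd N411 = N810 := rfl
theorem L4172 : sm gd N810 = N411 := flp_d L4171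
theorem L4173 : sm gb N810 = N449 := ded_14_1 L2348 L2165 L4171
theorem L4174 : sm gb N449 = N810 := flp_b L4173
theorem L4175 : sm gg N810 = N412 := ded_24_2 L2167 L1093 L1086 L2162 L4171
theorem L4176 : sm gg N412 = N810 := flp_g L4175
theorem L4177 : sm gc N412 = N811 := rfl
theorem L4178 : sm gc N811 = N412 := flp_c L4177
theorem L4179 : sm ge N412 = N812 := rfl
theorem L4180 : sm ge N812 = N412 := flp_e L4179
theorem L4181 : sm gb N812 = N451 := ded_15_1 L2356 L2169 L4179
theorem L4183 : sm gf N412 = N813 := rfl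
theorem L4184 : sm gf N813 = N412 := flp_f L4183
theorem L4185 : sm gb N813 = N452 := ded_16_1 L2359 L2169 L4183
theorem L4186 : sm gb N452 = N813 := flp_b L4185
theorem L4187 : sm gd N813 = N805 := ded_23_1 L4150 L2149 L1096 L2166 L4183
theorem L4189 : sm gb N413 = N814 := rfl
theorem L4190 : sm gb N814 = N413 := flp_b L4189
theorem L4191 : sm gg N814 = N427 := ded_17_2 L2239 L2173 L4189
theorem L4192 : sm gg N427 = N814 := flp_g L4191
theorem L4193 : sm gc N814 = N453 := ded_13_2 L2364 L1179 L1101 L2170 L4189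
theorem L4194 : sm gc N453 = N814 := flp_c L4193
theorem L4195 : sm gd N413 = N815 := rfl
theorem L4196 : sm gd N815 = N413 := flp_d L4195
theorem L4197 : sm ge N413 = N816 := rfl
theorem L4198 : sm ge N816 = N413 := flp_e L4197
theorem L4201 : sm gg N816 = N429 := ded_26_2 L2245 L2173 L4197
theorem L4202 : sm gg N429 = N816 := flp_g L4201
theorem L4203 : sm gf N413 = N817 := rfl
theorem L4204 : sm gf N817 = N413 := flp_f L4203
theorem L4207 : sm gd N415 = N818 := rfl
theorem L4208 : sm gd N818 = N415 := flp_d L4207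
theorem L4209 : sm gb N818 = N457 := ded_14_1 L2383 L2183 L4207
theorem L4210 : sm gb N457 = N818 := flp_b L4209
theorem L4211 : sm gf N818 = N416 := ded_23_2 L2185 L1105 L1098 L2180 L4207
theorem L4212 : sm gf N416 = N818 := flp_f L4211
theorem L4213 : sm gc N416 = N819 := rfl
theorem L4214 : sm gc N819 = N416 := flp_c L4213
theorem L4215 : sm ge N416 = N820 := rfl
theorem L4216 : sm ge N820 = N416 := flp_e L4215
theorem L4217 : sm gb N820 = N459 := ded_15_1 L2391 L2187 L4215
theorem L4218 : sm gb N459 = N820 := flp_b L4217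
theorem L4219 : sm gd N820 = N812 := ded_22_1 L4180 L2167 L1109 L2184 L4215
theorem L4220 : sm gd N812 = N820 := flp_d L4219
theorem L4221 : sm gg N416 = N821 := rfl
theorem L4222 : sm gg N821 = N416 := flp_g L4221
theorem L4223 : sm gb N821 = N460 := ded_17_1 L2396 L2187 L4221
theorem L4224 : sm gb N460 = N821 := flp_b L4223
theorem L4225 : sm gd N821 = N802 := ded_24_1 L4138 L2145 L1111 L2184 L4221
theorem L4226 : sm gd N802 = N821 := flp_d L4225
theorem L4227 : sm ga N417 = N822 := rfl
theorem L4228 : sm ga N822 = N417 := flp_a L4227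
theorem L4229 : sm gc N822 = N481 := ded_8_2 L2491 L2191 L4227
theorem L4230 : sm gc N481 = N822 := flp_c L4229
theorem L4231 : sm gb N822 = N780 := ded_29_4 L4029 L2078 L1116 L1250 L1247 L662 L1240 L2191 L4227
theorem L4232 : sm gb N780 = N822 := flp_b L4231
theorem L4233 : sm ge N778 = N822 := ded_29_9 L4228 L2189 L1113 L1047 L1048 L1218 L1220 L2432 L4020
theorem L4234 : sm ge N822 = N778 := flp_e L4233
theorem L4235 : sm gd N417 = N823 := rfl
theorem L4236 : sm gd N823 = N417 := flp_d L4235
theorem L4237 : sm gb N823 = N418 := ded_14_1 L2193 L2188 L4235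
theorem L4238 : sm gb N418 = N823 := flp_b L4237
theorem L4239 : sm ge N417 = N824 := rfl
theorem L4240 : sm ge N824 = N417 := flp_e L4239
theorem L4241 : sm ga N824 = N778 := ded_10_1 L4233 L4228 L4239
theorem L4242 : sm ga N778 = N824 := flp_a L4241
theorem L4243 : sm gb N824 = N419 := ded_15_1 L2195 L2188 L4239
theorem L4244 : sm gb N419 = N824 := flp_b L4243
theorem L4245 : sm gc N824 = N483 := ded_19_1 L2501 L2191 L4239
theorem L4246 : sm gc N483 = N824 := flp_c L4245
theorem L4247 : sm gg N417 = N825 := rfl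
theorem L4248 : sm gg N825 = N417 := flp_g L4247
theorem L4249 : sm gb N825 = N420 := ded_17_1 L2199 L2188 L4247
theorem L4250 : sm gb N420 = N825 := flp_b L4249
theorem L4251 : sm gc N825 = N484 := ded_21_1 L2507 L2191 L4247
theorem L4252 : sm gc N484 = N825 := flp_c L4251
theorem L4253 : sm gc N418 = N826 := rfl
theorem L4254 : sm gc N826 = N418 := flp_c L4253
theorem L4255 : sm ge N418 = N827 := rfl
theorem L4256 : sm ge N827 = N418 := flp_e L4255
theorem L4257 : sm gf N418 = N828 := rfl
theorem L4258 : sm gf N828 = N418 := flp_f L4257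
theorem L4259 : sm gg N418 = N829 := rfl
theorem L4260 : sm gg N829 = N418 := flp_g L4259
theorem L4261 : sm gd N419 = N830 := rfl
theorem L4262 : sm gd N830 = N419 := flp_d L4261
theorem L4263 : sm gg N419 = N831 := rfl
theorem L4264 : sm gg N831 = N419 := flp_g L4263
theorem L4267 : sm ge N831 = N420 := ded_26_1 L2199 L2194 L4263
theorem L4268 : sm ge N420 = N831 := flp_e L4267
theorem L4269 : sm gf N831 = N809 := ded_28_2 L4168 L4161 L4165 L4263
theorem L4270 : sm gf N809 = N831 := flp_f L4269
theorem L4271 : sm gd N420 = N832 := rfl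
theorem L4272 : sm gd N832 = N420 := flp_d L4271
theorem L4273 : sm gf N420 = N833 := rfl
theorem L4274 : sm gf N833 = N420 := flp_f L4273
theorem L4275 : sm gc N833 = N423 := ded_20_1 L2217 L2201 L4273
theorem L4276 : sm gc N423 = N833 := flp_c L4275
theorem L4277 : sm ge N833 = N809 := ded_25_1 L4270 L4267 L4273
theorem L4278 : sm ge N809 = N833 := flp_e L4277
theorem L4279 : sm gg N833 = N808 := ded_28_3 L4162 L2154 L2198 L4273
theorem L4280 : sm gg N808 = N833 := flp_g L4279
theorem L4281 : sm gd N421 = N834 := rfl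
theorem L4282 : sm gd N834 = N421 := flp_d L4281
theorem L4283 : sm gb N834 = N492 := ded_14_1 L2547 L2205 L4281
theorem L4284 : sm gb N492 = N834 := flp_b L4283
theorem L4285 : sm gc N422 = N835 := rfl
theorem L4286 : sm gc N835 = N422 := flp_c L4285
theorem L4287 : sm gg N835 = N424 := ded_21_2 L2225 L2215 L4285
theorem L4288 : sm gg N424 = N835 := flp_g L4287
theorem L4289 : sm gd N423 = N836 := rfl
theorem L4290 : sm gd N836 = N423 := flp_d L4289
theorem L4291 : sm gb N836 = N493 := ded_14_1 L2550 L2219 L4289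
theorem L4292 : sm gb N493 = N836 := flp_b L4291
theorem L4293 : sm gb N424 = N837 := rfl
theorem L4294 : sm gb N837 = N424 := flp_b L4293
theorem L4295 : sm gc N837 = N494 := ded_13_2 L2553 L1276 L1125 L2224 L4293
theorem L4296 : sm gc N494 = N837 := flp_c L4295
theorem L4297 : sm gf N669 = N837 := ded_20_0 L4295 L2554 L3460
theorem L4299 : sm gd N424 = N838 := rfl
theorem L4300 : sm gd N838 = N424 := flp_d L4299
theorem L4301 : sm ge N424 = N839 := rfl
theorem L4302 : sm ge N839 = N424 := flp_e L4301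
theorem L4305 : sm gf N424 = N840 := rfl
theorem L4306 : sm gf N840 = N424 := flp_f L4305
theorem L4307 : sm gb N840 = N669 := ded_16_1 L4297 L4294 L4305
theorem L4308 : sm gb N669 = N840 := flp_b L4307
theorem L4309 : sm gc N840 = N426 := ded_20_1 L2231 L2224 L4305
theorem L4311 : sm gg N666 = N840 := ded_17_0 L4307 L3458 L3446
theorem L4312 : sm gg N840 = N666 := flp_g L4311
theorem L4313 : sm gf N425 = N841 := rfl
theorem L4315 : sm gb N841 = N496 := ded_16_1 L2560 L2229 L4313
theorem L4317 : sm ge N841 = N426 := ded_25_1 L2231 L2226 L4313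
theorem L4319 : sm gg N841 = N725 := ded_28_3 L3736 L3612 L3613 L4313
theorem L4320 : sm gg N725 = N841 := flp_g L4319
theorem L4321 : sm ga N427 = N842 := rfl
theorem L4322 : sm ga N842 = N427 := flp_a L4321
theorem L4325 : sm gb N842 = N786 := ded_29_4 L4069 L2096 L1130 L1301 L1298 L674 L1292 L2241 L4321
theorem L4326 : sm gb N786 = N842 := flp_b L4325
theorem L4327 : sm ge N784 = N842 := ded_29_9 L4322 L2239 L1127 L1053 L1054 L1229 L1231 L2461 L4060
theorem L4329 : sm gd N427 = N843 := rfl
theorem L4330 : sm gd N843 = N427 := flp_d L4329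
theorem L4331 : sm gb N843 = N428 := ded_14_1 L2243 L2238 L4329
theorem L4332 : sm gb N428 = N843 := flp_b L4331
theorem L4333 : sm ge N427 = N844 := rfl
theorem L4334 : sm ge N844 = N427 := flp_e L4333
theorem L4335 : sm ga N844 = N784 := ded_10_1 L4327 L4322 L4333
theorem L4336 : sm ga N784 = N844 := flp_a L4335
theorem L4337 : sm gb N844 = N429 := ded_15_1 L2245 L2238 L4333
theorem L4338 : sm gb N429 = N844 := flp_b L4337
theorem L4339 : sm gc N844 = N499 := ded_19_1 L2579 L2241 L4333
theorem L4341 : sm gf N427 = N845 := rfl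
theorem L4342 : sm gf N845 = N427 := flp_f L4341
theorem L4343 : sm gb N845 = N430 := ded_16_1 L2249 L2238 L4341
theorem L4344 : sm gb N430 = N845 := flp_b L4343
theorem L4347 : sm gc N428 = N846 := rfl
theorem L4348 : sm gc N846 = N428 := flp_c L4347
theorem L4349 : sm ge N428 = N847 := rfl
theorem L4350 : sm ge N847 = N428 := flp_e L4349
theorem L4351 : sm gf N428 = N848 := rfl
theorem L4352 : sm gf N848 = N428 := flp_f L4351
theorem L4353 : sm gg N428 = N849 := rfl
theorem L4354 : sm gg N849 = N428 := flp_g L4353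
theorem L4355 : sm gd N429 = N850 := rfl
theorem L4356 : sm gd N850 = N429 := flp_d L4355
theorem L4357 : sm gf N429 = N851 := rfl
theorem L4358 : sm gf N851 = N429 := flp_f L4357
theorem L4359 : sm gc N851 = N431 := ded_20_1 L2253 L2247 L4357
theorem L4363 : sm gg N817 = N851 := ded_28_1 L4358 L4202 L4198 L4203
theorem L4365 : sm gd N430 = N852 := rfl
theorem L4366 : sm gd N852 = N430 := flp_d L4365
theorem L4367 : sm gg N430 = N853 := rfl
theorem L4368 : sm gg N853 = N430 := flp_g L4367
theorem L4369 : sm gc N853 = N433 := ded_21_1 L2269 L2251 L4367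
theorem L4379 : sm gc N432 = N855 := rfl
theorem L4380 : sm gc N855 = N432 := flp_c L4379
theorem L4381 : sm ga N855 = N840 := ded_8_1 L4309 L2263 L4379
theorem L4382 : sm ga N840 = N855 := flp_a L4381
theorem L4383 : sm gf N855 = N434 := ded_20_2 L2277 L2267 L4379
theorem L4384 : sm gf N434 = N855 := flp_f L4383
theorem L4385 : sm ge N432 = N856 := rfl
theorem L4387 : sm ga N856 = N841 := ded_10_1 L4317 L2263 L4385
theorem L4395 : sm gd N433 = N857 := rfl
theorem L4396 : sm gd N857 = N433 := flp_d L4395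
theorem L4399 : sm gb N434 = N858 := rfl
theorem L4400 : sm gb N858 = N434 := flp_b L4399
theorem L4401 : sm gc N858 = N514 := ded_13_2 L2662 L1327 L1141 L2276 L4399
theorem L4403 : sm gd N434 = N859 := rfl
theorem L4404 : sm gd N859 = N434 := flp_d L4403
theorem L4405 : sm ga N859 = N838 := ded_9_1 L4300 L2279 L4403
theorem L4406 : sm ga N838 = N859 := flp_a L4405
theorem L4407 : sm ge N434 = N860 := rfl
theorem L4408 : sm ge N860 = N434 := flp_e L4407
theorem L4409 : sm ga N860 = N839 := ded_10_1 L4302 L2279 L4407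
theorem L4410 : sm ga N839 = N860 := flp_a L4409
theorem L4411 : sm gc N860 = N435 := ded_19_1 L2281 L2276 L4407
theorem L4412 : sm gc N435 = N860 := flp_c L4411
theorem L4413 : sm gg N434 = N861 := rfl
theorem L4414 : sm gg N861 = N434 := flp_g L4413
theorem L4415 : sm ga N861 = N835 := ded_12_1 L4287 L2279 L4413
theorem L4416 : sm ga N835 = N861 := flp_a L4415
theorem L4417 : sm gc N861 = N436 := ded_21_1 L2289 L2276 L4413
theorem L4419 : sm gg N435 = N862 := rfl
theorem L4423 : sm gb N862 = N517 := ded_17_1 L2674 L2285 L4419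
theorem L4424 : sm gb N517 = N862 := flp_b L4423
theorem L4425 : sm ge N862 = N436 := ded_26_1 L2289 L2280 L4419
theorem L4426 : sm ge N436 = N862 := flp_e L4425
theorem L4429 : sm gc N437 = N863 := rfl
theorem L4430 : sm gc N863 = N437 := flp_c L4429
theorem L4431 : sm ga N863 = N863 := ded_8_1 L4430 L2298 L4429
theorem L4432 : sm gf N863 = N439 := ded_20_2 L2307 L2300 L4429
theorem L4433 : sm gf N439 = N863 := flp_f L4432
theorem L4434 : sm ge N437 = N864 := rfl
theorem L4435 : sm ge N864 = N437 := flp_e L4434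
theorem L4437 : sm gf N864 = N440 := ded_25_2 L2310 L2300 L4434
theorem L4438 : sm gf N440 = N864 := flp_f L4437
theorem L4439 : sm gd N864 = N462 := ded_22_1 L2406 L1195 L1148 L2296 L4434
theorem L4440 : sm gd N462 = N864 := flp_d L4439
theorem L4441 : sm gg N437 = N865 := rfl
theorem L4442 : sm gg N865 = N437 := flp_g L4441
theorem L4443 : sm ga N865 = N865 := ded_12_1 L4442 L2298 L4441
theorem L4444 : sm gc N438 = N866 := rfl
theorem L4445 : sm gc N866 = N438 := flp_c L4444
theorem L4446 : sm ga N866 = N866 := ded_8_1 L4445 L2303 L4444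
theorem L4447 : sm gg N866 = N442 := ded_21_2 L2318 L2305 L4444
theorem L4448 : sm gg N442 = N866 := flp_g L4447
theorem L4449 : sm ge N438 = N867 := rfl
theorem L4450 : sm ge N867 = N438 := flp_e L4449
theorem L4452 : sm gg N867 = N443 := ded_26_2 L2321 L2305 L4449
theorem L4453 : sm gg N443 = N867 := flp_g L4452
theorem L4454 : sm gd N867 = N466 := ded_22_1 L2422 L1205 L1155 L2301 L4449
theorem L4455 : sm gd N466 = N867 := flp_d L4454
theorem L4456 : sm gf N438 = N868 := rfl
theorem L4457 : sm gf N868 = N438 := flp_f L4456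
theorem L4459 : sm gb N439 = N869 := rfl
theorem L4460 : sm gb N869 = N439 := flp_b L4459
theorem L4461 : sm gd N439 = N870 := rfl
theorem L4462 : sm gd N870 = N439 := flp_d L4461
theorem L4464 : sm ge N439 = N871 := rfl
theorem L4465 : sm ge N871 = N439 := flp_e L4464
theorem L4466 : sm ga N871 = N871 := ded_10_1 L4465 L2308 L4464
theorem L4467 : sm gc N871 = N440 := ded_19_1 L2310 L2306 L4464
theorem L4468 : sm gc N440 = N871 := flp_c L4467
theorem L4469 : sm gd N863 = N871 := ded_30_9 L4466 L4467 L2312 L2339 L2648 L2401 L1195 L1146 L2296 L4429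
theorem L4470 : sm gd N871 = N863 := flp_d L4469
theorem L4471 : sm gg N439 = N872 := rfl
theorem L4472 : sm gg N872 = N439 := flp_g L4471
theorem L4474 : sm gc N872 = N441 := ded_21_1 L2315 L2306 L4471
theorem L4475 : sm gc N441 = N872 := flp_c L4474
theorem L4476 : sm gg N440 = N873 := rfl
theorem L4477 : sm gg N873 = N440 := flp_g L4476
theorem L4478 : sm ga N873 = N873 := ded_12_1 L4477 L2311 L4476
theorem L4479 : sm ge N873 = N441 := ded_26_1 L2315 L2309 L4476
theorem L4480 : sm ge N441 = N873 := flp_e L4479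
theorem L4481 : sm gf N873 = N865 := ded_28_2 L4442 L4434 L4437 L4476
theorem L4482 : sm gf N865 = N873 := flp_f L4481
theorem L4483 : sm gf N441 = N874 := rfl
theorem L4484 : sm gf N874 = N441 := flp_f L4483
theorem L4485 : sm ga N874 = N874 := ded_11_1 L4484 L2316 L4483
theorem L4486 : sm ge N874 = N865 := ded_25_1 L4482 L4479 L4483
theorem L4487 : sm ge N865 = N874 := flp_e L4486
theorem L4488 : sm gg N874 = N864 := ded_28_3 L4435 L2299 L2314 L4483
theorem L4489 : sm gg N864 = N874 := flp_g L4488
theorem L4490 : sm gb N442 = N875 := rfl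
theorem L4491 : sm gb N875 = N442 := flp_b L4490
theorem L4492 : sm gd N442 = N876 := rfl
theorem L4493 : sm gd N876 = N442 := flp_d L4492
theorem L4495 : sm ge N442 = N877 := rfl
theorem L4496 : sm ge N877 = N442 := flp_e L4495
theorem L4498 : sm gc N877 = N443 := ded_19_1 L2321 L2317 L4495
theorem L4499 : sm gc N443 = N877 := flp_c L4498
theorem L4500 : sm gf N442 = N878 := rfl
theorem L4501 : sm gf N878 = N442 := flp_f L4500
theorem L4503 : sm gc N878 = N444 := ded_20_1 L2326 L2317 L4500
theorem L4504 : sm gc N444 = N878 := flp_c L4503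
theorem L4505 : sm gf N443 = N879 := rfl
theorem L4506 : sm gf N879 = N443 := flp_f L4505
theorem L4508 : sm ge N879 = N444 := ded_25_1 L2326 L2320 L4505
theorem L4510 : sm gg N868 = N879 := ded_28_1 L4506 L4453 L4450 L4456
theorem L4512 : sm gg N444 = N880 := rfl
theorem L4513 : sm gg N880 = N444 := flp_g L4512
theorem L4515 : sm ge N880 = N868 := ded_26_1 L4510 L4508 L4512
theorem L4516 : sm ge N868 = N880 := flp_e L4515
theorem L4517 : sm gf N867 = N880 := ded_28_0 L4513 L2326 L2305 L4449
theorem L4518 : sm gf N880 = N867 := flp_f L4517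
theorem L4519 : sm ga N445 = N881 := rfl
theorem L4521 : sm gf N881 = N481 := ded_11_2 L2491 L2331 L4519
theorem L4522 : sm gf N481 = N881 := flp_f L4521
theorem L4523 : sm gd N445 = N882 := rfl
theorem L4524 : sm gd N882 = N445 := flp_d L4523
theorem L4525 : sm gb N882 = N446 := ded_14_1 L2333 L2328 L4523
theorem L4526 : sm gb N446 = N882 := flp_b L4525
theorem L4527 : sm ge N445 = N883 := rfl
theorem L4528 : sm ge N883 = N445 := flp_e L4527
theorem L4529 : sm gb N883 = N447 := ded_15_1 L2336 L2328 L4527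
theorem L4530 : sm gb N447 = N883 := flp_b L4529
theorem L4531 : sm gf N883 = N483 := ded_25_2 L2501 L2331 L4527
theorem L4533 : sm gg N445 = N884 := rfl
theorem L4534 : sm gg N884 = N445 := flp_g L4533
theorem L4535 : sm gb N884 = N448 := ded_17_1 L2343 L2328 L4533
theorem L4536 : sm gb N448 = N884 := flp_b L4535
theorem L4537 : sm gc N446 = N885 := rfl
theorem L4538 : sm gc N885 = N446 := flp_c L4537
theorem L4539 : sm ga N885 = N885 := ded_8_1 L4538 L2334 L4537
theorem L4541 : sm ge N446 = N886 := rfl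
theorem L4542 : sm ge N886 = N446 := flp_e L4541
theorem L4544 : sm gf N446 = N887 := rfl
theorem L4545 : sm gf N887 = N446 := flp_f L4544
theorem L4547 : sm gd N887 = N486 := ded_23_1 L2515 L1243 L1166 L2332 L4544
theorem L4548 : sm gd N486 = N887 := flp_d L4547
theorem L4549 : sm gg N446 = N888 := rfl
theorem L4550 : sm gg N888 = N446 := flp_g L4549
theorem L4552 : sm gd N448 = N889 := rfl
theorem L4553 : sm gd N889 = N448 := flp_d L4552
theorem L4555 : sm gc N449 = N890 := rfl
theorem L4556 : sm gc N890 = N449 := flp_c L4555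
theorem L4558 : sm gg N890 = N450 := ded_21_2 L2353 L2351 L4555
theorem L4559 : sm gg N450 = N890 := flp_g L4558
theorem L4560 : sm ge N449 = N891 := rfl
theorem L4561 : sm ge N891 = N449 := flp_e L4560
theorem L4563 : sm gg N891 = N451 := ded_26_2 L2356 L2351 L4560
theorem L4564 : sm gg N451 = N891 := flp_g L4563
theorem L4568 : sm gb N450 = N893 := rfl
theorem L4569 : sm gb N893 = N450 := flp_b L4568
theorem L4570 : sm gd N450 = N894 := rfl
theorem L4571 : sm gd N894 = N450 := flp_d L4570
theorem L4573 : sm ge N450 = N895 := rfl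
theorem L4574 : sm ge N895 = N450 := flp_e L4573
theorem L4576 : sm gc N895 = N451 := ded_19_1 L2356 L2352 L4573
theorem L4577 : sm gc N451 = N895 := flp_c L4576
theorem L4578 : sm gf N450 = N896 := rfl
theorem L4579 : sm gf N896 = N450 := flp_f L4578
theorem L4581 : sm gc N896 = N452 := ded_20_1 L2359 L2352 L4578
theorem L4582 : sm gc N452 = N896 := flp_c L4581
theorem L4590 : sm gg N452 = N898 := rfl
theorem L4591 : sm gg N898 = N452 := flp_g L4590
theorem L4595 : sm gf N891 = N898 := ded_28_0 L4591 L2359 L2351 L4560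
theorem L4596 : sm gf N898 = N891 := flp_f L4595
theorem L4597 : sm ga N453 = N899 := rfl
theorem L4599 : sm gg N899 = N497 := ded_12_2 L2569 L2366 L4597
theorem L4600 : sm gg N497 = N899 := flp_g L4599
theorem L4601 : sm gd N453 = N900 := rfl
theorem L4602 : sm gd N900 = N453 := flp_d L4601
theorem L4603 : sm gb N900 = N454 := ded_14_1 L2368 L2363 L4601
theorem L4604 : sm gb N454 = N900 := flp_b L4603
theorem L4605 : sm ge N453 = N901 := rfl
theorem L4606 : sm ge N901 = N453 := flp_e L4605
theorem L4607 : sm gb N901 = N455 := ded_15_1 L2371 L2363 L4605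
theorem L4608 : sm gb N455 = N901 := flp_b L4607
theorem L4609 : sm gg N901 = N499 := ded_26_2 L2579 L2366 L4605
theorem L4610 : sm gg N499 = N901 := flp_g L4609
theorem L4611 : sm gf N453 = N902 := rfl
theorem L4612 : sm gf N902 = N453 := flp_f L4611
theorem L4613 : sm gb N902 = N456 := ded_16_1 L2378 L2363 L4611
theorem L4614 : sm gb N456 = N902 := flp_b L4613
theorem L4615 : sm gc N454 = N903 := rfl
theorem L4616 : sm gc N903 = N454 := flp_c L4615
theorem L4617 : sm ga N903 = N903 := ded_8_1 L4616 L2369 L4615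
theorem L4618 : sm gd N903 = N903 := ded_30_9 L4617 L4616 L2368 L1179 L633 L315 L632 L1178 L2367 L4615
theorem L4619 : sm ge N454 = N904 := rfl
theorem L4620 : sm ge N904 = N454 := flp_e L4619
theorem L4622 : sm gf N454 = N905 := rfl
theorem L4623 : sm gf N905 = N454 := flp_f L4622
theorem L4625 : sm gg N454 = N906 := rfl
theorem L4626 : sm gg N906 = N454 := flp_g L4625
theorem L4628 : sm gd N906 = N504 := ded_24_1 L2600 L1295 L1182 L2367 L4625
theorem L4629 : sm gd N504 = N906 := flp_d L4628
theorem L4630 : sm gd N455 = N907 := rfl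
theorem L4631 : sm gd N907 = N455 := flp_d L4630
theorem L4633 : sm gd N456 = N908 := rfl
theorem L4634 : sm gd N908 = N456 := flp_d L4633
theorem L4636 : sm gc N457 = N909 := rfl
theorem L4637 : sm gc N909 = N457 := flp_c L4636
theorem L4638 : sm ga N909 = N909 := ded_8_1 L4637 L2384 L4636
theorem L4639 : sm gf N909 = N458 := ded_20_2 L2388 L2386 L4636
theorem L4640 : sm gf N458 = N909 := flp_f L4639
theorem L4641 : sm ge N457 = N910 := rfl
theorem L4642 : sm ge N910 = N457 := flp_e L4641
theorem L4644 : sm gf N910 = N459 := ded_25_2 L2391 L2386 L4641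
theorem L4646 : sm gg N457 = N911 := rfl
theorem L4647 : sm gg N911 = N457 := flp_g L4646
theorem L4648 : sm ga N911 = N911 := ded_12_1 L4647 L2384 L4646
theorem L4649 : sm gb N458 = N912 := rfl
theorem L4650 : sm gb N912 = N458 := flp_b L4649
theorem L4651 : sm gd N458 = N913 := rfl
theorem L4652 : sm gd N913 = N458 := flp_d L4651
theorem L4653 : sm ga N913 = N913 := ded_9_1 L4652 L2389 L4651
theorem L4654 : sm ge N458 = N914 := rfl
theorem L4655 : sm ge N914 = N458 := flp_e L4654
theorem L4657 : sm gc N914 = N459 := ded_19_1 L2391 L2387 L4654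
theorem L4658 : sm gc N459 = N914 := flp_c L4657
theorem L4659 : sm gg N458 = N915 := rfl
theorem L4660 : sm gg N915 = N458 := flp_g L4659
theorem L4662 : sm gc N915 = N460 := ded_21_1 L2396 L2387 L4659
theorem L4663 : sm gc N460 = N915 := flp_c L4662
theorem L4664 : sm gg N459 = N916 := rfl
theorem L4665 : sm gg N916 = N459 := flp_g L4664
theorem L4667 : sm ge N916 = N460 := ded_26_1 L2396 L2390 L4664
theorem L4668 : sm ge N460 = N916 := flp_e L4667
theorem L4669 : sm gf N916 = N911 := ded_28_2 L4647 L4641 L4644 L4664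
theorem L4670 : sm gf N911 = N916 := flp_f L4669
theorem L4671 : sm gf N460 = N917 := rfl
theorem L4672 : sm gf N917 = N460 := flp_f L4671
theorem L4676 : sm gg N917 = N910 := ded_28_3 L4642 L2385 L2395 L4671
theorem L4677 : sm gg N910 = N917 := flp_g L4676
theorem L4678 : sm gb N461 = N918 := rfl
theorem L4679 : sm gb N918 = N461 := flp_b L4678
theorem L4680 : sm gd N918 = N883 := ded_14_2 L4529 L2648 L4678
theorem L4681 : sm gd N883 = N918 := flp_d L4680
theorem L4682 : sm gf N918 = N469 := ded_16_2 L2433 L2404 L4678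
theorem L4683 : sm gf N469 = N918 := flp_f L4682
theorem L4686 : sm ge N881 = N918 := ded_25_3 L4682 L2494 L4522
theorem L4687 : sm ge N918 = N881 := flp_e L4686
theorem L4688 : sm ge N461 = N919 := rfl
theorem L4689 : sm ge N919 = N461 := flp_e L4688
theorem L4691 : sm gb N919 = N881 := ded_15_1 L4686 L4679 L4688
theorem L4695 : sm gf N919 = N471 := ded_25_2 L2438 L2404 L4688
theorem L4697 : sm gd N919 = N886 := ded_22_1 L4542 L2333 L2335 L2648 L4688
theorem L4698 : sm gd N886 = N919 := flp_d L4697
theorem L4699 : sm gg N461 = N920 := rfl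
theorem L4700 : sm gg N920 = N461 := flp_g L4699
theorem L4702 : sm gc N920 = N463 := ded_21_1 L2411 L2400 L4699
theorem L4703 : sm gc N463 = N920 := flp_c L4702
theorem L4704 : sm gd N463 = N921 := rfl
theorem L4705 : sm gd N921 = N463 := flp_d L4704
theorem L4707 : sm gg N921 = N464 := ded_24_2 L2414 L1200 L1194 L2410 L4704
theorem L4708 : sm gg N464 = N921 := flp_g L4707
theorem L4709 : sm gc N464 = N922 := rfl
theorem L4710 : sm gc N922 = N464 := flp_c L4709
theorem L4711 : sm ga N922 = N922 := ded_8_1 L4710 L2415 L4709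
theorem L4712 : sm ge N464 = N923 := rfl
theorem L4713 : sm ge N923 = N464 := flp_e L4712
theorem L4715 : sm gf N464 = N924 := rfl
theorem L4716 : sm gf N924 = N464 := flp_f L4715
theorem L4718 : sm gd N924 = N868 := ded_23_1 L4457 L2302 L1202 L2413 L4715
theorem L4720 : sm gb N465 = N925 := rfl
theorem L4721 : sm gb N925 = N465 := flp_b L4720
theorem L4722 : sm gg N925 = N475 := ded_17_2 L2462 L2420 L4720
theorem L4723 : sm gg N475 = N925 := flp_g L4722
theorem L4724 : sm ga N901 = N925 := ded_29_0 L4721 L2417 L1206 L2059 L3991 L3993 L4189 L4193 L4605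
theorem L4726 : sm ge N899 = N925 := ded_26_3 L4722 L2572 L4600
theorem L4728 : sm gd N465 = N926 := rfl
theorem L4729 : sm gd N926 = N465 := flp_d L4728
theorem L4731 : sm ge N465 = N927 := rfl
theorem L4732 : sm ge N927 = N465 := flp_e L4731
theorem L4734 : sm gb N927 = N899 := ded_15_1 L4726 L4721 L4731
theorem L4735 : sm gb N899 = N927 := flp_b L4734
theorem L4738 : sm gg N927 = N477 := ded_26_2 L2467 L2420 L4731
theorem L4739 : sm gg N477 = N927 := flp_g L4738
theorem L4740 : sm gf N465 = N928 := rfl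
theorem L4741 : sm gf N928 = N465 := flp_f L4740
theorem L4743 : sm gc N928 = N467 := ded_20_1 L2427 L2416 L4740
theorem L4744 : sm gc N467 = N928 := flp_c L4743
theorem L4745 : sm gd N928 = N508 := ded_31_2 L2620 L1320 L679 L344 L147 L79 L73 L77 L143 L336 L342 L657 L1229 L2420 L4740
theorem L4746 : sm gd N508 = N928 := flp_d L4745
theorem L4747 : sm gf N926 = N907 := ded_23_2 L4631 L2624 L4746 L4741 L4728
theorem L4748 : sm gf N907 = N926 := flp_f L4747
theorem L4749 : sm gd N467 = N929 := rfl
theorem L4750 : sm gd N929 = N467 := flp_d L4749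
theorem L4752 : sm gf N929 = N468 := ded_23_2 L2430 L1210 L1204 L2426 L4749
theorem L4753 : sm gf N468 = N929 := flp_f L4752
theorem L4754 : sm gc N468 = N930 := rfl
theorem L4755 : sm gc N930 = N468 := flp_c L4754
theorem L4756 : sm ga N930 = N930 := ded_8_1 L4755 L2431 L4754
theorem L4757 : sm ge N468 = N931 := rfl
theorem L4758 : sm ge N931 = N468 := flp_e L4757
theorem L4760 : sm gd N931 = N923 := ded_22_1 L4713 L2414 L1215 L2429 L4757
theorem L4761 : sm gd N923 = N931 := flp_d L4760
theorem L4762 : sm gg N468 = N932 := rfl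
theorem L4763 : sm gg N932 = N468 := flp_g L4762
theorem L4765 : sm gd N932 = N865 := ded_24_1 L4442 L2297 L1217 L2429 L4762
theorem L4767 : sm gd N469 = N933 := rfl
theorem L4768 : sm gd N933 = N469 := flp_d L4767
theorem L4769 : sm gb N933 = N470 := ded_14_1 L2435 L2432 L4767
theorem L4770 : sm gb N470 = N933 := flp_b L4769
theorem L4771 : sm gg N469 = N934 := rfl
theorem L4772 : sm gg N934 = N469 := flp_g L4771
theorem L4773 : sm gb N934 = N472 := ded_17_1 L2443 L2432 L4771
theorem L4774 : sm gb N472 = N934 := flp_b L4773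
theorem L4775 : sm gc N470 = N935 := rfl
theorem L4776 : sm gc N935 = N470 := flp_c L4775
theorem L4777 : sm ga N935 = N935 := ded_8_1 L4776 L2436 L4775
theorem L4778 : sm gd N520 = N935 := ded_30_9 L4777 L4776 L2435 L1219 L655 L322 L355 L684 L1345 L2693
theorem L4779 : sm gd N935 = N520 := flp_d L4778
theorem L4780 : sm ge N470 = N936 := rfl
theorem L4781 : sm ge N936 = N470 := flp_e L4780
theorem L4783 : sm gg N470 = N937 := rfl
theorem L4784 : sm gg N937 = N470 := flp_g L4783
theorem L4785 : sm ga N937 = N937 := ded_12_1 L4784 L2436 L4783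
theorem L4786 : sm gd N471 = N938 := rfl
theorem L4787 : sm gd N938 = N471 := flp_d L4786
theorem L4788 : sm ga N938 = N938 := ded_9_1 L4787 L2439 L4786
theorem L4789 : sm gg N471 = N939 := rfl
theorem L4790 : sm gg N939 = N471 := flp_g L4789
theorem L4791 : sm ga N939 = N939 := ded_12_1 L4790 L2439 L4789
theorem L4792 : sm gc N939 = N473 := ded_21_1 L2448 L2441 L4789
theorem L4793 : sm gc N473 = N939 := flp_c L4792
theorem L4794 : sm ge N939 = N472 := ded_26_1 L2443 L2437 L4789
theorem L4795 : sm ge N472 = N939 := flp_e L4794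
theorem L4796 : sm gf N939 = N920 := ded_28_2 L4700 L4688 L4695 L4789
theorem L4797 : sm gf N920 = N939 := flp_f L4796
theorem L4798 : sm gd N472 = N940 := rfl
theorem L4799 : sm gd N940 = N472 := flp_d L4798
theorem L4800 : sm ga N940 = N940 := ded_9_1 L4799 L2444 L4798
theorem L4801 : sm gf N472 = N941 := rfl
theorem L4802 : sm gf N941 = N472 := flp_f L4801
theorem L4806 : sm ge N941 = N920 := ded_25_1 L4797 L4794 L4801
theorem L4808 : sm gg N941 = N919 := ded_28_3 L4689 L2403 L2442 L4801
theorem L4809 : sm gg N919 = N941 := flp_g L4808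
theorem L4810 : sm gd N473 = N942 := rfl
theorem L4811 : sm gd N942 = N473 := flp_d L4810
theorem L4812 : sm ga N942 = N942 := ded_9_1 L4811 L2449 L4810
theorem L4813 : sm gg N942 = N492 := ded_24_2 L2547 L1257 L1225 L2447 L4810
theorem L4814 : sm gg N492 = N942 := flp_g L4813
theorem L4815 : sm gd N474 = N943 := rfl
theorem L4816 : sm gd N943 = N474 := flp_d L4815
theorem L4817 : sm ga N943 = N943 := ded_9_1 L4816 L2456 L4815
theorem L4818 : sm gf N943 = N722 := ded_23_2 L3721 L1883 L1337 L2454 L4815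
theorem L4819 : sm gf N722 = N943 := flp_f L4818
theorem L4820 : sm gd N475 = N944 := rfl
theorem L4821 : sm gd N944 = N475 := flp_d L4820
theorem L4822 : sm gb N944 = N476 := ded_14_1 L2464 L2461 L4820
theorem L4823 : sm gb N476 = N944 := flp_b L4822
theorem L4824 : sm gf N475 = N945 := rfl
theorem L4825 : sm gf N945 = N475 := flp_f L4824
theorem L4826 : sm gb N945 = N478 := ded_16_1 L2472 L2461 L4824
theorem L4827 : sm gb N478 = N945 := flp_b L4826
theorem L4828 : sm gc N476 = N946 := rfl
theorem L4829 : sm gc N946 = N476 := flp_c L4828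
theorem L4830 : sm ga N946 = N946 := ded_8_1 L4829 L2465 L4828
theorem L4831 : sm gd N528 = N946 := ded_30_9 L4830 L4829 L2464 L1230 L658 L329 L361 L695 L1359 L2727
theorem L4832 : sm gd N946 = N528 := flp_d L4831
theorem L4833 : sm ge N476 = N947 := rfl
theorem L4834 : sm ge N947 = N476 := flp_e L4833
theorem L4835 : sm ga N947 = N947 := ded_10_1 L4834 L2465 L4833
theorem L4836 : sm gf N476 = N948 := rfl
theorem L4837 : sm gf N948 = N476 := flp_f L4836
theorem L4838 : sm ga N948 = N948 := ded_11_1 L4837 L2465 L4836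
theorem L4839 : sm gg N476 = N949 := rfl
theorem L4840 : sm gg N949 = N476 := flp_g L4839
theorem L4842 : sm gd N477 = N950 := rfl
theorem L4843 : sm gd N950 = N477 := flp_d L4842
theorem L4844 : sm ga N950 = N950 := ded_9_1 L4843 L2468 L4842
theorem L4845 : sm gf N477 = N951 := rfl
theorem L4846 : sm gf N951 = N477 := flp_f L4845
theorem L4848 : sm gc N951 = N479 := ded_20_1 L2477 L2470 L4845
theorem L4849 : sm gc N479 = N951 := flp_c L4848
theorem L4850 : sm ge N951 = N478 := ded_25_1 L2472 L2466 L4845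
theorem L4852 : sm gg N928 = N951 := ded_28_1 L4846 L4739 L4732 L4740
theorem L4853 : sm gg N951 = N928 := flp_g L4852
theorem L4854 : sm gd N478 = N952 := rfl
theorem L4855 : sm gd N952 = N478 := flp_d L4854
theorem L4857 : sm gg N478 = N953 := rfl
theorem L4858 : sm gg N953 = N478 := flp_g L4857
theorem L4860 : sm gc N953 = N480 := ded_21_1 L2484 L2475 L4857
theorem L4861 : sm gc N480 = N953 := flp_c L4860
theorem L4862 : sm ge N953 = N928 := ded_26_1 L4852 L4850 L4857
theorem L4864 : sm gf N927 = N953 := ded_28_0 L4858 L2472 L2420 L4731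
theorem L4865 : sm gf N953 = N927 := flp_f L4864
theorem L4866 : sm gd N479 = N954 := rfl
theorem L4867 : sm gd N954 = N479 := flp_d L4866
theorem L4869 : sm gf N954 = N509 := ded_23_2 L2627 L1308 L1236 L2476 L4866
theorem L4870 : sm gf N509 = N954 := flp_f L4869
theorem L4871 : sm gd N481 = N955 := rfl
theorem L4872 : sm gd N955 = N481 := flp_d L4871
theorem L4873 : sm ga N955 = N482 := ded_9_1 L2497 L2490 L4871
theorem L4874 : sm ga N482 = N955 := flp_a L4873
theorem L4875 : sm gb N955 = N938 := ded_14_1 L4787 L2493 L4871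
theorem L4876 : sm gb N938 = N955 := flp_b L4875
theorem L4877 : sm gg N481 = N956 := rfl
theorem L4878 : sm gg N956 = N481 := flp_g L4877
theorem L4879 : sm ga N956 = N484 := ded_12_1 L2507 L2490 L4877
theorem L4880 : sm ga N484 = N956 := flp_a L4879
theorem L4883 : sm ge N956 = N934 := ded_26_1 L4772 L2494 L4877
theorem L4884 : sm ge N934 = N956 := flp_e L4883
theorem L4885 : sm gc N482 = N957 := rfl
theorem L4886 : sm gc N957 = N482 := flp_c L4885
theorem L4887 : sm gb N957 = N957 := ded_13_1 L4886 L2498 L1245 L2499 L4885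
theorem L4888 : sm ge N482 = N958 := rfl
theorem L4889 : sm ge N958 = N482 := flp_e L4888
theorem L4890 : sm gb N958 = N485 := ded_15_1 L2511 L2499 L4888
theorem L4891 : sm gb N485 = N958 := flp_b L4890
theorem L4892 : sm gf N482 = N959 := rfl
theorem L4893 : sm gf N959 = N482 := flp_f L4892
theorem L4894 : sm gb N959 = N486 := ded_16_1 L2515 L2499 L4892
theorem L4895 : sm gb N486 = N959 := flp_b L4894
theorem L4896 : sm gg N482 = N960 := rfl
theorem L4897 : sm gg N960 = N482 := flp_g L4896
theorem L4898 : sm gb N960 = N487 := ded_17_1 L2519 L2499 L4896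
theorem L4899 : sm gb N487 = N960 := flp_b L4898
theorem L4900 : sm gd N483 = N961 := rfl
theorem L4901 : sm gd N961 = N483 := flp_d L4900
theorem L4902 : sm ga N961 = N933 := ded_9_1 L4768 L2503 L4900
theorem L4903 : sm ga N933 = N961 := flp_a L4902
theorem L4904 : sm gb N961 = N488 := ded_14_1 L2523 L2505 L4900
theorem L4905 : sm gb N488 = N961 := flp_b L4904
theorem L4906 : sm gf N961 = N933 := ded_23_2 L4768 L4683 L4680 L4531 L4900
theorem L4907 : sm gf N933 = N961 := flp_f L4906
theorem L4908 : sm gg N483 = N962 := rfl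
theorem L4909 : sm gg N962 = N483 := flp_g L4908
theorem L4910 : sm ga N962 = N934 := ded_12_1 L4772 L2503 L4908
theorem L4911 : sm ga N934 = N962 := flp_a L4910
theorem L4914 : sm ge N962 = N484 := ded_26_1 L2507 L2500 L4908
theorem L4916 : sm gf N962 = N884 := ded_28_2 L4534 L4527 L4531 L4908
theorem L4917 : sm gf N884 = N962 := flp_f L4916
theorem L4918 : sm gd N484 = N963 := rfl
theorem L4919 : sm gd N963 = N484 := flp_d L4918
theorem L4920 : sm gb N963 = N490 := ded_14_1 L2535 L2509 L4918
theorem L4921 : sm gb N490 = N963 := flp_b L4920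
theorem L4922 : sm gf N484 = N964 := rfl
theorem L4923 : sm gf N964 = N484 := flp_f L4922
theorem L4924 : sm gb N964 = N491 := ded_16_1 L2538 L2509 L4922
theorem L4925 : sm gb N491 = N964 := flp_b L4924
theorem L4926 : sm ge N964 = N884 := ded_25_1 L4917 L4914 L4922
theorem L4928 : sm gg N964 = N883 := ded_28_3 L4528 L2330 L2506 L4922
theorem L4929 : sm gg N883 = N964 := flp_g L4928
theorem L4930 : sm gd N485 = N965 := rfl
theorem L4931 : sm gd N965 = N485 := flp_d L4930
theorem L4933 : sm ge N965 = N488 := ded_22_2 L2523 L1247 L1242 L2510 L4930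
theorem L4934 : sm ge N488 = N965 := flp_e L4933
theorem L4935 : sm gf N936 = N965 := ded_25_0 L4933 L2649 L4780
theorem L4936 : sm gf N965 = N936 := flp_f L4935
theorem L4937 : sm gf N485 = N966 := rfl
theorem L4938 : sm gf N966 = N485 := flp_f L4937
theorem L4940 : sm gc N966 = N966 := ded_20_1 L4938 L2513 L4937
theorem L4941 : sm ge N966 = N486 := ded_25_1 L2515 L2510 L4937
theorem L4943 : sm gg N485 = N967 := rfl
theorem L4947 : sm ge N967 = N487 := ded_26_1 L2519 L2510 L4943
theorem L4948 : sm ge N487 = N967 := flp_e L4947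
theorem L4949 : sm gg N486 = N968 := rfl
theorem L4950 : sm gg N968 = N486 := flp_g L4949
theorem L4952 : sm gc N968 = N968 := ded_21_1 L4950 L2517 L4949
theorem L4953 : sm gf N967 = N968 := ded_28_0 L4950 L2515 L2518 L4948
theorem L4954 : sm gf N968 = N967 := flp_f L4953
theorem L4955 : sm gd N487 = N969 := rfl
theorem L4956 : sm gd N969 = N487 := flp_d L4955
theorem L4958 : sm gg N969 = N490 := ded_24_2 L2535 L1252 L1242 L2518 L4955
theorem L4959 : sm gg N490 = N969 := flp_g L4958
theorem L4960 : sm gf N487 = N970 := rfl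
theorem L4961 : sm gf N970 = N487 := flp_f L4960
theorem L4966 : sm gg N970 = N966 := ded_28_3 L4941 L2515 L2518 L4960
theorem L4967 : sm gg N966 = N970 := flp_g L4966
theorem L4968 : sm gc N488 = N971 := rfl
theorem L4969 : sm gc N971 = N488 := flp_c L4968
theorem L4971 : sm gf N971 = N935 := ded_20_2 L4776 L2650 L4968
theorem L4972 : sm gf N935 = N971 := flp_f L4971
theorem L4973 : sm gg N488 = N972 := rfl
theorem L4974 : sm gg N972 = N488 := flp_g L4973
theorem L4976 : sm gd N489 = N973 := rfl
theorem L4977 : sm gd N973 = N489 := flp_d L4976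
theorem L4979 : sm gc N490 = N974 := rfl
theorem L4980 : sm gc N974 = N490 := flp_c L4979
theorem L4981 : sm ga N974 = N974 := ded_8_1 L4980 L2536 L4979
theorem L4982 : sm ge N490 = N975 := rfl
theorem L4983 : sm ge N975 = N490 := flp_e L4982
theorem L4985 : sm gf N490 = N976 := rfl
theorem L4986 : sm gf N976 = N490 := flp_f L4985
theorem L4988 : sm gd N491 = N977 := rfl
theorem L4989 : sm gd N977 = N491 := flp_d L4988
theorem L4990 : sm ga N977 = N977 := ded_9_1 L4989 L2539 L4988
theorem L4991 : sm gc N977 = N607 := ded_31_3 L3167 L3165 L1599 L802 L413 L383 L168 L148 L145 L139 L333 L660 L1251 L2537 L4988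
theorem L4992 : sm gc N607 = N977 := flp_c L4991
theorem L4993 : sm ge N606 = N977 := ded_19_0 L4991 L3127 L3121
theorem L4994 : sm ge N977 = N606 := flp_e L4993
theorem L4995 : sm gf N622 = N977 := ded_20_0 L4991 L3129 L3207
theorem L4996 : sm gf N977 = N622 := flp_f L4995
theorem L4997 : sm gd N976 = N622 := ded_23_5 L4995 L4989 L2538 L2534 L4985
theorem L4998 : sm gd N622 = N976 := flp_d L4997
theorem L4999 : sm gc N492 = N978 := rfl
theorem L5000 : sm gc N978 = N492 := flp_c L4999
theorem L5001 : sm ga N978 = N978 := ded_8_1 L5000 L2548 L4999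
theorem L5002 : sm gf N492 = N979 := rfl
theorem L5003 : sm gf N979 = N492 := flp_f L5002
theorem L5007 : sm gc N493 = N980 := rfl
theorem L5008 : sm gc N980 = N493 := flp_c L5007
theorem L5009 : sm ga N980 = N980 := ded_8_1 L5008 L2551 L5007
theorem L5010 : sm ge N493 = N981 := rfl
theorem L5011 : sm ge N981 = N493 := flp_e L5010
theorem L5013 : sm gd N981 = N891 := ded_22_1 L4561 L2348 L1272 L2549 L5010
theorem L5014 : sm gd N891 = N981 := flp_d L5013
theorem L5015 : sm gg N493 = N982 := rfl
theorem L5016 : sm gg N982 = N493 := flp_g L5015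
theorem L5018 : sm gd N982 = N873 := ded_24_1 L4477 L2312 L1274 L2549 L5015
theorem L5019 : sm gd N873 = N982 := flp_d L5018
theorem L5020 : sm ga N494 = N983 := rfl
theorem L5024 : sm gf N983 = N642 := ded_11_2 L3328 L2555 L5020
theorem L5025 : sm gf N642 = N983 := flp_f L5024
theorem L5026 : sm gb N983 = N516 := ded_29_4 L2669 L1331 L2285 L4412 L4408 L2278 L4293 L4295 L5020
theorem L5027 : sm gb N516 = N983 := flp_b L5026
theorem L5028 : sm gd N494 = N984 := rfl
theorem L5029 : sm gd N984 = N494 := flp_d L5028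
theorem L5030 : sm gb N984 = N495 := ded_14_1 L2557 L2552 L5028
theorem L5031 : sm gb N495 = N984 := flp_b L5030
theorem L5032 : sm gc N495 = N985 := rfl
theorem L5033 : sm gc N985 = N495 := flp_c L5032
theorem L5034 : sm ga N985 = N985 := ded_8_1 L5033 L2558 L5032
theorem L5035 : sm gd N538 = N985 := ded_30_9 L5034 L5033 L2557 L1276 L670 L339 L366 L710 L1385 L2772
theorem L5036 : sm gd N985 = N538 := flp_d L5035
theorem L5037 : sm ge N495 = N986 := rfl
theorem L5038 : sm ge N986 = N495 := flp_e L5037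
theorem L5040 : sm gf N495 = N987 := rfl
theorem L5041 : sm gf N987 = N495 := flp_f L5040
theorem L5043 : sm gd N987 = N516 := ded_23_1 L2671 L1893 L1290 L2556 L5040
theorem L5044 : sm gd N516 = N987 := flp_d L5043
theorem L5045 : sm gg N495 = N988 := rfl
theorem L5046 : sm gg N988 = N495 := flp_g L5045
theorem L5048 : sm gd N496 = N989 := rfl
theorem L5049 : sm gd N989 = N496 := flp_d L5048
theorem L5050 : sm ga N989 = N989 := ded_9_1 L5049 L2561 L5048
theorem L5051 : sm ge N989 = N954 := ded_22_2 L4867 L2479 L1285 L2565 L5048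
theorem L5052 : sm ge N954 = N989 := flp_e L5051
theorem L5053 : sm gd N497 = N990 := rfl
theorem L5055 : sm ga N990 = N498 := ded_9_1 L2575 L2568 L5053
theorem L5056 : sm ga N498 = N990 := flp_a L5055
theorem L5057 : sm gb N990 = N950 := ded_14_1 L4843 L2571 L5053
theorem L5058 : sm gb N950 = N990 := flp_b L5057
theorem L5059 : sm gf N497 = N991 := rfl
theorem L5060 : sm gf N991 = N497 := flp_f L5059
theorem L5061 : sm ga N991 = N500 := ded_11_1 L2585 L2568 L5059
theorem L5062 : sm ga N500 = N991 := flp_a L5061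
theorem L5063 : sm gb N991 = N951 := ded_16_1 L4846 L2571 L5059
theorem L5064 : sm gb N951 = N991 := flp_b L5063
theorem L5065 : sm ge N991 = N945 := ded_25_1 L4825 L2572 L5059
theorem L5067 : sm gc N498 = N992 := rfl
theorem L5068 : sm gc N992 = N498 := flp_c L5067
theorem L5069 : sm ge N498 = N993 := rfl
theorem L5070 : sm ge N993 = N498 := flp_e L5069
theorem L5071 : sm gb N993 = N502 := ded_15_1 L2594 L2577 L5069
theorem L5073 : sm gf N498 = N994 := rfl
theorem L5075 : sm gb N994 = N503 := ded_16_1 L2597 L2577 L5073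
theorem L5076 : sm gb N503 = N994 := flp_b L5075
theorem L5077 : sm gg N498 = N995 := rfl
theorem L5078 : sm gg N995 = N498 := flp_g L5077
theorem L5079 : sm gb N995 = N504 := ded_17_1 L2600 L2577 L5077
theorem L5080 : sm gb N504 = N995 := flp_b L5079
theorem L5081 : sm gd N499 = N996 := rfl
theorem L5083 : sm ga N996 = N944 := ded_9_1 L4821 L2581 L5081
theorem L5084 : sm ga N944 = N996 := flp_a L5083
theorem L5085 : sm gb N996 = N505 := ded_14_1 L2603 L2583 L5081
theorem L5086 : sm gb N505 = N996 := flp_b L5085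
theorem L5087 : sm gf N499 = N997 := rfl
theorem L5088 : sm gf N997 = N499 := flp_f L5087
theorem L5089 : sm ga N997 = N945 := ded_11_1 L4825 L2581 L5087
theorem L5090 : sm ga N945 = N997 := flp_a L5089
theorem L5093 : sm ge N997 = N500 := ded_25_1 L2585 L2578 L5087
theorem L5095 : sm gg N902 = N997 := ded_28_1 L5088 L4610 L4606 L4611
theorem L5096 : sm gg N997 = N902 := flp_g L5095
theorem L5097 : sm gd N500 = N998 := rfl
theorem L5098 : sm gd N998 = N500 := flp_d L5097
theorem L5099 : sm gb N998 = N507 := ded_14_1 L2615 L2587 L5097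
theorem L5100 : sm gb N507 = N998 := flp_b L5099
theorem L5101 : sm gg N500 = N999 := rfl
theorem L5102 : sm gg N999 = N500 := flp_g L5101
theorem L5105 : sm ge N999 = N902 := ded_26_1 L5095 L5093 L5101
theorem L5106 : sm ge N902 = N999 := flp_e L5105
theorem L5107 : sm gf N901 = N999 := ded_28_0 L5102 L2585 L2366 L4605
theorem L5108 : sm gf N999 = N901 := flp_f L5107
theorem L5109 : sm gb N501 = N1000 := rfl
theorem L5110 : sm gb N1000 = N501 := flp_b L5109
theorem L5111 : sm gd N1000 = N550 := ded_14_2 L2831 L2591 L5109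
theorem L5112 : sm gd N550 = N1000 := flp_d L5111
theorem L5113 : sm ge N501 = N1001 := rfl
theorem L5114 : sm ge N1001 = N501 := flp_e L5113
theorem L5116 : sm gc N1001 = N502 := ded_19_1 L2594 L2588 L5113
theorem L5117 : sm gc N502 = N1001 := flp_c L5116
theorem L5118 : sm gf N501 = N1002 := rfl
theorem L5119 : sm gf N1002 = N501 := flp_f L5118
theorem L5123 : sm gg N501 = N1003 := rfl
theorem L5124 : sm gg N1003 = N501 := flp_g L5123
theorem L5125 : sm ga N1003 = N1003 := ded_12_1 L5124 L2590 L5123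
theorem L5126 : sm gc N1003 = N504 := ded_21_1 L2600 L2588 L5123
theorem L5127 : sm gc N504 = N1003 := flp_c L5126
theorem L5128 : sm gd N502 = N1004 := rfl
theorem L5131 : sm ge N1004 = N505 := ded_22_2 L2603 L1298 L1294 L2593 L5128
theorem L5132 : sm ge N505 = N1004 := flp_e L5131
theorem L5133 : sm gf N502 = N1005 := rfl
theorem L5134 : sm gf N1005 = N502 := flp_f L5133
theorem L5136 : sm ge N1005 = N503 := ded_25_1 L2597 L2593 L5133
theorem L5138 : sm gg N502 = N1006 := rfl
theorem L5139 : sm gg N1006 = N502 := flp_g L5138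
theorem L5143 : sm gd N503 = N1007 := rfl
theorem L5146 : sm gf N1007 = N507 := ded_23_2 L2615 L1303 L1294 L2596 L5143
theorem L5147 : sm gf N507 = N1007 := flp_f L5146
theorem L5148 : sm gg N503 = N1008 := rfl
theorem L5149 : sm gg N1008 = N503 := flp_g L5148
theorem L5153 : sm gf N504 = N1009 := rfl
theorem L5154 : sm gf N1009 = N504 := flp_f L5153
theorem L5158 : sm gg N1009 = N1005 := ded_28_3 L5136 L2597 L2599 L5153
theorem L5159 : sm gg N1005 = N1009 := flp_g L5158
theorem L5160 : sm gc N505 = N1010 := rfl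
theorem L5161 : sm gc N1010 = N505 := flp_c L5160
theorem L5162 : sm ga N1010 = N1010 := ded_8_1 L5161 L2604 L5160
theorem L5163 : sm gf N505 = N1011 := rfl
theorem L5164 : sm gf N1011 = N505 := flp_f L5163
theorem L5166 : sm gg N505 = N1012 := rfl
theorem L5167 : sm gg N1012 = N505 := flp_g L5166
theorem L5169 : sm gd N506 = N1013 := rfl
theorem L5170 : sm gd N1013 = N506 := flp_d L5169
theorem L5172 : sm gc N507 = N1014 := rfl
theorem L5173 : sm gc N1014 = N507 := flp_c L5172
theorem L5174 : sm ga N1014 = N1014 := ded_8_1 L5173 L2616 L5172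
theorem L5175 : sm ge N507 = N1015 := rfl
theorem L5176 : sm ge N1015 = N507 := flp_e L5175
theorem L5178 : sm gg N507 = N1016 := rfl
theorem L5179 : sm gg N1016 = N507 := flp_g L5178
theorem L5181 : sm gd N1016 = N951 := ded_24_1 L4853 L4745 L2618 L2614 L5178
theorem L5183 : sm gc N509 = N1017 := rfl
theorem L5184 : sm gc N1017 = N509 := flp_c L5183
theorem L5186 : sm ge N509 = N1018 := rfl
theorem L5191 : sm gd N1018 = N511 := ded_22_1 L2639 L1315 L1311 L2626 L5186
theorem L5192 : sm gd N511 = N1018 := flp_d L5191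
theorem L5193 : sm gg N509 = N1019 := rfl
theorem L5194 : sm gg N1019 = N509 := flp_g L5193
theorem L5196 : sm gd N1019 = N911 := ded_24_1 L4647 L2383 L1312 L2626 L5193
theorem L5197 : sm gd N911 = N1019 := flp_d L5196
theorem L5198 : sm gb N510 = N1020 := rfl
theorem L5199 : sm gb N1020 = N510 := flp_b L5198
theorem L5202 : sm gf N1020 = N514 := ded_16_2 L2662 L2633 L5198
theorem L5203 : sm gf N514 = N1020 := flp_f L5202
theorem L5208 : sm gd N510 = N1021 := rfl
theorem L5211 : sm ge N1021 = N730 := ded_22_2 L3763 L1911 L1894 L2636 L5208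
theorem L5212 : sm ge N730 = N1021 := flp_e L5211
theorem L5213 : sm gg N1021 = N730 := ded_24_2 L3763 L1909 L1889 L2635 L5208
theorem L5214 : sm gg N730 = N1021 := flp_g L5213
theorem L5215 : sm gd N512 = N1022 := rfl
theorem L5216 : sm gd N1022 = N512 := flp_d L5215
theorem L5218 : sm gg N1022 = N513 := ded_24_2 L2659 L1320 L1314 L2651 L5215
theorem L5219 : sm gg N513 = N1022 := flp_g L5218
theorem L5220 : sm gc N513 = N1023 := rfl
theorem L5221 : sm gc N1023 = N513 := flp_c L5220
theorem L5223 : sm ge N513 = N1024 := rfl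
theorem L5224 : sm ge N1024 = N513 := flp_e L5223
theorem L5226 : sm gd N1024 = N910 := ded_22_1 L4642 L2383 L1323 L2658 L5223
theorem L5228 : sm gf N513 = N1025 := rfl
theorem L5229 : sm gf N1025 = N513 := flp_f L5228
theorem L5231 : sm gd N1025 = N879 := ded_23_1 L4506 L2323 L1324 L2658 L5228
theorem L5232 : sm gd N879 = N1025 := flp_d L5231
theorem L5233 : sm gd N514 = N1026 := rfl
theorem L5234 : sm gd N1026 = N514 := flp_d L5233
theorem L5235 : sm gb N1026 = N515 := ded_14_1 L2664 L2661 L5233
theorem L5236 : sm gb N515 = N1026 := flp_b L5235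
theorem L5237 : sm gc N515 = N1027 := rfl
theorem L5238 : sm gc N1027 = N515 := flp_c L5237
theorem L5239 : sm ga N1027 = N1027 := ded_8_1 L5238 L2665 L5237
theorem L5240 : sm gd N565 = N1027 := ded_30_9 L5239 L5238 L2664 L1327 L682 L349 L386 L751 L1459 L2909
theorem L5242 : sm ge N515 = N1028 := rfl
theorem L5243 : sm ge N1028 = N515 := flp_e L5242
theorem L5248 : sm gd N517 = N1030 := rfl
theorem L5249 : sm gd N1030 = N517 := flp_d L5248
theorem L5250 : sm ga N1030 = N1030 := ded_9_1 L5249 L2675 L5248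
theorem L5251 : sm ge N1030 = N942 := ded_22_2 L4811 L2450 L1338 L2677 L5248
theorem L5253 : sm gg N1030 = N702 := ded_24_2 L3616 L1812 L1333 L2673 L5248
theorem L5254 : sm gg N702 = N1030 := flp_g L5253
theorem L5255 : sm gc N518 = N1031 := rfl
theorem L5256 : sm gc N1031 = N518 := flp_c L5255
theorem L5257 : sm ga N1031 = N1031 := ded_8_1 L5256 L2682 L5255
theorem L5258 : sm ge N518 = N1032 := rfl
theorem L5259 : sm ge N1032 = N518 := flp_e L5258
theorem L5260 : sm ga N1032 = N1032 := ded_10_1 L5259 L2682 L5258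
theorem L5261 : sm gb N1032 = N521 := ded_15_1 L2697 L2684 L5258
theorem L5262 : sm gb N521 = N1032 := flp_b L5261
theorem L5263 : sm gd N1032 = N1032 := ded_22_1 L5259 L2681 L1341 L2680 L5258
theorem L5264 : sm gf N518 = N1033 := rfl
theorem L5265 : sm gf N1033 = N518 := flp_f L5264
theorem L5267 : sm gb N1033 = N522 := ded_16_1 L2701 L2684 L5264
theorem L5268 : sm gb N522 = N1033 := flp_b L5267
theorem L5270 : sm gg N518 = N1034 := rfl
theorem L5271 : sm gg N1034 = N518 := flp_g L5270
theorem L5272 : sm ga N1034 = N1034 := ded_12_1 L5271 L2682 L5270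
theorem L5273 : sm gb N1034 = N523 := ded_17_1 L2705 L2684 L5270
theorem L5274 : sm gb N523 = N1034 := flp_b L5273
theorem L5280 : sm gb N520 = N1036 := rfl
theorem L5281 : sm gb N1036 = N520 := flp_b L5280
theorem L5282 : sm ge N520 = N1037 := rfl
theorem L5285 : sm gc N1037 = N521 := ded_19_1 L2697 L2693 L5282
theorem L5286 : sm gc N521 = N1037 := flp_c L5285
theorem L5287 : sm gf N520 = N1038 := rfl
theorem L5288 : sm gf N1038 = N520 := flp_f L5287
theorem L5290 : sm gc N1038 = N522 := ded_20_1 L2701 L2693 L5287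
theorem L5292 : sm gg N520 = N1039 := rfl
theorem L5293 : sm gg N1039 = N520 := flp_g L5292
theorem L5295 : sm gc N1039 = N523 := ded_21_1 L2705 L2693 L5292
theorem L5296 : sm gc N523 = N1039 := flp_c L5295
theorem L5297 : sm gf N521 = N1040 := rfl
theorem L5298 : sm gf N1040 = N521 := flp_f L5297
theorem L5300 : sm ge N1040 = N522 := ded_25_1 L2701 L2696 L5297
theorem L5301 : sm ge N522 = N1040 := flp_e L5300
theorem L5302 : sm gg N521 = N1041 := rfl
theorem L5303 : sm gg N1041 = N521 := flp_g L5302
theorem L5305 : sm ge N1041 = N523 := ded_26_1 L2705 L2696 L5302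
theorem L5306 : sm ge N523 = N1041 := flp_e L5305
theorem L5307 : sm gg N522 = N1042 := rfl
theorem L5308 : sm gg N1042 = N522 := flp_g L5307
theorem L5310 : sm gf N1041 = N1042 := ded_28_0 L5308 L2701 L2704 L5306
theorem L5311 : sm gf N1042 = N1041 := flp_f L5310
theorem L5312 : sm gd N523 = N1043 := rfl
theorem L5313 : sm gd N1043 = N523 := flp_d L5312
theorem L5315 : sm gg N1043 = N524 := ded_24_2 L2708 L1349 L1345 L2704 L5312
theorem L5316 : sm gg N524 = N1043 := flp_g L5315
theorem L5317 : sm gf N523 = N1044 := rfl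
theorem L5318 : sm gf N1044 = N523 := flp_f L5317
theorem L5320 : sm ge N1044 = N1042 := ded_25_1 L5311 L5305 L5317
theorem L5321 : sm ge N1042 = N1044 := flp_e L5320
theorem L5324 : sm gc N524 = N1045 := rfl
theorem L5325 : sm gc N1045 = N524 := flp_c L5324
theorem L5327 : sm ge N524 = N1046 := rfl
theorem L5328 : sm ge N1046 = N524 := flp_e L5327
theorem L5331 : sm gf N524 = N1047 := rfl
theorem L5332 : sm gf N1047 = N524 := flp_f L5331
theorem L5335 : sm gd N525 = N1048 := rfl
theorem L5337 : sm ga N1048 = N526 := ded_9_1 L2719 L2710 L5335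
theorem L5338 : sm ga N526 = N1048 := flp_a L5337
theorem L5339 : sm gb N1048 = N532 := ded_14_1 L2741 L2715 L5335
theorem L5340 : sm gb N532 = N1048 := flp_b L5339
theorem L5341 : sm gf N525 = N1049 := rfl
theorem L5343 : sm ga N1049 = N527 := ded_11_1 L2723 L2710 L5341
theorem L5344 : sm ga N527 = N1049 := flp_a L5343
theorem L5345 : sm gb N1049 = N533 := ded_16_1 L2744 L2715 L5341
theorem L5346 : sm gb N533 = N1049 := flp_b L5345
theorem L5352 : sm gc N526 = N1050 := rfl
theorem L5353 : sm gc N1050 = N526 := flp_c L5352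
theorem L5354 : sm ge N526 = N1051 := rfl
theorem L5355 : sm ge N1051 = N526 := flp_e L5354
theorem L5356 : sm gb N1051 = N529 := ded_15_1 L2731 L2721 L5354
theorem L5357 : sm gb N529 = N1051 := flp_b L5356
theorem L5358 : sm gf N526 = N1052 := rfl
theorem L5362 : sm gg N526 = N1053 := rfl
theorem L5363 : sm gg N1053 = N526 := flp_g L5362
theorem L5364 : sm gb N1053 = N531 := ded_17_1 L2737 L2721 L5362
theorem L5365 : sm gb N531 = N1053 := flp_b L5364
theorem L5367 : sm gd N527 = N1054 := rfl
theorem L5368 : sm gd N1054 = N527 := flp_d L5367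
theorem L5369 : sm gb N1054 = N534 := ded_14_1 L2753 L2725 L5367
theorem L5370 : sm gb N534 = N1054 := flp_b L5369
theorem L5371 : sm gb N528 = N1055 := rfl
theorem L5372 : sm gb N1055 = N528 := flp_b L5371
theorem L5373 : sm ge N528 = N1056 := rfl
theorem L5374 : sm ge N1056 = N528 := flp_e L5373
theorem L5376 : sm gc N1056 = N529 := ded_19_1 L2731 L2727 L5373
theorem L5377 : sm gc N529 = N1056 := flp_c L5376
theorem L5378 : sm gf N528 = N1057 := rfl
theorem L5379 : sm gf N1057 = N528 := flp_f L5378
theorem L5381 : sm gc N1057 = N530 := ded_20_1 L2734 L2727 L5378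
theorem L5382 : sm gc N530 = N1057 := flp_c L5381
theorem L5383 : sm gg N528 = N1058 := rfl
theorem L5384 : sm gg N1058 = N528 := flp_g L5383
theorem L5388 : sm gd N529 = N1059 := rfl
theorem L5391 : sm ge N1059 = N532 := ded_22_2 L2741 L1363 L1359 L2730 L5388
theorem L5392 : sm ge N532 = N1059 := flp_e L5391
theorem L5393 : sm gf N529 = N1060 := rfl
theorem L5394 : sm gf N1060 = N529 := flp_f L5393
theorem L5396 : sm ge N1060 = N530 := ded_25_1 L2734 L2730 L5393
theorem L5397 : sm ge N530 = N1060 := flp_e L5396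
theorem L5398 : sm gg N529 = N1061 := rfl
theorem L5399 : sm gg N1061 = N529 := flp_g L5398
theorem L5401 : sm ge N1061 = N531 := ded_26_1 L2737 L2730 L5398
theorem L5402 : sm ge N531 = N1061 := flp_e L5401
theorem L5403 : sm gd N530 = N1062 := rfl
theorem L5404 : sm gd N1062 = N530 := flp_d L5403
theorem L5406 : sm gf N1062 = N534 := ded_23_2 L2753 L1369 L1359 L2733 L5403
theorem L5407 : sm gf N534 = N1062 := flp_f L5406
theorem L5408 : sm gg N530 = N1063 := rfl
theorem L5409 : sm gg N1063 = N530 := flp_g L5408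
theorem L5411 : sm gf N1061 = N1063 := ded_28_0 L5409 L2734 L2736 L5402
theorem L5412 : sm gf N1063 = N1061 := flp_f L5411
theorem L5413 : sm gf N531 = N1064 := rfl
theorem L5414 : sm gf N1064 = N531 := flp_f L5413
theorem L5416 : sm ge N1064 = N1063 := ded_25_1 L5412 L5401 L5413
theorem L5418 : sm gg N1064 = N1060 := ded_28_3 L5396 L2734 L2736 L5413
theorem L5420 : sm gc N532 = N1065 := rfl
theorem L5421 : sm gc N1065 = N532 := flp_c L5420
theorem L5422 : sm ga N1065 = N1065 := ded_8_1 L5421 L2742 L5420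
theorem L5423 : sm gf N532 = N1066 := rfl
theorem L5424 : sm gf N1066 = N532 := flp_f L5423
theorem L5426 : sm gg N532 = N1067 := rfl
theorem L5427 : sm gg N1067 = N532 := flp_g L5426
theorem L5430 : sm gd N533 = N1068 := rfl
theorem L5431 : sm gd N1068 = N533 := flp_d L5430
theorem L5432 : sm ga N1068 = N1068 := ded_9_1 L5431 L2745 L5430
theorem L5433 : sm gc N534 = N1069 := rfl
theorem L5434 : sm gc N1069 = N534 := flp_c L5433
theorem L5435 : sm ga N1069 = N1069 := ded_8_1 L5434 L2754 L5433
theorem L5436 : sm ge N534 = N1070 := rfl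
theorem L5437 : sm ge N1070 = N534 := flp_e L5436
theorem L5439 : sm gg N534 = N1071 := rfl
theorem L5440 : sm gg N1071 = N534 := flp_g L5439
theorem L5442 : sm gd N535 = N1072 := rfl
theorem L5443 : sm gd N1072 = N535 := flp_d L5442
theorem L5444 : sm ga N1072 = N536 := ded_9_1 L2764 L2755 L5442
theorem L5445 : sm ga N536 = N1072 := flp_a L5444
theorem L5446 : sm gb N1072 = N542 := ded_14_1 L2786 L2760 L5442
theorem L5447 : sm gb N542 = N1072 := flp_b L5446
theorem L5448 : sm gf N535 = N1073 := rfl
theorem L5459 : sm gc N536 = N1074 := rfl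
theorem L5460 : sm gc N1074 = N536 := flp_c L5459
theorem L5461 : sm ge N536 = N1075 := rfl
theorem L5462 : sm ge N1075 = N536 := flp_e L5461
theorem L5463 : sm gb N1075 = N539 := ded_15_1 L2776 L2766 L5461
theorem L5464 : sm gb N539 = N1075 := flp_b L5463
theorem L5465 : sm gf N536 = N1076 := rfl
theorem L5466 : sm gf N1076 = N536 := flp_f L5465
theorem L5469 : sm gg N536 = N1077 := rfl
theorem L5470 : sm gg N1077 = N536 := flp_g L5469
theorem L5471 : sm gb N1077 = N541 := ded_17_1 L2782 L2766 L5469
theorem L5472 : sm gb N541 = N1077 := flp_b L5471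
theorem L5473 : sm gd N1077 = N1077 := ded_24_1 L5470 L2764 L1383 L2763 L5469
theorem L5474 : sm gd N537 = N1078 := rfl
theorem L5475 : sm gd N1078 = N537 := flp_d L5474
theorem L5476 : sm gb N1078 = N544 := ded_14_1 L2798 L2770 L5474
theorem L5477 : sm gb N544 = N1078 := flp_b L5476
theorem L5478 : sm gb N538 = N1079 := rfl
theorem L5479 : sm gb N1079 = N538 := flp_b L5478
theorem L5480 : sm ge N538 = N1080 := rfl
theorem L5481 : sm ge N1080 = N538 := flp_e L5480
theorem L5483 : sm gc N1080 = N539 := ded_19_1 L2776 L2772 L5480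
theorem L5485 : sm gf N538 = N1081 := rfl
theorem L5486 : sm gf N1081 = N538 := flp_f L5485
theorem L5488 : sm gc N1081 = N540 := ded_20_1 L2779 L2772 L5485
theorem L5489 : sm gc N540 = N1081 := flp_c L5488
theorem L5490 : sm gg N538 = N1082 := rfl
theorem L5491 : sm gg N1082 = N538 := flp_g L5490
theorem L5493 : sm gc N1082 = N541 := ded_21_1 L2782 L2772 L5490
theorem L5495 : sm gd N539 = N1083 := rfl
theorem L5496 : sm gd N1083 = N539 := flp_d L5495
theorem L5497 : sm ga N1083 = N1083 := ded_9_1 L5496 L2777 L5495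
theorem L5498 : sm ge N1083 = N542 := ded_22_2 L2786 L1389 L1385 L2775 L5495
theorem L5499 : sm ge N542 = N1083 := flp_e L5498
theorem L5500 : sm gf N539 = N1084 := rfl
theorem L5501 : sm gf N1084 = N539 := flp_f L5500
theorem L5503 : sm ge N1084 = N540 := ded_25_1 L2779 L2775 L5500
theorem L5505 : sm gg N539 = N1085 := rfl
theorem L5506 : sm gg N1085 = N539 := flp_g L5505
theorem L5508 : sm ge N1085 = N541 := ded_26_1 L2782 L2775 L5505
theorem L5509 : sm ge N541 = N1085 := flp_e L5508
theorem L5510 : sm gd N540 = N1086 := rfl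
theorem L5511 : sm gd N1086 = N540 := flp_d L5510
theorem L5513 : sm gf N1086 = N544 := ded_23_2 L2798 L1395 L1385 L2778 L5510
theorem L5514 : sm gf N544 = N1086 := flp_f L5513
theorem L5515 : sm gg N540 = N1087 := rfl
theorem L5516 : sm gg N1087 = N540 := flp_g L5515
theorem L5518 : sm gf N1085 = N1087 := ded_28_0 L5516 L2779 L2781 L5509
theorem L5519 : sm gf N1087 = N1085 := flp_f L5518
theorem L5520 : sm gf N541 = N1088 := rfl
theorem L5521 : sm gf N1088 = N541 := flp_f L5520
theorem L5523 : sm ge N1088 = N1087 := ded_25_1 L5519 L5508 L5520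
theorem L5524 : sm ge N1087 = N1088 := flp_e L5523
theorem L5527 : sm gc N542 = N1089 := rfl
theorem L5528 : sm gc N1089 = N542 := flp_c L5527
theorem L5529 : sm ga N1089 = N1089 := ded_8_1 L5528 L2787 L5527
theorem L5530 : sm gf N542 = N1090 := rfl
theorem L5531 : sm gf N1090 = N542 := flp_f L5530
theorem L5533 : sm gg N542 = N1091 := rfl
theorem L5534 : sm gg N1091 = N542 := flp_g L5533
theorem L5537 : sm gd N543 = N1092 := rfl
theorem L5538 : sm gd N1092 = N543 := flp_d L5537
theorem L5540 : sm gf N915 = N1092 := ded_31_1 L5538 L2791 L1405 L720 L367 L340 L337 L140 L130 L133 L312 L637 L1191 L2387 L4659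
theorem L5542 : sm gd N1090 = N915 := ded_23_5 L5540 L5538 L2789 L2785 L5530
theorem L5543 : sm gd N915 = N1090 := flp_d L5542
theorem L5544 : sm gc N1092 = N917 := ded_20_1 L4672 L4663 L5540
theorem L5546 : sm gc N544 = N1093 := rfl
theorem L5547 : sm gc N1093 = N544 := flp_c L5546
theorem L5549 : sm gg N1093 = N929 := ded_31_4 L4752 L2430 L1212 L1200 L649 L317 L137 L155 L165 L366 L710 L713 L1394 L2797 L5546
theorem L5550 : sm gg N929 = N1093 := flp_g L5549
theorem L5551 : sm ge N544 = N1094 := rfl
theorem L5552 : sm ge N1094 = N544 := flp_e L5551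
theorem L5554 : sm gg N544 = N1095 := rfl
theorem L5555 : sm gg N1095 = N544 := flp_g L5554
theorem L5556 : sm ga N1095 = N1095 := ded_12_1 L5555 L2799 L5554
theorem L5557 : sm gc N1095 = N929 := ded_21_1 L5550 L5547 L5554
theorem L5558 : sm gc N929 = N1095 := flp_c L5557
theorem L5559 : sm gf N930 = N1095 := ded_20_0 L5557 L4752 L4754
theorem L5560 : sm gf N1095 = N930 := flp_f L5559
theorem L5561 : sm gc N545 = N1096 := rfl
theorem L5562 : sm gc N1096 = N545 := flp_c L5561
theorem L5563 : sm ga N1096 = N1096 := ded_8_1 L5562 L2802 L5561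
theorem L5566 : sm gf N1096 = N628 := ded_20_2 L3236 L2807 L5561
theorem L5567 : sm gf N628 = N1096 := flp_f L5566
theorem L5568 : sm gg N1096 = N629 := ded_21_2 L3242 L2809 L5561
theorem L5569 : sm gg N629 = N1096 := flp_g L5568
theorem L5570 : sm gc N546 = N1097 := rfl
theorem L5572 : sm ga N1097 = N547 := ded_8_1 L2819 L2813 L5570
theorem L5573 : sm ga N547 = N1097 := flp_a L5572
theorem L5574 : sm gf N1097 = N547 := ded_20_2 L2819 L2817 L5570
theorem L5576 : sm ge N546 = N1098 := rfl
theorem L5577 : sm ge N1098 = N546 := flp_e L5576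
theorem L5582 : sm gf N1098 = N548 := ded_25_2 L2821 L2817 L5576
theorem L5584 : sm gd N1098 = N548 := ded_22_1 L2821 L1417 L1414 L2810 L5576
theorem L5585 : sm gd N548 = N1098 := flp_d L5584
theorem L5586 : sm gg N546 = N1099 := rfl
theorem L5587 : sm gg N1099 = N546 := flp_g L5586
theorem L5592 : sm gd N1099 = N576 := ded_24_1 L2964 L1491 L1411 L2810 L5586
theorem L5594 : sm gb N547 = N1100 := rfl
theorem L5596 : sm gc N1100 = N550 := ded_13_2 L2831 L1426 L1419 L2818 L5594
theorem L5598 : sm gd N547 = N1101 := rfl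
theorem L5599 : sm gd N1101 = N547 := flp_d L5598
theorem L5600 : sm ge N547 = N1102 := rfl
theorem L5601 : sm ge N1102 = N547 := flp_e L5600
theorem L5604 : sm gg N547 = N1103 := rfl
theorem L5605 : sm gg N1103 = N547 := flp_g L5604
theorem L5606 : sm gc N1103 = N549 := ded_21_1 L2825 L2818 L5604
theorem L5607 : sm gc N549 = N1103 := flp_c L5606
theorem L5608 : sm gg N548 = N1104 := rfl
theorem L5609 : sm gg N1104 = N548 := flp_g L5608
theorem L5612 : sm ge N1104 = N549 := ded_26_1 L2825 L2820 L5608
theorem L5613 : sm ge N549 = N1104 := flp_e L5612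
theorem L5614 : sm gf N1104 = N1099 := ded_28_2 L5587 L5576 L5582 L5608
theorem L5615 : sm gf N1099 = N1104 := flp_f L5614
theorem L5616 : sm gf N549 = N1105 := rfl
theorem L5617 : sm gf N1105 = N549 := flp_f L5616
theorem L5622 : sm ge N1105 = N1099 := ded_25_1 L5615 L5612 L5616
theorem L5624 : sm gg N1105 = N1098 := ded_28_3 L5577 L2816 L2824 L5616
theorem L5625 : sm gg N1098 = N1105 := flp_g L5624
theorem L5626 : sm ga N550 = N1106 := rfl
theorem L5627 : sm ga N1106 = N550 := flp_a L5626
theorem L5628 : sm ge N550 = N1107 := rfl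
theorem L5630 : sm gb N1107 = N551 := ded_15_1 L2833 L2830 L5628
theorem L5632 : sm gf N550 = N1108 := rfl
theorem L5633 : sm gf N1108 = N550 := flp_f L5632
theorem L5634 : sm gb N1108 = N552 := ded_16_1 L2838 L2830 L5632
theorem L5636 : sm ga N1107 = N1108 := ded_29_0 L5634 L2840 L1433 L2815 L5570 L5572 L5594 L5596 L5628
theorem L5640 : sm gf N1106 = N1107 := ded_11_0 L5636 L5633 L5626
theorem L5646 : sm gd N551 = N1110 := rfl
theorem L5647 : sm gd N1110 = N551 := flp_d L5646
theorem L5649 : sm gf N551 = N1111 := rfl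
theorem L5650 : sm gf N1111 = N551 := flp_f L5649
theorem L5652 : sm gb N1111 = N1106 := ded_16_1 L5640 L5630 L5649
theorem L5653 : sm gb N1106 = N1111 := flp_b L5652
theorem L5654 : sm gc N1111 = N554 := ded_20_1 L2853 L2836 L5649
theorem L5656 : sm ge N1111 = N552 := ded_25_1 L2838 L2832 L5649
theorem L5658 : sm gg N551 = N1112 := rfl
theorem L5663 : sm ge N1112 = N553 := ded_26_1 L2843 L2832 L5658
theorem L5664 : sm ge N553 = N1112 := flp_e L5663
theorem L5665 : sm gd N552 = N1113 := rfl
theorem L5666 : sm gd N1113 = N552 := flp_d L5665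
theorem L5668 : sm gg N552 = N1114 := rfl
theorem L5669 : sm gg N1114 = N552 := flp_g L5668
theorem L5671 : sm gc N1114 = N556 := ded_21_1 L2860 L2841 L5668
theorem L5672 : sm gc N556 = N1114 := flp_c L5671
theorem L5673 : sm gf N1112 = N1114 := ded_28_0 L5669 L2838 L2842 L5664
theorem L5674 : sm gf N1114 = N1112 := flp_f L5673
theorem L5675 : sm gd N1112 = N1114 := ded_31_2 L5671 L2860 L1432 L731 L372 L171 L189 L193 L405 L811 L819 L1435 L2841 L5668 L5674
theorem L5676 : sm gd N1114 = N1112 := flp_d L5675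
theorem L5677 : sm gg N1113 = N1110 := ded_24_2 L5647 L5658 L5675 L5669 L5665
theorem L5678 : sm gg N1110 = N1113 := flp_g L5677
theorem L5679 : sm gd N553 = N1115 := rfl
theorem L5680 : sm gd N1115 = N553 := flp_d L5679
theorem L5682 : sm gf N553 = N1116 := rfl
theorem L5683 : sm gf N1116 = N553 := flp_f L5682
theorem L5687 : sm ge N1116 = N1114 := ded_25_1 L5674 L5663 L5682
theorem L5689 : sm gg N1116 = N1111 := ded_28_3 L5656 L2838 L2842 L5682
theorem L5690 : sm gg N1111 = N1116 := flp_g L5689
theorem L5691 : sm gd N555 = N1117 := rfl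
theorem L5692 : sm gd N1117 = N555 := flp_d L5691
theorem L5696 : sm gd N557 = N1118 := rfl
theorem L5697 : sm gd N1118 = N557 := flp_d L5696
theorem L5699 : sm gf N1118 = N610 := ded_23_2 L3138 L1583 L1440 L2866 L5696
theorem L5700 : sm gf N610 = N1118 := flp_f L5699
theorem L5701 : sm gg N1118 = N1117 := ded_24_2 L5692 L2855 L2847 L2872 L5696
theorem L5703 : sm ga N558 = N1119 := rfl
theorem L5704 : sm ga N1119 = N558 := flp_a L5703
theorem L5706 : sm gf N1119 = N562 := ded_11_2 L2894 L2876 L5703
theorem L5708 : sm gb N1119 = N560 := ded_29_4 L2884 L1448 L1449 L2885 L2882 L1443 L2873 L2877 L5703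
theorem L5709 : sm gb N560 = N1119 := flp_b L5708
theorem L5710 : sm ge N558 = N1119 := ded_29_9 L5704 L2874 L1442 L747 L748 L1441 L1443 L2873 L2877
theorem L5711 : sm ge N1119 = N558 := flp_e L5710
theorem L5712 : sm gd N558 = N1120 := rfl
theorem L5713 : sm gd N1120 = N558 := flp_d L5712
theorem L5714 : sm gb N1120 = N559 := ded_14_1 L2879 L2873 L5712
theorem L5715 : sm gb N559 = N1120 := flp_b L5714
theorem L5716 : sm gg N558 = N1121 := rfl
theorem L5717 : sm gg N1121 = N558 := flp_g L5716
theorem L5718 : sm gb N1121 = N561 := ded_17_1 L2889 L2873 L5716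
theorem L5719 : sm gb N561 = N1121 := flp_b L5718
theorem L5720 : sm gc N1121 = N1121 := ded_21_1 L5717 L2877 L5716
theorem L5721 : sm ge N559 = N1122 := rfl
theorem L5722 : sm ge N1122 = N559 := flp_e L5721
theorem L5724 : sm gf N559 = N1123 := rfl
theorem L5725 : sm gf N1123 = N559 := flp_f L5724
theorem L5727 : sm gd N1123 = N567 := ded_23_1 L2916 L1460 L1445 L2878 L5724
theorem L5728 : sm gd N567 = N1123 := flp_d L5727
theorem L5729 : sm gg N559 = N1124 := rfl
theorem L5730 : sm gg N1124 = N559 := flp_g L5729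
theorem L5732 : sm gd N560 = N1125 := rfl
theorem L5733 : sm gd N1125 = N560 := flp_d L5732
theorem L5735 : sm gd N561 = N1126 := rfl
theorem L5736 : sm gd N1126 = N561 := flp_d L5735
theorem L5738 : sm gd N562 = N1127 := rfl
theorem L5740 : sm ga N1127 = N563 := ded_9_1 L2901 L2893 L5738
theorem L5741 : sm ga N563 = N1127 := flp_a L5740
theorem L5742 : sm gb N1127 = N569 := ded_14_1 L2922 L2897 L5738
theorem L5743 : sm gb N569 = N1127 := flp_b L5742
theorem L5744 : sm gg N562 = N1128 := rfl
theorem L5746 : sm ga N1128 = N564 := ded_12_1 L2905 L2893 L5744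
theorem L5747 : sm ga N564 = N1128 := flp_a L5746
theorem L5748 : sm gb N1128 = N570 := ded_17_1 L2925 L2897 L5744
theorem L5749 : sm gb N570 = N1128 := flp_b L5748
theorem L5751 : sm ge N1128 = N564 := ded_26_1 L2905 L2898 L5744
theorem L5753 : sm gf N1128 = N1121 := ded_28_2 L5717 L5710 L5706 L5744
theorem L5754 : sm gf N1121 = N1128 := flp_f L5753
theorem L5755 : sm gc N563 = N1129 := rfl
theorem L5756 : sm gc N1129 = N563 := flp_c L5755
theorem L5757 : sm ge N563 = N1130 := rfl
theorem L5758 : sm ge N1130 = N563 := flp_e L5757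
theorem L5761 : sm gf N563 = N1131 := rfl
theorem L5762 : sm gf N1131 = N563 := flp_f L5761
theorem L5763 : sm gb N1131 = N567 := ded_16_1 L2916 L2903 L5761
theorem L5764 : sm gb N567 = N1131 := flp_b L5763
theorem L5765 : sm gg N563 = N1132 := rfl
theorem L5766 : sm gg N1132 = N563 := flp_g L5765
theorem L5769 : sm gd N564 = N1133 := rfl
theorem L5770 : sm gd N1133 = N564 := flp_d L5769
theorem L5771 : sm gb N1133 = N571 := ded_14_1 L2934 L2907 L5769
theorem L5772 : sm gb N571 = N1133 := flp_b L5771
theorem L5773 : sm gf N564 = N1134 := rfl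
theorem L5775 : sm ga N1134 = N1121 := ded_11_1 L5754 L5746 L5773
theorem L5776 : sm ga N1121 = N1134 := flp_a L5775
theorem L5777 : sm gb N1134 = N572 := ded_16_1 L2937 L2907 L5773
theorem L5778 : sm gb N572 = N1134 := flp_b L5777
theorem L5780 : sm ge N1134 = N1121 := ded_25_1 L5754 L5751 L5773
theorem L5782 : sm gg N1134 = N1119 := ded_28_3 L5711 L2875 L2904 L5773
theorem L5783 : sm gg N1119 = N1134 := flp_g L5782
theorem L5784 : sm gb N565 = N1135 := rfl
theorem L5785 : sm gb N1135 = N565 := flp_b L5784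
theorem L5786 : sm ge N565 = N1136 := rfl
theorem L5787 : sm ge N1136 = N565 := flp_e L5786
theorem L5788 : sm ga N1136 = N1136 := ded_10_1 L5787 L2911 L5786
theorem L5789 : sm gc N1136 = N566 := ded_19_1 L2913 L2909 L5786
theorem L5790 : sm gc N566 = N1136 := flp_c L5789
theorem L5791 : sm gf N565 = N1137 := rfl
theorem L5792 : sm gf N1137 = N565 := flp_f L5791
theorem L5794 : sm gc N1137 = N567 := ded_20_1 L2916 L2909 L5791
theorem L5795 : sm gc N567 = N1137 := flp_c L5794
theorem L5796 : sm gg N565 = N1138 := rfl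
theorem L5797 : sm gg N1138 = N565 := flp_g L5796
theorem L5799 : sm gc N1138 = N568 := ded_21_1 L2919 L2909 L5796
theorem L5800 : sm gc N568 = N1138 := flp_c L5799
theorem L5801 : sm gd N566 = N1139 := rfl
theorem L5802 : sm gd N1139 = N566 := flp_d L5801
theorem L5803 : sm ga N1139 = N1139 := ded_9_1 L5802 L2914 L5801
theorem L5804 : sm ge N1139 = N569 := ded_22_2 L2922 L1463 L1459 L2912 L5801
theorem L5805 : sm ge N569 = N1139 := flp_e L5804
theorem L5806 : sm gf N566 = N1140 := rfl
theorem L5809 : sm ge N1140 = N567 := ded_25_1 L2916 L2912 L5806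
theorem L5811 : sm gg N566 = N1141 := rfl
theorem L5814 : sm ge N1141 = N568 := ded_26_1 L2919 L2912 L5811
theorem L5815 : sm ge N568 = N1141 := flp_e L5814
theorem L5816 : sm gg N567 = N1142 := rfl
theorem L5817 : sm gg N1142 = N567 := flp_g L5816
theorem L5819 : sm gf N1141 = N1142 := ded_28_0 L5817 L2916 L2918 L5815
theorem L5820 : sm gf N1142 = N1141 := flp_f L5819
theorem L5821 : sm gd N568 = N1143 := rfl
theorem L5822 : sm gd N1143 = N568 := flp_d L5821
theorem L5824 : sm gg N1143 = N571 := ded_24_2 L2934 L1468 L1459 L2918 L5821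
theorem L5825 : sm gg N571 = N1143 := flp_g L5824
theorem L5826 : sm gf N568 = N1144 := rfl
theorem L5827 : sm gf N1144 = N568 := flp_f L5826
theorem L5829 : sm ge N1144 = N1142 := ded_25_1 L5820 L5814 L5826
theorem L5830 : sm ge N1142 = N1144 := flp_e L5829
theorem L5831 : sm gg N1144 = N1140 := ded_28_3 L5809 L2916 L2918 L5826
theorem L5832 : sm gg N1140 = N1144 := flp_g L5831
theorem L5833 : sm gc N569 = N1145 := rfl
theorem L5834 : sm gc N1145 = N569 := flp_c L5833
theorem L5835 : sm ga N1145 = N1145 := ded_8_1 L5834 L2923 L5833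
theorem L5836 : sm gf N569 = N1146 := rfl
theorem L5837 : sm gf N1146 = N569 := flp_f L5836
theorem L5839 : sm gg N569 = N1147 := rfl
theorem L5840 : sm gg N1147 = N569 := flp_g L5839
theorem L5842 : sm gd N570 = N1148 := rfl
theorem L5843 : sm gd N1148 = N570 := flp_d L5842
theorem L5844 : sm ga N1148 = N1148 := ded_9_1 L5843 L2926 L5842
theorem L5845 : sm gc N571 = N1149 := rfl
theorem L5846 : sm gc N1149 = N571 := flp_c L5845
theorem L5847 : sm ga N1149 = N1149 := ded_8_1 L5846 L2935 L5845
theorem L5848 : sm ge N571 = N1150 := rfl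
theorem L5849 : sm ge N1150 = N571 := flp_e L5848
theorem L5851 : sm gf N571 = N1151 := rfl
theorem L5852 : sm gf N1151 = N571 := flp_f L5851
theorem L5854 : sm gd N572 = N1152 := rfl
theorem L5855 : sm gd N1152 = N572 := flp_d L5854
theorem L5857 : sm gc N1152 = N898 := ded_31_3 L4591 L2359 L1176 L629 L627 L309 L131 L66 L78 L173 L386 L751 L1467 L2936 L5854
theorem L5858 : sm gc N898 = N1152 := flp_c L5857
theorem L5859 : sm gg N896 = N1152 := ded_21_0 L5857 L4591 L4582
theorem L5860 : sm gg N1152 = N896 := flp_g L5859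
theorem L5861 : sm gb N573 = N1153 := rfl
theorem L5863 : sm gc N1153 = N611 := ded_13_2 L3141 L1590 L1495 L2945 L5861
theorem L5864 : sm gc N611 = N1153 := flp_c L5863
theorem L5865 : sm gd N573 = N1154 := rfl
theorem L5866 : sm gd N1154 = N573 := flp_d L5865
theorem L5867 : sm ga N1154 = N579 := ded_9_1 L2982 L2948 L5865
theorem L5868 : sm ga N579 = N1154 := flp_a L5867
theorem L5869 : sm ge N573 = N1155 := rfl
theorem L5871 : sm ga N1155 = N580 := ded_10_1 L2984 L2948 L5869
theorem L5872 : sm ga N580 = N1155 := flp_a L5871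
theorem L5873 : sm gc N1155 = N574 := ded_19_1 L2950 L2945 L5869
theorem L5895 : sm gg N574 = N1159 := rfl
theorem L5901 : sm ge N1159 = N576 := ded_26_1 L2964 L2949 L5895
theorem L5902 : sm ge N576 = N1159 := flp_e L5901
theorem L5903 : sm gd N575 = N1160 := rfl
theorem L5905 : sm ga N1160 = N585 := ded_9_1 L3008 L2960 L5903
theorem L5906 : sm ga N585 = N1160 := flp_a L5905
theorem L5909 : sm gf N1160 = N577 := ded_23_2 L2970 L1497 L1490 L2957 L5903
theorem L5910 : sm gf N577 = N1160 := flp_f L5909
theorem L5929 : sm gc N577 = N1163 := rfl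
theorem L5930 : sm gc N1163 = N577 := flp_c L5929
theorem L5931 : sm ga N1163 = N588 := ded_8_1 L3028 L2972 L5929
theorem L5933 : sm gg N1163 = N588 := ded_21_2 L3028 L2976 L5929
theorem L5934 : sm gg N588 = N1163 := flp_g L5933
theorem L5945 : sm ga N578 = N1165 := rfl
theorem L5946 : sm ga N1165 = N578 := flp_a L5945
theorem L5947 : sm gc N1165 = N590 := ded_8_2 L3034 L2980 L5945
theorem L5948 : sm gc N590 = N1165 := flp_c L5947
theorem L5949 : sm gb N1165 = N1155 := ded_29_4 L5873 L2951 L1511 L1546 L1543 L784 L1538 L2980 L5945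
theorem L5950 : sm gb N1155 = N1165 := flp_b L5949
theorem L5951 : sm ge N1153 = N1165 := ded_29_9 L5946 L2978 L1508 L1493 L1494 L1589 L1591 L3140 L5864
theorem L5953 : sm gd N578 = N1166 := rfl
theorem L5954 : sm gd N1166 = N578 := flp_d L5953
theorem L5977 : sm gc N579 = N1170 := rfl
theorem L5978 : sm gc N1170 = N579 := flp_c L5977
theorem L5981 : sm gf N579 = N1172 := rfl
theorem L5982 : sm gf N1172 = N579 := flp_f L5981
theorem L5983 : sm gg N579 = N1173 := rfl
theorem L5984 : sm gg N1173 = N579 := flp_g L5983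
theorem L5985 : sm gd N580 = N1174 := rfl
theorem L5986 : sm gd N1174 = N580 := flp_d L5985
theorem L5987 : sm gf N580 = N1175 := rfl
theorem L5988 : sm gf N1175 = N580 := flp_f L5987
theorem L5991 : sm ge N1175 = N581 := ded_25_1 L2988 L2983 L5987
theorem L5993 : sm gg N580 = N1176 := rfl
theorem L5997 : sm ge N1176 = N582 := ded_26_1 L2992 L2983 L5993
theorem L5998 : sm ge N582 = N1176 := flp_e L5997
theorem L5999 : sm gd N581 = N1177 := rfl
theorem L6000 : sm gd N1177 = N581 := flp_d L5999
theorem L6001 : sm gg N581 = N1178 := rfl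
theorem L6002 : sm gg N1178 = N581 := flp_g L6001
theorem L6003 : sm gc N1178 = N586 := ded_21_1 L3014 L2990 L6001
theorem L6005 : sm gf N1176 = N1178 := ded_28_0 L6002 L2988 L2991 L5998
theorem L6006 : sm gf N1178 = N1176 := flp_f L6005
theorem L6007 : sm gd N582 = N1179 := rfl
theorem L6008 : sm gd N1179 = N582 := flp_d L6007
theorem L6009 : sm gf N582 = N1180 := rfl
theorem L6015 : sm gg N1180 = N1175 := ded_28_3 L5991 L2988 L2991 L6009
theorem L6017 : sm gd N1180 = N1178 := ded_31_2 L6003 L3014 L1514 L774 L392 L728 L1420 L1536 L1531 L1526 L778 L773 L1507 L2991 L6009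
theorem L6018 : sm gd N1178 = N1180 := flp_d L6017
theorem L6023 : sm gd N584 = N1182 := rfl
theorem L6024 : sm gd N1182 = N584 := flp_d L6023
theorem L6027 : sm gc N585 = N1183 := rfl
theorem L6028 : sm gc N1183 = N585 := flp_c L6027
theorem L6029 : sm gf N1183 = N588 := ded_20_2 L3028 L3012 L6027
theorem L6030 : sm gf N588 = N1183 := flp_f L6029
theorem L6031 : sm ge N585 = N1184 := rfl
theorem L6032 : sm ge N1184 = N585 := flp_e L6031
theorem L6033 : sm gb N1184 = N607 := ded_15_1 L3127 L3010 L6031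
theorem L6037 : sm gg N1160 = N1184 := ded_28_3 L6032 L3011 L2976 L5910
theorem L6038 : sm gg N1184 = N1160 := flp_g L6037
theorem L6039 : sm gg N585 = N1185 := rfl
theorem L6041 : sm ga N1185 = N1184 := ded_12_1 L6038 L5905 L6039
theorem L6045 : sm ge N1185 = N1160 := ded_26_1 L6037 L6032 L6039
theorem L6046 : sm ge N1160 = N1185 := flp_e L6045
theorem L6053 : sm gd N587 = N1187 := rfl
theorem L6054 : sm gd N1187 = N587 := flp_d L6053
theorem L6055 : sm gb N1187 = N610 := ded_14_1 L3138 L3022 L6053
theorem L6056 : sm gb N610 = N1187 := flp_b L6055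
theorem L6057 : sm gb N588 = N1188 := rfl
theorem L6059 : sm gc N1188 = N620 := ded_13_2 L3198 L1604 L1524 L3027 L6057
theorem L6061 : sm gd N588 = N1189 := rfl
theorem L6062 : sm gd N1189 = N588 := flp_d L6061
theorem L6063 : sm ge N588 = N1190 := rfl
theorem L6064 : sm ge N1190 = N588 := flp_e L6063
theorem L6067 : sm gf N590 = N1191 := rfl
theorem L6068 : sm gf N1191 = N590 := flp_f L6067
theorem L6081 : sm gf N591 = N1194 := rfl
theorem L6082 : sm gf N1194 = N591 := flp_f L6081
theorem L6085 : sm ge N1194 = N592 := ded_25_1 L3042 L3037 L6081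
theorem L6087 : sm gg N591 = N1195 := rfl
theorem L6089 : sm gb N1195 = N596 := ded_17_1 L3062 L3040 L6087
theorem L6090 : sm gb N596 = N1195 := flp_b L6089
theorem L6091 : sm ge N1195 = N593 := ded_26_1 L3046 L3037 L6087
theorem L6092 : sm ge N593 = N1195 := flp_e L6091
theorem L6093 : sm gd N592 = N1196 := rfl
theorem L6097 : sm gf N1196 = N676 := ded_23_2 L3494 L1737 L1541 L3041 L6093
theorem L6098 : sm gf N676 = N1196 := flp_f L6097
theorem L6099 : sm gg N592 = N1197 := rfl
theorem L6100 : sm gg N1197 = N592 := flp_g L6099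
theorem L6101 : sm gb N1197 = N598 := ded_17_1 L3074 L3044 L6099
theorem L6102 : sm gb N598 = N1197 := flp_b L6101
theorem L6103 : sm gf N1195 = N1197 := ded_28_0 L6100 L3042 L3045 L6092
theorem L6105 : sm gd N593 = N1198 := rfl
theorem L6106 : sm gd N1198 = N593 := flp_d L6105
theorem L6107 : sm gb N1198 = N599 := ded_14_1 L3081 L3048 L6105
theorem L6108 : sm gb N599 = N1198 := flp_b L6107
theorem L6109 : sm gg N1198 = N678 := ded_24_2 L3504 L1741 L1541 L3045 L6105
theorem L6110 : sm gg N678 = N1198 := flp_g L6109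
theorem L6111 : sm gf N593 = N1199 := rfl
theorem L6117 : sm gg N1199 = N1194 := ded_28_3 L6085 L3042 L3045 L6111
theorem L6119 : sm gf N594 = N1200 := rfl
theorem L6120 : sm gf N1200 = N594 := flp_f L6119
theorem L6122 : sm gc N1200 = N680 := ded_20_1 L3516 L3103 L6119
theorem L6123 : sm gc N680 = N1200 := flp_c L6122
theorem L6124 : sm ge N1200 = N680 := ded_25_1 L3516 L3053 L6119
theorem L6125 : sm ge N680 = N1200 := flp_e L6124
theorem L6126 : sm gg N594 = N1201 := rfl
theorem L6127 : sm gg N1201 = N594 := flp_g L6126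
theorem L6128 : sm ga N1201 = N1201 := ded_12_1 L6127 L3051 L6126
theorem L6129 : sm gc N1201 = N681 := ded_21_1 L3519 L3103 L6126
theorem L6130 : sm gc N681 = N1201 := flp_c L6129
theorem L6131 : sm ge N1201 = N681 := ded_26_1 L3519 L3053 L6126
theorem L6132 : sm ge N681 = N1201 := flp_e L6131
theorem L6133 : sm gd N595 = N1202 := rfl
theorem L6134 : sm gd N1202 = N595 := flp_d L6133
theorem L6136 : sm gd N596 = N1203 := rfl
theorem L6137 : sm gd N1203 = N596 := flp_d L6136
theorem L6139 : sm gc N597 = N1204 := rfl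
theorem L6142 : sm gf N1204 = N684 := ded_20_2 L3528 L3072 L6139
theorem L6143 : sm gf N684 = N1204 := flp_f L6142
theorem L6144 : sm ge N597 = N1205 := rfl
theorem L6145 : sm ge N1205 = N597 := flp_e L6144
theorem L6147 : sm gf N1205 = N685 := ded_25_2 L3531 L3072 L6144
theorem L6148 : sm gf N685 = N1205 := flp_f L6147
theorem L6149 : sm gg N597 = N1206 := rfl
theorem L6150 : sm gg N1206 = N597 := flp_g L6149
theorem L6152 : sm gd N598 = N1207 := rfl
theorem L6153 : sm gd N1207 = N598 := flp_d L6152
theorem L6155 : sm gc N599 = N1208 := rfl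
theorem L6156 : sm gc N1208 = N599 := flp_c L6155
theorem L6158 : sm gg N1208 = N688 := ded_21_2 L3544 L3084 L6155
theorem L6159 : sm gg N688 = N1208 := flp_g L6158
theorem L6160 : sm ge N599 = N1209 := rfl
theorem L6161 : sm ge N1209 = N599 := flp_e L6160
theorem L6163 : sm gg N1209 = N689 := ded_26_2 L3547 L3084 L6160
theorem L6164 : sm gg N689 = N1209 := flp_g L6163
theorem L6165 : sm gf N599 = N1210 := rfl
theorem L6166 : sm gf N1210 = N599 := flp_f L6165
theorem L6167 : sm ga N1210 = N1210 := ded_11_1 L6166 L3082 L6165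
theorem L6168 : sm gd N600 = N1211 := rfl
theorem L6169 : sm gd N1211 = N600 := flp_d L6168
theorem L6170 : sm ga N1211 = N1211 := ded_9_1 L6169 L3087 L6168
theorem L6171 : sm gf N601 = N1212 := rfl
theorem L6172 : sm gf N1212 = N601 := flp_f L6171
theorem L6176 : sm gc N1212 = N602 := ded_20_1 L3106 L3094 L6171
theorem L6177 : sm gc N602 = N1212 := flp_c L6176
theorem L6178 : sm ge N1212 = N613 := ded_25_1 L3153 L3098 L6171
theorem L6179 : sm ge N613 = N1212 := flp_e L6178
theorem L6180 : sm gg N601 = N1213 := rfl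
theorem L6187 : sm ge N1213 = N614 := ded_26_1 L3158 L3098 L6180
theorem L6188 : sm ge N614 = N1213 := flp_e L6187
theorem L6189 : sm gd N602 = N1214 := rfl
theorem L6190 : sm gd N1214 = N602 := flp_d L6189
theorem L6192 : sm gf N1214 = N604 := ded_23_2 L3116 L1563 L1557 L3105 L6189
theorem L6193 : sm gf N604 = N1214 := flp_f L6192
theorem L6194 : sm gd N603 = N1215 := rfl
theorem L6195 : sm gd N1215 = N603 := flp_d L6194
theorem L6197 : sm ge N1215 = N1118 := ded_22_2 L5697 L2869 L2864 L3114 L6194
theorem L6198 : sm ge N1118 = N1215 := flp_e L6197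
theorem L6199 : sm gg N1215 = N605 := ded_24_2 L3119 L1568 L1557 L3110 L6194
theorem L6200 : sm gg N605 = N1215 := flp_g L6199
theorem L6201 : sm gc N604 = N1216 := rfl
theorem L6202 : sm gc N1216 = N604 := flp_c L6201
theorem L6204 : sm ge N604 = N1217 := rfl
theorem L6205 : sm ge N1217 = N604 := flp_e L6204
theorem L6207 : sm gd N1217 = N607 := ded_22_1 L3127 L1573 L1566 L3115 L6204
theorem L6208 : sm gd N607 = N1217 := flp_d L6207
theorem L6209 : sm gg N604 = N1218 := rfl
theorem L6210 : sm gg N1218 = N604 := flp_g L6209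
theorem L6212 : sm gc N605 = N1219 := rfl
theorem L6213 : sm gc N1219 = N605 := flp_c L6212
theorem L6215 : sm gf N605 = N1220 := rfl
theorem L6216 : sm gf N1220 = N605 := flp_f L6215
theorem L6218 : sm gg N610 = N1220 := ded_28_1 L6216 L6200 L6197 L5699
theorem L6220 : sm gd N1220 = N1218 := ded_24_1 L6210 L3116 L1588 L3137 L6218
theorem L6222 : sm gf N1218 = N609 := ded_23_2 L3135 L1581 L3118 L6215 L6220
theorem L6223 : sm gf N609 = N1218 := flp_f L6222
theorem L6224 : sm gb N606 = N1221 := rfl
theorem L6225 : sm gb N1221 = N606 := flp_b L6224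
theorem L6226 : sm gf N1221 = N620 := ded_16_2 L3198 L3125 L6224
theorem L6227 : sm gf N620 = N1221 := flp_f L6226
theorem L6228 : sm gd N606 = N1222 := rfl
theorem L6229 : sm gd N1222 = N606 := flp_d L6228
theorem L6231 : sm ge N1222 = N889 := ded_22_2 L4553 L2543 L4988 L4994 L6228
theorem L6233 : sm gg N606 = N1223 := rfl
theorem L6234 : sm gg N1223 = N606 := flp_g L6233
theorem L6236 : sm gc N1223 = N608 := ded_21_1 L3132 L3121 L6233
theorem L6238 : sm gd N608 = N1224 := rfl
theorem L6239 : sm gd N1224 = N608 := flp_d L6238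
theorem L6241 : sm ge N1224 = N1214 := ded_22_2 L6190 L3108 L3162 L3170 L6238
theorem L6242 : sm ge N1214 = N1224 := flp_e L6241
theorem L6243 : sm gf N1224 = N1217 := ded_23_2 L6207 L3129 L3196 L3191 L6238
theorem L6244 : sm gf N1217 = N1224 := flp_f L6243
theorem L6245 : sm gg N1224 = N609 := ded_24_2 L3135 L1578 L1572 L3131 L6238
theorem L6246 : sm gg N609 = N1224 := flp_g L6245
theorem L6247 : sm gc N609 = N1225 := rfl
theorem L6248 : sm gc N1225 = N609 := flp_c L6247
theorem L6250 : sm ge N609 = N1226 := rfl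
theorem L6251 : sm ge N1226 = N609 := flp_e L6250
theorem L6255 : sm gc N610 = N1227 := rfl
theorem L6256 : sm gc N1227 = N610 := flp_c L6255
theorem L6258 : sm ge N610 = N1228 := rfl
theorem L6261 : sm gf N1228 = N1215 := ded_25_2 L6197 L5699 L6258
theorem L6263 : sm gd N1228 = N1226 := ded_22_1 L6251 L3135 L1586 L3137 L6258
theorem L6264 : sm gd N1226 = N1228 := flp_d L6263
theorem L6273 : sm gf N611 = N1230 := rfl
theorem L6275 : sm ga N1230 = N1194 := ded_11_1 L6082 L3144 L6273
theorem L6276 : sm ga N1194 = N1230 := flp_a L6275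
theorem L6277 : sm gb N1230 = N613 := ded_16_1 L3153 L3140 L6273
theorem L6278 : sm gb N613 = N1230 := flp_b L6277
theorem L6289 : sm gf N612 = N1232 := rfl
theorem L6290 : sm gf N1232 = N612 := flp_f L6289
theorem L6293 : sm ge N1232 = N713 := ded_25_1 L3674 L3150 L6289
theorem L6294 : sm ge N713 = N1232 := flp_e L6293
theorem L6295 : sm gg N612 = N1233 := rfl
theorem L6299 : sm ge N1233 = N714 := ded_26_1 L3678 L3150 L6295
theorem L6301 : sm gd N613 = N1234 := rfl
theorem L6302 : sm gd N1234 = N613 := flp_d L6301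
theorem L6304 : sm gg N613 = N1235 := rfl
theorem L6305 : sm gg N1235 = N613 := flp_g L6304
theorem L6309 : sm gf N1213 = N1235 := ded_28_0 L6305 L3153 L3157 L6188
theorem L6310 : sm gf N1235 = N1213 := flp_f L6309
theorem L6311 : sm gd N614 = N1236 := rfl
theorem L6312 : sm gd N1236 = N614 := flp_d L6311
theorem L6314 : sm gf N614 = N1237 := rfl
theorem L6317 : sm gc N1237 = N617 := ded_20_1 L3177 L3161 L6314
theorem L6318 : sm gc N617 = N1237 := flp_c L6317
theorem L6321 : sm gg N1237 = N1212 := ded_28_3 L6178 L3153 L3157 L6314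
theorem L6323 : sm gc N615 = N1238 := rfl
theorem L6326 : sm ge N1238 = N1223 := ded_19_2 L6236 L3169 L6323
theorem L6327 : sm ge N1223 = N1238 := flp_e L6326
theorem L6328 : sm gf N1238 = N618 := ded_20_2 L3184 L3166 L6323
theorem L6329 : sm gf N618 = N1238 := flp_f L6328
theorem L6330 : sm gg N1238 = N977 := ded_21_2 L4991 L3167 L6323
theorem L6332 : sm gd N1238 = N920 := ded_31_2 L4702 L2411 L1197 L655 L322 L180 L174 L167 L371 L374 L401 L808 L1603 L3187 L6329
theorem L6333 : sm gd N920 = N1238 := flp_d L6332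
theorem L6334 : sm gd N616 = N1239 := rfl
theorem L6335 : sm gd N1239 = N616 := flp_d L6334
theorem L6337 : sm gf N1239 = N1226 := ded_23_2 L6264 L6261 L6195 L3174 L6334
theorem L6338 : sm gf N1226 = N1239 := flp_f L6337
theorem L6341 : sm ge N1218 = N1239 := ded_25_3 L6337 L6251 L6223
theorem L6343 : sm gd N617 = N1240 := rfl
theorem L6344 : sm gd N1240 = N617 := flp_d L6343
theorem L6346 : sm ge N1240 = N1220 := ded_22_2 L6220 L6341 L6335 L3180 L6343
theorem L6347 : sm ge N1220 = N1240 := flp_e L6346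
theorem L6348 : sm gf N1240 = N1117 := ded_23_2 L5692 L2862 L2864 L3176 L6343
theorem L6349 : sm gf N1117 = N1240 := flp_f L6348
theorem L6352 : sm gb N618 = N1241 := rfl
theorem L6353 : sm gb N1241 = N618 := flp_b L6352
theorem L6354 : sm gg N1241 = N620 := ded_17_2 L3198 L3187 L6352
theorem L6355 : sm gg N620 = N1241 := flp_g L6354
theorem L6356 : sm gd N618 = N1242 := rfl
theorem L6357 : sm gd N1242 = N618 := flp_d L6356
theorem L6358 : sm ga N1242 = N1242 := ded_9_1 L6357 L3185 L6356
theorem L6359 : sm ge N618 = N1243 := rfl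
theorem L6360 : sm ge N1243 = N618 := flp_e L6359
theorem L6362 : sm gc N1243 = N619 := ded_19_1 L3189 L3183 L6359
theorem L6364 : sm gf N1243 = N1223 := ded_25_2 L6327 L6328 L6359
theorem L6365 : sm gf N1223 = N1243 := flp_f L6364
theorem L6366 : sm gg N1243 = N622 := ded_26_2 L3204 L3187 L6359
theorem L6367 : sm gg N622 = N1243 := flp_g L6366
theorem L6368 : sm ga N620 = N1244 := rfl
theorem L6369 : sm ga N1244 = N620 := flp_a L6368
theorem L6370 : sm gb N1244 = N1243 := ded_29_7 L6362 L3189 L1600 L2974 L5929 L5931 L6057 L6059 L6368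
theorem L6372 : sm ge N1241 = N1244 := ded_15_0 L6370 L6360 L6352
theorem L6374 : sm gd N620 = N1245 := rfl
theorem L6375 : sm gd N1245 = N620 := flp_d L6374
theorem L6378 : sm ge N620 = N1246 := rfl
theorem L6380 : sm ga N1246 = N1241 := ded_10_1 L6372 L6369 L6378
theorem L6382 : sm gb N1246 = N622 := ded_15_1 L3204 L3197 L6378
theorem L6383 : sm gb N622 = N1246 := flp_b L6382
theorem L6386 : sm ge N621 = N1247 := rfl
theorem L6390 : sm gf N621 = N1248 := rfl
theorem L6391 : sm gf N1248 = N621 := flp_f L6390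
theorem L6393 : sm gc N1248 = N1248 := ded_20_1 L6391 L3202 L6390
theorem L6394 : sm gg N621 = N1249 := rfl
theorem L6395 : sm gg N1249 = N621 := flp_g L6394
theorem L6398 : sm gd N623 = N1250 := rfl
theorem L6401 : sm gb N1250 = N624 := ded_14_1 L3215 L3208 L6398
theorem L6402 : sm gb N624 = N1250 := flp_b L6401
theorem L6411 : sm gc N624 = N1252 := rfl
theorem L6414 : sm ge N624 = N1253 := rfl
theorem L6415 : sm ge N1253 = N624 := flp_e L6414
theorem L6418 : sm gf N624 = N1254 := rfl
theorem L6419 : sm gf N1254 = N624 := flp_f L6418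
theorem L6422 : sm gg N624 = N1255 := rfl
theorem L6423 : sm gg N1255 = N624 := flp_g L6422
theorem L6425 : sm gd N625 = N1256 := rfl
theorem L6426 : sm gd N1256 = N625 := flp_d L6425
theorem L6428 : sm ga N626 = N1257 := rfl
theorem L6429 : sm ga N1257 = N626 := flp_a L6428
theorem L6431 : sm gg N1257 = N1257 := ded_12_2 L6429 L3226 L6428
theorem L6432 : sm gb N1257 = N628 := ded_29_4 L3236 L1628 L1629 L3237 L3234 L1624 L3224 L3227 L6428
theorem L6433 : sm gb N628 = N1257 := flp_b L6432
theorem L6436 : sm gd N626 = N1258 := rfl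
theorem L6437 : sm gd N1258 = N626 := flp_d L6436
theorem L6438 : sm gb N1258 = N627 := ded_14_1 L3229 L3224 L6436
theorem L6439 : sm gb N627 = N1258 := flp_b L6438
theorem L6440 : sm gf N626 = N1259 := rfl
theorem L6441 : sm gf N1259 = N626 := flp_f L6440
theorem L6442 : sm gb N1259 = N629 := ded_16_1 L3240 L3224 L6440
theorem L6443 : sm gb N629 = N1259 := flp_b L6442
theorem L6444 : sm gc N1259 = N1259 := ded_20_1 L6441 L3227 L6440
theorem L6445 : sm ge N627 = N1260 := rfl
theorem L6446 : sm ge N1260 = N627 := flp_e L6445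
theorem L6447 : sm ga N1260 = N1260 := ded_10_1 L6446 L3230 L6445
theorem L6448 : sm gc N1260 = N1122 := ded_19_1 L5722 L3232 L6445
theorem L6449 : sm gc N1122 = N1260 := flp_c L6448
theorem L6450 : sm gf N627 = N1261 := rfl
theorem L6451 : sm gf N1261 = N627 := flp_f L6450
theorem L6453 : sm gc N1261 = N1123 := ded_20_1 L5725 L3232 L6450
theorem L6454 : sm gc N1123 = N1261 := flp_c L6453
theorem L6455 : sm gg N627 = N1262 := rfl
theorem L6458 : sm gc N1262 = N1124 := ded_21_1 L5730 L3232 L6455
theorem L6459 : sm gc N1124 = N1262 := flp_c L6458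
theorem L6461 : sm gd N628 = N1263 := rfl
theorem L6462 : sm gd N1263 = N628 := flp_d L6461
theorem L6464 : sm gd N629 = N1264 := rfl
theorem L6465 : sm gd N1264 = N629 := flp_d L6464
theorem L6467 : sm gd N630 = N1265 := rfl
theorem L6468 : sm gd N1265 = N630 := flp_d L6467
theorem L6469 : sm gb N1265 = N631 := ded_14_1 L3249 L3244 L6467
theorem L6470 : sm gb N631 = N1265 := flp_b L6469
theorem L6471 : sm gf N630 = N1266 := rfl
theorem L6472 : sm gf N1266 = N630 := flp_f L6471
theorem L6473 : sm gb N1266 = N633 := ded_16_1 L3259 L3244 L6471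
theorem L6474 : sm gb N633 = N1266 := flp_b L6473
theorem L6475 : sm gc N1266 = N711 := ded_20_1 L3658 L3247 L6471
theorem L6476 : sm gc N711 = N1266 := flp_c L6475
theorem L6477 : sm gg N630 = N1267 := rfl
theorem L6478 : sm gg N1267 = N630 := flp_g L6477
theorem L6479 : sm gb N1267 = N634 := ded_17_1 L3265 L3244 L6477
theorem L6480 : sm gb N634 = N1267 := flp_b L6479
theorem L6481 : sm gc N1267 = N712 := ded_21_1 L3666 L3247 L6477
theorem L6482 : sm gc N712 = N1267 := flp_c L6481
theorem L6483 : sm ge N631 = N1268 := rfl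
theorem L6484 : sm ge N1268 = N631 := flp_e L6483
theorem L6485 : sm ga N1268 = N649 := ded_10_1 L3369 L3251 L6483
theorem L6486 : sm ga N649 = N1268 := flp_a L6485
theorem L6487 : sm gf N631 = N1269 := rfl
theorem L6488 : sm gf N1269 = N631 := flp_f L6487
theorem L6489 : sm ga N1269 = N650 := ded_11_1 L3371 L3251 L6487
theorem L6490 : sm ga N650 = N1269 := flp_a L6489
theorem L6491 : sm gg N631 = N1270 := rfl
theorem L6492 : sm gg N1270 = N631 := flp_g L6491
theorem L6493 : sm ga N1270 = N651 := ded_12_1 L3373 L3251 L6491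
theorem L6494 : sm ga N651 = N1270 := flp_a L6493
theorem L6495 : sm gd N632 = N1271 := rfl
theorem L6496 : sm gd N1271 = N632 := flp_d L6495
theorem L6497 : sm ga N1271 = N652 := ded_9_1 L3375 L3255 L6495
theorem L6498 : sm ga N652 = N1271 := flp_a L6497
theorem L6499 : sm gf N632 = N1272 := rfl
theorem L6500 : sm gf N1272 = N632 := flp_f L6499
theorem L6501 : sm ga N1272 = N653 := ded_11_1 L3377 L3255 L6499
theorem L6502 : sm ga N653 = N1272 := flp_a L6501
theorem L6505 : sm ge N1272 = N633 := ded_25_1 L3259 L3252 L6499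
theorem L6506 : sm ge N633 = N1272 := flp_e L6505
theorem L6507 : sm gg N632 = N1273 := rfl
theorem L6508 : sm gg N1273 = N632 := flp_g L6507
theorem L6509 : sm ga N1273 = N654 := ded_12_1 L3383 L3255 L6507
theorem L6510 : sm ga N654 = N1273 := flp_a L6509
theorem L6513 : sm ge N1273 = N634 := ded_26_1 L3265 L3252 L6507
theorem L6514 : sm ge N634 = N1273 := flp_e L6513
theorem L6515 : sm gd N633 = N1274 := rfl
theorem L6516 : sm gd N1274 = N633 := flp_d L6515
theorem L6517 : sm ga N1274 = N655 := ded_9_1 L3389 L3261 L6515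
theorem L6518 : sm ga N655 = N1274 := flp_a L6517
theorem L6519 : sm gg N633 = N1275 := rfl
theorem L6520 : sm gg N1275 = N633 := flp_g L6519
theorem L6521 : sm ga N1275 = N656 := ded_12_1 L3391 L3261 L6519
theorem L6522 : sm ga N656 = N1275 := flp_a L6521
theorem L6523 : sm gc N1275 = N638 := ded_21_1 L3297 L3263 L6519
theorem L6524 : sm gc N638 = N1275 := flp_c L6523
theorem L6525 : sm gf N1273 = N1275 := ded_28_0 L6520 L3259 L3264 L6514
theorem L6526 : sm gf N1275 = N1273 := flp_f L6525
theorem L6527 : sm gd N634 = N1276 := rfl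
theorem L6528 : sm gd N1276 = N634 := flp_d L6527
theorem L6529 : sm ga N1276 = N657 := ded_9_1 L3397 L3267 L6527
theorem L6530 : sm ga N657 = N1276 := flp_a L6529
theorem L6531 : sm gf N634 = N1277 := rfl
theorem L6532 : sm gf N1277 = N634 := flp_f L6531
theorem L6533 : sm ga N1277 = N658 := ded_11_1 L3399 L3267 L6531
theorem L6534 : sm ga N658 = N1277 := flp_a L6533
theorem L6535 : sm gc N1277 = N639 := ded_20_1 L3305 L3269 L6531
theorem L6536 : sm gc N639 = N1277 := flp_c L6535
theorem L6537 : sm ge N1277 = N1275 := ded_25_1 L6526 L6513 L6531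
theorem L6538 : sm ge N1275 = N1277 := flp_e L6537
theorem L6539 : sm gg N1277 = N1272 := ded_28_3 L6505 L3259 L3264 L6531
theorem L6540 : sm gg N1272 = N1277 := flp_g L6539
theorem L6541 : sm gd N1277 = N1275 := ded_31_2 L6523 L3297 L1652 L834 L424 L224 L485 L495 L440 L850 L840 L833 L1639 L3264 L6531
theorem L6542 : sm gd N1275 = N1277 := flp_d L6541
theorem L6543 : sm gd N635 = N1278 := rfl
theorem L6544 : sm gd N1278 = N635 := flp_d L6543
theorem L6545 : sm ga N1278 = N659 := ded_9_1 L3409 L3273 L6543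
theorem L6546 : sm ga N659 = N1278 := flp_a L6545
theorem L6547 : sm gb N1278 = N694 := ded_14_1 L3578 L3275 L6543
theorem L6548 : sm gb N694 = N1278 := flp_b L6547
theorem L6549 : sm gf N1278 = N659 := ded_23_2 L3409 L1689 L1650 L3270 L6543
theorem L6550 : sm gf N659 = N1278 := flp_f L6549
theorem L6551 : sm gd N636 = N1279 := rfl
theorem L6552 : sm gd N1279 = N636 := flp_d L6551
theorem L6553 : sm ga N1279 = N660 := ded_9_1 L3413 L3281 L6551
theorem L6554 : sm ga N660 = N1279 := flp_a L6553
theorem L6555 : sm gb N1279 = N695 := ded_14_1 L3583 L3283 L6551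
theorem L6556 : sm gb N695 = N1279 := flp_b L6555
theorem L6557 : sm ge N1279 = N1279 := ded_22_2 L6552 L3284 L1663 L3285 L6551
theorem L6558 : sm gg N1279 = N660 := ded_24_2 L3413 L1695 L1650 L3278 L6551
theorem L6560 : sm gc N637 = N1280 := rfl
theorem L6562 : sm ga N1280 = N661 := ded_8_1 L3418 L3289 L6560
theorem L6563 : sm ga N661 = N1280 := flp_a L6562
theorem L6564 : sm gf N1280 = N640 := ded_20_2 L3315 L3293 L6560
theorem L6565 : sm gf N640 = N1280 := flp_f L6564
theorem L6566 : sm gg N1280 = N858 := ded_21_2 L4401 L3294 L6560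
theorem L6567 : sm gg N858 = N1280 := flp_g L6566
theorem L6568 : sm gb N1280 = N861 := ded_13_1 L4417 L2292 L1867 L3291 L6560
theorem L6569 : sm gb N861 = N1280 := flp_b L6568
theorem L6580 : sm gd N638 = N1282 := rfl
theorem L6582 : sm ga N1282 = N664 := ded_9_1 L3438 L3299 L6580
theorem L6583 : sm ga N664 = N1282 := flp_a L6582
theorem L6584 : sm gb N1282 = N719 := ded_14_1 L3708 L3301 L6580
theorem L6585 : sm gb N719 = N1282 := flp_b L6584
theorem L6586 : sm gg N1282 = N1026 := ded_24_2 L5234 L3294 L3287 L3296 L6580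
theorem L6587 : sm gg N1026 = N1282 := flp_g L6586
theorem L6588 : sm gd N639 = N1283 := rfl
theorem L6589 : sm gd N1283 = N639 := flp_d L6588
theorem L6590 : sm ga N1283 = N665 := ded_9_1 L3442 L3307 L6588
theorem L6591 : sm ga N665 = N1283 := flp_a L6590
theorem L6592 : sm gb N1283 = N720 := ded_14_1 L3713 L3309 L6588
theorem L6593 : sm gb N720 = N1283 := flp_b L6592
theorem L6594 : sm gf N1283 = N1283 := ded_23_2 L6589 L3305 L1663 L3304 L6588
theorem L6595 : sm gb N640 = N1284 := rfl
theorem L6596 : sm gb N1284 = N640 := flp_b L6595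
theorem L6597 : sm gf N1284 = N861 := ded_16_2 L6569 L6564 L6595
theorem L6598 : sm gf N861 = N1284 := flp_f L6597
theorem L6599 : sm gc N1284 = N721 := ded_13_2 L3717 L1881 L1669 L3314 L6595
theorem L6600 : sm gc N721 = N1284 := flp_c L6599
theorem L6601 : sm gd N640 = N1285 := rfl
theorem L6602 : sm gd N1285 = N640 := flp_d L6601
theorem L6603 : sm ga N1285 = N667 := ded_9_1 L3451 L3317 L6601
theorem L6604 : sm ga N667 = N1285 := flp_a L6603
theorem L6605 : sm gc N1285 = N1285 := ded_30_0 L6602 L3315 L1665 L845 L495 L440 L866 L1720 L3450 L6604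
theorem L6606 : sm ge N640 = N1286 := rfl
theorem L6607 : sm ge N1286 = N640 := flp_e L6606
theorem L6608 : sm ga N1286 = N668 := ded_10_1 L3454 L3317 L6606
theorem L6609 : sm ga N668 = N1286 := flp_a L6608
theorem L6610 : sm gc N1286 = N641 := ded_19_1 L3319 L3314 L6606
theorem L6612 : sm gg N640 = N1287 := rfl
theorem L6613 : sm gg N1287 = N640 := flp_g L6612
theorem L6614 : sm ga N1287 = N669 := ded_12_1 L3458 L3317 L6612
theorem L6615 : sm ga N669 = N1287 := flp_a L6614
theorem L6618 : sm gd N643 = N1288 := rfl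
theorem L6620 : sm ga N1288 = N644 := ded_9_1 L3343 L3334 L6618
theorem L6621 : sm ga N644 = N1288 := flp_a L6620
theorem L6622 : sm gb N1288 = N1271 := ded_14_1 L6496 L3339 L6618
theorem L6623 : sm gb N1271 = N1288 := flp_b L6622
theorem L6624 : sm gf N643 = N1289 := rfl
theorem L6626 : sm ga N1289 = N646 := ded_11_1 L3355 L3334 L6624
theorem L6627 : sm ga N646 = N1289 := flp_a L6626
theorem L6628 : sm gb N1289 = N1272 := ded_16_1 L6500 L3339 L6624
theorem L6629 : sm gb N1272 = N1289 := flp_b L6628
theorem L6630 : sm gc N1289 = N671 := ded_20_1 L3470 L3337 L6624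
theorem L6632 : sm ge N1289 = N1266 := ded_25_1 L6472 L3340 L6624
theorem L6634 : sm gg N643 = N1290 := rfl
theorem L6636 : sm ga N1290 = N647 := ded_12_1 L3361 L3334 L6634
theorem L6637 : sm ga N647 = N1290 := flp_a L6636
theorem L6638 : sm gb N1290 = N1273 := ded_17_1 L6508 L3339 L6634
theorem L6639 : sm gb N1273 = N1290 := flp_b L6638
theorem L6642 : sm ge N1290 = N1267 := ded_26_1 L6478 L3340 L6634
theorem L6643 : sm ge N1267 = N1290 := flp_e L6642
theorem L6644 : sm gc N644 = N1291 := rfl
theorem L6645 : sm gc N1291 = N644 := flp_c L6644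
theorem L6646 : sm ge N644 = N1292 := rfl
theorem L6647 : sm ge N1292 = N644 := flp_e L6646
theorem L6648 : sm gb N1292 = N649 := ded_15_1 L3369 L3345 L6646
theorem L6649 : sm gb N649 = N1292 := flp_b L6648
theorem L6650 : sm gf N644 = N1293 := rfl
theorem L6651 : sm gf N1293 = N644 := flp_f L6650
theorem L6652 : sm gb N1293 = N650 := ded_16_1 L3371 L3345 L6650
theorem L6653 : sm gb N650 = N1293 := flp_b L6652
theorem L6654 : sm gg N644 = N1294 := rfl
theorem L6655 : sm gg N1294 = N644 := flp_g L6654
theorem L6656 : sm gb N1294 = N651 := ded_17_1 L3373 L3345 L6654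
theorem L6657 : sm gb N651 = N1294 := flp_b L6656
theorem L6658 : sm gd N645 = N1295 := rfl
theorem L6659 : sm gd N1295 = N645 := flp_d L6658
theorem L6660 : sm ga N1295 = N1265 := ded_9_1 L6468 L3349 L6658
theorem L6661 : sm ga N1265 = N1295 := flp_a L6660
theorem L6662 : sm gb N1295 = N652 := ded_14_1 L3375 L3351 L6658
theorem L6663 : sm gb N652 = N1295 := flp_b L6662
theorem L6664 : sm gf N645 = N1296 := rfl
theorem L6666 : sm ga N1296 = N1266 := ded_11_1 L6472 L3349 L6664
theorem L6667 : sm ga N1266 = N1296 := flp_a L6666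
theorem L6668 : sm gb N1296 = N653 := ded_16_1 L3377 L3351 L6664
theorem L6669 : sm gb N653 = N1296 := flp_b L6668
theorem L6672 : sm ge N1296 = N646 := ded_25_1 L3355 L3346 L6664
theorem L6674 : sm gg N645 = N1297 := rfl
theorem L6676 : sm ga N1297 = N1267 := ded_12_1 L6478 L3349 L6674
theorem L6677 : sm ga N1267 = N1297 := flp_a L6676
theorem L6678 : sm gb N1297 = N654 := ded_17_1 L3383 L3351 L6674
theorem L6679 : sm gb N654 = N1297 := flp_b L6678
theorem L6680 : sm gc N1297 = N675 := ded_21_1 L3488 L3353 L6674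
theorem L6682 : sm ge N1297 = N647 := ded_26_1 L3361 L3346 L6674
theorem L6683 : sm ge N647 = N1297 := flp_e L6682
theorem L6684 : sm gd N646 = N1298 := rfl
theorem L6685 : sm gd N1298 = N646 := flp_d L6684
theorem L6686 : sm gb N1298 = N655 := ded_14_1 L3389 L3357 L6684
theorem L6687 : sm gb N655 = N1298 := flp_b L6686
theorem L6688 : sm gg N646 = N1299 := rfl
theorem L6689 : sm gg N1299 = N646 := flp_g L6688
theorem L6690 : sm gb N1299 = N656 := ded_17_1 L3391 L3357 L6688
theorem L6691 : sm gb N656 = N1299 := flp_b L6690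
theorem L6692 : sm gc N1299 = N677 := ded_21_1 L3498 L3359 L6688
theorem L6693 : sm gc N677 = N1299 := flp_c L6692
theorem L6694 : sm gf N1297 = N1299 := ded_28_0 L6689 L3355 L3360 L6683
theorem L6695 : sm gf N1299 = N1297 := flp_f L6694
theorem L6696 : sm gd N647 = N1300 := rfl
theorem L6697 : sm gd N1300 = N647 := flp_d L6696
theorem L6698 : sm gb N1300 = N657 := ded_14_1 L3397 L3363 L6696
theorem L6699 : sm gb N657 = N1300 := flp_b L6698
theorem L6700 : sm gf N647 = N1301 := rfl
theorem L6702 : sm gb N1301 = N658 := ded_16_1 L3399 L3363 L6700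
theorem L6703 : sm gb N658 = N1301 := flp_b L6702
theorem L6704 : sm gc N1301 = N679 := ded_20_1 L3508 L3365 L6700
theorem L6705 : sm gc N679 = N1301 := flp_c L6704
theorem L6708 : sm gg N1301 = N1296 := ded_28_3 L6672 L3355 L3360 L6700
theorem L6710 : sm gd N1299 = N1301 := ded_14_0 L6702 L3406 L6691
theorem L6711 : sm gd N1301 = N1299 := flp_d L6710
theorem L6712 : sm gb N648 = N1302 := rfl
theorem L6713 : sm gb N1302 = N648 := flp_b L6712
theorem L6714 : sm ge N648 = N1303 := rfl
theorem L6715 : sm ge N1303 = N648 := flp_e L6714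
theorem L6716 : sm gc N1303 = N649 := ded_19_1 L3369 L3366 L6714
theorem L6717 : sm gc N649 = N1303 := flp_c L6716
theorem L6718 : sm gf N648 = N1304 := rfl
theorem L6719 : sm gf N1304 = N648 := flp_f L6718
theorem L6720 : sm gc N1304 = N650 := ded_20_1 L3371 L3366 L6718
theorem L6721 : sm gc N650 = N1304 := flp_c L6720
theorem L6722 : sm gg N648 = N1305 := rfl
theorem L6723 : sm gg N1305 = N648 := flp_g L6722
theorem L6724 : sm gc N1305 = N651 := ded_21_1 L3373 L3366 L6722
theorem L6725 : sm gc N651 = N1305 := flp_c L6724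
theorem L6726 : sm gd N649 = N1306 := rfl
theorem L6727 : sm gd N1306 = N649 := flp_d L6726
theorem L6728 : sm ge N1306 = N652 := ded_22_2 L3375 L1677 L1674 L3368 L6726
theorem L6729 : sm ge N652 = N1306 := flp_e L6728
theorem L6730 : sm gf N649 = N1307 := rfl
theorem L6731 : sm gf N1307 = N649 := flp_f L6730
theorem L6732 : sm ge N1307 = N650 := ded_25_1 L3371 L3368 L6730
theorem L6733 : sm ge N650 = N1307 := flp_e L6732
theorem L6734 : sm gg N649 = N1308 := rfl
theorem L6735 : sm gg N1308 = N649 := flp_g L6734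
theorem L6736 : sm ge N1308 = N651 := ded_26_1 L3373 L3368 L6734
theorem L6737 : sm ge N651 = N1308 := flp_e L6736
theorem L6738 : sm gd N650 = N1309 := rfl
theorem L6739 : sm gd N1309 = N650 := flp_d L6738
theorem L6740 : sm gf N1309 = N655 := ded_23_2 L3389 L1681 L1674 L3370 L6738
theorem L6741 : sm gf N655 = N1309 := flp_f L6740
theorem L6742 : sm gg N650 = N1310 := rfl
theorem L6743 : sm gg N1310 = N650 := flp_g L6742
theorem L6744 : sm gf N1308 = N1310 := ded_28_0 L6743 L3371 L3372 L6737
theorem L6745 : sm gf N1310 = N1308 := flp_f L6744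
theorem L6746 : sm gd N651 = N1311 := rfl
theorem L6747 : sm gd N1311 = N651 := flp_d L6746
theorem L6748 : sm gg N1311 = N657 := ded_24_2 L3397 L1685 L1674 L3372 L6746
theorem L6749 : sm gg N657 = N1311 := flp_g L6748
theorem L6750 : sm gf N651 = N1312 := rfl
theorem L6751 : sm gf N1312 = N651 := flp_f L6750
theorem L6752 : sm ge N1312 = N1310 := ded_25_1 L6745 L6736 L6750
theorem L6753 : sm ge N1310 = N1312 := flp_e L6752
theorem L6754 : sm gg N1312 = N1307 := ded_28_3 L6732 L3371 L3372 L6750
theorem L6755 : sm gg N1307 = N1312 := flp_g L6754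
theorem L6756 : sm gc N652 = N1313 := rfl
theorem L6757 : sm gc N1313 = N652 := flp_c L6756
theorem L6758 : sm gf N652 = N1314 := rfl
theorem L6759 : sm gf N1314 = N652 := flp_f L6758
theorem L6760 : sm gg N652 = N1315 := rfl
theorem L6761 : sm gg N1315 = N652 := flp_g L6760
theorem L6762 : sm gd N653 = N1316 := rfl
theorem L6763 : sm gd N1316 = N653 := flp_d L6762
theorem L6764 : sm gg N1316 = N655 := ded_24_2 L3389 L3390 L3407 L3404 L6762
theorem L6765 : sm gg N655 = N1316 := flp_g L6764
theorem L6766 : sm gd N654 = N1317 := rfl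
theorem L6767 : sm gd N1317 = N654 := flp_d L6766
theorem L6768 : sm gf N1317 = N657 := ded_23_2 L3397 L3398 L3406 L3395 L6766
theorem L6769 : sm gf N657 = N1317 := flp_f L6768
theorem L6770 : sm gc N655 = N1318 := rfl
theorem L6771 : sm gc N1318 = N655 := flp_c L6770
theorem L6772 : sm ge N655 = N1319 := rfl
theorem L6773 : sm ge N1319 = N655 := flp_e L6772
theorem L6774 : sm gc N657 = N1320 := rfl
theorem L6775 : sm gc N1320 = N657 := flp_c L6774
theorem L6776 : sm ge N657 = N1321 := rfl
theorem L6777 : sm ge N1321 = N657 := flp_e L6776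
theorem L6778 : sm gc N659 = N1322 := rfl
theorem L6779 : sm gc N1322 = N659 := flp_c L6778
theorem L6780 : sm ge N659 = N1323 := rfl
theorem L6781 : sm ge N1323 = N659 := flp_e L6780
theorem L6782 : sm gb N1323 = N697 := ded_15_1 L3592 L3411 L6780
theorem L6784 : sm gd N1323 = N662 := ded_22_1 L3422 L1701 L1693 L3408 L6780
theorem L6785 : sm gd N662 = N1323 := flp_d L6784
theorem L6790 : sm gc N660 = N1325 := rfl
theorem L6791 : sm gc N1325 = N660 := flp_c L6790
theorem L6792 : sm ge N1325 = N1325 := ded_19_2 L6791 L3416 L6790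
theorem L6793 : sm gf N660 = N1326 := rfl
theorem L6794 : sm gf N1326 = N660 := flp_f L6793
theorem L6797 : sm ge N1326 = N1326 := ded_25_1 L6794 L3416 L6793
theorem L6798 : sm gb N661 = N1327 := rfl
theorem L6799 : sm gb N1327 = N661 := flp_b L6798
theorem L6800 : sm gf N1327 = N666 := ded_16_2 L3447 L3420 L6798
theorem L6801 : sm gf N666 = N1327 := flp_f L6800
theorem L6804 : sm gg N1327 = N839 := ded_28_3 L4302 L4305 L4312 L6801
theorem L6805 : sm gg N839 = N1327 := flp_g L6804
theorem L6806 : sm ge N835 = N1327 := ded_28_4 L6800 L4311 L4306 L4288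
theorem L6808 : sm gd N661 = N1328 := rfl
theorem L6809 : sm gd N1328 = N661 := flp_d L6808
theorem L6810 : sm ge N661 = N1329 := rfl
theorem L6811 : sm ge N1329 = N661 := flp_e L6810
theorem L6816 : sm gf N1329 = N668 := ded_25_2 L3454 L3420 L6810
theorem L6817 : sm gf N668 = N1329 := flp_f L6816
theorem L6818 : sm gg N837 = N1329 := ded_28_3 L6811 L3419 L3457 L4297
theorem L6819 : sm gg N1329 = N837 := flp_g L6818
theorem L6820 : sm gg N661 = N1330 := rfl
theorem L6821 : sm gg N1330 = N661 := flp_g L6820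
theorem L6822 : sm ga N1330 = N858 := ded_12_1 L6567 L6562 L6820
theorem L6823 : sm ga N858 = N1330 := flp_a L6822
theorem L6824 : sm gb N1330 = N839 := ded_17_1 L6805 L6799 L6820
theorem L6825 : sm gb N839 = N1330 := flp_b L6824
theorem L6826 : sm gc N1330 = N663 := ded_21_1 L3430 L3417 L6820
theorem L6828 : sm ge N1330 = N837 := ded_26_1 L6818 L6811 L6820
theorem L6829 : sm ge N837 = N1330 := flp_e L6828
theorem L6830 : sm gd N663 = N1331 := rfl
theorem L6832 : sm ga N1331 = N1026 := ded_9_1 L5234 L3432 L6830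
theorem L6833 : sm ga N1026 = N1331 := flp_a L6832
theorem L6836 : sm gg N1331 = N664 := ded_24_2 L3438 L1707 L1700 L3429 L6830
theorem L6837 : sm gg N664 = N1331 := flp_g L6836
theorem L6838 : sm gc N664 = N1332 := rfl
theorem L6839 : sm gc N1332 = N664 := flp_c L6838
theorem L6840 : sm ge N664 = N1333 := rfl
theorem L6841 : sm ge N1333 = N664 := flp_e L6840
theorem L6842 : sm gb N1333 = N705 := ded_15_1 L3629 L3440 L6840
theorem L6850 : sm gc N665 = N1335 := rfl
theorem L6851 : sm gc N1335 = N665 := flp_c L6850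
theorem L6853 : sm ge N665 = N1336 := rfl
theorem L6854 : sm ge N1336 = N665 := flp_e L6853
theorem L6855 : sm gb N1336 = N708 := ded_15_1 L3641 L3444 L6853
theorem L6856 : sm gb N708 = N1336 := flp_b L6855
theorem L6857 : sm gf N1336 = N1336 := ded_25_2 L6854 L3445 L6853
theorem L6860 : sm gg N665 = N1337 := rfl
theorem L6861 : sm gg N1337 = N665 := flp_g L6860
theorem L6862 : sm gb N1337 = N709 := ded_17_1 L3647 L3444 L6860
theorem L6863 : sm gb N709 = N1337 := flp_b L6862
theorem L6866 : sm ga N666 = N1338 := rfl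
theorem L6867 : sm ga N1338 = N666 := flp_a L6866
theorem L6868 : sm gc N1338 = N723 := ded_8_2 L3724 L3449 L6866
theorem L6870 : sm gg N1338 = N855 := ded_12_2 L4381 L4312 L6866
theorem L6872 : sm gb N1338 = N1286 := ded_29_4 L6610 L3320 L1724 L1905 L1902 L934 L1895 L3449 L6866
theorem L6873 : sm gb N1286 = N1338 := flp_b L6872
theorem L6874 : sm ge N1284 = N1338 := ded_29_9 L6867 L3447 L1721 L1667 L1668 L1880 L1882 L3716 L6600
theorem L6876 : sm gd N666 = N1339 := rfl
theorem L6877 : sm gd N1339 = N666 := flp_d L6876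
theorem L6878 : sm gb N1339 = N667 := ded_14_1 L3451 L3446 L6876
theorem L6879 : sm gb N667 = N1339 := flp_b L6878
theorem L6880 : sm ge N666 = N1340 := rfl
theorem L6881 : sm ge N1340 = N666 := flp_e L6880
theorem L6882 : sm ga N1340 = N1284 := ded_10_1 L6874 L6867 L6880
theorem L6883 : sm ga N1284 = N1340 := flp_a L6882
theorem L6884 : sm gb N1340 = N668 := ded_15_1 L3454 L3446 L6880
theorem L6885 : sm gb N668 = N1340 := flp_b L6884
theorem L6886 : sm gc N1340 = N725 := ded_19_1 L3736 L3449 L6880
theorem L6887 : sm gc N725 = N1340 := flp_c L6886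
theorem L6888 : sm gf N1340 = N835 := ded_25_2 L6806 L6800 L6880
theorem L6889 : sm gf N835 = N1340 := flp_f L6888
theorem L6890 : sm ge N667 = N1341 := rfl
theorem L6891 : sm ge N1341 = N667 := flp_e L6890
theorem L6892 : sm gc N1341 = N1341 := ded_19_1 L6891 L3452 L6890
theorem L6893 : sm gf N667 = N1342 := rfl
theorem L6894 : sm gf N1342 = N667 := flp_f L6893
theorem L6895 : sm gc N1342 = N1342 := ded_20_1 L6894 L3452 L6893
theorem L6896 : sm gg N667 = N1343 := rfl
theorem L6897 : sm gg N1343 = N667 := flp_g L6896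
theorem L6898 : sm gc N1343 = N1343 := ded_21_1 L6897 L3452 L6896
theorem L6899 : sm gd N668 = N1344 := rfl
theorem L6900 : sm gd N1344 = N668 := flp_d L6899
theorem L6901 : sm gg N668 = N1345 := rfl
theorem L6902 : sm gg N1345 = N668 := flp_g L6901
theorem L6903 : sm gc N1345 = N670 := ded_21_1 L3462 L3456 L6901
theorem L6904 : sm gc N670 = N1345 := flp_c L6903
theorem L6907 : sm gf N1330 = N1345 := ded_28_0 L6902 L6817 L6819 L6829
theorem L6908 : sm gf N1345 = N1330 := flp_f L6907
theorem L6909 : sm gd N669 = N1346 := rfl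
theorem L6910 : sm gd N1346 = N669 := flp_d L6909
theorem L6915 : sm gd N671 = N1348 := rfl
theorem L6916 : sm gd N1348 = N671 := flp_d L6915
theorem L6917 : sm ga N1348 = N676 := ded_9_1 L3494 L3472 L6915
theorem L6918 : sm ga N676 = N1348 := flp_a L6917
theorem L6919 : sm gb N1348 = N686 := ded_14_1 L3566 L3558 L6915
theorem L6920 : sm gb N686 = N1348 := flp_b L6919
theorem L6921 : sm gg N676 = N1348 := ded_17_0 L6919 L3534 L3496
theorem L6923 : sm gg N671 = N1349 := rfl
theorem L6924 : sm gg N1349 = N671 := flp_g L6923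
theorem L6925 : sm ga N1349 = N677 := ded_12_1 L3498 L3472 L6923
theorem L6929 : sm gf N712 = N1349 := ded_28_0 L6924 L3470 L3473 L3672
theorem L6930 : sm gf N1349 = N712 := flp_f L6929
theorem L6931 : sm gd N1349 = N677 := ded_24_1 L3498 L3493 L6921 L6916 L6923
theorem L6932 : sm gd N677 = N1349 := flp_d L6931
theorem L6937 : sm gf N672 = N1351 := rfl
theorem L6939 : sm ga N1351 = N679 := ded_11_1 L3508 L3476 L6937
theorem L6940 : sm ga N679 = N1351 := flp_a L6939
theorem L6941 : sm gb N1351 = N716 := ded_16_1 L3692 L3571 L6937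
theorem L6942 : sm gb N716 = N1351 := flp_b L6941
theorem L6943 : sm ge N1351 = N1349 := ded_25_1 L6930 L3671 L6937
theorem L6944 : sm ge N1349 = N1351 := flp_e L6943
theorem L6945 : sm gg N1351 = N711 := ded_28_3 L3663 L3470 L3473 L6937
theorem L6946 : sm gg N711 = N1351 := flp_g L6945
theorem L6949 : sm gf N673 = N1353 := rfl
theorem L6950 : sm gf N1353 = N673 := flp_f L6949
theorem L6953 : sm gg N673 = N1354 := rfl
theorem L6954 : sm gg N1354 = N673 := flp_g L6953
theorem L6957 : sm gd N674 = N1355 := rfl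
theorem L6958 : sm gd N1355 = N674 := flp_d L6957
theorem L6959 : sm gb N1355 = N682 := ded_14_1 L3522 L3484 L6957
theorem L6960 : sm gb N682 = N1355 := flp_b L6959
theorem L6961 : sm gd N675 = N1356 := rfl
theorem L6962 : sm gd N1356 = N675 := flp_d L6961
theorem L6963 : sm gb N1356 = N683 := ded_14_1 L3525 L3490 L6961
theorem L6964 : sm gb N683 = N1356 := flp_b L6963
theorem L6965 : sm gc N676 = N1357 := rfl
theorem L6966 : sm gc N1357 = N676 := flp_c L6965
theorem L6971 : sm gc N678 = N1359 := rfl
theorem L6972 : sm gc N1359 = N678 := flp_c L6971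
theorem L6977 : sm gf N678 = N1361 := rfl
theorem L6978 : sm gf N1361 = N678 := flp_f L6977
theorem L6979 : sm gb N1361 = N690 := ded_16_1 L3550 L3506 L6977
theorem L6980 : sm gb N690 = N1361 := flp_b L6979
theorem L6981 : sm gd N679 = N1362 := rfl
theorem L6982 : sm gd N1362 = N679 := flp_d L6981
theorem L6983 : sm gb N1362 = N691 := ded_14_1 L3553 L3510 L6981
theorem L6984 : sm gb N691 = N1362 := flp_b L6983
theorem L6985 : sm gc N1362 = N1362 := ded_30_4 L6982 L6705 L6711 L6692 L6932 L6925 L6693 L6710 L6704 L6981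
theorem L6986 : sm gd N680 = N1363 := rfl
theorem L6987 : sm gd N1363 = N680 := flp_d L6986
theorem L6988 : sm ga N1363 = N1363 := ded_9_1 L6987 L3517 L6986
theorem L6989 : sm gf N1363 = N682 := ded_23_2 L3522 L1748 L1744 L3515 L6986
theorem L6990 : sm gf N682 = N1363 := flp_f L6989
theorem L6991 : sm gg N680 = N1364 := rfl
theorem L6992 : sm gg N1364 = N680 := flp_g L6991
theorem L6994 : sm gf N1201 = N1364 := ded_28_0 L6992 L3516 L3518 L6132
theorem L6995 : sm gf N1364 = N1201 := flp_f L6994
theorem L6996 : sm gd N681 = N1365 := rfl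
theorem L6997 : sm gd N1365 = N681 := flp_d L6996
theorem L6999 : sm gg N1365 = N683 := ded_24_2 L3525 L1755 L1744 L3518 L6996
theorem L7000 : sm gg N683 = N1365 := flp_g L6999
theorem L7001 : sm gc N907 = N1365 := ded_31_15 L6999 L3697 L3694 L1857 L926 L922 L1859 L1866 L1335 L1318 L1315 L1306 L2617 L2625 L4630
theorem L7002 : sm gc N1365 = N907 := flp_c L7001
theorem L7003 : sm gf N681 = N1366 := rfl
theorem L7004 : sm gf N1366 = N681 := flp_f L7003
theorem L7006 : sm gc N1366 = N1364 := ded_20_1 L6995 L6129 L7003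
theorem L7007 : sm gc N1364 = N1366 := flp_c L7006
theorem L7008 : sm ge N1366 = N1364 := ded_25_1 L6995 L6131 L7003
theorem L7010 : sm gg N1366 = N1200 := ded_28_3 L6124 L3516 L3518 L7003
theorem L7011 : sm gg N1200 = N1366 := flp_g L7010
theorem L7012 : sm gc N682 = N1367 := rfl
theorem L7013 : sm gc N1367 = N682 := flp_c L7012
theorem L7014 : sm ga N1367 = N1367 := ded_8_1 L7013 L3523 L7012
theorem L7015 : sm ge N682 = N1368 := rfl
theorem L7016 : sm ge N1368 = N682 := flp_e L7015
theorem L7018 : sm gd N1368 = N685 := ded_22_1 L3531 L1762 L1753 L3521 L7015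
theorem L7019 : sm gd N685 = N1368 := flp_d L7018
theorem L7020 : sm gg N682 = N1369 := rfl
theorem L7021 : sm gg N1369 = N682 := flp_g L7020
theorem L7023 : sm gc N683 = N1370 := rfl
theorem L7024 : sm gc N1370 = N683 := flp_c L7023
theorem L7026 : sm gg N1370 = N907 := ded_21_2 L7001 L6999 L7023
theorem L7027 : sm gg N907 = N1370 := flp_g L7026
theorem L7028 : sm gd N1012 = N1370 := ded_24_5 L7026 L4631 L2375 L2602 L5166
theorem L7030 : sm ge N683 = N1371 := rfl
theorem L7031 : sm ge N1371 = N683 := flp_e L7030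
theorem L7033 : sm gd N1371 = N689 := ded_22_1 L3547 L1772 L1760 L3524 L7030
theorem L7035 : sm gb N684 = N1372 := rfl
theorem L7036 : sm gb N1372 = N684 := flp_b L7035
theorem L7037 : sm gd N684 = N1373 := rfl
theorem L7038 : sm gd N1373 = N684 := flp_d L7037
theorem L7040 : sm ge N684 = N1374 := rfl
theorem L7041 : sm ge N1374 = N684 := flp_e L7040
theorem L7043 : sm gc N1374 = N685 := ded_19_1 L3531 L3527 L7040
theorem L7045 : sm gg N684 = N1375 := rfl
theorem L7046 : sm gg N1375 = N684 := flp_g L7045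
theorem L7047 : sm ga N1375 = N1375 := ded_12_1 L7046 L3529 L7045
theorem L7048 : sm gc N1375 = N686 := ded_21_1 L3534 L3527 L7045
theorem L7049 : sm gc N686 = N1375 := flp_c L7048
theorem L7050 : sm gg N685 = N1376 := rfl
theorem L7053 : sm ge N1376 = N686 := ded_26_1 L3534 L3530 L7050
theorem L7055 : sm gf N1376 = N1206 := ded_28_2 L6150 L6144 L6147 L7050
theorem L7056 : sm gf N1206 = N1376 := flp_f L7055
theorem L7057 : sm gf N686 = N1377 := rfl
theorem L7058 : sm gf N1377 = N686 := flp_f L7057
theorem L7060 : sm ge N1377 = N1206 := ded_25_1 L7056 L7053 L7057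
theorem L7062 : sm gg N1377 = N1205 := ded_28_3 L6145 L3071 L3533 L7057
theorem L7063 : sm gg N1205 = N1377 := flp_g L7062
theorem L7064 : sm gd N1377 = N1212 := ded_23_1 L6172 L3101 L3555 L3567 L7057
theorem L7065 : sm gd N1212 = N1377 := flp_d L7064
theorem L7066 : N1009 = N1373 := coi_31_14 L7038 L3528 L3533 L7057 L7064 L6176 L3182 L3177 L2865 L5672 L5669 L2838 L2591 L2589 L2599 L5153
theorem L7067 : N1373 = N1009 := (eqc rfl L7066 rfl).symm
theorem L7069 : sm gd N1009 = N684 := trfs L7067 L7038 rfl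
theorem L7070 : sm gd N684 = N1009 := flp_d L7069
theorem L7071 : sm gb N688 = N1378 := rfl
theorem L7072 : sm gb N1378 = N688 := flp_b L7071
theorem L7073 : sm gd N688 = N1379 := rfl
theorem L7074 : sm gd N1379 = N688 := flp_d L7073
theorem L7075 : sm ga N1379 = N1379 := ded_9_1 L7074 L3545 L7073
theorem L7076 : sm gc N1379 = N1379 := ded_30_0 L7074 L3544 L1772 L885 L453 L886 L1771 L3543 L7073 L7075
theorem L7077 : sm ge N688 = N1380 := rfl
theorem L7078 : sm ge N1380 = N688 := flp_e L7077
theorem L7080 : sm gc N1380 = N689 := ded_19_1 L3547 L3543 L7077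
theorem L7081 : sm gc N689 = N1380 := flp_c L7080
theorem L7082 : sm gf N688 = N1381 := rfl
theorem L7083 : sm gf N1381 = N688 := flp_f L7082
theorem L7085 : sm gc N1381 = N690 := ded_20_1 L3550 L3543 L7082
theorem L7086 : sm gc N690 = N1381 := flp_c L7085
theorem L7087 : sm gf N689 = N1382 := rfl
theorem L7088 : sm gf N1382 = N689 := flp_f L7087
theorem L7090 : sm ge N1382 = N690 := ded_25_1 L3550 L3546 L7087
theorem L7092 : sm gg N1210 = N1382 := ded_28_1 L7088 L6164 L6161 L6165
theorem L7093 : sm gg N1382 = N1210 := flp_g L7092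
theorem L7094 : sm gd N690 = N1383 := rfl
theorem L7095 : sm gd N1383 = N690 := flp_d L7094
theorem L7097 : sm gf N1383 = N691 := ded_23_2 L3553 L1775 L1771 L3549 L7094
theorem L7098 : sm gf N691 = N1383 := flp_f L7097
theorem L7099 : sm gg N690 = N1384 := rfl
theorem L7100 : sm gg N1384 = N690 := flp_g L7099
theorem L7101 : sm ga N1384 = N1384 := ded_12_1 L7100 L3551 L7099
theorem L7102 : sm ge N1384 = N1210 := ded_26_1 L7092 L7090 L7099
theorem L7103 : sm ge N1210 = N1384 := flp_e L7102
theorem L7104 : sm gf N1209 = N1384 := ded_28_0 L7100 L3550 L3084 L6160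
theorem L7106 : sm gc N691 = N1385 := rfl
theorem L7107 : sm gc N1385 = N691 := flp_c L7106
theorem L7109 : sm gb N1385 = N1385 := ded_13_1 L7107 L6984 L6985 L6983 L7106
theorem L7110 : sm gg N1385 = N733 := ded_31_4 L3774 L1916 L942 L476 L475 L470 L461 L464 L209 L199 L441 L882 L1774 L3552 L7106
theorem L7111 : sm gg N733 = N1385 := flp_g L7110
theorem L7112 : sm ge N691 = N1386 := rfl
theorem L7115 : sm gd N1386 = N716 := ded_22_1 L3689 L3537 L1780 L3552 L7112
theorem L7116 : sm gd N716 = N1386 := flp_d L7115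
theorem L7117 : sm gg N691 = N1387 := rfl
theorem L7118 : sm gg N1387 = N691 := flp_g L7117
theorem L7120 : sm gc N1387 = N733 := ded_21_1 L7111 L7107 L7117
theorem L7122 : sm gd N1387 = N1369 := ded_24_1 L7021 L3522 L1782 L3552 L7117
theorem L7124 : sm gf N731 = N1387 := ded_20_0 L7120 L3774 L3765
theorem L7125 : sm gf N1387 = N731 := flp_f L7124
theorem L7126 : sm gd N693 = N1388 := rfl
theorem L7127 : sm gd N1388 = N693 := flp_d L7126
theorem L7131 : sm gc N694 = N1389 := rfl
theorem L7134 : sm gf N1389 = N696 := ded_20_2 L3589 L3581 L7131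
theorem L7135 : sm gf N696 = N1389 := flp_f L7134
theorem L7136 : sm ge N694 = N1390 := rfl
theorem L7137 : sm ge N1390 = N694 := flp_e L7136
theorem L7139 : sm gf N1390 = N697 := ded_25_2 L3592 L3581 L7136
theorem L7141 : sm gd N1390 = N718 := ded_22_1 L3699 L1860 L1794 L3577 L7136
theorem L7142 : sm gd N718 = N1390 := flp_d L7141
theorem L7143 : sm gg N694 = N1391 := rfl
theorem L7144 : sm gg N1391 = N694 := flp_g L7143
theorem L7146 : sm gc N695 = N1392 := rfl
theorem L7147 : sm gc N1392 = N695 := flp_c L7146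
theorem L7150 : sm gg N1392 = N699 := ded_21_2 L3600 L3587 L7146
theorem L7151 : sm gg N699 = N1392 := flp_g L7150
theorem L7152 : sm gf N695 = N1393 := rfl
theorem L7153 : sm gf N1393 = N695 := flp_f L7152
theorem L7155 : sm ge N1393 = N1393 := ded_25_1 L7153 L3585 L7152
theorem L7156 : sm gg N700 = N1393 := ded_28_3 L7155 L7153 L3586 L3603
theorem L7158 : sm gb N696 = N1394 := rfl
theorem L7159 : sm gb N1394 = N696 := flp_b L7158
theorem L7160 : sm gd N696 = N1395 := rfl
theorem L7161 : sm gd N1395 = N696 := flp_d L7160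
theorem L7163 : sm ge N696 = N1396 := rfl
theorem L7164 : sm ge N1396 = N696 := flp_e L7163
theorem L7165 : sm ga N1396 = N1396 := ded_10_1 L7164 L3590 L7163
theorem L7166 : sm gc N1396 = N697 := ded_19_1 L3592 L3588 L7163
theorem L7167 : sm gc N697 = N1396 := flp_c L7166
theorem L7168 : sm gg N696 = N1397 := rfl
theorem L7169 : sm gg N1397 = N696 := flp_g L7168
theorem L7171 : sm gc N1397 = N698 := ded_21_1 L3597 L3588 L7168
theorem L7172 : sm gc N698 = N1397 := flp_c L7171
theorem L7173 : sm gg N697 = N1398 := rfl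
theorem L7174 : sm gg N1398 = N697 := flp_g L7173
theorem L7176 : sm ge N1398 = N698 := ded_26_1 L3597 L3591 L7173
theorem L7177 : sm ge N698 = N1398 := flp_e L7176
theorem L7178 : sm gf N1398 = N1391 := ded_28_2 L7144 L7136 L7139 L7173
theorem L7179 : sm gf N1391 = N1398 := flp_f L7178
theorem L7180 : sm gd N1398 = N988 := ded_24_1 L5046 L2557 L1823 L3595 L7173
theorem L7181 : sm gd N988 = N1398 := flp_d L7180
theorem L7182 : sm gf N698 = N1399 := rfl
theorem L7183 : sm gf N1399 = N698 := flp_f L7182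
theorem L7185 : sm ge N1399 = N1391 := ded_25_1 L7179 L7176 L7182
theorem L7186 : sm ge N1391 = N1399 := flp_e L7185
theorem L7187 : sm gg N1399 = N1390 := ded_28_3 L7137 L3580 L3596 L7182
theorem L7189 : sm gb N699 = N1400 := rfl
theorem L7190 : sm gb N1400 = N699 := flp_b L7189
theorem L7192 : sm gd N699 = N1401 := rfl
theorem L7193 : sm gd N1401 = N699 := flp_d L7192
theorem L7195 : sm gf N699 = N1402 := rfl
theorem L7196 : sm gf N1402 = N699 := flp_f L7195
theorem L7198 : sm gc N1402 = N700 := ded_20_1 L3604 L3599 L7195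
theorem L7207 : sm gc N702 = N1404 := rfl
theorem L7208 : sm gc N1404 = N702 := flp_c L7207
theorem L7210 : sm ge N1404 = N978 := ded_19_2 L5000 L3619 L7207
theorem L7211 : sm ge N978 = N1404 := flp_e L7210
theorem L7212 : sm gf N702 = N1405 := rfl
theorem L7213 : sm gf N1405 = N702 := flp_f L7212
theorem L7215 : sm ge N1405 = N979 := ded_25_1 L5003 L3619 L7212
theorem L7217 : sm gd N1405 = N727 := ded_23_1 L3748 L1898 L1811 L3615 L7212
theorem L7218 : sm gd N727 = N1405 := flp_d L7217
theorem L7219 : sm gc N703 = N1406 := rfl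
theorem L7220 : sm gc N1406 = N703 := flp_c L7219
theorem L7222 : sm gg N1406 = N704 := ded_21_2 L3626 L3624 L7219
theorem L7223 : sm gg N704 = N1406 := flp_g L7222
theorem L7224 : sm ge N703 = N1407 := rfl
theorem L7225 : sm ge N1407 = N703 := flp_e L7224
theorem L7227 : sm gg N1407 = N705 := ded_26_2 L3629 L3624 L7224
theorem L7228 : sm gg N705 = N1407 := flp_g L7227
theorem L7229 : sm gd N1407 = N986 := ded_22_1 L5038 L2557 L1831 L3620 L7224
theorem L7230 : sm gd N986 = N1407 := flp_d L7229
theorem L7231 : sm gf N703 = N1408 := rfl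
theorem L7232 : sm gf N1408 = N703 := flp_f L7231
theorem L7234 : sm gb N704 = N1409 := rfl
theorem L7235 : sm gb N1409 = N704 := flp_b L7234
theorem L7236 : sm gd N704 = N1410 := rfl
theorem L7237 : sm gd N1410 = N704 := flp_d L7236
theorem L7238 : sm ga N1410 = N1410 := ded_9_1 L7237 L3627 L7236
theorem L7239 : sm ge N704 = N1411 := rfl
theorem L7240 : sm ge N1411 = N704 := flp_e L7239
theorem L7242 : sm gc N1411 = N705 := ded_19_1 L3629 L3625 L7239
theorem L7243 : sm gc N705 = N1411 := flp_c L7242
theorem L7244 : sm gf N704 = N1412 := rfl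
theorem L7245 : sm gf N1412 = N704 := flp_f L7244
theorem L7247 : sm gc N1412 = N706 := ded_20_1 L3632 L3625 L7244
theorem L7248 : sm gc N706 = N1412 := flp_c L7247
theorem L7249 : sm gf N705 = N1413 := rfl
theorem L7250 : sm gf N1413 = N705 := flp_f L7249
theorem L7252 : sm ge N1413 = N706 := ded_25_1 L3632 L3628 L7249
theorem L7253 : sm ge N706 = N1413 := flp_e L7252
theorem L7254 : sm gg N1408 = N1413 := ded_28_1 L7250 L7228 L7225 L7231
theorem L7255 : sm gg N1413 = N1408 := flp_g L7254
theorem L7257 : sm gg N706 = N1414 := rfl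
theorem L7258 : sm gg N1414 = N706 := flp_g L7257
theorem L7260 : sm ge N1414 = N1408 := ded_26_1 L7254 L7252 L7257
theorem L7264 : sm gb N707 = N1415 := rfl
theorem L7265 : sm gb N1415 = N707 := flp_b L7264
theorem L7267 : sm gd N707 = N1416 := rfl
theorem L7268 : sm gd N1416 = N707 := flp_d L7267
theorem L7269 : sm ga N1416 = N1416 := ded_9_1 L7268 L3638 L7267
theorem L7270 : sm ge N707 = N1417 := rfl
theorem L7271 : sm ge N1417 = N707 := flp_e L7270
theorem L7276 : sm gg N707 = N1418 := rfl
theorem L7277 : sm gg N1418 = N707 := flp_g L7276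
theorem L7281 : sm gg N708 = N1419 := rfl
theorem L7282 : sm gg N1419 = N708 := flp_g L7281
theorem L7284 : sm ge N1419 = N709 := ded_26_1 L3647 L3640 L7281
theorem L7285 : sm ge N709 = N1419 := flp_e L7284
theorem L7286 : sm gf N709 = N1419 := ded_28_0 L7282 L3643 L7281 L7284
theorem L7287 : sm gf N1419 = N709 := flp_f L7286
theorem L7293 : sm gf N710 = N1421 := rfl
theorem L7295 : sm ga N1421 = N1353 := ded_11_1 L6950 L3654 L7293
theorem L7296 : sm ga N1353 = N1421 := flp_a L7295
theorem L7297 : sm gb N1421 = N713 := ded_16_1 L3674 L3656 L7293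
theorem L7298 : sm gb N713 = N1421 := flp_b L7297
theorem L7299 : sm gg N710 = N1422 := rfl
theorem L7301 : sm ga N1422 = N1354 := ded_12_1 L6954 L3654 L7299
theorem L7302 : sm ga N1354 = N1422 := flp_a L7301
theorem L7303 : sm gb N1422 = N714 := ded_17_1 L3678 L3656 L7299
theorem L7304 : sm gb N714 = N1422 := flp_b L7303
theorem L7305 : sm gd N711 = N1423 := rfl
theorem L7306 : sm gd N1423 = N711 := flp_d L7305
theorem L7307 : sm ga N1423 = N1355 := ded_9_1 L6958 L3660 L7305
theorem L7308 : sm ga N1355 = N1423 := flp_a L7307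
theorem L7309 : sm gb N1423 = N715 := ded_14_1 L3682 L3662 L7305
theorem L7310 : sm gb N715 = N1423 := flp_b L7309
theorem L7311 : sm gd N712 = N1424 := rfl
theorem L7313 : sm ga N1424 = N1356 := ded_9_1 L6962 L3668 L7311
theorem L7314 : sm ga N1356 = N1424 := flp_a L7313
theorem L7315 : sm gb N1424 = N717 := ded_14_1 L3694 L3670 L7311
theorem L7316 : sm gb N717 = N1424 := flp_b L7315
theorem L7319 : sm gd N713 = N1425 := rfl
theorem L7320 : sm gd N1425 = N713 := flp_d L7319
theorem L7322 : sm gf N1425 = N715 := ded_23_2 L3682 L1850 L1845 L3673 L7319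
theorem L7323 : sm gf N715 = N1425 := flp_f L7322
theorem L7324 : sm gg N713 = N1426 := rfl
theorem L7325 : sm gg N1426 = N713 := flp_g L7324
theorem L7327 : sm gc N1426 = N1426 := ded_21_1 L7325 L3676 L7324
theorem L7330 : sm gd N714 = N1427 := rfl
theorem L7331 : sm gd N1427 = N714 := flp_d L7330
theorem L7333 : sm gg N1427 = N717 := ded_24_2 L3694 L1855 L1845 L3677 L7330
theorem L7334 : sm gg N717 = N1427 := flp_g L7333
theorem L7343 : sm gc N715 = N1429 := rfl
theorem L7344 : sm gc N1429 = N715 := flp_c L7343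
theorem L7346 : sm ge N715 = N1430 := rfl
theorem L7347 : sm ge N1430 = N715 := flp_e L7346
theorem L7349 : sm gd N1430 = N1376 := ded_22_1 L7053 L3566 L3562 L3681 L7346
theorem L7351 : sm gg N715 = N1431 := rfl
theorem L7352 : sm gg N1431 = N715 := flp_g L7351
theorem L7354 : sm gc N717 = N1432 := rfl
theorem L7355 : sm gc N1432 = N717 := flp_c L7354
theorem L7356 : sm ga N1432 = N1432 := ded_8_1 L7355 L3695 L7354
theorem L7357 : sm gf N1432 = N1370 := ded_20_2 L7024 L3697 L7354
theorem L7358 : sm gf N1370 = N1432 := flp_f L7357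
theorem L7359 : sm ge N717 = N1433 := rfl
theorem L7360 : sm ge N1433 = N717 := flp_e L7359
theorem L7362 : sm gf N1433 = N1371 := ded_25_2 L7031 L3697 L7359
theorem L7363 : sm gf N1371 = N1433 := flp_f L7362
theorem L7364 : sm gc N719 = N1434 := rfl
theorem L7365 : sm gc N1434 = N719 := flp_c L7364
theorem L7367 : sm gg N1434 = N1027 := ded_21_2 L5238 L3711 L7364
theorem L7368 : sm gg N1027 = N1434 := flp_g L7367
theorem L7369 : sm ge N719 = N1435 := rfl
theorem L7370 : sm ge N1435 = N719 := flp_e L7369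
theorem L7372 : sm gg N1435 = N1028 := ded_26_2 L5243 L3711 L7369
theorem L7373 : sm gg N1028 = N1435 := flp_g L7372
theorem L7374 : sm gf N719 = N1436 := rfl
theorem L7377 : sm gd N1436 = N1393 := ded_23_1 L7153 L3583 L1871 L3707 L7374
theorem L7378 : sm gd N1393 = N1436 := flp_d L7377
theorem L7379 : sm gc N720 = N1437 := rfl
theorem L7380 : sm gc N1437 = N720 := flp_c L7379
theorem L7382 : sm gf N1437 = N1437 := ded_20_2 L7380 L3715 L7379
theorem L7383 : sm ge N720 = N1438 := rfl
theorem L7384 : sm ge N1438 = N720 := flp_e L7383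
theorem L7387 : sm gd N1438 = N1435 := ded_22_1 L7370 L3708 L1877 L3712 L7383
theorem L7388 : sm gd N1435 = N1438 := flp_d L7387
theorem L7389 : sm gg N720 = N1439 := rfl
theorem L7390 : sm gg N1439 = N720 := flp_g L7389
theorem L7392 : sm gd N1439 = N1391 := ded_24_1 L7144 L3578 L1879 L3712 L7389
theorem L7393 : sm gd N1391 = N1439 := flp_d L7392
theorem L7398 : sm gc N722 = N1441 := rfl
theorem L7399 : sm gc N1441 = N722 := flp_c L7398
theorem L7400 : sm ga N1441 = N1441 := ded_8_1 L7399 L3722 L7398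
theorem L7401 : sm gd N731 = N1441 := ded_30_9 L7400 L7399 L3721 L1881 L930 L460 L469 L941 L1915 L3765
theorem L7402 : sm gd N1441 = N731 := flp_d L7401
theorem L7403 : sm ge N722 = N1442 := rfl
theorem L7404 : sm ge N1442 = N722 := flp_e L7403
theorem L7406 : sm gg N722 = N1443 := rfl
theorem L7407 : sm gg N1443 = N722 := flp_g L7406
theorem L7409 : sm gd N723 = N1444 := rfl
theorem L7411 : sm ga N1444 = N724 := ded_9_1 L3732 L3723 L7409
theorem L7412 : sm ga N724 = N1444 := flp_a L7411
theorem L7415 : sm gg N1444 = N857 := ded_24_2 L4396 L2269 L2260 L3726 L7409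
theorem L7416 : sm gg N857 = N1444 := flp_g L7415
theorem L7420 : sm ge N724 = N1446 := rfl
theorem L7422 : sm gb N1446 = N726 := ded_15_1 L3744 L3734 L7420
theorem L7423 : sm gb N726 = N1446 := flp_b L7422
theorem L7424 : sm gf N724 = N1447 := rfl
theorem L7425 : sm gf N1447 = N724 := flp_f L7424
theorem L7426 : sm gb N1447 = N727 := ded_16_1 L3748 L3734 L7424
theorem L7427 : sm gb N727 = N1447 := flp_b L7426
theorem L7428 : sm gg N724 = N1448 := rfl
theorem L7430 : sm ga N1448 = N857 := ded_12_1 L7416 L7411 L7428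
theorem L7431 : sm ga N857 = N1448 := flp_a L7430
theorem L7434 : sm gd N1448 = N789 := ded_24_1 L4088 L2235 L2237 L3731 L7428
theorem L7435 : sm gd N789 = N1448 := flp_d L7434
theorem L7436 : sm gd N725 = N1449 := rfl
theorem L7437 : sm gd N1449 = N725 := flp_d L7436
theorem L7440 : sm gb N1449 = N729 := ded_14_1 L3758 L3740 L7436
theorem L7441 : sm gb N729 = N1449 := flp_b L7440
theorem L7442 : sm gf N1449 = N836 := ded_23_2 L4290 L2217 L2210 L3742 L7436
theorem L7443 : sm gf N836 = N1449 := flp_f L7442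
theorem L7444 : sm gd N726 = N1450 := rfl
theorem L7445 : sm gd N1450 = N726 := flp_d L7444
theorem L7447 : sm ge N1450 = N729 := ded_22_2 L3758 L1902 L1897 L3743 L7444
theorem L7448 : sm ge N729 = N1450 := flp_e L7447
theorem L7449 : sm gf N981 = N1450 := ded_25_0 L7447 L3760 L5010
theorem L7450 : sm gf N1450 = N981 := flp_f L7449
theorem L7451 : sm gf N726 = N1451 := rfl
theorem L7452 : sm gf N1451 = N726 := flp_f L7451
theorem L7454 : sm gc N1451 = N1451 := ded_20_1 L7452 L3746 L7451
theorem L7455 : sm ge N1451 = N727 := ded_25_1 L3748 L3743 L7451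
theorem L7457 : sm gd N1451 = N898 := ded_23_1 L4596 L5014 L7449 L7445 L7451
theorem L7458 : sm gd N898 = N1451 := flp_d L7457
theorem L7459 : sm gg N726 = N1452 := rfl
theorem L7460 : sm gg N1452 = N726 := flp_g L7459
theorem L7462 : sm gc N1452 = N1452 := ded_21_1 L7460 L3746 L7459
theorem L7463 : sm ge N1452 = N728 := ded_26_1 L3752 L3743 L7459
theorem L7464 : sm ge N728 = N1452 := flp_e L7463
theorem L7465 : sm gg N727 = N1453 := rfl
theorem L7466 : sm gg N1453 = N727 := flp_g L7465
theorem L7469 : sm gf N1452 = N1453 := ded_28_0 L7466 L3748 L3751 L7464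
theorem L7470 : sm gf N1453 = N1452 := flp_f L7469
theorem L7471 : sm gf N728 = N1454 := rfl
theorem L7472 : sm gf N1454 = N728 := flp_f L7471
theorem L7475 : sm ge N1454 = N1453 := ded_25_1 L7470 L7463 L7471
theorem L7477 : sm gg N1454 = N1451 := ded_28_3 L7455 L3748 L3751 L7471
theorem L7478 : sm gg N1451 = N1454 := flp_g L7477
theorem L7479 : sm gd N1454 = N880 := ded_23_1 L4518 L4454 L2488 L3756 L7471
theorem L7480 : sm gd N880 = N1454 := flp_d L7479
theorem L7481 : sm gc N729 = N1455 := rfl
theorem L7482 : sm gc N1455 = N729 := flp_c L7481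
theorem L7484 : sm gf N1455 = N980 := ded_20_2 L5008 L3761 L7481
theorem L7486 : sm gg N729 = N1456 := rfl
theorem L7487 : sm gg N1456 = N729 := flp_g L7486
theorem L7489 : sm gc N730 = N1457 := rfl
theorem L7490 : sm gc N1457 = N730 := flp_c L7489
theorem L7492 : sm gf N730 = N1458 := rfl
theorem L7493 : sm gf N1458 = N730 := flp_f L7492
theorem L7495 : sm gg N1458 = N1458 := ded_28_1 L7493 L5214 L5211 L7492
theorem L7498 : sm gb N731 = N1459 := rfl
theorem L7499 : sm gb N1459 = N731 := flp_b L7498
theorem L7500 : sm gc N1459 = N1459 := ded_13_2 L7499 L3766 L1918 L3765 L7498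
theorem L7501 : sm ge N731 = N1460 := rfl
theorem L7502 : sm ge N1460 = N731 := flp_e L7501
theorem L7504 : sm gc N1460 = N732 := ded_19_1 L3769 L3765 L7501
theorem L7505 : sm gc N732 = N1460 := flp_c L7504
theorem L7506 : sm gg N1383 = N1460 := ded_28_3 L7502 L7124 L7118 L7098
theorem L7507 : sm gg N1460 = N1383 := flp_g L7506
theorem L7508 : sm gg N731 = N1461 := rfl
theorem L7509 : sm gg N1461 = N731 := flp_g L7508
theorem L7511 : sm gc N1461 = N734 := ded_21_1 L3779 L3765 L7508
theorem L7515 : sm gf N1386 = N1461 := ded_28_0 L7509 L7124 L7118 L7112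
theorem L7517 : sm gf N732 = N1462 := rfl
theorem L7518 : sm gf N1462 = N732 := flp_f L7517
theorem L7521 : sm ge N1462 = N733 := ded_25_1 L3774 L3768 L7517
theorem L7522 : sm ge N733 = N1462 := flp_e L7521
theorem L7523 : sm gg N732 = N1463 := rfl
theorem L7524 : sm gg N1463 = N732 := flp_g L7523
theorem L7527 : sm gc N1463 = N1383 := ded_21_1 L7506 L7504 L7523
theorem L7528 : sm gc N1383 = N1463 := flp_c L7527
theorem L7529 : sm ge N1463 = N734 := ded_26_1 L3779 L3768 L7523
theorem L7531 : sm gf N1463 = N1385 := ded_28_2 L7110 L7522 L7518 L7523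
theorem L7532 : sm gf N1385 = N1463 := flp_f L7531
theorem L7533 : sm gf N734 = N1464 := rfl
theorem L7534 : sm gf N1464 = N734 := flp_f L7533
theorem L7539 : sm ge N1464 = N1385 := ded_25_1 L7532 L7529 L7533
theorem L7541 : sm gg N1464 = N1462 := ded_28_3 L7521 L3774 L3778 L7533
theorem L7542 : sm gg N1462 = N1464 := flp_g L7541
theorem L7543 : sm gc N735 = N1465 := rfl
theorem L7544 : sm gc N1465 = N735 := flp_c L7543
theorem L7545 : sm ge N735 = N1466 := rfl
theorem L7546 : sm ge N1466 = N735 := flp_e L7545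
theorem L7547 : sm gb N1466 = N737 := ded_15_1 L3794 L3786 L7545
theorem L7548 : sm gb N737 = N1466 := flp_b L7547
theorem L7549 : sm gf N735 = N1467 := rfl
theorem L7550 : sm gf N1467 = N735 := flp_f L7549
theorem L7551 : sm gb N1467 = N738 := ded_16_1 L3798 L3786 L7549
theorem L7552 : sm gb N738 = N1467 := flp_b L7551
theorem L7553 : sm gd N1467 = N744 := ded_23_1 L3824 L1950 L1922 L3783 L7549
theorem L7554 : sm gd N744 = N1467 := flp_d L7553
theorem L7555 : sm gg N735 = N1468 := rfl
theorem L7556 : sm gg N1468 = N735 := flp_g L7555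
theorem L7557 : sm gb N1468 = N739 := ded_17_1 L3804 L3786 L7555
theorem L7558 : sm gb N739 = N1468 := flp_b L7557
theorem L7559 : sm gb N736 = N1469 := rfl
theorem L7560 : sm gb N1469 = N736 := flp_b L7559
theorem L7561 : sm gd N1469 = N1302 := ded_14_2 L6713 L3791 L7559
theorem L7562 : sm gd N1302 = N1469 := flp_d L7561
theorem L7563 : sm ge N736 = N1470 := rfl
theorem L7564 : sm ge N1470 = N736 := flp_e L7563
theorem L7565 : sm ga N1470 = N749 := ded_10_1 L3848 L3790 L7563
theorem L7566 : sm ga N749 = N1470 := flp_a L7565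
theorem L7567 : sm gc N1470 = N737 := ded_19_1 L3794 L3787 L7563
theorem L7568 : sm gc N737 = N1470 := flp_c L7567
theorem L7569 : sm gf N736 = N1471 := rfl
theorem L7570 : sm gf N1471 = N736 := flp_f L7569
theorem L7571 : sm ga N1471 = N750 := ded_11_1 L3852 L3790 L7569
theorem L7572 : sm ga N750 = N1471 := flp_a L7571
theorem L7573 : sm gc N1471 = N738 := ded_20_1 L3798 L3787 L7569
theorem L7574 : sm gc N738 = N1471 := flp_c L7573
theorem L7575 : sm gg N736 = N1472 := rfl
theorem L7576 : sm gg N1472 = N736 := flp_g L7575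
theorem L7577 : sm ga N1472 = N751 := ded_12_1 L3856 L3790 L7575
theorem L7578 : sm ga N751 = N1472 := flp_a L7577
theorem L7579 : sm gc N1472 = N739 := ded_21_1 L3804 L3787 L7575
theorem L7580 : sm gc N739 = N1472 := flp_c L7579
theorem L7581 : sm gd N737 = N1473 := rfl
theorem L7582 : sm gd N1473 = N737 := flp_d L7581
theorem L7583 : sm ga N1473 = N752 := ded_9_1 L3860 L3796 L7581
theorem L7584 : sm ga N752 = N1473 := flp_a L7583
theorem L7585 : sm ge N1473 = N740 := ded_22_2 L3808 L1930 L1925 L3793 L7581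
theorem L7586 : sm ge N740 = N1473 := flp_e L7585
theorem L7587 : sm gf N737 = N1474 := rfl
theorem L7588 : sm gf N1474 = N737 := flp_f L7587
theorem L7589 : sm ga N1474 = N753 := ded_11_1 L3864 L3796 L7587
theorem L7590 : sm ga N753 = N1474 := flp_a L7589
theorem L7591 : sm ge N1474 = N738 := ded_25_1 L3798 L3793 L7587
theorem L7592 : sm ge N738 = N1474 := flp_e L7591
theorem L7593 : sm gg N737 = N1475 := rfl
theorem L7594 : sm gg N1475 = N737 := flp_g L7593
theorem L7595 : sm ga N1475 = N754 := ded_12_1 L3868 L3796 L7593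
theorem L7596 : sm ga N754 = N1475 := flp_a L7595
theorem L7597 : sm ge N1475 = N739 := ded_26_1 L3804 L3793 L7593
theorem L7598 : sm ge N739 = N1475 := flp_e L7597
theorem L7599 : sm gg N738 = N1476 := rfl
theorem L7600 : sm gg N1476 = N738 := flp_g L7599
theorem L7601 : sm ga N1476 = N755 := ded_12_1 L3872 L3800 L7599
theorem L7602 : sm ga N755 = N1476 := flp_a L7601
theorem L7603 : sm gf N1475 = N1476 := ded_28_0 L7600 L3798 L3803 L7598
theorem L7604 : sm gf N1476 = N1475 := flp_f L7603
theorem L7605 : sm gd N739 = N1477 := rfl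
theorem L7606 : sm gd N1477 = N739 := flp_d L7605
theorem L7607 : sm ga N1477 = N745 := ded_9_1 L3831 L3806 L7605
theorem L7608 : sm ga N745 = N1477 := flp_a L7607
theorem L7609 : sm gg N1477 = N741 := ded_24_2 L3812 L1940 L1925 L3803 L7605
theorem L7610 : sm gg N741 = N1477 := flp_g L7609
theorem L7611 : sm gf N739 = N1478 := rfl
theorem L7612 : sm gf N1478 = N739 := flp_f L7611
theorem L7613 : sm ga N1478 = N756 := ded_11_1 L3876 L3806 L7611
theorem L7614 : sm ga N756 = N1478 := flp_a L7613
theorem L7615 : sm ge N1478 = N1476 := ded_25_1 L7604 L7597 L7611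
theorem L7616 : sm ge N1476 = N1478 := flp_e L7615
theorem L7617 : sm gg N1478 = N1474 := ded_28_3 L7591 L3798 L3803 L7611
theorem L7618 : sm gg N1474 = N1478 := flp_g L7617
theorem L7619 : sm gc N740 = N1479 := rfl
theorem L7620 : sm gc N1479 = N740 := flp_c L7619
theorem L7621 : sm ga N1479 = N757 := ded_8_1 L3882 L3810 L7619
theorem L7622 : sm ga N757 = N1479 := flp_a L7621
theorem L7623 : sm gf N740 = N1480 := rfl
theorem L7624 : sm gf N1480 = N740 := flp_f L7623
theorem L7625 : sm ga N1480 = N758 := ded_11_1 L3884 L3810 L7623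
theorem L7626 : sm ga N758 = N1480 := flp_a L7625
theorem L7627 : sm gd N1480 = N758 := ded_23_1 L3884 L1974 L1936 L3807 L7623
theorem L7628 : sm gd N758 = N1480 := flp_d L7627
theorem L7629 : sm gg N740 = N1481 := rfl
theorem L7630 : sm gg N1481 = N740 := flp_g L7629
theorem L7631 : sm ga N1481 = N759 := ded_12_1 L3886 L3810 L7629
theorem L7632 : sm ga N759 = N1481 := flp_a L7631
theorem L7633 : sm gb N1481 = N1477 := ded_17_1 L7609 L3815 L7629
theorem L7634 : sm gb N1477 = N1481 := flp_b L7633
theorem L7635 : sm gd N1481 = N1468 := ded_24_1 L7556 L3784 L1937 L3807 L7629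
theorem L7636 : sm gd N1468 = N1481 := flp_d L7635
theorem L7637 : sm gc N741 = N1482 := rfl
theorem L7638 : sm gc N1482 = N741 := flp_c L7637
theorem L7639 : sm ga N1482 = N742 := ded_8_1 L3818 L3814 L7637
theorem L7640 : sm ga N742 = N1482 := flp_a L7639
theorem L7641 : sm ge N741 = N1483 := rfl
theorem L7642 : sm ge N1483 = N741 := flp_e L7641
theorem L7643 : sm ga N1483 = N743 := ded_10_1 L3820 L3814 L7641
theorem L7644 : sm ga N743 = N1483 := flp_a L7643
theorem L7645 : sm gb N1483 = N1473 := ded_15_1 L7585 L3816 L7641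
theorem L7646 : sm gb N1473 = N1483 := flp_b L7645
theorem L7647 : sm gd N1483 = N1466 := ded_22_1 L7546 L3784 L1948 L3811 L7641
theorem L7648 : sm gd N1466 = N1483 := flp_d L7647
theorem L7649 : sm gf N741 = N1484 := rfl
theorem L7650 : sm gf N1484 = N741 := flp_f L7649
theorem L7651 : sm ga N1484 = N744 := ded_11_1 L3824 L3814 L7649
theorem L7652 : sm ga N744 = N1484 := flp_a L7651
theorem L7653 : sm gb N1484 = N1480 := ded_16_1 L7624 L3816 L7649
theorem L7654 : sm gb N1480 = N1484 := flp_b L7653
theorem L7655 : sm gb N742 = N1485 := rfl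
theorem L7656 : sm gb N1485 = N742 := flp_b L7655
theorem L7657 : sm gc N1485 = N747 := ded_13_2 L3840 L1966 L1952 L3817 L7655
theorem L7658 : sm gc N747 = N1485 := flp_c L7657
theorem L7659 : sm gd N742 = N1486 := rfl
theorem L7660 : sm gd N1486 = N742 := flp_d L7659
theorem L7661 : sm ge N742 = N1487 := rfl
theorem L7662 : sm ge N1487 = N742 := flp_e L7661
theorem L7663 : sm gc N1487 = N743 := ded_19_1 L3820 L3817 L7661
theorem L7664 : sm gc N743 = N1487 := flp_c L7663
theorem L7665 : sm gf N742 = N1488 := rfl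
theorem L7666 : sm gf N1488 = N742 := flp_f L7665
theorem L7667 : sm gc N1488 = N744 := ded_20_1 L3824 L3817 L7665
theorem L7668 : sm gc N744 = N1488 := flp_c L7667
theorem L7669 : sm gg N742 = N1489 := rfl
theorem L7670 : sm gg N1489 = N742 := flp_g L7669
theorem L7671 : sm gc N1489 = N745 := ded_21_1 L3828 L3817 L7669
theorem L7672 : sm gc N745 = N1489 := flp_c L7671
theorem L7673 : sm gd N743 = N1490 := rfl
theorem L7674 : sm gd N1490 = N743 := flp_d L7673
theorem L7675 : sm ga N1490 = N1466 := ded_9_1 L7648 L7643 L7673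
theorem L7676 : sm ga N1466 = N1490 := flp_a L7675
theorem L7677 : sm gb N1490 = N752 := ded_14_1 L3860 L3822 L7673
theorem L7678 : sm gb N752 = N1490 := flp_b L7677
theorem L7679 : sm ge N1490 = N746 := ded_22_2 L3834 L1954 L1949 L3819 L7673
theorem L7680 : sm ge N746 = N1490 := flp_e L7679
theorem L7681 : sm gf N743 = N1491 := rfl
theorem L7682 : sm gf N1491 = N743 := flp_f L7681
theorem L7683 : sm gb N1491 = N753 := ded_16_1 L3864 L3822 L7681
theorem L7684 : sm gb N753 = N1491 := flp_b L7683
theorem L7685 : sm ge N1491 = N744 := ded_25_1 L3824 L3819 L7681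
theorem L7686 : sm ge N744 = N1491 := flp_e L7685
theorem L7687 : sm gg N743 = N1492 := rfl
theorem L7688 : sm gg N1492 = N743 := flp_g L7687
theorem L7689 : sm gb N1492 = N754 := ded_17_1 L3868 L3822 L7687
theorem L7690 : sm gb N754 = N1492 := flp_b L7689
theorem L7691 : sm ge N1492 = N745 := ded_26_1 L3828 L3819 L7687
theorem L7692 : sm ge N745 = N1492 := flp_e L7691
theorem L7693 : sm gg N744 = N1493 := rfl
theorem L7694 : sm gg N1493 = N744 := flp_g L7693
theorem L7695 : sm gb N1493 = N755 := ded_17_1 L3872 L3826 L7693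
theorem L7696 : sm gb N755 = N1493 := flp_b L7695
theorem L7697 : sm gf N1492 = N1493 := ded_28_0 L7694 L3824 L3827 L7692
theorem L7698 : sm gf N1493 = N1492 := flp_f L7697
theorem L7699 : sm gf N745 = N1494 := rfl
theorem L7700 : sm gf N1494 = N745 := flp_f L7699
theorem L7701 : sm gb N1494 = N756 := ded_16_1 L3876 L3830 L7699
theorem L7702 : sm gb N756 = N1494 := flp_b L7701
theorem L7703 : sm ge N1494 = N1493 := ded_25_1 L7698 L7691 L7699
theorem L7704 : sm ge N1493 = N1494 := flp_e L7703
theorem L7705 : sm gg N1494 = N1491 := ded_28_3 L7685 L3824 L3827 L7699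
theorem L7706 : sm gg N1491 = N1494 := flp_g L7705
theorem L7707 : sm gc N746 = N1495 := rfl
theorem L7708 : sm gc N1495 = N746 := flp_c L7707
theorem L7709 : sm ga N1495 = N1465 := ded_8_1 L7544 L3836 L7707
theorem L7710 : sm ga N1465 = N1495 := flp_a L7709
theorem L7711 : sm gf N746 = N1496 := rfl
theorem L7712 : sm gf N1496 = N746 := flp_f L7711
theorem L7713 : sm ga N1496 = N1467 := ded_11_1 L7550 L3836 L7711
theorem L7714 : sm ga N1467 = N1496 := flp_a L7713
theorem L7715 : sm gb N1496 = N758 := ded_16_1 L3884 L3838 L7711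
theorem L7716 : sm gb N758 = N1496 := flp_b L7715
theorem L7717 : sm gd N1496 = N1484 := ded_23_1 L7650 L3812 L1962 L3833 L7711
theorem L7718 : sm gd N1484 = N1496 := flp_d L7717
theorem L7719 : sm gg N746 = N1497 := rfl
theorem L7720 : sm gg N1497 = N746 := flp_g L7719
theorem L7721 : sm ga N1497 = N1468 := ded_12_1 L7556 L3836 L7719
theorem L7722 : sm ga N1468 = N1497 := flp_a L7721
theorem L7723 : sm gb N1497 = N759 := ded_17_1 L3886 L3838 L7719
theorem L7724 : sm gb N759 = N1497 := flp_b L7723
theorem L7725 : sm gd N1497 = N759 := ded_24_1 L3886 L1974 L1964 L3833 L7719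
theorem L7726 : sm gd N759 = N1497 := flp_d L7725
theorem L7727 : sm ga N747 = N1498 := rfl
theorem L7728 : sm ga N1498 = N747 := flp_a L7727
theorem L7729 : sm gd N747 = N1499 := rfl
theorem L7730 : sm gd N1499 = N747 := flp_d L7729
theorem L7731 : sm gb N1499 = N748 := ded_14_1 L3842 L3839 L7729
theorem L7732 : sm gb N748 = N1499 := flp_b L7731
theorem L7733 : sm ge N747 = N1500 := rfl
theorem L7734 : sm ge N1500 = N747 := flp_e L7733
theorem L7735 : sm gb N1500 = N749 := ded_15_1 L3848 L3839 L7733

end Cfsg.Agent.Helper28.HeA
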