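import Cfsg.Agent.Helper28.HeB1

/-! # The Held group presentation, cosets of the subgroup generated by a, c, d, e, f, (ab)², (bcde)⁷: the coset enumeration, part 2 (helper28; generated) -/

set_option autoImplicit false

noncomputable section

namespace Cfsg.Agent.Helper28.HeA

open Cfsg.Agent.Helper28.CosetTable

theorem L7736 : sm gb N749 = N1500 := flp_b L7735
theorem L7737 : sm gf N747 = N1501 := rfl
theorem L7738 : sm gf N1501 = N747 := flp_f L7737
theorem L7739 : sm gb N1501 = N750 := ded_16_1 L3852 L3839 L7737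
theorem L7740 : sm gb N750 = N1501 := flp_b L7739
theorem L7741 : sm gg N747 = N1502 := rfl
theorem L7742 : sm gg N1502 = N747 := flp_g L7741
theorem L7743 : sm gb N1502 = N751 := ded_17_1 L3856 L3839 L7741
theorem L7744 : sm gb N751 = N1502 := flp_b L7743
theorem L7745 : sm ge N748 = N1503 := rfl
theorem L7746 : sm ge N1503 = N748 := flp_e L7745
theorem L7747 : sm ga N1503 = N1303 := ded_10_1 L6715 L3844 L7745
theorem L7748 : sm ga N1303 = N1503 := flp_a L7747
theorem L7749 : sm gc N1503 = N1268 := ded_19_1 L6484 L3845 L7745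
theorem L7750 : sm gc N1268 = N1503 := flp_c L7749
theorem L7751 : sm gf N748 = N1504 := rfl
theorem L7752 : sm gf N1504 = N748 := flp_f L7751
theorem L7753 : sm ga N1504 = N1304 := ded_11_1 L6719 L3844 L7751
theorem L7754 : sm ga N1304 = N1504 := flp_a L7753
theorem L7755 : sm gc N1504 = N1269 := ded_20_1 L6488 L3845 L7751
theorem L7756 : sm gc N1269 = N1504 := flp_c L7755
theorem L7757 : sm gg N748 = N1505 := rfl
theorem L7758 : sm gg N1505 = N748 := flp_g L7757
theorem L7759 : sm ga N1505 = N1305 := ded_12_1 L6723 L3844 L7757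
theorem L7760 : sm ga N1305 = N1505 := flp_a L7759
theorem L7761 : sm gc N1505 = N1270 := ded_21_1 L6492 L3845 L7757
theorem L7762 : sm gc N1270 = N1505 := flp_c L7761
theorem L7763 : sm gd N749 = N1506 := rfl
theorem L7764 : sm gd N1506 = N749 := flp_d L7763
theorem L7765 : sm gf N749 = N1507 := rfl
theorem L7766 : sm gf N1507 = N749 := flp_f L7765
theorem L7767 : sm gc N1507 = N753 := ded_20_1 L3864 L3850 L7765
theorem L7768 : sm gc N753 = N1507 := flp_c L7767
theorem L7769 : sm ge N1507 = N750 := ded_25_1 L3852 L3847 L7765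
theorem L7770 : sm ge N750 = N1507 := flp_e L7769
theorem L7771 : sm gg N749 = N1508 := rfl
theorem L7772 : sm gg N1508 = N749 := flp_g L7771
theorem L7773 : sm gc N1508 = N754 := ded_21_1 L3868 L3850 L7771
theorem L7774 : sm gc N754 = N1508 := flp_c L7773
theorem L7775 : sm ge N1508 = N751 := ded_26_1 L3856 L3847 L7771
theorem L7776 : sm ge N751 = N1508 := flp_e L7775
theorem L7777 : sm gd N750 = N1509 := rfl
theorem L7778 : sm gd N1509 = N750 := flp_d L7777
theorem L7779 : sm gg N750 = N1510 := rfl
theorem L7780 : sm gg N1510 = N750 := flp_g L7779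
theorem L7781 : sm gc N1510 = N755 := ded_21_1 L3872 L3854 L7779
theorem L7782 : sm gc N755 = N1510 := flp_c L7781
theorem L7783 : sm gf N1508 = N1510 := ded_28_0 L7780 L3852 L3855 L7776
theorem L7784 : sm gf N1510 = N1508 := flp_f L7783
theorem L7785 : sm gd N751 = N1511 := rfl
theorem L7786 : sm gd N1511 = N751 := flp_d L7785
theorem L7787 : sm gf N751 = N1512 := rfl
theorem L7788 : sm gf N1512 = N751 := flp_f L7787
theorem L7789 : sm gc N1512 = N756 := ded_20_1 L3876 L3858 L7787
theorem L7790 : sm gc N756 = N1512 := flp_c L7789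
theorem L7791 : sm ge N1512 = N1510 := ded_25_1 L7784 L7775 L7787
theorem L7792 : sm ge N1510 = N1512 := flp_e L7791
theorem L7793 : sm gg N1512 = N1507 := ded_28_3 L7769 L3852 L3855 L7787
theorem L7794 : sm gg N1507 = N1512 := flp_g L7793
theorem L7795 : sm gc N752 = N1513 := rfl
theorem L7796 : sm gc N1513 = N752 := flp_c L7795
theorem L7797 : sm ge N1513 = N757 := ded_19_2 L3882 L3862 L7795
theorem L7798 : sm ge N757 = N1513 := flp_e L7797
theorem L7799 : sm gb N1498 = N1513 := ded_29_7 L7796 L3861 L3810 L3816 L7637 L7639 L7655 L7657 L7727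
theorem L7800 : sm gb N1513 = N1498 := flp_b L7799
theorem L7801 : sm gf N752 = N1514 := rfl
theorem L7802 : sm gf N1514 = N752 := flp_f L7801
theorem L7803 : sm ge N1514 = N758 := ded_25_1 L3884 L3862 L7801
theorem L7804 : sm ge N758 = N1514 := flp_e L7803
theorem L7805 : sm gg N752 = N1515 := rfl
theorem L7806 : sm gg N1515 = N752 := flp_g L7805
theorem L7807 : sm ge N1515 = N759 := ded_26_1 L3886 L3862 L7805
theorem L7808 : sm ge N759 = N1515 := flp_e L7807
theorem L7809 : sm gd N753 = N1516 := rfl
theorem L7810 : sm gd N1516 = N753 := flp_d L7809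
theorem L7811 : sm gd N754 = N1517 := rfl
theorem L7812 : sm gd N1517 = N754 := flp_d L7811
theorem L7813 : sm gd N755 = N1518 := rfl
theorem L7814 : sm gd N1518 = N755 := flp_d L7813
theorem L7815 : sm gd N756 = N1519 := rfl
theorem L7816 : sm gd N1519 = N756 := flp_d L7815
theorem L7817 : sm gb N757 = N1520 := rfl
theorem L7818 : sm gb N1520 = N757 := flp_b L7817
theorem L7819 : sm ge N1520 = N1498 := ded_15_2 L7799 L7797 L7817
theorem L7820 : sm ge N1498 = N1520 := flp_e L7819
theorem L7821 : sm ga N1500 = N1520 := ded_29_0 L7818 L3882 L3810 L3816 L7637 L7639 L7655 L7657 L7733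
theorem L7822 : sm ga N1520 = N1500 := flp_a L7821
theorem L7823 : sm gd N757 = N1521 := rfl
theorem L7824 : sm gd N1521 = N757 := flp_d L7823
theorem L7825 : sm gc N1521 = N1521 := ded_30_8 L7824 L7622 L7620 L3808 L1933 L962 L982 L1973 L3881 L7823
theorem L7826 : sm gf N757 = N1522 := rfl
theorem L7827 : sm gf N1522 = N757 := flp_f L7826
theorem L7828 : sm gc N1522 = N758 := ded_20_1 L3884 L3881 L7826
theorem L7829 : sm gc N758 = N1522 := flp_c L7828
theorem L7830 : sm gg N757 = N1523 := rfl
theorem L7831 : sm gg N1523 = N757 := flp_g L7830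
theorem L7832 : sm gc N1523 = N759 := ded_21_1 L3886 L3881 L7830
theorem L7833 : sm gc N759 = N1523 := flp_c L7832
theorem L7834 : sm gg N758 = N1524 := rfl
theorem L7835 : sm gg N1524 = N758 := flp_g L7834
theorem L7836 : sm gf N1515 = N1524 := ded_28_0 L7835 L3884 L3885 L7808
theorem L7837 : sm gf N1524 = N1515 := flp_f L7836
theorem L7838 : sm gf N759 = N1525 := rfl
theorem L7839 : sm gf N1525 = N759 := flp_f L7838
theorem L7840 : sm ge N1525 = N1524 := ded_25_1 L7837 L7807 L7838
theorem L7841 : sm ge N1524 = N1525 := flp_e L7840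
theorem L7842 : sm gg N1525 = N1514 := ded_28_3 L7803 L3884 L3885 L7838
theorem L7843 : sm gg N1514 = N1525 := flp_g L7842
theorem L7844 : sm gd N760 = N1526 := rfl
theorem L7845 : sm gd N1526 = N760 := flp_d L7844
theorem L7846 : sm gb N1526 = N1526 := ded_14_1 L7845 L3891 L7844
theorem L7847 : sm gd N761 = N1527 := rfl
theorem L7848 : sm gd N1527 = N761 := flp_d L7847
theorem L7849 : sm ga N1527 = N1526 := ded_9_1 L7845 L3895 L7847
theorem L7850 : sm ga N1526 = N1527 := flp_a L7849
theorem L7851 : sm gb N1527 = N1527 := ded_14_1 L7848 L3900 L7847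
theorem L7852 : sm gd N762 = N1528 := rfl
theorem L7853 : sm gd N1528 = N762 := flp_d L7852
theorem L7854 : sm ga N1528 = N790 := ded_9_1 L4098 L3904 L7852
theorem L7855 : sm ga N790 = N1528 := flp_a L7854
theorem L7856 : sm gb N1528 = N764 := ded_14_1 L3922 L3906 L7852
theorem L7857 : sm gb N764 = N1528 := flp_b L7856
theorem L7858 : sm gf N1528 = N764 := ded_23_2 L3922 L2011 L1999 L3901 L7852
theorem L7859 : sm gf N764 = N1528 := flp_f L7858
theorem L7860 : sm gd N763 = N1529 := rfl
theorem L7861 : sm gd N1529 = N763 := flp_d L7860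
theorem L7862 : sm ga N1529 = N791 := ded_9_1 L4103 L3914 L7860
theorem L7863 : sm ga N791 = N1529 := flp_a L7862
theorem L7864 : sm gb N1529 = N766 := ded_14_1 L3934 L3916 L7860
theorem L7865 : sm gb N766 = N1529 := flp_b L7864
theorem L7866 : sm gg N1529 = N766 := ded_24_2 L3934 L2017 L1999 L3911 L7860
theorem L7867 : sm gg N766 = N1529 := flp_g L7866
theorem L7868 : sm gc N764 = N1530 := rfl
theorem L7869 : sm gc N1530 = N764 := flp_c L7868
theorem L7870 : sm ga N1530 = N792 := ded_8_1 L4108 L3924 L7868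
theorem L7871 : sm ga N792 = N1530 := flp_a L7870
theorem L7872 : sm ge N764 = N1531 := rfl
theorem L7873 : sm ge N1531 = N764 := flp_e L7872
theorem L7874 : sm ga N1531 = N793 := ded_10_1 L4110 L3924 L7872
theorem L7875 : sm ga N793 = N1531 := flp_a L7874
theorem L7876 : sm gg N764 = N1532 := rfl
theorem L7877 : sm gg N1532 = N764 := flp_g L7876
theorem L7878 : sm ga N1532 = N794 := ded_12_1 L4113 L3924 L7876
theorem L7879 : sm ga N794 = N1532 := flp_a L7878
theorem L7880 : sm gd N765 = N1533 := rfl
theorem L7881 : sm gd N1533 = N765 := flp_d L7880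
theorem L7882 : sm ga N1533 = N795 := ded_9_1 L4116 L3928 L7880
theorem L7883 : sm ga N795 = N1533 := flp_a L7882
theorem L7884 : sm gc N766 = N1534 := rfl
theorem L7885 : sm gc N1534 = N766 := flp_c L7884
theorem L7886 : sm ga N1534 = N796 := ded_8_1 L4119 L3936 L7884
theorem L7887 : sm ga N796 = N1534 := flp_a L7886
theorem L7888 : sm ge N766 = N1535 := rfl
theorem L7889 : sm ge N1535 = N766 := flp_e L7888
theorem L7890 : sm ga N1535 = N797 := ded_10_1 L4121 L3936 L7888
theorem L7891 : sm ga N797 = N1535 := flp_a L7890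
theorem L7892 : sm gf N766 = N1536 := rfl
theorem L7893 : sm gf N1536 = N766 := flp_f L7892
theorem L7894 : sm ga N1536 = N798 := ded_11_1 L4124 L3936 L7892
theorem L7895 : sm ga N798 = N1536 := flp_a L7894
theorem L7896 : sm gd N767 = N1537 := rfl
theorem L7897 : sm gd N1537 = N767 := flp_d L7896
theorem L7898 : sm ga N1537 = N799 := ded_9_1 L4127 L3940 L7896
theorem L7899 : sm ga N799 = N1537 := flp_a L7898
theorem L7900 : sm gb N1537 = N1533 := ded_14_1 L7881 L3942 L7896
theorem L7901 : sm gb N1533 = N1537 := flp_b L7900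
theorem L7902 : sm gc N768 = N1538 := rfl
theorem L7903 : sm gc N1538 = N768 := flp_c L7902
theorem L7904 : sm ga N1538 = N800 := ded_8_1 L4130 L3952 L7902
theorem L7905 : sm ga N800 = N1538 := flp_a L7904
theorem L7906 : sm gf N1538 = N800 := ded_20_2 L4130 L3956 L7902
theorem L7907 : sm gf N800 = N1538 := flp_f L7906
theorem L7908 : sm ge N768 = N1539 := rfl
theorem L7909 : sm ge N1539 = N768 := flp_e L7908
theorem L7910 : sm ga N1539 = N801 := ded_10_1 L4132 L3952 L7908
theorem L7912 : sm gb N1539 = N864 := ded_15_1 L4435 L3954 L7908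
theorem L7914 : sm gf N1539 = N801 := ded_25_2 L4132 L3956 L7908
theorem L7916 : sm gd N1539 = N771 := ded_22_1 L3972 L2039 L2029 L3949 L7908
theorem L7917 : sm gd N771 = N1539 := flp_d L7916
theorem L7918 : sm gg N768 = N1540 := rfl
theorem L7919 : sm gg N1540 = N768 := flp_g L7918
theorem L7920 : sm ga N1540 = N802 := ded_12_1 L4138 L3952 L7918
theorem L7921 : sm ga N802 = N1540 := flp_a L7920
theorem L7922 : sm gb N1540 = N865 := ded_17_1 L4442 L3954 L7918
theorem L7923 : sm gb N865 = N1540 := flp_b L7922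
theorem L7924 : sm gc N769 = N1541 := rfl
theorem L7925 : sm gc N1541 = N769 := flp_c L7924
theorem L7926 : sm ga N1541 = N803 := ded_8_1 L4142 L3960 L7924
theorem L7927 : sm ga N803 = N1541 := flp_a L7926
theorem L7928 : sm gg N1541 = N803 := ded_21_2 L4142 L3964 L7924
theorem L7929 : sm gg N803 = N1541 := flp_g L7928
theorem L7930 : sm ge N769 = N1542 := rfl
theorem L7931 : sm ge N1542 = N769 := flp_e L7930
theorem L7932 : sm ga N1542 = N804 := ded_10_1 L4144 L3960 L7930
theorem L7936 : sm gg N1542 = N804 := ded_26_2 L4144 L3964 L7930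
theorem L7937 : sm gg N804 = N1542 := flp_g L7936
theorem L7938 : sm gd N1542 = N775 := ded_22_1 L3998 L2055 L2037 L3957 L7930
theorem L7939 : sm gd N775 = N1542 := flp_d L7938
theorem L7940 : sm gf N769 = N1543 := rfl
theorem L7941 : sm gf N1543 = N769 := flp_f L7940
theorem L7942 : sm ga N1543 = N805 := ded_11_1 L4150 L3960 L7940
theorem L7943 : sm ga N805 = N1543 := flp_a L7942
theorem L7946 : sm gb N770 = N1544 := rfl
theorem L7947 : sm gb N1544 = N770 := flp_b L7946
theorem L7948 : sm gf N1544 = N778 := ded_16_2 L4018 L3970 L7946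
theorem L7949 : sm gf N778 = N1544 := flp_f L7948
theorem L7950 : sm gc N1544 = N918 := ded_13_2 L4679 L2401 L2043 L3965 L7946
theorem L7951 : sm gc N918 = N1544 := flp_c L7950
theorem L7952 : sm gd N770 = N1545 := rfl
theorem L7953 : sm gd N1545 = N770 := flp_d L7952
theorem L7954 : sm ga N1545 = N807 := ded_9_1 L4160 L3968 L7952
theorem L7955 : sm ga N807 = N1545 := flp_a L7954
theorem L7956 : sm ge N770 = N1546 := rfl
theorem L7957 : sm ge N1546 = N770 := flp_e L7956
theorem L7958 : sm ga N1546 = N808 := ded_10_1 L4162 L3968 L7956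
theorem L7959 : sm ga N808 = N1546 := flp_a L7958
theorem L7960 : sm gc N1546 = N771 := ded_19_1 L3972 L3965 L7956
theorem L7962 : sm gf N1546 = N780 := ded_25_2 L4026 L3970 L7956
theorem L7964 : sm gg N770 = N1547 := rfl
theorem L7965 : sm gg N1547 = N770 := flp_g L7964
theorem L7966 : sm ga N1547 = N809 := ded_12_1 L4168 L3968 L7964
theorem L7967 : sm ga N809 = N1547 := flp_a L7966
theorem L7968 : sm gc N1547 = N772 := ded_21_1 L3980 L3965 L7964
theorem L7970 : sm gd N772 = N1548 := rfl
theorem L7972 : sm ga N1548 = N810 := ded_9_1 L4172 L3982 L7970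
theorem L7973 : sm ga N810 = N1548 := flp_a L7972
theorem L7974 : sm gb N1548 = N921 := ded_14_1 L4705 L3984 L7970
theorem L7975 : sm gb N921 = N1548 := flp_b L7974
theorem L7976 : sm gg N1548 = N773 := ded_24_2 L3986 L2047 L2038 L3979 L7970
theorem L7977 : sm gg N773 = N1548 := flp_g L7976
theorem L7978 : sm gc N773 = N1549 := rfl
theorem L7979 : sm gc N1549 = N773 := flp_c L7978
theorem L7980 : sm ga N1549 = N811 := ded_8_1 L4178 L3988 L7978
theorem L7981 : sm ga N811 = N1549 := flp_a L7980
theorem L7982 : sm ge N773 = N1550 := rfl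
theorem L7983 : sm ge N1550 = N773 := flp_e L7982
theorem L7984 : sm ga N1550 = N812 := ded_10_1 L4180 L3988 L7982
theorem L7985 : sm ga N812 = N1550 := flp_a L7984
theorem L7986 : sm gb N1550 = N923 := ded_15_1 L4713 L3990 L7982
theorem L7987 : sm gb N923 = N1550 := flp_b L7986
theorem L7996 : sm gb N774 = N1552 := rfl
theorem L7998 : sm gg N1552 = N784 := ded_17_2 L4058 L3996 L7996
theorem L7999 : sm gg N784 = N1552 := flp_g L7998
theorem L8000 : sm gc N1552 = N925 := ded_13_2 L4721 L2417 L2059 L3991 L7996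
theorem L8001 : sm gc N925 = N1552 := flp_c L8000
theorem L8002 : sm gd N774 = N1553 := rfl
theorem L8003 : sm gd N1553 = N774 := flp_d L8002
theorem L8004 : sm ga N1553 = N815 := ded_9_1 L4196 L3994 L8002
theorem L8005 : sm ga N815 = N1553 := flp_a L8004
theorem L8014 : sm gf N774 = N1555 := rfl
theorem L8015 : sm gf N1555 = N774 := flp_f L8014
theorem L8016 : sm ga N1555 = N817 := ded_11_1 L4204 L3994 L8014
theorem L8017 : sm ga N817 = N1555 := flp_a L8016
theorem L8020 : sm gd N776 = N1556 := rfl
theorem L8022 : sm ga N1556 = N818 := ded_9_1 L4208 L4008 L8020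
theorem L8024 : sm gb N1556 = N929 := ded_14_1 L4750 L4010 L8020
theorem L8026 : sm gf N1556 = N777 := ded_23_2 L4012 L2063 L2054 L4005 L8020
theorem L8027 : sm gf N777 = N1556 := flp_f L8026
theorem L8028 : sm gc N777 = N1557 := rfl
theorem L8029 : sm gc N1557 = N777 := flp_c L8028
theorem L8030 : sm ga N1557 = N819 := ded_8_1 L4214 L4014 L8028
theorem L8031 : sm ga N819 = N1557 := flp_a L8030
theorem L8032 : sm ge N777 = N1558 := rfl
theorem L8033 : sm ge N1558 = N777 := flp_e L8032
theorem L8034 : sm ga N1558 = N820 := ded_10_1 L4216 L4014 L8032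
theorem L8040 : sm gg N777 = N1559 := rfl
theorem L8041 : sm gg N1559 = N777 := flp_g L8040
theorem L8042 : sm ga N1559 = N821 := ded_12_1 L4222 L4014 L8040
theorem L8043 : sm ga N821 = N1559 := flp_a L8042
theorem L8046 : sm gd N1559 = N1540 := ded_24_1 L7919 L3950 L2071 L4011 L8040
theorem L8048 : sm gd N778 = N1560 := rfl
theorem L8049 : sm gd N1560 = N778 := flp_d L8048
theorem L8050 : sm gb N1560 = N779 := ded_14_1 L4022 L4017 L8048
theorem L8051 : sm gb N779 = N1560 := flp_b L8050
theorem L8052 : sm gg N778 = N1561 := rfl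
theorem L8053 : sm gg N1561 = N778 := flp_g L8052
theorem L8054 : sm gb N1561 = N781 := ded_17_1 L4032 L4017 L8052
theorem L8055 : sm gb N781 = N1561 := flp_b L8054
theorem L8058 : sm gc N779 = N1562 := rfl
theorem L8059 : sm gc N1562 = N779 := flp_c L8058
theorem L8060 : sm ga N1562 = N826 := ded_8_1 L4254 L4024 L8058
theorem L8061 : sm ga N826 = N1562 := flp_a L8060
theorem L8062 : sm gd N1562 = N826 := ded_30_9 L8061 L8059 L4022 L2073 L1045 L551 L1044 L2072 L4021 L8058
theorem L8063 : sm gd N826 = N1562 := flp_d L8062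
theorem L8064 : sm ge N779 = N1563 := rfl
theorem L8065 : sm ge N1563 = N779 := flp_e L8064
theorem L8066 : sm ga N1563 = N827 := ded_10_1 L4256 L4024 L8064
theorem L8067 : sm ga N827 = N1563 := flp_a L8066
theorem L8068 : sm gf N779 = N1564 := rfl
theorem L8069 : sm gf N1564 = N779 := flp_f L8068
theorem L8070 : sm ga N1564 = N828 := ded_11_1 L4258 L4024 L8068
theorem L8071 : sm ga N828 = N1564 := flp_a L8070
theorem L8072 : sm gg N779 = N1565 := rfl
theorem L8073 : sm gg N1565 = N779 := flp_g L8072
theorem L8074 : sm ga N1565 = N829 := ded_12_1 L4260 L4024 L8072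
theorem L8075 : sm ga N829 = N1565 := flp_a L8074
theorem L8076 : sm gd N780 = N1566 := rfl
theorem L8077 : sm gd N1566 = N780 := flp_d L8076
theorem L8078 : sm ga N1566 = N830 := ded_9_1 L4262 L4028 L8076
theorem L8079 : sm ga N830 = N1566 := flp_a L8078
theorem L8080 : sm gg N780 = N1567 := rfl
theorem L8081 : sm gg N1567 = N780 := flp_g L8080
theorem L8088 : sm gf N1567 = N1547 := ded_28_2 L7965 L7956 L7962 L8080
theorem L8089 : sm gf N1547 = N1567 := flp_f L8088
theorem L8090 : sm gd N781 = N1568 := rfl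
theorem L8091 : sm gd N1568 = N781 := flp_d L8090
theorem L8092 : sm ga N1568 = N832 := ded_9_1 L4272 L4034 L8090
theorem L8093 : sm ga N832 = N1568 := flp_a L8092
theorem L8094 : sm gf N781 = N1569 := rfl
theorem L8096 : sm ga N1569 = N833 := ded_11_1 L4274 L4034 L8094
theorem L8097 : sm ga N833 = N1569 := flp_a L8096
theorem L8098 : sm gc N1569 = N783 := ded_20_1 L4048 L4036 L8094
theorem L8099 : sm gc N783 = N1569 := flp_c L8098
theorem L8104 : sm gd N782 = N1570 := rfl
theorem L8105 : sm gd N1570 = N782 := flp_d L8104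
theorem L8106 : sm ga N1570 = N834 := ded_9_1 L4282 L4040 L8104
theorem L8107 : sm ga N834 = N1570 := flp_a L8106
theorem L8108 : sm gb N1570 = N942 := ded_14_1 L4811 L4042 L8104
theorem L8109 : sm gb N942 = N1570 := flp_b L8108
theorem L8112 : sm gd N783 = N1571 := rfl
theorem L8114 : sm ga N1571 = N836 := ded_9_1 L4290 L4050 L8112
theorem L8115 : sm ga N836 = N1571 := flp_a L8114
theorem L8116 : sm gb N1571 = N943 := ded_14_1 L4816 L4052 L8112
theorem L8117 : sm gb N943 = N1571 := flp_b L8116
theorem L8120 : sm gd N784 = N1572 := rfl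
theorem L8121 : sm gd N1572 = N784 := flp_d L8120
theorem L8122 : sm gb N1572 = N785 := ded_14_1 L4062 L4057 L8120
theorem L8123 : sm gb N785 = N1572 := flp_b L8122
theorem L8124 : sm gf N784 = N1573 := rfl
theorem L8125 : sm gf N1573 = N784 := flp_f L8124
theorem L8130 : sm gc N785 = N1574 := rfl
theorem L8131 : sm gc N1574 = N785 := flp_c L8130
theorem L8132 : sm ga N1574 = N846 := ded_8_1 L4348 L4064 L8130
theorem L8133 : sm ga N846 = N1574 := flp_a L8132
theorem L8134 : sm gd N1574 = N846 := ded_30_9 L8133 L8131 L4062 L2091 L1051 L560 L1050 L2090 L4061 L8130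
theorem L8135 : sm gd N846 = N1574 := flp_d L8134
theorem L8136 : sm ge N785 = N1575 := rfl
theorem L8137 : sm ge N1575 = N785 := flp_e L8136
theorem L8140 : sm gf N785 = N1576 := rfl
theorem L8148 : sm gd N786 = N1578 := rfl
theorem L8149 : sm gd N1578 = N786 := flp_d L8148
theorem L8150 : sm ga N1578 = N850 := ded_9_1 L4356 L4068 L8148
theorem L8151 : sm ga N850 = N1578 := flp_a L8150
theorem L8152 : sm gf N786 = N1579 := rfl
theorem L8153 : sm gf N1579 = N786 := flp_f L8152
theorem L8154 : sm ga N1579 = N851 := ded_11_1 L4358 L4068 L8152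
theorem L8155 : sm ga N851 = N1579 := flp_a L8154
theorem L8158 : sm ge N1579 = N787 := ded_25_1 L4072 L4065 L8152
theorem L8159 : sm ge N787 = N1579 := flp_e L8158
theorem L8162 : sm gd N787 = N1580 := rfl
theorem L8163 : sm gd N1580 = N787 := flp_d L8162
theorem L8164 : sm ga N1580 = N852 := ded_9_1 L4366 L4074 L8162
theorem L8165 : sm ga N852 = N1580 := flp_a L8164
theorem L8184 : sm gc N790 = N1583 := rfl
theorem L8185 : sm gc N1583 = N790 := flp_c L8184
theorem L8186 : sm gf N1583 = N792 := ded_20_2 L4108 L4101 L8184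
theorem L8187 : sm gf N792 = N1583 := flp_f L8186
theorem L8188 : sm ge N790 = N1584 := rfl
theorem L8189 : sm ge N1584 = N790 := flp_e L8188
theorem L8190 : sm gb N1584 = N1584 := ded_15_1 L8189 L4099 L8188
theorem L8191 : sm gf N1584 = N793 := ded_25_2 L4110 L4101 L8188
theorem L8192 : sm gf N793 = N1584 := flp_f L8191
theorem L8193 : sm gd N1584 = N793 := ded_22_1 L4110 L2123 L2114 L4097 L8188
theorem L8194 : sm gd N793 = N1584 := flp_d L8193
theorem L8195 : sm gg N790 = N1585 := rfl
theorem L8196 : sm gg N1585 = N790 := flp_g L8195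
theorem L8197 : sm gb N1585 = N1585 := ded_17_1 L8196 L4099 L8195
theorem L8198 : sm gc N791 = N1586 := rfl
theorem L8199 : sm gc N1586 = N791 := flp_c L8198
theorem L8200 : sm gg N1586 = N796 := ded_21_2 L4119 L4106 L8198
theorem L8201 : sm gg N796 = N1586 := flp_g L8200
theorem L8202 : sm ge N791 = N1587 := rfl
theorem L8203 : sm ge N1587 = N791 := flp_e L8202
theorem L8204 : sm gb N1587 = N1587 := ded_15_1 L8203 L4104 L8202
theorem L8205 : sm gg N1587 = N797 := ded_26_2 L4121 L4106 L8202
theorem L8206 : sm gg N797 = N1587 := flp_g L8205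
theorem L8207 : sm gd N1587 = N797 := ded_22_1 L4121 L2133 L2121 L4102 L8202
theorem L8208 : sm gd N797 = N1587 := flp_d L8207
theorem L8209 : sm gf N791 = N1588 := rfl
theorem L8210 : sm gf N1588 = N791 := flp_f L8209
theorem L8211 : sm gb N1588 = N1588 := ded_16_1 L8210 L4104 L8209
theorem L8212 : sm gb N792 = N1589 := rfl
theorem L8213 : sm gb N1589 = N792 := flp_b L8212
theorem L8214 : sm gc N1589 = N1589 := ded_13_2 L8213 L4108 L2124 L4107 L8212
theorem L8215 : sm gd N792 = N1590 := rfl
theorem L8216 : sm gd N1590 = N792 := flp_d L8215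
theorem L8217 : sm ge N792 = N1591 := rfl
theorem L8218 : sm ge N1591 = N792 := flp_e L8217
theorem L8219 : sm gc N1591 = N793 := ded_19_1 L4110 L4107 L8217
theorem L8220 : sm gc N793 = N1591 := flp_c L8219
theorem L8221 : sm gg N792 = N1592 := rfl
theorem L8222 : sm gg N1592 = N792 := flp_g L8221
theorem L8223 : sm gc N1592 = N794 := ded_21_1 L4113 L4107 L8221
theorem L8224 : sm gc N794 = N1592 := flp_c L8223
theorem L8225 : sm gg N793 = N1593 := rfl
theorem L8226 : sm gg N1593 = N793 := flp_g L8225
theorem L8227 : sm gb N1593 = N1593 := ded_17_1 L8226 L4111 L8225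
theorem L8228 : sm ge N1593 = N794 := ded_26_1 L4113 L4109 L8225
theorem L8229 : sm ge N794 = N1593 := flp_e L8228
theorem L8230 : sm gf N1593 = N1585 := ded_28_2 L8196 L8188 L8191 L8225
theorem L8231 : sm gf N1585 = N1593 := flp_f L8230
theorem L8232 : sm gd N794 = N1594 := rfl
theorem L8233 : sm gd N1594 = N794 := flp_d L8232
theorem L8234 : sm gb N1594 = N1594 := ded_14_1 L8233 L4114 L8232
theorem L8235 : sm gg N1594 = N795 := ded_24_2 L4116 L2126 L2122 L4112 L8232
theorem L8236 : sm gg N795 = N1594 := flp_g L8235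
theorem L8237 : sm gf N794 = N1595 := rfl
theorem L8238 : sm gf N1595 = N794 := flp_f L8237
theorem L8239 : sm gb N1595 = N1595 := ded_16_1 L8238 L4114 L8237
theorem L8240 : sm ge N1595 = N1585 := ded_25_1 L8231 L8228 L8237
theorem L8241 : sm ge N1585 = N1595 := flp_e L8240
theorem L8242 : sm gg N1595 = N1584 := ded_28_3 L8189 L4100 L4112 L8237
theorem L8243 : sm gg N1584 = N1595 := flp_g L8242
theorem L8244 : sm gc N795 = N1596 := rfl
theorem L8245 : sm gc N1596 = N795 := flp_c L8244
theorem L8246 : sm ge N795 = N1597 := rfl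
theorem L8247 : sm ge N1597 = N795 := flp_e L8246
theorem L8248 : sm gb N1597 = N1597 := ded_15_1 L8247 L4117 L8246
theorem L8249 : sm gf N795 = N1598 := rfl
theorem L8250 : sm gf N1598 = N795 := flp_f L8249
theorem L8251 : sm gb N1598 = N1598 := ded_16_1 L8250 L4117 L8249
theorem L8252 : sm gd N1598 = N1588 := ded_23_1 L8210 L4103 L2130 L4115 L8249
theorem L8253 : sm gd N1588 = N1598 := flp_d L8252
theorem L8254 : sm gb N796 = N1599 := rfl
theorem L8255 : sm gb N1599 = N796 := flp_b L8254
theorem L8256 : sm gc N1599 = N1599 := ded_13_2 L8255 L4119 L2134 L4118 L8254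
theorem L8257 : sm gd N796 = N1600 := rfl
theorem L8258 : sm gd N1600 = N796 := flp_d L8257
theorem L8259 : sm ge N796 = N1601 := rfl
theorem L8260 : sm ge N1601 = N796 := flp_e L8259
theorem L8261 : sm gc N1601 = N797 := ded_19_1 L4121 L4118 L8259
theorem L8262 : sm gc N797 = N1601 := flp_c L8261
theorem L8263 : sm gf N796 = N1602 := rfl
theorem L8264 : sm gf N1602 = N796 := flp_f L8263
theorem L8265 : sm gc N1602 = N798 := ded_20_1 L4124 L4118 L8263
theorem L8266 : sm gc N798 = N1602 := flp_c L8265
theorem L8267 : sm gf N797 = N1603 := rfl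
theorem L8268 : sm gf N1603 = N797 := flp_f L8267
theorem L8269 : sm gb N1603 = N1603 := ded_16_1 L8268 L4122 L8267
theorem L8270 : sm ge N1603 = N798 := ded_25_1 L4124 L4120 L8267
theorem L8271 : sm ge N798 = N1603 := flp_e L8270
theorem L8272 : sm gg N1588 = N1603 := ded_28_1 L8268 L8206 L8203 L8209
theorem L8273 : sm gg N1603 = N1588 := flp_g L8272
theorem L8274 : sm gd N798 = N1604 := rfl
theorem L8275 : sm gd N1604 = N798 := flp_d L8274
theorem L8276 : sm gb N1604 = N1604 := ded_14_1 L8275 L4125 L8274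
theorem L8277 : sm gf N1604 = N799 := ded_23_2 L4127 L2136 L2132 L4123 L8274
theorem L8278 : sm gf N799 = N1604 := flp_f L8277
theorem L8279 : sm gg N798 = N1605 := rfl
theorem L8280 : sm gg N1605 = N798 := flp_g L8279
theorem L8281 : sm gb N1605 = N1605 := ded_17_1 L8280 L4125 L8279
theorem L8282 : sm ge N1605 = N1588 := ded_26_1 L8272 L8270 L8279
theorem L8283 : sm ge N1588 = N1605 := flp_e L8282
theorem L8284 : sm gf N1587 = N1605 := ded_28_0 L8280 L4124 L4106 L8202
theorem L8285 : sm gf N1605 = N1587 := flp_f L8284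
theorem L8286 : sm gc N799 = N1606 := rfl
theorem L8287 : sm gc N1606 = N799 := flp_c L8286
theorem L8288 : sm ge N799 = N1607 := rfl
theorem L8289 : sm ge N1607 = N799 := flp_e L8288
theorem L8290 : sm gb N1607 = N1607 := ded_15_1 L8289 L4128 L8288
theorem L8291 : sm gd N1607 = N1597 := ded_22_1 L8247 L4116 L2141 L4126 L8288
theorem L8292 : sm gd N1597 = N1607 := flp_d L8291
theorem L8293 : sm gg N799 = N1608 := rfl
theorem L8294 : sm gg N1608 = N799 := flp_g L8293
theorem L8295 : sm gb N1608 = N1608 := ded_17_1 L8294 L4128 L8293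
theorem L8296 : sm gd N1608 = N1585 := ded_24_1 L8196 L4098 L2143 L4126 L8293
theorem L8297 : sm gd N1585 = N1608 := flp_d L8296
theorem L8298 : sm gb N800 = N1609 := rfl
theorem L8299 : sm gb N1609 = N800 := flp_b L8298
theorem L8300 : sm gc N1609 = N869 := ded_13_2 L4460 L2307 L2147 L4129 L8298
theorem L8301 : sm gc N869 = N1609 := flp_c L8300
theorem L8302 : sm gd N800 = N1610 := rfl
theorem L8303 : sm gd N1610 = N800 := flp_d L8302
theorem L8304 : sm ge N800 = N1611 := rfl
theorem L8305 : sm ge N1611 = N800 := flp_e L8304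
theorem L8306 : sm gc N1611 = N801 := ded_19_1 L4132 L4129 L8304
theorem L8307 : sm gc N801 = N1611 := flp_c L8306
theorem L8308 : sm gg N800 = N1612 := rfl
theorem L8309 : sm gg N1612 = N800 := flp_g L8308
theorem L8310 : sm gc N1612 = N802 := ded_21_1 L4138 L4129 L8308
theorem L8311 : sm gc N802 = N1612 := flp_c L8310
theorem L8312 : sm gg N801 = N1613 := rfl
theorem L8313 : sm gg N1613 = N801 := flp_g L8312
theorem L8314 : sm gb N1613 = N873 := ded_17_1 L4477 L4134 L8312
theorem L8315 : sm gb N873 = N1613 := flp_b L8314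
theorem L8316 : sm ge N1613 = N802 := ded_26_1 L4138 L4131 L8312
theorem L8317 : sm ge N802 = N1613 := flp_e L8316
theorem L8318 : sm gf N1613 = N1540 := ded_28_2 L7919 L7908 L7914 L8312
theorem L8319 : sm gf N1540 = N1613 := flp_f L8318
theorem L8320 : sm gf N802 = N1614 := rfl
theorem L8321 : sm gf N1614 = N802 := flp_f L8320
theorem L8322 : sm ga N1614 = N1613 := ded_11_1 L8318 L7920 L8320
theorem L8323 : sm ga N1613 = N1614 := flp_a L8322
theorem L8324 : sm gb N1614 = N874 := ded_16_1 L4484 L4140 L8320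
theorem L8325 : sm gb N874 = N1614 := flp_b L8324
theorem L8326 : sm ge N1614 = N1540 := ded_25_1 L8319 L8316 L8320
theorem L8327 : sm ge N1540 = N1614 := flp_e L8326
theorem L8328 : sm gg N1614 = N1539 := ded_28_3 L7909 L3955 L4137 L8320
theorem L8329 : sm gg N1539 = N1614 := flp_g L8328
theorem L8330 : sm gb N803 = N1615 := rfl
theorem L8331 : sm gb N1615 = N803 := flp_b L8330
theorem L8332 : sm gc N1615 = N875 := ded_13_2 L4491 L2318 L2151 L4141 L8330
theorem L8333 : sm gc N875 = N1615 := flp_c L8332
theorem L8334 : sm gd N803 = N1616 := rfl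
theorem L8335 : sm gd N1616 = N803 := flp_d L8334
theorem L8336 : sm ge N803 = N1617 := rfl
theorem L8337 : sm ge N1617 = N803 := flp_e L8336
theorem L8338 : sm gc N1617 = N804 := ded_19_1 L4144 L4141 L8336
theorem L8339 : sm gc N804 = N1617 := flp_c L8338
theorem L8340 : sm gf N803 = N1618 := rfl
theorem L8341 : sm gf N1618 = N803 := flp_f L8340
theorem L8344 : sm gf N804 = N1619 := rfl
theorem L8345 : sm gf N1619 = N804 := flp_f L8344
theorem L8346 : sm gb N1619 = N879 := ded_16_1 L4506 L4146 L8344
theorem L8350 : sm gg N1543 = N1619 := ded_28_1 L8345 L7937 L7931 L7940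
theorem L8351 : sm gg N1619 = N1543 := flp_g L8350
theorem L8352 : sm gg N805 = N1620 := rfl
theorem L8353 : sm gg N1620 = N805 := flp_g L8352
theorem L8354 : sm ga N1620 = N1619 := ded_12_1 L8351 L7942 L8352
theorem L8355 : sm ga N1619 = N1620 := flp_a L8354
theorem L8360 : sm gf N1542 = N1620 := ded_28_0 L8353 L4150 L3964 L7930
theorem L8361 : sm gf N1620 = N1542 := flp_f L8360
theorem L8362 : sm ga N806 = N1621 := rfl
theorem L8363 : sm ga N1621 = N806 := flp_a L8362
theorem L8366 : sm gf N1621 = N822 := ded_11_2 L4228 L4156 L8362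
theorem L8367 : sm gf N822 = N1621 := flp_f L8366
theorem L8368 : sm gb N1621 = N1546 := ded_29_4 L7960 L3973 L2158 L2339 L2336 L1164 L2328 L4158 L8362
theorem L8369 : sm gb N1546 = N1621 := flp_b L8368
theorem L8370 : sm ge N1544 = N1621 := ded_29_9 L8363 L4154 L2153 L2041 L2042 L2400 L2402 L4678 L7951
theorem L8371 : sm ge N1621 = N1544 := flp_e L8370
theorem L8372 : sm gd N806 = N1622 := rfl
theorem L8373 : sm gd N1622 = N806 := flp_d L8372
theorem L8374 : sm gb N1622 = N807 := ded_14_1 L4160 L4153 L8372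
theorem L8375 : sm gb N807 = N1622 := flp_b L8374
theorem L8376 : sm ge N806 = N1623 := rfl
theorem L8378 : sm ga N1623 = N1544 := ded_10_1 L8370 L8363 L8376
theorem L8379 : sm ga N1544 = N1623 := flp_a L8378
theorem L8380 : sm gb N1623 = N808 := ded_15_1 L4162 L4153 L8376
theorem L8381 : sm gb N808 = N1623 := flp_b L8380
theorem L8382 : sm gc N1623 = N883 := ded_19_1 L4528 L4158 L8376
theorem L8383 : sm gc N883 = N1623 := flp_c L8382
theorem L8384 : sm gf N1623 = N824 := ded_25_2 L4240 L4156 L8376
theorem L8385 : sm gf N824 = N1623 := flp_f L8384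
theorem L8392 : sm gc N807 = N1625 := rfl
theorem L8393 : sm gc N1625 = N807 := flp_c L8392
theorem L8394 : sm ge N807 = N1626 := rfl
theorem L8395 : sm ge N1626 = N807 := flp_e L8394
theorem L8396 : sm gf N807 = N1627 := rfl
theorem L8397 : sm gf N1627 = N807 := flp_f L8396
theorem L8398 : sm gd N1627 = N828 := ded_23_1 L4258 L2193 L2155 L4159 L8396
theorem L8399 : sm gd N828 = N1627 := flp_d L8398
theorem L8400 : sm gg N807 = N1628 := rfl
theorem L8401 : sm gg N1628 = N807 := flp_g L8400
theorem L8402 : sm gd N808 = N1629 := rfl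
theorem L8403 : sm gd N1629 = N808 := flp_d L8402
theorem L8404 : sm gd N809 = N1630 := rfl
theorem L8405 : sm gd N1630 = N809 := flp_d L8404
theorem L8406 : sm gc N810 = N1631 := rfl
theorem L8407 : sm gc N1631 = N810 := flp_c L8406
theorem L8408 : sm gg N1631 = N811 := ded_21_2 L4178 L4176 L8406
theorem L8409 : sm gg N811 = N1631 := flp_g L8408
theorem L8410 : sm ge N810 = N1632 := rfl
theorem L8411 : sm ge N1632 = N810 := flp_e L8410
theorem L8414 : sm gg N1632 = N812 := ded_26_2 L4180 L4176 L8410
theorem L8415 : sm gg N812 = N1632 := flp_g L8414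
theorem L8416 : sm gf N810 = N1633 := rfl
theorem L8417 : sm gf N1633 = N810 := flp_f L8416
theorem L8420 : sm gb N811 = N1634 := rfl
theorem L8421 : sm gb N1634 = N811 := flp_b L8420
theorem L8422 : sm gc N1634 = N893 := ded_13_2 L4569 L2353 L2169 L4177 L8420
theorem L8423 : sm gc N893 = N1634 := flp_c L8422
theorem L8424 : sm gd N811 = N1635 := rfl
theorem L8425 : sm gd N1635 = N811 := flp_d L8424
theorem L8426 : sm ge N811 = N1636 := rfl
theorem L8427 : sm ge N1636 = N811 := flp_e L8426
theorem L8430 : sm gf N811 = N1637 := rfl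
theorem L8431 : sm gf N1637 = N811 := flp_f L8430
theorem L8432 : sm gc N1637 = N813 := ded_20_1 L4184 L4177 L8430
theorem L8433 : sm gc N813 = N1637 := flp_c L8432
theorem L8434 : sm gf N812 = N1638 := rfl
theorem L8435 : sm gf N1638 = N812 := flp_f L8434
theorem L8440 : sm gg N1633 = N1638 := ded_28_1 L8435 L8415 L8411 L8416
theorem L8441 : sm gg N1638 = N1633 := flp_g L8440
theorem L8442 : sm gg N813 = N1639 := rfl
theorem L8443 : sm gg N1639 = N813 := flp_g L8442
theorem L8444 : sm gb N1639 = N898 := ded_17_1 L4591 L4186 L8442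
theorem L8448 : sm gf N1632 = N1639 := ded_28_0 L8443 L4184 L4176 L8410
theorem L8449 : sm gf N1639 = N1632 := flp_f L8448
theorem L8450 : sm ga N814 = N1640 := rfl
theorem L8451 : sm ga N1640 = N814 := flp_a L8450
theorem L8454 : sm gg N1640 = N842 := ded_12_2 L4322 L4192 L8450
theorem L8455 : sm gg N842 = N1640 := flp_g L8454
theorem L8458 : sm ge N1552 = N1640 := ded_29_9 L8451 L4190 L2171 L2057 L2058 L2416 L2418 L4720 L8001
theorem L8460 : sm gd N814 = N1641 := rfl
theorem L8462 : sm gb N1641 = N815 := ded_14_1 L4196 L4189 L8460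
theorem L8463 : sm gb N815 = N1641 := flp_b L8462
theorem L8464 : sm ge N814 = N1642 := rfl
theorem L8465 : sm ge N1642 = N814 := flp_e L8464
theorem L8466 : sm ga N1642 = N1552 := ded_10_1 L8458 L8451 L8464
theorem L8467 : sm ga N1552 = N1642 := flp_a L8466
theorem L8470 : sm gc N1642 = N901 := ded_19_1 L4606 L4194 L8464
theorem L8472 : sm gg N1642 = N844 := ded_26_2 L4334 L4192 L8464
theorem L8473 : sm gg N844 = N1642 := flp_g L8472
theorem L8474 : sm gf N814 = N1643 := rfl
theorem L8475 : sm gf N1643 = N814 := flp_f L8474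
theorem L8480 : sm gc N815 = N1644 := rfl
theorem L8481 : sm gc N1644 = N815 := flp_c L8480
theorem L8482 : sm ge N815 = N1645 := rfl
theorem L8484 : sm gf N815 = N1646 := rfl
theorem L8485 : sm gf N1646 = N815 := flp_f L8484
theorem L8486 : sm gg N815 = N1647 := rfl
theorem L8487 : sm gg N1647 = N815 := flp_g L8486
theorem L8488 : sm gd N1647 = N849 := ded_24_1 L4354 L2243 L2173 L4195 L8486
theorem L8489 : sm gd N849 = N1647 := flp_d L8488
theorem L8492 : sm gd N817 = N1649 := rfl
theorem L8493 : sm gd N1649 = N817 := flp_d L8492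
theorem L8494 : sm gc N818 = N1650 := rfl
theorem L8496 : sm gf N1650 = N819 := ded_20_2 L4214 L4212 L8494
theorem L8497 : sm gf N819 = N1650 := flp_f L8496
theorem L8498 : sm ge N818 = N1651 := rfl
theorem L8499 : sm ge N1651 = N818 := flp_e L8498
theorem L8500 : sm gb N1651 = N910 := ded_15_1 L4642 L4210 L8498
theorem L8502 : sm gf N1651 = N820 := ded_25_2 L4216 L4212 L8498
theorem L8504 : sm gg N818 = N1652 := rfl
theorem L8505 : sm gg N1652 = N818 := flp_g L8504
theorem L8506 : sm gb N1652 = N911 := ded_17_1 L4647 L4210 L8504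
theorem L8507 : sm gb N911 = N1652 := flp_b L8506
theorem L8508 : sm gb N819 = N1653 := rfl
theorem L8509 : sm gb N1653 = N819 := flp_b L8508
theorem L8510 : sm gc N1653 = N912 := ded_13_2 L4650 L2388 L2187 L4213 L8508
theorem L8511 : sm gc N912 = N1653 := flp_c L8510
theorem L8512 : sm gd N819 = N1654 := rfl
theorem L8513 : sm gd N1654 = N819 := flp_d L8512
theorem L8514 : sm ge N819 = N1655 := rfl
theorem L8515 : sm ge N1655 = N819 := flp_e L8514
theorem L8518 : sm gg N819 = N1656 := rfl
theorem L8519 : sm gg N1656 = N819 := flp_g L8518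
theorem L8520 : sm gc N1656 = N821 := ded_21_1 L4222 L4213 L8518
theorem L8521 : sm gc N821 = N1656 := flp_c L8520
theorem L8522 : sm gg N820 = N1657 := rfl
theorem L8524 : sm gb N1657 = N916 := ded_17_1 L4665 L4218 L8522
theorem L8525 : sm gb N916 = N1657 := flp_b L8524
theorem L8526 : sm ge N1657 = N821 := ded_26_1 L4222 L4215 L8522
theorem L8527 : sm ge N821 = N1657 := flp_e L8526
theorem L8528 : sm gf N1657 = N1652 := ded_28_2 L8505 L8498 L8502 L8522
theorem L8529 : sm gf N1652 = N1657 := flp_f L8528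
theorem L8530 : sm gf N821 = N1658 := rfl
theorem L8531 : sm gf N1658 = N821 := flp_f L8530
theorem L8532 : sm gb N1658 = N917 := ded_16_1 L4672 L4224 L8530
theorem L8534 : sm ge N1658 = N1652 := ded_25_1 L8529 L8526 L8530
theorem L8535 : sm ge N1652 = N1658 := flp_e L8534
theorem L8536 : sm gg N1658 = N1651 := ded_28_3 L8499 L4211 L4221 L8530
theorem L8538 : sm gd N822 = N1659 := rfl
theorem L8539 : sm gd N1659 = N822 := flp_d L8538
theorem L8540 : sm ga N1659 = N823 := ded_9_1 L4236 L4227 L8538
theorem L8541 : sm ga N823 = N1659 := flp_a L8540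
theorem L8542 : sm gb N1659 = N1566 := ded_14_1 L8077 L4232 L8538
theorem L8543 : sm gb N1566 = N1659 := flp_b L8542
theorem L8544 : sm gg N822 = N1660 := rfl
theorem L8545 : sm gg N1660 = N822 := flp_g L8544
theorem L8546 : sm ga N1660 = N825 := ded_12_1 L4248 L4227 L8544
theorem L8547 : sm ga N825 = N1660 := flp_a L8546
theorem L8548 : sm gb N1660 = N1567 := ded_17_1 L8081 L4232 L8544
theorem L8549 : sm gb N1567 = N1660 := flp_b L8548
theorem L8554 : sm gc N823 = N1661 := rfl
theorem L8555 : sm gc N1661 = N823 := flp_c L8554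
theorem L8556 : sm ge N823 = N1662 := rfl
theorem L8557 : sm ge N1662 = N823 := flp_e L8556
theorem L8558 : sm gb N1662 = N827 := ded_15_1 L4256 L4238 L8556
theorem L8559 : sm gb N827 = N1662 := flp_b L8558
theorem L8560 : sm gf N823 = N1663 := rfl
theorem L8561 : sm gf N1663 = N823 := flp_f L8560
theorem L8562 : sm gb N1663 = N828 := ded_16_1 L4258 L4238 L8560
theorem L8563 : sm gb N828 = N1663 := flp_b L8562
theorem L8564 : sm gg N823 = N1664 := rfl
theorem L8565 : sm gg N1664 = N823 := flp_g L8564
theorem L8566 : sm gb N1664 = N829 := ded_17_1 L4260 L4238 L8564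
theorem L8567 : sm gb N829 = N1664 := flp_b L8566
theorem L8568 : sm gd N824 = N1665 := rfl
theorem L8569 : sm gd N1665 = N824 := flp_d L8568
theorem L8570 : sm ga N1665 = N1560 := ded_9_1 L8049 L4242 L8568
theorem L8571 : sm ga N1560 = N1665 := flp_a L8570
theorem L8572 : sm gb N1665 = N830 := ded_14_1 L4262 L4244 L8568
theorem L8573 : sm gb N830 = N1665 := flp_b L8572
theorem L8574 : sm gg N824 = N1666 := rfl
theorem L8575 : sm gg N1666 = N824 := flp_g L8574
theorem L8576 : sm ga N1666 = N1561 := ded_12_1 L8053 L4242 L8574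
theorem L8577 : sm ga N1561 = N1666 := flp_a L8576
theorem L8578 : sm gb N1666 = N831 := ded_17_1 L4264 L4244 L8574
theorem L8579 : sm gb N831 = N1666 := flp_b L8578
theorem L8582 : sm ge N1666 = N825 := ded_26_1 L4248 L4239 L8574
theorem L8583 : sm ge N825 = N1666 := flp_e L8582
theorem L8586 : sm gd N825 = N1667 := rfl
theorem L8587 : sm gd N1667 = N825 := flp_d L8586
theorem L8588 : sm gb N1667 = N832 := ded_14_1 L4272 L4250 L8586
theorem L8589 : sm gb N832 = N1667 := flp_b L8588
theorem L8590 : sm gf N825 = N1668 := rfl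
theorem L8592 : sm gb N1668 = N833 := ded_16_1 L4274 L4250 L8590
theorem L8593 : sm gb N833 = N1668 := flp_b L8592
theorem L8594 : sm gc N1668 = N964 := ded_20_1 L4923 L4252 L8590
theorem L8595 : sm gc N964 = N1668 := flp_c L8594
theorem L8600 : sm gb N826 = N1669 := rfl
theorem L8601 : sm gb N1669 = N826 := flp_b L8600
theorem L8602 : sm ge N826 = N1670 := rfl
theorem L8603 : sm ge N1670 = N826 := flp_e L8602
theorem L8604 : sm gc N1670 = N827 := ded_19_1 L4256 L4253 L8602
theorem L8605 : sm gc N827 = N1670 := flp_c L8604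
theorem L8606 : sm gf N826 = N1671 := rfl
theorem L8607 : sm gf N1671 = N826 := flp_f L8606
theorem L8608 : sm gc N1671 = N828 := ded_20_1 L4258 L4253 L8606
theorem L8609 : sm gc N828 = N1671 := flp_c L8608
theorem L8610 : sm gg N826 = N1672 := rfl
theorem L8611 : sm gg N1672 = N826 := flp_g L8610
theorem L8612 : sm gc N1672 = N829 := ded_21_1 L4260 L4253 L8610
theorem L8613 : sm gc N829 = N1672 := flp_c L8612
theorem L8614 : sm gd N827 = N1673 := rfl
theorem L8615 : sm gd N1673 = N827 := flp_d L8614
theorem L8616 : sm ge N1673 = N830 := ded_22_2 L4262 L2195 L2192 L4255 L8614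
theorem L8617 : sm ge N830 = N1673 := flp_e L8616
theorem L8618 : sm gf N827 = N1674 := rfl
theorem L8619 : sm gf N1674 = N827 := flp_f L8618
theorem L8620 : sm ge N1674 = N828 := ded_25_1 L4258 L4255 L8618
theorem L8621 : sm ge N828 = N1674 := flp_e L8620
theorem L8622 : sm gg N827 = N1675 := rfl
theorem L8623 : sm gg N1675 = N827 := flp_g L8622
theorem L8624 : sm ge N1675 = N829 := ded_26_1 L4260 L4255 L8622
theorem L8625 : sm ge N829 = N1675 := flp_e L8624
theorem L8626 : sm gg N828 = N1676 := rfl
theorem L8627 : sm gg N1676 = N828 := flp_g L8626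
theorem L8628 : sm gf N1675 = N1676 := ded_28_0 L8627 L4258 L4259 L8625
theorem L8629 : sm gf N1676 = N1675 := flp_f L8628
theorem L8630 : sm gd N829 = N1677 := rfl
theorem L8631 : sm gd N1677 = N829 := flp_d L8630
theorem L8632 : sm gg N1677 = N832 := ded_24_2 L4272 L2199 L2192 L4259 L8630
theorem L8633 : sm gg N832 = N1677 := flp_g L8632
theorem L8634 : sm gf N829 = N1678 := rfl
theorem L8635 : sm gf N1678 = N829 := flp_f L8634
theorem L8636 : sm ge N1678 = N1676 := ded_25_1 L8629 L8624 L8634
theorem L8637 : sm ge N1676 = N1678 := flp_e L8636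
theorem L8638 : sm gg N1678 = N1674 := ded_28_3 L8620 L4258 L4259 L8634
theorem L8639 : sm gg N1674 = N1678 := flp_g L8638
theorem L8640 : sm gc N830 = N1679 := rfl
theorem L8641 : sm gc N1679 = N830 := flp_c L8640
theorem L8642 : sm gf N830 = N1680 := rfl
theorem L8643 : sm gf N1680 = N830 := flp_f L8642
theorem L8644 : sm gg N830 = N1681 := rfl
theorem L8645 : sm gg N1681 = N830 := flp_g L8644
theorem L8646 : sm gd N831 = N1682 := rfl
theorem L8647 : sm gd N1682 = N831 := flp_d L8646
theorem L8648 : sm gc N832 = N1683 := rfl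
theorem L8649 : sm gc N1683 = N832 := flp_c L8648
theorem L8650 : sm ge N832 = N1684 := rfl
theorem L8651 : sm ge N1684 = N832 := flp_e L8650
theorem L8652 : sm gf N832 = N1685 := rfl
theorem L8653 : sm gf N1685 = N832 := flp_f L8652
theorem L8654 : sm gd N833 = N1686 := rfl
theorem L8655 : sm gd N1686 = N833 := flp_d L8654
theorem L8656 : sm gc N834 = N1687 := rfl
theorem L8657 : sm gc N1687 = N834 := flp_c L8656
theorem L8658 : sm gf N834 = N1688 := rfl
theorem L8662 : sm gd N1688 = N1633 := ded_23_1 L8417 L4172 L2209 L4281 L8658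
theorem L8663 : sm gd N1633 = N1688 := flp_d L8662
theorem L8664 : sm gd N835 = N1689 := rfl
theorem L8665 : sm gd N1689 = N835 := flp_d L8664
theorem L8666 : sm gc N836 = N1690 := rfl
theorem L8667 : sm gc N1690 = N836 := flp_c L8666
theorem L8668 : sm ge N836 = N1691 := rfl
theorem L8669 : sm ge N1691 = N836 := flp_e L8668
theorem L8670 : sm gb N1691 = N981 := ded_15_1 L5011 L4292 L8668
theorem L8671 : sm gb N981 = N1691 := flp_b L8670
theorem L8672 : sm gd N1691 = N1632 := ded_22_1 L8411 L4172 L2221 L4289 L8668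
theorem L8673 : sm gd N1632 = N1691 := flp_d L8672
theorem L8674 : sm gg N836 = N1692 := rfl
theorem L8675 : sm gg N1692 = N836 := flp_g L8674
theorem L8676 : sm gb N1692 = N982 := ded_17_1 L5016 L4292 L8674
theorem L8678 : sm gd N1692 = N1613 := ded_24_1 L8313 L4135 L2223 L4289 L8674
theorem L8680 : sm ga N837 = N1693 := rfl
theorem L8684 : sm ge N1693 = N858 := ded_10_2 L6823 L6828 L8680
theorem L8685 : sm ge N858 = N1693 := flp_e L8684
theorem L8686 : sm gf N1693 = N1287 := ded_11_2 L6614 L4297 L8680
theorem L8690 : sm gd N837 = N1694 := rfl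
theorem L8691 : sm gd N1694 = N837 := flp_d L8690
theorem L8692 : sm gb N1694 = N838 := ded_14_1 L4300 L4293 L8690
theorem L8693 : sm gb N838 = N1694 := flp_b L8692
theorem L8694 : sm gc N838 = N1695 := rfl
theorem L8695 : sm gc N1695 = N838 := flp_c L8694
theorem L8696 : sm ge N838 = N1696 := rfl
theorem L8697 : sm ge N1696 = N838 := flp_e L8696
theorem L8698 : sm gf N838 = N1697 := rfl
theorem L8699 : sm gf N1697 = N838 := flp_f L8698
theorem L8700 : sm gg N838 = N1698 := rfl
theorem L8701 : sm gg N1698 = N838 := flp_g L8700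
theorem L8702 : sm gd N839 = N1699 := rfl
theorem L8703 : sm gd N1699 = N839 := flp_d L8702
theorem L8704 : sm gf N839 = N1700 := rfl
theorem L8706 : sm gb N1700 = N1345 := ded_16_1 L6908 L6824 L8704
theorem L8707 : sm gb N1345 = N1700 := flp_b L8706
theorem L8710 : sm ge N1700 = N840 := ded_25_1 L4306 L4301 L8704
theorem L8711 : sm ge N840 = N1700 := flp_e L8710
theorem L8714 : sm gd N840 = N1701 := rfl
theorem L8715 : sm gd N1701 = N840 := flp_d L8714
theorem L8716 : sm gb N1701 = N1346 := ded_14_1 L6910 L4308 L8714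
theorem L8717 : sm gb N1346 = N1701 := flp_b L8716
theorem L8718 : sm gd N841 = N1702 := rfl
theorem L8724 : sm gd N842 = N1703 := rfl
theorem L8725 : sm gd N1703 = N842 := flp_d L8724
theorem L8726 : sm ga N1703 = N843 := ded_9_1 L4330 L4321 L8724
theorem L8727 : sm ga N843 = N1703 := flp_a L8726
theorem L8728 : sm gb N1703 = N1578 := ded_14_1 L8149 L4326 L8724
theorem L8729 : sm gb N1578 = N1703 := flp_b L8728
theorem L8730 : sm gf N842 = N1704 := rfl
theorem L8731 : sm gf N1704 = N842 := flp_f L8730
theorem L8732 : sm ga N1704 = N845 := ded_11_1 L4342 L4321 L8730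
theorem L8733 : sm ga N845 = N1704 := flp_a L8732
theorem L8734 : sm gb N1704 = N1579 := ded_16_1 L8153 L4326 L8730
theorem L8735 : sm gb N1579 = N1704 := flp_b L8734
theorem L8738 : sm ge N1704 = N1573 := ded_25_1 L8125 L4327 L8730
theorem L8740 : sm gc N843 = N1705 := rfl
theorem L8741 : sm gc N1705 = N843 := flp_c L8740
theorem L8742 : sm ge N843 = N1706 := rfl
theorem L8743 : sm ge N1706 = N843 := flp_e L8742
theorem L8744 : sm gb N1706 = N847 := ded_15_1 L4350 L4332 L8742
theorem L8745 : sm gb N847 = N1706 := flp_b L8744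
theorem L8754 : sm gd N844 = N1709 := rfl
theorem L8755 : sm gd N1709 = N844 := flp_d L8754
theorem L8756 : sm ga N1709 = N1572 := ded_9_1 L8121 L4336 L8754
theorem L8757 : sm ga N1572 = N1709 := flp_a L8756
theorem L8758 : sm gb N1709 = N850 := ded_14_1 L4356 L4338 L8754
theorem L8759 : sm gb N850 = N1709 := flp_b L8758
theorem L8760 : sm gf N844 = N1710 := rfl
theorem L8761 : sm gf N1710 = N844 := flp_f L8760
theorem L8762 : sm ga N1710 = N1573 := ded_11_1 L8125 L4336 L8760
theorem L8763 : sm ga N1573 = N1710 := flp_a L8762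
theorem L8770 : sm gg N1643 = N1710 := ded_28_1 L8761 L8473 L8465 L8474
theorem L8772 : sm gd N845 = N1711 := rfl
theorem L8773 : sm gd N1711 = N845 := flp_d L8772
theorem L8774 : sm gb N1711 = N852 := ded_14_1 L4366 L4344 L8772
theorem L8775 : sm gb N852 = N1711 := flp_b L8774
theorem L8786 : sm gb N846 = N1713 := rfl
theorem L8787 : sm gb N1713 = N846 := flp_b L8786
theorem L8788 : sm ge N846 = N1714 := rfl
theorem L8789 : sm ge N1714 = N846 := flp_e L8788
theorem L8792 : sm gf N846 = N1715 := rfl
theorem L8793 : sm gf N1715 = N846 := flp_f L8792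
theorem L8794 : sm gc N1715 = N848 := ded_20_1 L4352 L4347 L8792
theorem L8795 : sm gc N848 = N1715 := flp_c L8794
theorem L8796 : sm gg N846 = N1716 := rfl
theorem L8797 : sm gg N1716 = N846 := flp_g L8796
theorem L8798 : sm gc N1716 = N849 := ded_21_1 L4354 L4347 L8796
theorem L8799 : sm gc N849 = N1716 := flp_c L8798
theorem L8800 : sm gd N847 = N1717 := rfl
theorem L8801 : sm gd N1717 = N847 := flp_d L8800
theorem L8802 : sm ge N1717 = N850 := ded_22_2 L4356 L2245 L2242 L4349 L8800
theorem L8803 : sm ge N850 = N1717 := flp_e L8802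
theorem L8804 : sm gf N847 = N1718 := rfl
theorem L8805 : sm gf N1718 = N847 := flp_f L8804
theorem L8806 : sm ge N1718 = N848 := ded_25_1 L4352 L4349 L8804
theorem L8808 : sm gg N847 = N1719 := rfl
theorem L8810 : sm ge N1719 = N849 := ded_26_1 L4354 L4349 L8808
theorem L8811 : sm ge N849 = N1719 := flp_e L8810
theorem L8812 : sm gd N848 = N1720 := rfl
theorem L8813 : sm gd N1720 = N848 := flp_d L8812
theorem L8814 : sm gf N1720 = N852 := ded_23_2 L4366 L2249 L2242 L4351 L8812
theorem L8815 : sm gf N852 = N1720 := flp_f L8814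
theorem L8816 : sm gg N848 = N1721 := rfl
theorem L8817 : sm gg N1721 = N848 := flp_g L8816
theorem L8818 : sm gf N1719 = N1721 := ded_28_0 L8817 L4352 L4353 L8811
theorem L8820 : sm gf N849 = N1722 := rfl
theorem L8821 : sm gf N1722 = N849 := flp_f L8820
theorem L8824 : sm gg N1722 = N1718 := ded_28_3 L8806 L4352 L4353 L8820
theorem L8825 : sm gg N1718 = N1722 := flp_g L8824
theorem L8826 : sm gc N850 = N1723 := rfl
theorem L8827 : sm gc N1723 = N850 := flp_c L8826
theorem L8828 : sm gf N850 = N1724 := rfl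
theorem L8829 : sm gf N1724 = N850 := flp_f L8828
theorem L8830 : sm gg N850 = N1725 := rfl
theorem L8831 : sm gg N1725 = N850 := flp_g L8830
theorem L8832 : sm gd N851 = N1726 := rfl
theorem L8833 : sm gd N1726 = N851 := flp_d L8832
theorem L8834 : sm gc N852 = N1727 := rfl
theorem L8835 : sm gc N1727 = N852 := flp_c L8834
theorem L8836 : sm ge N852 = N1728 := rfl
theorem L8837 : sm ge N1728 = N852 := flp_e L8836
theorem L8838 : sm gg N852 = N1729 := rfl
theorem L8839 : sm gg N1729 = N852 := flp_g L8838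
theorem L8840 : sm gd N853 = N1730 := rfl
theorem L8841 : sm gd N1730 = N853 := flp_d L8840
theorem L8860 : sm gb N855 = N1734 := rfl
theorem L8861 : sm gb N1734 = N855 := flp_b L8860
theorem L8862 : sm gf N1734 = N858 := ded_16_2 L4400 L4384 L8860
theorem L8864 : sm gg N1734 = N1286 := ded_17_2 L6873 L6870 L8860
theorem L8865 : sm gg N1286 = N1734 := flp_g L8864
theorem L8866 : sm gc N1734 = N1020 := ded_13_2 L5199 L2630 L2265 L4379 L8860
theorem L8867 : sm gc N1020 = N1734 := flp_c L8866
theorem L8868 : sm ga N1345 = N1734 := ded_29_6 L8861 L4380 L4385 L4387 L4315 L2562 L1910 L3464 L6904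
theorem L8870 : sm ge N1287 = N1734 := ded_25_3 L8862 L8685 L8686
theorem L8872 : sm gd N855 = N1735 := rfl
theorem L8873 : sm gd N1735 = N855 := flp_d L8872
theorem L8874 : sm ga N1735 = N1701 := ded_9_1 L8715 L4382 L8872
theorem L8875 : sm ga N1701 = N1735 := flp_a L8874
theorem L8876 : sm ge N855 = N1736 := rfl
theorem L8880 : sm gb N1736 = N1287 := ded_15_1 L8870 L8861 L8876
theorem L8881 : sm gb N1287 = N1736 := flp_b L8880
theorem L8884 : sm gf N1736 = N860 := ded_25_2 L4408 L4384 L8876
theorem L8885 : sm gf N860 = N1736 := flp_f L8884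
theorem L8890 : sm ge N857 = N1738 := rfl
theorem L8891 : sm ge N1738 = N857 := flp_e L8890
theorem L8894 : sm gd N1738 = N1651 := ded_22_1 L8499 L4208 L2273 L4395 L8890
theorem L8895 : sm gd N1651 = N1738 := flp_d L8894
theorem L8896 : sm gf N857 = N1739 := rfl
theorem L8897 : sm gf N1739 = N857 := flp_f L8896
theorem L8900 : sm gd N1739 = N1619 := ded_23_1 L8345 L4147 L2274 L4395 L8896
theorem L8901 : sm gd N1619 = N1739 := flp_d L8900
theorem L8902 : sm gd N858 = N1740 := rfl
theorem L8903 : sm gd N1740 = N858 := flp_d L8902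
theorem L8904 : sm gb N1740 = N859 := ded_14_1 L4404 L4399 L8902
theorem L8905 : sm gb N859 = N1740 := flp_b L8904
theorem L8906 : sm gc N859 = N1741 := rfl
theorem L8907 : sm gc N1741 = N859 := flp_c L8906
theorem L8908 : sm ga N1741 = N1695 := ded_8_1 L8695 L4406 L8906
theorem L8909 : sm ga N1695 = N1741 := flp_a L8908
theorem L8910 : sm gd N1741 = N1695 := ded_30_9 L8909 L8907 L4404 L2277 L1137 L599 L1136 L2276 L4403 L8906
theorem L8912 : sm ge N859 = N1742 := rfl
theorem L8913 : sm ge N1742 = N859 := flp_e L8912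
theorem L8914 : sm ga N1742 = N1696 := ded_10_1 L8697 L4406 L8912
theorem L8915 : sm ga N1696 = N1742 := flp_a L8914
theorem L8916 : sm gf N859 = N1743 := rfl
theorem L8917 : sm gf N1743 = N859 := flp_f L8916
theorem L8918 : sm ga N1743 = N1697 := ded_11_1 L8699 L4406 L8916
theorem L8920 : sm gg N859 = N1744 := rfl
theorem L8921 : sm gg N1744 = N859 := flp_g L8920
theorem L8922 : sm ga N1744 = N1698 := ded_12_1 L8701 L4406 L8920
theorem L8923 : sm ga N1698 = N1744 := flp_a L8922
theorem L8924 : sm gd N860 = N1745 := rfl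
theorem L8925 : sm gd N1745 = N860 := flp_d L8924
theorem L8926 : sm ga N1745 = N1699 := ded_9_1 L8703 L4410 L8924
theorem L8927 : sm ga N1699 = N1745 := flp_a L8926
theorem L8928 : sm gg N860 = N1746 := rfl
theorem L8929 : sm gg N1746 = N860 := flp_g L8928
theorem L8934 : sm ge N1746 = N861 := ded_26_1 L4414 L4407 L8928
theorem L8935 : sm ge N861 = N1746 := flp_e L8934
theorem L8938 : sm gd N861 = N1747 := rfl
theorem L8939 : sm gd N1747 = N861 := flp_d L8938
theorem L8940 : sm ga N1747 = N1689 := ded_9_1 L8665 L4416 L8938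
theorem L8941 : sm ga N1689 = N1747 := flp_a L8940
theorem L8942 : sm gd N862 = N1748 := rfl
theorem L8946 : sm gb N1748 = N1030 := ded_14_1 L5249 L4424 L8942
theorem L8947 : sm gb N1030 = N1748 := flp_b L8946
theorem L8948 : sm ge N1748 = N1570 := ded_22_2 L8105 L4043 L2295 L4426 L8942
theorem L8949 : sm ge N1570 = N1748 := flp_e L8948
theorem L8952 : sm gb N863 = N1749 := rfl
theorem L8953 : sm gb N1749 = N863 := flp_b L8952
theorem L8954 : sm gf N1749 = N869 := ded_16_2 L4460 L4433 L8952
theorem L8955 : sm gf N869 = N1749 := flp_f L8954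
theorem L8956 : sm ge N863 = N1750 := rfl
theorem L8957 : sm ge N1750 = N863 := flp_e L8956
theorem L8959 : sm gc N1750 = N864 := ded_19_1 L4435 L4429 L8956
theorem L8961 : sm gf N1750 = N871 := ded_25_2 L4465 L4433 L8956
theorem L8962 : sm gf N871 = N1750 := flp_f L8961
theorem L8963 : sm gg N863 = N1751 := rfl
theorem L8964 : sm gg N1751 = N863 := flp_g L8963
theorem L8966 : sm gc N1751 = N865 := ded_21_1 L4442 L4429 L8963
theorem L8968 : sm gb N866 = N1752 := rfl
theorem L8969 : sm gb N1752 = N866 := flp_b L8968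
theorem L8970 : sm gg N1752 = N875 := ded_17_2 L4491 L4448 L8968
theorem L8971 : sm gg N875 = N1752 := flp_g L8970
theorem L8972 : sm gd N866 = N1753 := rfl
theorem L8973 : sm gd N1753 = N866 := flp_d L8972
theorem L8974 : sm ga N1753 = N1753 := ded_9_1 L8973 L4446 L8972
theorem L8975 : sm ge N866 = N1754 := rfl
theorem L8976 : sm ge N1754 = N866 := flp_e L8975
theorem L8978 : sm gc N1754 = N867 := ded_19_1 L4450 L4444 L8975
theorem L8979 : sm gc N867 = N1754 := flp_c L8978
theorem L8980 : sm gg N1754 = N877 := ded_26_2 L4496 L4448 L8975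
theorem L8981 : sm gg N877 = N1754 := flp_g L8980
theorem L8982 : sm gf N866 = N1755 := rfl
theorem L8983 : sm gf N1755 = N866 := flp_f L8982
theorem L8985 : sm gc N1755 = N868 := ded_20_1 L4457 L4444 L8982
theorem L8986 : sm gc N868 = N1755 := flp_c L8985
theorem L8987 : sm ga N869 = N1756 := rfl
theorem L8988 : sm ga N1756 = N869 := flp_a L8987
theorem L8989 : sm gb N1756 = N1750 := ded_29_7 L8959 L4435 L2298 L3954 L7902 L7904 L8298 L8300 L8987
theorem L8990 : sm gb N1750 = N1756 := flp_b L8989
theorem L8991 : sm ge N1749 = N1756 := ded_15_0 L8989 L8957 L8952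
theorem L8992 : sm ge N1756 = N1749 := flp_e L8991
theorem L8993 : sm gd N869 = N1757 := rfl
theorem L8994 : sm gd N1757 = N869 := flp_d L8993
theorem L8995 : sm gb N1757 = N870 := ded_14_1 L4462 L4459 L8993
theorem L8997 : sm ge N869 = N1758 := rfl
theorem L8998 : sm ge N1758 = N869 := flp_e L8997
theorem L8999 : sm ga N1758 = N1749 := ded_10_1 L8991 L8988 L8997
theorem L9000 : sm ga N1749 = N1758 := flp_a L8999
theorem L9001 : sm gb N1758 = N871 := ded_15_1 L4465 L4459 L8997
theorem L9002 : sm gb N871 = N1758 := flp_b L9001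
theorem L9003 : sm gf N1758 = N1756 := ded_25_2 L8992 L8954 L8997
theorem L9004 : sm gf N1756 = N1758 := flp_f L9003
theorem L9005 : sm gd N1749 = N1758 := ded_14_0 L9001 L4470 L8952
theorem L9006 : sm gd N1758 = N1749 := flp_d L9005
theorem L9007 : sm gg N869 = N1759 := rfl
theorem L9008 : sm gg N1759 = N869 := flp_g L9007
theorem L9015 : sm ge N870 = N1761 := rfl
theorem L9018 : sm gd N1761 = N1750 := ded_22_1 L8957 L4469 L4465 L4461 L9015
theorem L9020 : sm gf N870 = N1761 := ded_23_0 L9018 L8961 L4470 L4432 L4461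
theorem L9021 : sm gf N1761 = N870 := flp_f L9020
theorem L9022 : sm gg N870 = N1762 := rfl
theorem L9023 : sm gg N1762 = N870 := flp_g L9022
theorem L9025 : sm gf N1762 = N1762 := ded_28_2 L9023 L9015 L9021 L9022
theorem L9026 : sm gg N871 = N1763 := rfl
theorem L9027 : sm gg N1763 = N871 := flp_g L9026
theorem L9029 : sm gc N1763 = N873 := ded_21_1 L4477 L4468 L9026
theorem L9030 : sm gc N873 = N1763 := flp_c L9029
theorem L9031 : sm ge N1763 = N872 := ded_26_1 L4472 L4464 L9026
theorem L9035 : sm gd N872 = N1764 := rfl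
theorem L9036 : sm gd N1764 = N872 := flp_d L9035
theorem L9038 : sm gf N872 = N1765 := rfl
theorem L9041 : sm gc N1765 = N874 := ded_20_1 L4484 L4475 L9038
theorem L9045 : sm gg N1765 = N1750 := ded_28_3 L8957 L4432 L4471 L9038
theorem L9047 : sm gd N874 = N1766 := rfl
theorem L9048 : sm gd N1766 = N874 := flp_d L9047
theorem L9050 : sm gg N1766 = N943 := ded_24_2 L4816 L2459 L4440 L4489 L9047
theorem L9051 : sm gg N943 = N1766 := flp_g L9050
theorem L9052 : sm ga N875 = N1767 := rfl
theorem L9053 : sm ga N1767 = N875 := flp_a L9052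
theorem L9054 : sm gb N1767 = N1754 := ded_29_7 L8978 L4450 L2303 L3962 L7924 L7926 L8330 L8332 L9052
theorem L9056 : sm ge N1752 = N1767 := ded_15_0 L9054 L8976 L8968
theorem L9058 : sm gd N875 = N1768 := rfl
theorem L9059 : sm gd N1768 = N875 := flp_d L9058
theorem L9060 : sm gb N1768 = N876 := ded_14_1 L4493 L4490 L9058
theorem L9061 : sm gb N876 = N1768 := flp_b L9060
theorem L9062 : sm ge N875 = N1769 := rfl
theorem L9063 : sm ge N1769 = N875 := flp_e L9062
theorem L9064 : sm ga N1769 = N1752 := ded_10_1 L9056 L9053 L9062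
theorem L9065 : sm ga N1752 = N1769 := flp_a L9064
theorem L9066 : sm gb N1769 = N877 := ded_15_1 L4496 L4490 L9062
theorem L9067 : sm gb N877 = N1769 := flp_b L9066
theorem L9070 : sm gf N875 = N1770 := rfl
theorem L9071 : sm gf N1770 = N875 := flp_f L9070
theorem L9072 : sm gb N1770 = N878 := ded_16_1 L4501 L4490 L9070
theorem L9073 : sm gb N878 = N1770 := flp_b L9072
theorem L9074 : sm gc N876 = N1771 := rfl
theorem L9075 : sm gc N1771 = N876 := flp_c L9074
theorem L9078 : sm ge N876 = N1772 := rfl
theorem L9079 : sm ge N1772 = N876 := flp_e L9078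
theorem L9081 : sm gf N876 = N1773 := rfl
theorem L9082 : sm gf N1773 = N876 := flp_f L9081
theorem L9084 : sm gg N876 = N1774 := rfl
theorem L9085 : sm gg N1774 = N876 := flp_g L9084
theorem L9087 : sm gd N877 = N1775 := rfl
theorem L9088 : sm gd N1775 = N877 := flp_d L9087
theorem L9090 : sm gf N877 = N1776 := rfl
theorem L9091 : sm gf N1776 = N877 := flp_f L9090
theorem L9095 : sm ge N1776 = N878 := ded_25_1 L4501 L4495 L9090
theorem L9097 : sm gg N1755 = N1776 := ded_28_1 L9091 L8981 L8976 L8982
theorem L9098 : sm gg N1776 = N1755 := flp_g L9097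
theorem L9099 : sm gd N878 = N1777 := rfl
theorem L9100 : sm gd N1777 = N878 := flp_d L9099
theorem L9102 : sm gg N878 = N1778 := rfl
theorem L9103 : sm gg N1778 = N878 := flp_g L9102
theorem L9105 : sm gc N1778 = N880 := ded_21_1 L4513 L4504 L9102
theorem L9106 : sm gc N880 = N1778 := flp_c L9105
theorem L9111 : N1771 = N1413 := coi_31_4 L7255 L7232 L3621 L1828 L1813 L1810 L1897 L1900 L3751 L7471 L7479 L9106 L9103 L4501 L4492 L9074
theorem L9112 : N1771 = N1413 := eqc rfl L9111 rfl
theorem L9114 : sm gc N1413 = N876 := trfs L9112 L9075 rfl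
theorem L9117 : N1772 = N1412 := coi_19_3 L7247 L7253 L9114 L9078
theorem L9118 : N1772 = N1412 := eqc rfl L9117 rfl
theorem L9120 : sm ge N1412 = N876 := trfs L9118 L9079 rfl
theorem L9121 : sm ge N876 = N1412 := flp_e L9120
theorem L9122 : N1773 = N1411 := coi_20_3 L7242 L7249 L9114 L9081
theorem L9123 : N1773 = N1411 := eqc rfl L9122 rfl
theorem L9125 : sm gf N1411 = N876 := trfs L9123 L9082 rfl
theorem L9126 : sm gf N876 = N1411 := flp_f L9125
theorem L9127 : sm gc N1774 = N1408 := ded_21_3 L7254 L9114 L9084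
theorem L9128 : sm gc N1408 = N1774 := flp_c L9127
theorem L9129 : sm gf N1406 = N1774 := ded_28_2 L9085 L9121 L7245 L7223
theorem L9130 : sm gf N1774 = N1406 := flp_f L9129
theorem L9131 : sm gd N881 = N1779 := rfl
theorem L9137 : sm ge N1779 = N882 := ded_22_2 L4524 L4527 L4681 L4687 L9131
theorem L9138 : sm ge N882 = N1779 := flp_e L9137
theorem L9139 : sm gg N881 = N1780 := rfl
theorem L9140 : sm gg N1780 = N881 := flp_g L9139
theorem L9141 : sm ga N1780 = N884 := ded_12_1 L4534 L4519 L9139
theorem L9142 : sm ga N884 = N1780 := flp_a L9141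
theorem L9147 : sm gc N882 = N1781 := rfl
theorem L9149 : sm gf N882 = N1782 := rfl
theorem L9150 : sm gf N1782 = N882 := flp_f L9149
theorem L9153 : sm gd N1782 = N959 := ded_23_1 L4893 L2497 L2331 L4523 L9149
theorem L9154 : sm gd N959 = N1782 := flp_d L9153
theorem L9155 : sm gg N882 = N1783 := rfl
theorem L9156 : sm gg N1783 = N882 := flp_g L9155
theorem L9159 : sm gd N884 = N1784 := rfl
theorem L9160 : sm gd N1784 = N884 := flp_d L9159
theorem L9161 : sm gb N1784 = N889 := ded_14_1 L4553 L4536 L9159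
theorem L9162 : sm gb N889 = N1784 := flp_b L9161
theorem L9163 : sm gb N885 = N1785 := rfl
theorem L9164 : sm gb N1785 = N885 := flp_b L9163
theorem L9166 : sm ge N885 = N1786 := rfl
theorem L9167 : sm ge N1786 = N885 := flp_e L9166
theorem L9171 : sm gf N885 = N1787 := rfl
theorem L9172 : sm gf N1787 = N885 := flp_f L9171
theorem L9173 : sm ga N1787 = N1787 := ded_11_1 L9172 L4539 L9171
theorem L9174 : sm gc N1787 = N887 := ded_20_1 L4545 L4537 L9171
theorem L9175 : sm gc N887 = N1787 := flp_c L9174
theorem L9176 : sm gg N885 = N1788 := rfl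
theorem L9177 : sm gg N1788 = N885 := flp_g L9176
theorem L9186 : sm gg N886 = N1790 := rfl
theorem L9187 : sm gg N1790 = N886 := flp_g L9186
theorem L9189 : sm ge N1790 = N888 := ded_26_1 L4550 L4541 L9186
theorem L9190 : sm ge N888 = N1790 := flp_e L9189
theorem L9191 : sm gg N887 = N1791 := rfl
theorem L9192 : sm gg N1791 = N887 := flp_g L9191
theorem L9194 : sm gf N1790 = N1791 := ded_28_0 L9192 L4545 L4549 L9190
theorem L9195 : sm gf N1791 = N1790 := flp_f L9194
theorem L9208 : sm gc N889 = N1794 := rfl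
theorem L9209 : sm gc N1794 = N889 := flp_c L9208
theorem L9211 : sm gf N889 = N1795 := rfl
theorem L9212 : sm gf N1795 = N889 := flp_f L9211
theorem L9214 : sm gg N1069 = N1795 := ded_31_0 L9212 L4553 L2345 L1173 L624 L334 L142 L161 L166 L361 L695 L698 L1368 L2752 L5433
theorem L9215 : sm gg N1795 = N1069 := flp_g L9214
theorem L9216 : sm gc N1795 = N1071 := ded_21_1 L5440 L5433 L9214
theorem L9218 : sm gf N1071 = N1794 := ded_20_2 L9209 L9211 L9216
theorem L9220 : sm gb N890 = N1796 := rfl
theorem L9221 : sm gb N1796 = N890 := flp_b L9220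
theorem L9222 : sm gg N1796 = N893 := ded_17_2 L4569 L4559 L9220
theorem L9223 : sm gg N893 = N1796 := flp_g L9222
theorem L9224 : sm gd N890 = N1797 := rfl
theorem L9225 : sm gd N1797 = N890 := flp_d L9224
theorem L9227 : sm ge N890 = N1798 := rfl
theorem L9228 : sm ge N1798 = N890 := flp_e L9227
theorem L9230 : sm gc N1798 = N891 := ded_19_1 L4561 L4555 L9227
theorem L9232 : sm gg N1798 = N895 := ded_26_2 L4574 L4559 L9227
theorem L9233 : sm gg N895 = N1798 := flp_g L9232
theorem L9234 : sm gf N1798 = N1152 := ded_28_0 L5860 L4579 L4559 L9227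
theorem L9235 : sm gf N1152 = N1798 := flp_f L9234
theorem L9236 : sm gd N1151 = N1798 := ded_23_5 L9234 L5855 L2937 L2933 L5851
theorem L9237 : sm gd N1798 = N1151 := flp_d L9236
theorem L9238 : sm gf N890 = N1799 := rfl
theorem L9243 : sm ge N1799 = N1152 := ded_25_1 L9235 L9228 L9238
theorem L9245 : sm ga N893 = N1800 := rfl
theorem L9246 : sm ga N1800 = N893 := flp_a L9245
theorem L9247 : sm gd N893 = N1801 := rfl
theorem L9248 : sm gd N1801 = N893 := flp_d L9247
theorem L9249 : sm gb N1801 = N894 := ded_14_1 L4571 L4568 L9247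
theorem L9250 : sm gb N894 = N1801 := flp_b L9249
theorem L9251 : sm ge N893 = N1802 := rfl
theorem L9252 : sm ge N1802 = N893 := flp_e L9251
theorem L9253 : sm gb N1802 = N895 := ded_15_1 L4574 L4568 L9251
theorem L9254 : sm gb N895 = N1802 := flp_b L9253
theorem L9255 : sm gf N893 = N1803 := rfl
theorem L9256 : sm gf N1803 = N893 := flp_f L9255
theorem L9257 : sm gb N1803 = N896 := ded_16_1 L4579 L4568 L9255
theorem L9258 : sm gb N896 = N1803 := flp_b L9257
theorem L9259 : sm gc N894 = N1804 := rfl
theorem L9260 : sm gc N1804 = N894 := flp_c L9259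
theorem L9263 : sm ge N894 = N1805 := rfl
theorem L9264 : sm ge N1805 = N894 := flp_e L9263
theorem L9266 : sm gf N894 = N1806 := rfl
theorem L9269 : sm gg N894 = N1807 := rfl
theorem L9270 : sm gg N1807 = N894 := flp_g L9269
theorem L9272 : sm gd N895 = N1808 := rfl
theorem L9273 : sm gd N1808 = N895 := flp_d L9272
theorem L9275 : sm gf N895 = N1809 := rfl
theorem L9276 : sm gf N1809 = N895 := flp_f L9275
theorem L9282 : sm gg N1809 = N1799 := ded_28_3 L9243 L9235 L9232 L9275
theorem L9283 : sm gg N1799 = N1809 := flp_g L9282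
theorem L9284 : sm gd N896 = N1810 := rfl
theorem L9287 : sm gg N1810 = N1125 := ded_24_2 L5733 L2944 L5854 L5860 L9284
theorem L9288 : sm gg N1125 = N1810 := flp_g L9287
theorem L9296 : sm gd N899 = N1812 := rfl
theorem L9297 : sm gd N1812 = N899 := flp_d L9296
theorem L9298 : sm ga N1812 = N900 := ded_9_1 L4602 L4597 L9296
theorem L9299 : sm ga N900 = N1812 := flp_a L9298
theorem L9300 : sm gf N899 = N1813 := rfl
theorem L9301 : sm gf N1813 = N899 := flp_f L9300
theorem L9302 : sm ga N1813 = N902 := ded_11_1 L4612 L4597 L9300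
theorem L9303 : sm ga N902 = N1813 := flp_a L9302
theorem L9308 : sm gc N900 = N1814 := rfl
theorem L9309 : sm gc N1814 = N900 := flp_c L9308
theorem L9310 : sm ge N900 = N1815 := rfl
theorem L9311 : sm ge N1815 = N900 := flp_e L9310
theorem L9312 : sm gb N1815 = N904 := ded_15_1 L4620 L4604 L9310
theorem L9324 : sm gd N901 = N1818 := rfl
theorem L9325 : sm gd N1818 = N901 := flp_d L9324
theorem L9326 : sm gb N1818 = N907 := ded_14_1 L4631 L4608 L9324
theorem L9327 : sm gb N907 = N1818 := flp_b L9326
theorem L9328 : sm gd N902 = N1819 := rfl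
theorem L9329 : sm gd N1819 = N902 := flp_d L9328
theorem L9330 : sm gb N1819 = N908 := ded_14_1 L4634 L4614 L9328
theorem L9331 : sm gb N908 = N1819 := flp_b L9330
theorem L9332 : sm gb N903 = N1820 := rfl
theorem L9333 : sm gb N1820 = N903 := flp_b L9332
theorem L9335 : sm ge N903 = N1821 := rfl
theorem L9336 : sm ge N1821 = N903 := flp_e L9335
theorem L9338 : sm gc N1821 = N904 := ded_19_1 L4620 L4615 L9335
theorem L9339 : sm gc N904 = N1821 := flp_c L9338
theorem L9340 : sm gf N903 = N1822 := rfl
theorem L9341 : sm gf N1822 = N903 := flp_f L9340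
theorem L9343 : sm gc N1822 = N905 := ded_20_1 L4623 L4615 L9340
theorem L9344 : sm gc N905 = N1822 := flp_c L9343
theorem L9345 : sm gg N903 = N1823 := rfl
theorem L9348 : sm gc N1823 = N906 := ded_21_1 L4626 L4615 L9345
theorem L9349 : sm gc N906 = N1823 := flp_c L9348
theorem L9350 : sm gd N904 = N1824 := rfl
theorem L9353 : sm ge N1824 = N907 := ded_22_2 L4631 L2371 L2367 L4619 L9350
theorem L9355 : sm gf N904 = N1825 := rfl
theorem L9356 : sm gf N1825 = N904 := flp_f L9355
theorem L9358 : sm ge N1825 = N905 := ded_25_1 L4623 L4619 L9355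
theorem L9360 : sm gg N904 = N1826 := rfl
theorem L9361 : sm gg N1826 = N904 := flp_g L9360
theorem L9363 : sm ge N1826 = N906 := ded_26_1 L4626 L4619 L9360
theorem L9364 : sm ge N906 = N1826 := flp_e L9363
theorem L9365 : sm gd N905 = N1827 := rfl
theorem L9366 : sm gd N1827 = N905 := flp_d L9365
theorem L9368 : sm gf N1827 = N908 := ded_23_2 L4634 L2378 L2367 L4622 L9365
theorem L9370 : sm gg N905 = N1828 := rfl
theorem L9371 : sm gg N1828 = N905 := flp_g L9370
theorem L9373 : sm gf N1826 = N1828 := ded_28_0 L9371 L4623 L4625 L9364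
theorem L9374 : sm gf N1828 = N1826 := flp_f L9373
theorem L9375 : sm gf N906 = N1829 := rfl
theorem L9376 : sm gf N1829 = N906 := flp_f L9375
theorem L9378 : sm ge N1829 = N1828 := ded_25_1 L9374 L9363 L9375
theorem L9379 : sm ge N1828 = N1829 := flp_e L9378
theorem L9380 : sm gg N1829 = N1825 := ded_28_3 L9358 L4623 L4625 L9375
theorem L9381 : sm gg N1825 = N1829 := flp_g L9380
theorem L9382 : sm gd N1829 = N1204 := ded_23_1 L6142 L7070 L5154 L4629 L9375
theorem L9383 : sm gd N1204 = N1829 := flp_d L9382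
theorem L9384 : sm gc N908 = N1830 := rfl
theorem L9385 : sm gc N1830 = N908 := flp_c L9384
theorem L9387 : sm gg N1830 = N1047 := ded_31_4 L5332 L2708 L1351 L690 L360 L356 L323 L354 L347 L343 L672 L1182 L2377 L4633 L9384
theorem L9388 : sm gg N1047 = N1830 := flp_g L9387
theorem L9389 : sm ge N908 = N1831 := rfl
theorem L9392 : sm gd N1831 = N953 := ded_22_1 L4862 L4745 L2622 L4633 L9389
theorem L9394 : sm gg N908 = N1832 := rfl
theorem L9395 : sm gg N1832 = N908 := flp_g L9394
theorem L9397 : sm gc N1832 = N1047 := ded_21_1 L9388 L9385 L9394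
theorem L9399 : sm gf N1045 = N1832 := ded_20_0 L9397 L5332 L5324
theorem L9400 : sm gf N1832 = N1045 := flp_f L9399
theorem L9401 : sm gb N909 = N1833 := rfl
theorem L9402 : sm gb N1833 = N909 := flp_b L9401
theorem L9403 : sm gf N1833 = N912 := ded_16_2 L4650 L4640 L9401
theorem L9404 : sm gf N912 = N1833 := flp_f L9403
theorem L9405 : sm gd N909 = N1834 := rfl
theorem L9406 : sm gd N1834 = N909 := flp_d L9405
theorem L9407 : sm ga N1834 = N1834 := ded_9_1 L9406 L4638 L9405
theorem L9408 : sm ge N909 = N1835 := rfl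
theorem L9409 : sm ge N1835 = N909 := flp_e L9408
theorem L9411 : sm gc N1835 = N910 := ded_19_1 L4642 L4636 L9408
theorem L9412 : sm gc N910 = N1835 := flp_c L9411
theorem L9413 : sm gf N1835 = N914 := ded_25_2 L4655 L4640 L9408
theorem L9414 : sm gf N914 = N1835 := flp_f L9413
theorem L9415 : sm gg N1092 = N1835 := ded_28_3 L9409 L4639 L4659 L5540
theorem L9416 : sm gg N1835 = N1092 := flp_g L9415
theorem L9417 : sm gd N1835 = N1095 := ded_24_1 L5555 L2798 L2796 L5537 L9415
theorem L9418 : sm gd N1095 = N1835 := flp_d L9417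
theorem L9419 : N1023 = N1024 := coi_30_7 L5226 L9412 L9417 L5556 L5557 L4750 L4744 L4745 L2620 L2658 L5220
theorem L9420 : N1024 = N1023 := (eqc rfl L9419 rfl).symm
theorem L9424 : sm gd N1023 = N910 := trfs L9420 L5226 rfl
theorem L9426 : sm ge N1023 = N513 := trfs L9420 L5224 rfl
theorem L9432 : sm gg N909 = N1836 := rfl
theorem L9433 : sm gg N1836 = N909 := flp_g L9432
theorem L9435 : sm gc N1836 = N911 := ded_21_1 L4647 L4636 L9432
theorem L9437 : sm ge N1836 = N1092 := ded_26_1 L9415 L9409 L9432
theorem L9438 : sm ge N1092 = N1836 := flp_e L9437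
theorem L9439 : sm gd N1094 = N1836 := ded_22_5 L9437 L5538 L2793 L2797 L5551
theorem L9440 : sm gd N1836 = N1094 := flp_d L9439
theorem L9441 : sm ga N912 = N1837 := rfl
theorem L9442 : sm ga N1837 = N912 := flp_a L9441
theorem L9443 : sm gd N912 = N1838 := rfl
theorem L9444 : sm gd N1838 = N912 := flp_d L9443
theorem L9445 : sm gb N1838 = N913 := ded_14_1 L4652 L4649 L9443
theorem L9446 : sm gb N913 = N1838 := flp_b L9445
theorem L9447 : sm ge N912 = N1839 := rfl
theorem L9448 : sm ge N1839 = N912 := flp_e L9447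
theorem L9449 : sm gb N1839 = N914 := ded_15_1 L4655 L4649 L9447
theorem L9450 : sm gb N914 = N1839 := flp_b L9449
theorem L9451 : sm gg N912 = N1840 := rfl
theorem L9452 : sm gg N1840 = N912 := flp_g L9451
theorem L9453 : sm gb N1840 = N915 := ded_17_1 L4660 L4649 L9451
theorem L9454 : sm gb N915 = N1840 := flp_b L9453
theorem L9455 : sm gc N913 = N1841 := rfl
theorem L9456 : sm gc N1841 = N913 := flp_c L9455
theorem L9457 : sm ga N1841 = N1841 := ded_8_1 L9456 L4653 L9455
theorem L9458 : sm gd N1841 = N1841 := ded_30_9 L9457 L9456 L4652 L2388 L1192 L640 L1191 L2387 L4651 L9455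
theorem L9459 : sm ge N913 = N1842 := rfl
theorem L9460 : sm ge N1842 = N913 := flp_e L9459
theorem L9462 : sm gf N913 = N1843 := rfl
theorem L9463 : sm gf N1843 = N913 := flp_f L9462
theorem L9464 : sm ga N1843 = N1843 := ded_11_1 L9463 L4653 L9462
theorem L9465 : sm gg N913 = N1844 := rfl
theorem L9466 : sm gg N1844 = N913 := flp_g L9465
theorem L9468 : sm gd N914 = N1845 := rfl
theorem L9469 : sm gd N1845 = N914 := flp_d L9468
theorem L9471 : sm gg N914 = N1846 := rfl
theorem L9472 : sm gg N1846 = N914 := flp_g L9471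
theorem L9476 : sm ge N1846 = N915 := ded_26_1 L4660 L4654 L9471
theorem L9478 : sm gf N1836 = N1846 := ded_28_0 L9472 L9414 L9416 L9438
theorem L9479 : sm gf N1846 = N1836 := flp_f L9478
theorem L9480 : sm gd N916 = N1847 := rfl
theorem L9481 : sm gd N1847 = N916 := flp_d L9480
theorem L9483 : sm ge N1847 = N982 := ded_22_2 L5018 L4479 L2399 L4668 L9480
theorem L9484 : sm ge N982 = N1847 := flp_e L9483
theorem L9485 : sm gg N1847 = N981 := ded_24_2 L5013 L4563 L2394 L4664 L9480
theorem L9486 : sm gg N981 = N1847 := flp_g L9485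
theorem L9487 : sm gf N1847 = N1456 := ded_28_0 L7487 L3760 L5015 L9484
theorem L9488 : sm gf N1456 = N1847 := flp_f L9487
theorem L9489 : sm gd N917 = N1848 := rfl
theorem L9492 : sm gf N1848 = N1766 := ded_23_2 L9048 L4484 L2399 L4671 L9489
theorem L9493 : sm gf N1766 = N1848 := flp_f L9492
theorem L9494 : sm gg N1848 = N1442 := ded_28_3 L7404 L4819 L9051 L9493
theorem L9495 : sm gg N1442 = N1848 := flp_g L9494
theorem L9496 : sm ge N1443 = N1848 := ded_28_4 L9492 L9050 L4818 L7406
theorem L9497 : sm ge N1848 = N1443 := flp_e L9496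
theorem L9498 : sm gg N918 = N1849 := rfl
theorem L9499 : sm gg N1849 = N918 := flp_g L9498
theorem L9502 : sm gb N1849 = N920 := ded_17_1 L4700 L4678 L9498
theorem L9506 : sm gf N956 = N1849 := ded_28_0 L9499 L4682 L4771 L4884
theorem L9508 : sm gc N921 = N1850 := rfl
theorem L9509 : sm gc N1850 = N921 := flp_c L9508
theorem L9511 : sm gg N1850 = N922 := ded_21_2 L4710 L4708 L9508
theorem L9512 : sm gg N922 = N1850 := flp_g L9511
theorem L9513 : sm gf N1850 = N1126 := ded_31_1 L5736 L2891 L1453 L749 L387 L350 L353 L320 L316 L1023 L1149 L1202 L2413 L4709 L9512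
theorem L9514 : sm gf N1126 = N1850 := flp_f L9513
theorem L9515 : sm ge N921 = N1851 := rfl
theorem L9516 : sm ge N1851 = N921 := flp_e L9515
theorem L9518 : sm gg N1851 = N923 := ded_26_2 L4713 L4708 L9515
theorem L9519 : sm gg N923 = N1851 := flp_g L9518
theorem L9520 : sm gf N921 = N1852 := rfl
theorem L9521 : sm gf N1852 = N921 := flp_f L9520
theorem L9523 : sm gc N1852 = N1126 := ded_20_1 L9514 L9509 L9520
theorem L9524 : sm gc N1126 = N1852 := flp_c L9523
theorem L9525 : sm gb N922 = N1853 := rfl
theorem L9526 : sm gb N1853 = N922 := flp_b L9525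
theorem L9527 : sm ga N1802 = N1853 := ded_29_0 L9526 L4710 L2415 L3990 L7978 L7980 L8420 L8422 L9251
theorem L9529 : sm ge N1853 = N1800 := ded_10_2 L9246 L9251 L9527
theorem L9530 : sm ge N1800 = N1853 := flp_e L9529
theorem L9531 : sm gd N922 = N1854 := rfl
theorem L9532 : sm gd N1854 = N922 := flp_d L9531
theorem L9534 : sm ge N922 = N1855 := rfl
theorem L9537 : sm gb N1855 = N1800 := ded_15_1 L9530 L9526 L9534
theorem L9538 : sm gb N1800 = N1855 := flp_b L9537
theorem L9539 : sm gc N1855 = N923 := ded_19_1 L4713 L4709 L9534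
theorem L9541 : sm gf N922 = N1856 := rfl
theorem L9542 : sm gf N1856 = N922 := flp_f L9541
theorem L9546 : sm gf N923 = N1857 := rfl
theorem L9547 : sm gf N1857 = N923 := flp_f L9546
theorem L9549 : sm ge N1857 = N924 := ded_25_1 L4716 L4712 L9546
theorem L9551 : sm gg N1852 = N1857 := ded_28_1 L9547 L9519 L9516 L9520
theorem L9552 : sm gg N1857 = N1852 := flp_g L9551
theorem L9553 : sm gd N1453 = N1857 := ded_22_5 L9549 L4718 L4516 L7480 L7475
theorem L9554 : sm gd N1857 = N1453 := flp_d L9553
theorem L9555 : sm gg N924 = N1858 := rfl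
theorem L9556 : sm gg N1858 = N924 := flp_g L9555
theorem L9558 : sm ge N1858 = N1852 := ded_26_1 L9551 L9549 L9555
theorem L9562 : sm gd N925 = N1859 := rfl
theorem L9563 : sm gd N1859 = N925 := flp_d L9562
theorem L9564 : sm ga N1859 = N1818 := ded_9_1 L9325 L4724 L9562
theorem L9565 : sm ga N1818 = N1859 := flp_a L9564
theorem L9566 : sm gb N1859 = N926 := ded_14_1 L4729 L4720 L9562
theorem L9567 : sm gb N926 = N1859 := flp_b L9566
theorem L9568 : sm gf N1818 = N1859 := ded_16_0 L9566 L4747 L9327
theorem L9569 : sm gf N1859 = N1818 := flp_f L9568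
theorem L9570 : sm gf N925 = N1860 := rfl
theorem L9576 : sm ge N1860 = N1813 := ded_25_1 L9301 L4726 L9570
theorem L9578 : sm gg N1860 = N991 := ded_28_3 L5065 L4825 L4723 L9570
theorem L9580 : sm gd N1860 = N999 := ded_23_1 L5108 L9324 L9568 L9563 L9570
theorem L9581 : sm gd N999 = N1860 := flp_d L9580
theorem L9582 : sm gc N926 = N1861 := rfl
theorem L9583 : sm gc N1861 = N926 := flp_c L9582
theorem L9585 : sm gf N1861 = N1365 := ded_20_2 L7002 L4748 L9582
theorem L9586 : sm gf N1365 = N1861 := flp_f L9585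
theorem L9587 : sm gg N1433 = N1861 := ded_28_1 L9585 L6999 L7030 L7363
theorem L9588 : sm gg N1861 = N1433 := flp_g L9587
theorem L9589 : sm ge N1427 = N1861 := ded_28_4 L9585 L6999 L3697 L7334
theorem L9591 : sm ge N926 = N1862 := rfl
theorem L9592 : sm ge N1862 = N926 := flp_e L9591
theorem L9594 : sm gc N1862 = N1427 := ded_19_1 L9589 L9583 L9591
theorem L9595 : sm gc N1427 = N1862 := flp_c L9594
theorem L9596 : sm gf N1862 = N1824 := ded_25_2 L9353 L4748 L9591
theorem L9597 : sm gf N1824 = N1862 := flp_f L9596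
theorem L9598 : sm gg N1432 = N1862 := ded_28_3 L9592 L4747 L7027 L7358
theorem L9609 : sm gd N927 = N1864 := rfl
theorem L9610 : sm gd N1864 = N927 := flp_d L9609
theorem L9612 : sm gb N1864 = N1812 := ded_14_1 L9297 L4735 L9609
theorem L9613 : sm gb N1812 = N1864 := flp_b L9612
theorem L9614 : sm ge N929 = N1865 := rfl
theorem L9615 : sm ge N1865 = N929 := flp_e L9614
theorem L9617 : sm gf N1865 = N931 := ded_25_2 L4758 L4753 L9614
theorem L9618 : sm gf N931 = N1865 := flp_f L9617
theorem L9619 : sm gd N1865 = N1452 := ded_22_1 L7463 L3755 L2486 L4749 L9614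
theorem L9620 : sm gd N1452 = N1865 := flp_d L9619
theorem L9621 : sm gb N930 = N1866 := rfl
theorem L9622 : sm gb N1866 = N930 := flp_b L9621
theorem L9623 : sm ga N1839 = N1866 := ded_29_0 L9622 L4755 L2431 L4016 L8028 L8030 L8508 L8510 L9447
theorem L9625 : sm ge N1866 = N1837 := ded_10_2 L9442 L9447 L9623
theorem L9626 : sm ge N1837 = N1866 := flp_e L9625
theorem L9627 : sm gd N930 = N1867 := rfl
theorem L9628 : sm gd N1867 = N930 := flp_d L9627
theorem L9629 : sm ga N1867 = N1867 := ded_9_1 L9628 L4756 L9627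
theorem L9630 : sm gf N1867 = N1845 := ded_23_2 L9469 L9414 L9417 L5560 L9627
theorem L9631 : sm gf N1845 = N1867 := flp_f L9630
theorem L9632 : sm ge N930 = N1868 := rfl
theorem L9633 : sm ge N1868 = N930 := flp_e L9632
theorem L9637 : sm gc N1868 = N931 := ded_19_1 L4758 L4754 L9632
theorem L9638 : sm gc N931 = N1868 := flp_c L9637
theorem L9639 : sm gg N1086 = N1868 := ded_28_3 L9633 L5559 L5555 L5514
theorem L9641 : sm gg N930 = N1869 := rfl
theorem L9642 : sm gg N1869 = N930 := flp_g L9641
theorem L9644 : sm gc N1869 = N932 := ded_21_1 L4763 L4754 L9641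
theorem L9646 : sm ge N1869 = N1086 := ded_26_1 L9639 L9633 L9641
theorem L9647 : sm ge N1086 = N1869 := flp_e L9646
theorem L9648 : sm gf N1094 = N1869 := ded_28_0 L9642 L5559 L5555 L5551
theorem L9650 : sm gg N931 = N1870 := rfl
theorem L9651 : sm gg N1870 = N931 := flp_g L9650
theorem L9653 : sm gc N1870 = N1086 := ded_21_1 L9639 L9637 L9650
theorem L9654 : sm gc N1086 = N1870 := flp_c L9653
theorem L9655 : sm ge N1870 = N932 := ded_26_1 L4763 L4757 L9650
theorem L9657 : sm gf N1870 = N1093 := ded_28_2 L5549 L9614 L9617 L9650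
theorem L9658 : sm gf N1093 = N1870 := flp_f L9657
theorem L9659 : N894 = N1082 := coi_31_11 L5493 L2782 L2778 L5510 L9654 L9651 L9618 L9619 L7462 L7460 L7451 L7457 L5858 L5860 L4579 L4570
theorem L9660 : N1082 = N894 := (eqc rfl L9659 rfl).symm
theorem L9662 : sm gc N894 = N541 := trfs L9660 L5493 rfl
theorem L9663 : N541 = N1804 := eqes L9662 L9259
theorem L9664 : N1804 = N541 := (eqc rfl L9663 rfl).symm
theorem L9665 : sm gg N894 = N538 := trfs L9660 L5491 rfl
theorem L9666 : N538 = N1807 := eqes L9665 L9269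
theorem L9667 : N1807 = N538 := (eqc rfl L9666 rfl).symm
theorem L9669 : sm gg N538 = N894 := trfs L9667 L9270 rfl
theorem L9670 : sm gg N894 = N538 := flp_g L9669
theorem L9672 : sm gc N541 = N894 := trfs L9664 L9260 rfl
theorem L9675 : sm gg N1801 = N1079 := ded_17_2 L5479 L9669 L9250
theorem L9676 : sm gg N1079 = N1801 := flp_g L9675
theorem L9677 : sm gg N1805 = N1080 := ded_26_2 L5481 L9669 L9263
theorem L9678 : sm gg N1080 = N1805 := flp_g L9677
theorem L9679 : sm gg N1797 = N985 := ded_24_4 L5036 L9669 L4571 L4559 L9224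
theorem L9680 : sm gg N985 = N1797 := flp_g L9679
theorem L9681 : sm gc N1805 = N1085 := ded_19_3 L5508 L9672 L9263
theorem L9682 : sm gc N1085 = N1805 := flp_c L9681
theorem L9685 : sm gc N988 = N1797 := ded_21_3 L9679 L5033 L5045
theorem L9687 : sm gf N932 = N1871 := rfl
theorem L9688 : sm gf N1871 = N932 := flp_f L9687
theorem L9690 : sm gc N1871 = N1094 := ded_20_1 L9648 L9644 L9687
theorem L9692 : sm ge N1871 = N1093 := ded_25_1 L9658 L9655 L9687
theorem L9694 : sm gg N1871 = N1865 := ded_28_3 L9615 L4752 L4762 L9687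
theorem L9695 : sm gg N1865 = N1871 := flp_g L9694
theorem L9696 : sm gc N933 = N1872 := rfl
theorem L9697 : sm gc N1872 = N933 := flp_c L9696
theorem L9698 : sm ge N933 = N1873 := rfl
theorem L9699 : sm ge N1873 = N933 := flp_e L9698
theorem L9702 : sm gg N933 = N1874 := rfl
theorem L9703 : sm gg N1874 = N933 := flp_g L9702
theorem L9704 : sm gb N1874 = N937 := ded_17_1 L4784 L4770 L9702
theorem L9705 : sm gb N937 = N1874 := flp_b L9704
theorem L9706 : sm gd N934 = N1875 := rfl
theorem L9707 : sm gd N1875 = N934 := flp_d L9706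
theorem L9708 : sm gb N1875 = N940 := ded_14_1 L4799 L4774 L9706
theorem L9709 : sm gb N940 = N1875 := flp_b L9708
theorem L9710 : sm gb N935 = N1876 := rfl
theorem L9711 : sm gb N1876 = N935 := flp_b L9710
theorem L9712 : sm gd N1876 = N1036 := ded_14_2 L5281 L4778 L9710
theorem L9713 : sm gd N1036 = N1876 := flp_d L9712
theorem L9714 : sm ge N935 = N1877 := rfl
theorem L9715 : sm ge N1877 = N935 := flp_e L9714
theorem L9717 : sm gc N1877 = N936 := ded_19_1 L4781 L4775 L9714
theorem L9718 : sm gc N936 = N1877 := flp_c L9717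
theorem L9719 : sm gg N935 = N1878 := rfl
theorem L9720 : sm gg N1878 = N935 := flp_g L9719
theorem L9722 : sm gc N1878 = N937 := ded_21_1 L4784 L4775 L9719
theorem L9724 : sm gd N936 = N1879 := rfl
theorem L9725 : sm gd N1879 = N936 := flp_d L9724
theorem L9727 : sm ge N1879 = N938 := ded_22_2 L4787 L2438 L2434 L4780 L9724
theorem L9729 : sm gg N936 = N1880 := rfl
theorem L9730 : sm gg N1880 = N936 := flp_g L9729
theorem L9732 : sm ge N1880 = N937 := ded_26_1 L4784 L4780 L9729
theorem L9733 : sm ge N937 = N1880 := flp_e L9732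
theorem L9734 : sm gf N1880 = N972 := ded_28_2 L4974 L4934 L4936 L9729
theorem L9735 : sm gf N972 = N1880 := flp_f L9734
theorem L9736 : sm gd N937 = N1881 := rfl
theorem L9737 : sm gd N1881 = N937 := flp_d L9736
theorem L9738 : sm ga N1881 = N1881 := ded_9_1 L9737 L4785 L9736
theorem L9739 : sm gg N1881 = N940 := ded_24_2 L4799 L2443 L2434 L4783 L9736
theorem L9740 : sm gg N940 = N1881 := flp_g L9739
theorem L9741 : sm gf N937 = N1882 := rfl
theorem L9744 : sm ge N1882 = N972 := ded_25_1 L9735 L9732 L9741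
theorem L9746 : sm gg N1882 = N965 := ded_28_3 L4933 L2649 L4783 L9741
theorem L9748 : sm gc N938 = N1883 := rfl
theorem L9749 : sm gc N1883 = N938 := flp_c L9748
theorem L9756 : sm gg N938 = N1885 := rfl
theorem L9757 : sm gg N1885 = N938 := flp_g L9756
theorem L9759 : sm gd N939 = N1886 := rfl
theorem L9760 : sm gd N1886 = N939 := flp_d L9759
theorem L9761 : sm ga N1886 = N1886 := ded_9_1 L9760 L4791 L9759
theorem L9762 : sm gf N1886 = N1242 := ded_23_2 L6357 L6329 L6332 L4797 L9759
theorem L9763 : sm gf N1242 = N1886 := flp_f L9762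
theorem L9764 : sm gc N940 = N1887 := rfl
theorem L9765 : sm gc N1887 = N940 := flp_c L9764
theorem L9766 : sm ga N1887 = N1887 := ded_8_1 L9765 L4800 L9764
theorem L9767 : sm gd N1429 = N1887 := ded_30_9 L9766 L9765 L4799 L2445 L1338 L1867 L1860 L1853 L3681 L7343
theorem L9769 : sm ge N940 = N1888 := rfl
theorem L9770 : sm ge N1888 = N940 := flp_e L9769
theorem L9772 : sm gf N940 = N1889 := rfl
theorem L9773 : sm gf N1889 = N940 := flp_f L9772
theorem L9775 : sm gd N941 = N1890 := rfl
theorem L9776 : sm gd N1890 = N941 := flp_d L9775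
theorem L9778 : sm gc N942 = N1891 := rfl
theorem L9779 : sm gc N1891 = N942 := flp_c L9778
theorem L9781 : sm gg N1891 = N978 := ded_21_2 L5000 L4814 L9778
theorem L9782 : sm gg N978 = N1891 := flp_g L9781
theorem L9783 : sm gf N942 = N1892 := rfl
theorem L9786 : sm gg N1892 = N1405 := ded_28_3 L7215 L5003 L4814 L9783
theorem L9787 : sm gg N1405 = N1892 := flp_g L9786
theorem L9788 : sm gd N1892 = N1852 := ded_23_1 L9521 L4705 L2453 L4810 L9783
theorem L9790 : sm gc N943 = N1893 := rfl
theorem L9791 : sm gc N1893 = N943 := flp_c L9790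
theorem L9793 : sm gf N1893 = N1441 := ded_20_2 L7399 L4819 L9790
theorem L9794 : sm gf N1441 = N1893 := flp_f L9793
theorem L9795 : sm ge N943 = N1894 := rfl
theorem L9796 : sm ge N1894 = N943 := flp_e L9795
theorem L9800 : sm gd N1894 = N1851 := ded_22_1 L9516 L4705 L2458 L4815 L9795
theorem L9801 : sm gd N1851 = N1894 := flp_d L9800
theorem L9802 : sm gc N944 = N1895 := rfl
theorem L9803 : sm gc N1895 = N944 := flp_c L9802
theorem L9804 : sm ge N944 = N1896 := rfl
theorem L9805 : sm ge N1896 = N944 := flp_e L9804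
theorem L9806 : sm gb N1896 = N947 := ded_15_1 L4834 L4823 L9804
theorem L9808 : sm gf N944 = N1897 := rfl
theorem L9809 : sm gf N1897 = N944 := flp_f L9808
theorem L9812 : sm gg N944 = N1898 := rfl
theorem L9813 : sm gg N1898 = N944 := flp_g L9812
theorem L9816 : sm gd N945 = N1899 := rfl
theorem L9817 : sm gd N1899 = N945 := flp_d L9816
theorem L9818 : sm gb N1899 = N952 := ded_14_1 L4855 L4827 L9816
theorem L9819 : sm gb N952 = N1899 := flp_b L9818
theorem L9820 : sm gb N946 = N1900 := rfl
theorem L9821 : sm gb N1900 = N946 := flp_b L9820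
theorem L9822 : sm gd N1900 = N1055 := ded_14_2 L5372 L4831 L9820
theorem L9823 : sm gd N1055 = N1900 := flp_d L9822
theorem L9824 : sm ge N946 = N1901 := rfl
theorem L9825 : sm ge N1901 = N946 := flp_e L9824
theorem L9827 : sm gc N1901 = N947 := ded_19_1 L4834 L4828 L9824
theorem L9828 : sm gc N947 = N1901 := flp_c L9827
theorem L9829 : sm gf N946 = N1902 := rfl
theorem L9830 : sm gf N1902 = N946 := flp_f L9829
theorem L9834 : sm gg N946 = N1903 := rfl
theorem L9835 : sm gg N1903 = N946 := flp_g L9834
theorem L9837 : sm gc N1903 = N949 := ded_21_1 L4840 L4828 L9834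
theorem L9839 : sm gf N1903 = N1808 := ded_31_1 L9273 L4576 L4564 L4595 L7458 L7454 L7478 L7472 L3755 L4861 L4858 L2472 L2463 L4828 L9834
theorem L9840 : sm gf N1808 = N1903 := flp_f L9839
theorem L9841 : sm gd N947 = N1904 := rfl
theorem L9842 : sm gd N1904 = N947 := flp_d L9841
theorem L9843 : sm ga N1904 = N1904 := ded_9_1 L9842 L4835 L9841
theorem L9844 : sm ge N1904 = N950 := ded_22_2 L4843 L2467 L2463 L4833 L9841
theorem L9845 : sm ge N950 = N1904 := flp_e L9844
theorem L9851 : sm gg N947 = N1906 := rfl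
theorem L9852 : sm gg N1906 = N947 := flp_g L9851
theorem L9856 : sm gd N948 = N1907 := rfl
theorem L9859 : sm gf N1907 = N952 := ded_23_2 L4855 L2472 L2463 L4836 L9856
theorem L9861 : sm gg N948 = N1908 := rfl
theorem L9862 : sm gg N1908 = N948 := flp_g L9861
theorem L9863 : sm ga N1908 = N1908 := ded_12_1 L9862 L4838 L9861
theorem L9875 : sm gc N950 = N1910 := rfl
theorem L9876 : sm gc N1910 = N950 := flp_c L9875
theorem L9877 : sm ga N1910 = N1910 := ded_8_1 L9876 L4844 L9875
theorem L9878 : sm gf N950 = N1911 := rfl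
theorem L9879 : sm gf N1911 = N950 := flp_f L9878
theorem L9881 : sm gg N950 = N1912 := rfl
theorem L9882 : sm gg N1912 = N950 := flp_g L9881
theorem L9884 : sm gc N952 = N1913 := rfl
theorem L9885 : sm gc N1913 = N952 := flp_c L9884
theorem L9887 : sm gg N1913 = N1889 := ded_31_4 L9773 L4799 L2445 L1227 L1198 L1195 L1146 L1217 L1210 L1204 L2416 L2419 L2471 L4854 L9884
theorem L9888 : sm gg N1889 = N1913 := flp_g L9887
theorem L9889 : sm ge N952 = N1914 := rfl
theorem L9890 : sm ge N1914 = N952 := flp_e L9889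
theorem L9892 : sm gg N952 = N1915 := rfl
theorem L9893 : sm gg N1915 = N952 := flp_g L9892
theorem L9895 : sm gc N1915 = N1889 := ded_21_1 L9888 L9885 L9892
theorem L9897 : sm gf N1887 = N1915 := ded_20_0 L9895 L9773 L9764
theorem L9898 : sm gf N1915 = N1887 := flp_f L9897
theorem L9899 : sm gc N954 = N1916 := rfl
theorem L9900 : sm gc N1916 = N954 := flp_c L9899
theorem L9902 : sm gf N1916 = N1017 := ded_20_2 L5184 L4870 L9899
theorem L9904 : sm gg N954 = N1917 := rfl
theorem L9905 : sm gg N1917 = N954 := flp_g L9904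
theorem L9907 : sm gd N1917 = N1093 := ded_24_1 L5549 L4750 L2481 L4866 L9904
theorem L9908 : sm gd N1093 = N1917 := flp_d L9907
theorem L9909 : sm gc N955 = N1918 := rfl
theorem L9910 : sm gc N1918 = N955 := flp_c L9909
theorem L9911 : sm ga N1918 = N957 := ded_8_1 L4886 L4874 L9909
theorem L9912 : sm ga N957 = N1918 := flp_a L9911
theorem L9913 : N1883 = N1879 := coi_29_9 L9727 L4788 L4876 L9909 L9911 L4887 L4886 L4874 L4875 L9748
theorem L9914 : N1883 = N1879 := eqc rfl L9913 rfl
theorem L9916 : sm gc N1879 = N938 := trfs L9914 L9749 rfl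
theorem L9917 : sm gc N938 = N1879 := flp_c L9916
theorem L9918 : sm gd N1877 = N971 := ded_30_3 L4969 L2523 L1249 L1225 L2441 L4786 L4788 L9917 L9725 L9718
theorem L9919 : sm gd N971 = N1877 := flp_d L9918
theorem L9920 : sm ge N955 = N1919 := rfl
theorem L9921 : sm ge N1919 = N955 := flp_e L9920
theorem L9922 : sm ga N1919 = N958 := ded_10_1 L4889 L4874 L9920
theorem L9924 : sm gb N1919 = N1879 := ded_15_1 L9727 L4876 L9920
theorem L9925 : sm gb N1879 = N1919 := flp_b L9924
theorem L9926 : sm gd N1919 = N1873 := ded_22_1 L9699 L4768 L2494 L4871 L9920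
theorem L9927 : sm gd N1873 = N1919 := flp_d L9926
theorem L9928 : sm gf N955 = N1920 := rfl
theorem L9929 : sm gf N1920 = N955 := flp_f L9928
theorem L9934 : sm gg N955 = N1921 := rfl
theorem L9935 : sm gg N1921 = N955 := flp_g L9934
theorem L9940 : sm gd N956 = N1922 := rfl
theorem L9941 : sm gd N1922 = N956 := flp_d L9940
theorem L9942 : sm ga N1922 = N963 := ded_9_1 L4919 L4880 L9940
theorem L9943 : sm ga N963 = N1922 := flp_a L9942
theorem L9946 : sm gd N957 = N1923 := rfl
theorem L9947 : sm gd N1923 = N957 := flp_d L9946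
theorem L9948 : sm gb N1923 = N1923 := ded_14_1 L9947 L4887 L9946
theorem L9949 : sm ge N957 = N1924 := rfl
theorem L9950 : sm ge N1924 = N957 := flp_e L9949
theorem L9951 : sm gb N1924 = N1924 := ded_15_1 L9950 L4887 L9949
theorem L9952 : sm gc N1924 = N958 := ded_19_1 L4889 L4885 L9949
theorem L9953 : sm gc N958 = N1924 := flp_c L9952
theorem L9964 : sm gd N958 = N1927 := rfl
theorem L9968 : sm gb N1927 = N965 := ded_14_1 L4931 L4891 L9964
theorem L9969 : sm gb N965 = N1927 := flp_b L9968
theorem L9970 : sm ge N1927 = N961 := ded_22_2 L4901 L2501 L2496 L4888 L9964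
theorem L9971 : sm ge N961 = N1927 := flp_e L9970
theorem L9980 : sm gg N958 = N1929 := rfl
theorem L9984 : sm ge N1929 = N960 := ded_26_1 L4897 L4888 L9980
theorem L9985 : sm ge N960 = N1929 := flp_e L9984
theorem L9986 : sm gg N959 = N1930 := rfl
theorem L9987 : sm gg N1930 = N959 := flp_g L9986
theorem L9988 : sm gb N1930 = N968 := ded_17_1 L4950 L4895 L9986
theorem L9989 : sm gb N968 = N1930 := flp_b L9988
theorem L9990 : sm gf N1929 = N1930 := ded_28_0 L9987 L4893 L4896 L9985
theorem L9992 : sm gd N960 = N1931 := rfl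
theorem L9993 : sm gd N1931 = N960 := flp_d L9992
theorem L9994 : sm gb N1931 = N969 := ded_14_1 L4956 L4899 L9992
theorem L9995 : sm gb N969 = N1931 := flp_b L9994
theorem L9996 : sm gg N1931 = N963 := ded_24_2 L4919 L2507 L2496 L4896 L9992
theorem L9997 : sm gg N963 = N1931 := flp_g L9996
theorem L10006 : sm gc N961 = N1933 := rfl
theorem L10007 : sm gc N1933 = N961 := flp_c L10006
theorem L10008 : sm ga N1933 = N1872 := ded_8_1 L9697 L4903 L10006
theorem L10009 : sm ga N1872 = N1933 := flp_a L10008
theorem L10010 : sm gf N1933 = N1872 := ded_20_2 L9697 L4907 L10006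
theorem L10011 : sm gf N1872 = N1933 := flp_f L10010
theorem L10012 : sm gg N961 = N1934 := rfl
theorem L10014 : sm ga N1934 = N1874 := ded_12_1 L9703 L4903 L10012
theorem L10015 : sm ga N1874 = N1934 := flp_a L10014
theorem L10016 : sm gb N1934 = N972 := ded_17_1 L4974 L4905 L10012
theorem L10017 : sm gb N972 = N1934 := flp_b L10016
theorem L10018 : sm gd N962 = N1935 := rfl
theorem L10019 : sm gd N1935 = N962 := flp_d L10018
theorem L10020 : sm ga N1935 = N1875 := ded_9_1 L9707 L4911 L10018
theorem L10021 : sm ga N1875 = N1935 := flp_a L10020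
theorem L10024 : sm gc N963 = N1936 := rfl
theorem L10025 : sm gc N1936 = N963 := flp_c L10024
theorem L10026 : sm ge N963 = N1937 := rfl
theorem L10027 : sm ge N1937 = N963 := flp_e L10026
theorem L10030 : sm gf N963 = N1938 := rfl
theorem L10031 : sm gf N1938 = N963 := flp_f L10030
theorem L10032 : sm gb N1938 = N976 := ded_16_1 L4986 L4921 L10030
theorem L10034 : sm gd N1246 = N1938 := ded_14_0 L10032 L4997 L6383
theorem L10035 : sm gd N1938 = N1246 := flp_d L10034
theorem L10036 : sm gd N964 = N1939 := rfl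
theorem L10038 : sm gb N1939 = N977 := ded_14_1 L4989 L4925 L10036
theorem L10039 : sm gb N977 = N1939 := flp_b L10038
theorem L10042 : sm ge N1221 = N1939 := ded_15_0 L10038 L4994 L6224
theorem L10044 : sm gc N965 = N1940 := rfl
theorem L10045 : sm gc N1940 = N965 := flp_c L10044
theorem L10047 : sm ge N1940 = N971 := ded_19_2 L4969 L4934 L10044
theorem L10048 : sm ge N971 = N1940 := flp_e L10047
theorem L10049 : sm gf N1940 = N1877 := ded_20_2 L9717 L4935 L10044
theorem L10051 : sm gd N1037 = N1940 := ded_22_5 L10047 L9919 L9715 L4779 L5282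
theorem L10053 : N1038 = N1037 := coi_23_5 L10051 L10049 L9918 L4971 L4779 L5287
theorem L10054 : N1038 = N1037 := eqc rfl L10053 rfl
theorem L10056 : sm gc N1037 = N522 := trfs L10054 L5290 rfl
theorem L10057 : N522 = N521 := eqes L10056 L5285
theorem L10058 : N522 = N521 := eqc rfl L10057 rfl
theorem L10059 : sm gf N1037 = N520 := trfs L10054 L5288 rfl
theorem L10060 : sm gf N520 = N1037 := flp_f L10059
theorem L10062 : sm gb N521 = N1033 := trfs L10058 L5268 rfl
theorem L10063 : N1033 = N1032 := eqes L10062 L5262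
theorem L10064 : N1033 = N1032 := eqc rfl L10063 rfl
theorem L10066 : sm ge N521 = N1040 := trfs L10058 L5301 rfl
theorem L10067 : N1040 = N262 := eqes L10066 L2697
theorem L10068 : N1040 = N262 := eqc rfl L10067 rfl
theorem L10071 : sm gg N521 = N1042 := trfs L10058 L5307 rfl
theorem L10072 : N1042 = N1041 := eqes L10071 L5302
theorem L10073 : N1042 = N1041 := eqc rfl L10072 rfl
theorem L10075 : sm ge N1041 = N1044 := trfs L10073 L5321 rfl
theorem L10076 : N1044 = N523 := eqes L10075 L5305
theorem L10077 : N1044 = N523 := eqc rfl L10076 rfl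
theorem L10080 : sm gf N523 = N523 := trfs L10077 L5318 rfl
theorem L10083 : sm gf N262 = N521 := trfs L10068 L5298 rfl
theorem L10084 : sm gf N521 = N262 := flp_f L10083
theorem L10087 : sm gf N1032 = N518 := trfs L10064 L5265 rfl
theorem L10088 : sm gf N518 = N1032 := flp_f L10087
theorem L10090 : sm gf N1034 = N1034 := ded_16_2 L5273 L10080 L5274
theorem L10091 : sm gd N966 = N1941 := rfl
theorem L10092 : sm gd N1941 = N966 := flp_d L10091
theorem L10096 : sm gf N1941 = N1879 := ded_23_2 L9725 L4935 L4931 L4937 L10091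
theorem L10097 : sm gf N1879 = N1941 := flp_f L10096
theorem L10100 : sm gd N967 = N1942 := rfl
theorem L10103 : sm gd N968 = N1943 := rfl
theorem L10104 : sm gd N1943 = N968 := flp_d L10103
theorem L10106 : sm gc N969 = N1944 := rfl
theorem L10107 : sm gc N1944 = N969 := flp_c L10106
theorem L10109 : sm gg N1944 = N974 := ded_21_2 L4980 L4959 L10106
theorem L10110 : sm gg N974 = N1944 := flp_g L10109
theorem L10111 : sm ge N969 = N1945 := rfl
theorem L10112 : sm ge N1945 = N969 := flp_e L10111
theorem L10114 : sm gg N1945 = N975 := ded_26_2 L4983 L4959 L10111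
theorem L10115 : sm gg N975 = N1945 := flp_g L10114
theorem L10116 : sm gf N969 = N1946 := rfl
theorem L10122 : sm gb N971 = N1948 := rfl
theorem L10123 : sm gb N1948 = N971 := flp_b L10122
theorem L10124 : sm gf N1948 = N1876 := ded_16_2 L9711 L4972 L10122
theorem L10125 : sm gf N1876 = N1948 := flp_f L10124
theorem L10126 : sm gg N971 = N1949 := rfl
theorem L10127 : sm gg N1949 = N971 := flp_g L10126
theorem L10129 : sm gc N1949 = N972 := ded_21_1 L4974 L4968 L10126
theorem L10131 : sm gd N972 = N1950 := rfl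
theorem L10132 : sm gd N1950 = N972 := flp_d L10131
theorem L10134 : sm gg N1950 = N973 := ded_24_2 L4977 L2526 L2522 L4973 L10131
theorem L10135 : sm gg N973 = N1950 := flp_g L10134
theorem L10136 : sm gc N973 = N1951 := rfl
theorem L10139 : sm ge N973 = N1952 := rfl
theorem L10140 : sm ge N1952 = N973 := flp_e L10139
theorem L10142 : sm gd N1952 = N975 := ded_22_1 L4983 L2535 L2531 L4976 L10139
theorem L10143 : sm gd N975 = N1952 := flp_d L10142
theorem L10144 : sm gf N973 = N1953 := rfl
theorem L10147 : sm gd N1953 = N1795 := ded_23_1 L9212 L4553 L2533 L4976 L10144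
theorem L10149 : sm gb N974 = N1954 := rfl
theorem L10150 : sm gb N1954 = N974 := flp_b L10149
theorem L10151 : sm gd N974 = N1955 := rfl
theorem L10152 : sm gd N1955 = N974 := flp_d L10151
theorem L10154 : sm ge N974 = N1956 := rfl
theorem L10155 : sm ge N1956 = N974 := flp_e L10154
theorem L10156 : sm ga N1956 = N1956 := ded_10_1 L10155 L4981 L10154
theorem L10157 : sm gc N1956 = N975 := ded_19_1 L4983 L4979 L10154
theorem L10158 : sm gc N975 = N1956 := flp_c L10157
theorem L10159 : sm gf N974 = N1957 := rfl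
theorem L10160 : sm gf N1957 = N974 := flp_f L10159
theorem L10162 : sm gc N1957 = N976 := ded_20_1 L4986 L4979 L10159
theorem L10163 : sm gc N976 = N1957 := flp_c L10162
theorem L10164 : sm gf N975 = N1958 := rfl
theorem L10165 : sm gf N1958 = N975 := flp_f L10164
theorem L10167 : sm ge N1958 = N976 := ded_25_1 L4986 L4982 L10164
theorem L10169 : sm gg N1946 = N1958 := ded_28_1 L10165 L10115 L10112 L10116
theorem L10171 : sm gd N1247 = N1958 := ded_22_5 L10167 L4997 L3204 L3199 L6386
theorem L10172 : sm gd N1958 = N1247 := flp_d L10171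
theorem L10173 : sm gg N976 = N1959 := rfl
theorem L10174 : sm gg N1959 = N976 := flp_g L10173
theorem L10180 : sm gb N978 = N1960 := rfl
theorem L10181 : sm gb N1960 = N978 := flp_b L10180
theorem L10182 : sm gd N978 = N1961 := rfl
theorem L10183 : sm gd N1961 = N978 := flp_d L10182
theorem L10184 : sm ga N1961 = N1961 := ded_9_1 L10183 L5001 L10182
theorem L10185 : sm gf N978 = N1962 := rfl
theorem L10186 : sm gf N1962 = N978 := flp_f L10185
theorem L10197 : sm gb N980 = N1964 := rfl
theorem L10198 : sm gb N1964 = N980 := flp_b L10197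
theorem L10199 : sm gd N980 = N1965 := rfl
theorem L10200 : sm gd N1965 = N980 := flp_d L10199
theorem L10201 : sm ga N1965 = N1965 := ded_9_1 L10200 L5009 L10199
theorem L10202 : sm ge N980 = N1966 := rfl
theorem L10203 : sm ge N1966 = N980 := flp_e L10202
theorem L10205 : sm gc N1966 = N981 := ded_19_1 L5011 L5007 L10202
theorem L10206 : sm gc N981 = N1966 := flp_c L10205
theorem L10207 : sm gg N980 = N1967 := rfl
theorem L10208 : sm gg N1967 = N980 := flp_g L10207
theorem L10210 : sm gc N1967 = N982 := ded_21_1 L5016 L5007 L10207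
theorem L10211 : sm gc N982 = N1967 := flp_c L10210
theorem L10212 : sm gf N982 = N1968 := rfl
theorem L10213 : sm gf N1968 = N982 := flp_f L10212
theorem L10217 : sm gg N1968 = N1450 := ded_28_3 L7447 L3760 L5015 L10212
theorem L10218 : sm gg N1450 = N1968 := flp_g L10217
theorem L10219 : sm gd N1968 = N1871 := ded_23_1 L9688 L4765 L4482 L5019 L10212
theorem L10221 : sm gd N983 = N1969 := rfl
theorem L10223 : sm ga N1969 = N984 := ded_9_1 L5029 L5020 L10221
theorem L10224 : sm ga N984 = N1969 := flp_a L10223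
theorem L10225 : sm gb N1969 = N987 := ded_14_1 L5043 L5027 L10221
theorem L10226 : sm gb N987 = N1969 := flp_b L10225
theorem L10227 : sm gf N1969 = N984 := ded_23_2 L5029 L2554 L3333 L5025 L10221
theorem L10228 : sm gf N984 = N1969 := flp_f L10227
theorem L10229 : sm gc N984 = N1970 := rfl
theorem L10230 : sm gc N1970 = N984 := flp_c L10229
theorem L10231 : sm ge N984 = N1971 := rfl
theorem L10232 : sm ge N1971 = N984 := flp_e L10231
theorem L10233 : sm gb N1971 = N986 := ded_15_1 L5038 L5031 L10231
theorem L10235 : sm gg N984 = N1972 := rfl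
theorem L10236 : sm gg N1972 = N984 := flp_g L10235
theorem L10237 : sm gb N1972 = N988 := ded_17_1 L5046 L5031 L10235
theorem L10238 : sm gb N988 = N1972 := flp_b L10237
theorem L10239 : sm gb N985 = N1973 := rfl
theorem L10240 : sm gb N1973 = N985 := flp_b L10239
theorem L10241 : sm gd N1973 = N1079 := ded_14_2 L5479 L5035 L10239
theorem L10243 : sm ge N985 = N1974 := rfl
theorem L10244 : sm ge N1974 = N985 := flp_e L10243
theorem L10246 : sm gc N1974 = N986 := ded_19_1 L5038 L5032 L10243
theorem L10247 : sm gc N986 = N1974 := flp_c L10246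
theorem L10248 : sm gf N985 = N1975 := rfl
theorem L10249 : sm gf N1975 = N985 := flp_f L10248
theorem L10250 : sm ga N1975 = N1975 := ded_11_1 L10249 L5034 L10248
theorem L10251 : sm gc N1975 = N987 := ded_20_1 L5041 L5032 L10248
theorem L10252 : sm gc N987 = N1975 := flp_c L10251
theorem L10253 : sm gf N986 = N1976 := rfl
theorem L10254 : sm gf N1976 = N986 := flp_f L10253
theorem L10256 : sm ge N1976 = N987 := ded_25_1 L5041 L5037 L10253
theorem L10258 : sm gd N1028 = N1976 := ded_22_5 L10256 L5043 L2667 L2663 L5242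
theorem L10259 : sm gd N1976 = N1028 := flp_d L10258
theorem L10260 : sm gg N986 = N1977 := rfl
theorem L10261 : sm gg N1977 = N986 := flp_g L10260
theorem L10263 : sm ge N1977 = N988 := ded_26_1 L5046 L5037 L10260
theorem L10264 : sm ge N988 = N1977 := flp_e L10263
theorem L10265 : sm gd N1977 = N1419 := ded_24_1 L7282 L3644 L7228 L7229 L10260
theorem L10266 : sm gd N1419 = N1977 := flp_d L10265
theorem L10267 : sm gg N987 = N1978 := rfl
theorem L10268 : sm gg N1978 = N987 := flp_g L10267
theorem L10270 : sm gf N1977 = N1978 := ded_28_0 L10268 L5041 L5045 L10264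
theorem L10272 : sm gd N1978 = N1399 := ded_24_1 L7187 L7141 L3705 L5044 L10267
theorem L10273 : sm gd N1399 = N1978 := flp_d L10272
theorem L10274 : sm gf N988 = N1979 := rfl
theorem L10279 : sm gg N1979 = N1976 := ded_28_3 L10256 L5041 L5045 L10274
theorem L10281 : sm gc N989 = N1980 := rfl
theorem L10282 : sm gc N1980 = N989 := flp_c L10281
theorem L10283 : sm ga N1980 = N1980 := ded_8_1 L10282 L5050 L10281
theorem L10284 : sm ge N1980 = N1916 := ded_19_2 L9900 L5052 L10281
theorem L10295 : sm gc N990 = N1982 := rfl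
theorem L10297 : sm ga N1982 = N992 := ded_8_1 L5068 L5056 L10295
theorem L10298 : sm ga N992 = N1982 := flp_a L10297
theorem L10299 : sm ge N990 = N1983 := rfl
theorem L10300 : sm ge N1983 = N990 := flp_e L10299
theorem L10301 : sm ga N1983 = N993 := ded_10_1 L5070 L5056 L10299
theorem L10303 : sm gb N1983 = N1904 := ded_15_1 L9844 L5058 L10299
theorem L10304 : sm gb N1904 = N1983 := flp_b L10303
theorem L10305 : sm gd N1983 = N1896 := ded_22_1 L9805 L4821 L2572 L5053 L10299
theorem L10306 : sm gd N1896 = N1983 := flp_d L10305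
theorem L10307 : sm gf N990 = N1984 := rfl
theorem L10308 : sm gf N1984 = N990 := flp_f L10307
theorem L10313 : sm gg N990 = N1985 := rfl
theorem L10315 : sm ga N1985 = N995 := ded_12_1 L5078 L5056 L10313
theorem L10316 : sm ga N995 = N1985 := flp_a L10315
theorem L10317 : sm gb N1985 = N1912 := ded_17_1 L9882 L5058 L10313
theorem L10318 : sm gb N1912 = N1985 := flp_b L10317
theorem L10319 : sm gd N991 = N1986 := rfl
theorem L10320 : sm gd N1986 = N991 := flp_d L10319
theorem L10321 : sm ga N1986 = N998 := ded_9_1 L5098 L5062 L10319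
theorem L10322 : sm ga N998 = N1986 := flp_a L10321
theorem L10323 : sm gb N1986 = N1016 := ded_14_1 L5181 L5064 L10319
theorem L10324 : sm gb N1016 = N1986 := flp_b L10323
theorem L10325 : sm gg N1986 = N998 := ded_24_2 L5098 L5101 L9581 L9578 L10319
theorem L10326 : sm gg N998 = N1986 := flp_g L10325
theorem L10327 : sm gb N992 = N1987 := rfl
theorem L10328 : sm gb N1987 = N992 := flp_b L10327
theorem L10329 : sm gc N1987 = N1000 := ded_13_2 L5110 L2589 L2577 L5067 L10327
theorem L10330 : sm gc N1000 = N1987 := flp_c L10329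
theorem L10331 : sm gd N992 = N1988 := rfl
theorem L10332 : sm gd N1988 = N992 := flp_d L10331
theorem L10333 : sm ge N992 = N1989 := rfl
theorem L10334 : sm ge N1989 = N992 := flp_e L10333
theorem L10337 : sm gf N992 = N1990 := rfl
theorem L10338 : sm gf N1990 = N992 := flp_f L10337
theorem L10341 : sm gg N992 = N1991 := rfl
theorem L10342 : sm gg N1991 = N992 := flp_g L10341
theorem L10345 : sm gd N993 = N1992 := rfl
theorem L10347 : sm ga N1992 = N1896 := ded_9_1 L10306 L10301 L10345
theorem L10348 : sm ga N1896 = N1992 := flp_a L10347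
theorem L10365 : sm gd N994 = N1995 := rfl
theorem L10369 : sm gf N1995 = N998 := ded_23_2 L5098 L2585 L2574 L5073 L10365
theorem L10370 : sm gf N998 = N1995 := flp_f L10369
theorem L10371 : sm gg N994 = N1996 := rfl
theorem L10372 : sm gg N1996 = N994 := flp_g L10371
theorem L10373 : sm gb N1996 = N1008 := ded_17_1 L5149 L5076 L10371
theorem L10374 : sm gb N1008 = N1996 := flp_b L10373
theorem L10377 : sm gf N995 = N1997 := rfl
theorem L10378 : sm gf N1997 = N995 := flp_f L10377
theorem L10379 : sm gb N1997 = N1009 := ded_16_1 L5154 L5080 L10377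
theorem L10385 : sm gd N1372 = N1997 := ded_14_0 L10379 L7069 L7035
theorem L10386 : sm gd N1997 = N1372 := flp_d L10385
theorem L10387 : sm gc N996 = N1998 := rfl
theorem L10389 : sm ga N1998 = N1895 := ded_8_1 L9803 L5084 L10387
theorem L10390 : sm ga N1895 = N1998 := flp_a L10389
theorem L10391 : sm gf N996 = N1999 := rfl
theorem L10392 : sm gf N1999 = N996 := flp_f L10391
theorem L10395 : sm gb N1999 = N1011 := ded_16_1 L5164 L5086 L10391
theorem L10396 : sm gb N1011 = N1999 := flp_b L10395
theorem L10397 : sm gg N996 = N2000 := rfl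
theorem L10398 : sm gg N2000 = N996 := flp_g L10397
theorem L10401 : sm gb N2000 = N1012 := ded_17_1 L5167 L5086 L10397
theorem L10403 : sm gd N997 = N2001 := rfl
theorem L10404 : sm gd N2001 = N997 := flp_d L10403
theorem L10405 : sm ga N2001 = N1899 := ded_9_1 L9817 L5090 L10403
theorem L10406 : sm ga N1899 = N2001 := flp_a L10405
theorem L10409 : sm gc N998 = N2002 := rfl
theorem L10410 : sm gc N2002 = N998 := flp_c L10409
theorem L10411 : sm ge N998 = N2003 := rfl
theorem L10412 : sm ge N2003 = N998 := flp_e L10411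
theorem L10413 : sm gb N2003 = N1015 := ded_15_1 L5176 L5100 L10411
theorem L10415 : sm ga N1000 = N2004 := rfl
theorem L10417 : sm gd N2004 = N1106 := ded_9_2 L5627 L5112 L10415
theorem L10419 : sm ge N1000 = N2005 := rfl
theorem L10420 : sm ge N2005 = N1000 := flp_e L10419
theorem L10421 : sm gb N2005 = N1001 := ded_15_1 L5114 L5109 L10419
theorem L10422 : sm gb N1001 = N2005 := flp_b L10421
theorem L10423 : sm gf N1000 = N2006 := rfl
theorem L10424 : sm gf N2006 = N1000 := flp_f L10423
theorem L10427 : sm gg N1000 = N2007 := rfl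
theorem L10429 : sm gb N2007 = N1003 := ded_17_1 L5124 L5109 L10427
theorem L10430 : sm gb N1003 = N2007 := flp_b L10429
theorem L10431 : sm gd N1001 = N2008 := rfl
theorem L10432 : sm gd N2008 = N1001 := flp_d L10431
theorem L10434 : sm ge N2008 = N1110 := ded_22_2 L5647 L2833 L2591 L5113 L10431
theorem L10435 : sm ge N1110 = N2008 := flp_e L10434
theorem L10436 : sm gf N1001 = N2009 := rfl
theorem L10437 : sm gf N2009 = N1001 := flp_f L10436
theorem L10439 : sm gc N2009 = N1005 := ded_20_1 L5134 L5117 L10436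
theorem L10441 : sm ge N2009 = N1002 := ded_25_1 L5119 L5113 L10436
theorem L10450 : sm gd N1002 = N2011 := rfl
theorem L10453 : sm gf N2011 = N1113 := ded_23_2 L5666 L2838 L2591 L5118 L10450
theorem L10454 : sm gf N1113 = N2011 := flp_f L10453
theorem L10462 : sm gd N1003 = N2013 := rfl
theorem L10465 : sm gg N2013 = N1115 := ded_24_2 L5680 L2843 L2591 L5123 L10462
theorem L10466 : sm gg N1115 = N2013 := flp_g L10465
theorem L10467 : sm gf N1003 = N2014 := rfl
theorem L10468 : sm gf N2014 = N1003 := flp_f L10467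
theorem L10469 : sm ga N2014 = N2014 := ded_11_1 L10468 L5125 L10467
theorem L10470 : sm gc N2014 = N1009 := ded_20_1 L5154 L5127 L10467
theorem L10474 : sm gg N2014 = N2009 := ded_28_3 L10441 L5119 L5123 L10467
theorem L10476 : sm gd N1404 = N2014 := ded_30_9 L10469 L10470 L7069 L3528 L1762 L880 L902 L1807 L3615 L7207
theorem L10477 : sm gd N2014 = N1404 := flp_d L10476
theorem L10478 : sm gc N1004 = N2015 := rfl
theorem L10479 : sm gc N2015 = N1004 := flp_c L10478
theorem L10481 : sm ge N2015 = N1010 := ded_19_2 L5161 L5132 L10478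
theorem L10483 : sm gf N1004 = N2016 := rfl
theorem L10488 : sm gg N1004 = N2017 := rfl
theorem L10491 : sm ge N2017 = N1012 := ded_26_1 L5167 L5132 L10488
theorem L10492 : sm ge N1012 = N2017 := flp_e L10491
theorem L10493 : sm gd N1005 = N2018 := rfl
theorem L10494 : sm gd N2018 = N1005 := flp_d L10493
theorem L10496 : sm gd N1006 = N2019 := rfl
theorem L10497 : sm gd N2019 = N1006 := flp_d L10496
theorem L10499 : sm gc N1007 = N2020 := rfl
theorem L10502 : sm gf N2020 = N1014 := ded_20_2 L5173 L5147 L10499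
theorem L10503 : sm gf N1014 = N2020 := flp_f L10502
theorem L10504 : sm ge N1007 = N2021 := rfl
theorem L10507 : sm gf N2021 = N1015 := ded_25_2 L5176 L5147 L10504
theorem L10509 : sm gg N1007 = N2022 := rfl
theorem L10510 : sm gg N2022 = N1007 := flp_g L10509
theorem L10512 : sm gd N1008 = N2023 := rfl
theorem L10513 : sm gd N2023 = N1008 := flp_d L10512
theorem L10515 : sm gb N1010 = N2024 := rfl
theorem L10516 : sm gb N2024 = N1010 := flp_b L10515
theorem L10517 : sm gd N1010 = N2025 := rfl
theorem L10518 : sm gd N2025 = N1010 := flp_d L10517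
theorem L10520 : sm gf N1010 = N2026 := rfl
theorem L10521 : sm gf N2026 = N1010 := flp_f L10520
theorem L10522 : sm ga N2026 = N2026 := ded_11_1 L10521 L5162 L10520
theorem L10523 : sm gc N2026 = N1011 := ded_20_1 L5164 L5160 L10520
theorem L10524 : sm gc N1011 = N2026 := flp_c L10523
theorem L10525 : sm gg N1010 = N2027 := rfl
theorem L10526 : sm gg N2027 = N1010 := flp_g L10525
theorem L10527 : sm ga N2027 = N2027 := ded_12_1 L10526 L5162 L10525
theorem L10528 : sm gc N2027 = N1012 := ded_21_1 L5167 L5160 L10525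
theorem L10530 : sm gd N1011 = N2028 := rfl
theorem L10531 : sm gd N2028 = N1011 := flp_d L10530
theorem L10533 : sm gf N2028 = N1013 := ded_23_2 L5170 L2606 L2602 L5163 L10530
theorem L10534 : sm gf N1013 = N2028 := flp_f L10533
theorem L10535 : sm gg N1951 = N2028 := ded_31_0 L10533 L5170 L2608 L1313 L1189 L633 L315 L313 L308 L621 L1162 L2342 L2533 L4976 L10136
theorem L10536 : sm gg N2028 = N1951 := flp_g L10535
theorem L10537 : sm gc N2028 = N1950 := ded_21_1 L10134 L10136 L10535
theorem L10538 : sm gc N1950 = N2028 := flp_c L10537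
theorem L10539 : sm gg N1011 = N2029 := rfl
theorem L10540 : sm gg N2029 = N1011 := flp_g L10539
theorem L10542 : sm gf N2017 = N2029 := ded_28_0 L10540 L5164 L5166 L10492
theorem L10551 : sm gc N1013 = N2031 := rfl
theorem L10554 : sm gf N2031 = N1950 := ded_20_2 L10538 L10533 L10551
theorem L10555 : sm gf N1950 = N2031 := flp_f L10554
theorem L10561 : sm gg N1013 = N2033 := rfl
theorem L10562 : sm gg N2033 = N1013 := flp_g L10561
theorem L10564 : sm gd N2033 = N1832 := ded_24_1 L9395 L4634 L2612 L5169 L10561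
theorem L10566 : sm gb N1014 = N2034 := rfl
theorem L10567 : sm gb N2034 = N1014 := flp_b L10566
theorem L10568 : sm gd N1014 = N2035 := rfl
theorem L10569 : sm gd N2035 = N1014 := flp_d L10568
theorem L10570 : sm ga N2035 = N2035 := ded_9_1 L10569 L5174 L10568
theorem L10571 : sm ge N1014 = N2036 := rfl
theorem L10572 : sm ge N2036 = N1014 := flp_e L10571
theorem L10574 : sm gc N2036 = N1015 := ded_19_1 L5176 L5172 L10571
theorem L10575 : sm gc N1015 = N2036 := flp_c L10574
theorem L10576 : sm gg N1014 = N2037 := rfl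
theorem L10577 : sm gg N2037 = N1014 := flp_g L10576
theorem L10578 : sm ga N2037 = N2037 := ded_12_1 L10577 L5174 L10576
theorem L10579 : sm gc N2037 = N1016 := ded_21_1 L5179 L5172 L10576
theorem L10580 : sm gc N1016 = N2037 := flp_c L10579
theorem L10581 : sm gg N1015 = N2038 := rfl
theorem L10584 : sm ge N2038 = N1016 := ded_26_1 L5179 L5175 L10581
theorem L10586 : sm gf N2038 = N2022 := ded_28_2 L10510 L10504 L10507 L10581
theorem L10587 : sm gf N2022 = N2038 := flp_f L10586
theorem L10588 : sm gd N1914 = N2038 := ded_22_5 L10584 L5181 L4850 L4854 L9889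
theorem L10589 : sm gd N2038 = N1914 := flp_d L10588
theorem L10599 : sm gb N1017 = N2040 := rfl
theorem L10601 : sm gd N1017 = N2041 := rfl
theorem L10602 : sm gd N2041 = N1017 := flp_d L10601
theorem L10613 : sm gg N1017 = N2043 := rfl
theorem L10614 : sm gg N2043 = N1017 := flp_g L10613
theorem L10616 : sm gc N2043 = N1019 := ded_21_1 L5194 L5183 L10613
theorem L10617 : sm gc N1019 = N2043 := flp_c L10616
theorem L10618 : sm gg N1018 = N2044 := rfl
theorem L10621 : sm ge N2044 = N1019 := ded_26_1 L5194 L5186 L10618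
theorem L10622 : sm ge N1019 = N2044 := flp_e L10621
theorem L10625 : sm gd N2044 = N1443 := ded_24_1 L7407 L3721 L2645 L5192 L10618
theorem L10626 : sm gd N1443 = N2044 := flp_d L10625
theorem L10627 : sm gd N1020 = N2045 := rfl
theorem L10637 : sm gc N1021 = N2046 := rfl
theorem L10640 : sm ge N2046 = N1457 := ded_19_2 L7490 L5212 L10637
theorem L10641 : sm ge N1457 = N2046 := flp_e L10640
theorem L10652 : sm gc N1022 = N2048 := rfl
theorem L10653 : sm gc N2048 = N1022 := flp_c L10652
theorem L10655 : sm gg N2048 = N1023 := ded_21_2 L5221 L5219 L10652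
theorem L10656 : sm gg N1023 = N2048 := flp_g L10655
theorem L10657 : sm ge N1022 = N2048 := ded_26_3 L10655 L9426 L5219
theorem L10659 : sm gd N1442 = N2048 := ded_24_5 L10655 L9424 L4677 L9489 L9494
theorem L10668 : sm gg N1025 = N2050 := rfl
theorem L10669 : sm gg N2050 = N1025 := flp_g L10668
theorem L10675 : sm gf N2048 = N2050 := ded_28_0 L10669 L5229 L5219 L10657
theorem L10677 : sm gd N2050 = N1858 := ded_24_1 L9556 L4718 L4510 L5232 L10668
theorem L10679 : sm gc N1026 = N2051 := rfl
theorem L10680 : sm gc N2051 = N1026 := flp_c L10679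
theorem L10685 : sm gf N1026 = N2053 := rfl
theorem L10686 : sm gf N2053 = N1026 := flp_f L10685
theorem L10689 : sm gb N1027 = N2054 := rfl
theorem L10690 : sm gb N2054 = N1027 := flp_b L10689
theorem L10693 : sm ge N1027 = N2055 := rfl
theorem L10694 : sm ge N2055 = N1027 := flp_e L10693
theorem L10695 : sm ga N2055 = N2055 := ded_10_1 L10694 L5239 L10693
theorem L10696 : sm gc N2055 = N1028 := ded_19_1 L5243 L5237 L10693
theorem L10697 : sm gc N1028 = N2055 := flp_c L10696
theorem L10698 : sm gf N1027 = N2056 := rfl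
theorem L10703 : sm gf N1028 = N2057 := rfl
theorem L10704 : sm gf N2057 = N1028 := flp_f L10703
theorem L10708 : sm gg N1436 = N2057 := ded_28_1 L10704 L7373 L7370 L7374
theorem L10720 : sm gc N1030 = N2059 := rfl
theorem L10721 : sm gc N2059 = N1030 := flp_c L10720
theorem L10725 : sm gg N2059 = N1404 := ded_21_2 L7208 L5254 L10720
theorem L10727 : sm gb N1031 = N2060 := rfl
theorem L10728 : sm gb N2060 = N1031 := flp_b L10727
theorem L10729 : sm gc N2060 = N1036 := ded_13_2 L5281 L2694 L2684 L5255 L10727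
theorem L10730 : sm gc N1036 = N2060 := flp_c L10729
theorem L10731 : sm gd N1031 = N2061 := rfl
theorem L10732 : sm gd N2061 = N1031 := flp_d L10731
theorem L10733 : sm ga N2061 = N2061 := ded_9_1 L10732 L5257 L10731
theorem L10734 : sm ge N1031 = N2062 := rfl
theorem L10735 : sm ge N2062 = N1031 := flp_e L10734
theorem L10737 : sm gc N2062 = N1032 := ded_19_1 L5259 L5255 L10734
theorem L10738 : sm gc N1032 = N2062 := flp_c L10737
theorem L10739 : sm gf N1031 = N2062 := ded_20_0 L10737 L10087 L5255
theorem L10740 : sm gf N2062 = N1031 := flp_f L10739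
theorem L10741 : sm gg N1031 = N2063 := rfl
theorem L10742 : sm gg N2063 = N1031 := flp_g L10741
theorem L10743 : sm ga N2063 = N2063 := ded_12_1 L10742 L5257 L10741
theorem L10744 : sm gc N2063 = N1034 := ded_21_1 L5271 L5255 L10741
theorem L10745 : sm gc N1034 = N2063 := flp_c L10744
theorem L10746 : sm gf N2063 = N2063 := ded_28_2 L10742 L10734 L10740 L10741
theorem L10747 : sm gg N1032 = N2064 := rfl
theorem L10748 : sm gg N2064 = N1032 := flp_g L10747
theorem L10749 : sm ga N2064 = N2064 := ded_12_1 L10748 L5260 L10747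
theorem L10750 : sm gb N2064 = N1041 := ded_17_1 L5303 L5262 L10747
theorem L10751 : sm gb N1041 = N2064 := flp_b L10750
theorem L10752 : sm ge N2064 = N1034 := ded_26_1 L5271 L5258 L10747
theorem L10755 : sm gd N1034 = N2065 := rfl
theorem L10756 : sm gd N2065 = N1034 := flp_d L10755
theorem L10758 : sm gb N2065 = N1043 := ded_14_1 L5313 L5274 L10755
theorem L10759 : sm gb N1043 = N2065 := flp_b L10758
theorem L10777 : sm ga N1036 = N2069 := rfl
theorem L10778 : sm ga N2069 = N1036 := flp_a L10777
theorem L10779 : sm gb N2069 = N1037 := ded_29_4 L5285 L2698 L5262 L10738 L10735 L5257 L10727 L10729 L10777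
theorem L10780 : sm gb N1037 = N2069 := flp_b L10779
theorem L10781 : sm ge N1036 = N2069 := ded_29_9 L10778 L5281 L2694 L1347 L2684 L5255 L5257 L10727 L10729
theorem L10782 : sm ge N2069 = N1036 := flp_e L10781
theorem L10783 : sm gf N1036 = N2069 := ded_16_0 L10779 L10059 L5280
theorem L10784 : sm gf N2069 = N1036 := flp_f L10783
theorem L10785 : sm gg N1036 = N2070 := rfl
theorem L10786 : sm gg N2070 = N1036 := flp_g L10785
theorem L10787 : sm gb N2070 = N1039 := ded_17_1 L5293 L5280 L10785
theorem L10788 : sm gb N1039 = N2070 := flp_b L10787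
theorem L10790 : sm gg N1037 = N2071 := rfl
theorem L10791 : sm gg N2071 = N1037 := flp_g L10790
theorem L10793 : sm gc N2071 = N1041 := ded_21_1 L5303 L5286 L10790
theorem L10794 : sm gc N1041 = N2071 := flp_c L10793
theorem L10798 : sm gd N1039 = N2072 := rfl
theorem L10799 : sm gd N2072 = N1039 := flp_d L10798
theorem L10801 : sm gd N1041 = N2073 := rfl
theorem L10802 : sm gd N2073 = N1041 := flp_d L10801
theorem L10804 : sm gg N2073 = N2073 := ded_24_2 L10802 L5303 L2699 L5302 L10801
theorem L10805 : sm gc N1043 = N2074 := rfl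
theorem L10806 : sm gc N2074 = N1043 := flp_c L10805
theorem L10808 : sm gg N2074 = N1045 := ded_21_2 L5325 L5316 L10805
theorem L10809 : sm gg N1045 = N2074 := flp_g L10808
theorem L10810 : sm gf N1831 = N2074 := ded_28_0 L10808 L9399 L9395 L9389
theorem L10811 : sm gf N2074 = N1831 := flp_f L10810
theorem L10812 : sm ge N2074 = N1827 := ded_28_4 L9368 L9394 L9400 L10809
theorem L10813 : sm ge N1827 = N2074 := flp_e L10812
theorem L10814 : sm ge N1043 = N2075 := rfl
theorem L10815 : sm ge N2075 = N1043 := flp_e L10814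
theorem L10817 : sm gc N2075 = N1827 := ded_19_1 L10813 L10806 L10814
theorem L10818 : sm gc N1827 = N2075 := flp_c L10817
theorem L10819 : sm gg N2075 = N1046 := ded_26_2 L5328 L5316 L10814
theorem L10821 : sm gf N2075 = N1830 := ded_28_0 L9387 L5332 L5316 L10814
theorem L10822 : sm gf N1830 = N2075 := flp_f L10821
theorem L10823 : sm gf N1043 = N2076 := rfl
theorem L10826 : sm gc N2076 = N1831 := ded_20_1 L10810 L10806 L10823
theorem L10828 : sm ge N2076 = N1830 := ded_25_1 L10822 L10815 L10823
theorem L10831 : sm gb N1045 = N2077 := rfl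
theorem L10832 : sm gb N2077 = N1045 := flp_b L10831
theorem L10833 : sm gd N1045 = N2078 := rfl
theorem L10834 : sm gd N2078 = N1045 := flp_d L10833
theorem L10836 : sm ge N1045 = N2079 := rfl
theorem L10837 : sm ge N2079 = N1045 := flp_e L10836
theorem L10839 : sm gc N2079 = N1046 := ded_19_1 L5328 L5324 L10836
theorem L10841 : sm gg N2079 = N1827 := ded_26_2 L10813 L10808 L10836
theorem L10842 : sm gg N1827 = N2079 := flp_g L10841
theorem L10843 : sm gf N1046 = N2080 := rfl
theorem L10848 : sm gg N2080 = N2076 := ded_28_3 L10828 L10822 L10819 L10843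
theorem L10849 : sm gg N2076 = N2080 := flp_g L10848
theorem L10850 : sm gc N1048 = N2081 := rfl
theorem L10852 : sm ga N2081 = N1050 := ded_8_1 L5353 L5338 L10850
theorem L10854 : sm ge N1048 = N2082 := rfl
theorem L10860 : sm gd N2082 = N1051 := ded_22_1 L5355 L2719 L2716 L5335 L10854
theorem L10861 : sm gd N1051 = N2082 := flp_d L10860
theorem L10862 : sm gf N1048 = N2083 := rfl
theorem L10863 : sm gf N2083 = N1048 := flp_f L10862
theorem L10868 : sm gg N1048 = N2084 := rfl
theorem L10870 : sm ga N2084 = N1053 := ded_12_1 L5363 L5338 L10868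
theorem L10871 : sm ga N1053 = N2084 := flp_a L10870
theorem L10875 : sm gd N1049 = N2085 := rfl
theorem L10877 : sm ga N2085 = N1054 := ded_9_1 L5368 L5344 L10875
theorem L10878 : sm ga N1054 = N2085 := flp_a L10877
theorem L10879 : sm gb N2085 = N1068 := ded_14_1 L5431 L5346 L10875
theorem L10880 : sm gb N1068 = N2085 := flp_b L10879
theorem L10881 : sm gb N1050 = N2086 := rfl
theorem L10883 : sm gc N2086 = N1055 := ded_13_2 L5372 L2728 L2721 L5352 L10881
theorem L10905 : sm gg N1051 = N2092 := rfl
theorem L10906 : sm gg N2092 = N1051 := flp_g L10905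
theorem L10907 : sm gb N2092 = N1061 := ded_17_1 L5399 L5357 L10905
theorem L10911 : sm gd N1052 = N2093 := rfl
theorem L10915 : sm gf N2093 = N1054 := ded_23_2 L5368 L2723 L2718 L5358 L10911
theorem L10916 : sm gf N1054 = N2093 := flp_f L10915
theorem L10923 : sm gf N1053 = N2095 := rfl
theorem L10924 : sm gf N2095 = N1053 := flp_f L10923
theorem L10925 : sm gb N2095 = N1064 := ded_16_1 L5414 L5365 L10923
theorem L10926 : sm gb N1064 = N2095 := flp_b L10925
theorem L10931 : sm gc N1054 = N2096 := rfl
theorem L10932 : sm gc N2096 = N1054 := flp_c L10931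
theorem L10933 : sm ge N1054 = N2097 := rfl
theorem L10934 : sm ge N2097 = N1054 := flp_e L10933
theorem L10937 : sm gg N1054 = N2098 := rfl
theorem L10938 : sm gg N2098 = N1054 := flp_g L10937
theorem L10939 : sm gb N2098 = N1071 := ded_17_1 L5440 L5370 L10937
theorem L10941 : sm ga N1055 = N2099 := rfl
theorem L10942 : sm ga N2099 = N1055 := flp_a L10941
theorem L10943 : sm ge N1055 = N2100 := rfl
theorem L10945 : sm gb N2100 = N1056 := ded_15_1 L5374 L5371 L10943
theorem L10946 : sm gb N1056 = N2100 := flp_b L10945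
theorem L10947 : sm gf N1055 = N2101 := rfl
theorem L10948 : sm gf N2101 = N1055 := flp_f L10947
theorem L10951 : sm gg N1055 = N2102 := rfl
theorem L10952 : sm gg N2102 = N1055 := flp_g L10951
theorem L10955 : sm gd N1056 = N2103 := rfl
theorem L10956 : sm gd N2103 = N1056 := flp_d L10955
theorem L10958 : sm gf N1056 = N2104 := rfl
theorem L10959 : sm gf N2104 = N1056 := flp_f L10958
theorem L10963 : sm ge N2104 = N1057 := ded_25_1 L5379 L5373 L10958
theorem L10964 : sm ge N1057 = N2104 := flp_e L10963
theorem L10965 : sm gg N1056 = N2105 := rfl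
theorem L10968 : sm gc N2105 = N1061 := ded_21_1 L5399 L5377 L10965
theorem L10969 : sm gc N1061 = N2105 := flp_c L10968
theorem L10970 : sm ge N2105 = N1058 := ded_26_1 L5384 L5373 L10965
theorem L10971 : sm ge N1058 = N2105 := flp_e L10970
theorem L10972 : sm gd N1057 = N2106 := rfl
theorem L10973 : sm gd N2106 = N1057 := flp_d L10972
theorem L10975 : sm gg N1057 = N2107 := rfl
theorem L10976 : sm gg N2107 = N1057 := flp_g L10975
theorem L10980 : sm gf N2105 = N2107 := ded_28_0 L10976 L5379 L5383 L10971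
theorem L10981 : sm gf N2107 = N2105 := flp_f L10980
theorem L10982 : sm gd N2105 = N2027 := ded_31_2 L10528 L5167 L5163 L10530 L10537 L10134 L10144 L10147 L9216 L5440 L5407 L5404 L5382 L10975 L10981
theorem L10984 : sm gg N2025 = N2103 := ded_24_4 L10956 L10965 L10982 L10526 L10517
theorem L10985 : sm gg N2103 = N2025 := flp_g L10984
theorem L10986 : N1401 = N1061 := coi_30_8 L10969 L10982 L10527 L10528 L7028 L7024 L3525 L1757 L1803 L3599 L7192
theorem L10987 : N1401 = N1061 := eqc rfl L10986 rfl
theorem L10989 : sm gd N1061 = N699 := trfs L10987 L7193 rfl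
theorem L10990 : sm gd N699 = N1061 := flp_d L10989
theorem L10991 : sm gd N1400 = N2092 := ded_14_2 L10907 L10989 L7189
theorem L10993 : sm gd N1058 = N2108 := rfl
theorem L10994 : sm gd N2108 = N1058 := flp_d L10993
theorem L10996 : sm gf N1058 = N2109 := rfl
theorem L10997 : sm gf N2109 = N1058 := flp_f L10996
theorem L11003 : sm gg N2109 = N2104 := ded_28_3 L10963 L5379 L5383 L10996
theorem L11004 : sm gg N2104 = N2109 := flp_g L11003
theorem L11005 : sm gc N1059 = N2110 := rfl
theorem L11006 : sm gc N2110 = N1059 := flp_c L11005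
theorem L11008 : sm ge N2110 = N1065 := ded_19_2 L5421 L5392 L11005
theorem L11009 : sm ge N1065 = N2110 := flp_e L11008
theorem L11010 : sm gb N2099 = N2110 := ded_29_7 L11006 L5391 L2742 L5340 L10850 L10852 L10881 L10883 L10941
theorem L11012 : sm gf N1059 = N2111 := rfl
theorem L11017 : sm gg N1059 = N2112 := rfl
theorem L11018 : sm gg N2112 = N1059 := flp_g L11017
theorem L11020 : sm ge N2112 = N1067 := ded_26_1 L5427 L5392 L11017
theorem L11021 : sm ge N1067 = N2112 := flp_e L11020
theorem L11022 : sm gd N2112 = N1392 := ded_24_1 L7150 L10990 L5399 L5388 L11017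
theorem L11024 : sm gd N1060 = N2113 := rfl
theorem L11025 : sm gd N2113 = N1060 := flp_d L11024
theorem L11027 : sm gc N1062 = N2114 := rfl
theorem L11028 : sm gc N2114 = N1062 := flp_c L11027
theorem L11030 : sm gf N2114 = N1069 := ded_20_2 L5434 L5407 L11027
theorem L11031 : sm gf N1069 = N2114 := flp_f L11030
theorem L11032 : sm gg N2114 = N1222 := ded_28_3 L6231 L9211 L9215 L11031
theorem L11033 : sm gg N1222 = N2114 := flp_g L11032
theorem L11036 : sm ge N1062 = N2115 := rfl
theorem L11037 : sm ge N2115 = N1062 := flp_e L11036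
theorem L11041 : sm gf N2115 = N1070 := ded_25_2 L5437 L5407 L11036
theorem L11042 : sm gf N1070 = N2115 := flp_f L11041
theorem L11043 : sm gg N1794 = N2115 := ded_28_3 L11037 L5406 L5439 L9218
theorem L11044 : sm gg N2115 = N1794 := flp_g L11043
theorem L11045 : sm gg N1062 = N2116 := rfl
theorem L11048 : sm gc N2116 = N1222 := ded_21_1 L11033 L11028 L11045
theorem L11050 : sm ge N2116 = N1794 := ded_26_1 L11043 L11037 L11045
theorem L11051 : sm ge N1794 = N2116 := flp_e L11050
theorem L11052 : sm gd N1063 = N2117 := rfl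
theorem L11053 : sm gd N2117 = N1063 := flp_d L11052
theorem L11055 : sm gd N1064 = N2118 := rfl
theorem L11056 : sm gd N2118 = N1064 := flp_d L11055
theorem L11059 : sm gb N1065 = N2119 := rfl
theorem L11060 : sm gb N2119 = N1065 := flp_b L11059
theorem L11061 : sm ge N2119 = N2099 := ded_15_2 L11010 L11008 L11059
theorem L11062 : sm ge N2099 = N2119 := flp_e L11061
theorem L11063 : sm ga N2100 = N2119 := ded_29_0 L11060 L5421 L2742 L5340 L10850 L10852 L10881 L10883 L10943
theorem L11065 : sm gd N1065 = N2120 := rfl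
theorem L11066 : sm gd N2120 = N1065 := flp_d L11065
theorem L11067 : sm ga N2120 = N2120 := ded_9_1 L11066 L5422 L11065
theorem L11068 : sm gc N2120 = N1113 := ded_30_0 L5666 L2840 L1434 L736 L705 L1366 L2740 L5420 L11065 L11067
theorem L11070 : sm gf N1065 = N2121 := rfl
theorem L11071 : sm gf N2121 = N1065 := flp_f L11070
theorem L11073 : sm gc N2121 = N1066 := ded_20_1 L5424 L5420 L11070
theorem L11075 : sm gg N1065 = N2122 := rfl
theorem L11076 : sm gg N2122 = N1065 := flp_g L11075
theorem L11080 : sm gd N1066 = N2123 := rfl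
theorem L11083 : sm gf N2123 = N1068 := ded_23_2 L5431 L2744 L2740 L5423 L11080
theorem L11084 : sm gf N1068 = N2123 := flp_f L11083
theorem L11085 : sm gg N1066 = N2124 := rfl
theorem L11086 : sm gg N2124 = N1066 := flp_g L11085
theorem L11088 : sm gf N2112 = N2124 := ded_28_0 L11086 L5424 L5426 L11021
theorem L11089 : sm gf N2124 = N2112 := flp_f L11088
theorem L11097 : sm gc N1068 = N2126 := rfl
theorem L11100 : sm ge N1068 = N2127 := rfl
theorem L11101 : sm ge N2127 = N1068 := flp_e L11100
theorem L11105 : sm gg N1068 = N2128 := rfl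
theorem L11106 : sm gg N2128 = N1068 := flp_g L11105
theorem L11108 : sm gd N2128 = N1071 := ded_24_1 L5440 L2753 L2751 L5430 L11105
theorem L11109 : sm gd N1071 = N2128 := flp_d L11108
theorem L11110 : sm gb N1069 = N2129 := rfl
theorem L11111 : sm gb N2129 = N1069 := flp_b L11110
theorem L11112 : sm gd N1069 = N2130 := rfl
theorem L11113 : sm gd N2130 = N1069 := flp_d L11112
theorem L11114 : sm ga N2130 = N2130 := ded_9_1 L11113 L5435 L11112
theorem L11115 : sm gc N2130 = N1917 := ded_30_0 L9907 L5547 L2798 L1397 L723 L1372 L2752 L5433 L11112 L11114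
theorem L11116 : sm gc N1917 = N2130 := flp_c L11115
theorem L11117 : sm gg N1916 = N2130 := ded_21_0 L11115 L9905 L9899
theorem L11118 : sm gg N2130 = N1916 := flp_g L11117
theorem L11119 : sm ge N1069 = N2131 := rfl
theorem L11120 : sm ge N2131 = N1069 := flp_e L11119
theorem L11126 : sm gg N1070 = N2132 := rfl
theorem L11127 : sm gg N2132 = N1070 := flp_g L11126
theorem L11129 : sm ge N2132 = N1071 := ded_26_1 L5440 L5436 L11126
theorem L11131 : sm gf N2116 = N2132 := ded_28_0 L11127 L11042 L11044 L11051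
theorem L11133 : sm gc N1072 = N2133 := rfl
theorem L11135 : sm ga N2133 = N1074 := ded_8_1 L5460 L5445 L11133
theorem L11136 : sm ga N1074 = N2133 := flp_a L11135
theorem L11145 : sm gf N1072 = N2135 := rfl
theorem L11146 : sm gf N2135 = N1072 := flp_f L11145
theorem L11147 : sm ga N2135 = N1076 := ded_11_1 L5466 L5445 L11145
theorem L11148 : sm ga N1076 = N2135 := flp_a L11147
theorem L11149 : sm gb N2135 = N1090 := ded_16_1 L5531 L5447 L11145
theorem L11151 : sm gd N1840 = N2135 := ded_14_0 L11149 L5542 L9454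
theorem L11160 : sm gd N1073 = N2137 := rfl
theorem L11166 : sm gf N2137 = N1840 := ded_23_2 L11151 L11146 L5443 L5448 L11160
theorem L11167 : sm gf N1840 = N2137 := flp_f L11166
theorem L11168 : sm gb N1074 = N2138 := rfl
theorem L11169 : sm gb N2138 = N1074 := flp_b L11168
theorem L11170 : sm gc N2138 = N1079 := ded_13_2 L5479 L2773 L2766 L5459 L11168
theorem L11171 : sm gc N1079 = N2138 := flp_c L11170
theorem L11172 : sm gd N1074 = N2139 := rfl
theorem L11174 : sm ge N1074 = N2140 := rfl
theorem L11175 : sm ge N2140 = N1074 := flp_e L11174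
theorem L11176 : sm gc N2140 = N1075 := ded_19_1 L5462 L5459 L11174
theorem L11178 : sm gf N1074 = N2141 := rfl
theorem L11179 : sm gf N2141 = N1074 := flp_f L11178
theorem L11180 : sm gc N2141 = N1076 := ded_20_1 L5466 L5459 L11178
theorem L11181 : sm gc N1076 = N2141 := flp_c L11180
theorem L11182 : sm gg N1074 = N2142 := rfl
theorem L11183 : sm gg N2142 = N1074 := flp_g L11182
theorem L11184 : sm gc N2142 = N1077 := ded_21_1 L5470 L5459 L11182
theorem L11185 : sm gc N1077 = N2142 := flp_c L11184
theorem L11192 : sm gg N1075 = N2144 := rfl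
theorem L11194 : sm gb N2144 = N1085 := ded_17_1 L5506 L5464 L11192
theorem L11195 : sm gb N1085 = N2144 := flp_b L11194
theorem L11196 : sm ge N2144 = N1077 := ded_26_1 L5470 L5461 L11192
theorem L11197 : sm ge N1077 = N2144 := flp_e L11196
theorem L11198 : sm gd N1076 = N2145 := rfl
theorem L11199 : sm gd N2145 = N1076 := flp_d L11198
theorem L11200 : sm ga N2145 = N1840 := ded_9_1 L11151 L11147 L11198
theorem L11204 : sm gf N2145 = N1078 := ded_23_2 L5475 L2768 L2763 L5465 L11198
theorem L11205 : sm gf N1078 = N2145 := flp_f L11204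
theorem L11206 : sm gg N1837 = N2145 := ded_12_0 L11200 L9452 L9441
theorem L11207 : sm gg N2145 = N1837 := flp_g L11206
theorem L11208 : sm gg N1076 = N2146 := rfl
theorem L11209 : sm gg N2146 = N1076 := flp_g L11208
theorem L11212 : sm gf N2144 = N2146 := ded_28_0 L11209 L5466 L5469 L11197
theorem L11213 : sm gf N2146 = N2144 := flp_f L11212
theorem L11214 : sm gf N1077 = N2147 := rfl
theorem L11215 : sm gf N2147 = N1077 := flp_f L11214
theorem L11216 : sm gb N2147 = N1088 := ded_16_1 L5521 L5472 L11214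
theorem L11217 : sm gb N1088 = N2147 := flp_b L11216
theorem L11218 : sm ge N2147 = N2146 := ded_25_1 L11213 L11196 L11214
theorem L11219 : sm ge N2146 = N2147 := flp_e L11218
theorem L11222 : sm gc N1078 = N2148 := rfl
theorem L11223 : sm gc N2148 = N1078 := flp_c L11222
theorem L11224 : sm ge N1078 = N2149 := rfl
theorem L11225 : sm ge N2149 = N1078 := flp_e L11224
theorem L11226 : sm gb N2149 = N1094 := ded_15_1 L5552 L5477 L11224
theorem L11227 : sm gb N1094 = N2149 := flp_b L11226
theorem L11228 : sm gg N1078 = N2150 := rfl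
theorem L11229 : sm gg N2150 = N1078 := flp_g L11228
theorem L11230 : sm gb N2150 = N1095 := ded_17_1 L5555 L5477 L11228
theorem L11231 : sm gb N1095 = N2150 := flp_b L11230
theorem L11232 : sm gf N1866 = N2150 := ded_28_0 L11229 L11205 L11207 L9626
theorem L11233 : sm gf N2150 = N1866 := flp_f L11232
theorem L11234 : sm ga N1079 = N2151 := rfl
theorem L11235 : sm ga N2151 = N1079 := flp_a L11234
theorem L11236 : sm ge N1079 = N2152 := rfl
theorem L11237 : sm ge N2152 = N1079 := flp_e L11236
theorem L11244 : sm gd N1080 = N2154 := rfl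
theorem L11245 : sm gd N2154 = N1080 := flp_d L11244
theorem L11247 : sm gf N1080 = N2155 := rfl
theorem L11248 : sm gf N2155 = N1080 := flp_f L11247
theorem L11252 : sm ge N2155 = N1081 := ded_25_1 L5486 L5480 L11247
theorem L11254 : sm gg N1806 = N2155 := ded_28_1 L11248 L9678 L9264 L9266
theorem L11255 : sm gg N2155 = N1806 := flp_g L11254
theorem L11256 : sm gd N1081 = N2156 := rfl
theorem L11257 : sm gd N2156 = N1081 := flp_d L11256
theorem L11259 : sm gg N1081 = N2157 := rfl
theorem L11260 : sm gg N2157 = N1081 := flp_g L11259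
theorem L11262 : sm gc N2157 = N1087 := ded_21_1 L5516 L5489 L11259
theorem L11263 : sm gc N1087 = N2157 := flp_c L11262
theorem L11264 : sm ge N2157 = N1806 := ded_26_1 L11254 L11252 L11259
theorem L11265 : sm ge N1806 = N2157 := flp_e L11264
theorem L11266 : sm gf N1805 = N2157 := ded_28_0 L11260 L5486 L9669 L9263
theorem L11267 : sm gf N2157 = N1805 := flp_f L11266
theorem L11268 : sm gc N1083 = N2158 := rfl
theorem L11269 : sm gc N2158 = N1083 := flp_c L11268
theorem L11271 : sm ge N2158 = N1089 := ded_19_2 L5528 L5499 L11268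
theorem L11272 : sm ge N1089 = N2158 := flp_e L11271
theorem L11273 : sm gb N2151 = N2158 := ded_29_7 L11269 L5498 L2787 L5447 L11133 L11135 L11168 L11170 L11234
theorem L11275 : sm gf N1083 = N2159 := rfl
theorem L11276 : sm gf N2159 = N1083 := flp_f L11275
theorem L11278 : sm ge N2159 = N1090 := ded_25_1 L5531 L5499 L11275
theorem L11279 : sm ge N1090 = N2159 := flp_e L11278
theorem L11280 : sm gg N1083 = N2160 := rfl
theorem L11281 : sm gg N2160 = N1083 := flp_g L11280
theorem L11282 : sm ga N2160 = N2160 := ded_12_1 L11281 L5497 L11280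
theorem L11283 : sm ge N2160 = N1091 := ded_26_1 L5534 L5499 L11280
theorem L11284 : sm ge N1091 = N2160 := flp_e L11283
theorem L11285 : sm gd N1084 = N2161 := rfl
theorem L11286 : sm gd N2161 = N1084 := flp_d L11285
theorem L11288 : sm gd N1085 = N2162 := rfl
theorem L11289 : sm gd N2162 = N1085 := flp_d L11288
theorem L11292 : sm gd N1087 = N2163 := rfl
theorem L11293 : sm gd N2163 = N1087 := flp_d L11292
theorem L11295 : sm gd N1088 = N2164 := rfl
theorem L11296 : sm gd N2164 = N1088 := flp_d L11295
theorem L11298 : sm gf N2164 = N2164 := ded_23_2 L11296 L5521 L2784 L5520 L11295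
theorem L11299 : sm gb N1089 = N2165 := rfl
theorem L11300 : sm gb N2165 = N1089 := flp_b L11299
theorem L11301 : sm ge N2165 = N2151 := ded_15_2 L11273 L11271 L11299
theorem L11302 : sm ge N2151 = N2165 := flp_e L11301
theorem L11305 : sm gd N1089 = N2166 := rfl
theorem L11306 : sm gd N2166 = N1089 := flp_d L11305
theorem L11308 : sm gf N1089 = N2167 := rfl
theorem L11309 : sm gf N2167 = N1089 := flp_f L11308
theorem L11310 : sm ga N2167 = N2167 := ded_11_1 L11309 L5529 L11308
theorem L11311 : sm gc N2167 = N1090 := ded_20_1 L5531 L5527 L11308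
theorem L11312 : sm gc N1090 = N2167 := flp_c L11311
theorem L11313 : sm gg N1089 = N2168 := rfl
theorem L11316 : sm gc N2168 = N1091 := ded_21_1 L5534 L5527 L11313
theorem L11318 : sm gg N1090 = N2169 := rfl
theorem L11319 : sm gg N2169 = N1090 := flp_g L11318
theorem L11321 : sm gf N2160 = N2169 := ded_28_0 L11319 L5531 L5533 L11284
theorem L11323 : sm gd N2169 = N1844 := ded_24_1 L9466 L4652 L4659 L5543 L11318
theorem L11325 : sm gf N1091 = N2170 := rfl
theorem L11330 : sm gg N2170 = N2159 := ded_28_3 L11278 L5531 L5533 L11325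
theorem L11331 : sm gg N2159 = N2170 := flp_g L11330
theorem L11332 : sm gb N1093 = N2171 := rfl
theorem L11333 : sm gb N2171 = N1093 := flp_b L11332
theorem L11334 : sm gg N2171 = N1556 := ded_17_2 L8024 L5550 L11332
theorem L11335 : sm gg N1556 = N2171 := flp_g L11334
theorem L11336 : sm ga N1652 = N2171 := ded_12_3 L11334 L8022 L8504
theorem L11337 : sm ga N2171 = N1652 := flp_a L11336
theorem L11338 : sm gg N1094 = N2172 := rfl
theorem L11339 : sm gg N2172 = N1094 := flp_g L11338
theorem L11341 : sm gc N2172 = N1865 := ded_21_1 L9695 L9690 L11338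
theorem L11342 : sm gc N1865 = N2172 := flp_c L11341
theorem L11343 : sm ge N2172 = N1095 := ded_26_1 L5555 L5551 L11338
theorem L11347 : sm gb N1096 = N2173 := rfl
theorem L11348 : sm gb N2173 = N1096 := flp_b L11347
theorem L11351 : sm gf N2173 = N1257 := ded_16_2 L6432 L5567 L11347
theorem L11352 : sm gf N1257 = N2173 := flp_f L11351
theorem L11353 : sm gg N2173 = N1259 := ded_17_2 L6442 L5569 L11347
theorem L11356 : sm ga N1259 = N2173 := ded_29_6 L11348 L5562 L2804 L1635 L1636 L3243 L3241 L6443 L6444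
theorem L11358 : sm gd N1096 = N2174 := rfl
theorem L11359 : sm gd N2174 = N1096 := flp_d L11358
theorem L11360 : sm ga N2174 = N2174 := ded_9_1 L11359 L5563 L11358
theorem L11371 : sm ge N1097 = N2177 := rfl
theorem L11372 : sm ge N2177 = N1097 := flp_e L11371
theorem L11373 : sm ga N2177 = N1102 := ded_10_1 L5601 L5573 L11371
theorem L11374 : sm ga N1102 = N2177 := flp_a L11373
theorem L11393 : sm gd N1100 = N2180 := rfl
theorem L11395 : sm gb N2180 = N1101 := ded_14_1 L5599 L5594 L11393
theorem L11396 : sm gb N1101 = N2180 := flp_b L11395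
theorem L11397 : sm ge N1100 = N2181 := rfl
theorem L11398 : sm ge N2181 = N1100 := flp_e L11397
theorem L11401 : sm gb N2181 = N1102 := ded_15_1 L5601 L5594 L11397
theorem L11402 : sm gb N1102 = N2181 := flp_b L11401
theorem L11413 : sm gc N1101 = N2183 := rfl
theorem L11414 : sm gc N2183 = N1101 := flp_c L11413
theorem L11415 : sm ge N1101 = N2184 := rfl
theorem L11417 : sm gf N1101 = N2185 := rfl
theorem L11418 : sm gf N2185 = N1101 := flp_f L11417
theorem L11419 : sm gg N1101 = N2186 := rfl
theorem L11420 : sm gg N2186 = N1101 := flp_g L11419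
theorem L11421 : sm gd N1102 = N2187 := rfl
theorem L11422 : sm gd N2187 = N1102 := flp_d L11421
theorem L11431 : sm gd N1103 = N2189 := rfl
theorem L11432 : sm gd N2189 = N1103 := flp_d L11431
theorem L11433 : sm gf N1103 = N2190 := rfl
theorem L11437 : sm gc N2190 = N1105 := ded_20_1 L5617 L5607 L11433
theorem L11441 : sm gg N2190 = N2177 := ded_28_3 L11372 L5574 L5604 L11433
theorem L11442 : sm gg N2177 = N2190 := flp_g L11441
theorem L11443 : sm gd N1104 = N2191 := rfl
theorem L11444 : sm gd N2191 = N1104 := flp_d L11443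
theorem L11447 : sm ge N2191 = N1182 := ded_22_2 L6024 L3005 L2829 L5613 L11443
theorem L11448 : sm ge N1182 = N2191 := flp_e L11447
theorem L11449 : sm gd N1105 = N2192 := rfl
theorem L11450 : sm gd N2192 = N1105 := flp_d L11449
theorem L11455 : sm gf N2192 = N1187 := ded_23_2 L6054 L3020 L2829 L5616 L11449
theorem L11456 : sm gf N1187 = N2192 := flp_f L11455
theorem L11457 : sm gg N2192 = N2191 := ded_24_2 L11444 L5609 L5585 L5625 L11449
theorem L11458 : sm gg N2191 = N2192 := flp_g L11457
theorem L11501 : sm gc N1110 = N2199 := rfl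
theorem L11502 : sm gc N2199 = N1110 := flp_c L11501
theorem L11504 : sm gg N2199 = N2120 := ded_21_2 L11068 L5677 L11501
theorem L11505 : sm gg N2120 = N2199 := flp_g L11504
theorem L11506 : sm gf N1110 = N2200 := rfl
theorem L11507 : sm gf N2200 = N1110 := flp_f L11506
theorem L11509 : sm gd N1111 = N2201 := rfl
theorem L11510 : sm gd N2201 = N1111 := flp_d L11509
theorem L11512 : sm gb N2201 = N2004 := ded_14_1 L10417 L5653 L11509
theorem L11513 : sm gb N2004 = N2201 := flp_b L11512
theorem L11514 : sm gc N2201 = N1904 := ded_29_8 L9844 L4844 L5058 L10295 L10297 L10327 L10329 L10415 L11513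
theorem L11515 : sm gc N1904 = N2201 := flp_c L11514
theorem L11516 : sm ge N1910 = N2201 := ded_19_0 L11514 L9844 L9875
theorem L11518 : sm gd N2199 = N1901 := ded_30_7 L9827 L9841 L9843 L11515 L11510 L5654 L2848 L2836 L5646 L11501
theorem L11519 : sm gd N1901 = N2199 := flp_d L11518
theorem L11520 : sm ge N2103 = N2199 := ded_22_0 L11518 L9825 L4832 L5373 L10955
theorem L11522 : sm gc N2008 = N2103 := ded_19_3 L11520 L11502 L10435
theorem L11528 : sm ge N1113 = N2202 := rfl
theorem L11529 : sm ge N2202 = N1113 := flp_e L11528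
theorem L11533 : sm gg N2202 = N2008 := ded_26_2 L10434 L5678 L11528
theorem L11534 : sm gg N2008 = N2202 := flp_g L11533
theorem L11535 : sm gd N2202 = N1910 := ded_22_1 L11516 L11510 L5656 L5665 L11528
theorem L11537 : sm gc N1115 = N2203 := rfl
theorem L11538 : sm gc N2203 = N1115 := flp_c L11537
theorem L11540 : sm ge N1115 = N2204 := rfl
theorem L11541 : sm ge N2204 = N1115 := flp_e L11540
theorem L11543 : sm gd N2204 = N1116 := ded_22_1 L5687 L5676 L5663 L5679 L11540
theorem L11544 : sm gd N1116 = N2204 := flp_d L11543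
theorem L11545 : sm gf N1115 = N2205 := rfl
theorem L11546 : sm gf N2205 = N1115 := flp_f L11545
theorem L11553 : sm gc N1118 = N2207 := rfl
theorem L11554 : sm gc N2207 = N1118 := flp_c L11553
theorem L11556 : sm gf N2207 = N1227 := ded_20_2 L6256 L5700 L11553
theorem L11557 : sm gf N1227 = N2207 := flp_f L11556
theorem L11560 : sm gd N2056 = N2207 := ded_31_2 L11554 L5701 L6349 L6344 L6318 L6321 L6172 L3101 L1784 L1795 L1871 L3707 L7364 L7367 L10698
theorem L11562 : sm gd N1227 = N1137 := ded_23_1 L5792 L5240 L10698 L11560 L11556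
theorem L11563 : sm gd N1137 = N1227 := flp_d L11562
theorem L11564 : sm gd N1119 = N2208 := rfl
theorem L11565 : sm gd N2208 = N1119 := flp_d L11564
theorem L11566 : sm ga N2208 = N1120 := ded_9_1 L5713 L5703 L11564
theorem L11567 : sm ga N1120 = N2208 := flp_a L11566
theorem L11568 : sm gb N2208 = N1125 := ded_14_1 L5733 L5709 L11564
theorem L11569 : sm gb N1125 = N2208 := flp_b L11568
theorem L11570 : sm gc N1120 = N2209 := rfl
theorem L11571 : sm gc N2209 = N1120 := flp_c L11570
theorem L11576 : sm gf N1120 = N2211 := rfl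
theorem L11577 : sm gf N2211 = N1120 := flp_f L11576
theorem L11578 : sm gb N2211 = N1123 := ded_16_1 L5725 L5715 L11576
theorem L11579 : sm gb N1123 = N2211 := flp_b L11578
theorem L11580 : sm gd N2211 = N1131 := ded_23_1 L5762 L2901 L2876 L5712 L11576
theorem L11581 : sm gd N1131 = N2211 := flp_d L11580
theorem L11582 : sm gg N1120 = N2212 := rfl
theorem L11583 : sm gg N2212 = N1120 := flp_g L11582
theorem L11584 : sm gb N2212 = N1124 := ded_17_1 L5730 L5715 L11582
theorem L11585 : sm gb N1124 = N2212 := flp_b L11584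
theorem L11586 : sm gd N1121 = N2213 := rfl
theorem L11587 : sm gd N2213 = N1121 := flp_d L11586
theorem L11588 : sm gb N2213 = N1126 := ded_14_1 L5736 L5719 L11586
theorem L11590 : sm gd N1122 = N2214 := rfl
theorem L11591 : sm gd N2214 = N1122 := flp_d L11590
theorem L11593 : sm ge N2214 = N1125 := ded_22_2 L5733 L2882 L2878 L5721 L11590
theorem L11595 : sm gf N1122 = N2215 := rfl
theorem L11596 : sm gf N2215 = N1122 := flp_f L11595
theorem L11598 : sm ge N2215 = N1123 := ded_25_1 L5725 L5721 L11595
theorem L11599 : sm ge N1123 = N2215 := flp_e L11598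
theorem L11600 : sm gg N1122 = N2216 := rfl
theorem L11601 : sm gg N2216 = N1122 := flp_g L11600
theorem L11603 : sm ge N2216 = N1124 := ded_26_1 L5730 L5721 L11600
theorem L11604 : sm ge N1124 = N2216 := flp_e L11603
theorem L11605 : sm gg N1123 = N2217 := rfl
theorem L11606 : sm gg N2217 = N1123 := flp_g L11605
theorem L11608 : sm gf N2216 = N2217 := ded_28_0 L11606 L5725 L5729 L11604
theorem L11610 : sm gd N1124 = N2218 := rfl
theorem L11611 : sm gd N2218 = N1124 := flp_d L11610
theorem L11613 : sm gg N2218 = N1126 := ded_24_2 L5736 L2889 L2878 L5729 L11610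
theorem L11614 : sm gg N1126 = N2218 := flp_g L11613
theorem L11615 : sm gc N1857 = N2218 := ded_21_3 L11613 L9524 L9551
theorem L11616 : sm gc N2218 = N1857 := flp_c L11615
theorem L11617 : sm gf N1855 = N2218 := ded_28_0 L11613 L9514 L9511 L9534
theorem L11618 : sm gf N2218 = N1855 := flp_f L11617
theorem L11619 : sm ge N2218 = N1856 := ded_28_4 L9542 L9512 L9513 L11614
theorem L11620 : sm ge N1856 = N2218 := flp_e L11619
theorem L11621 : sm gf N1124 = N2219 := rfl
theorem L11622 : sm gf N2219 = N1124 := flp_f L11621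
theorem L11626 : sm gg N2219 = N2215 := ded_28_3 L11598 L5725 L5729 L11621
theorem L11627 : sm gg N2215 = N2219 := flp_g L11626
theorem L11628 : sm gc N1125 = N2220 := rfl
theorem L11629 : sm gc N2220 = N1125 := flp_c L11628
theorem L11631 : sm gf N1125 = N2221 := rfl
theorem L11632 : sm gf N2221 = N1125 := flp_f L11631
theorem L11634 : sm gd N2221 = N1146 := ded_23_1 L5837 L2922 L2887 L5732 L11631
theorem L11635 : sm gd N1146 = N2221 := flp_d L11634
theorem L11636 : sm ge N1126 = N2222 := rfl
theorem L11639 : sm gc N2222 = N1858 := ded_19_1 L9558 L9523 L11636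
theorem L11640 : sm gc N1858 = N2222 := flp_c L11639
theorem L11641 : sm gg N2222 = N1856 := ded_26_2 L11620 L11613 L11636
theorem L11642 : sm gg N1856 = N2222 := flp_g L11641
theorem L11643 : sm gd N2222 = N1799 := ded_22_1 L9243 L5855 L2941 L5735 L11636
theorem L11644 : sm gd N1799 = N2222 := flp_d L11643
theorem L11645 : sm gc N1854 = N2029 := ded_31_7 L10540 L5164 L2603 L1300 L1187 L1324 L2658 L5220 L10656 L10675 L10677 L11640 L11641 L9542 L9531
theorem L11647 : sm gg N2026 = N1854 := ded_21_0 L11645 L10540 L10524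
theorem L11648 : sm gg N1854 = N2026 := flp_g L11647
theorem L11649 : sm gc N1127 = N2223 := rfl
theorem L11651 : sm ga N2223 = N1129 := ded_8_1 L5756 L5741 L11649
theorem L11673 : sm gd N1128 = N2227 := rfl
theorem L11675 : sm ga N2227 = N1133 := ded_9_1 L5770 L5747 L11673
theorem L11676 : sm ga N1133 = N2227 := flp_a L11675
theorem L11677 : sm gb N2227 = N1148 := ded_14_1 L5843 L5749 L11673
theorem L11678 : sm gb N1148 = N2227 := flp_b L11677
theorem L11679 : sm gb N1129 = N2228 := rfl
theorem L11681 : sm gc N2228 = N1135 := ded_13_2 L5785 L2910 L2903 L5755 L11679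
theorem L11685 : sm ge N1129 = N2230 := rfl
theorem L11687 : sm gc N2230 = N1130 := ded_19_1 L5758 L5755 L11685
theorem L11688 : sm gc N1130 = N2230 := flp_c L11687
theorem L11703 : sm gg N1130 = N2234 := rfl
theorem L11704 : sm gg N2234 = N1130 := flp_g L11703
theorem L11707 : sm ge N2234 = N1132 := ded_26_1 L5766 L5757 L11703
theorem L11708 : sm ge N1132 = N2234 := flp_e L11707
theorem L11709 : sm gg N1131 = N2235 := rfl
theorem L11710 : sm gg N2235 = N1131 := flp_g L11709
theorem L11711 : sm gb N2235 = N1142 := ded_17_1 L5817 L5764 L11709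
theorem L11712 : sm gb N1142 = N2235 := flp_b L11711
theorem L11713 : sm gf N2234 = N2235 := ded_28_0 L11710 L5762 L5765 L11708
theorem L11714 : sm gf N2235 = N2234 := flp_f L11713
theorem L11729 : sm gc N1133 = N2238 := rfl
theorem L11730 : sm gc N2238 = N1133 := flp_c L11729
theorem L11739 : sm gd N1134 = N2241 := rfl
theorem L11740 : sm gd N2241 = N1134 := flp_d L11739
theorem L11741 : sm ga N2241 = N2213 := ded_9_1 L11587 L5776 L11739
theorem L11742 : sm ga N2213 = N2241 := flp_a L11741
theorem L11743 : sm gb N2241 = N1152 := ded_14_1 L5855 L5778 L11739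
theorem L11744 : sm gb N1152 = N2241 := flp_b L11743
theorem L11745 : sm gg N1803 = N2241 := ded_17_0 L11743 L5860 L9258
theorem L11746 : sm gg N2241 = N1803 := flp_g L11745
theorem L11749 : sm ge N1135 = N2243 := rfl
theorem L11757 : sm gg N1135 = N2245 := rfl
theorem L11758 : sm gg N2245 = N1135 := flp_g L11757
theorem L11759 : sm gb N2245 = N1138 := ded_17_1 L5797 L5784 L11757
theorem L11760 : sm gb N1138 = N2245 := flp_b L11759
theorem L11761 : sm gd N1136 = N2246 := rfl
theorem L11762 : sm gd N2246 = N1136 := flp_d L11761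
theorem L11763 : sm ga N2246 = N2246 := ded_9_1 L11762 L5788 L11761
theorem L11764 : sm gf N1136 = N2247 := rfl
theorem L11769 : sm ge N2247 = N1137 := ded_25_1 L5792 L5786 L11764
theorem L11778 : sm gg N1137 = N2249 := rfl
theorem L11779 : sm gg N2249 = N1137 := flp_g L11778
theorem L11781 : sm gc N2249 = N1142 := ded_21_1 L5817 L5795 L11778
theorem L11782 : sm gc N1142 = N2249 := flp_c L11781
theorem L11788 : sm gf N1138 = N2251 := rfl
theorem L11795 : sm gg N2251 = N2247 := ded_28_3 L11769 L5792 L5796 L11788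
theorem L11796 : sm gg N2247 = N2251 := flp_g L11795
theorem L11797 : sm gc N1139 = N2252 := rfl
theorem L11798 : sm gc N2252 = N1139 := flp_c L11797
theorem L11799 : sm ga N2252 = N2252 := ded_8_1 L11798 L5803 L11797
theorem L11800 : sm ge N2252 = N1145 := ded_19_2 L5834 L5805 L11797
theorem L11801 : sm ge N1145 = N2252 := flp_e L11800
theorem L11804 : sm gf N1139 = N2253 := rfl
theorem L11805 : sm gf N2253 = N1139 := flp_f L11804
theorem L11807 : sm ge N2253 = N1146 := ded_25_1 L5837 L5805 L11804
theorem L11808 : sm ge N1146 = N2253 := flp_e L11807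
theorem L11809 : sm gg N1139 = N2254 := rfl
theorem L11810 : sm gg N2254 = N1139 := flp_g L11809
theorem L11812 : sm ge N2254 = N1147 := ded_26_1 L5840 L5805 L11809
theorem L11813 : sm ge N1147 = N2254 := flp_e L11812
theorem L11814 : sm gd N1140 = N2255 := rfl
theorem L11815 : sm gd N2255 = N1140 := flp_d L11814
theorem L11820 : sm gd N1142 = N2257 := rfl
theorem L11821 : sm gd N2257 = N1142 := flp_d L11820
theorem L11823 : sm gc N1143 = N2258 := rfl
theorem L11826 : sm gg N2258 = N1149 := ded_21_2 L5846 L5825 L11823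
theorem L11827 : sm gg N1149 = N2258 := flp_g L11826
theorem L11828 : sm ge N1143 = N2259 := rfl
theorem L11829 : sm ge N2259 = N1143 := flp_e L11828
theorem L11831 : sm gg N2259 = N1150 := ded_26_2 L5849 L5825 L11828
theorem L11832 : sm gg N1150 = N2259 := flp_g L11831
theorem L11833 : sm gf N1143 = N2260 := rfl
theorem L11834 : sm gf N2260 = N1143 := flp_f L11833
theorem L11836 : sm gd N1144 = N2261 := rfl
theorem L11837 : sm gd N2261 = N1144 := flp_d L11836
theorem L11839 : sm gb N1145 = N2262 := rfl
theorem L11840 : sm gb N2262 = N1145 := flp_b L11839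
theorem L11843 : sm ga N2243 = N2262 := ded_29_0 L11840 L5834 L2923 L5743 L11649 L11651 L11679 L11681 L11749
theorem L11845 : sm gd N1145 = N2263 := rfl
theorem L11846 : sm gd N2263 = N1145 := flp_d L11845
theorem L11847 : sm ga N2263 = N2263 := ded_9_1 L11846 L5835 L11845
theorem L11848 : sm gc N2263 = N2166 := ded_30_0 L11306 L5528 L2786 L1391 L759 L1466 L2921 L5833 L11845 L11847
theorem L11849 : sm gc N2166 = N2263 := flp_c L11848
theorem L11850 : sm gf N1145 = N2264 := rfl
theorem L11851 : sm gf N2264 = N1145 := flp_f L11850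
theorem L11853 : sm gc N2264 = N1146 := ded_20_1 L5837 L5833 L11850
theorem L11860 : sm gg N1146 = N2266 := rfl
theorem L11861 : sm gg N2266 = N1146 := flp_g L11860
theorem L11863 : sm gf N2254 = N2266 := ded_28_0 L11861 L5837 L5839 L11813
theorem L11864 : sm gf N2266 = N2254 := flp_f L11863
theorem L11865 : sm gd N1147 = N2267 := rfl
theorem L11868 : sm gg N2267 = N1148 := ded_24_2 L5843 L2925 L2921 L5839 L11865
theorem L11869 : sm gg N1148 = N2267 := flp_g L11868
theorem L11870 : sm gf N1147 = N2268 := rfl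
theorem L11873 : sm ge N2268 = N2266 := ded_25_1 L11864 L11812 L11870
theorem L11874 : sm ge N2266 = N2268 := flp_e L11873
theorem L11877 : sm gc N1148 = N2269 := rfl
theorem L11878 : sm gc N2269 = N1148 := flp_c L11877
theorem L11880 : sm ge N1148 = N2270 := rfl
theorem L11881 : sm ge N2270 = N1148 := flp_e L11880
theorem L11883 : sm gd N2270 = N1150 := ded_22_1 L5849 L2934 L2930 L5842 L11880
theorem L11884 : sm gd N1150 = N2270 := flp_d L11883
theorem L11885 : sm gf N1148 = N2271 := rfl
theorem L11886 : sm gf N2271 = N1148 := flp_f L11885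
theorem L11887 : sm ga N2271 = N2271 := ded_11_1 L11886 L5844 L11885
theorem L11888 : sm gd N2271 = N1850 := ded_23_1 L9513 L5736 L2932 L5842 L11885
theorem L11889 : sm gd N1850 = N2271 := flp_d L11888
theorem L11890 : sm gc N2271 = N1234 := ded_30_0 L6302 L3155 L3162 L6323 L6332 L4702 L4704 L9508 L11889 L11887
theorem L11892 : sm gf N1234 = N2269 := ded_20_2 L11878 L11885 L11890
theorem L11894 : sm gd N2269 = N1232 := ded_23_1 L6290 L3147 L3152 L6301 L11892
theorem L11895 : sm gd N1232 = N2269 := flp_d L11894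
theorem L11896 : sm gb N1149 = N2272 := rfl
theorem L11897 : sm gb N2272 = N1149 := flp_b L11896
theorem L11898 : sm gd N1149 = N2273 := rfl
theorem L11899 : sm gd N2273 = N1149 := flp_d L11898
theorem L11900 : sm ga N2273 = N2273 := ded_9_1 L11899 L5847 L11898
theorem L11901 : sm gc N2273 = N2078 := ded_30_0 L10834 L5325 L2708 L1351 L765 L1471 L2933 L5845 L11898 L11900
theorem L11902 : sm gc N2078 = N2273 := flp_c L11901
theorem L11903 : sm ge N1149 = N2274 := rfl
theorem L11904 : sm ge N2274 = N1149 := flp_e L11903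
theorem L11906 : sm gc N2274 = N1150 := ded_19_1 L5849 L5845 L11903
theorem L11907 : sm gc N1150 = N2274 := flp_c L11906
theorem L11908 : sm gf N1149 = N2275 := rfl
theorem L11909 : sm gf N2275 = N1149 := flp_f L11908
theorem L11911 : sm gc N2275 = N1151 := ded_20_1 L5852 L5845 L11908
theorem L11912 : sm gc N1151 = N2275 := flp_c L11911
theorem L11913 : sm gf N1150 = N2276 := rfl
theorem L11914 : sm gf N2276 = N1150 := flp_f L11913
theorem L11916 : sm ge N2276 = N1151 := ded_25_1 L5852 L5848 L11913
theorem L11917 : sm ge N1151 = N2276 := flp_e L11916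
theorem L11918 : sm gg N2260 = N2276 := ded_28_1 L11914 L11832 L11829 L11833
theorem L11919 : sm gg N2276 = N2260 := flp_g L11918
theorem L11920 : sm gc N1202 = N2276 := ded_31_15 L11919 L11834 L5822 L5800 L5797 L5791 L11563 L6256 L6218 L6216 L3119 L3065 L3062 L3054 L6133
theorem L11922 : sm ge N2275 = N1202 := ded_19_0 L11920 L11916 L11912
theorem L11924 : sm gf N2274 = N1202 := ded_20_0 L11920 L11914 L11907
theorem L11926 : sm gd N1205 = N2275 := ded_22_5 L11922 L6134 L3059 L3068 L6144
theorem L11928 : sm gd N1200 = N2274 := ded_23_5 L11924 L6134 L3055 L3049 L6119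
theorem L11929 : sm gd N2274 = N1200 := flp_d L11928
theorem L11930 : sm gf N2273 = N1368 := ded_23_4 L7018 L6148 L11926 L11909 L11898
theorem L11932 : sm ge N2273 = N1363 := ded_22_4 L6987 L6125 L11928 L11904 L11898
theorem L11933 : sm ge N1363 = N2273 := flp_e L11932
theorem L11934 : sm gg N1151 = N2277 := rfl
theorem L11935 : sm gg N2277 = N1151 := flp_g L11934
theorem L11937 : sm ge N2277 = N2260 := ded_26_1 L11918 L11916 L11934
theorem L11939 : sm gf N2259 = N2277 := ded_28_0 L11935 L5852 L5825 L11828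
theorem L11940 : sm gf N2277 = N2259 := flp_f L11939
theorem L11941 : sm gd N1153 = N2278 := rfl
theorem L11942 : sm gd N2278 = N1153 := flp_d L11941
theorem L11943 : sm gb N2278 = N1154 := ded_14_1 L5866 L5861 L11941
theorem L11944 : sm gb N1154 = N2278 := flp_b L11943
theorem L11945 : sm gf N1153 = N2279 := rfl
theorem L11946 : sm gf N2279 = N1153 := flp_f L11945
theorem L11951 : sm gg N1153 = N2280 := rfl
theorem L11957 : sm gc N1154 = N2281 := rfl
theorem L11959 : sm ga N2281 = N1170 := ded_8_1 L5978 L5868 L11957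
theorem L11960 : sm ga N1170 = N2281 := flp_a L11959
theorem L11963 : sm ge N1154 = N2282 := rfl
theorem L11964 : sm ge N2282 = N1154 := flp_e L11963
theorem L11975 : sm gd N1155 = N2285 := rfl
theorem L11976 : sm gd N2285 = N1155 := flp_d L11975
theorem L11977 : sm ga N2285 = N1174 := ded_9_1 L5986 L5872 L11975
theorem L11978 : sm ga N1174 = N2285 := flp_a L11977
theorem L12031 : sm gd N1159 = N2293 := rfl
theorem L12037 : sm ge N2293 = N2192 := ded_22_2 L11450 L5622 L5592 L5902 L12031
theorem L12039 : sm gg N2293 = N1182 := ded_24_2 L6024 L3002 L2956 L5895 L12031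
theorem L12040 : sm gg N1182 = N2293 := flp_g L12039
theorem L12041 : sm gc N1160 = N2294 := rfl
theorem L12042 : sm gc N2294 = N1160 := flp_c L12041
theorem L12043 : sm ga N2294 = N1183 := ded_8_1 L6028 L5906 L12041
theorem L12045 : sm gf N2294 = N1163 := ded_20_2 L5930 L5910 L12041
theorem L12046 : sm gf N1163 = N2294 := flp_f L12045
theorem L12061 : sm gb N1163 = N2297 := rfl
theorem L12062 : sm gb N2297 = N1163 := flp_b L12061
theorem L12065 : sm gc N2297 = N1241 := ded_13_2 L6353 L3184 L2974 L5929 L12061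
theorem L12066 : sm gc N1241 = N2297 := flp_c L12065
theorem L12079 : sm gd N1165 = N2300 := rfl
theorem L12081 : sm ga N2300 = N1166 := ded_9_1 L5954 L5945 L12079
theorem L12082 : sm ga N1166 = N2300 := flp_a L12081
theorem L12083 : sm gb N2300 = N2285 := ded_14_1 L11976 L5950 L12079
theorem L12084 : sm gb N2285 = N2300 := flp_b L12083
theorem L12085 : sm gf N1165 = N2301 := rfl
theorem L12091 : sm gc N2301 = N1191 := ded_20_1 L6068 L5948 L12085
theorem L12093 : sm ge N2301 = N2279 := ded_25_1 L11946 L5951 L12085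
theorem L12105 : sm gc N1166 = N2303 := rfl
theorem L12106 : sm gc N2303 = N1166 := flp_c L12105
theorem L12175 : sm ge N1170 = N2315 := rfl
theorem L12176 : sm ge N2315 = N1170 := flp_e L12175
theorem L12179 : sm gf N1170 = N2316 := rfl
theorem L12180 : sm gf N2316 = N1170 := flp_f L12179
theorem L12181 : sm gc N2316 = N1172 := ded_20_1 L5982 L5977 L12179
theorem L12182 : sm gc N1172 = N2316 := flp_c L12181
theorem L12183 : sm gg N1170 = N2317 := rfl
theorem L12184 : sm gg N2317 = N1170 := flp_g L12183
theorem L12199 : sm gd N1172 = N2321 := rfl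
theorem L12201 : sm gf N2321 = N1177 := ded_23_2 L6000 L2988 L2981 L5981 L12199
theorem L12202 : sm gf N1177 = N2321 := flp_f L12201
theorem L12203 : sm gg N1172 = N2322 := rfl
theorem L12204 : sm gg N2322 = N1172 := flp_g L12203
theorem L12207 : sm gd N1173 = N2323 := rfl
theorem L12208 : sm gd N2323 = N1173 := flp_d L12207
theorem L12209 : sm gg N2323 = N1179 := ded_24_2 L6008 L2992 L2981 L5983 L12207
theorem L12210 : sm gg N1179 = N2323 := flp_g L12209
theorem L12219 : sm gf N1174 = N2326 := rfl
theorem L12221 : sm gg N1174 = N2327 := rfl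
theorem L12222 : sm gg N2327 = N1174 := flp_g L12221
theorem L12223 : sm gd N1175 = N2328 := rfl
theorem L12224 : sm gd N2328 = N1175 := flp_d L12223
theorem L12225 : sm gg N2328 = N1177 := ded_24_2 L6000 L6001 L6018 L6015 L12223
theorem L12233 : sm ge N1177 = N2331 := rfl
theorem L12234 : sm ge N2331 = N1177 := flp_e L12233
theorem L12257 : sm gc N1182 = N2337 := rfl
theorem L12258 : sm gc N2337 = N1182 := flp_c L12257
theorem L12259 : sm gf N1182 = N2338 := rfl
theorem L12260 : sm gf N2338 = N1182 := flp_f L12259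
theorem L12265 : sm gg N1187 = N2338 := ded_28_1 L12260 L12040 L12037 L11455
theorem L12269 : sm gb N1183 = N2339 := rfl
theorem L12273 : sm gc N2339 = N1221 := ded_13_2 L6225 L3122 L3010 L6027 L12269
theorem L12275 : sm gd N1183 = N2340 := rfl
theorem L12277 : sm ge N1183 = N2341 := rfl
theorem L12278 : sm ge N2341 = N1183 := flp_e L12277
theorem L12279 : sm gc N2341 = N1184 := ded_19_1 L6032 L6027 L12277
theorem L12283 : sm gg N2294 = N2341 := ded_28_3 L12278 L6029 L5934 L12046
theorem L12284 : sm gg N2341 = N2294 := flp_g L12283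
theorem L12285 : sm gg N1183 = N2342 := rfl
theorem L12286 : sm gg N2342 = N1183 := flp_g L12285
theorem L12287 : sm ga N2342 = N2341 := ded_12_1 L12284 L12043 L12285
theorem L12319 : sm gc N1187 = N2346 := rfl
theorem L12320 : sm gc N2346 = N1187 := flp_c L12319
theorem L12357 : sm ge N1189 = N2352 := rfl
theorem L12359 : sm gf N1189 = N2353 := rfl
theorem L12360 : sm gf N2353 = N1189 := flp_f L12359
theorem L12361 : sm gg N1189 = N2354 := rfl
theorem L12362 : sm gg N2354 = N1189 := flp_g L12361
theorem L12363 : sm gd N1190 = N2355 := rfl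
theorem L12364 : sm gd N2355 = N1190 := flp_d L12363
theorem L12365 : sm gd N1191 = N2356 := rfl
theorem L12371 : sm gf N2356 = N1348 := ded_23_2 L6916 L3470 L3036 L6067 L12365
theorem L12372 : sm gf N1348 = N2356 := flp_f L12371
theorem L12415 : sm gd N1194 = N2363 := rfl
theorem L12416 : sm gd N2363 = N1194 := flp_d L12415
theorem L12419 : sm gd N1195 = N2364 := rfl
theorem L12420 : sm gd N2364 = N1195 := flp_d L12419
theorem L12421 : sm gb N2364 = N1203 := ded_14_1 L6137 L6090 L12419
theorem L12422 : sm gb N1203 = N2364 := flp_b L12421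
theorem L12423 : sm gc N1196 = N2365 := rfl
theorem L12425 : sm gf N2365 = N1357 := ded_20_2 L6966 L6098 L12423
theorem L12427 : sm ge N1196 = N2366 := rfl
theorem L12428 : sm ge N2366 = N1196 := flp_e L12427
theorem L12433 : sm gg N2356 = N2366 := ded_28_3 L12428 L6097 L6921 L12372
theorem L12443 : sm gd N1197 = N2368 := rfl
theorem L12445 : sm gb N2368 = N1207 := ded_14_1 L6153 L6102 L12443
theorem L12446 : sm gb N1207 = N2368 := flp_b L12445
theorem L12447 : sm gc N1198 = N2369 := rfl
theorem L12449 : sm gg N2369 = N1359 := ded_21_2 L6972 L6110 L12447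
theorem L12450 : sm gg N1359 = N2369 := flp_g L12449
theorem L12451 : sm ge N1198 = N2370 := rfl
theorem L12452 : sm ge N2370 = N1198 := flp_e L12451
theorem L12457 : sm gf N1198 = N2371 := rfl
theorem L12459 : sm gb N2371 = N1210 := ded_16_1 L6166 L6108 L12457
theorem L12460 : sm gb N1210 = N2371 := flp_b L12459
theorem L12465 : sm gd N1201 = N2373 := rfl
theorem L12466 : sm gd N2373 = N1201 := flp_d L12465
theorem L12467 : sm ga N2373 = N2373 := ded_9_1 L12466 L6128 L12465
theorem L12468 : sm gg N2373 = N1203 := ded_24_2 L6137 L3062 L3049 L6126 L12465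
theorem L12470 : sm gc N2373 = N1775 := ded_30_0 L9088 L4498 L2323 L2374 L4630 L7001 L6997 L6130 L12465 L12467
theorem L12471 : sm gc N1775 = N2373 := flp_c L12470
theorem L12472 : sm gg N1202 = N2374 := rfl
theorem L12473 : sm gg N2374 = N1202 := flp_g L12472
theorem L12477 : sm gf N2374 = N2258 := ded_28_2 L11826 L11903 L11924 L12472
theorem L12479 : sm gc N1203 = N2375 := rfl
theorem L12482 : sm gg N2375 = N1775 := ded_21_2 L12471 L12468 L12479
theorem L12483 : sm gg N1775 = N2375 := flp_g L12482
theorem L12484 : sm ge N1203 = N2376 := rfl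
theorem L12485 : sm ge N2376 = N1203 := flp_e L12484
theorem L12487 : sm gd N2376 = N1209 := ded_22_1 L6161 L3081 L3067 L6136 L12484
theorem L12489 : sm gf N1203 = N2377 := rfl
theorem L12490 : sm gf N2377 = N1203 := flp_f L12489
theorem L12492 : sm gb N1204 = N2378 := rfl
theorem L12494 : sm gf N2378 = N1372 := ded_16_2 L7036 L6143 L12492
theorem L12495 : sm gf N1372 = N2378 := flp_f L12494
theorem L12496 : sm ge N1204 = N2379 := rfl
theorem L12497 : sm ge N2379 = N1204 := flp_e L12496
theorem L12499 : sm gc N2379 = N1205 := ded_19_1 L6145 L6139 L12496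
theorem L12501 : sm gf N2379 = N1374 := ded_25_2 L7041 L6143 L12496
theorem L12503 : sm gg N1204 = N2380 := rfl
theorem L12506 : sm gc N2380 = N1206 := ded_21_1 L6150 L6139 L12503
theorem L12507 : sm gc N1206 = N2380 := flp_c L12506
theorem L12508 : sm gd N1206 = N2381 := rfl
theorem L12511 : sm ge N2381 = N1234 := ded_22_2 L6302 L6179 L7065 L7060 L12508
theorem L12513 : sm gg N2381 = N1207 := ded_24_2 L6153 L3074 L3068 L6149 L12508
theorem L12514 : sm gg N1207 = N2381 := flp_g L12513
theorem L12515 : sm gc N1207 = N2382 := rfl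
theorem L12516 : sm gc N2382 = N1207 := flp_c L12515
theorem L12518 : sm ge N1207 = N2383 := rfl
theorem L12519 : sm ge N2383 = N1207 := flp_e L12518
theorem L12523 : sm gf N1207 = N2384 := rfl
theorem L12524 : sm gf N2384 = N1207 := flp_f L12523
theorem L12526 : sm gg N2269 = N2384 := ded_28_1 L12524 L12514 L12511 L11892
theorem L12530 : sm gc N2384 = N2267 := ded_21_1 L11868 L11877 L12526
theorem L12532 : sm gf N2267 = N2382 := ded_20_2 L12516 L12523 L12530
theorem L12533 : sm gf N2382 = N2267 := flp_f L12532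
theorem L12534 : sm gb N1208 = N2385 := rfl
theorem L12535 : sm gb N2385 = N1208 := flp_b L12534
theorem L12536 : sm gg N2385 = N1378 := ded_17_2 L7072 L6159 L12534
theorem L12538 : sm gd N1208 = N2386 := rfl
theorem L12539 : sm gd N2386 = N1208 := flp_d L12538
theorem L12541 : sm ge N1208 = N2387 := rfl
theorem L12546 : sm gg N2387 = N1380 := ded_26_2 L7078 L6159 L12541
theorem L12547 : sm gg N1380 = N2387 := flp_g L12546
theorem L12548 : sm gf N1208 = N2388 := rfl
theorem L12549 : sm gf N2388 = N1208 := flp_f L12548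
theorem L12551 : sm gc N2388 = N1210 := ded_20_1 L6166 L6155 L12548
theorem L12553 : sm gd N1210 = N2389 := rfl
theorem L12554 : sm gd N2389 = N1210 := flp_d L12553
theorem L12555 : sm ga N2389 = N2389 := ded_9_1 L12554 L6167 L12553
theorem L12556 : sm gf N2389 = N1211 := ded_23_2 L6169 L3086 L3080 L6165 L12553
theorem L12557 : sm gf N1211 = N2389 := flp_f L12556
theorem L12558 : sm gc N1211 = N2390 := rfl
theorem L12559 : sm gc N2390 = N1211 := flp_c L12558
theorem L12560 : sm ga N2390 = N2390 := ded_8_1 L12559 L6170 L12558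
theorem L12561 : sm gd N1261 = N2390 := ded_30_9 L12560 L12559 L6169 L3088 L3137 L6255 L11562 L5794 L5728 L6454
theorem L12562 : sm gd N2390 = N1261 := flp_d L12561
theorem L12563 : sm gf N2390 = N1264 := ded_23_2 L6465 L3240 L3228 L6450 L12561
theorem L12564 : sm gf N1264 = N2390 := flp_f L12563
theorem L12565 : sm gc N1264 = N2389 := ded_20_1 L12556 L12558 L12563
theorem L12566 : sm gc N2389 = N1264 := flp_c L12565
theorem L12567 : sm gd N2126 = N2388 := ded_30_7 L12551 L12553 L12555 L12566 L6465 L3242 L1637 L2747 L5430 L11097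
theorem L12568 : sm gd N2388 = N2126 := flp_d L12567
theorem L12569 : sm ge N1211 = N2391 := rfl
theorem L12570 : sm ge N2391 = N1211 := flp_e L12569
theorem L12572 : sm gd N2391 = N2383 := ded_22_1 L12519 L6153 L3091 L6168 L12569
theorem L12573 : sm gd N2383 = N2391 := flp_d L12572
theorem L12574 : sm gg N1211 = N2392 := rfl
theorem L12575 : sm gg N2392 = N1211 := flp_g L12574
theorem L12577 : sm gd N2392 = N2374 := ded_24_1 L12473 L6134 L3093 L6168 L12574
theorem L12579 : sm gd N1213 = N2393 := rfl
theorem L12584 : sm gg N2393 = N1388 := ded_24_2 L7127 L3569 L3102 L6180 L12579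
theorem L12586 : sm gc N1214 = N2394 := rfl
theorem L12587 : sm gc N2394 = N1214 := flp_c L12586
theorem L12589 : sm gf N2394 = N1216 := ded_20_2 L6202 L6193 L12586
theorem L12590 : sm gf N1216 = N2394 := flp_f L12589
theorem L12591 : sm gc N1215 = N2395 := rfl
theorem L12594 : sm ge N2395 = N2207 := ded_19_2 L11554 L6198 L12591
theorem L12595 : sm ge N2207 = N2395 := flp_e L12594
theorem L12596 : sm gg N2395 = N1219 := ded_21_2 L6213 L6200 L12591
theorem L12597 : sm gg N1219 = N2395 := flp_g L12596
theorem L12598 : sm gb N1216 = N2396 := rfl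
theorem L12600 : sm gd N1216 = N2397 := rfl
theorem L12601 : sm gd N2397 = N1216 := flp_d L12600
theorem L12603 : sm gf N1418 = N2397 := ded_31_1 L12601 L6202 L6209 L6222 L3135 L3077 L3074 L1548 L786 L442 L450 L912 L1835 L3636 L7276
theorem L12604 : sm gf N2397 = N1418 := flp_f L12603
theorem L12607 : sm ge N1418 = N2397 := ded_28_4 L12604 L7277 L3639 L7276
theorem L12609 : sm gg N2397 = N1417 := ded_28_3 L7271 L3639 L7276 L12603
theorem L12610 : sm gg N1417 = N2397 := flp_g L12609
theorem L12611 : sm ge N1216 = N2398 := rfl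
theorem L12614 : sm gc N2398 = N1217 := ded_19_1 L6205 L6201 L12611
theorem L12615 : sm gc N1217 = N2398 := flp_c L12614
theorem L12616 : sm gg N1216 = N2399 := rfl
theorem L12617 : sm gg N2399 = N1216 := flp_g L12616
theorem L12619 : sm gc N2399 = N1218 := ded_21_1 L6210 L6201 L12616
theorem L12623 : sm gb N1219 = N2400 := rfl
theorem L12624 : sm gb N2400 = N1219 := flp_b L12623
theorem L12625 : sm gd N1219 = N2401 := rfl
theorem L12626 : sm gd N2401 = N1219 := flp_d L12625
theorem L12628 : sm gf N1219 = N2402 := rfl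
theorem L12629 : sm gf N2402 = N1219 := flp_f L12628
theorem L12631 : sm gc N2402 = N1220 := ded_20_1 L6216 L6212 L12628
theorem L12633 : sm gg N1227 = N2402 := ded_28_1 L12629 L12597 L12594 L11556
theorem L12635 : sm gc N2401 = N1414 := ded_31_3 L7258 L3632 L1833 L1768 L1765 L878 L785 L783 L793 L1582 L3137 L6255 L12633 L12629 L12625
theorem L12637 : sm ge N1774 = N2401 := ded_19_0 L12635 L7260 L9128
theorem L12638 : sm ge N2401 = N1774 := flp_e L12637
theorem L12639 : sm gg N1412 = N2401 := ded_21_0 L12635 L7258 L7248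
theorem L12640 : sm gg N2401 = N1412 := flp_g L12639
theorem L12649 : sm gd N1221 = N2404 := rfl
theorem L12651 : sm gb N2404 = N1222 := ded_14_1 L6229 L6224 L12649
theorem L12655 : sm gf N1222 = N2405 := rfl
theorem L12662 : sm gg N2405 = N2131 := ded_28_3 L11120 L11031 L11032 L12655
theorem L12666 : sm gd N1223 = N2406 := rfl
theorem L12667 : sm gd N2406 = N1223 := flp_d L12666
theorem L12669 : sm ge N2406 = N1890 := ded_22_2 L9776 L4806 L6333 L6326 L12666
theorem L12670 : sm ge N1890 = N2406 := flp_e L12669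
theorem L12671 : sm gc N1224 = N2407 := rfl
theorem L12674 : sm ge N2407 = N2394 := ded_19_2 L12587 L6242 L12671
theorem L12675 : sm ge N2394 = N2407 := flp_e L12674
theorem L12676 : sm gf N2407 = N2398 := ded_20_2 L12614 L6244 L12671
theorem L12678 : sm gg N2407 = N1225 := ded_21_2 L6248 L6246 L12671
theorem L12679 : sm gg N1225 = N2407 := flp_g L12678
theorem L12685 : sm ge N1225 = N2410 := rfl
theorem L12688 : sm gc N2410 = N1226 := ded_19_1 L6251 L6247 L12685
theorem L12690 : sm gg N2410 = N2394 := ded_26_2 L12675 L12678 L12685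
theorem L12692 : sm gb N1227 = N2411 := rfl
theorem L12693 : sm gb N2411 = N1227 := flp_b L12692
theorem L12696 : sm ge N1227 = N2412 := rfl
theorem L12726 : sm gd N1230 = N2416 := rfl
theorem L12728 : sm ga N2416 = N2363 := ded_9_1 L12416 L6276 L12726
theorem L12730 : sm gb N2416 = N1234 := ded_14_1 L6302 L6278 L12726
theorem L12738 : sm gd N1233 = N2418 := rfl
theorem L12739 : sm gd N2418 = N1233 := flp_d L12738
theorem L12741 : sm gg N2418 = N1236 := ded_24_2 L6312 L3158 L3146 L6295 L12738
theorem L12755 : sm ge N1236 = N2421 := rfl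
theorem L12770 : sm gb N1238 = N2424 := rfl
theorem L12772 : sm gd N2424 = N1849 := ded_14_2 L9502 L6333 L12770
theorem L12773 : sm gd N1849 = N2424 := flp_d L12772
theorem L12776 : sm gf N2424 = N1241 := ded_16_2 L6353 L6329 L12770
theorem L12782 : sm gc N1239 = N2425 := rfl
theorem L12785 : sm ge N2425 = N2399 := ded_19_2 L12619 L6341 L12782
theorem L12786 : sm ge N2399 = N2425 := flp_e L12785
theorem L12787 : sm gf N2425 = N2410 := ded_20_2 L12688 L6338 L12782
theorem L12791 : sm gc N1240 = N2426 := rfl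
theorem L12794 : sm ge N2426 = N2402 := ded_19_2 L12631 L6347 L12791
theorem L12795 : sm ge N2402 = N2426 := flp_e L12794
theorem L12800 : sm gd N1241 = N2427 := rfl
theorem L12802 : sm ga N2427 = N1938 := ded_9_1 L10035 L6380 L12800
theorem L12803 : sm ga N1938 = N2427 := flp_a L12802
theorem L12806 : sm gf N2427 = N1922 := ded_23_2 L9941 L9506 L12773 L12776 L12800
theorem L12807 : sm gf N1922 = N2427 := flp_f L12806
theorem L12808 : sm gc N1242 = N2428 := rfl
theorem L12809 : sm gc N2428 = N1242 := flp_c L12808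
theorem L12810 : sm ga N2428 = N2428 := ded_8_1 L12809 L6358 L12808
theorem L12811 : sm gd N1252 = N2428 := ded_30_9 L12810 L12809 L6357 L3184 L1599 L802 L822 L1609 L3214 L6411
theorem L12812 : sm gd N2428 = N1252 := flp_d L12811
theorem L12813 : sm ge N1242 = N2429 := rfl
theorem L12814 : sm ge N2429 = N1242 := flp_e L12813
theorem L12816 : sm gg N1242 = N2430 := rfl
theorem L12817 : sm gg N2430 = N1242 := flp_g L12816
theorem L12821 : sm gd N1243 = N2431 := rfl
theorem L12822 : sm gd N2431 = N1243 := flp_d L12821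
theorem L12824 : sm gd N1244 = N2432 := rfl
theorem L12826 : sm ga N2432 = N1245 := ded_9_1 L6375 L6368 L12824
theorem L12827 : sm ga N1245 = N2432 := flp_a L12826
theorem L12837 : sm gf N1245 = N2435 := rfl
theorem L12838 : sm gf N2435 = N1245 := flp_f L12837
theorem L12845 : sm gf N1247 = N2437 := rfl
theorem L12846 : sm gf N2437 = N1247 := flp_f L12845
theorem L12849 : sm ge N2437 = N1248 := ded_25_1 L6391 L6386 L12845
theorem L12851 : sm gg N1247 = N2438 := rfl
theorem L12855 : sm ge N2438 = N1249 := ded_26_1 L6395 L6386 L12851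
theorem L12856 : sm ge N1249 = N2438 := flp_e L12855
theorem L12857 : sm gg N1248 = N2439 := rfl
theorem L12858 : sm gg N2439 = N1248 := flp_g L12857
theorem L12860 : sm gc N2439 = N2439 := ded_21_1 L12858 L6393 L12857
theorem L12861 : sm gf N2438 = N2439 := ded_28_0 L12858 L6391 L6394 L12856
theorem L12862 : sm gf N2439 = N2438 := flp_f L12861
theorem L12863 : sm gf N1249 = N2440 := rfl
theorem L12867 : sm ge N2440 = N2439 := ded_25_1 L12862 L12855 L12863
theorem L12868 : sm ge N2439 = N2440 := flp_e L12867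
theorem L12869 : sm gg N2440 = N2437 := ded_28_3 L12849 L6391 L6394 L12863
theorem L12870 : sm gg N2437 = N2440 := flp_g L12869
theorem L12874 : sm ge N1250 = N2442 := rfl
theorem L12877 : sm gb N2442 = N1253 := ded_15_1 L6415 L6402 L12874
theorem L12878 : sm gb N1253 = N2442 := flp_b L12877
theorem L12886 : sm gg N1250 = N2444 := rfl
theorem L12887 : sm gg N2444 = N1250 := flp_g L12886
theorem L12889 : sm gb N2444 = N1255 := ded_17_1 L6423 L6402 L12886
theorem L12890 : sm gb N1255 = N2444 := flp_b L12889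
theorem L12898 : sm ge N1252 = N2447 := rfl
theorem L12901 : sm gc N2447 = N1253 := ded_19_1 L6415 L6411 L12898
theorem L12902 : sm gc N1253 = N2447 := flp_c L12901
theorem L12903 : sm gf N1252 = N2448 := rfl
theorem L12904 : sm gf N2448 = N1252 := flp_f L12903
theorem L12906 : sm gc N2448 = N1254 := ded_20_1 L6419 L6411 L12903
theorem L12907 : sm gc N1254 = N2448 := flp_c L12906
theorem L12908 : sm gg N1252 = N2449 := rfl
theorem L12911 : sm gc N2449 = N1255 := ded_21_1 L6423 L6411 L12908
theorem L12913 : sm gf N1253 = N2450 := rfl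
theorem L12916 : sm ge N2450 = N1254 := ded_25_1 L6419 L6414 L12913
theorem L12918 : sm gg N1253 = N2451 := rfl
theorem L12919 : sm gg N2451 = N1253 := flp_g L12918
theorem L12923 : sm gg N1254 = N2452 := rfl
theorem L12924 : sm gg N2452 = N1254 := flp_g L12923
theorem L12928 : sm gd N1255 = N2453 := rfl
theorem L12929 : sm gd N2453 = N1255 := flp_d L12928
theorem L12931 : sm gg N2453 = N1256 := ded_24_2 L6426 L3218 L3214 L6422 L12928
theorem L12932 : sm gg N1256 = N2453 := flp_g L12931
theorem L12933 : sm gf N1255 = N2454 := rfl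
theorem L12934 : sm gf N2454 = N1255 := flp_f L12933
theorem L12938 : sm gg N2454 = N2450 := ded_28_3 L12916 L6419 L6422 L12933
theorem L12939 : sm gg N2450 = N2454 := flp_g L12938
theorem L12940 : sm gc N1256 = N2455 := rfl
theorem L12941 : sm gc N2455 = N1256 := flp_c L12940
theorem L12943 : sm gg N2455 = N2205 := ded_31_4 L11546 L5680 L2845 L1437 L1431 L1434 L736 L380 L406 L822 L1609 L3217 L3223 L6425 L12940
theorem L12944 : sm gg N2205 = N2455 := flp_g L12943
theorem L12945 : sm gc N2453 = N2205 := ded_21_3 L12944 L12941 L12932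
theorem L12947 : sm gf N2203 = N2453 := ded_20_0 L12945 L11546 L11537
theorem L12948 : sm gf N2453 = N2203 := flp_f L12947
theorem L12953 : sm gf N1256 = N2457 := rfl
theorem L12954 : sm gf N2457 = N1256 := flp_f L12953
theorem L12957 : sm gd N1257 = N2458 := rfl
theorem L12958 : sm gd N2458 = N1257 := flp_d L12957
theorem L12959 : sm ga N2458 = N1258 := ded_9_1 L6437 L6428 L12957
theorem L12960 : sm ga N1258 = N2458 := flp_a L12959
theorem L12961 : sm gb N2458 = N1263 := ded_14_1 L6462 L6433 L12957
theorem L12962 : sm gb N1263 = N2458 := flp_b L12961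
theorem L12963 : sm gc N1258 = N2459 := rfl
theorem L12964 : sm gc N2459 = N1258 := flp_c L12963
theorem L12965 : sm gb N2459 = N2209 := ded_13_1 L11571 L5714 L3232 L6439 L12963
theorem L12966 : sm gb N2209 = N2459 := flp_b L12965
theorem L12967 : sm ge N1258 = N2460 := rfl
theorem L12971 : sm gf N1258 = N2461 := rfl
theorem L12972 : sm gf N2461 = N1258 := flp_f L12971
theorem L12973 : sm gb N2461 = N1261 := ded_16_1 L6451 L6439 L12971
theorem L12975 : sm gg N1258 = N2462 := rfl
theorem L12976 : sm gg N2462 = N1258 := flp_g L12975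
theorem L12980 : sm gd N1259 = N2463 := rfl
theorem L12981 : sm gd N2463 = N1259 := flp_d L12980
theorem L12982 : sm gb N2463 = N1264 := ded_14_1 L6465 L6443 L12980
theorem L12983 : sm gb N1264 = N2463 := flp_b L12982
theorem L12984 : sm gd N1260 = N2464 := rfl
theorem L12985 : sm gd N2464 = N1260 := flp_d L12984
theorem L12987 : sm ge N2464 = N1263 := ded_22_2 L6462 L3234 L3228 L6445 L12984
theorem L12989 : sm gf N1260 = N2465 := rfl
theorem L12992 : sm gc N2465 = N2215 := ded_20_1 L11596 L6449 L12989
theorem L12994 : sm ge N2465 = N1261 := ded_25_1 L6451 L6445 L12989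
theorem L12995 : sm ge N1261 = N2465 := flp_e L12994
theorem L13003 : sm gg N1261 = N2467 := rfl
theorem L13004 : sm gg N2467 = N1261 := flp_g L13003
theorem L13006 : sm gc N2467 = N2217 := ded_21_1 L11606 L6454 L13003
theorem L13007 : sm gc N2217 = N2467 := flp_c L13006
theorem L13010 : sm gd N2109 = N2217 := ded_31_14 L13007 L13004 L6451 L3229 L1623 L832 L1633 L1637 L2747 L2750 L1369 L1359 L2727 L5383 L10996
theorem L13011 : sm gd N2217 = N2109 := flp_d L13010
theorem L13012 : N2257 = N2104 := coi_24_0 L11004 L13010 L11606 L5727 L5816 L11820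
theorem L13013 : N2257 = N2104 := eqc rfl L13012 rfl
theorem L13015 : sm gd N2104 = N1142 := trfs L13013 L11821 rfl
theorem L13017 : sm ge N2261 = N2106 := ded_22_4 L10973 L10964 L13015 L5830 L11836
theorem L13018 : sm ge N2106 = N2261 := flp_e L13017
theorem L13021 : sm gf N1262 = N2468 := rfl
theorem L13024 : sm gc N2468 = N2219 := ded_20_1 L11622 L6459 L13021
theorem L13028 : sm gg N2468 = N2465 := ded_28_3 L12994 L6451 L6455 L13021
theorem L13030 : sm gd N2468 = N2071 := ded_31_2 L10793 L5303 L10084 L1346 L685 L689 L694 L765 L1471 L1468 L1445 L2878 L3232 L6455 L13021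
theorem L13031 : sm gd N2071 = N2468 := flp_d L13030
theorem L13032 : sm gc N1263 = N2469 := rfl
theorem L13033 : sm gc N2469 = N1263 := flp_c L13032
theorem L13038 : sm gg N1263 = N2471 := rfl
theorem L13039 : sm gg N2471 = N1263 := flp_g L13038
theorem L13042 : sm ge N1264 = N2472 := rfl
theorem L13043 : sm ge N2472 = N1264 := flp_e L13042
theorem L13048 : sm gc N1265 = N2474 := rfl
theorem L13049 : sm gc N2474 = N1265 := flp_c L13048
theorem L13050 : sm ge N1265 = N2475 := rfl
theorem L13051 : sm ge N2475 = N1265 := flp_e L13050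
theorem L13052 : sm gb N2475 = N1268 := ded_15_1 L6484 L6470 L13050
theorem L13053 : sm gb N1268 = N2475 := flp_b L13052
theorem L13054 : sm gf N1265 = N2476 := rfl
theorem L13055 : sm gf N2476 = N1265 := flp_f L13054
theorem L13056 : sm gb N2476 = N1269 := ded_16_1 L6488 L6470 L13054
theorem L13057 : sm gb N1269 = N2476 := flp_b L13056
theorem L13058 : sm gg N1265 = N2477 := rfl
theorem L13059 : sm gg N2477 = N1265 := flp_g L13058
theorem L13060 : sm gb N2477 = N1270 := ded_17_1 L6492 L6470 L13058
theorem L13061 : sm gb N1270 = N2477 := flp_b L13060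
theorem L13062 : sm gd N1266 = N2478 := rfl
theorem L13063 : sm gd N2478 = N1266 := flp_d L13062
theorem L13064 : sm gb N2478 = N1274 := ded_14_1 L6516 L6474 L13062
theorem L13065 : sm gb N1274 = N2478 := flp_b L13064
theorem L13066 : sm gg N1266 = N2479 := rfl
theorem L13067 : sm gg N2479 = N1266 := flp_g L13066
theorem L13068 : sm ga N2479 = N1301 := ded_12_1 L6708 L6666 L13066
theorem L13069 : sm ga N1301 = N2479 := flp_a L13068
theorem L13070 : sm gb N2479 = N1275 := ded_17_1 L6520 L6474 L13066
theorem L13071 : sm gb N1275 = N2479 := flp_b L13070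
theorem L13072 : sm gc N2479 = N1351 := ded_21_1 L6945 L6476 L13066
theorem L13073 : sm gc N1351 = N2479 := flp_c L13072
theorem L13074 : sm gf N1290 = N2479 := ded_28_0 L13067 L6472 L6477 L6643
theorem L13075 : sm gf N2479 = N1290 := flp_f L13074
theorem L13076 : sm gd N1267 = N2480 := rfl
theorem L13077 : sm gd N2480 = N1267 := flp_d L13076
theorem L13078 : sm gb N2480 = N1276 := ded_14_1 L6528 L6480 L13076
theorem L13079 : sm gb N1276 = N2480 := flp_b L13078
theorem L13080 : sm gf N1267 = N2481 := rfl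
theorem L13081 : sm gf N2481 = N1267 := flp_f L13080
theorem L13082 : sm ga N2481 = N1299 := ded_11_1 L6695 L6676 L13080
theorem L13084 : sm gb N2481 = N1277 := ded_16_1 L6532 L6480 L13080
theorem L13086 : sm gc N2481 = N1349 := ded_20_1 L6930 L6482 L13080
theorem L13090 : sm gg N2481 = N1289 := ded_28_3 L6632 L6472 L6477 L13080
theorem L13092 : sm gd N2479 = N2481 := ded_9_0 L13082 L6710 L13069
theorem L13093 : sm gd N2481 = N2479 := flp_d L13092
theorem L13094 : sm gd N1268 = N2482 := rfl
theorem L13096 : sm ga N2482 = N1306 := ded_9_1 L6727 L6486 L13094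
theorem L13097 : sm ga N1306 = N2482 := flp_a L13096
theorem L13098 : sm ge N2482 = N1271 := ded_22_2 L6496 L3253 L3248 L6483 L13094
theorem L13099 : sm ge N1271 = N2482 := flp_e L13098
theorem L13100 : sm gf N1268 = N2483 := rfl
theorem L13101 : sm gf N2483 = N1268 := flp_f L13100
theorem L13102 : sm ga N2483 = N1307 := ded_11_1 L6731 L6486 L13100
theorem L13103 : sm ga N1307 = N2483 := flp_a L13102
theorem L13104 : sm ge N2483 = N1269 := ded_25_1 L6488 L6483 L13100
theorem L13105 : sm ge N1269 = N2483 := flp_e L13104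
theorem L13106 : sm gg N1268 = N2484 := rfl
theorem L13107 : sm gg N2484 = N1268 := flp_g L13106
theorem L13108 : sm ga N2484 = N1308 := ded_12_1 L6735 L6486 L13106
theorem L13109 : sm ga N1308 = N2484 := flp_a L13108
theorem L13110 : sm ge N2484 = N1270 := ded_26_1 L6492 L6483 L13106
theorem L13111 : sm ge N1270 = N2484 := flp_e L13110
theorem L13112 : sm gd N1269 = N2485 := rfl
theorem L13113 : sm gd N2485 = N1269 := flp_d L13112
theorem L13114 : sm ga N2485 = N1309 := ded_9_1 L6739 L6490 L13112
theorem L13115 : sm ga N1309 = N2485 := flp_a L13114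
theorem L13116 : sm gf N2485 = N1274 := ded_23_2 L6516 L3259 L3248 L6487 L13112
theorem L13117 : sm gf N1274 = N2485 := flp_f L13116
theorem L13118 : sm gg N1269 = N2486 := rfl
theorem L13119 : sm gg N2486 = N1269 := flp_g L13118
theorem L13120 : sm ga N2486 = N1310 := ded_12_1 L6743 L6490 L13118
theorem L13121 : sm ga N1310 = N2486 := flp_a L13120
theorem L13122 : sm gf N2484 = N2486 := ded_28_0 L13119 L6488 L6491 L13111
theorem L13123 : sm gf N2486 = N2484 := flp_f L13122
theorem L13124 : sm gd N1270 = N2487 := rfl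
theorem L13125 : sm gd N2487 = N1270 := flp_d L13124
theorem L13126 : sm ga N2487 = N1311 := ded_9_1 L6747 L6494 L13124
theorem L13127 : sm ga N1311 = N2487 := flp_a L13126
theorem L13128 : sm gg N2487 = N1276 := ded_24_2 L6528 L3265 L3248 L6491 L13124
theorem L13129 : sm gg N1276 = N2487 := flp_g L13128
theorem L13130 : sm gf N1270 = N2488 := rfl
theorem L13131 : sm gf N2488 = N1270 := flp_f L13130
theorem L13132 : sm ga N2488 = N1312 := ded_11_1 L6751 L6494 L13130
theorem L13133 : sm ga N1312 = N2488 := flp_a L13132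
theorem L13134 : sm ge N2488 = N2486 := ded_25_1 L13123 L13110 L13130
theorem L13135 : sm ge N2486 = N2488 := flp_e L13134
theorem L13136 : sm gg N2488 = N2483 := ded_28_3 L13104 L6488 L6491 L13130
theorem L13137 : sm gg N2483 = N2488 := flp_g L13136
theorem L13138 : sm gc N1271 = N2489 := rfl
theorem L13139 : sm gc N2489 = N1271 := flp_c L13138
theorem L13140 : sm ga N2489 = N1313 := ded_8_1 L6757 L6498 L13138
theorem L13141 : sm ga N1313 = N2489 := flp_a L13140
theorem L13142 : sm gf N1271 = N2490 := rfl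
theorem L13143 : sm gf N2490 = N1271 := flp_f L13142
theorem L13144 : sm ga N2490 = N1314 := ded_11_1 L6759 L6498 L13142
theorem L13145 : sm ga N1314 = N2490 := flp_a L13144
theorem L13146 : sm gg N1271 = N2491 := rfl
theorem L13147 : sm gg N2491 = N1271 := flp_g L13146
theorem L13148 : sm ga N2491 = N1315 := ded_12_1 L6761 L6498 L13146
theorem L13149 : sm ga N1315 = N2491 := flp_a L13148
theorem L13150 : sm gd N1272 = N2492 := rfl
theorem L13151 : sm gd N2492 = N1272 := flp_d L13150
theorem L13152 : sm ga N2492 = N1316 := ded_9_1 L6763 L6502 L13150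
theorem L13153 : sm ga N1316 = N2492 := flp_a L13152
theorem L13154 : sm gg N2492 = N1274 := ded_24_2 L6516 L6519 L6542 L6539 L13150
theorem L13155 : sm gg N1274 = N2492 := flp_g L13154
theorem L13156 : sm gd N1273 = N2493 := rfl
theorem L13157 : sm gd N2493 = N1273 := flp_d L13156
theorem L13158 : sm ga N2493 = N1317 := ded_9_1 L6767 L6510 L13156
theorem L13159 : sm ga N1317 = N2493 := flp_a L13158
theorem L13160 : sm gf N2493 = N1276 := ded_23_2 L6528 L6531 L6541 L6526 L13156
theorem L13161 : sm gf N1276 = N2493 := flp_f L13160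
theorem L13162 : sm gc N1274 = N2494 := rfl
theorem L13163 : sm gc N2494 = N1274 := flp_c L13162
theorem L13164 : sm ga N2494 = N1318 := ded_8_1 L6771 L6518 L13162
theorem L13165 : sm ga N1318 = N2494 := flp_a L13164
theorem L13166 : sm ge N1274 = N2495 := rfl
theorem L13167 : sm ge N2495 = N1274 := flp_e L13166
theorem L13168 : sm ga N2495 = N1319 := ded_10_1 L6773 L6518 L13166
theorem L13169 : sm ga N1319 = N2495 := flp_a L13168
theorem L13170 : sm gc N1276 = N2496 := rfl
theorem L13171 : sm gc N2496 = N1276 := flp_c L13170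
theorem L13172 : sm ga N2496 = N1320 := ded_8_1 L6775 L6530 L13170
theorem L13173 : sm ga N1320 = N2496 := flp_a L13172
theorem L13174 : sm ge N1276 = N2497 := rfl
theorem L13175 : sm ge N2497 = N1276 := flp_e L13174
theorem L13176 : sm ga N2497 = N1321 := ded_10_1 L6777 L6530 L13174
theorem L13177 : sm ga N1321 = N2497 := flp_a L13176
theorem L13178 : sm gc N1278 = N2498 := rfl
theorem L13179 : sm gc N2498 = N1278 := flp_c L13178
theorem L13180 : sm ga N2498 = N1322 := ded_8_1 L6779 L6546 L13178
theorem L13181 : sm ga N1322 = N2498 := flp_a L13180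
theorem L13182 : sm gf N2498 = N1322 := ded_20_2 L6779 L6550 L13178
theorem L13183 : sm gf N1322 = N2498 := flp_f L13182
theorem L13184 : sm ge N1278 = N2499 := rfl
theorem L13185 : sm ge N2499 = N1278 := flp_e L13184
theorem L13186 : sm ga N2499 = N1323 := ded_10_1 L6781 L6546 L13184
theorem L13187 : sm ga N1323 = N2499 := flp_a L13186
theorem L13188 : sm gb N2499 = N1390 := ded_15_1 L7137 L6548 L13184
theorem L13189 : sm gb N1390 = N2499 := flp_b L13188
theorem L13190 : sm gf N2499 = N1323 := ded_25_2 L6781 L6550 L13184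
theorem L13191 : sm gf N1323 = N2499 := flp_f L13190
theorem L13194 : sm gg N1278 = N2500 := rfl
theorem L13195 : sm gg N2500 = N1278 := flp_g L13194
theorem L13198 : sm gb N2500 = N1391 := ded_17_1 L7144 L6548 L13194
theorem L13200 : sm gc N1279 = N2501 := rfl
theorem L13201 : sm gc N2501 = N1279 := flp_c L13200
theorem L13202 : sm ga N2501 = N1325 := ded_8_1 L6791 L6554 L13200
theorem L13203 : sm ga N1325 = N2501 := flp_a L13202
theorem L13204 : sm ge N2501 = N2501 := ded_19_2 L13201 L6557 L13200
theorem L13207 : sm gf N1279 = N2502 := rfl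
theorem L13208 : sm gf N2502 = N1279 := flp_f L13207
theorem L13209 : sm ga N2502 = N1326 := ded_11_1 L6794 L6554 L13207
theorem L13210 : sm ga N1326 = N2502 := flp_a L13209
theorem L13211 : sm gb N2502 = N1393 := ded_16_1 L7153 L6556 L13207
theorem L13212 : sm gb N1393 = N2502 := flp_b L13211
theorem L13213 : sm ge N2502 = N2502 := ded_25_1 L13208 L6557 L13207
theorem L13214 : sm gg N1326 = N2502 := ded_28_3 L13213 L13208 L6558 L6793
theorem L13216 : sm gd N1280 = N2503 := rfl
theorem L13218 : sm ga N2503 = N1328 := ded_9_1 L6809 L6563 L13216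
theorem L13219 : sm ga N1328 = N2503 := flp_a L13218
theorem L13220 : sm gb N2503 = N1747 := ded_14_1 L8939 L6569 L13216
theorem L13221 : sm gb N1747 = N2503 := flp_b L13220
theorem L13222 : sm ge N1280 = N2504 := rfl
theorem L13224 : sm ga N2504 = N1329 := ded_10_1 L6811 L6563 L13222
theorem L13225 : sm ga N1329 = N2504 := flp_a L13224
theorem L13232 : sm gg N2504 = N1693 := ded_26_2 L8684 L6567 L13222
theorem L13233 : sm gg N1693 = N2504 := flp_g L13232
theorem L13234 : sm gc N1282 = N2505 := rfl
theorem L13236 : sm ga N2505 = N1332 := ded_8_1 L6839 L6583 L13234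
theorem L13238 : sm gg N2505 = N2051 := ded_21_2 L10680 L6587 L13234
theorem L13239 : sm gg N2051 = N2505 := flp_g L13238
theorem L13240 : sm ge N1282 = N2506 := rfl
theorem L13241 : sm ge N2506 = N1282 := flp_e L13240
theorem L13242 : sm ga N2506 = N1333 := ded_10_1 L6841 L6583 L13240
theorem L13256 : sm gc N1283 = N2508 := rfl
theorem L13257 : sm gc N2508 = N1283 := flp_c L13256
theorem L13261 : sm ge N1283 = N2509 := rfl
theorem L13262 : sm ge N2509 = N1283 := flp_e L13261
theorem L13265 : sm gb N2509 = N1438 := ded_15_1 L7384 L6593 L13261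
theorem L13266 : sm gb N1438 = N2509 := flp_b L13265
theorem L13270 : sm gg N1283 = N2510 := rfl
theorem L13271 : sm gg N2510 = N1283 := flp_g L13270
theorem L13272 : sm ga N2510 = N1337 := ded_12_1 L6861 L6591 L13270
theorem L13274 : sm gb N2510 = N1439 := ded_17_1 L7390 L6593 L13270
theorem L13275 : sm gb N1439 = N2510 := flp_b L13274
theorem L13276 : sm gd N2510 = N2500 := ded_24_1 L13195 L6544 L3313 L6588 L13270
theorem L13278 : sm gd N1284 = N2511 := rfl
theorem L13279 : sm gd N2511 = N1284 := flp_d L13278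
theorem L13280 : sm gb N2511 = N1285 := ded_14_1 L6602 L6595 L13278
theorem L13281 : sm gb N1285 = N2511 := flp_b L13280
theorem L13282 : sm ge N1285 = N2512 := rfl
theorem L13283 : sm ge N2512 = N1285 := flp_e L13282
theorem L13284 : sm ga N2512 = N1341 := ded_10_1 L6891 L6604 L13282
theorem L13285 : sm ga N1341 = N2512 := flp_a L13284
theorem L13286 : sm gc N2512 = N2512 := ded_19_1 L13283 L6605 L13282
theorem L13287 : sm gf N1285 = N2513 := rfl
theorem L13288 : sm gf N2513 = N1285 := flp_f L13287
theorem L13289 : sm ga N2513 = N1342 := ded_11_1 L6894 L6604 L13287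
theorem L13290 : sm ga N1342 = N2513 := flp_a L13289
theorem L13291 : sm gc N2513 = N2513 := ded_20_1 L13288 L6605 L13287
theorem L13292 : sm gg N1285 = N2514 := rfl
theorem L13293 : sm gg N2514 = N1285 := flp_g L13292
theorem L13294 : sm ga N2514 = N1343 := ded_12_1 L6897 L6604 L13292
theorem L13295 : sm ga N1343 = N2514 := flp_a L13294
theorem L13296 : sm gc N2514 = N2514 := ded_21_1 L13293 L6605 L13292
theorem L13297 : sm gd N1286 = N2515 := rfl
theorem L13298 : sm gd N2515 = N1286 := flp_d L13297
theorem L13299 : sm ga N2515 = N1344 := ded_9_1 L6900 L6609 L13297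
theorem L13300 : sm ga N1344 = N2515 := flp_a L13299
theorem L13301 : sm gd N1287 = N2516 := rfl
theorem L13302 : sm gd N2516 = N1287 := flp_d L13301
theorem L13303 : sm ga N2516 = N1346 := ded_9_1 L6910 L6615 L13301
theorem L13304 : sm ga N1346 = N2516 := flp_a L13303
theorem L13305 : sm gc N1288 = N2517 := rfl
theorem L13307 : sm ga N2517 = N1291 := ded_8_1 L6645 L6621 L13305
theorem L13308 : sm ga N1291 = N2517 := flp_a L13307
theorem L13309 : sm ge N1288 = N2518 := rfl
theorem L13310 : sm ge N2518 = N1288 := flp_e L13309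
theorem L13311 : sm ga N2518 = N1292 := ded_10_1 L6647 L6621 L13309
theorem L13312 : sm ga N1292 = N2518 := flp_a L13311
theorem L13313 : sm gb N2518 = N2482 := ded_15_1 L13098 L6623 L13309
theorem L13315 : sm gd N2518 = N2475 := ded_22_1 L13051 L6468 L3340 L6618 L13309
theorem L13316 : sm gd N2475 = N2518 := flp_d L13315
theorem L13329 : sm gd N1289 = N2521 := rfl
theorem L13331 : sm ga N2521 = N1298 := ded_9_1 L6685 L6627 L13329
theorem L13332 : sm ga N1298 = N2521 := flp_a L13331
theorem L13333 : sm gb N2521 = N2492 := ded_14_1 L13151 L6629 L13329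
theorem L13334 : sm gb N2492 = N2521 := flp_b L13333
theorem L13335 : sm gg N2521 = N2478 := ded_24_2 L13063 L13066 L13092 L13090 L13329
theorem L13336 : sm gg N2478 = N2521 := flp_g L13335
theorem L13337 : sm gd N1290 = N2522 := rfl
theorem L13339 : sm ga N2522 = N1300 := ded_9_1 L6697 L6637 L13337
theorem L13340 : sm ga N1300 = N2522 := flp_a L13339
theorem L13341 : sm gb N2522 = N2493 := ded_14_1 L13157 L6639 L13337
theorem L13342 : sm gb N2493 = N2522 := flp_b L13341
theorem L13343 : sm gf N2522 = N2480 := ded_23_2 L13077 L13080 L13093 L13075 L13337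
theorem L13344 : sm gf N2480 = N2522 := flp_f L13343
theorem L13345 : sm gb N1291 = N2523 := rfl
theorem L13347 : sm gc N2523 = N1302 := ded_13_2 L6713 L3367 L3345 L6644 L13345
theorem L13348 : sm gc N1302 = N2523 := flp_c L13347
theorem L13349 : sm gd N1291 = N2524 := rfl
theorem L13350 : sm gd N2524 = N1291 := flp_d L13349
theorem L13359 : sm gg N1291 = N2527 := rfl
theorem L13360 : sm gg N2527 = N1291 := flp_g L13359
theorem L13363 : sm gd N1292 = N2528 := rfl
theorem L13365 : sm ga N2528 = N2475 := ded_9_1 L13316 L13311 L13363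
theorem L13366 : sm ga N2475 = N2528 := flp_a L13365
theorem L13367 : sm gb N2528 = N1306 := ded_14_1 L6727 L6649 L13363
theorem L13368 : sm gb N1306 = N2528 := flp_b L13367
theorem L13369 : sm ge N2528 = N1295 := ded_22_2 L6659 L3347 L3342 L6646 L13363
theorem L13370 : sm ge N1295 = N2528 := flp_e L13369
theorem L13371 : sm gf N1292 = N2529 := rfl
theorem L13373 : sm gb N2529 = N1307 := ded_16_1 L6731 L6649 L13371
theorem L13374 : sm gb N1307 = N2529 := flp_b L13373
theorem L13375 : sm ge N2529 = N1293 := ded_25_1 L6651 L6646 L13371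
theorem L13376 : sm ge N1293 = N2529 := flp_e L13375
theorem L13377 : sm gg N1292 = N2530 := rfl
theorem L13378 : sm gg N2530 = N1292 := flp_g L13377
theorem L13379 : sm gb N2530 = N1308 := ded_17_1 L6735 L6649 L13377
theorem L13380 : sm gb N1308 = N2530 := flp_b L13379
theorem L13381 : sm ge N2530 = N1294 := ded_26_1 L6655 L6646 L13377
theorem L13382 : sm ge N1294 = N2530 := flp_e L13381
theorem L13383 : sm gd N1293 = N2531 := rfl
theorem L13384 : sm gd N2531 = N1293 := flp_d L13383
theorem L13385 : sm gb N2531 = N1309 := ded_14_1 L6739 L6653 L13383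
theorem L13386 : sm gb N1309 = N2531 := flp_b L13385
theorem L13387 : sm gf N2531 = N1298 := ded_23_2 L6685 L3355 L3342 L6650 L13383
theorem L13388 : sm gf N1298 = N2531 := flp_f L13387
theorem L13389 : sm gg N1293 = N2532 := rfl
theorem L13390 : sm gg N2532 = N1293 := flp_g L13389
theorem L13391 : sm gb N2532 = N1310 := ded_17_1 L6743 L6653 L13389
theorem L13392 : sm gb N1310 = N2532 := flp_b L13391
theorem L13393 : sm gf N2530 = N2532 := ded_28_0 L13390 L6651 L6654 L13382
theorem L13394 : sm gf N2532 = N2530 := flp_f L13393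
theorem L13395 : sm gd N1294 = N2533 := rfl
theorem L13397 : sm gb N2533 = N1311 := ded_14_1 L6747 L6657 L13395
theorem L13398 : sm gb N1311 = N2533 := flp_b L13397
theorem L13399 : sm gg N2533 = N1300 := ded_24_2 L6697 L3361 L3342 L6654 L13395
theorem L13400 : sm gg N1300 = N2533 := flp_g L13399
theorem L13401 : sm gf N1294 = N2534 := rfl
theorem L13403 : sm gb N2534 = N1312 := ded_16_1 L6751 L6657 L13401
theorem L13404 : sm gb N1312 = N2534 := flp_b L13403
theorem L13405 : sm ge N2534 = N2532 := ded_25_1 L13394 L13381 L13401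
theorem L13406 : sm ge N2532 = N2534 := flp_e L13405
theorem L13409 : sm gc N1295 = N2535 := rfl
theorem L13411 : sm ga N2535 = N2474 := ded_8_1 L13049 L6661 L13409
theorem L13412 : sm ga N2474 = N2535 := flp_a L13411
theorem L13413 : sm gf N1295 = N2536 := rfl
theorem L13414 : sm gf N2536 = N1295 := flp_f L13413
theorem L13415 : sm ga N2536 = N2476 := ded_11_1 L13055 L6661 L13413
theorem L13416 : sm ga N2476 = N2536 := flp_a L13415
theorem L13417 : sm gb N2536 = N1314 := ded_16_1 L6759 L6663 L13413
theorem L13418 : sm gb N1314 = N2536 := flp_b L13417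
theorem L13419 : sm gg N1295 = N2537 := rfl
theorem L13420 : sm gg N2537 = N1295 := flp_g L13419
theorem L13421 : sm ga N2537 = N2477 := ded_12_1 L13059 L6661 L13419
theorem L13422 : sm ga N2477 = N2537 := flp_a L13421
theorem L13423 : sm gb N2537 = N1315 := ded_17_1 L6761 L6663 L13419
theorem L13424 : sm gb N1315 = N2537 := flp_b L13423
theorem L13425 : sm gd N1296 = N2538 := rfl
theorem L13427 : sm ga N2538 = N2478 := ded_9_1 L13063 L6667 L13425
theorem L13428 : sm ga N2478 = N2538 := flp_a L13427
theorem L13429 : sm gb N2538 = N1316 := ded_14_1 L6763 L6669 L13425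
theorem L13430 : sm gb N1316 = N2538 := flp_b L13429
theorem L13431 : sm gg N2538 = N1298 := ded_24_2 L6685 L6688 L6710 L6708 L13425
theorem L13432 : sm gg N1298 = N2538 := flp_g L13431
theorem L13433 : sm gd N1297 = N2539 := rfl
theorem L13435 : sm ga N2539 = N2480 := ded_9_1 L13077 L6677 L13433
theorem L13436 : sm ga N2480 = N2539 := flp_a L13435
theorem L13437 : sm gb N2539 = N1317 := ded_14_1 L6767 L6679 L13433
theorem L13438 : sm gb N1317 = N2539 := flp_b L13437
theorem L13441 : sm gc N1298 = N2540 := rfl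
theorem L13442 : sm gc N2540 = N1298 := flp_c L13441
theorem L13443 : sm ge N1298 = N2541 := rfl
theorem L13445 : sm gb N2541 = N1319 := ded_15_1 L6773 L6687 L13443
theorem L13446 : sm gb N1319 = N2541 := flp_b L13445
theorem L13447 : sm gc N1300 = N2542 := rfl
theorem L13448 : sm gc N2542 = N1300 := flp_c L13447
theorem L13449 : sm ge N1300 = N2543 := rfl
theorem L13450 : sm ge N2543 = N1300 := flp_e L13449
theorem L13451 : sm gb N2543 = N1321 := ded_15_1 L6777 L6699 L13449
theorem L13453 : sm ga N1302 = N2544 := rfl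
theorem L13454 : sm ga N2544 = N1302 := flp_a L13453
theorem L13455 : sm ge N1302 = N2545 := rfl
theorem L13456 : sm ge N2545 = N1302 := flp_e L13455
theorem L13457 : sm gb N2545 = N1303 := ded_15_1 L6715 L6712 L13455
theorem L13458 : sm gb N1303 = N2545 := flp_b L13457
theorem L13459 : sm gf N1302 = N2546 := rfl
theorem L13460 : sm gf N2546 = N1302 := flp_f L13459
theorem L13461 : sm gb N2546 = N1304 := ded_16_1 L6719 L6712 L13459
theorem L13462 : sm gb N1304 = N2546 := flp_b L13461
theorem L13463 : sm gg N1302 = N2547 := rfl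
theorem L13464 : sm gg N2547 = N1302 := flp_g L13463
theorem L13465 : sm gb N2547 = N1305 := ded_17_1 L6723 L6712 L13463
theorem L13466 : sm gb N1305 = N2547 := flp_b L13465
theorem L13467 : sm gd N1303 = N2548 := rfl
theorem L13468 : sm gd N2548 = N1303 := flp_d L13467
theorem L13469 : sm gf N1303 = N2549 := rfl
theorem L13470 : sm gf N2549 = N1303 := flp_f L13469
theorem L13471 : sm gc N2549 = N1307 := ded_20_1 L6731 L6717 L13469
theorem L13472 : sm gc N1307 = N2549 := flp_c L13471
theorem L13473 : sm ge N2549 = N1304 := ded_25_1 L6719 L6714 L13469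
theorem L13474 : sm ge N1304 = N2549 := flp_e L13473
theorem L13475 : sm gg N1303 = N2550 := rfl
theorem L13476 : sm gg N2550 = N1303 := flp_g L13475
theorem L13477 : sm gc N2550 = N1308 := ded_21_1 L6735 L6717 L13475
theorem L13478 : sm gc N1308 = N2550 := flp_c L13477
theorem L13479 : sm ge N2550 = N1305 := ded_26_1 L6723 L6714 L13475
theorem L13480 : sm ge N1305 = N2550 := flp_e L13479
theorem L13481 : sm gd N1304 = N2551 := rfl
theorem L13482 : sm gd N2551 = N1304 := flp_d L13481
theorem L13483 : sm gg N1304 = N2552 := rfl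
theorem L13484 : sm gg N2552 = N1304 := flp_g L13483
theorem L13485 : sm gc N2552 = N1310 := ded_21_1 L6743 L6721 L13483
theorem L13486 : sm gc N1310 = N2552 := flp_c L13485
theorem L13487 : sm gf N2550 = N2552 := ded_28_0 L13484 L6719 L6722 L13480
theorem L13488 : sm gf N2552 = N2550 := flp_f L13487
theorem L13489 : sm gd N1305 = N2553 := rfl
theorem L13490 : sm gd N2553 = N1305 := flp_d L13489
theorem L13491 : sm gf N1305 = N2554 := rfl
theorem L13492 : sm gf N2554 = N1305 := flp_f L13491
theorem L13493 : sm gc N2554 = N1312 := ded_20_1 L6751 L6725 L13491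
theorem L13494 : sm gc N1312 = N2554 := flp_c L13493
theorem L13495 : sm ge N2554 = N2552 := ded_25_1 L13488 L13479 L13491
theorem L13496 : sm ge N2552 = N2554 := flp_e L13495
theorem L13497 : sm gg N2554 = N2549 := ded_28_3 L13473 L6719 L6722 L13491
theorem L13498 : sm gg N2549 = N2554 := flp_g L13497
theorem L13499 : sm gc N1306 = N2555 := rfl
theorem L13500 : sm gc N2555 = N1306 := flp_c L13499
theorem L13501 : sm ge N2555 = N1313 := ded_19_2 L6757 L6729 L13499
theorem L13502 : sm ge N1313 = N2555 := flp_e L13501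
theorem L13503 : sm gb N2544 = N2555 := ded_29_7 L13500 L6728 L6498 L6623 L13305 L13307 L13345 L13347 L13453
theorem L13504 : sm gb N2555 = N2544 := flp_b L13503
theorem L13505 : sm gf N1306 = N2556 := rfl
theorem L13506 : sm gf N2556 = N1306 := flp_f L13505
theorem L13507 : sm ge N2556 = N1314 := ded_25_1 L6759 L6729 L13505
theorem L13508 : sm ge N1314 = N2556 := flp_e L13507
theorem L13509 : sm gg N1306 = N2557 := rfl
theorem L13510 : sm gg N2557 = N1306 := flp_g L13509
theorem L13511 : sm ge N2557 = N1315 := ded_26_1 L6761 L6729 L13509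
theorem L13512 : sm ge N1315 = N2557 := flp_e L13511
theorem L13513 : sm gd N1307 = N2558 := rfl
theorem L13514 : sm gd N2558 = N1307 := flp_d L13513
theorem L13515 : sm gd N1308 = N2559 := rfl
theorem L13516 : sm gd N2559 = N1308 := flp_d L13515
theorem L13517 : sm gc N1309 = N2560 := rfl
theorem L13518 : sm gc N2560 = N1309 := flp_c L13517
theorem L13519 : sm gf N2560 = N1318 := ded_20_2 L6771 L6741 L13517
theorem L13520 : sm gf N1318 = N2560 := flp_f L13519
theorem L13521 : sm ge N1309 = N2561 := rfl
theorem L13522 : sm ge N2561 = N1309 := flp_e L13521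
theorem L13523 : sm gf N2561 = N1319 := ded_25_2 L6773 L6741 L13521
theorem L13524 : sm gf N1319 = N2561 := flp_f L13523
theorem L13525 : sm gg N1309 = N2562 := rfl
theorem L13526 : sm gg N2562 = N1309 := flp_g L13525
theorem L13527 : sm gd N1310 = N2563 := rfl
theorem L13528 : sm gd N2563 = N1310 := flp_d L13527
theorem L13529 : sm gc N1311 = N2564 := rfl
theorem L13530 : sm gc N2564 = N1311 := flp_c L13529
theorem L13531 : sm gg N2564 = N1320 := ded_21_2 L6775 L6749 L13529
theorem L13532 : sm gg N1320 = N2564 := flp_g L13531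
theorem L13533 : sm ge N1311 = N2565 := rfl
theorem L13534 : sm ge N2565 = N1311 := flp_e L13533
theorem L13535 : sm gg N2565 = N1321 := ded_26_2 L6777 L6749 L13533
theorem L13536 : sm gg N1321 = N2565 := flp_g L13535
theorem L13537 : sm gf N1311 = N2566 := rfl
theorem L13538 : sm gf N2566 = N1311 := flp_f L13537
theorem L13539 : sm gd N1312 = N2567 := rfl
theorem L13540 : sm gd N2567 = N1312 := flp_d L13539
theorem L13541 : sm gb N1313 = N2568 := rfl
theorem L13542 : sm gb N2568 = N1313 := flp_b L13541
theorem L13543 : sm ge N2568 = N2544 := ded_15_2 L13503 L13501 L13541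
theorem L13544 : sm ge N2544 = N2568 := flp_e L13543
theorem L13545 : sm ga N2545 = N2568 := ded_29_0 L13542 L6757 L6498 L6623 L13305 L13307 L13345 L13347 L13455
theorem L13546 : sm ga N2568 = N2545 := flp_a L13545
theorem L13547 : sm gd N1313 = N2569 := rfl
theorem L13548 : sm gd N2569 = N1313 := flp_d L13547
theorem L13549 : sm gc N2569 = N2569 := ded_30_8 L13548 L13141 L13139 L6496 L3256 L1649 L1679 L3374 L6756 L13547
theorem L13550 : sm gf N1313 = N2570 := rfl
theorem L13551 : sm gf N2570 = N1313 := flp_f L13550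
theorem L13552 : sm gc N2570 = N1314 := ded_20_1 L6759 L6756 L13550
theorem L13553 : sm gc N1314 = N2570 := flp_c L13552
theorem L13554 : sm gg N1313 = N2571 := rfl
theorem L13555 : sm gg N2571 = N1313 := flp_g L13554
theorem L13556 : sm gc N2571 = N1315 := ded_21_1 L6761 L6756 L13554
theorem L13557 : sm gc N1315 = N2571 := flp_c L13556
theorem L13558 : sm gd N1314 = N2572 := rfl
theorem L13559 : sm gd N2572 = N1314 := flp_d L13558
theorem L13560 : sm gf N2572 = N1316 := ded_23_2 L6763 L3377 L3374 L6758 L13558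
theorem L13561 : sm gf N1316 = N2572 := flp_f L13560
theorem L13562 : sm gg N2561 = N2572 := ded_28_1 L13560 L6764 L6772 L13524
theorem L13563 : sm gg N2572 = N2561 := flp_g L13562
theorem L13564 : sm ge N2562 = N2572 := ded_28_4 L13560 L6764 L6741 L13525
theorem L13565 : sm ge N2572 = N2562 := flp_e L13564
theorem L13566 : sm gg N1314 = N2573 := rfl
theorem L13567 : sm gg N2573 = N1314 := flp_g L13566
theorem L13568 : sm gf N2557 = N2573 := ded_28_0 L13567 L6759 L6760 L13512
theorem L13569 : sm gf N2573 = N2557 := flp_f L13568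
theorem L13570 : sm gd N1315 = N2574 := rfl
theorem L13571 : sm gd N2574 = N1315 := flp_d L13570
theorem L13572 : sm gg N2574 = N1317 := ded_24_2 L6767 L3383 L3374 L6760 L13570
theorem L13573 : sm gg N1317 = N2574 := flp_g L13572
theorem L13574 : sm gf N2574 = N2565 := ded_28_2 L13535 L6777 L6769 L13573
theorem L13575 : sm gf N2565 = N2574 := flp_f L13574
theorem L13576 : sm ge N2574 = N2566 := ded_28_4 L13538 L6748 L6769 L13573
theorem L13577 : sm ge N2566 = N2574 := flp_e L13576
theorem L13578 : sm gf N1315 = N2575 := rfl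
theorem L13579 : sm gf N2575 = N1315 := flp_f L13578
theorem L13580 : sm ge N2575 = N2573 := ded_25_1 L13569 L13511 L13578
theorem L13581 : sm ge N2573 = N2575 := flp_e L13580
theorem L13582 : sm gg N2575 = N2556 := ded_28_3 L13507 L6759 L6760 L13578
theorem L13583 : sm gg N2556 = N2575 := flp_g L13582
theorem L13584 : sm gc N1316 = N2576 := rfl
theorem L13585 : sm gc N2576 = N1316 := flp_c L13584
theorem L13586 : sm gg N2576 = N1318 := ded_21_2 L6771 L6765 L13584
theorem L13587 : sm gg N1318 = N2576 := flp_g L13586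
theorem L13588 : sm ge N1316 = N2577 := rfl
theorem L13589 : sm ge N2577 = N1316 := flp_e L13588
theorem L13590 : sm gf N2577 = N2562 := ded_25_2 L13564 L13560 L13588
theorem L13591 : sm gf N2562 = N2577 := flp_f L13590
theorem L13592 : sm gg N2577 = N1319 := ded_26_2 L6773 L6765 L13588
theorem L13593 : sm gg N1319 = N2577 := flp_g L13592
theorem L13594 : sm gd N2577 = N1319 := ded_22_1 L6773 L3389 L3381 L6762 L13588
theorem L13595 : sm gd N1319 = N2577 := flp_d L13594
theorem L13596 : sm gc N1317 = N2578 := rfl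
theorem L13597 : sm gc N2578 = N1317 := flp_c L13596
theorem L13598 : sm gf N2578 = N1320 := ded_20_2 L6775 L6769 L13596
theorem L13599 : sm gf N1320 = N2578 := flp_f L13598
theorem L13600 : sm ge N1317 = N2579 := rfl
theorem L13601 : sm ge N2579 = N1317 := flp_e L13600
theorem L13602 : sm gf N2579 = N1321 := ded_25_2 L6777 L6769 L13600
theorem L13603 : sm gf N1321 = N2579 := flp_f L13602
theorem L13604 : sm gg N2579 = N2566 := ded_26_2 L13577 L13572 L13600
theorem L13605 : sm gg N2566 = N2579 := flp_g L13604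
theorem L13606 : sm gd N2579 = N1321 := ded_22_1 L6777 L3397 L3387 L6766 L13600
theorem L13607 : sm gd N1321 = N2579 := flp_d L13606
theorem L13608 : sm gb N1318 = N2580 := rfl
theorem L13609 : sm gb N2580 = N1318 := flp_b L13608
theorem L13610 : sm gd N1318 = N2581 := rfl
theorem L13611 : sm gd N2581 = N1318 := flp_d L13610
theorem L13612 : sm ge N1318 = N2582 := rfl
theorem L13613 : sm ge N2582 = N1318 := flp_e L13612
theorem L13614 : sm gc N2582 = N1319 := ded_19_1 L6773 L6770 L13612
theorem L13615 : sm gc N1319 = N2582 := flp_c L13614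
theorem L13616 : sm gb N1320 = N2583 := rfl
theorem L13617 : sm gb N2583 = N1320 := flp_b L13616
theorem L13618 : sm gd N1320 = N2584 := rfl
theorem L13619 : sm gd N2584 = N1320 := flp_d L13618
theorem L13620 : sm ge N1320 = N2585 := rfl
theorem L13621 : sm ge N2585 = N1320 := flp_e L13620
theorem L13622 : sm gc N2585 = N1321 := ded_19_1 L6777 L6774 L13620
theorem L13623 : sm gc N1321 = N2585 := flp_c L13622
theorem L13624 : sm gb N1322 = N2586 := rfl
theorem L13625 : sm gb N2586 = N1322 := flp_b L13624
theorem L13626 : sm gc N2586 = N1394 := ded_13_2 L7159 L3589 L3411 L6778 L13624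
theorem L13627 : sm gc N1394 = N2586 := flp_c L13626
theorem L13628 : sm gd N1322 = N2587 := rfl
theorem L13629 : sm gd N2587 = N1322 := flp_d L13628
theorem L13630 : sm ge N1322 = N2588 := rfl
theorem L13631 : sm ge N2588 = N1322 := flp_e L13630
theorem L13632 : sm gc N2588 = N1323 := ded_19_1 L6781 L6778 L13630
theorem L13633 : sm gc N1323 = N2588 := flp_c L13632
theorem L13634 : sm gg N1322 = N2589 := rfl
theorem L13635 : sm gg N2589 = N1322 := flp_g L13634
theorem L13638 : sm gg N1323 = N2590 := rfl
theorem L13639 : sm gg N2590 = N1323 := flp_g L13638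
theorem L13644 : sm gf N2590 = N2500 := ded_28_2 L13195 L13184 L13190 L13638
theorem L13645 : sm gf N2500 = N2590 := flp_f L13644
theorem L13646 : sm gd N2590 = N1972 := ded_24_1 L10236 L5029 L3427 L6785 L13638
theorem L13658 : sm gb N1325 = N2592 := rfl
theorem L13661 : sm gc N2592 = N1400 := ded_13_2 L7190 L3600 L3415 L6790 L13658
theorem L13662 : sm gc N1400 = N2592 := flp_c L13661
theorem L13663 : sm gd N1325 = N2593 := rfl
theorem L13664 : sm gd N2593 = N1325 := flp_d L13663
theorem L13670 : sm gd N1327 = N2595 := rfl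
theorem L13672 : sm gb N2595 = N1328 := ded_14_1 L6809 L6798 L13670
theorem L13673 : sm gb N1328 = N2595 := flp_b L13672
theorem L13674 : sm gc N1328 = N2596 := rfl
theorem L13675 : sm gc N2596 = N1328 := flp_c L13674
theorem L13678 : sm gf N1328 = N2598 := rfl
theorem L13679 : sm gf N2598 = N1328 := flp_f L13678
theorem L13682 : sm gg N1328 = N2599 := rfl
theorem L13683 : sm gg N2599 = N1328 := flp_g L13682
theorem L13684 : sm gd N1329 = N2600 := rfl
theorem L13685 : sm gd N2600 = N1329 := flp_d L13684
theorem L13688 : sm gd N1330 = N2601 := rfl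
theorem L13689 : sm gd N2601 = N1330 := flp_d L13688
theorem L13690 : sm ga N2601 = N1740 := ded_9_1 L8903 L6823 L13688
theorem L13691 : sm ga N1740 = N2601 := flp_a L13690
theorem L13692 : sm gb N2601 = N1699 := ded_14_1 L8703 L6825 L13688
theorem L13694 : sm gc N1331 = N2602 := rfl
theorem L13696 : sm ga N2602 = N2051 := ded_8_1 L10680 L6833 L13694
theorem L13697 : sm ga N2051 = N2602 := flp_a L13696
theorem L13698 : sm gg N2602 = N1332 := ded_21_2 L6839 L6837 L13694
theorem L13699 : sm gg N1332 = N2602 := flp_g L13698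
theorem L13716 : sm gb N1332 = N2605 := rfl
theorem L13718 : sm gc N2605 = N1409 := ded_13_2 L7235 L3626 L3440 L6838 L13716
theorem L13719 : sm gc N1409 = N2605 := flp_c L13718
theorem L13726 : sm gf N1332 = N2608 := rfl
theorem L13727 : sm gf N2608 = N1332 := flp_f L13726
theorem L13747 : sm gb N1335 = N2611 := rfl
theorem L13750 : sm gc N2611 = N1415 := ded_13_2 L7265 L3637 L3444 L6850 L13747
theorem L13754 : sm ge N1335 = N2613 := rfl
theorem L13755 : sm ge N2613 = N1335 := flp_e L13754
theorem L13756 : sm gc N2613 = N1336 := ded_19_1 L6854 L6850 L13754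
theorem L13757 : sm gc N1336 = N2613 := flp_c L13756
theorem L13759 : sm gg N1335 = N2614 := rfl
theorem L13760 : sm gg N2614 = N1335 := flp_g L13759
theorem L13761 : sm gc N2614 = N1337 := ded_21_1 L6861 L6850 L13759
theorem L13763 : sm gg N1336 = N2615 := rfl
theorem L13764 : sm gg N2615 = N1336 := flp_g L13763
theorem L13765 : sm gb N2615 = N1419 := ded_17_1 L7282 L6856 L13763
theorem L13766 : sm gb N1419 = N2615 := flp_b L13765
theorem L13767 : sm ge N2615 = N1337 := ded_26_1 L6861 L6853 L13763
theorem L13769 : sm gf N1337 = N2615 := ded_28_0 L13764 L6857 L13763 L13767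
theorem L13771 : sm gd N1338 = N2616 := rfl
theorem L13772 : sm gd N2616 = N1338 := flp_d L13771
theorem L13773 : sm ga N2616 = N1339 := ded_9_1 L6877 L6866 L13771
theorem L13774 : sm ga N1339 = N2616 := flp_a L13773
theorem L13775 : sm gb N2616 = N2515 := ded_14_1 L13298 L6873 L13771
theorem L13776 : sm gb N2515 = N2616 := flp_b L13775
theorem L13777 : sm gc N1339 = N2617 := rfl
theorem L13778 : sm gc N2617 = N1339 := flp_c L13777
theorem L13779 : sm gb N2617 = N2617 := ded_13_1 L13778 L6878 L3452 L6879 L13777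
theorem L13780 : sm ge N1339 = N2618 := rfl
theorem L13781 : sm ge N2618 = N1339 := flp_e L13780
theorem L13782 : sm gb N2618 = N1341 := ded_15_1 L6891 L6879 L13780
theorem L13783 : sm gb N1341 = N2618 := flp_b L13782
theorem L13784 : sm gf N1339 = N2619 := rfl
theorem L13785 : sm gf N2619 = N1339 := flp_f L13784
theorem L13786 : sm gb N2619 = N1342 := ded_16_1 L6894 L6879 L13784
theorem L13787 : sm gb N1342 = N2619 := flp_b L13786
theorem L13788 : sm gg N1606 = N2619 := ded_31_0 L13785 L6877 L3448 L2236 L2231 L1123 L586 L583 L295 L290 L563 L1069 L2135 L4126 L8286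
theorem L13789 : sm gg N2619 = N1606 := flp_g L13788
theorem L13790 : sm gc N2619 = N1608 := ded_21_1 L8294 L8286 L13788
theorem L13792 : sm gf N1608 = N2617 := ded_20_2 L13778 L13784 L13790
theorem L13793 : sm gf N2617 = N1608 := flp_f L13792
theorem L13794 : sm gg N1339 = N2620 := rfl
theorem L13795 : sm gg N2620 = N1339 := flp_g L13794
theorem L13796 : sm gb N2620 = N1343 := ded_17_1 L6897 L6879 L13794
theorem L13798 : sm gd N1340 = N2621 := rfl
theorem L13800 : sm ga N2621 = N2511 := ded_9_1 L13279 L6883 L13798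
theorem L13801 : sm ga N2511 = N2621 := flp_a L13800
theorem L13802 : sm gb N2621 = N1344 := ded_14_1 L6900 L6885 L13798
theorem L13803 : sm gb N1344 = N2621 := flp_b L13802
theorem L13804 : sm gd N1341 = N2622 := rfl
theorem L13805 : sm gd N2622 = N1341 := flp_d L13804
theorem L13806 : sm ge N2622 = N1344 := ded_22_2 L6900 L3454 L3450 L6890 L13804
theorem L13807 : sm ge N1344 = N2622 := flp_e L13806
theorem L13808 : sm gf N1341 = N2623 := rfl
theorem L13809 : sm gf N2623 = N1341 := flp_f L13808
theorem L13810 : sm gc N2623 = N2623 := ded_20_1 L13809 L6892 L13808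
theorem L13811 : sm ge N2623 = N1342 := ded_25_1 L6894 L6890 L13808
theorem L13812 : sm ge N1342 = N2623 := flp_e L13811
theorem L13813 : sm gg N1341 = N2624 := rfl
theorem L13814 : sm gg N2624 = N1341 := flp_g L13813
theorem L13815 : sm gc N2624 = N2624 := ded_21_1 L13814 L6892 L13813
theorem L13816 : sm ge N2624 = N1343 := ded_26_1 L6897 L6890 L13813
theorem L13817 : sm ge N1343 = N2624 := flp_e L13816
theorem L13818 : sm gg N1342 = N2625 := rfl
theorem L13819 : sm gg N2625 = N1342 := flp_g L13818
theorem L13820 : sm gb N2625 = N1606 := ded_17_1 L13788 L13786 L13818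
theorem L13821 : sm gb N1606 = N2625 := flp_b L13820
theorem L13822 : sm gc N2625 = N2625 := ded_21_1 L13819 L6895 L13818
theorem L13823 : sm gf N2624 = N2625 := ded_28_0 L13819 L6894 L6896 L13817
theorem L13824 : sm gf N2625 = N2624 := flp_f L13823
theorem L13825 : sm gd N1343 = N2626 := rfl
theorem L13826 : sm gd N2626 = N1343 := flp_d L13825
theorem L13827 : sm gg N2626 = N1346 := ded_24_2 L6910 L3458 L3450 L6896 L13825
theorem L13828 : sm gg N1346 = N2626 := flp_g L13827
theorem L13829 : sm gf N1343 = N2627 := rfl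
theorem L13830 : sm gf N2627 = N1343 := flp_f L13829
theorem L13831 : sm gc N2627 = N2627 := ded_20_1 L13830 L6898 L13829
theorem L13832 : sm ge N2627 = N2625 := ded_25_1 L13824 L13816 L13829
theorem L13833 : sm ge N2625 = N2627 := flp_e L13832
theorem L13834 : sm gg N2627 = N2623 := ded_28_3 L13811 L6894 L6896 L13829
theorem L13835 : sm gg N2623 = N2627 := flp_g L13834
theorem L13836 : sm gc N1344 = N2628 := rfl
theorem L13837 : sm gc N2628 = N1344 := flp_c L13836
theorem L13838 : sm gf N1344 = N2629 := rfl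
theorem L13839 : sm gf N2629 = N1344 := flp_f L13838
theorem L13840 : sm gg N1344 = N2630 := rfl
theorem L13841 : sm gg N2630 = N1344 := flp_g L13840
theorem L13842 : sm gd N1345 = N2631 := rfl
theorem L13843 : sm gd N2631 = N1345 := flp_d L13842
theorem L13844 : sm gc N1346 = N2632 := rfl
theorem L13845 : sm gc N2632 = N1346 := flp_c L13844
theorem L13846 : sm ge N1346 = N2633 := rfl
theorem L13847 : sm ge N2633 = N1346 := flp_e L13846
theorem L13848 : sm gf N1346 = N2634 := rfl
theorem L13849 : sm gf N2634 = N1346 := flp_f L13848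
theorem L13859 : sm gc N1348 = N2637 := rfl
theorem L13861 : sm ga N2637 = N1357 := ded_8_1 L6966 L6918 L13859
theorem L13863 : sm gg N2637 = N1357 := ded_21_2 L6966 L6921 L13859
theorem L13864 : sm gg N1357 = N2637 := flp_g L13863
theorem L13887 : sm gd N1351 = N2642 := rfl
theorem L13888 : sm gd N2642 = N1351 := flp_d L13887
theorem L13889 : sm ga N2642 = N1362 := ded_9_1 L6982 L6940 L13887
theorem L13890 : sm ga N1362 = N2642 := flp_a L13889
theorem L13891 : sm gb N2642 = N1386 := ded_14_1 L7115 L6942 L13887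
theorem L13893 : sm ge N2642 = N1362 := ded_22_2 L6982 L3511 L6932 L6944 L13887
theorem L13894 : sm ge N1362 = N2642 := flp_e L13893
theorem L13895 : sm gc N2642 = N2642 := ded_30_0 L13888 L13073 L13092 L13086 L6931 L6693 L6710 L6704 L6981 L13890
theorem L13906 : sm gd N1353 = N2646 := rfl
theorem L13907 : sm gd N2646 = N1353 := flp_d L13906
theorem L13912 : sm gg N1353 = N2647 := rfl
theorem L13913 : sm gg N2647 = N1353 := flp_g L13912
theorem L13918 : sm gd N1354 = N2648 := rfl
theorem L13919 : sm gd N2648 = N1354 := flp_d L13918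
theorem L13922 : sm gg N2648 = N1356 := ded_24_2 L6962 L3488 L3477 L6953 L13918
theorem L13923 : sm gg N1356 = N2648 := flp_g L13922
theorem L13932 : sm gc N1355 = N2650 := rfl
theorem L13933 : sm gc N2650 = N1355 := flp_c L13932
theorem L13934 : sm ge N1355 = N2651 := rfl
theorem L13936 : sm gb N2651 = N1368 := ded_15_1 L7016 L6960 L13934
theorem L13937 : sm gb N1368 = N2651 := flp_b L13936
theorem L13940 : sm gg N1355 = N2652 := rfl
theorem L13941 : sm gg N2652 = N1355 := flp_g L13940
theorem L13944 : sm gc N1356 = N2653 := rfl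
theorem L13952 : sm gb N1357 = N2655 := rfl
theorem L13953 : sm gb N2655 = N1357 := flp_b L13952
theorem L13954 : sm gc N2655 = N1372 := ded_13_2 L7036 L3528 L3496 L6965 L13952
theorem L13955 : sm gc N1372 = N2655 := flp_c L13954
theorem L13958 : sm ge N1357 = N2657 := rfl
theorem L13959 : sm ge N2657 = N1357 := flp_e L13958
theorem L13972 : sm gf N1359 = N2661 := rfl
theorem L13973 : sm gf N2661 = N1359 := flp_f L13972
theorem L13974 : sm gc N2661 = N1361 := ded_20_1 L6978 L6971 L13972
theorem L13975 : sm gc N1361 = N2661 := flp_c L13974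
theorem L13984 : sm gd N1361 = N2663 := rfl
theorem L13986 : sm gb N2663 = N1383 := ded_14_1 L7095 L6980 L13984
theorem L13987 : sm gb N1383 = N2663 := flp_b L13986
theorem L13991 : sm gg N1361 = N2664 := rfl
theorem L13992 : sm gg N2664 = N1361 := flp_g L13991
theorem L13993 : sm gb N2664 = N1384 := ded_17_1 L7100 L6980 L13991
theorem L13994 : sm gb N1384 = N2664 := flp_b L13993
theorem L13997 : sm gf N2370 = N2664 := ded_28_0 L13992 L6978 L6110 L12451
theorem L13999 : sm gg N1362 = N2665 := rfl
theorem L14000 : sm gg N2665 = N1362 := flp_g L13999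
theorem L14001 : sm gb N2665 = N1387 := ded_17_1 L7118 L6984 L13999
theorem L14004 : sm gd N2665 = N2652 := ded_24_1 L13941 L6958 L3514 L6981 L13999
theorem L14006 : sm gf N1459 = N2665 := ded_16_0 L14001 L7125 L7498
theorem L14007 : sm gf N2665 = N1459 := flp_f L14006
theorem L14008 : sm gc N1363 = N2666 := rfl
theorem L14009 : sm gc N2666 = N1363 := flp_c L14008
theorem L14010 : sm ga N2666 = N2666 := ded_8_1 L14009 L6988 L14008
theorem L14011 : sm ge N2666 = N2078 := ded_19_2 L11902 L11932 L14008
theorem L14012 : sm ge N2078 = N2666 := flp_e L14011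
theorem L14013 : sm gf N2666 = N1367 := ded_20_2 L7013 L6990 L14008
theorem L14015 : sm gg N1363 = N2667 := rfl
theorem L14016 : sm gg N2667 = N1363 := flp_g L14015
theorem L14017 : sm ga N2667 = N2667 := ded_12_1 L14016 L6988 L14015
theorem L14018 : sm gd N1364 = N2668 := rfl
theorem L14019 : sm gd N2668 = N1364 := flp_d L14018
theorem L14021 : sm ge N1365 = N2669 := rfl
theorem L14024 : sm gc N2669 = N1824 := ded_19_1 L9353 L7001 L14021
theorem L14026 : sm gf N2669 = N1427 := ded_25_2 L9589 L9585 L14021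
theorem L14028 : sm gg N2669 = N1371 := ded_26_2 L7031 L7000 L14021
theorem L14029 : sm gg N1371 = N2669 := flp_g L14028
theorem L14030 : sm gd N1366 = N2670 := rfl
theorem L14031 : sm gd N2670 = N1366 := flp_d L14030
theorem L14033 : sm gb N1367 = N2671 := rfl
theorem L14034 : sm gb N2671 = N1367 := flp_b L14033
theorem L14035 : sm gd N1367 = N2672 := rfl
theorem L14036 : sm gd N2672 = N1367 := flp_d L14035
theorem L14037 : sm ga N2672 = N2672 := ded_9_1 L14036 L7014 L14035
theorem L14038 : sm ge N1367 = N2673 := rfl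
theorem L14041 : sm gc N2673 = N1368 := ded_19_1 L7016 L7012 L14038
theorem L14042 : sm gc N1368 = N2673 := flp_c L14041
theorem L14043 : sm gf N2673 = N2078 := ded_25_2 L14012 L14013 L14038
theorem L14044 : sm gf N2078 = N2673 := flp_f L14043
theorem L14045 : sm gg N1367 = N2674 := rfl
theorem L14046 : sm gg N2674 = N1367 := flp_g L14045
theorem L14048 : sm gc N2674 = N1369 := ded_21_1 L7021 L7012 L14045
theorem L14050 : sm gg N1368 = N2675 := rfl
theorem L14051 : sm gg N2675 = N1368 := flp_g L14050
theorem L14053 : sm ge N2675 = N1369 := ded_26_1 L7021 L7015 L14050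
theorem L14055 : sm gf N2675 = N2667 := ded_28_2 L14016 L11933 L11930 L14050
theorem L14056 : sm gf N2667 = N2675 := flp_f L14055
theorem L14057 : sm gf N1369 = N2676 := rfl
theorem L14060 : sm ge N2676 = N2667 := ded_25_1 L14056 L14053 L14057
theorem L14062 : sm gg N2676 = N2273 := ded_28_3 L11932 L6989 L7020 L14057
theorem L14064 : sm gd N2676 = N1893 := ded_23_1 L9793 L7402 L7124 L7122 L14057
theorem L14065 : sm gd N1893 = N2676 := flp_d L14064
theorem L14066 : sm gb N1370 = N2677 := rfl
theorem L14067 : sm gb N2677 = N1370 := flp_b L14066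
theorem L14068 : sm gd N2677 = N2000 := ded_14_2 L10401 L7028 L14066
theorem L14070 : sm gg N2677 = N1818 := ded_17_2 L9326 L7027 L14066
theorem L14071 : sm gg N1818 = N2677 := flp_g L14070
theorem L14081 : sm ga N1372 = N2679 := rfl
theorem L14082 : sm ga N2679 = N1372 := flp_a L14081
theorem L14083 : sm ge N1372 = N2680 := rfl
theorem L14085 : sm gb N2680 = N1374 := ded_15_1 L7041 L7035 L14083
theorem L14087 : sm gg N1372 = N2681 := rfl
theorem L14088 : sm gg N2681 = N1372 := flp_g L14087
theorem L14089 : sm gb N2681 = N1375 := ded_17_1 L7046 L7035 L14087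
theorem L14090 : sm gb N1375 = N2681 := flp_b L14089
theorem L14091 : sm ga N2680 = N2681 := ded_29_0 L14089 L7048 L3535 L6920 L13859 L13861 L13952 L13954 L14083
theorem L14093 : sm ge N2681 = N2679 := ded_10_2 L14082 L14083 L14091
theorem L14094 : sm ge N2679 = N2681 := flp_e L14093
theorem L14095 : sm gg N2679 = N2680 := ded_12_0 L14091 L14088 L14081
theorem L14097 : sm gd N1374 = N2682 := rfl
theorem L14098 : sm gd N2682 = N1374 := flp_d L14097
theorem L14102 : sm gg N1374 = N2683 := rfl
theorem L14105 : sm gb N2683 = N2679 := ded_17_1 L14095 L14085 L14102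
theorem L14109 : sm ge N2683 = N1375 := ded_26_1 L7046 L7040 L14102
theorem L14113 : sm gd N1375 = N2684 := rfl
theorem L14116 : sm gg N2684 = N2018 := ded_24_2 L10494 L5159 L7069 L7045 L14113
theorem L14117 : sm gg N2018 = N2684 := flp_g L14116
theorem L14118 : sm gf N1375 = N2685 := rfl
theorem L14121 : sm gc N2685 = N1377 := ded_20_1 L7058 L7049 L14118
theorem L14122 : sm gc N1377 = N2685 := flp_c L14121
theorem L14125 : sm gg N2685 = N2379 := ded_28_3 L12497 L6142 L7045 L14118
theorem L14129 : sm gd N1378 = N2687 := rfl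
theorem L14130 : sm gd N2687 = N1378 := flp_d L14129
theorem L14131 : sm gb N2687 = N1379 := ded_14_1 L7074 L7071 L14129
theorem L14132 : sm gb N1379 = N2687 := flp_b L14131
theorem L14137 : sm gf N1378 = N2689 := rfl
theorem L14139 : sm gb N2689 = N1381 := ded_16_1 L7083 L7071 L14137
theorem L14140 : sm gb N1381 = N2689 := flp_b L14139
theorem L14149 : sm gg N1379 = N2692 := rfl
theorem L14150 : sm gg N2692 = N1379 := flp_g L14149
theorem L14165 : sm gd N1381 = N2695 := rfl
theorem L14166 : sm gd N2695 = N1381 := flp_d L14165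
theorem L14168 : sm gg N1381 = N2696 := rfl
theorem L14169 : sm gg N2696 = N1381 := flp_g L14168
theorem L14171 : sm gc N2696 = N1384 := ded_21_1 L7100 L7086 L14168
theorem L14172 : sm gc N1384 = N2696 := flp_c L14171
theorem L14175 : sm gf N2387 = N2696 := ded_28_0 L14169 L7083 L6159 L12541
theorem L14177 : sm gd N2696 = N2043 := ded_31_2 L10616 L5194 L4870 L4867 L4849 L4853 L4741 L4728 L9582 L9588 L7362 L7033 L7081 L12547 L14175
theorem L14178 : sm gd N2043 = N2696 := flp_d L14177
theorem L14179 : sm gg N2041 = N2695 := ded_24_4 L14166 L14168 L14177 L10614 L10601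
theorem L14180 : sm gg N2695 = N2041 := flp_g L14179
theorem L14181 : sm gd N1382 = N2697 := rfl
theorem L14182 : sm gd N2697 = N1382 := flp_d L14181
theorem L14184 : sm gd N1384 = N2698 := rfl
theorem L14185 : sm gd N2698 = N1384 := flp_d L14184
theorem L14186 : sm ga N2698 = N2698 := ded_9_1 L14185 L7101 L14184
theorem L14187 : sm gc N2698 = N1968 := ded_30_0 L10219 L9690 L9439 L9435 L5197 L10617 L14178 L14171 L14184 L14186
theorem L14189 : sm gf N1967 = N2698 := ded_20_0 L14187 L10213 L10211
theorem L14190 : sm gf N2698 = N1967 := flp_f L14189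
theorem L14191 : N2692 = N486 := coi_31_9 L2515 L1243 L661 L666 L1268 L2549 L5007 L10207 L14189 L14185 L14172 L14169 L7083 L7073 L7076 L14149
theorem L14192 : N2692 = N486 := eqc rfl L14191 rfl
theorem L14195 : sm gg N486 = N1379 := trfs L14192 L14150 rfl
theorem L14196 : N1379 = N968 := eqes L14195 L4949
theorem L14197 : N1379 = N968 := eqc rfl L14196 rfl
theorem L14199 : sm gb N968 = N2687 := trfs L14197 L14132 rfl
theorem L14200 : N2687 = N1930 := eqes L14199 L9989
theorem L14201 : N2687 = N1930 := eqc rfl L14200 rfl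
theorem L14203 : sm gd N968 = N688 := trfs L14197 L7074 rfl
theorem L14204 : N688 = N1943 := eqes L14203 L10103
theorem L14205 : N1943 = N688 := (eqc rfl L14204 rfl).symm
theorem L14217 : sm gd N688 = N968 := trfs L14205 L10104 rfl
theorem L14219 : sm gd N1930 = N1378 := trfs L14201 L14130 rfl
theorem L14220 : sm gd N1378 = N1930 := flp_d L14219
theorem L14223 : sm gf N1942 = N2695 := ded_23_4 L14166 L7083 L14217 L4954 L10100
theorem L14225 : N1791 = N2386 := coi_24_5 L12539 L6158 L14217 L4950 L4548 L9191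
theorem L14226 : N2386 = N1791 := (eqc rfl L14225 rfl).symm
theorem L14228 : sm gd N1791 = N1208 := trfs L14226 L12539 rfl
theorem L14229 : sm gd N1208 = N1791 := flp_d L14228
theorem L14230 : sm gd N1385 = N2699 := rfl
theorem L14231 : sm gd N2699 = N1385 := flp_d L14230
theorem L14233 : sm gb N2699 = N2699 := ded_14_1 L14231 L7109 L14230
theorem L14234 : sm gg N2699 = N2699 := ded_24_2 L14231 L7110 L3777 L7111 L14230
theorem L14235 : sm gg N1386 = N2700 := rfl
theorem L14236 : sm gg N2700 = N1386 := flp_g L14235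
theorem L14242 : sm gf N1460 = N2700 := ded_28_0 L14236 L7515 L7509 L7501
theorem L14243 : sm gf N2700 = N1460 := flp_f L14242
theorem L14244 : sm gd N2700 = N1431 := ded_24_1 L7352 L3682 L3684 L7116 L14235
theorem L14245 : sm gd N1431 = N2700 := flp_d L14244
theorem L14249 : sm ge N1388 = N2702 := rfl
theorem L14254 : sm gd N2702 = N1433 := ded_22_1 L7360 L3694 L3576 L7126 L14249
theorem L14256 : sm gf N2697 = N2702 := ded_23_0 L14254 L7362 L7033 L7087 L14181
theorem L14257 : sm gf N2702 = N2697 := flp_f L14256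
theorem L14271 : sm gd N1389 = N2705 := rfl
theorem L14274 : sm ge N1389 = N2706 := rfl
theorem L14275 : sm ge N2706 = N1389 := flp_e L14274
theorem L14277 : sm gc N2706 = N1390 := ded_19_1 L7137 L7131 L14274
theorem L14278 : sm gc N1390 = N2706 := flp_c L14277
theorem L14279 : sm gf N2706 = N1396 := ded_25_2 L7164 L7135 L14274
theorem L14286 : sm gb N1392 = N2708 := rfl
theorem L14287 : sm gb N2708 = N1392 := flp_b L14286
theorem L14289 : sm gg N2708 = N1400 := ded_17_2 L7190 L7151 L14286
theorem L14291 : sm ga N1400 = N2708 := ded_29_6 L14287 L7147 L3585 L3584 L6556 L13200 L13202 L13658 L13661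
theorem L14311 : sm ge N1394 = N2712 := rfl
theorem L14312 : sm ge N2712 = N1394 := flp_e L14311
theorem L14315 : sm gb N2712 = N1396 := ded_15_1 L7164 L7158 L14311
theorem L14316 : sm gb N1396 = N2712 := flp_b L14315
theorem L14323 : sm gc N1395 = N2714 := rfl
theorem L14326 : sm ge N1395 = N2715 := rfl
theorem L14327 : sm ge N2715 = N1395 := flp_e L14326
theorem L14329 : sm gf N1395 = N2716 := rfl
theorem L14330 : sm gf N2716 = N1395 := flp_f L14329
theorem L14332 : sm gg N1395 = N2717 := rfl
theorem L14333 : sm gg N2717 = N1395 := flp_g L14332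
theorem L14335 : sm gd N1396 = N2718 := rfl
theorem L14336 : sm gd N2718 = N1396 := flp_d L14335
theorem L14337 : sm ga N2718 = N2718 := ded_9_1 L14336 L7165 L14335
theorem L14338 : sm gc N2718 = N1955 := ded_30_0 L10152 L4980 L2535 L1254 L1263 L1820 L3595 L7167 L14335 L14337
theorem L14339 : sm gc N1955 = N2718 := flp_c L14338
theorem L14340 : sm gg N1396 = N2719 := rfl
theorem L14341 : sm gg N2719 = N1396 := flp_g L14340
theorem L14342 : sm ga N2719 = N2719 := ded_12_1 L14341 L7165 L14340
theorem L14343 : sm gc N2719 = N1398 := ded_21_1 L7174 L7167 L14340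
theorem L14345 : sm ge N2719 = N1397 := ded_26_1 L7169 L7163 L14340
theorem L14346 : sm ge N1397 = N2719 := flp_e L14345
theorem L14349 : sm gd N1794 = N2719 := ded_30_9 L14342 L14343 L7180 L9685 L9225 L4556 L2348 L2346 L4552 L9208
theorem L14350 : sm gd N2719 = N1794 := flp_d L14349
theorem L14351 : sm gd N1397 = N2720 := rfl
theorem L14352 : sm gd N2720 = N1397 := flp_d L14351
theorem L14354 : sm gf N1397 = N2721 := rfl
theorem L14355 : sm gf N2721 = N1397 := flp_f L14354
theorem L14357 : sm gc N2721 = N1399 := ded_20_1 L7183 L7172 L14354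
theorem L14358 : sm gc N1399 = N2721 := flp_c L14357
theorem L14361 : sm gg N2721 = N2706 := ded_28_3 L14275 L7134 L7168 L14354
theorem L14362 : sm gg N2706 = N2721 := flp_g L14361
theorem L14363 : sm gc N2720 = N1828 := ded_31_3 L9371 L4623 L2368 L1179 L635 L678 L1314 L2629 L2634 L3704 L7142 L14278 L14362 L14355 L14351
theorem L14365 : sm gg N1822 = N2720 := ded_21_0 L14363 L9371 L9344
theorem L14367 : sm gd N2717 = N1822 := ded_24_5 L14365 L14352 L7169 L7160 L14332
theorem L14368 : sm gd N1822 = N2717 := flp_d L14367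
theorem L14369 : sm gf N2717 = N2717 := ded_23_0 L14367 L9341 L4618 L9340 L14368
theorem L14370 : N2715 = N2716 := coi_28_0 L14330 L14332 L14369 L14333 L14326
theorem L14371 : N2716 = N2715 := (eqc rfl L14370 rfl).symm
theorem L14373 : sm gf N2715 = N1395 := trfs L14371 L14330 rfl
theorem L14375 : sm gf N1400 = N2722 := rfl
theorem L14376 : sm gf N2722 = N1400 := flp_f L14375
theorem L14377 : sm gb N2722 = N1402 := ded_16_1 L7196 L7189 L14375
theorem L14380 : sm gd N1402 = N2723 := rfl
theorem L14381 : sm gd N2723 = N1402 := flp_d L14380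
theorem L14383 : sm gf N2723 = N2117 := ded_23_2 L11053 L5412 L10989 L7195 L14380
theorem L14384 : sm gf N2117 = N2723 := flp_f L14383
theorem L14397 : sm gb N1404 = N2726 := rfl
theorem L14399 : sm ge N2726 = N1960 := ded_15_2 L10181 L7211 L14397
theorem L14400 : sm ge N1960 = N2726 := flp_e L14399
theorem L14401 : sm gf N1404 = N2727 := rfl
theorem L14404 : sm gc N2727 = N1405 := ded_20_1 L7213 L7207 L14401
theorem L14405 : sm gc N1405 = N2727 := flp_c L14404
theorem L14406 : sm ge N2727 = N1962 := ded_25_1 L10186 L7211 L14401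
theorem L14412 : sm gd N1406 = N2729 := rfl
theorem L14413 : sm gd N2729 = N1406 := flp_d L14412
theorem L14415 : sm ge N1406 = N2730 := rfl
theorem L14418 : sm gc N2730 = N1407 := ded_19_1 L7225 L7219 L14415
theorem L14419 : sm gc N1407 = N2730 := flp_c L14418
theorem L14420 : sm gf N2730 = N2401 := ded_25_2 L12638 L9130 L14415
theorem L14421 : sm gf N2401 = N2730 := flp_f L14420
theorem L14424 : sm ga N1409 = N2731 := rfl
theorem L14425 : sm ga N2731 = N1409 := flp_a L14424
theorem L14430 : sm ge N1409 = N2733 := rfl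
theorem L14431 : sm ge N2733 = N1409 := flp_e L14430
theorem L14432 : sm gb N2733 = N1411 := ded_15_1 L7240 L7234 L14430
theorem L14434 : sm gf N1768 = N2733 := ded_16_0 L14432 L9125 L9061
theorem L14436 : sm gf N1409 = N2734 := rfl
theorem L14438 : sm gb N2734 = N1412 := ded_16_1 L7245 L7234 L14436
theorem L14439 : sm gb N1412 = N2734 := flp_b L14438
theorem L14440 : sm ge N2734 = N1768 := ded_25_1 L14434 L14431 L14436
theorem L14441 : sm ge N1768 = N2734 := flp_e L14440
theorem L14442 : sm gc N1410 = N2735 := rfl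
theorem L14443 : sm gc N2735 = N1410 := flp_c L14442
theorem L14444 : sm ga N2735 = N2735 := ded_8_1 L14443 L7238 L14442
theorem L14445 : sm gd N1437 = N2735 := ded_30_9 L14444 L14443 L7237 L3626 L1833 L1768 L3536 L3541 L3712 L7379
theorem L14447 : sm ge N1410 = N2736 := rfl
theorem L14450 : sm gf N1410 = N2737 := rfl
theorem L14451 : sm gf N2737 = N1410 := flp_f L14450
theorem L14453 : sm gg N1410 = N2738 := rfl
theorem L14454 : sm gg N2738 = N1410 := flp_g L14453
theorem L14456 : sm gd N1411 = N2739 := rfl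
theorem L14457 : sm gd N2739 = N1411 := flp_d L14456
theorem L14459 : sm gf N2739 = N1777 := ded_23_2 L9100 L4501 L4492 L9126 L14456
theorem L14460 : sm gf N1777 = N2739 := flp_f L14459
theorem L14469 : sm gd N1415 = N2742 := rfl
theorem L14471 : sm gb N2742 = N1416 := ded_14_1 L7268 L7264 L14469
theorem L14473 : sm ge N1415 = N2743 := rfl
theorem L14475 : sm gb N2743 = N1417 := ded_15_1 L7271 L7264 L14473
theorem L14476 : sm gb N1417 = N2743 := flp_b L14475
theorem L14482 : sm gc N1416 = N2745 := rfl
theorem L14483 : sm gc N2745 = N1416 := flp_c L14482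
theorem L14485 : sm ge N1416 = N2746 := rfl
theorem L14486 : sm ge N2746 = N1416 := flp_e L14485
theorem L14488 : sm gf N1416 = N2747 := rfl
theorem L14489 : sm gf N2747 = N1416 := flp_f L14488
theorem L14492 : sm gg N1416 = N2748 := rfl
theorem L14493 : sm gg N2748 = N1416 := flp_g L14492
theorem L14498 : sm gd N1418 = N2750 := rfl
theorem L14499 : sm gd N2750 = N1418 := flp_d L14498
theorem L14520 : sm gd N1421 = N2754 := rfl
theorem L14522 : sm ga N2754 = N2646 := ded_9_1 L13907 L7296 L14520
theorem L14524 : sm gb N2754 = N1425 := ded_14_1 L7320 L7298 L14520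
theorem L14526 : sm gf N2754 = N1423 := ded_23_2 L7306 L3658 L3651 L7293 L14520
theorem L14527 : sm gf N1423 = N2754 := flp_f L14526
theorem L14528 : sm gg N1421 = N2755 := rfl
theorem L14530 : sm ga N2755 = N2647 := ded_12_1 L13913 L7296 L14528
theorem L14531 : sm ga N2647 = N2755 := flp_a L14530
theorem L14532 : sm gb N2755 = N1426 := ded_17_1 L7325 L7298 L14528
theorem L14533 : sm gb N1426 = N2755 := flp_b L14532
theorem L14536 : sm gd N1422 = N2756 := rfl
theorem L14538 : sm ga N2756 = N2648 := ded_9_1 L13919 L7302 L14536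
theorem L14539 : sm ga N2648 = N2756 := flp_a L14538
theorem L14540 : sm gb N2756 = N1427 := ded_14_1 L7331 L7304 L14536
theorem L14541 : sm gb N1427 = N2756 := flp_b L14540
theorem L14554 : sm gc N1423 = N2758 := rfl
theorem L14556 : sm ga N2758 = N2650 := ded_8_1 L13933 L7308 L14554
theorem L14558 : sm ge N1423 = N2759 := rfl
theorem L14559 : sm ge N2759 = N1423 := flp_e L14558
theorem L14566 : sm gg N1423 = N2760 := rfl
theorem L14567 : sm gg N2760 = N1423 := flp_g L14566
theorem L14568 : sm ga N2760 = N2652 := ded_12_1 L13941 L7308 L14566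
theorem L14569 : sm ga N2652 = N2760 := flp_a L14568
theorem L14570 : sm gb N2760 = N1431 := ded_17_1 L7352 L7310 L14566
theorem L14588 : sm gc N1425 = N2763 := rfl
theorem L14591 : sm gf N2763 = N1429 := ded_20_2 L7344 L7323 L14588
theorem L14593 : sm ge N1425 = N2764 := rfl
theorem L14594 : sm ge N2764 = N1425 := flp_e L14593
theorem L14596 : sm gf N2764 = N1430 := ded_25_2 L7347 L7323 L14593
theorem L14598 : sm gg N1425 = N2765 := rfl
theorem L14599 : sm gg N2765 = N1425 := flp_g L14598
theorem L14601 : sm gd N1426 = N2766 := rfl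
theorem L14602 : sm gd N2766 = N1426 := flp_d L14601
theorem L14609 : sm gb N1429 = N2768 := rfl
theorem L14610 : sm gb N2768 = N1429 := flp_b L14609
theorem L14611 : sm ge N1429 = N2769 := rfl
theorem L14612 : sm ge N2769 = N1429 := flp_e L14611
theorem L14614 : sm gc N2769 = N1430 := ded_19_1 L7347 L7343 L14611
theorem L14616 : sm gg N1429 = N2770 := rfl
theorem L14617 : sm gg N2770 = N1429 := flp_g L14616
theorem L14621 : sm gg N1430 = N2771 := rfl
theorem L14624 : sm ge N2771 = N1431 := ded_26_1 L7352 L7346 L14621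
theorem L14626 : sm gf N2771 = N2765 := ded_28_2 L14599 L14593 L14596 L14621
theorem L14627 : sm gf N2765 = N2771 := flp_f L14626
theorem L14630 : sm gf N1431 = N2772 := rfl
theorem L14631 : sm gf N2772 = N1431 := flp_f L14630
theorem L14633 : sm ge N2772 = N2765 := ded_25_1 L14627 L14624 L14630
theorem L14634 : sm ge N2765 = N2772 := flp_e L14633
theorem L14637 : sm gb N1432 = N2773 := rfl
theorem L14639 : sm gf N2773 = N2677 := ded_16_2 L14067 L7358 L14637
theorem L14640 : sm gf N2677 = N2773 := flp_f L14639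
theorem L14641 : sm gd N1432 = N2774 := rfl
theorem L14642 : sm gd N2774 = N1432 := flp_d L14641
theorem L14643 : sm ga N2774 = N2774 := ded_9_1 L14642 L7356 L14641
theorem L14644 : sm gc N2774 = N2774 := ded_30_0 L14642 L7355 L3694 L1857 L928 L1858 L3693 L7354 L14641 L14643
theorem L14645 : sm gb N1434 = N2775 := rfl
theorem L14646 : sm gb N2775 = N1434 := flp_b L14645
theorem L14647 : sm gg N2775 = N2054 := ded_17_2 L10690 L7368 L14645
theorem L14649 : sm ga N2733 = N2775 := ded_29_0 L14646 L7365 L3709 L6585 L13234 L13236 L13716 L13718 L14430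
theorem L14651 : sm ge N2775 = N2731 := ded_10_2 L14425 L14430 L14649
theorem L14652 : sm ge N2731 = N2775 := flp_e L14651
theorem L14681 : sm ge N1437 = N2780 := rfl
theorem L14682 : sm ge N2780 = N1437 := flp_e L14681
theorem L14686 : sm gc N2780 = N1438 := ded_19_1 L7384 L7379 L14681
theorem L14687 : sm gc N1438 = N2780 := flp_c L14686
theorem L14688 : sm gf N2780 = N2780 := ded_25_2 L14682 L7382 L14681
theorem L14689 : sm gg N1437 = N2781 := rfl
theorem L14690 : sm gg N2781 = N1437 := flp_g L14689
theorem L14692 : sm gc N2781 = N1439 := ded_21_1 L7390 L7379 L14689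
theorem L14693 : sm gc N1439 = N2781 := flp_c L14692
theorem L14700 : sm gg N1438 = N2782 := rfl
theorem L14701 : sm gg N2782 = N1438 := flp_g L14700
theorem L14703 : sm ge N2782 = N1439 := ded_26_1 L7390 L7383 L14700
theorem L14707 : sm gd N2782 = N1979 := ded_24_1 L10279 L10259 L7373 L7388 L14700
theorem L14708 : sm gd N1979 = N2782 := flp_d L14707
theorem L14719 : sm gb N1441 = N2786 := rfl
theorem L14720 : sm gb N2786 = N1441 := flp_b L14719
theorem L14721 : sm gd N2786 = N1459 := ded_14_2 L7499 L7401 L14719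
theorem L14723 : sm ge N1441 = N2787 := rfl
theorem L14724 : sm ge N2787 = N1441 := flp_e L14723
theorem L14725 : sm ga N2787 = N2787 := ded_10_1 L14724 L7400 L14723
theorem L14726 : sm gc N2787 = N1442 := ded_19_1 L7404 L7398 L14723
theorem L14728 : sm gd N1455 = N2787 := ded_30_9 L14725 L14726 L10659 L10653 L5216 L2654 L1888 L1905 L3757 L7481
theorem L14729 : sm gd N2787 = N1455 := flp_d L14728
theorem L14730 : sm gg N1441 = N2788 := rfl
theorem L14731 : sm gg N2788 = N1441 := flp_g L14730
theorem L14733 : sm gc N2788 = N1443 := ded_21_1 L7407 L7398 L14730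
theorem L14735 : sm gf N1443 = N2789 := rfl
theorem L14736 : sm gf N2789 = N1443 := flp_f L14735
theorem L14738 : sm ge N2789 = N1766 := ded_25_1 L9493 L9497 L14735
theorem L14740 : sm gg N2789 = N1894 := ded_28_3 L9796 L4818 L7406 L14735
theorem L14741 : sm gg N1894 = N2789 := flp_g L14740
theorem L14750 : sm ge N1444 = N2791 := rfl
theorem L14751 : sm ge N2791 = N1444 := flp_e L14750
theorem L14756 : sm gg N2791 = N1738 := ded_26_2 L8891 L7416 L14750
theorem L14757 : sm gg N1738 = N2791 := flp_g L14756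
theorem L14760 : sm gf N1444 = N2792 := rfl
theorem L14762 : sm ga N2792 = N1447 := ded_11_1 L7425 L7412 L14760
theorem L14763 : sm ga N1447 = N2792 := flp_a L14762
theorem L14786 : sm gd N1446 = N2797 := rfl
theorem L14787 : sm gd N2797 = N1446 := flp_d L14786
theorem L14790 : sm gb N2797 = N1450 := ded_14_1 L7445 L7423 L14786
theorem L14792 : sm ge N2797 = N1449 := ded_22_2 L7437 L3736 L3731 L7420 L14786
theorem L14793 : sm ge N1449 = N2797 := flp_e L14792
theorem L14794 : sm gf N1691 = N2797 := ded_16_0 L14790 L7450 L8671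
theorem L14796 : sm gf N1446 = N2798 := rfl
theorem L14800 : sm ge N2798 = N1447 := ded_25_1 L7425 L7420 L14796
theorem L14802 : sm gd N2798 = N1639 := ded_23_1 L8449 L8673 L14794 L14787 L14796
theorem L14803 : sm gd N1639 = N2798 := flp_d L14802
theorem L14812 : sm gg N1447 = N2800 := rfl
theorem L14813 : sm gg N2800 = N1447 := flp_g L14812
theorem L14814 : sm gb N2800 = N1453 := ded_17_1 L7466 L7427 L14812
theorem L14815 : sm gb N1453 = N2800 := flp_b L14814
theorem L14818 : sm gf N1448 = N2801 := rfl
theorem L14819 : sm gf N2801 = N1448 := flp_f L14818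
theorem L14820 : sm ga N2801 = N1739 := ded_11_1 L8897 L7431 L14818
theorem L14826 : sm gg N2801 = N2798 := ded_28_3 L14800 L7425 L7428 L14818
theorem L14827 : sm gg N2798 = N2801 := flp_g L14826
theorem L14828 : sm gd N2801 = N1620 := ded_23_1 L8361 L7938 L4095 L7435 L14818
theorem L14830 : sm gc N1449 = N2802 := rfl
theorem L14831 : sm gc N2802 = N1449 := flp_c L14830
theorem L14834 : sm gf N2802 = N1690 := ded_20_2 L8667 L7443 L14830
theorem L14836 : sm gg N1449 = N2803 := rfl
theorem L14837 : sm gg N2803 = N1449 := flp_g L14836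
theorem L14840 : sm gb N2803 = N1456 := ded_17_1 L7487 L7441 L14836
theorem L14841 : sm gb N1456 = N2803 := flp_b L14840
theorem L14842 : sm gc N1450 = N2804 := rfl
theorem L14845 : sm ge N2804 = N1455 := ded_19_2 L7482 L7448 L14842
theorem L14847 : sm gf N2804 = N1966 := ded_20_2 L10205 L7449 L14842
theorem L14848 : sm gf N1966 = N2804 := flp_f L14847
theorem L14849 : sm gg N2804 = N2698 := ded_21_2 L14187 L10217 L14842
theorem L14850 : sm gg N2698 = N2804 := flp_g L14849
theorem L14851 : sm gd N1460 = N2804 := ded_22_5 L14845 L14728 L14724 L7402 L7501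
theorem L14852 : sm gd N2804 = N1460 := flp_d L14851
theorem L14853 : sm gd N1966 = N2772 := ded_23_1 L14631 L14245 L14243 L14851 L14847
theorem L14854 : sm gd N2772 = N1966 := flp_d L14853
theorem L14859 : sm gg N1455 = N2806 := rfl
theorem L14862 : sm gc N2806 = N1456 := ded_21_1 L7487 L7481 L14859
theorem L14864 : sm ge N2806 = N2698 := ded_26_1 L14850 L14845 L14859
theorem L14868 : sm gd N1457 = N2808 := rfl
theorem L14869 : sm gd N2808 = N1457 := flp_d L14868
theorem L14871 : sm gf N1457 = N2809 := rfl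
theorem L14872 : sm gf N2809 = N1457 := flp_f L14871
theorem L14874 : sm gc N2809 = N1458 := ded_20_1 L7493 L7489 L14871
theorem L14877 : sm ga N1459 = N2810 := rfl
theorem L14878 : sm ga N2810 = N1459 := flp_a L14877
theorem L14880 : sm gb N2810 = N1460 := ded_29_4 L7504 L3770 L3771 L7505 L7502 L3767 L7498 L7500 L14877
theorem L14882 : sm ge N1459 = N2810 := ded_29_9 L14878 L7499 L3766 L1917 L1918 L3765 L3767 L7498 L7500
theorem L14883 : sm ge N2810 = N1459 := flp_e L14882
theorem L14884 : sm gg N2663 = N2810 := ded_17_0 L14880 L7507 L13987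
theorem L14886 : sm gg N1459 = N2811 := rfl
theorem L14887 : sm gg N2811 = N1459 := flp_g L14886
theorem L14888 : sm ga N2811 = N2663 := ded_12_1 L14884 L14878 L14886
theorem L14890 : sm gb N2811 = N1461 := ded_17_1 L7509 L7498 L14886
theorem L14895 : sm gf N2642 = N2811 := ded_28_0 L14887 L14006 L14000 L13894
theorem L14896 : sm gf N2811 = N2642 := flp_f L14895
theorem L14916 : sm gb N1465 = N2815 := rfl
theorem L14917 : sm gb N2815 = N1465 := flp_b L14916
theorem L14918 : sm gc N2815 = N1469 := ded_13_2 L7560 L3788 L3786 L7543 L14916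
theorem L14920 : sm gd N1465 = N2816 := rfl
theorem L14921 : sm gd N2816 = N1465 := flp_d L14920
theorem L14922 : sm ge N1465 = N2817 := rfl
theorem L14923 : sm ge N2817 = N1465 := flp_e L14922
theorem L14924 : sm gc N2817 = N1466 := ded_19_1 L7546 L7543 L14922
theorem L14925 : sm gc N1466 = N2817 := flp_c L14924
theorem L14926 : sm gf N1465 = N2818 := rfl
theorem L14927 : sm gf N2818 = N1465 := flp_f L14926
theorem L14928 : sm gc N2818 = N1467 := ded_20_1 L7550 L7543 L14926
theorem L14929 : sm gc N1467 = N2818 := flp_c L14928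
theorem L14930 : sm gg N1465 = N2819 := rfl
theorem L14931 : sm gg N2819 = N1465 := flp_g L14930
theorem L14932 : sm gc N2819 = N1468 := ded_21_1 L7556 L7543 L14930
theorem L14934 : sm gf N2819 = N1740 := ded_31_1 L8903 L4401 L3294 L3292 L1665 L845 L493 L234 L229 L497 L975 L1922 L3783 L7543 L14930
theorem L14935 : sm gf N1740 = N2819 := flp_f L14934
theorem L14936 : sm gb N1743 = N2819 := ded_16_3 L14934 L8904 L8916
theorem L14938 : sm gg N2815 = N1743 := ded_17_0 L14936 L14931 L14916
theorem L14939 : sm gg N1743 = N2815 := flp_g L14938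
theorem L14940 : sm gf N1466 = N2820 := rfl
theorem L14941 : sm gf N2820 = N1466 := flp_f L14940
theorem L14942 : sm gb N2820 = N1474 := ded_16_1 L7588 L7548 L14940
theorem L14943 : sm gb N1474 = N2820 := flp_b L14942
theorem L14944 : sm ge N2820 = N1467 := ded_25_1 L7550 L7545 L14940
theorem L14945 : sm ge N1467 = N2820 := flp_e L14944
theorem L14946 : sm gg N1466 = N2821 := rfl
theorem L14947 : sm gg N2821 = N1466 := flp_g L14946
theorem L14948 : sm gb N2821 = N1475 := ded_17_1 L7594 L7548 L14946
theorem L14949 : sm gb N1475 = N2821 := flp_b L14948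
theorem L14950 : sm ge N2821 = N1468 := ded_26_1 L7556 L7545 L14946
theorem L14951 : sm ge N1468 = N2821 := flp_e L14950
theorem L14952 : sm gg N1467 = N2822 := rfl
theorem L14953 : sm gg N2822 = N1467 := flp_g L14952
theorem L14954 : sm gb N2822 = N1476 := ded_17_1 L7600 L7552 L14952
theorem L14955 : sm gb N1476 = N2822 := flp_b L14954
theorem L14956 : sm gf N2821 = N2822 := ded_28_0 L14953 L7550 L7555 L14951
theorem L14957 : sm gf N2822 = N2821 := flp_f L14956
theorem L14958 : sm gf N1468 = N2823 := rfl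
theorem L14959 : sm gf N2823 = N1468 := flp_f L14958
theorem L14960 : sm gb N2823 = N1478 := ded_16_1 L7612 L7558 L14958
theorem L14961 : sm gb N1478 = N2823 := flp_b L14960
theorem L14962 : sm gc N2823 = N1740 := ded_20_1 L14935 L14932 L14958
theorem L14963 : sm gc N1740 = N2823 := flp_c L14962
theorem L14964 : sm ge N2823 = N2822 := ded_25_1 L14957 L14950 L14958
theorem L14965 : sm ge N2822 = N2823 := flp_e L14964
theorem L14966 : sm gg N2823 = N2820 := ded_28_3 L14944 L7550 L7555 L14958
theorem L14967 : sm gg N2820 = N2823 := flp_g L14966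
theorem L14968 : sm ga N1469 = N2824 := rfl
theorem L14969 : sm ga N2824 = N1469 := flp_a L14968
theorem L14970 : sm gd N2824 = N2544 := ded_9_2 L13454 L7562 L14968
theorem L14971 : sm gd N2544 = N2824 := flp_d L14970
theorem L14972 : sm ge N1469 = N2825 := rfl
theorem L14973 : sm ge N2825 = N1469 := flp_e L14972
theorem L14974 : sm gb N2825 = N1470 := ded_15_1 L7564 L7559 L14972
theorem L14975 : sm gb N1470 = N2825 := flp_b L14974
theorem L14976 : sm gf N1469 = N2826 := rfl
theorem L14977 : sm gf N2826 = N1469 := flp_f L14976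
theorem L14978 : sm gb N2826 = N1471 := ded_16_1 L7570 L7559 L14976
theorem L14979 : sm gb N1471 = N2826 := flp_b L14978
theorem L14980 : sm gg N1469 = N2827 := rfl
theorem L14981 : sm gg N2827 = N1469 := flp_g L14980
theorem L14982 : sm gb N2827 = N1472 := ded_17_1 L7576 L7559 L14980
theorem L14983 : sm gb N1472 = N2827 := flp_b L14982
theorem L14984 : sm gc N2827 = N1743 := ded_21_1 L14939 L14918 L14980
theorem L14986 : sm gf N1741 = N2827 := ded_20_0 L14984 L8917 L8906
theorem L14987 : sm gf N2827 = N1741 := flp_f L14986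
theorem L14988 : sm gd N1470 = N2828 := rfl
theorem L14989 : sm gd N2828 = N1470 := flp_d L14988
theorem L14990 : sm ga N2828 = N1506 := ded_9_1 L7764 L7566 L14988
theorem L14991 : sm ga N1506 = N2828 := flp_a L14990
theorem L14992 : sm ge N2828 = N2548 := ded_22_2 L13468 L6715 L3791 L7563 L14988
theorem L14993 : sm ge N2548 = N2828 := flp_e L14992
theorem L14994 : sm gf N1470 = N2829 := rfl
theorem L14995 : sm gf N2829 = N1470 := flp_f L14994
theorem L14996 : sm ga N2829 = N1507 := ded_11_1 L7766 L7566 L14994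
theorem L14997 : sm ga N1507 = N2829 := flp_a L14996
theorem L14998 : sm gc N2829 = N1474 := ded_20_1 L7588 L7568 L14994
theorem L14999 : sm gc N1474 = N2829 := flp_c L14998
theorem L15000 : sm ge N2829 = N1471 := ded_25_1 L7570 L7563 L14994
theorem L15001 : sm ge N1471 = N2829 := flp_e L15000
theorem L15002 : sm gg N1470 = N2830 := rfl
theorem L15003 : sm gg N2830 = N1470 := flp_g L15002
theorem L15004 : sm ga N2830 = N1508 := ded_12_1 L7772 L7566 L15002
theorem L15005 : sm ga N1508 = N2830 := flp_a L15004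
theorem L15006 : sm gc N2830 = N1475 := ded_21_1 L7594 L7568 L15002
theorem L15007 : sm gc N1475 = N2830 := flp_c L15006
theorem L15008 : sm ge N2830 = N1472 := ded_26_1 L7576 L7563 L15002
theorem L15009 : sm ge N1472 = N2830 := flp_e L15008
theorem L15010 : sm gd N1471 = N2831 := rfl
theorem L15011 : sm gd N2831 = N1471 := flp_d L15010
theorem L15012 : sm ga N2831 = N1509 := ded_9_1 L7778 L7572 L15010
theorem L15013 : sm ga N1509 = N2831 := flp_a L15012
theorem L15014 : sm gf N2831 = N2551 := ded_23_2 L13482 L6719 L3791 L7569 L15010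
theorem L15015 : sm gf N2551 = N2831 := flp_f L15014
theorem L15016 : sm gg N1471 = N2832 := rfl
theorem L15017 : sm gg N2832 = N1471 := flp_g L15016
theorem L15018 : sm ga N2832 = N1510 := ded_12_1 L7780 L7572 L15016
theorem L15019 : sm ga N1510 = N2832 := flp_a L15018
theorem L15020 : sm gc N2832 = N1476 := ded_21_1 L7600 L7574 L15016
theorem L15021 : sm gc N1476 = N2832 := flp_c L15020
theorem L15022 : sm gf N2830 = N2832 := ded_28_0 L15017 L7570 L7575 L15009
theorem L15023 : sm gf N2832 = N2830 := flp_f L15022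
theorem L15024 : sm gd N1472 = N2833 := rfl
theorem L15025 : sm gd N2833 = N1472 := flp_d L15024
theorem L15026 : sm ga N2833 = N1511 := ded_9_1 L7786 L7578 L15024
theorem L15027 : sm ga N1511 = N2833 := flp_a L15026
theorem L15028 : sm gg N2833 = N2553 := ded_24_2 L13490 L6723 L3791 L7575 L15024
theorem L15029 : sm gg N2553 = N2833 := flp_g L15028
theorem L15030 : sm gf N1472 = N2834 := rfl
theorem L15031 : sm gf N2834 = N1472 := flp_f L15030
theorem L15034 : sm gb N2834 = N1741 := ded_16_1 L14986 L14982 L15030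
theorem L15036 : sm gc N2834 = N1478 := ded_20_1 L7612 L7580 L15030
theorem L15038 : sm ge N2834 = N2832 := ded_25_1 L15023 L15008 L15030
theorem L15039 : sm ge N2832 = N2834 := flp_e L15038
theorem L15040 : sm gg N2834 = N2829 := ded_28_3 L15000 L7570 L7575 L15030
theorem L15041 : sm gg N2829 = N2834 := flp_g L15040
theorem L15042 : sm gc N1473 = N2835 := rfl
theorem L15043 : sm gc N2835 = N1473 := flp_c L15042
theorem L15044 : sm ga N2835 = N1513 := ded_8_1 L7796 L7584 L15042
theorem L15045 : sm ga N1513 = N2835 := flp_a L15044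
theorem L15046 : sm ge N2835 = N1479 := ded_19_2 L7620 L7586 L15042
theorem L15047 : sm ge N1479 = N2835 := flp_e L15046
theorem L15048 : sm gb N2824 = N2835 := ded_29_7 L15043 L7585 L3809 L3838 L7707 L7709 L14916 L14918 L14968
theorem L15049 : sm gb N2835 = N2824 := flp_b L15048
theorem L15050 : sm gd N2835 = N2555 := ded_14_2 L13504 L14971 L15048
theorem L15051 : sm gd N2555 = N2835 := flp_d L15050
theorem L15052 : sm gc N1506 = N2548 := ded_30_0 L13468 L6716 L6726 L13499 L15051 L15043 L7582 L7568 L14988 L14990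
theorem L15053 : sm gc N2548 = N1506 := flp_c L15052
theorem L15054 : sm gf N1473 = N2836 := rfl
theorem L15055 : sm gf N2836 = N1473 := flp_f L15054
theorem L15056 : sm ga N2836 = N1514 := ded_11_1 L7802 L7584 L15054
theorem L15057 : sm ga N1514 = N2836 := flp_a L15056
theorem L15058 : sm ge N2836 = N1480 := ded_25_1 L7624 L7586 L15054
theorem L15059 : sm ge N1480 = N2836 := flp_e L15058
theorem L15060 : sm gg N1473 = N2837 := rfl
theorem L15061 : sm gg N2837 = N1473 := flp_g L15060
theorem L15062 : sm ga N2837 = N1515 := ded_12_1 L7806 L7584 L15060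
theorem L15063 : sm ga N1515 = N2837 := flp_a L15062
theorem L15064 : sm ge N2837 = N1481 := ded_26_1 L7630 L7586 L15060
theorem L15065 : sm ge N1481 = N2837 := flp_e L15064
theorem L15066 : sm gd N1474 = N2838 := rfl
theorem L15067 : sm gd N2838 = N1474 := flp_d L15066
theorem L15068 : sm ga N2838 = N1516 := ded_9_1 L7810 L7590 L15066
theorem L15069 : sm ga N1516 = N2838 := flp_a L15068
theorem L15070 : sm ge N2838 = N1516 := ded_22_2 L7810 L3865 L3802 L7592 L15066
theorem L15071 : sm ge N1516 = N2838 := flp_e L15070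
theorem L15072 : sm gd N1475 = N2839 := rfl
theorem L15073 : sm gd N2839 = N1475 := flp_d L15072
theorem L15074 : sm ga N2839 = N1517 := ded_9_1 L7812 L7596 L15072
theorem L15075 : sm ga N1517 = N2839 := flp_a L15074
theorem L15076 : sm gd N1476 = N2840 := rfl
theorem L15077 : sm gd N2840 = N1476 := flp_d L15076
theorem L15078 : sm ga N2840 = N1518 := ded_9_1 L7814 L7602 L15076
theorem L15079 : sm ga N1518 = N2840 := flp_a L15078
theorem L15080 : sm gg N2840 = N1518 := ded_24_2 L7814 L3872 L3802 L7599 L15076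
theorem L15081 : sm gg N1518 = N2840 := flp_g L15080
theorem L15082 : sm gc N1477 = N2841 := rfl
theorem L15083 : sm gc N2841 = N1477 := flp_c L15082
theorem L15084 : sm ga N2841 = N1489 := ded_8_1 L7671 L7608 L15082
theorem L15085 : sm ga N1489 = N2841 := flp_a L15084
theorem L15086 : sm gg N2841 = N1482 := ded_21_2 L7638 L7610 L15082
theorem L15087 : sm gg N1482 = N2841 := flp_g L15086
theorem L15088 : sm ge N1477 = N2842 := rfl
theorem L15089 : sm ge N2842 = N1477 := flp_e L15088
theorem L15090 : sm ga N2842 = N1492 := ded_10_1 L7691 L7608 L15088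
theorem L15091 : sm ga N1492 = N2842 := flp_a L15090
theorem L15092 : sm gb N2842 = N2837 := ded_15_1 L15064 L7633 L15088
theorem L15093 : sm gb N2837 = N2842 := flp_b L15092
theorem L15094 : sm gg N2842 = N1483 := ded_26_2 L7642 L7610 L15088
theorem L15095 : sm gg N1483 = N2842 := flp_g L15094
theorem L15096 : sm gf N1477 = N2843 := rfl
theorem L15097 : sm gf N2843 = N1477 := flp_f L15096
theorem L15098 : sm ga N2843 = N1494 := ded_11_1 L7700 L7608 L15096
theorem L15099 : sm ga N1494 = N2843 := flp_a L15098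
theorem L15100 : sm gd N1478 = N2844 := rfl
theorem L15101 : sm gd N2844 = N1478 := flp_d L15100
theorem L15102 : sm ga N2844 = N1519 := ded_9_1 L7816 L7614 L15100
theorem L15103 : sm ga N1519 = N2844 := flp_a L15102
theorem L15104 : sm gb N1479 = N2845 := rfl
theorem L15105 : sm gb N2845 = N1479 := flp_b L15104
theorem L15106 : sm ge N2845 = N2824 := ded_15_2 L15048 L15046 L15104
theorem L15107 : sm ge N2824 = N2845 := flp_e L15106
theorem L15108 : sm ga N2845 = N2825 := ded_7_1 L14974 L7565 L7736 L7821 L7818 L7622 L15104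
theorem L15109 : sm ga N2825 = N2845 := flp_a L15108
theorem L15110 : sm gd N1479 = N2846 := rfl
theorem L15111 : sm gd N2846 = N1479 := flp_d L15110
theorem L15112 : sm ga N2846 = N1521 := ded_9_1 L7824 L7622 L15110
theorem L15113 : sm ga N1521 = N2846 := flp_a L15112
theorem L15114 : sm ge N2846 = N2569 := ded_22_2 L13548 L13502 L15051 L15046 L15110
theorem L15115 : sm ge N2569 = N2846 := flp_e L15114
theorem L15116 : sm gc N2846 = N2846 := ded_30_0 L15111 L7620 L3808 L1933 L962 L982 L1973 L3881 L7823 L15113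
theorem L15117 : sm gf N1479 = N2847 := rfl
theorem L15118 : sm gf N2847 = N1479 := flp_f L15117
theorem L15119 : sm ga N2847 = N1522 := ded_11_1 L7827 L7622 L15117
theorem L15120 : sm ga N1522 = N2847 := flp_a L15119
theorem L15121 : sm gc N2847 = N1480 := ded_20_1 L7624 L7619 L15117
theorem L15122 : sm gc N1480 = N2847 := flp_c L15121
theorem L15123 : sm gg N1479 = N2848 := rfl
theorem L15124 : sm gg N2848 = N1479 := flp_g L15123
theorem L15125 : sm ga N2848 = N1523 := ded_12_1 L7831 L7622 L15123
theorem L15126 : sm ga N1523 = N2848 := flp_a L15125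
theorem L15127 : sm gc N2848 = N1481 := ded_21_1 L7630 L7619 L15123
theorem L15128 : sm gc N1481 = N2848 := flp_c L15127
theorem L15129 : sm gg N1480 = N2849 := rfl
theorem L15130 : sm gg N2849 = N1480 := flp_g L15129
theorem L15131 : sm ga N2849 = N1524 := ded_12_1 L7835 L7626 L15129
theorem L15132 : sm ga N1524 = N2849 := flp_a L15131
theorem L15133 : sm gf N2837 = N2849 := ded_28_0 L15130 L7624 L7629 L15065
theorem L15134 : sm gf N2849 = N2837 := flp_f L15133
theorem L15135 : sm gf N1481 = N2850 := rfl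
theorem L15136 : sm gf N2850 = N1481 := flp_f L15135
theorem L15137 : sm ga N2850 = N1525 := ded_11_1 L7839 L7632 L15135
theorem L15138 : sm ga N1525 = N2850 := flp_a L15137
theorem L15139 : sm gb N2850 = N2843 := ded_16_1 L15097 L7634 L15135
theorem L15140 : sm gb N2843 = N2850 := flp_b L15139
theorem L15141 : sm ge N2850 = N2849 := ded_25_1 L15134 L15064 L15135
theorem L15142 : sm ge N2849 = N2850 := flp_e L15141
theorem L15143 : sm gg N2850 = N2836 := ded_28_3 L15058 L7624 L7629 L15135
theorem L15144 : sm gg N2836 = N2850 := flp_g L15143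
theorem L15145 : sm gb N1482 = N2851 := rfl
theorem L15146 : sm gb N2851 = N1482 := flp_b L15145
theorem L15147 : sm gc N2851 = N2845 := ded_13_2 L15105 L7620 L3816 L7637 L15145
theorem L15148 : sm gc N2845 = N2851 := flp_c L15147
theorem L15149 : sm gd N1482 = N2852 := rfl
theorem L15150 : sm gd N2852 = N1482 := flp_d L15149
theorem L15151 : sm ga N2852 = N1486 := ded_9_1 L7660 L7640 L15149
theorem L15152 : sm ga N1486 = N2852 := flp_a L15151
theorem L15153 : sm gc N1486 = N2852 := ded_30_0 L15150 L7638 L3812 L1945 L970 L1946 L3811 L7637 L15149 L15151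
theorem L15154 : sm gc N2852 = N1486 := flp_c L15153
theorem L15155 : sm ge N1482 = N2853 := rfl
theorem L15156 : sm ge N2853 = N1482 := flp_e L15155
theorem L15157 : sm ga N2853 = N1487 := ded_10_1 L7662 L7640 L15155
theorem L15158 : sm ga N1487 = N2853 := flp_a L15157
theorem L15159 : sm gc N2853 = N1483 := ded_19_1 L7642 L7637 L15155
theorem L15160 : sm gc N1483 = N2853 := flp_c L15159
theorem L15161 : sm gf N1482 = N2854 := rfl
theorem L15162 : sm gf N2854 = N1482 := flp_f L15161
theorem L15163 : sm ga N2854 = N1488 := ded_11_1 L7666 L7640 L15161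
theorem L15164 : sm ga N1488 = N2854 := flp_a L15163
theorem L15165 : sm gc N2854 = N1484 := ded_20_1 L7650 L7637 L15161
theorem L15166 : sm gc N1484 = N2854 := flp_c L15165
theorem L15167 : sm gf N1483 = N2855 := rfl
theorem L15168 : sm gf N2855 = N1483 := flp_f L15167
theorem L15169 : sm ga N2855 = N1491 := ded_11_1 L7682 L7644 L15167
theorem L15170 : sm ga N1491 = N2855 := flp_a L15169
theorem L15171 : sm gb N2855 = N2836 := ded_16_1 L15055 L7646 L15167
theorem L15172 : sm gb N2836 = N2855 := flp_b L15171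
theorem L15173 : sm ge N2855 = N1484 := ded_25_1 L7650 L7641 L15167
theorem L15174 : sm ge N1484 = N2855 := flp_e L15173
theorem L15175 : sm gg N2843 = N2855 := ded_28_1 L15168 L15095 L15089 L15096
theorem L15176 : sm gg N2855 = N2843 := flp_g L15175
theorem L15177 : sm gg N1484 = N2856 := rfl
theorem L15178 : sm gg N2856 = N1484 := flp_g L15177
theorem L15179 : sm ga N2856 = N1493 := ded_12_1 L7694 L7652 L15177
theorem L15180 : sm ga N1493 = N2856 := flp_a L15179
theorem L15181 : sm gb N2856 = N2849 := ded_17_1 L15130 L7654 L15177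
theorem L15182 : sm gb N2849 = N2856 := flp_b L15181
theorem L15183 : sm ge N2856 = N2843 := ded_26_1 L15175 L15173 L15177
theorem L15184 : sm ge N2843 = N2856 := flp_e L15183
theorem L15185 : sm gf N2842 = N2856 := ded_28_0 L15178 L7650 L7610 L15088
theorem L15186 : sm gf N2856 = N2842 := flp_f L15185
theorem L15187 : sm gc N1694 = N2856 := ded_31_15 L15178 L7650 L3812 L1945 L965 L484 L230 L198 L196 L435 L866 L1720 L3457 L4297 L8690
theorem L15188 : sm gc N2856 = N1694 := flp_c L15187
theorem L15189 : sm gg N2854 = N1694 := ded_21_2 L15187 L15178 L15166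
theorem L15190 : sm gg N1694 = N2854 := flp_g L15189
theorem L15191 : sm gb N1698 = N2854 := ded_17_3 L15189 L8692 L8700
theorem L15193 : sm gf N2851 = N1698 := ded_16_0 L15191 L15162 L15145
theorem L15194 : sm gf N1698 = N2851 := flp_f L15193
theorem L15195 : sm ga N1485 = N2857 := rfl
theorem L15196 : sm ga N2857 = N1485 := flp_a L15195
theorem L15197 : sm gc N2857 = N1498 := ded_8_2 L7728 L7658 L15195
theorem L15198 : sm gc N1498 = N2857 := flp_c L15197
theorem L15199 : sm gd N1485 = N2858 := rfl
theorem L15200 : sm gd N2858 = N1485 := flp_d L15199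
theorem L15201 : sm gb N2858 = N1486 := ded_14_1 L7660 L7655 L15199
theorem L15202 : sm gb N1486 = N2858 := flp_b L15201
theorem L15203 : sm ge N1485 = N2859 := rfl
theorem L15204 : sm ge N2859 = N1485 := flp_e L15203
theorem L15205 : sm gb N2859 = N1487 := ded_15_1 L7662 L7655 L15203
theorem L15206 : sm gb N1487 = N2859 := flp_b L15205
theorem L15207 : sm gc N2859 = N1500 := ded_19_1 L7734 L7658 L15203
theorem L15208 : sm gc N1500 = N2859 := flp_c L15207
theorem L15209 : sm gf N1485 = N2860 := rfl
theorem L15210 : sm gf N2860 = N1485 := flp_f L15209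
theorem L15211 : sm gb N2860 = N1488 := ded_16_1 L7666 L7655 L15209
theorem L15212 : sm gb N1488 = N2860 := flp_b L15211
theorem L15213 : sm gc N2860 = N1501 := ded_20_1 L7738 L7658 L15209
theorem L15215 : sm gg N1485 = N2861 := rfl
theorem L15216 : sm gg N2861 = N1485 := flp_g L15215
theorem L15217 : sm gb N2861 = N1489 := ded_17_1 L7670 L7655 L15215
theorem L15218 : sm gb N1489 = N2861 := flp_b L15217
theorem L15219 : sm gc N2861 = N1502 := ded_21_1 L7742 L7658 L15215
theorem L15220 : sm gc N1502 = N2861 := flp_c L15219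
theorem L15221 : sm ge N1486 = N2862 := rfl
theorem L15222 : sm ge N2862 = N1486 := flp_e L15221
theorem L15223 : sm gf N1486 = N2863 := rfl
theorem L15224 : sm gf N2863 = N1486 := flp_f L15223
theorem L15225 : sm gg N1486 = N2864 := rfl
theorem L15226 : sm gg N2864 = N1486 := flp_g L15225
theorem L15227 : sm gd N1487 = N2865 := rfl
theorem L15228 : sm gd N2865 = N1487 := flp_d L15227
theorem L15229 : sm gf N1487 = N2866 := rfl
theorem L15230 : sm gf N2866 = N1487 := flp_f L15229
theorem L15231 : sm gc N2866 = N1491 := ded_20_1 L7682 L7664 L15229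
theorem L15232 : sm gc N1491 = N2866 := flp_c L15231
theorem L15233 : sm ge N2866 = N1488 := ded_25_1 L7666 L7661 L15229
theorem L15234 : sm ge N1488 = N2866 := flp_e L15233
theorem L15235 : sm gg N1487 = N2867 := rfl
theorem L15236 : sm gg N2867 = N1487 := flp_g L15235
theorem L15237 : sm gc N2867 = N1492 := ded_21_1 L7688 L7664 L15235
theorem L15238 : sm gc N1492 = N2867 := flp_c L15237
theorem L15239 : sm ge N2867 = N1489 := ded_26_1 L7670 L7661 L15235
theorem L15240 : sm ge N1489 = N2867 := flp_e L15239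
theorem L15241 : sm gd N1488 = N2868 := rfl
theorem L15242 : sm gd N2868 = N1488 := flp_d L15241
theorem L15243 : sm gg N1488 = N2869 := rfl
theorem L15244 : sm gg N2869 = N1488 := flp_g L15243
theorem L15245 : sm ga N2869 = N1694 := ded_12_1 L15190 L15163 L15243
theorem L15247 : sm gc N2869 = N1493 := ded_21_1 L7694 L7668 L15243
theorem L15249 : sm gf N2867 = N2869 := ded_28_0 L15244 L7666 L7669 L15240
theorem L15250 : sm gf N2869 = N2867 := flp_f L15249
theorem L15251 : sm gd N1693 = N2869 := ded_9_0 L15245 L8691 L8680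
theorem L15252 : sm gd N2869 = N1693 := flp_d L15251
theorem L15253 : sm gb N1745 = N2869 := ded_7_0 L15245 L8692 L4406 L8905 L13691 L13692 L8927
theorem L15254 : sm gb N2869 = N1745 := flp_b L15253
theorem L15255 : sm gg N2860 = N1745 := ded_17_0 L15253 L15244 L15212
theorem L15256 : sm gg N1745 = N2860 := flp_g L15255
theorem L15257 : sm gd N1489 = N2870 := rfl
theorem L15258 : sm gd N2870 = N1489 := flp_d L15257
theorem L15259 : sm gf N1489 = N2871 := rfl
theorem L15260 : sm gf N2871 = N1489 := flp_f L15259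
theorem L15261 : sm gc N2871 = N1494 := ded_20_1 L7700 L7672 L15259
theorem L15262 : sm gc N1494 = N2871 := flp_c L15261
theorem L15263 : sm ge N2871 = N2869 := ded_25_1 L15250 L15239 L15259
theorem L15264 : sm ge N2869 = N2871 := flp_e L15263
theorem L15265 : sm gg N2871 = N2866 := ded_28_3 L15233 L7666 L7669 L15259
theorem L15266 : sm gg N2866 = N2871 := flp_g L15265
theorem L15267 : sm gc N1490 = N2872 := rfl
theorem L15268 : sm gc N2872 = N1490 := flp_c L15267
theorem L15269 : sm ga N2872 = N2817 := ded_8_1 L14924 L7676 L15267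
theorem L15270 : sm ga N2817 = N2872 := flp_a L15269
theorem L15271 : sm ge N2872 = N1495 := ded_19_2 L7708 L7680 L15267
theorem L15272 : sm ge N1495 = N2872 := flp_e L15271
theorem L15273 : sm gb N2872 = N2857 := ded_13_1 L15197 L7799 L7796 L7678 L15267
theorem L15274 : sm gb N2857 = N2872 := flp_b L15273
theorem L15275 : sm gf N1490 = N2873 := rfl
theorem L15276 : sm gf N2873 = N1490 := flp_f L15275
theorem L15277 : sm ga N2873 = N2820 := ded_11_1 L14941 L7676 L15275
theorem L15278 : sm ga N2820 = N2873 := flp_a L15277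
theorem L15279 : sm gb N2873 = N1514 := ded_16_1 L7802 L7678 L15275
theorem L15280 : sm gb N1514 = N2873 := flp_b L15279
theorem L15281 : sm ge N2873 = N1496 := ded_25_1 L7712 L7680 L15275
theorem L15282 : sm ge N1496 = N2873 := flp_e L15281
theorem L15283 : sm gg N1490 = N2874 := rfl
theorem L15284 : sm gg N2874 = N1490 := flp_g L15283
theorem L15285 : sm ga N2874 = N2821 := ded_12_1 L14947 L7676 L15283
theorem L15286 : sm ga N2821 = N2874 := flp_a L15285
theorem L15287 : sm gb N2874 = N1515 := ded_17_1 L7806 L7678 L15283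
theorem L15288 : sm gb N1515 = N2874 := flp_b L15287
theorem L15289 : sm ge N2874 = N1497 := ded_26_1 L7720 L7680 L15283
theorem L15290 : sm ge N1497 = N2874 := flp_e L15289
theorem L15291 : sm gd N1491 = N2875 := rfl
theorem L15292 : sm gd N2875 = N1491 := flp_d L15291
theorem L15293 : sm gb N2875 = N1516 := ded_14_1 L7810 L7684 L15291
theorem L15294 : sm gb N1516 = N2875 := flp_b L15293
theorem L15295 : sm gd N1492 = N2876 := rfl
theorem L15296 : sm gd N2876 = N1492 := flp_d L15295
theorem L15297 : sm gb N2876 = N1517 := ded_14_1 L7812 L7690 L15295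
theorem L15298 : sm gb N1517 = N2876 := flp_b L15297
theorem L15299 : sm ge N2876 = N1517 := ded_22_2 L7812 L3869 L3832 L7692 L15295
theorem L15300 : sm ge N1517 = N2876 := flp_e L15299
theorem L15301 : sm gd N1493 = N2877 := rfl
theorem L15302 : sm gd N2877 = N1493 := flp_d L15301
theorem L15303 : sm gb N2877 = N1518 := ded_14_1 L7814 L7696 L15301
theorem L15304 : sm gb N1518 = N2877 := flp_b L15303
theorem L15305 : sm gd N1494 = N2878 := rfl
theorem L15306 : sm gd N2878 = N1494 := flp_d L15305
theorem L15307 : sm gb N2878 = N1519 := ded_14_1 L7816 L7702 L15305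
theorem L15308 : sm gb N1519 = N2878 := flp_b L15307
theorem L15309 : sm gf N2878 = N1519 := ded_23_2 L7816 L3876 L3832 L7699 L15305
theorem L15310 : sm gf N1519 = N2878 := flp_f L15309
theorem L15311 : sm gb N1495 = N2879 := rfl
theorem L15312 : sm gb N2879 = N1495 := flp_b L15311
theorem L15313 : sm ge N2879 = N2857 := ded_15_2 L15274 L15271 L15311
theorem L15314 : sm ge N2857 = N2879 := flp_e L15313
theorem L15315 : sm gc N2879 = N1520 := ded_13_2 L7818 L3882 L3838 L7707 L15311
theorem L15316 : sm gc N1520 = N2879 := flp_c L15315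
theorem L15317 : sm ga N2859 = N2879 := ded_29_6 L15312 L7708 L7680 L7675 L7547 L7568 L7565 L7736 L15208
theorem L15318 : sm ga N2879 = N2859 := flp_a L15317
theorem L15319 : sm gd N1495 = N2880 := rfl
theorem L15320 : sm gd N2880 = N1495 := flp_d L15319
theorem L15321 : sm ga N2880 = N2816 := ded_9_1 L14921 L7710 L15319
theorem L15322 : sm ga N2816 = N2880 := flp_a L15321
theorem L15323 : sm gf N1495 = N2881 := rfl
theorem L15324 : sm gf N2881 = N1495 := flp_f L15323
theorem L15325 : sm ga N2881 = N2818 := ded_11_1 L14927 L7710 L15323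
theorem L15326 : sm ga N2818 = N2881 := flp_a L15325
theorem L15327 : sm gc N2881 = N1496 := ded_20_1 L7712 L7707 L15323
theorem L15328 : sm gc N1496 = N2881 := flp_c L15327
theorem L15329 : sm gg N1495 = N2882 := rfl
theorem L15330 : sm gg N2882 = N1495 := flp_g L15329
theorem L15331 : sm ga N2882 = N2819 := ded_12_1 L14931 L7710 L15329
theorem L15332 : sm ga N2819 = N2882 := flp_a L15331
theorem L15333 : sm gc N2882 = N1497 := ded_21_1 L7720 L7707 L15329
theorem L15334 : sm gc N1497 = N2882 := flp_c L15333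
theorem L15335 : sm gf N2882 = N2601 := ded_31_1 L13689 L6826 L3430 L1704 L867 L439 L494 L486 L477 L948 L1939 L1962 L3833 L7707 L15329
theorem L15336 : sm gf N2601 = N2882 := flp_f L15335
theorem L15337 : sm gg N1496 = N2883 := rfl
theorem L15338 : sm gg N2883 = N1496 := flp_g L15337
theorem L15339 : sm ga N2883 = N2822 := ded_12_1 L14953 L7714 L15337
theorem L15340 : sm ga N2822 = N2883 := flp_a L15339
theorem L15341 : sm gb N2883 = N1524 := ded_17_1 L7835 L7716 L15337
theorem L15342 : sm gb N1524 = N2883 := flp_b L15341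
theorem L15343 : sm gf N2874 = N2883 := ded_28_0 L15338 L7712 L7719 L15290
theorem L15344 : sm gf N2883 = N2874 := flp_f L15343
theorem L15345 : sm gf N1497 = N2884 := rfl
theorem L15346 : sm gf N2884 = N1497 := flp_f L15345
theorem L15347 : sm ga N2884 = N2823 := ded_11_1 L14959 L7722 L15345
theorem L15348 : sm ga N2823 = N2884 := flp_a L15347
theorem L15349 : sm gb N2884 = N1525 := ded_16_1 L7839 L7724 L15345
theorem L15350 : sm gb N1525 = N2884 := flp_b L15349
theorem L15351 : sm gc N2884 = N2601 := ded_20_1 L15336 L15333 L15345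
theorem L15352 : sm gc N2601 = N2884 := flp_c L15351
theorem L15353 : sm ge N2884 = N2883 := ded_25_1 L15344 L15289 L15345
theorem L15354 : sm ge N2883 = N2884 := flp_e L15353
theorem L15355 : sm gg N2884 = N2873 := ded_28_3 L15281 L7712 L7719 L15345
theorem L15356 : sm gg N2873 = N2884 := flp_g L15355
theorem L15357 : sm gd N1498 = N2885 := rfl
theorem L15358 : sm gd N2885 = N1498 := flp_d L15357
theorem L15359 : sm ga N2885 = N1499 := ded_9_1 L7730 L7727 L15357
theorem L15360 : sm ga N1499 = N2885 := flp_a L15359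
theorem L15361 : sm gf N1498 = N2886 := rfl
theorem L15362 : sm gf N2886 = N1498 := flp_f L15361
theorem L15363 : sm ga N2886 = N1501 := ded_11_1 L7738 L7727 L15361
theorem L15364 : sm ga N1501 = N2886 := flp_a L15363
theorem L15365 : sm gg N1498 = N2887 := rfl
theorem L15366 : sm gg N2887 = N1498 := flp_g L15365
theorem L15367 : sm ga N2887 = N1502 := ded_12_1 L7742 L7727 L15365
theorem L15368 : sm ga N1502 = N2887 := flp_a L15367
theorem L15369 : sm gc N1499 = N2888 := rfl
theorem L15370 : sm gc N2888 = N1499 := flp_c L15369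
theorem L15371 : sm gb N2888 = N2474 := ded_13_1 L13049 L6469 L3845 L7732 L15369
theorem L15372 : sm gb N2474 = N2888 := flp_b L15371
theorem L15373 : sm ge N1499 = N2889 := rfl
theorem L15374 : sm ge N2889 = N1499 := flp_e L15373
theorem L15375 : sm gb N2889 = N1503 := ded_15_1 L7746 L7732 L15373
theorem L15376 : sm gb N1503 = N2889 := flp_b L15375
theorem L15377 : sm gf N1499 = N2890 := rfl
theorem L15378 : sm gf N2890 = N1499 := flp_f L15377
theorem L15379 : sm gb N2890 = N1504 := ded_16_1 L7752 L7732 L15377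
theorem L15380 : sm gb N1504 = N2890 := flp_b L15379
theorem L15381 : sm gg N1499 = N2891 := rfl
theorem L15382 : sm gg N2891 = N1499 := flp_g L15381
theorem L15383 : sm gb N2891 = N1505 := ded_17_1 L7758 L7732 L15381
theorem L15384 : sm gb N1505 = N2891 := flp_b L15383
theorem L15385 : sm gd N1500 = N2892 := rfl
theorem L15386 : sm gd N2892 = N1500 := flp_d L15385
theorem L15387 : sm gb N2892 = N1506 := ded_14_1 L7764 L7736 L15385
theorem L15388 : sm gb N1506 = N2892 := flp_b L15387
theorem L15389 : sm gf N1500 = N2893 := rfl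
theorem L15390 : sm gf N2893 = N1500 := flp_f L15389
theorem L15391 : sm gb N2893 = N1507 := ded_16_1 L7766 L7736 L15389
theorem L15392 : sm gb N1507 = N2893 := flp_b L15391
theorem L15393 : sm ge N2893 = N1501 := ded_25_1 L7738 L7733 L15389
theorem L15394 : sm ge N1501 = N2893 := flp_e L15393
theorem L15395 : sm gg N1500 = N2894 := rfl
theorem L15396 : sm gg N2894 = N1500 := flp_g L15395
theorem L15397 : sm gb N2894 = N1508 := ded_17_1 L7772 L7736 L15395
theorem L15398 : sm gb N1508 = N2894 := flp_b L15397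
theorem L15399 : sm ge N2894 = N1502 := ded_26_1 L7742 L7733 L15395
theorem L15400 : sm ge N1502 = N2894 := flp_e L15399
theorem L15401 : sm gd N1501 = N2895 := rfl
theorem L15402 : sm gd N2895 = N1501 := flp_d L15401
theorem L15403 : sm gb N2895 = N1509 := ded_14_1 L7778 L7740 L15401
theorem L15404 : sm gb N1509 = N2895 := flp_b L15403
theorem L15405 : sm gg N1501 = N2896 := rfl
theorem L15406 : sm gg N2896 = N1501 := flp_g L15405
theorem L15407 : sm gb N2896 = N1510 := ded_17_1 L7780 L7740 L15405
theorem L15409 : sm gc N2896 = N1745 := ded_21_1 L15256 L15213 L15405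
theorem L15410 : sm gc N1745 = N2896 := flp_c L15409
theorem L15411 : sm gf N2894 = N2896 := ded_28_0 L15406 L7738 L7741 L15400
theorem L15412 : sm gf N2896 = N2894 := flp_f L15411
theorem L15413 : sm gd N1502 = N2897 := rfl
theorem L15414 : sm gd N2897 = N1502 := flp_d L15413
theorem L15415 : sm gb N2897 = N1511 := ded_14_1 L7786 L7744 L15413
theorem L15416 : sm gb N1511 = N2897 := flp_b L15415
theorem L15417 : sm gf N1502 = N2898 := rfl
theorem L15418 : sm gf N2898 = N1502 := flp_f L15417
theorem L15419 : sm gb N2898 = N1512 := ded_16_1 L7788 L7744 L15417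
theorem L15420 : sm gb N1512 = N2898 := flp_b L15419
theorem L15421 : sm ge N2898 = N2896 := ded_25_1 L15412 L15399 L15417
theorem L15422 : sm ge N2896 = N2898 := flp_e L15421
theorem L15423 : sm gg N2898 = N2893 := ded_28_3 L15393 L7738 L7741 L15417
theorem L15424 : sm gg N2893 = N2898 := flp_g L15423
theorem L15425 : sm gd N1503 = N2899 := rfl
theorem L15426 : sm gd N2899 = N1503 := flp_d L15425
theorem L15427 : sm ga N2899 = N2548 := ded_9_1 L13468 L7748 L15425
theorem L15428 : sm ga N2548 = N2899 := flp_a L15427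
theorem L15429 : sm ge N2899 = N1506 := ded_22_2 L7764 L3848 L3841 L7745 L15425
theorem L15430 : sm ge N1506 = N2899 := flp_e L15429
theorem L15431 : sm gc N2828 = N2899 := ded_30_6 L15426 L7749 L13094 L13096 L13499 L15051 L15043 L7582 L7568 L14988
theorem L15432 : sm gc N2899 = N2828 := flp_c L15431
theorem L15433 : sm gf N1503 = N2900 := rfl
theorem L15434 : sm gf N2900 = N1503 := flp_f L15433
theorem L15435 : sm ga N2900 = N2549 := ded_11_1 L13470 L7748 L15433
theorem L15436 : sm ga N2549 = N2900 := flp_a L15435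
theorem L15437 : sm gc N2900 = N2483 := ded_20_1 L13101 L7750 L15433
theorem L15438 : sm gc N2483 = N2900 := flp_c L15437
theorem L15439 : sm ge N2900 = N1504 := ded_25_1 L7752 L7745 L15433
theorem L15440 : sm ge N1504 = N2900 := flp_e L15439
theorem L15441 : sm gg N1503 = N2901 := rfl
theorem L15442 : sm gg N2901 = N1503 := flp_g L15441
theorem L15443 : sm ga N2901 = N2550 := ded_12_1 L13476 L7748 L15441
theorem L15444 : sm ga N2550 = N2901 := flp_a L15443
theorem L15445 : sm gc N2901 = N2484 := ded_21_1 L13107 L7750 L15441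
theorem L15446 : sm gc N2484 = N2901 := flp_c L15445
theorem L15447 : sm ge N2901 = N1505 := ded_26_1 L7758 L7745 L15441
theorem L15448 : sm ge N1505 = N2901 := flp_e L15447
theorem L15449 : sm gd N1504 = N2902 := rfl
theorem L15450 : sm gd N2902 = N1504 := flp_d L15449
theorem L15451 : sm ga N2902 = N2551 := ded_9_1 L13482 L7754 L15449
theorem L15452 : sm ga N2551 = N2902 := flp_a L15451
theorem L15453 : sm gf N2902 = N1509 := ded_23_2 L7778 L3852 L3841 L7751 L15449
theorem L15454 : sm gf N1509 = N2902 := flp_f L15453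
theorem L15455 : sm gg N1504 = N2903 := rfl
theorem L15456 : sm gg N2903 = N1504 := flp_g L15455
theorem L15457 : sm ga N2903 = N2552 := ded_12_1 L13484 L7754 L15455
theorem L15458 : sm ga N2552 = N2903 := flp_a L15457
theorem L15459 : sm gc N2903 = N2486 := ded_21_1 L13119 L7756 L15455
theorem L15460 : sm gc N2486 = N2903 := flp_c L15459
theorem L15461 : sm gf N2901 = N2903 := ded_28_0 L15456 L7752 L7757 L15448
theorem L15462 : sm gf N2903 = N2901 := flp_f L15461
theorem L15463 : sm gd N1505 = N2904 := rfl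
theorem L15464 : sm gd N2904 = N1505 := flp_d L15463
theorem L15465 : sm ga N2904 = N2553 := ded_9_1 L13490 L7760 L15463
theorem L15466 : sm ga N2553 = N2904 := flp_a L15465
theorem L15467 : sm gg N2904 = N1511 := ded_24_2 L7786 L3856 L3841 L7757 L15463
theorem L15468 : sm gg N1511 = N2904 := flp_g L15467
theorem L15469 : sm gf N1505 = N2905 := rfl
theorem L15470 : sm gf N2905 = N1505 := flp_f L15469
theorem L15471 : sm ga N2905 = N2554 := ded_11_1 L13492 L7760 L15469
theorem L15472 : sm ga N2554 = N2905 := flp_a L15471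
theorem L15473 : sm gc N2905 = N2488 := ded_20_1 L13131 L7762 L15469
theorem L15474 : sm gc N2488 = N2905 := flp_c L15473
theorem L15475 : sm ge N2905 = N2903 := ded_25_1 L15462 L15447 L15469
theorem L15476 : sm ge N2903 = N2905 := flp_e L15475
theorem L15477 : sm gg N2905 = N2900 := ded_28_3 L15439 L7752 L7757 L15469
theorem L15478 : sm gg N2900 = N2905 := flp_g L15477
theorem L15479 : sm gf N1506 = N2906 := rfl
theorem L15480 : sm gf N2906 = N1506 := flp_f L15479
theorem L15481 : sm gg N1506 = N2907 := rfl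
theorem L15482 : sm gg N2907 = N1506 := flp_g L15481
theorem L15483 : sm gd N1507 = N2908 := rfl
theorem L15484 : sm gd N2908 = N1507 := flp_d L15483
theorem L15485 : sm gd N1508 = N2909 := rfl
theorem L15486 : sm gd N2909 = N1508 := flp_d L15485
theorem L15487 : sm gc N1509 = N2910 := rfl
theorem L15488 : sm gc N2910 = N1509 := flp_c L15487
theorem L15489 : sm ge N1509 = N2911 := rfl
theorem L15490 : sm ge N2911 = N1509 := flp_e L15489
theorem L15491 : sm gg N1509 = N2912 := rfl
theorem L15492 : sm gg N2912 = N1509 := flp_g L15491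
theorem L15493 : sm gd N1510 = N2913 := rfl
theorem L15494 : sm gd N2913 = N1510 := flp_d L15493
theorem L15495 : sm gc N1511 = N2914 := rfl
theorem L15496 : sm gc N2914 = N1511 := flp_c L15495
theorem L15497 : sm ge N1511 = N2915 := rfl
theorem L15498 : sm ge N2915 = N1511 := flp_e L15497
theorem L15499 : sm gf N1511 = N2916 := rfl
theorem L15500 : sm gf N2916 = N1511 := flp_f L15499
theorem L15501 : sm gd N1512 = N2917 := rfl
theorem L15502 : sm gd N2917 = N1512 := flp_d L15501
theorem L15503 : sm gc N2917 = N1524 := ded_31_3 L7835 L3884 L1974 L981 L983 L989 L970 L1946 L1940 L952 L977 L1965 L3855 L7787 L15501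
theorem L15504 : sm gc N1524 = N2917 := flp_c L15503
theorem L15505 : sm gg N1522 = N2917 := ded_21_0 L15503 L7835 L7829
theorem L15506 : sm gg N2917 = N1522 := flp_g L15505
theorem L15507 : sm gd N1513 = N2918 := rfl
theorem L15508 : sm gd N2918 = N1513 := flp_d L15507
theorem L15509 : sm ga N2918 = N2555 := ded_9_1 L15051 L15044 L15507
theorem L15510 : sm ga N2555 = N2918 := flp_a L15509
theorem L15511 : sm gb N2918 = N2885 := ded_14_1 L15358 L7799 L15507
theorem L15512 : sm gb N2885 = N2918 := flp_b L15511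
theorem L15513 : sm gc N2482 = N2918 := ded_30_0 L15508 L7796 L3860 L3850 L7763 L15052 L13468 L6716 L6726 L13097
theorem L15515 : sm ge N2489 = N2918 := ded_10_0 L15509 L13501 L13141
theorem L15516 : sm ge N2918 = N2489 := flp_e L15515
theorem L15517 : sm gf N1513 = N2919 := rfl
theorem L15518 : sm gf N2919 = N1513 := flp_f L15517
theorem L15519 : sm gb N2919 = N2886 := ded_16_1 L15362 L7799 L15517
theorem L15520 : sm gb N2886 = N2919 := flp_b L15519
theorem L15521 : sm gc N2919 = N1514 := ded_20_1 L7802 L7795 L15517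
theorem L15522 : sm gc N1514 = N2919 := flp_c L15521
theorem L15523 : sm ge N2919 = N1522 := ded_25_1 L7827 L7798 L15517
theorem L15524 : sm ge N1522 = N2919 := flp_e L15523
theorem L15525 : sm gg N1513 = N2920 := rfl
theorem L15526 : sm gg N2920 = N1513 := flp_g L15525
theorem L15527 : sm gb N2920 = N2887 := ded_17_1 L15366 L7799 L15525
theorem L15528 : sm gb N2887 = N2920 := flp_b L15527
theorem L15529 : sm gc N2920 = N1515 := ded_21_1 L7806 L7795 L15525
theorem L15530 : sm gc N1515 = N2920 := flp_c L15529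
theorem L15531 : sm ge N2920 = N1523 := ded_26_1 L7831 L7798 L15525
theorem L15532 : sm ge N1523 = N2920 := flp_e L15531
theorem L15533 : sm gf N2920 = N2917 := ded_28_2 L15506 L15524 L15518 L15525
theorem L15534 : sm gf N2917 = N2920 := flp_f L15533
theorem L15535 : sm gd N2916 = N2920 := ded_23_5 L15533 L15502 L7788 L7785 L15499
theorem L15536 : sm gd N2920 = N2916 := flp_d L15535
theorem L15537 : sm gd N1514 = N2921 := rfl
theorem L15538 : sm gd N2921 = N1514 := flp_d L15537
theorem L15539 : sm gf N2921 = N1516 := ded_23_2 L7810 L3864 L3859 L7801 L15537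
theorem L15540 : sm gf N1516 = N2921 := flp_f L15539
theorem L15541 : sm gd N1515 = N2922 := rfl
theorem L15542 : sm gd N2922 = N1515 := flp_d L15541
theorem L15543 : sm gg N2922 = N1517 := ded_24_2 L7812 L3868 L3859 L7805 L15541
theorem L15544 : sm gg N1517 = N2922 := flp_g L15543
theorem L15545 : sm gc N1516 = N2923 := rfl
theorem L15546 : sm gc N2923 = N1516 := flp_c L15545
theorem L15547 : sm gg N1516 = N2924 := rfl
theorem L15548 : sm gg N2924 = N1516 := flp_g L15547
theorem L15549 : sm gc N1517 = N2925 := rfl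
theorem L15550 : sm gc N2925 = N1517 := flp_c L15549
theorem L15551 : sm gf N1517 = N2926 := rfl
theorem L15552 : sm gf N2926 = N1517 := flp_f L15551
theorem L15553 : sm gc N1518 = N2927 := rfl
theorem L15554 : sm gc N2927 = N1518 := flp_c L15553
theorem L15555 : sm ge N1518 = N2928 := rfl
theorem L15556 : sm ge N2928 = N1518 := flp_e L15555
theorem L15557 : sm gf N1518 = N2929 := rfl
theorem L15558 : sm gf N2929 = N1518 := flp_f L15557
theorem L15559 : sm gd N2929 = N2926 := ded_23_1 L15552 L7812 L3873 L7813 L15557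
theorem L15560 : sm gd N2926 = N2929 := flp_d L15559
theorem L15561 : sm gc N1519 = N2930 := rfl
theorem L15562 : sm gc N2930 = N1519 := flp_c L15561
theorem L15563 : sm ge N1519 = N2931 := rfl
theorem L15564 : sm ge N2931 = N1519 := flp_e L15563
theorem L15565 : sm gd N2931 = N2928 := ded_22_1 L15556 L7814 L3878 L7815 L15563
theorem L15566 : sm gd N2928 = N2931 := flp_d L15565
theorem L15567 : sm gg N1519 = N2932 := rfl
theorem L15568 : sm gg N2932 = N1519 := flp_g L15567
theorem L15569 : sm gd N2932 = N2924 := ded_24_1 L15548 L7810 L3880 L7815 L15567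
theorem L15570 : sm gd N2924 = N2932 := flp_d L15569
theorem L15571 : sm gd N1520 = N2933 := rfl
theorem L15573 : sm ga N2933 = N2892 := ded_9_1 L15386 L7821 L15571
theorem L15574 : sm ga N2892 = N2933 := flp_a L15573
theorem L15575 : sm gb N2933 = N1521 := ded_14_1 L7824 L7817 L15571
theorem L15576 : sm gb N1521 = N2933 := flp_b L15575
theorem L15577 : sm gf N1520 = N2934 := rfl
theorem L15578 : sm gf N2934 = N1520 := flp_f L15577
theorem L15579 : sm ga N2934 = N2893 := ded_11_1 L15390 L7821 L15577
theorem L15580 : sm ga N2893 = N2934 := flp_a L15579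
theorem L15581 : sm gb N2934 = N1522 := ded_16_1 L7827 L7817 L15577
theorem L15582 : sm gb N1522 = N2934 := flp_b L15581
theorem L15583 : sm ge N2934 = N2886 := ded_25_1 L15362 L7820 L15577
theorem L15584 : sm ge N2886 = N2934 := flp_e L15583
theorem L15585 : sm gg N1520 = N2935 := rfl
theorem L15586 : sm gg N2935 = N1520 := flp_g L15585
theorem L15587 : sm ga N2935 = N2894 := ded_12_1 L15396 L7821 L15585
theorem L15588 : sm ga N2894 = N2935 := flp_a L15587
theorem L15589 : sm gb N2935 = N1523 := ded_17_1 L7831 L7817 L15585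
theorem L15590 : sm gb N1523 = N2935 := flp_b L15589
theorem L15591 : sm ge N2935 = N2887 := ded_26_1 L15366 L7820 L15585
theorem L15592 : sm ge N2887 = N2935 := flp_e L15591
theorem L15593 : sm ge N1521 = N2936 := rfl
theorem L15594 : sm ge N2936 = N1521 := flp_e L15593
theorem L15595 : sm ga N2936 = N2569 := ded_10_1 L15115 L15112 L15593
theorem L15596 : sm ga N2569 = N2936 := flp_a L15595
theorem L15597 : sm gc N2936 = N2936 := ded_19_1 L15594 L7825 L15593
theorem L15598 : sm gd N2936 = N2489 := ded_22_1 L15515 L15508 L7797 L7823 L15593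
theorem L15599 : sm gd N2489 = N2936 := flp_d L15598
theorem L15600 : sm gf N1521 = N2937 := rfl
theorem L15601 : sm gf N2937 = N1521 := flp_f L15600
theorem L15603 : sm gg N1521 = N2938 := rfl
theorem L15604 : sm gg N2938 = N1521 := flp_g L15603
theorem L15606 : sm gd N1522 = N2939 := rfl
theorem L15607 : sm gd N2939 = N1522 := flp_d L15606
theorem L15608 : sm gg N2939 = N2908 := ded_24_2 L15484 L7794 L15501 L15506 L15606
theorem L15609 : sm gg N2908 = N2939 := flp_g L15608
theorem L15610 : sm gd N1523 = N2940 := rfl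
theorem L15611 : sm gd N2940 = N1523 := flp_d L15610
theorem L15612 : sm gf N1523 = N2941 := rfl
theorem L15613 : sm gf N2941 = N1523 := flp_f L15612
theorem L15614 : sm gc N2941 = N1525 := ded_20_1 L7839 L7833 L15612
theorem L15615 : sm gc N1525 = N2941 := flp_c L15614
theorem L15616 : sm ge N2941 = N2917 := ded_25_1 L15534 L15531 L15612
theorem L15617 : sm ge N2917 = N2941 := flp_e L15616
theorem L15618 : sm gg N2941 = N2919 := ded_28_3 L15523 L7827 L7830 L15612
theorem L15619 : sm gg N2919 = N2941 := flp_g L15618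
theorem L15620 : sm gd N1524 = N2942 := rfl
theorem L15621 : sm gd N2942 = N1524 := flp_d L15620
theorem L15622 : sm gd N1525 = N2943 := rfl
theorem L15623 : sm gd N2943 = N1525 := flp_d L15622
theorem L15624 : sm gc N1526 = N2944 := rfl
theorem L15625 : sm gc N2944 = N1526 := flp_c L15624
theorem L15626 : sm ge N1526 = N2945 := rfl
theorem L15627 : sm ge N2945 = N1526 := flp_e L15626
theorem L15628 : sm gb N2945 = N2945 := ded_15_1 L15627 L7846 L15626
theorem L15629 : sm gd N2945 = N2945 := ded_22_1 L15627 L7845 L3889 L7844 L15626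
theorem L15630 : sm gf N1526 = N2946 := rfl
theorem L15631 : sm gf N2946 = N1526 := flp_f L15630
theorem L15632 : sm gb N2946 = N2946 := ded_16_1 L15631 L7846 L15630
theorem L15633 : sm gd N2946 = N2946 := ded_23_1 L15631 L7845 L3890 L7844 L15630
theorem L15634 : sm gg N1526 = N2947 := rfl
theorem L15635 : sm gg N2947 = N1526 := flp_g L15634
theorem L15636 : sm gb N2947 = N2947 := ded_17_1 L15635 L7846 L15634
theorem L15637 : sm gc N1527 = N2948 := rfl
theorem L15638 : sm gc N2948 = N1527 := flp_c L15637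
theorem L15639 : sm ga N2948 = N2944 := ded_8_1 L15625 L7850 L15637
theorem L15640 : sm ga N2944 = N2948 := flp_a L15639
theorem L15641 : sm ge N1527 = N2949 := rfl
theorem L15643 : sm ga N2949 = N2945 := ded_10_1 L15627 L7850 L15641
theorem L15644 : sm ga N2945 = N2949 := flp_a L15643
theorem L15647 : sm gf N1527 = N2950 := rfl
theorem L15648 : sm gf N2950 = N1527 := flp_f L15647
theorem L15649 : sm ga N2950 = N2946 := ded_11_1 L15631 L7850 L15647
theorem L15650 : sm ga N2946 = N2950 := flp_a L15649
theorem L15653 : sm gg N1527 = N2951 := rfl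
theorem L15654 : sm gg N2951 = N1527 := flp_g L15653
theorem L15655 : sm ga N2951 = N2947 := ded_12_1 L15635 L7850 L15653
theorem L15656 : sm ga N2947 = N2951 := flp_a L15655
theorem L15657 : sm gb N2951 = N2951 := ded_17_1 L15654 L7851 L15653
theorem L15658 : sm gd N2951 = N2947 := ded_24_1 L15635 L7845 L3899 L7847 L15653
theorem L15659 : sm gd N2947 = N2951 := flp_d L15658
theorem L15660 : sm gc N1528 = N2952 := rfl
theorem L15661 : sm gc N2952 = N1528 := flp_c L15660
theorem L15662 : sm ga N2952 = N1583 := ded_8_1 L8185 L7855 L15660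
theorem L15663 : sm ga N1583 = N2952 := flp_a L15662
theorem L15664 : sm gf N2952 = N1530 := ded_20_2 L7869 L7859 L15660
theorem L15665 : sm gf N1530 = N2952 := flp_f L15664
theorem L15666 : sm ge N1528 = N2953 := rfl
theorem L15667 : sm ge N2953 = N1528 := flp_e L15666
theorem L15668 : sm ga N2953 = N1584 := ded_10_1 L8189 L7855 L15666
theorem L15669 : sm ga N1584 = N2953 := flp_a L15668
theorem L15670 : sm gb N2953 = N1531 := ded_15_1 L7873 L7857 L15666
theorem L15671 : sm gb N1531 = N2953 := flp_b L15670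
theorem L15672 : sm gf N2953 = N1531 := ded_25_2 L7873 L7859 L15666
theorem L15673 : sm gf N1531 = N2953 := flp_f L15672
theorem L15674 : sm gd N2953 = N1531 := ded_22_1 L7873 L3922 L3910 L7852 L15666
theorem L15675 : sm gd N1531 = N2953 := flp_d L15674
theorem L15676 : sm gg N1528 = N2954 := rfl
theorem L15677 : sm gg N2954 = N1528 := flp_g L15676
theorem L15678 : sm ga N2954 = N1585 := ded_12_1 L8196 L7855 L15676
theorem L15679 : sm ga N1585 = N2954 := flp_a L15678
theorem L15680 : sm gb N2954 = N1532 := ded_17_1 L7877 L7857 L15676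
theorem L15681 : sm gb N1532 = N2954 := flp_b L15680
theorem L15682 : sm gc N1529 = N2955 := rfl
theorem L15683 : sm gc N2955 = N1529 := flp_c L15682
theorem L15684 : sm ga N2955 = N1586 := ded_8_1 L8199 L7863 L15682
theorem L15685 : sm ga N1586 = N2955 := flp_a L15684
theorem L15686 : sm gg N2955 = N1534 := ded_21_2 L7885 L7867 L15682
theorem L15687 : sm gg N1534 = N2955 := flp_g L15686
theorem L15688 : sm ge N1529 = N2956 := rfl
theorem L15689 : sm ge N2956 = N1529 := flp_e L15688
theorem L15690 : sm ga N2956 = N1587 := ded_10_1 L8203 L7863 L15688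
theorem L15691 : sm ga N1587 = N2956 := flp_a L15690
theorem L15692 : sm gb N2956 = N1535 := ded_15_1 L7889 L7865 L15688
theorem L15693 : sm gb N1535 = N2956 := flp_b L15692
theorem L15694 : sm gg N2956 = N1535 := ded_26_2 L7889 L7867 L15688
theorem L15695 : sm gg N1535 = N2956 := flp_g L15694
theorem L15696 : sm gd N2956 = N1535 := ded_22_1 L7889 L3934 L3920 L7860 L15688
theorem L15697 : sm gd N1535 = N2956 := flp_d L15696
theorem L15698 : sm gf N1529 = N2957 := rfl
theorem L15699 : sm gf N2957 = N1529 := flp_f L15698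
theorem L15700 : sm ga N2957 = N1588 := ded_11_1 L8210 L7863 L15698
theorem L15701 : sm ga N1588 = N2957 := flp_a L15700
theorem L15702 : sm gb N2957 = N1536 := ded_16_1 L7893 L7865 L15698
theorem L15703 : sm gb N1536 = N2957 := flp_b L15702
theorem L15704 : sm gb N1530 = N2958 := rfl
theorem L15705 : sm gb N2958 = N1530 := flp_b L15704
theorem L15706 : sm gd N1530 = N2959 := rfl
theorem L15707 : sm gd N2959 = N1530 := flp_d L15706
theorem L15708 : sm ga N2959 = N1590 := ded_9_1 L8216 L7871 L15706
theorem L15709 : sm ga N1590 = N2959 := flp_a L15708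
theorem L15710 : sm ge N1530 = N2960 := rfl
theorem L15711 : sm ge N2960 = N1530 := flp_e L15710
theorem L15712 : sm ga N2960 = N1591 := ded_10_1 L8218 L7871 L15710
theorem L15713 : sm ga N1591 = N2960 := flp_a L15712
theorem L15714 : sm gc N2960 = N1531 := ded_19_1 L7873 L7868 L15710
theorem L15715 : sm gc N1531 = N2960 := flp_c L15714
theorem L15716 : sm gg N1530 = N2961 := rfl
theorem L15717 : sm gg N2961 = N1530 := flp_g L15716
theorem L15718 : sm ga N2961 = N1592 := ded_12_1 L8222 L7871 L15716
theorem L15719 : sm ga N1592 = N2961 := flp_a L15718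
theorem L15720 : sm gc N2961 = N1532 := ded_21_1 L7877 L7868 L15716
theorem L15721 : sm gc N1532 = N2961 := flp_c L15720
theorem L15722 : sm gg N1531 = N2962 := rfl
theorem L15723 : sm gg N2962 = N1531 := flp_g L15722
theorem L15724 : sm ga N2962 = N1593 := ded_12_1 L8226 L7875 L15722
theorem L15725 : sm ga N1593 = N2962 := flp_a L15724
theorem L15726 : sm ge N2962 = N1532 := ded_26_1 L7877 L7872 L15722
theorem L15727 : sm ge N1532 = N2962 := flp_e L15726
theorem L15728 : sm gf N2962 = N2954 := ded_28_2 L15677 L15666 L15672 L15722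
theorem L15729 : sm gf N2954 = N2962 := flp_f L15728
theorem L15730 : sm gd N1532 = N2963 := rfl
theorem L15731 : sm gd N2963 = N1532 := flp_d L15730
theorem L15732 : sm ga N2963 = N1594 := ded_9_1 L8233 L7879 L15730
theorem L15733 : sm ga N1594 = N2963 := flp_a L15732
theorem L15734 : sm gg N2963 = N1533 := ded_24_2 L7881 L3926 L3921 L7876 L15730
theorem L15735 : sm gg N1533 = N2963 := flp_g L15734
theorem L15736 : sm gf N1532 = N2964 := rfl
theorem L15737 : sm gf N2964 = N1532 := flp_f L15736
theorem L15738 : sm ga N2964 = N1595 := ded_11_1 L8238 L7879 L15736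
theorem L15739 : sm ga N1595 = N2964 := flp_a L15738
theorem L15740 : sm gb N2964 = N2962 := ded_16_1 L15728 L15680 L15736
theorem L15741 : sm gb N2962 = N2964 := flp_b L15740
theorem L15742 : sm ge N2964 = N2954 := ded_25_1 L15729 L15726 L15736
theorem L15743 : sm ge N2954 = N2964 := flp_e L15742
theorem L15744 : sm gg N2964 = N2953 := ded_28_3 L15667 L7858 L7876 L15736
theorem L15745 : sm gg N2953 = N2964 := flp_g L15744
theorem L15746 : sm gc N1533 = N2965 := rfl
theorem L15747 : sm gc N2965 = N1533 := flp_c L15746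
theorem L15748 : sm ga N2965 = N1596 := ded_8_1 L8245 L7883 L15746
theorem L15749 : sm ga N1596 = N2965 := flp_a L15748
theorem L15750 : sm ge N1533 = N2966 := rfl
theorem L15751 : sm ge N2966 = N1533 := flp_e L15750
theorem L15752 : sm ga N2966 = N1597 := ded_10_1 L8247 L7883 L15750
theorem L15753 : sm ga N1597 = N2966 := flp_a L15752
theorem L15754 : sm gf N1533 = N2967 := rfl
theorem L15755 : sm gf N2967 = N1533 := flp_f L15754
theorem L15756 : sm ga N2967 = N1598 := ded_11_1 L8250 L7883 L15754
theorem L15757 : sm ga N1598 = N2967 := flp_a L15756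
theorem L15758 : sm gd N2967 = N2957 := ded_23_1 L15699 L7861 L3931 L7880 L15754
theorem L15759 : sm gd N2957 = N2967 := flp_d L15758
theorem L15760 : sm gb N1534 = N2968 := rfl
theorem L15761 : sm gb N2968 = N1534 := flp_b L15760
theorem L15762 : sm gd N1534 = N2969 := rfl
theorem L15763 : sm gd N2969 = N1534 := flp_d L15762
theorem L15764 : sm ga N2969 = N1600 := ded_9_1 L8258 L7887 L15762
theorem L15765 : sm ga N1600 = N2969 := flp_a L15764
theorem L15766 : sm ge N1534 = N2970 := rfl
theorem L15767 : sm ge N2970 = N1534 := flp_e L15766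
theorem L15768 : sm ga N2970 = N1601 := ded_10_1 L8260 L7887 L15766
theorem L15769 : sm ga N1601 = N2970 := flp_a L15768
theorem L15770 : sm gc N2970 = N1535 := ded_19_1 L7889 L7884 L15766
theorem L15771 : sm gc N1535 = N2970 := flp_c L15770
theorem L15772 : sm gf N1534 = N2971 := rfl
theorem L15773 : sm gf N2971 = N1534 := flp_f L15772
theorem L15774 : sm ga N2971 = N1602 := ded_11_1 L8264 L7887 L15772
theorem L15775 : sm ga N1602 = N2971 := flp_a L15774
theorem L15776 : sm gc N2971 = N1536 := ded_20_1 L7893 L7884 L15772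
theorem L15777 : sm gc N1536 = N2971 := flp_c L15776
theorem L15778 : sm gf N1535 = N2972 := rfl
theorem L15779 : sm gf N2972 = N1535 := flp_f L15778
theorem L15780 : sm ga N2972 = N1603 := ded_11_1 L8268 L7891 L15778
theorem L15781 : sm ga N1603 = N2972 := flp_a L15780
theorem L15782 : sm ge N2972 = N1536 := ded_25_1 L7893 L7888 L15778
theorem L15783 : sm ge N1536 = N2972 := flp_e L15782
theorem L15784 : sm gg N2957 = N2972 := ded_28_1 L15779 L15695 L15689 L15698
theorem L15785 : sm gg N2972 = N2957 := flp_g L15784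
theorem L15786 : sm gd N1536 = N2973 := rfl
theorem L15787 : sm gd N2973 = N1536 := flp_d L15786
theorem L15788 : sm ga N2973 = N1604 := ded_9_1 L8275 L7895 L15786
theorem L15789 : sm ga N1604 = N2973 := flp_a L15788
theorem L15790 : sm gb N2973 = N2967 := ded_14_1 L15758 L15702 L15786
theorem L15791 : sm gb N2967 = N2973 := flp_b L15790
theorem L15792 : sm gf N2973 = N1537 := ded_23_2 L7897 L3938 L3933 L7892 L15786
theorem L15793 : sm gf N1537 = N2973 := flp_f L15792
theorem L15794 : sm gg N1536 = N2974 := rfl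
theorem L15795 : sm gg N2974 = N1536 := flp_g L15794
theorem L15796 : sm ga N2974 = N1605 := ded_12_1 L8280 L7895 L15794
theorem L15797 : sm ga N1605 = N2974 := flp_a L15796
theorem L15798 : sm gb N2974 = N2972 := ded_17_1 L15785 L15702 L15794
theorem L15799 : sm gb N2972 = N2974 := flp_b L15798
theorem L15800 : sm ge N2974 = N2957 := ded_26_1 L15784 L15782 L15794
theorem L15801 : sm ge N2957 = N2974 := flp_e L15800
theorem L15802 : sm gf N2956 = N2974 := ded_28_0 L15795 L7893 L7867 L15688
theorem L15803 : sm gf N2974 = N2956 := flp_f L15802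
theorem L15804 : sm gc N1537 = N2975 := rfl
theorem L15805 : sm gc N2975 = N1537 := flp_c L15804
theorem L15806 : sm ga N2975 = N1606 := ded_8_1 L8287 L7899 L15804
theorem L15807 : sm ga N1606 = N2975 := flp_a L15806
theorem L15808 : sm ge N1537 = N2976 := rfl
theorem L15809 : sm ge N2976 = N1537 := flp_e L15808
theorem L15810 : sm ga N2976 = N1607 := ded_10_1 L8289 L7899 L15808
theorem L15811 : sm ga N1607 = N2976 := flp_a L15810
theorem L15812 : sm gb N2976 = N2966 := ded_15_1 L15751 L7901 L15808
theorem L15813 : sm gb N2966 = N2976 := flp_b L15812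
theorem L15814 : sm gd N2976 = N2966 := ded_22_1 L15751 L7881 L3946 L7896 L15808
theorem L15815 : sm gd N2966 = N2976 := flp_d L15814
theorem L15816 : sm gg N1537 = N2977 := rfl
theorem L15817 : sm gg N2977 = N1537 := flp_g L15816
theorem L15818 : sm ga N2977 = N1608 := ded_12_1 L8294 L7899 L15816
theorem L15819 : sm ga N1608 = N2977 := flp_a L15818
theorem L15820 : sm gb N2977 = N2963 := ded_17_1 L15734 L7901 L15816
theorem L15821 : sm gb N2963 = N2977 := flp_b L15820
theorem L15822 : sm gd N2977 = N2954 := ded_24_1 L15677 L7853 L3948 L7896 L15816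
theorem L15823 : sm gd N2954 = N2977 := flp_d L15822
theorem L15824 : sm gb N1538 = N2978 := rfl
theorem L15825 : sm gb N2978 = N1538 := flp_b L15824
theorem L15826 : sm gf N2978 = N1609 := ded_16_2 L8299 L7907 L15824
theorem L15827 : sm gf N1609 = N2978 := flp_f L15826
theorem L15828 : sm gc N2978 = N1749 := ded_13_2 L8953 L4430 L3954 L7902 L15824
theorem L15829 : sm gc N1749 = N2978 := flp_c L15828
theorem L15830 : sm gd N1538 = N2979 := rfl
theorem L15831 : sm gd N2979 = N1538 := flp_d L15830
theorem L15832 : sm ga N2979 = N1610 := ded_9_1 L8303 L7905 L15830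
theorem L15833 : sm ga N1610 = N2979 := flp_a L15832
theorem L15834 : sm ge N1538 = N2980 := rfl
theorem L15835 : sm ge N2980 = N1538 := flp_e L15834
theorem L15836 : sm ga N2980 = N1611 := ded_10_1 L8305 L7905 L15834
theorem L15838 : sm gc N2980 = N1539 := ded_19_1 L7909 L7902 L15834
theorem L15839 : sm gc N1539 = N2980 := flp_c L15838
theorem L15840 : sm gf N2980 = N1611 := ded_25_2 L8305 L7907 L15834
theorem L15842 : sm gg N1538 = N2981 := rfl
theorem L15843 : sm gg N2981 = N1538 := flp_g L15842
theorem L15844 : sm ga N2981 = N1612 := ded_12_1 L8309 L7905 L15842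
theorem L15845 : sm ga N1612 = N2981 := flp_a L15844
theorem L15846 : sm gc N2981 = N1540 := ded_21_1 L7919 L7902 L15842
theorem L15847 : sm gc N1540 = N2981 := flp_c L15846
theorem L15848 : sm gb N1541 = N2982 := rfl
theorem L15849 : sm gb N2982 = N1541 := flp_b L15848
theorem L15850 : sm gg N2982 = N1615 := ded_17_2 L8331 L7929 L15848
theorem L15852 : sm gc N2982 = N1752 := ded_13_2 L8969 L4445 L3962 L7924 L15848
theorem L15853 : sm gc N1752 = N2982 := flp_c L15852
theorem L15854 : sm gd N1541 = N2983 := rfl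
theorem L15855 : sm gd N2983 = N1541 := flp_d L15854
theorem L15856 : sm ga N2983 = N1616 := ded_9_1 L8335 L7927 L15854
theorem L15857 : sm ga N1616 = N2983 := flp_a L15856
theorem L15858 : sm ge N1541 = N2984 := rfl
theorem L15859 : sm ge N2984 = N1541 := flp_e L15858
theorem L15860 : sm ga N2984 = N1617 := ded_10_1 L8337 L7927 L15858
theorem L15861 : sm ga N1617 = N2984 := flp_a L15860
theorem L15862 : sm gc N2984 = N1542 := ded_19_1 L7931 L7924 L15858
theorem L15866 : sm gf N1541 = N2985 := rfl
theorem L15867 : sm gf N2985 = N1541 := flp_f L15866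
theorem L15872 : sm gd N1544 = N2986 := rfl
theorem L15873 : sm gd N2986 = N1544 := flp_d L15872
theorem L15874 : sm gb N2986 = N1545 := ded_14_1 L7953 L7946 L15872
theorem L15875 : sm gb N1545 = N2986 := flp_b L15874
theorem L15886 : sm gc N1545 = N2988 := rfl
theorem L15887 : sm gc N2988 = N1545 := flp_c L15886
theorem L15888 : sm ga N2988 = N1625 := ded_8_1 L8393 L7955 L15886
theorem L15889 : sm ga N1625 = N2988 := flp_a L15888
theorem L15890 : sm ge N1545 = N2989 := rfl
theorem L15891 : sm ge N2989 = N1545 := flp_e L15890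
theorem L15892 : sm ga N2989 = N1626 := ded_10_1 L8395 L7955 L15890
theorem L15893 : sm ga N1626 = N2989 := flp_a L15892
theorem L15894 : sm gf N1545 = N2990 := rfl
theorem L15895 : sm gf N2990 = N1545 := flp_f L15894
theorem L15896 : sm ga N2990 = N1627 := ded_11_1 L8397 L7955 L15894
theorem L15897 : sm ga N1627 = N2990 := flp_a L15896
theorem L15898 : sm gd N2990 = N1564 := ded_23_1 L8069 L4022 L3970 L7952 L15894
theorem L15899 : sm gd N1564 = N2990 := flp_d L15898
theorem L15900 : sm gg N1545 = N2991 := rfl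
theorem L15901 : sm gg N2991 = N1545 := flp_g L15900
theorem L15902 : sm ga N2991 = N1628 := ded_12_1 L8401 L7955 L15900
theorem L15903 : sm ga N1628 = N2991 := flp_a L15902
theorem L15904 : sm gd N1546 = N2992 := rfl
theorem L15905 : sm gd N2992 = N1546 := flp_d L15904
theorem L15906 : sm ga N2992 = N1629 := ded_9_1 L8403 L7959 L15904
theorem L15907 : sm ga N1629 = N2992 := flp_a L15906
theorem L15908 : sm gd N1547 = N2993 := rfl
theorem L15909 : sm gd N2993 = N1547 := flp_d L15908
theorem L15910 : sm ga N2993 = N1630 := ded_9_1 L8405 L7967 L15908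
theorem L15911 : sm ga N1630 = N2993 := flp_a L15910
theorem L15912 : sm gc N1548 = N2994 := rfl
theorem L15914 : sm ga N2994 = N1631 := ded_8_1 L8407 L7973 L15912
theorem L15915 : sm ga N1631 = N2994 := flp_a L15914
theorem L15916 : sm gg N2994 = N1549 := ded_21_2 L7979 L7977 L15912
theorem L15917 : sm gg N1549 = N2994 := flp_g L15916
theorem L15932 : sm gb N1549 = N2997 := rfl
theorem L15933 : sm gb N2997 = N1549 := flp_b L15932
theorem L15934 : sm gc N2997 = N1853 := ded_13_2 L9526 L4710 L3990 L7978 L15932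
theorem L15935 : sm gc N1853 = N2997 := flp_c L15934
theorem L15936 : sm gd N1549 = N2998 := rfl
theorem L15938 : sm ga N2998 = N1635 := ded_9_1 L8425 L7981 L15936
theorem L15939 : sm ga N1635 = N2998 := flp_a L15938
theorem L15940 : sm ge N1549 = N2999 := rfl
theorem L15942 : sm ga N2999 = N1636 := ded_10_1 L8427 L7981 L15940
theorem L15943 : sm ga N1636 = N2999 := flp_a L15942
theorem L15944 : sm gc N2999 = N1550 := ded_19_1 L7983 L7978 L15940
theorem L15946 : sm gf N1549 = N3000 := rfl
theorem L15947 : sm gf N3000 = N1549 := flp_f L15946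
theorem L15952 : sm gf N1550 = N3001 := rfl
theorem L15954 : sm ga N3001 = N1638 := ded_11_1 L8435 L7985 L15952
theorem L15956 : sm gb N3001 = N1857 := ded_16_1 L9547 L7987 L15952
theorem L15962 : sm gd N2800 = N3001 := ded_14_0 L15956 L9554 L14815
theorem L15974 : sm gd N1552 = N3003 := rfl
theorem L15975 : sm gd N3003 = N1552 := flp_d L15974
theorem L15976 : sm gb N3003 = N1553 := ded_14_1 L8003 L7996 L15974
theorem L15977 : sm gb N1553 = N3003 := flp_b L15976
theorem L15978 : sm gf N1552 = N3004 := rfl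
theorem L15982 : sm gb N3004 = N1555 := ded_16_1 L8015 L7996 L15978
theorem L15983 : sm gb N1555 = N3004 := flp_b L15982
theorem L15986 : sm gg N3004 = N1704 := ded_28_3 L8738 L8125 L7999 L15978
theorem L15988 : sm gc N1553 = N3005 := rfl
theorem L15990 : sm ga N3005 = N1644 := ded_8_1 L8481 L8005 L15988
theorem L15991 : sm ga N1644 = N3005 := flp_a L15990
theorem L15996 : sm gf N1553 = N3007 := rfl
theorem L15997 : sm gf N3007 = N1553 := flp_f L15996
theorem L15998 : sm ga N3007 = N1646 := ded_11_1 L8485 L8005 L15996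
theorem L15999 : sm ga N1646 = N3007 := flp_a L15998
theorem L16010 : sm gd N1555 = N3010 := rfl
theorem L16011 : sm gd N3010 = N1555 := flp_d L16010
theorem L16012 : sm ga N3010 = N1649 := ded_9_1 L8493 L8017 L16010
theorem L16013 : sm ga N1649 = N3010 := flp_a L16012
theorem L16014 : sm gc N1556 = N3011 := rfl
theorem L16018 : sm gf N3011 = N1557 := ded_20_2 L8029 L8027 L16014
theorem L16020 : sm ge N1556 = N3012 := rfl
theorem L16026 : sm gf N3012 = N1558 := ded_25_2 L8033 L8027 L16020
theorem L16030 : sm gb N1557 = N3013 := rfl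
theorem L16031 : sm gb N3013 = N1557 := flp_b L16030
theorem L16032 : sm gc N3013 = N1866 := ded_13_2 L9622 L4755 L4016 L8028 L16030
theorem L16033 : sm gc N1866 = N3013 := flp_c L16032
theorem L16034 : sm gd N1557 = N3014 := rfl
theorem L16035 : sm gd N3014 = N1557 := flp_d L16034
theorem L16036 : sm ga N3014 = N1654 := ded_9_1 L8513 L8031 L16034
theorem L16037 : sm ga N1654 = N3014 := flp_a L16036
theorem L16038 : sm ge N1557 = N3015 := rfl
theorem L16039 : sm ge N3015 = N1557 := flp_e L16038
theorem L16040 : sm ga N3015 = N1655 := ded_10_1 L8515 L8031 L16038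
theorem L16041 : sm ga N1655 = N3015 := flp_a L16040
theorem L16042 : sm gc N3015 = N1558 := ded_19_1 L8033 L8028 L16038
theorem L16043 : sm gc N1558 = N3015 := flp_c L16042
theorem L16044 : sm gg N1557 = N3016 := rfl
theorem L16045 : sm gg N3016 = N1557 := flp_g L16044
theorem L16046 : sm ga N3016 = N1656 := ded_12_1 L8519 L8031 L16044
theorem L16047 : sm ga N1656 = N3016 := flp_a L16046
theorem L16050 : sm gg N1558 = N3017 := rfl
theorem L16051 : sm gg N3017 = N1558 := flp_g L16050
theorem L16056 : sm ge N3017 = N1559 := ded_26_1 L8041 L8032 L16050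
theorem L16058 : sm gf N3017 = N2171 := ded_28_2 L11334 L16020 L16026 L16050
theorem L16059 : sm gf N2171 = N3017 := flp_f L16058
theorem L16070 : sm gc N1560 = N3019 := rfl
theorem L16071 : sm gc N3019 = N1560 := flp_c L16070
theorem L16072 : sm ge N1560 = N3020 := rfl
theorem L16073 : sm ge N3020 = N1560 := flp_e L16072
theorem L16074 : sm gb N3020 = N1563 := ded_15_1 L8065 L8051 L16072
theorem L16075 : sm gb N1563 = N3020 := flp_b L16074
theorem L16076 : sm gf N1560 = N3021 := rfl
theorem L16077 : sm gf N3021 = N1560 := flp_f L16076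
theorem L16078 : sm gb N3021 = N1564 := ded_16_1 L8069 L8051 L16076
theorem L16079 : sm gb N1564 = N3021 := flp_b L16078
theorem L16080 : sm gg N1560 = N3022 := rfl
theorem L16081 : sm gg N3022 = N1560 := flp_g L16080
theorem L16084 : sm gd N1561 = N3023 := rfl
theorem L16085 : sm gd N3023 = N1561 := flp_d L16084
theorem L16086 : sm gb N3023 = N1568 := ded_14_1 L8091 L8055 L16084
theorem L16087 : sm gb N1568 = N3023 := flp_b L16086
theorem L16088 : sm gf N1561 = N3024 := rfl
theorem L16089 : sm gf N3024 = N1561 := flp_f L16088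
theorem L16098 : sm gg N3024 = N1621 := ded_28_3 L8371 L7948 L8052 L16088
theorem L16099 : sm gg N1621 = N3024 := flp_g L16098
theorem L16100 : sm gb N1562 = N3025 := rfl
theorem L16101 : sm gb N3025 = N1562 := flp_b L16100
theorem L16102 : sm gd N3025 = N1669 := ded_14_2 L8601 L8063 L16100
theorem L16103 : sm gd N1669 = N3025 := flp_d L16102
theorem L16104 : sm ge N1562 = N3026 := rfl
theorem L16105 : sm ge N3026 = N1562 := flp_e L16104
theorem L16106 : sm ga N3026 = N1670 := ded_10_1 L8603 L8061 L16104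
theorem L16107 : sm ga N1670 = N3026 := flp_a L16106
theorem L16108 : sm gc N3026 = N1563 := ded_19_1 L8065 L8058 L16104
theorem L16109 : sm gc N1563 = N3026 := flp_c L16108
theorem L16110 : sm gf N1562 = N3027 := rfl
theorem L16111 : sm gf N3027 = N1562 := flp_f L16110
theorem L16112 : sm ga N3027 = N1671 := ded_11_1 L8607 L8061 L16110
theorem L16113 : sm ga N1671 = N3027 := flp_a L16112
theorem L16114 : sm gc N3027 = N1564 := ded_20_1 L8069 L8058 L16110
theorem L16115 : sm gc N1564 = N3027 := flp_c L16114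
theorem L16116 : sm gg N1562 = N3028 := rfl
theorem L16117 : sm gg N3028 = N1562 := flp_g L16116
theorem L16118 : sm ga N3028 = N1672 := ded_12_1 L8611 L8061 L16116
theorem L16119 : sm ga N1672 = N3028 := flp_a L16118
theorem L16120 : sm gc N3028 = N1565 := ded_21_1 L8073 L8058 L16116
theorem L16121 : sm gc N1565 = N3028 := flp_c L16120
theorem L16122 : sm gd N1563 = N3029 := rfl
theorem L16123 : sm gd N3029 = N1563 := flp_d L16122
theorem L16124 : sm ga N3029 = N1673 := ded_9_1 L8615 L8067 L16122
theorem L16125 : sm ga N1673 = N3029 := flp_a L16124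
theorem L16126 : sm ge N3029 = N1566 := ded_22_2 L8077 L4026 L4021 L8064 L16122
theorem L16127 : sm ge N1566 = N3029 := flp_e L16126
theorem L16128 : sm gf N1563 = N3030 := rfl
theorem L16129 : sm gf N3030 = N1563 := flp_f L16128
theorem L16130 : sm ga N3030 = N1674 := ded_11_1 L8619 L8067 L16128
theorem L16131 : sm ga N1674 = N3030 := flp_a L16130
theorem L16132 : sm ge N3030 = N1564 := ded_25_1 L8069 L8064 L16128
theorem L16133 : sm ge N1564 = N3030 := flp_e L16132
theorem L16134 : sm gg N1563 = N3031 := rfl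
theorem L16135 : sm gg N3031 = N1563 := flp_g L16134
theorem L16136 : sm ga N3031 = N1675 := ded_12_1 L8623 L8067 L16134
theorem L16137 : sm ga N1675 = N3031 := flp_a L16136
theorem L16138 : sm ge N3031 = N1565 := ded_26_1 L8073 L8064 L16134
theorem L16139 : sm ge N1565 = N3031 := flp_e L16138
theorem L16140 : sm gg N1564 = N3032 := rfl
theorem L16141 : sm gg N3032 = N1564 := flp_g L16140
theorem L16142 : sm ga N3032 = N1676 := ded_12_1 L8627 L8071 L16140
theorem L16143 : sm ga N1676 = N3032 := flp_a L16142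
theorem L16144 : sm gf N3031 = N3032 := ded_28_0 L16141 L8069 L8072 L16139
theorem L16145 : sm gf N3032 = N3031 := flp_f L16144
theorem L16146 : sm gd N1565 = N3033 := rfl
theorem L16147 : sm gd N3033 = N1565 := flp_d L16146
theorem L16148 : sm ga N3033 = N1677 := ded_9_1 L8631 L8075 L16146
theorem L16149 : sm ga N1677 = N3033 := flp_a L16148
theorem L16150 : sm gg N3033 = N1568 := ded_24_2 L8091 L4032 L4021 L8072 L16146
theorem L16151 : sm gg N1568 = N3033 := flp_g L16150
theorem L16152 : sm gf N1565 = N3034 := rfl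
theorem L16153 : sm gf N3034 = N1565 := flp_f L16152
theorem L16154 : sm ga N3034 = N1678 := ded_11_1 L8635 L8075 L16152
theorem L16155 : sm ga N1678 = N3034 := flp_a L16154
theorem L16158 : sm gg N3034 = N3030 := ded_28_3 L16132 L8069 L8072 L16152
theorem L16160 : sm gc N1566 = N3035 := rfl
theorem L16161 : sm gc N3035 = N1566 := flp_c L16160
theorem L16162 : sm ga N3035 = N1679 := ded_8_1 L8641 L8079 L16160
theorem L16163 : sm ga N1679 = N3035 := flp_a L16162
theorem L16164 : sm gf N1566 = N3036 := rfl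
theorem L16166 : sm ga N3036 = N1680 := ded_11_1 L8643 L8079 L16164
theorem L16167 : sm ga N1680 = N3036 := flp_a L16166
theorem L16168 : sm gg N1566 = N3037 := rfl
theorem L16169 : sm gg N3037 = N1566 := flp_g L16168
theorem L16170 : sm ga N3037 = N1681 := ded_12_1 L8645 L8079 L16168
theorem L16171 : sm ga N1681 = N3037 := flp_a L16170
theorem L16172 : sm gd N1567 = N3038 := rfl
theorem L16173 : sm gd N3038 = N1567 := flp_d L16172
theorem L16176 : sm gc N1568 = N3039 := rfl
theorem L16177 : sm gc N3039 = N1568 := flp_c L16176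
theorem L16178 : sm ga N3039 = N1683 := ded_8_1 L8649 L8093 L16176
theorem L16179 : sm ga N1683 = N3039 := flp_a L16178
theorem L16180 : sm ge N1568 = N3040 := rfl
theorem L16181 : sm ge N3040 = N1568 := flp_e L16180
theorem L16182 : sm ga N3040 = N1684 := ded_10_1 L8651 L8093 L16180
theorem L16183 : sm ga N1684 = N3040 := flp_a L16182
theorem L16184 : sm gf N1568 = N3041 := rfl
theorem L16186 : sm ga N3041 = N1685 := ded_11_1 L8653 L8093 L16184
theorem L16187 : sm ga N1685 = N3041 := flp_a L16186
theorem L16188 : sm gd N1569 = N3042 := rfl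
theorem L16190 : sm ga N3042 = N1686 := ded_9_1 L8655 L8097 L16188
theorem L16191 : sm ga N1686 = N3042 := flp_a L16190
theorem L16192 : sm gc N1570 = N3043 := rfl
theorem L16193 : sm gc N3043 = N1570 := flp_c L16192
theorem L16194 : sm ga N3043 = N1687 := ded_8_1 L8657 L8107 L16192
theorem L16208 : sm gc N1571 = N3045 := rfl
theorem L16210 : sm ga N3045 = N1690 := ded_8_1 L8667 L8115 L16208
theorem L16211 : sm ga N1690 = N3045 := flp_a L16210
theorem L16214 : sm ge N1571 = N3046 := rfl
theorem L16215 : sm ge N3046 = N1571 := flp_e L16214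
theorem L16216 : sm ga N3046 = N1691 := ded_10_1 L8669 L8115 L16214
theorem L16224 : sm gg N1571 = N3047 := rfl
theorem L16225 : sm gg N3047 = N1571 := flp_g L16224
theorem L16226 : sm ga N3047 = N1692 := ded_12_1 L8675 L8115 L16224
theorem L16227 : sm ga N1692 = N3047 := flp_a L16226
theorem L16230 : sm gd N3047 = N1614 := ded_24_1 L8328 L7916 L4056 L8112 L16224
theorem L16232 : sm gc N1572 = N3048 := rfl
theorem L16233 : sm gc N3048 = N1572 := flp_c L16232
theorem L16234 : sm ge N1572 = N3049 := rfl
theorem L16235 : sm ge N3049 = N1572 := flp_e L16234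
theorem L16236 : sm gb N3049 = N1575 := ded_15_1 L8137 L8123 L16234
theorem L16238 : sm gf N1572 = N3050 := rfl
theorem L16239 : sm gf N3050 = N1572 := flp_f L16238
theorem L16242 : sm gg N1572 = N3051 := rfl
theorem L16243 : sm gg N3051 = N1572 := flp_g L16242
theorem L16246 : sm gd N1573 = N3052 := rfl
theorem L16247 : sm gd N3052 = N1573 := flp_d L16246
theorem L16262 : sm gb N1574 = N3054 := rfl
theorem L16263 : sm gb N3054 = N1574 := flp_b L16262
theorem L16264 : sm gd N3054 = N1713 := ded_14_2 L8787 L8135 L16262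
theorem L16265 : sm gd N1713 = N3054 := flp_d L16264
theorem L16266 : sm ge N1574 = N3055 := rfl
theorem L16268 : sm ga N3055 = N1714 := ded_10_1 L8789 L8133 L16266
theorem L16269 : sm ga N1714 = N3055 := flp_a L16268
theorem L16270 : sm gc N3055 = N1575 := ded_19_1 L8137 L8130 L16266
theorem L16271 : sm gc N1575 = N3055 := flp_c L16270
theorem L16272 : sm gf N1574 = N3056 := rfl
theorem L16273 : sm gf N3056 = N1574 := flp_f L16272
theorem L16278 : sm gg N1574 = N3057 := rfl
theorem L16279 : sm gg N3057 = N1574 := flp_g L16278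
theorem L16284 : sm gd N1575 = N3058 := rfl
theorem L16288 : sm ge N3058 = N1578 := ded_22_2 L8149 L4066 L4061 L8136 L16284
theorem L16302 : sm gd N1576 = N3061 := rfl
theorem L16306 : sm gf N3061 = N1580 := ded_23_2 L8163 L4072 L4061 L8140 L16302
theorem L16307 : sm gf N1580 = N3061 := flp_f L16306
theorem L16322 : sm gc N1578 = N3064 := rfl
theorem L16323 : sm gc N3064 = N1578 := flp_c L16322
theorem L16324 : sm ga N3064 = N1723 := ded_8_1 L8827 L8151 L16322
theorem L16325 : sm ga N1723 = N3064 := flp_a L16324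
theorem L16326 : sm gf N1578 = N3065 := rfl
theorem L16327 : sm gf N3065 = N1578 := flp_f L16326
theorem L16334 : sm gd N1579 = N3067 := rfl
theorem L16335 : sm gd N3067 = N1579 := flp_d L16334
theorem L16336 : sm ga N3067 = N1726 := ded_9_1 L8833 L8155 L16334
theorem L16337 : sm ga N1726 = N3067 := flp_a L16336
theorem L16338 : sm gc N1580 = N3068 := rfl
theorem L16340 : sm ga N3068 = N1727 := ded_8_1 L8835 L8165 L16338
theorem L16341 : sm ga N1727 = N3068 := flp_a L16340
theorem L16342 : sm ge N1580 = N3069 := rfl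
theorem L16343 : sm ge N3069 = N1580 := flp_e L16342
theorem L16346 : sm gg N1580 = N3070 := rfl
theorem L16347 : sm gg N3070 = N1580 := flp_g L16346
theorem L16368 : sm gb N1583 = N3074 := rfl
theorem L16369 : sm gb N3074 = N1583 := flp_b L16368
theorem L16370 : sm gf N3074 = N1589 := ded_16_2 L8213 L8187 L16368
theorem L16371 : sm gf N1589 = N3074 := flp_f L16370
theorem L16372 : sm gc N3074 = N3074 := ded_13_2 L16369 L8185 L4099 L8184 L16368
theorem L16373 : sm gd N1583 = N3075 := rfl
theorem L16374 : sm gd N3075 = N1583 := flp_d L16373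
theorem L16375 : sm ge N1583 = N3076 := rfl
theorem L16376 : sm ge N3076 = N1583 := flp_e L16375
theorem L16377 : sm gc N3076 = N1584 := ded_19_1 L8189 L8184 L16375
theorem L16378 : sm gc N1584 = N3076 := flp_c L16377
theorem L16379 : sm gf N3076 = N1591 := ded_25_2 L8218 L8187 L16375
theorem L16380 : sm gf N1591 = N3076 := flp_f L16379
theorem L16381 : sm gg N1583 = N3077 := rfl
theorem L16382 : sm gg N3077 = N1583 := flp_g L16381
theorem L16383 : sm gc N3077 = N1585 := ded_21_1 L8196 L8184 L16381
theorem L16384 : sm gc N1585 = N3077 := flp_c L16383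
theorem L16385 : sm gb N1586 = N3078 := rfl
theorem L16386 : sm gb N3078 = N1586 := flp_b L16385
theorem L16387 : sm gg N3078 = N1599 := ded_17_2 L8255 L8201 L16385
theorem L16388 : sm gg N1599 = N3078 := flp_g L16387
theorem L16389 : sm gc N3078 = N3078 := ded_13_2 L16386 L8199 L4104 L8198 L16385
theorem L16390 : sm gd N1586 = N3079 := rfl
theorem L16391 : sm gd N3079 = N1586 := flp_d L16390
theorem L16392 : sm ge N1586 = N3080 := rfl
theorem L16393 : sm ge N3080 = N1586 := flp_e L16392
theorem L16394 : sm gc N3080 = N1587 := ded_19_1 L8203 L8198 L16392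
theorem L16395 : sm gc N1587 = N3080 := flp_c L16394
theorem L16396 : sm gg N3080 = N1601 := ded_26_2 L8260 L8201 L16392
theorem L16397 : sm gg N1601 = N3080 := flp_g L16396
theorem L16398 : sm gf N1586 = N3081 := rfl
theorem L16399 : sm gf N3081 = N1586 := flp_f L16398
theorem L16400 : sm gc N3081 = N1588 := ded_20_1 L8210 L8198 L16398
theorem L16401 : sm gc N1588 = N3081 := flp_c L16400
theorem L16402 : sm ga N1589 = N3082 := rfl
theorem L16403 : sm ga N3082 = N1589 := flp_a L16402
theorem L16404 : sm gc N3082 = N3082 := ded_8_2 L16403 L8214 L16402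
theorem L16405 : sm gb N3082 = N3076 := ded_29_4 L16377 L15669 L15670 L15715 L15711 L7870 L8212 L8214 L16402
theorem L16406 : sm gb N3076 = N3082 := flp_b L16405
theorem L16407 : sm ge N3074 = N3082 := ded_29_9 L16403 L8213 L4108 L3924 L7857 L15660 L15662 L16368 L16372
theorem L16408 : sm ge N3082 = N3074 := flp_e L16407
theorem L16409 : sm gd N1589 = N3083 := rfl
theorem L16410 : sm gd N3083 = N1589 := flp_d L16409
theorem L16411 : sm gb N3083 = N1590 := ded_14_1 L8216 L8212 L16409
theorem L16412 : sm gb N1590 = N3083 := flp_b L16411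
theorem L16413 : sm ge N1589 = N3084 := rfl
theorem L16414 : sm ge N3084 = N1589 := flp_e L16413
theorem L16415 : sm ga N3084 = N3074 := ded_10_1 L16407 L16403 L16413
theorem L16416 : sm ga N3074 = N3084 := flp_a L16415
theorem L16417 : sm gb N3084 = N1591 := ded_15_1 L8218 L8212 L16413
theorem L16418 : sm gb N1591 = N3084 := flp_b L16417
theorem L16419 : sm gc N3084 = N3084 := ded_19_1 L16414 L8214 L16413
theorem L16420 : sm gf N3084 = N3082 := ded_25_2 L16408 L16370 L16413
theorem L16421 : sm gf N3082 = N3084 := flp_f L16420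
theorem L16422 : sm gg N1589 = N3085 := rfl
theorem L16423 : sm gg N3085 = N1589 := flp_g L16422
theorem L16424 : sm gb N3085 = N1592 := ded_17_1 L8222 L8212 L16422
theorem L16425 : sm gb N1592 = N3085 := flp_b L16424
theorem L16426 : sm gc N3085 = N3085 := ded_21_1 L16423 L8214 L16422
theorem L16427 : sm gc N1590 = N3086 := rfl
theorem L16428 : sm gc N3086 = N1590 := flp_c L16427
theorem L16429 : sm gd N3086 = N2988 := ded_30_9 L15888 L8393 L4160 L2153 L1087 L1068 L2122 L4107 L8215 L16427
theorem L16430 : sm gd N2988 = N3086 := flp_d L16429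
theorem L16431 : sm ge N1590 = N3087 := rfl
theorem L16432 : sm ge N3087 = N1590 := flp_e L16431
theorem L16433 : sm gf N1590 = N3088 := rfl
theorem L16434 : sm gf N3088 = N1590 := flp_f L16433
theorem L16435 : sm gg N1590 = N3089 := rfl
theorem L16436 : sm gg N3089 = N1590 := flp_g L16435
theorem L16437 : sm gd N1591 = N3090 := rfl
theorem L16438 : sm gd N3090 = N1591 := flp_d L16437
theorem L16439 : sm gg N1591 = N3091 := rfl
theorem L16440 : sm gg N3091 = N1591 := flp_g L16439
theorem L16441 : sm gc N3091 = N1593 := ded_21_1 L8226 L8220 L16439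
theorem L16442 : sm gc N1593 = N3091 := flp_c L16441
theorem L16443 : sm ge N3091 = N1592 := ded_26_1 L8222 L8217 L16439
theorem L16444 : sm ge N1592 = N3091 := flp_e L16443
theorem L16445 : sm gf N3091 = N3077 := ded_28_2 L16382 L16375 L16379 L16439
theorem L16446 : sm gf N3077 = N3091 := flp_f L16445
theorem L16447 : sm gd N1592 = N3092 := rfl
theorem L16448 : sm gd N3092 = N1592 := flp_d L16447
theorem L16449 : sm gf N1592 = N3093 := rfl
theorem L16450 : sm gf N3093 = N1592 := flp_f L16449
theorem L16455 : sm gg N3093 = N3076 := ded_28_3 L16376 L8186 L8221 L16449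
theorem L16457 : sm gd N1593 = N3094 := rfl
theorem L16458 : sm gd N3094 = N1593 := flp_d L16457
theorem L16459 : sm gb N3094 = N3094 := ded_14_1 L16458 L8227 L16457
theorem L16460 : sm gc N1594 = N3095 := rfl
theorem L16461 : sm gc N3095 = N1594 := flp_c L16460
theorem L16462 : sm gg N3095 = N1596 := ded_21_2 L8245 L8236 L16460
theorem L16463 : sm gg N1596 = N3095 := flp_g L16462
theorem L16464 : sm ge N1594 = N3096 := rfl
theorem L16465 : sm ge N3096 = N1594 := flp_e L16464
theorem L16466 : sm gb N3096 = N3096 := ded_15_1 L16465 L8234 L16464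
theorem L16467 : sm gg N3096 = N1597 := ded_26_2 L8247 L8236 L16464
theorem L16468 : sm gg N1597 = N3096 := flp_g L16467
theorem L16469 : sm gf N1594 = N3097 := rfl
theorem L16470 : sm gf N3097 = N1594 := flp_f L16469
theorem L16471 : sm gb N3097 = N3097 := ded_16_1 L16470 L8234 L16469
theorem L16472 : sm gd N1595 = N3098 := rfl
theorem L16473 : sm gd N3098 = N1595 := flp_d L16472
theorem L16474 : sm gb N3098 = N3098 := ded_14_1 L16473 L8239 L16472
theorem L16475 : sm gg N3098 = N3094 := ded_24_2 L16458 L8226 L8194 L8243 L16472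
theorem L16476 : sm gg N3094 = N3098 := flp_g L16475
theorem L16477 : sm gb N1596 = N3099 := rfl
theorem L16478 : sm gb N3099 = N1596 := flp_b L16477
theorem L16479 : sm gc N3099 = N3099 := ded_13_2 L16478 L8245 L4117 L8244 L16477
theorem L16480 : sm ga N2627 = N3099 := ded_29_0 L16478 L8245 L7883 L7901 L15804 L15806 L13821 L13822 L13833
theorem L16481 : sm ga N3099 = N2627 := flp_a L16480
theorem L16482 : sm gf N3099 = N2514 := ded_11_2 L13294 L13829 L16480
theorem L16483 : sm gf N2514 = N3099 := flp_f L16482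
theorem L16484 : sm gd N1596 = N3100 := rfl
theorem L16485 : sm gd N3100 = N1596 := flp_d L16484
theorem L16486 : sm ge N1596 = N3101 := rfl
theorem L16487 : sm ge N3101 = N1596 := flp_e L16486
theorem L16488 : sm gc N3101 = N1597 := ded_19_1 L8247 L8244 L16486
theorem L16489 : sm gc N1597 = N3101 := flp_c L16488
theorem L16490 : sm gf N1596 = N3102 := rfl
theorem L16491 : sm gf N3102 = N1596 := flp_f L16490
theorem L16492 : sm gb N3102 = N2514 := ded_16_1 L16483 L16478 L16490
theorem L16493 : sm gb N2514 = N3102 := flp_b L16492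
theorem L16494 : sm gc N3102 = N1598 := ded_20_1 L8250 L8244 L16490
theorem L16495 : sm gc N1598 = N3102 := flp_c L16494
theorem L16496 : sm gg N2511 = N3102 := ded_17_0 L16492 L13293 L13281
theorem L16497 : sm gg N3102 = N2511 := flp_g L16496
theorem L16498 : sm gf N1597 = N3103 := rfl
theorem L16499 : sm gf N3103 = N1597 := flp_f L16498
theorem L16500 : sm gb N3103 = N3103 := ded_16_1 L16499 L8248 L16498
theorem L16501 : sm ge N3103 = N1598 := ded_25_1 L8250 L8246 L16498
theorem L16502 : sm ge N1598 = N3103 := flp_e L16501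
theorem L16503 : sm gg N3097 = N3103 := ded_28_1 L16499 L16468 L16465 L16469
theorem L16504 : sm gg N3103 = N3097 := flp_g L16503
theorem L16505 : sm gg N1598 = N3104 := rfl
theorem L16506 : sm gg N3104 = N1598 := flp_g L16505
theorem L16507 : sm gb N3104 = N3104 := ded_17_1 L16506 L8251 L16505
theorem L16508 : sm gc N3104 = N2511 := ded_21_1 L16496 L16494 L16505
theorem L16509 : sm gc N2511 = N3104 := flp_c L16508
theorem L16510 : sm ge N3104 = N3097 := ded_26_1 L16503 L16501 L16505
theorem L16511 : sm ge N3097 = N3104 := flp_e L16510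
theorem L16512 : sm gf N3096 = N3104 := ded_28_0 L16506 L8250 L8236 L16464
theorem L16513 : sm gf N3104 = N3096 := flp_f L16512
theorem L16514 : sm ga N1599 = N3105 := rfl
theorem L16515 : sm ga N3105 = N1599 := flp_a L16514
theorem L16516 : sm gc N3105 = N3105 := ded_8_2 L16515 L8256 L16514
theorem L16517 : sm gb N3105 = N3080 := ded_29_4 L16394 L15691 L15692 L15771 L15767 L7886 L8254 L8256 L16514
theorem L16518 : sm gb N3080 = N3105 := flp_b L16517
theorem L16519 : sm ge N3078 = N3105 := ded_29_9 L16515 L8255 L4119 L3936 L7865 L15682 L15684 L16385 L16389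
theorem L16520 : sm ge N3105 = N3078 := flp_e L16519
theorem L16521 : sm gd N1599 = N3106 := rfl
theorem L16522 : sm gd N3106 = N1599 := flp_d L16521
theorem L16523 : sm gb N3106 = N1600 := ded_14_1 L8258 L8254 L16521
theorem L16524 : sm gb N1600 = N3106 := flp_b L16523
theorem L16525 : sm ge N1599 = N3107 := rfl
theorem L16526 : sm ge N3107 = N1599 := flp_e L16525
theorem L16527 : sm ga N3107 = N3078 := ded_10_1 L16519 L16515 L16525
theorem L16528 : sm ga N3078 = N3107 := flp_a L16527
theorem L16529 : sm gb N3107 = N1601 := ded_15_1 L8260 L8254 L16525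
theorem L16530 : sm gb N1601 = N3107 := flp_b L16529
theorem L16531 : sm gc N3107 = N3107 := ded_19_1 L16526 L8256 L16525
theorem L16532 : sm gg N3107 = N3105 := ded_26_2 L16520 L16387 L16525
theorem L16533 : sm gg N3105 = N3107 := flp_g L16532
theorem L16534 : sm gf N1599 = N3108 := rfl
theorem L16535 : sm gf N3108 = N1599 := flp_f L16534
theorem L16536 : sm gb N3108 = N1602 := ded_16_1 L8264 L8254 L16534
theorem L16537 : sm gb N1602 = N3108 := flp_b L16536
theorem L16539 : sm gc N1600 = N3109 := rfl
theorem L16541 : sm gd N3109 = N3005 := ded_30_9 L15990 L8481 L4196 L2171 L1099 L1073 L2132 L4118 L8257 L16539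
theorem L16542 : sm gd N3005 = N3109 := flp_d L16541
theorem L16543 : sm ge N1600 = N3110 := rfl
theorem L16544 : sm ge N3110 = N1600 := flp_e L16543
theorem L16545 : sm gf N1600 = N3111 := rfl
theorem L16546 : sm gf N3111 = N1600 := flp_f L16545
theorem L16547 : sm gg N1600 = N3112 := rfl
theorem L16548 : sm gg N3112 = N1600 := flp_g L16547
theorem L16549 : sm gd N1601 = N3113 := rfl
theorem L16550 : sm gd N3113 = N1601 := flp_d L16549
theorem L16551 : sm gf N1601 = N3114 := rfl
theorem L16552 : sm gf N3114 = N1601 := flp_f L16551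
theorem L16553 : sm gc N3114 = N1603 := ded_20_1 L8268 L8262 L16551
theorem L16554 : sm gc N1603 = N3114 := flp_c L16553
theorem L16555 : sm ge N3114 = N1602 := ded_25_1 L8264 L8259 L16551
theorem L16556 : sm ge N1602 = N3114 := flp_e L16555
theorem L16557 : sm gg N3081 = N3114 := ded_28_1 L16552 L16397 L16393 L16398
theorem L16558 : sm gg N3114 = N3081 := flp_g L16557
theorem L16559 : sm gd N1602 = N3115 := rfl
theorem L16560 : sm gd N3115 = N1602 := flp_d L16559
theorem L16561 : sm gg N1602 = N3116 := rfl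
theorem L16562 : sm gg N3116 = N1602 := flp_g L16561
theorem L16563 : sm gc N3116 = N1605 := ded_21_1 L8280 L8266 L16561
theorem L16564 : sm gc N1605 = N3116 := flp_c L16563
theorem L16565 : sm ge N3116 = N3081 := ded_26_1 L16557 L16555 L16561
theorem L16566 : sm ge N3081 = N3116 := flp_e L16565
theorem L16567 : sm gf N3080 = N3116 := ded_28_0 L16562 L8264 L8201 L16392
theorem L16568 : sm gf N3116 = N3080 := flp_f L16567
theorem L16569 : sm gd N1603 = N3117 := rfl
theorem L16570 : sm gd N3117 = N1603 := flp_d L16569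
theorem L16571 : sm gb N3117 = N3117 := ded_14_1 L16570 L8269 L16569
theorem L16572 : sm gc N1604 = N3118 := rfl
theorem L16573 : sm gc N3118 = N1604 := flp_c L16572
theorem L16574 : sm gf N3118 = N1606 := ded_20_2 L8287 L8278 L16572
theorem L16575 : sm gf N1606 = N3118 := flp_f L16574
theorem L16576 : sm gb N2624 = N3118 := ded_16_3 L16574 L13821 L13824
theorem L16577 : sm gb N3118 = N2624 := flp_b L16576
theorem L16578 : sm gg N3118 = N2618 := ded_28_3 L13781 L13784 L13789 L16575
theorem L16579 : sm gg N2618 = N3118 := flp_g L16578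
theorem L16580 : sm ge N2620 = N3118 := ded_28_4 L16574 L13788 L13785 L13794
theorem L16581 : sm ge N3118 = N2620 := flp_e L16580
theorem L16582 : sm ge N1604 = N3119 := rfl
theorem L16583 : sm ge N3119 = N1604 := flp_e L16582
theorem L16584 : sm gb N3119 = N3119 := ded_15_1 L16583 L8276 L16582
theorem L16585 : sm gc N3119 = N2620 := ded_19_1 L16580 L16573 L16582
theorem L16586 : sm gc N2620 = N3119 := flp_c L16585
theorem L16587 : sm gf N3119 = N1607 := ded_25_2 L8289 L8278 L16582
theorem L16588 : sm gf N1607 = N3119 := flp_f L16587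
theorem L16589 : sm gg N2617 = N3119 := ded_28_3 L16583 L8277 L8293 L13792
theorem L16590 : sm gg N3119 = N2617 := flp_g L16589
theorem L16591 : sm gg N1604 = N3120 := rfl
theorem L16592 : sm gg N3120 = N1604 := flp_g L16591
theorem L16593 : sm gb N3120 = N3120 := ded_17_1 L16592 L8276 L16591
theorem L16594 : sm gc N3120 = N2618 := ded_21_1 L16579 L16573 L16591
theorem L16595 : sm gc N2618 = N3120 := flp_c L16594
theorem L16596 : sm ge N3120 = N2617 := ded_26_1 L16589 L16583 L16591
theorem L16597 : sm ge N2617 = N3120 := flp_e L16596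
theorem L16598 : sm gd N1605 = N3121 := rfl
theorem L16599 : sm gd N3121 = N1605 := flp_d L16598
theorem L16600 : sm gb N3121 = N3121 := ded_14_1 L16599 L8281 L16598
theorem L16601 : sm gf N3121 = N3117 := ded_23_2 L16570 L8268 L8208 L8284 L16598
theorem L16602 : sm gf N3117 = N3121 := flp_f L16601
theorem L16603 : sm gd N1606 = N3122 := rfl
theorem L16604 : sm gd N3122 = N1606 := flp_d L16603
theorem L16605 : sm ge N1606 = N3123 := rfl
theorem L16606 : sm ge N3123 = N1606 := flp_e L16605
theorem L16607 : sm gb N3123 = N2627 := ded_15_1 L13832 L13820 L16605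
theorem L16608 : sm gb N2627 = N3123 := flp_b L16607
theorem L16609 : sm gc N3123 = N1607 := ded_19_1 L8289 L8286 L16605
theorem L16610 : sm gc N1607 = N3123 := flp_c L16609
theorem L16611 : sm gf N3123 = N2620 := ded_25_2 L16580 L16574 L16605
theorem L16612 : sm gf N2620 = N3123 := flp_f L16611
theorem L16613 : sm gg N1607 = N3124 := rfl
theorem L16614 : sm gg N3124 = N1607 := flp_g L16613
theorem L16615 : sm gb N3124 = N3124 := ded_17_1 L16614 L8290 L16613
theorem L16616 : sm ge N3124 = N1608 := ded_26_1 L8294 L8288 L16613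
theorem L16617 : sm ge N1608 = N3124 := flp_e L16616
theorem L16618 : sm gf N3120 = N3124 := ded_28_0 L16614 L16588 L16590 L16597
theorem L16619 : sm gf N3124 = N3120 := flp_f L16618
theorem L16620 : sm ga N1609 = N3125 := rfl
theorem L16621 : sm ga N3125 = N1609 := flp_a L16620
theorem L16622 : sm gc N3125 = N1756 := ded_8_2 L8988 L8301 L16620
theorem L16623 : sm gc N1756 = N3125 := flp_c L16622
theorem L16624 : sm gb N3125 = N2980 := ded_29_4 L15838 L7910 L4133 L4468 L4465 L2308 L4459 L8301 L16620
theorem L16625 : sm gb N2980 = N3125 := flp_b L16624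
theorem L16626 : sm ge N2978 = N3125 := ded_29_9 L16621 L8299 L4130 L3952 L3953 L4429 L4431 L8952 L15829
theorem L16627 : sm ge N3125 = N2978 := flp_e L16626
theorem L16628 : sm gd N1609 = N3126 := rfl
theorem L16629 : sm gd N3126 = N1609 := flp_d L16628
theorem L16630 : sm gb N3126 = N1610 := ded_14_1 L8303 L8298 L16628
theorem L16631 : sm gb N1610 = N3126 := flp_b L16630
theorem L16632 : sm ge N1609 = N3127 := rfl
theorem L16633 : sm ge N3127 = N1609 := flp_e L16632
theorem L16634 : sm ga N3127 = N2978 := ded_10_1 L16626 L16621 L16632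
theorem L16635 : sm ga N2978 = N3127 := flp_a L16634
theorem L16636 : sm gb N3127 = N1611 := ded_15_1 L8305 L8298 L16632
theorem L16637 : sm gb N1611 = N3127 := flp_b L16636
theorem L16638 : sm gc N3127 = N1758 := ded_19_1 L8998 L8301 L16632
theorem L16639 : sm gc N1758 = N3127 := flp_c L16638
theorem L16640 : sm gf N3127 = N3125 := ded_25_2 L16627 L15826 L16632
theorem L16641 : sm gf N3125 = N3127 := flp_f L16640
theorem L16642 : sm gg N1609 = N3128 := rfl
theorem L16643 : sm gg N3128 = N1609 := flp_g L16642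
theorem L16644 : sm gb N3128 = N1612 := ded_17_1 L8309 L8298 L16642
theorem L16645 : sm gb N1612 = N3128 := flp_b L16644
theorem L16648 : sm gc N1610 = N3129 := rfl
theorem L16649 : sm gc N3129 = N1610 := flp_c L16648
theorem L16650 : sm ge N1610 = N3130 := rfl
theorem L16651 : sm ge N3130 = N1610 := flp_e L16650
theorem L16652 : sm gf N1610 = N3131 := rfl
theorem L16653 : sm gf N3131 = N1610 := flp_f L16652
theorem L16654 : sm gg N1610 = N3132 := rfl
theorem L16655 : sm gg N3132 = N1610 := flp_g L16654
theorem L16656 : sm gd N1611 = N3133 := rfl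
theorem L16657 : sm gd N3133 = N1611 := flp_d L16656
theorem L16658 : sm gg N1611 = N3134 := rfl
theorem L16659 : sm gg N3134 = N1611 := flp_g L16658
theorem L16660 : sm gc N3134 = N1613 := ded_21_1 L8313 L8307 L16658
theorem L16661 : sm gc N1613 = N3134 := flp_c L16660
theorem L16662 : sm ge N3134 = N1612 := ded_26_1 L8309 L8304 L16658
theorem L16663 : sm ge N1612 = N3134 := flp_e L16662
theorem L16664 : sm gf N3134 = N2981 := ded_28_2 L15843 L15834 L15840 L16658
theorem L16665 : sm gf N2981 = N3134 := flp_f L16664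
theorem L16666 : sm gd N1612 = N3135 := rfl
theorem L16667 : sm gd N3135 = N1612 := flp_d L16666
theorem L16668 : sm gf N1612 = N3136 := rfl
theorem L16669 : sm gf N3136 = N1612 := flp_f L16668
theorem L16670 : sm ga N3136 = N3134 := ded_11_1 L16664 L15844 L16668
theorem L16671 : sm ga N3134 = N3136 := flp_a L16670
theorem L16672 : sm gc N3136 = N1614 := ded_20_1 L8321 L8311 L16668
theorem L16673 : sm gc N1614 = N3136 := flp_c L16672
theorem L16674 : sm ge N3136 = N2981 := ded_25_1 L16665 L16662 L16668
theorem L16675 : sm ge N2981 = N3136 := flp_e L16674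
theorem L16676 : sm gg N3136 = N2980 := ded_28_3 L15835 L7906 L8308 L16668
theorem L16678 : sm ga N1615 = N3137 := rfl
theorem L16679 : sm ga N3137 = N1615 := flp_a L16678
theorem L16682 : sm gb N3137 = N2984 := ded_29_4 L15862 L7932 L4145 L4499 L4496 L2319 L4490 L8333 L16678
theorem L16683 : sm gb N2984 = N3137 := flp_b L16682
theorem L16684 : sm ge N2982 = N3137 := ded_29_9 L16679 L8331 L4142 L3960 L3961 L4444 L4446 L8968 L15853
theorem L16686 : sm gd N1615 = N3138 := rfl
theorem L16687 : sm gd N3138 = N1615 := flp_d L16686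
theorem L16688 : sm gb N3138 = N1616 := ded_14_1 L8335 L8330 L16686
theorem L16689 : sm gb N1616 = N3138 := flp_b L16688
theorem L16690 : sm ge N1615 = N3139 := rfl
theorem L16691 : sm ge N3139 = N1615 := flp_e L16690
theorem L16692 : sm ga N3139 = N2982 := ded_10_1 L16684 L16679 L16690
theorem L16693 : sm ga N2982 = N3139 := flp_a L16692
theorem L16694 : sm gb N3139 = N1617 := ded_15_1 L8337 L8330 L16690
theorem L16695 : sm gb N1617 = N3139 := flp_b L16694
theorem L16700 : sm gf N1615 = N3140 := rfl
theorem L16701 : sm gf N3140 = N1615 := flp_f L16700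
theorem L16702 : sm gb N3140 = N1618 := ded_16_1 L8341 L8330 L16700
theorem L16703 : sm gb N1618 = N3140 := flp_b L16702
theorem L16704 : sm gc N3140 = N1770 := ded_20_1 L9071 L8333 L16700
theorem L16705 : sm gc N1770 = N3140 := flp_c L16704
theorem L16706 : sm gc N1616 = N3141 := rfl
theorem L16707 : sm gc N3141 = N1616 := flp_c L16706
theorem L16708 : sm ge N1616 = N3142 := rfl
theorem L16709 : sm ge N3142 = N1616 := flp_e L16708
theorem L16710 : sm gf N1616 = N3143 := rfl
theorem L16711 : sm gf N3143 = N1616 := flp_f L16710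
theorem L16712 : sm gg N1616 = N3144 := rfl
theorem L16713 : sm gg N3144 = N1616 := flp_g L16712
theorem L16714 : sm gd N1617 = N3145 := rfl
theorem L16715 : sm gd N3145 = N1617 := flp_d L16714
theorem L16716 : sm gf N1617 = N3146 := rfl
theorem L16717 : sm gf N3146 = N1617 := flp_f L16716
theorem L16718 : sm gc N3146 = N1619 := ded_20_1 L8345 L8339 L16716
theorem L16719 : sm gc N1619 = N3146 := flp_c L16718
theorem L16724 : sm gd N1618 = N3147 := rfl
theorem L16725 : sm gd N3147 = N1618 := flp_d L16724
theorem L16736 : sm gd N1621 = N3149 := rfl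
theorem L16738 : sm ga N3149 = N1622 := ded_9_1 L8373 L8362 L16736
theorem L16739 : sm ga N1622 = N3149 := flp_a L16738
theorem L16740 : sm gb N3149 = N2992 := ded_14_1 L15905 L8369 L16736
theorem L16741 : sm gb N2992 = N3149 := flp_b L16740
theorem L16744 : sm ge N1622 = N3151 := rfl
theorem L16746 : sm gb N3151 = N1626 := ded_15_1 L8395 L8375 L16744
theorem L16747 : sm gb N1626 = N3151 := flp_b L16746
theorem L16748 : sm gf N1622 = N3152 := rfl
theorem L16749 : sm gf N3152 = N1622 := flp_f L16748
theorem L16750 : sm gb N3152 = N1627 := ded_16_1 L8397 L8375 L16748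
theorem L16751 : sm gb N1627 = N3152 := flp_b L16750
theorem L16752 : sm gd N3152 = N1663 := ded_23_1 L8561 L4236 L4156 L8372 L16748
theorem L16754 : sm gg N1622 = N3153 := rfl
theorem L16755 : sm gg N3153 = N1622 := flp_g L16754
theorem L16756 : sm gb N3153 = N1628 := ded_17_1 L8401 L8375 L16754
theorem L16757 : sm gb N1628 = N3153 := flp_b L16756
theorem L16758 : sm gd N1623 = N3154 := rfl
theorem L16760 : sm ga N3154 = N2986 := ded_9_1 L15873 L8379 L16758
theorem L16761 : sm ga N2986 = N3154 := flp_a L16760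
theorem L16762 : sm gb N3154 = N1629 := ded_14_1 L8403 L8381 L16758
theorem L16763 : sm gb N1629 = N3154 := flp_b L16762
theorem L16768 : sm gb N1625 = N3156 := rfl
theorem L16769 : sm gb N3156 = N1625 := flp_b L16768
theorem L16770 : sm gd N1625 = N3157 := rfl
theorem L16771 : sm gd N3157 = N1625 := flp_d L16770
theorem L16772 : sm ga N3157 = N3086 := ded_9_1 L16429 L15888 L16770
theorem L16773 : sm ga N3086 = N3157 := flp_a L16772
theorem L16774 : sm gc N2959 = N3157 := ded_30_0 L16771 L8393 L4160 L2153 L1087 L1068 L2122 L4107 L8215 L15709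
theorem L16775 : sm gc N3157 = N2959 := flp_c L16774
theorem L16776 : sm ge N1625 = N3158 := rfl
theorem L16777 : sm ge N3158 = N1625 := flp_e L16776
theorem L16778 : sm gc N3158 = N1626 := ded_19_1 L8395 L8392 L16776
theorem L16779 : sm gc N1626 = N3158 := flp_c L16778
theorem L16780 : sm gf N1625 = N3159 := rfl
theorem L16781 : sm gf N3159 = N1625 := flp_f L16780
theorem L16782 : sm gc N3159 = N1627 := ded_20_1 L8397 L8392 L16780
theorem L16783 : sm gc N1627 = N3159 := flp_c L16782
theorem L16784 : sm gg N1625 = N3160 := rfl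
theorem L16785 : sm gg N3160 = N1625 := flp_g L16784
theorem L16788 : sm gd N1626 = N3161 := rfl
theorem L16789 : sm gd N3161 = N1626 := flp_d L16788
theorem L16790 : sm ge N3161 = N1629 := ded_22_2 L8403 L4162 L4159 L8394 L16788
theorem L16791 : sm ge N1629 = N3161 := flp_e L16790
theorem L16792 : sm gf N1626 = N3162 := rfl
theorem L16793 : sm gf N3162 = N1626 := flp_f L16792
theorem L16794 : sm ge N3162 = N1627 := ded_25_1 L8397 L8394 L16792
theorem L16795 : sm ge N1627 = N3162 := flp_e L16794
theorem L16796 : sm gg N1626 = N3163 := rfl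
theorem L16797 : sm gg N3163 = N1626 := flp_g L16796
theorem L16798 : sm ge N3163 = N1628 := ded_26_1 L8401 L8394 L16796
theorem L16799 : sm ge N1628 = N3163 := flp_e L16798
theorem L16800 : sm gg N1627 = N3164 := rfl
theorem L16801 : sm gg N3164 = N1627 := flp_g L16800
theorem L16802 : sm gf N3163 = N3164 := ded_28_0 L16801 L8397 L8400 L16799
theorem L16804 : sm gd N1628 = N3165 := rfl
theorem L16805 : sm gd N3165 = N1628 := flp_d L16804
theorem L16806 : sm gg N3165 = N1630 := ded_24_2 L8405 L4168 L4159 L8400 L16804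
theorem L16807 : sm gg N1630 = N3165 := flp_g L16806
theorem L16814 : sm gc N1629 = N3167 := rfl
theorem L16815 : sm gc N3167 = N1629 := flp_c L16814
theorem L16816 : sm gf N1629 = N3168 := rfl
theorem L16817 : sm gf N3168 = N1629 := flp_f L16816
theorem L16818 : sm gd N3168 = N1680 := ded_23_1 L8643 L4262 L4166 L8402 L16816
theorem L16819 : sm gd N1680 = N3168 := flp_d L16818
theorem L16820 : sm gg N1629 = N3169 := rfl
theorem L16821 : sm gg N3169 = N1629 := flp_g L16820
theorem L16822 : sm gc N1630 = N3170 := rfl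
theorem L16823 : sm gc N3170 = N1630 := flp_c L16822
theorem L16824 : sm ge N1630 = N3171 := rfl
theorem L16825 : sm ge N3171 = N1630 := flp_e L16824
theorem L16826 : sm gf N1630 = N3172 := rfl
theorem L16827 : sm gf N3172 = N1630 := flp_f L16826
theorem L16828 : sm gb N1631 = N3173 := rfl
theorem L16830 : sm gg N3173 = N1634 := ded_17_2 L8421 L8409 L16828
theorem L16831 : sm gg N1634 = N3173 := flp_g L16830
theorem L16832 : sm gc N3173 = N1796 := ded_13_2 L9221 L4556 L4174 L8406 L16828
theorem L16833 : sm gc N1796 = N3173 := flp_c L16832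
theorem L16834 : sm gd N1631 = N3174 := rfl
theorem L16835 : sm gd N3174 = N1631 := flp_d L16834
theorem L16836 : sm ge N1631 = N3175 := rfl
theorem L16837 : sm ge N3175 = N1631 := flp_e L16836
theorem L16840 : sm gg N3175 = N1636 := ded_26_2 L8427 L8409 L16836
theorem L16841 : sm gg N1636 = N3175 := flp_g L16840
theorem L16842 : sm gf N1631 = N3176 := rfl
theorem L16843 : sm gf N3176 = N1631 := flp_f L16842
theorem L16844 : sm gc N3176 = N1633 := ded_20_1 L8417 L8406 L16842
theorem L16846 : sm ga N1634 = N3177 := rfl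
theorem L16847 : sm ga N3177 = N1634 := flp_a L16846
theorem L16848 : sm gc N3177 = N1800 := ded_8_2 L9246 L8423 L16846
theorem L16849 : sm gc N1800 = N3177 := flp_c L16848
theorem L16850 : sm gb N3177 = N2999 := ded_29_4 L15944 L7984 L4181 L4577 L4574 L2354 L4568 L8423 L16846
theorem L16851 : sm gb N2999 = N3177 := flp_b L16850
theorem L16852 : sm ge N2997 = N3177 := ded_29_9 L16847 L8421 L4178 L3988 L3989 L4709 L4711 L9525 L15935
theorem L16858 : sm ge N1634 = N3179 := rfl
theorem L16859 : sm ge N3179 = N1634 := flp_e L16858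
theorem L16864 : sm gc N3179 = N1802 := ded_19_1 L9252 L8423 L16858
theorem L16865 : sm gc N1802 = N3179 := flp_c L16864
theorem L16866 : sm gf N1634 = N3180 := rfl
theorem L16867 : sm gf N3180 = N1634 := flp_f L16866
theorem L16868 : sm gb N3180 = N1637 := ded_16_1 L8431 L8420 L16866
theorem L16869 : sm gb N1637 = N3180 := flp_b L16868
theorem L16870 : sm gc N3180 = N1803 := ded_20_1 L9256 L8423 L16866
theorem L16872 : sm gc N1635 = N3181 := rfl
theorem L16873 : sm gc N3181 = N1635 := flp_c L16872
theorem L16874 : sm ge N1635 = N3182 := rfl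
theorem L16878 : sm gg N1635 = N3184 := rfl
theorem L16879 : sm gg N3184 = N1635 := flp_g L16878
theorem L16880 : sm gd N1636 = N3185 := rfl
theorem L16881 : sm gd N3185 = N1636 := flp_d L16880
theorem L16882 : sm gf N1636 = N3186 := rfl
theorem L16883 : sm gf N3186 = N1636 := flp_f L16882
theorem L16886 : sm ge N3186 = N1637 := ded_25_1 L8431 L8426 L16882
theorem L16888 : sm gg N3176 = N3186 := ded_28_1 L16883 L16841 L16837 L16842
theorem L16889 : sm gg N3186 = N3176 := flp_g L16888
theorem L16890 : sm gd N1637 = N3187 := rfl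
theorem L16891 : sm gd N3187 = N1637 := flp_d L16890
theorem L16892 : sm gg N1637 = N3188 := rfl
theorem L16894 : sm gc N3188 = N1639 := ded_21_1 L8443 L8433 L16892
theorem L16896 : sm ge N3188 = N3176 := ded_26_1 L16888 L16886 L16892
theorem L16900 : sm gd N3176 = N3188 := ded_31_2 L16894 L8443 L4184 L2167 L2129 L2126 L1065 L1056 L2006 L1080 L1096 L2166 L4177 L8409 L16842
theorem L16901 : sm gd N3188 = N3176 := flp_d L16900
theorem L16902 : sm gd N1638 = N3189 := rfl
theorem L16903 : sm gd N3189 = N1638 := flp_d L16902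
theorem L16904 : sm ga N3189 = N2800 := ded_9_1 L15962 L15954 L16902
theorem L16912 : sm gg N2792 = N3189 := ded_12_0 L16904 L14813 L14763
theorem L16914 : sm gd N1640 = N3190 := rfl
theorem L16920 : sm gc N1641 = N3191 := rfl
theorem L16926 : sm gf N1641 = N3193 := rfl
theorem L16927 : sm gf N3193 = N1641 := flp_f L16926
theorem L16936 : sm gd N1642 = N3195 := rfl
theorem L16937 : sm gd N3195 = N1642 := flp_d L16936
theorem L16938 : sm ga N3195 = N3003 := ded_9_1 L15975 L8467 L16936
theorem L16939 : sm ga N3003 = N3195 := flp_a L16938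
theorem L16942 : sm gd N1643 = N3196 := rfl
theorem L16943 : sm gd N3196 = N1643 := flp_d L16942
theorem L16946 : sm gb N1644 = N3197 := rfl
theorem L16947 : sm gb N3197 = N1644 := flp_b L16946
theorem L16948 : sm gd N1644 = N3198 := rfl
theorem L16949 : sm gd N3198 = N1644 := flp_d L16948
theorem L16950 : sm ga N3198 = N3109 := ded_9_1 L16541 L15990 L16948
theorem L16951 : sm ga N3109 = N3198 := flp_a L16950
theorem L16952 : sm gc N2969 = N3198 := ded_30_0 L16949 L8481 L4196 L2171 L1099 L1073 L2132 L4118 L8257 L15765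
theorem L16953 : sm gc N3198 = N2969 := flp_c L16952
theorem L16962 : sm gg N1644 = N3201 := rfl
theorem L16963 : sm gg N3201 = N1644 := flp_g L16962
theorem L16970 : sm gf N1645 = N3203 := rfl
theorem L16971 : sm gf N3203 = N1645 := flp_f L16970
theorem L16972 : sm ge N3203 = N1646 := ded_25_1 L8485 L8482 L16970
theorem L16974 : sm gg N1645 = N3204 := rfl
theorem L16976 : sm ge N3204 = N1647 := ded_26_1 L8487 L8482 L16974
theorem L16977 : sm ge N1647 = N3204 := flp_e L16976
theorem L16978 : sm gd N1646 = N3205 := rfl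
theorem L16979 : sm gd N3205 = N1646 := flp_d L16978
theorem L16980 : sm gf N3205 = N1649 := ded_23_2 L8493 L4204 L4195 L8484 L16978
theorem L16981 : sm gf N1649 = N3205 := flp_f L16980
theorem L16986 : sm gf N1647 = N3207 := rfl
theorem L16990 : sm gg N3207 = N3203 := ded_28_3 L16972 L8485 L8486 L16986
theorem L17000 : sm gc N1649 = N3211 := rfl
theorem L17001 : sm gc N3211 = N1649 := flp_c L17000
theorem L17002 : sm ge N1649 = N3212 := rfl
theorem L17003 : sm ge N3212 = N1649 := flp_e L17002
theorem L17004 : sm gg N1649 = N3213 := rfl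
theorem L17005 : sm gg N3213 = N1649 := flp_g L17004
theorem L17006 : sm gb N1650 = N3214 := rfl
theorem L17007 : sm gb N3214 = N1650 := flp_b L17006
theorem L17008 : sm gf N3214 = N1653 := ded_16_2 L8509 L8497 L17006
theorem L17009 : sm gf N1653 = N3214 := flp_f L17008
theorem L17010 : sm gc N3214 = N1833 := ded_13_2 L9402 L4637 L4210 L8494 L17006
theorem L17011 : sm gc N1833 = N3214 := flp_c L17010
theorem L17012 : sm gd N1650 = N3215 := rfl
theorem L17013 : sm gd N3215 = N1650 := flp_d L17012
theorem L17014 : sm ge N1650 = N3216 := rfl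
theorem L17018 : sm gf N3216 = N1655 := ded_25_2 L8515 L8497 L17014
theorem L17020 : sm gg N1650 = N3217 := rfl
theorem L17021 : sm gg N3217 = N1650 := flp_g L17020
theorem L17022 : sm gc N3217 = N1652 := ded_21_1 L8505 L8494 L17020
theorem L17023 : sm gc N1652 = N3217 := flp_c L17022
theorem L17024 : sm ga N1653 = N3218 := rfl
theorem L17025 : sm ga N3218 = N1653 := flp_a L17024
theorem L17026 : sm gc N3218 = N1837 := ded_8_2 L9442 L8511 L17024
theorem L17027 : sm gc N1837 = N3218 := flp_c L17026
theorem L17028 : sm gb N3218 = N3015 := ded_29_4 L16042 L8034 L4217 L4658 L4655 L2389 L4649 L8511 L17024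
theorem L17029 : sm gb N3015 = N3218 := flp_b L17028
theorem L17030 : sm ge N3013 = N3218 := ded_29_9 L17025 L8509 L4214 L4014 L4015 L4754 L4756 L9621 L16033
theorem L17031 : sm ge N3218 = N3013 := flp_e L17030
theorem L17032 : sm gd N1653 = N3219 := rfl
theorem L17033 : sm gd N3219 = N1653 := flp_d L17032
theorem L17034 : sm gb N3219 = N1654 := ded_14_1 L8513 L8508 L17032
theorem L17035 : sm gb N1654 = N3219 := flp_b L17034
theorem L17036 : sm ge N1653 = N3220 := rfl
theorem L17037 : sm ge N3220 = N1653 := flp_e L17036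
theorem L17038 : sm ga N3220 = N3013 := ded_10_1 L17030 L17025 L17036
theorem L17039 : sm ga N3013 = N3220 := flp_a L17038
theorem L17042 : sm gc N3220 = N1839 := ded_19_1 L9448 L8511 L17036
theorem L17043 : sm gc N1839 = N3220 := flp_c L17042
theorem L17044 : sm gg N1653 = N3221 := rfl
theorem L17048 : sm gc N3221 = N1840 := ded_21_1 L9452 L8511 L17044
theorem L17050 : sm gc N1654 = N3222 := rfl
theorem L17051 : sm gc N3222 = N1654 := flp_c L17050
theorem L17052 : sm ge N1654 = N3223 := rfl
theorem L17053 : sm ge N3223 = N1654 := flp_e L17052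
theorem L17054 : sm gf N1654 = N3224 := rfl
theorem L17055 : sm gf N3224 = N1654 := flp_f L17054
theorem L17056 : sm gg N1654 = N3225 := rfl
theorem L17057 : sm gg N3225 = N1654 := flp_g L17056
theorem L17058 : sm gd N1655 = N3226 := rfl
theorem L17059 : sm gd N3226 = N1655 := flp_d L17058
theorem L17060 : sm gg N1655 = N3227 := rfl
theorem L17061 : sm gg N3227 = N1655 := flp_g L17060
theorem L17064 : sm ge N3227 = N1656 := ded_26_1 L8519 L8514 L17060
theorem L17066 : sm gf N3227 = N3217 := ded_28_2 L17021 L17014 L17018 L17060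
theorem L17067 : sm gf N3217 = N3227 := flp_f L17066
theorem L17068 : sm gd N1656 = N3228 := rfl
theorem L17069 : sm gd N3228 = N1656 := flp_d L17068
theorem L17070 : sm gf N1656 = N3229 := rfl
theorem L17071 : sm gf N3229 = N1656 := flp_f L17070
theorem L17072 : sm gc N3229 = N1658 := ded_20_1 L8531 L8521 L17070
theorem L17073 : sm gc N1658 = N3229 := flp_c L17072
theorem L17074 : sm ge N3229 = N3217 := ded_25_1 L17067 L17064 L17070
theorem L17075 : sm ge N3217 = N3229 := flp_e L17074
theorem L17078 : sm gd N3229 = N3217 := ded_31_2 L17022 L8505 L4211 L2185 L2139 L2142 L2109 L1057 L564 L574 L1104 L2184 L4213 L8518 L17070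
theorem L17079 : sm gd N3217 = N3229 := flp_d L17078
theorem L17080 : sm gd N1657 = N3230 := rfl
theorem L17081 : sm gd N3230 = N1657 := flp_d L17080
theorem L17082 : sm gb N3230 = N1847 := ded_14_1 L9481 L8525 L17080
theorem L17084 : sm ge N3230 = N1692 := ded_22_2 L8678 L8316 L4226 L8527 L17080
theorem L17086 : sm gg N3230 = N1691 := ded_24_2 L8672 L8414 L4220 L8522 L17080
theorem L17087 : sm gg N1691 = N3230 := flp_g L17086
theorem L17088 : sm gf N2803 = N3230 := ded_16_0 L17082 L9487 L14841
theorem L17089 : sm gf N3230 = N2803 := flp_f L17088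
theorem L17090 : sm gd N1658 = N3231 := rfl
theorem L17094 : sm gf N3231 = N3047 := ded_23_2 L16230 L8321 L4226 L8530 L17090
theorem L17095 : sm gf N3047 = N3231 := flp_f L17094
theorem L17100 : sm gc N1659 = N3232 := rfl
theorem L17101 : sm gc N3232 = N1659 := flp_c L17100
theorem L17102 : sm ga N3232 = N1661 := ded_8_1 L8555 L8541 L17100
theorem L17103 : sm ga N1661 = N3232 := flp_a L17102
theorem L17104 : sm ge N1659 = N3233 := rfl
theorem L17105 : sm ge N3233 = N1659 := flp_e L17104
theorem L17106 : sm ga N3233 = N1662 := ded_10_1 L8557 L8541 L17104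
theorem L17107 : sm ga N1662 = N3233 := flp_a L17106
theorem L17108 : sm gb N3233 = N3029 := ded_15_1 L16126 L8543 L17104
theorem L17109 : sm gb N3029 = N3233 := flp_b L17108
theorem L17110 : sm gd N3233 = N3020 := ded_22_1 L16073 L8049 L4233 L8538 L17104
theorem L17111 : sm gd N3020 = N3233 := flp_d L17110
theorem L17112 : sm gf N1659 = N3234 := rfl
theorem L17113 : sm gf N3234 = N1659 := flp_f L17112
theorem L17118 : sm gg N1659 = N3235 := rfl
theorem L17119 : sm gg N3235 = N1659 := flp_g L17118
theorem L17120 : sm ga N3235 = N1664 := ded_12_1 L8565 L8541 L17118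
theorem L17121 : sm ga N1664 = N3235 := flp_a L17120
theorem L17122 : sm gb N3235 = N3037 := ded_17_1 L16169 L8543 L17118
theorem L17123 : sm gb N3037 = N3235 := flp_b L17122
theorem L17124 : sm gd N1660 = N3236 := rfl
theorem L17125 : sm gd N3236 = N1660 := flp_d L17124
theorem L17126 : sm ga N3236 = N1667 := ded_9_1 L8587 L8547 L17124
theorem L17127 : sm ga N1667 = N3236 := flp_a L17126
theorem L17128 : sm gb N3236 = N3038 := ded_14_1 L16173 L8549 L17124
theorem L17129 : sm gb N3038 = N3236 := flp_b L17128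
theorem L17130 : sm gb N1661 = N3237 := rfl
theorem L17131 : sm gb N3237 = N1661 := flp_b L17130
theorem L17132 : sm gc N3237 = N1669 := ded_13_2 L8601 L4254 L4238 L8554 L17130
theorem L17134 : sm gd N1661 = N3238 := rfl
theorem L17135 : sm gd N3238 = N1661 := flp_d L17134
theorem L17136 : sm ge N1661 = N3239 := rfl
theorem L17137 : sm ge N3239 = N1661 := flp_e L17136
theorem L17138 : sm gc N3239 = N1662 := ded_19_1 L8557 L8554 L17136
theorem L17139 : sm gc N1662 = N3239 := flp_c L17138
theorem L17140 : sm gf N1661 = N3240 := rfl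
theorem L17141 : sm gf N3240 = N1661 := flp_f L17140
theorem L17144 : sm gg N1661 = N3241 := rfl
theorem L17145 : sm gg N3241 = N1661 := flp_g L17144
theorem L17148 : sm gd N1662 = N3242 := rfl
theorem L17149 : sm gd N3242 = N1662 := flp_d L17148
theorem L17150 : sm ga N3242 = N3020 := ded_9_1 L17111 L17106 L17148
theorem L17152 : sm gb N3242 = N1673 := ded_14_1 L8615 L8559 L17148
theorem L17153 : sm gb N1673 = N3242 := flp_b L17152
theorem L17156 : sm gf N1662 = N3243 := rfl
theorem L17157 : sm gf N3243 = N1662 := flp_f L17156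
theorem L17158 : sm gb N3243 = N1674 := ded_16_1 L8619 L8559 L17156
theorem L17159 : sm gb N1674 = N3243 := flp_b L17158
theorem L17160 : sm ge N3243 = N1663 := ded_25_1 L8561 L8556 L17156
theorem L17161 : sm ge N1663 = N3243 := flp_e L17160
theorem L17162 : sm gg N1662 = N3244 := rfl
theorem L17163 : sm gg N3244 = N1662 := flp_g L17162
theorem L17164 : sm gb N3244 = N1675 := ded_17_1 L8623 L8559 L17162
theorem L17165 : sm gb N1675 = N3244 := flp_b L17164
theorem L17166 : sm ge N3244 = N1664 := ded_26_1 L8565 L8556 L17162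
theorem L17168 : sm gg N1663 = N3245 := rfl
theorem L17170 : sm gb N3245 = N1676 := ded_17_1 L8627 L8563 L17168
theorem L17171 : sm gb N1676 = N3245 := flp_b L17170
theorem L17174 : sm gd N1664 = N3246 := rfl
theorem L17176 : sm gb N3246 = N1677 := ded_14_1 L8631 L8567 L17174
theorem L17177 : sm gb N1677 = N3246 := flp_b L17176
theorem L17180 : sm gf N1664 = N3247 := rfl
theorem L17181 : sm gf N3247 = N1664 := flp_f L17180
theorem L17182 : sm gb N3247 = N1678 := ded_16_1 L8635 L8567 L17180
theorem L17183 : sm gb N1678 = N3247 := flp_b L17182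
theorem L17186 : sm gg N3247 = N3243 := ded_28_3 L17160 L8561 L8564 L17180
theorem L17187 : sm gg N3243 = N3247 := flp_g L17186
theorem L17188 : sm gc N1665 = N3248 := rfl
theorem L17190 : sm ga N3248 = N3019 := ded_8_1 L16071 L8571 L17188
theorem L17192 : sm gf N1665 = N3249 := rfl
theorem L17194 : sm ga N3249 = N3021 := ded_11_1 L16077 L8571 L17192
theorem L17196 : sm gb N3249 = N1680 := ded_16_1 L8643 L8573 L17192
theorem L17197 : sm gb N1680 = N3249 := flp_b L17196
theorem L17198 : sm gg N1665 = N3250 := rfl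

end Cfsg.Agent.Helper28.HeA
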