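import Cfsg.Agent.Helper28.HeB2

/-! # The Held group presentation, cosets of the subgroup generated by a, c, d, e, f, (ab)², (bcde)⁷: the coset enumeration, part 3 (helper28; generated) -/

set_option autoImplicit false

noncomputable section

namespace Cfsg.Agent.Helper28.HeA

open Cfsg.Agent.Helper28.CosetTable

theorem L17199 : sm gg N3250 = N1665 := flp_g L17198
theorem L17202 : sm gb N3250 = N1681 := ded_17_1 L8645 L8573 L17198
theorem L17203 : sm gb N1681 = N3250 := flp_b L17202
theorem L17204 : sm gd N1666 = N3251 := rfl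
theorem L17206 : sm ga N3251 = N3023 := ded_9_1 L16085 L8577 L17204
theorem L17207 : sm ga N3023 = N3251 := flp_a L17206
theorem L17210 : sm gc N1667 = N3252 := rfl
theorem L17211 : sm gc N3252 = N1667 := flp_c L17210
theorem L17212 : sm ge N1667 = N3253 := rfl
theorem L17213 : sm ge N3253 = N1667 := flp_e L17212
theorem L17216 : sm gf N1667 = N3254 := rfl
theorem L17217 : sm gf N3254 = N1667 := flp_f L17216
theorem L17218 : sm gb N3254 = N1685 := ded_16_1 L8653 L8589 L17216
theorem L17219 : sm gb N1685 = N3254 := flp_b L17218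
theorem L17220 : sm gd N1668 = N3255 := rfl
theorem L17222 : sm gb N3255 = N1686 := ded_14_1 L8655 L8593 L17220
theorem L17223 : sm gb N1686 = N3255 := flp_b L17222
theorem L17224 : sm ga N1669 = N3256 := rfl
theorem L17225 : sm ga N3256 = N1669 := flp_a L17224
theorem L17226 : sm ge N1669 = N3257 := rfl
theorem L17227 : sm ge N3257 = N1669 := flp_e L17226
theorem L17228 : sm gb N3257 = N1670 := ded_15_1 L8603 L8600 L17226
theorem L17229 : sm gb N1670 = N3257 := flp_b L17228
theorem L17230 : sm gf N1669 = N3258 := rfl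
theorem L17231 : sm gf N3258 = N1669 := flp_f L17230
theorem L17232 : sm gb N3258 = N1671 := ded_16_1 L8607 L8600 L17230
theorem L17233 : sm gb N1671 = N3258 := flp_b L17232
theorem L17234 : sm gg N1669 = N3259 := rfl
theorem L17235 : sm gg N3259 = N1669 := flp_g L17234
theorem L17236 : sm gb N3259 = N1672 := ded_17_1 L8611 L8600 L17234
theorem L17237 : sm gb N1672 = N3259 := flp_b L17236
theorem L17238 : sm gd N1670 = N3260 := rfl
theorem L17239 : sm gd N3260 = N1670 := flp_d L17238
theorem L17240 : sm gf N1670 = N3261 := rfl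
theorem L17241 : sm gf N3261 = N1670 := flp_f L17240
theorem L17242 : sm gc N3261 = N1674 := ded_20_1 L8619 L8605 L17240
theorem L17243 : sm gc N1674 = N3261 := flp_c L17242
theorem L17244 : sm ge N3261 = N1671 := ded_25_1 L8607 L8602 L17240
theorem L17245 : sm ge N1671 = N3261 := flp_e L17244
theorem L17246 : sm gg N1670 = N3262 := rfl
theorem L17247 : sm gg N3262 = N1670 := flp_g L17246
theorem L17248 : sm gc N3262 = N1675 := ded_21_1 L8623 L8605 L17246
theorem L17250 : sm ge N3262 = N1672 := ded_26_1 L8611 L8602 L17246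
theorem L17252 : sm gd N1671 = N3263 := rfl
theorem L17253 : sm gd N3263 = N1671 := flp_d L17252
theorem L17254 : sm gg N1671 = N3264 := rfl
theorem L17255 : sm gg N3264 = N1671 := flp_g L17254
theorem L17256 : sm gc N3264 = N1676 := ded_21_1 L8627 L8609 L17254
theorem L17260 : sm gd N1672 = N3265 := rfl
theorem L17261 : sm gd N3265 = N1672 := flp_d L17260
theorem L17262 : sm gf N1672 = N3266 := rfl
theorem L17263 : sm gf N3266 = N1672 := flp_f L17262
theorem L17264 : sm gc N3266 = N1678 := ded_20_1 L8635 L8613 L17262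
theorem L17268 : sm gg N3266 = N3261 := ded_28_3 L17244 L8607 L8610 L17262
theorem L17269 : sm gg N3261 = N3266 := flp_g L17268
theorem L17270 : sm gc N1673 = N3267 := rfl
theorem L17271 : sm gc N3267 = N1673 := flp_c L17270
theorem L17272 : sm ge N3267 = N1679 := ded_19_2 L8641 L8617 L17270
theorem L17273 : sm ge N1679 = N3267 := flp_e L17272
theorem L17274 : sm gb N3256 = N3267 := ded_29_7 L17271 L8616 L8079 L8543 L17100 L17102 L17130 L17132 L17224
theorem L17275 : sm gb N3267 = N3256 := flp_b L17274
theorem L17276 : sm gf N1673 = N3268 := rfl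
theorem L17278 : sm ge N3268 = N1680 := ded_25_1 L8643 L8617 L17276
theorem L17279 : sm ge N1680 = N3268 := flp_e L17278
theorem L17280 : sm gg N1673 = N3269 := rfl
theorem L17281 : sm gg N3269 = N1673 := flp_g L17280
theorem L17282 : sm ge N3269 = N1681 := ded_26_1 L8645 L8617 L17280
theorem L17283 : sm ge N1681 = N3269 := flp_e L17282
theorem L17284 : sm gd N1674 = N3270 := rfl
theorem L17285 : sm gd N3270 = N1674 := flp_d L17284
theorem L17286 : sm gd N1675 = N3271 := rfl
theorem L17287 : sm gd N3271 = N1675 := flp_d L17286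
theorem L17288 : sm gd N1676 = N3272 := rfl
theorem L17289 : sm gd N3272 = N1676 := flp_d L17288
theorem L17290 : sm gc N1677 = N3273 := rfl
theorem L17292 : sm gg N3273 = N1683 := ded_21_2 L8649 L8633 L17290
theorem L17293 : sm gg N1683 = N3273 := flp_g L17292
theorem L17294 : sm ge N1677 = N3274 := rfl
theorem L17295 : sm ge N3274 = N1677 := flp_e L17294
theorem L17296 : sm gg N3274 = N1684 := ded_26_2 L8651 L8633 L17294
theorem L17297 : sm gg N1684 = N3274 := flp_g L17296
theorem L17298 : sm gf N1677 = N3275 := rfl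
theorem L17300 : sm gd N1678 = N3276 := rfl
theorem L17301 : sm gd N3276 = N1678 := flp_d L17300
theorem L17302 : sm gb N1679 = N3277 := rfl
theorem L17303 : sm gb N3277 = N1679 := flp_b L17302
theorem L17306 : sm ga N3257 = N3277 := ded_29_0 L17303 L8641 L8079 L8543 L17100 L17102 L17130 L17132 L17226
theorem L17308 : sm gd N1679 = N3278 := rfl
theorem L17309 : sm gd N3278 = N1679 := flp_d L17308
theorem L17310 : sm gc N3278 = N3278 := ded_30_8 L17309 L16163 L16161 L8077 L4029 L2082 L2197 L4261 L8640 L17308
theorem L17311 : sm gf N1679 = N3279 := rfl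
theorem L17312 : sm gf N3279 = N1679 := flp_f L17311
theorem L17313 : sm gc N3279 = N1680 := ded_20_1 L8643 L8640 L17311
theorem L17314 : sm gc N1680 = N3279 := flp_c L17313
theorem L17315 : sm gg N1679 = N3280 := rfl
theorem L17316 : sm gg N3280 = N1679 := flp_g L17315
theorem L17317 : sm gc N3280 = N1681 := ded_21_1 L8645 L8640 L17315
theorem L17318 : sm gc N1681 = N3280 := flp_c L17317
theorem L17319 : sm gg N1680 = N3281 := rfl
theorem L17320 : sm gg N3281 = N1680 := flp_g L17319
theorem L17323 : sm gd N1681 = N3282 := rfl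
theorem L17324 : sm gd N3282 = N1681 := flp_d L17323
theorem L17325 : sm gg N3282 = N1682 := ded_24_2 L8647 L4264 L4261 L8644 L17323
theorem L17326 : sm gg N1682 = N3282 := flp_g L17325
theorem L17327 : sm gf N1681 = N3283 := rfl
theorem L17328 : sm gf N3283 = N1681 := flp_f L17327
theorem L17333 : sm gc N1682 = N3284 := rfl
theorem L17334 : sm gc N3284 = N1682 := flp_c L17333
theorem L17335 : sm ge N1682 = N3285 := rfl
theorem L17336 : sm ge N3285 = N1682 := flp_e L17335
theorem L17337 : sm gd N3285 = N1684 := ded_22_1 L8651 L4272 L4268 L8646 L17335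
theorem L17338 : sm gd N1684 = N3285 := flp_d L17337
theorem L17343 : sm gb N1683 = N3287 := rfl
theorem L17344 : sm gb N3287 = N1683 := flp_b L17343
theorem L17345 : sm gd N1683 = N3288 := rfl
theorem L17346 : sm gd N3288 = N1683 := flp_d L17345
theorem L17347 : sm ge N1683 = N3289 := rfl
theorem L17348 : sm ge N3289 = N1683 := flp_e L17347
theorem L17349 : sm gc N3289 = N1684 := ded_19_1 L8651 L8648 L17347
theorem L17350 : sm gc N1684 = N3289 := flp_c L17349
theorem L17351 : sm gf N1683 = N3290 := rfl
theorem L17352 : sm gf N3290 = N1683 := flp_f L17351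
theorem L17353 : sm gc N3290 = N1685 := ded_20_1 L8653 L8648 L17351
theorem L17354 : sm gc N1685 = N3290 := flp_c L17353
theorem L17355 : sm gf N1684 = N3291 := rfl
theorem L17356 : sm gf N3291 = N1684 := flp_f L17355
theorem L17357 : sm ge N3291 = N1685 := ded_25_1 L8653 L8650 L17355
theorem L17358 : sm ge N1685 = N3291 := flp_e L17357
theorem L17359 : sm gg N3275 = N3291 := ded_28_1 L17356 L17297 L17295 L17298
theorem L17361 : sm gd N1685 = N3292 := rfl
theorem L17362 : sm gd N3292 = N1685 := flp_d L17361
theorem L17363 : sm gf N3292 = N1686 := ded_23_2 L8655 L4274 L4271 L8652 L17361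
theorem L17364 : sm gf N1686 = N3292 := flp_f L17363
theorem L17365 : sm gg N1685 = N3293 := rfl
theorem L17366 : sm gg N3293 = N1685 := flp_g L17365
theorem L17367 : sm ge N3293 = N3275 := ded_26_1 L17359 L17357 L17365
theorem L17369 : sm gf N3274 = N3293 := ded_28_0 L17366 L8653 L8633 L17294
theorem L17370 : sm gf N3293 = N3274 := flp_f L17369
theorem L17371 : sm gc N3115 = N3293 := ded_31_15 L17366 L8653 L4272 L2200 L1119 L1091 L1087 L1068 L2125 L2131 L4102 L8198 L8200 L8263 L16559
theorem L17372 : sm gc N3293 = N3115 := flp_c L17371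
theorem L17373 : sm gg N3290 = N3115 := ded_21_2 L17371 L17366 L17354
theorem L17374 : sm gg N3115 = N3290 := flp_g L17373
theorem L17375 : sm gc N1686 = N3294 := rfl
theorem L17376 : sm gc N3294 = N1686 := flp_c L17375
theorem L17377 : sm ge N1686 = N3295 := rfl
theorem L17378 : sm ge N3295 = N1686 := flp_e L17377
theorem L17381 : sm gg N1686 = N3296 := rfl
theorem L17382 : sm gg N3296 = N1686 := flp_g L17381
theorem L17383 : sm gd N3296 = N3169 := ded_24_1 L16821 L8403 L4280 L8654 L17381
theorem L17385 : sm gb N1687 = N3297 := rfl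
theorem L17387 : sm gc N3297 = N1960 := ded_13_2 L10181 L5000 L4284 L8656 L17385
theorem L17395 : sm gg N1688 = N3300 := rfl
theorem L17396 : sm gg N3300 = N1688 := flp_g L17395
theorem L17405 : sm gd N3300 = N2792 := ded_24_1 L16912 L16903 L8441 L8663 L17395
theorem L17406 : sm gd N2792 = N3300 := flp_d L17405
theorem L17407 : sm gc N1689 = N3301 := rfl
theorem L17408 : sm gc N3301 = N1689 := flp_c L17407
theorem L17409 : sm ge N1689 = N3302 := rfl
theorem L17410 : sm ge N3302 = N1689 := flp_e L17409
theorem L17411 : sm gf N1689 = N3303 := rfl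
theorem L17412 : sm gf N3303 = N1689 := flp_f L17411
theorem L17413 : sm gg N1689 = N3304 := rfl
theorem L17414 : sm gg N3304 = N1689 := flp_g L17413
theorem L17415 : sm gd N3304 = N1698 := ded_24_1 L8701 L4300 L4288 L8664 L17413
theorem L17417 : sm gb N1690 = N3305 := rfl
theorem L17419 : sm gc N3305 = N1964 := ded_13_2 L10198 L5008 L4292 L8666 L17417
theorem L17420 : sm gc N1964 = N3305 := flp_c L17419
theorem L17421 : sm gd N1690 = N3306 := rfl
theorem L17422 : sm gd N3306 = N1690 := flp_d L17421
theorem L17427 : sm gg N1690 = N3308 := rfl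
theorem L17428 : sm gg N3308 = N1690 := flp_g L17427
theorem L17429 : sm gc N3308 = N1692 := ded_21_1 L8675 L8666 L17427
theorem L17430 : sm gc N1692 = N3308 := flp_c L17429
theorem L17443 : sm ge N1694 = N3310 := rfl
theorem L17444 : sm ge N3310 = N1694 := flp_e L17443
theorem L17445 : sm ga N3310 = N2871 := ded_10_1 L15263 L15245 L17443
theorem L17446 : sm ga N2871 = N3310 := flp_a L17445
theorem L17447 : sm gb N3310 = N1696 := ded_15_1 L8697 L8693 L17443
theorem L17448 : sm gb N1696 = N3310 := flp_b L17447
theorem L17449 : sm gc N3310 = N2843 := ded_19_1 L15184 L15188 L17443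
theorem L17451 : sm gf N3310 = N2841 := ded_28_0 L15086 L15161 L15189 L17443
theorem L17452 : sm gf N2841 = N3310 := flp_f L17451
theorem L17453 : sm gf N1694 = N3311 := rfl
theorem L17457 : sm gb N3311 = N1697 := ded_16_1 L8699 L8693 L17453
theorem L17463 : sm gg N3311 = N2853 := ded_28_3 L15156 L15161 L15189 L17453
theorem L17464 : sm gg N2853 = N3311 := flp_g L17463
theorem L17465 : sm gd N3311 = N2634 := ded_23_1 L13849 L6910 L4297 L8690 L17453
theorem L17466 : sm gd N2634 = N3311 := flp_d L17465
theorem L17467 : sm gb N1695 = N3312 := rfl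
theorem L17468 : sm gb N3312 = N1695 := flp_b L17467
theorem L17469 : sm gd N3312 = N2834 := ded_14_2 L15034 L8910 L17467
theorem L17470 : sm gd N2834 = N3312 := flp_d L17469
theorem L17471 : sm gc N3312 = N2849 := ded_13_2 L15182 L15188 L8692 L8694 L17467
theorem L17473 : sm ga N2917 = N3312 := ded_29_3 L17468 L8695 L4406 L8905 L14963 L14964 L15340 L15341 L15504
theorem L17474 : sm ga N3312 = N2917 := flp_a L17473
theorem L17475 : sm gg N2847 = N3312 := ded_21_0 L17471 L15130 L15122
theorem L17476 : sm gg N3312 = N2847 := flp_g L17475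
theorem L17477 : sm ge N1695 = N3313 := rfl
theorem L17478 : sm ge N3313 = N1695 := flp_e L17477
theorem L17479 : sm gc N3313 = N1696 := ded_19_1 L8697 L8694 L17477
theorem L17480 : sm gc N1696 = N3313 := flp_c L17479
theorem L17481 : sm gf N1695 = N3314 := rfl
theorem L17483 : sm ga N3314 = N2827 := ded_11_1 L14987 L8908 L17481
theorem L17485 : sm gc N3314 = N1697 := ded_20_1 L8699 L8694 L17481
theorem L17487 : sm gg N2824 = N3314 := ded_12_0 L17483 L14981 L14968
theorem L17488 : sm gg N3314 = N2824 := flp_g L17487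
theorem L17489 : sm gg N1695 = N3315 := rfl
theorem L17490 : sm gg N3315 = N1695 := flp_g L17489
theorem L17491 : sm gb N3315 = N2847 := ded_17_1 L17475 L17468 L17489
theorem L17492 : sm gb N2847 = N3315 := flp_b L17491
theorem L17495 : sm gf N2845 = N3315 := ded_28_0 L17490 L17481 L17488 L15107
theorem L17496 : sm gf N3315 = N2845 := flp_f L17495
theorem L17501 : sm gf N1696 = N3317 := rfl
theorem L17502 : sm gf N3317 = N1696 := flp_f L17501
theorem L17503 : sm gb N3317 = N2841 := ded_16_1 L17452 L17447 L17501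
theorem L17504 : sm gb N2841 = N3317 := flp_b L17503
theorem L17505 : sm ge N3317 = N1697 := ded_25_1 L8699 L8696 L17501
theorem L17507 : sm gg N3317 = N2851 := ded_28_1 L15193 L8701 L8696 L17501
theorem L17508 : sm gg N2851 = N3317 := flp_g L17507
theorem L17509 : sm gg N1696 = N3318 := rfl
theorem L17510 : sm gg N3318 = N1696 := flp_g L17509
theorem L17511 : sm ge N3318 = N1698 := ded_26_1 L8701 L8696 L17509
theorem L17512 : sm ge N1698 = N3318 := flp_e L17511
theorem L17513 : sm gd N1697 = N3319 := rfl
theorem L17515 : sm gb N3319 = N2634 := ded_14_1 L17466 L17457 L17513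
theorem L17516 : sm gb N2634 = N3319 := flp_b L17515
theorem L17517 : sm gf N3319 = N1701 := ded_23_2 L8715 L4306 L4299 L8698 L17513
theorem L17518 : sm gf N1701 = N3319 := flp_f L17517
theorem L17519 : sm gg N1697 = N3320 := rfl
theorem L17520 : sm gg N3320 = N1697 := flp_g L17519
theorem L17521 : sm ga N3320 = N2815 := ded_12_1 L14938 L8918 L17519
theorem L17522 : sm ga N2815 = N3320 := flp_a L17521
theorem L17523 : sm gb N3320 = N2853 := ded_17_1 L17464 L17457 L17519
theorem L17524 : sm gb N2853 = N3320 := flp_b L17523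
theorem L17525 : sm gc N3320 = N2824 := ded_21_1 L17487 L17485 L17519
theorem L17527 : sm ge N3320 = N2851 := ded_26_1 L17508 L17505 L17519
theorem L17529 : sm gf N3318 = N3320 := ded_28_0 L17520 L8699 L8700 L17512
theorem L17531 : sm gc N1699 = N3321 := rfl
theorem L17532 : sm gc N3321 = N1699 := flp_c L17531
theorem L17533 : sm ga N3321 = N2896 := ded_8_1 L15409 L8926 L17531
theorem L17535 : sm gb N3321 = N2941 := ded_13_1 L15614 L15350 L15351 L13692 L17531
theorem L17536 : sm gb N2941 = N3321 := flp_b L17535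
theorem L17537 : sm gf N2935 = N3321 := ded_11_0 L17533 L15412 L15588
theorem L17538 : sm gf N3321 = N2935 := flp_f L17537
theorem L17539 : sm gg N2886 = N3321 := ded_12_0 L17533 L15406 L15364
theorem L17541 : sm gf N1699 = N3322 := rfl
theorem L17542 : sm gf N3322 = N1699 := flp_f L17541
theorem L17543 : sm gb N3322 = N2882 := ded_16_1 L15335 L13692 L17541
theorem L17545 : sm gc N3322 = N2935 := ded_20_1 L17537 L17532 L17541
theorem L17547 : sm gg N2879 = N3322 := ded_17_0 L17543 L15330 L15311
theorem L17548 : sm gg N3322 = N2879 := flp_g L17547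
theorem L17549 : sm gg N1699 = N3323 := rfl
theorem L17550 : sm gg N3323 = N1699 := flp_g L17549
theorem L17551 : sm ga N3323 = N2860 := ded_12_1 L15255 L8926 L17549
theorem L17552 : sm ga N2860 = N3323 := flp_a L17551
theorem L17553 : sm gc N3323 = N2886 := ded_21_1 L17539 L17532 L17549
theorem L17555 : sm gf N2857 = N3323 := ded_28_0 L17550 L17541 L17548 L15313
theorem L17556 : sm gf N3323 = N2857 := flp_f L17555
theorem L17557 : sm gd N1700 = N3324 := rfl
theorem L17559 : sm gb N3324 = N2631 := ded_14_1 L13843 L8707 L17557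
theorem L17560 : sm gb N2631 = N3324 := flp_b L17559
theorem L17561 : sm gc N1701 = N3325 := rfl
theorem L17562 : sm gc N3325 = N1701 := flp_c L17561
theorem L17563 : sm ge N1701 = N3326 := rfl
theorem L17564 : sm ge N3326 = N1701 := flp_e L17563
theorem L17565 : sm gb N3326 = N2633 := ded_15_1 L13847 L8717 L17563
theorem L17566 : sm gb N2633 = N3326 := flp_b L17565
theorem L17567 : sm gg N1701 = N3327 := rfl
theorem L17568 : sm gg N3327 = N1701 := flp_g L17567
theorem L17569 : sm gb N3327 = N2626 := ded_17_1 L13827 L8717 L17567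
theorem L17570 : sm gb N2626 = N3327 := flp_b L17569
theorem L17571 : sm gd N3327 = N2620 := ded_24_1 L13795 L6877 L4311 L8714 L17567
theorem L17577 : sm gg N1702 = N3329 := rfl
theorem L17585 : sm gd N3329 = N2803 := ded_24_1 L14837 L7437 L4320 L8718 L17577
theorem L17586 : sm gd N2803 = N3329 := flp_d L17585
theorem L17587 : sm gc N1703 = N3330 := rfl
theorem L17589 : sm ga N3330 = N1705 := ded_8_1 L8741 L8727 L17587
theorem L17590 : sm ga N1705 = N3330 := flp_a L17589
theorem L17591 : sm ge N1703 = N3331 := rfl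
theorem L17592 : sm ge N3331 = N1703 := flp_e L17591
theorem L17593 : sm ga N3331 = N1706 := ded_10_1 L8743 L8727 L17591
theorem L17594 : sm ga N1706 = N3331 := flp_a L17593
theorem L17595 : sm gb N3331 = N3058 := ded_15_1 L16288 L8729 L17591
theorem L17597 : sm gd N3331 = N3049 := ded_22_1 L16235 L8121 L4327 L8724 L17591
theorem L17598 : sm gd N3049 = N3331 := flp_d L17597
theorem L17599 : sm gf N1703 = N3332 := rfl
theorem L17600 : sm gf N3332 = N1703 := flp_f L17599
theorem L17605 : sm gg N1703 = N3333 := rfl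
theorem L17606 : sm gg N3333 = N1703 := flp_g L17605
theorem L17611 : sm gd N1704 = N3334 := rfl
theorem L17613 : sm ga N3334 = N1711 := ded_9_1 L8773 L8733 L17611
theorem L17614 : sm ga N1711 = N3334 := flp_a L17613
theorem L17615 : sm gb N3334 = N3067 := ded_14_1 L16335 L8735 L17611
theorem L17616 : sm gb N3067 = N3334 := flp_b L17615
theorem L17617 : sm gb N1705 = N3335 := rfl
theorem L17618 : sm gb N3335 = N1705 := flp_b L17617
theorem L17619 : sm gc N3335 = N1713 := ded_13_2 L8787 L4348 L4332 L8740 L17617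
theorem L17620 : sm gc N1713 = N3335 := flp_c L17619
theorem L17621 : sm gd N1705 = N3336 := rfl
theorem L17622 : sm gd N3336 = N1705 := flp_d L17621
theorem L17623 : sm ge N1705 = N3337 := rfl
theorem L17625 : sm gc N3337 = N1706 := ded_19_1 L8743 L8740 L17623
theorem L17626 : sm gc N1706 = N3337 := flp_c L17625
theorem L17627 : sm gf N1705 = N3338 := rfl
theorem L17628 : sm gf N3338 = N1705 := flp_f L17627
theorem L17631 : sm gg N1705 = N3339 := rfl
theorem L17632 : sm gg N3339 = N1705 := flp_g L17631
theorem L17635 : sm gd N1706 = N3340 := rfl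
theorem L17637 : sm ga N3340 = N3049 := ded_9_1 L17598 L17593 L17635
theorem L17639 : sm gb N3340 = N1717 := ded_14_1 L8801 L8745 L17635
theorem L17640 : sm gb N1717 = N3340 := flp_b L17639
theorem L17641 : sm ge N3340 = N1709 := ded_22_2 L8755 L4334 L4329 L8742 L17635
theorem L17642 : sm ge N1709 = N3340 := flp_e L17641
theorem L17643 : sm gf N1706 = N3341 := rfl
theorem L17644 : sm gf N3341 = N1706 := flp_f L17643
theorem L17675 : sm gc N1709 = N3346 := rfl
theorem L17676 : sm gc N3346 = N1709 := flp_c L17675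
theorem L17677 : sm ga N3346 = N3048 := ded_8_1 L16233 L8757 L17675
theorem L17691 : sm gd N1710 = N3349 := rfl
theorem L17693 : sm ga N3349 = N3052 := ded_9_1 L16247 L8763 L17691
theorem L17694 : sm ga N3052 = N3349 := flp_a L17693
theorem L17697 : sm gc N1711 = N3350 := rfl
theorem L17698 : sm gc N3350 = N1711 := flp_c L17697
theorem L17711 : sm ga N1713 = N3354 := rfl
theorem L17712 : sm ga N3354 = N1713 := flp_a L17711
theorem L17713 : sm ge N1713 = N3355 := rfl
theorem L17714 : sm ge N3355 = N1713 := flp_e L17713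
theorem L17715 : sm gb N3355 = N1714 := ded_15_1 L8789 L8786 L17713
theorem L17716 : sm gb N1714 = N3355 := flp_b L17715
theorem L17725 : sm gd N1714 = N3358 := rfl
theorem L17726 : sm gd N3358 = N1714 := flp_d L17725
theorem L17727 : sm gf N1714 = N3359 := rfl
theorem L17728 : sm gf N3359 = N1714 := flp_f L17727
theorem L17731 : sm ge N3359 = N1715 := ded_25_1 L8793 L8788 L17727
theorem L17733 : sm gg N1714 = N3360 := rfl
theorem L17734 : sm gg N3360 = N1714 := flp_g L17733
theorem L17737 : sm ge N3360 = N1716 := ded_26_1 L8797 L8788 L17733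
theorem L17738 : sm ge N1716 = N3360 := flp_e L17737
theorem L17739 : sm gd N1715 = N3361 := rfl
theorem L17740 : sm gd N3361 = N1715 := flp_d L17739
theorem L17741 : sm gg N1715 = N3362 := rfl
theorem L17742 : sm gg N3362 = N1715 := flp_g L17741
theorem L17745 : sm gf N3360 = N3362 := ded_28_0 L17742 L8793 L8796 L17738
theorem L17746 : sm gf N3362 = N3360 := flp_f L17745
theorem L17749 : sm gf N1716 = N3364 := rfl
theorem L17755 : sm gg N3364 = N3359 := ded_28_3 L17731 L8793 L8796 L17749
theorem L17757 : sm gc N1717 = N3365 := rfl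
theorem L17758 : sm gc N3365 = N1717 := flp_c L17757
theorem L17759 : sm ge N3365 = N1723 := ded_19_2 L8827 L8803 L17757
theorem L17760 : sm ge N1723 = N3365 := flp_e L17759
theorem L17761 : sm gb N3354 = N3365 := ded_29_7 L17758 L8802 L8151 L8729 L17587 L17589 L17617 L17619 L17711
theorem L17763 : sm gf N1717 = N3366 := rfl
theorem L17765 : sm ge N3366 = N1724 := ded_25_1 L8829 L8803 L17763
theorem L17771 : sm gd N1718 = N3368 := rfl
theorem L17772 : sm gd N3368 = N1718 := flp_d L17771
theorem L17773 : sm gd N1719 = N3369 := rfl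
theorem L17774 : sm gd N3369 = N1719 := flp_d L17773
theorem L17775 : sm gc N1720 = N3370 := rfl
theorem L17777 : sm gf N3370 = N1727 := ded_20_2 L8835 L8815 L17775
theorem L17779 : sm ge N1720 = N3371 := rfl
theorem L17781 : sm gf N3371 = N1728 := ded_25_2 L8837 L8815 L17779
theorem L17783 : sm gg N1720 = N3372 := rfl
theorem L17784 : sm gg N3372 = N1720 := flp_g L17783
theorem L17785 : sm gd N1721 = N3373 := rfl
theorem L17786 : sm gd N3373 = N1721 := flp_d L17785
theorem L17787 : sm gd N1722 = N3374 := rfl
theorem L17788 : sm gd N3374 = N1722 := flp_d L17787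
theorem L17795 : sm gd N1723 = N3376 := rfl
theorem L17796 : sm gd N3376 = N1723 := flp_d L17795
theorem L17798 : sm gf N1723 = N3377 := rfl
theorem L17799 : sm gf N3377 = N1723 := flp_f L17798
theorem L17802 : sm gg N1723 = N3378 := rfl
theorem L17803 : sm gg N3378 = N1723 := flp_g L17802
theorem L17804 : sm gc N3378 = N1725 := ded_21_1 L8831 L8826 L17802
theorem L17806 : sm gd N1724 = N3379 := rfl
theorem L17808 : sm gf N3379 = N1726 := ded_23_2 L8833 L4358 L4355 L8828 L17806
theorem L17809 : sm gf N1726 = N3379 := flp_f L17808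
theorem L17814 : sm gf N1725 = N3381 := rfl
theorem L17818 : sm gg N3381 = N3366 := ded_28_3 L17765 L8829 L8830 L17814
theorem L17820 : sm gc N1726 = N3382 := rfl
theorem L17821 : sm gc N3382 = N1726 := flp_c L17820
theorem L17822 : sm ge N1726 = N3383 := rfl
theorem L17823 : sm ge N3383 = N1726 := flp_e L17822
theorem L17830 : sm gb N1727 = N3385 := rfl
theorem L17831 : sm gb N3385 = N1727 := flp_b L17830
theorem L17832 : sm gd N1727 = N3386 := rfl
theorem L17833 : sm gd N3386 = N1727 := flp_d L17832
theorem L17838 : sm gg N1727 = N3388 := rfl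
theorem L17839 : sm gg N3388 = N1727 := flp_g L17838
theorem L17840 : sm gc N3388 = N1729 := ded_21_1 L8839 L8834 L17838
theorem L17841 : sm gc N1729 = N3388 := flp_c L17840
theorem L17842 : sm gf N3388 = N3092 := ded_31_1 L16448 L8223 L4113 L4101 L4098 L2111 L1111 L1105 L1098 L2170 L2172 L2248 L4365 L8834 L17838
theorem L17843 : sm gf N3092 = N3388 := flp_f L17842
theorem L17844 : sm gg N1728 = N3389 := rfl
theorem L17846 : sm ge N3389 = N1729 := ded_26_1 L8839 L8836 L17844
theorem L17848 : sm gf N3389 = N3372 := ded_28_2 L17784 L17779 L17781 L17844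
theorem L17849 : sm gf N3372 = N3389 := flp_f L17848
theorem L17850 : sm gd N1729 = N3390 := rfl
theorem L17852 : sm gg N3390 = N1730 := ded_24_2 L8841 L4368 L4365 L8838 L17850
theorem L17853 : sm gg N1730 = N3390 := flp_g L17852
theorem L17854 : sm gf N1729 = N3391 := rfl
theorem L17856 : sm gc N3391 = N3092 := ded_20_1 L17843 L17840 L17854
theorem L17858 : sm ge N3391 = N3372 := ded_25_1 L17849 L17846 L17854
theorem L17859 : sm ge N3372 = N3391 := flp_e L17858
theorem L17868 : sm gf N1730 = N3394 := rfl
theorem L17869 : sm gf N3394 = N1730 := flp_f L17868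
theorem L17872 : sm gg N3294 = N3394 := ded_31_0 L17869 L8841 L4369 L2269 L1133 L590 L303 L300 L294 L578 L1112 L2198 L4273 L8654 L17375
theorem L17873 : sm gg N3394 = N3294 := flp_g L17872
theorem L17874 : sm gc N3394 = N3296 := ded_21_1 L17382 L17375 L17872
theorem L17908 : sm gd N1734 = N3400 := rfl
theorem L17909 : sm gd N3400 = N1734 := flp_d L17908
theorem L17910 : sm ga N3400 = N2631 := ded_9_1 L13843 L8868 L17908
theorem L17911 : sm ga N2631 = N3400 := flp_a L17910
theorem L17914 : sm gc N1735 = N3401 := rfl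
theorem L17915 : sm gc N3401 = N1735 := flp_c L17914
theorem L17916 : sm ga N3401 = N3325 := ded_8_1 L17562 L8875 L17914
theorem L17917 : sm ga N3325 = N3401 := flp_a L17916
theorem L17932 : sm gd N1736 = N3405 := rfl
theorem L17936 : sm gb N3405 = N2516 := ded_14_1 L13302 L8881 L17932
theorem L17937 : sm gb N2516 = N3405 := flp_b L17936
theorem L17950 : sm gg N1739 = N3409 := rfl
theorem L17951 : sm gg N3409 = N1739 := flp_g L17950
theorem L17952 : sm ga N3409 = N2798 := ded_12_1 L14827 L14820 L17950
theorem L17953 : sm ga N2798 = N3409 := flp_a L17952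
theorem L17958 : sm gf N2791 = N3409 := ded_28_0 L17951 L8897 L7416 L14750
theorem L17962 : sm ge N1740 = N3410 := rfl
theorem L17963 : sm ge N3410 = N1740 := flp_e L17962
theorem L17964 : sm gb N3410 = N1742 := ded_15_1 L8913 L8905 L17962
theorem L17966 : sm gc N3410 = N2822 := ded_19_1 L14965 L14962 L17962
theorem L17968 : sm gg N2818 = N3410 := ded_28_3 L17963 L14935 L14931 L14926
theorem L17969 : sm gg N3410 = N2818 := flp_g L17968
theorem L17970 : sm gd N3410 = N2871 := ded_22_1 L15263 L15252 L8684 L8902 L17962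
theorem L17971 : sm gd N2871 = N3410 := flp_d L17970
theorem L17972 : sm gg N1740 = N3411 := rfl
theorem L17973 : sm gg N3411 = N1740 := flp_g L17972
theorem L17974 : sm gb N3411 = N1744 := ded_17_1 L8921 L8905 L17972
theorem L17976 : sm gc N3411 = N2820 := ded_21_1 L14967 L14962 L17972
theorem L17978 : sm ge N3411 = N2818 := ded_26_1 L17968 L17963 L17972
theorem L17979 : sm ge N2818 = N3411 := flp_e L17978
theorem L17980 : sm gf N2817 = N3411 := ded_28_0 L17973 L14935 L14931 L14922
theorem L17981 : sm gf N3411 = N2817 := flp_f L17980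
theorem L17982 : sm ge N1741 = N3412 := rfl
theorem L17983 : sm ge N3412 = N1741 := flp_e L17982
theorem L17986 : sm gb N3412 = N2832 := ded_15_1 L15039 L15034 L17982
theorem L17987 : sm gb N2832 = N3412 := flp_b L17986
theorem L17990 : sm gg N2826 = N3412 := ded_28_3 L17983 L14986 L14981 L14976
theorem L17991 : sm gg N3412 = N2826 := flp_g L17990
theorem L17992 : sm gg N1741 = N3413 := rfl
theorem L17993 : sm gg N3413 = N1741 := flp_g L17992
theorem L17994 : sm ga N3413 = N3315 := ded_12_1 L17490 L8909 L17992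
theorem L17995 : sm ga N3315 = N3413 := flp_a L17994
theorem L17996 : sm gb N3413 = N2829 := ded_17_1 L15041 L15034 L17992
theorem L17997 : sm gb N2829 = N3413 := flp_b L17996
theorem L17998 : sm gc N3413 = N1744 := ded_21_1 L8921 L8906 L17992
theorem L18002 : sm gf N2825 = N3413 := ded_28_0 L17993 L14986 L14981 L14972
theorem L18003 : sm gf N3413 = N2825 := flp_f L18002
theorem L18004 : sm gd N1742 = N3414 := rfl
theorem L18005 : sm gd N3414 = N1742 := flp_d L18004
theorem L18008 : sm gb N3414 = N2871 := ded_14_1 L17971 L17964 L18004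
theorem L18010 : sm ge N3414 = N1745 := ded_22_2 L8925 L4408 L4403 L8912 L18004
theorem L18011 : sm ge N1745 = N3414 := flp_e L18010
theorem L18012 : sm gf N2861 = N3414 := ded_16_0 L18008 L15260 L15218
theorem L18013 : sm gf N3414 = N2861 := flp_f L18012
theorem L18014 : sm gc N2898 = N3414 := ded_13_0 L18008 L15261 L7701 L7790 L15420
theorem L18015 : sm gc N3414 = N2898 := flp_c L18014
theorem L18016 : sm gf N1742 = N3415 := rfl
theorem L18017 : sm gf N3415 = N1742 := flp_f L18016
theorem L18018 : sm ga N3415 = N3317 := ded_11_1 L17502 L8915 L18016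
theorem L18019 : sm ga N3317 = N3415 := flp_a L18018
theorem L18020 : sm ge N3415 = N1743 := ded_25_1 L8917 L8912 L18016
theorem L18021 : sm ge N1743 = N3415 := flp_e L18020
theorem L18022 : sm gg N1742 = N3416 := rfl
theorem L18024 : sm ga N3416 = N3318 := ded_12_1 L17510 L8915 L18022
theorem L18026 : sm gb N3416 = N2818 := ded_17_1 L17968 L17964 L18022
theorem L18027 : sm gb N2818 = N3416 := flp_b L18026
theorem L18032 : sm gf N3416 = N2815 := ded_28_2 L14938 L18021 L18017 L18022
theorem L18033 : sm gf N2815 = N3416 := flp_f L18032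
theorem L18034 : sm gd N1744 = N3417 := rfl
theorem L18036 : sm ga N3417 = N3304 := ded_9_1 L17415 L8923 L18034
theorem L18037 : sm ga N3304 = N3417 := flp_a L18036
theorem L18038 : sm gg N3417 = N1747 := ded_24_2 L8939 L4414 L4403 L8920 L18034
theorem L18039 : sm gg N1747 = N3417 := flp_g L18038
theorem L18040 : sm gf N1744 = N3418 := rfl
theorem L18042 : sm ga N3418 = N2851 := ded_11_1 L15193 L8923 L18040
theorem L18043 : sm ga N2851 = N3418 := flp_a L18042
theorem L18044 : sm gb N3418 = N2817 := ded_16_1 L17980 L17974 L18040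
theorem L18045 : sm gb N2817 = N3418 := flp_b L18044
theorem L18046 : sm gc N3418 = N2825 := ded_20_1 L18002 L17998 L18040
theorem L18047 : sm gc N2825 = N3418 := flp_c L18046
theorem L18052 : sm gf N1745 = N3419 := rfl
theorem L18053 : sm gf N3419 = N1745 := flp_f L18052
theorem L18054 : sm ga N3419 = N3322 := ded_11_1 L17542 L8927 L18052
theorem L18056 : sm gb N3419 = N2867 := ded_16_1 L15249 L15254 L18052
theorem L18058 : sm gc N3419 = N2894 := ded_20_1 L15411 L15409 L18052
theorem L18060 : sm ge N3419 = N2861 := ded_25_1 L18012 L18010 L18052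
theorem L18062 : sm gg N3419 = N2859 := ded_28_3 L15204 L15209 L15255 L18052
theorem L18064 : sm gd N1746 = N3420 := rfl
theorem L18065 : sm gd N3420 = N1746 := flp_d L18064
theorem L18068 : sm gc N1747 = N3421 := rfl
theorem L18069 : sm gc N3421 = N1747 := flp_c L18068
theorem L18070 : sm ga N3421 = N3301 := ded_8_1 L17408 L8941 L18068
theorem L18072 : sm ge N1747 = N3422 := rfl
theorem L18073 : sm ge N3422 = N1747 := flp_e L18072
theorem L18074 : sm ga N3422 = N3302 := ded_10_1 L17410 L8941 L18072
theorem L18076 : sm gf N1747 = N3423 := rfl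
theorem L18077 : sm gf N3423 = N1747 := flp_f L18076
theorem L18078 : sm ga N3423 = N3303 := ded_11_1 L17412 L8941 L18076
theorem L18080 : sm gc N1748 = N3424 := rfl
theorem L18084 : sm ge N3424 = N3043 := ded_19_2 L16193 L8949 L18080
theorem L18088 : sm gg N1749 = N3425 := rfl
theorem L18089 : sm gg N3425 = N1749 := flp_g L18088
theorem L18092 : sm gd N1751 = N3426 := rfl
theorem L18093 : sm gd N3426 = N1751 := flp_d L18092
theorem L18095 : sm gf N2037 = N3426 := ded_31_1 L18093 L8966 L4442 L2299 L1157 L612 L644 L638 L632 L1178 L1181 L1302 L2614 L5172 L10576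
theorem L18103 : sm gf N1752 = N3428 := rfl
theorem L18105 : sm gb N3428 = N1755 := ded_16_1 L8983 L8968 L18103
theorem L18106 : sm gb N1755 = N3428 := flp_b L18105
theorem L18107 : sm gc N1753 = N3429 := rfl
theorem L18108 : sm gc N3429 = N1753 := flp_c L18107
theorem L18109 : sm ga N3429 = N3429 := ded_8_1 L18108 L8974 L18107
theorem L18110 : sm gd N1861 = N3429 := ded_30_9 L18109 L18108 L8973 L4445 L2302 L1152 L1204 L2416 L4728 L9582
theorem L18112 : sm ge N3429 = N2418 := ded_22_2 L12739 L6299 L7330 L9589 L18110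
theorem L18114 : sm gf N3429 = N2670 := ded_23_2 L14031 L7004 L6996 L9586 L18110
theorem L18115 : sm gf N2670 = N3429 := flp_f L18114
theorem L18116 : sm gg N2421 = N3429 := ded_26_0 L18112 L12741 L12755
theorem L18117 : sm gg N3429 = N2421 := flp_g L18116
theorem L18141 : sm gd N1755 = N3433 := rfl
theorem L18142 : sm gd N3433 = N1755 := flp_d L18141
theorem L18144 : sm gc N3433 = N1959 := ded_31_3 L10174 L4986 L2535 L1254 L667 L625 L622 L311 L626 L631 L1159 L2317 L4448 L8982 L18141
theorem L18146 : sm gg N1957 = N3433 := ded_21_0 L18144 L10174 L10163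
theorem L18147 : sm gg N3433 = N1957 := flp_g L18146
theorem L18148 : sm gd N1756 = N3434 := rfl
theorem L18149 : sm gd N3434 = N1756 := flp_d L18148
theorem L18150 : sm ga N3434 = N1757 := ded_9_1 L8994 L8987 L18148
theorem L18151 : sm ga N1757 = N3434 := flp_a L18150
theorem L18154 : sm ge N3434 = N1757 := ded_22_2 L8994 L8997 L9006 L8991 L18148
theorem L18155 : sm ge N1757 = N3434 := flp_e L18154
theorem L18156 : sm gf N3434 = N1757 := ded_23_2 L8994 L8955 L9005 L9003 L18148
theorem L18158 : sm gg N1756 = N3435 := rfl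
theorem L18159 : sm gg N3435 = N1756 := flp_g L18158
theorem L18160 : sm ga N3435 = N1759 := ded_12_1 L9008 L8987 L18158
theorem L18162 : sm gb N3435 = N1765 := ded_17_1 L9045 L8990 L18158
theorem L18164 : sm ge N3435 = N3425 := ded_26_1 L18089 L8991 L18158
theorem L18166 : sm gf N3435 = N1759 := ded_28_2 L9008 L8997 L9003 L18158
theorem L18167 : sm gf N1759 = N3435 := flp_f L18166
theorem L18170 : sm gg N1757 = N3437 := rfl
theorem L18171 : sm gg N3437 = N1757 := flp_g L18170
theorem L18175 : sm gg N1758 = N3438 := rfl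
theorem L18176 : sm gg N3438 = N1758 := flp_g L18175
theorem L18177 : sm ga N3438 = N3425 := ded_12_1 L18089 L9000 L18175
theorem L18179 : sm gb N3438 = N1763 := ded_17_1 L9027 L9002 L18175
theorem L18181 : sm ge N3438 = N1759 := ded_26_1 L9008 L8997 L18175
theorem L18182 : sm ge N1759 = N3438 := flp_e L18181
theorem L18228 : sm gd N1762 = N3444 := rfl
theorem L18229 : sm gd N3444 = N1762 := flp_d L18228
theorem L18231 : sm gg N3444 = N1764 := ded_24_2 L9036 L4472 L4461 L9022 L18228
theorem L18233 : sm gd N1763 = N3445 := rfl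
theorem L18234 : sm gd N3445 = N1763 := flp_d L18233
theorem L18236 : sm gg N3445 = N3426 := ded_24_2 L18093 L8964 L4469 L9026 L18233
theorem L18237 : sm gg N3426 = N3445 := flp_g L18236
theorem L18242 : sm ge N3445 = N2020 := ded_28_4 L10502 L10576 L18095 L18237
theorem L18243 : sm ge N2020 = N3445 := flp_e L18242
theorem L18246 : sm gc N1764 = N3446 := rfl
theorem L18249 : sm ge N1764 = N3447 := rfl
theorem L18252 : sm gd N3447 = N2020 := ded_22_1 L18243 L18234 L9031 L9035 L18249
theorem L18253 : sm gd N2020 = N3447 := flp_d L18252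
theorem L18254 : sm gf N1764 = N3448 := rfl
theorem L18255 : sm gf N3448 = N1764 := flp_f L18254
theorem L18260 : sm gc N1766 = N3450 := rfl
theorem L18261 : sm gc N3450 = N1766 := flp_c L18260
theorem L18263 : sm gg N3450 = N1893 := ded_21_2 L9791 L9051 L18260
theorem L18264 : sm gg N1893 = N3450 := flp_g L18263
theorem L18265 : sm gd N2258 = N3450 := ded_24_5 L18263 L14065 L14062 L11899 L11827
theorem L18269 : sm gd N1767 = N3451 := rfl
theorem L18271 : sm ga N3451 = N1768 := ded_9_1 L9059 L9052 L18269
theorem L18275 : sm gf N2775 = N3451 := ded_11_0 L18271 L14434 L14649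
theorem L18276 : sm gf N3451 = N2775 := flp_f L18275
theorem L18295 : sm gd N1769 = N3455 := rfl
theorem L18296 : sm gd N3455 = N1769 := flp_d L18295
theorem L18299 : sm gb N3455 = N1775 := ded_14_1 L9088 L9067 L18295
theorem L18318 : sm gd N1776 = N3459 := rfl
theorem L18319 : sm gd N3459 = N1776 := flp_d L18318
theorem L18321 : sm gc N1777 = N3460 := rfl
theorem L18322 : sm gc N3460 = N1777 := flp_c L18321
theorem L18324 : sm gg N3460 = N3448 := ded_31_4 L18255 L9036 L4474 L2315 L2300 L2297 L1145 L1199 L1203 L2301 L4444 L4447 L4500 L9099 L18321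
theorem L18325 : sm gg N3448 = N3460 := flp_g L18324
theorem L18326 : sm ge N1777 = N3461 := rfl
theorem L18329 : sm gg N1777 = N3462 := rfl
theorem L18332 : sm gc N3462 = N3448 := ded_21_1 L18325 L18322 L18329
theorem L18334 : sm gf N3446 = N3462 := ded_20_0 L18332 L18255 L18246
theorem L18335 : sm gf N3462 = N3446 := flp_f L18334
theorem L18347 : sm gf N1779 = N3465 := rfl
theorem L18353 : sm ge N3465 = N1782 := ded_25_1 L9150 L9138 L18347
theorem L18355 : sm gd N3465 = N1920 := ded_23_1 L9929 L4872 L4522 L9131 L18347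
theorem L18356 : sm gd N1920 = N3465 := flp_d L18355
theorem L18357 : sm gg N1779 = N3466 := rfl
theorem L18363 : sm ge N3466 = N1783 := ded_26_1 L9156 L9138 L18357
theorem L18364 : sm ge N1783 = N3466 := flp_e L18363
theorem L18365 : sm gd N1780 = N3467 := rfl
theorem L18366 : sm gd N3467 = N1780 := flp_d L18365
theorem L18367 : sm ga N3467 = N1784 := ded_9_1 L9160 L9142 L18365
theorem L18368 : sm ga N1784 = N3467 := flp_a L18367
theorem L18371 : sm gb N1781 = N3468 := rfl
theorem L18373 : sm gc N3468 = N1785 := ded_13_2 L9164 L4538 L4526 L9147 L18371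
theorem L18374 : sm gc N1785 = N3468 := flp_c L18373
theorem L18379 : sm gf N1781 = N3470 := rfl
theorem L18380 : sm gf N3470 = N1781 := flp_f L18379
theorem L18387 : sm gg N1782 = N3472 := rfl
theorem L18388 : sm gg N3472 = N1782 := flp_g L18387
theorem L18391 : sm gf N3466 = N3472 := ded_28_0 L18388 L9150 L9155 L18364
theorem L18392 : sm gf N3472 = N3466 := flp_f L18391
theorem L18393 : sm gd N3472 = N2385 := ded_24_1 L12536 L14220 L9987 L9154 L18387
theorem L18394 : sm gd N2385 = N3472 := flp_d L18393
theorem L18401 : sm gf N1783 = N3474 := rfl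
theorem L18402 : sm gf N3474 = N1783 := flp_f L18401
theorem L18409 : sm gg N3474 = N3465 := ded_28_3 L18353 L9150 L9155 L18401
theorem L18410 : sm gg N3465 = N3474 := flp_g L18409
theorem L18411 : sm gc N1784 = N3475 := rfl
theorem L18412 : sm gc N3475 = N1784 := flp_c L18411
theorem L18419 : sm ge N1785 = N3477 := rfl
theorem L18422 : sm gb N3477 = N1786 := ded_15_1 L9167 L9163 L18419
theorem L18423 : sm gb N1786 = N3477 := flp_b L18422
theorem L18424 : sm gf N1785 = N3478 := rfl
theorem L18425 : sm gf N3478 = N1785 := flp_f L18424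
theorem L18429 : sm gg N1785 = N3479 := rfl
theorem L18430 : sm gg N3479 = N1785 := flp_g L18429
theorem L18434 : sm gd N1786 = N3480 := rfl
theorem L18435 : sm gd N3480 = N1786 := flp_d L18434
theorem L18447 : sm gg N1786 = N3482 := rfl
theorem L18452 : sm ge N3482 = N1788 := ded_26_1 L9177 L9166 L18447
theorem L18453 : sm ge N1788 = N3482 := flp_e L18452
theorem L18459 : sm gg N1787 = N3484 := rfl
theorem L18460 : sm gg N3484 = N1787 := flp_g L18459
theorem L18461 : sm ga N3484 = N3484 := ded_12_1 L18460 L9173 L18459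
theorem L18462 : sm gc N3484 = N1791 := ded_21_1 L9192 L9175 L18459
theorem L18464 : sm gf N3482 = N3484 := ded_28_0 L18460 L9172 L9176 L18453
theorem L18465 : sm gf N3484 = N3482 := flp_f L18464
theorem L18466 : sm gd N2203 = N3484 := ded_30_9 L18461 L18462 L14228 L6156 L3081 L1555 L1440 L2846 L5679 L11537
theorem L18467 : sm gd N3484 = N2203 := flp_d L18466
theorem L18468 : sm gd N2454 = N3482 := ded_23_5 L18464 L18467 L12947 L12929 L12933
theorem L18469 : sm gd N3482 = N2454 := flp_d L18468
theorem L18470 : sm gd N1788 = N3485 := rfl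
theorem L18474 : sm gf N1788 = N3486 := rfl
theorem L18475 : sm gf N3486 = N1788 := flp_f L18474
theorem L18479 : sm ge N3486 = N3484 := ded_25_1 L18465 L18452 L18474
theorem L18483 : sm gd N3486 = N2809 := ded_31_2 L14874 L7495 L7493 L3763 L2563 L2566 L1906 L1264 L1255 L1252 L1166 L2332 L4537 L9176 L18474
theorem L18484 : sm gd N2809 = N3486 := flp_d L18483
theorem L18485 : sm gf N3485 = N2808 := ded_23_2 L14869 L14871 L18484 L18475 L18470
theorem L18487 : sm gd N1790 = N3487 := rfl
theorem L18490 : sm gf N3487 = N2126 := ded_23_2 L12567 L12549 L14229 L9195 L18487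
theorem L18491 : sm gf N2126 = N3487 := flp_f L18490
theorem L18492 : sm gg N3487 = N1890 := ded_24_2 L9776 L4808 L4697 L9186 L18487
theorem L18499 : sm gb N1794 = N3489 := rfl
theorem L18500 : sm gb N3489 = N1794 := flp_b L18499
theorem L18501 : sm gf N3489 = N2098 := ded_16_2 L10939 L9218 L18499
theorem L18502 : sm gf N2098 = N3489 := flp_f L18501
theorem L18503 : sm ga N1796 = N3490 := rfl
theorem L18504 : sm ga N3490 = N1796 := flp_a L18503
theorem L18505 : sm gg N3490 = N1800 := ded_12_2 L9246 L9223 L18503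
theorem L18506 : sm gg N1800 = N3490 := flp_g L18505
theorem L18507 : sm gd N1796 = N3491 := rfl
theorem L18511 : sm gg N3491 = N1973 := ded_24_2 L10241 L9676 L9248 L9223 L18507
theorem L18513 : sm ge N1796 = N3492 := rfl
theorem L18514 : sm ge N3492 = N1796 := flp_e L18513
theorem L18519 : sm gf N3492 = N2241 := ded_28_0 L11746 L9256 L9223 L18513
theorem L18520 : sm gf N2241 = N3492 := flp_f L18519
theorem L18523 : sm gf N1796 = N3493 := rfl
theorem L18524 : sm gf N3493 = N1796 := flp_f L18523
theorem L18527 : sm ge N3493 = N2241 := ded_25_1 L18520 L18514 L18523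
theorem L18529 : sm ge N1797 = N3494 := rfl
theorem L18530 : sm ge N3494 = N1797 := flp_e L18529
theorem L18532 : sm gc N3494 = N1977 := ded_19_1 L10263 L9685 L18529
theorem L18533 : sm gc N1977 = N3494 := flp_c L18532
theorem L18534 : sm gg N3494 = N1974 := ded_26_2 L10244 L9680 L18529
theorem L18535 : sm gg N1974 = N3494 := flp_g L18534
theorem L18538 : sm gf N1797 = N3495 := rfl
theorem L18539 : sm gf N3495 = N1797 := flp_f L18538
theorem L18543 : sm gd N1800 = N3496 := rfl
theorem L18544 : sm gd N3496 = N1800 := flp_d L18543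
theorem L18545 : sm ga N3496 = N1801 := ded_9_1 L9248 L9245 L18543
theorem L18547 : sm gg N2151 = N3496 := ded_12_0 L18545 L9675 L11234
theorem L18548 : sm gg N3496 = N2151 := flp_g L18547
theorem L18549 : sm gf N1800 = N3497 := rfl
theorem L18550 : sm gf N3497 = N1800 := flp_f L18549
theorem L18551 : sm ga N3497 = N1803 := ded_11_1 L9256 L9245 L18549
theorem L18553 : sm gb N3497 = N2218 := ded_16_1 L11618 L9537 L18549
theorem L18555 : sm gg N2213 = N3497 := ded_12_0 L18551 L11745 L11741
theorem L18556 : sm gg N3497 = N2213 := flp_g L18555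
theorem L18557 : sm gd N2212 = N3497 := ded_14_0 L18553 L11611 L11585
theorem L18559 : sm gc N1801 = N3498 := rfl
theorem L18561 : sm gg N3498 = N2138 := ded_21_2 L11170 L9676 L18559
theorem L18562 : sm gg N2138 = N3498 := flp_g L18561
theorem L18563 : sm gb N3498 = N2142 := ded_13_1 L11184 L5471 L9672 L9250 L18559
theorem L18564 : sm gb N2142 = N3498 := flp_b L18563
theorem L18565 : sm ge N1801 = N3499 := rfl
theorem L18566 : sm ge N3499 = N1801 := flp_e L18565
theorem L18567 : sm gb N3499 = N1805 := ded_15_1 L9264 L9250 L18565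
theorem L18568 : sm gb N1805 = N3499 := flp_b L18567
theorem L18569 : sm gg N3499 = N2152 := ded_26_2 L11237 L9676 L18565
theorem L18570 : sm gg N2152 = N3499 := flp_g L18569
theorem L18571 : sm gf N1801 = N3500 := rfl
theorem L18572 : sm gf N3500 = N1801 := flp_f L18571
theorem L18575 : sm gd N1802 = N3501 := rfl
theorem L18576 : sm gd N3501 = N1802 := flp_d L18575
theorem L18577 : sm gb N3501 = N1808 := ded_14_1 L9273 L9254 L18575
theorem L18578 : sm gb N1808 = N3501 := flp_b L18577
theorem L18587 : sm gd N1803 = N3503 := rfl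
theorem L18589 : sm ga N3503 = N2212 := ded_9_1 L18557 L18551 L18587
theorem L18590 : sm ga N2212 = N3503 := flp_a L18589
theorem L18593 : sm gg N3503 = N2208 := ded_24_2 L11565 L5783 L11739 L11746 L18587
theorem L18594 : sm gg N2208 = N3503 := flp_g L18593
theorem L18595 : sm gd N1805 = N3504 := rfl
theorem L18596 : sm gd N3504 = N1805 := flp_d L18595
theorem L18598 : sm ge N3504 = N1808 := ded_22_2 L9273 L4574 L4570 L9263 L18595
theorem L18599 : sm ge N1808 = N3504 := flp_e L18598
theorem L18600 : sm gc N3504 = N1908 := ded_31_3 L9862 L4837 L2464 L1230 L1208 L2426 L4749 L5558 L5555 L5514 L5511 L5489 L11259 L11267 L18595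
theorem L18601 : sm gc N1908 = N3504 := flp_c L18600
theorem L18602 : sm gg N1902 = N3504 := ded_28_3 L18598 L9840 L9835 L9829
theorem L18603 : sm gg N3504 = N1902 := flp_g L18602
theorem L18609 : sm gg N1808 = N3506 := rfl
theorem L18610 : sm gg N3506 = N1808 := flp_g L18609
theorem L18616 : sm gf N1901 = N3506 := ded_28_0 L18610 L9840 L9835 L9824
theorem L18620 : sm gd N1809 = N3507 := rfl
theorem L18621 : sm gd N3507 = N1809 := flp_d L18620
theorem L18623 : sm gc N1810 = N3508 := rfl
theorem L18626 : sm gg N3508 = N2220 := ded_21_2 L11629 L9288 L18623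
theorem L18628 : sm ge N1810 = N3509 := rfl
theorem L18631 : sm gg N3509 = N2214 := ded_26_2 L11593 L9288 L18628
theorem L18632 : sm gg N2214 = N3509 := flp_g L18631
theorem L18633 : sm gc N1812 = N3510 := rfl
theorem L18637 : sm ge N1812 = N3511 := rfl
theorem L18638 : sm ge N3511 = N1812 := flp_e L18637
theorem L18639 : sm ga N3511 = N1815 := ded_10_1 L9311 L9299 L18637
theorem L18641 : sm gf N1812 = N3512 := rfl
theorem L18642 : sm gf N3512 = N1812 := flp_f L18641
theorem L18645 : sm gg N1812 = N3513 := rfl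
theorem L18646 : sm gg N3513 = N1812 := flp_g L18645
theorem L18651 : sm gd N1813 = N3514 := rfl
theorem L18653 : sm ga N3514 = N1819 := ded_9_1 L9329 L9303 L18651
theorem L18654 : sm ga N1819 = N3514 := flp_a L18653
theorem L18657 : sm ge N3514 = N1819 := ded_22_2 L9329 L5106 L9581 L9576 L18651
theorem L18658 : sm ge N1819 = N3514 := flp_e L18657
theorem L18659 : sm gb N1814 = N3515 := rfl
theorem L18660 : sm gb N3515 = N1814 := flp_b L18659
theorem L18661 : sm gc N3515 = N1820 := ded_13_2 L9333 L4616 L4604 L9308 L18659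
theorem L18662 : sm gc N1820 = N3515 := flp_c L18661
theorem L18677 : sm gd N1815 = N3520 := rfl
theorem L18681 : sm ge N3520 = N1818 := ded_22_2 L9325 L4606 L4601 L9310 L18677
theorem L18721 : sm gg N1819 = N3528 := rfl
theorem L18722 : sm gg N3528 = N1819 := flp_g L18721
theorem L18723 : sm gb N3528 = N1832 := ded_17_1 L9395 L9331 L18721
theorem L18725 : sm gf N2077 = N3528 := ded_16_0 L18723 L9400 L10831
theorem L18726 : sm gf N3528 = N2077 := flp_f L18725
theorem L18727 : sm ga N1820 = N3529 := rfl
theorem L18728 : sm ga N3529 = N1820 := flp_a L18727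
theorem L18730 : sm ge N1820 = N3530 := rfl
theorem L18731 : sm ge N3530 = N1820 := flp_e L18730
theorem L18732 : sm gb N3530 = N1821 := ded_15_1 L9336 L9332 L18730
theorem L18733 : sm gb N1821 = N3530 := flp_b L18732
theorem L18742 : sm gd N1821 = N3533 := rfl
theorem L18743 : sm gd N3533 = N1821 := flp_d L18742
theorem L18746 : sm gf N1821 = N3534 := rfl
theorem L18747 : sm gf N3534 = N1821 := flp_f L18746
theorem L18751 : sm ge N3534 = N1822 := ded_25_1 L9341 L9335 L18746
theorem L18762 : sm gd N1823 = N3536 := rfl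
theorem L18763 : sm gd N3536 = N1823 := flp_d L18762
theorem L18766 : sm gf N1823 = N3537 := rfl
theorem L18767 : sm gf N3537 = N1823 := flp_f L18766
theorem L18769 : sm gc N3537 = N1829 := ded_20_1 L9376 L9349 L18766
theorem L18770 : sm gc N1829 = N3537 := flp_c L18769
theorem L18773 : sm gg N3537 = N3534 := ded_28_3 L18751 L9341 L9345 L18766
theorem L18774 : sm gg N3534 = N3537 := flp_g L18773
theorem L18775 : sm gd N3537 = N2116 := ded_31_2 L11048 L11033 L11030 L11112 L11115 L9905 L4869 L2627 L2609 L2613 L2378 L2367 L4615 L9345 L18766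
theorem L18777 : N3534 = N2117 := coi_31_5 L14384 L14381 L7198 L7156 L7153 L3583 L3574 L3569 L3555 L3567 L7049 L7046 L6143 L9383 L18770 L18773
theorem L18778 : N3534 = N2117 := eqc rfl L18777 rfl
theorem L18782 : sm ge N2117 = N1822 := trfs L18778 L18751 rfl
theorem L18784 : sm gf N2117 = N1821 := trfs L18778 L18747 rfl
theorem L18785 : N1821 = N2723 := eqes L18784 L14384
theorem L18786 : N2723 = N1821 := (eqc rfl L18785 rfl).symm
theorem L18787 : sm gg N2117 = N3537 := trfs L18778 L18774 rfl
theorem L18790 : sm gd N1821 = N1402 := trfs L18786 L14381 rfl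
theorem L18791 : N1402 = N3533 := eqes L18790 L18742
theorem L18792 : N3533 = N1402 := (eqc rfl L18791 rfl).symm
theorem L18793 : sm gf N1821 = N2117 := trfs L18786 L14383 rfl
theorem L18796 : sm gd N1402 = N1821 := trfs L18792 L18743 rfl
theorem L18799 : sm ge N2717 = N2118 := ded_22_2 L11056 L5416 L11052 L18782 L14368
theorem L18801 : sm gd N3530 = N2722 := ded_14_2 L14377 L18796 L18733
theorem L18803 : sm gg N2118 = N2715 := ded_26_2 L14327 L14332 L18799
theorem L18804 : sm gg N2715 = N2118 := flp_g L18803
theorem L18805 : sm gd N1825 = N3538 := rfl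
theorem L18806 : sm gd N3538 = N1825 := flp_d L18805
theorem L18808 : sm gd N1826 = N3539 := rfl
theorem L18813 : sm gd N1828 = N3540 := rfl
theorem L18814 : sm gd N3540 = N1828 := flp_d L18813
theorem L18816 : sm gc N3540 = N2765 := ded_31_3 L14599 L7322 L3682 L1852 L1868 L1872 L3582 L7146 L7150 L7195 L18796 L9338 L9360 L9373 L18813
theorem L18818 : sm gg N2763 = N3540 := ded_21_0 L18816 L14599 L14588
theorem L18820 : sm gd N2079 = N2763 := ded_24_5 L18818 L18814 L9371 L9365 L10842
theorem L18821 : sm gd N2763 = N2079 := flp_d L18820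
theorem L18832 : sm gg N1831 = N3543 := rfl
theorem L18833 : sm gg N3543 = N1831 := flp_g L18832
theorem L18835 : sm gc N3543 = N2080 := ded_21_1 L10848 L10826 L18832
theorem L18836 : sm gc N2080 = N3543 := flp_c L18835
theorem L18837 : sm ge N3543 = N1832 := ded_26_1 L9395 L9389 L18832
theorem L18839 : sm gf N2079 = N3543 := ded_28_0 L18833 L10810 L10808 L10836
theorem L18840 : sm gf N3543 = N2079 := flp_f L18839
theorem L18843 : sm ga N1833 = N3544 := rfl
theorem L18844 : sm ga N3544 = N1833 := flp_a L18843
theorem L18845 : sm gf N3544 = N1837 := ded_11_2 L9442 L9404 L18843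
theorem L18846 : sm gf N1837 = N3544 := flp_f L18845
theorem L18851 : sm gg N3544 = N2149 := ded_28_3 L11225 L11205 L11207 L18846
theorem L18852 : sm gg N2149 = N3544 := flp_g L18851
theorem L18853 : sm gd N1833 = N3545 := rfl
theorem L18855 : sm gb N3545 = N1834 := ded_14_1 L9406 L9401 L18853
theorem L18856 : sm gb N1834 = N3545 := flp_b L18855
theorem L18857 : sm ge N1833 = N3546 := rfl
theorem L18858 : sm ge N3546 = N1833 := flp_e L18857
theorem L18861 : sm gb N3546 = N1835 := ded_15_1 L9409 L9401 L18857
theorem L18863 : sm gf N3546 = N1839 := ded_25_2 L9448 L9404 L18857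
theorem L18864 : sm gf N1839 = N3546 := flp_f L18863
theorem L18865 : sm gg N2137 = N3546 := ded_28_3 L18858 L9403 L9451 L11167
theorem L18866 : sm gg N3546 = N2137 := flp_g L18865
theorem L18867 : sm gd N2150 = N3546 := ded_14_0 L18861 L9417 L11231
theorem L18868 : sm gd N3546 = N2150 := flp_d L18867
theorem L18869 : sm gg N1833 = N3547 := rfl
theorem L18870 : sm gg N3547 = N1833 := flp_g L18869
theorem L18871 : sm ga N3547 = N2149 := ded_12_1 L18852 L18844 L18869
theorem L18872 : sm ga N2149 = N3547 := flp_a L18871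
theorem L18873 : sm gb N3547 = N1836 := ded_17_1 L9433 L9401 L18869
theorem L18875 : sm ge N3547 = N2137 := ded_26_1 L18865 L18858 L18869
theorem L18876 : sm ge N2137 = N3547 := flp_e L18875
theorem L18877 : sm gd N2149 = N3547 := ded_14_0 L18873 L9440 L11227
theorem L18878 : sm gd N3547 = N2149 := flp_d L18877
theorem L18879 : sm gc N1834 = N3548 := rfl
theorem L18880 : sm gc N3548 = N1834 := flp_c L18879
theorem L18882 : sm ge N1834 = N3549 := rfl
theorem L18883 : sm ge N3549 = N1834 := flp_e L18882
theorem L18885 : sm gd N3549 = N2172 := ded_22_1 L11343 L9418 L9409 L9405 L18882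
theorem L18887 : sm gg N1834 = N3549 := ded_24_0 L18885 L11339 L9439 L9433 L9405
theorem L18889 : sm gf N1834 = N3550 := rfl
theorem L18890 : sm gf N3550 = N1834 := flp_f L18889
theorem L18891 : sm ga N3550 = N3550 := ded_11_1 L18890 L9407 L18889
theorem L18892 : sm gg N3550 = N3550 := ded_28_1 L18890 L18887 L18883 L18889
theorem L18893 : sm gd N3550 = N1843 := ded_23_1 L9463 L4652 L4640 L9405 L18889
theorem L18894 : sm gd N1843 = N3550 := flp_d L18893
theorem L18895 : sm gd N1837 = N3551 := rfl
theorem L18897 : sm ga N3551 = N1838 := ded_9_1 L9444 L9441 L18895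
theorem L18898 : sm ga N1838 = N3551 := flp_a L18897
theorem L18899 : sm gc N1838 = N3552 := rfl
theorem L18900 : sm gc N3552 = N1838 := flp_c L18899
theorem L18901 : sm ge N1838 = N3553 := rfl
theorem L18902 : sm ge N3553 = N1838 := flp_e L18901
theorem L18905 : sm gf N1838 = N3554 := rfl
theorem L18906 : sm gf N3554 = N1838 := flp_f L18905
theorem L18907 : sm gb N3554 = N1843 := ded_16_1 L9463 L9446 L18905
theorem L18908 : sm gb N1843 = N3554 := flp_b L18907
theorem L18909 : sm gg N1838 = N3555 := rfl
theorem L18910 : sm gg N3555 = N1838 := flp_g L18909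
theorem L18911 : sm gb N3555 = N1844 := ded_17_1 L9466 L9446 L18909
theorem L18912 : sm gb N1844 = N3555 := flp_b L18911
theorem L18913 : sm gd N1839 = N3556 := rfl
theorem L18914 : sm gd N3556 = N1839 := flp_d L18913
theorem L18917 : sm gg N1839 = N3557 := rfl
theorem L18918 : sm gg N3557 = N1839 := flp_g L18917
theorem L18919 : sm gb N3557 = N1846 := ded_17_1 L9472 L9450 L18917
theorem L18923 : sm gf N3547 = N3557 := ded_28_0 L18918 L18864 L18866 L18876
theorem L18925 : sm gb N1841 = N3558 := rfl
theorem L18926 : sm gb N3558 = N1841 := flp_b L18925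
theorem L18928 : sm ge N1841 = N3559 := rfl
theorem L18929 : sm ge N3559 = N1841 := flp_e L18928
theorem L18931 : sm gc N3559 = N1842 := ded_19_1 L9460 L9455 L18928
theorem L18932 : sm gc N1842 = N3559 := flp_c L18931
theorem L18933 : sm gf N1841 = N3560 := rfl
theorem L18934 : sm gf N3560 = N1841 := flp_f L18933
theorem L18936 : sm gc N3560 = N1843 := ded_20_1 L9463 L9455 L18933
theorem L18938 : sm gg N1841 = N3561 := rfl
theorem L18939 : sm gg N3561 = N1841 := flp_g L18938
theorem L18941 : sm gc N3561 = N1844 := ded_21_1 L9466 L9455 L18938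
theorem L18942 : sm gc N1844 = N3561 := flp_c L18941
theorem L18943 : sm gd N1842 = N3562 := rfl
theorem L18944 : sm gd N3562 = N1842 := flp_d L18943
theorem L18946 : sm ge N3562 = N1845 := ded_22_2 L9469 L4655 L4651 L9459 L18943
theorem L18948 : sm gf N1842 = N3563 := rfl
theorem L18949 : sm gf N3563 = N1842 := flp_f L18948
theorem L18951 : sm ge N3563 = N1843 := ded_25_1 L9463 L9459 L18948
theorem L18952 : sm ge N1843 = N3563 := flp_e L18951
theorem L18953 : sm gg N1842 = N3564 := rfl
theorem L18956 : sm ge N3564 = N1844 := ded_26_1 L9466 L9459 L18953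
theorem L18957 : sm ge N1844 = N3564 := flp_e L18956
theorem L18958 : sm gg N1843 = N3565 := rfl
theorem L18959 : sm gg N3565 = N1843 := flp_g L18958
theorem L18961 : sm gf N3564 = N3565 := ded_28_0 L18959 L9463 L9465 L18957
theorem L18962 : sm gf N3565 = N3564 := flp_f L18961
theorem L18963 : sm gd N3565 = N3565 := ded_24_1 L18959 L18894 L18892 L18893 L18958
theorem L18964 : sm gf N1844 = N3566 := rfl
theorem L18965 : sm gf N3566 = N1844 := flp_f L18964
theorem L18967 : sm ge N3566 = N3565 := ded_25_1 L18962 L18956 L18964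
theorem L18968 : sm ge N3565 = N3566 := flp_e L18967
theorem L18969 : sm gg N3566 = N3563 := ded_28_3 L18951 L9463 L9465 L18964
theorem L18971 : sm gc N1845 = N3567 := rfl
theorem L18972 : sm gc N3567 = N1845 := flp_c L18971
theorem L18977 : sm gd N1846 = N3569 := rfl
theorem L18978 : sm gd N3569 = N1846 := flp_d L18977
theorem L18980 : sm gc N1847 = N3570 := rfl
theorem L18983 : sm ge N3570 = N1967 := ded_19_2 L10210 L9484 L18980
theorem L18984 : sm ge N1967 = N3570 := flp_e L18983
theorem L18985 : sm gf N3570 = N2806 := ded_20_2 L14862 L9488 L18980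
theorem L18987 : sm gg N3570 = N1966 := ded_21_2 L10205 L9486 L18980
theorem L18989 : sm gc N2699 = N3550 := ded_31_11 L18892 L18890 L9406 L4637 L4646 L4670 L9480 L18980 L18987 L14848 L14852 L7504 L7523 L7531 L14230
theorem L18990 : sm gc N3550 = N2699 := flp_c L18989
theorem L18991 : sm gf N3548 = N2699 := ded_20_0 L18989 L18890 L18879
theorem L18992 : sm gf N2699 = N3548 := flp_f L18991
theorem L18993 : N1416 = N3560 := coi_30_8 L18936 L18894 L18891 L18990 L14231 L7107 L3553 L1777 L1835 L3636 L7267
theorem L18994 : N3560 = N1416 := (eqc rfl L18993 rfl).symm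
theorem L18996 : sm gc N1416 = N1843 := trfs L18994 L18936 rfl
theorem L18997 : N1843 = N2745 := eqes L18996 L14482
theorem L18998 : N2745 = N1843 := (eqc rfl L18997 rfl).symm
theorem L18999 : sm gf N1416 = N1841 := trfs L18994 L18934 rfl
theorem L19000 : N1841 = N2747 := eqes L18999 L14488
theorem L19001 : N2747 = N1841 := (eqc rfl L19000 rfl).symm
theorem L19004 : sm gf N1841 = N1416 := trfs L19001 L14489 rfl
theorem L19005 : sm gf N1416 = N1841 := flp_f L19004
theorem L19007 : sm gc N1843 = N1416 := trfs L18998 L14483 rfl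
theorem L19008 : sm gc N1416 = N1843 := flp_c L19007
theorem L19009 : sm gb N3548 = N3548 := ded_16_3 L18991 L14233 L18992
theorem L19012 : sm gf N2746 = N3559 := ded_25_2 L18929 L19004 L14485
theorem L19016 : sm gc N2748 = N3565 := ded_21_3 L18959 L19007 L14492
theorem L19018 : sm gc N3545 = N3545 := ded_13_4 L18855 L18879 L19009 L18880 L18856
theorem L19019 : sm gc N1848 = N3571 := rfl
theorem L19022 : sm ge N3571 = N2788 := ded_19_2 L14733 L9496 L19019
theorem L19023 : sm ge N2788 = N3571 := flp_e L19022
theorem L19024 : sm gf N3571 = N3450 := ded_20_2 L18261 L9493 L19019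
theorem L19025 : sm gf N3450 = N3571 := flp_f L19024
theorem L19026 : sm gg N3571 = N2787 := ded_21_2 L14726 L9495 L19019
theorem L19027 : sm gg N2787 = N3571 := flp_g L19026
theorem L19028 : sm gb N1850 = N3572 := rfl
theorem L19029 : sm gb N3572 = N1850 := flp_b L19028
theorem L19030 : sm gf N3572 = N2213 := ded_16_2 L11588 L9514 L19028
theorem L19032 : sm gg N3572 = N1853 := ded_17_2 L9526 L9512 L19028
theorem L19033 : sm gg N1853 = N3572 := flp_g L19032
theorem L19051 : sm gd N1853 = N3574 := rfl
theorem L19052 : sm gd N3574 = N1853 := flp_d L19051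
theorem L19055 : sm gb N3574 = N1854 := ded_14_1 L9532 L9525 L19051
theorem L19056 : sm gb N1854 = N3574 := flp_b L19055
theorem L19057 : sm gf N1853 = N3575 := rfl
theorem L19058 : sm gf N3575 = N1853 := flp_f L19057
theorem L19063 : sm ge N3575 = N3497 := ded_25_1 L18550 L9530 L19057
theorem L19065 : sm ge N1854 = N3576 := rfl
theorem L19066 : sm ge N3576 = N1854 := flp_e L19065
theorem L19070 : sm gf N3576 = N2027 := ded_28_0 L10526 L10520 L11647 L19065
theorem L19071 : sm gf N2027 = N3576 := flp_f L19070
theorem L19072 : sm gd N3576 = N2168 := ded_31_2 L11316 L5534 L5530 L5542 L4662 L2396 L2386 L2383 L2381 L2612 L2606 L2602 L5160 L10525 L19071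
theorem L19073 : sm gd N2168 = N3576 := flp_d L19072
theorem L19083 : sm gd N1855 = N3578 := rfl
theorem L19084 : sm gd N3578 = N1855 := flp_d L19083
theorem L19086 : sm gb N3578 = N3496 := ded_14_1 L18544 L9538 L19083
theorem L19088 : sm ge N3578 = N2168 := ded_22_2 L19073 L19066 L9532 L9534 L19083
theorem L19089 : sm ge N2168 = N3578 := flp_e L19088
theorem L19090 : sm gg N2158 = N3578 := ded_17_0 L19086 L18548 L11273
theorem L19092 : sm gc N2160 = N3578 := ded_19_3 L19088 L11316 L11284
theorem L19093 : sm gc N3578 = N2160 := flp_c L19092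
theorem L19094 : sm gd N1856 = N3579 := rfl
theorem L19095 : sm gd N3579 = N1856 := flp_d L19094
theorem L19097 : sm gg N3579 = N3507 := ded_24_2 L18621 L9282 L11644 L11641 L19094
theorem L19105 : sm ge N1859 = N3581 := rfl
theorem L19106 : sm ge N3581 = N1859 := flp_e L19105
theorem L19107 : sm ga N3581 = N3520 := ded_10_1 L18681 L9565 L19105
theorem L19109 : sm gb N3581 = N1862 := ded_15_1 L9592 L9567 L19105
theorem L19111 : sm gf N3581 = N3520 := ded_25_2 L18681 L9568 L19105
theorem L19113 : sm gg N2773 = N3581 := ded_28_3 L19106 L9569 L14071 L14640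
theorem L19114 : sm gg N3581 = N2773 := flp_g L19113
theorem L19115 : sm gd N3581 = N3511 := ded_22_1 L18638 L9297 L4726 L9562 L19105
theorem L19116 : sm gd N3511 = N3581 := flp_d L19115
theorem L19117 : sm gg N1859 = N3582 := rfl
theorem L19119 : sm ga N3582 = N2677 := ded_12_1 L14070 L9565 L19117
theorem L19120 : sm ga N2677 = N3582 := flp_a L19119
theorem L19123 : sm ge N3582 = N2773 := ded_26_1 L19113 L19106 L19117
theorem L19124 : sm ge N2773 = N3582 := flp_e L19123
theorem L19135 : sm gd N1862 = N3584 := rfl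
theorem L19138 : sm gb N3584 = N3511 := ded_14_1 L19116 L19109 L19135
theorem L19140 : sm ge N3584 = N1864 := ded_22_2 L9610 L4732 L4728 L9591 L19135
theorem L19141 : sm ge N1864 = N3584 := flp_e L19140
theorem L19142 : sm gf N3584 = N3538 := ded_23_2 L18806 L9356 L9350 L9597 L19135
theorem L19143 : sm gf N3538 = N3584 := flp_f L19142
theorem L19144 : sm gc N1864 = N3585 := rfl
theorem L19149 : sm gf N1864 = N3586 := rfl
theorem L19152 : sm gb N3586 = N3512 := ded_16_1 L18642 L9613 L19149
theorem L19153 : sm gb N3512 = N3586 := flp_b L19152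
theorem L19156 : sm gd N3586 = N2074 := ded_23_1 L10811 L9392 L4865 L9609 L19149
theorem L19158 : sm gg N1864 = N3587 := rfl
theorem L19159 : sm gg N3587 = N1864 := flp_g L19158
theorem L19163 : sm gd N3587 = N1912 := ded_24_1 L9882 L4843 L4739 L9609 L19158
theorem L19165 : sm gd N1866 = N3588 := rfl
theorem L19167 : sm ga N3588 = N3556 := ded_9_1 L18914 L9623 L19165
theorem L19168 : sm ga N3556 = N3588 := flp_a L19167
theorem L19171 : sm gf N3588 = N3556 := ded_23_2 L18914 L18864 L18868 L11233 L19165
theorem L19172 : sm gf N3556 = N3588 := flp_f L19171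
theorem L19173 : sm gg N1866 = N3589 := rfl
theorem L19179 : sm ge N3589 = N2145 := ded_26_1 L11207 L9626 L19173
theorem L19180 : sm ge N2145 = N3589 := flp_e L19179
theorem L19183 : sm gc N1867 = N3590 := rfl
theorem L19184 : sm gc N3590 = N1867 := flp_c L19183
theorem L19185 : sm ga N3590 = N3590 := ded_8_1 L19184 L9629 L19183
theorem L19186 : sm gf N3590 = N3567 := ded_20_2 L18972 L9631 L19183
theorem L19187 : sm gf N3567 = N3590 := flp_f L19186
theorem L19188 : sm gd N2029 = N3590 := ded_30_9 L19185 L19184 L9628 L4755 L2430 L1212 L2413 L4709 L9531 L11645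
theorem L19189 : sm gd N3590 = N2029 := flp_d L19188
theorem L19190 : sm ge N1867 = N3591 := rfl
theorem L19193 : sm gf N3591 = N3562 := ded_25_2 L18946 L9631 L19190
theorem L19194 : sm gf N3562 = N3591 := flp_f L19193
theorem L19195 : sm gg N1867 = N3592 := rfl
theorem L19196 : sm gg N3592 = N1867 := flp_g L19195
theorem L19198 : sm gd N1868 = N3593 := rfl
theorem L19199 : sm gd N3593 = N1868 := flp_d L19198
theorem L19203 : sm gg N3593 = N2163 := ded_24_2 L11293 L5516 L5510 L9639 L19198
theorem L19204 : sm gg N2163 = N3593 := flp_g L19203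
theorem L19205 : sm gd N1869 = N3594 := rfl
theorem L19206 : sm gd N3594 = N1869 := flp_d L19205
theorem L19208 : sm ge N3594 = N2161 := ded_22_2 L11286 L5503 L5510 L9647 L19205
theorem L19210 : sm gf N3594 = N3569 := ded_23_2 L18978 L9479 L9440 L9648 L19205
theorem L19211 : sm gf N3569 = N3594 := flp_f L19210
theorem L19212 : sm gb N1872 = N3595 := rfl
theorem L19213 : sm gb N3595 = N1872 := flp_b L19212
theorem L19214 : sm gc N3595 = N1876 := ded_13_2 L9711 L4776 L4770 L9696 L19212
theorem L19215 : sm gc N1876 = N3595 := flp_c L19214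
theorem L19216 : sm gd N1872 = N3596 := rfl
theorem L19217 : sm gd N3596 = N1872 := flp_d L19216
theorem L19218 : sm ge N1872 = N3597 := rfl
theorem L19219 : sm ge N3597 = N1872 := flp_e L19218
theorem L19220 : sm gc N3597 = N1873 := ded_19_1 L9699 L9696 L19218
theorem L19221 : sm gc N1873 = N3597 := flp_c L19220
theorem L19222 : sm gg N1872 = N3598 := rfl
theorem L19223 : sm gg N3598 = N1872 := flp_g L19222
theorem L19234 : sm gd N1874 = N3600 := rfl
theorem L19235 : sm gd N3600 = N1874 := flp_d L19234
theorem L19238 : sm gg N3600 = N1875 := ded_24_2 L9707 L4772 L4767 L9702 L19234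
theorem L19239 : sm gg N1875 = N3600 := flp_g L19238
theorem L19250 : sm gc N1875 = N3602 := rfl
theorem L19251 : sm gc N3602 = N1875 := flp_c L19250
theorem L19256 : sm gf N1875 = N3604 := rfl
theorem L19257 : sm gf N3604 = N1875 := flp_f L19256
theorem L19258 : sm gb N3604 = N1889 := ded_16_1 L9773 L9709 L19256
theorem L19260 : sm ga N1876 = N3605 := rfl
theorem L19262 : sm gd N3605 = N2069 := ded_9_2 L10778 L9713 L19260
theorem L19263 : sm gd N2069 = N3605 := flp_d L19262
theorem L19264 : sm gb N3605 = N1940 := ded_29_7 L10045 L4933 L2524 L4905 L10006 L10008 L19212 L19214 L19260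
theorem L19266 : sm ge N1948 = N3605 := ded_15_0 L19264 L10047 L10122
theorem L19268 : sm ge N1876 = N3606 := rfl
theorem L19276 : sm gd N3606 = N1948 := ded_22_1 L19266 L19262 L10782 L9713 L19268
theorem L19277 : sm gd N1948 = N3606 := flp_d L19276
theorem L19278 : sm gg N1876 = N3607 := rfl
theorem L19279 : sm gg N3607 = N1876 := flp_g L19278
theorem L19282 : sm gg N1877 = N3608 := rfl
theorem L19287 : sm ge N3608 = N1878 := ded_26_1 L9720 L9714 L19282
theorem L19289 : sm gf N3608 = N1949 := ded_28_2 L10127 L10048 L10049 L19282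
theorem L19290 : sm gf N1949 = N3608 := flp_f L19289
theorem L19291 : sm gd N1878 = N3609 := rfl
theorem L19292 : sm gd N3609 = N1878 := flp_d L19291
theorem L19294 : sm gg N3609 = N2072 := ded_24_2 L10799 L5293 L4778 L9719 L19291
theorem L19296 : sm gf N2220 = N3609 := ded_31_1 L19292 L9722 L4784 L2650 L2523 L1249 L1256 L1261 L2347 L4555 L4558 L4578 L9284 L18623 L18626
theorem L19297 : sm gf N3609 = N2220 := flp_f L19296
theorem L19298 : sm gc N3609 = N2221 := ded_20_1 L11632 L11628 L19296
theorem L19299 : sm gc N2221 = N3609 := flp_c L19298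
theorem L19300 : sm gf N1878 = N3610 := rfl
theorem L19301 : sm gf N3610 = N1878 := flp_f L19300
theorem L19305 : sm ge N3610 = N1949 := ded_25_1 L19290 L19287 L19300
theorem L19309 : sm gd N3610 = N2465 := ded_31_2 L12992 L11627 L11622 L11610 L11616 L9552 L9521 L4705 L4703 L4700 L2403 L2434 L4775 L9719 L19300
theorem L19310 : sm gd N2465 = N3610 := flp_d L19309
theorem L19311 : N2220 = N2464 := coi_23_3 L12985 L12989 L19310 L19301 L19291 L19297
theorem L19312 : N2464 = N2220 := (eqc rfl L19311 rfl).symm
theorem L19314 : sm gd N2220 = N1260 := trfs L19312 L12985 rfl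
theorem L19316 : sm ge N2220 = N1263 := trfs L19312 L12987 rfl
theorem L19317 : sm ge N1263 = N2220 := flp_e L19316
theorem L19318 : N2214 = N2469 := coi_30_2 L13033 L6462 L3236 L1631 L2885 L5732 L11628 L19314 L6447 L6448 L11590
theorem L19319 : N2469 = N2214 := (eqc rfl L19318 rfl).symm
theorem L19321 : sm gc N2214 = N1263 := trfs L19319 L13033 rfl
theorem L19327 : sm gf N2072 = N2471 := ded_28_2 L13039 L19317 L19296 L19294
theorem L19328 : sm gf N2471 = N2072 := flp_f L19327
theorem L19329 : sm gc N2471 = N3509 := ded_21_3 L18631 L19321 L13038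
theorem L19330 : sm gc N3509 = N2471 := flp_c L19329
theorem L19331 : sm gg N1879 = N3611 := rfl
theorem L19332 : sm gg N3611 = N1879 := flp_g L19331
theorem L19334 : sm gc N3611 = N1885 := ded_21_1 L9757 L9917 L19331
theorem L19335 : sm gc N1885 = N3611 := flp_c L19334
theorem L19338 : sm gd N1880 = N3612 := rfl
theorem L19339 : sm gd N3612 = N1880 := flp_d L19338
theorem L19341 : sm gc N1881 = N3613 := rfl
theorem L19342 : sm gc N3613 = N1881 := flp_c L19341
theorem L19343 : sm ga N3613 = N3613 := ded_8_1 L19342 L9738 L19341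
theorem L19344 : sm gg N3613 = N1887 := ded_21_2 L9765 L9740 L19341
theorem L19345 : sm gg N1887 = N3613 := flp_g L19344
theorem L19346 : sm gf N1914 = N3613 := ded_28_0 L19344 L9897 L9893 L9889
theorem L19347 : sm gf N3613 = N1914 := flp_f L19346
theorem L19348 : sm ge N3613 = N1907 := ded_28_4 L9859 L9892 L9898 L19345
theorem L19349 : sm ge N1907 = N3613 := flp_e L19348
theorem L19350 : sm ge N1881 = N3614 := rfl
theorem L19351 : sm ge N3614 = N1881 := flp_e L19350
theorem L19355 : sm gg N3614 = N1888 := ded_26_2 L9770 L9740 L19350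
theorem L19357 : sm gf N3614 = N1913 := ded_28_0 L9887 L9773 L9740 L19350
theorem L19358 : sm gf N1913 = N3614 := flp_f L19357
theorem L19359 : sm gf N1881 = N3615 := rfl
theorem L19362 : sm gc N3615 = N1914 := ded_20_1 L19346 L19342 L19359
theorem L19364 : sm ge N3615 = N1913 := ded_25_1 L19358 L19351 L19359
theorem L19376 : sm gd N1885 = N3618 := rfl
theorem L19377 : sm gd N3618 = N1885 := flp_d L19376
theorem L19379 : sm gg N3618 = N1886 := ded_24_2 L9760 L4790 L4786 L9756 L19376
theorem L19390 : sm gc N1886 = N3620 := rfl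
theorem L19391 : sm gc N3620 = N1886 := flp_c L19390
theorem L19392 : sm ga N3620 = N3620 := ded_8_1 L19391 L9761 L19390
theorem L19393 : sm gf N3620 = N2428 := ded_20_2 L12809 L9763 L19390
theorem L19394 : sm gf N2428 = N3620 := flp_f L19393
theorem L19395 : sm ge N1886 = N3621 := rfl
theorem L19398 : sm gf N3621 = N2429 := ded_25_2 L12814 L9763 L19395
theorem L19399 : sm gf N2429 = N3621 := flp_f L19398
theorem L19400 : sm gd N3621 = N1888 := ded_22_1 L9770 L4799 L4795 L9759 L19395
theorem L19402 : sm gb N1887 = N3622 := rfl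
theorem L19403 : sm gb N3622 = N1887 := flp_b L19402
theorem L19406 : sm ge N1887 = N3623 := rfl
theorem L19409 : sm gc N3623 = N1888 := ded_19_1 L9770 L9764 L19406
theorem L19410 : sm gc N1888 = N3623 := flp_c L19409
theorem L19411 : sm gg N3623 = N1907 := ded_26_2 L19349 L19344 L19406
theorem L19413 : sm gf N1888 = N3624 := rfl
theorem L19414 : sm gf N3624 = N1888 := flp_f L19413
theorem L19416 : sm ge N3624 = N1889 := ded_25_1 L9773 L9769 L19413
theorem L19417 : sm ge N1889 = N3624 := flp_e L19416
theorem L19418 : sm gg N3624 = N3615 := ded_28_3 L19364 L19358 L19355 L19413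
theorem L19420 : sm gd N1889 = N3625 := rfl
theorem L19421 : sm gd N3625 = N1889 := flp_d L19420
theorem L19423 : sm gf N3625 = N1890 := ded_23_2 L9776 L4802 L4798 L9772 L19420
theorem L19424 : sm gf N1890 = N3625 := flp_f L19423
theorem L19430 : sm gb N1891 = N3627 := rfl
theorem L19431 : sm gb N3627 = N1891 := flp_b L19430
theorem L19432 : sm gg N3627 = N1960 := ded_17_2 L10181 L9782 L19430
theorem L19434 : sm ga N2726 = N3627 := ded_29_0 L19431 L9779 L4812 L8109 L16192 L16194 L17385 L17387 L14400
theorem L19436 : sm gd N1891 = N3628 := rfl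
theorem L19437 : sm gd N3628 = N1891 := flp_d L19436
theorem L19439 : sm gf N1891 = N3629 := rfl
theorem L19440 : sm gf N3629 = N1891 := flp_f L19439
theorem L19444 : sm gg N3629 = N2727 := ded_28_3 L14406 L10186 L9782 L19439
theorem L19445 : sm gg N2727 = N3629 := flp_g L19444
theorem L19448 : sm gb N1893 = N3630 := rfl
theorem L19449 : sm gb N3630 = N1893 := flp_b L19448
theorem L19450 : sm gf N3630 = N2786 := ded_16_2 L14720 L9794 L19448
theorem L19452 : sm ge N1893 = N3631 := rfl
theorem L19453 : sm ge N3631 = N1893 := flp_e L19452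
theorem L19455 : sm gc N3631 = N1894 := ded_19_1 L9796 L9790 L19452
theorem L19457 : sm gf N3631 = N2787 := ded_25_2 L14724 L9794 L19452
theorem L19459 : sm gb N1895 = N3632 := rfl
theorem L19461 : sm gc N3632 = N1900 := ded_13_2 L9821 L4829 L4823 L9802 L19459
theorem L19462 : sm gc N1900 = N3632 := flp_c L19461
theorem L19463 : sm gd N1895 = N3633 := rfl
theorem L19464 : sm gd N3633 = N1895 := flp_d L19463
theorem L19465 : sm ge N1895 = N3634 := rfl
theorem L19467 : sm gc N3634 = N1896 := ded_19_1 L9805 L9802 L19465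
theorem L19468 : sm gc N1896 = N3634 := flp_c L19467
theorem L19469 : sm gf N1895 = N3635 := rfl
theorem L19470 : sm gf N3635 = N1895 := flp_f L19469
theorem L19477 : sm gf N1896 = N3637 := rfl
theorem L19478 : sm gf N3637 = N1896 := flp_f L19477
theorem L19481 : sm ge N3637 = N1897 := ded_25_1 L9809 L9804 L19477
theorem L19483 : sm gg N1896 = N3638 := rfl
theorem L19484 : sm gg N3638 = N1896 := flp_g L19483
theorem L19487 : sm ge N3638 = N1898 := ded_26_1 L9813 L9804 L19483
theorem L19488 : sm ge N1898 = N3638 := flp_e L19487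
theorem L19495 : sm gg N1897 = N3640 := rfl
theorem L19496 : sm gg N3640 = N1897 := flp_g L19495
theorem L19499 : sm gf N3638 = N3640 := ded_28_0 L19496 L9809 L9812 L19488
theorem L19500 : sm gf N3640 = N3638 := flp_f L19499
theorem L19501 : sm gf N1898 = N3641 := rfl
theorem L19505 : sm ge N3641 = N3640 := ded_25_1 L19500 L19487 L19501
theorem L19507 : sm gg N3641 = N3637 := ded_28_3 L19481 L9809 L9812 L19501
theorem L19508 : sm gg N3637 = N3641 := flp_g L19507
theorem L19509 : sm gc N1899 = N3642 := rfl
theorem L19511 : sm ge N1899 = N3643 := rfl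
theorem L19513 : sm gb N3643 = N1914 := ded_15_1 L9890 L9819 L19511
theorem L19515 : sm gg N1899 = N3644 := rfl
theorem L19516 : sm gg N3644 = N1899 := flp_g L19515
theorem L19517 : sm gb N3644 = N1915 := ded_17_1 L9893 L9819 L19515
theorem L19519 : sm gf N3622 = N3644 := ded_16_0 L19517 L9898 L19402
theorem L19520 : sm gf N3644 = N3622 := flp_f L19519
theorem L19521 : sm ga N1900 = N3645 := rfl
theorem L19522 : sm ga N3645 = N1900 := flp_a L19521
theorem L19523 : sm gd N3645 = N2099 := ded_9_2 L10942 L9823 L19521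
theorem L19525 : sm gb N3645 = N2015 := ded_29_7 L10479 L5131 L2604 L5086 L10387 L10389 L19459 L19461 L19521
theorem L19527 : sm ge N2024 = N3645 := ded_15_0 L19525 L10481 L10515
theorem L19528 : sm ge N3645 = N2024 := flp_e L19527
theorem L19529 : sm ge N1900 = N3646 := rfl
theorem L19531 : sm ga N3646 = N2024 := ded_10_1 L19527 L19522 L19529
theorem L19532 : sm ga N2024 = N3646 := flp_a L19531
theorem L19533 : sm gb N3646 = N1901 := ded_15_1 L9825 L9820 L19529
theorem L19535 : sm gf N1900 = N3647 := rfl
theorem L19537 : sm gb N3647 = N1902 := ded_16_1 L9830 L9820 L19535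
theorem L19538 : sm gb N1902 = N3647 := flp_b L19537
theorem L19539 : sm gg N1900 = N3648 := rfl
theorem L19540 : sm gg N3648 = N1900 := flp_g L19539
theorem L19541 : sm gb N3648 = N1903 := ded_17_1 L9835 L9820 L19539
theorem L19543 : sm gf N3501 = N3648 := ded_16_0 L19541 L9839 L18578
theorem L19545 : sm gg N1901 = N3649 := rfl
theorem L19546 : sm gg N3649 = N1901 := flp_g L19545
theorem L19550 : sm ge N3649 = N1903 := ded_26_1 L9835 L9824 L19545
theorem L19552 : sm gf N3504 = N3649 := ded_28_0 L19546 L18616 L18610 L18599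
theorem L19554 : sm gd N3649 = N2122 := ded_24_1 L11076 L11065 L11505 L11518 L19545
theorem L19555 : sm gd N2122 = N3649 := flp_d L19554
theorem L19556 : sm gd N1902 = N3650 := rfl
theorem L19559 : sm gf N3650 = N2106 := ded_23_2 L10973 L5379 L4831 L9829 L19556
theorem L19560 : sm gf N2106 = N3650 := flp_f L19559
theorem L19561 : sm gg N3650 = N2154 := ded_24_2 L11245 L9678 L18595 L18603 L19556
theorem L19562 : sm gg N2154 = N3650 := flp_g L19561
theorem L19563 : sm gd N1903 = N3651 := rfl
theorem L19566 : sm gf N3651 = N3507 := ded_23_2 L18621 L9276 L9272 L9840 L19563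
theorem L19567 : sm gf N3507 = N3651 := flp_f L19566
theorem L19568 : sm gg N3651 = N2108 := ded_24_2 L10994 L5384 L4831 L9834 L19563
theorem L19569 : sm gg N2108 = N3651 := flp_g L19568
theorem L19577 : sm gg N1904 = N3653 := rfl
theorem L19578 : sm gg N3653 = N1904 := flp_g L19577
theorem L19580 : sm ge N3653 = N1912 := ded_26_1 L9882 L9845 L19577
theorem L19581 : sm ge N1912 = N3653 := flp_e L19580
theorem L19585 : sm gd N1906 = N3655 := rfl
theorem L19586 : sm gd N3655 = N1906 := flp_d L19585
theorem L19591 : sm gd N1908 = N3656 := rfl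
theorem L19592 : sm gd N3656 = N1908 := flp_d L19591
theorem L19593 : sm ga N3656 = N3656 := ded_9_1 L19592 L9863 L19591
theorem L19597 : sm gb N1910 = N3658 := rfl
theorem L19598 : sm gb N3658 = N1910 := flp_b L19597
theorem L19603 : sm gf N1910 = N3659 := rfl
theorem L19606 : sm gc N3659 = N1911 := ded_20_1 L9879 L9875 L19603
theorem L19607 : sm gc N1911 = N3659 := flp_c L19606
theorem L19608 : sm gg N1910 = N3660 := rfl
theorem L19609 : sm gg N3660 = N1910 := flp_g L19608
theorem L19615 : sm gg N1911 = N3661 := rfl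
theorem L19616 : sm gg N3661 = N1911 := flp_g L19615
theorem L19618 : sm gf N3653 = N3661 := ded_28_0 L19616 L9879 L9881 L19581
theorem L19619 : sm gf N3661 = N3653 := flp_f L19618
theorem L19620 : sm gc N3628 = N3661 := ded_31_15 L19616 L9879 L4843 L2469 L2425 L2488 L3756 L3754 L3752 L3747 L7218 L14405 L19445 L19440 L19436
theorem L19621 : sm gc N3661 = N3628 := flp_c L19620
theorem L19622 : sm gg N3659 = N3628 := ded_21_2 L19620 L19616 L19607
theorem L19623 : sm gg N3628 = N3659 := flp_g L19622
theorem L19624 : sm gf N1912 = N3662 := rfl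
theorem L19625 : sm gf N3662 = N1912 := flp_f L19624
theorem L19627 : sm ge N3662 = N3661 := ded_25_1 L19619 L19580 L19624
theorem L19628 : sm ge N3661 = N3662 := flp_e L19627
theorem L19631 : sm gb N1913 = N3663 := rfl
theorem L19632 : sm gb N3663 = N1913 := flp_b L19631
theorem L19633 : sm gg N3663 = N3604 := ded_17_2 L19258 L9888 L19631
theorem L19635 : sm gg N1914 = N3664 := rfl
theorem L19638 : sm gc N3664 = N3624 := ded_21_1 L19418 L19362 L19635
theorem L19639 : sm gc N3624 = N3664 := flp_c L19638
theorem L19648 : sm gd N1916 = N3666 := rfl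
theorem L19651 : sm gg N3666 = N1953 := ded_24_2 L10147 L9215 L11112 L11118 L19648
theorem L19652 : sm gg N1953 = N3666 := flp_g L19651
theorem L19655 : sm ge N3666 = N2031 := ded_28_4 L10554 L10134 L10144 L19652
theorem L19656 : sm ge N2031 = N3666 := flp_e L19655
theorem L19657 : sm gb N1918 = N3667 := rfl
theorem L19658 : sm gb N3667 = N1918 := flp_b L19657
theorem L19661 : sm ga N1924 = N3667 := ded_29_6 L19658 L9910 L9920 L9922 L4890 L2513 L2512 L4891 L9953
theorem L19665 : sm gd N1918 = N3668 := rfl
theorem L19666 : sm gd N3668 = N1918 := flp_d L19665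
theorem L19667 : sm ga N3668 = N1923 := ded_9_1 L9947 L9912 L19665
theorem L19668 : sm ga N1923 = N3668 := flp_a L19667
theorem L19691 : sm gg N1919 = N3672 := rfl
theorem L19695 : sm gb N3672 = N3611 := ded_17_1 L19332 L9925 L19691
theorem L19696 : sm gb N3611 = N3672 := flp_b L19695
theorem L19697 : sm ge N3672 = N1921 := ded_26_1 L9935 L9920 L19691
theorem L19698 : sm ge N1921 = N3672 := flp_e L19697
theorem L19699 : sm gg N1920 = N3673 := rfl
theorem L19700 : sm gg N3673 = N1920 := flp_g L19699
theorem L19705 : sm gf N3672 = N3673 := ded_28_0 L19700 L9929 L9934 L19698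
theorem L19709 : sm gd N1921 = N3674 := rfl
theorem L19715 : sm gg N3674 = N1922 := ded_24_2 L9941 L4878 L4871 L9934 L19709
theorem L19716 : sm gg N1922 = N3674 := flp_g L19715
theorem L19727 : sm gc N1922 = N3676 := rfl
theorem L19728 : sm gc N3676 = N1922 := flp_c L19727
theorem L19731 : sm ge N1922 = N3677 := rfl
theorem L19732 : sm ge N3677 = N1922 := flp_e L19731
theorem L19733 : sm ga N3677 = N1937 := ded_10_1 L10027 L9943 L19731
theorem L19734 : sm ga N1937 = N3677 := flp_a L19733
theorem L19741 : sm ge N1923 = N3679 := rfl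
theorem L19742 : sm ge N3679 = N1923 := flp_e L19741
theorem L19743 : sm gb N3679 = N3679 := ded_15_1 L19742 L9948 L19741
theorem L19744 : sm gf N1923 = N3680 := rfl
theorem L19745 : sm gf N3680 = N1923 := flp_f L19744
theorem L19747 : sm gg N1923 = N3681 := rfl
theorem L19748 : sm gg N3681 = N1923 := flp_g L19747
theorem L19749 : sm gb N3681 = N3681 := ded_17_1 L19748 L9948 L19747
theorem L19750 : sm gd N1924 = N3682 := rfl
theorem L19751 : sm gd N3682 = N1924 := flp_d L19750
theorem L19752 : sm gb N3682 = N3682 := ded_14_1 L19751 L9951 L19750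
theorem L19789 : sm gc N1927 = N3689 := rfl
theorem L19793 : sm ge N3689 = N1933 := ded_19_2 L10007 L9971 L19789
theorem L19794 : sm ge N1933 = N3689 := flp_e L19793
theorem L19797 : sm gd N1929 = N3690 := rfl
theorem L19798 : sm gd N3690 = N1929 := flp_d L19797
theorem L19801 : sm gc N1931 = N3691 := rfl
theorem L19803 : sm gg N3691 = N1936 := ded_21_2 L10025 L9997 L19801
theorem L19804 : sm gg N1936 = N3691 := flp_g L19803
theorem L19805 : sm ge N1931 = N3692 := rfl
theorem L19806 : sm ge N3692 = N1931 := flp_e L19805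
theorem L19809 : sm gg N3692 = N1937 := ded_26_2 L10027 L9997 L19805
theorem L19819 : sm gb N1933 = N3695 := rfl
theorem L19820 : sm gb N3695 = N1933 := flp_b L19819
theorem L19823 : sm gc N3695 = N1948 := ded_13_2 L10123 L4969 L4905 L10006 L19819
theorem L19824 : sm gc N1948 = N3695 := flp_c L19823
theorem L19825 : sm gd N1933 = N3696 := rfl
theorem L19826 : sm gd N3696 = N1933 := flp_d L19825
theorem L19827 : sm ga N3696 = N3596 := ded_9_1 L19217 L10009 L19825
theorem L19828 : sm ga N3596 = N3696 := flp_a L19827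
theorem L19829 : sm gg N1933 = N3697 := rfl
theorem L19831 : sm ga N3697 = N3598 := ded_12_1 L19223 L10009 L19829
theorem L19835 : sm gd N1934 = N3698 := rfl
theorem L19837 : sm ga N3698 = N3600 := ded_9_1 L19235 L10015 L19835
theorem L19838 : sm ga N3600 = N3698 := flp_a L19837
theorem L19839 : sm gb N3698 = N1950 := ded_14_1 L10132 L10017 L19835
theorem L19841 : sm gg N3698 = N1935 := ded_24_2 L10019 L4909 L4900 L10012 L19835
theorem L19842 : sm gg N1935 = N3698 := flp_g L19841
theorem L19843 : sm gc N1935 = N3699 := rfl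
theorem L19845 : sm ga N3699 = N3602 := ded_8_1 L19251 L10021 L19843
theorem L19846 : sm ga N3602 = N3699 := flp_a L19845
theorem L19847 : sm ge N1935 = N3700 := rfl
theorem L19848 : sm ge N3700 = N1935 := flp_e L19847
theorem L19863 : sm gb N1936 = N3702 := rfl
theorem L19864 : sm gb N3702 = N1936 := flp_b L19863
theorem L19869 : sm ge N1936 = N3704 := rfl
theorem L19870 : sm ge N3704 = N1936 := flp_e L19869
theorem L19873 : sm gf N1936 = N3705 := rfl
theorem L19874 : sm gf N3705 = N1936 := flp_f L19873
theorem L19875 : sm gc N3705 = N1938 := ded_20_1 L10031 L10024 L19873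
theorem L19895 : sm gc N1939 = N3708 := rfl
theorem L19897 : sm ge N3708 = N2339 := ded_19_2 L12273 L10042 L19895
theorem L19901 : sm gb N3708 = N2341 := ded_13_1 L12279 L6033 L4992 L10039 L19895
theorem L19902 : sm gb N2341 = N3708 := flp_b L19901
theorem L19903 : sm gc N1942 = N3709 := rfl
theorem L19904 : sm gc N3709 = N1942 := flp_c L19903
theorem L19911 : sm gb N1944 = N3711 := rfl
theorem L19912 : sm gb N3711 = N1944 := flp_b L19911
theorem L19913 : sm gg N3711 = N1954 := ded_17_2 L10150 L10110 L19911
theorem L19914 : sm gg N1954 = N3711 := flp_g L19913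
theorem L19918 : sm ge N1944 = N3713 := rfl
theorem L19923 : sm gg N3713 = N1956 := ded_26_2 L10155 L10110 L19918
theorem L19925 : sm gf N3713 = N3433 := ded_28_0 L18147 L10160 L10110 L19918
theorem L19926 : sm gf N3433 = N3713 := flp_f L19925
theorem L19948 : sm gg N1948 = N3717 := rfl
theorem L19949 : sm gg N3717 = N1948 := flp_g L19948
theorem L19950 : sm gb N3717 = N1949 := ded_17_1 L10127 L10122 L19948
theorem L19951 : sm gb N1949 = N3717 := flp_b L19950
theorem L19952 : sm gd N1949 = N3718 := rfl
theorem L19953 : sm gd N3718 = N1949 := flp_d L19952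
theorem L19955 : sm ge N3718 = N2390 := ded_22_2 L12562 L12995 L19310 L19305 L19952
theorem L19957 : sm gc N2391 = N3718 := ded_19_3 L19955 L12559 L12569
theorem L19959 : sm gf N2472 = N3718 := ded_25_0 L19955 L12563 L13042
theorem L19960 : sm gf N3718 = N2472 := flp_f L19959
theorem L19961 : sm ge N1950 = N3719 := rfl
theorem L19964 : sm gf N3719 = N3666 := ded_25_2 L19655 L10554 L19961
theorem L19965 : sm gf N3666 = N3719 := flp_f L19964
theorem L19966 : sm gg N3719 = N1952 := ded_26_2 L10140 L10135 L19961
theorem L19968 : sm gb N1951 = N3720 := rfl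
theorem L19970 : sm gd N1951 = N3721 := rfl
theorem L19973 : sm gg N3721 = N3590 := ded_24_2 L19189 L10540 L10530 L10536 L19970
theorem L19974 : sm gg N3590 = N3721 := flp_g L19973
theorem L19975 : sm gc N3592 = N3721 := ded_21_3 L19973 L19184 L19195
theorem L19976 : sm gc N3721 = N3592 := flp_c L19975
theorem L19977 : sm ge N1951 = N3722 := rfl
theorem L19978 : sm ge N3722 = N1951 := flp_e L19977
theorem L19980 : sm gc N3722 = N1952 := ded_19_1 L10140 L10136 L19977
theorem L19982 : sm gf N3722 = N2033 := ded_28_0 L10562 L10534 L10536 L19977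
theorem L19984 : sm gd N2673 = N3722 := ded_23_5 L19982 L10564 L9400 L10833 L14044
theorem L19986 : sm ge N3721 = N2672 := ded_22_4 L14036 L14038 L19984 L19978 L19970
theorem L19999 : sm gf N1952 = N3724 := rfl
theorem L20006 : sm gg N3724 = N2031 := ded_28_3 L19656 L19965 L19966 L19999
theorem L20007 : sm gg N2031 = N3724 := flp_g L20006
theorem L20008 : sm gd N3724 = N2437 := ded_23_1 L12846 L10171 L10165 L10143 L19999
theorem L20020 : sm gf N1954 = N3728 := rfl
theorem L20021 : sm gf N3728 = N1954 := flp_f L20020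
theorem L20022 : sm gb N3728 = N1957 := ded_16_1 L10160 L10149 L20020
theorem L20023 : sm gb N1957 = N3728 := flp_b L20022
theorem L20024 : sm ge N1955 = N3729 := rfl
theorem L20025 : sm ge N3729 = N1955 := flp_e L20024
theorem L20027 : sm gf N1955 = N3730 := rfl
theorem L20028 : sm gf N3730 = N1955 := flp_f L20027
theorem L20030 : sm gg N1955 = N3731 := rfl
theorem L20031 : sm gg N3731 = N1955 := flp_g L20030
theorem L20033 : sm gd N1956 = N3732 := rfl
theorem L20034 : sm gd N3732 = N1956 := flp_d L20033
theorem L20035 : sm ga N3732 = N3732 := ded_9_1 L20034 L10156 L20033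
theorem L20036 : sm gc N3732 = N2682 := ded_30_0 L14098 L7043 L7019 L14042 L19984 L19980 L10142 L10158 L20033 L20035
theorem L20037 : sm gc N2682 = N3732 := flp_c L20036
theorem L20047 : sm gd N1957 = N3734 := rfl
theorem L20050 : sm gg N3734 = N3459 := ded_24_2 L18319 L9098 L18141 L18147 L20047
theorem L20051 : sm gg N3459 = N3734 := flp_g L20050
theorem L20052 : sm gd N1959 = N3735 := rfl
theorem L20055 : sm gg N3735 = N2431 := ded_24_2 L12822 L6366 L4998 L10173 L20052
theorem L20056 : sm gg N2431 = N3735 := flp_g L20055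
theorem L20057 : sm ga N1960 = N3736 := rfl
theorem L20061 : sm gg N3736 = N2726 := ded_12_2 L19434 L19432 L20057
theorem L20063 : sm gb N3736 = N2059 := ded_29_4 L10721 L5250 L8947 L18080 L18084 L16194 L17385 L17387 L20057
theorem L20064 : sm gb N2059 = N3736 := flp_b L20063
theorem L20073 : sm gc N1961 = N3739 := rfl
theorem L20074 : sm gc N3739 = N1961 := flp_c L20073
theorem L20075 : sm ga N3739 = N3739 := ded_8_1 L20074 L10184 L20073
theorem L20076 : sm gd N3592 = N3739 := ded_30_9 L20075 L20074 L10183 L5000 L2547 L2529 L4976 L10136 L19970 L19976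
theorem L20078 : sm gg N3739 = N3594 := ded_24_2 L19206 L9642 L9627 L19195 L20076
theorem L20079 : sm gg N3594 = N3739 := flp_g L20078
theorem L20080 : sm ge N1961 = N3740 := rfl
theorem L20085 : sm gf N1961 = N3741 := rfl
theorem L20086 : sm gf N3741 = N1961 := flp_f L20085
theorem L20088 : sm gg N1961 = N3742 := rfl
theorem L20089 : sm gg N3742 = N1961 := flp_g L20088
theorem L20091 : sm gc N3742 = N3594 := ded_21_1 L20079 L20074 L20088
theorem L20092 : sm gc N3594 = N3742 := flp_c L20091
theorem L20093 : sm gd N3742 = N3659 := ded_24_1 L19622 L19437 L9781 L10182 L20088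
theorem L20094 : sm gd N3659 = N3742 := flp_d L20093
theorem L20095 : sm gd N3741 = N2059 := ded_31_2 L10721 L5253 L7212 L7217 L3750 L7465 L7470 L9620 L11342 L11339 L9648 L19205 L20092 L20089 L20085
theorem L20096 : sm gd N2059 = N3741 := flp_d L20095
theorem L20097 : sm gd N1962 = N3743 := rfl
theorem L20100 : sm gf N3743 = N2059 := ded_23_2 L20096 L20086 L10183 L10185 L20097
theorem L20108 : sm ga N1964 = N3744 := rfl
theorem L20109 : sm ga N3744 = N1964 := flp_a L20108
theorem L20110 : sm gb N3744 = N3631 := ded_29_7 L19455 L9796 L4817 L8117 L16208 L16210 L17417 L17419 L20108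
theorem L20112 : sm ge N3630 = N3744 := ded_15_0 L20110 L19453 L19448
theorem L20113 : sm ge N3744 = N3630 := flp_e L20112
theorem L20114 : sm gd N1964 = N3745 := rfl
theorem L20116 : sm gb N3745 = N1965 := ded_14_1 L10200 L10197 L20114
theorem L20117 : sm gb N1965 = N3745 := flp_b L20116
theorem L20118 : sm ge N1964 = N3746 := rfl
theorem L20119 : sm ge N3746 = N1964 := flp_e L20118
theorem L20120 : sm ga N3746 = N3630 := ded_10_1 L20112 L20109 L20118
theorem L20121 : sm ga N3630 = N3746 := flp_a L20120
theorem L20124 : sm gg N1964 = N3747 := rfl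
theorem L20126 : sm gb N3747 = N1967 := ded_17_1 L10208 L10197 L20124
theorem L20127 : sm gb N1967 = N3747 := flp_b L20126
theorem L20128 : sm gc N1965 = N3748 := rfl
theorem L20129 : sm gc N3748 = N1965 := flp_c L20128
theorem L20130 : sm ga N3748 = N3748 := ded_8_1 L20129 L10201 L20128
theorem L20131 : sm gd N2398 = N3748 := ded_30_9 L20130 L20129 L10200 L5008 L2550 L2541 L4988 L4991 L6208 L12615
theorem L20133 : sm ge N3748 = N2750 := ded_22_2 L14499 L12607 L12601 L12611 L20131
theorem L20134 : sm ge N2750 = N3748 := flp_e L20133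
theorem L20135 : sm ge N1965 = N3749 := rfl
theorem L20136 : sm ge N3749 = N1965 := flp_e L20135
theorem L20140 : sm gd N3749 = N2765 := ded_22_1 L14634 L14854 L10203 L10199 L20135
theorem L20142 : sm gg N2766 = N3749 := ded_24_0 L20140 L14599 L7320 L7324 L14601
theorem L20143 : sm gg N3749 = N2766 := flp_g L20142
theorem L20144 : sm gf N1965 = N3750 := rfl
theorem L20145 : sm gf N3750 = N1965 := flp_f L20144
theorem L20147 : sm gd N3750 = N3631 := ded_23_1 L19457 L14729 L7484 L10199 L20144
theorem L20149 : sm gg N1965 = N3751 := rfl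
theorem L20152 : sm ge N3751 = N2766 := ded_26_1 L20142 L20136 L20149
theorem L20153 : sm ge N2766 = N3751 := flp_e L20152
theorem L20154 : sm gf N3751 = N2668 := ded_31_1 L14019 L7007 L7010 L6120 L3050 L1545 L1567 L1580 L3134 L6247 L12679 L12676 L20131 L20129 L20149
theorem L20156 : sm gd N1967 = N3752 := rfl
theorem L20157 : sm gd N3752 = N1967 := flp_d L20156
theorem L20159 : sm gf N3752 = N2376 := ded_23_2 L12487 L7104 L14184 L14190 L20156
theorem L20161 : sm ge N2377 = N3752 := ded_25_3 L20159 L12485 L12489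
theorem L20162 : sm ge N3752 = N2377 := flp_e L20161
theorem L20163 : sm gc N1969 = N3753 := rfl
theorem L20165 : sm ga N3753 = N1970 := ded_8_1 L10230 L10224 L20163
theorem L20166 : sm ga N1970 = N3753 := flp_a L20165
theorem L20167 : sm gf N3753 = N1970 := ded_20_2 L10230 L10228 L20163
theorem L20168 : sm gf N1970 = N3753 := flp_f L20167
theorem L20169 : sm ge N1969 = N3754 := rfl
theorem L20170 : sm ge N3754 = N1969 := flp_e L20169
theorem L20171 : sm ga N3754 = N1971 := ded_10_1 L10232 L10224 L20169
theorem L20187 : sm gb N1970 = N3756 := rfl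
theorem L20188 : sm gb N3756 = N1970 := flp_b L20187
theorem L20189 : sm gc N3756 = N1973 := ded_13_2 L10240 L5033 L5031 L10229 L20187
theorem L20190 : sm gc N1973 = N3756 := flp_c L20189
theorem L20191 : sm gd N1970 = N3757 := rfl
theorem L20192 : sm gd N3757 = N1970 := flp_d L20191
theorem L20193 : sm ge N1970 = N3758 := rfl
theorem L20194 : sm ge N3758 = N1970 := flp_e L20193
theorem L20197 : sm gg N1970 = N3759 := rfl
theorem L20198 : sm gg N3759 = N1970 := flp_g L20197
theorem L20229 : sm gf N1973 = N3764 := rfl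
theorem L20231 : sm gb N3764 = N1975 := ded_16_1 L10249 L10239 L20229
theorem L20232 : sm gb N1975 = N3764 := flp_b L20231
theorem L20239 : sm gd N1974 = N3765 := rfl
theorem L20240 : sm gd N3765 = N1974 := flp_d L20239
theorem L20242 : sm ge N3765 = N2154 := ded_22_2 L11245 L5481 L5035 L10243 L20239
theorem L20243 : sm ge N2154 = N3765 := flp_e L20242
theorem L20244 : sm gf N1974 = N3766 := rfl
theorem L20245 : sm gf N3766 = N1974 := flp_f L20244
theorem L20249 : sm gc N3766 = N1976 := ded_20_1 L10254 L10247 L20244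
theorem L20251 : sm ge N3766 = N1975 := ded_25_1 L10249 L10243 L20244
theorem L20253 : sm gg N3495 = N3766 := ded_28_1 L20245 L18535 L18530 L18538
theorem L20255 : sm gd N3766 = N2158 := ded_31_2 L11269 L11280 L11321 L11323 L18942 L18939 L19004 L7268 L3637 L3646 L7286 L10266 L18533 L18534 L20244
theorem L20256 : sm gd N2158 = N3766 := flp_d L20255
theorem L20257 : sm gd N1975 = N3767 := rfl
theorem L20258 : sm gd N3767 = N1975 := flp_d L20257
theorem L20259 : sm ga N3767 = N3767 := ded_9_1 L20258 L10250 L20257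
theorem L20260 : sm ge N3767 = N2166 := ded_22_2 L11306 L11272 L20256 L20251 L20257
theorem L20262 : sm gf N3767 = N2156 := ded_23_2 L11257 L5486 L5035 L10248 L20257
theorem L20264 : sm gc N3767 = N2729 := ded_30_0 L14413 L7220 L3621 L1828 L1333 L2670 L5044 L10252 L20257 L20259
theorem L20265 : sm gc N2729 = N3767 := flp_c L20264
theorem L20266 : sm ge N2263 = N2729 := ded_19_2 L20265 L20260 L11849
theorem L20268 : sm gd N2730 = N2252 := ded_22_3 L11800 L11845 L20266 L14413 L14415
theorem L20270 : sm gc N2246 = N3765 := ded_30_4 L20240 L10246 L7230 L14419 L20268 L11799 L11798 L5802 L5790 L11761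
theorem L20271 : sm gc N3765 = N2246 := flp_c L20270
theorem L20272 : sm gd N2266 = N2121 := ded_31_6 L11073 L11085 L11089 L11022 L7147 L3586 L3603 L3635 L7248 L12639 L14421 L20268 L11798 L11809 L11863
theorem L20273 : sm gd N2121 = N2266 := flp_d L20272
theorem L20274 : sm gg N1975 = N3768 := rfl
theorem L20275 : sm gg N3768 = N1975 := flp_g L20274
theorem L20277 : sm gc N3768 = N1978 := ded_21_1 L10268 L10252 L20274
theorem L20278 : sm gc N1978 = N3768 := flp_c L20277
theorem L20283 : sm gc N2164 = N2118 := ded_31_7 L18803 L14373 L7161 L3589 L3596 L7182 L10273 L20278 L20275 L10249 L5036 L2773 L2781 L5520 L11295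
theorem L20284 : sm gc N2118 = N2164 := flp_c L20283
theorem L20291 : sm gd N1980 = N3770 := rfl
theorem L20292 : sm gd N3770 = N1980 := flp_d L20291
theorem L20293 : sm ga N3770 = N3770 := ded_9_1 L20292 L10283 L20291
theorem L20303 : sm gb N1982 = N3772 := rfl
theorem L20305 : sm gc N3772 = N3658 := ded_13_2 L19598 L9876 L5058 L10295 L20303
theorem L20306 : sm gc N3658 = N3772 := flp_c L20305
theorem L20307 : sm gd N1982 = N3773 := rfl
theorem L20308 : sm gd N3773 = N1982 := flp_d L20307
theorem L20309 : sm ga N3773 = N1988 := ded_9_1 L10332 L10298 L20307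
theorem L20310 : sm ga N1988 = N3773 := flp_a L20309
theorem L20311 : sm ge N1982 = N3774 := rfl
theorem L20313 : sm ga N3774 = N1989 := ded_10_1 L10334 L10298 L20311
theorem L20314 : sm ga N1989 = N3774 := flp_a L20313
theorem L20315 : sm gc N3774 = N1983 := ded_19_1 L10300 L10295 L20311
theorem L20316 : sm gc N1983 = N3774 := flp_c L20315
theorem L20329 : sm gf N1983 = N3777 := rfl
theorem L20330 : sm gf N3777 = N1983 := flp_f L20329
theorem L20335 : sm ge N3777 = N1984 := ded_25_1 L10308 L10299 L20329
theorem L20337 : sm gg N1983 = N3778 := rfl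
theorem L20338 : sm gg N3778 = N1983 := flp_g L20337
theorem L20341 : sm gb N3778 = N3653 := ded_17_1 L19578 L10304 L20337
theorem L20342 : sm gb N3653 = N3778 := flp_b L20341
theorem L20345 : sm gd N1984 = N3779 := rfl
theorem L20351 : sm gf N3779 = N1986 := ded_23_2 L10320 L5060 L5053 L10307 L20345
theorem L20352 : sm gf N1986 = N3779 := flp_f L20351
theorem L20361 : sm gf N1985 = N3781 := rfl
theorem L20363 : sm ga N3781 = N1997 := ded_11_1 L10378 L10316 L20361
theorem L20365 : sm gb N3781 = N3662 := ded_16_1 L19625 L10318 L20361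
theorem L20371 : sm gd N2679 = N3781 := ded_9_0 L20363 L10386 L14081
theorem L20373 : sm gd N3662 = N2683 := ded_14_2 L14105 L20371 L20365
theorem L20375 : sm gc N1986 = N3782 := rfl
theorem L20379 : sm gg N3782 = N2002 := ded_21_2 L10410 L10326 L20375
theorem L20380 : sm gg N2002 = N3782 := flp_g L20379
theorem L20381 : sm ge N1986 = N3783 := rfl
theorem L20382 : sm ge N3783 = N1986 := flp_e L20381
theorem L20383 : sm ga N3783 = N2003 := ded_10_1 L10412 L10322 L20381
theorem L20391 : sm ga N1987 = N3784 := rfl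
theorem L20392 : sm ga N3784 = N1987 := flp_a L20391
theorem L20395 : sm gb N3784 = N3774 := ded_29_4 L20315 L10301 L5071 L5117 L5114 L2590 L5109 L10330 L20391
theorem L20396 : sm gb N3774 = N3784 := flp_b L20395
theorem L20397 : sm ge N3772 = N3784 := ded_29_9 L20392 L10328 L5068 L5056 L5057 L9875 L9877 L19597 L20306
theorem L20398 : sm ge N3784 = N3772 := flp_e L20397
theorem L20399 : sm gd N1987 = N3785 := rfl
theorem L20400 : sm gd N3785 = N1987 := flp_d L20399
theorem L20401 : sm gb N3785 = N1988 := ded_14_1 L10332 L10327 L20399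
theorem L20402 : sm gb N1988 = N3785 := flp_b L20401
theorem L20403 : sm ge N1987 = N3786 := rfl
theorem L20405 : sm ga N3786 = N3772 := ded_10_1 L20397 L20392 L20403
theorem L20406 : sm ga N3772 = N3786 := flp_a L20405
theorem L20407 : sm gb N3786 = N1989 := ded_15_1 L10334 L10327 L20403
theorem L20408 : sm gb N1989 = N3786 := flp_b L20407
theorem L20409 : sm gc N3786 = N2005 := ded_19_1 L10420 L10330 L20403
theorem L20410 : sm gc N2005 = N3786 := flp_c L20409
theorem L20411 : sm gf N1987 = N3787 := rfl
theorem L20412 : sm gf N3787 = N1987 := flp_f L20411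
theorem L20413 : sm gb N3787 = N1990 := ded_16_1 L10338 L10327 L20411
theorem L20414 : sm gb N1990 = N3787 := flp_b L20413
theorem L20417 : sm gg N1987 = N3788 := rfl
theorem L20418 : sm gg N3788 = N1987 := flp_g L20417
theorem L20423 : sm gc N1988 = N3789 := rfl
theorem L20424 : sm gc N3789 = N1988 := flp_c L20423
theorem L20425 : sm ge N1988 = N3790 := rfl
theorem L20426 : sm ge N3790 = N1988 := flp_e L20425
theorem L20427 : sm gf N1988 = N3791 := rfl
theorem L20428 : sm gf N3791 = N1988 := flp_f L20427
theorem L20429 : sm gg N1988 = N3792 := rfl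
theorem L20430 : sm gg N3792 = N1988 := flp_g L20429
theorem L20431 : sm gd N1989 = N3793 := rfl
theorem L20432 : sm gd N3793 = N1989 := flp_d L20431
theorem L20447 : sm gg N1990 = N3797 := rfl
theorem L20448 : sm gg N3797 = N1990 := flp_g L20447
theorem L20453 : sm gd N1991 = N3798 := rfl
theorem L20454 : sm gd N3798 = N1991 := flp_d L20453
theorem L20463 : sm gc N1992 = N3800 := rfl
theorem L20464 : sm gc N3800 = N1992 := flp_c L20463
theorem L20465 : sm ga N3800 = N3634 := ded_8_1 L19467 L10348 L20463
theorem L20466 : sm ga N3634 = N3800 := flp_a L20465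
theorem L20493 : sm gc N1995 = N3805 := rfl
theorem L20495 : sm gf N3805 = N2002 := ded_20_2 L10410 L10370 L20493
theorem L20496 : sm gf N2002 = N3805 := flp_f L20495
theorem L20497 : sm ge N1995 = N3806 := rfl
theorem L20498 : sm ge N3806 = N1995 := flp_e L20497
theorem L20501 : sm gf N3806 = N2003 := ded_25_2 L10412 L10370 L20497
theorem L20503 : sm gg N3779 = N3806 := ded_28_3 L20498 L10369 L10326 L20352
theorem L20505 : sm gg N1995 = N3807 := rfl
theorem L20511 : sm ge N3807 = N3779 := ded_26_1 L20503 L20498 L20505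
theorem L20512 : sm ge N3779 = N3807 := flp_e L20511
theorem L20515 : sm gd N1996 = N3808 := rfl
theorem L20516 : sm gd N3808 = N1996 := flp_d L20515
theorem L20517 : sm gb N3808 = N2023 := ded_14_1 L10513 L10374 L20515
theorem L20518 : sm gb N2023 = N3808 := flp_b L20517
theorem L20519 : sm gb N1998 = N3809 := rfl
theorem L20521 : sm gc N3809 = N2024 := ded_13_2 L10516 L5161 L5086 L10387 L20519
theorem L20522 : sm gc N2024 = N3809 := flp_c L20521
theorem L20523 : sm gd N1998 = N3810 := rfl
theorem L20524 : sm gd N3810 = N1998 := flp_d L20523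
theorem L20525 : sm ga N3810 = N3633 := ded_9_1 L19464 L10390 L20523
theorem L20526 : sm ga N3633 = N3810 := flp_a L20525
theorem L20527 : sm gf N1998 = N3811 := rfl
theorem L20529 : sm ga N3811 = N3635 := ded_11_1 L19470 L10390 L20527
theorem L20530 : sm ga N3635 = N3811 := flp_a L20529
theorem L20531 : sm gc N3811 = N1999 := ded_20_1 L10392 L10387 L20527
theorem L20539 : sm gd N1999 = N3813 := rfl
theorem L20543 : sm gb N3813 = N2028 := ded_14_1 L10531 L10396 L20539
theorem L20545 : sm gf N3813 = N2001 := ded_23_2 L10404 L5088 L5081 L10391 L20539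
theorem L20546 : sm gf N2001 = N3813 := flp_f L20545
theorem L20547 : sm gg N3720 = N3813 := ded_17_0 L20543 L10536 L19968
theorem L20548 : sm gg N3813 = N3720 := flp_g L20547
theorem L20579 : sm gg N2001 = N3818 := rfl
theorem L20580 : sm gg N3818 = N2001 := flp_g L20579
theorem L20581 : sm ga N3818 = N3644 := ded_12_1 L19516 L10406 L20579
theorem L20587 : sm gb N2002 = N3819 := rfl
theorem L20588 : sm gb N3819 = N2002 := flp_b L20587
theorem L20589 : sm gc N3819 = N2034 := ded_13_2 L10567 L5173 L5100 L10409 L20587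
theorem L20590 : sm gc N2034 = N3819 := flp_c L20589
theorem L20605 : sm gd N2005 = N3824 := rfl
theorem L20606 : sm gd N3824 = N2005 := flp_d L20605
theorem L20607 : sm gb N3824 = N2008 := ded_14_1 L10432 L10422 L20605
theorem L20611 : sm gf N2005 = N3825 := rfl
theorem L20612 : sm gf N3825 = N2005 := flp_f L20611
theorem L20615 : sm ge N3825 = N2006 := ded_25_1 L10424 L10419 L20611
theorem L20617 : sm gg N2005 = N3826 := rfl
theorem L20618 : sm gg N3826 = N2005 := flp_g L20617
theorem L20641 : sm gf N2007 = N3830 := rfl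
theorem L20643 : sm gb N3830 = N2014 := ded_16_1 L10468 L10430 L20641
theorem L20647 : sm gg N3830 = N3825 := ded_28_3 L20615 L10424 L10427 L20641
theorem L20649 : sm gd N2726 = N3830 := ded_14_0 L20643 L10477 L14397
theorem L20651 : sm gf N2008 = N3831 := rfl
theorem L20652 : sm gf N3831 = N2008 := flp_f L20651
theorem L20656 : sm ge N3831 = N2200 := ded_25_1 L11507 L10435 L20651
theorem L20658 : sm gg N2011 = N3831 := ded_28_1 L20652 L11534 L11529 L10454
theorem L20659 : sm gg N3831 = N2011 := flp_g L20658
theorem L20660 : sm gd N2009 = N3832 := rfl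
theorem L20661 : sm gd N3832 = N2009 := flp_d L20660
theorem L20663 : sm gg N3832 = N3741 := ded_24_2 L20095 L10725 L10476 L10474 L20660
theorem L20681 : sm gc N2013 = N3835 := rfl
theorem L20684 : sm gg N3835 = N2203 := ded_21_2 L11538 L10466 L20681
theorem L20685 : sm gg N2203 = N3835 := flp_g L20684
theorem L20688 : sm ge N3835 = N2457 := ded_28_4 L12954 L12932 L12948 L20685
theorem L20689 : sm ge N2457 = N3835 := flp_e L20688
theorem L20690 : sm ge N2013 = N3836 := rfl
theorem L20691 : sm ge N3836 = N2013 := flp_e L20690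
theorem L20695 : sm gg N3836 = N2204 := ded_26_2 L11541 L10466 L20690
theorem L20697 : sm gf N3836 = N2455 := ded_28_0 L12943 L11546 L10466 L20690
theorem L20698 : sm gf N2455 = N3836 := flp_f L20697
theorem L20699 : sm gf N2013 = N3837 := rfl
theorem L20704 : sm ge N3837 = N2455 := ded_25_1 L20698 L20691 L20699
theorem L20717 : sm gd N2016 = N3839 := rfl
theorem L20720 : sm gf N3839 = N2018 := ded_23_2 L10494 L5134 L5128 L10483 L20717
theorem L20721 : sm gf N2018 = N3839 := flp_f L20720
theorem L20722 : sm gd N2017 = N3840 := rfl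
theorem L20723 : sm gd N3840 = N2017 := flp_d L20722
theorem L20725 : sm gg N3840 = N2019 := ded_24_2 L10497 L5139 L5128 L10488 L20722
theorem L20726 : sm gg N2019 = N3840 := flp_g L20725
theorem L20727 : sm gc N2018 = N3841 := rfl
theorem L20728 : sm gc N3841 = N2018 := flp_c L20727
theorem L20741 : sm gb N2020 = N3845 := rfl
theorem L20743 : sm gf N3845 = N2034 := ded_16_2 L10567 L10503 L20741
theorem L20744 : sm gf N2034 = N3845 := flp_f L20743
theorem L20745 : sm gg N2020 = N3846 := rfl
theorem L20750 : sm ge N3846 = N3426 := ded_26_1 L18237 L18242 L20745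
theorem L20751 : sm ge N3426 = N3846 := flp_e L20750
theorem L20752 : sm gd N2022 = N3847 := rfl
theorem L20753 : sm gd N3847 = N2022 := flp_d L20752
theorem L20755 : sm gg N3847 = N2023 := ded_24_2 L10513 L5149 L5143 L10509 L20752
theorem L20756 : sm gg N2023 = N3847 := flp_g L20755
theorem L20757 : sm gc N2023 = N3848 := rfl
theorem L20758 : sm gc N3848 = N2023 := flp_c L20757
theorem L20764 : sm gf N2023 = N3849 := rfl
theorem L20765 : sm gf N3849 = N2023 := flp_f L20764
theorem L20769 : sm gd N2024 = N3850 := rfl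
theorem L20770 : sm gd N3850 = N2024 := flp_d L20769
theorem L20771 : sm gb N3850 = N2025 := ded_14_1 L10518 L10515 L20769
theorem L20772 : sm gb N2025 = N3850 := flp_b L20771
theorem L20773 : sm gf N2024 = N3851 := rfl
theorem L20774 : sm gf N3851 = N2024 := flp_f L20773
theorem L20775 : sm gb N3851 = N2026 := ded_16_1 L10521 L10515 L20773
theorem L20777 : sm gg N3574 = N3851 := ded_17_0 L20775 L11647 L19056
theorem L20778 : sm gg N3851 = N3574 := flp_g L20777
theorem L20779 : sm gg N2024 = N3852 := rfl
theorem L20780 : sm gg N3852 = N2024 := flp_g L20779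
theorem L20790 : sm gd N2026 = N3854 := rfl
theorem L20791 : sm gd N3854 = N2026 := flp_d L20790
theorem L20792 : sm ga N3854 = N3854 := ded_9_1 L20791 L10522 L20790
theorem L20793 : sm gg N3854 = N2271 := ded_24_2 L11888 L9511 L9531 L11648 L20790
theorem L20794 : sm gg N2271 = N3854 := flp_g L20793
theorem L20795 : sm gc N3854 = N2383 := ded_30_0 L12573 L19957 L19953 L10129 L10131 L10538 L10531 L10524 L20790 L20792
theorem L20797 : sm ge N3854 = N2382 := ded_28_4 L12533 L11868 L11885 L20794
theorem L20814 : sm gb N2031 = N3857 := rfl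
theorem L20816 : sm gf N3857 = N3698 := ded_16_2 L19839 L10555 L20814
theorem L20817 : sm gf N3698 = N3857 := flp_f L20816
theorem L20818 : sm gd N2031 = N3858 := rfl
theorem L20819 : sm gd N3858 = N2031 := flp_d L20818
theorem L20821 : sm ge N3858 = N3770 := ded_22_2 L20292 L10284 L19648 L19655 L20818
theorem L20823 : sm gf N3858 = N3612 := ded_23_2 L19339 L9734 L10131 L10555 L20818
theorem L20827 : sm gd N2034 = N3860 := rfl
theorem L20829 : sm gb N3860 = N2035 := ded_14_1 L10569 L10566 L20827
theorem L20830 : sm gb N2035 = N3860 := flp_b L20829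
theorem L20831 : sm ge N2034 = N3861 := rfl
theorem L20832 : sm ge N3861 = N2034 := flp_e L20831
theorem L20835 : sm gg N2034 = N3862 := rfl
theorem L20837 : sm gb N3862 = N2037 := ded_17_1 L10577 L10566 L20835
theorem L20838 : sm gb N2037 = N3862 := flp_b L20837
theorem L20847 : sm gc N2035 = N3863 := rfl
theorem L20848 : sm gc N3863 = N2035 := flp_c L20847
theorem L20849 : sm ga N3863 = N3863 := ded_8_1 L20848 L10570 L20847
theorem L20850 : sm gd N2046 = N3863 := ded_30_9 L20849 L20848 L10569 L5173 L2615 L1305 L1314 L2629 L5208 L10637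
theorem L20851 : sm gd N3863 = N2046 := flp_d L20850
theorem L20852 : sm ge N2035 = N3864 := rfl
theorem L20853 : sm ge N3864 = N2035 := flp_e L20852
theorem L20855 : sm gf N2035 = N3865 := rfl
theorem L20856 : sm gf N3865 = N2035 := flp_f L20855
theorem L20882 : sm gd N2040 = N3868 := rfl
theorem L20884 : sm gb N3868 = N2041 := ded_14_1 L10602 L10599 L20882
theorem L20885 : sm gb N2041 = N3868 := flp_b L20884
theorem L20900 : sm gc N2041 = N3871 := rfl
theorem L20901 : sm gc N3871 = N2041 := flp_c L20900
theorem L20936 : sm gf N2045 = N3876 := rfl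
theorem L20945 : sm gd N3876 = N2053 := ded_23_1 L10686 L5234 L5203 L10627 L20936
theorem L20953 : sm gf N2046 = N3878 := rfl
theorem L20958 : sm ge N3878 = N2809 := ded_25_1 L14872 L10641 L20953
theorem L20961 : sm gb N2051 = N3879 := rfl
theorem L20962 : sm gb N3879 = N2051 := flp_b L20961
theorem L20963 : sm gc N3879 = N2054 := ded_13_2 L10690 L5238 L5236 L10679 L20961
theorem L20964 : sm gc N2054 = N3879 := flp_c L20963
theorem L20965 : sm gd N2051 = N3880 := rfl
theorem L20966 : sm gd N3880 = N2051 := flp_d L20965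
theorem L20967 : sm ge N2051 = N3881 := rfl
theorem L20968 : sm ge N3881 = N2051 := flp_e L20967
theorem L20971 : sm gf N2051 = N3882 := rfl
theorem L20972 : sm gf N3882 = N2051 := flp_f L20971
theorem L20973 : sm gc N3882 = N2053 := ded_20_1 L10686 L10679 L20971
theorem L20974 : sm gc N2053 = N3882 := flp_c L20973
theorem L20987 : sm gg N2053 = N3884 := rfl
theorem L20988 : sm gg N3884 = N2053 := flp_g L20987
theorem L21008 : sm ge N2054 = N3886 := rfl
theorem L21009 : sm ge N3886 = N2054 := flp_e L21008
theorem L21014 : sm gg N3886 = N2731 := ded_26_2 L14652 L14647 L21008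
theorem L21020 : sm gd N2055 = N3888 := rfl
theorem L21021 : sm gd N3888 = N2055 := flp_d L21020
theorem L21022 : sm ga N3888 = N3888 := ded_9_1 L21021 L10695 L21020
theorem L21025 : sm gc N3888 = N2154 := ded_30_0 L11245 L5483 L5495 L11268 L20256 L20249 L10259 L10697 L21020 L21022
theorem L21049 : sm ga N2060 = N3891 := rfl
theorem L21050 : sm ga N3891 = N2060 := flp_a L21049
theorem L21051 : sm gc N3891 = N2069 := ded_8_2 L10778 L10730 L21049
theorem L21052 : sm gc N2069 = N3891 := flp_c L21051
theorem L21055 : sm ge N2060 = N3891 := ded_29_9 L21050 L10728 L5256 L2682 L2683 L2693 L2695 L5280 L10730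
theorem L21056 : sm ge N3891 = N2060 := flp_e L21055
theorem L21059 : sm gd N2060 = N3892 := rfl
theorem L21060 : sm gd N3892 = N2060 := flp_d L21059
theorem L21061 : sm gb N3892 = N2061 := ded_14_1 L10732 L10727 L21059
theorem L21062 : sm gb N2061 = N3892 := flp_b L21061
theorem L21063 : sm gg N2060 = N3893 := rfl
theorem L21064 : sm gg N3893 = N2060 := flp_g L21063
theorem L21065 : sm gb N3893 = N2063 := ded_17_1 L10742 L10727 L21063
theorem L21070 : sm gc N2061 = N3894 := rfl
theorem L21074 : sm ge N2061 = N3895 := rfl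
theorem L21075 : sm ge N3895 = N2061 := flp_e L21074
theorem L21077 : sm gf N2061 = N3896 := rfl
theorem L21078 : sm gf N3896 = N2061 := flp_f L21077
theorem L21080 : sm gg N2061 = N3897 := rfl
theorem L21081 : sm gg N3897 = N2061 := flp_g L21080
theorem L21083 : sm gd N2062 = N3898 := rfl
theorem L21084 : sm gd N3898 = N2062 := flp_d L21083
theorem L21094 : sm gd N2063 = N3900 := rfl
theorem L21095 : sm gd N3900 = N2063 := flp_d L21094
theorem L21096 : sm ga N3900 = N3900 := ded_9_1 L21095 L10743 L21094
theorem L21097 : sm gd N2064 = N3901 := rfl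
theorem L21098 : sm gd N3901 = N2064 := flp_d L21097
theorem L21099 : sm ga N3901 = N3901 := ded_9_1 L21098 L10749 L21097
theorem L21100 : sm gb N3901 = N2073 := ded_14_1 L10802 L10751 L21097
theorem L21101 : sm gb N2073 = N3901 := flp_b L21100
theorem L21102 : sm gg N3901 = N3901 := ded_24_2 L21098 L10748 L5263 L10747 L21097
theorem L21151 : sm gg N2069 = N3910 := rfl
theorem L21152 : sm gg N3910 = N2069 := flp_g L21151
theorem L21153 : sm ga N3910 = N2070 := ded_12_1 L10786 L10777 L21151
theorem L21154 : sm ga N2070 = N3910 := flp_a L21153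
theorem L21155 : sm gb N3910 = N2071 := ded_17_1 L10791 L10780 L21151
theorem L21160 : sm gd N2070 = N3911 := rfl
theorem L21161 : sm gd N3911 = N2070 := flp_d L21160
theorem L21162 : sm gb N3911 = N2072 := ded_14_1 L10799 L10788 L21160
theorem L21163 : sm gb N2072 = N3911 := flp_b L21162
theorem L21164 : sm gc N2072 = N3912 := rfl
theorem L21167 : sm gf N3912 = N3509 := ded_20_2 L19330 L19328 L21164
theorem L21168 : sm gf N3509 = N3912 := flp_f L21167
theorem L21169 : sm gg N3912 = N2221 := ded_21_2 L19299 L19294 L21164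
theorem L21184 : sm gc N2073 = N3914 := rfl
theorem L21185 : sm gc N3914 = N2073 := flp_c L21184
theorem L21187 : sm gg N3914 = N3914 := ded_21_2 L21185 L10804 L21184
theorem L21188 : sm ge N2073 = N3915 := rfl
theorem L21189 : sm ge N3915 = N2073 := flp_e L21188
theorem L21194 : sm gf N2073 = N3916 := rfl
theorem L21195 : sm gf N3916 = N2073 := flp_f L21194
theorem L21198 : sm gb N2074 = N3917 := rfl
theorem L21199 : sm gb N3917 = N2074 := flp_b L21198
theorem L21200 : sm gd N3917 = N3512 := ded_14_2 L19153 L19156 L21198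
theorem L21206 : sm gg N3917 = N2077 := ded_17_2 L10832 L10809 L21198
theorem L21207 : sm gg N2077 = N3917 := flp_g L21206
theorem L21261 : sm gf N2082 = N3927 := rfl
theorem L21267 : sm ge N3927 = N2083 := ded_25_1 L10863 L10854 L21261
theorem L21269 : sm gg N2082 = N3928 := rfl
theorem L21270 : sm gg N3928 = N2082 := flp_g L21269
theorem L21277 : sm gd N3928 = N2708 := ded_24_1 L14289 L10991 L10906 L10861 L21269
theorem L21278 : sm gd N2708 = N3928 := flp_d L21277
theorem L21295 : sm gf N2084 = N3931 := rfl
theorem L21297 : sm ga N3931 = N2095 := ded_11_1 L10924 L10871 L21295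
theorem L21298 : sm ga N2095 = N3931 := flp_a L21297
theorem L21303 : sm gg N3931 = N3927 := ded_28_3 L21267 L10863 L10868 L21295
theorem L21304 : sm gg N3927 = N3931 := flp_g L21303
theorem L21305 : sm gc N2085 = N3932 := rfl
theorem L21307 : sm ga N3932 = N2096 := ded_8_1 L10932 L10878 L21305
theorem L21401 : sm gc N2093 = N3952 := rfl
theorem L21403 : sm gf N3952 = N2096 := ded_20_2 L10932 L10916 L21401
theorem L21404 : sm gf N2096 = N3952 := flp_f L21403
theorem L21405 : sm ge N2093 = N3953 := rfl
theorem L21406 : sm ge N3953 = N2093 := flp_e L21405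
theorem L21409 : sm gf N3953 = N2097 := ded_25_2 L10934 L10916 L21405
theorem L21411 : sm gg N3489 = N3953 := ded_28_3 L21406 L10915 L10937 L18502
theorem L21427 : sm gd N2095 = N3956 := rfl
theorem L21428 : sm gd N3956 = N2095 := flp_d L21427
theorem L21429 : sm gb N3956 = N2118 := ded_14_1 L11056 L10926 L21427
theorem L21432 : sm gb N2096 = N3957 := rfl
theorem L21434 : sm gc N3957 = N2129 := ded_13_2 L11111 L5434 L5370 L10931 L21432
theorem L21438 : sm ge N2096 = N3959 := rfl
theorem L21439 : sm ge N3959 = N2096 := flp_e L21438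
theorem L21440 : sm gc N3959 = N2097 := ded_19_1 L10934 L10931 L21438
theorem L21441 : sm gc N2097 = N3959 := flp_c L21440
theorem L21442 : sm gg N2096 = N3960 := rfl
theorem L21443 : sm gg N3960 = N2096 := flp_g L21442
theorem L21444 : sm gc N3960 = N2098 := ded_21_1 L10938 L10931 L21442
theorem L21445 : sm gc N2098 = N3960 := flp_c L21444
theorem L21446 : sm gg N2097 = N3961 := rfl
theorem L21447 : sm gg N3961 = N2097 := flp_g L21446
theorem L21462 : sm gd N2100 = N3964 := rfl
theorem L21463 : sm gd N3964 = N2100 := flp_d L21462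
theorem L21464 : sm gb N3964 = N2103 := ded_14_1 L10956 L10946 L21462
theorem L21465 : sm gb N2103 = N3964 := flp_b L21464
theorem L21466 : sm gg N3850 = N3964 := ded_17_0 L21464 L10985 L20772
theorem L21467 : sm gg N3964 = N3850 := flp_g L21466
theorem L21468 : sm gf N2100 = N3965 := rfl
theorem L21470 : sm gb N3965 = N2104 := ded_16_1 L10959 L10946 L21468
theorem L21472 : sm ge N3965 = N2101 := ded_25_1 L10948 L10943 L21468
theorem L21474 : sm gd N2235 = N3965 := ded_14_0 L21470 L13015 L11712
theorem L21475 : sm gd N3965 = N2235 := flp_d L21474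
theorem L21476 : sm gg N2100 = N3966 := rfl
theorem L21477 : sm gg N3966 = N2100 := flp_g L21476
theorem L21480 : sm ge N3966 = N2102 := ded_26_1 L10952 L10943 L21476
theorem L21481 : sm ge N2102 = N3966 := flp_e L21480
theorem L21484 : sm gd N2101 = N3967 := rfl
theorem L21485 : sm gd N3967 = N2101 := flp_d L21484
theorem L21488 : sm gg N2101 = N3968 := rfl
theorem L21489 : sm gg N3968 = N2101 := flp_g L21488
theorem L21492 : sm gf N3966 = N3968 := ded_28_0 L21489 L10948 L10951 L21481
theorem L21493 : sm gf N3968 = N3966 := flp_f L21492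
theorem L21498 : sm gf N2102 = N3970 := rfl
theorem L21504 : sm gg N3970 = N3965 := ded_28_3 L21472 L10948 L10951 L21498
theorem L21505 : sm gg N3965 = N3970 := flp_g L21504
theorem L21506 : sm gc N2106 = N3971 := rfl
theorem L21507 : sm gc N3971 = N2106 := flp_c L21506
theorem L21509 : sm gg N2106 = N3972 := rfl
theorem L21510 : sm gg N3972 = N2106 := flp_g L21509
theorem L21512 : sm gf N3765 = N3972 := ded_28_0 L21510 L19560 L19561 L20243
theorem L21513 : sm gf N3972 = N3765 := flp_f L21512
theorem L21521 : sm ge N2108 = N3974 := rfl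
theorem L21522 : sm ge N3974 = N2108 := flp_e L21521
theorem L21526 : sm gf N3974 = N3579 := ded_28_0 L19097 L19567 L19568 L21521
theorem L21530 : sm gf N2108 = N3975 := rfl
theorem L21537 : sm gd N3975 = N2216 := ded_23_1 L11608 L13011 L10997 L10993 L21530
theorem L21539 : sm gf N2110 = N3976 := rfl
theorem L21540 : sm gf N3976 = N2110 := flp_f L21539
theorem L21546 : sm ge N3976 = N2121 := ded_25_1 L11071 L11009 L21539
theorem L21548 : sm gg N2110 = N3977 := rfl
theorem L21553 : sm gc N3977 = N2112 := ded_21_1 L11018 L11005 L21548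
theorem L21555 : sm ge N3977 = N2122 := ded_26_1 L11076 L11009 L21548
theorem L21557 : sm gd N2111 = N3978 := rfl
theorem L21560 : sm gf N3978 = N2113 := ded_23_2 L11025 L5394 L5388 L11012 L21557
theorem L21561 : sm gf N2113 = N3978 := flp_f L21560
theorem L21562 : sm gc N2113 = N3979 := rfl
theorem L21563 : sm gc N3979 = N2113 := flp_c L21562
theorem L21565 : sm ge N2113 = N3980 := rfl
theorem L21566 : sm ge N3980 = N2113 := flp_e L21565
theorem L21568 : sm gd N3980 = N2115 := ded_22_1 L11037 L5404 L5397 L11024 L21565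
theorem L21570 : sm gg N2718 = N3980 := ded_24_0 L21568 L11044 L14349 L14341 L14335
theorem L21572 : sm gc N3980 = N3731 := ded_21_1 L20031 L14339 L21570
theorem L21574 : sm ge N3731 = N3979 := ded_19_2 L21563 L21565 L21572
theorem L21575 : sm ge N3979 = N3731 := flp_e L21574
theorem L21576 : sm gg N3979 = N3729 := ded_26_2 L20025 L20030 L21574
theorem L21577 : sm gg N3729 = N3979 := flp_g L21576
theorem L21578 : sm gg N2113 = N3981 := rfl
theorem L21579 : sm gg N3981 = N2113 := flp_g L21578
theorem L21581 : sm gc N3981 = N3729 := ded_21_1 L21577 L21563 L21578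
theorem L21582 : sm gc N3729 = N3981 := flp_c L21581
theorem L21583 : sm ge N3981 = N2718 := ded_26_1 L21570 L21566 L21578
theorem L21584 : sm ge N2718 = N3981 := flp_e L21583
theorem L21585 : sm gd N3981 = N2715 := ded_24_1 L18804 L11056 L5418 L11024 L21578
theorem L21587 : sm gf N2705 = N3981 := ded_23_0 L21585 L14373 L7161 L7135 L14271
theorem L21588 : sm gf N3981 = N2705 := flp_f L21587
theorem L21589 : sm gb N2114 = N3982 := rfl
theorem L21593 : sm gf N3982 = N2129 := ded_16_2 L11111 L11031 L21589
theorem L21594 : sm gf N2129 = N3982 := flp_f L21593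
theorem L21595 : sm gg N3982 = N2404 := ded_17_2 L12651 L11033 L21589
theorem L21597 : sm gd N2114 = N3983 := rfl
theorem L21598 : sm gd N3983 = N2114 := flp_d L21597
theorem L21602 : sm gg N3983 = N2406 := ded_24_2 L12667 L6234 L6228 L11033 L21597
theorem L21603 : sm gg N2406 = N3983 := flp_g L21602
theorem L21604 : sm gd N2119 = N3984 := rfl
theorem L21606 : sm ga N3984 = N3964 := ded_9_1 L21463 L11063 L21604
theorem L21607 : sm ga N3964 = N3984 := flp_a L21606
theorem L21608 : sm gb N3984 = N2120 := ded_14_1 L11066 L11059 L21604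
theorem L21610 : sm ge N3984 = N3850 := ded_22_2 L20770 L19527 L19523 L11062 L21604
theorem L21611 : sm ge N3850 = N3984 := flp_e L21610
theorem L21637 : sm gf N2122 = N3988 := rfl
theorem L21644 : sm gg N3988 = N3976 := ded_28_3 L21546 L11071 L11075 L21637
theorem L21645 : sm gg N3976 = N3988 := flp_g L21644
theorem L21646 : sm gd N3988 = N2157 := ded_23_1 L11267 L18595 L19552 L19554 L21637
theorem L21647 : sm gd N2157 = N3988 := flp_d L21646
theorem L21648 : sm ge N2123 = N3989 := rfl
theorem L21649 : sm ge N3989 = N2123 := flp_e L21648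
theorem L21653 : sm gf N3989 = N2127 := ded_25_2 L11101 L11084 L21648
theorem L21654 : sm gf N2127 = N3989 := flp_f L21653
theorem L21666 : sm gb N2126 = N3992 := rfl
theorem L21668 : sm ge N2126 = N3993 := rfl
theorem L21669 : sm ge N3993 = N2126 := flp_e L21668
theorem L21671 : sm gc N3993 = N2127 := ded_19_1 L11101 L11097 L21668
theorem L21675 : sm gg N3625 = N3993 := ded_28_3 L21669 L18491 L18492 L19424
theorem L21679 : sm gg N2126 = N3994 := rfl
theorem L21680 : sm gg N3994 = N2126 := flp_g L21679
theorem L21682 : sm gc N3994 = N2128 := ded_21_1 L11106 L11097 L21679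
theorem L21684 : sm ge N3994 = N3625 := ded_26_1 L21675 L21669 L21679
theorem L21686 : sm gf N2406 = N3994 := ded_28_0 L21680 L18491 L18492 L12670
theorem L21687 : sm gf N3994 = N2406 := flp_f L21686
theorem L21688 : sm gg N2127 = N3995 := rfl
theorem L21689 : sm gg N3995 = N2127 := flp_g L21688
theorem L21693 : sm ge N3995 = N2128 := ded_26_1 L11106 L11100 L21688
theorem L21694 : sm ge N2128 = N3995 := flp_e L21693
theorem L21697 : sm gf N2128 = N3996 := rfl
theorem L21700 : sm gc N3996 = N2406 := ded_20_1 L21686 L21682 L21697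
theorem L21704 : sm gg N3996 = N3989 := ded_28_3 L21649 L11083 L11105 L21697
theorem L21705 : sm gg N3989 = N3996 := flp_g L21704
theorem L21708 : sm ga N2129 = N3997 := rfl
theorem L21709 : sm ga N3997 = N2129 := flp_a L21708
theorem L21710 : sm gb N3997 = N3993 := ded_29_7 L21671 L11101 L5432 L10880 L21305 L21307 L21432 L21434 L21708
theorem L21712 : sm ge N3992 = N3997 := ded_15_0 L21710 L21669 L21666
theorem L21713 : sm ge N3997 = N3992 := flp_e L21712
theorem L21720 : sm ge N2129 = N3999 := rfl
theorem L21721 : sm ge N3999 = N2129 := flp_e L21720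
theorem L21722 : sm ga N3999 = N3992 := ded_10_1 L21712 L21709 L21720
theorem L21733 : sm gd N2132 = N4001 := rfl
theorem L21734 : sm gd N4001 = N2132 := flp_d L21733
theorem L21736 : sm gf N4001 = N3536 := ded_23_2 L18763 L18766 L18775 L11131 L21733
theorem L21737 : sm gf N3536 = N4001 := flp_f L21736
theorem L21738 : sm gb N2133 = N4002 := rfl
theorem L21740 : sm gc N4002 = N2165 := ded_13_2 L11300 L5528 L5447 L11133 L21738
theorem L21741 : sm gc N2165 = N4002 := flp_c L21740
theorem L21780 : sm gg N2135 = N4009 := rfl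
theorem L21782 : sm ga N4009 = N2146 := ded_12_1 L11209 L11148 L21780
theorem L21788 : sm gd N4009 = N3555 := ded_24_1 L18910 L9444 L9451 L11151 L21780
theorem L21789 : sm gd N3555 = N4009 := flp_d L21788
theorem L21800 : sm gc N2137 = N4011 := rfl
theorem L21804 : sm gf N4011 = N3221 := ded_20_2 L17048 L11167 L21800
theorem L21805 : sm gf N3221 = N4011 := flp_f L21804
theorem L21808 : sm ga N2138 = N4012 := rfl
theorem L21809 : sm ga N4012 = N2138 := flp_a L21808
theorem L21810 : sm gc N4012 = N2151 := ded_8_2 L11235 L11171 L21808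
theorem L21814 : sm ge N4002 = N4012 := ded_29_9 L21809 L11169 L5460 L5445 L5446 L5527 L5529 L11299 L21741
theorem L21820 : sm ge N2138 = N4014 := rfl
theorem L21822 : sm ga N4014 = N4002 := ded_10_1 L21814 L21809 L21820
theorem L21823 : sm ga N4002 = N4014 := flp_a L21822
theorem L21824 : sm gb N4014 = N2140 := ded_15_1 L11175 L11168 L21820
theorem L21825 : sm gb N2140 = N4014 := flp_b L21824
theorem L21826 : sm gc N4014 = N2152 := ded_19_1 L11237 L11171 L21820
theorem L21827 : sm gc N2152 = N4014 := flp_c L21826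
theorem L21828 : sm gf N2138 = N4015 := rfl
theorem L21829 : sm gf N4015 = N2138 := flp_f L21828
theorem L21830 : sm gb N4015 = N2141 := ded_16_1 L11179 L11168 L21828
theorem L21831 : sm gb N2141 = N4015 := flp_b L21830
theorem L21840 : sm gg N2139 = N4019 := rfl
theorem L21841 : sm gg N4019 = N2139 := flp_g L21840
theorem L21844 : sm gf N2140 = N4021 := rfl
theorem L21845 : sm gf N4021 = N2140 := flp_f L21844
theorem L21850 : sm gg N2140 = N4022 := rfl
theorem L21854 : sm ge N4022 = N2142 := ded_26_1 L11183 L11174 L21850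
theorem L21855 : sm ge N2142 = N4022 := flp_e L21854
theorem L21856 : sm gd N2141 = N4023 := rfl
theorem L21857 : sm gd N4023 = N2141 := flp_d L21856
theorem L21864 : sm gd N2142 = N4025 := rfl
theorem L21865 : sm gd N4025 = N2142 := flp_d L21864
theorem L21878 : sm gd N2144 = N4028 := rfl
theorem L21879 : sm gd N4028 = N2144 := flp_d L21878
theorem L21880 : sm gb N4028 = N2162 := ded_14_1 L11289 L11195 L21878
theorem L21881 : sm gb N2162 = N4028 := flp_b L21880
theorem L21882 : sm ge N4028 = N4028 := ded_22_2 L21879 L11196 L5473 L11197 L21878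
theorem L21883 : sm gc N2145 = N4029 := rfl
theorem L21887 : sm gf N4029 = N2148 := ded_20_2 L11223 L11205 L21883
theorem L21888 : sm gf N2148 = N4029 := flp_f L21887
theorem L21889 : sm gg N4029 = N3218 := ded_21_2 L17026 L11206 L21883
theorem L21891 : sm gd N2146 = N4030 := rfl
theorem L21893 : sm ga N4030 = N3555 := ded_9_1 L21789 L21782 L21891
theorem L21894 : sm ga N3555 = N4030 := flp_a L21893
theorem L21899 : sm gd N2147 = N4031 := rfl
theorem L21901 : sm gb N4031 = N2164 := ded_14_1 L11296 L11217 L21899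
theorem L21902 : sm gb N2164 = N4031 := flp_b L21901
theorem L21904 : sm gb N2148 = N4032 := rfl
theorem L21905 : sm gb N4032 = N2148 := flp_b L21904
theorem L21906 : sm gc N4032 = N2171 := ded_13_2 L11333 L5547 L5477 L11222 L21904
theorem L21907 : sm gc N2171 = N4032 := flp_c L21906
theorem L21908 : sm ga N3217 = N4032 := ded_29_6 L21905 L11223 L11224 L18872 L18873 L9435 L4648 L8507 L17023
theorem L21912 : sm gd N2148 = N4033 := rfl
theorem L21913 : sm gd N4033 = N2148 := flp_d L21912
theorem L21914 : sm ge N2148 = N4034 := rfl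
theorem L21915 : sm ge N4034 = N2148 := flp_e L21914
theorem L21916 : sm gc N4034 = N2149 := ded_19_1 L11225 L11222 L21914
theorem L21918 : sm gg N2148 = N4035 := rfl
theorem L21919 : sm gg N4035 = N2148 := flp_g L21918
theorem L21924 : sm gf N3013 = N4035 := ded_28_0 L21919 L21888 L21889 L17031
theorem L21926 : sm gf N2151 = N4036 := rfl
theorem L21927 : sm gf N4036 = N2151 := flp_f L21926
theorem L21934 : sm gf N2152 = N4038 := rfl
theorem L21935 : sm gf N4038 = N2152 := flp_f L21934
theorem L21940 : sm gg N3500 = N4038 := ded_28_1 L21935 L18570 L18566 L18571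
theorem L21941 : sm gg N4038 = N3500 := flp_g L21940
theorem L21954 : sm gf N2154 = N4041 := rfl
theorem L21955 : sm gf N4041 = N2154 := flp_f L21954
theorem L21959 : sm gg N4041 = N2261 := ded_28_3 L13017 L19560 L19561 L21954
theorem L21961 : sm gd N2155 = N4042 := rfl
theorem L21962 : sm gd N4042 = N2155 := flp_d L21961
theorem L21964 : sm gc N2156 = N4043 := rfl
theorem L21965 : sm gc N4043 = N2156 := flp_c L21964
theorem L21967 : sm gf N4043 = N2729 := ded_20_2 L20265 L20262 L21964
theorem L21969 : sm ge N2156 = N4044 := rfl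
theorem L21974 : sm gg N2156 = N4045 := rfl
theorem L21975 : sm gg N4045 = N2156 := flp_g L21974
theorem L21977 : sm gd N4045 = N3976 := ded_24_1 L21645 L21646 L11260 L11256 L21974
theorem L21979 : sm gf N2158 = N4046 := rfl
theorem L21984 : sm gc N4046 = N2159 := ded_20_1 L11276 L11268 L21979
theorem L21990 : sm gd N4046 = N3972 := ded_23_1 L21513 L20240 L20244 L20255 L21979
theorem L21991 : sm gd N3972 = N4046 := flp_d L21990
theorem L21992 : sm gd N2159 = N4047 := rfl
theorem L21993 : sm gd N4047 = N2159 := flp_d L21992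
theorem L21995 : sm ge N4047 = N3569 := ded_22_2 L18978 L9476 L5543 L11279 L21992
theorem L21997 : sm gf N4047 = N2161 := ded_23_2 L11286 L5501 L5495 L11275 L21992
theorem L21999 : sm gc N4047 = N3832 := ded_31_3 L20663 L20086 L10183 L5000 L4814 L9783 L9788 L9523 L11614 L11618 L19083 L19093 L11281 L11275 L21992
theorem L22000 : sm gc N3832 = N4047 := flp_c L21999
theorem L22001 : sm gd N2160 = N4048 := rfl
theorem L22002 : sm gd N4048 = N2160 := flp_d L22001
theorem L22003 : sm ga N4048 = N4048 := ded_9_1 L22002 L11282 L22001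
theorem L22005 : sm gg N4048 = N2162 := ded_24_2 L11289 L5506 L5495 L11280 L22001
theorem L22006 : sm gg N2162 = N4048 := flp_g L22005
theorem L22007 : sm gc N2161 = N4049 := rfl
theorem L22010 : sm ge N4049 = N3742 := ded_19_2 L20091 L19208 L22007
theorem L22011 : sm ge N3742 = N4049 := flp_e L22010
theorem L22012 : sm gf N4049 = N3832 := ded_20_2 L22000 L21997 L22007
theorem L22013 : sm gf N3832 = N4049 := flp_f L22012
theorem L22014 : sm gg N3740 = N4049 := ded_26_0 L22010 L20089 L20080
theorem L22015 : sm gg N4049 = N3740 := flp_g L22014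
theorem L22016 : sm gd N3831 = N4049 := ded_23_5 L22012 L20661 L10437 L10431 L20651
theorem L22017 : sm gd N4049 = N3831 := flp_d L22016
theorem L22025 : sm gc N2162 = N4051 := rfl
theorem L22026 : sm gc N4051 = N2162 := flp_c L22025
theorem L22029 : sm gf N2162 = N4052 := rfl
theorem L22030 : sm gf N4052 = N2162 := flp_f L22029
theorem L22033 : sm gc N2163 = N4053 := rfl
theorem L22034 : sm gc N4053 = N2163 := flp_c L22033
theorem L22036 : sm ge N2163 = N4054 := rfl
theorem L22037 : sm ge N4054 = N2163 := flp_e L22036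
theorem L22039 : sm gf N2163 = N4055 := rfl
theorem L22040 : sm gf N4055 = N2163 := flp_f L22039
theorem L22042 : sm gd N4055 = N4052 := ded_23_1 L22030 L11289 L5518 L11292 L22039
theorem L22044 : sm ge N2164 = N4056 := rfl
theorem L22045 : sm ge N4056 = N2164 := flp_e L22044
theorem L22047 : sm gc N4056 = N2717 := ded_19_1 L18799 L20284 L22044
theorem L22050 : sm gd N4056 = N4054 := ded_22_1 L22037 L11293 L5524 L11295 L22044
theorem L22051 : sm gd N4054 = N4056 := flp_d L22050
theorem L22052 : sm gg N2714 = N4056 := ded_21_0 L22047 L14333 L14323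
theorem L22053 : sm gg N4056 = N2714 := flp_g L22052
theorem L22054 : sm gg N2164 = N4057 := rfl
theorem L22055 : sm gg N4057 = N2164 := flp_g L22054
theorem L22059 : sm ge N4057 = N2714 := ded_26_1 L22052 L22045 L22054
theorem L22061 : sm gf N2714 = N4057 := ded_28_0 L22055 L11298 L22054 L22059
theorem L22062 : sm gf N4057 = N2714 := flp_f L22061
theorem L22071 : sm gf N2165 = N4059 := rfl
theorem L22072 : sm gf N4059 = N2165 := flp_f L22071
theorem L22077 : sm ge N4059 = N4036 := ded_25_1 L21927 L11302 L22071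
theorem L22094 : sm gd N2167 = N4062 := rfl
theorem L22095 : sm gd N4062 = N2167 := flp_d L22094
theorem L22097 : sm gg N2167 = N4063 := rfl
theorem L22098 : sm gg N4063 = N2167 := flp_g L22097
theorem L22099 : sm ga N4063 = N4063 := ded_12_1 L22098 L11310 L22097
theorem L22100 : sm gc N4063 = N2169 := ded_21_1 L11319 L11312 L22097
theorem L22104 : sm gf N3578 = N4063 := ded_28_0 L22098 L11309 L11313 L19089
theorem L22106 : sm gd N2219 = N4063 := ded_31_2 L22100 L11319 L5531 L2786 L1391 L718 L1399 L2800 L5561 L5568 L3240 L3228 L3231 L5729 L11621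
theorem L22107 : sm gd N4063 = N2219 := flp_d L22106
theorem L22108 : sm gd N3561 = N3914 := ded_30_3 L21185 L10802 L10794 L13031 L13024 L22106 L22099 L22100 L11323 L18942
theorem L22110 : sm gd N2170 = N4064 := rfl
theorem L22114 : sm gd N2173 = N4065 := rfl
theorem L22115 : sm gd N4065 = N2173 := flp_d L22114
theorem L22116 : sm ga N4065 = N2463 := ded_9_1 L12981 L11356 L22114
theorem L22117 : sm ga N2463 = N4065 := flp_a L22116
theorem L22118 : sm gb N4065 = N2174 := ded_14_1 L11359 L11347 L22114
theorem L22119 : sm gb N2174 = N4065 := flp_b L22118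
theorem L22120 : sm gc N2174 = N4066 := rfl
theorem L22121 : sm gc N4066 = N2174 := flp_c L22120
theorem L22122 : sm ga N4066 = N4066 := ded_8_1 L22121 L11360 L22120
theorem L22123 : sm gd N3571 = N4066 := ded_30_9 L22122 L22121 L11359 L5562 L2801 L2792 L5537 L5544 L9489 L19019
theorem L22125 : sm gg N2174 = N2472 := ded_31_4 L19959 L19953 L10129 L4974 L2649 L2435 L1219 L1226 L2454 L4815 L9790 L18264 L19025 L22123 L22121
theorem L22126 : sm gg N2472 = N2174 := flp_g L22125
theorem L22127 : sm gf N4066 = N2392 := ded_23_2 L12577 L12477 L18265 L19025 L22123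
theorem L22128 : sm gf N2392 = N4066 := flp_f L22127
theorem L22172 : sm gd N2177 = N4074 := rfl
theorem L22173 : sm gd N4074 = N2177 := flp_d L22172
theorem L22174 : sm ga N4074 = N2187 := ded_9_1 L11422 L11374 L22172
theorem L22175 : sm ga N2187 = N4074 := flp_a L22174
theorem L22198 : sm gc N2180 = N4078 := rfl
theorem L22200 : sm ge N2180 = N4079 := rfl
theorem L22201 : sm ge N4079 = N2180 := flp_e L22200
theorem L22212 : sm gd N2181 = N4082 := rfl
theorem L22213 : sm gd N4082 = N2181 := flp_d L22212
theorem L22216 : sm gb N4082 = N2187 := ded_14_1 L11422 L11402 L22212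
theorem L22217 : sm gb N2187 = N4082 := flp_b L22216
theorem L22234 : sm gb N2183 = N4085 := rfl
theorem L22235 : sm gb N4085 = N2183 := flp_b L22234
theorem L22236 : sm ge N2183 = N4086 := rfl
theorem L22237 : sm ge N4086 = N2183 := flp_e L22236
theorem L22240 : sm gf N2183 = N4087 := rfl
theorem L22241 : sm gf N4087 = N2183 := flp_f L22240
theorem L22242 : sm gc N4087 = N2185 := ded_20_1 L11418 L11413 L22240
theorem L22243 : sm gc N2185 = N4087 := flp_c L22242
theorem L22244 : sm gg N2183 = N4088 := rfl
theorem L22245 : sm gg N4088 = N2183 := flp_g L22244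
theorem L22248 : sm gd N2184 = N4089 := rfl
theorem L22250 : sm ge N4089 = N2187 := ded_22_2 L11422 L5601 L5598 L11415 L22248
theorem L22251 : sm ge N2187 = N4089 := flp_e L22250
theorem L22260 : sm gg N2185 = N4092 := rfl
theorem L22261 : sm gg N4092 = N2185 := flp_g L22260
theorem L22264 : sm gd N2186 = N4093 := rfl
theorem L22265 : sm gd N4093 = N2186 := flp_d L22264
theorem L22266 : sm gg N4093 = N2189 := ded_24_2 L11432 L5605 L5598 L11419 L22264
theorem L22267 : sm gg N2189 = N4093 := flp_g L22266
theorem L22274 : sm gc N2187 = N4095 := rfl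
theorem L22275 : sm gc N4095 = N2187 := flp_c L22274
theorem L22276 : sm gf N2187 = N4096 := rfl
theorem L22277 : sm gf N4096 = N2187 := flp_f L22276
theorem L22278 : sm gg N2187 = N4097 := rfl
theorem L22279 : sm gg N4097 = N2187 := flp_g L22278
theorem L22282 : sm gc N2189 = N4099 := rfl
theorem L22283 : sm gc N4099 = N2189 := flp_c L22282
theorem L22286 : sm gf N2189 = N4101 := rfl
theorem L22287 : sm gf N4101 = N2189 := flp_f L22286
theorem L22292 : sm gc N2191 = N4103 := rfl
theorem L22293 : sm gc N4103 = N2191 := flp_c L22292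
theorem L22294 : sm ge N4103 = N2337 := ded_19_2 L12258 L11448 L22292
theorem L22295 : sm ge N2337 = N4103 := flp_e L22294
theorem L22296 : sm gc N2192 = N4104 := rfl
theorem L22300 : sm gf N4104 = N2346 := ded_20_2 L12320 L11456 L22296
theorem L22301 : sm gf N2346 = N4104 := flp_f L22300
theorem L22302 : sm gg N4104 = N4103 := ded_21_2 L22293 L11458 L22296
theorem L22303 : sm gg N4103 = N4104 := flp_g L22302
theorem L22344 : sm gb N2199 = N4112 := rfl
theorem L22346 : sm gd N4112 = N3646 := ded_14_2 L19533 L11519 L22344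
theorem L22348 : sm ge N4112 = N3964 := ded_15_2 L21464 L11520 L22344
theorem L22349 : sm ge N3964 = N4112 := flp_e L22348
theorem L22350 : sm gg N4112 = N3984 := ded_17_2 L21608 L11505 L22344
theorem L22351 : sm gg N3984 = N4112 := flp_g L22350
theorem L22365 : sm gd N2200 = N4114 := rfl
theorem L22370 : sm ge N4114 = N3659 := ded_22_2 L20094 L22011 L22017 L20656 L22365
theorem L22371 : sm ge N3659 = N4114 := flp_e L22370
theorem L22372 : sm gf N4114 = N2201 := ded_23_2 L11510 L5650 L5646 L11506 L22365
theorem L22376 : sm gg N2201 = N4115 := rfl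
theorem L22383 : sm ge N4115 = N3660 := ded_26_1 L19609 L11516 L22376
theorem L22384 : sm ge N3660 = N4115 := flp_e L22383
theorem L22385 : sm gf N4115 = N3628 := ded_28_2 L19623 L22371 L22372 L22376
theorem L22391 : sm ge N2203 = N4117 := rfl
theorem L22396 : sm gg N4117 = N2457 := ded_26_2 L20689 L20684 L22391
theorem L22398 : sm gd N4117 = N3878 := ded_22_1 L20958 L18484 L18479 L18467 L22391
theorem L22399 : sm gd N3878 = N4117 := flp_d L22398
theorem L22400 : sm gf N2204 = N4118 := rfl
theorem L22403 : sm ge N4118 = N2205 := ded_25_1 L11546 L11540 L22400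
theorem L22405 : sm gg N4118 = N3837 := ded_28_3 L20704 L20698 L20695 L22400
theorem L22406 : sm gg N3837 = N4118 := flp_g L22405
theorem L22407 : sm gd N4118 = N2205 := ded_23_1 L11546 L5680 L5682 L11544 L22400
theorem L22413 : sm gb N2207 = N4120 := rfl
theorem L22414 : sm gb N4120 = N2207 := flp_b L22413
theorem L22417 : sm gf N4120 = N2411 := ded_16_2 L12693 L11557 L22413
theorem L22421 : sm gc N2208 = N4121 := rfl
theorem L22422 : sm gc N4121 = N2208 := flp_c L22421
theorem L22423 : sm ga N4121 = N2209 := ded_8_1 L11571 L11567 L22421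
theorem L22424 : sm ga N2209 = N4121 := flp_a L22423
theorem L22441 : sm gd N2209 = N4124 := rfl
theorem L22442 : sm gd N4124 = N2209 := flp_d L22441
theorem L22443 : sm ge N2209 = N4125 := rfl
theorem L22444 : sm ge N4125 = N2209 := flp_e L22443
theorem L22447 : sm gf N2209 = N4126 := rfl
theorem L22448 : sm gf N4126 = N2209 := flp_f L22447
theorem L22451 : sm gg N2209 = N4127 := rfl
theorem L22452 : sm gg N4127 = N2209 := flp_g L22451
theorem L22453 : sm gc N4127 = N2212 := ded_21_1 L11583 L11570 L22451
theorem L22454 : sm gc N2212 = N4127 := flp_c L22453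
theorem L22467 : sm gg N2211 = N4130 := rfl
theorem L22468 : sm gg N4130 = N2211 := flp_g L22467
theorem L22469 : sm gb N4130 = N2217 := ded_17_1 L11606 L11579 L22467
theorem L22473 : sm gd N4130 = N3970 := ded_24_1 L21504 L21475 L11710 L11581 L22467
theorem L22474 : sm gd N3970 = N4130 := flp_d L22473
theorem L22483 : sm gc N2213 = N4132 := rfl
theorem L22484 : sm gc N4132 = N2213 := flp_c L22483
theorem L22485 : sm ge N2213 = N4133 := rfl
theorem L22493 : sm gg N4133 = N3575 := ded_26_2 L19063 L18556 L22485
theorem L22495 : sm gd N4133 = N3493 := ded_22_1 L18527 L11740 L5780 L11586 L22485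
theorem L22496 : sm gd N3493 = N4133 := flp_d L22495
theorem L22506 : sm gd N2215 = N4135 := rfl
theorem L22509 : sm ge N4135 = N2255 := ded_22_2 L11815 L5809 L5728 L11599 L22506
theorem L22510 : sm ge N2255 = N4135 := flp_e L22509
theorem L22511 : sm gg N4135 = N4062 := ded_24_2 L22095 L22097 L22107 L11626 L22506
theorem L22512 : sm gg N4062 = N4135 := flp_g L22511
theorem L22513 : sm gb N2220 = N4136 := rfl
theorem L22514 : sm gb N4136 = N2220 := flp_b L22513
theorem L22517 : sm ge N4136 = N2458 := ded_15_2 L12961 L19317 L22513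
theorem L22591 : sm gc N2227 = N4147 := rfl
theorem L22593 : sm ga N4147 = N2238 := ded_8_1 L11730 L11676 L22591
theorem L22659 : sm gg N2230 = N4161 := rfl
theorem L22661 : sm gc N4161 = N2234 := ded_21_1 L11704 L11688 L22659
theorem L22662 : sm gc N2234 = N4161 := flp_c L22661
theorem L22687 : sm gd N2234 = N4167 := rfl
theorem L22688 : sm gd N4167 = N2234 := flp_d L22687
theorem L22691 : sm gf N4167 = N3964 := ded_23_2 L21463 L21468 L21475 L11714 L22687
theorem L22713 : sm gb N2238 = N4172 := rfl
theorem L22715 : sm gc N4172 = N2272 := ded_13_2 L11897 L5846 L5772 L11729 L22713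
theorem L22743 : sm gc N2241 = N4178 := rfl
theorem L22744 : sm gc N4178 = N2241 := flp_c L22743
theorem L22745 : sm ga N4178 = N4132 := ded_8_1 L22484 L11742 L22743
theorem L22747 : sm gg N4178 = N3180 := ded_21_2 L16870 L11745 L22743
theorem L22749 : sm gb N4178 = N3188 := ded_13_1 L16894 L8444 L5858 L11744 L22743
theorem L22750 : sm gb N3188 = N4178 := flp_b L22749
theorem L22759 : sm gd N2243 = N4181 := rfl
theorem L22760 : sm gd N4181 = N2243 := flp_d L22759
theorem L22793 : sm gf N2246 = N4187 := rfl
theorem L22794 : sm gf N4187 = N2246 := flp_f L22793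
theorem L22795 : sm ga N4187 = N4187 := ded_11_1 L22794 L11763 L22793
theorem L22796 : sm gc N4187 = N3972 := ded_20_1 L21513 L20271 L22793
theorem L22800 : sm gd N3841 = N4187 := ded_30_9 L22795 L22796 L21991 L21984 L21992 L21999 L20661 L10439 L10493 L20727
theorem L22805 : sm gd N2247 = N4189 := rfl
theorem L22806 : sm gd N4189 = N2247 := flp_d L22805
theorem L22808 : sm gf N4189 = N3841 := ded_23_2 L22800 L22794 L11762 L11764 L22805
theorem L22810 : sm gc N3839 = N4189 := ded_20_3 L22808 L20728 L20721
theorem L22811 : sm gc N4189 = N3839 := flp_c L22810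
theorem L22830 : sm gd N2251 = N4194 := rfl
theorem L22833 : sm gc N4194 = N2452 := ded_31_3 L12924 L6419 L3215 L1610 L1614 L1619 L1620 L2892 L2889 L1444 L1459 L2909 L5796 L11788 L22830
theorem L22835 : sm gg N2448 = N4194 := ded_21_0 L22833 L12924 L12907
theorem L22836 : sm gg N4194 = N2448 := flp_g L22835
theorem L22837 : sm gf N2252 = N4195 := rfl
theorem L22844 : sm ge N4195 = N2264 := ded_25_1 L11851 L11801 L22837
theorem L22845 : sm ge N2264 = N4195 := flp_e L22844
theorem L22848 : sm gd N4195 = N2402 := ded_23_1 L12629 L12625 L14421 L20268 L22837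
theorem L22867 : sm gg N2255 = N4199 := rfl
theorem L22868 : sm gg N4199 = N2255 := flp_g L22867
theorem L22872 : sm gd N4199 = N4041 := ded_24_1 L21959 L11837 L5831 L11814 L22867
theorem L22874 : sm gf N4042 = N4199 := ded_23_0 L22872 L21955 L11245 L11247 L21961
theorem L22876 : sm gb N2258 = N4200 := rfl
theorem L22877 : sm gb N4200 = N2258 := flp_b L22876
theorem L22878 : sm gg N4200 = N2272 := ded_17_2 L11897 L11827 L22876
theorem L22902 : sm gc N2261 = N4203 := rfl
theorem L22905 : sm ge N4203 = N3971 := ded_19_2 L21507 L13018 L22902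
theorem L22909 : sm gd N2262 = N4204 := rfl
theorem L22911 : sm ga N4204 = N4181 := ded_9_1 L22760 L11843 L22909
theorem L22912 : sm ga N4181 = N4204 := flp_a L22911
theorem L22913 : sm gb N4204 = N2263 := ded_14_1 L11846 L11839 L22909
theorem L22938 : sm gg N2263 = N4208 := rfl
theorem L22939 : sm gg N4208 = N2263 := flp_g L22938
theorem L22945 : sm gd N2264 = N4209 := rfl
theorem L22946 : sm gd N4209 = N2264 := flp_d L22945
theorem L22966 : sm ge N2267 = N4212 := rfl
theorem L22969 : sm gf N4212 = N3854 := ded_25_2 L20797 L12533 L22966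
theorem L22971 : sm gg N4212 = N2270 := ded_26_2 L11881 L11869 L22966
theorem L22972 : sm gg N2270 = N4212 := flp_g L22971
theorem L22975 : sm gd N2268 = N4213 := rfl
theorem L22976 : sm gd N4213 = N2268 := flp_d L22975
theorem L22978 : sm ge N4213 = N4045 := ded_22_2 L21977 L21546 L20273 L11874 L22975
theorem L22980 : sm gg N4044 = N4213 := ded_26_0 L22978 L21975 L21969
theorem L22982 : sm gb N2269 = N4214 := rfl
theorem L22986 : sm gf N4214 = N2416 := ded_16_2 L12730 L11892 L22982
theorem L22988 : sm ge N2269 = N4215 := rfl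
theorem L22989 : sm ge N4215 = N2269 := flp_e L22988
theorem L22991 : sm gc N4215 = N2270 := ded_19_1 L11881 L11877 L22988
theorem L22995 : sm gd N4215 = N2764 := ded_22_1 L14594 L7320 L6294 L11895 L22988
theorem L22996 : sm gd N2764 = N4215 := flp_d L22995
theorem L23008 : sm ga N2272 = N4217 := rfl
theorem L23009 : sm ga N4217 = N2272 := flp_a L23008
theorem L23010 : sm gb N4217 = N4215 := ded_29_7 L22991 L11881 L5844 L11678 L22591 L22593 L22713 L22715 L23008
theorem L23012 : sm ge N4214 = N4217 := ded_15_0 L23010 L22989 L22982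
theorem L23014 : sm gd N2272 = N4218 := rfl
theorem L23016 : sm gb N4218 = N2273 := ded_14_1 L11899 L11896 L23014
theorem L23020 : sm gf N2651 = N4218 := ded_16_0 L23016 L11930 L13937
theorem L23022 : sm ge N2272 = N4219 := rfl
theorem L23024 : sm ga N4219 = N4214 := ded_10_1 L23012 L23009 L23022
theorem L23030 : sm gf N2363 = N4219 := ded_11_0 L23024 L22986 L12728
theorem L23031 : sm gf N4219 = N2363 := flp_f L23030
theorem L23042 : sm ge N2278 = N4222 := rfl
theorem L23043 : sm ge N4222 = N2278 := flp_e L23042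
theorem L23044 : sm gb N4222 = N2282 := ded_15_1 L11964 L11944 L23042
theorem L23045 : sm gb N2282 = N4222 := flp_b L23044
theorem L23072 : sm gf N2280 = N4228 := rfl
theorem L23082 : sm gg N4228 = N2301 := ded_28_3 L12093 L11946 L11951 L23072
theorem L23090 : sm ge N2281 = N4230 := rfl
theorem L23092 : sm ga N4230 = N2315 := ded_10_1 L12176 L11960 L23090
theorem L23093 : sm ga N2315 = N4230 := flp_a L23092
theorem L23094 : sm gc N4230 = N2282 := ded_19_1 L11964 L11957 L23090
theorem L23160 : sm gg N2285 = N4242 := rfl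
theorem L23161 : sm gg N4242 = N2285 := flp_g L23160
theorem L23162 : sm ga N4242 = N2327 := ded_12_1 L12222 L11978 L23160
theorem L23206 : sm gb N2294 = N4251 := rfl
theorem L23207 : sm gb N4251 = N2294 := flp_b L23206
theorem L23208 : sm gf N4251 = N2297 := ded_16_2 L12062 L12046 L23206
theorem L23209 : sm gf N2297 = N4251 := flp_f L23208
theorem L23214 : sm ga N3708 = N4251 := ded_29_6 L23207 L12042 L6046 L6041 L6033 L4992 L4990 L10039 L19895
theorem L23215 : sm ga N4251 = N3708 := flp_a L23214
theorem L23258 : sm gc N2300 = N4261 := rfl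
theorem L23259 : sm gc N4261 = N2300 := flp_c L23258
theorem L23260 : sm ga N4261 = N2303 := ded_8_1 L12106 L12082 L23258
theorem L23276 : sm gg N2300 = N4264 := rfl
theorem L23280 : sm gb N4264 = N4242 := ded_17_1 L23161 L12084 L23276
theorem L23428 : sm gg N2315 = N4294 := rfl
theorem L23429 : sm gg N4294 = N2315 := flp_g L23428
theorem L23432 : sm ge N4294 = N2317 := ded_26_1 L12184 L12175 L23428
theorem L23433 : sm ge N2317 = N4294 := flp_e L23432
theorem L23436 : sm gg N2316 = N4296 := rfl
theorem L23437 : sm gg N4296 = N2316 := flp_g L23436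
theorem L23438 : sm gc N4296 = N2322 := ded_21_1 L12204 L12182 L23436
theorem L23439 : sm gc N2322 = N4296 := flp_c L23438
theorem L23440 : sm gf N4294 = N4296 := ded_28_0 L23437 L12180 L12183 L23433
theorem L23441 : sm gf N4296 = N4294 := flp_f L23440
theorem L23474 : sm ge N2321 = N4305 := rfl
theorem L23476 : sm gf N4305 = N2331 := ded_25_2 L12234 L12202 L23474
theorem L23477 : sm gf N2331 = N4305 := flp_f L23476
theorem L23511 : sm gd N2326 = N4316 := rfl
theorem L23513 : sm gf N4316 = N2328 := ded_23_2 L12224 L5988 L5985 L12219 L23511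
theorem L23515 : sm gg N4305 = N4316 := ded_28_1 L23513 L12225 L12233 L23477
theorem L23516 : sm gg N4316 = N4305 := flp_g L23515
theorem L23613 : sm ga N2339 = N4337 := rfl
theorem L23617 : sm ge N4337 = N4251 := ded_10_2 L23215 L19897 L23613
theorem L23618 : sm ge N4251 = N4337 := flp_e L23617
theorem L23621 : sm gb N4337 = N2342 := ded_7_2 L12287 L19902 L23214 L23207 L12043 L12269 L23613
theorem L23629 : sm gc N2340 = N4339 := rfl
theorem L23630 : sm gc N4339 = N2340 := flp_c L23629
theorem L23631 : sm gg N4339 = N4101 := ded_31_4 L22287 L11432 L5606 L2825 L2817 L2811 L1409 L1410 L1496 L2969 L5929 L5933 L6030 L12275 L23629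
theorem L23632 : sm gg N4101 = N4339 := flp_g L23631
theorem L23635 : sm gf N2340 = N4341 := rfl
theorem L23636 : sm gf N4341 = N2340 := flp_f L23635
theorem L23637 : sm gd N4341 = N2353 := ded_23_1 L12360 L6062 L6030 L12275 L23635
theorem L23638 : sm gd N2353 = N4341 := flp_d L23637
theorem L23639 : sm gg N2340 = N4342 := rfl
theorem L23641 : sm gc N4342 = N4101 := ded_21_1 L23632 L23630 L23639
theorem L23643 : sm gf N4099 = N4342 := ded_20_0 L23641 L22287 L22282
theorem L23644 : sm gf N4342 = N4099 := flp_f L23643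
theorem L23677 : sm gb N2346 = N4349 := rfl
theorem L23678 : sm gb N4349 = N2346 := flp_b L23677
theorem L23679 : sm gc N4349 = N2411 := ded_13_2 L12693 L6256 L6056 L12319 L23677
theorem L23733 : sm gd N2352 = N4362 := rfl
theorem L23734 : sm gd N4362 = N2352 := flp_d L23733
theorem L23735 : sm ge N4362 = N2355 := ded_22_2 L12364 L6064 L6061 L12357 L23733
theorem L23736 : sm ge N2355 = N4362 := flp_e L23735
theorem L23741 : sm gg N2352 = N4364 := rfl
theorem L23743 : sm ge N4364 = N2354 := ded_26_1 L12362 L12357 L23741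
theorem L23744 : sm ge N2354 = N4364 := flp_e L23743
theorem L23745 : sm gg N2353 = N4365 := rfl
theorem L23746 : sm gg N4365 = N2353 := flp_g L23745
theorem L23747 : sm gf N4364 = N4365 := ded_28_0 L23746 L12360 L12361 L23744
theorem L23825 : sm gg N2363 = N4381 := rfl
theorem L23831 : sm gf N4381 = N4200 := ded_28_2 L22878 L23022 L23031 L23825
theorem L23835 : sm ge N2364 = N4383 := rfl
theorem L23837 : sm gb N4383 = N2376 := ded_15_1 L12485 L12422 L23835
theorem L23838 : sm gb N2376 = N4383 := flp_b L23837
theorem L23839 : sm gd N4383 = N2370 := ded_22_1 L12452 L6106 L6092 L12419 L23835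
theorem L23841 : sm gf N2364 = N4384 := rfl
theorem L23842 : sm gf N4384 = N2364 := flp_f L23841
theorem L23843 : sm gb N4384 = N2377 := ded_16_1 L12490 L12422 L23841
theorem L23844 : sm gb N2377 = N4384 := flp_b L23843
theorem L23853 : sm ge N2365 = N4387 := rfl
theorem L23854 : sm ge N4387 = N2365 := flp_e L23853
theorem L23855 : sm gc N4387 = N2366 := ded_19_1 L12428 L12423 L23853
theorem L23856 : sm gc N2366 = N4387 := flp_c L23855
theorem L23891 : sm gf N2368 = N4392 := rfl
theorem L23893 : sm gb N4392 = N2384 := ded_16_1 L12524 L12446 L23891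
theorem L23894 : sm gb N2384 = N4392 := flp_b L23893
theorem L23897 : sm gd N4392 = N4384 := ded_23_1 L23842 L12420 L6103 L12443 L23891
theorem L23898 : sm gd N4384 = N4392 := flp_d L23897
theorem L23899 : sm gb N2369 = N4393 := rfl
theorem L23903 : sm gc N4393 = N2385 := ded_13_2 L12535 L6156 L6108 L12447 L23899
theorem L23917 : sm gd N2371 = N4397 := rfl
theorem L23969 : sm ge N2375 = N4404 := rfl
theorem L23972 : sm gc N4404 = N2376 := ded_19_1 L12485 L12479 L23969
theorem L23983 : sm ga N2378 = N4406 := rfl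
theorem L23985 : sm gf N4406 = N2679 := ded_11_2 L14082 L12495 L23983
theorem L23986 : sm gf N2679 = N4406 := flp_f L23985
theorem L23991 : sm ge N2378 = N4407 := rfl
theorem L23992 : sm ge N4407 = N2378 := flp_e L23991
theorem L23993 : sm gb N4407 = N2379 := ded_15_1 L12497 L12492 L23991
theorem L23997 : sm gd N2379 = N4408 := rfl
theorem L23998 : sm gd N4408 = N2379 := flp_d L23997
theorem L24000 : sm ge N4408 = N3540 := ded_22_2 L18814 L9379 L9382 L12496 L23997
theorem L24001 : sm ge N3540 = N4408 := flp_e L24000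
theorem L24004 : sm gf N2770 = N4408 := ded_31_1 L23998 L12499 L7063 L7058 L3566 L3560 L1879 L1874 L928 L1858 L1855 L1849 L3681 L7343 L14616
theorem L24006 : sm gd N2380 = N4409 := rfl
theorem L24011 : sm gg N4409 = N3538 := ded_24_2 L18806 L9381 L9382 L12503 L24006
theorem L24053 : sm gf N2385 = N4415 := rfl
theorem L24054 : sm gf N4415 = N2385 := flp_f L24053
theorem L24055 : sm gb N4415 = N2388 := ded_16_1 L12549 L12534 L24053
theorem L24057 : sm gd N3992 = N4415 := ded_14_0 L24055 L12568 L21666
theorem L24068 : sm ge N2389 = N4417 := rfl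
theorem L24069 : sm ge N4417 = N2389 := flp_e L24068
theorem L24073 : sm gf N4417 = N2391 := ded_25_2 L12570 L12557 L24068
theorem L24075 : sm gg N4066 = N4417 := ded_28_3 L24069 L12556 L12574 L22128
theorem L24076 : sm gg N4417 = N4066 := flp_g L24075
theorem L24077 : sm gd N4417 = N2806 := ded_22_1 L14864 L14185 L7102 L12553 L24068
theorem L24078 : sm gd N2806 = N4417 := flp_d L24077
theorem L24088 : sm gb N2390 = N4419 := rfl
theorem L24090 : sm gd N4419 = N2461 := ded_14_2 L12973 L12561 L24088
theorem L24092 : sm gf N4419 = N2463 := ded_16_2 L12982 L12564 L24088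
theorem L24118 : sm gd N2394 = N4423 := rfl
theorem L24119 : sm gd N4423 = N2394 := flp_d L24118
theorem L24121 : sm gf N4423 = N2750 := ded_23_2 L14499 L12603 L12601 L12590 L24118
theorem L24123 : sm gb N2395 = N4424 := rfl
theorem L24125 : sm ge N4424 = N4120 := ded_15_2 L22414 L12595 L24123
theorem L24127 : sm gg N4424 = N2400 := ded_17_2 L12624 L12597 L24123
theorem L24139 : sm gd N2396 = N4426 := rfl
theorem L24140 : sm gd N4426 = N2396 := flp_d L24139
theorem L24141 : sm gb N4426 = N2397 := ded_14_1 L12601 L12598 L24139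
theorem L24147 : sm gg N2743 = N4426 := ded_17_0 L24141 L12609 L14476
theorem L24157 : sm gg N2396 = N4428 := rfl
theorem L24161 : sm gb N4428 = N2399 := ded_17_1 L12617 L12598 L24157
theorem L24170 : sm gd N2400 = N4430 := rfl
theorem L24174 : sm gb N4430 = N2401 := ded_14_1 L12626 L12623 L24170
theorem L24180 : sm gg N2734 = N4430 := ded_17_0 L24174 L12640 L14439
theorem L24181 : sm gg N4430 = N2734 := flp_g L24180
theorem L24204 : sm gf N2404 = N4434 := rfl
theorem L24210 : sm gg N4434 = N3999 := ded_28_3 L21721 L21594 L21595 L24204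
theorem L24212 : sm gd N4434 = N2435 := ded_23_1 L12838 L6375 L6227 L12649 L24204
theorem L24233 : sm ge N2411 = N4440 := rfl
theorem L24237 : sm gf N4440 = N4424 := ded_25_2 L24125 L22417 L24233
theorem L24239 : sm gd N2412 = N4441 := rfl
theorem L24242 : sm ge N4441 = N4189 := ded_22_2 L22806 L11769 L11563 L12696 L24239
theorem L24297 : sm gf N2418 = N4450 := rfl
theorem L24300 : sm ge N4450 = N2670 := ded_25_1 L18115 L18112 L24297
theorem L24324 : sm gf N2421 = N4454 := rfl
theorem L24329 : sm gg N4454 = N4450 := ded_28_3 L24300 L18115 L18117 L24324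
theorem L24331 : sm gb N2425 = N4455 := rfl
theorem L24332 : sm gb N4455 = N2425 := flp_b L24331
theorem L24333 : sm ge N4455 = N4428 := ded_15_2 L24161 L12786 L24331
theorem L24334 : sm ge N4428 = N4455 := flp_e L24333
theorem L24356 : sm gd N2426 = N4458 := rfl
theorem L24359 : sm ge N4458 = N4209 := ded_22_2 L22946 L22845 L22848 L12795 L24356
theorem L24360 : sm ge N4209 = N4458 := flp_e L24359
theorem L24367 : sm gc N2427 = N4459 := rfl
theorem L24369 : sm ga N4459 = N3705 := ded_8_1 L19875 L12803 L24367
theorem L24371 : sm gf N4459 = N3676 := ded_20_2 L19728 L12807 L24367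
theorem L24372 : sm gf N3676 = N4459 := flp_f L24371
theorem L24373 : sm ge N2427 = N4460 := rfl
theorem L24374 : sm ge N4460 = N2427 := flp_e L24373
theorem L24379 : sm gf N4460 = N3677 := ded_25_2 L19732 L12807 L24373
theorem L24380 : sm gf N3677 = N4460 := flp_f L24379
theorem L24393 : sm ge N2428 = N4463 := rfl
theorem L24394 : sm ge N4463 = N2428 := flp_e L24393
theorem L24396 : sm gc N4463 = N2429 := ded_19_1 L12814 L12808 L24393
theorem L24398 : sm gg N2428 = N4464 := rfl
theorem L24399 : sm gg N4464 = N2428 := flp_g L24398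
theorem L24401 : sm gc N4464 = N2430 := ded_21_1 L12817 L12808 L24398
theorem L24402 : sm gc N2430 = N4464 := flp_c L24401
theorem L24408 : sm gg N2429 = N4466 := rfl
theorem L24409 : sm gg N4466 = N2429 := flp_g L24408
theorem L24411 : sm ge N4466 = N2430 := ded_26_1 L12817 L12813 L24408
theorem L24413 : sm gf N4466 = N3618 := ded_28_2 L19379 L19395 L19398 L24408
theorem L24415 : sm gc N3459 = N4466 := ded_31_15 L24409 L19399 L19400 L19410 L19411 L9859 L4855 L2474 L2483 L2489 L4455 L8979 L8980 L9090 L18318
theorem L24417 : N3734 = N4463 := coi_31_15 L24396 L24408 L24413 L19377 L19335 L19332 L10097 L10092 L4940 L4967 L4961 L4955 L10106 L10109 L10159 L20047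
theorem L24418 : N4463 = N3734 := (eqc rfl L24417 rfl).symm
theorem L24422 : sm ge N3734 = N2428 := trfs L24418 L24394 rfl
theorem L24424 : sm ge N4464 = N3459 := ded_19_2 L24415 L24411 L24402
theorem L24430 : sm gd N3461 = N4464 := ded_22_5 L24424 L18319 L9095 L9099 L18326
theorem L24439 : sm gf N2431 = N4468 := rfl
theorem L24440 : sm gf N4468 = N2431 := flp_f L24439
theorem L24442 : sm gd N4468 = N3994 := ded_23_1 L21687 L12667 L6365 L12821 L24439
theorem L24456 : sm gf N2432 = N4471 := rfl
theorem L24458 : sm ga N4471 = N2435 := ded_11_1 L12838 L12827 L24456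
theorem L24459 : sm ga N2435 = N4471 := flp_a L24458
theorem L24528 : sm gd N2440 = N4483 := rfl
theorem L24531 : sm gg N4483 = N3858 := ded_24_2 L20819 L20007 L20008 L12870 L24528
theorem L24562 : sm gg N2442 = N4490 := rfl
theorem L24565 : sm gb N4490 = N2451 := ded_17_1 L12919 L12878 L24562
theorem L24567 : sm ge N4490 = N2444 := ded_26_1 L12887 L12874 L24562
theorem L24568 : sm ge N2444 = N4490 := flp_e L24567
theorem L24576 : sm gd N2444 = N4492 := rfl
theorem L24577 : sm gd N4492 = N2444 := flp_d L24576
theorem L24579 : sm gb N4492 = N2453 := ded_14_1 L12929 L12890 L24576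
theorem L24580 : sm gb N2453 = N4492 := flp_b L24579
theorem L24624 : sm gf N2447 = N4500 := rfl
theorem L24625 : sm gf N4500 = N2447 := flp_f L24624
theorem L24629 : sm ge N4500 = N2448 := ded_25_1 L12904 L12898 L24624
theorem L24630 : sm ge N2448 = N4500 := flp_e L24629
theorem L24631 : sm gg N2447 = N4501 := rfl
theorem L24634 : sm gc N4501 = N2451 := ded_21_1 L12919 L12902 L24631
theorem L24635 : sm gc N2451 = N4501 := flp_c L24634
theorem L24638 : sm gf N4501 = N4194 := ded_28_2 L22836 L24630 L24625 L24631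
theorem L24639 : sm gf N4194 = N4501 := flp_f L24638
theorem L24642 : sm gd N2448 = N4502 := rfl
theorem L24643 : sm gd N4502 = N2448 := flp_d L24642
theorem L24645 : sm gg N4502 = N4189 := ded_24_2 L22806 L11796 L22830 L22836 L24642
theorem L24647 : sm gd N2449 = N4503 := rfl
theorem L24650 : sm gg N4503 = N3461 := ded_24_2 L24430 L24399 L12812 L12908 L24647
theorem L24665 : sm gd N2450 = N4505 := rfl
theorem L24666 : sm gd N4505 = N2450 := flp_d L24665
theorem L24670 : sm gg N4505 = N3480 := ded_24_2 L18435 L18447 L18469 L12938 L24665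
theorem L24671 : sm gg N3480 = N4505 := flp_g L24670
theorem L24697 : sm gc N2458 = N4510 := rfl
theorem L24698 : sm gc N4510 = N2458 := flp_c L24697
theorem L24699 : sm ga N4510 = N2459 := ded_8_1 L12964 L12960 L24697
theorem L24701 : sm gf N2458 = N4511 := rfl
theorem L24702 : sm gf N4511 = N2458 := flp_f L24701
theorem L24707 : sm gg N2458 = N4512 := rfl
theorem L24709 : sm ga N4512 = N2462 := ded_12_1 L12976 L12960 L24707
theorem L24711 : sm gb N4512 = N2471 := ded_17_1 L13039 L12962 L24707
theorem L24714 : sm gf N3911 = N4512 := ded_16_0 L24711 L19328 L21163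
theorem L24715 : sm gf N4512 = N3911 := flp_f L24714
theorem L24716 : sm gd N2459 = N4513 := rfl
theorem L24718 : sm gb N4513 = N4124 := ded_14_1 L22442 L12966 L24716
theorem L24738 : sm gf N2460 = N4517 := rfl
theorem L24742 : sm ge N4517 = N2461 := ded_25_1 L12972 L12967 L24738
theorem L24743 : sm ge N2461 = N4517 := flp_e L24742
theorem L24756 : sm gf N2462 = N4520 := rfl
theorem L24758 : sm ga N4520 = N3911 := ded_11_1 L24714 L24709 L24756
theorem L24764 : sm gg N4520 = N4517 := ded_28_3 L24742 L12972 L12975 L24756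
theorem L24765 : sm gg N4517 = N4520 := flp_g L24764
theorem L24766 : sm gd N3910 = N4520 := ded_9_0 L24758 L21161 L21154
theorem L24767 : sm gd N4520 = N3910 := flp_d L24766
theorem L24770 : sm ge N2463 = N4522 := rfl
theorem L24771 : sm ge N4522 = N2463 := flp_e L24770
theorem L24772 : sm gb N4522 = N2472 := ded_15_1 L13043 L12983 L24770
theorem L24773 : sm gb N2472 = N4522 := flp_b L24772
theorem L24774 : sm gg N4065 = N4522 := ded_17_0 L24772 L22126 L22119
theorem L24775 : sm gg N4522 = N4065 := flp_g L24774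
theorem L24776 : sm gg N2463 = N4523 := rfl
theorem L24778 : sm ga N4523 = N4522 := ded_12_1 L24775 L22116 L24776
theorem L24779 : sm ga N4522 = N4523 := flp_a L24778
theorem L24782 : sm ge N4523 = N4065 := ded_26_1 L24774 L24771 L24776
theorem L24783 : sm ge N4065 = N4523 := flp_e L24782
theorem L24784 : sm gd N4523 = N4522 := ded_24_1 L24775 L22115 L11353 L12980 L24776
theorem L24785 : sm gd N4522 = N4523 := flp_d L24784
theorem L24796 : sm gf N2474 = N4527 := rfl
theorem L24797 : sm gf N4527 = N2474 := flp_f L24796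
theorem L24798 : sm gc N4527 = N2476 := ded_20_1 L13055 L13048 L24796
theorem L24799 : sm gc N2476 = N4527 := flp_c L24798
theorem L24800 : sm gg N2474 = N4528 := rfl
theorem L24801 : sm gg N4528 = N2474 := flp_g L24800
theorem L24802 : sm gc N4528 = N2477 := ded_21_1 L13059 L13048 L24800
theorem L24803 : sm gc N2477 = N4528 := flp_c L24802
theorem L24804 : sm gf N2475 = N4529 := rfl
theorem L24805 : sm gf N4529 = N2475 := flp_f L24804
theorem L24806 : sm gb N4529 = N2483 := ded_16_1 L13101 L13053 L24804
theorem L24807 : sm gb N2483 = N4529 := flp_b L24806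
theorem L24808 : sm ge N4529 = N2476 := ded_25_1 L13055 L13050 L24804
theorem L24809 : sm ge N2476 = N4529 := flp_e L24808
theorem L24810 : sm gg N2475 = N4530 := rfl
theorem L24811 : sm gg N4530 = N2475 := flp_g L24810
theorem L24812 : sm gb N4530 = N2484 := ded_17_1 L13107 L13053 L24810
theorem L24813 : sm gb N2484 = N4530 := flp_b L24812
theorem L24814 : sm ge N4530 = N2477 := ded_26_1 L13059 L13050 L24810
theorem L24815 : sm ge N2477 = N4530 := flp_e L24814
theorem L24816 : sm gd N2476 = N4531 := rfl
theorem L24817 : sm gd N4531 = N2476 := flp_d L24816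
theorem L24818 : sm gb N4531 = N2485 := ded_14_1 L13113 L13057 L24816
theorem L24819 : sm gb N2485 = N4531 := flp_b L24818
theorem L24820 : sm gf N4531 = N2478 := ded_23_2 L13063 L6472 L6467 L13054 L24816
theorem L24821 : sm gf N2478 = N4531 := flp_f L24820
theorem L24822 : sm gg N2476 = N4532 := rfl
theorem L24823 : sm gg N4532 = N2476 := flp_g L24822
theorem L24824 : sm gb N4532 = N2486 := ded_17_1 L13119 L13057 L24822
theorem L24825 : sm gb N2486 = N4532 := flp_b L24824
theorem L24826 : sm gf N4530 = N4532 := ded_28_0 L24823 L13055 L13058 L24815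
theorem L24827 : sm gf N4532 = N4530 := flp_f L24826
theorem L24828 : sm gd N2477 = N4533 := rfl
theorem L24829 : sm gd N4533 = N2477 := flp_d L24828
theorem L24830 : sm gb N4533 = N2487 := ded_14_1 L13125 L13061 L24828
theorem L24831 : sm gb N2487 = N4533 := flp_b L24830
theorem L24832 : sm gg N4533 = N2480 := ded_24_2 L13077 L6478 L6467 L13058 L24828
theorem L24833 : sm gg N2480 = N4533 := flp_g L24832
theorem L24834 : sm gf N2477 = N4534 := rfl
theorem L24835 : sm gf N4534 = N2477 := flp_f L24834
theorem L24836 : sm gb N4534 = N2488 := ded_16_1 L13131 L13061 L24834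
theorem L24837 : sm gb N2488 = N4534 := flp_b L24836
theorem L24838 : sm ge N4534 = N4532 := ded_25_1 L24827 L24814 L24834
theorem L24839 : sm ge N4532 = N4534 := flp_e L24838
theorem L24840 : sm gg N4534 = N4529 := ded_28_3 L24808 L13055 L13058 L24834
theorem L24841 : sm gg N4529 = N4534 := flp_g L24840
theorem L24842 : sm gc N2478 = N4535 := rfl
theorem L24843 : sm gc N4535 = N2478 := flp_c L24842
theorem L24844 : sm ge N2478 = N4536 := rfl
theorem L24845 : sm ge N4536 = N2478 := flp_e L24844
theorem L24846 : sm gb N4536 = N2495 := ded_15_1 L13167 L13065 L24844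
theorem L24847 : sm gb N2495 = N4536 := flp_b L24846
theorem L24848 : sm gc N2480 = N4537 := rfl
theorem L24849 : sm gc N4537 = N2480 := flp_c L24848
theorem L24850 : sm ge N2480 = N4538 := rfl
theorem L24851 : sm ge N4538 = N2480 := flp_e L24850
theorem L24852 : sm gb N4538 = N2497 := ded_15_1 L13175 L13079 L24850
theorem L24853 : sm gb N2497 = N4538 := flp_b L24852
theorem L24854 : sm gf N2482 = N4539 := rfl
theorem L24855 : sm gf N4539 = N2482 := flp_f L24854
theorem L24858 : sm ge N4539 = N2490 := ded_25_1 L13143 L13099 L24854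
theorem L24860 : sm gg N2482 = N4540 := rfl
theorem L24861 : sm gg N4540 = N2482 := flp_g L24860
theorem L24862 : sm ga N4540 = N2557 := ded_12_1 L13510 L13097 L24860
theorem L24863 : sm ga N2557 = N4540 := flp_a L24862
theorem L24866 : sm gd N2483 = N4541 := rfl
theorem L24867 : sm gd N4541 = N2483 := flp_d L24866
theorem L24868 : sm ga N4541 = N2558 := ded_9_1 L13514 L13103 L24866
theorem L24869 : sm ga N2558 = N4541 := flp_a L24868
theorem L24870 : sm gd N2484 = N4542 := rfl
theorem L24871 : sm gd N4542 = N2484 := flp_d L24870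
theorem L24872 : sm ga N4542 = N2559 := ded_9_1 L13516 L13109 L24870
theorem L24873 : sm ga N2559 = N4542 := flp_a L24872
theorem L24874 : sm gc N2485 = N4543 := rfl
theorem L24875 : sm gc N4543 = N2485 := flp_c L24874
theorem L24876 : sm ga N4543 = N2560 := ded_8_1 L13518 L13115 L24874
theorem L24877 : sm ga N2560 = N4543 := flp_a L24876
theorem L24878 : sm gf N4543 = N2494 := ded_20_2 L13163 L13117 L24874
theorem L24879 : sm gf N2494 = N4543 := flp_f L24878
theorem L24880 : sm ge N2485 = N4544 := rfl
theorem L24881 : sm ge N4544 = N2485 := flp_e L24880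
theorem L24882 : sm ga N4544 = N2561 := ded_10_1 L13522 L13115 L24880
theorem L24883 : sm ga N2561 = N4544 := flp_a L24882
theorem L24884 : sm gf N4544 = N2495 := ded_25_2 L13167 L13117 L24880
theorem L24885 : sm gf N2495 = N4544 := flp_f L24884
theorem L24886 : sm gg N2485 = N4545 := rfl
theorem L24887 : sm gg N4545 = N2485 := flp_g L24886
theorem L24888 : sm ga N4545 = N2562 := ded_12_1 L13526 L13115 L24886
theorem L24889 : sm ga N2562 = N4545 := flp_a L24888
theorem L24890 : sm gd N2486 = N4546 := rfl
theorem L24891 : sm gd N4546 = N2486 := flp_d L24890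
theorem L24892 : sm ga N4546 = N2563 := ded_9_1 L13528 L13121 L24890
theorem L24893 : sm ga N2563 = N4546 := flp_a L24892
theorem L24894 : sm gc N2487 = N4547 := rfl
theorem L24895 : sm gc N4547 = N2487 := flp_c L24894
theorem L24896 : sm ga N4547 = N2564 := ded_8_1 L13530 L13127 L24894
theorem L24897 : sm ga N2564 = N4547 := flp_a L24896
theorem L24898 : sm gg N4547 = N2496 := ded_21_2 L13171 L13129 L24894
theorem L24899 : sm gg N2496 = N4547 := flp_g L24898
theorem L24900 : sm ge N2487 = N4548 := rfl
theorem L24901 : sm ge N4548 = N2487 := flp_e L24900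
theorem L24902 : sm ga N4548 = N2565 := ded_10_1 L13534 L13127 L24900
theorem L24903 : sm ga N2565 = N4548 := flp_a L24902
theorem L24904 : sm gg N4548 = N2497 := ded_26_2 L13175 L13129 L24900
theorem L24905 : sm gg N2497 = N4548 := flp_g L24904
theorem L24906 : sm gf N2487 = N4549 := rfl
theorem L24907 : sm gf N4549 = N2487 := flp_f L24906
theorem L24908 : sm ga N4549 = N2566 := ded_11_1 L13538 L13127 L24906
theorem L24909 : sm ga N2566 = N4549 := flp_a L24908
theorem L24910 : sm gd N2488 = N4550 := rfl
theorem L24911 : sm gd N4550 = N2488 := flp_d L24910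
theorem L24912 : sm ga N4550 = N2567 := ded_9_1 L13540 L13133 L24910
theorem L24913 : sm ga N2567 = N4550 := flp_a L24912
theorem L24914 : sm gb N2489 = N4551 := rfl
theorem L24916 : sm ge N4551 = N2885 := ded_15_2 L15512 L15516 L24914
theorem L24918 : sm ga N4551 = N2889 := ded_7_1 L15375 L7747 L13458 L13545 L13542 L13141 L24914
theorem L24919 : sm ga N2889 = N4551 := flp_a L24918
theorem L24920 : sm gf N2489 = N4552 := rfl
theorem L24921 : sm gf N4552 = N2489 := flp_f L24920
theorem L24922 : sm ga N4552 = N2570 := ded_11_1 L13551 L13141 L24920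
theorem L24923 : sm ga N2570 = N4552 := flp_a L24922
theorem L24926 : sm gg N2489 = N4553 := rfl
theorem L24927 : sm gg N4553 = N2489 := flp_g L24926
theorem L24928 : sm ga N4553 = N2571 := ded_12_1 L13555 L13141 L24926
theorem L24929 : sm ga N2571 = N4553 := flp_a L24928
theorem L24930 : sm gc N4553 = N2491 := ded_21_1 L13147 L13138 L24926
theorem L24932 : sm gd N2490 = N4554 := rfl
theorem L24934 : sm ga N4554 = N2572 := ded_9_1 L13559 L13145 L24932
theorem L24936 : sm gf N4554 = N2492 := ded_23_2 L13151 L6500 L6495 L13142 L24932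
theorem L24938 : sm ge N4545 = N4554 := ded_10_0 L24934 L13565 L24889
theorem L24939 : sm ge N4554 = N4545 := flp_e L24938
theorem L24940 : sm gg N4544 = N4554 := ded_12_0 L24934 L13563 L24883
theorem L24941 : sm gg N4554 = N4544 := flp_g L24940
theorem L24942 : sm gg N2490 = N4555 := rfl
theorem L24944 : sm ga N4555 = N2573 := ded_12_1 L13567 L13145 L24942
theorem L24945 : sm ga N2573 = N4555 := flp_a L24944
theorem L24948 : sm gd N2491 = N4556 := rfl
theorem L24950 : sm ga N4556 = N2574 := ded_9_1 L13571 L13149 L24948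
theorem L24952 : sm gg N4556 = N2493 := ded_24_2 L13157 L6508 L6495 L13146 L24948
theorem L24954 : sm ge N4549 = N4556 := ded_10_0 L24950 L13576 L24909
theorem L24955 : sm ge N4556 = N4549 := flp_e L24954
theorem L24956 : sm gf N4548 = N4556 := ded_11_0 L24950 L13574 L24903
theorem L24957 : sm gf N4556 = N4548 := flp_f L24956
theorem L24958 : sm gf N2491 = N4557 := rfl
theorem L24964 : sm gg N4557 = N4539 := ded_28_3 L24858 L13143 L13146 L24958
theorem L24966 : sm gc N2492 = N4558 := rfl
theorem L24968 : sm ga N4558 = N2576 := ded_8_1 L13585 L13153 L24966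
theorem L24969 : sm ga N2576 = N4558 := flp_a L24968
theorem L24972 : sm ge N2492 = N4559 := rfl
theorem L24973 : sm ge N4559 = N2492 := flp_e L24972
theorem L24976 : sm gf N4559 = N4545 := ded_25_2 L24938 L24936 L24972
theorem L24978 : sm gg N4559 = N2495 := ded_26_2 L13167 L13155 L24972
theorem L24980 : sm gd N4559 = N2495 := ded_22_1 L13167 L6516 L6506 L13150 L24972
theorem L24982 : sm gc N2493 = N4560 := rfl
theorem L24984 : sm ga N4560 = N2578 := ded_8_1 L13597 L13159 L24982
theorem L24986 : sm gf N4560 = N2496 := ded_20_2 L13171 L13161 L24982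
theorem L24988 : sm ge N2493 = N4561 := rfl
theorem L24989 : sm ge N4561 = N2493 := flp_e L24988
theorem L24990 : sm ga N4561 = N2579 := ded_10_1 L13601 L13159 L24988
theorem L24994 : sm gg N4561 = N4549 := ded_26_2 L24954 L24952 L24988
theorem L24998 : sm gb N2494 = N4562 := rfl
theorem L24999 : sm gb N4562 = N2494 := flp_b L24998
theorem L25000 : sm gd N2494 = N4563 := rfl
theorem L25001 : sm gd N4563 = N2494 := flp_d L25000
theorem L25002 : sm ga N4563 = N2581 := ded_9_1 L13611 L13165 L25000
theorem L25003 : sm ga N2581 = N4563 := flp_a L25002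
theorem L25004 : sm ge N2494 = N4564 := rfl
theorem L25005 : sm ge N4564 = N2494 := flp_e L25004
theorem L25006 : sm ga N4564 = N2582 := ded_10_1 L13613 L13165 L25004
theorem L25007 : sm ga N2582 = N4564 := flp_a L25006
theorem L25008 : sm gc N4564 = N2495 := ded_19_1 L13167 L13162 L25004
theorem L25009 : sm gc N2495 = N4564 := flp_c L25008
theorem L25010 : sm gb N2496 = N4565 := rfl
theorem L25011 : sm gb N4565 = N2496 := flp_b L25010
theorem L25012 : sm gd N2496 = N4566 := rfl
theorem L25013 : sm gd N4566 = N2496 := flp_d L25012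
theorem L25014 : sm ga N4566 = N2584 := ded_9_1 L13619 L13173 L25012
theorem L25015 : sm ga N2584 = N4566 := flp_a L25014
theorem L25016 : sm gc N2584 = N4566 := ded_30_0 L25013 L13171 L6528 L3268 L1663 L3269 L6527 L13170 L25012 L25014
theorem L25017 : sm gc N4566 = N2584 := flp_c L25016
theorem L25018 : sm ge N2496 = N4567 := rfl
theorem L25019 : sm ge N4567 = N2496 := flp_e L25018
theorem L25020 : sm ga N4567 = N2585 := ded_10_1 L13621 L13173 L25018
theorem L25021 : sm ga N2585 = N4567 := flp_a L25020
theorem L25022 : sm gc N4567 = N2497 := ded_19_1 L13175 L13170 L25018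
theorem L25023 : sm gc N2497 = N4567 := flp_c L25022
theorem L25030 : sm gd N2498 = N4569 := rfl
theorem L25031 : sm gd N4569 = N2498 := flp_d L25030
theorem L25032 : sm ga N4569 = N2587 := ded_9_1 L13629 L13181 L25030
theorem L25033 : sm ga N2587 = N4569 := flp_a L25032
theorem L25034 : sm ge N2498 = N4570 := rfl
theorem L25035 : sm ge N4570 = N2498 := flp_e L25034
theorem L25048 : sm gb N2501 = N4572 := rfl
theorem L25049 : sm gb N4572 = N2501 := flp_b L25048
theorem L25050 : sm ge N4572 = N4572 := ded_15_2 L25049 L13204 L25048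
theorem L25053 : sm gc N4572 = N2708 := ded_13_2 L14287 L7147 L6556 L13200 L25048
theorem L25054 : sm gc N2708 = N4572 := flp_c L25053
theorem L25055 : sm ga N2592 = N4572 := ded_29_6 L25049 L13201 L6557 L6553 L3414 L3599 L3601 L7189 L13662
theorem L25056 : sm ga N4572 = N2592 := flp_a L25055
theorem L25057 : sm gd N2501 = N4573 := rfl
theorem L25059 : sm ga N4573 = N2593 := ded_9_1 L13664 L13203 L25057
theorem L25060 : sm ga N2593 = N4573 := flp_a L25059
theorem L25070 : sm gc N2503 = N4575 := rfl
theorem L25072 : sm ga N4575 = N2596 := ded_8_1 L13675 L13219 L25070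
theorem L25073 : sm ga N2596 = N4575 := flp_a L25072
theorem L25080 : sm gf N2503 = N4577 := rfl
theorem L25084 : sm gb N4577 = N3423 := ded_16_1 L18077 L13221 L25080
theorem L25085 : sm gb N3423 = N4577 := flp_b L25084
theorem L25086 : sm gd N4577 = N2513 := ded_23_1 L13288 L6602 L6565 L13216 L25080
theorem L25088 : sm gg N2503 = N4578 := rfl
theorem L25090 : sm ga N4578 = N2599 := ded_12_1 L13683 L13219 L25088
theorem L25094 : sm gd N4578 = N3411 := ded_24_1 L17973 L8903 L6567 L13216 L25088
theorem L25095 : sm gd N3411 = N4578 := flp_d L25094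
theorem L25096 : sm gd N2504 = N4579 := rfl
theorem L25098 : sm ga N4579 = N2600 := ded_9_1 L13685 L13225 L25096
theorem L25102 : sm gg N4579 = N2868 := ded_24_2 L15242 L15243 L15252 L13233 L25096
theorem L25103 : sm gg N2868 = N4579 := flp_g L25102
theorem L25104 : sm gb N2505 = N4580 := rfl
theorem L25106 : sm gg N4580 = N3879 := ded_17_2 L20962 L13239 L25104
theorem L25107 : sm gg N3879 = N4580 := flp_g L25106
theorem L25108 : sm gc N4580 = N2775 := ded_13_2 L14646 L7365 L6585 L13234 L25104
theorem L25116 : sm ge N2505 = N4582 := rfl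
theorem L25120 : sm gc N4582 = N2506 := ded_19_1 L13241 L13234 L25116
theorem L25122 : sm gg N4582 = N3881 := ded_26_2 L20968 L13239 L25116
theorem L25166 : sm ge N2511 = N4589 := rfl
theorem L25167 : sm ge N4589 = N2511 := flp_e L25166
theorem L25168 : sm gb N4589 = N2512 := ded_15_1 L13283 L13281 L25166
theorem L25172 : sm gf N4589 = N3095 := ded_28_0 L16462 L16490 L16497 L25166
theorem L25173 : sm gf N3095 = N4589 := flp_f L25172
theorem L25174 : sm gf N2511 = N4590 := rfl
theorem L25175 : sm gf N4590 = N2511 := flp_f L25174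
theorem L25176 : sm gb N4590 = N2513 := ded_16_1 L13288 L13281 L25174
theorem L25182 : sm gg N4590 = N3101 := ded_28_3 L16487 L16490 L16497 L25174
theorem L25183 : sm gg N3101 = N4590 := flp_g L25182
theorem L25184 : sm gd N4590 = N3423 := ded_23_1 L18077 L8939 L6598 L13278 L25174
theorem L25186 : sm gd N2512 = N4591 := rfl
theorem L25187 : sm gd N4591 = N2512 := flp_d L25186
theorem L25188 : sm ga N4591 = N2622 := ded_9_1 L13805 L13285 L25186
theorem L25189 : sm ga N2622 = N4591 := flp_a L25188
theorem L25190 : sm ge N4591 = N2515 := ded_22_2 L13298 L6607 L6601 L13282 L25186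
theorem L25192 : sm gf N2512 = N4592 := rfl
theorem L25193 : sm gf N4592 = N2512 := flp_f L25192
theorem L25194 : sm ga N4592 = N2623 := ded_11_1 L13809 L13285 L25192
theorem L25195 : sm ga N2623 = N4592 := flp_a L25194
theorem L25196 : sm gb N4592 = N3095 := ded_16_1 L25173 L25168 L25192
theorem L25197 : sm gb N3095 = N4592 := flp_b L25196
theorem L25198 : sm gc N4592 = N4592 := ded_20_1 L25193 L13286 L25192
theorem L25199 : sm ge N4592 = N2513 := ded_25_1 L13288 L13282 L25192
theorem L25200 : sm ge N2513 = N4592 := flp_e L25199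
theorem L25201 : sm gg N4592 = N3099 := ded_28_1 L16482 L13293 L13282 L25192
theorem L25202 : sm gg N3099 = N4592 := flp_g L25201
theorem L25203 : sm gg N2512 = N4593 := rfl
theorem L25204 : sm gg N4593 = N2512 := flp_g L25203
theorem L25205 : sm ga N4593 = N2624 := ded_12_1 L13814 L13285 L25203
theorem L25206 : sm ga N2624 = N4593 := flp_a L25205
theorem L25207 : sm gc N4593 = N4593 := ded_21_1 L25204 L13286 L25203
theorem L25208 : sm ge N4593 = N2514 := ded_26_1 L13293 L13282 L25203
theorem L25209 : sm ge N2514 = N4593 := flp_e L25208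
theorem L25210 : sm gg N2513 = N4594 := rfl
theorem L25211 : sm gg N4594 = N2513 := flp_g L25210
theorem L25212 : sm ga N4594 = N2625 := ded_12_1 L13819 L13290 L25210
theorem L25213 : sm ga N2625 = N4594 := flp_a L25212
theorem L25214 : sm gb N4594 = N3101 := ded_17_1 L25183 L25176 L25210
theorem L25215 : sm gb N3101 = N4594 := flp_b L25214
theorem L25216 : sm gc N4594 = N4594 := ded_21_1 L25211 L13291 L25210
theorem L25217 : sm ge N4594 = N3099 := ded_26_1 L25202 L25199 L25210
theorem L25218 : sm ge N3099 = N4594 := flp_e L25217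
theorem L25219 : sm gf N4593 = N4594 := ded_28_0 L25211 L13288 L13292 L25209
theorem L25220 : sm gf N4594 = N4593 := flp_f L25219
theorem L25221 : sm gd N2514 = N4595 := rfl
theorem L25222 : sm gd N4595 = N2514 := flp_d L25221
theorem L25223 : sm ga N4595 = N2626 := ded_9_1 L13826 L13295 L25221
theorem L25224 : sm ga N2626 = N4595 := flp_a L25223
theorem L25227 : sm gc N2515 = N4596 := rfl
theorem L25228 : sm gc N4596 = N2515 := flp_c L25227
theorem L25229 : sm ga N4596 = N2628 := ded_8_1 L13837 L13300 L25227
theorem L25231 : sm gf N2515 = N4597 := rfl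
theorem L25232 : sm gf N4597 = N2515 := flp_f L25231
theorem L25233 : sm ga N4597 = N2629 := ded_11_1 L13839 L13300 L25231
theorem L25234 : sm ga N2629 = N4597 := flp_a L25233
theorem L25235 : sm gg N2515 = N4598 := rfl
theorem L25236 : sm gg N4598 = N2515 := flp_g L25235
theorem L25247 : sm gf N2516 = N4601 := rfl
theorem L25248 : sm gf N4601 = N2516 := flp_f L25247
theorem L25249 : sm ga N4601 = N2634 := ded_11_1 L13849 L13304 L25247
theorem L25250 : sm ga N2634 = N4601 := flp_a L25249
theorem L25251 : sm gd N4601 = N2867 := ded_23_1 L15249 L15252 L8686 L13301 L25247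
theorem L25252 : sm gd N2867 = N4601 := flp_d L25251
theorem L25263 : sm ge N2517 = N4604 := rfl
theorem L25267 : sm gc N4604 = N2518 := ded_19_1 L13310 L13305 L25263
theorem L25275 : sm gg N2517 = N4606 := rfl
theorem L25277 : sm ga N4606 = N2527 := ded_12_1 L13360 L13308 L25275
theorem L25331 : sm gc N2521 = N4613 := rfl
theorem L25333 : sm ga N4613 = N2540 := ded_8_1 L13442 L13332 L25331
theorem L25334 : sm ga N2540 = N4613 := flp_a L25333
theorem L25335 : sm gg N4613 = N4535 := ded_21_2 L24843 L13336 L25331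
theorem L25337 : sm ge N2521 = N4614 := rfl
theorem L25341 : sm gb N4614 = N4559 := ded_15_1 L24973 L13334 L25337
theorem L25347 : sm gc N2522 = N4615 := rfl
theorem L25349 : sm ga N4615 = N2542 := ded_8_1 L13448 L13340 L25347
theorem L25353 : sm ge N2522 = N4616 := rfl
theorem L25355 : sm ga N4616 = N2543 := ded_10_1 L13450 L13340 L25353
theorem L25357 : sm gb N4616 = N4561 := ded_15_1 L24989 L13342 L25353
theorem L25358 : sm gb N4561 = N4616 := flp_b L25357
theorem L25359 : sm gf N4616 = N4538 := ded_25_2 L24851 L13344 L25353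
theorem L25361 : sm gd N4616 = N4538 := ded_22_1 L24851 L13077 L6643 L13337 L25353
theorem L25363 : sm ga N2523 = N4617 := rfl
theorem L25365 : sm gc N4617 = N2544 := ded_8_2 L13454 L13348 L25363
theorem L25367 : sm gd N2523 = N4618 := rfl
theorem L25369 : sm gb N4618 = N2524 := ded_14_1 L13350 L13345 L25367
theorem L25371 : sm ge N2523 = N4619 := rfl
theorem L25375 : sm gc N4619 = N2545 := ded_19_1 L13456 L13348 L25371
theorem L25377 : sm gf N2523 = N4620 := rfl
theorem L25381 : sm gc N4620 = N2546 := ded_20_1 L13460 L13348 L25377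
theorem L25383 : sm gg N2523 = N4621 := rfl
theorem L25384 : sm gg N4621 = N2523 := flp_g L25383
theorem L25385 : sm gb N4621 = N2527 := ded_17_1 L13360 L13345 L25383
theorem L25386 : sm gb N2527 = N4621 := flp_b L25385
theorem L25387 : sm gc N4621 = N2547 := ded_21_1 L13464 L13348 L25383
theorem L25389 : sm gc N2524 = N4622 := rfl
theorem L25393 : sm gd N4622 = N4261 := ded_30_9 L23260 L12106 L5954 L2979 L1540 L1673 L3342 L6644 L13349 L25389
theorem L25441 : sm gf N2528 = N4634 := rfl
theorem L25443 : sm ga N4634 = N4529 := ded_11_1 L24805 L13366 L25441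
theorem L25445 : sm gb N4634 = N2556 := ded_16_1 L13506 L13368 L25441
theorem L25449 : sm gg N2528 = N4635 := rfl
theorem L25451 : sm ga N4635 = N4530 := ded_12_1 L24811 L13366 L25449
theorem L25453 : sm gb N4635 = N2557 := ded_17_1 L13510 L13368 L25449
theorem L25455 : sm ge N4635 = N2537 := ded_26_1 L13420 L13370 L25449
theorem L25456 : sm ge N2537 = N4635 := flp_e L25455
theorem L25457 : sm gd N2529 = N4636 := rfl
theorem L25459 : sm gb N4636 = N2558 := ded_14_1 L13514 L13374 L25457
theorem L25461 : sm gd N2530 = N4637 := rfl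
theorem L25463 : sm gb N4637 = N2559 := ded_14_1 L13516 L13380 L25461
theorem L25469 : sm ge N2531 = N4639 := rfl
theorem L25471 : sm gb N4639 = N2561 := ded_15_1 L13522 L13386 L25469
theorem L25472 : sm gb N2561 = N4639 := flp_b L25471
theorem L25475 : sm gg N2531 = N4640 := rfl
theorem L25477 : sm gb N4640 = N2562 := ded_17_1 L13526 L13386 L25475
theorem L25479 : sm gd N2532 = N4641 := rfl
theorem L25481 : sm gb N4641 = N2563 := ded_14_1 L13528 L13392 L25479
theorem L25483 : sm gc N2533 = N4642 := rfl
theorem L25485 : sm gg N4642 = N2542 := ded_21_2 L13448 L13400 L25483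
theorem L25487 : sm ge N2533 = N4643 := rfl
theorem L25488 : sm ge N4643 = N2533 := flp_e L25487
theorem L25489 : sm gb N4643 = N2565 := ded_15_1 L13534 L13398 L25487
theorem L25490 : sm gb N2565 = N4643 := flp_b L25489
theorem L25491 : sm gg N4643 = N2543 := ded_26_2 L13450 L13400 L25487
theorem L25492 : sm gg N2543 = N4643 := flp_g L25491
theorem L25493 : sm gf N2533 = N4644 := rfl
theorem L25495 : sm gb N4644 = N2566 := ded_16_1 L13538 L13398 L25493
theorem L25496 : sm gb N2566 = N4644 := flp_b L25495
theorem L25497 : sm gd N2534 = N4645 := rfl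
theorem L25499 : sm gb N4645 = N2567 := ded_14_1 L13540 L13404 L25497
theorem L25501 : sm gb N2535 = N4646 := rfl
theorem L25505 : sm gc N4646 = N2568 := ded_13_2 L13542 L6757 L6663 L13409 L25501
theorem L25513 : sm gf N2535 = N4648 := rfl
theorem L25514 : sm gf N4648 = N2535 := flp_f L25513
theorem L25515 : sm ga N4648 = N4527 := ded_11_1 L24797 L13412 L25513
theorem L25517 : sm gc N4648 = N2536 := ded_20_1 L13414 L13409 L25513
theorem L25518 : sm gc N2536 = N4648 := flp_c L25517
theorem L25519 : sm gg N2535 = N4649 := rfl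
theorem L25521 : sm ga N4649 = N4528 := ded_12_1 L24801 L13412 L25519
theorem L25525 : sm gd N2536 = N4650 := rfl
theorem L25527 : sm ga N4650 = N4531 := ded_9_1 L24817 L13416 L25525
theorem L25529 : sm gb N4650 = N2572 := ded_14_1 L13559 L13418 L25525
theorem L25530 : sm gb N2572 = N4650 := flp_b L25529
theorem L25537 : sm gg N2536 = N4651 := rfl
theorem L25538 : sm gg N4651 = N2536 := flp_g L25537
theorem L25539 : sm ga N4651 = N4532 := ded_12_1 L24823 L13416 L25537
theorem L25541 : sm gb N4651 = N2573 := ded_17_1 L13567 L13418 L25537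
theorem L25543 : sm gf N4635 = N4651 := ded_28_0 L25538 L13414 L13419 L25456
theorem L25544 : sm gf N4651 = N4635 := flp_f L25543
theorem L25545 : sm gd N2537 = N4652 := rfl
theorem L25549 : sm gb N4652 = N2574 := ded_14_1 L13571 L13424 L25545
theorem L25553 : sm ge N4644 = N4652 := ded_15_0 L25549 L13576 L25496
theorem L25554 : sm ge N4652 = N4644 := flp_e L25553
theorem L25555 : sm gf N4643 = N4652 := ded_16_0 L25549 L13574 L25490
theorem L25557 : sm gf N2537 = N4653 := rfl
theorem L25559 : sm ga N4653 = N4534 := ded_11_1 L24835 L13422 L25557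
theorem L25561 : sm gb N4653 = N2575 := ded_16_1 L13579 L13424 L25557
theorem L25563 : sm ge N4653 = N4651 := ded_25_1 L25544 L25455 L25557
theorem L25564 : sm ge N4651 = N4653 := flp_e L25563
theorem L25567 : sm gc N2538 = N4654 := rfl
theorem L25569 : sm ga N4654 = N4535 := ded_8_1 L24843 L13428 L25567
theorem L25571 : sm gg N4654 = N2540 := ded_21_2 L13442 L13432 L25567
theorem L25572 : sm gg N2540 = N4654 := flp_g L25571
theorem L25573 : sm ge N2538 = N4655 := rfl
theorem L25575 : sm ga N4655 = N4536 := ded_10_1 L24845 L13428 L25573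
theorem L25577 : sm gb N4655 = N2577 := ded_15_1 L13589 L13430 L25573
theorem L25578 : sm gb N2577 = N4655 := flp_b L25577
theorem L25591 : sm ge N2539 = N4657 := rfl
theorem L25593 : sm ga N4657 = N4538 := ded_10_1 L24851 L13436 L25591
theorem L25594 : sm ga N4538 = N4657 := flp_a L25593
theorem L25595 : sm gb N4657 = N2579 := ded_15_1 L13601 L13438 L25591
theorem L25603 : sm gb N2540 = N4658 := rfl
theorem L25605 : sm gc N4658 = N2580 := ded_13_2 L13609 L6771 L6687 L13441 L25603
theorem L25613 : sm gb N2542 = N4661 := rfl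
theorem L25615 : sm gc N4661 = N2583 := ded_13_2 L13617 L6775 L6699 L13447 L25613
theorem L25623 : sm gf N2544 = N4664 := rfl
theorem L25624 : sm gf N4664 = N2544 := flp_f L25623
theorem L25625 : sm ga N4664 = N2546 := ded_11_1 L13460 L13453 L25623
theorem L25626 : sm ga N2546 = N4664 := flp_a L25625
theorem L25627 : sm gg N2544 = N4665 := rfl
theorem L25628 : sm gg N4665 = N2544 := flp_g L25627
theorem L25629 : sm ga N4665 = N2547 := ded_12_1 L13464 L13453 L25627
theorem L25630 : sm ga N2547 = N4665 := flp_a L25629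
theorem L25631 : sm gd N2545 = N4666 := rfl
theorem L25632 : sm gd N4666 = N2545 := flp_d L25631
theorem L25633 : sm gb N4666 = N2548 := ded_14_1 L13468 L13458 L25631
theorem L25634 : sm gb N2548 = N4666 := flp_b L25633
theorem L25635 : sm gf N2545 = N4667 := rfl
theorem L25636 : sm gf N4667 = N2545 := flp_f L25635
theorem L25637 : sm gb N4667 = N2549 := ded_16_1 L13470 L13458 L25635
theorem L25638 : sm gb N2549 = N4667 := flp_b L25637
theorem L25639 : sm ge N4667 = N2546 := ded_25_1 L13460 L13455 L25635
theorem L25640 : sm ge N2546 = N4667 := flp_e L25639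
theorem L25641 : sm gg N2545 = N4668 := rfl
theorem L25642 : sm gg N4668 = N2545 := flp_g L25641
theorem L25643 : sm gb N4668 = N2550 := ded_17_1 L13476 L13458 L25641
theorem L25644 : sm gb N2550 = N4668 := flp_b L25643
theorem L25645 : sm ge N4668 = N2547 := ded_26_1 L13464 L13455 L25641
theorem L25646 : sm ge N2547 = N4668 := flp_e L25645
theorem L25647 : sm gd N2546 = N4669 := rfl
theorem L25648 : sm gd N4669 = N2546 := flp_d L25647
theorem L25649 : sm gb N4669 = N2551 := ded_14_1 L13482 L13462 L25647
theorem L25651 : sm gg N2546 = N4670 := rfl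
theorem L25652 : sm gg N4670 = N2546 := flp_g L25651
theorem L25653 : sm gb N4670 = N2552 := ded_17_1 L13484 L13462 L25651
theorem L25654 : sm gb N2552 = N4670 := flp_b L25653
theorem L25655 : sm gf N4668 = N4670 := ded_28_0 L25652 L13460 L13463 L25646
theorem L25656 : sm gf N4670 = N4668 := flp_f L25655
theorem L25657 : sm gd N2547 = N4671 := rfl
theorem L25658 : sm gd N4671 = N2547 := flp_d L25657
theorem L25659 : sm gb N4671 = N2553 := ded_14_1 L13490 L13466 L25657
theorem L25660 : sm gb N2553 = N4671 := flp_b L25659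
theorem L25661 : sm gf N2547 = N4672 := rfl
theorem L25662 : sm gf N4672 = N2547 := flp_f L25661
theorem L25663 : sm gb N4672 = N2554 := ded_16_1 L13492 L13466 L25661
theorem L25664 : sm gb N2554 = N4672 := flp_b L25663
theorem L25665 : sm ge N4672 = N4670 := ded_25_1 L25656 L25645 L25661
theorem L25666 : sm ge N4670 = N4672 := flp_e L25665
theorem L25667 : sm gg N4672 = N4667 := ded_28_3 L25639 L13460 L13463 L25661
theorem L25668 : sm gg N4667 = N4672 := flp_g L25667
theorem L25669 : sm gf N2548 = N4673 := rfl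
theorem L25670 : sm gf N4673 = N2548 := flp_f L25669
theorem L25671 : sm gc N4673 = N2906 := ded_20_1 L15480 L15052 L25669
theorem L25672 : sm gc N2906 = N4673 := flp_c L25671
theorem L25673 : sm gg N2548 = N4674 := rfl
theorem L25674 : sm gg N4674 = N2548 := flp_g L25673
theorem L25675 : sm gc N4674 = N2907 := ded_21_1 L15482 L15052 L25673
theorem L25676 : sm gc N2907 = N4674 := flp_c L25675
theorem L25677 : sm gd N2549 = N4675 := rfl
theorem L25678 : sm gd N4675 = N2549 := flp_d L25677
theorem L25679 : sm gd N2550 = N4676 := rfl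
theorem L25680 : sm gd N4676 = N2550 := flp_d L25679
theorem L25681 : sm gc N2551 = N4677 := rfl
theorem L25682 : sm gc N4677 = N2551 := flp_c L25681
theorem L25683 : sm ge N2551 = N4678 := rfl
theorem L25684 : sm ge N4678 = N2551 := flp_e L25683
theorem L25685 : sm gg N2551 = N4679 := rfl
theorem L25686 : sm gg N4679 = N2551 := flp_g L25685
theorem L25687 : sm gd N2552 = N4680 := rfl
theorem L25688 : sm gd N4680 = N2552 := flp_d L25687
theorem L25691 : sm ge N2553 = N4682 := rfl
theorem L25692 : sm ge N4682 = N2553 := flp_e L25691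
theorem L25693 : sm gf N2553 = N4683 := rfl
theorem L25694 : sm gf N4683 = N2553 := flp_f L25693
theorem L25695 : sm gd N2554 = N4684 := rfl
theorem L25696 : sm gd N4684 = N2554 := flp_d L25695
theorem L25697 : sm gf N2555 = N4685 := rfl
theorem L25698 : sm gf N4685 = N2555 := flp_f L25697
theorem L25699 : sm gb N4685 = N4664 := ded_16_1 L25624 L13503 L25697
theorem L25700 : sm gb N4664 = N4685 := flp_b L25699
theorem L25701 : sm gc N4685 = N2556 := ded_20_1 L13506 L13499 L25697
theorem L25702 : sm gc N2556 = N4685 := flp_c L25701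
theorem L25703 : sm ge N4685 = N2570 := ded_25_1 L13551 L13502 L25697
theorem L25704 : sm ge N2570 = N4685 := flp_e L25703
theorem L25705 : sm gg N2555 = N4686 := rfl
theorem L25706 : sm gg N4686 = N2555 := flp_g L25705
theorem L25707 : sm gb N4686 = N4665 := ded_17_1 L25628 L13503 L25705
theorem L25708 : sm gb N4665 = N4686 := flp_b L25707
theorem L25709 : sm gc N4686 = N2557 := ded_21_1 L13510 L13499 L25705
theorem L25710 : sm gc N2557 = N4686 := flp_c L25709
theorem L25711 : sm ge N4686 = N2571 := ded_26_1 L13555 L13502 L25705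
theorem L25712 : sm ge N2571 = N4686 := flp_e L25711
theorem L25713 : sm gd N2556 = N4687 := rfl
theorem L25714 : sm gd N4687 = N2556 := flp_d L25713
theorem L25715 : sm gf N4687 = N2558 := ded_23_2 L13514 L6731 L6726 L13505 L25713
theorem L25716 : sm gf N2558 = N4687 := flp_f L25715
theorem L25717 : sm gd N2557 = N4688 := rfl
theorem L25718 : sm gd N4688 = N2557 := flp_d L25717
theorem L25719 : sm gg N4688 = N2559 := ded_24_2 L13516 L6735 L6726 L13509 L25717
theorem L25720 : sm gg N2559 = N4688 := flp_g L25719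
theorem L25721 : sm gc N2558 = N4689 := rfl
theorem L25722 : sm gc N4689 = N2558 := flp_c L25721
theorem L25723 : sm ge N2558 = N4690 := rfl
theorem L25724 : sm ge N4690 = N2558 := flp_e L25723
theorem L25725 : sm gd N4690 = N2561 := ded_22_1 L13522 L6739 L6733 L13513 L25723
theorem L25726 : sm gd N2561 = N4690 := flp_d L25725
theorem L25727 : sm gg N2558 = N4691 := rfl
theorem L25728 : sm gg N4691 = N2558 := flp_g L25727
theorem L25729 : sm gc N2559 = N4692 := rfl
theorem L25730 : sm gc N4692 = N2559 := flp_c L25729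
theorem L25731 : sm ge N2559 = N4693 := rfl
theorem L25732 : sm ge N4693 = N2559 := flp_e L25731
theorem L25733 : sm gd N4693 = N2565 := ded_22_1 L13534 L6747 L6737 L13515 L25731
theorem L25734 : sm gd N2565 = N4693 := flp_d L25733
theorem L25735 : sm gf N2559 = N4694 := rfl
theorem L25736 : sm gf N4694 = N2559 := flp_f L25735
theorem L25737 : sm gb N2560 = N4695 := rfl
theorem L25738 : sm gb N4695 = N2560 := flp_b L25737
theorem L25739 : sm gf N4695 = N2580 := ded_16_2 L13609 L13520 L25737
theorem L25740 : sm gf N2580 = N4695 := flp_f L25739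
theorem L25741 : sm gd N2560 = N4696 := rfl
theorem L25742 : sm gd N4696 = N2560 := flp_d L25741
theorem L25743 : sm ge N2560 = N4697 := rfl
theorem L25744 : sm ge N4697 = N2560 := flp_e L25743
theorem L25745 : sm gc N4697 = N2561 := ded_19_1 L13522 L13517 L25743
theorem L25746 : sm gc N2561 = N4697 := flp_c L25745
theorem L25747 : sm gf N4697 = N2582 := ded_25_2 L13613 L13520 L25743
theorem L25748 : sm gf N2582 = N4697 := flp_f L25747
theorem L25749 : sm gg N2560 = N4698 := rfl
theorem L25750 : sm gg N4698 = N2560 := flp_g L25749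
theorem L25751 : sm gc N4698 = N2562 := ded_21_1 L13526 L13517 L25749
theorem L25752 : sm gc N2562 = N4698 := flp_c L25751
theorem L25753 : sm gd N2562 = N4699 := rfl
theorem L25754 : sm gd N4699 = N2562 := flp_d L25753
theorem L25755 : sm ge N4699 = N4687 := ded_22_2 L25714 L13507 L13558 L13565 L25753
theorem L25756 : sm ge N4687 = N4699 := flp_e L25755
theorem L25757 : sm gf N4699 = N4690 := ded_23_2 L25725 L13523 L13595 L13590 L25753
theorem L25758 : sm gf N4690 = N4699 := flp_f L25757
theorem L25759 : sm gg N4699 = N2563 := ded_24_2 L13528 L6743 L6738 L13525 L25753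
theorem L25760 : sm gg N2563 = N4699 := flp_g L25759
theorem L25761 : sm gf N4691 = N2563 := ded_28_2 L25760 L25755 L25715 L25727
theorem L25762 : sm gf N2563 = N4691 := flp_f L25761
theorem L25763 : sm gd N4694 = N4691 := ded_23_5 L25761 L13528 L6745 L13515 L25735
theorem L25764 : sm gd N4691 = N4694 := flp_d L25763
theorem L25765 : sm gg N2567 = N4694 := ded_24_0 L25763 L25728 L13514 L6755 L13539
theorem L25766 : sm gg N4694 = N2567 := flp_g L25765
theorem L25767 : sm gc N2563 = N4700 := rfl
theorem L25768 : sm gc N4700 = N2563 := flp_c L25767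
theorem L25769 : sm ge N2563 = N4701 := rfl
theorem L25770 : sm ge N4701 = N2563 := flp_e L25769
theorem L25771 : sm gg N4701 = N4687 := ded_26_2 L25756 L25759 L25769
theorem L25772 : sm gg N4687 = N4701 := flp_g L25771
theorem L25773 : sm gb N2564 = N4702 := rfl
theorem L25774 : sm gb N4702 = N2564 := flp_b L25773
theorem L25775 : sm gg N4702 = N2583 := ded_17_2 L13617 L13532 L25773
theorem L25776 : sm gg N2583 = N4702 := flp_g L25775
theorem L25777 : sm gd N2564 = N4703 := rfl
theorem L25778 : sm gd N4703 = N2564 := flp_d L25777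
theorem L25779 : sm ge N2564 = N4704 := rfl
theorem L25780 : sm ge N4704 = N2564 := flp_e L25779
theorem L25781 : sm gc N4704 = N2565 := ded_19_1 L13534 L13529 L25779
theorem L25782 : sm gc N2565 = N4704 := flp_c L25781
theorem L25783 : sm gg N4704 = N2585 := ded_26_2 L13621 L13532 L25779
theorem L25784 : sm gg N2585 = N4704 := flp_g L25783
theorem L25785 : sm gf N2564 = N4705 := rfl
theorem L25786 : sm gf N4705 = N2564 := flp_f L25785
theorem L25787 : sm gc N4705 = N2566 := ded_20_1 L13538 L13529 L25785
theorem L25788 : sm gc N2566 = N4705 := flp_c L25787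
theorem L25789 : sm gd N2566 = N4706 := rfl
theorem L25790 : sm gd N4706 = N2566 := flp_d L25789
theorem L25791 : sm ge N4706 = N4688 := ded_22_2 L25718 L13511 L13570 L13576 L25789
theorem L25792 : sm ge N4688 = N4706 := flp_e L25791
theorem L25793 : sm gf N4706 = N2567 := ded_23_2 L13540 L6751 L6746 L13537 L25789
theorem L25794 : sm gf N2567 = N4706 := flp_f L25793
theorem L25795 : sm gg N4706 = N4693 := ded_24_2 L25733 L13535 L13607 L13604 L25789
theorem L25796 : sm gg N4693 = N4706 := flp_g L25795
theorem L25797 : sm gc N2567 = N4707 := rfl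
theorem L25798 : sm gc N4707 = N2567 := flp_c L25797
theorem L25799 : sm ge N2567 = N4708 := rfl
theorem L25800 : sm ge N4708 = N2567 := flp_e L25799
theorem L25801 : sm gf N4708 = N4688 := ded_25_2 L25792 L25793 L25799
theorem L25802 : sm gf N4688 = N4708 := flp_f L25801
theorem L25803 : sm gd N4708 = N4701 := ded_22_1 L25770 L13528 L6753 L13539 L25799
theorem L25804 : sm gd N4701 = N4708 := flp_d L25803
theorem L25805 : sm gd N2568 = N4709 := rfl
theorem L25806 : sm gd N4709 = N2568 := flp_d L25805
theorem L25807 : sm ga N4709 = N4666 := ded_9_1 L25632 L13545 L25805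
theorem L25809 : sm gb N4709 = N2569 := ded_14_1 L13548 L13541 L25805
theorem L25811 : sm gf N2568 = N4710 := rfl
theorem L25812 : sm gf N4710 = N2568 := flp_f L25811
theorem L25813 : sm ga N4710 = N4667 := ded_11_1 L25636 L13545 L25811
theorem L25814 : sm ga N4667 = N4710 := flp_a L25813
theorem L25815 : sm gb N4710 = N2570 := ded_16_1 L13551 L13541 L25811
theorem L25816 : sm gb N2570 = N4710 := flp_b L25815
theorem L25817 : sm ge N4710 = N4664 := ded_25_1 L25624 L13544 L25811
theorem L25818 : sm ge N4664 = N4710 := flp_e L25817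
theorem L25819 : sm gg N2568 = N4711 := rfl
theorem L25820 : sm gg N4711 = N2568 := flp_g L25819
theorem L25821 : sm ga N4711 = N4668 := ded_12_1 L25642 L13545 L25819
theorem L25822 : sm ga N4668 = N4711 := flp_a L25821
theorem L25823 : sm gb N4711 = N2571 := ded_17_1 L13555 L13541 L25819
theorem L25824 : sm gb N2571 = N4711 := flp_b L25823
theorem L25825 : sm ge N4711 = N4665 := ded_26_1 L25628 L13544 L25819
theorem L25826 : sm ge N4665 = N4711 := flp_e L25825
theorem L25827 : sm gf N2569 = N4712 := rfl
theorem L25828 : sm gf N4712 = N2569 := flp_f L25827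
theorem L25830 : sm gg N2569 = N4713 := rfl
theorem L25831 : sm gg N4713 = N2569 := flp_g L25830
theorem L25833 : sm gd N2570 = N4714 := rfl
theorem L25834 : sm gd N4714 = N2570 := flp_d L25833
theorem L25835 : sm gg N2570 = N4715 := rfl
theorem L25836 : sm gg N4715 = N2570 := flp_g L25835
theorem L25837 : sm gc N4715 = N2573 := ded_21_1 L13567 L13553 L25835
theorem L25838 : sm gc N2573 = N4715 := flp_c L25837
theorem L25839 : sm gf N4686 = N4715 := ded_28_0 L25836 L13551 L13554 L25712
theorem L25840 : sm gf N4715 = N4686 := flp_f L25839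
theorem L25841 : sm gd N2571 = N4716 := rfl
theorem L25842 : sm gd N4716 = N2571 := flp_d L25841
theorem L25843 : sm gf N2571 = N4717 := rfl
theorem L25844 : sm gf N4717 = N2571 := flp_f L25843
theorem L25845 : sm gc N4717 = N2575 := ded_20_1 L13579 L13557 L25843
theorem L25847 : sm ge N4717 = N4715 := ded_25_1 L25840 L25711 L25843
theorem L25849 : sm gg N4717 = N4685 := ded_28_3 L25703 L13551 L13554 L25843
theorem L25851 : sm gc N2572 = N4718 := rfl
theorem L25852 : sm gc N4718 = N2572 := flp_c L25851
theorem L25853 : sm ge N4718 = N4698 := ded_19_2 L25751 L13564 L25851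
theorem L25854 : sm ge N4698 = N4718 := flp_e L25853
theorem L25855 : sm gf N4718 = N2576 := ded_20_2 L13585 L13561 L25851
theorem L25856 : sm gf N2576 = N4718 := flp_f L25855
theorem L25857 : sm gg N4718 = N4697 := ded_21_2 L25745 L13562 L25851
theorem L25858 : sm gg N4697 = N4718 := flp_g L25857
theorem L25859 : sm gd N4718 = N4697 := ded_31_2 L25745 L13562 L13560 L6763 L3378 L1719 L1713 L865 L1687 L1685 L1680 L3388 L6770 L13587 L25856
theorem L25860 : sm gd N4697 = N4718 := flp_d L25859
theorem L25861 : sm gd N2573 = N4719 := rfl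
theorem L25862 : sm gd N4719 = N2573 := flp_d L25861
theorem L25863 : sm gf N4719 = N4701 := ded_23_2 L25804 L25801 L25718 L13568 L25861
theorem L25864 : sm gf N4701 = N4719 := flp_f L25863
theorem L25865 : sm gg N4719 = N4690 := ded_24_2 L25725 L13562 L13559 L13566 L25861
theorem L25866 : sm gg N4690 = N4719 := flp_g L25865
theorem L25867 : sm ge N4691 = N4719 := ded_25_3 L25863 L25770 L25762
theorem L25868 : sm ge N4719 = N4691 := flp_e L25867
theorem L25869 : sm gc N2574 = N4720 := rfl
theorem L25870 : sm gc N4720 = N2574 := flp_c L25869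
theorem L25871 : sm ge N4720 = N4705 := ded_19_2 L25787 L13577 L25869
theorem L25872 : sm ge N4705 = N4720 := flp_e L25871
theorem L25873 : sm gf N4720 = N4704 := ded_20_2 L25781 L13575 L25869
theorem L25874 : sm gf N4704 = N4720 := flp_f L25873
theorem L25875 : sm gg N4720 = N2578 := ded_21_2 L13597 L13573 L25869
theorem L25876 : sm gg N2578 = N4720 := flp_g L25875
theorem L25877 : sm gd N2575 = N4721 := rfl
theorem L25878 : sm gd N4721 = N2575 := flp_d L25877
theorem L25879 : sm ge N4721 = N4694 := ded_22_2 L25763 L25867 L25862 L13581 L25877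
theorem L25880 : sm ge N4694 = N4721 := flp_e L25879
theorem L25881 : sm gf N4721 = N4693 := ded_23_2 L25733 L13575 L13571 L13578 L25877
theorem L25882 : sm gf N4693 = N4721 := flp_f L25881
theorem L25883 : sm gg N4721 = N4708 := ded_24_2 L25803 L25771 L25714 L13583 L25877
theorem L25884 : sm gg N4708 = N4721 := flp_g L25883
theorem L25885 : sm gb N2576 = N4722 := rfl
theorem L25886 : sm gb N4722 = N2576 := flp_b L25885
theorem L25887 : sm gg N4722 = N2580 := ded_17_2 L13609 L13587 L25885
theorem L25888 : sm gg N2580 = N4722 := flp_g L25887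
theorem L25889 : sm gd N2576 = N4723 := rfl
theorem L25890 : sm gd N4723 = N2576 := flp_d L25889
theorem L25891 : sm ge N2576 = N4724 := rfl
theorem L25892 : sm ge N4724 = N2576 := flp_e L25891
theorem L25893 : sm gc N4724 = N2577 := ded_19_1 L13589 L13584 L25891
theorem L25894 : sm gc N2577 = N4724 := flp_c L25893
theorem L25895 : sm gf N4724 = N4698 := ded_25_2 L25854 L25855 L25891
theorem L25896 : sm gf N4698 = N4724 := flp_f L25895
theorem L25897 : sm gg N4724 = N2582 := ded_26_2 L13613 L13587 L25891
theorem L25898 : sm gg N2582 = N4724 := flp_g L25897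
theorem L25899 : sm gb N2578 = N4725 := rfl
theorem L25900 : sm gb N4725 = N2578 := flp_b L25899
theorem L25901 : sm gf N4725 = N2583 := ded_16_2 L13617 L13599 L25899
theorem L25902 : sm gf N2583 = N4725 := flp_f L25901
theorem L25903 : sm gd N2578 = N4726 := rfl
theorem L25904 : sm gd N4726 = N2578 := flp_d L25903
theorem L25905 : sm ge N2578 = N4727 := rfl
theorem L25906 : sm ge N4727 = N2578 := flp_e L25905
theorem L25907 : sm gc N4727 = N2579 := ded_19_1 L13601 L13596 L25905
theorem L25908 : sm gc N2579 = N4727 := flp_c L25907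
theorem L25909 : sm gf N4727 = N2585 := ded_25_2 L13621 L13599 L25905
theorem L25910 : sm gf N2585 = N4727 := flp_f L25909
theorem L25911 : sm gg N4727 = N4705 := ded_26_2 L25872 L25875 L25905
theorem L25912 : sm gg N4705 = N4727 := flp_g L25911
theorem L25913 : sm ga N2580 = N4728 := rfl
theorem L25914 : sm ga N4728 = N2580 := flp_a L25913
theorem L25915 : sm gb N4728 = N4724 := ded_29_7 L25893 L13589 L13153 L13334 L25331 L25333 L25603 L25605 L25913
theorem L25916 : sm gb N4724 = N4728 := flp_b L25915
theorem L25917 : sm ge N4722 = N4728 := ded_15_0 L25915 L25892 L25885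
theorem L25918 : sm ge N4728 = N4722 := flp_e L25917
theorem L25919 : sm gd N2580 = N4729 := rfl
theorem L25920 : sm gd N4729 = N2580 := flp_d L25919
theorem L25921 : sm gb N4729 = N2581 := ded_14_1 L13611 L13608 L25919
theorem L25922 : sm gb N2581 = N4729 := flp_b L25921
theorem L25923 : sm ge N2580 = N4730 := rfl
theorem L25924 : sm ge N4730 = N2580 := flp_e L25923
theorem L25925 : sm ga N4730 = N4722 := ded_10_1 L25917 L25914 L25923
theorem L25926 : sm ga N4722 = N4730 := flp_a L25925
theorem L25927 : sm gb N4730 = N2582 := ded_15_1 L13613 L13608 L25923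
theorem L25928 : sm gb N2582 = N4730 := flp_b L25927
theorem L25929 : sm gg N4730 = N4728 := ded_26_2 L25918 L25887 L25923
theorem L25930 : sm gg N4728 = N4730 := flp_g L25929
theorem L25931 : sm gc N2581 = N4731 := rfl
theorem L25932 : sm gc N4731 = N2581 := flp_c L25931
theorem L25933 : sm gd N4731 = N4575 := ded_30_9 L25072 L13675 L6809 L3418 L1701 L1683 L3388 L6770 L13610 L25931
theorem L25934 : sm gd N4575 = N4731 := flp_d L25933
theorem L25935 : sm ge N2581 = N4732 := rfl
theorem L25936 : sm ge N4732 = N2581 := flp_e L25935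
theorem L25937 : sm gf N2581 = N4733 := rfl
theorem L25938 : sm gf N4733 = N2581 := flp_f L25937
theorem L25939 : sm gg N2581 = N4734 := rfl
theorem L25940 : sm gg N4734 = N2581 := flp_g L25939
theorem L25941 : sm gd N2582 = N4735 := rfl
theorem L25942 : sm gd N4735 = N2582 := flp_d L25941
theorem L25943 : sm gf N4735 = N4723 := ded_23_2 L25890 L25856 L25859 L25747 L25941
theorem L25944 : sm gf N4723 = N4735 := flp_f L25943
theorem L25945 : sm ga N2583 = N4736 := rfl
theorem L25946 : sm ga N4736 = N2583 := flp_a L25945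
theorem L25947 : sm gb N4736 = N4727 := ded_29_7 L25907 L13601 L13159 L13342 L25347 L25349 L25613 L25615 L25945
theorem L25948 : sm gb N4727 = N4736 := flp_b L25947
theorem L25949 : sm ge N4725 = N4736 := ded_15_0 L25947 L25906 L25899
theorem L25950 : sm ge N4736 = N4725 := flp_e L25949
theorem L25951 : sm gd N2583 = N4737 := rfl
theorem L25952 : sm gd N4737 = N2583 := flp_d L25951
theorem L25953 : sm gb N4737 = N2584 := ded_14_1 L13619 L13616 L25951
theorem L25954 : sm gb N2584 = N4737 := flp_b L25953
theorem L25955 : sm ge N2583 = N4738 := rfl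
theorem L25956 : sm ge N4738 = N2583 := flp_e L25955
theorem L25957 : sm ga N4738 = N4725 := ded_10_1 L25949 L25946 L25955
theorem L25958 : sm ga N4725 = N4738 := flp_a L25957
theorem L25959 : sm gb N4738 = N2585 := ded_15_1 L13621 L13616 L25955
theorem L25960 : sm gb N2585 = N4738 := flp_b L25959
theorem L25961 : sm gf N4738 = N4736 := ded_25_2 L25950 L25901 L25955
theorem L25962 : sm gf N4736 = N4738 := flp_f L25961
theorem L25963 : sm ge N2584 = N4739 := rfl
theorem L25964 : sm ge N4739 = N2584 := flp_e L25963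
theorem L25965 : sm gf N2584 = N4740 := rfl
theorem L25966 : sm gf N4740 = N2584 := flp_f L25965
theorem L25967 : sm gg N2584 = N4741 := rfl
theorem L25968 : sm gg N4741 = N2584 := flp_g L25967
theorem L25969 : sm gd N2585 = N4742 := rfl
theorem L25970 : sm gd N4742 = N2585 := flp_d L25969
theorem L25979 : sm gd N2586 = N4744 := rfl
theorem L25981 : sm gb N4744 = N2587 := ded_14_1 L13629 L13624 L25979
theorem L25982 : sm gb N2587 = N4744 := flp_b L25981
theorem L25983 : sm ge N2586 = N4745 := rfl
theorem L25989 : sm gc N4745 = N2712 := ded_19_1 L14312 L13627 L25983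
theorem L25999 : sm gc N2587 = N4747 := rfl
theorem L26000 : sm gc N4747 = N2587 := flp_c L25999
theorem L26019 : sm gf N2589 = N4754 := rfl
theorem L26020 : sm gf N4754 = N2589 := flp_f L26019
theorem L26027 : sm gg N4754 = N4570 := ded_28_3 L25035 L13182 L13634 L26019
theorem L26028 : sm gg N4570 = N4754 := flp_g L26027
theorem L26029 : sm gd N2592 = N4755 := rfl
theorem L26031 : sm gb N4755 = N2593 := ded_14_1 L13664 L13658 L26029
theorem L26032 : sm gb N2593 = N4755 := flp_b L26031
theorem L26040 : sm gc N2593 = N4757 := rfl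
theorem L26041 : sm gc N4757 = N2593 := flp_c L26040
theorem L26042 : sm ge N2593 = N4758 := rfl
theorem L26043 : sm ge N4758 = N2593 := flp_e L26042
theorem L26044 : sm gd N4758 = N4758 := ded_22_1 L26043 L13664 L6792 L13663 L26042
theorem L26045 : sm gf N2593 = N4759 := rfl
theorem L26046 : sm gf N4759 = N2593 := flp_f L26045
theorem L26047 : sm gg N2593 = N4760 := rfl
theorem L26048 : sm gg N4760 = N2593 := flp_g L26047
theorem L26059 : sm gf N2595 = N4764 := rfl
theorem L26060 : sm gf N4764 = N2595 := flp_f L26059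
theorem L26061 : sm gb N4764 = N2598 := ded_16_1 L13679 L13673 L26059
theorem L26062 : sm gb N2598 = N4764 := flp_b L26061
theorem L26063 : sm gd N4764 = N2619 := ded_23_1 L13785 L6877 L6801 L13670 L26059
theorem L26064 : sm gd N2619 = N4764 := flp_d L26063
theorem L26065 : sm gg N2595 = N4765 := rfl
theorem L26067 : sm gb N4765 = N2599 := ded_17_1 L13683 L13673 L26065
theorem L26069 : sm gd N4765 = N3323 := ded_24_1 L17550 L8703 L6805 L13670 L26065
theorem L26071 : sm gb N2596 = N4766 := rfl
theorem L26072 : sm gb N4766 = N2596 := flp_b L26071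
theorem L26073 : sm gd N2596 = N4767 := rfl
theorem L26074 : sm gd N4767 = N2596 := flp_d L26073
theorem L26075 : sm ga N4767 = N4731 := ded_9_1 L25933 L25072 L26073
theorem L26077 : sm gc N4563 = N4767 := ded_30_0 L26074 L13675 L6809 L3418 L1701 L1683 L3388 L6770 L13610 L25003
theorem L26078 : sm gc N4767 = N4563 := flp_c L26077
theorem L26083 : sm gf N2596 = N4769 := rfl
theorem L26084 : sm gf N4769 = N2596 := flp_f L26083
theorem L26087 : sm gg N2596 = N4770 := rfl
theorem L26088 : sm gg N4770 = N2596 := flp_g L26087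
theorem L26109 : sm gd N2599 = N4775 := rfl
theorem L26110 : sm gd N4775 = N2599 := flp_d L26109
theorem L26111 : sm ga N4775 = N3411 := ded_9_1 L25095 L25090 L26109
theorem L26115 : sm gg N4775 = N2601 := ded_24_2 L13689 L6821 L6808 L13682 L26109
theorem L26116 : sm gg N2601 = N4775 := flp_g L26115
theorem L26117 : sm gc N2873 = N4775 := ded_8_0 L26111 L17976 L15278
theorem L26118 : sm gc N4775 = N2873 := flp_c L26117
theorem L26121 : sm gf N2872 = N4775 := ded_11_0 L26111 L17981 L15270
theorem L26131 : sm gf N2600 = N4778 := rfl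
theorem L26135 : sm gd N4778 = N2629 := ded_23_1 L13839 L6900 L6817 L13684 L26131
theorem L26137 : sm gg N2600 = N4779 := rfl
theorem L26139 : sm ga N4779 = N2868 := ded_12_1 L25103 L25098 L26137
theorem L26145 : sm ge N2601 = N4780 := rfl
theorem L26147 : sm ga N4780 = N3410 := ded_10_1 L17963 L13691 L26145
theorem L26148 : sm ga N3410 = N4780 := flp_a L26147
theorem L26151 : sm gc N4780 = N2883 := ded_19_1 L15354 L15351 L26145
theorem L26163 : sm gd N2602 = N4782 := rfl
theorem L26165 : sm ga N4782 = N3880 := ded_9_1 L20966 L13697 L26163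
theorem L26167 : sm ge N2602 = N4783 := rfl
theorem L26169 : sm ga N4783 = N3881 := ded_10_1 L20968 L13697 L26167
theorem L26181 : sm ga N2605 = N4785 := rfl
theorem L26183 : sm gc N4785 = N2731 := ded_8_2 L14425 L13719 L26181
theorem L26184 : sm gc N2731 = N4785 := flp_c L26183
theorem L26185 : sm gb N4785 = N4582 := ded_29_4 L25120 L13242 L6842 L7243 L7240 L3627 L7234 L13719 L26181
theorem L26186 : sm gb N4582 = N4785 := flp_b L26185
theorem L26231 : sm gg N2608 = N4795 := rfl
theorem L26232 : sm gg N4795 = N2608 := flp_g L26231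
theorem L26237 : sm gf N4783 = N4795 := ded_28_0 L26232 L13727 L13699 L26167
theorem L26238 : sm gf N4795 = N4783 := flp_f L26237
theorem L26261 : sm gg N2611 = N4799 := rfl
theorem L26262 : sm gg N4799 = N2611 := flp_g L26261
theorem L26263 : sm gb N4799 = N2614 := ded_17_1 L13760 L13747 L26261
theorem L26264 : sm gb N2614 = N4799 := flp_b L26263
theorem L26276 : sm gg N2613 = N4804 := rfl
theorem L26280 : sm ge N4804 = N2614 := ded_26_1 L13760 L13754 L26276
theorem L26286 : sm gc N2616 = N4806 := rfl
theorem L26287 : sm gc N4806 = N2616 := flp_c L26286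
theorem L26288 : sm ga N4806 = N2617 := ded_8_1 L13778 L13774 L26286
theorem L26290 : N4596 = N2622 := coi_29_9 L13806 L13300 L13776 L26286 L26288 L13779 L13778 L13774 L13775 L25227
theorem L26291 : N4596 = N2622 := eqc rfl L26290 rfl
theorem L26292 : sm ga N2622 = N2628 := trfs L26291 L25229 rfl
theorem L26293 : N2628 = N4591 := eqes L26292 L25189
theorem L26294 : N4591 = N2628 := (eqc rfl L26293 rfl).symm
theorem L26295 : sm gc N2622 = N2515 := trfs L26291 L25228 rfl
theorem L26296 : sm gc N2515 = N2622 := flp_c L26295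
theorem L26297 : sm ga N2628 = N2622 := trfs L26294 L25188 rfl
theorem L26298 : sm ga N2622 = N2628 := flp_a L26297
theorem L26299 : sm gd N2628 = N2512 := trfs L26294 L25187 rfl
theorem L26300 : sm gd N2512 = N2628 := flp_d L26299
theorem L26301 : sm ge N2628 = N2515 := trfs L26294 L25190 rfl
theorem L26302 : sm ge N2515 = N2628 := flp_e L26301
theorem L26303 : sm gf N2977 = N4806 := ded_11_0 L26288 L13793 L15819
theorem L26304 : sm gf N4806 = N2977 := flp_f L26303
theorem L26305 : sm ge N2616 = N4807 := rfl
theorem L26307 : sm ga N4807 = N2618 := ded_10_1 L13781 L13774 L26305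
theorem L26308 : sm ga N2618 = N4807 := flp_a L26307
theorem L26311 : sm gd N4807 = N4589 := ded_22_1 L25167 L13279 L6874 L13771 L26305
theorem L26312 : sm gd N4589 = N4807 := flp_d L26311
theorem L26313 : sm gf N2616 = N4808 := rfl
theorem L26314 : sm gf N4808 = N2616 := flp_f L26313
theorem L26315 : sm ga N4808 = N2619 := ded_11_1 L13785 L13774 L26313
theorem L26316 : sm ga N2619 = N4808 := flp_a L26315
theorem L26317 : sm gb N4808 = N4597 := ded_16_1 L25232 L13776 L26313
theorem L26318 : sm gb N4597 = N4808 := flp_b L26317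
theorem L26319 : sm gc N4808 = N2977 := ded_20_1 L26303 L26287 L26313
theorem L26321 : sm gg N2975 = N4808 := ded_31_0 L26314 L13772 L6868 L3725 L2266 L1137 L599 L602 L546 L539 L1015 L2016 L3937 L7896 L15804
theorem L26322 : sm gg N4808 = N2975 := flp_g L26321
theorem L26323 : sm gg N2616 = N4809 := rfl
theorem L26325 : sm ga N4809 = N2620 := ded_12_1 L13795 L13774 L26323
theorem L26331 : sm gd N2617 = N4810 := rfl
theorem L26334 : sm gf N4810 = N3094 := ded_23_2 L16458 L8230 L8297 L13792 L26331
theorem L26336 : sm gd N2618 = N4811 := rfl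
theorem L26337 : sm gd N4811 = N2618 := flp_d L26336
theorem L26338 : sm ga N4811 = N4589 := ded_9_1 L26312 L26307 L26336
theorem L26339 : sm ga N4589 = N4811 := flp_a L26338
theorem L26340 : sm gb N4811 = N2622 := ded_14_1 L13805 L13783 L26336
theorem L26344 : sm gf N2618 = N4812 := rfl
theorem L26346 : sm gb N4812 = N2623 := ded_16_1 L13809 L13783 L26344
theorem L26348 : sm gc N4812 = N3124 := ded_20_1 L16619 L16594 L26344
theorem L26352 : sm gg N4812 = N3123 := ded_28_3 L16606 L16575 L16578 L26344
theorem L26354 : sm gc N2621 = N4813 := rfl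
theorem L26355 : sm gc N4813 = N2621 := flp_c L26354
theorem L26356 : sm ga N4813 = N3104 := ded_8_1 L16508 L13801 L26354
theorem L26358 : sm gg N4813 = N2967 := ded_31_4 L15755 L7881 L3929 L2047 L1033 L540 L285 L554 L587 L1122 L2224 L4288 L6889 L13798 L26354
theorem L26359 : sm gg N2967 = N4813 := flp_g L26358
theorem L26360 : sm gf N2621 = N4814 := rfl
theorem L26362 : sm ga N4814 = N4590 := ded_11_1 L25175 L13801 L26360
theorem L26363 : sm ga N4590 = N4814 := flp_a L26362
theorem L26364 : sm gb N4814 = N2629 := ded_16_1 L13839 L13803 L26360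
theorem L26365 : sm gb N2629 = N4814 := flp_b L26364
theorem L26366 : sm gd N4814 = N3303 := ded_23_1 L17412 L8665 L6889 L13798 L26360
theorem L26368 : sm gg N2621 = N4815 := rfl
theorem L26370 : sm ga N4815 = N3102 := ded_12_1 L16497 L13801 L26368
theorem L26372 : sm gb N4815 = N2630 := ded_17_1 L13841 L13803 L26368
theorem L26373 : sm gb N2630 = N4815 := flp_b L26372
theorem L26374 : sm gc N4815 = N2967 := ded_21_1 L26359 L26355 L26368
theorem L26376 : sm gf N2965 = N4815 := ded_11_0 L26370 L16491 L15749
theorem L26377 : sm gf N4815 = N2965 := flp_f L26376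
theorem L26378 : sm gf N2622 = N4816 := rfl
theorem L26379 : sm gf N4816 = N2622 := flp_f L26378
theorem L26380 : sm gc N4816 = N4597 := ded_20_1 L25232 L26296 L26378
theorem L26381 : sm gc N4597 = N4816 := flp_c L26380
theorem L26382 : sm ge N4816 = N2629 := ded_25_1 L13839 L13807 L26378
theorem L26383 : sm ge N2629 = N4816 := flp_e L26382
theorem L26384 : sm gg N2622 = N4817 := rfl
theorem L26385 : sm gg N4817 = N2622 := flp_g L26384
theorem L26386 : sm gc N4817 = N4598 := ded_21_1 L25236 L26296 L26384
theorem L26387 : sm gc N4598 = N4817 := flp_c L26386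
theorem L26388 : sm ge N4817 = N2630 := ded_26_1 L13841 L13807 L26384
theorem L26389 : sm ge N2630 = N4817 := flp_e L26388
theorem L26390 : sm gd N2623 = N4818 := rfl
theorem L26391 : sm gd N4818 = N2623 := flp_d L26390
theorem L26392 : sm gd N2624 = N4819 := rfl
theorem L26393 : sm gd N4819 = N2624 := flp_d L26392
theorem L26394 : sm gd N2625 = N4820 := rfl
theorem L26395 : sm gd N4820 = N2625 := flp_d L26394
theorem L26396 : sm gb N4820 = N3122 := ded_14_1 L16604 L13821 L26394
theorem L26397 : sm gb N3122 = N4820 := flp_b L26396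
theorem L26398 : sm gc N2626 = N4821 := rfl
theorem L26399 : sm gc N4821 = N2626 := flp_c L26398
theorem L26402 : sm ge N2626 = N4822 := rfl
theorem L26403 : sm ge N4822 = N2626 := flp_e L26402
theorem L26404 : sm gg N4822 = N2633 := ded_26_2 L13847 L13828 L26402
theorem L26405 : sm gg N2633 = N4822 := flp_g L26404
theorem L26406 : sm gf N2626 = N4823 := rfl
theorem L26407 : sm gf N4823 = N2626 := flp_f L26406
theorem L26408 : sm gd N2627 = N4824 := rfl
theorem L26409 : sm gd N4824 = N2627 := flp_d L26408
theorem L26410 : sm gf N2628 = N4825 := rfl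
theorem L26411 : sm gf N4825 = N2628 := flp_f L26410
theorem L26412 : sm ga N4825 = N4816 := ded_11_1 L26379 L26298 L26410
theorem L26413 : sm ga N4816 = N4825 := flp_a L26412
theorem L26414 : sm gc N4825 = N2629 := ded_20_1 L13839 L13836 L26410
theorem L26415 : sm gc N2629 = N4825 := flp_c L26414
theorem L26416 : sm ge N4825 = N4597 := ded_25_1 L25232 L26302 L26410
theorem L26417 : sm ge N4597 = N4825 := flp_e L26416
theorem L26418 : sm gg N2628 = N4826 := rfl
theorem L26419 : sm gg N4826 = N2628 := flp_g L26418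
theorem L26420 : sm ga N4826 = N4817 := ded_12_1 L26385 L26298 L26418
theorem L26422 : sm gc N4826 = N2630 := ded_21_1 L13841 L13836 L26418
theorem L26424 : sm ge N4826 = N4598 := ded_26_1 L25236 L26302 L26418
theorem L26425 : sm ge N4598 = N4826 := flp_e L26424
theorem L26426 : sm gg N2629 = N4827 := rfl
theorem L26427 : sm gg N4827 = N2629 := flp_g L26426
theorem L26428 : sm gf N4817 = N4827 := ded_28_0 L26427 L13839 L13840 L26389
theorem L26429 : sm gf N4827 = N4817 := flp_f L26428
theorem L26430 : sm gd N2630 = N4828 := rfl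
theorem L26432 : sm gg N4828 = N2631 := ded_24_2 L13843 L6902 L6899 L13840 L26430
theorem L26434 : sm gf N2630 = N4829 := rfl
theorem L26435 : sm gf N4829 = N2630 := flp_f L26434
theorem L26436 : sm gb N4829 = N2965 := ded_16_1 L26376 L26372 L26434
theorem L26437 : sm gb N2965 = N4829 := flp_b L26436
theorem L26438 : sm ge N4829 = N4827 := ded_25_1 L26429 L26388 L26434
theorem L26439 : sm ge N4827 = N4829 := flp_e L26438
theorem L26440 : sm gg N4829 = N4816 := ded_28_3 L26382 L13839 L13840 L26434
theorem L26441 : sm gg N4816 = N4829 := flp_g L26440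
theorem L26448 : sm gf N2631 = N4832 := rfl
theorem L26450 : sm gd N4832 = N2882 := ded_23_1 L15335 L13689 L6907 L13842 L26448
theorem L26465 : sm gf N2633 = N4837 := rfl
theorem L26466 : sm gf N4837 = N2633 := flp_f L26465
theorem L26467 : sm ge N4837 = N2634 := ded_25_1 L13849 L13846 L26465
theorem L26469 : sm gg N4823 = N4837 := ded_28_1 L26466 L26405 L26403 L26406
theorem L26470 : sm gg N4837 = N4823 := flp_g L26469
theorem L26471 : sm gg N2634 = N4838 := rfl
theorem L26472 : sm gg N4838 = N2634 := flp_g L26471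
theorem L26473 : sm ge N4838 = N4823 := ded_26_1 L26469 L26467 L26471
theorem L26474 : sm ge N4823 = N4838 := flp_e L26473
theorem L26475 : sm gf N4822 = N4838 := ded_28_0 L26472 L13849 L13828 L26402
theorem L26476 : sm gf N4838 = N4822 := flp_f L26475
theorem L26491 : sm gb N2637 = N4842 := rfl
theorem L26493 : sm gg N4842 = N2655 := ded_17_2 L13953 L13864 L26491
theorem L26495 : sm gc N4842 = N2681 := ded_13_2 L14089 L7048 L6920 L13859 L26491
theorem L26496 : sm gc N2681 = N4842 := flp_c L26495
theorem L26549 : sm gg N2642 = N4851 := rfl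
theorem L26550 : sm gg N4851 = N2642 := flp_g L26549
theorem L26560 : sm gd N4851 = N2760 := ded_24_1 L14567 L7306 L6946 L13887 L26549
theorem L26600 : sm gd N2647 = N4862 := rfl
theorem L26601 : sm gd N4862 = N2647 := flp_d L26600
theorem L26626 : sm gb N2650 = N4866 := rfl
theorem L26628 : sm gc N4866 = N2671 := ded_13_2 L14034 L7013 L6960 L13932 L26626
theorem L26640 : sm gg N2651 = N4870 := rfl
theorem L26642 : sm gb N4870 = N2675 := ded_17_1 L14051 L13937 L26640
theorem L26648 : sm gf N2652 = N4871 := rfl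
theorem L26649 : sm gf N4871 = N2652 := flp_f L26648
theorem L26656 : sm gd N4871 = N3630 := ded_23_1 L19450 L14721 L14006 L14004 L26648
theorem L26658 : sm gb N2653 = N4872 := rfl
theorem L26662 : sm gc N4872 = N2677 := ded_13_2 L14067 L7024 L6964 L13944 L26658
theorem L26663 : sm gc N2677 = N4872 := flp_c L26662
theorem L26670 : sm ga N2655 = N4875 := rfl
theorem L26671 : sm ga N4875 = N2655 := flp_a L26670
theorem L26672 : sm gc N4875 = N2679 := ded_8_2 L14082 L13955 L26670
theorem L26676 : sm ge N4842 = N4875 := ded_29_9 L26671 L13953 L6966 L6918 L6919 L7049 L7047 L14090 L26496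
theorem L26677 : sm ge N4875 = N4842 := flp_e L26676
theorem L26682 : sm ge N2655 = N4877 := rfl
theorem L26686 : sm gb N4877 = N2657 := ded_15_1 L13959 L13952 L26682
theorem L26687 : sm gb N2657 = N4877 := flp_b L26686
theorem L26690 : sm gg N4877 = N4875 := ded_26_2 L26677 L26493 L26682
theorem L26756 : sm gd N2664 = N4895 := rfl
theorem L26758 : sm gb N4895 = N2698 := ded_14_1 L14185 L13994 L26756
theorem L26760 : sm gf N3747 = N4895 := ded_16_0 L26758 L14190 L20127
theorem L26761 : sm gf N4895 = N3747 := flp_f L26760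
theorem L26768 : sm gd N2666 = N4897 := rfl
theorem L26769 : sm gd N4897 = N2666 := flp_d L26768
theorem L26770 : sm ga N4897 = N4897 := ded_9_1 L26769 L14010 L26768
theorem L26771 : sm ge N4897 = N2763 := ded_22_2 L18821 L10837 L10833 L14012 L26768
theorem L26773 : sm gc N4897 = N2764 := ded_30_0 L22996 L22991 L11883 L11907 L11929 L6122 L6986 L14008 L26768 L26770
theorem L26775 : sm gf N2769 = N4897 := ded_25_0 L26771 L14591 L14611
theorem L26777 : sm gg N4408 = N4897 := ded_26_0 L26771 L18818 L24001
theorem L26778 : sm gg N4897 = N4408 := flp_g L26777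
theorem L26779 : sm gg N2666 = N4898 := rfl
theorem L26782 : sm gc N4898 = N2667 := ded_21_1 L14016 L14008 L26779
theorem L26786 : sm gd N4898 = N2685 := ded_24_1 L14125 L23997 L26777 L26769 L26779
theorem L26787 : sm gd N2685 = N4898 := flp_d L26786
theorem L26788 : sm gd N2667 = N4899 := rfl
theorem L26789 : sm gd N4899 = N2667 := flp_d L26788
theorem L26790 : sm ga N4899 = N4899 := ded_9_1 L26789 L14017 L26788
theorem L26791 : sm ge N4899 = N3750 := ded_22_2 L20147 L19453 L14065 L14060 L26788
theorem L26792 : sm ge N3750 = N4899 := flp_e L26791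
theorem L26795 : sm gg N4899 = N2668 := ded_24_2 L14019 L6992 L6986 L14015 L26788
theorem L26797 : sm gc N4899 = N4423 := ded_30_0 L24119 L12587 L6190 L6177 L7065 L14122 L26787 L26782 L26788 L26790
theorem L26798 : sm gc N4423 = N4899 := flp_c L26797
theorem L26799 : sm gc N2668 = N4900 := rfl
theorem L26802 : sm gg N4900 = N4423 := ded_21_2 L26798 L26795 L26799
theorem L26803 : sm gg N4423 = N4900 := flp_g L26802
theorem L26804 : sm ge N2668 = N4901 := rfl
theorem L26807 : sm gf N4901 = N2766 := ded_25_2 L20153 L20154 L26804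
theorem L26809 : sm gg N4901 = N3750 := ded_26_2 L26792 L26795 L26804
theorem L26810 : sm gg N3750 = N4901 := flp_g L26809
theorem L26811 : sm gd N4901 = N4450 := ded_22_1 L24300 L14031 L7008 L14018 L26804
theorem L26813 : sm ga N2671 = N4902 := rfl
theorem L26814 : sm ga N4902 = N2671 := flp_a L26813
theorem L26815 : sm gb N4902 = N2769 := ded_29_7 L14614 L7347 L3683 L7310 L14554 L14556 L26626 L26628 L26813
theorem L26817 : sm ge N2768 = N4902 := ded_15_0 L26815 L14612 L14609
theorem L26823 : sm ge N2671 = N4904 := rfl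
theorem L26824 : sm ge N4904 = N2671 := flp_e L26823
theorem L26825 : sm ga N4904 = N2768 := ded_10_1 L26817 L26814 L26823
theorem L26826 : sm ga N2768 = N4904 := flp_a L26825
theorem L26831 : sm gg N2671 = N4905 := rfl
theorem L26833 : sm gb N4905 = N2674 := ded_17_1 L14046 L14033 L26831
theorem L26835 : sm gc N2672 = N4906 := rfl
theorem L26836 : sm gc N4906 = N2672 := flp_c L26835
theorem L26837 : sm ga N4906 = N4906 := ded_8_1 L26836 L14037 L26835
theorem L26838 : sm ge N4906 = N3592 := ded_19_2 L19975 L19986 L26835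
theorem L26840 : sm gd N2714 = N4906 := ded_30_9 L26837 L26836 L14036 L7013 L3522 L1750 L1800 L3588 L7160 L14323
theorem L26842 : sm gg N3591 = N4906 := ded_26_0 L26838 L19196 L19190
theorem L26843 : sm gg N4906 = N3591 := flp_g L26842
theorem L26846 : sm gf N2672 = N4907 := rfl
theorem L26851 : sm gg N4907 = N3567 := ded_28_1 L19187 L19974 L19986 L26846
theorem L26853 : sm gd N4907 = N2769 := ded_23_1 L26775 L26769 L14013 L14035 L26846
theorem L26854 : sm gd N2769 = N4907 := flp_d L26853
theorem L26855 : sm gg N2672 = N4908 := rfl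
theorem L26858 : sm gc N4908 = N3591 := ded_21_1 L26842 L26836 L26855
theorem L26862 : sm gf N4908 = N3656 := ded_31_1 L19592 L18601 L18603 L9830 L4832 L2728 L2736 L5413 L11055 L20284 L22054 L22062 L26840 L26836 L26855
theorem L26863 : sm gf N3656 = N4908 := flp_f L26862
theorem L26866 : sm gc N3562 = N3656 := ded_20_3 L26863 L26858 L19193
theorem L26867 : sm gc N3656 = N3562 := flp_c L26866
theorem L26868 : sm gd N3559 = N4051 := ded_30_3 L22026 L11289 L9682 L18595 L18600 L19591 L19593 L26867 L18944 L18932
theorem L26869 : sm gd N4051 = N3559 := flp_d L26868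
theorem L26879 : sm gd N2674 = N4910 := rfl
theorem L26880 : sm gd N4910 = N2674 := flp_d L26879
theorem L26923 : sm gf N2681 = N4915 := rfl
theorem L26929 : sm ge N4915 = N4406 := ded_25_1 L23985 L14094 L26923
theorem L26930 : sm ge N4406 = N4915 := flp_e L26929
theorem L26931 : sm gg N4915 = N4407 := ded_28_3 L23992 L12494 L14087 L26923
theorem L26933 : sm gf N2682 = N4916 := rfl
theorem L26934 : sm gf N4916 = N2682 := flp_f L26933
theorem L26938 : sm gd N4916 = N2770 := ded_23_1 L24004 L23998 L12501 L14097 L26933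
theorem L26949 : sm gc N2684 = N4918 := rfl
theorem L26952 : sm gg N4918 = N3841 := ded_21_2 L20728 L14117 L26949
theorem L26953 : sm gg N3841 = N4918 := flp_g L26952
theorem L26954 : sm ge N2684 = N4919 := rfl
theorem L26959 : sm gd N4919 = N3661 := ded_22_1 L19628 L20373 L14109 L14113 L26954
theorem L26961 : sm gf N2684 = N4920 := rfl
theorem L26962 : sm gf N4920 = N2684 := flp_f L26961
theorem L27003 : sm gd N2689 = N4926 := rfl
theorem L27005 : sm gb N4926 = N2695 := ded_14_1 L14166 L14140 L27003
theorem L27007 : sm gf N4926 = N3690 := ded_23_2 L19798 L9990 L14219 L14137 L27003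
theorem L27008 : sm gf N3690 = N4926 := flp_f L27007
theorem L27009 : sm gg N3868 = N4926 := ded_17_0 L27005 L14180 L20885
theorem L27010 : sm gg N4926 = N3868 := flp_g L27009
theorem L27042 : sm gc N2695 = N4931 := rfl
theorem L27045 : sm gf N4931 = N3709 := ded_20_2 L19904 L14223 L27042
theorem L27047 : sm gg N4931 = N3871 := ded_21_2 L20901 L14179 L27042
theorem L27048 : sm gg N3871 = N4931 := flp_g L27047
theorem L27069 : sm ge N2699 = N4934 := rfl
theorem L27070 : sm ge N4934 = N2699 := flp_e L27069
theorem L27073 : sm gg N4934 = N4934 := ded_26_2 L27070 L14234 L27069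
theorem L27097 : sm gc N2705 = N4938 := rfl
theorem L27098 : sm gc N4938 = N2705 := flp_c L27097
theorem L27100 : sm gf N4938 = N3729 := ded_20_2 L21582 L21588 L27097
theorem L27104 : sm ge N3730 = N4938 := ded_25_3 L27100 L20025 L20027
theorem L27106 : sm ge N2705 = N4939 := rfl
theorem L27107 : sm ge N4939 = N2705 := flp_e L27106
theorem L27109 : sm gc N4939 = N3730 := ded_19_1 L27104 L27098 L27106
theorem L27111 : sm gf N4939 = N2718 := ded_25_2 L21584 L21588 L27106
theorem L27113 : sm gg N3978 = N4939 := ded_28_3 L27107 L21587 L21579 L21561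
theorem L27127 : sm gf N2708 = N4942 := rfl
theorem L27128 : sm gf N4942 = N2708 := flp_f L27127
theorem L27129 : sm ga N4942 = N2722 := ded_11_1 L14376 L14291 L27127
theorem L27130 : sm ga N2722 = N4942 := flp_a L27129
theorem L27177 : sm gg N2712 = N4949 := rfl
theorem L27181 : sm gb N4949 = N2719 := ded_17_1 L14341 L14316 L27177
theorem L27187 : sm gd N3489 = N4949 := ded_14_0 L27181 L14350 L18499
theorem L27188 : sm gd N4949 = N3489 := flp_d L27187
theorem L27228 : sm gg N2729 = N4958 := rfl
theorem L27233 : sm ge N4958 = N4208 := ded_26_1 L22939 L20266 L27228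
theorem L27241 : sm gf N2731 = N4960 := rfl
theorem L27247 : sm ge N4960 = N3451 := ded_25_1 L18276 L14651 L27241
theorem L27248 : sm ge N3451 = N4960 := flp_e L27247
theorem L27271 : sm gd N2734 = N4966 := rfl
theorem L27275 : sm ge N4966 = N3455 := ded_22_2 L18296 L9063 L9058 L14441 L27271
theorem L27296 : sm gd N2736 = N4970 := rfl
theorem L27299 : sm ge N4970 = N2739 := ded_22_2 L14457 L7240 L7236 L14447 L27296
theorem L27303 : sm gg N3446 = N4970 := ded_28_3 L27299 L14459 L18329 L18335
theorem L27305 : sm gc N4970 = N3444 := ded_21_1 L18231 L18246 L27303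
theorem L27306 : sm gc N3444 = N4970 := flp_c L27305
theorem L27312 : sm gg N2736 = N4972 := rfl
theorem L27317 : sm ge N4972 = N2738 := ded_26_1 L14454 L14447 L27312
theorem L27318 : sm ge N2738 = N4972 := flp_e L27317
theorem L27330 : sm gg N2737 = N4974 := rfl
theorem L27331 : sm gg N4974 = N2737 := flp_g L27330
theorem L27333 : sm gf N4972 = N4974 := ded_28_0 L27331 L14451 L14453 L27318
theorem L27334 : sm gf N4974 = N4972 := flp_f L27333
theorem L27335 : sm gf N2738 = N4975 := rfl
theorem L27340 : sm ge N4975 = N4974 := ded_25_1 L27334 L27317 L27335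
theorem L27344 : sm gc N2739 = N4976 := rfl
theorem L27347 : sm ge N4976 = N3444 := ded_19_2 L27306 L27299 L27344
theorem L27349 : sm gf N4976 = N3460 := ded_20_2 L18322 L14460 L27344
theorem L27350 : sm gf N3460 = N4976 := flp_f L27349
theorem L27406 : sm gd N2748 = N4987 := rfl
theorem L27407 : sm gd N4987 = N2748 := flp_d L27406
theorem L27409 : sm gg N4987 = N2750 := ded_24_2 L14499 L7277 L7267 L14492 L27406
theorem L27413 : sm gf N2748 = N4988 := rfl
theorem L27420 : sm gg N4988 = N3559 := ded_28_3 L18929 L19004 L14492 L27413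
theorem L27421 : sm gg N3559 = N4988 := flp_g L27420
theorem L27486 : sm ge N2754 = N5000 := rfl
theorem L27492 : sm gf N5000 = N2759 := ded_25_2 L14559 L14527 L27486
theorem L27496 : sm gg N2754 = N5001 := rfl
theorem L27497 : sm gg N5001 = N2754 := flp_g L27496
theorem L27502 : sm gd N2755 = N5002 := rfl
theorem L27504 : sm ga N5002 = N4862 := ded_9_1 L26601 L14531 L27502
theorem L27506 : sm gb N5002 = N2766 := ded_14_1 L14602 L14533 L27502
theorem L27507 : sm gb N2766 = N5002 := flp_b L27506
theorem L27522 : sm gb N2758 = N5005 := rfl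
theorem L27524 : sm gc N5005 = N2768 := ded_13_2 L14610 L7344 L7310 L14554 L27522
theorem L27530 : sm ge N2758 = N5007 := rfl
theorem L27531 : sm ge N5007 = N2758 := flp_e L27530
theorem L27542 : sm gg N2759 = N5009 := rfl
theorem L27548 : sm ge N5009 = N2760 := ded_26_1 L14567 L14558 L27542
theorem L27550 : sm gf N5009 = N5001 := ded_28_2 L27497 L27486 L27492 L27542
theorem L27551 : sm gf N5001 = N5009 := flp_f L27550
theorem L27554 : sm gf N2760 = N5010 := rfl
theorem L27556 : sm ga N5010 = N4871 := ded_11_1 L26649 L14569 L27554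
theorem L27560 : sm ge N5010 = N5001 := ded_25_1 L27551 L27548 L27554
theorem L27561 : sm ge N5001 = N5010 := flp_e L27560
theorem L27564 : sm gd N3746 = N5010 := ded_9_0 L27556 L26656 L20121
theorem L27565 : sm gd N5010 = N3746 := flp_d L27564
theorem L27596 : sm gg N2769 = N5016 := rfl
theorem L27597 : sm gg N5016 = N2769 := flp_g L27596
theorem L27603 : sm gf N3540 = N5016 := ded_28_0 L27597 L26775 L26778 L24000
theorem L27604 : sm gf N5016 = N3540 := flp_f L27603
theorem L27609 : sm gg N2774 = N5018 := rfl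
theorem L27610 : sm gg N5018 = N2774 := flp_g L27609
theorem L27613 : sm gf N5018 = N4910 := ded_31_1 L26880 L14048 L7021 L6990 L6987 L6123 L7011 L7004 L6996 L7002 L7027 L7358 L14641 L14644 L27609
theorem L27652 : sm gd N2780 = N5024 := rfl
theorem L27657 : sm gg N2780 = N5025 := rfl
theorem L27658 : sm gg N5025 = N2780 := flp_g L27657
theorem L27662 : sm gc N5025 = N2782 := ded_21_1 L14701 L14687 L27657
theorem L27663 : sm gc N2782 = N5025 := flp_c L27662
theorem L27706 : sm ge N2786 = N5032 := rfl
theorem L27710 : sm gb N5032 = N2787 := ded_15_1 L14724 L14719 L27706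
theorem L27712 : sm gf N5032 = N3744 := ded_25_2 L20113 L19450 L27706
theorem L27713 : sm gf N3744 = N5032 := flp_f L27712
theorem L27716 : sm gg N2786 = N5033 := rfl
theorem L27717 : sm gg N5033 = N2786 := flp_g L27716
theorem L27720 : sm gb N5033 = N2788 := ded_17_1 L14731 L14719 L27716
theorem L27811 : sm gc N2797 = N5049 := rfl
theorem L27815 : sm ge N5049 = N2802 := ded_19_2 L14831 L14793 L27811
theorem L27816 : sm ge N2802 = N5049 := flp_e L27815
theorem L27852 : sm gc N2808 = N5056 := rfl
theorem L27889 : sm gd N2815 = N5061 := rfl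
theorem L27890 : sm gd N5061 = N2815 := flp_d L27889
theorem L27891 : sm gb N5061 = N2816 := ded_14_1 L14921 L14916 L27889
theorem L27893 : sm gc N2816 = N5062 := rfl
theorem L27894 : sm gc N5062 = N2816 := flp_c L27893
theorem L27895 : sm gd N5062 = N2944 := ded_30_9 L15640 L15638 L7848 L3893 L1982 L1924 L3783 L7543 L14920 L27893
theorem L27896 : sm gd N2944 = N5062 := flp_d L27895
theorem L27897 : sm ge N2816 = N5063 := rfl
theorem L27898 : sm ge N5063 = N2816 := flp_e L27897
theorem L27899 : sm gf N2816 = N5064 := rfl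
theorem L27900 : sm gf N5064 = N2816 := flp_f L27899
theorem L27901 : sm gg N2816 = N5065 := rfl
theorem L27902 : sm gg N5065 = N2816 := flp_g L27901
theorem L27903 : sm gd N2817 = N5066 := rfl
theorem L27904 : sm gd N5066 = N2817 := flp_d L27903
theorem L27905 : sm gg N2817 = N5067 := rfl
theorem L27906 : sm gg N5067 = N2817 := flp_g L27905
theorem L27909 : sm gc N5067 = N2821 := ded_21_1 L14947 L14925 L27905
theorem L27913 : sm gf N3410 = N5067 := ded_28_0 L27906 L17980 L17973 L17962
theorem L27914 : sm gf N5067 = N3410 := flp_f L27913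
theorem L27915 : sm gd N2818 = N5068 := rfl
theorem L27916 : sm gd N5068 = N2818 := flp_d L27915
theorem L27917 : sm gd N2819 = N5069 := rfl
theorem L27919 : sm ga N5069 = N4832 := ded_9_1 L26450 L15331 L27917
theorem L27923 : sm gf N5069 = N3400 := ded_23_2 L17909 L8862 L8902 L14935 L27917
theorem L27924 : sm gf N3400 = N5069 := flp_f L27923
theorem L27925 : sm gd N2820 = N5070 := rfl
theorem L27926 : sm gd N5070 = N2820 := flp_d L27925
theorem L27927 : sm gb N5070 = N2838 := ded_14_1 L15067 L14943 L27925
theorem L27928 : sm gb N2838 = N5070 := flp_b L27927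
theorem L27929 : sm ge N5070 = N2875 := ded_22_2 L15292 L7685 L7554 L14945 L27925
theorem L27930 : sm ge N2875 = N5070 := flp_e L27929
theorem L27931 : sm gd N2821 = N5071 := rfl
theorem L27932 : sm gd N5071 = N2821 := flp_d L27931
theorem L27933 : sm gb N5071 = N2839 := ded_14_1 L15073 L14949 L27931
theorem L27934 : sm gb N2839 = N5071 := flp_b L27933
theorem L27935 : sm gd N2822 = N5072 := rfl
theorem L27936 : sm gd N5072 = N2822 := flp_d L27935
theorem L27937 : sm gb N5072 = N2840 := ded_14_1 L15077 L14955 L27935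
theorem L27938 : sm gb N2840 = N5072 := flp_b L27937
theorem L27939 : sm gg N5072 = N2877 := ded_24_2 L15302 L7694 L7554 L14952 L27935
theorem L27940 : sm gg N2877 = N5072 := flp_g L27939
theorem L27941 : sm gd N2823 = N5073 := rfl
theorem L27942 : sm gd N5073 = N2823 := flp_d L27941
theorem L27943 : sm gb N5073 = N2844 := ded_14_1 L15101 L14961 L27941
theorem L27945 : sm gf N2824 = N5074 := rfl
theorem L27946 : sm gf N5074 = N2824 := flp_f L27945
theorem L27947 : sm ga N5074 = N2826 := ded_11_1 L14977 L14968 L27945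
theorem L27948 : sm ga N2826 = N5074 := flp_a L27947
theorem L27949 : sm gc N5074 = N3318 := ded_20_1 L17529 L17525 L27945
theorem L27950 : sm gc N3318 = N5074 := flp_c L27949
theorem L27951 : sm ge N5074 = N3315 := ded_25_1 L17496 L15106 L27945
theorem L27952 : sm ge N3315 = N5074 := flp_e L27951
theorem L27953 : sm gg N5074 = N3313 := ded_28_3 L17478 L17481 L17488 L27945
theorem L27954 : sm gg N3313 = N5074 := flp_g L27953
theorem L27955 : sm gd N2825 = N5075 := rfl
theorem L27956 : sm gd N5075 = N2825 := flp_d L27955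
theorem L27957 : sm gb N5075 = N2828 := ded_14_1 L14989 L14975 L27955
theorem L27958 : sm gb N2828 = N5075 := flp_b L27957
theorem L27959 : sm ge N5075 = N4666 := ded_22_2 L25632 L13456 L7562 L14972 L27955
theorem L27960 : sm ge N4666 = N5075 := flp_e L27959
theorem L27961 : sm gg N2825 = N5076 := rfl
theorem L27962 : sm gg N5076 = N2825 := flp_g L27961
theorem L27963 : sm gb N5076 = N2830 := ded_17_1 L15003 L14975 L27961
theorem L27971 : sm gd N2826 = N5077 := rfl
theorem L27972 : sm gd N5077 = N2826 := flp_d L27971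
theorem L27973 : sm gb N5077 = N2831 := ded_14_1 L15011 L14979 L27971
theorem L27974 : sm gb N2831 = N5077 := flp_b L27973
theorem L27975 : sm gf N5077 = N4669 := ded_23_2 L25648 L13460 L7562 L14976 L27971
theorem L27976 : sm gf N4669 = N5077 := flp_f L27975
theorem L27977 : sm gd N2827 = N5078 := rfl
theorem L27979 : sm gb N5078 = N2833 := ded_14_1 L15025 L14983 L27977
theorem L27980 : sm gb N2833 = N5078 := flp_b L27979
theorem L27981 : sm gg N5078 = N4671 := ded_24_2 L25658 L13464 L7562 L14980 L27977
theorem L27983 : sm gf N2828 = N5079 := rfl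
theorem L27984 : sm gf N5079 = N2828 := flp_f L27983
theorem L27985 : sm ga N5079 = N2906 := ded_11_1 L15480 L14991 L27983
theorem L27986 : sm ga N2906 = N5079 := flp_a L27985
theorem L27987 : sm ge N5079 = N4673 := ded_25_1 L25670 L14993 L27983
theorem L27988 : sm ge N4673 = N5079 := flp_e L27987
theorem L27989 : sm gg N2828 = N5080 := rfl
theorem L27990 : sm gg N5080 = N2828 := flp_g L27989
theorem L27991 : sm ga N5080 = N2907 := ded_12_1 L15482 L14991 L27989
theorem L27992 : sm ga N2907 = N5080 := flp_a L27991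
theorem L27995 : sm gd N2829 = N5081 := rfl
theorem L27996 : sm gd N5081 = N2829 := flp_d L27995
theorem L27997 : sm ga N5081 = N2908 := ded_9_1 L15484 L14997 L27995
theorem L27998 : sm ga N2908 = N5081 := flp_a L27997
theorem L27999 : sm gd N2830 = N5082 := rfl
theorem L28000 : sm gd N5082 = N2830 := flp_d L27999
theorem L28001 : sm ga N5082 = N2909 := ded_9_1 L15486 L15005 L27999
theorem L28002 : sm ga N2909 = N5082 := flp_a L28001
theorem L28003 : sm gc N2831 = N5083 := rfl
theorem L28004 : sm gc N5083 = N2831 := flp_c L28003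
theorem L28005 : sm ga N5083 = N2910 := ded_8_1 L15488 L15013 L28003
theorem L28006 : sm ga N2910 = N5083 := flp_a L28005
theorem L28007 : sm gf N5083 = N4677 := ded_20_2 L25682 L15015 L28003
theorem L28009 : sm ge N2831 = N5084 := rfl
theorem L28010 : sm ge N5084 = N2831 := flp_e L28009
theorem L28011 : sm ga N5084 = N2911 := ded_10_1 L15490 L15013 L28009
theorem L28012 : sm ga N2911 = N5084 := flp_a L28011
theorem L28013 : sm gf N5084 = N4678 := ded_25_2 L25684 L15015 L28009
theorem L28014 : sm gf N4678 = N5084 := flp_f L28013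
theorem L28015 : sm gg N2831 = N5085 := rfl
theorem L28016 : sm gg N5085 = N2831 := flp_g L28015
theorem L28017 : sm ga N5085 = N2912 := ded_12_1 L15492 L15013 L28015
theorem L28018 : sm ga N2912 = N5085 := flp_a L28017
theorem L28019 : sm gd N2832 = N5086 := rfl
theorem L28020 : sm gd N5086 = N2832 := flp_d L28019
theorem L28021 : sm ga N5086 = N2913 := ded_9_1 L15494 L15019 L28019
theorem L28022 : sm ga N2913 = N5086 := flp_a L28021
theorem L28023 : sm gc N2833 = N5087 := rfl
theorem L28024 : sm gc N5087 = N2833 := flp_c L28023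
theorem L28025 : sm ga N5087 = N2914 := ded_8_1 L15496 L15027 L28023
theorem L28026 : sm ga N2914 = N5087 := flp_a L28025
theorem L28029 : sm ge N2833 = N5088 := rfl
theorem L28030 : sm ge N5088 = N2833 := flp_e L28029
theorem L28031 : sm ga N5088 = N2915 := ded_10_1 L15498 L15027 L28029
theorem L28032 : sm ga N2915 = N5088 := flp_a L28031
theorem L28035 : sm gf N2833 = N5089 := rfl
theorem L28036 : sm gf N5089 = N2833 := flp_f L28035
theorem L28037 : sm ga N5089 = N2916 := ded_11_1 L15500 L15027 L28035
theorem L28038 : sm ga N2916 = N5089 := flp_a L28037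
theorem L28039 : sm gf N2835 = N5090 := rfl
theorem L28040 : sm gf N5090 = N2835 := flp_f L28039
theorem L28041 : sm ga N5090 = N2919 := ded_11_1 L15518 L15045 L28039
theorem L28042 : sm ga N2919 = N5090 := flp_a L28041
theorem L28043 : sm gb N5090 = N5074 := ded_16_1 L27946 L15048 L28039
theorem L28044 : sm gb N5074 = N5090 := flp_b L28043
theorem L28045 : sm gc N5090 = N2836 := ded_20_1 L15055 L15042 L28039
theorem L28046 : sm gc N2836 = N5090 := flp_c L28045
theorem L28047 : sm ge N5090 = N2847 := ded_25_1 L15118 L15047 L28039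
theorem L28048 : sm ge N2847 = N5090 := flp_e L28047
theorem L28049 : sm gg N2835 = N5091 := rfl
theorem L28050 : sm gg N5091 = N2835 := flp_g L28049
theorem L28051 : sm ga N5091 = N2920 := ded_12_1 L15526 L15045 L28049
theorem L28052 : sm ga N2920 = N5091 := flp_a L28051
theorem L28053 : sm gb N5091 = N3314 := ded_17_1 L17488 L15048 L28049
theorem L28054 : sm gb N3314 = N5091 := flp_b L28053
theorem L28055 : sm gc N5091 = N2837 := ded_21_1 L15061 L15042 L28049
theorem L28056 : sm gc N2837 = N5091 := flp_c L28055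
theorem L28057 : sm ge N5091 = N2848 := ded_26_1 L15124 L15047 L28049
theorem L28058 : sm ge N2848 = N5091 := flp_e L28057
theorem L28059 : sm gf N5091 = N3312 := ded_28_2 L17476 L28048 L28040 L28049
theorem L28060 : sm gf N3312 = N5091 := flp_f L28059
theorem L28061 : sm gd N5089 = N5091 := ded_9_0 L28051 L15536 L28038
theorem L28062 : sm gd N5091 = N5089 := flp_d L28061
theorem L28063 : sm gd N2836 = N5092 := rfl
theorem L28064 : sm gd N5092 = N2836 := flp_d L28063
theorem L28065 : sm ga N5092 = N2921 := ded_9_1 L15538 L15057 L28063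
theorem L28066 : sm ga N2921 = N5092 := flp_a L28065
theorem L28067 : sm ge N5092 = N2921 := ded_22_2 L15538 L7803 L7628 L15059 L28063
theorem L28068 : sm ge N2921 = N5092 := flp_e L28067
theorem L28069 : sm gf N5092 = N2838 := ded_23_2 L15067 L7588 L7581 L15054 L28063
theorem L28070 : sm gf N2838 = N5092 := flp_f L28069
theorem L28071 : sm gd N2837 = N5093 := rfl
theorem L28072 : sm gd N5093 = N2837 := flp_d L28071
theorem L28073 : sm ga N5093 = N2922 := ded_9_1 L15542 L15063 L28071
theorem L28074 : sm ga N2922 = N5093 := flp_a L28073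
theorem L28075 : sm ge N5093 = N5071 := ded_22_2 L27932 L14950 L7636 L15065 L28071
theorem L28076 : sm ge N5071 = N5093 := flp_e L28075
theorem L28077 : sm gg N5093 = N2839 := ded_24_2 L15073 L7594 L7581 L15060 L28071
theorem L28078 : sm gg N2839 = N5093 := flp_g L28077
theorem L28079 : sm gc N2838 = N5094 := rfl
theorem L28080 : sm gc N5094 = N2838 := flp_c L28079
theorem L28081 : sm ga N5094 = N2923 := ded_8_1 L15546 L15069 L28079
theorem L28082 : sm ga N2923 = N5094 := flp_a L28081
theorem L28083 : sm ge N5094 = N2923 := ded_19_2 L15546 L15071 L28079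
theorem L28084 : sm ge N2923 = N5094 := flp_e L28083
theorem L28085 : sm gg N2838 = N5095 := rfl
theorem L28086 : sm gg N5095 = N2838 := flp_g L28085
theorem L28087 : sm ga N5095 = N2924 := ded_12_1 L15548 L15069 L28085
theorem L28088 : sm ga N2924 = N5095 := flp_a L28087
theorem L28089 : sm ge N5095 = N2924 := ded_26_1 L15548 L15071 L28085
theorem L28090 : sm ge N2924 = N5095 := flp_e L28089
theorem L28091 : sm gc N2839 = N5096 := rfl
theorem L28092 : sm gc N5096 = N2839 := flp_c L28091
theorem L28093 : sm ga N5096 = N2925 := ded_8_1 L15550 L15075 L28091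
theorem L28094 : sm ga N2925 = N5096 := flp_a L28093
theorem L28095 : sm ge N2839 = N5097 := rfl
theorem L28096 : sm ge N5097 = N2839 := flp_e L28095
theorem L28097 : sm ga N5097 = N2876 := ded_10_1 L15299 L15075 L28095
theorem L28098 : sm ga N2876 = N5097 := flp_a L28097
theorem L28099 : sm gb N5097 = N5093 := ded_15_1 L28075 L27933 L28095
theorem L28100 : sm gb N5093 = N5097 := flp_b L28099
theorem L28101 : sm gg N5097 = N5071 := ded_26_2 L28076 L28077 L28095
theorem L28102 : sm gg N5071 = N5097 := flp_g L28101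
theorem L28103 : sm gd N5097 = N2842 := ded_22_1 L15089 L7606 L7598 L15072 L28095
theorem L28104 : sm gd N2842 = N5097 := flp_d L28103
theorem L28105 : sm gf N2839 = N5098 := rfl
theorem L28106 : sm gf N5098 = N2839 := flp_f L28105
theorem L28107 : sm ga N5098 = N2926 := ded_11_1 L15552 L15075 L28105
theorem L28108 : sm ga N2926 = N5098 := flp_a L28107
theorem L28109 : sm gc N2840 = N5099 := rfl
theorem L28110 : sm gc N5099 = N2840 := flp_c L28109
theorem L28111 : sm ga N5099 = N2927 := ded_8_1 L15554 L15079 L28109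
theorem L28115 : sm ge N2840 = N5100 := rfl
theorem L28116 : sm ge N5100 = N2840 := flp_e L28115
theorem L28117 : sm ga N5100 = N2928 := ded_10_1 L15556 L15079 L28115
theorem L28118 : sm ga N2928 = N5100 := flp_a L28117
theorem L28119 : sm gg N5100 = N2928 := ded_26_2 L15556 L15081 L28115
theorem L28120 : sm gg N2928 = N5100 := flp_g L28119
theorem L28121 : sm gf N2840 = N5101 := rfl
theorem L28122 : sm gf N5101 = N2840 := flp_f L28121
theorem L28123 : sm ga N5101 = N2929 := ded_11_1 L15558 L15079 L28121
theorem L28124 : sm ga N2929 = N5101 := flp_a L28123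
theorem L28125 : sm gd N5101 = N5098 := ded_23_1 L28106 L15073 L7603 L15076 L28121
theorem L28126 : sm gd N5098 = N5101 := flp_d L28125
theorem L28127 : sm gd N2841 = N5102 := rfl
theorem L28128 : sm gd N5102 = N2841 := flp_d L28127
theorem L28129 : sm ga N5102 = N2870 := ded_9_1 L15258 L15085 L28127
theorem L28130 : sm ga N2870 = N5102 := flp_a L28129
theorem L28131 : sm gd N2843 = N5103 := rfl
theorem L28132 : sm gd N5103 = N2843 := flp_d L28131
theorem L28133 : sm ga N5103 = N2878 := ded_9_1 L15306 L15099 L28131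
theorem L28134 : sm ga N2878 = N5103 := flp_a L28133
theorem L28135 : sm gf N5103 = N2844 := ded_23_2 L15101 L7612 L7605 L15096 L28131
theorem L28136 : sm gf N2844 = N5103 := flp_f L28135
theorem L28137 : sm gc N2844 = N5104 := rfl
theorem L28138 : sm gc N5104 = N2844 := flp_c L28137
theorem L28139 : sm ga N5104 = N2930 := ded_8_1 L15562 L15103 L28137
theorem L28140 : sm ga N2930 = N5104 := flp_a L28139
theorem L28141 : sm ge N2844 = N5105 := rfl
theorem L28142 : sm ge N5105 = N2844 := flp_e L28141
theorem L28143 : sm ga N5105 = N2931 := ded_10_1 L15564 L15103 L28141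
theorem L28144 : sm ga N2931 = N5105 := flp_a L28143
theorem L28145 : sm gd N5105 = N5100 := ded_22_1 L28116 L15077 L7616 L15100 L28141
theorem L28146 : sm gd N5100 = N5105 := flp_d L28145
theorem L28147 : sm gg N2844 = N5106 := rfl
theorem L28148 : sm gg N5106 = N2844 := flp_g L28147
theorem L28149 : sm ga N5106 = N2932 := ded_12_1 L15568 L15103 L28147
theorem L28150 : sm ga N2932 = N5106 := flp_a L28149
theorem L28151 : sm gd N5106 = N5095 := ded_24_1 L28086 L15067 L7618 L15100 L28147
theorem L28152 : sm gd N5095 = N5106 := flp_d L28151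
theorem L28153 : sm gd N2845 = N5107 := rfl
theorem L28154 : sm gd N5107 = N2845 := flp_d L28153
theorem L28155 : sm ga N5107 = N5075 := ded_9_1 L27956 L15109 L28153
theorem L28157 : sm gb N5107 = N2846 := ded_14_1 L15111 L15104 L28153
theorem L28158 : sm gb N2846 = N5107 := flp_b L28157
theorem L28159 : sm ge N5107 = N4709 := ded_22_2 L25806 L13543 L14971 L15107 L28153
theorem L28161 : sm gg N2845 = N5108 := rfl
theorem L28162 : sm gg N5108 = N2845 := flp_g L28161
theorem L28163 : sm ga N5108 = N5076 := ded_12_1 L27962 L15109 L28161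
theorem L28164 : sm ga N5076 = N5108 := flp_a L28163
theorem L28165 : sm gb N5108 = N2848 := ded_17_1 L15124 L15104 L28161
theorem L28166 : sm gb N2848 = N5108 := flp_b L28165
theorem L28171 : sm gf N3313 = N5108 := ded_28_0 L28162 L17495 L17490 L17477
theorem L28173 : sm gf N2846 = N5109 := rfl
theorem L28178 : sm ge N5109 = N4712 := ded_25_1 L25828 L15115 L28173
theorem L28180 : sm gg N2846 = N5110 := rfl
theorem L28181 : sm gg N5110 = N2846 := flp_g L28180
theorem L28182 : sm ga N5110 = N2938 := ded_12_1 L15604 L15113 L28180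
theorem L28183 : sm ga N2938 = N5110 := flp_a L28182
theorem L28187 : sm gd N2847 = N5111 := rfl
theorem L28188 : sm gd N5111 = N2847 := flp_d L28187
theorem L28189 : sm ga N5111 = N2939 := ded_9_1 L15607 L15120 L28187
theorem L28190 : sm ga N2939 = N5111 := flp_a L28189
theorem L28191 : sm gg N5111 = N5081 := ded_24_2 L27996 L15041 L17470 L17476 L28187
theorem L28192 : sm gg N5081 = N5111 := flp_g L28191
theorem L28193 : sm gd N2848 = N5112 := rfl
theorem L28194 : sm gd N5112 = N2848 := flp_d L28193
theorem L28195 : sm ga N5112 = N2940 := ded_9_1 L15611 L15126 L28193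
theorem L28196 : sm ga N2940 = N5112 := flp_a L28195
theorem L28197 : sm gf N2848 = N5113 := rfl
theorem L28198 : sm gf N5113 = N2848 := flp_f L28197
theorem L28199 : sm ga N5113 = N2941 := ded_11_1 L15613 L15126 L28197
theorem L28200 : sm ga N2941 = N5113 := flp_a L28199
theorem L28201 : sm gb N5113 = N3313 := ded_16_1 L28171 L28165 L28197
theorem L28202 : sm gb N3313 = N5113 := flp_b L28201
theorem L28203 : sm gc N5113 = N2850 := ded_20_1 L15136 L15128 L28197
theorem L28204 : sm gc N2850 = N5113 := flp_c L28203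
theorem L28207 : sm gg N5113 = N5090 := ded_28_3 L28047 L15118 L15123 L28197
theorem L28208 : sm gg N5090 = N5113 := flp_g L28207
theorem L28209 : sm gd N2849 = N5114 := rfl
theorem L28210 : sm gd N5114 = N2849 := flp_d L28209
theorem L28211 : sm ga N5114 = N2942 := ded_9_1 L15621 L15132 L28209
theorem L28212 : sm ga N2942 = N5114 := flp_a L28211
theorem L28213 : sm gg N5114 = N2942 := ded_24_2 L15621 L7835 L7628 L15129 L28209
theorem L28214 : sm gg N2942 = N5114 := flp_g L28213
theorem L28215 : sm gd N2850 = N5115 := rfl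
theorem L28216 : sm gd N5115 = N2850 := flp_d L28215
theorem L28217 : sm ga N5115 = N2943 := ded_9_1 L15623 L15138 L28215
theorem L28218 : sm ga N2943 = N5115 := flp_a L28217
theorem L28219 : sm gb N5115 = N5103 := ded_14_1 L28132 L15140 L28215
theorem L28220 : sm gb N5103 = N5115 := flp_b L28219
theorem L28221 : sm gf N5115 = N5073 := ded_23_2 L27942 L14959 L7636 L15135 L28215
theorem L28222 : sm gf N5073 = N5115 := flp_f L28221
theorem L28223 : sm gd N2851 = N5116 := rfl
theorem L28224 : sm gd N5116 = N2851 := flp_d L28223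
theorem L28225 : sm gb N5116 = N2852 := ded_14_1 L15150 L15145 L28223
theorem L28226 : sm gb N2852 = N5116 := flp_b L28225
theorem L28227 : sm ge N2852 = N5117 := rfl
theorem L28228 : sm ge N5117 = N2852 := flp_e L28227
theorem L28229 : sm ga N5117 = N2862 := ded_10_1 L15222 L15152 L28227
theorem L28230 : sm ga N2862 = N5117 := flp_a L28229
theorem L28231 : sm gc N5117 = N2862 := ded_19_1 L15222 L15153 L28227
theorem L28232 : sm gc N2862 = N5117 := flp_c L28231
theorem L28233 : sm gf N2852 = N5118 := rfl
theorem L28234 : sm gf N5118 = N2852 := flp_f L28233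
theorem L28235 : sm ga N5118 = N2863 := ded_11_1 L15224 L15152 L28233
theorem L28236 : sm ga N2863 = N5118 := flp_a L28235
theorem L28239 : sm gg N2852 = N5119 := rfl
theorem L28240 : sm gg N5119 = N2852 := flp_g L28239
theorem L28241 : sm ga N5119 = N2864 := ded_12_1 L15226 L15152 L28239
theorem L28242 : sm ga N2864 = N5119 := flp_a L28241
theorem L28243 : sm gc N5119 = N2864 := ded_21_1 L15226 L15153 L28239
theorem L28245 : sm gd N2853 = N5120 := rfl
theorem L28246 : sm gd N5120 = N2853 := flp_d L28245
theorem L28247 : sm ga N5120 = N2865 := ded_9_1 L15228 L15158 L28245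
theorem L28248 : sm ga N2865 = N5120 := flp_a L28247
theorem L28249 : sm gf N2853 = N5121 := rfl
theorem L28250 : sm gf N5121 = N2853 := flp_f L28249
theorem L28251 : sm ga N5121 = N2866 := ded_11_1 L15230 L15158 L28249
theorem L28252 : sm ga N2866 = N5121 := flp_a L28251
theorem L28253 : sm gb N5121 = N3318 := ded_16_1 L17529 L17523 L28249
theorem L28254 : sm gb N3318 = N5121 := flp_b L28253
theorem L28255 : sm gc N5121 = N2855 := ded_20_1 L15168 L15160 L28249
theorem L28256 : sm gc N2855 = N5121 := flp_c L28255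
theorem L28257 : sm ge N5121 = N2854 := ded_25_1 L15162 L15155 L28249
theorem L28258 : sm ge N2854 = N5121 := flp_e L28257
theorem L28259 : sm gg N5121 = N3310 := ded_28_3 L17444 L17453 L17463 L28249
theorem L28260 : sm gg N3310 = N5121 := flp_g L28259
theorem L28261 : sm gd N2855 = N5122 := rfl
theorem L28262 : sm gd N5122 = N2855 := flp_d L28261
theorem L28263 : sm ga N5122 = N2875 := ded_9_1 L15292 L15170 L28261
theorem L28264 : sm ga N2875 = N5122 := flp_a L28263
theorem L28265 : sm gb N5122 = N5092 := ded_14_1 L28064 L15172 L28261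
theorem L28266 : sm gb N5092 = N5122 := flp_b L28265
theorem L28267 : sm gf N5122 = N5070 := ded_23_2 L27926 L14941 L7648 L15167 L28261
theorem L28268 : sm gf N5070 = N5122 := flp_f L28267
theorem L28269 : sm gd N2856 = N5123 := rfl
theorem L28270 : sm gd N5123 = N2856 := flp_d L28269
theorem L28271 : sm ga N5123 = N2877 := ded_9_1 L15302 L15180 L28269
theorem L28272 : sm ga N2877 = N5123 := flp_a L28271
theorem L28273 : sm gb N5123 = N5114 := ded_14_1 L28210 L15182 L28269
theorem L28274 : sm gb N5114 = N5123 := flp_b L28273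
theorem L28275 : sm gd N2857 = N5124 := rfl
theorem L28276 : sm gd N5124 = N2857 := flp_d L28275
theorem L28277 : sm ga N5124 = N2858 := ded_9_1 L15200 L15195 L28275
theorem L28278 : sm ga N2858 = N5124 := flp_a L28277
theorem L28279 : sm gg N2857 = N5125 := rfl
theorem L28280 : sm gg N5125 = N2857 := flp_g L28279
theorem L28281 : sm ga N5125 = N2861 := ded_12_1 L15216 L15195 L28279
theorem L28283 : sm gc N5125 = N2887 := ded_21_1 L15366 L15198 L28279
theorem L28284 : sm gc N2887 = N5125 := flp_c L28283
theorem L28289 : sm gc N2858 = N5126 := rfl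
theorem L28290 : sm gc N5126 = N2858 := flp_c L28289
theorem L28291 : sm ge N2858 = N5127 := rfl
theorem L28292 : sm ge N5127 = N2858 := flp_e L28291
theorem L28293 : sm gb N5127 = N2862 := ded_15_1 L15222 L15202 L28291
theorem L28294 : sm gb N2862 = N5127 := flp_b L28293
theorem L28295 : sm gf N2858 = N5128 := rfl
theorem L28296 : sm gf N5128 = N2858 := flp_f L28295
theorem L28297 : sm gb N5128 = N2863 := ded_16_1 L15224 L15202 L28295
theorem L28298 : sm gb N2863 = N5128 := flp_b L28297
theorem L28299 : sm gg N2858 = N5129 := rfl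
theorem L28300 : sm gg N5129 = N2858 := flp_g L28299
theorem L28301 : sm gb N5129 = N2864 := ded_17_1 L15226 L15202 L28299
theorem L28302 : sm gb N2864 = N5129 := flp_b L28301
theorem L28303 : sm gd N2859 = N5130 := rfl
theorem L28304 : sm gd N5130 = N2859 := flp_d L28303
theorem L28305 : sm gb N5130 = N2865 := ded_14_1 L15228 L15206 L28303
theorem L28306 : sm gb N2865 = N5130 := flp_b L28305
theorem L28307 : sm gf N2859 = N5131 := rfl
theorem L28308 : sm gf N5131 = N2859 := flp_f L28307
theorem L28309 : sm gb N5131 = N2866 := ded_16_1 L15230 L15206 L28307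
theorem L28311 : sm gc N5131 = N2893 := ded_20_1 L15390 L15208 L28307
theorem L28313 : sm ge N5131 = N2860 := ded_25_1 L15210 L15203 L28307
theorem L28314 : sm ge N2860 = N5131 := flp_e L28313
theorem L28317 : sm gd N2860 = N5132 := rfl
theorem L28318 : sm gd N5132 = N2860 := flp_d L28317
theorem L28323 : sm gg N5132 = N3420 := ded_24_2 L18065 L8929 L8924 L15256 L28317
theorem L28324 : sm gg N3420 = N5132 := flp_g L28323
theorem L28325 : sm gd N2861 = N5133 := rfl
theorem L28326 : sm gd N5133 = N2861 := flp_d L28325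
theorem L28327 : sm gb N5133 = N2870 := ded_14_1 L15258 L15218 L28325
theorem L28328 : sm gb N2870 = N5133 := flp_b L28327
theorem L28329 : sm gd N2862 = N5134 := rfl
theorem L28330 : sm gd N5134 = N2862 := flp_d L28329
theorem L28331 : sm ge N5134 = N2865 := ded_22_2 L15228 L7662 L7659 L15221 L28329
theorem L28332 : sm ge N2865 = N5134 := flp_e L28331
theorem L28333 : sm gf N2862 = N5135 := rfl
theorem L28334 : sm gf N5135 = N2862 := flp_f L28333
theorem L28335 : sm ge N5135 = N2863 := ded_25_1 L15224 L15221 L28333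
theorem L28336 : sm ge N2863 = N5135 := flp_e L28335
theorem L28337 : sm gg N2862 = N5136 := rfl
theorem L28338 : sm gg N5136 = N2862 := flp_g L28337
theorem L28339 : sm ge N5136 = N2864 := ded_26_1 L15226 L15221 L28337
theorem L28340 : sm ge N2864 = N5136 := flp_e L28339
theorem L28341 : sm gd N2863 = N5137 := rfl
theorem L28342 : sm gd N5137 = N2863 := flp_d L28341
theorem L28343 : sm gf N5137 = N2868 := ded_23_2 L15242 L7666 L7659 L15223 L28341
theorem L28344 : sm gf N2868 = N5137 := flp_f L28343
theorem L28345 : sm gg N2863 = N5138 := rfl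
theorem L28346 : sm gg N5138 = N2863 := flp_g L28345
theorem L28347 : sm gf N5136 = N5138 := ded_28_0 L28346 L15224 L15225 L28340
theorem L28348 : sm gf N5138 = N5136 := flp_f L28347
theorem L28349 : sm gd N2864 = N5139 := rfl
theorem L28350 : sm gd N5139 = N2864 := flp_d L28349
theorem L28351 : sm gg N5139 = N2870 := ded_24_2 L15258 L7670 L7659 L15225 L28349
theorem L28352 : sm gg N2870 = N5139 := flp_g L28351
theorem L28353 : sm gf N2864 = N5140 := rfl
theorem L28354 : sm gf N5140 = N2864 := flp_f L28353
theorem L28355 : sm ge N5140 = N5138 := ded_25_1 L28348 L28339 L28353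
theorem L28356 : sm ge N5138 = N5140 := flp_e L28355
theorem L28357 : sm gg N5140 = N5135 := ded_28_3 L28335 L15224 L15225 L28353
theorem L28358 : sm gg N5135 = N5140 := flp_g L28357
theorem L28359 : sm gc N2865 = N5141 := rfl
theorem L28360 : sm gc N5141 = N2865 := flp_c L28359
theorem L28361 : sm gf N2865 = N5142 := rfl
theorem L28362 : sm gf N5142 = N2865 := flp_f L28361
theorem L28363 : sm gg N2865 = N5143 := rfl
theorem L28364 : sm gg N5143 = N2865 := flp_g L28363
theorem L28365 : sm gd N2866 = N5144 := rfl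
theorem L28366 : sm gd N5144 = N2866 := flp_d L28365
theorem L28367 : sm gg N5144 = N5068 := ded_24_2 L27916 L17968 L17970 L15265 L28365
theorem L28368 : sm gg N5068 = N5144 := flp_g L28367
theorem L28373 : sm gc N2870 = N5147 := rfl
theorem L28374 : sm gc N5147 = N2870 := flp_c L28373
theorem L28375 : sm ge N2870 = N5148 := rfl
theorem L28376 : sm ge N5148 = N2870 := flp_e L28375
theorem L28377 : sm gf N2870 = N5149 := rfl
theorem L28378 : sm gf N5149 = N2870 := flp_f L28377
theorem L28379 : sm gd N5149 = N5067 := ded_23_1 L27914 L17970 L15260 L15257 L28377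
theorem L28380 : sm gd N5067 = N5149 := flp_d L28379
theorem L28381 : sm gd N2872 = N5150 := rfl
theorem L28382 : sm gd N5150 = N2872 := flp_d L28381
theorem L28383 : sm ga N5150 = N5066 := ded_9_1 L27904 L15270 L28381
theorem L28384 : sm ga N5066 = N5150 := flp_a L28383
theorem L28385 : sm gb N5150 = N5124 := ded_14_1 L28276 L15274 L28381
theorem L28386 : sm gb N5124 = N5150 := flp_b L28385
theorem L28387 : sm gg N2872 = N5151 := rfl
theorem L28388 : sm gg N5151 = N2872 := flp_g L28387
theorem L28389 : sm ga N5151 = N5067 := ded_12_1 L27906 L15270 L28387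
theorem L28390 : sm ga N5067 = N5151 := flp_a L28389
theorem L28391 : sm gb N5151 = N5125 := ded_17_1 L28280 L15274 L28387
theorem L28392 : sm gb N5125 = N5151 := flp_b L28391
theorem L28393 : sm gc N5151 = N2874 := ded_21_1 L15284 L15267 L28387
theorem L28394 : sm gc N2874 = N5151 := flp_c L28393
theorem L28395 : sm ge N5151 = N2882 := ded_26_1 L15330 L15272 L28387
theorem L28396 : sm ge N2882 = N5151 := flp_e L28395
theorem L28397 : sm gf N4780 = N5151 := ded_28_0 L28388 L26121 L26115 L26145
theorem L28399 : sm gd N2873 = N5152 := rfl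
theorem L28400 : sm gd N5152 = N2873 := flp_d L28399
theorem L28401 : sm ga N5152 = N5070 := ded_9_1 L27926 L15278 L28399
theorem L28402 : sm ga N5070 = N5152 := flp_a L28401
theorem L28403 : sm gb N5152 = N2921 := ded_14_1 L15538 L15280 L28399
theorem L28404 : sm gb N2921 = N5152 := flp_b L28403
theorem L28405 : sm ge N5152 = N5122 := ded_22_2 L28262 L15173 L7718 L15282 L28399
theorem L28406 : sm ge N5122 = N5152 := flp_e L28405
theorem L28407 : sm gf N5152 = N2875 := ded_23_2 L15292 L7682 L7673 L15275 L28399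
theorem L28408 : sm gf N2875 = N5152 := flp_f L28407
theorem L28409 : sm gd N2874 = N5153 := rfl
theorem L28410 : sm gd N5153 = N2874 := flp_d L28409
theorem L28411 : sm ga N5153 = N5071 := ded_9_1 L27932 L15286 L28409
theorem L28412 : sm ga N5071 = N5153 := flp_a L28411
theorem L28413 : sm gb N5153 = N2922 := ded_14_1 L15542 L15288 L28409
theorem L28414 : sm gb N2922 = N5153 := flp_b L28413
theorem L28415 : sm ge N5153 = N2922 := ded_22_2 L15542 L7807 L7726 L15290 L28409
theorem L28416 : sm ge N2922 = N5153 := flp_e L28415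
theorem L28417 : sm gg N5153 = N2876 := ded_24_2 L15296 L7688 L7673 L15283 L28409
theorem L28418 : sm gg N2876 = N5153 := flp_g L28417
theorem L28419 : sm gc N2875 = N5154 := rfl
theorem L28420 : sm gc N5154 = N2875 := flp_c L28419
theorem L28421 : sm gg N2875 = N5155 := rfl
theorem L28422 : sm gg N5155 = N2875 := flp_g L28421
theorem L28423 : sm gb N5155 = N2924 := ded_17_1 L15548 L15294 L28421
theorem L28424 : sm gb N2924 = N5155 := flp_b L28423
theorem L28425 : sm gc N2876 = N5156 := rfl
theorem L28426 : sm gc N5156 = N2876 := flp_c L28425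
theorem L28427 : sm ge N5156 = N2925 := ded_19_2 L15550 L15300 L28425
theorem L28428 : sm ge N2925 = N5156 := flp_e L28427
theorem L28429 : sm gf N2876 = N5157 := rfl
theorem L28430 : sm gf N5157 = N2876 := flp_f L28429
theorem L28431 : sm gb N5157 = N2926 := ded_16_1 L15552 L15298 L28429
theorem L28432 : sm gb N2926 = N5157 := flp_b L28431
theorem L28433 : sm ge N5157 = N2926 := ded_25_1 L15552 L15300 L28429
theorem L28434 : sm ge N2926 = N5157 := flp_e L28433
theorem L28435 : sm gc N2877 = N5158 := rfl
theorem L28436 : sm gc N5158 = N2877 := flp_c L28435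
theorem L28437 : sm ge N2877 = N5159 := rfl
theorem L28438 : sm ge N5159 = N2877 := flp_e L28437
theorem L28439 : sm gb N5159 = N2928 := ded_15_1 L15556 L15304 L28437
theorem L28440 : sm gb N2928 = N5159 := flp_b L28439
theorem L28441 : sm gf N2877 = N5160 := rfl
theorem L28442 : sm gf N5160 = N2877 := flp_f L28441
theorem L28443 : sm gb N5160 = N2929 := ded_16_1 L15558 L15304 L28441
theorem L28444 : sm gb N2929 = N5160 := flp_b L28443
theorem L28445 : sm gd N5160 = N5157 := ded_23_1 L28430 L15296 L7697 L15301 L28441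
theorem L28446 : sm gd N5157 = N5160 := flp_d L28445
theorem L28447 : sm gc N2878 = N5161 := rfl
theorem L28448 : sm gc N5161 = N2878 := flp_c L28447
theorem L28449 : sm gf N5161 = N2930 := ded_20_2 L15562 L15310 L28447
theorem L28450 : sm gf N2930 = N5161 := flp_f L28449
theorem L28451 : sm ge N2878 = N5162 := rfl
theorem L28452 : sm ge N5162 = N2878 := flp_e L28451
theorem L28453 : sm gb N5162 = N2931 := ded_15_1 L15564 L15308 L28451
theorem L28454 : sm gb N2931 = N5162 := flp_b L28453
theorem L28455 : sm gf N5162 = N2931 := ded_25_2 L15564 L15310 L28451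
theorem L28456 : sm gf N2931 = N5162 := flp_f L28455
theorem L28457 : sm gd N5162 = N5159 := ded_22_1 L28438 L15302 L7704 L15305 L28451
theorem L28458 : sm gd N5159 = N5162 := flp_d L28457
theorem L28459 : sm gg N2878 = N5163 := rfl
theorem L28460 : sm gg N5163 = N2878 := flp_g L28459
theorem L28461 : sm gb N5163 = N2932 := ded_17_1 L15568 L15308 L28459
theorem L28462 : sm gb N2932 = N5163 := flp_b L28461
theorem L28463 : sm gd N5163 = N5155 := ded_24_1 L28422 L15292 L7706 L15305 L28459
theorem L28464 : sm gd N5155 = N5163 := flp_d L28463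
theorem L28465 : sm gd N2879 = N5164 := rfl
theorem L28466 : sm gd N5164 = N2879 := flp_d L28465
theorem L28467 : sm ga N5164 = N5130 := ded_9_1 L28304 L15317 L28465
theorem L28468 : sm ga N5130 = N5164 := flp_a L28467
theorem L28469 : sm gb N5164 = N2880 := ded_14_1 L15320 L15311 L28465
theorem L28470 : sm gb N2880 = N5164 := flp_b L28469
theorem L28471 : sm gf N2879 = N5165 := rfl
theorem L28472 : sm gf N5165 = N2879 := flp_f L28471
theorem L28473 : sm ga N5165 = N5131 := ded_11_1 L28308 L15317 L28471
theorem L28475 : sm gb N5165 = N2881 := ded_16_1 L15324 L15311 L28471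
theorem L28477 : sm gc N5165 = N2934 := ded_20_1 L15578 L15316 L28471
theorem L28483 : sm gc N2880 = N5166 := rfl
theorem L28484 : sm gc N5166 = N2880 := flp_c L28483
theorem L28485 : sm ga N5166 = N5062 := ded_8_1 L27894 L15322 L28483
theorem L28487 : sm gd N5166 = N2948 := ded_30_9 L15639 L15625 L7845 L3888 L1976 L1960 L3833 L7707 L15319 L28483
theorem L28488 : sm gd N2948 = N5166 := flp_d L28487
theorem L28489 : sm ge N2880 = N5167 := rfl
theorem L28490 : sm ge N5167 = N2880 := flp_e L28489
theorem L28491 : sm ga N5167 = N5063 := ded_10_1 L27898 L15322 L28489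
theorem L28492 : sm ga N5063 = N5167 := flp_a L28491
theorem L28493 : sm gf N2880 = N5168 := rfl
theorem L28494 : sm gf N5168 = N2880 := flp_f L28493
theorem L28495 : sm ga N5168 = N5064 := ded_11_1 L27900 L15322 L28493
theorem L28496 : sm ga N5064 = N5168 := flp_a L28495
theorem L28497 : sm gg N2880 = N5169 := rfl
theorem L28498 : sm gg N5169 = N2880 := flp_g L28497
theorem L28499 : sm ga N5169 = N5065 := ded_12_1 L27902 L15322 L28497
theorem L28501 : sm gd N2881 = N5170 := rfl
theorem L28502 : sm gd N5170 = N2881 := flp_d L28501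
theorem L28503 : sm ga N5170 = N5068 := ded_9_1 L27916 L15326 L28501
theorem L28504 : sm ga N5068 = N5170 := flp_a L28503
theorem L28505 : sm gd N2883 = N5171 := rfl
theorem L28506 : sm gd N5171 = N2883 := flp_d L28505
theorem L28507 : sm ga N5171 = N5072 := ded_9_1 L27936 L15340 L28505
theorem L28508 : sm ga N5072 = N5171 := flp_a L28507
theorem L28509 : sm gb N5171 = N2942 := ded_14_1 L15621 L15342 L28505
theorem L28510 : sm gb N2942 = N5171 := flp_b L28509
theorem L28511 : sm gg N5171 = N5123 := ded_24_2 L28270 L15178 L7718 L15337 L28505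
theorem L28512 : sm gg N5123 = N5171 := flp_g L28511
theorem L28513 : sm gd N2884 = N5172 := rfl
theorem L28515 : sm ga N5172 = N5073 := ded_9_1 L27942 L15348 L28513
theorem L28516 : sm ga N5073 = N5172 := flp_a L28515
theorem L28517 : sm gb N5172 = N2943 := ded_14_1 L15623 L15350 L28513
theorem L28519 : sm gf N5172 = N2943 := ded_23_2 L15623 L7839 L7726 L15345 L28513
theorem L28521 : sm gc N2885 = N5173 := rfl
theorem L28522 : sm gc N5173 = N2885 := flp_c L28521
theorem L28523 : sm ga N5173 = N2888 := ded_8_1 L15370 L15360 L28521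
theorem L28527 : sm gb N5173 = N4604 := ded_13_1 L25267 L13313 L15513 L15511 L28521
theorem L28528 : sm gb N4604 = N5173 := flp_b L28527
theorem L28529 : sm gf N2885 = N5174 := rfl
theorem L28530 : sm gf N5174 = N2885 := flp_f L28529
theorem L28531 : sm ga N5174 = N2890 := ded_11_1 L15378 L15360 L28529
theorem L28532 : sm ga N2890 = N5174 := flp_a L28531
theorem L28533 : sm gg N2885 = N5175 := rfl
theorem L28534 : sm gg N5175 = N2885 := flp_g L28533
theorem L28535 : sm ga N5175 = N2891 := ded_12_1 L15382 L15360 L28533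
theorem L28536 : sm ga N2891 = N5175 := flp_a L28535
theorem L28537 : sm gd N2886 = N5176 := rfl
theorem L28538 : sm gd N5176 = N2886 := flp_d L28537
theorem L28539 : sm ga N5176 = N2895 := ded_9_1 L15402 L15364 L28537
theorem L28540 : sm ga N2895 = N5176 := flp_a L28539
theorem L28541 : sm gd N2887 = N5177 := rfl
theorem L28542 : sm gd N5177 = N2887 := flp_d L28541
theorem L28543 : sm ga N5177 = N2897 := ded_9_1 L15414 L15368 L28541
theorem L28544 : sm ga N2897 = N5177 := flp_a L28543
theorem L28545 : sm gb N5177 = N2916 := ded_14_1 L15535 L15527 L28541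
theorem L28546 : sm gb N2916 = N5177 := flp_b L28545
theorem L28547 : sm gf N2897 = N5177 := ded_16_0 L28545 L15500 L15416
theorem L28548 : sm gf N5177 = N2897 := flp_f L28547
theorem L28549 : sm gf N2887 = N5178 := rfl
theorem L28550 : sm gf N5178 = N2887 := flp_f L28549
theorem L28551 : sm ga N5178 = N2898 := ded_11_1 L15418 L15368 L28549
theorem L28553 : sm gb N5178 = N2917 := ded_16_1 L15534 L15527 L28549
theorem L28557 : sm ge N5178 = N3321 := ded_25_1 L17538 L15591 L28549
theorem L28559 : sm gg N5178 = N2934 := ded_28_3 L15583 L15362 L15365 L28549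
theorem L28560 : sm gg N2934 = N5178 := flp_g L28559
theorem L28561 : sm gd N5178 = N2898 := ded_23_1 L15418 L15413 L28547 L28542 L28549
theorem L28562 : sm gd N2898 = N5178 := flp_d L28561
theorem L28563 : sm gd N2888 = N5179 := rfl
theorem L28564 : sm gd N5179 = N2888 := flp_d L28563
theorem L28567 : sm ge N2888 = N5180 := rfl
theorem L28573 : sm gc N5180 = N2889 := ded_19_1 L15374 L15369 L28567
theorem L28574 : sm gc N2889 = N5180 := flp_c L28573
theorem L28575 : sm gf N2888 = N5181 := rfl
theorem L28576 : sm gf N5181 = N2888 := flp_f L28575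
theorem L28577 : sm gb N5181 = N4527 := ded_16_1 L24797 L15372 L28575
theorem L28578 : sm gb N4527 = N5181 := flp_b L28577
theorem L28579 : sm gc N5181 = N2890 := ded_20_1 L15378 L15369 L28575
theorem L28580 : sm gc N2890 = N5181 := flp_c L28579
theorem L28581 : sm gg N2888 = N5182 := rfl
theorem L28582 : sm gg N5182 = N2888 := flp_g L28581
theorem L28583 : sm gb N5182 = N4528 := ded_17_1 L24801 L15372 L28581
theorem L28584 : sm gb N4528 = N5182 := flp_b L28583
theorem L28585 : sm gc N5182 = N2891 := ded_21_1 L15382 L15369 L28581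
theorem L28586 : sm gc N2891 = N5182 := flp_c L28585
theorem L28587 : sm gd N2889 = N5183 := rfl
theorem L28588 : sm gd N5183 = N2889 := flp_d L28587
theorem L28589 : sm gb N5183 = N2899 := ded_14_1 L15426 L15376 L28587
theorem L28590 : sm gb N2899 = N5183 := flp_b L28589
theorem L28591 : sm ge N5183 = N2892 := ded_22_2 L15386 L7734 L7729 L15373 L28587
theorem L28592 : sm ge N2892 = N5183 := flp_e L28591
theorem L28593 : sm gf N2889 = N5184 := rfl
theorem L28594 : sm gf N5184 = N2889 := flp_f L28593
theorem L28595 : sm gb N5184 = N2900 := ded_16_1 L15434 L15376 L28593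
theorem L28596 : sm gb N2900 = N5184 := flp_b L28595
theorem L28597 : sm ge N5184 = N2890 := ded_25_1 L15378 L15373 L28593
theorem L28598 : sm ge N2890 = N5184 := flp_e L28597
theorem L28599 : sm gg N2889 = N5185 := rfl
theorem L28600 : sm gg N5185 = N2889 := flp_g L28599
theorem L28601 : sm gb N5185 = N2901 := ded_17_1 L15442 L15376 L28599
theorem L28602 : sm gb N2901 = N5185 := flp_b L28601
theorem L28603 : sm ge N5185 = N2891 := ded_26_1 L15382 L15373 L28599
theorem L28604 : sm ge N2891 = N5185 := flp_e L28603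
theorem L28605 : sm gd N2890 = N5186 := rfl
theorem L28606 : sm gd N5186 = N2890 := flp_d L28605
theorem L28607 : sm gb N5186 = N2902 := ded_14_1 L15450 L15380 L28605
theorem L28608 : sm gb N2902 = N5186 := flp_b L28607
theorem L28609 : sm gf N5186 = N2895 := ded_23_2 L15402 L7738 L7729 L15377 L28605
theorem L28610 : sm gf N2895 = N5186 := flp_f L28609
theorem L28611 : sm gg N2890 = N5187 := rfl
theorem L28612 : sm gg N5187 = N2890 := flp_g L28611
theorem L28613 : sm gb N5187 = N2903 := ded_17_1 L15456 L15380 L28611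
theorem L28614 : sm gb N2903 = N5187 := flp_b L28613
theorem L28615 : sm gf N5185 = N5187 := ded_28_0 L28612 L15378 L15381 L28604
theorem L28616 : sm gf N5187 = N5185 := flp_f L28615
theorem L28617 : sm gd N2891 = N5188 := rfl
theorem L28618 : sm gd N5188 = N2891 := flp_d L28617
theorem L28619 : sm gb N5188 = N2904 := ded_14_1 L15464 L15384 L28617
theorem L28620 : sm gb N2904 = N5188 := flp_b L28619
theorem L28621 : sm gg N5188 = N2897 := ded_24_2 L15414 L7742 L7729 L15381 L28617
theorem L28622 : sm gg N2897 = N5188 := flp_g L28621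
theorem L28623 : sm gf N2891 = N5189 := rfl
theorem L28624 : sm gf N5189 = N2891 := flp_f L28623
theorem L28625 : sm gb N5189 = N2905 := ded_16_1 L15470 L15384 L28623
theorem L28626 : sm gb N2905 = N5189 := flp_b L28625
theorem L28627 : sm ge N5189 = N5187 := ded_25_1 L28616 L28603 L28623
theorem L28628 : sm ge N5187 = N5189 := flp_e L28627
theorem L28629 : sm gg N5189 = N5184 := ded_28_3 L28597 L15378 L15381 L28623
theorem L28630 : sm gg N5184 = N5189 := flp_g L28629
theorem L28633 : sm gf N2892 = N5191 := rfl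
theorem L28634 : sm gf N5191 = N2892 := flp_f L28633
theorem L28635 : sm gb N5191 = N2906 := ded_16_1 L15480 L15388 L28633
theorem L28637 : sm gg N2892 = N5192 := rfl
theorem L28638 : sm gg N5192 = N2892 := flp_g L28637
theorem L28639 : sm gb N5192 = N2907 := ded_17_1 L15482 L15388 L28637
theorem L28641 : sm gd N2893 = N5193 := rfl
theorem L28642 : sm gd N5193 = N2893 := flp_d L28641
theorem L28643 : sm gb N5193 = N2908 := ded_14_1 L15484 L15392 L28641
theorem L28644 : sm gb N2908 = N5193 := flp_b L28643
theorem L28645 : sm gd N2894 = N5194 := rfl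
theorem L28646 : sm gd N5194 = N2894 := flp_d L28645
theorem L28647 : sm gb N5194 = N2909 := ded_14_1 L15486 L15398 L28645
theorem L28648 : sm gb N2909 = N5194 := flp_b L28647
theorem L28649 : sm gc N2895 = N5195 := rfl
theorem L28650 : sm gc N5195 = N2895 := flp_c L28649
theorem L28651 : sm ge N2895 = N5196 := rfl
theorem L28652 : sm ge N5196 = N2895 := flp_e L28651
theorem L28653 : sm gb N5196 = N2911 := ded_15_1 L15490 L15404 L28651
theorem L28654 : sm gb N2911 = N5196 := flp_b L28653
theorem L28655 : sm gg N2895 = N5197 := rfl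
theorem L28656 : sm gg N5197 = N2895 := flp_g L28655
theorem L28657 : sm gb N5197 = N2912 := ded_17_1 L15492 L15404 L28655
theorem L28658 : sm gb N2912 = N5197 := flp_b L28657
theorem L28664 : sm gc N2897 = N5199 := rfl
theorem L28665 : sm gc N5199 = N2897 := flp_c L28664
theorem L28666 : sm ge N2897 = N5200 := rfl
theorem L28667 : sm ge N5200 = N2897 := flp_e L28666
theorem L28668 : sm gb N5200 = N2915 := ded_15_1 L15498 L15416 L28666
theorem L28670 : sm gf N2899 = N5201 := rfl
theorem L28671 : sm gf N5201 = N2899 := flp_f L28670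
theorem L28672 : sm ga N5201 = N4673 := ded_11_1 L25670 L15428 L28670
theorem L28673 : sm ga N4673 = N5201 := flp_a L28672
theorem L28674 : sm gc N5201 = N5079 := ded_20_1 L27984 L15431 L28670
theorem L28675 : sm gc N5079 = N5201 := flp_c L28674
theorem L28676 : sm ge N5201 = N2906 := ded_25_1 L15480 L15430 L28670
theorem L28677 : sm ge N2906 = N5201 := flp_e L28676
theorem L28678 : sm gg N2899 = N5202 := rfl
theorem L28684 : sm ge N5202 = N2907 := ded_26_1 L15482 L15430 L28678
theorem L28685 : sm ge N2907 = N5202 := flp_e L28684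
theorem L28686 : sm gd N2900 = N5203 := rfl
theorem L28687 : sm gd N5203 = N2900 := flp_d L28686
theorem L28688 : sm ga N5203 = N4675 := ded_9_1 L25678 L15436 L28686
theorem L28689 : sm ga N4675 = N5203 := flp_a L28688
theorem L28690 : sm gd N2901 = N5204 := rfl
theorem L28691 : sm gd N5204 = N2901 := flp_d L28690
theorem L28692 : sm ga N5204 = N4676 := ded_9_1 L25680 L15444 L28690
theorem L28693 : sm ga N4676 = N5204 := flp_a L28692
theorem L28694 : sm gc N2902 = N5205 := rfl
theorem L28695 : sm gc N5205 = N2902 := flp_c L28694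
theorem L28696 : sm ga N5205 = N4677 := ded_8_1 L25682 L15452 L28694
theorem L28697 : sm ga N4677 = N5205 := flp_a L28696
theorem L28698 : sm gf N5205 = N2910 := ded_20_2 L15488 L15454 L28694
theorem L28699 : sm gf N2910 = N5205 := flp_f L28698
theorem L28700 : sm ge N2902 = N5206 := rfl
theorem L28701 : sm ge N5206 = N2902 := flp_e L28700
theorem L28702 : sm ga N5206 = N4678 := ded_10_1 L25684 L15452 L28700
theorem L28703 : sm ga N4678 = N5206 := flp_a L28702
theorem L28704 : sm gf N5206 = N2911 := ded_25_2 L15490 L15454 L28700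
theorem L28705 : sm gf N2911 = N5206 := flp_f L28704
theorem L28706 : sm gg N2902 = N5207 := rfl
theorem L28707 : sm gg N5207 = N2902 := flp_g L28706
theorem L28708 : sm ga N5207 = N4679 := ded_12_1 L25686 L15452 L28706
theorem L28709 : sm ga N4679 = N5207 := flp_a L28708
theorem L28714 : sm gc N2904 = N5209 := rfl
theorem L28715 : sm gc N5209 = N2904 := flp_c L28714
theorem L28718 : sm gg N5209 = N2914 := ded_21_2 L15496 L15468 L28714
theorem L28719 : sm gg N2914 = N5209 := flp_g L28718
theorem L28720 : sm ge N2904 = N5210 := rfl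
theorem L28721 : sm ge N5210 = N2904 := flp_e L28720
theorem L28722 : sm ga N5210 = N4682 := ded_10_1 L25692 L15466 L28720
theorem L28724 : sm gg N5210 = N2915 := ded_26_2 L15498 L15468 L28720
theorem L28725 : sm gg N2915 = N5210 := flp_g L28724
theorem L28726 : sm gf N2904 = N5211 := rfl
theorem L28727 : sm gf N5211 = N2904 := flp_f L28726
theorem L28728 : sm ga N5211 = N4683 := ded_11_1 L25694 L15466 L28726
theorem L28729 : sm ga N4683 = N5211 := flp_a L28728
theorem L28730 : sm gd N2905 = N5212 := rfl
theorem L28731 : sm gd N5212 = N2905 := flp_d L28730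
theorem L28732 : sm ga N5212 = N4684 := ded_9_1 L25696 L15472 L28730
theorem L28733 : sm ga N4684 = N5212 := flp_a L28732
theorem L28734 : sm gd N2906 = N5213 := rfl
theorem L28735 : sm gd N5213 = N2906 := flp_d L28734
theorem L28736 : sm gf N5213 = N2908 := ded_23_2 L15484 L7766 L7763 L15479 L28734
theorem L28737 : sm gf N2908 = N5213 := flp_f L28736
theorem L28738 : sm gg N2906 = N5214 := rfl
theorem L28739 : sm gg N5214 = N2906 := flp_g L28738
theorem L28740 : sm gf N5202 = N5214 := ded_28_0 L28739 L15480 L15481 L28685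
theorem L28741 : sm gf N5214 = N5202 := flp_f L28740
theorem L28746 : sm gf N2907 = N5216 := rfl
theorem L28748 : sm ge N5216 = N5214 := ded_25_1 L28741 L28684 L28746
theorem L28750 : sm gg N5216 = N5201 := ded_28_3 L28676 L15480 L15481 L28746
theorem L28752 : sm gc N2908 = N5217 := rfl
theorem L28753 : sm gc N5217 = N2908 := flp_c L28752
theorem L28754 : sm ge N2908 = N5218 := rfl
theorem L28755 : sm ge N5218 = N2908 := flp_e L28754
theorem L28756 : sm gd N5218 = N2911 := ded_22_1 L15490 L7778 L7770 L15483 L28754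
theorem L28757 : sm gd N2911 = N5218 := flp_d L28756
theorem L28760 : sm ge N2909 = N5220 := rfl
theorem L28761 : sm ge N5220 = N2909 := flp_e L28760
theorem L28762 : sm gd N5220 = N2915 := ded_22_1 L15498 L7786 L7776 L15485 L28760
theorem L28763 : sm gd N2915 = N5220 := flp_d L28762
theorem L28764 : sm gf N2909 = N5221 := rfl
theorem L28765 : sm gf N5221 = N2909 := flp_f L28764
theorem L28766 : sm gb N2910 = N5222 := rfl
theorem L28767 : sm gb N5222 = N2910 := flp_b L28766
theorem L28768 : sm gd N2910 = N5223 := rfl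
theorem L28769 : sm gd N5223 = N2910 := flp_d L28768
theorem L28771 : sm ge N2910 = N5224 := rfl
theorem L28772 : sm ge N5224 = N2910 := flp_e L28771
theorem L28773 : sm gc N5224 = N2911 := ded_19_1 L15490 L15487 L28771
theorem L28774 : sm gc N2911 = N5224 := flp_c L28773
theorem L28775 : sm gg N2910 = N5225 := rfl
theorem L28776 : sm gg N5225 = N2910 := flp_g L28775
theorem L28777 : sm gc N5225 = N2912 := ded_21_1 L15492 L15487 L28775
theorem L28778 : sm gc N2912 = N5225 := flp_c L28777
theorem L28779 : sm gg N2911 = N5226 := rfl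
theorem L28780 : sm gg N5226 = N2911 := flp_g L28779
theorem L28781 : sm ge N5226 = N2912 := ded_26_1 L15492 L15489 L28779
theorem L28782 : sm ge N2912 = N5226 := flp_e L28781
theorem L28783 : sm gf N5226 = N5207 := ded_28_2 L28707 L28700 L28704 L28779
theorem L28784 : sm gf N5207 = N5226 := flp_f L28783
theorem L28785 : sm gd N2912 = N5227 := rfl
theorem L28786 : sm gd N5227 = N2912 := flp_d L28785
theorem L28787 : sm gg N5227 = N2913 := ded_24_2 L15494 L7780 L7777 L15491 L28785
theorem L28788 : sm gg N2913 = N5227 := flp_g L28787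
theorem L28789 : sm gf N2912 = N5228 := rfl
theorem L28790 : sm gf N5228 = N2912 := flp_f L28789
theorem L28791 : sm ge N5228 = N5207 := ded_25_1 L28784 L28781 L28789
theorem L28792 : sm ge N5207 = N5228 := flp_e L28791
theorem L28793 : sm gg N5228 = N5206 := ded_28_3 L28701 L15453 L15491 L28789
theorem L28794 : sm gg N5206 = N5228 := flp_g L28793
theorem L28795 : sm gc N2913 = N5229 := rfl
theorem L28796 : sm gc N5229 = N2913 := flp_c L28795
theorem L28798 : sm ge N2913 = N5230 := rfl
theorem L28799 : sm ge N5230 = N2913 := flp_e L28798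
theorem L28800 : sm gd N5230 = N2941 := ded_22_1 L15616 L15502 L7791 L15493 L28798
theorem L28801 : sm gd N2941 = N5230 := flp_d L28800
theorem L28802 : sm gf N2913 = N5231 := rfl
theorem L28803 : sm gf N5231 = N2913 := flp_f L28802
theorem L28804 : sm gd N5231 = N5221 := ded_23_1 L28765 L15486 L7783 L15493 L28802
theorem L28805 : sm gd N5221 = N5231 := flp_d L28804
theorem L28806 : sm gg N2944 = N5231 := ded_31_0 L28803 L15494 L7781 L3872 L1970 L978 L498 L503 L991 L1981 L3892 L3898 L3890 L7844 L15624
theorem L28807 : sm gg N5231 = N2944 := flp_g L28806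
theorem L28808 : sm gc N5231 = N2947 := ded_21_1 L15635 L15624 L28806
theorem L28810 : sm gf N2947 = N5229 := ded_20_2 L28796 L28802 L28808
theorem L28811 : sm gf N5229 = N2947 := flp_f L28810
theorem L28812 : sm gb N2914 = N5232 := rfl
theorem L28813 : sm gb N5232 = N2914 := flp_b L28812
theorem L28814 : sm gd N2914 = N5233 := rfl
theorem L28815 : sm gd N5233 = N2914 := flp_d L28814
theorem L28816 : sm ge N2914 = N5234 := rfl
theorem L28817 : sm ge N5234 = N2914 := flp_e L28816
theorem L28818 : sm gc N5234 = N2915 := ded_19_1 L15498 L15495 L28816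
theorem L28819 : sm gc N2915 = N5234 := flp_c L28818
theorem L28820 : sm gf N2914 = N5235 := rfl
theorem L28821 : sm gf N5235 = N2914 := flp_f L28820
theorem L28822 : sm gc N5235 = N2916 := ded_20_1 L15500 L15495 L28820
theorem L28823 : sm gc N2916 = N5235 := flp_c L28822
theorem L28824 : sm gf N2915 = N5236 := rfl
theorem L28825 : sm gf N5236 = N2915 := flp_f L28824
theorem L28826 : sm ge N5236 = N2916 := ded_25_1 L15500 L15497 L28824
theorem L28828 : sm gg N5211 = N5236 := ded_28_1 L28825 L28725 L28721 L28726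
theorem L28829 : sm gg N5236 = N5211 := flp_g L28828
theorem L28830 : sm gg N2916 = N5237 := rfl
theorem L28831 : sm gg N5237 = N2916 := flp_g L28830
theorem L28832 : sm ge N5237 = N5211 := ded_26_1 L28828 L28826 L28830
theorem L28834 : sm gf N5210 = N5237 := ded_28_0 L28831 L15500 L15468 L28720
theorem L28836 : sm gf N2918 = N5238 := rfl
theorem L28837 : sm gf N5238 = N2918 := flp_f L28836
theorem L28838 : sm ga N5238 = N4685 := ded_11_1 L25698 L15510 L28836
theorem L28839 : sm ga N4685 = N5238 := flp_a L28838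
theorem L28840 : sm gb N5238 = N5174 := ded_16_1 L28530 L15512 L28836
theorem L28841 : sm gb N5174 = N5238 := flp_b L28840
theorem L28842 : sm gc N5238 = N4539 := ded_20_1 L24855 L15513 L28836
theorem L28843 : sm gc N4539 = N5238 := flp_c L28842
theorem L28844 : sm ge N5238 = N4552 := ded_25_1 L24921 L15515 L28836
theorem L28845 : sm ge N4552 = N5238 := flp_e L28844
theorem L28846 : sm gg N2918 = N5239 := rfl
theorem L28847 : sm gg N5239 = N2918 := flp_g L28846
theorem L28848 : sm ga N5239 = N4686 := ded_12_1 L25706 L15510 L28846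
theorem L28849 : sm ga N4686 = N5239 := flp_a L28848
theorem L28850 : sm gb N5239 = N5175 := ded_17_1 L28534 L15512 L28846
theorem L28851 : sm gb N5175 = N5239 := flp_b L28850
theorem L28852 : sm gc N5239 = N4540 := ded_21_1 L24861 L15513 L28846
theorem L28853 : sm gc N4540 = N5239 := flp_c L28852
theorem L28854 : sm ge N5239 = N4553 := ded_26_1 L24927 L15515 L28846
theorem L28855 : sm ge N4553 = N5239 := flp_e L28854
theorem L28856 : sm gd N5239 = N5237 := ded_24_1 L28831 L15535 L15526 L15507 L28846
theorem L28857 : sm gd N5237 = N5239 := flp_d L28856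
theorem L28858 : sm gd N2919 = N5240 := rfl
theorem L28859 : sm gd N5240 = N2919 := flp_d L28858
theorem L28860 : sm gb N5240 = N5176 := ded_14_1 L28538 L15520 L28858
theorem L28861 : sm gb N5176 = N5240 := flp_b L28860
theorem L28862 : sm gc N2921 = N5241 := rfl
theorem L28863 : sm gc N5241 = N2921 := flp_c L28862
theorem L28864 : sm gf N5241 = N2923 := ded_20_2 L15546 L15540 L28862
theorem L28865 : sm gf N2923 = N5241 := flp_f L28864
theorem L28866 : sm gg N2921 = N5242 := rfl
theorem L28867 : sm gg N5242 = N2921 := flp_g L28866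
theorem L28868 : sm gf N5095 = N5242 := ded_28_0 L28867 L15539 L15547 L28090
theorem L28869 : sm gf N5242 = N5095 := flp_f L28868
theorem L28870 : sm gc N2922 = N5243 := rfl
theorem L28871 : sm gc N5243 = N2922 := flp_c L28870
theorem L28872 : sm gg N5243 = N2925 := ded_21_2 L15550 L15544 L28870
theorem L28873 : sm gg N2925 = N5243 := flp_g L28872
theorem L28874 : sm gf N2922 = N5244 := rfl
theorem L28875 : sm gf N5244 = N2922 := flp_f L28874
theorem L28876 : sm gg N5244 = N5157 := ded_28_3 L28433 L15552 L15544 L28874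
theorem L28877 : sm gg N5157 = N5244 := flp_g L28876
theorem L28878 : sm gb N2923 = N5245 := rfl
theorem L28879 : sm gb N5245 = N2923 := flp_b L28878
theorem L28880 : sm gd N2923 = N5246 := rfl
theorem L28881 : sm gd N5246 = N2923 := flp_d L28880
theorem L28882 : sm gg N2923 = N5247 := rfl
theorem L28883 : sm gg N5247 = N2923 := flp_g L28882
theorem L28884 : sm gc N5247 = N2924 := ded_21_1 L15548 L15545 L28882
theorem L28886 : sm gf N2924 = N5248 := rfl
theorem L28887 : sm gf N5248 = N2924 := flp_f L28886
theorem L28888 : sm ga N5248 = N5242 := ded_11_1 L28869 L28087 L28886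
theorem L28892 : sm gg N5248 = N5092 := ded_28_3 L28067 L15539 L15547 L28886
theorem L28894 : sm gb N2925 = N5249 := rfl
theorem L28895 : sm gb N5249 = N2925 := flp_b L28894
theorem L28896 : sm gd N2925 = N5250 := rfl
theorem L28897 : sm gd N5250 = N2925 := flp_d L28896
theorem L28898 : sm gf N2925 = N5251 := rfl
theorem L28899 : sm gf N5251 = N2925 := flp_f L28898
theorem L28900 : sm gc N5251 = N2926 := ded_20_1 L15552 L15549 L28898
theorem L28902 : sm gg N2926 = N5252 := rfl
theorem L28903 : sm gg N5252 = N2926 := flp_g L28902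
theorem L28904 : sm gb N5252 = N5244 := ded_17_1 L28876 L28431 L28902
theorem L28905 : sm gb N5244 = N5252 := flp_b L28904
theorem L28906 : sm ge N5252 = N5244 := ded_26_1 L28876 L28433 L28902
theorem L28907 : sm ge N5244 = N5252 := flp_e L28906
theorem L28908 : sm gf N5153 = N5252 := ded_28_0 L28903 L15552 L15544 L28416
theorem L28909 : sm gf N5252 = N5153 := flp_f L28908
theorem L28914 : sm ge N2927 = N5255 := rfl
theorem L28916 : sm gc N5255 = N2928 := ded_19_1 L15556 L15553 L28914
theorem L28918 : sm gf N2927 = N5256 := rfl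
theorem L28920 : sm gc N5256 = N2929 := ded_20_1 L15558 L15553 L28918
theorem L28922 : sm gf N2928 = N5257 := rfl
theorem L28923 : sm gf N5257 = N2928 := flp_f L28922
theorem L28924 : sm ge N5257 = N2929 := ded_25_1 L15558 L15555 L28922
theorem L28925 : sm ge N2929 = N5257 := flp_e L28924
theorem L28926 : sm gg N5101 = N5257 := ded_28_1 L28923 L28120 L28116 L28121
theorem L28927 : sm gg N5257 = N5101 := flp_g L28926
theorem L28928 : sm gg N2929 = N5258 := rfl
theorem L28929 : sm gg N5258 = N2929 := flp_g L28928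
theorem L28930 : sm ga N5258 = N5257 := ded_12_1 L28927 L28123 L28928
theorem L28931 : sm ga N5257 = N5258 := flp_a L28930
theorem L28932 : sm ge N5258 = N5101 := ded_26_1 L28926 L28924 L28928
theorem L28933 : sm ge N5101 = N5258 := flp_e L28932
theorem L28934 : sm gf N5100 = N5258 := ded_28_0 L28929 L15558 L15081 L28115
theorem L28935 : sm gf N5258 = N5100 := flp_f L28934
theorem L28936 : sm gb N2930 = N5259 := rfl
theorem L28937 : sm gb N5259 = N2930 := flp_b L28936
theorem L28938 : sm gd N2930 = N5260 := rfl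
theorem L28939 : sm gd N5260 = N2930 := flp_d L28938
theorem L28940 : sm ge N2930 = N5261 := rfl
theorem L28941 : sm ge N5261 = N2930 := flp_e L28940
theorem L28942 : sm gc N5261 = N2931 := ded_19_1 L15564 L15561 L28940
theorem L28943 : sm gc N2931 = N5261 := flp_c L28942
theorem L28944 : sm gg N2930 = N5262 := rfl
theorem L28945 : sm gg N5262 = N2930 := flp_g L28944
theorem L28946 : sm gc N5262 = N2932 := ded_21_1 L15568 L15561 L28944
theorem L28947 : sm gc N2932 = N5262 := flp_c L28946
theorem L28948 : sm gg N2931 = N5263 := rfl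
theorem L28949 : sm gg N5263 = N2931 := flp_g L28948
theorem L28950 : sm ge N5263 = N2932 := ded_26_1 L15568 L15563 L28948
theorem L28951 : sm ge N2932 = N5263 := flp_e L28950
theorem L28952 : sm gf N5263 = N5163 := ded_28_2 L28460 L28451 L28455 L28948
theorem L28953 : sm gf N5163 = N5263 := flp_f L28952
theorem L28954 : sm gf N2932 = N5264 := rfl
theorem L28955 : sm gf N5264 = N2932 := flp_f L28954
theorem L28956 : sm gb N5264 = N5263 := ded_16_1 L28952 L28461 L28954
theorem L28957 : sm gb N5263 = N5264 := flp_b L28956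
theorem L28958 : sm ge N5264 = N5163 := ded_25_1 L28953 L28950 L28954
theorem L28959 : sm ge N5163 = N5264 := flp_e L28958
theorem L28960 : sm gg N5264 = N5162 := ded_28_3 L28452 L15309 L15567 L28954
theorem L28961 : sm gg N5162 = N5264 := flp_g L28960
theorem L28967 : sm ge N2933 = N5266 := rfl
theorem L28969 : sm ga N5266 = N5183 := ded_10_1 L28591 L15574 L28967
theorem L28971 : sm gb N5266 = N2936 := ded_15_1 L15594 L15576 L28967
theorem L28973 : sm gd N5266 = N4551 := ded_22_1 L24916 L15358 L7820 L15571 L28967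
theorem L28975 : sm gf N2933 = N5267 := rfl
theorem L28977 : sm ga N5267 = N5191 := ded_11_1 L28634 L15574 L28975
theorem L28979 : sm gb N5267 = N2937 := ded_16_1 L15601 L15576 L28975
theorem L28981 : sm gg N2933 = N5268 := rfl
theorem L28982 : sm gg N5268 = N2933 := flp_g L28981
theorem L28983 : sm ga N5268 = N5192 := ded_12_1 L28638 L15574 L28981
theorem L28985 : sm gb N5268 = N2938 := ded_17_1 L15604 L15576 L28981
theorem L28986 : sm gb N2938 = N5268 := flp_b L28985
theorem L28987 : sm gd N2934 = N5269 := rfl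
theorem L28988 : sm gd N5269 = N2934 := flp_d L28987
theorem L28989 : sm ga N5269 = N5193 := ded_9_1 L28642 L15580 L28987
theorem L28991 : sm gb N5269 = N2939 := ded_14_1 L15607 L15582 L28987
theorem L28993 : sm gg N5269 = N5193 := ded_24_2 L28642 L15424 L28562 L28559 L28987
theorem L28995 : sm gd N2935 = N5270 := rfl
theorem L28996 : sm gd N5270 = N2935 := flp_d L28995
theorem L28997 : sm ga N5270 = N5194 := ded_9_1 L28646 L15588 L28995
theorem L28999 : sm gb N5270 = N2940 := ded_14_1 L15611 L15590 L28995
theorem L29000 : sm gb N2940 = N5270 := flp_b L28999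
theorem L29001 : sm gf N2936 = N5271 := rfl
theorem L29002 : sm gf N5271 = N2936 := flp_f L29001
theorem L29006 : sm ge N5271 = N2937 := ded_25_1 L15601 L15593 L29001
theorem L29007 : sm ge N2937 = N5271 := flp_e L29006
theorem L29008 : sm gg N2936 = N5272 := rfl
theorem L29010 : sm ga N5272 = N4713 := ded_12_1 L25831 L15596 L29008
theorem L29013 : sm ge N5272 = N2938 := ded_26_1 L15604 L15593 L29008
theorem L29014 : sm ge N2938 = N5272 := flp_e L29013
theorem L29015 : sm gd N2937 = N5273 := rfl
theorem L29017 : sm gf N5273 = N2939 := ded_23_2 L15607 L7827 L7823 L15600 L29015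
theorem L29019 : sm gg N2937 = N5274 := rfl
theorem L29020 : sm gg N5274 = N2937 := flp_g L29019
theorem L29022 : sm gf N5272 = N5274 := ded_28_0 L29020 L15601 L15603 L29014
theorem L29023 : sm gf N5274 = N5272 := flp_f L29022
theorem L29024 : sm gd N2938 = N5275 := rfl
theorem L29025 : sm gd N5275 = N2938 := flp_d L29024
theorem L29026 : sm gg N5275 = N2940 := ded_24_2 L15611 L7831 L7823 L15603 L29024
theorem L29027 : sm gg N2940 = N5275 := flp_g L29026
theorem L29028 : sm gf N2938 = N5276 := rfl
theorem L29031 : sm ge N5276 = N5274 := ded_25_1 L29023 L29013 L29028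
theorem L29035 : sm gc N2939 = N5277 := rfl
theorem L29036 : sm gc N5277 = N2939 := flp_c L29035
theorem L29037 : sm gg N5277 = N5217 := ded_21_2 L28753 L15609 L29035
theorem L29039 : sm ge N2939 = N5278 := rfl
theorem L29040 : sm ge N5278 = N2939 := flp_e L29039
theorem L29041 : sm gg N5278 = N5218 := ded_26_2 L28755 L15609 L29039
theorem L29042 : sm gg N5218 = N5278 := flp_g L29041
theorem L29045 : sm ge N2940 = N5280 := rfl
theorem L29046 : sm ge N5280 = N2940 := flp_e L29045
theorem L29047 : sm gd N5280 = N5236 := ded_22_1 L28826 L15535 L15531 L15610 L29045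
theorem L29048 : sm gd N5236 = N5280 := flp_d L29047
theorem L29051 : sm gc N2942 = N5282 := rfl
theorem L29052 : sm gc N5282 = N2942 := flp_c L29051
theorem L29053 : sm ge N2942 = N5283 := rfl
theorem L29054 : sm ge N5283 = N2942 := flp_e L29053
theorem L29055 : sm gf N2942 = N5284 := rfl
theorem L29056 : sm gf N5284 = N2942 := flp_f L29055
theorem L29057 : sm gd N5284 = N5244 := ded_23_1 L28875 L15542 L7836 L15620 L29055
theorem L29058 : sm gd N5244 = N5284 := flp_d L29057
theorem L29059 : sm gc N2943 = N5285 := rfl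
theorem L29060 : sm gc N5285 = N2943 := flp_c L29059
theorem L29061 : sm ge N2943 = N5286 := rfl
theorem L29062 : sm ge N5286 = N2943 := flp_e L29061
theorem L29063 : sm gd N5286 = N5283 := ded_22_1 L29054 L15621 L7841 L15622 L29061
theorem L29064 : sm gd N5283 = N5286 := flp_d L29063
theorem L29065 : sm gg N2943 = N5287 := rfl
theorem L29066 : sm gg N5287 = N2943 := flp_g L29065
theorem L29067 : sm gd N5287 = N5242 := ded_24_1 L28867 L15538 L7843 L15622 L29065
theorem L29068 : sm gd N5242 = N5287 := flp_d L29067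
theorem L29069 : sm gb N2944 = N5288 := rfl
theorem L29070 : sm gb N5288 = N2944 := flp_b L29069
theorem L29071 : sm gc N5288 = N5288 := ded_13_2 L29070 L15625 L7846 L15624 L29069
theorem L29072 : sm ge N2944 = N5289 := rfl
theorem L29073 : sm ge N5289 = N2944 := flp_e L29072
theorem L29074 : sm gc N5289 = N2945 := ded_19_1 L15627 L15624 L29072
theorem L29075 : sm gc N2945 = N5289 := flp_c L29074
theorem L29076 : sm gf N5289 = N5227 := ded_28_0 L28787 L28802 L28807 L29072
theorem L29077 : sm gf N5227 = N5289 := flp_f L29076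
theorem L29078 : sm gf N2944 = N5290 := rfl
theorem L29079 : sm gf N5290 = N2944 := flp_f L29078
theorem L29080 : sm gc N5290 = N2946 := ded_20_1 L15631 L15624 L29078
theorem L29081 : sm gc N2946 = N5290 := flp_c L29080
theorem L29082 : sm ge N5290 = N5227 := ded_25_1 L29077 L29073 L29078
theorem L29083 : sm ge N5227 = N5290 := flp_e L29082
theorem L29084 : sm gg N5290 = N5230 := ded_28_3 L28799 L28802 L28807 L29078
theorem L29085 : sm gg N5230 = N5290 := flp_g L29084
theorem L29086 : sm gf N2945 = N5291 := rfl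
theorem L29087 : sm gf N5291 = N2945 := flp_f L29086
theorem L29089 : sm gc N5291 = N5227 := ded_20_1 L29077 L29074 L29086
theorem L29090 : sm gc N5227 = N5291 := flp_c L29089
theorem L29091 : sm ge N5291 = N2946 := ded_25_1 L15631 L15626 L29086
theorem L29093 : sm gg N5291 = N5229 := ded_28_1 L28811 L15635 L15626 L29086
theorem L29094 : sm gg N5229 = N5291 := flp_g L29093
theorem L29095 : sm gg N2945 = N5292 := rfl
theorem L29096 : sm gg N5292 = N2945 := flp_g L29095
theorem L29097 : sm gb N5292 = N5292 := ded_17_1 L29096 L15628 L29095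
theorem L29098 : sm ge N5292 = N2947 := ded_26_1 L15635 L15626 L29095
theorem L29099 : sm ge N2947 = N5292 := flp_e L29098
theorem L29100 : sm gg N2946 = N5293 := rfl
theorem L29101 : sm gg N5293 = N2946 := flp_g L29100
theorem L29102 : sm gb N5293 = N5293 := ded_17_1 L29101 L15632 L29100
theorem L29103 : sm gc N5293 = N5230 := ded_21_1 L29085 L29080 L29100
theorem L29104 : sm gc N5230 = N5293 := flp_c L29103
theorem L29105 : sm ge N5293 = N5229 := ded_26_1 L29094 L29091 L29100
theorem L29106 : sm ge N5229 = N5293 := flp_e L29105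
theorem L29107 : sm gf N5292 = N5293 := ded_28_0 L29101 L15631 L15634 L29099
theorem L29108 : sm gf N5293 = N5292 := flp_f L29107
theorem L29109 : sm gb N2948 = N5294 := rfl
theorem L29110 : sm gb N5294 = N2948 := flp_b L29109
theorem L29111 : sm gc N5294 = N5294 := ded_13_2 L29110 L15638 L7851 L15637 L29109
theorem L29112 : sm ge N2948 = N5295 := rfl
theorem L29113 : sm ge N5295 = N2948 := flp_e L29112
theorem L29114 : sm ga N5295 = N5289 := ded_10_1 L29073 L15640 L29112
theorem L29118 : sm gf N2948 = N5296 := rfl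
theorem L29119 : sm gf N5296 = N2948 := flp_f L29118
theorem L29122 : sm gc N5296 = N2950 := ded_20_1 L15648 L15637 L29118
theorem L29124 : sm gg N2948 = N5297 := rfl
theorem L29125 : sm gg N5297 = N2948 := flp_g L29124
theorem L29126 : sm ga N5297 = N5231 := ded_12_1 L28807 L15640 L29124
theorem L29127 : sm ga N5231 = N5297 := flp_a L29126
theorem L29128 : sm gc N5297 = N2951 := ded_21_1 L15654 L15637 L29124
theorem L29139 : sm gg N2949 = N5299 := rfl
theorem L29141 : sm ga N5299 = N5292 := ded_12_1 L29096 L15644 L29139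
theorem L29142 : sm ga N5292 = N5299 := flp_a L29141
theorem L29146 : sm gg N2950 = N5300 := rfl
theorem L29148 : sm ga N5300 = N5293 := ded_12_1 L29101 L15650 L29146
theorem L29164 : sm gb N2952 = N5302 := rfl
theorem L29165 : sm gb N5302 = N2952 := flp_b L29164
theorem L29166 : sm gf N5302 = N2958 := ded_16_2 L15705 L15665 L29164
theorem L29167 : sm gf N2958 = N5302 := flp_f L29166
theorem L29168 : sm gc N5302 = N2958 := ded_13_2 L15705 L7869 L7857 L15660 L29164
theorem L29169 : sm gc N2958 = N5302 := flp_c L29168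
theorem L29170 : sm gd N2952 = N5303 := rfl
theorem L29171 : sm gd N5303 = N2952 := flp_d L29170
theorem L29172 : sm ga N5303 = N3075 := ded_9_1 L16374 L15663 L29170
theorem L29173 : sm ga N3075 = N5303 := flp_a L29172
theorem L29174 : sm ge N2952 = N5304 := rfl
theorem L29175 : sm ge N5304 = N2952 := flp_e L29174
theorem L29176 : sm ga N5304 = N3076 := ded_10_1 L16376 L15663 L29174
theorem L29177 : sm ga N3076 = N5304 := flp_a L29176
theorem L29178 : sm gc N5304 = N2953 := ded_19_1 L15667 L15660 L29174
theorem L29179 : sm gc N2953 = N5304 := flp_c L29178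
theorem L29180 : sm gf N5304 = N2960 := ded_25_2 L15711 L15665 L29174
theorem L29181 : sm gf N2960 = N5304 := flp_f L29180
theorem L29182 : sm gg N2952 = N5305 := rfl
theorem L29183 : sm gg N5305 = N2952 := flp_g L29182
theorem L29184 : sm ga N5305 = N3077 := ded_12_1 L16382 L15663 L29182
theorem L29185 : sm ga N3077 = N5305 := flp_a L29184
theorem L29186 : sm gc N5305 = N2954 := ded_21_1 L15677 L15660 L29182
theorem L29187 : sm gc N2954 = N5305 := flp_c L29186
theorem L29188 : sm gb N2955 = N5306 := rfl
theorem L29189 : sm gb N5306 = N2955 := flp_b L29188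
theorem L29192 : sm gc N5306 = N2968 := ded_13_2 L15761 L7885 L7865 L15682 L29188
theorem L29193 : sm gc N2968 = N5306 := flp_c L29192
theorem L29194 : sm gd N2955 = N5307 := rfl
theorem L29195 : sm gd N5307 = N2955 := flp_d L29194
theorem L29196 : sm ga N5307 = N3079 := ded_9_1 L16391 L15685 L29194
theorem L29197 : sm ga N3079 = N5307 := flp_a L29196
theorem L29198 : sm ge N2955 = N5308 := rfl
theorem L29199 : sm ge N5308 = N2955 := flp_e L29198
theorem L29200 : sm ga N5308 = N3080 := ded_10_1 L16393 L15685 L29198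
theorem L29201 : sm ga N3080 = N5308 := flp_a L29200
theorem L29202 : sm gc N5308 = N2956 := ded_19_1 L15689 L15682 L29198
theorem L29203 : sm gc N2956 = N5308 := flp_c L29202
theorem L29204 : sm gg N5308 = N2970 := ded_26_2 L15767 L15687 L29198
theorem L29205 : sm gg N2970 = N5308 := flp_g L29204
theorem L29206 : sm gf N2955 = N5309 := rfl
theorem L29207 : sm gf N5309 = N2955 := flp_f L29206
theorem L29208 : sm ga N5309 = N3081 := ded_11_1 L16399 L15685 L29206
theorem L29209 : sm ga N3081 = N5309 := flp_a L29208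
theorem L29210 : sm gc N5309 = N2957 := ded_20_1 L15699 L15682 L29206
theorem L29212 : sm ga N2958 = N5310 := rfl
theorem L29213 : sm ga N5310 = N2958 := flp_a L29212
theorem L29214 : sm gb N5310 = N5304 := ded_7_2 L29176 L16406 L16403 L8213 L7871 L15704 L29212
theorem L29215 : sm gb N5304 = N5310 := flp_b L29214
theorem L29216 : sm ge N5302 = N5310 := ded_29_9 L29213 L15705 L7869 L3923 L2124 L4107 L7871 L15704 L29169
theorem L29217 : sm ge N5310 = N5302 := flp_e L29216
theorem L29218 : sm gd N2958 = N5311 := rfl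
theorem L29219 : sm gd N5311 = N2958 := flp_d L29218
theorem L29220 : sm gb N5311 = N2959 := ded_14_1 L15707 L15704 L29218
theorem L29221 : sm gb N2959 = N5311 := flp_b L29220
theorem L29222 : sm ge N2958 = N5312 := rfl
theorem L29223 : sm ge N5312 = N2958 := flp_e L29222
theorem L29224 : sm ga N5312 = N5302 := ded_10_1 L29216 L29213 L29222
theorem L29225 : sm ga N5302 = N5312 := flp_a L29224
theorem L29226 : sm gb N5312 = N2960 := ded_15_1 L15711 L15704 L29222
theorem L29227 : sm gb N2960 = N5312 := flp_b L29226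
theorem L29228 : sm gc N5312 = N5310 := ded_19_1 L29217 L29168 L29222
theorem L29229 : sm gc N5310 = N5312 := flp_c L29228
theorem L29230 : sm gf N5312 = N5310 := ded_25_2 L29217 L29166 L29222
theorem L29231 : sm gf N5310 = N5312 := flp_f L29230
theorem L29232 : sm gg N2958 = N5313 := rfl
theorem L29233 : sm gg N5313 = N2958 := flp_g L29232
theorem L29234 : sm gb N5313 = N2961 := ded_17_1 L15717 L15704 L29232
theorem L29235 : sm gb N2961 = N5313 := flp_b L29234
theorem L29236 : sm ge N2959 = N5314 := rfl
theorem L29237 : sm ge N5314 = N2959 := flp_e L29236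
theorem L29238 : sm ga N5314 = N3087 := ded_10_1 L16432 L15709 L29236
theorem L29239 : sm ga N3087 = N5314 := flp_a L29238
theorem L29240 : sm gf N2959 = N5315 := rfl
theorem L29241 : sm gf N5315 = N2959 := flp_f L29240
theorem L29242 : sm ga N5315 = N3088 := ded_11_1 L16434 L15709 L29240
theorem L29243 : sm ga N3088 = N5315 := flp_a L29242
theorem L29244 : sm gg N2959 = N5316 := rfl
theorem L29245 : sm gg N5316 = N2959 := flp_g L29244
theorem L29246 : sm ga N5316 = N3089 := ded_12_1 L16436 L15709 L29244
theorem L29247 : sm ga N3089 = N5316 := flp_a L29246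
theorem L29248 : sm gd N2960 = N5317 := rfl
theorem L29249 : sm gd N5317 = N2960 := flp_d L29248
theorem L29250 : sm ga N5317 = N3090 := ded_9_1 L16438 L15713 L29248
theorem L29251 : sm ga N3090 = N5317 := flp_a L29250
theorem L29252 : sm gg N2960 = N5318 := rfl
theorem L29253 : sm gg N5318 = N2960 := flp_g L29252
theorem L29254 : sm ga N5318 = N3091 := ded_12_1 L16440 L15713 L29252
theorem L29255 : sm ga N3091 = N5318 := flp_a L29254
theorem L29256 : sm gc N5318 = N2962 := ded_21_1 L15723 L15715 L29252
theorem L29257 : sm gc N2962 = N5318 := flp_c L29256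
theorem L29258 : sm ge N5318 = N2961 := ded_26_1 L15717 L15710 L29252
theorem L29259 : sm ge N2961 = N5318 := flp_e L29258
theorem L29260 : sm gf N5318 = N5305 := ded_28_2 L29183 L29174 L29180 L29252
theorem L29261 : sm gf N5305 = N5318 := flp_f L29260
theorem L29262 : sm gd N2961 = N5319 := rfl
theorem L29263 : sm gd N5319 = N2961 := flp_d L29262
theorem L29264 : sm ga N5319 = N3092 := ded_9_1 L16448 L15719 L29262
theorem L29265 : sm ga N3092 = N5319 := flp_a L29264
theorem L29266 : sm gf N2961 = N5320 := rfl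
theorem L29267 : sm gf N5320 = N2961 := flp_f L29266
theorem L29268 : sm ga N5320 = N3093 := ded_11_1 L16450 L15719 L29266
theorem L29270 : sm gc N5320 = N2964 := ded_20_1 L15737 L15721 L29266
theorem L29271 : sm gc N2964 = N5320 := flp_c L29270
theorem L29272 : sm ge N5320 = N5305 := ded_25_1 L29261 L29258 L29266
theorem L29274 : sm gg N5320 = N5304 := ded_28_3 L29175 L15664 L15716 L29266
theorem L29276 : sm gd N2962 = N5321 := rfl
theorem L29277 : sm gd N5321 = N2962 := flp_d L29276
theorem L29278 : sm ga N5321 = N3094 := ded_9_1 L16458 L15725 L29276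
theorem L29279 : sm ga N3094 = N5321 := flp_a L29278
theorem L29280 : sm gc N2963 = N5322 := rfl
theorem L29281 : sm gc N5322 = N2963 := flp_c L29280
theorem L29282 : sm ga N5322 = N3095 := ded_8_1 L16461 L15733 L29280
theorem L29283 : sm ga N3095 = N5322 := flp_a L29282
theorem L29284 : sm gg N5322 = N2965 := ded_21_2 L15747 L15735 L29280
theorem L29285 : sm gg N2965 = N5322 := flp_g L29284
theorem L29286 : sm gb N5322 = N4816 := ded_13_1 L26380 L26318 L26319 L15820 L29280
theorem L29287 : sm gb N4816 = N5322 := flp_b L29286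
theorem L29288 : sm ge N5322 = N4814 := ded_29_9 L26362 L25176 L13291 L13289 L13787 L13790 L15819 L15820 L29280
theorem L29289 : sm ge N4814 = N5322 := flp_e L29288
theorem L29290 : sm gf N4811 = N5322 := ded_11_0 L29282 L25173 L26339
theorem L29292 : sm ge N2963 = N5323 := rfl
theorem L29293 : sm ge N5323 = N2963 := flp_e L29292
theorem L29294 : sm ga N5323 = N3096 := ded_10_1 L16465 L15733 L29292
theorem L29295 : sm ga N3096 = N5323 := flp_a L29294
theorem L29296 : sm gc N5323 = N4814 := ded_19_1 L29289 L29281 L29292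
theorem L29297 : sm gc N4814 = N5323 := flp_c L29296
theorem L29298 : sm gg N5323 = N2966 := ded_26_2 L15751 L15735 L29292
theorem L29299 : sm gg N2966 = N5323 := flp_g L29298
theorem L29300 : sm gf N5323 = N4813 := ded_28_0 L26358 L15755 L15735 L29292
theorem L29301 : sm gf N4813 = N5323 := flp_f L29300
theorem L29302 : sm gf N2963 = N5324 := rfl
theorem L29303 : sm gf N5324 = N2963 := flp_f L29302
theorem L29304 : sm ga N5324 = N3097 := ded_11_1 L16470 L15733 L29302
theorem L29305 : sm ga N3097 = N5324 := flp_a L29304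
theorem L29306 : sm gb N5324 = N4806 := ded_16_1 L26304 L15820 L29302
theorem L29307 : sm gb N4806 = N5324 := flp_b L29306
theorem L29308 : sm gc N5324 = N4811 := ded_20_1 L29290 L29281 L29302
theorem L29309 : sm gc N4811 = N5324 := flp_c L29308
theorem L29310 : sm ge N5324 = N4813 := ded_25_1 L29301 L29293 L29302
theorem L29311 : sm ge N4813 = N5324 := flp_e L29310
theorem L29312 : sm gd N2964 = N5325 := rfl
theorem L29313 : sm gd N5325 = N2964 := flp_d L29312
theorem L29314 : sm ga N5325 = N3098 := ded_9_1 L16473 L15739 L29312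
theorem L29315 : sm ga N3098 = N5325 := flp_a L29314
theorem L29316 : sm gb N5325 = N5321 := ded_14_1 L29277 L15741 L29312
theorem L29317 : sm gb N5321 = N5325 := flp_b L29316
theorem L29318 : sm gg N5325 = N5321 := ded_24_2 L29277 L15723 L15675 L15745 L29312
theorem L29319 : sm gg N5321 = N5325 := flp_g L29318
theorem L29320 : sm gd N2965 = N5326 := rfl
theorem L29321 : sm gd N5326 = N2965 := flp_d L29320
theorem L29322 : sm ga N5326 = N3100 := ded_9_1 L16485 L15749 L29320
theorem L29323 : sm ga N3100 = N5326 := flp_a L29322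
theorem L29324 : sm ge N2965 = N5327 := rfl
theorem L29325 : sm ge N5327 = N2965 := flp_e L29324
theorem L29326 : sm ga N5327 = N3101 := ded_10_1 L16487 L15749 L29324
theorem L29327 : sm ga N3101 = N5327 := flp_a L29326
theorem L29328 : sm gb N5327 = N4827 := ded_15_1 L26439 L26436 L29324
theorem L29329 : sm gb N4827 = N5327 := flp_b L29328
theorem L29330 : sm gc N5327 = N2966 := ded_19_1 L15751 L15746 L29324
theorem L29331 : sm gc N2966 = N5327 := flp_c L29330
theorem L29332 : sm gg N5327 = N4814 := ded_26_2 L29289 L29284 L29324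
theorem L29333 : sm gg N4814 = N5327 := flp_g L29332
theorem L29334 : sm gf N2966 = N5328 := rfl
theorem L29335 : sm gf N5328 = N2966 := flp_f L29334
theorem L29336 : sm ga N5328 = N3103 := ded_11_1 L16499 L15753 L29334
theorem L29337 : sm ga N3103 = N5328 := flp_a L29336
theorem L29338 : sm ge N5328 = N2967 := ded_25_1 L15755 L15750 L29334
theorem L29339 : sm ge N2967 = N5328 := flp_e L29338
theorem L29340 : sm gg N5328 = N5324 := ded_28_3 L29310 L29301 L29298 L29334
theorem L29341 : sm gg N5324 = N5328 := flp_g L29340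
theorem L29342 : sm ga N2968 = N5329 := rfl
theorem L29344 : sm gb N5329 = N5308 := ded_7_2 L29200 L16518 L16515 L8255 L7887 L15760 L29342
theorem L29348 : sm gd N2968 = N5330 := rfl
theorem L29350 : sm gb N5330 = N2969 := ded_14_1 L15763 L15760 L29348
theorem L29352 : sm ge N2968 = N5331 := rfl
theorem L29356 : sm gb N5331 = N2970 := ded_15_1 L15767 L15760 L29352
theorem L29366 : sm ge N2969 = N5333 := rfl
theorem L29367 : sm ge N5333 = N2969 := flp_e L29366
theorem L29368 : sm ga N5333 = N3110 := ded_10_1 L16544 L15765 L29366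
theorem L29370 : sm gf N2969 = N5334 := rfl
theorem L29371 : sm gf N5334 = N2969 := flp_f L29370
theorem L29372 : sm ga N5334 = N3111 := ded_11_1 L16546 L15765 L29370
theorem L29373 : sm ga N3111 = N5334 := flp_a L29372
theorem L29374 : sm gg N2969 = N5335 := rfl
theorem L29375 : sm gg N5335 = N2969 := flp_g L29374
theorem L29378 : sm gd N2970 = N5336 := rfl
theorem L29379 : sm gd N5336 = N2970 := flp_d L29378
theorem L29380 : sm ga N5336 = N3113 := ded_9_1 L16550 L15769 L29378
theorem L29381 : sm ga N3113 = N5336 := flp_a L29380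
theorem L29382 : sm gf N2970 = N5337 := rfl
theorem L29383 : sm gf N5337 = N2970 := flp_f L29382
theorem L29384 : sm ga N5337 = N3114 := ded_11_1 L16552 L15769 L29382
theorem L29385 : sm ga N3114 = N5337 := flp_a L29384
theorem L29386 : sm gc N5337 = N2972 := ded_20_1 L15779 L15771 L29382
theorem L29390 : sm gg N5309 = N5337 := ded_28_1 L29383 L29205 L29199 L29206
theorem L29391 : sm gg N5337 = N5309 := flp_g L29390
theorem L29396 : sm gg N2971 = N5339 := rfl
theorem L29397 : sm gg N5339 = N2971 := flp_g L29396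
theorem L29398 : sm ga N5339 = N3116 := ded_12_1 L16562 L15775 L29396
theorem L29399 : sm ga N3116 = N5339 := flp_a L29398
theorem L29400 : sm gc N5339 = N2974 := ded_21_1 L15795 L15777 L29396
theorem L29404 : sm gf N5308 = N5339 := ded_28_0 L29397 L15773 L15687 L29198
theorem L29405 : sm gf N5339 = N5308 := flp_f L29404
theorem L29406 : sm gd N2972 = N5340 := rfl
theorem L29407 : sm gd N5340 = N2972 := flp_d L29406
theorem L29408 : sm ga N5340 = N3117 := ded_9_1 L16570 L15781 L29406
theorem L29409 : sm ga N3117 = N5340 := flp_a L29408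
theorem L29410 : sm gc N2973 = N5341 := rfl
theorem L29411 : sm gc N5341 = N2973 := flp_c L29410
theorem L29412 : sm ga N5341 = N3118 := ded_8_1 L16573 L15789 L29410
theorem L29413 : sm ga N3118 = N5341 := flp_a L29412
theorem L29414 : sm gf N5341 = N2975 := ded_20_2 L15805 L15793 L29410
theorem L29415 : sm gf N2975 = N5341 := flp_f L29414
theorem L29416 : sm gb N5341 = N4826 := ded_13_1 L26422 L26373 L26374 L15791 L29410
theorem L29417 : sm gb N4826 = N5341 := flp_b L29416
theorem L29418 : sm ge N5341 = N4809 := ded_29_9 L26325 L13796 L6898 L13295 L16493 L16494 L15757 L15791 L29410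
theorem L29419 : sm ge N4809 = N5341 := flp_e L29418
theorem L29420 : sm gg N4807 = N5341 := ded_12_0 L29412 L16578 L26308
theorem L29422 : sm ge N2973 = N5342 := rfl
theorem L29423 : sm ge N5342 = N2973 := flp_e L29422
theorem L29424 : sm ga N5342 = N3119 := ded_10_1 L16583 L15789 L29422
theorem L29425 : sm ga N3119 = N5342 := flp_a L29424
theorem L29426 : sm gb N5342 = N5328 := ded_15_1 L29338 L15791 L29422
theorem L29427 : sm gb N5328 = N5342 := flp_b L29426
theorem L29428 : sm gc N5342 = N4809 := ded_19_1 L29419 L29411 L29422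
theorem L29429 : sm gc N4809 = N5342 := flp_c L29428
theorem L29430 : sm gf N5342 = N2976 := ded_25_2 L15809 L15793 L29422
theorem L29431 : sm gf N2976 = N5342 := flp_f L29430
theorem L29432 : sm gg N4806 = N5342 := ded_28_3 L29423 L15792 L15816 L26303
theorem L29433 : sm gg N5342 = N4806 := flp_g L29432
theorem L29434 : sm gg N2973 = N5343 := rfl
theorem L29435 : sm gg N5343 = N2973 := flp_g L29434
theorem L29436 : sm ga N5343 = N3120 := ded_12_1 L16592 L15789 L29434
theorem L29437 : sm ga N3120 = N5343 := flp_a L29436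
theorem L29438 : sm gb N5343 = N4813 := ded_17_1 L26358 L15791 L29434
theorem L29439 : sm gb N4813 = N5343 := flp_b L29438
theorem L29440 : sm gc N5343 = N4807 := ded_21_1 L29420 L29411 L29434
theorem L29441 : sm gc N4807 = N5343 := flp_c L29440
theorem L29442 : sm ge N5343 = N4806 := ded_26_1 L29432 L29423 L29434
theorem L29443 : sm ge N4806 = N5343 := flp_e L29442
theorem L29444 : sm gd N2974 = N5344 := rfl
theorem L29445 : sm gd N5344 = N2974 := flp_d L29444
theorem L29446 : sm ga N5344 = N3121 := ded_9_1 L16599 L15797 L29444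
theorem L29447 : sm ga N3121 = N5344 := flp_a L29446
theorem L29448 : sm gb N5344 = N5340 := ded_14_1 L29407 L15799 L29444
theorem L29449 : sm gb N5340 = N5344 := flp_b L29448
theorem L29450 : sm gf N5344 = N5340 := ded_23_2 L29407 L15779 L15697 L15802 L29444
theorem L29451 : sm gf N5340 = N5344 := flp_f L29450
theorem L29452 : sm gb N2975 = N5345 := rfl
theorem L29454 : sm gf N5345 = N4826 := ded_16_2 L29417 L29414 L29452
theorem L29455 : sm gf N4826 = N5345 := flp_f L29454
theorem L29458 : sm gc N5345 = N4829 := ded_13_2 L26436 L15747 L7901 L15804 L29452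
theorem L29460 : sm ga N5345 = N4827 := ded_7_1 L29329 L29326 L25215 L25212 L13820 L15807 L29452
theorem L29462 : sm gd N2975 = N5346 := rfl
theorem L29463 : sm gd N5346 = N2975 := flp_d L29462
theorem L29464 : sm ga N5346 = N3122 := ded_9_1 L16604 L15807 L29462
theorem L29465 : sm ga N3122 = N5346 := flp_a L29464
theorem L29466 : sm ge N2975 = N5347 := rfl
theorem L29467 : sm ge N5347 = N2975 := flp_e L29466
theorem L29468 : sm ga N5347 = N3123 := ded_10_1 L16606 L15807 L29466
theorem L29469 : sm ga N3123 = N5347 := flp_a L29468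
theorem L29470 : sm gc N5347 = N2976 := ded_19_1 L15809 L15804 L29466
theorem L29471 : sm gc N2976 = N5347 := flp_c L29470
theorem L29472 : sm gf N5347 = N4809 := ded_25_2 L29419 L29414 L29466
theorem L29473 : sm gf N4809 = N5347 := flp_f L29472
theorem L29474 : sm gg N2976 = N5348 := rfl
theorem L29475 : sm gg N5348 = N2976 := flp_g L29474
theorem L29476 : sm ga N5348 = N3124 := ded_12_1 L16614 L15811 L29474
theorem L29477 : sm ga N3124 = N5348 := flp_a L29476
theorem L29478 : sm gb N5348 = N5323 := ded_17_1 L29298 L15813 L29474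
theorem L29479 : sm gb N5323 = N5348 := flp_b L29478
theorem L29480 : sm ge N5348 = N2977 := ded_26_1 L15817 L15808 L29474
theorem L29481 : sm ge N2977 = N5348 := flp_e L29480
theorem L29482 : sm gf N5343 = N5348 := ded_28_0 L29475 L29431 L29433 L29443
theorem L29483 : sm gf N5348 = N5343 := flp_f L29482
theorem L29484 : sm gd N2978 = N5349 := rfl
theorem L29485 : sm gd N5349 = N2978 := flp_d L29484
theorem L29486 : sm gb N5349 = N2979 := ded_14_1 L15831 L15824 L29484
theorem L29487 : sm gb N2979 = N5349 := flp_b L29486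
theorem L29488 : sm gg N2978 = N5350 := rfl
theorem L29489 : sm gg N5350 = N2978 := flp_g L29488
theorem L29494 : sm gc N2979 = N5351 := rfl
theorem L29495 : sm gc N5351 = N2979 := flp_c L29494
theorem L29496 : sm ga N5351 = N3129 := ded_8_1 L16649 L15833 L29494
theorem L29497 : sm ga N3129 = N5351 := flp_a L29496
theorem L29498 : sm ge N2979 = N5352 := rfl
theorem L29499 : sm ge N5352 = N2979 := flp_e L29498
theorem L29500 : sm ga N5352 = N3130 := ded_10_1 L16651 L15833 L29498
theorem L29501 : sm ga N3130 = N5352 := flp_a L29500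
theorem L29502 : sm gf N2979 = N5353 := rfl
theorem L29503 : sm gf N5353 = N2979 := flp_f L29502
theorem L29504 : sm ga N5353 = N3131 := ded_11_1 L16653 L15833 L29502
theorem L29505 : sm ga N3131 = N5353 := flp_a L29504
theorem L29506 : sm gd N5353 = N3131 := ded_23_1 L16653 L8303 L7907 L15830 L29502
theorem L29507 : sm gd N3131 = N5353 := flp_d L29506
theorem L29508 : sm gg N2979 = N5354 := rfl
theorem L29509 : sm gg N5354 = N2979 := flp_g L29508
theorem L29510 : sm ga N5354 = N3132 := ded_12_1 L16655 L15833 L29508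
theorem L29511 : sm ga N3132 = N5354 := flp_a L29510
theorem L29512 : sm gd N2980 = N5355 := rfl
theorem L29513 : sm gd N5355 = N2980 := flp_d L29512
theorem L29516 : sm gd N2981 = N5356 := rfl
theorem L29517 : sm gd N5356 = N2981 := flp_d L29516
theorem L29518 : sm ga N5356 = N3135 := ded_9_1 L16667 L15845 L29516
theorem L29519 : sm ga N3135 = N5356 := flp_a L29518
theorem L29520 : sm gd N2982 = N5357 := rfl
theorem L29522 : sm gb N5357 = N2983 := ded_14_1 L15855 L15848 L29520
theorem L29523 : sm gb N2983 = N5357 := flp_b L29522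
theorem L29524 : sm gf N2982 = N5358 := rfl
theorem L29525 : sm gf N5358 = N2982 := flp_f L29524
theorem L29526 : sm gb N5358 = N2985 := ded_16_1 L15867 L15848 L29524
theorem L29530 : sm gc N2983 = N5359 := rfl
theorem L29531 : sm gc N5359 = N2983 := flp_c L29530
theorem L29532 : sm ga N5359 = N3141 := ded_8_1 L16707 L15857 L29530
theorem L29533 : sm ga N3141 = N5359 := flp_a L29532
theorem L29534 : sm ge N2983 = N5360 := rfl
theorem L29535 : sm ge N5360 = N2983 := flp_e L29534
theorem L29536 : sm ga N5360 = N3142 := ded_10_1 L16709 L15857 L29534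
theorem L29537 : sm ga N3142 = N5360 := flp_a L29536
theorem L29538 : sm gf N2983 = N5361 := rfl
theorem L29539 : sm gf N5361 = N2983 := flp_f L29538
theorem L29540 : sm ga N5361 = N3143 := ded_11_1 L16711 L15857 L29538
theorem L29541 : sm ga N3143 = N5361 := flp_a L29540
theorem L29542 : sm gg N2983 = N5362 := rfl
theorem L29543 : sm gg N5362 = N2983 := flp_g L29542
theorem L29544 : sm ga N5362 = N3144 := ded_12_1 L16713 L15857 L29542
theorem L29545 : sm ga N3144 = N5362 := flp_a L29544
theorem L29546 : sm gd N5362 = N3144 := ded_24_1 L16713 L8335 L7929 L15854 L29542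
theorem L29547 : sm gd N3144 = N5362 := flp_d L29546
theorem L29548 : sm gd N2984 = N5363 := rfl
theorem L29549 : sm gd N5363 = N2984 := flp_d L29548
theorem L29550 : sm ga N5363 = N3145 := ded_9_1 L16715 L15861 L29548
theorem L29558 : sm ge N2986 = N5366 := rfl
theorem L29560 : sm gb N5366 = N2989 := ded_15_1 L15891 L15875 L29558
theorem L29562 : sm gf N2986 = N5367 := rfl
theorem L29563 : sm gf N5367 = N2986 := flp_f L29562
theorem L29564 : sm gb N5367 = N2990 := ded_16_1 L15895 L15875 L29562
theorem L29566 : sm gd N5367 = N3021 := ded_23_1 L16077 L8049 L7949 L15872 L29562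
theorem L29567 : sm gd N3021 = N5367 := flp_d L29566
theorem L29568 : sm gg N2986 = N5368 := rfl
theorem L29569 : sm gg N5368 = N2986 := flp_g L29568
theorem L29570 : sm gb N5368 = N2991 := ded_17_1 L15901 L15875 L29568
theorem L29578 : sm gb N2988 = N5370 := rfl
theorem L29579 : sm gb N5370 = N2988 := flp_b L29578
theorem L29580 : sm ge N2988 = N5371 := rfl
theorem L29581 : sm ge N5371 = N2988 := flp_e L29580
theorem L29586 : sm gf N2988 = N5372 := rfl
theorem L29587 : sm gf N5372 = N2988 := flp_f L29586
theorem L29592 : sm gg N2988 = N5373 := rfl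
theorem L29593 : sm gg N5373 = N2988 := flp_g L29592
theorem L29594 : sm ga N5373 = N3160 := ded_12_1 L16785 L15889 L29592
theorem L29596 : sm gc N5373 = N2991 := ded_21_1 L15901 L15886 L29592
theorem L29598 : sm gd N2989 = N5374 := rfl
theorem L29599 : sm gd N5374 = N2989 := flp_d L29598
theorem L29600 : sm ga N5374 = N3161 := ded_9_1 L16789 L15893 L29598
theorem L29601 : sm ga N3161 = N5374 := flp_a L29600
theorem L29602 : sm ge N5374 = N2992 := ded_22_2 L15905 L7957 L7952 L15890 L29598
theorem L29604 : sm gf N2989 = N5375 := rfl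
theorem L29605 : sm gf N5375 = N2989 := flp_f L29604
theorem L29606 : sm ga N5375 = N3162 := ded_11_1 L16793 L15893 L29604
theorem L29607 : sm ga N3162 = N5375 := flp_a L29606
theorem L29608 : sm ge N5375 = N2990 := ded_25_1 L15895 L15890 L29604
theorem L29609 : sm ge N2990 = N5375 := flp_e L29608
theorem L29610 : sm gg N2989 = N5376 := rfl
theorem L29612 : sm ga N5376 = N3163 := ded_12_1 L16797 L15893 L29610
theorem L29613 : sm ga N3163 = N5376 := flp_a L29612
theorem L29614 : sm ge N5376 = N2991 := ded_26_1 L15901 L15890 L29610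
theorem L29615 : sm ge N2991 = N5376 := flp_e L29614
theorem L29616 : sm gg N2990 = N5377 := rfl
theorem L29617 : sm gg N5377 = N2990 := flp_g L29616
theorem L29618 : sm ga N5377 = N3164 := ded_12_1 L16801 L15897 L29616
theorem L29619 : sm ga N3164 = N5377 := flp_a L29618
theorem L29620 : sm gf N5376 = N5377 := ded_28_0 L29617 L15895 L15900 L29615
theorem L29621 : sm gf N5377 = N5376 := flp_f L29620
theorem L29622 : sm gd N2991 = N5378 := rfl
theorem L29623 : sm gd N5378 = N2991 := flp_d L29622
theorem L29628 : sm gf N2991 = N5379 := rfl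
theorem L29632 : sm ge N5379 = N5377 := ded_25_1 L29621 L29614 L29628
theorem L29634 : sm gg N5379 = N5375 := ded_28_3 L29608 L15895 L15900 L29628
theorem L29636 : sm gc N2992 = N5380 := rfl
theorem L29638 : sm ga N5380 = N3167 := ded_8_1 L16815 L15907 L29636
theorem L29639 : sm ga N3167 = N5380 := flp_a L29638
theorem L29646 : sm gg N2992 = N5382 := rfl
theorem L29647 : sm gg N5382 = N2992 := flp_g L29646
theorem L29648 : sm ga N5382 = N3169 := ded_12_1 L16821 L15907 L29646
theorem L29649 : sm ga N3169 = N5382 := flp_a L29648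
theorem L29650 : sm gc N2993 = N5383 := rfl
theorem L29651 : sm gc N5383 = N2993 := flp_c L29650
theorem L29652 : sm ga N5383 = N3170 := ded_8_1 L16823 L15911 L29650
theorem L29653 : sm ga N3170 = N5383 := flp_a L29652
theorem L29654 : sm ge N2993 = N5384 := rfl
theorem L29656 : sm ga N5384 = N3171 := ded_10_1 L16825 L15911 L29654
theorem L29657 : sm ga N3171 = N5384 := flp_a L29656
theorem L29658 : sm gf N2993 = N5385 := rfl
theorem L29659 : sm gf N5385 = N2993 := flp_f L29658
theorem L29660 : sm ga N5385 = N3172 := ded_11_1 L16827 L15911 L29658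
theorem L29662 : sm gg N3211 = N5385 := ded_31_0 L29659 L15909 L7968 L3980 L2044 L1045 L551 L603 L594 L589 L1126 L2173 L4203 L8492 L17000
theorem L29663 : sm gg N5385 = N3211 := flp_g L29662
theorem L29664 : sm gc N5385 = N3213 := ded_21_1 L17005 L17000 L29662
theorem L29666 : sm gf N3213 = N5383 := ded_20_2 L29651 L29658 L29664
theorem L29668 : sm gb N2994 = N5386 := rfl
theorem L29670 : sm gg N5386 = N2997 := ded_17_2 L15933 L15917 L29668
theorem L29671 : sm gg N2997 = N5386 := flp_g L29670
theorem L29672 : sm gc N5386 = N3572 := ded_13_2 L19029 L9509 L7975 L15912 L29668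
theorem L29674 : sm gf N4132 = N5386 := ded_20_0 L29672 L19030 L22483
theorem L29675 : sm gf N5386 = N4132 := flp_f L29674
theorem L29676 : sm gd N2994 = N5387 := rfl
theorem L29678 : sm ga N5387 = N3174 := ded_9_1 L16835 L15915 L29676
theorem L29688 : sm gf N2994 = N5389 := rfl
theorem L29690 : sm ga N5389 = N3176 := ded_11_1 L16843 L15915 L29688
theorem L29691 : sm ga N3176 = N5389 := flp_a L29690
theorem L29700 : sm gf N2997 = N5391 := rfl
theorem L29701 : sm gf N5391 = N2997 := flp_f L29700
theorem L29702 : sm gb N5391 = N3000 := ded_16_1 L15947 L15932 L29700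
theorem L29706 : sm gc N2998 = N5392 := rfl
theorem L29708 : sm ga N5392 = N3181 := ded_8_1 L16873 L15939 L29706
theorem L29722 : sm gd N2999 = N5396 := rfl
theorem L29723 : sm gd N5396 = N2999 := flp_d L29722
theorem L29724 : sm ga N5396 = N3185 := ded_9_1 L16881 L15943 L29722
theorem L29725 : sm ga N3185 = N5396 := flp_a L29724
theorem L29758 : sm gf N3003 = N5402 := rfl
theorem L29759 : sm gf N5402 = N3003 := flp_f L29758
theorem L29760 : sm gb N5402 = N3007 := ded_16_1 L15997 L15977 L29758
theorem L29761 : sm gb N3007 = N5402 := flp_b L29760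
theorem L29768 : sm gd N3004 = N5404 := rfl
theorem L29769 : sm gd N5404 = N3004 := flp_d L29768
theorem L29772 : sm gb N5404 = N3010 := ded_14_1 L16011 L15983 L29768
theorem L29773 : sm gb N3010 = N5404 := flp_b L29772
theorem L29782 : sm gf N3005 = N5407 := rfl
theorem L29786 : sm gc N5407 = N3007 := ded_20_1 L15997 L15988 L29782
theorem L29788 : sm gg N3005 = N5408 := rfl
theorem L29789 : sm gg N5408 = N3005 := flp_g L29788
theorem L29790 : sm ga N5408 = N3201 := ded_12_1 L16963 L15991 L29788
theorem L29791 : sm ga N3201 = N5408 := flp_a L29790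
theorem L29812 : sm gd N3007 = N5412 := rfl
theorem L29814 : sm ga N5412 = N3205 := ded_9_1 L16979 L15999 L29812
theorem L29816 : sm gf N5412 = N3010 := ded_23_2 L16011 L8015 L8002 L15996 L29812
theorem L29846 : sm gc N3010 = N5418 := rfl
theorem L29850 : sm gg N5418 = N3172 := ded_31_4 L16827 L8405 L4169 L2163 L1090 L579 L298 L582 L588 L1050 L2090 L3996 L8014 L16010 L29846
theorem L29852 : sm ge N3010 = N5419 := rfl
theorem L29854 : sm ga N5419 = N3212 := ded_10_1 L17003 L16013 L29852
theorem L29855 : sm ga N3212 = N5419 := flp_a L29854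
theorem L29856 : sm gg N3010 = N5420 := rfl
theorem L29857 : sm gg N5420 = N3010 := flp_g L29856
theorem L29858 : sm ga N5420 = N3213 := ded_12_1 L17005 L16013 L29856
theorem L29862 : sm gf N3170 = N5420 := ded_11_0 L29858 L29666 L29652
theorem L29863 : sm gf N5420 = N3170 := flp_f L29862
theorem L29876 : sm gd N3013 = N5423 := rfl
theorem L29878 : sm gb N5423 = N3014 := ded_14_1 L16035 L16030 L29876
theorem L29880 : sm gg N3013 = N5424 := rfl
theorem L29881 : sm gg N5424 = N3013 := flp_g L29880
theorem L29882 : sm gb N5424 = N3016 := ded_17_1 L16045 L16030 L29880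
theorem L29886 : sm ge N5424 = N4029 := ded_26_1 L21889 L17031 L29880
theorem L29888 : sm gf N4034 = N5424 := ded_28_0 L29881 L21924 L21919 L21914
theorem L29890 : sm gc N3014 = N5425 := rfl
theorem L29891 : sm gc N5425 = N3014 := flp_c L29890
theorem L29892 : sm ga N5425 = N3222 := ded_8_1 L17051 L16037 L29890
theorem L29893 : sm ga N3222 = N5425 := flp_a L29892
theorem L29894 : sm ge N3014 = N5426 := rfl
theorem L29895 : sm ge N5426 = N3014 := flp_e L29894
theorem L29896 : sm ga N5426 = N3223 := ded_10_1 L17053 L16037 L29894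
theorem L29897 : sm ga N3223 = N5426 := flp_a L29896
theorem L29898 : sm gf N3014 = N5427 := rfl
theorem L29899 : sm gf N5427 = N3014 := flp_f L29898
theorem L29900 : sm ga N5427 = N3224 := ded_11_1 L17055 L16037 L29898
theorem L29901 : sm ga N3224 = N5427 := flp_a L29900
theorem L29902 : sm gg N3014 = N5428 := rfl
theorem L29903 : sm gg N5428 = N3014 := flp_g L29902
theorem L29904 : sm ga N5428 = N3225 := ded_12_1 L17057 L16037 L29902
theorem L29905 : sm ga N3225 = N5428 := flp_a L29904
theorem L29906 : sm gd N3015 = N5429 := rfl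
theorem L29907 : sm gd N5429 = N3015 := flp_d L29906
theorem L29908 : sm ga N5429 = N3226 := ded_9_1 L17059 L16041 L29906
theorem L29909 : sm ga N3226 = N5429 := flp_a L29908
theorem L29910 : sm gg N3015 = N5430 := rfl
theorem L29916 : sm gc N5430 = N3017 := ded_21_1 L16051 L16043 L29910
theorem L29917 : sm gc N3017 = N5430 := flp_c L29916
theorem L29926 : sm gf N3016 = N5432 := rfl
theorem L29930 : sm gb N5432 = N4034 := ded_16_1 L29888 L29882 L29926
theorem L29938 : sm gd N5432 = N4032 := ded_31_2 L21906 L11334 L8026 L4012 L3944 L3947 L3902 L2000 L1016 L1038 L2062 L4011 L8028 L16044 L29926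
theorem L29939 : sm gd N4032 = N5432 := flp_d L29938
theorem L29940 : N4034 = N4033 := coi_14_2 L21913 L21904 L29939 L29930
theorem L29941 : N4034 = N4033 := eqc rfl L29940 rfl
theorem L29944 : sm gc N4033 = N2149 := trfs L29941 L21916 rfl
theorem L29945 : sm gc N2149 = N4033 := flp_c L29944
theorem L29946 : sm ge N4033 = N2148 := trfs L29941 L21915 rfl
theorem L29948 : sm gf N4033 = N5424 := trfs L29941 L29888 rfl
theorem L29949 : sm gf N5424 = N4033 := flp_f L29948
theorem L29950 : sm gb N3019 = N5433 := rfl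
theorem L29951 : sm gb N5433 = N3019 := flp_b L29950
theorem L29952 : sm gc N5433 = N3025 := ded_13_2 L16101 L8059 L8051 L16070 L29950
theorem L29953 : sm gc N3025 = N5433 := flp_c L29952
theorem L29960 : sm gf N3019 = N5436 := rfl
theorem L29962 : sm gc N5436 = N3021 := ded_20_1 L16077 L16070 L29960
theorem L29964 : sm gg N3019 = N5437 := rfl
theorem L29966 : sm gc N5437 = N3022 := ded_21_1 L16081 L16070 L29964
theorem L29968 : sm gf N3020 = N5438 := rfl
theorem L29969 : sm gf N5438 = N3020 := flp_f L29968
theorem L29970 : sm gb N5438 = N3030 := ded_16_1 L16129 L16075 L29968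
theorem L29971 : sm gb N3030 = N5438 := flp_b L29970
theorem L29972 : sm ge N5438 = N3021 := ded_25_1 L16077 L16072 L29968
theorem L29974 : sm gg N3020 = N5439 := rfl
theorem L29978 : sm ge N5439 = N3022 := ded_26_1 L16081 L16072 L29974
theorem L29979 : sm ge N3022 = N5439 := flp_e L29978
theorem L29980 : sm gg N3021 = N5440 := rfl
theorem L29981 : sm gg N5440 = N3021 := flp_g L29980
theorem L29984 : sm gf N5439 = N5440 := ded_28_0 L29981 L16077 L16080 L29979
theorem L30002 : sm ge N3023 = N5444 := rfl
theorem L30003 : sm ge N5444 = N3023 := flp_e L30002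
theorem L30004 : sm gb N5444 = N3040 := ded_15_1 L16181 L16087 L30002
theorem L30005 : sm gb N3040 = N5444 := flp_b L30004
theorem L30016 : sm ga N3025 = N5447 := rfl
theorem L30017 : sm ga N5447 = N3025 := flp_a L30016
theorem L30018 : sm gd N5447 = N3256 := ded_9_2 L17225 L16103 L30016
theorem L30019 : sm gd N3256 = N5447 := flp_d L30018
theorem L30020 : sm ge N3025 = N5448 := rfl
theorem L30021 : sm ge N5448 = N3025 := flp_e L30020
theorem L30022 : sm gb N5448 = N3026 := ded_15_1 L16105 L16100 L30020
theorem L30023 : sm gb N3026 = N5448 := flp_b L30022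
theorem L30024 : sm gf N3025 = N5449 := rfl
theorem L30025 : sm gf N5449 = N3025 := flp_f L30024
theorem L30026 : sm gb N5449 = N3027 := ded_16_1 L16111 L16100 L30024
theorem L30027 : sm gb N3027 = N5449 := flp_b L30026
theorem L30028 : sm gg N3025 = N5450 := rfl
theorem L30029 : sm gg N5450 = N3025 := flp_g L30028
theorem L30032 : sm gd N3026 = N5451 := rfl
theorem L30033 : sm gd N5451 = N3026 := flp_d L30032
theorem L30034 : sm ga N5451 = N3260 := ded_9_1 L17239 L16107 L30032
theorem L30035 : sm ga N3260 = N5451 := flp_a L30034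
theorem L30036 : sm ge N5451 = N3260 := ded_22_2 L17239 L8603 L8063 L16104 L30032
theorem L30037 : sm ge N3260 = N5451 := flp_e L30036
theorem L30038 : sm gf N3026 = N5452 := rfl
theorem L30039 : sm gf N5452 = N3026 := flp_f L30038
theorem L30040 : sm ga N5452 = N3261 := ded_11_1 L17241 L16107 L30038
theorem L30041 : sm ga N3261 = N5452 := flp_a L30040
theorem L30042 : sm gc N5452 = N3030 := ded_20_1 L16129 L16109 L30038
theorem L30044 : sm ge N5452 = N3027 := ded_25_1 L16111 L16104 L30038
theorem L30046 : sm gg N3026 = N5453 := rfl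
theorem L30047 : sm gg N5453 = N3026 := flp_g L30046
theorem L30052 : sm ge N5453 = N3028 := ded_26_1 L16117 L16104 L30046
theorem L30053 : sm ge N3028 = N5453 := flp_e L30052
theorem L30054 : sm gd N3027 = N5454 := rfl
theorem L30055 : sm gd N5454 = N3027 := flp_d L30054
theorem L30056 : sm ga N5454 = N3263 := ded_9_1 L17253 L16113 L30054
theorem L30057 : sm ga N3263 = N5454 := flp_a L30056
theorem L30058 : sm gf N5454 = N3263 := ded_23_2 L17253 L8607 L8063 L16110 L30054
theorem L30059 : sm gf N3263 = N5454 := flp_f L30058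
theorem L30060 : sm gg N3027 = N5455 := rfl
theorem L30061 : sm gg N5455 = N3027 := flp_g L30060
theorem L30066 : sm gf N5453 = N5455 := ded_28_0 L30061 L16111 L16116 L30053
theorem L30068 : sm gd N3028 = N5456 := rfl
theorem L30069 : sm gd N5456 = N3028 := flp_d L30068
theorem L30070 : sm ga N5456 = N3265 := ded_9_1 L17261 L16119 L30068
theorem L30071 : sm ga N3265 = N5456 := flp_a L30070
theorem L30072 : sm gg N5456 = N3265 := ded_24_2 L17261 L8611 L8063 L16116 L30068
theorem L30073 : sm gg N3265 = N5456 := flp_g L30072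
theorem L30074 : sm gf N3028 = N5457 := rfl
theorem L30075 : sm gf N5457 = N3028 := flp_f L30074
theorem L30076 : sm ga N5457 = N3266 := ded_11_1 L17263 L16119 L30074
theorem L30077 : sm ga N3266 = N5457 := flp_a L30076
theorem L30084 : sm gc N3029 = N5458 := rfl
theorem L30085 : sm gc N5458 = N3029 := flp_c L30084
theorem L30086 : sm ga N5458 = N3267 := ded_8_1 L17271 L16125 L30084
theorem L30087 : sm ga N3267 = N5458 := flp_a L30086
theorem L30088 : sm ge N5458 = N3035 := ded_19_2 L16161 L16127 L30084
theorem L30090 : sm gb N5447 = N5458 := ded_29_7 L30085 L16126 L8078 L8573 L17188 L17190 L29950 L29952 L30016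
theorem L30092 : sm gd N5458 = N3267 := ded_14_2 L17275 L30019 L30090
theorem L30093 : sm gd N3267 = N5458 := flp_d L30092
theorem L30094 : sm gc N5451 = N5451 := ded_30_4 L30033 L16108 L16122 L30084 L30092 L30087 L30085 L16123 L16109 L30032
theorem L30095 : sm gc N3260 = N3260 := ded_30_0 L17239 L8604 L8614 L17270 L30093 L30085 L16123 L16109 L30032 L30034
theorem L30108 : sm gd N3030 = N5461 := rfl
theorem L30109 : sm gd N5461 = N3030 := flp_d L30108
theorem L30110 : sm ga N5461 = N3270 := ded_9_1 L17285 L16131 L30108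
theorem L30111 : sm ga N3270 = N5461 := flp_a L30110
theorem L30112 : sm gd N3031 = N5462 := rfl
theorem L30113 : sm gd N5462 = N3031 := flp_d L30112
theorem L30114 : sm ga N5462 = N3271 := ded_9_1 L17287 L16137 L30112
theorem L30115 : sm ga N3271 = N5462 := flp_a L30114
theorem L30116 : sm gd N3032 = N5463 := rfl
theorem L30117 : sm gd N5463 = N3032 := flp_d L30116
theorem L30118 : sm ga N5463 = N3272 := ded_9_1 L17289 L16143 L30116
theorem L30119 : sm ga N3272 = N5463 := flp_a L30118
theorem L30120 : sm gc N3033 = N5464 := rfl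
theorem L30121 : sm gc N5464 = N3033 := flp_c L30120
theorem L30124 : sm gg N5464 = N3039 := ded_21_2 L16177 L16151 L30120
theorem L30125 : sm gg N3039 = N5464 := flp_g L30124
theorem L30126 : sm ge N3033 = N5465 := rfl
theorem L30128 : sm ga N5465 = N3274 := ded_10_1 L17295 L16149 L30126
theorem L30129 : sm ga N3274 = N5465 := flp_a L30128
theorem L30136 : sm gd N3034 = N5467 := rfl
theorem L30137 : sm gd N5467 = N3034 := flp_d L30136
theorem L30138 : sm ga N5467 = N3276 := ded_9_1 L17301 L16155 L30136
theorem L30139 : sm ga N3276 = N5467 := flp_a L30138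
theorem L30146 : sm gd N3035 = N5469 := rfl
theorem L30147 : sm gd N5469 = N3035 := flp_d L30146
theorem L30148 : sm ga N5469 = N3278 := ded_9_1 L17309 L16163 L30146
theorem L30149 : sm ga N3278 = N5469 := flp_a L30148
theorem L30150 : sm ge N5469 = N3278 := ded_22_2 L17309 L17273 L30093 L30088 L30146
theorem L30152 : sm gc N5469 = N5469 := ded_30_0 L30147 L16161 L8077 L4029 L2082 L2197 L4261 L8640 L17308 L30149
theorem L30153 : sm gf N3035 = N5470 := rfl
theorem L30155 : sm ga N5470 = N3279 := ded_11_1 L17312 L16163 L30153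
theorem L30156 : sm ga N3279 = N5470 := flp_a L30155
theorem L30165 : sm gg N3036 = N5472 := rfl
theorem L30167 : sm ga N5472 = N3281 := ded_12_1 L17320 L16167 L30165
theorem L30168 : sm ga N3281 = N5472 := flp_a L30167
theorem L30195 : sm gf N3038 = N5477 := rfl
theorem L30196 : sm gf N5477 = N3038 := flp_f L30195
theorem L30199 : sm gd N5477 = N5385 := ded_23_1 L29659 L15909 L8089 L16172 L30195
theorem L30203 : sm gd N3039 = N5479 := rfl
theorem L30205 : sm ga N5479 = N3288 := ded_9_1 L17346 L16179 L30203
theorem L30206 : sm ga N3288 = N5479 := flp_a L30205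
theorem L30207 : sm ge N3039 = N5480 := rfl
theorem L30209 : sm ga N5480 = N3289 := ded_10_1 L17348 L16179 L30207
theorem L30210 : sm ga N3289 = N5480 := flp_a L30209
theorem L30229 : sm gd N3041 = N5483 := rfl
theorem L30231 : sm ga N5483 = N3292 := ded_9_1 L17362 L16187 L30229
theorem L30232 : sm ga N3292 = N5483 := flp_a L30231
theorem L30287 : sm gd N3045 = N5492 := rfl
theorem L30289 : sm ga N5492 = N3306 := ded_9_1 L17422 L16211 L30287
theorem L30291 : sm ge N3045 = N5493 := rfl
theorem L30295 : sm gc N5493 = N3046 := ded_19_1 L16215 L16208 L30291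
theorem L30299 : sm gg N3045 = N5494 := rfl
theorem L30300 : sm gg N5494 = N3045 := flp_g L30299
theorem L30301 : sm ga N5494 = N3308 := ded_12_1 L17428 L16211 L30299
theorem L30303 : sm gc N5494 = N3047 := ded_21_1 L16225 L16208 L30299
theorem L30305 : sm gb N3048 = N5495 := rfl
theorem L30307 : sm gc N5495 = N3054 := ded_13_2 L16263 L8131 L8123 L16232 L30305
theorem L30329 : sm gg N3049 = N5501 := rfl
theorem L30333 : sm ge N5501 = N3051 := ded_26_1 L16243 L16234 L30329
theorem L30334 : sm ge N3051 = N5501 := flp_e L30333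
theorem L30335 : sm gd N3050 = N5502 := rfl
theorem L30339 : sm gf N5502 = N3052 := ded_23_2 L16247 L8125 L8120 L16238 L30335
theorem L30341 : sm gg N3050 = N5503 := rfl
theorem L30342 : sm gg N5503 = N3050 := flp_g L30341
theorem L30345 : sm gf N5501 = N5503 := ded_28_0 L30342 L16239 L16242 L30334
theorem L30361 : sm gg N3052 = N5507 := rfl
theorem L30362 : sm gg N5507 = N3052 := flp_g L30361
theorem L30371 : sm ga N3054 = N5509 := rfl
theorem L30373 : sm gd N5509 = N3354 := ded_9_2 L17712 L16265 L30371
theorem L30401 : sm gg N3055 = N5515 := rfl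
theorem L30403 : sm ga N5515 = N3360 := ded_12_1 L17734 L16269 L30401
theorem L30404 : sm ga N3360 = N5515 := flp_a L30403
theorem L30407 : sm ge N5515 = N3057 := ded_26_1 L16279 L16266 L30401
theorem L30408 : sm ge N3057 = N5515 := flp_e L30407
theorem L30409 : sm gd N3056 = N5516 := rfl
theorem L30410 : sm gd N5516 = N3056 := flp_d L30409
theorem L30413 : sm gf N5516 = N3361 := ded_23_2 L17740 L8793 L8135 L16272 L30409
theorem L30414 : sm gf N3361 = N5516 := flp_f L30413
theorem L30415 : sm gg N3056 = N5517 := rfl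
theorem L30416 : sm gg N5517 = N3056 := flp_g L30415
theorem L30421 : sm gf N5515 = N5517 := ded_28_0 L30416 L16273 L16278 L30408
theorem L30422 : sm gf N5517 = N5515 := flp_f L30421
theorem L30439 : sm gc N3058 = N5520 := rfl
theorem L30440 : sm gc N5520 = N3058 := flp_c L30439
theorem L30445 : sm gb N5509 = N5520 := ded_29_7 L30440 L16288 L8150 L8759 L17675 L17677 L30305 L30307 L30371
theorem L30446 : sm gb N5520 = N5509 := flp_b L30445
theorem L30477 : sm ge N3061 = N5526 := rfl
theorem L30478 : sm ge N5526 = N3061 := flp_e L30477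
theorem L30481 : sm gf N5526 = N3069 := ded_25_2 L16343 L16307 L30477
theorem L30482 : sm gf N3069 = N5526 := flp_f L30481
theorem L30495 : sm gb N3064 = N5530 := rfl
theorem L30496 : sm gb N5530 = N3064 := flp_b L30495
theorem L30501 : sm gd N3064 = N5531 := rfl
theorem L30502 : sm gd N5531 = N3064 := flp_d L30501
theorem L30503 : sm ga N5531 = N3376 := ded_9_1 L17796 L16325 L30501
theorem L30504 : sm ga N3376 = N5531 := flp_a L30503
theorem L30507 : sm gc N5531 = N5531 := ded_30_0 L30502 L16323 L8149 L4069 L2100 L2247 L4355 L8826 L17795 L30504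
theorem L30508 : sm gf N3064 = N5532 := rfl
theorem L30510 : sm ga N5532 = N3377 := ded_11_1 L17799 L16325 L30508
theorem L30511 : sm ga N3377 = N5532 := flp_a L30510
theorem L30512 : sm gc N5532 = N3065 := ded_20_1 L16327 L16322 L30508
theorem L30520 : sm gd N3065 = N5534 := rfl
theorem L30524 : sm gf N5534 = N3067 := ded_23_2 L16335 L8153 L8148 L16326 L30520
theorem L30544 : sm ge N3067 = N5538 := rfl
theorem L30548 : sm gd N5538 = N3069 := ded_22_1 L16343 L8163 L8159 L16334 L30544
theorem L30558 : sm gd N3068 = N5541 := rfl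
theorem L30560 : sm ga N5541 = N3386 := ded_9_1 L17833 L16341 L30558
theorem L30561 : sm ga N3386 = N5541 := flp_a L30560
theorem L30568 : sm gg N3068 = N5543 := rfl
theorem L30569 : sm gg N5543 = N3068 := flp_g L30568
theorem L30572 : sm gc N5543 = N3070 := ded_21_1 L16347 L16338 L30568
theorem L30574 : sm gf N5543 = N5319 := ded_31_1 L29263 L15720 L7877 L7859 L7853 L3907 L2071 L2063 L2054 L3991 L3995 L4071 L8162 L16338 L30568
theorem L30575 : sm gf N5319 = N5543 := flp_f L30574
theorem L30590 : sm gf N3070 = N5546 := rfl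
theorem L30594 : sm gc N5546 = N5319 := ded_20_1 L30575 L30572 L30590
theorem L30598 : sm gg N5546 = N5526 := ded_28_3 L30478 L16306 L16346 L30590
theorem L30599 : sm gg N5526 = N5546 := flp_g L30598
theorem L30638 : sm gd N3074 = N5553 := rfl
theorem L30639 : sm gd N5553 = N3074 := flp_d L30638
theorem L30640 : sm gb N5553 = N3075 := ded_14_1 L16374 L16368 L30638
theorem L30641 : sm gb N3075 = N5553 := flp_b L30640
theorem L30642 : sm gg N3074 = N5554 := rfl
theorem L30643 : sm gg N5554 = N3074 := flp_g L30642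
theorem L30644 : sm gb N5554 = N3077 := ded_17_1 L16382 L16368 L30642
theorem L30645 : sm gb N3077 = N5554 := flp_b L30644
theorem L30646 : sm gc N5554 = N5554 := ded_21_1 L30643 L16372 L30642
theorem L30647 : sm gc N3075 = N5555 := rfl
theorem L30648 : sm gc N5555 = N3075 := flp_c L30647
theorem L30649 : sm gd N5555 = N5351 := ded_30_9 L29496 L16649 L8303 L4130 L2145 L2112 L4097 L8184 L16373 L30647
theorem L30650 : sm gd N5351 = N5555 := flp_d L30649
theorem L30651 : sm ge N3075 = N5556 := rfl
theorem L30652 : sm ge N5556 = N3075 := flp_e L30651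
theorem L30653 : sm gf N3075 = N5557 := rfl
theorem L30654 : sm gf N5557 = N3075 := flp_f L30653
theorem L30655 : sm gd N5557 = N3088 := ded_23_1 L16434 L8216 L8187 L16373 L30653
theorem L30656 : sm gd N3088 = N5557 := flp_d L30655
theorem L30657 : sm gg N3075 = N5558 := rfl
theorem L30658 : sm gg N5558 = N3075 := flp_g L30657
theorem L30659 : sm gd N3076 = N5559 := rfl
theorem L30660 : sm gd N5559 = N3076 := flp_d L30659
theorem L30661 : sm gd N3077 = N5560 := rfl
theorem L30662 : sm gd N5560 = N3077 := flp_d L30661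
theorem L30663 : sm gd N3078 = N5561 := rfl
theorem L30664 : sm gd N5561 = N3078 := flp_d L30663
theorem L30665 : sm gb N5561 = N3079 := ded_14_1 L16391 L16385 L30663
theorem L30666 : sm gb N3079 = N5561 := flp_b L30665
theorem L30667 : sm gf N3078 = N5562 := rfl
theorem L30668 : sm gf N5562 = N3078 := flp_f L30667
theorem L30672 : sm gc N3079 = N5563 := rfl
theorem L30673 : sm gc N5563 = N3079 := flp_c L30672
theorem L30674 : sm gd N5563 = N5359 := ded_30_9 L29532 L16707 L8335 L4142 L2149 L2119 L4102 L8198 L16390 L30672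
theorem L30675 : sm gd N5359 = N5563 := flp_d L30674
theorem L30676 : sm ge N3079 = N5564 := rfl
theorem L30677 : sm ge N5564 = N3079 := flp_e L30676
theorem L30678 : sm gf N3079 = N5565 := rfl
theorem L30679 : sm gf N5565 = N3079 := flp_f L30678
theorem L30680 : sm gg N3079 = N5566 := rfl
theorem L30681 : sm gg N5566 = N3079 := flp_g L30680
theorem L30682 : sm gd N5566 = N3112 := ded_24_1 L16548 L8258 L8201 L16390 L30680
theorem L30683 : sm gd N3112 = N5566 := flp_d L30682
theorem L30684 : sm gd N3080 = N5567 := rfl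
theorem L30685 : sm gd N5567 = N3080 := flp_d L30684
theorem L30686 : sm gd N3081 = N5568 := rfl
theorem L30687 : sm gd N5568 = N3081 := flp_d L30686
theorem L30688 : sm gd N3082 = N5569 := rfl
theorem L30689 : sm gd N5569 = N3082 := flp_d L30688
theorem L30690 : sm ga N5569 = N3083 := ded_9_1 L16410 L16402 L30688
theorem L30691 : sm ga N3083 = N5569 := flp_a L30690
theorem L30692 : sm gb N5569 = N5559 := ded_14_1 L30660 L16406 L30688
theorem L30693 : sm gb N5559 = N5569 := flp_b L30692
theorem L30694 : sm gg N3082 = N5570 := rfl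
theorem L30695 : sm gg N5570 = N3082 := flp_g L30694
theorem L30696 : sm ga N5570 = N3085 := ded_12_1 L16423 L16402 L30694
theorem L30697 : sm ga N3085 = N5570 := flp_a L30696
theorem L30698 : sm gb N5570 = N3093 := ded_17_1 L16455 L16406 L30694
theorem L30699 : sm gb N3093 = N5570 := flp_b L30698
theorem L30700 : sm gc N5570 = N5570 := ded_21_1 L30695 L16404 L30694
theorem L30701 : sm ge N5570 = N5554 := ded_26_1 L30643 L16407 L30694
theorem L30702 : sm ge N5554 = N5570 := flp_e L30701
theorem L30703 : sm gf N5570 = N3085 := ded_28_2 L16423 L16413 L16420 L30694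
theorem L30704 : sm gf N3085 = N5570 := flp_f L30703
theorem L30705 : sm gc N3083 = N5571 := rfl
theorem L30706 : sm gc N5571 = N3083 := flp_c L30705
theorem L30707 : sm ge N3083 = N5572 := rfl
theorem L30708 : sm ge N5572 = N3083 := flp_e L30707
theorem L30709 : sm gb N5572 = N3087 := ded_15_1 L16432 L16412 L30707
theorem L30710 : sm gb N3087 = N5572 := flp_b L30709
theorem L30711 : sm gf N3083 = N5573 := rfl
theorem L30712 : sm gf N5573 = N3083 := flp_f L30711
theorem L30713 : sm gb N5573 = N3088 := ded_16_1 L16434 L16412 L30711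
theorem L30714 : sm gb N3088 = N5573 := flp_b L30713
theorem L30715 : sm gg N3083 = N5574 := rfl
theorem L30716 : sm gg N5574 = N3083 := flp_g L30715
theorem L30717 : sm gb N5574 = N3089 := ded_17_1 L16436 L16412 L30715
theorem L30718 : sm gb N3089 = N5574 := flp_b L30717
theorem L30719 : sm gd N3084 = N5575 := rfl
theorem L30720 : sm gd N5575 = N3084 := flp_d L30719
theorem L30721 : sm ga N5575 = N5553 := ded_9_1 L30639 L16416 L30719
theorem L30722 : sm ga N5553 = N5575 := flp_a L30721
theorem L30723 : sm gb N5575 = N3090 := ded_14_1 L16438 L16418 L30719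
theorem L30724 : sm gb N3090 = N5575 := flp_b L30723
theorem L30725 : sm gg N3084 = N5576 := rfl
theorem L30726 : sm gg N5576 = N3084 := flp_g L30725
theorem L30727 : sm ga N5576 = N5554 := ded_12_1 L30643 L16416 L30725
theorem L30728 : sm ga N5554 = N5576 := flp_a L30727
theorem L30729 : sm gb N5576 = N3091 := ded_17_1 L16440 L16418 L30725
theorem L30730 : sm gb N3091 = N5576 := flp_b L30729
theorem L30731 : sm gc N5576 = N5576 := ded_21_1 L30726 L16419 L30725
theorem L30732 : sm ge N5576 = N3085 := ded_26_1 L16423 L16413 L30725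
theorem L30733 : sm ge N3085 = N5576 := flp_e L30732
theorem L30734 : sm gf N5554 = N5576 := ded_28_0 L30726 L16420 L30694 L30701
theorem L30735 : sm gf N5576 = N5554 := flp_f L30734
theorem L30736 : sm gd N3085 = N5577 := rfl
theorem L30737 : sm gd N5577 = N3085 := flp_d L30736
theorem L30738 : sm gb N5577 = N3092 := ded_14_1 L16448 L16425 L30736
theorem L30739 : sm gb N3092 = N5577 := flp_b L30738
theorem L30740 : sm gb N3086 = N5578 := rfl
theorem L30741 : sm gb N5578 = N3086 := flp_b L30740
theorem L30742 : sm gd N5578 = N5370 := ded_14_2 L29579 L16430 L30740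
theorem L30743 : sm gd N5370 = N5578 := flp_d L30742
theorem L30744 : sm ge N3086 = N5579 := rfl
theorem L30745 : sm ge N5579 = N3086 := flp_e L30744
theorem L30746 : sm gc N5579 = N3087 := ded_19_1 L16432 L16427 L30744
theorem L30747 : sm gc N3087 = N5579 := flp_c L30746
theorem L30748 : sm gf N3086 = N5580 := rfl
theorem L30749 : sm gf N5580 = N3086 := flp_f L30748
theorem L30750 : sm gc N5580 = N3088 := ded_20_1 L16434 L16427 L30748
theorem L30752 : sm gg N3086 = N5581 := rfl
theorem L30753 : sm gg N5581 = N3086 := flp_g L30752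
theorem L30754 : sm gc N5581 = N3089 := ded_21_1 L16436 L16427 L30752
theorem L30755 : sm gc N3089 = N5581 := flp_c L30754
theorem L30756 : sm gd N3087 = N5582 := rfl
theorem L30757 : sm gd N5582 = N3087 := flp_d L30756
theorem L30758 : sm ge N5582 = N3090 := ded_22_2 L16438 L8218 L8215 L16431 L30756
theorem L30759 : sm ge N3090 = N5582 := flp_e L30758
theorem L30760 : sm gf N3087 = N5583 := rfl
theorem L30761 : sm gf N5583 = N3087 := flp_f L30760
theorem L30762 : sm ge N5583 = N3088 := ded_25_1 L16434 L16431 L30760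
theorem L30763 : sm ge N3088 = N5583 := flp_e L30762
theorem L30764 : sm gg N3087 = N5584 := rfl
theorem L30765 : sm gg N5584 = N3087 := flp_g L30764
theorem L30766 : sm ge N5584 = N3089 := ded_26_1 L16436 L16431 L30764
theorem L30767 : sm ge N3089 = N5584 := flp_e L30766
theorem L30768 : sm gg N3088 = N5585 := rfl
theorem L30769 : sm gg N5585 = N3088 := flp_g L30768
theorem L30770 : sm gf N5584 = N5585 := ded_28_0 L30769 L16434 L16435 L30767
theorem L30771 : sm gf N5585 = N5584 := flp_f L30770
theorem L30772 : sm gd N3089 = N5586 := rfl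
theorem L30773 : sm gd N5586 = N3089 := flp_d L30772
theorem L30774 : sm gg N5586 = N3092 := ded_24_2 L16448 L8222 L8215 L16435 L30772
theorem L30775 : sm gg N3092 = N5586 := flp_g L30774
theorem L30780 : sm ge N5586 = N3370 := ded_28_4 L17777 L17838 L17842 L30775
theorem L30782 : sm gf N3089 = N5587 := rfl
theorem L30783 : sm gf N5587 = N3089 := flp_f L30782
theorem L30784 : sm ge N5587 = N5585 := ded_25_1 L30771 L30766 L30782
theorem L30785 : sm ge N5585 = N5587 := flp_e L30784
theorem L30786 : sm gg N5587 = N5583 := ded_28_3 L30762 L16434 L16435 L30782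
theorem L30787 : sm gg N5583 = N5587 := flp_g L30786
theorem L30788 : sm gc N3090 = N5588 := rfl
theorem L30789 : sm gc N5588 = N3090 := flp_c L30788
theorem L30790 : sm gf N3090 = N5589 := rfl
theorem L30791 : sm gf N5589 = N3090 := flp_f L30790
theorem L30792 : sm gg N3090 = N5590 := rfl
theorem L30793 : sm gg N5590 = N3090 := flp_g L30792
theorem L30794 : sm gd N3091 = N5591 := rfl
theorem L30795 : sm gd N5591 = N3091 := flp_d L30794
theorem L30796 : sm ge N3092 = N5592 := rfl
theorem L30797 : sm ge N5592 = N3092 := flp_e L30796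
theorem L30798 : sm gc N5592 = N3372 := ded_19_1 L17859 L17856 L30796
theorem L30799 : sm gc N3372 = N5592 := flp_c L30798
theorem L30802 : sm gd N3093 = N5593 := rfl
theorem L30803 : sm gd N5593 = N3093 := flp_d L30802
theorem L30804 : sm gc N3094 = N5594 := rfl
theorem L30805 : sm gc N5594 = N3094 := flp_c L30804
theorem L30806 : sm ge N3094 = N5595 := rfl
theorem L30807 : sm ge N5595 = N3094 := flp_e L30806
theorem L30808 : sm gb N5595 = N5595 := ded_15_1 L30807 L16459 L30806
theorem L30809 : sm gd N5595 = N3096 := ded_22_1 L16465 L8233 L8229 L16457 L30806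
theorem L30810 : sm gd N3096 = N5595 := flp_d L30809
theorem L30811 : sm gd N3095 = N5596 := rfl
theorem L30812 : sm gd N5596 = N3095 := flp_d L30811
theorem L30813 : sm gd N3097 = N5597 := rfl
theorem L30814 : sm gd N5597 = N3097 := flp_d L30813
theorem L30815 : sm gb N5597 = N5597 := ded_14_1 L30814 L16471 L30813
theorem L30816 : sm gf N5597 = N3098 := ded_23_2 L16473 L8238 L8232 L16469 L30813
theorem L30817 : sm gf N3098 = N5597 := flp_f L30816
theorem L30818 : sm gc N3098 = N5598 := rfl
theorem L30819 : sm gc N5598 = N3098 := flp_c L30818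
theorem L30820 : sm gg N5598 = N5594 := ded_21_2 L30805 L16476 L30818
theorem L30821 : sm gg N5594 = N5598 := flp_g L30820
theorem L30822 : sm ge N3098 = N5599 := rfl
theorem L30823 : sm ge N5599 = N3098 := flp_e L30822
theorem L30824 : sm gb N5599 = N5599 := ded_15_1 L30823 L16474 L30822
theorem L30825 : sm gg N5599 = N5595 := ded_26_2 L30807 L16476 L30822
theorem L30826 : sm gg N5595 = N5599 := flp_g L30825
theorem L30827 : sm gd N5599 = N3124 := ded_22_1 L16616 L8296 L8241 L16472 L30822
theorem L30828 : sm gd N3124 = N5599 := flp_d L30827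
theorem L30829 : sm gd N3099 = N5600 := rfl
theorem L30830 : sm gd N5600 = N3099 := flp_d L30829
theorem L30831 : sm ga N5600 = N4824 := ded_9_1 L26409 L16480 L30829
theorem L30833 : sm gb N5600 = N3100 := ded_14_1 L16485 L16477 L30829
theorem L30835 : sm gc N3100 = N5601 := rfl
theorem L30836 : sm gc N5601 = N3100 := flp_c L30835
theorem L30837 : sm gd N5601 = N5392 := ded_30_9 L29708 L16873 L8425 L4178 L2167 L2129 L4115 L8244 L16484 L30835
theorem L30839 : sm ge N3100 = N5602 := rfl
theorem L30840 : sm ge N5602 = N3100 := flp_e L30839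
theorem L30841 : sm gf N3100 = N5603 := rfl
theorem L30842 : sm gf N5603 = N3100 := flp_f L30841
theorem L30843 : sm gg N3100 = N5604 := rfl
theorem L30844 : sm gg N5604 = N3100 := flp_g L30843
theorem L30845 : sm gd N3101 = N5605 := rfl
theorem L30846 : sm gd N5605 = N3101 := flp_d L30845
theorem L30847 : sm gf N3101 = N5606 := rfl
theorem L30848 : sm gf N5606 = N3101 := flp_f L30847
theorem L30849 : sm gb N5606 = N4593 := ded_16_1 L25219 L25214 L30847
theorem L30850 : sm gb N4593 = N5606 := flp_b L30849
theorem L30851 : sm gc N5606 = N3103 := ded_20_1 L16499 L16489 L30847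
theorem L30852 : sm gc N3103 = N5606 := flp_c L30851
theorem L30853 : sm ge N5606 = N3102 := ded_25_1 L16491 L16486 L30847
theorem L30854 : sm ge N3102 = N5606 := flp_e L30853
theorem L30855 : sm gg N5606 = N4589 := ded_28_3 L25167 L25174 L25182 L30847
theorem L30856 : sm gg N4589 = N5606 := flp_g L30855
theorem L30863 : sm gd N3103 = N5608 := rfl
theorem L30864 : sm gd N5608 = N3103 := flp_d L30863
theorem L30865 : sm gb N5608 = N5608 := ded_14_1 L30864 L16500 L30863
theorem L30866 : sm ge N5608 = N3121 := ded_22_2 L16599 L8282 L8253 L16502 L30863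
theorem L30867 : sm ge N3121 = N5608 := flp_e L30866
theorem L30868 : sm gd N3104 = N5609 := rfl
theorem L30869 : sm gd N5609 = N3104 := flp_d L30868
theorem L30870 : sm gb N5609 = N5609 := ded_14_1 L30869 L16507 L30868
theorem L30871 : sm gg N5609 = N3117 := ded_24_2 L16570 L8273 L8253 L16505 L30868
theorem L30872 : sm gg N3117 = N5609 := flp_g L30871
theorem L30873 : sm gd N3105 = N5610 := rfl
theorem L30874 : sm gd N5610 = N3105 := flp_d L30873
theorem L30875 : sm ga N5610 = N3106 := ded_9_1 L16522 L16514 L30873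
theorem L30876 : sm ga N3106 = N5610 := flp_a L30875
theorem L30877 : sm gb N5610 = N5567 := ded_14_1 L30685 L16518 L30873
theorem L30879 : sm gf N3105 = N5611 := rfl
theorem L30880 : sm gf N5611 = N3105 := flp_f L30879
theorem L30883 : sm gb N5611 = N3116 := ded_16_1 L16568 L16518 L30879
theorem L30884 : sm gb N3116 = N5611 := flp_b L30883
theorem L30890 : sm gc N3106 = N5612 := rfl
theorem L30891 : sm gc N5612 = N3106 := flp_c L30890
theorem L30892 : sm ge N3106 = N5613 := rfl
theorem L30893 : sm ge N5613 = N3106 := flp_e L30892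
theorem L30894 : sm gb N5613 = N3110 := ded_15_1 L16544 L16524 L30892
theorem L30895 : sm gb N3110 = N5613 := flp_b L30894
theorem L30896 : sm gf N3106 = N5614 := rfl
theorem L30897 : sm gf N5614 = N3106 := flp_f L30896
theorem L30900 : sm gg N3106 = N5615 := rfl
theorem L30901 : sm gg N5615 = N3106 := flp_g L30900
theorem L30902 : sm gb N5615 = N3112 := ded_17_1 L16548 L16524 L30900
theorem L30903 : sm gb N3112 = N5615 := flp_b L30902
theorem L30904 : sm gd N3107 = N5616 := rfl
theorem L30905 : sm gd N5616 = N3107 := flp_d L30904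
theorem L30906 : sm ga N5616 = N5561 := ded_9_1 L30664 L16528 L30904
theorem L30907 : sm ga N5561 = N5616 := flp_a L30906
theorem L30908 : sm gb N5616 = N3113 := ded_14_1 L16550 L16530 L30904
theorem L30909 : sm gb N3113 = N5616 := flp_b L30908
theorem L30929 : sm ge N3109 = N5620 := rfl
theorem L30931 : sm gc N5620 = N3110 := ded_19_1 L16544 L16539 L30929
theorem L30933 : sm gf N3109 = N5621 := rfl
theorem L30934 : sm gf N5621 = N3109 := flp_f L30933
theorem L30941 : sm gd N3110 = N5623 := rfl
theorem L30942 : sm gd N5623 = N3110 := flp_d L30941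
theorem L30943 : sm ge N5623 = N3113 := ded_22_2 L16550 L8260 L8257 L16543 L30941
theorem L30944 : sm ge N3113 = N5623 := flp_e L30943
theorem L30945 : sm gf N3110 = N5624 := rfl
theorem L30946 : sm gf N5624 = N3110 := flp_f L30945
theorem L30947 : sm ge N5624 = N3111 := ded_25_1 L16546 L16543 L30945
theorem L30948 : sm ge N3111 = N5624 := flp_e L30947
theorem L30949 : sm gg N3110 = N5625 := rfl
theorem L30950 : sm gg N5625 = N3110 := flp_g L30949
theorem L30951 : sm ge N5625 = N3112 := ded_26_1 L16548 L16543 L30949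
theorem L30952 : sm ge N3112 = N5625 := flp_e L30951
theorem L30953 : sm gd N3111 = N5626 := rfl
theorem L30954 : sm gd N5626 = N3111 := flp_d L30953
theorem L30955 : sm gf N5626 = N3115 := ded_23_2 L16560 L8264 L8257 L16545 L30953
theorem L30956 : sm gf N3115 = N5626 := flp_f L30955
theorem L30957 : sm gc N3274 = N5626 := ded_20_3 L30955 L17371 L17370
theorem L30958 : sm gc N5626 = N3274 := flp_c L30957
theorem L30959 : sm gg N5626 = N3289 := ded_28_3 L17348 L17351 L17373 L30956
theorem L30961 : sm ge N3273 = N5626 := ded_28_4 L30955 L17374 L17352 L17293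
theorem L30962 : sm ge N5626 = N3273 := flp_e L30961
theorem L30963 : sm gg N3111 = N5627 := rfl
theorem L30964 : sm gg N5627 = N3111 := flp_g L30963
theorem L30965 : sm gf N5625 = N5627 := ded_28_0 L30964 L16546 L16547 L30952
theorem L30966 : sm gf N5627 = N5625 := flp_f L30965
theorem L30967 : sm gf N3112 = N5628 := rfl
theorem L30968 : sm gf N5628 = N3112 := flp_f L30967
theorem L30969 : sm ge N5628 = N5627 := ded_25_1 L30966 L30951 L30967
theorem L30970 : sm ge N5627 = N5628 := flp_e L30969
theorem L30971 : sm gg N5628 = N5624 := ded_28_3 L30947 L16546 L16547 L30967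
theorem L30972 : sm gg N5624 = N5628 := flp_g L30971
theorem L30973 : sm gc N3113 = N5629 := rfl
theorem L30974 : sm gc N5629 = N3113 := flp_c L30973
theorem L30975 : sm gf N3113 = N5630 := rfl
theorem L30976 : sm gf N5630 = N3113 := flp_f L30975
theorem L30977 : sm gg N3113 = N5631 := rfl
theorem L30978 : sm gg N5631 = N3113 := flp_g L30977
theorem L30979 : sm gd N3114 = N5632 := rfl
theorem L30980 : sm gd N5632 = N3114 := flp_d L30979
theorem L30987 : sm gd N3116 = N5634 := rfl
theorem L30988 : sm gd N5634 = N3116 := flp_d L30987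
theorem L30989 : sm gc N3117 = N5635 := rfl
theorem L30990 : sm gc N5635 = N3117 := flp_c L30989
theorem L30991 : sm ge N3117 = N5636 := rfl
theorem L30992 : sm ge N5636 = N3117 := flp_e L30991
theorem L30993 : sm gb N5636 = N5636 := ded_15_1 L30992 L16571 L30991
theorem L30994 : sm gf N5636 = N5608 := ded_25_2 L30866 L16601 L30991
theorem L30995 : sm gf N5608 = N5636 := flp_f L30994
theorem L30996 : sm gd N5636 = N3119 := ded_22_1 L16583 L8275 L8271 L16569 L30991
theorem L30997 : sm gd N3119 = N5636 := flp_d L30996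
theorem L30998 : sm gd N3118 = N5637 := rfl
theorem L30999 : sm gd N5637 = N3118 := flp_d L30998
theorem L31000 : sm gb N5637 = N4819 := ded_14_1 L26393 L16576 L30998
theorem L31001 : sm gb N4819 = N5637 := flp_b L31000
theorem L31002 : sm gd N3120 = N5638 := rfl
theorem L31003 : sm gd N5638 = N3120 := flp_d L31002
theorem L31004 : sm gb N5638 = N5638 := ded_14_1 L31003 L16593 L31002
theorem L31005 : sm gg N5638 = N3121 := ded_24_2 L16599 L8280 L8274 L16591 L31002
theorem L31006 : sm gg N3121 = N5638 := flp_g L31005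
theorem L31007 : sm gc N3121 = N5639 := rfl
theorem L31008 : sm gc N5639 = N3121 := flp_c L31007
theorem L31009 : sm gf N5639 = N5635 := ded_20_2 L30990 L16602 L31007
theorem L31010 : sm gf N5635 = N5639 := flp_f L31009
theorem L31011 : sm gc N3122 = N5640 := rfl
theorem L31012 : sm gc N5640 = N3122 := flp_c L31011
theorem L31013 : sm gd N5640 = N5425 := ded_30_9 L29892 L17051 L8513 L4214 L2185 L2139 L4126 L8286 L16603 L31011
theorem L31014 : sm gd N5425 = N5640 := flp_d L31013
theorem L31015 : sm ge N3122 = N5641 := rfl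
theorem L31016 : sm ge N5641 = N3122 := flp_e L31015
theorem L31017 : sm gf N3122 = N5642 := rfl
theorem L31018 : sm gf N5642 = N3122 := flp_f L31017
theorem L31019 : sm gg N3122 = N5643 := rfl
theorem L31020 : sm gg N5643 = N3122 := flp_g L31019
theorem L31021 : sm gd N3123 = N5644 := rfl
theorem L31022 : sm gd N5644 = N3123 := flp_d L31021
theorem L31023 : sm gb N5644 = N4824 := ded_14_1 L26409 L16608 L31021
theorem L31024 : sm gb N4824 = N5644 := flp_b L31023
theorem L31025 : sm gd N3125 = N5645 := rfl
theorem L31026 : sm gd N5645 = N3125 := flp_d L31025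
theorem L31027 : sm ga N5645 = N3126 := ded_9_1 L16629 L16620 L31025
theorem L31028 : sm ga N3126 = N5645 := flp_a L31027
theorem L31029 : sm gb N5645 = N5355 := ded_14_1 L29513 L16625 L31025
theorem L31030 : sm gb N5355 = N5645 := flp_b L31029
theorem L31031 : sm gg N3125 = N5646 := rfl
theorem L31032 : sm gg N5646 = N3125 := flp_g L31031
theorem L31033 : sm ga N5646 = N3128 := ded_12_1 L16643 L16620 L31031
theorem L31034 : sm ga N3128 = N5646 := flp_a L31033
theorem L31035 : sm gb N5646 = N3136 := ded_17_1 L16676 L16625 L31031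
theorem L31037 : sm gc N5646 = N3435 := ded_21_1 L18159 L16623 L31031
theorem L31038 : sm gc N3435 = N5646 := flp_c L31037
theorem L31043 : sm gc N3126 = N5647 := rfl
theorem L31044 : sm gc N5647 = N3126 := flp_c L31043
theorem L31045 : sm ge N3126 = N5648 := rfl
theorem L31046 : sm ge N5648 = N3126 := flp_e L31045
theorem L31047 : sm gb N5648 = N3130 := ded_15_1 L16651 L16631 L31045
theorem L31048 : sm gb N3130 = N5648 := flp_b L31047
theorem L31049 : sm gf N3126 = N5649 := rfl
theorem L31050 : sm gf N5649 = N3126 := flp_f L31049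
theorem L31051 : sm gb N5649 = N3131 := ded_16_1 L16653 L16631 L31049
theorem L31052 : sm gb N3131 = N5649 := flp_b L31051
theorem L31053 : sm gg N3126 = N5650 := rfl
theorem L31054 : sm gg N5650 = N3126 := flp_g L31053
theorem L31055 : sm gb N5650 = N3132 := ded_17_1 L16655 L16631 L31053
theorem L31056 : sm gb N3132 = N5650 := flp_b L31055
theorem L31057 : sm gd N3127 = N5651 := rfl
theorem L31058 : sm gd N5651 = N3127 := flp_d L31057
theorem L31059 : sm ga N5651 = N5349 := ded_9_1 L29485 L16635 L31057
theorem L31060 : sm ga N5349 = N5651 := flp_a L31059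
theorem L31061 : sm gb N5651 = N3133 := ded_14_1 L16657 L16637 L31057
theorem L31062 : sm gb N3133 = N5651 := flp_b L31061
theorem L31063 : sm gg N3127 = N5652 := rfl
theorem L31064 : sm gg N5652 = N3127 := flp_g L31063
theorem L31067 : sm gb N5652 = N3134 := ded_17_1 L16659 L16637 L31063
theorem L31068 : sm gb N3134 = N5652 := flp_b L31067
theorem L31069 : sm gc N5652 = N3438 := ded_21_1 L18176 L16639 L31063
theorem L31070 : sm gc N3438 = N5652 := flp_c L31069
theorem L31075 : sm gd N3128 = N5653 := rfl
theorem L31077 : sm gb N5653 = N3135 := ded_14_1 L16667 L16645 L31075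
theorem L31079 : sm gb N3129 = N5654 := rfl
theorem L31080 : sm gb N5654 = N3129 := flp_b L31079
theorem L31081 : sm gd N3129 = N5655 := rfl
theorem L31082 : sm gd N5655 = N3129 := flp_d L31081
theorem L31083 : sm ga N5655 = N5555 := ded_9_1 L30649 L29496 L31081
theorem L31084 : sm ga N5555 = N5655 := flp_a L31083
theorem L31085 : sm gc N5303 = N5655 := ded_30_0 L31082 L16649 L8303 L4130 L2145 L2112 L4097 L8184 L16373 L29173
theorem L31086 : sm gc N5655 = N5303 := flp_c L31085
theorem L31087 : sm ge N3129 = N5656 := rfl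
theorem L31088 : sm ge N5656 = N3129 := flp_e L31087
theorem L31089 : sm gc N5656 = N3130 := ded_19_1 L16651 L16648 L31087
theorem L31090 : sm gc N3130 = N5656 := flp_c L31089
theorem L31091 : sm gf N3129 = N5657 := rfl
theorem L31092 : sm gf N5657 = N3129 := flp_f L31091
theorem L31093 : sm gc N5657 = N3131 := ded_20_1 L16653 L16648 L31091
theorem L31094 : sm gc N3131 = N5657 := flp_c L31093
theorem L31095 : sm gg N3129 = N5658 := rfl
theorem L31096 : sm gg N5658 = N3129 := flp_g L31095
theorem L31097 : sm gc N5658 = N3132 := ded_21_1 L16655 L16648 L31095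
theorem L31098 : sm gc N3132 = N5658 := flp_c L31097
theorem L31099 : sm gd N3130 = N5659 := rfl
theorem L31100 : sm gd N5659 = N3130 := flp_d L31099
theorem L31101 : sm ge N5659 = N3133 := ded_22_2 L16657 L8305 L8302 L16650 L31099
theorem L31102 : sm ge N3133 = N5659 := flp_e L31101
theorem L31103 : sm gf N3130 = N5660 := rfl
theorem L31104 : sm gf N5660 = N3130 := flp_f L31103
theorem L31105 : sm ge N5660 = N3131 := ded_25_1 L16653 L16650 L31103
theorem L31106 : sm ge N3131 = N5660 := flp_e L31105
theorem L31107 : sm gg N3130 = N5661 := rfl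
theorem L31108 : sm gg N5661 = N3130 := flp_g L31107
theorem L31109 : sm ge N5661 = N3132 := ded_26_1 L16655 L16650 L31107
theorem L31110 : sm ge N3132 = N5661 := flp_e L31109
theorem L31111 : sm gg N3131 = N5662 := rfl
theorem L31112 : sm gg N5662 = N3131 := flp_g L31111
theorem L31113 : sm gf N5661 = N5662 := ded_28_0 L31112 L16653 L16654 L31110
theorem L31114 : sm gf N5662 = N5661 := flp_f L31113
theorem L31115 : sm gd N3132 = N5663 := rfl
theorem L31116 : sm gd N5663 = N3132 := flp_d L31115
theorem L31117 : sm gg N5663 = N3135 := ded_24_2 L16667 L8309 L8302 L16654 L31115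
theorem L31118 : sm gg N3135 = N5663 := flp_g L31117
theorem L31119 : sm gf N3132 = N5664 := rfl
theorem L31120 : sm gf N5664 = N3132 := flp_f L31119
theorem L31121 : sm ge N5664 = N5662 := ded_25_1 L31114 L31109 L31119
theorem L31123 : sm gg N5664 = N5660 := ded_28_3 L31105 L16653 L16654 L31119
theorem L31125 : sm gc N3133 = N5665 := rfl
theorem L31126 : sm gc N5665 = N3133 := flp_c L31125
theorem L31127 : sm gf N3133 = N5666 := rfl
theorem L31128 : sm gf N5666 = N3133 := flp_f L31127
theorem L31129 : sm gg N3133 = N5667 := rfl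
theorem L31130 : sm gg N5667 = N3133 := flp_g L31129
theorem L31131 : sm gd N3134 = N5668 := rfl
theorem L31132 : sm gd N5668 = N3134 := flp_d L31131
theorem L31133 : sm gc N3135 = N5669 := rfl
theorem L31134 : sm gc N5669 = N3135 := flp_c L31133
theorem L31135 : sm ge N3135 = N5670 := rfl
theorem L31136 : sm ge N5670 = N3135 := flp_e L31135
theorem L31137 : sm gf N3135 = N5671 := rfl
theorem L31138 : sm gf N5671 = N3135 := flp_f L31137
theorem L31139 : sm gd N3136 = N5672 := rfl
theorem L31140 : sm gd N5672 = N3136 := flp_d L31139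
theorem L31141 : sm ga N5672 = N5668 := ded_9_1 L31132 L16671 L31139
theorem L31143 : sm gd N3137 = N5673 := rfl
theorem L31145 : sm ga N5673 = N3138 := ded_9_1 L16687 L16678 L31143
theorem L31147 : sm gb N5673 = N5363 := ded_14_1 L29549 L16683 L31143
theorem L31149 : sm gf N3137 = N5674 := rfl
theorem L31151 : sm ga N5674 = N3140 := ded_11_1 L16701 L16678 L31149
theorem L31157 : sm ge N5674 = N5358 := ded_25_1 L29525 L16684 L31149
theorem L31158 : sm ge N5358 = N5674 := flp_e L31157
theorem L31161 : sm gc N3138 = N5675 := rfl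
theorem L31162 : sm gc N5675 = N3138 := flp_c L31161
theorem L31163 : sm ge N3138 = N5676 := rfl
theorem L31164 : sm ge N5676 = N3138 := flp_e L31163
theorem L31165 : sm gb N5676 = N3142 := ded_15_1 L16709 L16689 L31163
theorem L31166 : sm gb N3142 = N5676 := flp_b L31165
theorem L31167 : sm gf N3138 = N5677 := rfl
theorem L31168 : sm gf N5677 = N3138 := flp_f L31167
theorem L31169 : sm gb N5677 = N3143 := ded_16_1 L16711 L16689 L31167
theorem L31170 : sm gb N3143 = N5677 := flp_b L31169
theorem L31171 : sm gg N3138 = N5678 := rfl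
theorem L31172 : sm gg N5678 = N3138 := flp_g L31171
theorem L31173 : sm gb N5678 = N3144 := ded_17_1 L16713 L16689 L31171
theorem L31174 : sm gb N3144 = N5678 := flp_b L31173
theorem L31181 : sm gf N3139 = N5680 := rfl
theorem L31183 : sm ga N5680 = N5358 := ded_11_1 L29525 L16693 L31181
theorem L31185 : sm gb N5680 = N3146 := ded_16_1 L16717 L16695 L31181
theorem L31186 : sm gb N3146 = N5680 := flp_b L31185
theorem L31197 : sm gb N3141 = N5682 := rfl
theorem L31198 : sm gb N5682 = N3141 := flp_b L31197
theorem L31199 : sm gd N3141 = N5683 := rfl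
theorem L31200 : sm gd N5683 = N3141 := flp_d L31199
theorem L31201 : sm ga N5683 = N5563 := ded_9_1 L30674 L29532 L31199
theorem L31202 : sm ga N5563 = N5683 := flp_a L31201
theorem L31203 : sm gc N5307 = N5683 := ded_30_0 L31200 L16707 L8335 L4142 L2149 L2119 L4102 L8198 L16390 L29197
theorem L31204 : sm gc N5683 = N5307 := flp_c L31203
theorem L31205 : sm ge N3141 = N5684 := rfl
theorem L31206 : sm ge N5684 = N3141 := flp_e L31205
theorem L31207 : sm gc N5684 = N3142 := ded_19_1 L16709 L16706 L31205
theorem L31208 : sm gc N3142 = N5684 := flp_c L31207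
theorem L31209 : sm gf N3141 = N5685 := rfl
theorem L31210 : sm gf N5685 = N3141 := flp_f L31209
theorem L31211 : sm gc N5685 = N3143 := ded_20_1 L16711 L16706 L31209
theorem L31212 : sm gc N3143 = N5685 := flp_c L31211
theorem L31213 : sm gg N3141 = N5686 := rfl
theorem L31214 : sm gg N5686 = N3141 := flp_g L31213
theorem L31215 : sm gc N5686 = N3144 := ded_21_1 L16713 L16706 L31213
theorem L31216 : sm gc N3144 = N5686 := flp_c L31215
theorem L31217 : sm gd N3142 = N5687 := rfl
theorem L31218 : sm gd N5687 = N3142 := flp_d L31217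
theorem L31219 : sm ge N5687 = N3145 := ded_22_2 L16715 L8337 L8334 L16708 L31217
theorem L31220 : sm ge N3145 = N5687 := flp_e L31219
theorem L31221 : sm gf N3142 = N5688 := rfl
theorem L31222 : sm gf N5688 = N3142 := flp_f L31221
theorem L31223 : sm ge N5688 = N3143 := ded_25_1 L16711 L16708 L31221
theorem L31224 : sm ge N3143 = N5688 := flp_e L31223
theorem L31225 : sm gg N3142 = N5689 := rfl
theorem L31226 : sm gg N5689 = N3142 := flp_g L31225
theorem L31227 : sm ge N5689 = N3144 := ded_26_1 L16713 L16708 L31225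
theorem L31228 : sm ge N3144 = N5689 := flp_e L31227
theorem L31229 : sm gd N3143 = N5690 := rfl
theorem L31230 : sm gd N5690 = N3143 := flp_d L31229
theorem L31231 : sm gf N5690 = N3147 := ded_23_2 L16725 L8341 L8334 L16710 L31229
theorem L31232 : sm gf N3147 = N5690 := flp_f L31231
theorem L31233 : sm gg N3143 = N5691 := rfl
theorem L31234 : sm gg N5691 = N3143 := flp_g L31233
theorem L31235 : sm gf N5689 = N5691 := ded_28_0 L31234 L16711 L16712 L31228
theorem L31236 : sm gf N5691 = N5689 := flp_f L31235
theorem L31237 : sm gf N3144 = N5692 := rfl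
theorem L31238 : sm gf N5692 = N3144 := flp_f L31237
theorem L31239 : sm ge N5692 = N5691 := ded_25_1 L31236 L31227 L31237
theorem L31240 : sm ge N5691 = N5692 := flp_e L31239
theorem L31241 : sm gg N5692 = N5688 := ded_28_3 L31223 L16711 L16712 L31237
theorem L31242 : sm gg N5688 = N5692 := flp_g L31241
theorem L31273 : sm gf N3149 = N5703 := rfl
theorem L31275 : sm ga N5703 = N3152 := ded_11_1 L16749 L16739 L31273
theorem L31276 : sm ga N3152 = N5703 := flp_a L31275
theorem L31279 : sm gd N5703 = N3234 := ded_23_1 L17113 L8539 L8367 L16736 L31273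
theorem L31281 : sm gg N3149 = N5704 := rfl
theorem L31283 : sm ga N5704 = N3153 := ded_12_1 L16755 L16739 L31281
theorem L31285 : sm gb N5704 = N5382 := ded_17_1 L29647 L16741 L31281
theorem L31286 : sm gb N5382 = N5704 := flp_b L31285
theorem L31305 : sm gd N3151 = N5710 := rfl
theorem L31309 : sm gb N5710 = N3161 := ded_14_1 L16789 L16747 L31305
theorem L31310 : sm gb N3161 = N5710 := flp_b L31309
theorem L31331 : sm gd N3153 = N5714 := rfl
theorem L31333 : sm gb N5714 = N3165 := ded_14_1 L16805 L16757 L31331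
theorem L31334 : sm gb N3165 = N5714 := flp_b L31333
theorem L31349 : sm gf N3154 = N5717 := rfl
theorem L31351 : sm ga N5717 = N5367 := ded_11_1 L29563 L16761 L31349
theorem L31352 : sm ga N5367 = N5717 := flp_a L31351
theorem L31353 : sm gb N5717 = N3168 := ded_16_1 L16817 L16763 L31349
theorem L31357 : sm gg N3154 = N5718 := rfl
theorem L31359 : sm ga N5718 = N5368 := ded_12_1 L29569 L16761 L31357
theorem L31360 : sm ga N5368 = N5718 := flp_a L31359
theorem L31361 : sm gb N5718 = N3169 := ded_17_1 L16821 L16763 L31357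
theorem L31362 : sm gb N3169 = N5718 := flp_b L31361
theorem L31375 : sm gd N3156 = N5723 := rfl
theorem L31377 : sm gb N5723 = N3157 := ded_14_1 L16771 L16768 L31375
theorem L31387 : sm gg N3156 = N5726 := rfl
theorem L31388 : sm gg N5726 = N3156 := flp_g L31387
theorem L31389 : sm gb N5726 = N3160 := ded_17_1 L16785 L16768 L31387
theorem L31390 : sm gb N3160 = N5726 := flp_b L31389
theorem L31391 : sm ge N3157 = N5727 := rfl
theorem L31392 : sm ge N5727 = N3157 := flp_e L31391
theorem L31393 : sm ga N5727 = N5579 := ded_10_1 L30745 L16773 L31391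
theorem L31394 : sm ga N5579 = N5727 := flp_a L31393
theorem L31395 : sm gc N5727 = N5314 := ded_19_1 L29237 L16774 L31391
theorem L31396 : sm gc N5314 = N5727 := flp_c L31395
theorem L31397 : sm gf N3157 = N5728 := rfl
theorem L31398 : sm gf N5728 = N3157 := flp_f L31397
theorem L31399 : sm ga N5728 = N5580 := ded_11_1 L30749 L16773 L31397
theorem L31401 : sm gc N5728 = N5315 := ded_20_1 L29241 L16774 L31397
theorem L31403 : sm gg N3157 = N5729 := rfl
theorem L31404 : sm gg N5729 = N3157 := flp_g L31403
theorem L31405 : sm ga N5729 = N5581 := ded_12_1 L30753 L16773 L31403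
theorem L31406 : sm ga N5581 = N5729 := flp_a L31405
theorem L31407 : sm gc N5729 = N5316 := ded_21_1 L29245 L16774 L31403
theorem L31408 : sm gc N5316 = N5729 := flp_c L31407
theorem L31441 : sm gc N3161 = N5737 := rfl
theorem L31442 : sm gc N5737 = N3161 := flp_c L31441
theorem L31443 : sm ge N5737 = N3167 := ded_19_2 L16815 L16791 L31441
theorem L31444 : sm ge N3167 = N5737 := flp_e L31443
theorem L31447 : sm gf N3161 = N5738 := rfl
theorem L31448 : sm gf N5738 = N3161 := flp_f L31447
theorem L31449 : sm ge N5738 = N3168 := ded_25_1 L16817 L16791 L31447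
theorem L31450 : sm ge N3168 = N5738 := flp_e L31449
theorem L31451 : sm gg N3161 = N5739 := rfl
theorem L31452 : sm gg N5739 = N3161 := flp_g L31451
theorem L31453 : sm ge N5739 = N3169 := ded_26_1 L16821 L16791 L31451
theorem L31454 : sm ge N3169 = N5739 := flp_e L31453

end Cfsg.Agent.Helper28.HeA
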