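import Cfsg.Agent.Helper28.HeB3

/-! # The Held group presentation, cosets of the subgroup generated by a, c, d, e, f, (ab)², (bcde)⁷: the coset enumeration, part 4 (helper28; generated) -/

set_option autoImplicit false

noncomputable section

namespace Cfsg.Agent.Helper28.HeA

open Cfsg.Agent.Helper28.CosetTable

theorem L31455 : sm gd N3162 = N5740 := rfl
theorem L31456 : sm gd N5740 = N3162 := flp_d L31455
theorem L31457 : sm ge N5740 = N3270 := ded_22_2 L17285 L8620 L8399 L16795 L31455
theorem L31458 : sm ge N3270 = N5740 := flp_e L31457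
theorem L31461 : sm gd N3164 = N5742 := rfl
theorem L31463 : sm gg N5742 = N3272 := ded_24_2 L17289 L8627 L8399 L16800 L31461
theorem L31465 : sm gc N3165 = N5743 := rfl
theorem L31466 : sm gc N5743 = N3165 := flp_c L31465
theorem L31467 : sm gg N5743 = N3170 := ded_21_2 L16823 L16807 L31465
theorem L31468 : sm gg N3170 = N5743 := flp_g L31467
theorem L31469 : sm gf N5419 = N5743 := ded_28_0 L31467 L29862 L29857 L29852
theorem L31471 : sm ge N5743 = N5412 := ded_28_4 L29816 L29856 L29863 L31468
theorem L31472 : sm ge N5412 = N5743 := flp_e L31471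
theorem L31473 : sm ge N3165 = N5744 := rfl
theorem L31474 : sm ge N5744 = N3165 := flp_e L31473
theorem L31475 : sm gc N5744 = N5412 := ded_19_1 L31472 L31466 L31473
theorem L31477 : sm gg N5744 = N3171 := ded_26_2 L16825 L16807 L31473
theorem L31479 : sm gf N5744 = N5418 := ded_28_0 L29850 L16827 L16807 L31473
theorem L31480 : sm gf N5418 = N5744 := flp_f L31479
theorem L31481 : sm gf N3165 = N5745 := rfl
theorem L31483 : sm gc N5745 = N5419 := ded_20_1 L31469 L31466 L31481
theorem L31485 : sm ge N5745 = N5418 := ded_25_1 L31480 L31474 L31481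
theorem L31489 : sm gb N3167 = N5747 := rfl
theorem L31490 : sm gb N5747 = N3167 := flp_b L31489
theorem L31495 : sm gd N3167 = N5748 := rfl
theorem L31496 : sm gd N5748 = N3167 := flp_d L31495
theorem L31497 : sm gf N3167 = N5749 := rfl
theorem L31498 : sm gf N5749 = N3167 := flp_f L31497
theorem L31499 : sm gc N5749 = N3168 := ded_20_1 L16817 L16814 L31497
theorem L31500 : sm gc N3168 = N5749 := flp_c L31499
theorem L31501 : sm gg N3167 = N5750 := rfl
theorem L31502 : sm gg N5750 = N3167 := flp_g L31501
theorem L31503 : sm gc N5750 = N3169 := ded_21_1 L16821 L16814 L31501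
theorem L31504 : sm gc N3169 = N5750 := flp_c L31503
theorem L31505 : sm gg N3168 = N5751 := rfl
theorem L31506 : sm gg N5751 = N3168 := flp_g L31505
theorem L31507 : sm gf N5739 = N5751 := ded_28_0 L31506 L16817 L16820 L31454
theorem L31508 : sm gf N5751 = N5739 := flp_f L31507
theorem L31509 : sm gf N3169 = N5752 := rfl
theorem L31510 : sm gf N5752 = N3169 := flp_f L31509
theorem L31511 : sm ge N5752 = N5751 := ded_25_1 L31508 L31453 L31509
theorem L31512 : sm ge N5751 = N5752 := flp_e L31511
theorem L31515 : sm gb N3170 = N5753 := rfl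
theorem L31519 : sm ge N3170 = N5755 := rfl
theorem L31523 : sm gg N5755 = N5412 := ded_26_2 L31472 L31467 L31519
theorem L31525 : sm gf N3171 = N5756 := rfl
theorem L31529 : sm gg N5756 = N5745 := ded_28_3 L31485 L31480 L31477 L31525
theorem L31530 : sm gg N5745 = N5756 := flp_g L31529
theorem L31531 : sm ga N3173 = N5757 := rfl
theorem L31535 : sm gg N5757 = N3177 := ded_12_2 L16847 L16831 L31531
theorem L31536 : sm gg N3177 = N5757 := flp_g L31535
theorem L31545 : sm ge N3173 = N5759 := rfl
theorem L31553 : sm gg N5759 = N3179 := ded_26_2 L16859 L16831 L31545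
theorem L31554 : sm gg N3179 = N5759 := flp_g L31553
theorem L31555 : sm gf N5759 = N4178 := ded_28_0 L22747 L16867 L16831 L31545
theorem L31556 : sm gf N4178 = N5759 := flp_f L31555
theorem L31557 : sm gf N3173 = N5760 := rfl
theorem L31559 : sm gb N5760 = N3176 := ded_16_1 L16843 L16828 L31557
theorem L31561 : sm gc N5760 = N3493 := ded_20_1 L18524 L16833 L31557
theorem L31565 : sm gd N4178 = N5760 := ded_14_0 L31559 L16900 L22750
theorem L31566 : sm gd N5760 = N4178 := flp_d L31565
theorem L31575 : sm gg N3174 = N5764 := rfl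
theorem L31577 : sm gd N5764 = N3184 := ded_24_1 L16879 L8425 L8409 L16834 L31575
theorem L31579 : sm gd N3177 = N5765 := rfl
theorem L31580 : sm gd N5765 = N3177 := flp_d L31579
theorem L31583 : sm gb N5765 = N5396 := ded_14_1 L29723 L16851 L31579
theorem L31584 : sm gb N5396 = N5765 := flp_b L31583
theorem L31585 : sm gf N3177 = N5766 := rfl
theorem L31586 : sm gf N5766 = N3177 := flp_f L31585
theorem L31587 : sm ga N5766 = N3180 := ded_11_1 L16867 L16846 L31585
theorem L31591 : sm gc N5766 = N3497 := ded_20_1 L18550 L16849 L31585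
theorem L31592 : sm gc N3497 = N5766 := flp_c L31591
theorem L31593 : sm ge N5766 = N5391 := ded_25_1 L29701 L16852 L31585
theorem L31629 : sm gd N3180 = N5773 := rfl
theorem L31631 : sm gb N5773 = N3187 := ded_14_1 L16891 L16869 L31629
theorem L31635 : sm gd N3181 = N5775 := rfl
theorem L31636 : sm gd N5775 = N3181 := flp_d L31635
theorem L31637 : sm ga N5775 = N5601 := ded_9_1 L30837 L29708 L31635
theorem L31639 : sm gc N5326 = N5775 := ded_30_0 L31636 L16873 L8425 L4178 L2167 L2129 L4115 L8244 L16484 L29323
theorem L31640 : sm gc N5775 = N5326 := flp_c L31639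
theorem L31653 : sm gd N3182 = N5779 := rfl
theorem L31655 : sm ge N5779 = N3185 := ded_22_2 L16881 L8427 L8424 L16874 L31653
theorem L31685 : sm gd N3186 = N5788 := rfl
theorem L31686 : sm gd N5788 = N3186 := flp_d L31685
theorem L31687 : sm gg N5788 = N3187 := ded_24_2 L16891 L16892 L16901 L16888 L31685
theorem L31688 : sm gg N3187 = N5788 := flp_g L31687
theorem L31723 : sm gg N3190 = N5795 := rfl
theorem L31729 : sm gd N5795 = N3333 := ded_24_1 L17606 L8725 L8455 L16914 L31723
theorem L31731 : sm gb N3191 = N5796 := rfl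
theorem L31733 : sm gc N5796 = N3197 := ded_13_2 L16947 L8481 L8463 L16920 L31731
theorem L31741 : sm gf N3191 = N5799 := rfl
theorem L31742 : sm gf N5799 = N3191 := flp_f L31741
theorem L31743 : sm gc N5799 = N3193 := ded_20_1 L16927 L16920 L31741
theorem L31744 : sm gc N3193 = N5799 := flp_c L31743
theorem L31769 : sm gd N3193 = N5804 := rfl
theorem L31770 : sm gd N5804 = N3193 := flp_d L31769
theorem L31773 : sm gf N5804 = N3196 := ded_23_2 L16943 L8475 L8460 L16926 L31769
theorem L31774 : sm gf N3196 = N5804 := flp_f L31773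
theorem L31813 : sm gg N3196 = N5812 := rfl
theorem L31814 : sm gg N5812 = N3196 := flp_g L31813
theorem L31831 : sm gg N3197 = N5817 := rfl
theorem L31833 : sm gb N5817 = N3201 := ded_17_1 L16963 L16946 L31831
theorem L31841 : sm gf N3198 = N5819 := rfl
theorem L31843 : sm ga N5819 = N5621 := ded_11_1 L30934 L16951 L31841
theorem L31844 : sm ga N5621 = N5819 := flp_a L31843
theorem L31845 : sm gc N5819 = N5334 := ded_20_1 L29371 L16952 L31841
theorem L31846 : sm gc N5334 = N5819 := flp_c L31845
theorem L31901 : sm gd N3204 = N5832 := rfl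
theorem L31903 : sm ge N5832 = N3369 := ded_22_2 L17774 L8810 L8489 L16977 L31901
theorem L31905 : sm gc N3205 = N5833 := rfl
theorem L31906 : sm gc N5833 = N3205 := flp_c L31905
theorem L31907 : sm ga N5833 = N5744 := ded_8_1 L31475 L29814 L31905
theorem L31909 : sm gf N5833 = N3211 := ded_20_2 L17001 L16981 L31905
theorem L31910 : sm gf N3211 = N5833 := flp_f L31909
theorem L31913 : sm gg N5384 = N5833 := ded_12_0 L31907 L31477 L29657
theorem L31914 : sm gg N5833 = N5384 := flp_g L31913
theorem L31915 : sm ge N3205 = N5834 := rfl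
theorem L31916 : sm ge N5834 = N3205 := flp_e L31915
theorem L31917 : sm ga N5834 = N5743 := ded_10_1 L31471 L29814 L31915
theorem L31921 : sm gf N5834 = N3212 := ded_25_2 L17003 L16981 L31915
theorem L31922 : sm gf N3212 = N5834 := flp_f L31921
theorem L31923 : sm gg N5383 = N5834 := ded_28_3 L31916 L16980 L17004 L29666
theorem L31924 : sm gg N5834 = N5383 := flp_g L31923
theorem L31925 : sm gg N3205 = N5835 := rfl
theorem L31927 : sm ga N5835 = N5755 := ded_12_1 L31523 L29814 L31925
theorem L31929 : sm gc N5835 = N5384 := ded_21_1 L31913 L31906 L31925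
theorem L31930 : sm gc N5384 = N5835 := flp_c L31929
theorem L31931 : sm ge N5835 = N5383 := ded_26_1 L31923 L31916 L31925
theorem L31932 : sm ge N5383 = N5835 := flp_e L31931
theorem L31935 : sm gd N3207 = N5837 := rfl
theorem L31936 : sm gd N5837 = N3207 := flp_d L31935
theorem L31937 : sm gf N5837 = N3374 := ded_23_2 L17788 L8821 L8489 L16986 L31935
theorem L31938 : sm gf N3374 = N5837 := flp_f L31937
theorem L31977 : sm gg N3212 = N5847 := rfl
theorem L31978 : sm gg N5847 = N3212 := flp_g L31977
theorem L31981 : sm gf N5835 = N5847 := ded_28_0 L31978 L31922 L31924 L31932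
theorem L31983 : sm ga N3214 = N5848 := rfl
theorem L31985 : sm gc N5848 = N3544 := ded_8_2 L18844 L17011 L31983
theorem L31987 : sm gf N5848 = N3218 := ded_11_2 L17025 L17009 L31983
theorem L31993 : sm gg N4033 = N5848 := ded_21_0 L31985 L18851 L29945
theorem L31995 : sm gd N3214 = N5849 := rfl
theorem L31997 : sm gb N5849 = N3215 := ded_14_1 L17013 L17006 L31995
theorem L32011 : sm gg N3214 = N5851 := rfl
theorem L32017 : sm gc N5851 = N3547 := ded_21_1 L18870 L17011 L32011
theorem L32018 : sm gc N3547 = N5851 := flp_c L32017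
theorem L32027 : sm gf N3215 = N5854 := rfl
theorem L32029 : sm gd N5854 = N3224 := ded_23_1 L17055 L8513 L8497 L17012 L32027
theorem L32035 : sm gd N3218 = N5856 := rfl
theorem L32037 : sm ga N5856 = N3219 := ded_9_1 L17033 L17024 L32035
theorem L32039 : sm gb N5856 = N5429 := ded_14_1 L29907 L17029 L32035
theorem L32040 : sm gb N5429 = N5856 := flp_b L32039
theorem L32041 : sm gc N3219 = N5857 := rfl
theorem L32042 : sm gc N5857 = N3219 := flp_c L32041
theorem L32043 : sm ge N3219 = N5858 := rfl
theorem L32044 : sm ge N5858 = N3219 := flp_e L32043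
theorem L32045 : sm gb N5858 = N3223 := ded_15_1 L17053 L17035 L32043
theorem L32046 : sm gb N3223 = N5858 := flp_b L32045
theorem L32047 : sm gf N3219 = N5859 := rfl
theorem L32048 : sm gf N5859 = N3219 := flp_f L32047
theorem L32049 : sm gb N5859 = N3224 := ded_16_1 L17055 L17035 L32047
theorem L32051 : sm gg N3219 = N5860 := rfl
theorem L32052 : sm gg N5860 = N3219 := flp_g L32051
theorem L32053 : sm gb N5860 = N3225 := ded_17_1 L17057 L17035 L32051
theorem L32061 : sm gg N3220 = N5862 := rfl
theorem L32063 : sm ga N5862 = N5424 := ded_12_1 L29881 L17039 L32061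
theorem L32064 : sm ga N5424 = N5862 := flp_a L32063
theorem L32067 : sm gc N5862 = N3557 := ded_21_1 L18918 L17043 L32061
theorem L32068 : sm gc N3557 = N5862 := flp_c L32067
theorem L32077 : sm gb N3222 = N5864 := rfl
theorem L32078 : sm gb N5864 = N3222 := flp_b L32077
theorem L32079 : sm gd N3222 = N5865 := rfl
theorem L32080 : sm gd N5865 = N3222 := flp_d L32079
theorem L32081 : sm ga N5865 = N5640 := ded_9_1 L31013 L29892 L32079
theorem L32082 : sm ga N5640 = N5865 := flp_a L32081
theorem L32083 : sm gc N5346 = N5865 := ded_30_0 L32080 L17051 L8513 L4214 L2185 L2139 L4126 L8286 L16603 L29465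
theorem L32084 : sm gc N5865 = N5346 := flp_c L32083
theorem L32085 : sm ge N3222 = N5866 := rfl
theorem L32086 : sm ge N5866 = N3222 := flp_e L32085
theorem L32087 : sm gc N5866 = N3223 := ded_19_1 L17053 L17050 L32085
theorem L32088 : sm gc N3223 = N5866 := flp_c L32087
theorem L32089 : sm gf N3222 = N5867 := rfl
theorem L32090 : sm gf N5867 = N3222 := flp_f L32089
theorem L32091 : sm gc N5867 = N3224 := ded_20_1 L17055 L17050 L32089
theorem L32092 : sm gc N3224 = N5867 := flp_c L32091
theorem L32093 : sm gg N3222 = N5868 := rfl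
theorem L32094 : sm gg N5868 = N3222 := flp_g L32093
theorem L32095 : sm gc N5868 = N3225 := ded_21_1 L17057 L17050 L32093
theorem L32096 : sm gc N3225 = N5868 := flp_c L32095
theorem L32097 : sm gd N3223 = N5869 := rfl
theorem L32098 : sm gd N5869 = N3223 := flp_d L32097
theorem L32099 : sm ge N5869 = N3226 := ded_22_2 L17059 L8515 L8512 L17052 L32097
theorem L32100 : sm ge N3226 = N5869 := flp_e L32099
theorem L32101 : sm gf N3223 = N5870 := rfl
theorem L32102 : sm gf N5870 = N3223 := flp_f L32101
theorem L32103 : sm ge N5870 = N3224 := ded_25_1 L17055 L17052 L32101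
theorem L32104 : sm ge N3224 = N5870 := flp_e L32103
theorem L32105 : sm gg N3223 = N5871 := rfl
theorem L32106 : sm gg N5871 = N3223 := flp_g L32105
theorem L32107 : sm ge N5871 = N3225 := ded_26_1 L17057 L17052 L32105
theorem L32108 : sm ge N3225 = N5871 := flp_e L32107
theorem L32109 : sm gg N3224 = N5872 := rfl
theorem L32110 : sm gg N5872 = N3224 := flp_g L32109
theorem L32111 : sm gf N5871 = N5872 := ded_28_0 L32110 L17055 L17056 L32108
theorem L32112 : sm gf N5872 = N5871 := flp_f L32111
theorem L32113 : sm gd N3225 = N5873 := rfl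
theorem L32114 : sm gd N5873 = N3225 := flp_d L32113
theorem L32115 : sm gg N5873 = N3228 := ded_24_2 L17069 L8519 L8512 L17056 L32113
theorem L32117 : sm gf N3225 = N5874 := rfl
theorem L32119 : sm ge N5874 = N5872 := ded_25_1 L32112 L32107 L32117
theorem L32121 : sm gg N5874 = N5870 := ded_28_3 L32103 L17055 L17056 L32117
theorem L32129 : sm gd N3227 = N5878 := rfl
theorem L32130 : sm gd N5878 = N3227 := flp_d L32129
theorem L32131 : sm gf N5878 = N3228 := ded_23_2 L17069 L17070 L17078 L17067 L32129
theorem L32132 : sm gf N3228 = N5878 := flp_f L32131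
theorem L32145 : sm gc N3231 = N5882 := rfl
theorem L32149 : sm gf N5882 = N5494 := ded_20_2 L30303 L17095 L32145
theorem L32157 : sm gd N3232 = N5884 := rfl
theorem L32159 : sm ga N5884 = N3238 := ded_9_1 L17135 L17103 L32157
theorem L32160 : sm ga N3238 = N5884 := flp_a L32159
theorem L32173 : sm gg N3232 = N5887 := rfl
theorem L32177 : sm gc N5887 = N3235 := ded_21_1 L17119 L17100 L32173
theorem L32178 : sm gc N3235 = N5887 := flp_c L32177
theorem L32179 : sm gf N3233 = N5888 := rfl
theorem L32181 : sm ga N5888 = N3243 := ded_11_1 L17157 L17107 L32179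
theorem L32182 : sm ga N3243 = N5888 := flp_a L32181
theorem L32187 : sm gg N3233 = N5889 := rfl
theorem L32188 : sm gg N5889 = N3233 := flp_g L32187
theorem L32189 : sm ga N5889 = N3244 := ded_12_1 L17163 L17107 L32187
theorem L32190 : sm ga N3244 = N5889 := flp_a L32189
theorem L32193 : sm ge N5889 = N3235 := ded_26_1 L17119 L17104 L32187
theorem L32203 : sm gd N3235 = N5891 := rfl
theorem L32204 : sm gd N5891 = N3235 := flp_d L32203
theorem L32209 : sm gg N5891 = N3236 := ded_24_2 L17125 L8545 L8538 L17118 L32203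
theorem L32211 : sm gf N3235 = N5892 := rfl
theorem L32212 : sm gf N5892 = N3235 := flp_f L32211
theorem L32213 : sm ga N5892 = N3247 := ded_11_1 L17181 L17121 L32211
theorem L32214 : sm ga N3247 = N5892 := flp_a L32213
theorem L32221 : sm gc N3236 = N5893 := rfl
theorem L32223 : sm ga N5893 = N3252 := ded_8_1 L17211 L17127 L32221
theorem L32224 : sm ga N3252 = N5893 := flp_a L32223
theorem L32233 : sm gf N3236 = N5895 := rfl
theorem L32237 : sm gb N5895 = N5477 := ded_16_1 L30196 L17129 L32233
theorem L32243 : sm gd N3237 = N5897 := rfl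
theorem L32245 : sm gb N5897 = N3238 := ded_14_1 L17135 L17130 L32243
theorem L32246 : sm gb N3238 = N5897 := flp_b L32245
theorem L32265 : sm gc N3238 = N5901 := rfl
theorem L32266 : sm gc N5901 = N3238 := flp_c L32265
theorem L32267 : sm ge N3238 = N5902 := rfl
theorem L32268 : sm ge N5902 = N3238 := flp_e L32267
theorem L32269 : sm gf N3238 = N5903 := rfl
theorem L32270 : sm gf N5903 = N3238 := flp_f L32269
theorem L32271 : sm gg N3238 = N5904 := rfl
theorem L32272 : sm gg N5904 = N3238 := flp_g L32271
theorem L32275 : sm gf N3239 = N5906 := rfl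
theorem L32277 : sm gc N5906 = N3243 := ded_20_1 L17157 L17139 L32275
theorem L32278 : sm gc N3243 = N5906 := flp_c L32277
theorem L32329 : sm gd N3243 = N5915 := rfl
theorem L32330 : sm gd N5915 = N3243 := flp_d L32329
theorem L32331 : sm gb N5915 = N3270 := ded_14_1 L17285 L17159 L32329
theorem L32333 : sm gd N3244 = N5916 := rfl
theorem L32335 : sm gb N5916 = N3271 := ded_14_1 L17287 L17165 L32333
theorem L32336 : sm gb N3271 = N5916 := flp_b L32335
theorem L32337 : sm gd N3245 = N5917 := rfl
theorem L32339 : sm gb N5917 = N3272 := ded_14_1 L17289 L17171 L32337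
theorem L32340 : sm gb N3272 = N5917 := flp_b L32339
theorem L32345 : sm ge N3246 = N5919 := rfl
theorem L32347 : sm gb N5919 = N3274 := ded_15_1 L17295 L17177 L32345
theorem L32348 : sm gb N3274 = N5919 := flp_b L32347
theorem L32355 : sm gd N3247 = N5921 := rfl
theorem L32357 : sm gb N5921 = N3276 := ded_14_1 L17301 L17183 L32355
theorem L32413 : sm ge N3251 = N5930 := rfl
theorem L32415 : sm ga N5930 = N5444 := ded_10_1 L30003 L17207 L32413
theorem L32416 : sm ga N5444 = N5930 := flp_a L32415
theorem L32419 : sm gd N5930 = N3253 := ded_22_1 L17213 L8587 L8583 L17204 L32413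
theorem L32429 : sm gb N3252 = N5932 := rfl
theorem L32431 : sm gc N5932 = N3287 := ded_13_2 L17344 L8649 L8589 L17210 L32429
theorem L32439 : sm gf N3252 = N5935 := rfl
theorem L32440 : sm gf N5935 = N3252 := flp_f L32439
theorem L32441 : sm gc N5935 = N3254 := ded_20_1 L17217 L17210 L32439
theorem L32442 : sm gc N3254 = N5935 := flp_c L32441
theorem L32443 : sm gf N3253 = N5936 := rfl
theorem L32447 : sm ge N5936 = N3254 := ded_25_1 L17217 L17212 L32443
theorem L32451 : sm gd N3254 = N5937 := rfl
theorem L32453 : sm gb N5937 = N3292 := ded_14_1 L17362 L17219 L32451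
theorem L32454 : sm gb N3292 = N5937 := flp_b L32453
theorem L32487 : sm gd N3257 = N5944 := rfl
theorem L32488 : sm gd N5944 = N3257 := flp_d L32487
theorem L32489 : sm gb N5944 = N3260 := ded_14_1 L17239 L17229 L32487
theorem L32491 : sm gf N3257 = N5945 := rfl
theorem L32492 : sm gf N5945 = N3257 := flp_f L32491
theorem L32493 : sm gb N5945 = N3261 := ded_16_1 L17241 L17229 L32491
theorem L32495 : sm ge N5945 = N3258 := ded_25_1 L17231 L17226 L32491
theorem L32496 : sm ge N3258 = N5945 := flp_e L32495
theorem L32497 : sm gg N3257 = N5946 := rfl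
theorem L32499 : sm gb N5946 = N3262 := ded_17_1 L17247 L17229 L32497
theorem L32501 : sm ge N5946 = N3259 := ded_26_1 L17235 L17226 L32497
theorem L32502 : sm ge N3259 = N5946 := flp_e L32501
theorem L32503 : sm gd N3258 = N5947 := rfl
theorem L32504 : sm gd N5947 = N3258 := flp_d L32503
theorem L32505 : sm gb N5947 = N3263 := ded_14_1 L17253 L17233 L32503
theorem L32506 : sm gb N3263 = N5947 := flp_b L32505
theorem L32507 : sm gg N3258 = N5948 := rfl
theorem L32508 : sm gg N5948 = N3258 := flp_g L32507
theorem L32509 : sm gb N5948 = N3264 := ded_17_1 L17255 L17233 L32507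
theorem L32511 : sm gf N5946 = N5948 := ded_28_0 L32508 L17231 L17234 L32502
theorem L32513 : sm gd N3259 = N5949 := rfl
theorem L32515 : sm gb N5949 = N3265 := ded_14_1 L17261 L17237 L32513
theorem L32516 : sm gb N3265 = N5949 := flp_b L32515
theorem L32525 : sm gf N3260 = N5951 := rfl
theorem L32526 : sm gf N5951 = N3260 := flp_f L32525
theorem L32528 : sm gg N3260 = N5952 := rfl
theorem L32529 : sm gg N5952 = N3260 := flp_g L32528
theorem L32531 : sm gd N3261 = N5953 := rfl
theorem L32532 : sm gd N5953 = N3261 := flp_d L32531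
theorem L32535 : sm gc N3263 = N5955 := rfl
theorem L32536 : sm gc N5955 = N3263 := flp_c L32535
theorem L32537 : sm ge N3263 = N5956 := rfl
theorem L32538 : sm ge N5956 = N3263 := flp_e L32537
theorem L32539 : sm gg N3263 = N5957 := rfl
theorem L32540 : sm gg N5957 = N3263 := flp_g L32539
theorem L32543 : sm gc N3265 = N5959 := rfl
theorem L32544 : sm gc N5959 = N3265 := flp_c L32543
theorem L32545 : sm ge N3265 = N5960 := rfl
theorem L32546 : sm ge N5960 = N3265 := flp_e L32545
theorem L32547 : sm gf N3265 = N5961 := rfl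
theorem L32548 : sm gf N5961 = N3265 := flp_f L32547
theorem L32551 : sm gf N3267 = N5963 := rfl
theorem L32557 : sm ge N5963 = N3279 := ded_25_1 L17312 L17273 L32551
theorem L32558 : sm ge N3279 = N5963 := flp_e L32557
theorem L32559 : sm gg N3267 = N5964 := rfl
theorem L32560 : sm gg N5964 = N3267 := flp_g L32559
theorem L32565 : sm ge N5964 = N3280 := ded_26_1 L17316 L17273 L32559
theorem L32566 : sm ge N3280 = N5964 := flp_e L32565
theorem L32567 : sm gd N3268 = N5965 := rfl
theorem L32569 : sm gf N5965 = N3270 := ded_23_2 L17285 L8619 L8614 L17276 L32567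
theorem L32570 : sm gf N3270 = N5965 := flp_f L32569
theorem L32571 : sm gd N3269 = N5966 := rfl
theorem L32572 : sm gd N5966 = N3269 := flp_d L32571
theorem L32573 : sm gg N5966 = N3271 := ded_24_2 L17287 L8623 L8614 L17280 L32571
theorem L32574 : sm gg N3271 = N5966 := flp_g L32573
theorem L32575 : sm gc N3270 = N5967 := rfl
theorem L32576 : sm gc N5967 = N3270 := flp_c L32575
theorem L32577 : sm gg N3270 = N5968 := rfl
theorem L32578 : sm gg N5968 = N3270 := flp_g L32577
theorem L32579 : sm gc N3271 = N5969 := rfl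
theorem L32580 : sm gc N5969 = N3271 := flp_c L32579
theorem L32581 : sm ge N3271 = N5970 := rfl
theorem L32582 : sm ge N5970 = N3271 := flp_e L32581
theorem L32583 : sm gd N5970 = N3274 := ded_22_1 L17295 L8631 L8625 L17286 L32581
theorem L32584 : sm gd N3274 = N5970 := flp_d L32583
theorem L32585 : sm gf N3271 = N5971 := rfl
theorem L32586 : sm gf N5971 = N3271 := flp_f L32585
theorem L32587 : sm gc N3272 = N5972 := rfl
theorem L32588 : sm gc N5972 = N3272 := flp_c L32587
theorem L32589 : sm ge N3272 = N5973 := rfl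
theorem L32590 : sm ge N5973 = N3272 := flp_e L32589
theorem L32591 : sm gf N3272 = N5974 := rfl
theorem L32592 : sm gf N5974 = N3272 := flp_f L32591
theorem L32593 : sm gd N5974 = N5971 := ded_23_1 L32586 L17287 L8628 L17288 L32591
theorem L32594 : sm gd N5971 = N5974 := flp_d L32593
theorem L32601 : sm gd N3275 = N5977 := rfl
theorem L32603 : sm gf N5977 = N3276 := ded_23_2 L17301 L8635 L8630 L17298 L32601
theorem L32605 : sm gc N3276 = N5978 := rfl
theorem L32606 : sm gc N5978 = N3276 := flp_c L32605
theorem L32607 : sm ge N3276 = N5979 := rfl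
theorem L32608 : sm ge N5979 = N3276 := flp_e L32607
theorem L32609 : sm gd N5979 = N5973 := ded_22_1 L32590 L17289 L8637 L17300 L32607
theorem L32610 : sm gd N5973 = N5979 := flp_d L32609
theorem L32611 : sm gg N3276 = N5980 := rfl
theorem L32612 : sm gg N5980 = N3276 := flp_g L32611
theorem L32613 : sm gd N5980 = N5968 := ded_24_1 L32578 L17285 L8639 L17300 L32611
theorem L32614 : sm gd N5968 = N5980 := flp_d L32613
theorem L32615 : sm gd N3277 = N5981 := rfl
theorem L32616 : sm gd N5981 = N3277 := flp_d L32615
theorem L32617 : sm ga N5981 = N5944 := ded_9_1 L32488 L17306 L32615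
theorem L32618 : sm ga N5944 = N5981 := flp_a L32617
theorem L32619 : sm gb N5981 = N3278 := ded_14_1 L17309 L17302 L32615
theorem L32621 : sm gf N3277 = N5982 := rfl
theorem L32623 : sm ga N5982 = N5945 := ded_11_1 L32492 L17306 L32621
theorem L32624 : sm ga N5945 = N5982 := flp_a L32623
theorem L32625 : sm gb N5982 = N3279 := ded_16_1 L17312 L17302 L32621
theorem L32626 : sm gb N3279 = N5982 := flp_b L32625
theorem L32637 : sm gf N3278 = N5984 := rfl
theorem L32638 : sm gf N5984 = N3278 := flp_f L32637
theorem L32640 : sm gg N3278 = N5985 := rfl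
theorem L32641 : sm gg N5985 = N3278 := flp_g L32640
theorem L32643 : sm gd N3279 = N5986 := rfl
theorem L32644 : sm gd N5986 = N3279 := flp_d L32643
theorem L32645 : sm gg N3279 = N5987 := rfl
theorem L32646 : sm gg N5987 = N3279 := flp_g L32645
theorem L32647 : sm gc N5987 = N3281 := ded_21_1 L17320 L17314 L32645
theorem L32648 : sm gc N3281 = N5987 := flp_c L32647
theorem L32649 : sm gf N5964 = N5987 := ded_28_0 L32646 L17312 L17315 L32566
theorem L32650 : sm gf N5987 = N5964 := flp_f L32649
theorem L32663 : sm gc N3282 = N5991 := rfl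
theorem L32664 : sm gc N5991 = N3282 := flp_c L32663
theorem L32665 : sm gg N5991 = N3284 := ded_21_2 L17334 L17326 L32663
theorem L32666 : sm gg N3284 = N5991 := flp_g L32665
theorem L32667 : sm gf N5991 = N5634 := ded_31_1 L30988 L16563 L8280 L4124 L2133 L1072 L575 L570 L1086 L2152 L4167 L4270 L8646 L17333 L32666
theorem L32668 : sm gf N5634 = N5991 := flp_f L32667
theorem L32669 : sm ge N3282 = N5992 := rfl
theorem L32670 : sm ge N5992 = N3282 := flp_e L32669
theorem L32671 : sm gg N5992 = N3285 := ded_26_2 L17336 L17326 L32669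
theorem L32672 : sm gg N3285 = N5992 := flp_g L32671
theorem L32673 : sm gf N3282 = N5993 := rfl
theorem L32674 : sm gf N5993 = N3282 := flp_f L32673
theorem L32675 : sm gc N5993 = N5634 := ded_20_1 L32668 L32664 L32673
theorem L32676 : sm gc N5634 = N5993 := flp_c L32675
theorem L32683 : sm ge N3284 = N5997 := rfl
theorem L32691 : sm gf N3285 = N5999 := rfl
theorem L32692 : sm gf N5999 = N3285 := flp_f L32691
theorem L32695 : sm gg N5993 = N5999 := ded_28_1 L32692 L32672 L32670 L32673
theorem L32696 : sm gg N5999 = N5993 := flp_g L32695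
theorem L32709 : sm gd N3287 = N6002 := rfl
theorem L32711 : sm gb N6002 = N3288 := ded_14_1 L17346 L17343 L32709
theorem L32713 : sm ge N3287 = N6003 := rfl
theorem L32717 : sm gb N6003 = N3289 := ded_15_1 L17348 L17343 L32713
theorem L32718 : sm gb N3289 = N6003 := flp_b L32717
theorem L32725 : sm gc N3288 = N6005 := rfl
theorem L32726 : sm gc N6005 = N3288 := flp_c L32725
theorem L32727 : sm gd N6005 = N3421 := ded_30_9 L18070 L17408 L8665 L4286 L2211 L2201 L4271 L8648 L17345 L32725
theorem L32729 : sm ge N3288 = N6006 := rfl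
theorem L32730 : sm ge N6006 = N3288 := flp_e L32729
theorem L32731 : sm gf N3288 = N6007 := rfl
theorem L32732 : sm gf N6007 = N3288 := flp_f L32731
theorem L32733 : sm gg N3288 = N6008 := rfl
theorem L32734 : sm gg N6008 = N3288 := flp_g L32733
theorem L32735 : sm gd N3289 = N6009 := rfl
theorem L32736 : sm gd N6009 = N3289 := flp_d L32735
theorem L32737 : sm gf N3289 = N6010 := rfl
theorem L32738 : sm gf N6010 = N3289 := flp_f L32737
theorem L32739 : sm gc N6010 = N3291 := ded_20_1 L17356 L17350 L32737
theorem L32741 : sm ge N6010 = N3290 := ded_25_1 L17352 L17347 L32737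
theorem L32745 : sm gd N3290 = N6011 := rfl
theorem L32746 : sm gd N6011 = N3290 := flp_d L32745
theorem L32747 : sm gg N6011 = N5634 := ded_24_2 L30988 L16562 L16559 L17374 L32745
theorem L32749 : sm gc N5999 = N6011 := ded_21_3 L32747 L32676 L32695
theorem L32750 : sm gc N6011 = N5999 := flp_c L32749
theorem L32751 : sm gf N5997 = N6011 := ded_28_0 L32747 L32668 L32665 L32683
theorem L32755 : N3279 = N5953 := coi_31_10 L32532 L17242 L8639 L8635 L8630 L17290 L17292 L17351 L32745 L32750 L32696 L32674 L17324 L17318 L17316 L17311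
theorem L32756 : N5953 = N3279 := (eqc rfl L32755 rfl).symm
theorem L32757 : sm gd N3279 = N3261 := trfs L32756 L32532 rfl
theorem L32758 : N3261 = N5986 := eqes L32757 L32643
theorem L32759 : N5986 = N3261 := (eqc rfl L32758 rfl).symm
theorem L32760 : sm gd N3261 = N3279 := trfs L32759 L32644 rfl
theorem L32761 : sm gd N3279 = N3261 := flp_d L32760
theorem L32762 : sm gd N6007 = N5997 := ded_23_5 L32751 L32746 L17352 L17345 L32731
theorem L32763 : sm gd N5997 = N6007 := flp_d L32762
theorem L32764 : sm gd N5470 = N5452 := ded_9_2 L30040 L32760 L30156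
theorem L32766 : sm gd N5982 = N5945 := ded_14_2 L32493 L32760 L32626
theorem L32767 : sm gd N5945 = N5982 := flp_d L32766
theorem L32768 : sm gd N5963 = N5956 := ded_22_3 L32538 L17253 L17245 L32760 L32558
theorem L32770 : N5984 = N3260 := coi_23_5 L17239 L17240 L32760 L17312 L17308 L32637
theorem L32771 : N5984 = N3260 := eqc rfl L32770 rfl
theorem L32773 : sm gf N3260 = N3278 := trfs L32771 L32638 rfl
theorem L32774 : N3278 = N5951 := eqes L32773 L32525
theorem L32775 : N5951 = N3278 := (eqc rfl L32774 rfl).symm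
theorem L32777 : sm gf N3278 = N3260 := trfs L32775 L32526 rfl
theorem L32778 : sm gf N3260 = N3278 := flp_f L32777
theorem L32779 : sm gf N5451 = N5469 := ded_23_4 L30147 L30153 L32764 L30039 L30032
theorem L32780 : sm gf N5469 = N5451 := flp_f L32779
theorem L32781 : sm gf N5944 = N5981 := ded_23_4 L32616 L32621 L32766 L32492 L32487
theorem L32783 : sm gd N3291 = N6012 := rfl
theorem L32784 : sm gd N6012 = N3291 := flp_d L32783
theorem L32785 : sm gc N3292 = N6013 := rfl
theorem L32786 : sm gc N6013 = N3292 := flp_c L32785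
theorem L32787 : sm gf N6013 = N3294 := ded_20_2 L17376 L17364 L32785
theorem L32791 : sm ge N3390 = N6013 := ded_28_4 L32787 L17872 L17869 L17853
theorem L32793 : sm ge N3292 = N6014 := rfl
theorem L32794 : sm ge N6014 = N3292 := flp_e L32793
theorem L32795 : sm gc N6014 = N3390 := ded_19_1 L32791 L32786 L32793
theorem L32796 : sm gc N3390 = N6014 := flp_c L32795
theorem L32797 : sm gf N6014 = N3295 := ded_25_2 L17378 L17364 L32793
theorem L32801 : sm gg N3292 = N6015 := rfl
theorem L32802 : sm gg N6015 = N3292 := flp_g L32801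
theorem L32813 : sm ge N3294 = N6019 := rfl
theorem L32815 : sm gc N6019 = N3295 := ded_19_1 L17378 L17375 L32813
theorem L32817 : sm gf N6019 = N3390 := ded_25_2 L32791 L32787 L32813
theorem L32818 : sm gf N3390 = N6019 := flp_f L32817
theorem L32873 : sm ge N3301 = N6032 := rfl
theorem L32881 : sm gg N3301 = N6034 := rfl
theorem L32882 : sm gg N6034 = N3301 := flp_g L32881
theorem L32883 : sm gc N6034 = N3304 := ded_21_1 L17414 L17407 L32881
theorem L32885 : sm gf N3302 = N6035 := rfl
theorem L32886 : sm gf N6035 = N3302 := flp_f L32885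
theorem L32887 : sm ge N6035 = N3303 := ded_25_1 L17412 L17409 L32885
theorem L32897 : sm gf N3304 = N6038 := rfl
theorem L32901 : sm gg N6038 = N6035 := ded_28_3 L32887 L17412 L17413 L32897
theorem L32903 : sm ga N3305 = N6039 := rfl
theorem L32904 : sm ga N6039 = N3305 := flp_a L32903
theorem L32905 : sm gc N6039 = N3744 := ded_8_2 L20109 L17420 L32903
theorem L32907 : sm gb N6039 = N5493 := ded_29_4 L30295 L16216 L8670 L10206 L10203 L5009 L10197 L17420 L32903
theorem L32908 : sm gb N5493 = N6039 := flp_b L32907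
theorem L32911 : sm gd N3305 = N6040 := rfl
theorem L32913 : sm gb N6040 = N3306 := ded_14_1 L17422 L17417 L32911
theorem L32929 : sm gc N3306 = N6043 := rfl
theorem L32930 : sm gc N6043 = N3306 := flp_c L32929
theorem L32931 : sm ge N3306 = N6044 := rfl
theorem L32932 : sm ge N6044 = N3306 := flp_e L32931
theorem L32933 : sm gf N3306 = N6045 := rfl
theorem L32934 : sm gf N6045 = N3306 := flp_f L32933
theorem L32935 : sm gg N3306 = N6046 := rfl
theorem L32936 : sm gg N6046 = N3306 := flp_g L32935
theorem L32941 : sm gf N3308 = N6049 := rfl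
theorem L32943 : sm ga N6049 = N5882 := ded_11_1 L32149 L30301 L32941
theorem L32949 : sm gg N6049 = N5049 := ded_28_3 L27815 L14834 L17427 L32941
theorem L32950 : sm gg N5049 = N6049 := flp_g L32949
theorem L32954 : sm gd N3314 = N6051 := rfl
theorem L32958 : sm gb N6051 = N5089 := ded_14_1 L28061 L28053 L32954
theorem L32962 : sm gd N3315 = N6052 := rfl
theorem L32963 : sm gd N6052 = N3315 := flp_d L32962
theorem L32964 : sm gb N6052 = N5111 := ded_14_1 L28188 L17492 L32962
theorem L32966 : sm gd N3317 = N6053 := rfl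
theorem L32967 : sm gd N6053 = N3317 := flp_d L32966
theorem L32968 : sm gb N6053 = N5102 := ded_14_1 L28128 L17504 L32966
theorem L32972 : sm gc N3319 = N6055 := rfl
theorem L32974 : sm gf N6055 = N3325 := ded_20_2 L17562 L17518 L32972
theorem L32976 : sm ge N3319 = N6056 := rfl
theorem L32977 : sm ge N6056 = N3319 := flp_e L32976
theorem L32978 : sm gb N6056 = N4837 := ded_15_1 L26467 L17516 L32976
theorem L32980 : sm gf N6056 = N3326 := ded_25_2 L17564 L17518 L32976
theorem L32982 : sm gg N3319 = N6057 := rfl
theorem L32983 : sm gg N6057 = N3319 := flp_g L32982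
theorem L32984 : sm gb N6057 = N4838 := ded_17_1 L26472 L17516 L32982
theorem L32986 : sm gd N3320 = N6058 := rfl
theorem L32988 : sm ga N6058 = N5061 := ded_9_1 L27890 L17522 L32986
theorem L32989 : sm ga N5061 = N6058 := flp_a L32988
theorem L32990 : sm gb N6058 = N5120 := ded_14_1 L28246 L17524 L32986
theorem L32992 : sm gd N3321 = N6059 := rfl
theorem L32996 : sm gb N6059 = N5230 := ded_14_1 L28800 L17536 L32992
theorem L32997 : sm gb N5230 = N6059 := flp_b L32996
theorem L33009 : sm ge N3324 = N6062 := rfl
theorem L33010 : sm ge N6062 = N3324 := flp_e L33009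
theorem L33013 : sm gd N6062 = N3326 := ded_22_1 L17564 L8715 L8711 L17557 L33009
theorem L33014 : sm gd N3326 = N6062 := flp_d L33013
theorem L33015 : sm gg N3324 = N6063 := rfl
theorem L33019 : sm gb N6063 = N4828 := ded_17_1 L26432 L17560 L33015
theorem L33039 : sm gg N3326 = N6068 := rfl
theorem L33041 : sm gb N6068 = N4822 := ded_17_1 L26404 L17566 L33039
theorem L33043 : sm ge N6068 = N3327 := ded_26_1 L17568 L17563 L33039
theorem L33044 : sm ge N3327 = N6068 := flp_e L33043
theorem L33045 : sm gf N6068 = N6057 := ded_28_2 L32983 L32976 L32980 L33039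
theorem L33046 : sm gf N6057 = N6068 := flp_f L33045
theorem L33047 : sm gf N3327 = N6069 := rfl
theorem L33049 : sm gb N6069 = N4823 := ded_16_1 L26407 L17570 L33047
theorem L33051 : sm ge N6069 = N6057 := ded_25_1 L33046 L33043 L33047
theorem L33053 : sm gg N6069 = N6056 := ded_28_3 L32977 L17517 L17567 L33047
theorem L33073 : sm gb N3330 = N6073 := rfl
theorem L33074 : sm gb N6073 = N3330 := flp_b L33073
theorem L33075 : sm gc N6073 = N5530 := ded_13_2 L30496 L16323 L8729 L17587 L33073
theorem L33077 : sm gd N3330 = N6074 := rfl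
theorem L33079 : sm ga N6074 = N3336 := ded_9_1 L17622 L17590 L33077
theorem L33080 : sm ga N3336 = N6074 := flp_a L33079
theorem L33081 : sm ge N3330 = N6075 := rfl
theorem L33085 : sm gc N6075 = N3331 := ded_19_1 L17592 L17587 L33081
theorem L33086 : sm gc N3331 = N6075 := flp_c L33085
theorem L33099 : sm gf N3331 = N6078 := rfl
theorem L33100 : sm gf N6078 = N3331 := flp_f L33099
theorem L33105 : sm ge N6078 = N3332 := ded_25_1 L17600 L17591 L33099
theorem L33131 : sm gf N3333 = N6082 := rfl
theorem L33139 : sm gg N6082 = N6078 := ded_28_3 L33105 L17600 L17605 L33131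
theorem L33141 : sm gc N3334 = N6083 := rfl
theorem L33143 : sm ga N6083 = N3350 := ded_8_1 L17698 L17614 L33141
theorem L33159 : sm ga N3335 = N6086 := rfl
theorem L33161 : sm gc N6086 = N3354 := ded_8_2 L17712 L17620 L33159
theorem L33162 : sm gc N3354 = N6086 := flp_c L33161
theorem L33167 : sm ge N3335 = N6088 := rfl
theorem L33168 : sm ge N6088 = N3335 := flp_e L33167
theorem L33171 : sm gc N6088 = N3355 := ded_19_1 L17714 L17620 L33167
theorem L33172 : sm gc N3355 = N6088 := flp_c L33171
theorem L33195 : sm gf N3337 = N6096 := rfl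
theorem L33197 : sm gc N6096 = N3341 := ded_20_1 L17644 L17626 L33195
theorem L33199 : sm ge N6096 = N3338 := ded_25_1 L17628 L17623 L33195
theorem L33201 : sm gg N3337 = N6097 := rfl
theorem L33205 : sm ge N6097 = N3339 := ded_26_1 L17632 L17623 L33201
theorem L33206 : sm ge N3339 = N6097 := flp_e L33205
theorem L33209 : sm gg N3338 = N6099 := rfl
theorem L33210 : sm gg N6099 = N3338 := flp_g L33209
theorem L33213 : sm gf N6097 = N6099 := ded_28_0 L33210 L17628 L17631 L33206
theorem L33217 : sm gf N3339 = N6101 := rfl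
theorem L33223 : sm gg N6101 = N6096 := ded_28_3 L33199 L17628 L17631 L33217
theorem L33225 : sm gc N3340 = N6102 := rfl
theorem L33231 : sm gb N6102 = N6086 := ded_13_1 L33161 L17761 L17758 L17640 L33225
theorem L33279 : sm gb N3346 = N6112 := rfl
theorem L33280 : sm gb N6112 = N3346 := flp_b L33279
theorem L33285 : sm ga N6088 = N6112 := ded_29_6 L33280 L17676 L17642 L17637 L16236 L16271 L16268 L17716 L33172
theorem L33286 : sm ga N6112 = N6088 := flp_a L33285
theorem L33341 : sm gg N3349 = N6121 := rfl
theorem L33343 : sm ga N6121 = N5507 := ded_12_1 L30362 L17694 L33341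
theorem L33344 : sm ga N5507 = N6121 := flp_a L33343
theorem L33347 : sm gd N6121 = N5812 := ded_24_1 L31814 L16943 L8770 L17691 L33341
theorem L33349 : sm gb N3350 = N6122 := rfl
theorem L33351 : sm gc N6122 = N3385 := ded_13_2 L17831 L8835 L8775 L17697 L33349
theorem L33405 : sm gg N3354 = N6133 := rfl
theorem L33406 : sm gg N6133 = N3354 := flp_g L33405
theorem L33447 : sm gf N3358 = N6141 := rfl
theorem L33450 : sm gg N3358 = N6142 := rfl
theorem L33451 : sm gg N6142 = N3358 := flp_g L33450
theorem L33455 : sm gd N3360 = N6144 := rfl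
theorem L33456 : sm gd N6144 = N3360 := flp_d L33455
theorem L33481 : sm gg N3365 = N6154 := rfl
theorem L33483 : sm gb N6154 = N6133 := ded_17_1 L33406 L17761 L33481
theorem L33484 : sm gb N6133 = N6154 := flp_b L33483
theorem L33487 : sm ge N6154 = N3378 := ded_26_1 L17803 L17760 L33481
theorem L33488 : sm ge N3378 = N6154 := flp_e L33487
theorem L33489 : sm gd N3366 = N6155 := rfl
theorem L33491 : sm gf N6155 = N3368 := ded_23_2 L17772 L8805 L8800 L17763 L33489
theorem L33503 : sm gg N3368 = N6159 := rfl
theorem L33504 : sm gg N6159 = N3368 := flp_g L33503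
theorem L33507 : sm gf N3369 = N6161 := rfl
theorem L33508 : sm gf N6161 = N3369 := flp_f L33507
theorem L33515 : sm gd N3372 = N6164 := rfl
theorem L33516 : sm gd N6164 = N3372 := flp_d L33515
theorem L33517 : sm gg N6164 = N3373 := ded_24_2 L17786 L8817 L8812 L17783 L33515
theorem L33518 : sm gg N3373 = N6164 := flp_g L33517
theorem L33523 : sm gf N3373 = N6167 := rfl
theorem L33524 : sm gf N6167 = N3373 := flp_f L33523
theorem L33525 : sm gd N6167 = N6161 := ded_23_1 L33508 L17774 L8818 L17785 L33523
theorem L33526 : sm gd N6161 = N6167 := flp_d L33525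
theorem L33533 : sm gg N3374 = N6170 := rfl
theorem L33534 : sm gg N6170 = N3374 := flp_g L33533
theorem L33535 : sm gd N6170 = N6159 := ded_24_1 L33504 L17772 L8825 L17787 L33533
theorem L33536 : sm gd N6159 = N6170 := flp_d L33535
theorem L33562 : sm gg N3376 = N6175 := rfl
theorem L33563 : sm gg N6175 = N3376 := flp_g L33562
theorem L33567 : sm gg N3377 = N6177 := rfl
theorem L33568 : sm gg N6177 = N3377 := flp_g L33567
theorem L33571 : sm gf N6154 = N6177 := ded_28_0 L33568 L17799 L17802 L33488
theorem L33573 : sm gd N3378 = N6178 := rfl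
theorem L33574 : sm gd N6178 = N3378 := flp_d L33573
theorem L33583 : sm gc N3379 = N6180 := rfl
theorem L33585 : sm gf N6180 = N3382 := ded_20_2 L17821 L17809 L33583
theorem L33586 : sm gf N3382 = N6180 := flp_f L33585
theorem L33591 : sm gg N3379 = N6182 := rfl
theorem L33592 : sm gg N6182 = N3379 := flp_g L33591
theorem L33593 : sm gc N5593 = N6182 := ded_31_15 L33592 L17808 L8833 L4359 L2259 L2181 L1099 L1073 L1070 L1064 L2122 L4107 L8221 L16449 L30802
theorem L33595 : sm gg N6180 = N5593 := ded_21_2 L33593 L33592 L33583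
theorem L33601 : sm gb N3382 = N6185 := rfl
theorem L33605 : sm ge N3382 = N6187 := rfl
theorem L33606 : sm ge N6187 = N3382 := flp_e L33605
theorem L33607 : sm gc N6187 = N3383 := ded_19_1 L17823 L17820 L33605
theorem L33625 : sm ga N3385 = N6191 := rfl
theorem L33626 : sm ga N6191 = N3385 := flp_a L33625
theorem L33627 : sm gb N6191 = N6187 := ded_29_7 L33607 L17823 L16337 L17616 L33141 L33143 L33349 L33351 L33625
theorem L33628 : sm gb N6187 = N6191 := flp_b L33627
theorem L33629 : sm ge N6185 = N6191 := ded_15_0 L33627 L33606 L33601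
theorem L33641 : sm gg N3385 = N6194 := rfl
theorem L33643 : sm gb N6194 = N3388 := ded_17_1 L17839 L17830 L33641
theorem L33645 : sm gf N5577 = N6194 := ded_16_0 L33643 L17842 L30739
theorem L33646 : sm gf N6194 = N5577 := flp_f L33645
theorem L33651 : sm gg N3386 = N6197 := rfl
theorem L33652 : sm gg N6197 = N3386 := flp_g L33651
theorem L33663 : sm gd N3388 = N6200 := rfl
theorem L33664 : sm gd N6200 = N3388 := flp_d L33663
theorem L33665 : sm gf N6200 = N5593 := ded_23_2 L30803 L16450 L16447 L17843 L33663
theorem L33666 : sm gf N5593 = N6200 := flp_f L33665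
theorem L33667 : N3360 = N6178 := coi_31_10 L33574 L17804 L8831 L8828 L17806 L33583 L33595 L33666 L33664 L17840 L8839 L8815 L8813 L8795 L17741 L17746
theorem L33668 : N6178 = N3360 := (eqc rfl L33667 rfl).symm
theorem L33669 : sm gd N3360 = N3378 := trfs L33668 L33574 rfl
theorem L33670 : N3378 = N6144 := eqes L33669 L33455
theorem L33671 : N6144 = N3378 := (eqc rfl L33670 rfl).symm
theorem L33672 : sm gd N3378 = N3360 := trfs L33671 L33456 rfl
theorem L33676 : sm gg N6200 = N6187 := ded_28_3 L33606 L33586 L33595 L33666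
theorem L33686 : N6142 = N3376 := coi_24_5 L17796 L17802 L33672 L17734 L17725 L33450
theorem L33687 : N6142 = N3376 := eqc rfl L33686 rfl
theorem L33689 : sm gg N3376 = N3358 := trfs L33687 L33451 rfl
theorem L33690 : N3358 = N6175 := eqes L33689 L33562
theorem L33691 : N6175 = N3358 := (eqc rfl L33690 rfl).symm
theorem L33693 : sm gg N3358 = N3376 := trfs L33691 L33563 rfl
theorem L33694 : sm gg N3376 = N3358 := flp_g L33693
theorem L33695 : sm gd N6187 = N6197 := ded_24_1 L33652 L17833 L17838 L33663 L33676
theorem L33696 : sm gd N6197 = N6187 := flp_d L33695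
theorem L33775 : sm gg N3400 = N6218 := rfl
theorem L33776 : sm gg N6218 = N3400 := flp_g L33775
theorem L33777 : sm ga N6218 = N4828 := ded_12_1 L26432 L17911 L33775
theorem L33778 : sm ga N4828 = N6218 := flp_a L33777
theorem L33781 : sm gd N6218 = N4598 := ded_24_1 L25236 L13298 L8865 L17908 L33775
theorem L33785 : sm gd N3401 = N6220 := rfl
theorem L33786 : sm gd N6220 = N3401 := flp_d L33785
theorem L33789 : sm gc N5541 = N6220 := ded_30_0 L33786 L17915 L8873 L4380 L2261 L2251 L4365 L8834 L17832 L30561
theorem L33797 : sm gf N3401 = N6222 := rfl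
theorem L33799 : sm ga N6222 = N6055 := ded_11_1 L32974 L17917 L33797
theorem L33847 : sm gf N3405 = N6230 := rfl
theorem L33851 : sm gb N6230 = N4601 := ded_16_1 L25248 L17937 L33847
theorem L33852 : sm gb N4601 = N6230 := flp_b L33851
theorem L33853 : sm gd N6230 = N3419 := ded_23_1 L18053 L8925 L8885 L17932 L33847
theorem L33854 : sm gd N3419 = N6230 := flp_d L33853
theorem L33881 : sm gd N3412 = N6238 := rfl
theorem L33885 : sm gb N6238 = N5086 := ded_14_1 L28020 L17987 L33881
theorem L33886 : sm gb N5086 = N6238 := flp_b L33885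
theorem L33890 : sm gd N3413 = N6239 := rfl
theorem L33892 : sm ga N6239 = N6052 := ded_9_1 L32963 L17995 L33890
theorem L33894 : sm gb N6239 = N5081 := ded_14_1 L27996 L17997 L33890
theorem L33898 : sm gd N3415 = N6240 := rfl
theorem L33900 : sm ga N6240 = N6053 := ded_9_1 L32967 L18019 L33898
theorem L33901 : sm ga N6053 = N6240 := flp_a L33900
theorem L33904 : sm gf N6240 = N5133 := ded_23_2 L28326 L18012 L18005 L18016 L33898
theorem L33906 : sm gd N3416 = N6241 := rfl
theorem L33910 : sm gb N6241 = N5068 := ded_14_1 L27916 L18027 L33906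
theorem L33912 : sm gc N3417 = N6242 := rfl
theorem L33914 : sm ga N6242 = N6034 := ded_8_1 L32883 L18037 L33912
theorem L33916 : sm gg N6242 = N3421 := ded_21_2 L18069 L18039 L33912
theorem L33917 : sm gg N3421 = N6242 := flp_g L33916
theorem L33918 : sm ge N3417 = N6243 := rfl
theorem L33922 : sm gg N6243 = N3422 := ded_26_2 L18073 L18039 L33918
theorem L33928 : sm gd N3418 = N6245 := rfl
theorem L33930 : sm ga N6245 = N5116 := ded_9_1 L28224 L18043 L33928
theorem L33932 : sm gb N6245 = N5066 := ded_14_1 L27904 L18045 L33928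
theorem L33933 : sm gb N5066 = N6245 := flp_b L33932
theorem L33938 : sm ge N3420 = N6247 := rfl
theorem L33939 : sm ge N6247 = N3420 := flp_e L33938
theorem L33942 : sm gd N6247 = N3422 := ded_22_1 L18073 L8939 L8935 L18064 L33938
theorem L33943 : sm gd N3422 = N6247 := flp_d L33942
theorem L33972 : sm gg N3423 = N6253 := rfl
theorem L33973 : sm gg N6253 = N3423 := flp_g L33972
theorem L33978 : sm gf N6243 = N6253 := ded_28_0 L33973 L18077 L18039 L33918
theorem L33979 : sm gf N6253 = N6243 := flp_f L33978
theorem L34016 : sm gd N3428 = N6260 := rfl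
theorem L34018 : sm gb N6260 = N3433 := ded_14_1 L18142 L18106 L34016
theorem L34020 : sm gg N3728 = N6260 := ded_17_0 L34018 L18147 L20023
theorem L34021 : sm gg N6260 = N3728 := flp_g L34020
theorem L34050 : sm gg N3434 = N6264 := rfl
theorem L34051 : sm gg N6264 = N3434 := flp_g L34050
theorem L34052 : sm ga N6264 = N3437 := ded_12_1 L18171 L18151 L34050
theorem L34057 : sm ge N6264 = N3437 := ded_26_1 L18171 L18155 L34050
theorem L34058 : sm ge N3437 = N6264 := flp_e L34057
theorem L34059 : sm gf N6264 = N6264 := ded_28_0 L34051 L18156 L18170 L34058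
theorem L34096 : sm gf N3444 = N6271 := rfl
theorem L34097 : sm gf N6271 = N3444 := flp_f L34096
theorem L34101 : sm ge N6271 = N3460 := ded_25_1 L27350 L27347 L34096
theorem L34102 : sm ge N3460 = N6271 := flp_e L34101
theorem L34103 : sm gd N6271 = N6271 := ded_23_1 L34097 L18229 L9025 L18228 L34096
theorem L34138 : sm gb N3450 = N6277 := rfl
theorem L34140 : sm gd N6277 = N4200 := ded_14_2 L22877 L18265 L34138
theorem L34141 : sm gd N4200 = N6277 := flp_d L34140
theorem L34142 : sm gg N6277 = N3630 := ded_17_2 L19449 L18264 L34138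
theorem L34144 : sm gc N3451 = N6278 := rfl
theorem L34145 : sm gc N6278 = N3451 := flp_c L34144
theorem L34148 : sm gf N6278 = N4580 := ded_20_2 L25108 L18275 L34144
theorem L34149 : sm gf N4580 = N6278 := flp_f L34148
theorem L34152 : sm gg N3451 = N6279 := rfl
theorem L34153 : sm gg N6279 = N3451 := flp_g L34152
theorem L34160 : sm gf N3886 = N6279 := ded_28_0 L34153 L18276 L14647 L21008
theorem L34161 : sm gf N6279 = N3886 := flp_f L34160
theorem L34182 : sm gc N3455 = N6283 := rfl
theorem L34232 : sm gd N3460 = N6292 := rfl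
theorem L34233 : sm gd N6292 = N3460 := flp_d L34232
theorem L34235 : sm ge N6292 = N6292 := ded_22_2 L34233 L34102 L34103 L34101 L34232
theorem L34287 : sm gd N3466 = N6300 := rfl
theorem L34293 : sm gf N6300 = N3992 := ded_23_2 L24057 L24054 L18394 L18392 L34287
theorem L34294 : sm gf N3992 = N6300 := flp_f L34293
theorem L34295 : sm gg N6300 = N3467 := ded_24_2 L18366 L9140 L9131 L18357 L34287
theorem L34301 : sm gf N3467 = N6302 := rfl
theorem L34307 : sm gg N6302 = N3997 := ded_28_3 L21713 L34294 L34295 L34301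
theorem L34316 : sm gf N3468 = N6304 := rfl
theorem L34319 : sm gb N6304 = N3470 := ded_16_1 L18380 L18371 L34316
theorem L34320 : sm gb N3470 = N6304 := flp_b L34319
theorem L34321 : sm gc N6304 = N3478 := ded_20_1 L18425 L18374 L34316
theorem L34362 : sm gb N3475 = N6315 := rfl
theorem L34363 : sm gb N6315 = N3475 := flp_b L34362
theorem L34364 : sm gc N6315 = N3489 := ded_13_2 L18500 L9209 L9162 L18411 L34362
theorem L34366 : sm gf N3960 = N6315 := ded_20_0 L34364 L18501 L21445
theorem L34370 : sm gf N3475 = N6317 := rfl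
theorem L34371 : sm gf N6317 = N3475 := flp_f L34370
theorem L34372 : sm gb N6317 = N3960 := ded_16_1 L34366 L34363 L34370
theorem L34376 : sm gg N3957 = N6317 := ded_17_0 L34372 L21443 L21432
theorem L34378 : sm gd N3477 = N6318 := rfl
theorem L34381 : sm gb N6318 = N3480 := ded_14_1 L18435 L18423 L34378
theorem L34394 : sm gg N3477 = N6320 := rfl
theorem L34395 : sm gg N6320 = N3477 := flp_g L34394
theorem L34399 : sm ge N6320 = N3479 := ded_26_1 L18430 L18419 L34394
theorem L34400 : sm ge N3479 = N6320 := flp_e L34399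
theorem L34410 : sm gg N3478 = N6322 := rfl
theorem L34411 : sm gg N6322 = N3478 := flp_g L34410
theorem L34415 : sm gf N6320 = N6322 := ded_28_0 L34411 L18425 L18429 L34400
theorem L34416 : sm gf N6322 = N6320 := flp_f L34415
theorem L34489 : sm gc N3496 = N6332 := rfl
theorem L34493 : sm gg N6332 = N4012 := ded_21_2 L21810 L18547 L34489
theorem L34495 : sm gf N3496 = N6333 := rfl
theorem L34496 : sm gf N6333 = N3496 := flp_f L34495
theorem L34501 : sm gg N6333 = N4059 := ded_28_3 L22077 L21927 L18547 L34495
theorem L34502 : sm gg N4059 = N6333 := flp_g L34501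
theorem L34505 : sm gd N3498 = N6334 := rfl
theorem L34506 : sm gd N6334 = N3498 := flp_d L34505
theorem L34507 : sm gb N6334 = N4025 := ded_14_1 L21865 L18564 L34505
theorem L34508 : sm gb N4025 = N6334 := flp_b L34507
theorem L34523 : sm gd N3499 = N6337 := rfl
theorem L34525 : sm gb N6337 = N3504 := ded_14_1 L18596 L18568 L34523
theorem L34527 : sm ge N6337 = N3501 := ded_22_2 L18576 L9252 L9247 L18565 L34523
theorem L34528 : sm ge N3501 = N6337 := flp_e L34527
theorem L34529 : sm gg N3647 = N6337 := ded_17_0 L34525 L18603 L19538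
theorem L34530 : sm gg N6337 = N3647 := flp_g L34529
theorem L34541 : sm gg N3501 = N6340 := rfl
theorem L34542 : sm gg N6340 = N3501 := flp_g L34541
theorem L34549 : sm gf N3646 = N6340 := ded_28_0 L34542 L19543 L19540 L19529
theorem L34557 : sm gc N3503 = N6342 := rfl
theorem L34559 : sm ga N6342 = N4127 := ded_8_1 L22453 L18590 L34557
theorem L34560 : sm ga N4127 = N6342 := flp_a L34559
theorem L34561 : sm gg N6342 = N4121 := ded_21_2 L22422 L18594 L34557
theorem L34562 : sm gg N4121 = N6342 := flp_g L34561
theorem L34615 : sm ge N3510 = N6350 := rfl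
theorem L34619 : sm gc N6350 = N3511 := ded_19_1 L18638 L18633 L34615
theorem L34620 : sm gc N3511 = N6350 := flp_c L34619
theorem L34633 : sm gf N3511 = N6353 := rfl
theorem L34637 : sm gb N6353 = N3538 := ded_16_1 L19143 L19138 L34633
theorem L34638 : sm gb N3538 = N6353 := flp_b L34637
theorem L34639 : sm ge N6353 = N3512 := ded_25_1 L18642 L18637 L34633
theorem L34640 : sm ge N3512 = N6353 := flp_e L34639
theorem L34643 : sm gg N3511 = N6354 := rfl
theorem L34644 : sm gg N6354 = N3511 := flp_g L34643
theorem L34647 : sm ge N6354 = N3513 := ded_26_1 L18646 L18637 L34643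
theorem L34648 : sm ge N3513 = N6354 := flp_e L34647
theorem L34649 : sm gg N3512 = N6355 := rfl
theorem L34650 : sm gg N6355 = N3512 := flp_g L34649
theorem L34653 : sm gf N6354 = N6355 := ded_28_0 L34650 L18642 L18645 L34648
theorem L34654 : sm gf N6355 = N6354 := flp_f L34653
theorem L34673 : sm gg N3514 = N6358 := rfl
theorem L34675 : sm ga N6358 = N3528 := ded_12_1 L18722 L18654 L34673
theorem L34676 : sm ga N3528 = N6358 := flp_a L34675
theorem L34679 : sm ge N6358 = N3528 := ded_26_1 L18722 L18658 L34673
theorem L34680 : sm ge N3528 = N6358 := flp_e L34679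
theorem L34685 : sm ga N3515 = N6359 := rfl
theorem L34686 : sm ga N6359 = N3515 := flp_a L34685
theorem L34687 : sm gc N6359 = N3529 := ded_8_2 L18728 L18662 L34685
theorem L34688 : sm gc N3529 = N6359 := flp_c L34687
theorem L34689 : sm gb N6359 = N6350 := ded_29_4 L34619 L18639 L9312 L9339 L9336 L4617 L9332 L18662 L34685
theorem L34690 : sm gb N6350 = N6359 := flp_b L34689
theorem L34796 : sm gb N3529 = N6383 := rfl
theorem L34797 : sm gb N6383 = N3529 := flp_b L34796
theorem L34799 : sm gc N6383 = N3584 := ded_13_2 L19138 L34620 L34690 L34687 L34796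
theorem L34801 : sm ga N6383 = N6383 := ded_7_1 L34797 L18728 L9333 L4617 L9332 L18727 L34796
theorem L34802 : sm ge N3585 = N6383 := ded_29_9 L34801 L34797 L34688 L34686 L18660 L9309 L9299 L9613 L19144
theorem L34803 : sm ge N6383 = N3585 := flp_e L34802
theorem L34804 : sm ge N3529 = N6384 := rfl
theorem L34806 : sm ga N6384 = N3530 := ded_10_1 L18731 L18727 L34804
theorem L34808 : sm gb N6384 = N3585 := ded_15_1 L34802 L34797 L34804
theorem L34809 : sm gb N3585 = N6384 := flp_b L34808
theorem L34812 : sm gd N4942 = N6384 := ded_9_0 L34806 L18801 L27130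
theorem L34813 : sm gd N6384 = N4942 := flp_d L34812
theorem L34862 : sm gc N3538 = N6393 := rfl
theorem L34867 : sm gf N6393 = N6383 := ded_20_2 L34799 L19142 L34862
theorem L34873 : sm gf N3539 = N6394 := rfl
theorem L34880 : sm gd N6394 = N5016 := ded_23_1 L27604 L18814 L9374 L18808 L34873
theorem L34901 : sm gf N3545 = N6397 := rfl
theorem L34902 : sm gf N6397 = N3545 := flp_f L34901
theorem L34905 : sm gc N6397 = N6397 := ded_20_1 L34902 L19018 L34901
theorem L34907 : sm gd N6397 = N3554 := ded_23_1 L18906 L9444 L9404 L18853 L34901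
theorem L34908 : sm gd N3554 = N6397 := flp_d L34907
theorem L34909 : sm ge N3548 = N6398 := rfl
theorem L34915 : sm gf N6398 = N4934 := ded_25_2 L27070 L18992 L34909
theorem L34916 : sm gf N4934 = N6398 := flp_f L34915
theorem L34917 : sm gg N6398 = N3548 := ded_28_3 L34909 L34915 L27073 L34916
theorem L34918 : sm gg N3548 = N6398 := flp_g L34917
theorem L34936 : sm gf N3551 = N6402 := rfl
theorem L34938 : sm ga N6402 = N3554 := ded_11_1 L18906 L18898 L34936
theorem L34939 : sm ga N3554 = N6402 := flp_a L34938
theorem L34952 : sm gf N3552 = N6406 := rfl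
theorem L34956 : sm gc N6406 = N3554 := ded_20_1 L18906 L18899 L34952
theorem L34957 : sm gc N3554 = N6406 := flp_c L34956
theorem L34962 : sm gd N3553 = N6408 := rfl
theorem L34966 : sm ge N6408 = N3556 := ded_22_2 L18914 L9448 L9443 L18901 L34962
theorem L34968 : sm gf N3553 = N6409 := rfl
theorem L34972 : sm ge N6409 = N3554 := ded_25_1 L18906 L18901 L34968
theorem L34973 : sm ge N3554 = N6409 := flp_e L34972
theorem L34974 : sm gg N3553 = N6410 := rfl
theorem L34978 : sm ge N6410 = N3555 := ded_26_1 L18910 L18901 L34974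
theorem L34979 : sm ge N3555 = N6410 := flp_e L34978
theorem L34980 : sm gg N3554 = N6411 := rfl
theorem L34981 : sm gg N6411 = N3554 := flp_g L34980
theorem L34984 : sm gf N6410 = N6411 := ded_28_0 L34981 L18906 L18909 L34979
theorem L34985 : sm gf N6411 = N6410 := flp_f L34984
theorem L34987 : sm gf N3555 = N6412 := rfl
theorem L34988 : sm gf N6412 = N3555 := flp_f L34987
theorem L34989 : sm gb N6412 = N3566 := ded_16_1 L18965 L18912 L34987
theorem L34991 : sm ge N6412 = N6411 := ded_25_1 L34985 L34978 L34987
theorem L35027 : sm gd N3563 = N6420 := rfl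
theorem L35028 : sm gd N6420 = N3563 := flp_d L35027
theorem L35036 : sm gd N3566 = N6422 := rfl
theorem L35037 : sm gd N6422 = N3566 := flp_d L35036
theorem L35039 : sm ge N6422 = N6422 := ded_22_2 L35037 L18967 L18963 L18968 L35036
theorem L35040 : sm gf N6422 = N4048 := ded_23_2 L22002 L11321 L11323 L18964 L35036
theorem L35042 : sm gg N4052 = N6422 := ded_28_3 L35039 L35040 L22005 L22029
theorem L35043 : sm gg N6422 = N4052 := flp_g L35042
theorem L35044 : sm gg N6420 = N4055 := ded_24_4 L22042 L35042 L35037 L18969 L35027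
theorem L35045 : sm gg N4055 = N6420 := flp_g L35044
theorem L35046 : sm gc N5024 = N6420 := ded_31_15 L35044 L22040 L11293 L11263 L11260 L5486 L5035 L5033 L5045 L10274 L14708 L27663 L27658 L14688 L27652
theorem L35047 : sm gc N6420 = N5024 := flp_c L35046
theorem L35060 : sm gd N3567 = N6424 := rfl
theorem L35065 : sm gf N6424 = N3840 := ded_23_2 L20723 L10542 L19188 L19186 L35060
theorem L35066 : sm gf N3840 = N6424 := flp_f L35065
theorem L35067 : sm gg N6424 = N6394 := ded_24_2 L34880 L27597 L26854 L26851 L35060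
theorem L35078 : sm gc N3569 = N6426 := rfl
theorem L35081 : sm ge N6426 = N3832 := ded_19_2 L22000 L21995 L35078
theorem L35097 : sm gb N3571 = N6428 := rfl
theorem L35099 : sm ge N6428 = N5033 := ded_15_2 L27720 L19023 L35097
theorem L35103 : sm gg N6428 = N5032 := ded_17_2 L27710 L19027 L35097
theorem L35104 : sm gg N5032 = N6428 := flp_g L35103
theorem L35107 : sm gc N3574 = N6429 := rfl
theorem L35121 : sm gf N3574 = N6431 := rfl
theorem L35122 : sm gf N6431 = N3574 := flp_f L35121
theorem L35129 : sm gg N6431 = N3645 := ded_28_3 L19528 L20773 L20778 L35121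
theorem L35130 : sm gg N3645 = N6431 := flp_g L35129
theorem L35175 : sm gg N3584 = N6437 := rfl
theorem L35180 : sm ge N6437 = N3587 := ded_26_1 L19159 L19141 L35175
theorem L35182 : sm gd N6437 = N5018 := ded_24_1 L27610 L14642 L9598 L19135 L35175
theorem L35183 : sm gd N5018 = N6437 := flp_d L35182
theorem L35201 : sm ge N3588 = N6440 := rfl
theorem L35203 : sm ga N6440 = N6408 := ded_10_1 L34966 L19168 L35201
theorem L35204 : sm ga N6408 = N6440 := flp_a L35203
theorem L35207 : sm gf N6440 = N6408 := ded_25_2 L34966 L19172 L35201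
theorem L35208 : sm gf N6408 = N6440 := flp_f L35207
theorem L35233 : sm gd N3591 = N6444 := rfl
theorem L35238 : sm ge N6444 = N3593 := ded_22_2 L19199 L9633 L9627 L19190 L35233
theorem L35240 : sm gf N6444 = N6420 := ded_23_2 L35028 L18949 L18943 L19194 L35233
theorem L35241 : sm gf N6420 = N6444 := flp_f L35240
theorem L35242 : sm gg N6444 = N4054 := ded_24_2 L22051 L22053 L26840 L26843 L35233
theorem L35244 : sm gc N3593 = N6445 := rfl
theorem L35247 : sm gg N6445 = N4053 := ded_21_2 L22034 L19204 L35244
theorem L35249 : sm gf N3593 = N6446 := rfl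
theorem L35250 : sm gf N6446 = N3593 := flp_f L35249
theorem L35254 : sm ge N6446 = N6420 := ded_25_1 L35241 L35238 L35249
theorem L35270 : sm gd N3595 = N6448 := rfl
theorem L35272 : sm gb N6448 = N3596 := ded_14_1 L19217 L19212 L35270
theorem L35290 : sm gc N3596 = N6451 := rfl
theorem L35291 : sm gc N6451 = N3596 := flp_c L35290
theorem L35292 : sm ge N3596 = N6452 := rfl
theorem L35293 : sm ge N6452 = N3596 := flp_e L35292
theorem L35294 : sm gf N3596 = N6453 := rfl
theorem L35295 : sm gf N6453 = N3596 := flp_f L35294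
theorem L35296 : sm gg N3596 = N6454 := rfl
theorem L35297 : sm gg N6454 = N3596 := flp_g L35296
theorem L35310 : sm gf N3598 = N6458 := rfl
theorem L35318 : sm gg N6458 = N3689 := ded_28_3 L19793 L10010 L19222 L35310
theorem L35324 : sm gc N3600 = N6460 := rfl
theorem L35325 : sm gc N6460 = N3600 := flp_c L35324
theorem L35326 : sm gg N6460 = N3602 := ded_21_2 L19251 L19239 L35324
theorem L35327 : sm gg N3602 = N6460 := flp_g L35326
theorem L35328 : sm ge N3600 = N6461 := rfl
theorem L35329 : sm ge N6461 = N3600 := flp_e L35328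
theorem L35334 : sm gf N6461 = N3663 := ded_28_0 L19633 L19257 L19239 L35328
theorem L35335 : sm gf N3663 = N6461 := flp_f L35334
theorem L35336 : sm gf N3600 = N6462 := rfl
theorem L35338 : sm ga N6462 = N3857 := ded_11_1 L20816 L19837 L35336
theorem L35339 : sm ga N3857 = N6462 := flp_a L35338
theorem L35342 : sm ge N6462 = N3663 := ded_25_1 L35335 L35329 L35336
theorem L35358 : sm ge N3602 = N6466 := rfl
theorem L35359 : sm ge N6466 = N3602 := flp_e L35358
theorem L35362 : sm gf N3602 = N6467 := rfl
theorem L35363 : sm gf N6467 = N3602 := flp_f L35362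
theorem L35364 : sm gc N6467 = N3604 := ded_20_1 L19257 L19250 L35362
theorem L35365 : sm gc N3604 = N6467 := flp_c L35364
theorem L35374 : sm gg N3605 = N6469 := rfl
theorem L35380 : sm ge N6469 = N3717 := ded_26_1 L19949 L19266 L35374
theorem L35384 : sm gd N6469 = N4517 := ded_24_1 L24765 L24767 L21152 L19263 L35374
theorem L35385 : sm gd N4517 = N6469 := flp_d L35384
theorem L35396 : sm gd N3607 = N6471 := rfl
theorem L35397 : sm gd N6471 = N3607 := flp_d L35396
theorem L35404 : sm gg N6471 = N3911 := ded_24_2 L21161 L10786 L9713 L19278 L35396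
theorem L35405 : sm gg N3911 = N6471 := flp_g L35404
theorem L35408 : sm gd N3611 = N6472 := rfl
theorem L35409 : sm gd N6472 = N3611 := flp_d L35408
theorem L35411 : sm gg N6472 = N3612 := ded_24_2 L19339 L9730 L9724 L19331 L35408
theorem L35412 : sm gg N3612 = N6472 := flp_g L35411
theorem L35413 : sm ge N3612 = N6473 := rfl
theorem L35418 : sm gd N6473 = N3614 := ded_22_1 L19351 L9737 L9733 L19338 L35413
theorem L35419 : sm gd N3614 = N6473 := flp_d L35418
theorem L35420 : sm gb N3613 = N6474 := rfl
theorem L35424 : sm gf N6474 = N3643 := ded_16_2 L19513 L19346 L35420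
theorem L35425 : sm gf N3643 = N6474 := flp_f L35424
theorem L35426 : sm gg N6474 = N3622 := ded_17_2 L19403 L19345 L35420
theorem L35428 : sm gd N3613 = N6475 := rfl
theorem L35429 : sm gd N6475 = N3613 := flp_d L35428
theorem L35430 : sm ga N6475 = N6475 := ded_9_1 L35429 L19343 L35428
theorem L35433 : sm gf N6475 = N3847 := ded_23_2 L20753 L10587 L10589 L19346 L35428
theorem L35435 : sm gg N6475 = N4916 := ded_24_2 L26938 L14617 L9767 L19345 L35428
theorem L35436 : sm gg N4916 = N6475 := flp_g L35435
theorem L35437 : sm gc N6475 = N4209 := ded_30_0 L22946 L11853 L11635 L19299 L19292 L9722 L9736 L19341 L35428 L35430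
theorem L35438 : sm gc N4209 = N6475 := flp_c L35437
theorem L35456 : sm gd N3620 = N6478 := rfl
theorem L35457 : sm gd N6478 = N3620 := flp_d L35456
theorem L35458 : sm ga N6478 = N6478 := ded_9_1 L35457 L19392 L35456
theorem L35459 : sm gf N6478 = N4502 := ded_23_2 L24643 L12904 L12811 L19394 L35456
theorem L35461 : sm gc N6478 = N4919 := ded_30_0 L26959 L19621 L19437 L9779 L4811 L4793 L9759 L19390 L35456 L35458
theorem L35463 : sm ge N4918 = N6478 := ded_28_4 L35459 L24645 L22808 L26953
theorem L35464 : sm ge N6478 = N4918 := flp_e L35463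
theorem L35465 : sm ge N3620 = N6479 := rfl
theorem L35466 : sm ge N6479 = N3620 := flp_e L35465
theorem L35472 : sm gf N6479 = N3734 := ded_25_2 L24422 L19394 L35465
theorem L35473 : sm gf N3734 = N6479 := flp_f L35472
theorem L35476 : sm ga N3622 = N6480 := rfl
theorem L35477 : sm ga N6480 = N3622 := flp_a L35476
theorem L35480 : sm gf N6480 = N3818 := ded_11_2 L20581 L19520 L35476
theorem L35484 : sm ge N3720 = N6480 := ded_28_4 L35480 L20580 L20546 L20548
theorem L35486 : sm ge N3622 = N6481 := rfl
theorem L35488 : sm ga N6481 = N3720 := ded_10_1 L35484 L35477 L35486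
theorem L35505 : sm gd N3624 = N6483 := rfl
theorem L35506 : sm gd N6483 = N3624 := flp_d L35505
theorem L35508 : sm ge N6483 = N4468 := ded_22_2 L24442 L21684 L19421 L19417 L35505
theorem L35558 : sm ga N3632 = N6489 := rfl
theorem L35560 : sm gc N6489 = N3645 := ded_8_2 L19522 L19462 L35558
theorem L35562 : sm gb N6489 = N3800 := ded_29_4 L20464 L10347 L9806 L9828 L9825 L4830 L9820 L19462 L35558
theorem L35598 : sm gg N3633 = N6497 := rfl
theorem L35599 : sm gg N6497 = N3633 := flp_g L35598
theorem L35608 : sm gg N3634 = N6500 := rfl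
theorem L35609 : sm gg N6500 = N3634 := flp_g L35608
theorem L35610 : sm gc N6500 = N3638 := ded_21_1 L19484 L19468 L35608
theorem L35634 : sm gd N3637 = N6505 := rfl
theorem L35635 : sm gd N6505 = N3637 := flp_d L35634
theorem L35660 : sm gb N3642 = N6510 := rfl
theorem L35662 : sm gc N6510 = N3663 := ded_13_2 L19632 L9885 L9819 L19509 L35660
theorem L35664 : sm gg N6467 = N6510 := ded_21_0 L35662 L19633 L35365
theorem L35665 : sm gg N6510 = N6467 := flp_g L35664
theorem L35680 : sm gg N3643 = N6514 := rfl
theorem L35681 : sm gg N6514 = N3643 := flp_g L35680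
theorem L35684 : sm ge N6514 = N3644 := ded_26_1 L19516 L19511 L35680
theorem L35686 : sm gf N6481 = N6514 := ded_28_0 L35681 L35425 L35426 L35486
theorem L35687 : sm gf N6514 = N6481 := flp_f L35686
theorem L35698 : sm gg N3646 = N6516 := rfl
theorem L35699 : sm gg N6516 = N3646 := flp_g L35698
theorem L35700 : sm ga N6516 = N3852 := ded_12_1 L20780 L19532 L35698
theorem L35706 : sm gf N6337 = N6516 := ded_28_0 L35699 L34549 L34542 L34528
theorem L35707 : sm gf N6516 = N6337 := flp_f L35706
theorem L35710 : sm gd N3647 = N6517 := rfl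
theorem L35714 : sm gf N6517 = N3967 := ded_23_2 L21485 L10948 L9823 L19535 L35710
theorem L35726 : sm gc N3650 = N6519 := rfl
theorem L35727 : sm gc N6519 = N3650 := flp_c L35726
theorem L35731 : sm gf N6519 = N3971 := ded_20_2 L21507 L19560 L35726
theorem L35732 : sm gf N3971 = N6519 := flp_f L35731
theorem L35733 : sm gg N6519 = N3888 := ded_21_2 L21025 L19562 L35726
theorem L35734 : sm gg N3888 = N6519 := flp_g L35733
theorem L35735 : sm ge N3651 = N6520 := rfl
theorem L35742 : sm gg N6520 = N3974 := ded_26_2 L21522 L19569 L35735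
theorem L35744 : sm gd N6520 = N3977 := ded_22_1 L21555 L19555 L19550 L19563 L35735
theorem L35745 : sm gd N3977 = N6520 := flp_d L35744
theorem L35746 : sm gd N3653 = N6521 := rfl
theorem L35747 : sm gd N6521 = N3653 := flp_d L35746
theorem L35749 : sm ge N6521 = N5018 := ded_22_2 L35183 L35180 L19163 L19581 L35746
theorem L35751 : sm gg N6521 = N3655 := ded_24_2 L19586 L9852 L9841 L19577 L35746
theorem L35752 : sm gg N3655 = N6521 := flp_g L35751
theorem L35754 : sm gf N3655 = N6522 := rfl
theorem L35755 : sm gf N6522 = N3655 := flp_f L35754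
theorem L35760 : sm gg N4910 = N6522 := ded_28_1 L35755 L35752 L35749 L27613
theorem L35784 : sm ga N3663 = N6525 := rfl
theorem L35788 : sm ge N6525 = N3857 := ded_10_2 L35339 L35342 L35784
theorem L35789 : sm ge N3857 = N6525 := flp_e L35788
theorem L35794 : sm gd N3667 = N6526 := rfl
theorem L35796 : sm ga N6526 = N3682 := ded_9_1 L19751 L19661 L35794
theorem L35797 : sm ga N3682 = N6526 := flp_a L35796
theorem L35798 : sm gb N6526 = N3668 := ded_14_1 L19666 L19657 L35794
theorem L35799 : sm gb N3668 = N6526 := flp_b L35798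
theorem L35820 : sm gc N3668 = N6529 := rfl
theorem L35821 : sm gc N6529 = N3668 := flp_c L35820
theorem L35824 : sm gd N5901 = N6529 := ded_30_1 L35821 L19666 L9910 L4872 L4230 L8538 L17100 L32157 L32159 L32265
theorem L35834 : sm gg N3668 = N6532 := rfl
theorem L35836 : sm ga N6532 = N3681 := ded_12_1 L19748 L19668 L35834
theorem L35866 : sm gd N3672 = N6537 := rfl
theorem L35870 : sm gb N6537 = N6472 := ded_14_1 L35409 L19696 L35866
theorem L35871 : sm gb N6472 = N6537 := flp_b L35870
theorem L35874 : sm gc N3674 = N6538 := rfl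
theorem L35878 : sm gg N6538 = N3676 := ded_21_2 L19728 L19716 L35874
theorem L35890 : sm gf N3674 = N6540 := rfl
theorem L35891 : sm gf N6540 = N3674 := flp_f L35890
theorem L35898 : sm gg N6540 = N4460 := ded_28_3 L24374 L12806 L19716 L35890
theorem L35899 : sm gg N4460 = N6540 := flp_g L35898
theorem L35943 : sm gd N3679 = N6550 := rfl
theorem L35944 : sm gd N6550 = N3679 := flp_d L35943
theorem L35945 : sm gb N6550 = N6550 := ded_14_1 L35944 L19743 L35943
theorem L35946 : sm ge N6550 = N3682 := ded_22_2 L19751 L9950 L9946 L19741 L35943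
theorem L35948 : sm gf N3679 = N6551 := rfl
theorem L35949 : sm gf N6551 = N3679 := flp_f L35948
theorem L35950 : sm gb N6551 = N6551 := ded_16_1 L35949 L19743 L35948
theorem L35951 : sm ge N6551 = N3680 := ded_25_1 L19745 L19741 L35948
theorem L35973 : sm gf N3681 = N6556 := rfl
theorem L35974 : sm gf N6556 = N3681 := flp_f L35973
theorem L35975 : sm gb N6556 = N6556 := ded_16_1 L35974 L19749 L35973
theorem L35978 : sm gg N6556 = N6551 := ded_28_3 L35951 L19745 L19747 L35973
theorem L35985 : sm gg N3682 = N6559 := rfl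
theorem L35986 : sm gg N6559 = N3682 := flp_g L35985
theorem L35987 : sm gb N6559 = N6559 := ded_17_1 L35986 L19752 L35985
theorem L36022 : sm ge N3690 = N6572 := rfl
theorem L36023 : sm ge N6572 = N3690 := flp_e L36022
theorem L36026 : sm gd N6572 = N3692 := ded_22_1 L19806 L9993 L9985 L19797 L36022
theorem L36028 : sm gb N3691 = N6573 := rfl
theorem L36030 : sm gg N6573 = N3702 := ded_17_2 L19864 L19804 L36028
theorem L36031 : sm gg N3702 = N6573 := flp_g L36030
theorem L36032 : sm gc N6573 = N3711 := ded_13_2 L19912 L10107 L9995 L19801 L36028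
theorem L36054 : sm gd N3695 = N6579 := rfl
theorem L36056 : sm gb N6579 = N3696 := ded_14_1 L19826 L19819 L36054
theorem L36058 : sm gg N3695 = N6580 := rfl
theorem L36062 : sm gc N6580 = N3717 := ded_21_1 L19949 L19824 L36058
theorem L36063 : sm gc N3717 = N6580 := flp_c L36062
theorem L36064 : sm gc N3696 = N6581 := rfl
theorem L36065 : sm gc N6581 = N3696 := flp_c L36064
theorem L36066 : sm ga N6581 = N6451 := ded_8_1 L35291 L19828 L36064
theorem L36067 : sm ga N6451 = N6581 := flp_a L36066
theorem L36068 : sm ge N3696 = N6582 := rfl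
theorem L36069 : sm ge N6582 = N3696 := flp_e L36068
theorem L36070 : sm ga N6582 = N6452 := ded_10_1 L35293 L19828 L36068
theorem L36071 : sm ga N6452 = N6582 := flp_a L36070
theorem L36072 : sm gf N3696 = N6583 := rfl
theorem L36073 : sm gf N6583 = N3696 := flp_f L36072
theorem L36074 : sm ga N6583 = N6453 := ded_11_1 L35295 L19828 L36072
theorem L36078 : sm gg N3696 = N6584 := rfl
theorem L36079 : sm gg N6584 = N3696 := flp_g L36078
theorem L36080 : sm ga N6584 = N6454 := ded_12_1 L35297 L19828 L36078
theorem L36081 : sm ga N6454 = N6584 := flp_a L36080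
theorem L36086 : sm gc N3698 = N6586 := rfl
theorem L36088 : sm ga N6586 = N6460 := ded_8_1 L35325 L19838 L36086
theorem L36089 : sm ga N6460 = N6586 := flp_a L36088
theorem L36092 : sm ge N3698 = N6587 := rfl
theorem L36098 : sm gf N6587 = N6525 := ded_25_2 L35788 L20816 L36092
theorem L36099 : sm gf N6525 = N6587 := flp_f L36098
theorem L36100 : sm gg N6587 = N3700 := ded_26_2 L19848 L19842 L36092
theorem L36110 : sm ge N3699 = N6590 := rfl
theorem L36111 : sm ge N6590 = N3699 := flp_e L36110
theorem L36112 : sm ga N6590 = N6466 := ded_10_1 L35359 L19846 L36110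
theorem L36113 : sm ga N6466 = N6590 := flp_a L36112
theorem L36122 : sm gf N3700 = N6592 := rfl
theorem L36123 : sm gf N6592 = N3700 := flp_f L36122
theorem L36130 : sm gg N6592 = N3857 := ded_28_3 L35789 L36099 L36100 L36122
theorem L36131 : sm gg N3857 = N6592 := flp_g L36130
theorem L36146 : sm ge N3702 = N6595 := rfl
theorem L36147 : sm ge N6595 = N3702 := flp_e L36146
theorem L36150 : sm gb N6595 = N3704 := ded_15_1 L19870 L19863 L36146
theorem L36151 : sm gb N3704 = N6595 := flp_b L36150
theorem L36170 : sm gf N3704 = N6602 := rfl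
theorem L36171 : sm gf N6602 = N3704 := flp_f L36170
theorem L36174 : sm ge N6602 = N3705 := ded_25_1 L19874 L19869 L36170
theorem L36175 : sm ge N3705 = N6602 := flp_e L36174
theorem L36194 : sm gd N3709 = N6607 := rfl
theorem L36214 : sm ge N3711 = N6611 := rfl
theorem L36215 : sm ge N6611 = N3711 := flp_e L36214
theorem L36220 : sm gf N6611 = N6260 := ded_28_0 L34021 L20021 L19914 L36214
theorem L36221 : sm gf N6260 = N6611 := flp_f L36220
theorem L36224 : sm gf N3711 = N6612 := rfl
theorem L36228 : sm ge N6612 = N6260 := ded_25_1 L36221 L36215 L36224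
theorem L36242 : sm gd N3717 = N6615 := rfl
theorem L36244 : sm gb N6615 = N3718 := ded_14_1 L19953 L19951 L36242
theorem L36246 : sm ge N6615 = N4419 := ded_22_2 L24090 L24743 L35385 L35380 L36242
theorem L36248 : sm gf N4522 = N6615 := ded_16_0 L36244 L19960 L24773
theorem L36249 : sm gf N6615 = N4522 := flp_f L36248
theorem L36258 : sm gf N3720 = N6617 := rfl
theorem L36260 : sm ga N6617 = N6514 := ded_11_1 L35687 L35488 L36258
theorem L36316 : sm gg N3730 = N6625 := rfl
theorem L36317 : sm gg N6625 = N3730 := flp_g L36316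
theorem L36319 : sm gc N6625 = N3978 := ded_21_1 L27113 L27109 L36316
theorem L36321 : sm gf N3979 = N6625 := ded_28_0 L36317 L20028 L20030 L21574
theorem L36322 : sm gf N6625 = N3979 := flp_f L36321
theorem L36323 : sm gd N4975 = N6625 := ded_31_2 L36319 L27113 L27111 L14336 L7166 L7173 L7178 L7393 L14693 L14690 L7382 L14445 L14443 L14453 L27335
theorem L36324 : sm gd N6625 = N4975 := flp_d L36323
theorem L36325 : sm gf N3731 = N6626 := rfl
theorem L36330 : sm ge N6626 = N6625 := ded_25_1 L36322 L21575 L36325
theorem L36334 : sm gd N6626 = N3971 := ded_31_2 L21507 L21509 L21513 L20240 L10246 L10260 L10270 L10272 L14358 L14361 L14279 L14335 L14338 L20030 L36325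
theorem L36335 : sm gd N3971 = N6626 := flp_d L36334
theorem L36336 : sm gd N4974 = N4203 := ded_22_3 L22905 L36335 L36330 L36324 L27340
theorem L36338 : sm gf N3732 = N6627 := rfl
theorem L36341 : sm gc N6627 = N4916 := ded_20_1 L26934 L20037 L36338
theorem L36345 : sm gg N4209 = N6627 := ded_21_0 L36341 L35436 L35437
theorem L36346 : sm gg N6627 = N4209 := flp_g L36345
theorem L36347 : sm gg N3732 = N6628 := rfl
theorem L36348 : sm gg N6628 = N3732 := flp_g L36347
theorem L36352 : sm gf N4458 = N6628 := ded_28_0 L36348 L36338 L36346 L24360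
theorem L36353 : sm gf N6628 = N4458 := flp_f L36352
theorem L36367 : sm gf N3735 = N6630 := rfl
theorem L36374 : sm gg N6630 = N6483 := ded_28_3 L35508 L24440 L20056 L36367
theorem L36386 : sm gf N3736 = N6632 := rfl
theorem L36387 : sm gf N6632 = N3736 := flp_f L36386
theorem L36390 : sm gb N6632 = N3743 := ded_16_1 L20100 L20064 L36386
theorem L36391 : sm gb N3743 = N6632 := flp_b L36390
theorem L36418 : sm gf N3739 = N6637 := rfl
theorem L36419 : sm gf N6637 = N3739 := flp_f L36418
theorem L36425 : sm gg N6637 = N4047 := ded_28_3 L21995 L19211 L20079 L36418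
theorem L36427 : sm gf N3740 = N6638 := rfl
theorem L36428 : sm gf N6638 = N3740 := flp_f L36427
theorem L36434 : sm gg N6638 = N6426 := ded_28_3 L35081 L22013 L22015 L36427
theorem L36435 : sm gg N6426 = N6638 := flp_g L36434
theorem L36446 : sm gg N3744 = N6640 := rfl
theorem L36447 : sm gg N6640 = N3744 := flp_g L36446
theorem L36452 : sm ge N6640 = N6277 := ded_26_1 L34142 L20112 L36446
theorem L36454 : sm gf N5033 = N6640 := ded_28_0 L36447 L27713 L35104 L35099
theorem L36455 : sm gf N6640 = N5033 := flp_f L36454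
theorem L36458 : sm ge N3745 = N6642 := rfl
theorem L36459 : sm ge N6642 = N3745 := flp_e L36458
theorem L36460 : sm gb N6642 = N3749 := ded_15_1 L20136 L20117 L36458
theorem L36462 : sm gd N6642 = N5001 := ded_22_1 L27561 L27565 L20119 L20114 L36458
theorem L36463 : sm gd N5001 = N6642 := flp_d L36462
theorem L36464 : sm gg N5002 = N6642 := ded_17_0 L36460 L20143 L27507
theorem L36465 : sm gg N6642 = N5002 := flp_g L36464
theorem L36466 : sm gg N3745 = N6643 := rfl
theorem L36467 : sm gg N6643 = N3745 := flp_g L36466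
theorem L36470 : sm ge N6643 = N5002 := ded_26_1 L36464 L36459 L36466
theorem L36471 : sm ge N5002 = N6643 := flp_e L36470
theorem L36474 : sm gd N3747 = N6644 := rfl
theorem L36476 : sm gb N6644 = N3752 := ded_14_1 L20157 L20127 L36474
theorem L36478 : sm gf N6644 = N4383 := ded_23_2 L23839 L13997 L26756 L26761 L36474
theorem L36479 : sm gf N4383 = N6644 := flp_f L36478
theorem L36480 : sm ge N4384 = N6644 := ded_15_0 L36476 L20162 L23844
theorem L36481 : sm ge N6644 = N4384 := flp_e L36480
theorem L36488 : sm gf N3748 = N6646 := rfl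
theorem L36489 : sm gf N6646 = N3748 := flp_f L36488
theorem L36491 : sm gc N6646 = N3750 := ded_20_1 L20145 L20128 L36488
theorem L36492 : sm gc N3750 = N6646 := flp_c L36491
theorem L36493 : sm ge N6646 = N4423 := ded_25_1 L24121 L20134 L36488
theorem L36494 : sm ge N4423 = N6646 := flp_e L36493
theorem L36497 : sm gg N3748 = N6647 := rfl
theorem L36498 : sm gg N6647 = N3748 := flp_g L36497
theorem L36502 : sm ge N6647 = N4987 := ded_26_1 L27409 L20134 L36497
theorem L36504 : sm gf N6647 = N4900 := ded_28_2 L26802 L36494 L36489 L36497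
theorem L36505 : sm gf N4900 = N6647 := flp_f L36504
theorem L36506 : sm gb N3753 = N6648 := rfl
theorem L36507 : sm gb N6648 = N3753 := flp_b L36506
theorem L36510 : sm gc N6648 = N3764 := ded_13_2 L20231 L10251 L10226 L20163 L36506
theorem L36511 : sm gc N3764 = N6648 := flp_c L36510
theorem L36516 : sm ge N3753 = N6650 := rfl
theorem L36517 : sm ge N6650 = N3753 := flp_e L36516
theorem L36518 : sm ga N6650 = N3758 := ded_10_1 L20194 L20166 L36516
theorem L36520 : sm gc N6650 = N3754 := ded_19_1 L20170 L20163 L36516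
theorem L36530 : sm ga N3756 = N6652 := rfl
theorem L36531 : sm ga N6652 = N3756 := flp_a L36530
theorem L36534 : sm gb N6652 = N6650 := ded_29_4 L36520 L20171 L10233 L10247 L10244 L5034 L10239 L20190 L36530
theorem L36536 : sm ge N6648 = N6652 := ded_29_9 L36531 L20188 L10230 L10224 L10225 L10252 L10250 L20232 L36511
theorem L36542 : sm ge N3756 = N6654 := rfl
theorem L36544 : sm ga N6654 = N6648 := ded_10_1 L36536 L36531 L36542
theorem L36545 : sm ga N6648 = N6654 := flp_a L36544
theorem L36546 : sm gb N6654 = N3758 := ded_15_1 L20194 L20187 L36542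
theorem L36547 : sm gb N3758 = N6654 := flp_b L36546
theorem L36552 : sm gc N3757 = N6655 := rfl
theorem L36553 : sm gc N6655 = N3757 := flp_c L36552
theorem L36554 : sm gd N5158 = N6655 := ded_30_1 L36553 L20192 L10230 L5029 L4296 L8690 L15187 L28269 L28271 L28435
theorem L36555 : sm gd N6655 = N5158 := flp_d L36554
theorem L36574 : sm gf N3759 = N6662 := rfl
theorem L36575 : sm gf N6662 = N3759 := flp_f L36574
theorem L36582 : sm gg N6662 = N6650 := ded_28_3 L36517 L20167 L20197 L36574
theorem L36583 : sm gg N6650 = N6662 := flp_g L36582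
theorem L36626 : sm gc N3770 = N6668 := rfl
theorem L36627 : sm gc N6668 = N3770 := flp_c L36626
theorem L36628 : sm ga N6668 = N6668 := ded_8_1 L36627 L20293 L36626
theorem L36629 : sm gd N5056 = N6668 := ded_30_9 L36628 L36627 L20292 L10282 L5049 L2562 L3762 L7489 L14868 L27852
theorem L36651 : sm gd N3772 = N6671 := rfl
theorem L36652 : sm gd N6671 = N3772 := flp_d L36651
theorem L36653 : sm gb N6671 = N3773 := ded_14_1 L20308 L20303 L36651
theorem L36654 : sm gb N3773 = N6671 := flp_b L36653
theorem L36667 : sm gc N3773 = N6674 := rfl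
theorem L36668 : sm gc N6674 = N3773 := flp_c L36667
theorem L36669 : sm ga N6674 = N3789 := ded_8_1 L20424 L20310 L36667
theorem L36670 : sm ga N3789 = N6674 := flp_a L36669
theorem L36673 : sm ge N3773 = N6675 := rfl
theorem L36674 : sm ge N6675 = N3773 := flp_e L36673
theorem L36675 : sm ga N6675 = N3790 := ded_10_1 L20426 L20310 L36673
theorem L36676 : sm ga N3790 = N6675 := flp_a L36675
theorem L36685 : sm gd N3774 = N6678 := rfl
theorem L36686 : sm gd N6678 = N3774 := flp_d L36685
theorem L36687 : sm ga N6678 = N3793 := ded_9_1 L20432 L20314 L36685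
theorem L36689 : sm gf N3774 = N6679 := rfl
theorem L36690 : sm gf N6679 = N3774 := flp_f L36689
theorem L36693 : sm gc N6679 = N3777 := ded_20_1 L20330 L20316 L36689
theorem L36694 : sm gc N3777 = N6679 := flp_c L36693
theorem L36731 : sm gd N3777 = N6685 := rfl
theorem L36732 : sm gd N6685 = N3777 := flp_d L36731
theorem L36737 : sm gf N6685 = N6505 := ded_23_2 L35635 L19478 L10306 L20329 L36731
theorem L36741 : sm gd N3778 = N6686 := rfl
theorem L36742 : sm gd N6686 = N3778 := flp_d L36741
theorem L36745 : sm gb N6686 = N6521 := ded_14_1 L35747 L20342 L36741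
theorem L36746 : sm gb N6521 = N6686 := flp_b L36745
theorem L36763 : sm gb N3782 = N6689 := rfl
theorem L36765 : sm gg N6689 = N3819 := ded_17_2 L20588 L20380 L36763
theorem L36767 : sm gc N6689 = N3862 := ded_13_2 L20837 L10579 L10324 L20375 L36763
theorem L36768 : sm gc N3862 = N6689 := flp_c L36767
theorem L36773 : sm ge N3782 = N6691 := rfl
theorem L36777 : sm gc N6691 = N3783 := ded_19_1 L20382 L20375 L36773
theorem L36781 : sm gd N3784 = N6692 := rfl
theorem L36783 : sm ga N6692 = N3785 := ded_9_1 L20400 L20391 L36781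
theorem L36785 : sm gb N6692 = N6678 := ded_14_1 L36686 L20396 L36781
theorem L36786 : sm gb N6678 = N6692 := flp_b L36785
theorem L36787 : sm gf N3784 = N6693 := rfl
theorem L36788 : sm gf N6693 = N3784 := flp_f L36787
theorem L36791 : sm gb N6693 = N6679 := ded_16_1 L36690 L20396 L36787
theorem L36792 : sm gb N6679 = N6693 := flp_b L36791
theorem L36809 : sm ge N3785 = N6696 := rfl
theorem L36811 : sm gb N6696 = N3790 := ded_15_1 L20426 L20402 L36809
theorem L36821 : sm gd N3786 = N6699 := rfl
theorem L36822 : sm gd N6699 = N3786 := flp_d L36821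
theorem L36823 : sm ga N6699 = N6671 := ded_9_1 L36652 L20406 L36821
theorem L36825 : sm gb N6699 = N3793 := ded_14_1 L20432 L20408 L36821
theorem L36826 : sm gb N3793 = N6699 := flp_b L36825
theorem L36837 : sm gg N3786 = N6701 := rfl
theorem L36843 : sm gc N6701 = N3826 := ded_21_1 L20618 L20410 L36837
theorem L36844 : sm gc N3826 = N6701 := flp_c L36843
theorem L36845 : sm ge N6701 = N3788 := ded_26_1 L20418 L20403 L36837
theorem L36846 : sm ge N3788 = N6701 := flp_e L36845
theorem L36851 : sm gg N3787 = N6703 := rfl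
theorem L36852 : sm gg N6703 = N3787 := flp_g L36851
theorem L36853 : sm gb N6703 = N3797 := ded_17_1 L20448 L20414 L36851
theorem L36857 : sm gf N6701 = N6703 := ded_28_0 L36852 L20412 L20417 L36846
theorem L36875 : sm gd N3789 = N6707 := rfl
theorem L36876 : sm gd N6707 = N3789 := flp_d L36875
theorem L36879 : sm gc N6074 = N6707 := ded_30_0 L36876 L20424 L10332 L5068 L2575 L2241 L4329 L8740 L17621 L33080
theorem L36880 : sm gc N6707 = N6074 := flp_c L36879
theorem L36885 : sm gf N3789 = N6709 := rfl
theorem L36886 : sm gf N6709 = N3789 := flp_f L36885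
theorem L36887 : sm gc N6709 = N3791 := ded_20_1 L20428 L20423 L36885
theorem L36888 : sm gc N3791 = N6709 := flp_c L36887
theorem L36901 : sm gg N3790 = N6713 := rfl
theorem L36903 : sm ge N6713 = N3792 := ded_26_1 L20430 L20425 L36901
theorem L36904 : sm ge N3792 = N6713 := flp_e L36903
theorem L36909 : sm gg N3791 = N6715 := rfl
theorem L36910 : sm gg N6715 = N3791 := flp_g L36909
theorem L36911 : sm gf N6713 = N6715 := ded_28_0 L36910 L20428 L20429 L36904
theorem L36913 : sm gd N3792 = N6716 := rfl
theorem L36914 : sm gd N6716 = N3792 := flp_d L36913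
theorem L36915 : sm gg N6716 = N3798 := ded_24_2 L20454 L10342 L10331 L20429 L36913
theorem L36916 : sm gg N3798 = N6716 := flp_g L36915
theorem L36949 : sm gd N3800 = N6731 := rfl
theorem L36950 : sm gd N6731 = N3800 := flp_d L36949
theorem L36961 : sm gg N3800 = N6733 := rfl
theorem L36963 : sm ga N6733 = N6500 := ded_12_1 L35609 L20466 L36961
theorem L37019 : sm gg N3805 = N6743 := rfl
theorem L37020 : sm gg N6743 = N3805 := flp_g L37019
theorem L37027 : sm gf N6691 = N6743 := ded_28_0 L37020 L20495 L20380 L36773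
theorem L37028 : sm gf N6743 = N6691 := flp_f L37027
theorem L37029 : sm gd N3807 = N6744 := rfl
theorem L37035 : sm ge N6744 = N6685 := ded_22_2 L36732 L20335 L20345 L20512 L37029
theorem L37037 : sm gg N6744 = N3808 := ded_24_2 L20516 L10372 L10365 L20505 L37029
theorem L37038 : sm gg N3808 = N6744 := flp_g L37037
theorem L37041 : sm gf N3808 = N6746 := rfl
theorem L37042 : sm gf N6746 = N3808 := flp_f L37041
theorem L37043 : sm gb N6746 = N3849 := ded_16_1 L20765 L20518 L37041
theorem L37044 : sm gb N3849 = N6746 := flp_b L37043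
theorem L37045 : sm gg N6505 = N6746 := ded_28_1 L37042 L37038 L37035 L36737
theorem L37046 : sm gg N6746 = N6505 := flp_g L37045
theorem L37049 : sm gd N3809 = N6747 := rfl
theorem L37051 : sm gb N6747 = N3810 := ded_14_1 L20524 L20519 L37049
theorem L37053 : sm gf N3809 = N6748 := rfl
theorem L37054 : sm gf N6748 = N3809 := flp_f L37053
theorem L37057 : sm gc N6748 = N3851 := ded_20_1 L20774 L20522 L37053
theorem L37059 : sm gg N6429 = N6748 := ded_21_0 L37057 L20778 L35107
theorem L37079 : sm gg N3810 = N6753 := rfl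
theorem L37081 : sm ga N6753 = N6497 := ded_12_1 L35599 L20526 L37079
theorem L37161 : sm ga N3819 = N6765 := rfl
theorem L37162 : sm ga N6765 = N3819 := flp_a L37161
theorem L37165 : sm gb N6765 = N6691 := ded_29_4 L36777 L20383 L10413 L10575 L10572 L5174 L10566 L20590 L37161
theorem L37166 : sm gb N6691 = N6765 := flp_b L37165
theorem L37167 : sm ge N6689 = N6765 := ded_29_9 L37162 L20588 L10410 L10322 L10323 L10580 L10578 L20838 L36768
theorem L37168 : sm ge N6765 = N6689 := flp_e L37167
theorem L37173 : sm ge N3819 = N6767 := rfl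
theorem L37179 : sm gc N6767 = N3861 := ded_19_1 L20832 L20590 L37173
theorem L37181 : sm gg N6767 = N6765 := ded_26_2 L37168 L36765 L37173
theorem L37182 : sm gg N6765 = N6767 := flp_g L37181
theorem L37215 : sm gc N3824 = N6775 := rfl
theorem L37216 : sm gc N6775 = N3824 := flp_c L37215
theorem L37282 : sm ge N3839 = N6784 := rfl
theorem L37283 : sm ge N6784 = N3839 := flp_e L37282
theorem L37289 : sm gg N4920 = N6784 := ded_28_3 L37283 L20720 L14117 L26961
theorem L37293 : sm gg N3839 = N6785 := rfl
theorem L37298 : sm ge N6785 = N4920 := ded_26_1 L37289 L37283 L37293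
theorem L37304 : sm ge N3841 = N6787 := rfl
theorem L37309 : sm gf N6787 = N4441 := ded_25_2 L24242 L22808 L37304
theorem L37311 : sm gg N6787 = N6478 := ded_26_2 L35464 L26952 L37304
theorem L37312 : sm gg N6478 = N6787 := flp_g L37311
theorem L37325 : sm gc N3847 = N6789 := rfl
theorem L37330 : sm gf N6789 = N4209 := ded_20_2 L35438 L35433 L37325
theorem L37331 : sm gf N4209 = N6789 := flp_f L37330
theorem L37332 : sm gg N6789 = N3848 := ded_21_2 L20758 L20756 L37325
theorem L37342 : sm gf N3848 = N6791 := rfl
theorem L37345 : sm gc N6791 = N3849 := ded_20_1 L20765 L20757 L37342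
theorem L37349 : sm gg N6791 = N4458 := ded_28_3 L24359 L37331 L37332 L37342
theorem L37350 : sm gg N4458 = N6791 := flp_g L37349
theorem L37351 : sm gc N3850 = N6792 := rfl
theorem L37352 : sm gc N6792 = N3850 := flp_c L37351
theorem L37408 : sm gf N3860 = N6800 := rfl
theorem L37410 : sm gb N6800 = N3865 := ded_16_1 L20856 L20830 L37408
theorem L37418 : sm ge N3863 = N6802 := rfl
theorem L37419 : sm ge N6802 = N3863 := flp_e L37418
theorem L37421 : sm gc N6802 = N3864 := ded_19_1 L20853 L20847 L37418
theorem L37422 : sm gc N3864 = N6802 := flp_c L37421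
theorem L37439 : sm gf N3864 = N6804 := rfl
theorem L37440 : sm gf N6804 = N3864 := flp_f L37439
theorem L37444 : sm ge N6804 = N3865 := ded_25_1 L20856 L20852 L37439
theorem L37445 : sm ge N3865 = N6804 := flp_e L37444
theorem L37459 : sm gf N3868 = N6807 := rfl
theorem L37465 : sm gg N6807 = N6572 := ded_28_3 L36023 L27008 L27010 L37459
theorem L37530 : sm gd N3879 = N6816 := rfl
theorem L37531 : sm gd N6816 = N3879 := flp_d L37530
theorem L37532 : sm gb N6816 = N3880 := ded_14_1 L20966 L20961 L37530
theorem L37533 : sm gb N3880 = N6816 := flp_b L37532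
theorem L37534 : sm ge N3879 = N6817 := rfl
theorem L37538 : sm gb N6817 = N3881 := ded_15_1 L20968 L20961 L37534
theorem L37539 : sm gb N3881 = N6817 := flp_b L37538
theorem L37540 : sm gc N6817 = N3886 := ded_19_1 L21009 L20964 L37534
theorem L37541 : sm gc N3886 = N6817 := flp_c L37540
theorem L37560 : sm gf N3881 = N6824 := rfl
theorem L37562 : sm ga N6824 = N4795 := ded_11_1 L26238 L26169 L37560
theorem L37572 : sm gg N3882 = N6826 := rfl
theorem L37573 : sm gg N6826 = N3882 := flp_g L37572
theorem L37576 : sm gc N6826 = N3884 := ded_21_1 L20988 L20974 L37572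
theorem L37577 : sm gc N3884 = N6826 := flp_c L37576
theorem L37580 : sm gf N4582 = N6826 := ded_28_0 L37573 L20972 L13239 L25116
theorem L37581 : sm gf N6826 = N4582 := flp_f L37580
theorem L37590 : sm gf N3888 = N6828 := rfl
theorem L37591 : sm gf N6828 = N3888 := flp_f L37590
theorem L37597 : sm gg N6828 = N4203 := ded_28_3 L22905 L35732 L35733 L37590
theorem L37598 : sm gg N4203 = N6828 := flp_g L37597
theorem L37607 : sm gg N3891 = N6830 := rfl
theorem L37609 : sm ga N6830 = N3893 := ded_12_1 L21064 L21049 L37607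
theorem L37613 : sm gc N6830 = N3910 := ded_21_1 L21152 L21052 L37607
theorem L37620 : sm ge N3892 = N6832 := rfl
theorem L37622 : sm gb N6832 = N3895 := ded_15_1 L21075 L21062 L37620
theorem L37623 : sm gb N3895 = N6832 := flp_b L37622
theorem L37624 : sm gf N3892 = N6833 := rfl
theorem L37625 : sm gf N6833 = N3892 := flp_f L37624
theorem L37626 : sm gb N6833 = N3896 := ded_16_1 L21078 L21062 L37624
theorem L37627 : sm gb N3896 = N6833 := flp_b L37626
theorem L37639 : sm ge N3894 = N6837 := rfl
theorem L37640 : sm ge N6837 = N3894 := flp_e L37639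
theorem L37642 : sm gc N6837 = N3895 := ded_19_1 L21075 L21070 L37639
theorem L37643 : sm gc N3895 = N6837 := flp_c L37642
theorem L37649 : sm gg N3894 = N6839 := rfl
theorem L37652 : sm gc N6839 = N3897 := ded_21_1 L21081 L21070 L37649
theorem L37653 : sm gc N3897 = N6839 := flp_c L37652
theorem L37654 : sm gd N3895 = N6840 := rfl
theorem L37657 : sm ge N6840 = N3898 := ded_22_2 L21084 L10735 L10731 L21074 L37654
theorem L37659 : sm gf N3895 = N6841 := rfl
theorem L37662 : sm ge N6841 = N3896 := ded_25_1 L21078 L21074 L37659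
theorem L37669 : sm gd N3896 = N6843 := rfl
theorem L37672 : sm gf N6843 = N3898 := ded_23_2 L21084 L10740 L10731 L21077 L37669
theorem L37679 : sm gd N3897 = N6845 := rfl
theorem L37680 : sm gd N6845 = N3897 := flp_d L37679
theorem L37682 : sm gg N6845 = N3900 := ded_24_2 L21095 L10742 L10731 L21080 L37679
theorem L37683 : sm gg N3900 = N6845 := flp_g L37682
theorem L37684 : sm gf N3897 = N6846 := rfl
theorem L37689 : sm gg N6846 = N6841 := ded_28_3 L37662 L21078 L21080 L37684
theorem L37700 : sm gc N3900 = N6850 := rfl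
theorem L37701 : sm gc N6850 = N3900 := flp_c L37700
theorem L37702 : sm ga N6850 = N6850 := ded_8_1 L37701 L21096 L37700
theorem L37703 : sm ge N3900 = N6851 := rfl
theorem L37704 : sm ge N6851 = N3900 := flp_e L37703
theorem L37705 : sm ga N6851 = N6851 := ded_10_1 L37704 L21096 L37703
theorem L37706 : sm gf N3900 = N6852 := rfl
theorem L37707 : sm gf N6852 = N3900 := flp_f L37706
theorem L37708 : sm ga N6852 = N6852 := ded_11_1 L37707 L21096 L37706
theorem L37709 : sm gd N6852 = N6852 := ded_23_1 L37707 L21095 L10746 L21094 L37706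
theorem L37714 : sm ge N3901 = N6854 := rfl
theorem L37715 : sm ge N6854 = N3901 := flp_e L37714
theorem L37716 : sm ga N6854 = N6854 := ded_10_1 L37715 L21099 L37714
theorem L37717 : sm gb N6854 = N3915 := ded_15_1 L21189 L21101 L37714
theorem L37718 : sm gb N3915 = N6854 := flp_b L37717
theorem L37719 : sm gg N6854 = N6854 := ded_26_2 L37715 L21102 L37714
theorem L37848 : sm gf N3914 = N6875 := rfl
theorem L37851 : sm gc N6875 = N3916 := ded_20_1 L21195 L21184 L37848
theorem L37853 : sm gf N3915 = N6876 := rfl
theorem L37854 : sm gf N6876 = N3915 := flp_f L37853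
theorem L37856 : sm ge N6876 = N3916 := ded_25_1 L21195 L21188 L37853
theorem L37857 : sm ge N3916 = N6876 := flp_e L37856
theorem L37994 : sm gd N3931 = N6898 := rfl
theorem L37996 : sm ga N6898 = N3956 := ded_9_1 L21428 L21298 L37994
theorem L38225 : sm ge N3952 = N6947 := rfl
theorem L38226 : sm ge N6947 = N3952 := flp_e L38225
theorem L38231 : sm gf N6947 = N3959 := ded_25_2 L21439 L21404 L38225
theorem L38232 : sm gf N3959 = N6947 := flp_f L38231
theorem L38233 : sm gg N6315 = N6947 := ded_28_3 L38226 L21403 L21442 L34366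
theorem L38234 : sm gg N6947 = N6315 := flp_g L38233
theorem L38235 : sm gg N3952 = N6948 := rfl
theorem L38236 : sm gg N6948 = N3952 := flp_g L38235
theorem L38241 : sm ge N6948 = N6315 := ded_26_1 L38233 L38226 L38235
theorem L38242 : sm ge N6315 = N6948 := flp_e L38241
theorem L38251 : sm gc N3956 = N6950 := rfl
theorem L38252 : sm gc N6950 = N3956 := flp_c L38251
theorem L38286 : sm gg N3959 = N6959 := rfl
theorem L38287 : sm gg N6959 = N3959 := flp_g L38286
theorem L38288 : sm gc N6959 = N3961 := ded_21_1 L21447 L21441 L38286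
theorem L38289 : sm gc N3961 = N6959 := flp_c L38288
theorem L38292 : sm gf N6948 = N6959 := ded_28_0 L38287 L38232 L38234 L38242
theorem L38293 : sm gf N6959 = N6948 := flp_f L38292
theorem L38340 : sm gc N3964 = N6966 := rfl
theorem L38341 : sm gc N6966 = N3964 := flp_c L38340
theorem L38342 : sm gg N6966 = N6792 := ded_21_2 L37352 L21466 L38340
theorem L38344 : sm gb N6966 = N6775 := ded_13_1 L37216 L20607 L11522 L21465 L38340
theorem L38345 : sm gb N6775 = N6966 := flp_b L38344
theorem L38423 : sm gc N3984 = N6977 := rfl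
theorem L38425 : sm ga N6977 = N6966 := ded_8_1 L38341 L21607 L38423
theorem L38426 : sm ga N6966 = N6977 := flp_a L38425
theorem L38427 : sm ge N6977 = N6792 := ded_19_2 L37352 L21611 L38423
theorem L38428 : sm ge N6792 = N6977 := flp_e L38427
theorem L38450 : sm gg N3992 = N6980 := rfl
theorem L38452 : sm ga N6980 = N4434 := ded_12_1 L24210 L21722 L38450
theorem L38456 : sm ge N6980 = N6302 := ded_26_1 L34307 L21713 L38450
theorem L38457 : sm ge N6302 = N6980 := flp_e L38456
theorem L38460 : sm gd N4471 = N6980 := ded_9_0 L38452 L24212 L24459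
theorem L38461 : sm gd N6980 = N4471 := flp_d L38460
theorem L38462 : sm gd N3995 = N6981 := rfl
theorem L38463 : sm gd N6981 = N3995 := flp_d L38462
theorem L38465 : sm ge N6981 = N4001 := ded_22_2 L21734 L11129 L11109 L21694 L38462
theorem L38466 : sm ge N4001 = N6981 := flp_e L38465
theorem L38495 : sm gf N4002 = N6986 := rfl
theorem L38496 : sm gf N6986 = N4002 := flp_f L38495
theorem L38499 : sm gc N6986 = N4059 := ded_20_1 L22072 L21741 L38495
theorem L38609 : sm gf N4012 = N7003 := rfl
theorem L38611 : sm ga N7003 = N4015 := ded_11_1 L21829 L21808 L38609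
theorem L38639 : sm gf N4014 = N7009 := rfl
theorem L38641 : sm ga N7009 = N6986 := ded_11_1 L38496 L21823 L38639
theorem L38643 : sm gb N7009 = N4021 := ded_16_1 L21845 L21825 L38639
theorem L38644 : sm gb N4021 = N7009 := flp_b L38643
theorem L38645 : sm gc N7009 = N4038 := ded_20_1 L21935 L21827 L38639
theorem L38651 : sm gd N4015 = N7009 := ded_31_2 L38645 L21941 L18572 L9248 L8423 L16831 L31557 L31566 L22744 L11746 L9256 L9247 L18559 L18561 L21828
theorem L38653 : sm gd N6986 = N7003 := ded_9_2 L38611 L38651 L38641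
theorem L38654 : sm gd N7003 = N6986 := flp_d L38653
theorem L38655 : N4021 = N4023 := coi_14_2 L21857 L21831 L38651 L38643
theorem L38656 : N4023 = N4021 := (eqc rfl L38655 rfl).symm
theorem L38660 : sm gd N4021 = N2141 := trfs L38656 L21857 rfl
theorem L38722 : sm gd N4019 = N7018 := rfl
theorem L38724 : sm gg N7018 = N4025 := ded_24_2 L21865 L11183 L11172 L21840 L38722
theorem L38757 : sm gf N4028 = N7029 := rfl
theorem L38758 : sm gf N7029 = N4028 := flp_f L38757
theorem L38759 : sm gb N7029 = N4052 := ded_16_1 L22030 L21881 L38757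
theorem L38760 : sm gb N4052 = N7029 := flp_b L38759
theorem L38761 : sm ge N7029 = N7029 := ded_25_1 L38758 L21882 L38757
theorem L38780 : sm gf N4030 = N7033 := rfl
theorem L38782 : sm ga N7033 = N6412 := ded_11_1 L34988 L21894 L38780
theorem L38783 : sm ga N6412 = N7033 := flp_a L38782
theorem L38786 : sm gd N7033 = N7029 := ded_23_1 L38758 L21879 L11212 L21891 L38780
theorem L38787 : sm gd N7029 = N7033 := flp_d L38786
theorem L38788 : sm gc N4031 = N7034 := rfl
theorem L38791 : sm gb N7034 = N6950 := ded_13_1 L38252 L21429 L20284 L21902 L38788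
theorem L38792 : sm gb N6950 = N7034 := flp_b L38791
theorem L38849 : sm gg N4042 = N7044 := rfl
theorem L38850 : sm gg N7044 = N4042 := flp_g L38849
theorem L38854 : sm gf N4135 = N7044 := ded_28_0 L38850 L22874 L22868 L22510
theorem L38862 : sm gg N4043 = N7046 := rfl
theorem L38863 : sm gg N7046 = N4043 := flp_g L38862
theorem L38869 : sm gf N4208 = N7046 := ded_28_0 L38863 L21967 L27228 L27233
theorem L38871 : sm gc N4048 = N7047 := rfl
theorem L38872 : sm gc N7047 = N4048 := flp_c L38871
theorem L38873 : sm ga N7047 = N7047 := ded_8_1 L38872 L22003 L38871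
theorem L38875 : sm gg N7047 = N4051 := ded_21_2 L22026 L22006 L38871
theorem L38876 : sm gg N4051 = N7047 := flp_g L38875
theorem L38877 : sm gd N6445 = N7047 := ded_30_9 L38873 L38872 L22002 L19092 L19084 L9539 L4761 L9638 L19198 L35244
theorem L38878 : sm gd N7047 = N6445 := flp_d L38877
theorem L38909 : sm gf N4053 = N7053 := rfl
theorem L38912 : sm gc N7053 = N4055 := ded_20_1 L22040 L22033 L38909
theorem L38913 : sm gc N4055 = N7053 := flp_c L38912
theorem L38914 : sm gg N5024 = N7053 := ded_21_0 L38912 L35045 L35047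
theorem L38915 : sm gg N7053 = N5024 := flp_g L38914
theorem L38916 : sm gf N4054 = N7054 := rfl
theorem L38919 : sm ge N7054 = N4055 := ded_25_1 L22040 L22036 L38916
theorem L38921 : sm gg N7054 = N6446 := ded_28_3 L35254 L35241 L35242 L38916
theorem L38924 : sm gc N6607 = N7054 := ded_31_15 L38921 L35250 L19199 L9637 L9650 L9657 L9908 L11116 L11118 L9902 L10601 L20900 L27048 L27045 L36194
theorem L38925 : sm gc N7054 = N6607 := flp_c L38924
theorem L38926 : sm ge N7053 = N6607 := ded_19_0 L38924 L38919 L38913
theorem L38950 : sm gg N4064 = N7058 := rfl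
theorem L38955 : sm gd N7058 = N6637 := ded_24_1 L36425 L21993 L11331 L22110 L38950
theorem L38961 : sm gf N4065 = N7060 := rfl
theorem L38963 : sm ga N7060 = N4419 := ded_11_1 L24092 L22117 L38961
theorem L38969 : sm gd N7060 = N4511 := ded_23_1 L24702 L12958 L11352 L22114 L38961
theorem L39057 : sm gc N4074 = N7077 := rfl
theorem L39058 : sm gc N7077 = N4074 := flp_c L39057
theorem L39059 : sm ga N7077 = N4095 := ded_8_1 L22275 L22175 L39057
theorem L39060 : sm ga N4095 = N7077 := flp_a L39059
theorem L39113 : sm gb N4078 = N7088 := rfl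
theorem L39114 : sm gb N7088 = N4078 := flp_b L39113
theorem L39115 : sm gc N7088 = N4085 := ded_13_2 L22235 L11414 L11396 L22198 L39113
theorem L39116 : sm gc N4085 = N7088 := flp_c L39115
theorem L39119 : sm ge N4078 = N7090 := rfl
theorem L39121 : sm gc N7090 = N4079 := ded_19_1 L22201 L22198 L39119
theorem L39131 : sm gd N4079 = N7093 := rfl
theorem L39137 : sm ge N7093 = N4082 := ded_22_2 L22213 L11398 L11393 L22200 L39131
theorem L39183 : sm gg N4082 = N7101 := rfl
theorem L39187 : sm gb N7101 = N4097 := ded_17_1 L22279 L22217 L39183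
theorem L39207 : sm ge N4085 = N7107 := rfl
theorem L39208 : sm ge N7107 = N4085 := flp_e L39207
theorem L39209 : sm gb N7107 = N4086 := ded_15_1 L22237 L22234 L39207
theorem L39210 : sm gb N4086 = N7107 := flp_b L39209
theorem L39227 : sm gg N4086 = N7112 := rfl
theorem L39228 : sm gg N7112 = N4086 := flp_g L39227
theorem L39231 : sm ge N7112 = N4088 := ded_26_1 L22245 L22236 L39227
theorem L39232 : sm ge N4088 = N7112 := flp_e L39231
theorem L39235 : sm gg N4087 = N7114 := rfl
theorem L39236 : sm gg N7114 = N4087 := flp_g L39235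
theorem L39237 : sm gc N7114 = N4092 := ded_21_1 L22261 L22243 L39235
theorem L39238 : sm gc N4092 = N7114 := flp_c L39237
theorem L39239 : sm gf N7112 = N7114 := ded_28_0 L39236 L22241 L22244 L39232
theorem L39240 : sm gf N7114 = N7112 := flp_f L39239
theorem L39257 : sm gf N4089 = N7118 := rfl
theorem L39259 : sm ge N7118 = N4096 := ded_25_1 L22277 L22251 L39257
theorem L39271 : sm gc N4093 = N7123 := rfl
theorem L39273 : sm gg N7123 = N4099 := ded_21_2 L22283 L22267 L39271
theorem L39274 : sm gg N4099 = N7123 := flp_g L39273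
theorem L39277 : sm ge N7123 = N4341 := ded_28_4 L23636 L23639 L23644 L39274
theorem L39278 : sm ge N4341 = N7123 := flp_e L39277
theorem L39279 : sm ge N4093 = N7124 := rfl
theorem L39280 : sm ge N7124 = N4093 := flp_e L39279
theorem L39285 : sm gf N7124 = N4339 := ded_28_0 L23631 L22287 L22267 L39279
theorem L39286 : sm gf N4339 = N7124 := flp_f L39285
theorem L39287 : sm gf N4093 = N7125 := rfl
theorem L39288 : sm gf N7125 = N4093 := flp_f L39287
theorem L39291 : sm ge N7125 = N4339 := ded_25_1 L39286 L39280 L39287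
theorem L39292 : sm ge N4339 = N7125 := flp_e L39291
theorem L39304 : sm gf N4095 = N7129 := rfl
theorem L39305 : sm gf N7129 = N4095 := flp_f L39304
theorem L39306 : sm gc N7129 = N4096 := ded_20_1 L22277 L22274 L39304
theorem L39307 : sm gc N4096 = N7129 := flp_c L39306
theorem L39320 : sm gf N4097 = N7133 := rfl
theorem L39324 : sm gg N7133 = N7118 := ded_28_3 L39259 L22277 L22278 L39320
theorem L39340 : sm ge N4099 = N7139 := rfl
theorem L39341 : sm ge N7139 = N4099 := flp_e L39340
theorem L39344 : sm gg N7139 = N4341 := ded_26_2 L39278 L39273 L39340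
theorem L39345 : sm gg N4341 = N7139 := flp_g L39344
theorem L39374 : sm gb N4103 = N7145 := rfl
theorem L39375 : sm gb N7145 = N4103 := flp_b L39374
theorem L39382 : sm gb N4104 = N7147 := rfl
theorem L39384 : sm gf N7147 = N4349 := ded_16_2 L23678 L22301 L39382
theorem L39386 : sm gg N7147 = N7145 := ded_17_2 L39375 L22303 L39382
theorem L39387 : sm gg N7145 = N7147 := flp_g L39386
theorem L39457 : sm gf N4112 = N7159 := rfl
theorem L39463 : sm ge N7159 = N4167 := ded_25_1 L22691 L22349 L39457
theorem L39478 : sm gb N4121 = N7161 := rfl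
theorem L39480 : sm gc N7161 = N4136 := ded_13_2 L22514 L11629 L11569 L22421 L39478
theorem L39484 : sm ge N4510 = N7161 := ded_19_0 L39480 L22517 L24697
theorem L39485 : sm ge N7161 = N4510 := flp_e L39484
theorem L39486 : sm gd N4121 = N7162 := rfl
theorem L39487 : sm gd N7162 = N4121 := flp_d L39486
theorem L39488 : sm ga N7162 = N4124 := ded_9_1 L22442 L22424 L39486
theorem L39489 : sm ga N4124 = N7162 := flp_a L39488
theorem L39490 : sm ge N4121 = N7163 := rfl
theorem L39492 : sm ga N7163 = N4125 := ded_10_1 L22444 L22424 L39490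
theorem L39493 : sm ga N4125 = N7163 := flp_a L39492
theorem L39498 : sm gf N4121 = N7164 := rfl
theorem L39499 : sm gf N7164 = N4121 := flp_f L39498
theorem L39520 : sm gg N4124 = N7169 := rfl
theorem L39521 : sm gg N7169 = N4124 := flp_g L39520
theorem L39522 : sm gd N4125 = N7170 := rfl
theorem L39523 : sm gd N7170 = N4125 := flp_d L39522
theorem L39524 : sm gf N4125 = N7171 := rfl
theorem L39525 : sm gf N7171 = N4125 := flp_f L39524
theorem L39528 : sm ge N7171 = N4126 := ded_25_1 L22448 L22443 L39524
theorem L39530 : sm gg N4125 = N7172 := rfl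
theorem L39534 : sm ge N7172 = N4127 := ded_26_1 L22452 L22443 L39530
theorem L39535 : sm ge N4127 = N7172 := flp_e L39534
theorem L39546 : sm gf N4127 = N7176 := rfl
theorem L39552 : sm gg N7176 = N7171 := ded_28_3 L39528 L22448 L22451 L39546
theorem L39562 : sm gd N4132 = N7178 := rfl
theorem L39563 : sm gd N7178 = N4132 := flp_d L39562
theorem L39564 : sm ga N7178 = N5760 := ded_9_1 L31566 L22745 L39562
theorem L39568 : sm gc N4133 = N7178 := ded_30_2 L39563 L22484 L11587 L5720 L11586 L22483 L39562 L39564 L31561 L22496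
theorem L39569 : sm gc N7178 = N4133 := flp_c L39568
theorem L39570 : N6747 = N6489 := coi_31_11 L35560 L35130 L35122 L19052 L15935 L29671 L29675 L39562 L39569 L22493 L19058 L19051 L35107 L37059 L37054 L37049
theorem L39571 : N6747 = N6489 := eqc rfl L39570 rfl
theorem L39572 : sm gb N6489 = N3810 := trfs L39571 L37051 rfl
theorem L39573 : N3810 = N3800 := eqes L39572 L35562
theorem L39574 : N3810 = N3800 := eqc rfl L39573 rfl
theorem L39577 : sm ga N3800 = N3633 := trfs L39574 L20525 rfl
theorem L39578 : N3633 = N3634 := eqes L39577 L20465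
theorem L39579 : N3634 = N3633 := (eqc rfl L39578 rfl).symm
theorem L39583 : sm gd N3800 = N1998 := trfs L39574 L20524 rfl
theorem L39584 : N1998 = N6731 := eqes L39583 L36949
theorem L39585 : N6731 = N1998 := (eqc rfl L39584 rfl).symm
theorem L39592 : sm gg N3800 = N6753 := trfs L39574 L37079 rfl
theorem L39593 : N6753 = N6733 := eqes L39592 L36961
theorem L39594 : N6753 = N6733 := eqc rfl L39593 rfl
theorem L39595 : sm ga N6733 = N6497 := trfs L39594 L37081 rfl
theorem L39596 : N6497 = N6500 := eqes L39595 L36963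
theorem L39597 : N6500 = N6497 := (eqc rfl L39596 rfl).symm
theorem L39600 : sm gc N6497 = N3638 := trfs L39597 L35610 rfl
theorem L39601 : sm gc N3638 = N6497 := flp_c L39600
theorem L39627 : sm gd N1998 = N3800 := trfs L39585 L36950 rfl
theorem L39635 : sm ga N3633 = N3800 := trfs L39579 L20466 rfl
theorem L39636 : sm ga N3800 = N3633 := flp_a L39635
theorem L39640 : sm gc N3633 = N1896 := trfs L39579 L19467 rfl
theorem L39650 : sm gf N5757 = N7178 := ded_31_1 L39563 L22484 L18555 L18550 L18543 L34489 L34493 L38609 L38654 L38499 L34502 L34496 L18544 L16849 L31536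
theorem L39658 : N6678 = N3346 := coi_30_4 L17676 L8755 L4339 L5081 L10387 L39627 L39636 L39640 L10306 L20316 L36685
theorem L39659 : N6678 = N3346 := eqc rfl L39658 rfl
theorem L39660 : sm ga N3346 = N3793 := trfs L39659 L36687 rfl
theorem L39661 : N3793 = N3048 := eqes L39660 L17677
theorem L39662 : N3793 = N3048 := eqc rfl L39661 rfl
theorem L39663 : sm gb N3346 = N6692 := trfs L39659 L36786 rfl
theorem L39664 : N6692 = N6112 := eqes L39663 L33279
theorem L39665 : N6692 = N6112 := eqc rfl L39664 rfl
theorem L39676 : sm ga N6112 = N3785 := trfs L39665 L36783 rfl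
theorem L39677 : N3785 = N6088 := eqes L39676 L33286
theorem L39678 : N6088 = N3785 := (eqc rfl L39677 rfl).symm
theorem L39689 : sm ge N3785 = N3335 := trfs L39678 L33168 rfl
theorem L39690 : N3335 = N6696 := eqes L39689 L36809
theorem L39691 : N6696 = N3335 := (eqc rfl L39690 rfl).symm
theorem L39692 : sm gb N3335 = N3790 := trfs L39691 L36811 rfl
theorem L39693 : N3790 = N1705 := eqes L39692 L17618
theorem L39694 : N3790 = N1705 := eqc rfl L39693 rfl
theorem L39697 : sm ga N1705 = N6675 := trfs L39694 L36676 rfl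
theorem L39698 : N6675 = N3330 := eqes L39697 L17590
theorem L39699 : N6675 = N3330 := eqc rfl L39698 rfl
theorem L39711 : sm gg N1705 = N6713 := trfs L39694 L36901 rfl
theorem L39712 : N6713 = N3339 := eqes L39711 L17631
theorem L39713 : N6713 = N3339 := eqc rfl L39712 rfl
theorem L39714 : sm ge N3339 = N3792 := trfs L39713 L36903 rfl
theorem L39715 : N3792 = N6097 := eqes L39714 L33206
theorem L39716 : N6097 = N3792 := (eqc rfl L39715 rfl).symm
theorem L39717 : sm gf N3339 = N6715 := trfs L39713 L36911 rfl
theorem L39718 : N6715 = N6101 := eqes L39717 L33217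
theorem L39719 : N6715 = N6101 := eqc rfl L39718 rfl
theorem L39723 : sm gg N6101 = N3791 := trfs L39719 L36910 rfl
theorem L39724 : N3791 = N6096 := eqes L39723 L33223
theorem L39725 : N6096 = N3791 := (eqc rfl L39724 rfl).symm
theorem L39726 : sm gc N3791 = N3341 := trfs L39725 L33197 rfl
theorem L39727 : N3341 = N6709 := eqes L39726 L36888
theorem L39728 : N6709 = N3341 := (eqc rfl L39727 rfl).symm
theorem L39736 : sm gf N3341 = N3789 := trfs L39728 L36886 rfl
theorem L39737 : N3789 = N1706 := eqes L39736 L17644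
theorem L39738 : N3789 = N1706 := eqc rfl L39737 rfl
theorem L39739 : sm ga N1706 = N6674 := trfs L39738 L36670 rfl
theorem L39740 : N6674 = N3331 := eqes L39739 L17594
theorem L39741 : N6674 = N3331 := eqc rfl L39740 rfl
theorem L39747 : sm gd N1706 = N6707 := trfs L39738 L36875 rfl
theorem L39748 : N6707 = N3340 := eqes L39747 L17635
theorem L39749 : N6707 = N3340 := eqc rfl L39748 rfl
theorem L39759 : sm gc N3340 = N6074 := trfs L39749 L36880 rfl
theorem L39760 : N6074 = N6102 := eqes L39759 L33225
theorem L39761 : N6102 = N6074 := (eqc rfl L39760 rfl).symm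
theorem L39765 : sm gb N6074 = N6086 := trfs L39761 L33231 rfl
theorem L39781 : sm gc N3331 = N3773 := trfs L39741 L36668 rfl
theorem L39782 : N3773 = N6075 := eqes L39781 L33086
theorem L39783 : N6075 = N3773 := (eqc rfl L39782 rfl).symm
theorem L39785 : sm gc N3773 = N3331 := trfs L39783 L33085 rfl
theorem L39796 : sm gf N3792 = N6099 := trfs L39716 L33213 rfl
theorem L39802 : sm ge N3330 = N3773 := trfs L39699 L36674 rfl
theorem L39813 : sm gb N3048 = N6699 := trfs L39662 L36826 rfl
theorem L39814 : N6699 = N5495 := eqes L39813 L30305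
theorem L39815 : N6699 = N5495 := eqc rfl L39814 rfl
theorem L39827 : sm ga N5495 = N6671 := trfs L39815 L36823 rfl
theorem L39829 : sm gd N5495 = N3786 := trfs L39815 L36822 rfl
theorem L39830 : sm gd N3786 = N5495 := flp_d L39829
theorem L39843 : sm gd N6086 = N6073 := ded_14_2 L33074 L33077 L39765
theorem L39844 : sm gd N6073 = N6086 := flp_d L39843
theorem L39859 : sm gc N5509 = N6671 := ded_13_4 L36653 L39785 L17595 L30439 L30446
theorem L39860 : sm gc N6671 = N5509 := flp_c L39859
theorem L39867 : sm ge N6671 = N6073 := ded_15_2 L33074 L39802 L36654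
theorem L39869 : sm gd N5530 = N6775 := ded_30_5 L37216 L20606 L20410 L39830 L39827 L39860 L30373 L33162 L39843 L33075
theorem L39874 : N6966 = N5531 := coi_14_2 L30502 L30495 L39869 L38345
theorem L39875 : N6966 = N5531 := eqc rfl L39874 rfl
theorem L39876 : sm ga N5531 = N6977 := trfs L39875 L38426 rfl
theorem L39877 : N6977 = N3376 := eqes L39876 L30503
theorem L39878 : N6977 = N3376 := eqc rfl L39877 rfl
theorem L39881 : sm gc N5531 = N3964 := trfs L39875 L38341 rfl
theorem L39882 : N3964 = N5531 := eqes L39881 L30507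
theorem L39883 : N5531 = N3964 := (eqc rfl L39882 rfl).symm
theorem L39884 : N6966 = N3964 := L39875.trans L39883
theorem L39888 : sm gg N3964 = N6792 := trfs L39884 L38342 rfl
theorem L39889 : N6792 = N3850 := eqes L39888 L21467
theorem L39890 : N6792 = N3850 := eqc rfl L39889 rfl
theorem L39899 : sm ge N3850 = N3376 := trfs L39890 L38428 L39878
theorem L39900 : N3376 = N3984 := eqes L39899 L21611
theorem L39901 : N3984 = N3376 := (eqc rfl L39900 rfl).symm
theorem L39917 : sm gg N3376 = N4112 := trfs L39901 L22351 rfl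
theorem L39918 : N4112 = N3358 := eqes L39917 L33694
theorem L39919 : N4112 = N3358 := eqc rfl L39918 rfl
theorem L39928 : sm gd N3358 = N3646 := trfs L39919 L22346 rfl
theorem L39929 : N3646 = N1714 := eqes L39928 L17726
theorem L39930 : N3646 = N1714 := eqc rfl L39929 rfl
theorem L39933 : sm gf N3358 = N7159 := trfs L39919 L39457 rfl
theorem L39934 : N7159 = N6141 := eqes L39933 L33447
theorem L39935 : N7159 = N6141 := eqc rfl L39934 rfl
theorem L39942 : sm ge N6141 = N4167 := trfs L39935 L39463 rfl
theorem L39961 : sm gg N1714 = N6516 := trfs L39930 L35698 rfl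
theorem L39962 : N6516 = N3360 := eqes L39961 L17733
theorem L39963 : N6516 = N3360 := eqc rfl L39962 rfl
theorem L39964 : sm ga N3360 = N3852 := trfs L39963 L35700 rfl
theorem L39965 : N3852 = N5515 := eqes L39964 L30404
theorem L39966 : N5515 = N3852 := (eqc rfl L39965 rfl).symm
theorem L39976 : sm gf N3360 = N6337 := trfs L39963 L35707 rfl
theorem L39977 : N6337 = N3362 := eqes L39976 L17745
theorem L39978 : N6337 = N3362 := eqc rfl L39977 rfl
theorem L39991 : sm gg N3362 = N3647 := trfs L39978 L34530 rfl
theorem L39992 : N3647 = N1715 := eqes L39991 L17742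
theorem L39993 : N3647 = N1715 := eqc rfl L39992 rfl
theorem L40003 : sm gd N1715 = N6517 := trfs L39993 L35710 rfl
theorem L40004 : N6517 = N3361 := eqes L40003 L17739
theorem L40005 : N6517 = N3361 := eqc rfl L40004 rfl
theorem L40014 : sm gf N3361 = N3967 := trfs L40005 L35714 rfl
theorem L40015 : N3967 = N5516 := eqes L40014 L30414
theorem L40016 : N5516 = N3967 := (eqc rfl L40015 rfl).symm
theorem L40025 : sm gd N3967 = N3056 := trfs L40016 L30410 rfl
theorem L40026 : N3056 = N2101 := eqes L40025 L21485
theorem L40027 : N3056 = N2101 := eqc rfl L40026 rfl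
theorem L40045 : sm gg N2101 = N5517 := trfs L40027 L30415 rfl
theorem L40046 : N5517 = N3968 := eqes L40045 L21488
theorem L40047 : N5517 = N3968 := eqc rfl L40046 rfl
theorem L40057 : sm gf N3968 = N3852 := trfs L40047 L30422 L39966
theorem L40058 : N3852 = N3966 := eqes L40057 L21493
theorem L40059 : N3966 = N3852 := (eqc rfl L40058 rfl).symm
theorem L40077 : sm gg N3852 = N2100 := trfs L40059 L21477 rfl
theorem L40078 : N2100 = N2024 := eqes L40077 L20780
theorem L40079 : N2100 = N2024 := eqc rfl L40078 rfl
theorem L40094 : sm gf N2024 = N3965 := trfs L40079 L21468 rfl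
theorem L40095 : N3965 = N3851 := eqes L40094 L20773
theorem L40096 : N3965 = N3851 := eqc rfl L40095 rfl
theorem L40112 : sm gg N3851 = N3970 := trfs L40096 L21505 rfl
theorem L40113 : N3970 = N3574 := eqes L40112 L20778
theorem L40114 : N3970 = N3574 := eqc rfl L40113 rfl
theorem L40124 : sm gd N3574 = N4130 := trfs L40114 L22474 rfl
theorem L40125 : N4130 = N1853 := eqes L40124 L19052
theorem L40126 : N4130 = N1853 := eqc rfl L40125 rfl
theorem L40134 : sm gb N1853 = N2217 := trfs L40126 L22469 rfl
theorem L40135 : N2217 = N922 := eqes L40134 L9526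
theorem L40136 : N2217 = N922 := eqc rfl L40135 rfl
theorem L40146 : sm gg N1853 = N2211 := trfs L40126 L22468 rfl
theorem L40147 : N2211 = N3572 := eqes L40146 L19033
theorem L40148 : N3572 = N2211 := (eqc rfl L40147 rfl).symm
theorem L40164 : sm gf N2211 = N2213 := trfs L40148 L19030 rfl
theorem L40165 : N2213 = N1120 := eqes L40164 L11577
theorem L40166 : N2213 = N1120 := eqc rfl L40165 rfl
theorem L40175 : sm gc N1120 = N4132 := trfs L40166 L22483 rfl
theorem L40176 : N4132 = N2209 := eqes L40175 L11570
theorem L40177 : N4132 = N2209 := eqc rfl L40176 rfl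
theorem L40184 : sm gg N1120 = N3497 := trfs L40166 L18555 rfl
theorem L40185 : N3497 = N2212 := eqes L40184 L11582
theorem L40186 : N3497 = N2212 := eqc rfl L40185 rfl
theorem L40193 : sm gc N2212 = N5766 := trfs L40186 L31592 rfl
theorem L40194 : N5766 = N4127 := eqes L40193 L22454
theorem L40195 : N5766 = N4127 := eqc rfl L40194 rfl
theorem L40201 : sm ga N4127 = N3180 := trfs L40195 L31587 rfl
theorem L40202 : N3180 = N6342 := eqes L40201 L34560
theorem L40203 : N6342 = N3180 := (eqc rfl L40202 rfl).symm
theorem L40207 : sm ge N4127 = N5391 := trfs L40195 L31593 rfl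
theorem L40208 : N5391 = N7172 := eqes L40207 L39535
theorem L40209 : N7172 = N5391 := (eqc rfl L40208 rfl).symm
theorem L40210 : sm gf N4127 = N3177 := trfs L40195 L31586 rfl
theorem L40211 : N3177 = N7176 := eqes L40210 L39546
theorem L40212 : N7176 = N3177 := (eqc rfl L40211 rfl).symm
theorem L40218 : sm gg N3177 = N7171 := trfs L40212 L39552 rfl
theorem L40219 : N7171 = N5757 := eqes L40218 L31536
theorem L40220 : N7171 = N5757 := eqc rfl L40219 rfl
theorem L40224 : sm gf N5757 = N4125 := trfs L40220 L39525 rfl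
theorem L40225 : N4125 = N7178 := eqes L40224 L39650
theorem L40226 : N7178 = N4125 := (eqc rfl L40225 rfl).symm
theorem L40227 : sm ga N4125 = N5760 := trfs L40226 L39564 rfl
theorem L40228 : N5760 = N7163 := eqes L40227 L39493
theorem L40229 : N7163 = N5760 := (eqc rfl L40228 rfl).symm
theorem L40234 : sm gd N4125 = N2209 := trfs L40226 L39563 L40177
theorem L40235 : N2209 = N7170 := eqes L40234 L39522
theorem L40236 : N7170 = N2209 := (eqc rfl L40235 rfl).symm
theorem L40242 : sm gd N2209 = N4125 := trfs L40236 L39523 rfl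
theorem L40243 : N4125 = N4124 := eqes L40242 L22441
theorem L40244 : N4125 = N4124 := eqc rfl L40243 rfl
theorem L40245 : sm ga N4124 = N5760 := trfs L40244 L39493 L40229
theorem L40246 : N5760 = N7162 := eqes L40245 L39489
theorem L40247 : N7162 = N5760 := (eqc rfl L40246 rfl).symm
theorem L40260 : sm gg N4124 = N5391 := trfs L40244 L39530 L40209
theorem L40261 : N5391 = N7169 := eqes L40260 L39520
theorem L40262 : N7169 = N5391 := (eqc rfl L40261 rfl).symm
theorem L40263 : sm gg N5391 = N4124 := trfs L40262 L39521 rfl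
theorem L40264 : sm gg N4124 = N5391 := flp_g L40263
theorem L40279 : sm gd N5760 = N4121 := trfs L40247 L39487 rfl
theorem L40280 : N4121 = N4178 := eqes L40279 L31566
theorem L40281 : N4178 = N4121 := (eqc rfl L40280 rfl).symm
theorem L40283 : sm gb N4121 = N3188 := trfs L40281 L22749 rfl
theorem L40284 : N3188 = N7161 := eqes L40283 L39478
theorem L40285 : N7161 = N3188 := (eqc rfl L40284 rfl).symm
theorem L40291 : sm gf N4121 = N5759 := trfs L40281 L31556 rfl
theorem L40292 : N5759 = N7164 := eqes L40291 L39498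
theorem L40293 : N7164 = N5759 := (eqc rfl L40292 rfl).symm
theorem L40299 : sm gf N5759 = N4121 := trfs L40293 L39499 rfl
theorem L40309 : sm ge N3188 = N4510 := trfs L40285 L39485 rfl
theorem L40310 : N4510 = N3176 := eqes L40309 L16896
theorem L40311 : N4510 = N3176 := eqc rfl L40310 rfl
theorem L40312 : sm ga N3176 = N2459 := trfs L40311 L24699 rfl
theorem L40313 : N2459 = N5389 := eqes L40312 L29691
theorem L40314 : N5389 = N2459 := (eqc rfl L40313 rfl).symm
theorem L40316 : sm gc N3176 = N2458 := trfs L40311 L24698 rfl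
theorem L40317 : N2458 = N1633 := eqes L40316 L16844
theorem L40318 : N2458 = N1633 := eqc rfl L40317 rfl
theorem L40325 : sm gd N1633 = N1257 := trfs L40318 L12958 rfl
theorem L40326 : N1257 = N1688 := eqes L40325 L8663
theorem L40327 : N1688 = N1257 := (eqc rfl L40326 rfl).symm
theorem L40329 : sm gf N1633 = N4511 := trfs L40318 L24701 rfl
theorem L40330 : N4511 = N810 := eqes L40329 L8417
theorem L40331 : N4511 = N810 := eqc rfl L40330 rfl
theorem L40332 : sm gg N1633 = N4512 := trfs L40318 L24707 rfl
theorem L40333 : N4512 = N1638 := eqes L40332 L8440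
theorem L40334 : N4512 = N1638 := eqc rfl L40333 rfl
theorem L40347 : sm gf N1638 = N3911 := trfs L40334 L24715 rfl
theorem L40348 : N3911 = N812 := eqes L40347 L8435
theorem L40349 : N3911 = N812 := eqc rfl L40348 rfl
theorem L40359 : sm gd N812 = N2070 := trfs L40349 L21161 rfl
theorem L40360 : N2070 = N820 := eqes L40359 L4220
theorem L40361 : N2070 = N820 := eqc rfl L40360 rfl
theorem L40365 : sm gg N812 = N6471 := trfs L40349 L35405 rfl
theorem L40366 : N6471 = N1632 := eqes L40365 L8415
theorem L40367 : N6471 = N1632 := eqc rfl L40366 rfl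
theorem L40374 : sm gd N1632 = N3607 := trfs L40367 L35397 rfl
theorem L40375 : N3607 = N1691 := eqes L40374 L8673
theorem L40376 : N3607 = N1691 := eqc rfl L40375 rfl
theorem L40394 : sm gg N1691 = N1876 := trfs L40376 L19279 rfl
theorem L40395 : N1876 = N3230 := eqes L40394 L17087
theorem L40396 : N3230 = N1876 := (eqc rfl L40395 rfl).symm
theorem L40406 : sm gd N1876 = N1657 := trfs L40396 L17081 rfl
theorem L40407 : N1657 = N1036 := eqes L40406 L9712
theorem L40408 : N1657 = N1036 := eqc rfl L40407 rfl
theorem L40409 : sm ge N1876 = N1692 := trfs L40396 L17084 rfl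
theorem L40410 : N1692 = N3606 := eqes L40409 L19268
theorem L40411 : N3606 = N1692 := (eqc rfl L40410 rfl).symm
theorem L40412 : sm gf N1876 = N2803 := trfs L40396 L17089 rfl
theorem L40413 : N2803 = N1948 := eqes L40412 L10125
theorem L40414 : N2803 = N1948 := eqc rfl L40413 rfl
theorem L40415 : sm gg N1876 = N1691 := trfs L40396 L17086 rfl
theorem L40416 : sm gg N1691 = N1876 := flp_g L40415
theorem L40426 : sm gd N1948 = N3329 := trfs L40414 L17586 rfl
theorem L40427 : N3329 = N3606 := eqes L40426 L19277
theorem L40428 : N3329 = N1692 := eqc rfl L40427 L40411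
theorem L40432 : sm gg N1948 = N1449 := trfs L40414 L14837 rfl
theorem L40433 : N1449 = N3717 := eqes L40432 L19948
theorem L40434 : N3717 = N1449 := (eqc rfl L40433 rfl).symm
theorem L40441 : sm gc N1449 = N6580 := trfs L40434 L36063 rfl
theorem L40442 : N6580 = N2802 := eqes L40441 L14830
theorem L40443 : N6580 = N2802 := eqc rfl L40442 rfl
theorem L40444 : sm gd N1449 = N6615 := trfs L40434 L36242 rfl
theorem L40445 : N6615 = N725 := eqes L40444 L7437
theorem L40446 : N6615 = N725 := eqc rfl L40445 rfl
theorem L40455 : sm ge N725 = N4419 := trfs L40446 L36246 rfl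
theorem L40456 : N4419 = N368 := eqes L40455 L3736
theorem L40457 : N4419 = N368 := eqc rfl L40456 rfl
theorem L40458 : sm gf N725 = N4522 := trfs L40446 L36249 rfl
theorem L40459 : N4522 = N422 := eqes L40458 L3741
theorem L40460 : N4522 = N422 := eqc rfl L40459 rfl
theorem L40461 : sm ga N422 = N4523 := trfs L40460 L24779 rfl
theorem L40462 : N4523 = N436 := eqes L40461 L2291
theorem L40463 : N4523 = N436 := eqc rfl L40462 rfl
theorem L40467 : sm gd N422 = N436 := trfs L40460 L24785 L40463
theorem L40468 : N436 = N213 := eqes L40467 L2211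
theorem L40469 : N436 = N213 := eqc rfl L40468 rfl
theorem L40473 : sm gg N422 = N4065 := trfs L40460 L24775 rfl
theorem L40474 : N4065 = N214 := eqes L40473 L2214
theorem L40475 : N4065 = N214 := eqc rfl L40474 rfl
theorem L40488 : N4523 = N213 := L40463.trans L40469
theorem L40489 : sm ge N214 = N213 := trfs L40475 L24783 L40488
theorem L40490 : N213 = N425 := eqes L40489 L2226
theorem L40491 : N425 = N213 := (eqc rfl L40490 rfl).symm
theorem L40492 : sm gf N214 = N7060 := trfs L40475 L38961 rfl
theorem L40493 : N7060 = N426 := eqes L40492 L2230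
theorem L40494 : N7060 = N426 := eqc rfl L40493 rfl
theorem L40495 : sm ga N426 = N368 := trfs L40494 L38963 L40457
theorem L40496 : N368 = N432 := eqes L40495 L2263
theorem L40497 : N432 = N368 := (eqc rfl L40496 rfl).symm
theorem L40501 : sm gd N426 = N810 := trfs L40494 L38969 L40331
theorem L40502 : N810 = N400 := eqes L40501 L2234
theorem L40503 : N810 = N400 := eqc rfl L40502 rfl
theorem L40508 : sm gb N400 = N449 := trfs L40503 L4173 rfl
theorem L40509 : N449 = N240 := eqes L40508 L2106
theorem L40510 : N449 = N240 := eqc rfl L40509 rfl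
theorem L40514 : sm gd N400 = N411 := trfs L40503 L4172 rfl
theorem L40515 : N411 = N426 := eqes L40514 L2235
theorem L40516 : N426 = N411 := (eqc rfl L40515 rfl).symm
theorem L40523 : sm gg N400 = N412 := trfs L40503 L4175 rfl
theorem L40524 : N412 = N789 := eqes L40523 L4087
theorem L40525 : N789 = N412 := (eqc rfl L40524 rfl).symm
theorem L40526 : sm ga N412 = N433 := trfs L40525 L4089 rfl
theorem L40527 : N433 = N773 := eqes L40526 L3988
theorem L40528 : N773 = N433 := (eqc rfl L40527 rfl).symm
theorem L40535 : sm gd N412 = N1448 := trfs L40525 L7435 rfl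
theorem L40536 : N1448 = N208 := eqes L40535 L2167
theorem L40537 : N1448 = N208 := eqc rfl L40536 rfl
theorem L40538 : sm ge N412 = N776 := trfs L40525 L4093 rfl
theorem L40539 : N776 = N812 := eqes L40538 L4179
theorem L40540 : N812 = N776 := (eqc rfl L40539 rfl).symm
theorem L40541 : sm gf N412 = N775 := trfs L40525 L4096 rfl
theorem L40542 : N775 = N813 := eqes L40541 L4183
theorem L40543 : N813 = N775 := (eqc rfl L40542 rfl).symm
theorem L40549 : sm gb N775 = N452 := trfs L40543 L4185 rfl
theorem L40550 : N452 = N466 := eqes L40549 L4001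
theorem L40551 : N466 = N452 := (eqc rfl L40550 rfl).symm
theorem L40555 : sm gd N775 = N805 := trfs L40543 L4187 rfl
theorem L40556 : N805 = N1542 := eqes L40555 L7939
theorem L40557 : N1542 = N805 := (eqc rfl L40556 rfl).symm
theorem L40561 : sm gf N775 = N412 := trfs L40543 L4184 rfl
theorem L40563 : sm gg N775 = N1639 := trfs L40543 L8442 rfl
theorem L40564 : N1639 = N399 := eqes L40563 L4003
theorem L40565 : N1639 = N399 := eqc rfl L40564 rfl
theorem L40575 : sm gd N399 = N2798 := trfs L40565 L14803 rfl
theorem L40576 : N2798 = N216 := eqes L40575 L2100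
theorem L40577 : N2798 = N216 := eqc rfl L40576 rfl
theorem L40580 : sm ga N216 = N3409 := trfs L40577 L17953 rfl
theorem L40581 : N3409 = N399 := eqes L40580 L2097
theorem L40582 : N3409 = N399 := eqc rfl L40581 rfl
theorem L40595 : sm gg N216 = N2801 := trfs L40577 L14827 rfl
theorem L40596 : N2801 = N414 := eqes L40595 L2179
theorem L40597 : N2801 = N414 := eqc rfl L40596 rfl
theorem L40598 : sm ga N414 = N1739 := trfs L40597 L14820 rfl
theorem L40599 : N1739 = N775 := eqes L40598 L4000
theorem L40600 : N1739 = N775 := eqc rfl L40599 rfl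
theorem L40607 : sm gd N414 = N1620 := trfs L40597 L14828 rfl
theorem L40608 : N1620 = N804 := eqes L40607 L4148
theorem L40609 : N1620 = N804 := eqc rfl L40608 rfl
theorem L40613 : sm gf N414 = N208 := trfs L40597 L14819 L40537
theorem L40614 : N208 = N433 := eqes L40613 L2274
theorem L40615 : N433 = N208 := (eqc rfl L40614 rfl).symm
theorem L40622 : sm gd N208 = N857 := trfs L40615 L4395 rfl
theorem L40623 : N857 = N412 := eqes L40622 L2166
theorem L40624 : N857 = N412 := eqc rfl L40623 rfl
theorem L40631 : sm gg N208 = N217 := trfs L40615 L2269 rfl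
theorem L40632 : N217 = N105 := eqes L40631 L1093
theorem L40633 : N217 = N105 := eqc rfl L40632 rfl
theorem L40643 : sm gd N105 = N368 := trfs L40633 L2260 L40497
theorem L40644 : N368 = N207 := eqes L40643 L1086
theorem L40645 : N368 = N207 := eqc rfl L40644 rfl
theorem L40649 : sm gf N105 = N109 := trfs L40633 L1133 rfl
theorem L40650 : N109 = N54 := eqes L40649 L571
theorem L40651 : N109 = N54 := eqc rfl L40650 rfl
theorem L40661 : sm gd N54 = N56 := trfs L40651 L590 rfl
theorem L40662 : N56 = N25 := eqes L40661 L291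
theorem L40663 : N56 = N25 := eqc rfl L40662 rfl
theorem L40667 : sm gg N54 = N209 := trfs L40651 L1103 rfl
theorem L40668 : N209 = N106 := eqes L40667 L574
theorem L40669 : N209 = N106 := eqc rfl L40668 rfl
theorem L40670 : sm ga N106 = N393 := trfs L40669 L2057 rfl
theorem L40671 : N393 = N198 := eqes L40670 L1041
theorem L40672 : N393 = N198 := eqc rfl L40671 rfl
theorem L40673 : sm gb N106 = N116 := trfs L40669 L1100 rfl
theorem L40674 : N116 = N59 := eqes L40673 L576
theorem L40675 : N116 = N59 := eqc rfl L40674 rfl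
theorem L40676 : sm gc N106 = N413 := trfs L40669 L2170 rfl
theorem L40677 : N413 = N204 := eqes L40676 L1073
theorem L40678 : N413 = N204 := eqc rfl L40677 rfl
theorem L40679 : sm gd N106 = N106 := trfs L40669 L1099 rfl
theorem L40694 : sm gf N204 = N817 := trfs L40678 L4203 rfl
theorem L40695 : N817 = N406 := eqes L40694 L2135
theorem L40696 : N817 = N406 := eqc rfl L40695 rfl
theorem L40709 : sm gg N406 = N851 := trfs L40696 L4363 rfl
theorem L40710 : N851 = N401 := eqes L40709 L2142
theorem L40711 : N851 = N401 := eqc rfl L40710 rfl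
theorem L40723 : sm gf N401 = N429 := trfs L40711 L4358 rfl
theorem L40724 : N429 = N201 := eqes L40723 L2109
theorem L40725 : N429 = N201 := eqc rfl L40724 rfl
theorem L40733 : sm gd N201 = N850 := trfs L40725 L4355 rfl
theorem L40734 : N850 = N103 := eqes L40733 L1057
theorem L40735 : N850 = N103 := eqc rfl L40734 rfl
theorem L40753 : sm gg N103 = N1725 := trfs L40735 L8830 rfl
theorem L40754 : N1725 = N204 := eqes L40753 L1069
theorem L40755 : N1725 = N204 := eqc rfl L40754 rfl
theorem L40771 : sm gf N204 = N3381 := trfs L40755 L17814 rfl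
theorem L40772 : N3381 = N406 := eqes L40771 L2135
theorem L40773 : N3381 = N406 := eqc rfl L40772 rfl
theorem L40789 : sm gg N406 = N3366 := trfs L40773 L17818 rfl
theorem L40790 : N3366 = N401 := eqes L40789 L2142
theorem L40791 : N3366 = N401 := eqc rfl L40790 rfl
theorem L40801 : sm gd N401 = N6155 := trfs L40791 L33489 rfl
theorem L40802 : N6155 = N790 := eqes L40801 L4097
theorem L40803 : N6155 = N790 := eqc rfl L40802 rfl
theorem L40806 : sm gf N790 = N3368 := trfs L40803 L33491 rfl
theorem L40807 : N3368 = N403 := eqes L40806 L4100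
theorem L40808 : N3368 = N403 := eqc rfl L40807 rfl
theorem L40824 : sm gg N403 = N6159 := trfs L40808 L33503 rfl
theorem L40825 : N6159 = N794 := eqes L40824 L4112
theorem L40826 : N6159 = N794 := eqc rfl L40825 rfl
theorem L40827 : sm gd N794 = N6170 := trfs L40826 L33536 rfl
theorem L40828 : N6170 = N1594 := eqes L40827 L8232
theorem L40829 : N6170 = N1594 := eqc rfl L40828 rfl
theorem L40830 : sm gg N1594 = N3374 := trfs L40829 L33534 rfl
theorem L40831 : N3374 = N795 := eqes L40830 L8235
theorem L40832 : N3374 = N795 := eqc rfl L40831 rfl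
theorem L40848 : sm gf N795 = N5837 := trfs L40832 L31938 rfl
theorem L40849 : N5837 = N1598 := eqes L40848 L8249
theorem L40850 : N5837 = N1598 := eqc rfl L40849 rfl
theorem L40851 : sm gd N1598 = N3207 := trfs L40850 L31936 rfl
theorem L40852 : N3207 = N1588 := eqes L40851 L8252
theorem L40853 : N3207 = N1588 := eqc rfl L40852 rfl
theorem L40869 : sm gg N1588 = N3203 := trfs L40853 L16990 rfl
theorem L40870 : N3203 = N1603 := eqes L40869 L8272
theorem L40871 : N3203 = N1603 := eqc rfl L40870 rfl
theorem L40887 : sm gf N1603 = N1645 := trfs L40871 L16971 rfl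
theorem L40888 : N1645 = N797 := eqes L40887 L8268
theorem L40889 : N1645 = N797 := eqc rfl L40888 rfl
theorem L40903 : sm gg N797 = N3204 := trfs L40889 L16974 rfl
theorem L40904 : N3204 = N1587 := eqes L40903 L8206
theorem L40905 : N3204 = N1587 := eqc rfl L40904 rfl
theorem L40915 : sm gd N1587 = N5832 := trfs L40905 L31901 rfl
theorem L40916 : N5832 = N797 := eqes L40915 L8207
theorem L40917 : N5832 = N797 := eqc rfl L40916 rfl
theorem L40920 : sm ge N797 = N3369 := trfs L40917 L31903 rfl
theorem L40921 : N3369 = N405 := eqes L40920 L4121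
theorem L40922 : N3369 = N405 := eqc rfl L40921 rfl
theorem L40935 : sm gf N405 = N6161 := trfs L40922 L33507 rfl
theorem L40936 : N6161 = N798 := eqes L40935 L4123
theorem L40937 : N6161 = N798 := eqc rfl L40936 rfl
theorem L40942 : sm gd N798 = N6167 := trfs L40937 L33526 rfl
theorem L40943 : N6167 = N1604 := eqes L40942 L8274
theorem L40944 : N6167 = N1604 := eqc rfl L40943 rfl
theorem L40945 : sm gf N1604 = N3373 := trfs L40944 L33524 rfl
theorem L40946 : N3373 = N799 := eqes L40945 L8277
theorem L40947 : N3373 = N799 := eqc rfl L40946 rfl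
theorem L40963 : sm gg N799 = N6164 := trfs L40947 L33518 rfl
theorem L40964 : N6164 = N1608 := eqes L40963 L8293
theorem L40965 : N6164 = N1608 := eqc rfl L40964 rfl
theorem L40966 : sm gd N1608 = N3372 := trfs L40965 L33516 rfl
theorem L40967 : N3372 = N1585 := eqes L40966 L8296
theorem L40968 : N3372 = N1585 := eqc rfl L40967 rfl
theorem L40975 : sm gc N1585 = N5592 := trfs L40968 L30799 rfl
theorem L40976 : N5592 = N3077 := eqes L40975 L16384
theorem L40977 : N5592 = N3077 := eqc rfl L40976 rfl
theorem L40978 : sm ge N1585 = N3391 := trfs L40968 L17859 rfl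
theorem L40979 : N3391 = N1595 := eqes L40978 L8241
theorem L40980 : N3391 = N1595 := eqc rfl L40979 rfl
theorem L40984 : sm gg N1585 = N1720 := trfs L40968 L17784 rfl
theorem L40985 : N1720 = N790 := eqes L40984 L8196
theorem L40986 : N1720 = N790 := eqc rfl L40985 rfl
theorem L40993 : sm gc N790 = N3370 := trfs L40986 L17775 rfl
theorem L40994 : N3370 = N1583 := eqes L40993 L8184
theorem L40995 : N3370 = N1583 := eqc rfl L40994 rfl
theorem L41002 : sm gf N790 = N852 := trfs L40986 L8814 rfl
theorem L41003 : N852 = N403 := eqes L41002 L4100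
theorem L41004 : N852 = N403 := eqc rfl L41003 rfl
theorem L41018 : sm gg N403 = N1729 := trfs L41004 L8838 rfl
theorem L41019 : N1729 = N794 := eqes L41018 L4112
theorem L41020 : N1729 = N794 := eqc rfl L41019 rfl
theorem L41027 : sm gc N794 = N3388 := trfs L41020 L17841 rfl
theorem L41028 : N3388 = N1592 := eqes L41027 L8224
theorem L41029 : N3388 = N1592 := eqc rfl L41028 rfl
theorem L41030 : sm gd N794 = N3390 := trfs L41020 L17850 rfl
theorem L41031 : N3390 = N1594 := eqes L41030 L8232
theorem L41032 : N3390 = N1594 := eqc rfl L41031 rfl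
theorem L41041 : sm gc N1594 = N6014 := trfs L41032 L32796 rfl
theorem L41042 : N6014 = N3095 := eqes L41041 L16460
theorem L41043 : N6014 = N3095 := eqc rfl L41042 rfl
theorem L41044 : sm ge N1594 = N6013 := trfs L41032 L32791 rfl
theorem L41045 : N6013 = N3096 := eqes L41044 L16464
theorem L41046 : N6013 = N3096 := eqc rfl L41045 rfl
theorem L41047 : sm gf N1594 = N6019 := trfs L41032 L32818 rfl
theorem L41048 : N6019 = N3097 := eqes L41047 L16469
theorem L41049 : N6019 = N3097 := eqc rfl L41048 rfl
theorem L41050 : sm gg N1594 = N1730 := trfs L41032 L17852 rfl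
theorem L41051 : N1730 = N795 := eqes L41050 L8235
theorem L41052 : N1730 = N795 := eqc rfl L41051 rfl
theorem L41066 : sm gf N795 = N3394 := trfs L41052 L17868 rfl
theorem L41067 : N3394 = N1598 := eqes L41066 L8249
theorem L41068 : N3394 = N1598 := eqc rfl L41067 rfl
theorem L41075 : sm gc N1598 = N3296 := trfs L41068 L17874 rfl
theorem L41076 : N3296 = N3102 := eqes L41075 L16495
theorem L41077 : N3296 = N3102 := eqc rfl L41076 rfl
theorem L41084 : sm gg N1598 = N3294 := trfs L41068 L17873 rfl
theorem L41085 : N3294 = N3104 := eqes L41084 L16505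
theorem L41086 : N3294 = N3104 := eqc rfl L41085 rfl
theorem L41093 : sm gc N3104 = N1686 := trfs L41086 L17376 rfl
theorem L41094 : N1686 = N2511 := eqes L41093 L16508
theorem L41095 : N2511 = N1686 := (eqc rfl L41094 rfl).symm
theorem L41101 : sm ga N1686 = N2621 := trfs L41095 L13801 rfl
theorem L41102 : N2621 = N3042 := eqes L41101 L16191
theorem L41103 : N3042 = N2621 := (eqc rfl L41102 rfl).symm
theorem L41104 : sm gb N1686 = N1285 := trfs L41095 L13280 rfl
theorem L41105 : N1285 = N3255 := eqes L41104 L17223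
theorem L41106 : N3255 = N1285 := (eqc rfl L41105 rfl).symm
theorem L41107 : sm gc N1686 = N3104 := trfs L41095 L16509 rfl
theorem L41108 : sm gc N3104 = N1686 := flp_c L41107
theorem L41109 : sm gd N1686 = N1284 := trfs L41095 L13279 rfl
theorem L41110 : N1284 = N833 := eqes L41109 L8655
theorem L41111 : N1284 = N833 := eqc rfl L41110 rfl
theorem L41112 : sm ge N1686 = N4589 := trfs L41095 L25166 rfl
theorem L41113 : N4589 = N3295 := eqes L41112 L17377
theorem L41114 : N4589 = N3295 := eqc rfl L41113 rfl
theorem L41115 : sm gf N1686 = N4590 := trfs L41095 L25174 rfl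
theorem L41116 : N4590 = N3292 := eqes L41115 L17364
theorem L41117 : N4590 = N3292 := eqc rfl L41116 rfl
theorem L41120 : sm ga N3292 = N4814 := trfs L41117 L26363 rfl
theorem L41121 : N4814 = N5483 := eqes L41120 L30232
theorem L41122 : N5483 = N4814 := (eqc rfl L41121 rfl).symm
theorem L41123 : sm gb N3292 = N2513 := trfs L41117 L25176 rfl
theorem L41124 : N2513 = N5937 := eqes L41123 L32454
theorem L41125 : N5937 = N2513 := (eqc rfl L41124 rfl).symm
theorem L41128 : sm gd N3292 = N3423 := trfs L41117 L25184 rfl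
theorem L41129 : N3423 = N1685 := eqes L41128 L17362
theorem L41130 : N3423 = N1685 := eqc rfl L41129 rfl
theorem L41133 : sm gg N3292 = N3101 := trfs L41117 L25182 rfl
theorem L41134 : N3101 = N6015 := eqes L41133 L32801
theorem L41135 : N6015 = N3101 := (eqc rfl L41134 rfl).symm
theorem L41141 : sm gg N3101 = N3292 := trfs L41135 L32802 rfl
theorem L41142 : sm gg N3292 = N3101 := flp_g L41141
theorem L41147 : sm ga N1685 = N3303 := trfs L41130 L18078 rfl
theorem L41148 : N3303 = N3041 := eqes L41147 L16187
theorem L41149 : N3303 = N3041 := eqc rfl L41148 rfl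
theorem L41150 : sm gb N1685 = N4577 := trfs L41130 L25085 rfl
theorem L41151 : N4577 = N3254 := eqes L41150 L17219
theorem L41152 : N4577 = N3254 := eqc rfl L41151 rfl
theorem L41162 : sm gg N1685 = N6253 := trfs L41130 L33972 rfl
theorem L41163 : N6253 = N3293 := eqes L41162 L17365
theorem L41164 : N6253 = N3293 := eqc rfl L41163 rfl
theorem L41171 : sm gf N3293 = N6243 := trfs L41164 L33979 rfl
theorem L41172 : N6243 = N3274 := eqes L41171 L17370
theorem L41173 : N6243 = N3274 := eqc rfl L41172 rfl
theorem L41180 : sm gg N3274 = N3422 := trfs L41173 L33922 rfl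
theorem L41181 : N3422 = N1684 := eqes L41180 L17296
theorem L41182 : N3422 = N1684 := eqc rfl L41181 rfl
theorem L41183 : sm ga N1684 = N3302 := trfs L41182 L18074 rfl
theorem L41184 : N3302 = N3040 := eqes L41183 L16183
theorem L41185 : N3302 = N3040 := eqc rfl L41184 rfl
theorem L41192 : sm gd N1684 = N6247 := trfs L41182 L33943 rfl
theorem L41193 : N6247 = N3285 := eqes L41192 L17338
theorem L41194 : N6247 = N3285 := eqc rfl L41193 rfl
theorem L41200 : sm ge N3285 = N3420 := trfs L41194 L33939 rfl
theorem L41201 : N3420 = N1682 := eqes L41200 L17336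
theorem L41202 : N3420 = N1682 := eqc rfl L41201 rfl
theorem L41218 : sm gg N1682 = N5132 := trfs L41202 L28324 rfl
theorem L41219 : N5132 = N3282 := eqes L41218 L17326
theorem L41220 : N5132 = N3282 := eqc rfl L41219 rfl
theorem L41227 : sm gd N3282 = N2860 := trfs L41220 L28318 rfl
theorem L41228 : N2860 = N1681 := eqes L41227 L17324
theorem L41229 : N2860 = N1681 := eqc rfl L41228 rfl
theorem L41230 : sm ga N1681 = N3323 := trfs L41229 L17552 rfl
theorem L41231 : N3323 = N3037 := eqes L41230 L16171
theorem L41232 : N3323 = N3037 := eqc rfl L41231 rfl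
theorem L41233 : sm gb N1681 = N1488 := trfs L41229 L15211 rfl
theorem L41234 : N1488 = N3250 := eqes L41233 L17203
theorem L41235 : N3250 = N1488 := (eqc rfl L41234 rfl).symm
theorem L41236 : sm gc N1681 = N1501 := trfs L41229 L15213 rfl
theorem L41237 : N1501 = N3280 := eqes L41236 L17318
theorem L41238 : N3280 = N1501 := (eqc rfl L41237 rfl).symm
theorem L41239 : sm ge N1681 = N5131 := trfs L41229 L28314 rfl
theorem L41240 : N5131 = N3269 := eqes L41239 L17283
theorem L41241 : N5131 = N3269 := eqc rfl L41240 rfl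
theorem L41242 : sm gf N1681 = N1485 := trfs L41229 L15210 rfl
theorem L41243 : N1485 = N3283 := eqes L41242 L17327
theorem L41244 : N3283 = N1485 := (eqc rfl L41243 rfl).symm
theorem L41245 : sm gg N1681 = N1745 := trfs L41229 L15255 rfl
theorem L41246 : N1745 = N830 := eqes L41245 L8645
theorem L41247 : N1745 = N830 := eqc rfl L41246 rfl
theorem L41251 : sm gb N830 = N2869 := trfs L41247 L15253 rfl
theorem L41252 : N2869 = N1665 := eqes L41251 L8573
theorem L41253 : N2869 = N1665 := eqc rfl L41252 rfl
theorem L41254 : sm gc N830 = N2896 := trfs L41247 L15410 rfl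
theorem L41255 : N2896 = N1679 := eqes L41254 L8640
theorem L41256 : N2896 = N1679 := eqc rfl L41255 rfl
theorem L41260 : sm ge N830 = N3414 := trfs L41247 L18011 rfl
theorem L41261 : N3414 = N1673 := eqes L41260 L8617
theorem L41262 : N3414 = N1673 := eqc rfl L41261 rfl
theorem L41263 : sm gf N830 = N3419 := trfs L41247 L18052 rfl
theorem L41264 : N3419 = N1680 := eqes L41263 L8642
theorem L41265 : N3419 = N1680 := eqc rfl L41264 rfl
theorem L41266 : sm ga N1680 = N3322 := trfs L41265 L18054 rfl
theorem L41267 : N3322 = N3036 := eqes L41266 L16167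
theorem L41268 : N3322 = N3036 := eqc rfl L41267 rfl
theorem L41269 : sm gb N1680 = N2867 := trfs L41265 L18056 rfl
theorem L41270 : N2867 = N3249 := eqes L41269 L17197
theorem L41271 : N3249 = N2867 := (eqc rfl L41270 rfl).symm
theorem L41272 : sm gc N1680 = N2894 := trfs L41265 L18058 rfl
theorem L41273 : N2894 = N3279 := eqes L41272 L17314
theorem L41274 : N3279 = N2894 := (eqc rfl L41273 rfl).symm
theorem L41275 : sm gd N1680 = N6230 := trfs L41265 L33854 rfl
theorem L41276 : N6230 = N3168 := eqes L41275 L16819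
theorem L41277 : N6230 = N3168 := eqc rfl L41276 rfl
theorem L41278 : sm ge N1680 = N2861 := trfs L41265 L18060 rfl
theorem L41279 : N2861 = N3268 := eqes L41278 L17279
theorem L41280 : N3268 = N2861 := (eqc rfl L41279 rfl).symm
theorem L41281 : sm gg N1680 = N2859 := trfs L41265 L18062 rfl
theorem L41282 : N2859 = N3281 := eqes L41281 L17319
theorem L41283 : N3281 = N2859 := (eqc rfl L41282 rfl).symm
theorem L41284 : sm ga N2859 = N5472 := trfs L41283 L30168 rfl
theorem L41285 : N5472 = N2879 := eqes L41284 L15317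
theorem L41286 : N5472 = N2879 := eqc rfl L41285 rfl
theorem L41290 : sm gc N2859 = N5987 := trfs L41283 L32648 rfl
theorem L41291 : N5987 = N1500 := eqes L41290 L15207
theorem L41292 : N5987 = N1500 := eqc rfl L41291 rfl
theorem L41299 : sm gg N2859 = N1680 := trfs L41283 L17320 rfl
theorem L41300 : sm gg N1680 = N2859 := flp_g L41299
theorem L41304 : sm gf N1500 = N5964 := trfs L41292 L32650 rfl
theorem L41305 : N5964 = N2893 := eqes L41304 L15389
theorem L41306 : N5964 = N2893 := eqc rfl L41305 rfl
theorem L41314 : sm gg N2893 = N3267 := trfs L41306 L32560 rfl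
theorem L41315 : N3267 = N2898 := eqes L41314 L15424
theorem L41316 : N3267 = N2898 := eqc rfl L41315 rfl
theorem L41320 : sm gb N2898 = N3256 := trfs L41316 L17275 rfl
theorem L41321 : N3256 = N1512 := eqes L41320 L15419
theorem L41322 : N3256 = N1512 := eqc rfl L41321 rfl
theorem L41328 : sm gf N2898 = N5963 := trfs L41316 L32551 rfl
theorem L41329 : N5963 = N1502 := eqes L41328 L15418
theorem L41330 : N5963 = N1502 := eqc rfl L41329 rfl
theorem L41335 : sm gd N1502 = N5956 := trfs L41330 L32768 rfl
theorem L41336 : N5956 = N2897 := eqes L41335 L15413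
theorem L41337 : N5956 = N2897 := eqc rfl L41336 rfl
theorem L41340 : sm ge N2897 = N3263 := trfs L41337 L32538 rfl
theorem L41341 : N3263 = N5200 := eqes L41340 L28666
theorem L41342 : N5200 = N3263 := (eqc rfl L41341 rfl).symm
theorem L41343 : sm gb N3263 = N2915 := trfs L41342 L28668 rfl
theorem L41344 : N2915 = N5947 := eqes L41343 L32506
theorem L41345 : N5947 = N2915 := (eqc rfl L41344 rfl).symm
theorem L41346 : sm ge N3263 = N2897 := trfs L41342 L28667 rfl
theorem L41347 : sm ge N2897 = N3263 := flp_e L41346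
theorem L41348 : sm gb N2915 = N3263 := trfs L41345 L32505 rfl
theorem L41350 : sm gd N2915 = N3258 := trfs L41345 L32504 rfl
theorem L41351 : N3258 = N5220 := eqes L41350 L28763
theorem L41352 : N5220 = N3258 := (eqc rfl L41351 rfl).symm
theorem L41353 : sm gd N3258 = N2915 := trfs L41352 L28762 rfl
theorem L41355 : sm ge N3258 = N2909 := trfs L41352 L28761 rfl
theorem L41356 : N2909 = N5945 := eqes L41355 L32496
theorem L41357 : N5945 = N2909 := (eqc rfl L41356 rfl).symm
theorem L41358 : sm ga N2909 = N5982 := trfs L41357 L32624 rfl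
theorem L41359 : N5982 = N5082 := eqes L41358 L28002
theorem L41360 : N5982 = N5082 := eqc rfl L41359 rfl
theorem L41361 : sm gb N2909 = N3261 := trfs L41357 L32493 rfl
theorem L41362 : N3261 = N5194 := eqes L41361 L28648
theorem L41363 : N5194 = N3261 := (eqc rfl L41362 rfl).symm
theorem L41364 : sm gd N2909 = N5082 := trfs L41357 L32767 L41360
theorem L41365 : N5082 = N1508 := eqes L41364 L15486
theorem L41366 : N5082 = N1508 := eqc rfl L41365 rfl
theorem L41369 : sm gf N2909 = N3257 := trfs L41357 L32492 rfl
theorem L41370 : N3257 = N5221 := eqes L41369 L28764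
theorem L41371 : N5221 = N3257 := (eqc rfl L41370 rfl).symm
theorem L41381 : sm gd N3257 = N5231 := trfs L41371 L28805 rfl
theorem L41382 : N5231 = N5944 := eqes L41381 L32487
theorem L41383 : N5944 = N5231 := (eqc rfl L41382 rfl).symm
theorem L41386 : sm ga N5231 = N5981 := trfs L41383 L32618 rfl
theorem L41387 : N5981 = N5297 := eqes L41386 L29127
theorem L41388 : N5981 = N5297 := eqc rfl L41387 rfl
theorem L41389 : sm gb N5231 = N3260 := trfs L41383 L32489 rfl
theorem L41391 : sm gd N5231 = N3257 := trfs L41383 L32488 rfl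
theorem L41393 : sm gf N5231 = N5297 := trfs L41383 L32781 L41388
theorem L41394 : N5297 = N2913 := eqes L41393 L28803
theorem L41395 : N5297 = N2913 := eqc rfl L41394 rfl
theorem L41396 : sm ga N2913 = N5231 := trfs L41395 L29126 rfl
theorem L41397 : N5231 = N5086 := eqes L41396 L28022
theorem L41398 : N5231 = N5086 := eqc rfl L41397 rfl
theorem L41399 : sm gc N2913 = N2951 := trfs L41395 L29128 rfl
theorem L41400 : N2951 = N5229 := eqes L41399 L28795
theorem L41401 : N5229 = N2951 := (eqc rfl L41400 rfl).symm
theorem L41404 : sm gg N2913 = N2948 := trfs L41395 L29125 rfl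
theorem L41405 : N2948 = N5227 := eqes L41404 L28788
theorem L41406 : N5227 = N2948 := (eqc rfl L41405 rfl).symm
theorem L41407 : sm gc N2948 = N5291 := trfs L41406 L29090 rfl
theorem L41408 : N5291 = N1527 := eqes L41407 L15638
theorem L41409 : N5291 = N1527 := eqc rfl L41408 rfl
theorem L41410 : sm gd N2948 = N2912 := trfs L41406 L28786 rfl
theorem L41411 : N2912 = N5166 := eqes L41410 L28488
theorem L41412 : N5166 = N2912 := (eqc rfl L41411 rfl).symm
theorem L41413 : sm ge N2948 = N5290 := trfs L41406 L29083 rfl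
theorem L41414 : N5290 = N5295 := eqes L41413 L29112
theorem L41415 : N5295 = N5290 := (eqc rfl L41414 rfl).symm
theorem L41416 : sm gf N2948 = N5289 := trfs L41406 L29077 rfl
theorem L41417 : N5289 = N5296 := eqes L41416 L29118
theorem L41418 : N5296 = N5289 := (eqc rfl L41417 rfl).symm
theorem L41419 : sm gg N2948 = N2913 := trfs L41406 L28787 rfl
theorem L41420 : sm gg N2913 = N2948 := flp_g L41419
theorem L41423 : sm gc N5289 = N2950 := trfs L41418 L29122 rfl
theorem L41424 : N2950 = N2945 := eqes L41423 L29074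
theorem L41425 : N2950 = N2945 := eqc rfl L41424 rfl
theorem L41426 : sm gf N5289 = N2948 := trfs L41418 L29119 rfl
theorem L41427 : sm gf N2948 = N5289 := flp_f L41426
theorem L41428 : sm ga N2945 = N2946 := trfs L41425 L15649 rfl
theorem L41429 : N2946 = N2949 := eqes L41428 L15644
theorem L41430 : N2949 = N2946 := (eqc rfl L41429 rfl).symm
theorem L41438 : sm gg N2945 = N5300 := trfs L41425 L29146 rfl
theorem L41439 : N5300 = N5292 := eqes L41438 L29095
theorem L41440 : N5300 = N5292 := eqc rfl L41439 rfl
theorem L41441 : sm ga N5292 = N5293 := trfs L41440 L29148 rfl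
theorem L41442 : N5293 = N5299 := eqes L41441 L29142
theorem L41443 : N5299 = N5293 := (eqc rfl L41442 rfl).symm
theorem L41456 : sm ga N5293 = N5292 := trfs L41443 L29141 rfl
theorem L41457 : sm ga N5292 = N5293 := flp_a L41456
theorem L41465 : sm ga N2946 = N2945 := trfs L41430 L15643 rfl
theorem L41466 : sm ga N2945 = N2946 := flp_a L41465
theorem L41472 : sm ga N5290 = N5289 := trfs L41415 L29114 rfl
theorem L41473 : sm ga N5289 = N5290 := flp_a L41472
theorem L41474 : sm ge N5290 = N2948 := trfs L41415 L29113 rfl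
theorem L41475 : sm ge N2948 = N5290 := flp_e L41474
theorem L41476 : sm ga N2912 = N5062 := trfs L41412 L28485 rfl
theorem L41477 : N5062 = N5085 := eqes L41476 L28018
theorem L41478 : N5085 = N5062 := (eqc rfl L41477 rfl).symm
theorem L41479 : sm gc N2912 = N2880 := trfs L41412 L28484 rfl
theorem L41480 : N2880 = N5225 := eqes L41479 L28778
theorem L41481 : N5225 = N2880 := (eqc rfl L41480 rfl).symm
theorem L41482 : sm gd N2912 = N2948 := trfs L41412 L28487 rfl
theorem L41483 : sm gd N2948 = N2912 := flp_d L41482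
theorem L41484 : sm gc N2880 = N2912 := trfs L41481 L28777 rfl
theorem L41485 : sm gc N2912 = N2880 := flp_c L41484
theorem L41486 : sm gg N2880 = N2910 := trfs L41481 L28776 rfl
theorem L41487 : N2910 = N5169 := eqes L41486 L28497
theorem L41488 : N5169 = N2910 := (eqc rfl L41487 rfl).symm
theorem L41489 : sm ga N2910 = N5065 := trfs L41488 L28499 rfl
theorem L41490 : N5065 = N5083 := eqes L41489 L28006
theorem L41491 : N5083 = N5065 := (eqc rfl L41490 rfl).symm
theorem L41492 : sm gg N2910 = N2880 := trfs L41488 L28498 rfl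
theorem L41493 : sm gg N2880 = N2910 := flp_g L41492
theorem L41494 : sm ga N5065 = N2910 := trfs L41491 L28005 rfl
theorem L41496 : sm gc N5065 = N2831 := trfs L41491 L28004 rfl
theorem L41498 : sm gf N5065 = N4677 := trfs L41491 L28007 rfl
theorem L41500 : sm ga N5062 = N2912 := trfs L41478 L28017 rfl
theorem L41501 : sm ga N2912 = N5062 := flp_a L41500
theorem L41502 : sm gg N5062 = N2831 := trfs L41478 L28016 rfl
theorem L41503 : sm gg N2831 = N5062 := flp_g L41502
theorem L41505 : sm ge N1527 = N2946 := trfs L41409 L29091 rfl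
theorem L41506 : sm ge N2946 = N1527 := flp_e L41505
theorem L41507 : sm gf N1527 = N2945 := trfs L41409 L29087 rfl
theorem L41508 : sm gf N2945 = N1527 := flp_f L41507
theorem L41511 : sm gc N2951 = N2913 := trfs L41401 L28796 rfl
theorem L41512 : sm gc N2913 = N2951 := flp_c L41511
theorem L41513 : sm ge N2951 = N5293 := trfs L41401 L29106 rfl
theorem L41514 : sm ge N5293 = N2951 := flp_e L41513
theorem L41515 : sm gf N2951 = N2947 := trfs L41401 L28811 rfl
theorem L41516 : sm gf N2947 = N2951 := flp_f L41515
theorem L41517 : sm gb N5086 = N3260 := trfs L41398 L41389 rfl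
theorem L41518 : N3260 = N6238 := eqes L41517 L33886
theorem L41519 : N6238 = N3260 := (eqc rfl L41518 rfl).symm
theorem L41520 : sm gc N5086 = N2947 := trfs L41398 L28808 rfl
theorem L41521 : sm gc N2947 = N5086 := flp_c L41520
theorem L41522 : sm gd N5086 = N3257 := trfs L41398 L41391 rfl
theorem L41523 : N3257 = N2832 := eqes L41522 L28020
theorem L41524 : N3257 = N2832 := eqc rfl L41523 rfl
theorem L41525 : sm gf N5086 = N2913 := trfs L41398 L28803 rfl
theorem L41526 : sm gf N2913 = N5086 := flp_f L41525
theorem L41527 : sm gg N5086 = N2944 := trfs L41398 L28807 rfl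
theorem L41528 : sm gg N2944 = N5086 := flp_g L41527
theorem L41532 : sm gb N2832 = N1670 := trfs L41524 L17228 rfl
theorem L41533 : N1670 = N3412 := eqes L41532 L17987
theorem L41534 : N3412 = N1670 := (eqc rfl L41533 rfl).symm
theorem L41538 : sm ge N2832 = N1669 := trfs L41524 L17227 rfl
theorem L41539 : N1669 = N2834 := eqes L41538 L15039
theorem L41540 : N2834 = N1669 := (eqc rfl L41539 rfl).symm
theorem L41544 : sm gg N2832 = N5946 := trfs L41524 L32497 rfl
theorem L41545 : N5946 = N1471 := eqes L41544 L15017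
theorem L41546 : N5946 = N1471 := eqc rfl L41545 rfl
theorem L41550 : sm gb N1471 = N3262 := trfs L41546 L32499 rfl
theorem L41551 : N3262 = N2826 := eqes L41550 L14979
theorem L41552 : N3262 = N2826 := eqc rfl L41551 rfl
theorem L41553 : sm ge N1471 = N3259 := trfs L41546 L32501 rfl
theorem L41554 : N3259 = N2829 := eqes L41553 L15001
theorem L41555 : N3259 = N2829 := eqc rfl L41554 rfl
theorem L41556 : sm gf N1471 = N5948 := trfs L41546 L32511 rfl
theorem L41557 : N5948 = N736 := eqes L41556 L7570
theorem L41558 : N5948 = N736 := eqc rfl L41557 rfl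
theorem L41559 : sm gb N736 = N3264 := trfs L41558 L32509 rfl
theorem L41560 : N3264 = N1469 := eqes L41559 L7559
theorem L41561 : N3264 = N1469 := eqc rfl L41560 rfl
theorem L41565 : sm gg N736 = N3258 := trfs L41558 L32508 rfl
theorem L41566 : N3258 = N1472 := eqes L41565 L7575
theorem L41567 : N3258 = N1472 := eqc rfl L41566 rfl
theorem L41569 : sm gb N1472 = N1671 := trfs L41567 L17232 rfl
theorem L41570 : N1671 = N2827 := eqes L41569 L14983
theorem L41571 : N2827 = N1671 := (eqc rfl L41570 rfl).symm
theorem L41575 : sm gd N1472 = N2915 := trfs L41567 L41353 rfl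
theorem L41576 : N2915 = N2833 := eqes L41575 L15024
theorem L41577 : N2915 = N2833 := eqc rfl L41576 rfl
theorem L41581 : sm ga N2833 = N5088 := trfs L41577 L28032 rfl
theorem L41582 : N5088 = N1511 := eqes L41581 L15026
theorem L41583 : N5088 = N1511 := eqc rfl L41582 rfl
theorem L41584 : sm gb N2833 = N3263 := trfs L41577 L41348 rfl
theorem L41585 : N3263 = N5078 := eqes L41584 L27980
theorem L41586 : N5078 = N3263 := (eqc rfl L41585 rfl).symm
theorem L41587 : sm gc N2833 = N5234 := trfs L41577 L28819 rfl
theorem L41588 : N5234 = N5087 := eqes L41587 L28023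
theorem L41589 : N5234 = N5087 := eqc rfl L41588 rfl
theorem L41592 : sm gf N2833 = N5236 := trfs L41577 L28824 rfl
theorem L41593 : N5236 = N5089 := eqes L41592 L28035
theorem L41594 : N5236 = N5089 := eqc rfl L41593 rfl
theorem L41595 : sm gg N2833 = N5210 := trfs L41577 L28725 rfl
theorem L41596 : N5210 = N2553 := eqes L41595 L15028
theorem L41597 : N5210 = N2553 := eqc rfl L41596 rfl
theorem L41598 : sm ga N2553 = N4682 := trfs L41597 L28722 rfl
theorem L41599 : N4682 = N2904 := eqes L41598 L15466
theorem L41600 : N4682 = N2904 := eqc rfl L41599 rfl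
theorem L41603 : sm gf N2553 = N5237 := trfs L41597 L28834 rfl
theorem L41604 : N5237 = N4683 := eqes L41603 L25693
theorem L41605 : N5237 = N4683 := eqc rfl L41604 rfl
theorem L41606 : sm gd N4683 = N5239 := trfs L41605 L28857 rfl
theorem L41608 : sm ge N4683 = N5211 := trfs L41605 L28832 rfl
theorem L41609 : sm ge N5211 = N4683 := flp_e L41608
theorem L41610 : sm gg N4683 = N2916 := trfs L41605 L28831 rfl
theorem L41612 : sm ge N2904 = N2553 := trfs L41600 L25692 rfl
theorem L41613 : sm ge N2553 = N2904 := flp_e L41612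
theorem L41615 : sm gd N5089 = N5280 := trfs L41594 L29048 rfl
theorem L41616 : N5280 = N5091 := eqes L41615 L28061
theorem L41617 : N5280 = N5091 := eqc rfl L41616 rfl
theorem L41618 : sm ge N5089 = N2916 := trfs L41594 L28826 rfl
theorem L41619 : sm ge N2916 = N5089 := flp_e L41618
theorem L41620 : sm gg N5089 = N5211 := trfs L41594 L28829 rfl
theorem L41621 : sm gg N5211 = N5089 := flp_g L41620
theorem L41622 : sm ge N5091 = N2940 := trfs L41617 L29046 rfl
theorem L41623 : N2940 = N2848 := eqes L41622 L28057
theorem L41624 : N2940 = N2848 := eqc rfl L41623 rfl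
theorem L41625 : sm ga N2848 = N5112 := trfs L41624 L28196 rfl
theorem L41626 : N5112 = N1523 := eqes L41625 L15125
theorem L41627 : N5112 = N1523 := eqc rfl L41626 rfl
theorem L41628 : sm gb N2848 = N5270 := trfs L41624 L29000 rfl
theorem L41629 : N5270 = N5108 := eqes L41628 L28166
theorem L41630 : N5270 = N5108 := eqc rfl L41629 rfl
theorem L41639 : sm gg N2848 = N5275 := trfs L41624 L29027 rfl
theorem L41640 : N5275 = N1479 := eqes L41639 L15124
theorem L41641 : N5275 = N1479 := eqc rfl L41640 rfl
theorem L41642 : sm gd N1479 = N2938 := trfs L41641 L29025 rfl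
theorem L41643 : N2938 = N2846 := eqes L41642 L15110
theorem L41644 : N2938 = N2846 := eqc rfl L41643 rfl
theorem L41645 : sm ga N2846 = N5110 := trfs L41644 L28183 rfl
theorem L41646 : N5110 = N1521 := eqes L41645 L15112
theorem L41647 : N5110 = N1521 := eqc rfl L41646 rfl
theorem L41648 : sm gb N2846 = N5268 := trfs L41644 L28986 rfl
theorem L41649 : N5268 = N5107 := eqes L41648 L28158
theorem L41650 : N5268 = N5107 := eqc rfl L41649 rfl
theorem L41652 : sm ge N2846 = N5272 := trfs L41644 L29014 rfl
theorem L41653 : N5272 = N2569 := eqes L41652 L15114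
theorem L41654 : N5272 = N2569 := eqc rfl L41653 rfl
theorem L41655 : sm gf N2846 = N5276 := trfs L41644 L29028 rfl
theorem L41656 : N5276 = N5109 := eqes L41655 L28173
theorem L41657 : N5276 = N5109 := eqc rfl L41656 rfl
theorem L41661 : sm ge N5109 = N5274 := trfs L41657 L29031 rfl
theorem L41662 : N5274 = N4712 := eqes L41661 L28178
theorem L41663 : N5274 = N4712 := eqc rfl L41662 rfl
theorem L41668 : sm gg N4712 = N2937 := trfs L41663 L29020 rfl
theorem L41669 : sm gg N2937 = N4712 := flp_g L41668
theorem L41670 : sm ga N2569 = N4713 := trfs L41654 L29010 rfl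
theorem L41671 : N4713 = N2936 := eqes L41670 L15596
theorem L41672 : N4713 = N2936 := eqc rfl L41671 rfl
theorem L41678 : sm gg N2936 = N2569 := trfs L41672 L25831 rfl
theorem L41679 : sm gg N2569 = N2936 := flp_g L41678
theorem L41680 : sm ga N5107 = N5192 := trfs L41650 L28983 rfl
theorem L41681 : N5192 = N5075 := eqes L41680 L28155
theorem L41682 : N5192 = N5075 := eqc rfl L41681 rfl
theorem L41683 : sm gg N5107 = N2933 := trfs L41650 L28982 rfl
theorem L41685 : sm gb N5075 = N2907 := trfs L41682 L28639 rfl
theorem L41686 : N2907 = N2828 := eqes L41685 L27957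
theorem L41687 : N2907 = N2828 := eqc rfl L41686 rfl
theorem L41688 : sm gg N5075 = N2892 := trfs L41682 L28638 rfl
theorem L41689 : sm gg N2892 = N5075 := flp_g L41688
theorem L41690 : sm ga N2828 = N5080 := trfs L41687 L27992 rfl
theorem L41691 : N5080 = N1506 := eqes L41690 L14990
theorem L41692 : N5080 = N1506 := eqc rfl L41691 rfl
theorem L41693 : sm gc N2828 = N4674 := trfs L41687 L25676 rfl
theorem L41694 : N4674 = N2899 := eqes L41693 L15431
theorem L41695 : N4674 = N2899 := eqc rfl L41694 rfl
theorem L41700 : sm gf N2828 = N5216 := trfs L41687 L28746 rfl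
theorem L41701 : N5216 = N5079 := eqes L41700 L27983
theorem L41702 : N5216 = N5079 := eqc rfl L41701 rfl
theorem L41705 : sm ge N5079 = N5214 := trfs L41702 L28748 rfl
theorem L41706 : N5214 = N4673 := eqes L41705 L27987
theorem L41707 : N5214 = N4673 := eqc rfl L41706 rfl
theorem L41708 : sm gg N5079 = N5201 := trfs L41702 L28750 rfl
theorem L41709 : sm gg N5201 = N5079 := flp_g L41708
theorem L41711 : sm gg N4673 = N2906 := trfs L41707 L28739 rfl
theorem L41712 : sm gg N2906 = N4673 := flp_g L41711
theorem L41718 : sm gg N2899 = N2548 := trfs L41695 L25674 rfl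
theorem L41719 : sm gg N2548 = N2899 := flp_g L41718
theorem L41720 : sm gg N1506 = N2828 := trfs L41692 L27990 rfl
theorem L41721 : sm gg N2828 = N1506 := flp_g L41720
theorem L41723 : sm gg N1521 = N2846 := trfs L41647 L28181 rfl
theorem L41724 : sm gg N2846 = N1521 := flp_g L41723
theorem L41725 : sm ga N5108 = N3261 := trfs L41630 L28997 L41363
theorem L41726 : N3261 = N5076 := eqes L41725 L28163
theorem L41727 : N5076 = N3261 := (eqc rfl L41726 rfl).symm
theorem L41728 : sm gd N5108 = N2935 := trfs L41630 L28996 rfl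
theorem L41729 : sm gd N2935 = N5108 := flp_d L41728
theorem L41730 : sm ga N3261 = N5108 := trfs L41727 L28164 rfl
theorem L41731 : N5108 = N5452 := eqes L41730 L30041
theorem L41732 : N5452 = N5108 := (eqc rfl L41731 rfl).symm
theorem L41733 : sm gb N3261 = N2830 := trfs L41727 L27963 rfl
theorem L41734 : sm gb N2830 = N3261 := flp_b L41733
theorem L41740 : sm gg N3261 = N2825 := trfs L41727 L27962 rfl
theorem L41741 : N2825 = N3266 := eqes L41740 L17269
theorem L41742 : N3266 = N2825 := (eqc rfl L41741 rfl).symm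
theorem L41743 : sm ga N2825 = N5457 := trfs L41742 L30077 rfl
theorem L41744 : N5457 = N2845 := eqes L41743 L15109
theorem L41745 : N5457 = N2845 := eqc rfl L41744 rfl
theorem L41747 : sm gc N2825 = N1678 := trfs L41742 L17264 rfl
theorem L41748 : N1678 = N3418 := eqes L41747 L18047
theorem L41749 : N3418 = N1678 := (eqc rfl L41748 rfl).symm
theorem L41754 : sm gf N2825 = N1672 := trfs L41742 L17263 rfl
theorem L41755 : N1672 = N3413 := eqes L41754 L18002
theorem L41756 : N3413 = N1672 := (eqc rfl L41755 rfl).symm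
theorem L41757 : sm gg N2825 = N3261 := trfs L41742 L17268 rfl
theorem L41758 : sm gg N3261 = N2825 := flp_g L41757
theorem L41759 : sm ga N1672 = N3315 := trfs L41756 L17994 rfl
theorem L41760 : N3315 = N3028 := eqes L41759 L16119
theorem L41761 : N3315 = N3028 := eqc rfl L41760 rfl
theorem L41767 : sm gd N1672 = N6239 := trfs L41756 L33890 rfl
theorem L41768 : N6239 = N3265 := eqes L41767 L17260
theorem L41769 : N6239 = N3265 := eqc rfl L41768 rfl
theorem L41772 : sm gf N1672 = N2825 := trfs L41756 L18003 rfl
theorem L41773 : sm gf N2825 = N1672 := flp_f L41772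
theorem L41774 : sm gg N1672 = N1741 := trfs L41756 L17993 rfl
theorem L41775 : N1741 = N826 := eqes L41774 L8611
theorem L41776 : N1741 = N826 := eqc rfl L41775 rfl
theorem L41781 : sm gc N826 = N859 := trfs L41776 L8907 rfl
theorem L41782 : N859 = N418 := eqes L41781 L4254
theorem L41783 : N859 = N418 := eqc rfl L41782 rfl
theorem L41799 : sm gf N418 = N1743 := trfs L41783 L8916 rfl
theorem L41800 : N1743 = N828 := eqes L41799 L4257
theorem L41801 : N1743 = N828 := eqc rfl L41800 rfl
theorem L41806 : sm gb N828 = N2819 := trfs L41801 L14936 rfl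
theorem L41807 : N2819 = N1663 := eqes L41806 L8563
theorem L41808 : N2819 = N1663 := eqc rfl L41807 rfl
theorem L41814 : sm gg N828 = N2815 := trfs L41801 L14939 rfl
theorem L41815 : N2815 = N1676 := eqes L41814 L8626
theorem L41816 : N2815 = N1676 := eqc rfl L41815 rfl
theorem L41817 : sm ga N1676 = N3320 := trfs L41816 L17522 rfl
theorem L41818 : N3320 = N3032 := eqes L41817 L16143
theorem L41819 : N3320 = N3032 := eqc rfl L41818 rfl
theorem L41820 : sm gb N1676 = N1465 := trfs L41816 L14917 rfl
theorem L41821 : N1465 = N3245 := eqes L41820 L17171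
theorem L41822 : N3245 = N1465 := (eqc rfl L41821 rfl).symm
theorem L41825 : sm gd N1676 = N5061 := trfs L41816 L27889 rfl
theorem L41826 : N5061 = N3272 := eqes L41825 L17288
theorem L41827 : N5061 = N3272 := eqc rfl L41826 rfl
theorem L41829 : sm gf N1676 = N3416 := trfs L41816 L18033 rfl
theorem L41830 : N3416 = N1675 := eqes L41829 L8629
theorem L41831 : N3416 = N1675 := eqc rfl L41830 rfl
theorem L41832 : sm ga N1675 = N3318 := trfs L41831 L18024 rfl
theorem L41833 : N3318 = N3031 := eqes L41832 L16137
theorem L41834 : N3318 = N3031 := eqc rfl L41833 rfl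
theorem L41835 : sm gb N1675 = N2818 := trfs L41831 L18026 rfl
theorem L41836 : N2818 = N3244 := eqes L41835 L17165
theorem L41837 : N3244 = N2818 := (eqc rfl L41836 rfl).symm
theorem L41840 : sm gd N1675 = N6241 := trfs L41831 L33906 rfl
theorem L41841 : N6241 = N3271 := eqes L41840 L17286
theorem L41842 : N6241 = N3271 := eqc rfl L41841 rfl
theorem L41848 : sm gb N3271 = N5068 := trfs L41842 L33910 rfl
theorem L41849 : N5068 = N5916 := eqes L41848 L32336
theorem L41850 : N5916 = N5068 := (eqc rfl L41849 rfl).symm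
theorem L41851 : sm gb N5068 = N3271 := trfs L41850 L32335 rfl
theorem L41852 : sm gb N3271 = N5068 := flp_b L41851
theorem L41855 : sm ga N2818 = N5889 := trfs L41837 L32190 rfl
theorem L41856 : N5889 = N2881 := eqes L41855 L15326
theorem L41857 : N5889 = N2881 := eqc rfl L41856 rfl
theorem L41858 : sm gb N2818 = N1675 := trfs L41837 L17164 rfl
theorem L41859 : sm gb N1675 = N2818 := flp_b L41858
theorem L41863 : sm ge N2818 = N1664 := trfs L41837 L17166 rfl
theorem L41864 : N1664 = N3411 := eqes L41863 L17979
theorem L41865 : N3411 = N1664 := (eqc rfl L41864 rfl).symm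
theorem L41867 : sm gg N2818 = N1662 := trfs L41837 L17163 rfl
theorem L41868 : N1662 = N3410 := eqes L41867 L17968
theorem L41869 : N3410 = N1662 := (eqc rfl L41868 rfl).symm
theorem L41870 : sm ga N1662 = N4780 := trfs L41869 L26148 rfl
theorem L41871 : N4780 = N3233 := eqes L41870 L17107
theorem L41872 : N4780 = N3233 := eqc rfl L41871 rfl
theorem L41874 : sm gc N1662 = N2822 := trfs L41869 L17966 rfl
theorem L41875 : N2822 = N3239 := eqes L41874 L17139
theorem L41876 : N3239 = N2822 := (eqc rfl L41875 rfl).symm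
theorem L41877 : sm gd N1662 = N2871 := trfs L41869 L17970 rfl
theorem L41878 : N2871 = N3242 := eqes L41877 L17148
theorem L41879 : N3242 = N2871 := (eqc rfl L41878 rfl).symm
theorem L41881 : sm gf N1662 = N5067 := trfs L41869 L27913 rfl
theorem L41882 : N5067 = N3243 := eqes L41881 L17156
theorem L41883 : N5067 = N3243 := eqc rfl L41882 rfl
theorem L41884 : sm gg N1662 = N2818 := trfs L41869 L17969 rfl
theorem L41885 : sm gg N2818 = N1662 := flp_g L41884
theorem L41886 : sm ga N3243 = N5151 := trfs L41883 L28390 rfl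
theorem L41887 : N5151 = N5888 := eqes L41886 L32182
theorem L41888 : N5888 = N5151 := (eqc rfl L41887 rfl).symm
theorem L41890 : sm gc N3243 = N2821 := trfs L41883 L27909 rfl
theorem L41891 : N2821 = N5906 := eqes L41890 L32278
theorem L41892 : N5906 = N2821 := (eqc rfl L41891 rfl).symm
theorem L41893 : sm gd N3243 = N5149 := trfs L41883 L28380 rfl
theorem L41894 : N5149 = N5915 := eqes L41893 L32329
theorem L41895 : N5915 = N5149 := (eqc rfl L41894 rfl).symm
theorem L41897 : sm gg N3243 = N2817 := trfs L41883 L27906 rfl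
theorem L41898 : N2817 = N3247 := eqes L41897 L17187
theorem L41899 : N3247 = N2817 := (eqc rfl L41898 rfl).symm
theorem L41900 : sm ga N2817 = N5892 := trfs L41899 L32214 rfl
theorem L41901 : N5892 = N2872 := eqes L41900 L15270
theorem L41902 : N5892 = N2872 := eqc rfl L41901 rfl
theorem L41908 : sm gd N2817 = N5921 := trfs L41899 L32355 rfl
theorem L41909 : N5921 = N5066 := eqes L41908 L27903
theorem L41910 : N5921 = N5066 := eqc rfl L41909 rfl
theorem L41914 : sm gg N2817 = N3243 := trfs L41899 L17186 rfl
theorem L41915 : sm gg N3243 = N2817 := flp_g L41914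
theorem L41916 : sm gb N5066 = N3276 := trfs L41910 L32357 rfl
theorem L41917 : N3276 = N6245 := eqes L41916 L33933
theorem L41918 : N6245 = N3276 := (eqc rfl L41917 rfl).symm
theorem L41919 : sm ga N3276 = N5116 := trfs L41918 L33930 rfl
theorem L41920 : N5116 = N5467 := eqes L41919 L30139
theorem L41921 : N5467 = N5116 := (eqc rfl L41920 rfl).symm
theorem L41922 : sm gb N3276 = N5066 := trfs L41918 L33932 rfl
theorem L41923 : sm gb N5066 = N3276 := flp_b L41922
theorem L41925 : sm ga N5116 = N3276 := trfs L41921 L30138 rfl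
theorem L41926 : sm ga N3276 = N5116 := flp_a L41925
theorem L41927 : sm gd N5116 = N3034 := trfs L41921 L30137 rfl
theorem L41928 : N3034 = N2851 := eqes L41927 L28224
theorem L41929 : N3034 = N2851 := eqc rfl L41928 rfl
theorem L41938 : sm gf N2851 = N1565 := trfs L41929 L16153 rfl
theorem L41939 : N1565 = N1698 := eqes L41938 L15193
theorem L41940 : N1698 = N1565 := (eqc rfl L41939 rfl).symm
theorem L41941 : sm gg N2851 = N3030 := trfs L41929 L16158 rfl
theorem L41942 : N3030 = N3317 := eqes L41941 L17508
theorem L41943 : N3317 = N3030 := (eqc rfl L41942 rfl).symm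
theorem L41945 : sm gb N3030 = N2841 := trfs L41943 L17503 rfl
theorem L41946 : N2841 = N5438 := eqes L41945 L29971
theorem L41947 : N5438 = N2841 := (eqc rfl L41946 rfl).symm
theorem L41950 : sm gd N3030 = N6053 := trfs L41943 L32966 rfl
theorem L41951 : N6053 = N5461 := eqes L41950 L30108
theorem L41952 : N6053 = N5461 := eqc rfl L41951 rfl
theorem L41954 : sm gf N3030 = N1696 := trfs L41943 L17502 rfl
theorem L41955 : N1696 = N1563 := eqes L41954 L16129
theorem L41956 : N1696 = N1563 := eqc rfl L41955 rfl
theorem L41957 : sm gg N3030 = N2851 := trfs L41943 L17507 rfl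
theorem L41958 : sm gg N2851 = N3030 := flp_g L41957
theorem L41960 : sm gb N1563 = N3310 := trfs L41956 L17448 rfl
theorem L41961 : N3310 = N3020 := eqes L41960 L16075
theorem L41962 : N3310 = N3020 := eqc rfl L41961 rfl
theorem L41963 : sm gc N1563 = N3313 := trfs L41956 L17480 rfl
theorem L41964 : N3313 = N3026 := eqes L41963 L16109
theorem L41965 : N3313 = N3026 := eqc rfl L41964 rfl
theorem L42005 : sm gb N3026 = N5113 := trfs L41965 L28202 rfl
theorem L42006 : N5113 = N5448 := eqes L42005 L30023
theorem L42007 : N5448 = N5113 := (eqc rfl L42006 rfl).symm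
theorem L42014 : sm gg N3026 = N5074 := trfs L41965 L27954 rfl
theorem L42015 : N5074 = N5453 := eqes L42014 L30046
theorem L42016 : N5453 = N5074 := (eqc rfl L42015 rfl).symm
theorem L42022 : sm gf N5074 = N5455 := trfs L42016 L30066 rfl
theorem L42023 : N5455 = N2824 := eqes L42022 L27946
theorem L42024 : N5455 = N2824 := eqc rfl L42023 rfl
theorem L42025 : sm gg N5074 = N3026 := trfs L42016 L30047 rfl
theorem L42026 : sm gg N3026 = N5074 := flp_g L42025
theorem L42031 : sm gg N2824 = N3027 := trfs L42024 L30061 rfl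
theorem L42032 : N3027 = N3314 := eqes L42031 L17487
theorem L42033 : N3314 = N3027 := (eqc rfl L42032 rfl).symm
theorem L42035 : sm gb N3027 = N5091 := trfs L42033 L28054 rfl
theorem L42036 : N5091 = N5449 := eqes L42035 L30027
theorem L42037 : N5449 = N5091 := (eqc rfl L42036 rfl).symm
theorem L42039 : sm gd N3027 = N6051 := trfs L42033 L32954 rfl
theorem L42040 : N6051 = N5454 := eqes L42039 L30054
theorem L42041 : N6051 = N5454 := eqc rfl L42040 rfl
theorem L42045 : sm gg N3027 = N2824 := trfs L42033 L17488 rfl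
theorem L42046 : sm gg N2824 = N3027 := flp_g L42045
theorem L42048 : sm gb N5454 = N5089 := trfs L42041 L32958 rfl
theorem L42049 : sm gb N5089 = N5454 := flp_b L42048
theorem L42051 : sm gb N5091 = N3027 := trfs L42037 L30026 rfl
theorem L42052 : sm gb N3027 = N5091 := flp_b L42051
theorem L42053 : sm gf N5091 = N3025 := trfs L42037 L30025 rfl
theorem L42054 : N3025 = N3312 := eqes L42053 L28059
theorem L42055 : N3312 = N3025 := (eqc rfl L42054 rfl).symm
theorem L42056 : sm ga N3025 = N2917 := trfs L42055 L17474 rfl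
theorem L42057 : N2917 = N5447 := eqes L42056 L30016
theorem L42058 : N5447 = N2917 := (eqc rfl L42057 rfl).symm
theorem L42060 : sm gc N3025 = N2849 := trfs L42055 L17471 rfl
theorem L42061 : N2849 = N5433 := eqes L42060 L29953
theorem L42062 : N5433 = N2849 := (eqc rfl L42061 rfl).symm
theorem L42066 : sm gf N3025 = N5091 := trfs L42055 L28060 rfl
theorem L42067 : sm gf N5091 = N3025 := flp_f L42066
theorem L42068 : sm gg N3025 = N2847 := trfs L42055 L17476 rfl
theorem L42069 : N2847 = N5450 := eqes L42068 L30028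
theorem L42070 : N5450 = N2847 := (eqc rfl L42069 rfl).symm
theorem L42073 : sm gg N2847 = N3025 := trfs L42070 L30029 rfl
theorem L42074 : sm gg N3025 = N2847 := flp_g L42073
theorem L42075 : sm gb N2849 = N3019 := trfs L42062 L29951 rfl
theorem L42076 : N3019 = N2856 := eqes L42075 L15182
theorem L42077 : N3019 = N2856 := eqc rfl L42076 rfl
theorem L42078 : sm gc N2849 = N3025 := trfs L42062 L29952 rfl
theorem L42079 : sm gc N3025 = N2849 := flp_c L42078
theorem L42083 : sm gc N2856 = N1560 := trfs L42077 L16071 rfl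
theorem L42084 : N1560 = N1694 := eqes L42083 L15188
theorem L42085 : N1694 = N1560 := (eqc rfl L42084 rfl).symm
theorem L42092 : sm gf N2856 = N5436 := trfs L42077 L29960 rfl
theorem L42093 : N5436 = N2842 := eqes L42092 L15186
theorem L42094 : N5436 = N2842 := eqc rfl L42093 rfl
theorem L42095 : sm gg N2856 = N5437 := trfs L42077 L29964 rfl
theorem L42096 : N5437 = N1484 := eqes L42095 L15178
theorem L42097 : N5437 = N1484 := eqc rfl L42096 rfl
theorem L42101 : sm gc N1484 = N3022 := trfs L42097 L29966 rfl
theorem L42102 : N3022 = N2854 := eqes L42101 L15166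
theorem L42103 : N3022 = N2854 := eqc rfl L42102 rfl
theorem L42110 : sm ge N2854 = N5439 := trfs L42103 L29979 rfl
theorem L42111 : N5439 = N5121 := eqes L42110 L28258
theorem L42112 : N5439 = N5121 := eqc rfl L42111 rfl
theorem L42121 : sm gf N5121 = N5440 := trfs L42112 L29984 rfl
theorem L42122 : N5440 = N2853 := eqes L42121 L28250
theorem L42123 : N5440 = N2853 := eqc rfl L42122 rfl
theorem L42130 : sm gg N2853 = N3021 := trfs L42123 L29981 rfl
theorem L42131 : N3021 = N3311 := eqes L42130 L17464
theorem L42132 : N3311 = N3021 := (eqc rfl L42131 rfl).symm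
theorem L42138 : sm gd N3021 = N2634 := trfs L42132 L17465 rfl
theorem L42139 : N2634 = N5367 := eqes L42138 L29567
theorem L42140 : N5367 = N2634 := (eqc rfl L42139 rfl).symm
theorem L42144 : sm gg N3021 = N2853 := trfs L42132 L17463 rfl
theorem L42145 : sm gg N2853 = N3021 := flp_g L42144
theorem L42146 : sm ga N2634 = N5717 := trfs L42140 L31352 rfl
theorem L42147 : N5717 = N4601 := eqes L42146 L25250
theorem L42148 : N5717 = N4601 := eqc rfl L42147 rfl
theorem L42149 : sm gb N2634 = N2990 := trfs L42140 L29564 rfl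
theorem L42150 : N2990 = N3319 := eqes L42149 L17516
theorem L42151 : N3319 = N2990 := (eqc rfl L42150 rfl).symm
theorem L42152 : sm gd N2634 = N3021 := trfs L42140 L29566 rfl
theorem L42153 : sm gd N3021 = N2634 := flp_d L42152
theorem L42154 : sm gf N2634 = N2986 := trfs L42140 L29563 rfl
theorem L42155 : N2986 = N1346 := eqes L42154 L13849
theorem L42156 : N2986 = N1346 := eqc rfl L42155 rfl
theorem L42157 : sm ga N1346 = N3154 := trfs L42156 L16761 rfl
theorem L42158 : N3154 = N2516 := eqes L42157 L13304
theorem L42159 : N3154 = N2516 := eqc rfl L42158 rfl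
theorem L42160 : sm gb N1346 = N1545 := trfs L42156 L15874 rfl
theorem L42161 : N1545 = N1701 := eqes L42160 L8717
theorem L42162 : N1701 = N1545 := (eqc rfl L42161 rfl).symm
theorem L42166 : sm gd N1346 = N1544 := trfs L42156 L15873 rfl
theorem L42167 : N1544 = N669 := eqes L42166 L6910
theorem L42168 : N1544 = N669 := eqc rfl L42167 rfl
theorem L42169 : sm ge N1346 = N5366 := trfs L42156 L29558 rfl
theorem L42170 : N5366 = N2633 := eqes L42169 L13846
theorem L42171 : N5366 = N2633 := eqc rfl L42170 rfl
theorem L42172 : sm gg N1346 = N5368 := trfs L42156 L29568 rfl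
theorem L42173 : N5368 = N2626 := eqes L42172 L13828
theorem L42174 : N5368 = N2626 := eqc rfl L42173 rfl
theorem L42175 : sm ga N2626 = N5718 := trfs L42174 L31360 rfl
theorem L42176 : N5718 = N4595 := eqes L42175 L25224
theorem L42177 : N5718 = N4595 := eqc rfl L42176 rfl
theorem L42178 : sm gb N2626 = N2991 := trfs L42174 L29570 rfl
theorem L42179 : N2991 = N3327 := eqes L42178 L17570
theorem L42180 : N3327 = N2991 := (eqc rfl L42179 rfl).symm
theorem L42184 : sm gb N2991 = N2626 := trfs L42180 L17569 rfl
theorem L42185 : sm gb N2626 = N2991 := flp_b L42184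
theorem L42189 : sm gd N2991 = N2620 := trfs L42180 L17571 rfl
theorem L42190 : N2620 = N5378 := eqes L42189 L29622
theorem L42191 : N5378 = N2620 := (eqc rfl L42190 rfl).symm
theorem L42192 : sm ge N2991 = N6068 := trfs L42180 L33044 rfl
theorem L42193 : N6068 = N5376 := eqes L42192 L29615
theorem L42194 : N6068 = N5376 := eqc rfl L42193 rfl
theorem L42195 : sm gf N2991 = N6069 := trfs L42180 L33047 rfl
theorem L42196 : N6069 = N5379 := eqes L42195 L29628
theorem L42197 : N6069 = N5379 := eqc rfl L42196 rfl
theorem L42202 : sm gb N5379 = N4823 := trfs L42197 L33049 rfl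
theorem L42204 : sm ge N5379 = N6057 := trfs L42197 L33051 rfl
theorem L42205 : N6057 = N5377 := eqes L42204 L29632
theorem L42206 : N6057 = N5377 := eqc rfl L42205 rfl
theorem L42207 : sm gg N5379 = N6056 := trfs L42197 L33053 rfl
theorem L42208 : N6056 = N5375 := eqes L42207 L29634
theorem L42209 : N6056 = N5375 := eqc rfl L42208 rfl
theorem L42213 : sm gb N5375 = N4837 := trfs L42209 L32978 rfl
theorem L42214 : sm gb N4837 = N5375 := flp_b L42213
theorem L42216 : sm gf N5375 = N3326 := trfs L42209 L32980 rfl
theorem L42217 : N3326 = N2989 := eqes L42216 L29605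
theorem L42218 : N3326 = N2989 := eqc rfl L42217 rfl
theorem L42227 : sm gd N2989 = N6062 := trfs L42218 L33014 rfl
theorem L42228 : N6062 = N5374 := eqes L42227 L29598
theorem L42229 : N6062 = N5374 := eqc rfl L42228 rfl
theorem L42238 : sm ge N5374 = N3324 := trfs L42229 L33010 rfl
theorem L42239 : N3324 = N2992 := eqes L42238 L29602
theorem L42240 : N3324 = N2992 := eqc rfl L42239 rfl
theorem L42256 : sm gg N2992 = N6063 := trfs L42240 L33015 rfl
theorem L42257 : N6063 = N5382 := eqes L42256 L29646
theorem L42258 : N6063 = N5382 := eqc rfl L42257 rfl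
theorem L42262 : sm gb N5382 = N4828 := trfs L42258 L33019 rfl
theorem L42263 : N4828 = N5704 := eqes L42262 L31286
theorem L42264 : N5704 = N4828 := (eqc rfl L42263 rfl).symm
theorem L42278 : sm ga N4828 = N3153 := trfs L42264 L31283 rfl
theorem L42279 : N3153 = N6218 := eqes L42278 L33778
theorem L42280 : N6218 = N3153 := (eqc rfl L42279 rfl).symm
theorem L42287 : sm gd N3153 = N4598 := trfs L42280 L33781 rfl
theorem L42288 : N4598 = N5714 := eqes L42287 L31331
theorem L42289 : N5714 = N4598 := (eqc rfl L42288 rfl).symm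
theorem L42290 : sm gg N3153 = N3400 := trfs L42280 L33776 rfl
theorem L42291 : N3400 = N1622 := eqes L42290 L16755
theorem L42292 : N3400 = N1622 := eqc rfl L42291 rfl
theorem L42301 : sm gd N1622 = N1734 := trfs L42292 L17909 rfl
theorem L42302 : N1734 = N806 := eqes L42301 L8373
theorem L42303 : N1734 = N806 := eqc rfl L42302 rfl
theorem L42307 : sm gf N1622 = N5069 := trfs L42292 L27924 rfl
theorem L42308 : N5069 = N3152 := eqes L42307 L16748
theorem L42309 : N5069 = N3152 := eqc rfl L42308 rfl
theorem L42310 : sm ga N3152 = N4832 := trfs L42309 L27919 rfl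
theorem L42311 : N4832 = N5703 := eqes L42310 L31276
theorem L42312 : N5703 = N4832 := (eqc rfl L42311 rfl).symm
theorem L42319 : sm gd N4832 = N3234 := trfs L42312 L31279 rfl
theorem L42320 : N3234 = N2882 := eqes L42319 L26450
theorem L42321 : N3234 = N2882 := eqc rfl L42320 rfl
theorem L42331 : sm gf N2882 = N1659 := trfs L42321 L17113 rfl
theorem L42332 : N1659 = N2601 := eqes L42331 L15335
theorem L42333 : N2601 = N1659 := (eqc rfl L42332 rfl).symm
theorem L42343 : sm gc N1659 = N2884 := trfs L42333 L15352 rfl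
theorem L42344 : N2884 = N3232 := eqes L42343 L17100
theorem L42345 : N3232 = N2884 := (eqc rfl L42344 rfl).symm
theorem L42346 : sm gd N1659 = N1330 := trfs L42333 L13689 rfl
theorem L42347 : N1330 = N822 := eqes L42346 L8539
theorem L42348 : N1330 = N822 := eqc rfl L42347 rfl
theorem L42350 : sm gf N1659 = N2882 := trfs L42333 L15336 rfl
theorem L42351 : sm gf N2882 = N1659 := flp_f L42350
theorem L42352 : sm gg N1659 = N4775 := trfs L42333 L26116 rfl
theorem L42353 : N4775 = N3235 := eqes L42352 L17118
theorem L42354 : N4775 = N3235 := eqc rfl L42353 rfl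
theorem L42357 : sm gc N3235 = N2873 := trfs L42354 L26118 rfl
theorem L42358 : N2873 = N5887 := eqes L42357 L32178
theorem L42359 : N5887 = N2873 := (eqc rfl L42358 rfl).symm
theorem L42360 : sm gd N3235 = N2599 := trfs L42354 L26110 rfl
theorem L42361 : N2599 = N5891 := eqes L42360 L32203
theorem L42362 : N5891 = N2599 := (eqc rfl L42361 rfl).symm
theorem L42371 : sm gd N2599 = N3235 := trfs L42362 L32204 rfl
theorem L42373 : sm gg N2599 = N3236 := trfs L42362 L32209 rfl
theorem L42374 : N3236 = N1328 := eqes L42373 L13683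
theorem L42375 : N3236 = N1328 := eqc rfl L42374 rfl
theorem L42380 : sm gc N1328 = N5893 := trfs L42375 L32221 rfl
theorem L42381 : N5893 = N2596 := eqes L42380 L13674
theorem L42382 : N5893 = N2596 := eqc rfl L42381 rfl
theorem L42383 : sm gd N1328 = N1660 := trfs L42375 L17125 rfl
theorem L42384 : N1660 = N661 := eqes L42383 L6809
theorem L42385 : N1660 = N661 := eqc rfl L42384 rfl
theorem L42389 : sm gf N1328 = N5895 := trfs L42375 L32233 rfl
theorem L42390 : N5895 = N2598 := eqes L42389 L13678
theorem L42391 : N5895 = N2598 := eqc rfl L42390 rfl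
theorem L42394 : sm gb N2598 = N5477 := trfs L42391 L32237 rfl
theorem L42395 : N5477 = N4764 := eqes L42394 L26062
theorem L42396 : N5477 = N4764 := eqc rfl L42395 rfl
theorem L42399 : sm gd N4764 = N5385 := trfs L42396 L30199 rfl
theorem L42400 : N5385 = N2619 := eqes L42399 L26063
theorem L42401 : N5385 = N2619 := eqc rfl L42400 rfl
theorem L42403 : sm ga N2619 = N3172 := trfs L42401 L29660 rfl
theorem L42404 : N3172 = N4808 := eqes L42403 L26316
theorem L42405 : N4808 = N3172 := (eqc rfl L42404 rfl).symm
theorem L42412 : sm gg N2619 = N3211 := trfs L42401 L29663 rfl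
theorem L42413 : N3211 = N1606 := eqes L42412 L13789
theorem L42414 : N3211 = N1606 := eqc rfl L42413 rfl
theorem L42428 : sm gf N1606 = N5833 := trfs L42414 L31910 rfl
theorem L42429 : N5833 = N3118 := eqes L42428 L16575
theorem L42430 : N5833 = N3118 := eqc rfl L42429 rfl
theorem L42438 : sm gg N3118 = N5384 := trfs L42430 L31914 rfl
theorem L42439 : N5384 = N2618 := eqes L42438 L16578
theorem L42440 : N5384 = N2618 := eqc rfl L42439 rfl
theorem L42441 : sm ga N2618 = N3171 := trfs L42440 L29656 rfl
theorem L42442 : N3171 = N4807 := eqes L42441 L26308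
theorem L42443 : N4807 = N3171 := (eqc rfl L42442 rfl).symm
theorem L42444 : sm gc N2618 = N5835 := trfs L42440 L31930 rfl
theorem L42445 : N5835 = N3120 := eqes L42444 L16595
theorem L42446 : N5835 = N3120 := eqc rfl L42445 rfl
theorem L42454 : sm ga N3120 = N5755 := trfs L42446 L31927 rfl
theorem L42455 : N5755 = N5343 := eqes L42454 L29437
theorem L42456 : N5755 = N5343 := eqc rfl L42455 rfl
theorem L42457 : sm ge N3120 = N5383 := trfs L42446 L31931 rfl
theorem L42458 : N5383 = N2617 := eqes L42457 L16596
theorem L42459 : N5383 = N2617 := eqc rfl L42458 rfl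
theorem L42460 : sm gf N3120 = N5847 := trfs L42446 L31981 rfl
theorem L42461 : N5847 = N3124 := eqes L42460 L16618
theorem L42462 : N5847 = N3124 := eqc rfl L42461 rfl
theorem L42465 : sm gg N3124 = N3212 := trfs L42462 L31978 rfl
theorem L42466 : N3212 = N1607 := eqes L42465 L16614
theorem L42467 : N3212 = N1607 := eqc rfl L42466 rfl
theorem L42468 : sm ga N1607 = N5419 := trfs L42467 L29855 rfl
theorem L42469 : N5419 = N2976 := eqes L42468 L15811
theorem L42470 : N5419 = N2976 := eqc rfl L42469 rfl
theorem L42477 : sm gf N1607 = N5834 := trfs L42467 L31922 rfl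
theorem L42478 : N5834 = N3119 := eqes L42477 L16588
theorem L42479 : N5834 = N3119 := eqc rfl L42478 rfl
theorem L42480 : sm ga N3119 = N5743 := trfs L42479 L31917 rfl
theorem L42481 : N5743 = N5342 := eqes L42480 L29425
theorem L42482 : N5743 = N5342 := eqc rfl L42481 rfl
theorem L42486 : sm gc N5342 = N3165 := trfs L42482 L31466 rfl
theorem L42487 : N3165 = N4809 := eqes L42486 L29428
theorem L42488 : N4809 = N3165 := (eqc rfl L42487 rfl).symm
theorem L42493 : sm gg N5342 = N3170 := trfs L42482 L31467 rfl
theorem L42494 : N3170 = N4806 := eqes L42493 L29433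
theorem L42495 : N4806 = N3170 := (eqc rfl L42494 rfl).symm
theorem L42498 : sm gb N3170 = N5324 := trfs L42495 L29307 rfl
theorem L42499 : N5324 = N5753 := eqes L42498 L31515
theorem L42500 : N5753 = N5324 := (eqc rfl L42499 rfl).symm
theorem L42506 : sm gf N3170 = N2977 := trfs L42495 L26304 rfl
theorem L42507 : N2977 = N5420 := eqes L42506 L29862
theorem L42508 : N5420 = N2977 := (eqc rfl L42507 rfl).symm
theorem L42509 : sm gg N3170 = N5342 := trfs L42495 L29432 rfl
theorem L42517 : sm gf N2977 = N3170 := trfs L42508 L29863 rfl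
theorem L42518 : sm gf N3170 = N2977 := flp_f L42517
theorem L42519 : sm gg N2977 = N3010 := trfs L42508 L29857 rfl
theorem L42520 : N3010 = N1537 := eqes L42519 L15817
theorem L42521 : N3010 = N1537 := eqc rfl L42520 rfl
theorem L42523 : sm gb N1537 = N5404 := trfs L42521 L29773 rfl
theorem L42524 : N5404 = N1533 := eqes L42523 L7900
theorem L42525 : N5404 = N1533 := eqc rfl L42524 rfl
theorem L42531 : sm gd N1533 = N3004 := trfs L42525 L29769 rfl
theorem L42532 : N3004 = N765 := eqes L42531 L7881
theorem L42533 : N3004 = N765 := eqc rfl L42532 rfl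
theorem L42547 : sm gg N765 = N1704 := trfs L42533 L15986 rfl
theorem L42548 : N1704 = N387 := eqes L42547 L3926
theorem L42549 : N1704 = N387 := eqc rfl L42548 rfl
theorem L42563 : sm gf N387 = N842 := trfs L42549 L8731 rfl
theorem L42564 : N842 = N195 := eqes L42563 L2011
theorem L42565 : N842 = N195 := eqc rfl L42564 rfl
theorem L42579 : sm gg N195 = N1640 := trfs L42565 L8455 rfl
theorem L42580 : N1640 = N388 := eqes L42579 L2016
theorem L42581 : N1640 = N388 := eqc rfl L42580 rfl
theorem L42589 : sm gd N388 = N3190 := trfs L42581 L16914 rfl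
theorem L42590 : N3190 = N766 := eqes L42589 L3933
theorem L42591 : N3190 = N766 := eqc rfl L42590 rfl
theorem L42609 : sm gg N766 = N5795 := trfs L42591 L31723 rfl
theorem L42610 : N5795 = N1529 := eqes L42609 L7867
theorem L42611 : N5795 = N1529 := eqc rfl L42610 rfl
theorem L42618 : sm gd N1529 = N3333 := trfs L42611 L31729 rfl
theorem L42619 : N3333 = N763 := eqes L42618 L7861
theorem L42620 : N3333 = N763 := eqc rfl L42619 rfl
theorem L42631 : sm gf N763 = N6082 := trfs L42620 L33131 rfl
theorem L42632 : N6082 = N765 := eqes L42631 L3931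
theorem L42633 : N6082 = N765 := eqc rfl L42632 rfl
theorem L42642 : sm gg N765 = N6078 := trfs L42633 L33139 rfl
theorem L42643 : N6078 = N387 := eqes L42642 L3926
theorem L42644 : N6078 = N387 := eqc rfl L42643 rfl
theorem L42655 : sm gf N387 = N3331 := trfs L42644 L33100 rfl
theorem L42656 : N3331 = N195 := eqes L42655 L2011
theorem L42657 : N3331 = N195 := eqc rfl L42656 rfl
theorem L42667 : sm gd N195 = N3049 := trfs L42657 L17597 rfl
theorem L42668 : N3049 = N386 := eqes L42667 L1999
theorem L42669 : N3049 = N386 := eqc rfl L42668 rfl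
theorem L42687 : sm gg N386 = N5501 := trfs L42669 L30329 rfl
theorem L42688 : N5501 = N763 := eqes L42687 L3911
theorem L42689 : N5501 = N763 := eqc rfl L42688 rfl
theorem L42702 : sm gf N763 = N5503 := trfs L42689 L30345 rfl
theorem L42703 : N5503 = N765 := eqes L42702 L3931
theorem L42704 : N5503 = N765 := eqc rfl L42703 rfl
theorem L42714 : sm gg N765 = N3050 := trfs L42704 L30342 rfl
theorem L42715 : N3050 = N387 := eqes L42714 L3926
theorem L42716 : N3050 = N387 := eqc rfl L42715 rfl
theorem L42726 : sm gd N387 = N5502 := trfs L42716 L30335 rfl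
theorem L42727 : N5502 = N764 := eqes L42726 L3921
theorem L42728 : N5502 = N764 := eqc rfl L42727 rfl
theorem L42735 : sm gf N764 = N3052 := trfs L42728 L30339 rfl
theorem L42736 : N3052 = N1528 := eqes L42735 L7859
theorem L42737 : N3052 = N1528 := eqc rfl L42736 rfl
theorem L42749 : sm gg N1528 = N5507 := trfs L42737 L30361 rfl
theorem L42750 : N5507 = N2954 := eqes L42749 L15676
theorem L42751 : N5507 = N2954 := eqc rfl L42750 rfl
theorem L42752 : sm ga N2954 = N6121 := trfs L42751 L33344 rfl
theorem L42753 : N6121 = N1585 := eqes L42752 L15678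
theorem L42754 : N6121 = N1585 := eqc rfl L42753 rfl
theorem L42759 : sm gd N1585 = N5812 := trfs L42754 L33347 rfl
theorem L42760 : N5812 = N1608 := eqes L42759 L8297
theorem L42761 : N5812 = N1608 := eqc rfl L42760 rfl
theorem L42764 : sm gg N1608 = N3196 := trfs L42761 L31814 rfl
theorem L42765 : N3196 = N799 := eqes L42764 L8294
theorem L42766 : N3196 = N799 := eqc rfl L42765 rfl
theorem L42776 : sm gf N799 = N5804 := trfs L42766 L31774 rfl
theorem L42777 : N5804 = N1604 := eqes L42776 L8278
theorem L42778 : N5804 = N1604 := eqc rfl L42777 rfl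
theorem L42780 : sm gd N1604 = N3193 := trfs L42778 L31770 rfl
theorem L42781 : N3193 = N798 := eqes L42780 L8275
theorem L42782 : N3193 = N798 := eqc rfl L42781 rfl
theorem L42785 : sm gc N798 = N5799 := trfs L42782 L31744 rfl
theorem L42786 : N5799 = N1602 := eqes L42785 L8266
theorem L42787 : N5799 = N1602 := eqc rfl L42786 rfl
theorem L42796 : sm gf N1602 = N3191 := trfs L42787 L31742 rfl
theorem L42797 : N3191 = N796 := eqes L42796 L8264
theorem L42798 : N3191 = N796 := eqc rfl L42797 rfl
theorem L42800 : sm gb N796 = N5796 := trfs L42798 L31731 rfl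
theorem L42801 : N5796 = N1599 := eqes L42800 L8254
theorem L42802 : N5796 = N1599 := eqc rfl L42801 rfl
theorem L42815 : sm gc N1599 = N3197 := trfs L42802 L31733 rfl
theorem L42816 : N3197 = N1599 := eqes L42815 L8256
theorem L42817 : N3197 = N1599 := eqc rfl L42816 rfl
theorem L42833 : sm gg N1599 = N5817 := trfs L42817 L31831 rfl
theorem L42834 : N5817 = N3078 := eqes L42833 L16388
theorem L42835 : N5817 = N3078 := eqc rfl L42834 rfl
theorem L42836 : sm gb N3078 = N3201 := trfs L42835 L31833 rfl
theorem L42837 : N3201 = N1586 := eqes L42836 L16386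
theorem L42838 : N3201 = N1586 := eqc rfl L42837 rfl
theorem L42839 : sm ga N1586 = N5408 := trfs L42838 L29791 rfl
theorem L42840 : N5408 = N2955 := eqes L42839 L15685
theorem L42841 : N5408 = N2955 := eqc rfl L42840 rfl
theorem L42852 : sm gg N2955 = N3005 := trfs L42841 L29789 rfl
theorem L42853 : N3005 = N1534 := eqes L42852 L15686
theorem L42854 : N3005 = N1534 := eqc rfl L42853 rfl
theorem L42862 : sm gd N1534 = N3109 := trfs L42854 L16542 rfl
theorem L42863 : N3109 = N2969 := eqes L42862 L15762
theorem L42864 : N3109 = N2969 := eqc rfl L42863 rfl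
theorem L42868 : sm gf N1534 = N5407 := trfs L42854 L29782 rfl
theorem L42869 : N5407 = N2971 := eqes L42868 L15772
theorem L42870 : N5407 = N2971 := eqc rfl L42869 rfl
theorem L42874 : sm gc N2971 = N3007 := trfs L42870 L29786 rfl
theorem L42875 : N3007 = N1536 := eqes L42874 L15776
theorem L42876 : N3007 = N1536 := eqc rfl L42875 rfl
theorem L42878 : sm gb N1536 = N5402 := trfs L42876 L29761 rfl
theorem L42879 : N5402 = N2957 := eqes L42878 L15703
theorem L42880 : N5402 = N2957 := eqc rfl L42879 rfl
theorem L42893 : sm gf N2957 = N3003 := trfs L42880 L29759 rfl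
theorem L42894 : N3003 = N1529 := eqes L42893 L15699
theorem L42895 : N3003 = N1529 := eqc rfl L42894 rfl
theorem L42896 : sm ga N1529 = N3195 := trfs L42895 L16939 rfl
theorem L42897 : N3195 = N791 := eqes L42896 L7862
theorem L42898 : N3195 = N791 := eqc rfl L42897 rfl
theorem L42933 : sm gd N791 = N1642 := trfs L42898 L16937 rfl
theorem L42934 : N1642 = N402 := eqes L42933 L4103
theorem L42935 : N1642 = N402 := eqc rfl L42934 rfl
theorem L42939 : sm gc N402 = N901 := trfs L42935 L8470 rfl
theorem L42940 : N901 = N206 := eqes L42939 L2118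
theorem L42941 : N901 = N206 := eqc rfl L42940 rfl
theorem L42960 : sm gg N206 = N499 := trfs L42941 L4609 rfl
theorem L42961 : N499 = N104 := eqes L42960 L1081
theorem L42962 : N499 = N104 := eqc rfl L42961 rfl
theorem L42970 : sm gd N104 = N996 := trfs L42962 L5081 rfl
theorem L42971 : N996 = N196 := eqes L42970 L1031
theorem L42972 : N996 = N196 := eqc rfl L42971 rfl
theorem L42976 : sm gf N104 = N997 := trfs L42962 L5087 rfl
theorem L42977 : N997 = N205 := eqes L42976 L1074
theorem L42978 : N997 = N205 := eqc rfl L42977 rfl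
theorem L42992 : sm gg N205 = N902 := trfs L42978 L5096 rfl
theorem L42993 : N902 = N210 := eqes L42992 L1111
theorem L42994 : N902 = N210 := eqc rfl L42993 rfl
theorem L43002 : sm gd N210 = N1819 := trfs L42994 L9328 rfl
theorem L43003 : N1819 = N416 := eqes L43002 L2184
theorem L43004 : N1819 = N416 := eqc rfl L43003 rfl
theorem L43007 : sm ga N416 = N3514 := trfs L43004 L18654 rfl
theorem L43008 : N3514 = N777 := eqes L43007 L4014
theorem L43009 : N3514 = N777 := eqc rfl L43008 rfl
theorem L43016 : sm ge N416 = N777 := trfs L43004 L18658 L43009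
theorem L43017 : N777 = N820 := eqes L43016 L4215
theorem L43018 : N820 = N777 := (eqc rfl L43017 rfl).symm
theorem L43022 : sm gg N416 = N3528 := trfs L43004 L18721 rfl
theorem L43023 : N3528 = N821 := eqes L43022 L4221
theorem L43024 : N3528 = N821 := eqc rfl L43023 rfl
theorem L43025 : sm ga N821 = N6358 := trfs L43024 L34676 rfl
theorem L43026 : N6358 = N1559 := eqes L43025 L8043
theorem L43027 : N6358 = N1559 := eqc rfl L43026 rfl
theorem L43028 : sm gb N821 = N1832 := trfs L43024 L18723 rfl
theorem L43029 : N1832 = N460 := eqes L43028 L4223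
theorem L43030 : N1832 = N460 := eqc rfl L43029 rfl
theorem L43037 : sm ge N821 = N1559 := trfs L43024 L34680 L43027
theorem L43038 : N1559 = N1657 := eqes L43037 L8527
theorem L43039 : N1559 = N1036 := eqc rfl L43038 L40408
theorem L43040 : sm gf N821 = N2077 := trfs L43024 L18726 rfl
theorem L43041 : N2077 = N1658 := eqes L43040 L8530
theorem L43042 : N2077 = N1658 := eqc rfl L43041 rfl
theorem L43058 : sm gg N1658 = N3917 := trfs L43042 L21207 rfl
theorem L43059 : N3917 = N1651 := eqes L43058 L8536
theorem L43060 : N3917 = N1651 := eqc rfl L43059 rfl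
theorem L43064 : sm gb N1651 = N2074 := trfs L43060 L21199 rfl
theorem L43065 : N2074 = N910 := eqes L43064 L8500
theorem L43066 : N2074 = N910 := eqc rfl L43065 rfl
theorem L43070 : sm gd N1651 = N3512 := trfs L43060 L21200 rfl
theorem L43071 : N3512 = N1738 := eqes L43070 L8895
theorem L43072 : N3512 = N1738 := eqc rfl L43071 rfl
theorem L43085 : sm ge N1738 = N6353 := trfs L43072 L34640 rfl
theorem L43086 : N6353 = N857 := eqes L43085 L8891
theorem L43087 : N6353 = N412 := eqc rfl L43086 L40624
theorem L43093 : sm gg N1738 = N6355 := trfs L43072 L34649 rfl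
theorem L43094 : N6355 = N2791 := eqes L43093 L14757
theorem L43095 : N6355 = N2791 := eqc rfl L43094 rfl
theorem L43109 : sm gf N2791 = N6354 := trfs L43095 L34654 rfl
theorem L43110 : N6354 = N3409 := eqes L43109 L17958
theorem L43111 : N6354 = N399 := eqc rfl L43110 L40582
theorem L43121 : sm gg N399 = N3511 := trfs L43111 L34644 rfl
theorem L43122 : N3511 = N775 := eqes L43121 L4004
theorem L43123 : N3511 = N775 := eqc rfl L43122 rfl
theorem L43133 : sm gd N775 = N3581 := trfs L43123 L19116 rfl
theorem L43134 : N3581 = N1542 := eqes L43133 L7939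
theorem L43135 : N3581 = N805 := eqc rfl L43134 L40557
theorem L43139 : sm ga N805 = N3520 := trfs L43135 L19107 rfl
theorem L43140 : N3520 = N1543 := eqes L43139 L7943
theorem L43141 : N3520 = N1543 := eqc rfl L43140 rfl
theorem L43142 : sm gb N805 = N1862 := trfs L43135 L19109 rfl
theorem L43143 : N1862 = N444 := eqes L43142 L4151
theorem L43144 : N1862 = N444 := eqc rfl L43143 rfl
theorem L43151 : sm gf N805 = N1543 := trfs L43135 L19111 L43141
theorem L43152 : N1543 = N408 := eqes L43151 L4150
theorem L43153 : N1543 = N408 := eqc rfl L43152 rfl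
theorem L43154 : sm gg N805 = N2773 := trfs L43135 L19114 rfl
theorem L43155 : N2773 = N1620 := eqes L43154 L8352
theorem L43156 : N2773 = N804 := eqc rfl L43155 L40609
theorem L43169 : sm ge N804 = N3582 := trfs L43156 L19124 rfl
theorem L43170 : N3582 = N408 := eqes L43169 L4144
theorem L43171 : N3582 = N408 := eqc rfl L43170 rfl
theorem L43172 : sm gf N804 = N2677 := trfs L43156 L14639 rfl
theorem L43173 : N2677 = N1619 := eqes L43172 L8344
theorem L43174 : N2677 = N1619 := eqc rfl L43173 rfl
theorem L43175 : sm ga N1619 = N408 := trfs L43174 L19120 L43171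
theorem L43176 : N408 = N1620 := eqes L43175 L8355
theorem L43177 : N804 = N408 := (eqc rfl L43176 L40609).symm
theorem L43178 : sm gb N1619 = N1370 := trfs L43174 L14067 rfl
theorem L43179 : N1370 = N879 := eqes L43178 L8346
theorem L43180 : N1370 = N879 := eqc rfl L43179 rfl
theorem L43181 : sm gc N1619 = N4872 := trfs L43174 L26663 rfl
theorem L43182 : N4872 = N3146 := eqes L43181 L16719
theorem L43183 : N4872 = N3146 := eqc rfl L43182 rfl
theorem L43184 : sm gd N1619 = N2000 := trfs L43174 L14068 rfl
theorem L43185 : N2000 = N1739 := eqes L43184 L8901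
theorem L43186 : N2000 = N775 := eqc rfl L43185 L40600
theorem L43205 : sm gg N775 = N196 := trfs L43186 L10398 L42972
theorem L43206 : N196 = N399 := eqes L43205 L4003
theorem L43207 : N399 = N196 := (eqc rfl L43206 rfl).symm
theorem L43218 : sm gg N196 = N775 := trfs L43207 L4004 rfl
theorem L43219 : N775 = N390 := eqes L43218 L2030
theorem L43220 : N775 = N390 := eqc rfl L43219 rfl
theorem L43222 : sm gb N390 = N452 := trfs L43220 L4001 L40551
theorem L43223 : N452 = N220 := eqes L43222 L2034
theorem L43224 : N452 = N220 := eqc rfl L43223 rfl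
theorem L43226 : sm gd N390 = N805 := trfs L43220 L7939 L40557
theorem L43227 : N805 = N769 := eqes L43226 L3957
theorem L43228 : N805 = N769 := eqc rfl L43227 rfl
theorem L43230 : sm gf N390 = N412 := trfs L43220 L40561 rfl
theorem L43231 : N412 = N392 := eqes L43230 L2052
theorem L43232 : N412 = N392 := eqc rfl L43231 rfl
theorem L43233 : N773 = N208 := L40528.trans L40615
theorem L43235 : sm gb N392 = N226 := trfs L43232 L2168 rfl
theorem L43236 : N226 = N232 := eqes L43235 L2050
theorem L43237 : N232 = N226 := (eqc rfl L43236 rfl).symm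
theorem L43243 : sm ge N392 = N776 := trfs L43232 L4179 L40540
theorem L43244 : N776 = N394 := eqes L43243 L2069
theorem L43245 : N776 = N394 := eqc rfl L43244 rfl
theorem L43248 : sm gb N394 = N467 := trfs L43245 L4009 rfl
theorem L43249 : N467 = N234 := eqes L43248 L2066
theorem L43250 : N467 = N234 := eqc rfl L43249 rfl
theorem L43252 : sm gd N394 = N1556 := trfs L43245 L8020 rfl
theorem L43253 : N1556 = N777 := eqes L43252 L4011
theorem L43254 : N1556 = N777 := eqc rfl L43253 rfl
theorem L43257 : sm ga N777 = N818 := trfs L43254 L8022 rfl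
theorem L43258 : N818 = N416 := eqes L43257 L4013
theorem L43259 : N818 = N416 := eqc rfl L43258 rfl
theorem L43260 : sm gb N777 = N929 := trfs L43254 L8024 rfl
theorem L43261 : N929 = N468 := eqes L43260 L4015
theorem L43262 : N929 = N468 := eqc rfl L43261 rfl
theorem L43263 : sm gc N777 = N3011 := trfs L43254 L16014 rfl
theorem L43264 : N3011 = N1557 := eqes L43263 L8028
theorem L43265 : N3011 = N1557 := eqc rfl L43264 rfl
theorem L43270 : sm gf N777 = N777 := trfs L43254 L8026 rfl
theorem L43271 : sm gg N777 = N2171 := trfs L43254 L11335 rfl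
theorem L43272 : N2171 = N1559 := eqes L43271 L8040
theorem L43273 : N2171 = N1036 := eqc rfl L43272 L43039
theorem L43274 : sm ga N1036 = N1652 := trfs L43273 L11337 rfl
theorem L43275 : N1652 = N2069 := eqes L43274 L10777
theorem L43276 : N2069 = N1652 := (eqc rfl L43275 rfl).symm
theorem L43277 : sm gb N1036 = N1093 := trfs L43273 L11333 rfl
theorem L43278 : N1093 = N520 := eqes L43277 L5281
theorem L43279 : N1093 = N520 := eqc rfl L43278 rfl
theorem L43280 : sm gc N1036 = N4032 := trfs L43273 L21907 rfl
theorem L43281 : N4032 = N2060 := eqes L43280 L10730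
theorem L43282 : N4032 = N2060 := eqc rfl L43281 rfl
theorem L43288 : sm gf N1036 = N3017 := trfs L43273 L16059 rfl
theorem L43289 : N3017 = N2069 := eqes L43288 L10783
theorem L43290 : N3017 = N1652 := eqc rfl L43289 L43276
theorem L43297 : sm gc N1652 = N5430 := trfs L43290 L29917 rfl
theorem L43298 : N5430 = N3217 := eqes L43297 L17023
theorem L43299 : N5430 = N3217 := eqc rfl L43298 rfl
theorem L43304 : sm ge N1652 = N1036 := trfs L43290 L16056 L43039
theorem L43305 : N1036 = N1658 := eqes L43304 L8535
theorem L43306 : N1658 = N1036 := (eqc rfl L43305 rfl).symm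
theorem L43311 : sm gb N1036 = N917 := trfs L43306 L8532 rfl
theorem L43312 : N917 = N520 := eqes L43311 L5281
theorem L43313 : N917 = N520 := eqc rfl L43312 rfl
theorem L43314 : sm gc N1036 = N3229 := trfs L43306 L17073 rfl
theorem L43315 : N3229 = N2060 := eqes L43314 L10730
theorem L43316 : N3229 = N2060 := eqc rfl L43315 rfl
theorem L43322 : sm gf N1036 = N821 := trfs L43306 L8531 rfl
theorem L43323 : N821 = N2069 := eqes L43322 L10783
theorem L43324 : N1652 = N821 := (eqc rfl L43323 L43276).symm
theorem L43325 : sm gg N1036 = N1651 := trfs L43306 L8536 rfl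
theorem L43326 : N1651 = N2070 := eqes L43325 L10785
theorem L43327 : N2070 = N777 := L40361.trans L43018
theorem L43328 : N1651 = N777 := eqc rfl L43326 L43327
theorem L43330 : sm gb N777 = N910 := trfs L43328 L8500 rfl
theorem L43331 : N910 = N468 := eqes L43330 L4015
theorem L43332 : N910 = N468 := eqc rfl L43331 rfl
theorem L43336 : sm gd N777 = N1738 := trfs L43328 L8895 rfl
theorem L43337 : N1738 = N394 := eqes L43336 L4012
theorem L43338 : N1738 = N394 := eqc rfl L43337 rfl
theorem L43354 : sm gg N394 = N2791 := trfs L43338 L14757 rfl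
theorem L43355 : N2791 = N389 := eqes L43354 L2070
theorem L43356 : N2791 = N389 := eqc rfl L43355 rfl
theorem L43367 : sm ge N389 = N1444 := trfs L43356 L14751 rfl
theorem L43368 : N1444 = N197 := eqes L43367 L2028
theorem L43369 : N1444 = N197 := eqc rfl L43368 rfl
theorem L43384 : sm gf N197 = N2792 := trfs L43369 L14760 rfl
theorem L43385 : N2792 = N100 := eqes L43384 L1033
theorem L43386 : N2792 = N100 := eqc rfl L43385 rfl
theorem L43396 : sm gd N100 = N3300 := trfs L43386 L17406 rfl
theorem L43397 : N3300 = N53 := eqes L43396 L540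
theorem L43398 : N3300 = N53 := eqc rfl L43397 rfl
theorem L43416 : sm gg N53 = N1257 := trfs L43398 L17396 L40327
theorem L43417 : N1257 = N102 := eqes L43416 L554
theorem L43418 : N1257 = N102 := eqc rfl L43417 rfl
theorem L43429 : sm gg N102 = N102 := trfs L43418 L6431 L43418
theorem L43430 : N102 = N53 := eqes L43429 L555
theorem L43431 : N102 = N53 := eqc rfl L43430 rfl
theorem L43433 : sm gb N53 = N62 := trfs L43431 L558 rfl
theorem L43434 : N62 = N27 := eqes L43433 L286
theorem L43435 : N62 = N27 := eqc rfl L43434 rfl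
theorem L43439 : sm gf N53 = N108 := trfs L43431 L587 rfl
theorem L43440 : N108 = N101 := eqes L43439 L545
theorem L43441 : N108 = N101 := eqc rfl L43440 rfl
theorem L43442 : sm gg N53 = N53 := trfs L43431 L555 rfl
theorem L43443 : sm ga N101 = N110 := trfs L43441 L596 rfl
theorem L43444 : N110 = N55 := eqes L43443 L547
theorem L43445 : N110 = N55 := eqc rfl L43444 rfl
theorem L43446 : sm gb N101 = N64 := trfs L43441 L584 rfl
theorem L43447 : N64 = N61 := eqes L43446 L549
theorem L43448 : N64 = N61 := eqc rfl L43447 rfl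
theorem L43450 : sm gd N101 = N214 := trfs L43441 L1122 rfl
theorem L43451 : N214 = N199 := eqes L43450 L1044
theorem L43452 : N214 = N199 := eqc rfl L43451 rfl
theorem L43465 : sm ge N199 = N213 := trfs L43452 L2226 L40491
theorem L43466 : N213 = N396 := eqes L43465 L2076
theorem L43467 : N396 = N213 := (eqc rfl L43466 rfl).symm
theorem L43468 : sm gf N199 = N411 := trfs L43452 L2230 L40516
theorem L43469 : N411 = N391 := eqes L43468 L2045
theorem L43470 : N411 = N391 := eqc rfl L43469 rfl
theorem L43471 : sm gg N199 = N422 := trfs L43452 L2215 rfl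
theorem L43472 : N422 = N397 := eqes L43471 L2084
theorem L43473 : N422 = N397 := eqc rfl L43472 rfl
theorem L43475 : sm gb N397 = N246 := trfs L43473 L2212 rfl
theorem L43476 : N246 = N237 := eqes L43475 L2088
theorem L43477 : N246 = N237 := eqc rfl L43476 rfl
theorem L43487 : sm gf N397 = N725 := trfs L43473 L3742 rfl
theorem L43488 : N725 = N783 := eqes L43487 L4047
theorem L43489 : N783 = N725 := (eqc rfl L43488 rfl).symm
theorem L43493 : sm gb N725 = N474 := trfs L43489 L4051 rfl
theorem L43494 : N474 = N370 := eqes L43493 L3739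
theorem L43495 : N474 = N370 := eqc rfl L43494 rfl
theorem L43496 : sm gc N725 = N1569 := trfs L43489 L8099 rfl
theorem L43497 : N1569 = N1340 := eqes L43496 L6887
theorem L43498 : N1569 = N1340 := eqc rfl L43497 rfl
theorem L43499 : sm gd N725 = N1571 := trfs L43489 L8112 rfl
theorem L43500 : N1571 = N1449 := eqes L43499 L7436
theorem L43501 : N1571 = N1449 := eqc rfl L43500 rfl
theorem L43502 : sm ge N725 = N772 := trfs L43489 L4053 rfl
theorem L43503 : N772 = N368 := eqes L43502 L3736
theorem L43504 : N772 = N207 := eqc rfl L43503 L40645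
theorem L43507 : sm gg N725 = N771 := trfs L43489 L4055 rfl
theorem L43508 : N771 = N841 := eqes L43507 L4320
theorem L43509 : N841 = N771 := (eqc rfl L43508 rfl).symm
theorem L43513 : sm gb N771 = N496 := trfs L43509 L4315 rfl
theorem L43514 : N496 = N462 := eqes L43513 L3975
theorem L43515 : N496 = N462 := eqc rfl L43514 rfl
theorem L43517 : sm gd N771 = N1702 := trfs L43509 L8718 rfl
theorem L43518 : N1702 = N1539 := eqes L43517 L7917
theorem L43519 : N1702 = N1539 := eqc rfl L43518 rfl
theorem L43539 : sm gg N1539 = N1692 := trfs L43519 L17577 L40428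
theorem L43540 : N1692 = N1614 := eqes L43539 L8329
theorem L43541 : N1692 = N1614 := eqc rfl L43540 rfl
theorem L43542 : sm ga N1614 = N3047 := trfs L43541 L16227 rfl
theorem L43543 : N3047 = N1613 := eqes L43542 L8322
theorem L43544 : N3047 = N1613 := eqc rfl L43543 rfl
theorem L43545 : sm gb N1614 = N982 := trfs L43541 L8676 rfl
theorem L43546 : N982 = N874 := eqes L43545 L8324
theorem L43547 : N982 = N874 := eqc rfl L43546 rfl
theorem L43548 : sm gc N1614 = N3308 := trfs L43541 L17430 rfl
theorem L43549 : N3308 = N3136 := eqes L43548 L16673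
theorem L43550 : N3308 = N3136 := eqc rfl L43549 rfl
theorem L43556 : sm gg N1614 = N836 := trfs L43541 L8675 rfl
theorem L43557 : N836 = N1539 := eqes L43556 L8328
theorem L43558 : N1539 = N836 := (eqc rfl L43557 rfl).symm
theorem L43559 : sm ga N836 = N801 := trfs L43558 L7910 rfl
theorem L43560 : N801 = N1571 := eqes L43559 L8115
theorem L43561 : N1449 = N801 := (eqc rfl L43560 L43501).symm
theorem L43562 : sm gb N836 = N864 := trfs L43558 L7912 rfl
theorem L43563 : N864 = N493 := eqes L43562 L4291
theorem L43564 : N864 = N493 := eqc rfl L43563 rfl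
theorem L43565 : sm gc N836 = N2980 := trfs L43558 L15839 rfl
theorem L43566 : N2980 = N1690 := eqes L43565 L8666
theorem L43567 : N2980 = N1690 := eqc rfl L43566 rfl
theorem L43568 : sm gd N836 = N771 := trfs L43558 L7916 rfl
theorem L43569 : N771 = N423 := eqes L43568 L4290
theorem L43570 : N771 = N423 := eqc rfl L43569 rfl
theorem L43571 : sm ge N836 = N768 := trfs L43558 L7909 rfl
theorem L43572 : N768 = N1691 := eqes L43571 L8668
theorem L43573 : N1691 = N768 := (eqc rfl L43572 rfl).symm
theorem L43576 : sm gg N836 = N1614 := trfs L43558 L8329 rfl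
theorem L43577 : sm gg N1614 = N836 := flp_g L43576
theorem L43589 : sm ge N768 = N836 := trfs L43573 L8669 rfl
theorem L43590 : sm ge N836 = N768 := flp_e L43589
theorem L43592 : sm gg N768 = N1876 := trfs L43573 L40416 rfl
theorem L43593 : N1876 = N1540 := eqes L43592 L7918
theorem L43594 : N1876 = N1540 := eqc rfl L43593 rfl
theorem L43598 : sm gb N1540 = N935 := trfs L43594 L9711 rfl
theorem L43599 : N935 = N865 := eqes L43598 L7922
theorem L43600 : N935 = N865 := eqc rfl L43599 rfl
theorem L43601 : sm gc N1540 = N3595 := trfs L43594 L19215 rfl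
theorem L43602 : N3595 = N2981 := eqes L43601 L15847
theorem L43603 : N3595 = N2981 := eqc rfl L43602 rfl
theorem L43608 : sm gf N1540 = N1948 := trfs L43594 L10125 rfl
theorem L43609 : N1948 = N1613 := eqes L43608 L8319
theorem L43610 : N1948 = N1613 := eqc rfl L43609 rfl
theorem L43612 : sm gb N1613 = N971 := trfs L43610 L10123 rfl
theorem L43613 : N971 = N873 := eqes L43612 L8314
theorem L43614 : N971 = N873 := eqc rfl L43613 rfl
theorem L43615 : sm gc N1613 = N3695 := trfs L43610 L19824 rfl
theorem L43616 : N3695 = N3134 := eqes L43615 L16661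
theorem L43617 : N3695 = N3134 := eqc rfl L43616 rfl
theorem L43626 : sm gb N3134 = N1933 := trfs L43617 L19820 rfl
theorem L43627 : N1933 = N5652 := eqes L43626 L31068
theorem L43628 : N5652 = N1933 := (eqc rfl L43627 rfl).symm
theorem L43629 : sm gd N3134 = N6579 := trfs L43617 L36054 rfl
theorem L43630 : N6579 = N5668 := eqes L43629 L31131
theorem L43631 : N6579 = N5668 := eqc rfl L43630 rfl
theorem L43636 : sm gg N3134 = N2802 := trfs L43617 L36058 L40443
theorem L43637 : N2802 = N1611 := eqes L43636 L16659
theorem L43638 : N2802 = N1611 := eqc rfl L43637 rfl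
theorem L43649 : sm ge N1611 = N5049 := trfs L43638 L27816 rfl
theorem L43650 : N5049 = N800 := eqes L43649 L8305
theorem L43651 : N5049 = N800 := eqc rfl L43650 rfl
theorem L43661 : sm gg N800 = N6049 := trfs L43651 L32950 rfl
theorem L43662 : N6049 = N1612 := eqes L43661 L8308
theorem L43663 : N6049 = N1612 := eqc rfl L43662 rfl
theorem L43664 : sm ga N1612 = N5882 := trfs L43663 L32943 rfl
theorem L43665 : N5882 = N2981 := eqes L43664 L15845
theorem L43666 : N5882 = N2981 := eqc rfl L43665 rfl
theorem L43675 : sm gf N2981 = N5494 := trfs L43666 L32149 rfl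
theorem L43676 : N5494 = N3134 := eqes L43675 L16665
theorem L43677 : N5494 = N3134 := eqc rfl L43676 rfl
theorem L43681 : sm gg N3134 = N3045 := trfs L43677 L30300 rfl
theorem L43682 : N3045 = N1611 := eqes L43681 L16659
theorem L43683 : N3045 = N1611 := eqc rfl L43682 rfl
theorem L43689 : N1571 = N801 := L43501.trans L43561
theorem L43691 : sm gd N1611 = N5492 := trfs L43683 L30287 rfl
theorem L43692 : N5492 = N3133 := eqes L43691 L16656
theorem L43693 : N5492 = N3133 := eqc rfl L43692 rfl
theorem L43694 : sm ge N1611 = N5493 := trfs L43683 L30291 rfl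
theorem L43695 : N5493 = N800 := eqes L43694 L8305
theorem L43696 : N5493 = N800 := eqc rfl L43695 rfl
theorem L43700 : sm gb N800 = N6039 := trfs L43696 L32908 rfl
theorem L43701 : N6039 = N1609 := eqes L43700 L8298
theorem L43702 : N6039 = N1609 := eqc rfl L43701 rfl
theorem L43706 : sm ga N1609 = N3305 := trfs L43702 L32904 rfl
theorem L43707 : N3305 = N3125 := eqes L43706 L16620
theorem L43708 : N3305 = N3125 := eqc rfl L43707 rfl
theorem L43709 : sm gc N1609 = N3744 := trfs L43702 L32905 rfl
theorem L43710 : N3744 = N869 := eqes L43709 L8300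
theorem L43711 : N3744 = N869 := eqc rfl L43710 rfl
theorem L43713 : sm ga N869 = N1964 := trfs L43711 L20109 rfl
theorem L43714 : N1964 = N1756 := eqes L43713 L8987
theorem L43715 : N1964 = N1756 := eqc rfl L43714 rfl
theorem L43728 : sm gg N869 = N6640 := trfs L43711 L36446 rfl
theorem L43729 : N6640 = N1759 := eqes L43728 L9007
theorem L43730 : N6640 = N1759 := eqc rfl L43729 rfl
theorem L43737 : sm ge N1759 = N6277 := trfs L43730 L36452 rfl
theorem L43738 : N6277 = N3438 := eqes L43737 L18182
theorem L43739 : N6277 = N3438 := eqc rfl L43738 rfl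
theorem L43740 : sm gf N1759 = N5033 := trfs L43730 L36455 rfl
theorem L43741 : N5033 = N3435 := eqes L43740 L18167
theorem L43742 : N5033 = N3435 := eqc rfl L43741 rfl
theorem L43755 : sm gg N3435 = N2786 := trfs L43742 L27717 rfl
theorem L43756 : N2786 = N1756 := eqes L43755 L18159
theorem L43757 : N2786 = N1756 := eqc rfl L43756 rfl
theorem L43761 : sm gb N1756 = N1441 := trfs L43757 L14720 rfl
theorem L43762 : N1441 = N1750 := eqes L43761 L8989
theorem L43763 : N1750 = N1441 := (eqc rfl L43762 rfl).symm
theorem L43767 : sm gd N1756 = N1459 := trfs L43757 L14721 rfl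
theorem L43768 : N1459 = N3434 := eqes L43767 L18148
theorem L43769 : N3434 = N1459 := (eqc rfl L43768 rfl).symm
theorem L43772 : sm ga N1459 = N1757 := trfs L43769 L18150 rfl
theorem L43773 : N1757 = N2810 := eqes L43772 L14877
theorem L43774 : N2810 = N1757 := (eqc rfl L43773 rfl).symm
theorem L43779 : sm gd N1459 = N1756 := trfs L43769 L18149 rfl
theorem L43780 : sm gd N1756 = N1459 := flp_d L43779
theorem L43783 : sm gf N1459 = N1757 := trfs L43769 L18156 rfl
theorem L43784 : N1757 = N2665 := eqes L43783 L14006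
theorem L43785 : N2665 = N1757 := (eqc rfl L43784 rfl).symm
theorem L43786 : sm gg N1459 = N6264 := trfs L43769 L34050 rfl
theorem L43787 : N6264 = N2811 := eqes L43786 L14886
theorem L43788 : N6264 = N2811 := eqc rfl L43787 rfl
theorem L43789 : sm ga N2811 = N3437 := trfs L43788 L34052 rfl
theorem L43790 : N3437 = N2663 := eqes L43789 L14888
theorem L43791 : N3437 = N2663 := eqc rfl L43790 rfl
theorem L43797 : sm gf N2811 = N2811 := trfs L43788 L34059 L43788
theorem L43798 : N2811 = N2642 := eqes L43797 L14896
theorem L43799 : N2811 = N2642 := eqc rfl L43798 rfl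
theorem L43800 : sm ga N2642 = N2663 := trfs L43799 L14888 rfl
theorem L43801 : N2663 = N1362 := eqes L43800 L13889
theorem L43802 : N2663 = N1362 := eqc rfl L43801 rfl
theorem L43803 : sm gb N2642 = N1461 := trfs L43799 L14890 rfl
theorem L43804 : N1461 = N1386 := eqes L43803 L13891
theorem L43805 : N1461 = N1386 := eqc rfl L43804 rfl
theorem L43812 : sm gg N2642 = N1459 := trfs L43799 L14887 rfl
theorem L43813 : N1459 = N4851 := eqes L43812 L26549
theorem L43814 : N4851 = N1459 := (eqc rfl L43813 rfl).symm
theorem L43821 : sm gd N1459 = N2760 := trfs L43814 L26560 rfl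
theorem L43822 : N2760 = N1756 := eqes L43821 L43779
theorem L43823 : N2760 = N1756 := eqc rfl L43822 rfl
theorem L43828 : sm gg N1459 = N2642 := trfs L43814 L26550 rfl
theorem L43829 : sm gg N2642 = N1459 := flp_g L43828
theorem L43830 : sm ga N1756 = N2652 := trfs L43823 L14568 rfl
theorem L43831 : N2652 = N869 := eqes L43830 L8988
theorem L43832 : N2652 = N869 := eqc rfl L43831 rfl
theorem L43833 : sm gb N1756 = N1431 := trfs L43823 L14570 rfl
theorem L43834 : N1431 = N1750 := eqes L43833 L8989
theorem L43835 : N1441 = N1431 := (eqc rfl L43834 L43763).symm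
theorem L43845 : sm gg N1756 = N1423 := trfs L43823 L14567 rfl
theorem L43846 : N1423 = N3435 := eqes L43845 L18158
theorem L43847 : N3435 = N1423 := (eqc rfl L43846 rfl).symm
theorem L43848 : sm ga N1423 = N1759 := trfs L43847 L18160 rfl
theorem L43849 : N1759 = N1355 := eqes L43848 L7307
theorem L43850 : N1759 = N1355 := eqc rfl L43849 rfl
theorem L43851 : sm gb N1423 = N1765 := trfs L43847 L18162 rfl
theorem L43852 : N1765 = N715 := eqes L43851 L7309
theorem L43853 : N1765 = N715 := eqc rfl L43852 rfl
theorem L43854 : sm gc N1423 = N5646 := trfs L43847 L31038 rfl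
theorem L43855 : N5646 = N2758 := eqes L43854 L14554
theorem L43856 : N5646 = N2758 := eqc rfl L43855 rfl
theorem L43860 : sm ge N1423 = N3425 := trfs L43847 L18164 rfl
theorem L43861 : N3425 = N2759 := eqes L43860 L14558
theorem L43862 : N3425 = N2759 := eqc rfl L43861 rfl
theorem L43863 : sm gf N1423 = N1355 := trfs L43847 L18166 L43850
theorem L43864 : N1355 = N2754 := eqes L43863 L14527
theorem L43865 : N2754 = N1355 := (eqc rfl L43864 rfl).symm
theorem L43866 : sm gg N1423 = N1756 := trfs L43847 L18159 rfl
theorem L43868 : sm ga N1355 = N2646 := trfs L43865 L14522 rfl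
theorem L43869 : N2646 = N1423 := eqes L43868 L7308
theorem L43870 : N2646 = N1423 := eqc rfl L43869 rfl
theorem L43871 : sm gb N1355 = N1425 := trfs L43865 L14524 rfl
theorem L43872 : N1425 = N682 := eqes L43871 L6959
theorem L43873 : N1425 = N682 := eqc rfl L43872 rfl
theorem L43885 : sm gg N1355 = N5001 := trfs L43865 L27496 rfl
theorem L43886 : N5001 = N2652 := eqes L43885 L13940
theorem L43887 : N5001 = N869 := eqc rfl L43886 L43832
theorem L43894 : sm gd N869 = N6642 := trfs L43887 L36463 rfl
theorem L43895 : N6642 = N1757 := eqes L43894 L8993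
theorem L43896 : N6642 = N1757 := eqc rfl L43895 rfl
theorem L43899 : sm gb N1757 = N3749 := trfs L43896 L36460 rfl
theorem L43900 : N3749 = N870 := eqes L43899 L8995
theorem L43901 : N3749 = N870 := eqc rfl L43900 rfl
theorem L43904 : sm gg N1757 = N5002 := trfs L43896 L36465 rfl
theorem L43905 : N5002 = N3437 := eqes L43904 L18170
theorem L43906 : N3437 = N1362 := L43791.trans L43802
theorem L43907 : N5002 = N1362 := eqc rfl L43905 L43906
theorem L43908 : sm ga N1362 = N4862 := trfs L43907 L27504 rfl
theorem L43909 : N4862 = N2642 := eqes L43908 L13890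
theorem L43910 : N4862 = N2642 := eqc rfl L43909 rfl
theorem L43911 : sm gb N1362 = N2766 := trfs L43907 L27506 rfl
theorem L43912 : N2766 = N691 := eqes L43911 L6983
theorem L43913 : N2766 = N691 := eqc rfl L43912 rfl
theorem L43917 : sm ge N1362 = N6643 := trfs L43907 L36471 rfl
theorem L43918 : N6643 = N2642 := eqes L43917 L13894
theorem L43919 : N6643 = N2642 := eqc rfl L43918 rfl
theorem L43924 : sm gg N2642 = N3745 := trfs L43919 L36467 rfl
theorem L43925 : N3745 = N1459 := eqes L43924 L43829
theorem L43926 : N3745 = N1459 := eqc rfl L43925 rfl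
theorem L43929 : sm gb N1459 = N1965 := trfs L43926 L20116 rfl
theorem L43930 : N1965 = N731 := eqes L43929 L7499
theorem L43931 : N1965 = N731 := eqc rfl L43930 rfl
theorem L43941 : sm gc N731 = N3748 := trfs L43931 L20128 rfl
theorem L43942 : N3748 = N372 := eqes L43941 L3766
theorem L43943 : N3748 = N372 := eqc rfl L43942 rfl
theorem L43944 : sm gd N731 = N980 := trfs L43931 L10200 rfl
theorem L43945 : N980 = N1441 := eqes L43944 L7401
theorem L43946 : N1431 = N980 := (eqc rfl L43945 L43835).symm
theorem L43947 : sm ge N731 = N870 := trfs L43931 L20135 L43901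
theorem L43948 : N870 = N1460 := eqes L43947 L7501
theorem L43949 : N1460 = N870 := (eqc rfl L43948 rfl).symm
theorem L43950 : sm gf N731 = N3750 := trfs L43931 L20144 rfl
theorem L43951 : N3750 = N1387 := eqes L43950 L7124
theorem L43952 : N3750 = N1387 := eqc rfl L43951 rfl
theorem L43958 : sm gc N1387 = N6646 := trfs L43952 L36492 rfl
theorem L43959 : N6646 = N733 := eqes L43958 L7120
theorem L43960 : N6646 = N733 := eqc rfl L43959 rfl
theorem L43967 : sm gg N1387 = N4901 := trfs L43952 L26810 rfl
theorem L43968 : N4901 = N691 := eqes L43967 L7118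
theorem L43969 : N4901 = N691 := eqc rfl L43968 rfl
theorem L43971 : sm gd N691 = N4450 := trfs L43969 L26811 rfl
theorem L43972 : N4450 = N347 := eqes L43971 L3553
theorem L43973 : N4450 = N347 := eqc rfl L43972 rfl
theorem L43977 : sm gf N691 = N691 := trfs L43969 L26807 L43913
theorem L43978 : N691 = N1383 := eqes L43977 L7098
theorem L43979 : N1383 = N691 := (eqc rfl L43978 rfl).symm
theorem L43982 : sm gc N691 = N1463 := trfs L43979 L7528 rfl
theorem L43983 : N1463 = N1385 := eqes L43982 L7106
theorem L43984 : N1463 = N1385 := eqc rfl L43983 rfl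
theorem L43990 : sm gg N691 = N870 := trfs L43979 L7506 L43949
theorem L43991 : N870 = N1387 := eqes L43990 L7117
theorem L43992 : N1387 = N870 := (eqc rfl L43991 rfl).symm
theorem L44003 : sm gg N870 = N691 := trfs L43992 L7118 rfl
theorem L44004 : N691 = N1762 := eqes L44003 L9022
theorem L44005 : N1762 = N691 := (eqc rfl L44004 rfl).symm
theorem L44011 : sm gd N691 = N3444 := trfs L44005 L18228 rfl
theorem L44012 : N3444 = N347 := eqes L44011 L3553
theorem L44013 : N3444 = N347 := eqc rfl L44012 rfl
theorem L44032 : sm gg N347 = N1764 := trfs L44013 L18231 rfl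
theorem L44033 : N1764 = N342 := eqes L44032 L1781
theorem L44034 : N1764 = N342 := eqc rfl L44033 rfl
theorem L44042 : sm gd N342 = N872 := trfs L44034 L9036 rfl
theorem L44043 : N872 = N682 := eqes L44042 L3521
theorem L44044 : N872 = N682 := eqc rfl L44043 rfl
theorem L44045 : sm ge N342 = N3447 := trfs L44034 L18249 rfl
theorem L44046 : N3447 = N169 := eqes L44045 L1752
theorem L44047 : N3447 = N169 := eqc rfl L44046 rfl
theorem L44048 : sm gf N342 = N3448 := trfs L44034 L18254 rfl
theorem L44049 : N3448 = N168 := eqes L44048 L1748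
theorem L44050 : N3448 = N168 := eqc rfl L44049 rfl
theorem L44064 : sm gg N168 = N3460 := trfs L44050 L18325 rfl
theorem L44065 : N3460 = N343 := eqes L44064 L1754
theorem L44066 : N3460 = N343 := eqc rfl L44065 rfl
theorem L44074 : sm gd N343 = N6292 := trfs L44066 L34232 rfl
theorem L44075 : N6292 = N683 := eqes L44074 L3524
theorem L44076 : N6292 = N683 := eqc rfl L44075 rfl
theorem L44083 : sm ge N683 = N683 := trfs L44076 L34235 L44076
theorem L44084 : N683 = N1371 := eqes L44083 L7030
theorem L44085 : N1371 = N683 := (eqc rfl L44084 rfl).symm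
theorem L44100 : sm gg N683 = N2669 := trfs L44085 L14029 rfl
theorem L44101 : N2669 = N1365 := eqes L44100 L7000
theorem L44102 : N2669 = N1365 := eqc rfl L44101 rfl
theorem L44107 : sm gc N1365 = N1824 := trfs L44102 L14024 rfl
theorem L44108 : N1824 = N907 := eqes L44107 L7002
theorem L44109 : N1824 = N907 := eqc rfl L44108 rfl
theorem L44114 : sm gf N1365 = N1427 := trfs L44102 L14026 rfl
theorem L44115 : N1427 = N1861 := eqes L44114 L9586
theorem L44116 : N1861 = N1427 := (eqc rfl L44115 rfl).symm
theorem L44124 : sm gd N1427 = N3429 := trfs L44116 L18110 rfl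
theorem L44125 : N3429 = N714 := eqes L44124 L7331
theorem L44126 : N3429 = N714 := eqc rfl L44125 rfl
theorem L44144 : sm gg N714 = N2421 := trfs L44126 L18117 rfl
theorem L44145 : N2421 = N359 := eqes L44144 L3678
theorem L44146 : N2421 = N359 := eqc rfl L44145 rfl
theorem L44160 : sm gf N359 = N4454 := trfs L44146 L24324 rfl
theorem L44161 : N4454 = N713 := eqes L44160 L3673
theorem L44162 : N4454 = N713 := eqc rfl L44161 rfl
theorem L44173 : sm gg N713 = N347 := trfs L44162 L24329 L43973
theorem L44174 : N347 = N1426 := eqes L44173 L7324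
theorem L44175 : N1426 = N347 := (eqc rfl L44174 rfl).symm
theorem L44178 : sm gc N347 = N347 := trfs L44175 L7327 L44175
theorem L44179 : N347 = N176 := eqes L44178 L1777
theorem L44180 : N347 = N176 := eqc rfl L44179 rfl
theorem L44181 : N1426 = N176 := L44175.trans L44180
theorem L44191 : sm gg N176 = N713 := trfs L44181 L7325 rfl
theorem L44192 : N713 = N172 := eqes L44191 L917
theorem L44193 : N713 = N172 := eqc rfl L44192 rfl
theorem L44198 : sm gc N172 = N172 := trfs L44193 L3676 L44193
theorem L44199 : N172 = N342 := eqes L44198 L1751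
theorem L44200 : N342 = N172 := (eqc rfl L44199 rfl).symm
theorem L44201 : sm gd N172 = N682 := trfs L44193 L7319 L43873
theorem L44202 : N682 = N351 := eqes L44201 L1800
theorem L44203 : N682 = N351 := eqc rfl L44202 rfl
theorem L44207 : sm gf N172 = N359 := trfs L44193 L3674 rfl
theorem L44208 : N359 = N84 := eqes L44207 L893
theorem L44209 : N359 = N84 := eqc rfl L44208 rfl
theorem L44214 : sm gc N84 = N84 := trfs L44209 L1848 L44209
theorem L44215 : N84 = N168 := eqes L44214 L876
theorem L44216 : N168 = N84 := (eqc rfl L44215 rfl).symm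
theorem L44217 : sm gd N84 = N177 := trfs L44209 L1846 rfl
theorem L44218 : N177 = N171 := eqes L44217 L887
theorem L44219 : N177 = N171 := eqc rfl L44218 rfl
theorem L44223 : sm gg N84 = N714 := trfs L44209 L3677 rfl
theorem L44224 : N714 = N173 := eqes L44223 L897
theorem L44225 : N714 = N173 := eqc rfl L44224 rfl
theorem L44230 : sm gc N173 = N173 := trfs L44225 L3680 L44225
theorem L44231 : N173 = N343 := eqes L44230 L1758
theorem L44232 : N343 = N173 := (eqc rfl L44231 rfl).symm
theorem L44233 : sm gd N173 = N1427 := trfs L44225 L7330 rfl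
theorem L44234 : N1427 = N352 := eqes L44233 L1803
theorem L44235 : N1427 = N352 := eqc rfl L44234 rfl
theorem L44239 : sm gb N352 = N2756 := trfs L44235 L14541 rfl
theorem L44240 : N2756 = N660 := eqes L44239 L3415
theorem L44241 : N2756 = N660 := eqc rfl L44240 rfl
theorem L44242 : sm gc N352 = N444 := trfs L44235 L9595 L43144
theorem L44243 : N444 = N699 := eqes L44242 L3599
theorem L44244 : N699 = N444 := (eqc rfl L44243 rfl).symm
theorem L44249 : sm gg N352 = N717 := trfs L44235 L7333 rfl
theorem L44250 : N717 = N695 := eqes L44249 L3587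
theorem L44251 : N717 = N695 := eqc rfl L44250 rfl
theorem L44253 : sm gb N695 = N1424 := trfs L44251 L7316 rfl
theorem L44254 : N1424 = N1279 := eqes L44253 L6556
theorem L44255 : N1424 = N1279 := eqc rfl L44254 rfl
theorem L44259 : sm gd N695 = N361 := trfs L44251 L3694 rfl
theorem L44260 : N361 = N350 := eqes L44259 L3583
theorem L44261 : N361 = N350 := eqc rfl L44260 rfl
theorem L44264 : sm gf N695 = N683 := trfs L44251 L3696 rfl
theorem L44265 : N683 = N1393 := eqes L44264 L7152
theorem L44266 : N1393 = N683 := (eqc rfl L44265 rfl).symm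
theorem L44268 : sm gb N683 = N2502 := trfs L44266 L13212 rfl
theorem L44269 : N2502 = N1356 := eqes L44268 L6964
theorem L44270 : N2502 = N1356 := eqc rfl L44269 rfl
theorem L44274 : sm gd N683 = N1436 := trfs L44266 L7378 rfl
theorem L44275 : N1436 = N343 := eqes L44274 L3525
theorem L44276 : N1436 = N173 := eqc rfl L44275 L44232
theorem L44295 : sm gg N173 = N2057 := trfs L44276 L10708 rfl
theorem L44296 : N2057 = N84 := eqes L44295 L898
theorem L44297 : N2057 = N84 := eqc rfl L44296 rfl
theorem L44311 : sm gf N84 = N1028 := trfs L44297 L10704 rfl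
theorem L44312 : N1028 = N172 := eqes L44311 L892
theorem L44313 : N1028 = N172 := eqc rfl L44312 rfl
theorem L44327 : sm gg N172 = N1435 := trfs L44313 L7373 rfl
theorem L44328 : N1435 = N176 := eqes L44327 L918
theorem L44329 : N1435 = N176 := eqc rfl L44328 rfl
theorem L44337 : sm gd N176 = N1438 := trfs L44329 L7388 rfl
theorem L44338 : N1438 = N357 := eqes L44337 L1835
theorem L44339 : N1438 = N357 := eqc rfl L44338 rfl
theorem L44343 : sm gb N357 = N2509 := trfs L44339 L13266 rfl
theorem L44344 : N2509 = N665 := eqes L44343 L3444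
theorem L44345 : N2509 = N665 := eqc rfl L44344 rfl
theorem L44349 : sm ge N357 = N720 := trfs L44339 L7384 rfl
theorem L44350 : N720 = N708 := eqes L44349 L3640
theorem L44351 : N720 = N708 := eqc rfl L44350 rfl
theorem L44353 : sm gg N357 = N2782 := trfs L44339 L14700 rfl
theorem L44354 : N2782 = N709 := eqes L44353 L3646
theorem L44355 : N2782 = N709 := eqc rfl L44354 rfl
theorem L44363 : sm gd N709 = N1979 := trfs L44355 L14707 rfl
theorem L44364 : N1979 = N698 := eqes L44363 L3649
theorem L44365 : N1979 = N698 := eqc rfl L44364 rfl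
theorem L44366 : sm ge N709 = N1439 := trfs L44355 L14703 rfl
theorem L44367 : N1439 = N1419 := eqes L44366 L7285
theorem L44368 : N1439 = N1419 := eqc rfl L44367 rfl
theorem L44371 : sm gb N1419 = N2510 := trfs L44368 L13275 rfl
theorem L44372 : N2510 = N2615 := eqes L44371 L13766
theorem L44373 : N2615 = N2510 := (eqc rfl L44372 rfl).symm
theorem L44377 : sm gd N1419 = N1391 := trfs L44368 L7392 rfl
theorem L44378 : N1391 = N1977 := eqes L44377 L10266
theorem L44379 : N1977 = N1391 := (eqc rfl L44378 rfl).symm
theorem L44388 : sm gd N1391 = N1419 := trfs L44379 L10265 rfl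
theorem L44389 : sm gd N1419 = N1391 := flp_d L44388
theorem L44390 : sm ge N1391 = N988 := trfs L44379 L10263 rfl
theorem L44391 : N988 = N1399 := eqes L44390 L7186
theorem L44392 : N1399 = N988 := (eqc rfl L44391 rfl).symm
theorem L44396 : sm gg N1391 = N986 := trfs L44379 L10261 rfl
theorem L44397 : N986 = N694 := eqes L44396 L7144
theorem L44398 : N986 = N694 := eqc rfl L44397 rfl
theorem L44409 : sm ge N694 = N495 := trfs L44398 L5038 rfl
theorem L44410 : N495 = N1390 := eqes L44409 L7136
theorem L44411 : N1390 = N495 := (eqc rfl L44410 rfl).symm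
theorem L44414 : sm gb N495 = N2499 := trfs L44411 L13189 rfl
theorem L44415 : N2499 = N984 := eqes L44414 L5031
theorem L44416 : N2499 = N984 := eqc rfl L44415 rfl
theorem L44417 : sm gc N495 = N2706 := trfs L44411 L14278 rfl
theorem L44418 : N2706 = N985 := eqes L44417 L5032
theorem L44419 : N2706 = N985 := eqc rfl L44418 rfl
theorem L44423 : sm ge N495 = N694 := trfs L44411 L7137 rfl
theorem L44425 : sm gf N495 = N697 := trfs L44411 L7139 rfl
theorem L44426 : N697 = N987 := eqes L44425 L5040
theorem L44427 : N987 = N697 := (eqc rfl L44426 rfl).symm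
theorem L44436 : sm gd N697 = N516 := trfs L44427 L5043 rfl
theorem L44437 : N516 = N354 := eqes L44436 L3594
theorem L44438 : N516 = N354 := eqc rfl L44437 rfl
theorem L44440 : sm gf N697 = N495 := trfs L44427 L5041 rfl
theorem L44441 : sm gf N495 = N697 := flp_f L44440
theorem L44447 : sm gc N354 = N259 := trfs L44438 L2669 rfl
theorem L44448 : N259 = N246 := eqes L44447 L1819
theorem L44449 : N259 = N237 := eqc rfl L44448 L43477
theorem L44450 : sm ge N354 = N258 := trfs L44438 L2667 rfl
theorem L44451 : N258 = N174 := eqes L44450 L1817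
theorem L44452 : N258 = N174 := eqc rfl L44451 rfl
theorem L44453 : sm gf N354 = N367 := trfs L44438 L2671 rfl
theorem L44454 : N367 = N182 := eqes L44453 L1821
theorem L44455 : N367 = N182 := eqc rfl L44454 rfl
theorem L44458 : sm gb N182 = N642 := trfs L44455 L3331 rfl
theorem L44459 : N642 = N335 := eqes L44458 L1725
theorem L44460 : N642 = N335 := eqc rfl L44459 rfl
theorem L44464 : sm gd N182 = N183 := trfs L44455 L1893 rfl
theorem L44465 : N183 = N366 := eqes L44464 L1889
theorem L44466 : N366 = N183 := (eqc rfl L44465 rfl).symm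
theorem L44470 : sm gg N182 = N180 := trfs L44455 L1891 rfl
theorem L44471 : N180 = N371 := eqes L44470 L1908
theorem L44472 : N371 = N180 := (eqc rfl L44471 rfl).symm
theorem L44474 : sm gb N180 = N670 := trfs L44472 L3464 rfl
theorem L44475 : N670 = N323 := eqes L44474 L1669
theorem L44476 : N670 = N323 := eqc rfl L44475 rfl
theorem L44477 : sm gc N180 = N462 := trfs L44472 L2563 L43515
theorem L44478 : N462 = N365 := eqes L44477 L1880
theorem L44479 : N462 = N365 := eqc rfl L44478 rfl
theorem L44485 : sm gf N180 = N355 := trfs L44472 L1914 rfl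
theorem L44486 : N355 = N362 := eqes L44485 L1863
theorem L44487 : N362 = N355 := (eqc rfl L44486 rfl).symm
theorem L44488 : sm gg N180 = N182 := trfs L44472 L1909 rfl
theorem L44489 : sm gg N182 = N180 := flp_g L44488
theorem L44491 : sm gb N355 = N637 := trfs L44487 L3291 rfl
theorem L44492 : N637 = N663 := eqes L44491 L3434
theorem L44493 : N663 = N637 := (eqc rfl L44492 rfl).symm
theorem L44497 : sm gd N355 = N178 := trfs L44487 L1860 rfl
theorem L44498 : N178 = N703 := eqes L44497 L3620
theorem L44499 : N703 = N178 := (eqc rfl L44498 rfl).symm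
theorem L44501 : sm gf N355 = N180 := trfs L44487 L1862 rfl
theorem L44508 : sm gc N178 = N1406 := trfs L44499 L7219 rfl
theorem L44509 : N1406 = N360 := eqes L44508 L1853
theorem L44510 : N1406 = N360 := eqc rfl L44509 rfl
theorem L44511 : sm gd N178 = N355 := trfs L44499 L3621 rfl
theorem L44512 : sm gd N355 = N178 := flp_d L44511
theorem L44517 : sm gg N178 = N356 := trfs L44499 L3623 rfl
theorem L44518 : N356 = N363 := eqes L44517 L1868
theorem L44519 : N363 = N356 := (eqc rfl L44518 rfl).symm
theorem L44521 : sm gb N356 = N638 := trfs L44519 L3301 rfl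
theorem L44522 : N638 = N664 := eqes L44521 L3440
theorem L44523 : N664 = N638 := (eqc rfl L44522 rfl).symm
theorem L44524 : sm gc N356 = N716 := trfs L44519 L3688 rfl
theorem L44525 : N716 = N704 := eqes L44524 L3625
theorem L44526 : N716 = N704 := eqc rfl L44525 rfl
theorem L44528 : sm ge N356 = N364 := trfs L44519 L1877 rfl
theorem L44529 : N364 = N705 := eqes L44528 L3628
theorem L44530 : N705 = N364 := (eqc rfl L44529 rfl).symm
theorem L44531 : sm gf N356 = N350 := trfs L44519 L1872 rfl
theorem L44532 : N350 = N706 := eqes L44531 L3631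
theorem L44533 : N706 = N350 := (eqc rfl L44532 rfl).symm
theorem L44534 : sm gg N356 = N178 := trfs L44519 L1869 rfl
theorem L44535 : sm gg N178 = N356 := flp_g L44534
theorem L44543 : sm gd N350 = N700 := trfs L44533 L3634 rfl
theorem L44544 : N700 = N695 := eqes L44543 L3582
theorem L44545 : N700 = N695 := eqc rfl L44544 rfl
theorem L44546 : sm ge N350 = N1413 := trfs L44533 L7253 rfl
theorem L44547 : N1413 = N179 := eqes L44546 L1798
theorem L44548 : N1413 = N179 := eqc rfl L44547 rfl
theorem L44549 : sm gf N350 = N356 := trfs L44533 L3632 rfl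
theorem L44550 : sm gf N356 = N350 := flp_f L44549
theorem L44556 : sm gc N179 = N876 := trfs L44548 L9114 rfl
theorem L44557 : N876 = N361 := eqes L44556 L1858
theorem L44558 : N876 = N350 := eqc rfl L44557 L44261
theorem L44563 : sm gb N350 = N1768 := trfs L44558 L9061 rfl
theorem L44564 : N1768 = N636 := eqes L44563 L3283
theorem L44565 : N1768 = N636 := eqc rfl L44564 rfl
theorem L44566 : sm gd N350 = N442 := trfs L44558 L4493 rfl
theorem L44567 : N442 = N695 := eqes L44566 L3582
theorem L44568 : N695 = N442 := (eqc rfl L44567 rfl).symm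
theorem L44575 : sm gg N350 = N1774 := trfs L44558 L9084 rfl
theorem L44576 : N1774 = N171 := eqes L44575 L1796
theorem L44577 : N1774 = N171 := eqc rfl L44576 rfl
theorem L44590 : sm gf N171 = N360 := trfs L44577 L9130 L44510
theorem L44591 : N360 = N349 := eqes L44590 L1790
theorem L44592 : N360 = N349 := eqc rfl L44591 rfl
theorem L44594 : sm gb N349 = N711 := trfs L44592 L3662 rfl
theorem L44595 : N711 = N635 := eqes L44594 L3275
theorem L44596 : N711 = N635 := eqc rfl L44595 rfl
theorem L44597 : sm gc N349 = N178 := trfs L44592 L1852 rfl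
theorem L44598 : N178 = N692 := eqes L44597 L3561
theorem L44599 : N692 = N178 := (eqc rfl L44598 rfl).symm
theorem L44600 : sm gd N349 = N715 := trfs L44592 L3681 rfl
theorem L44601 : N715 = N694 := eqes L44600 L3577
theorem L44602 : N715 = N694 := eqc rfl L44601 rfl
theorem L44605 : sm gg N349 = N704 := trfs L44592 L3684 L44526
theorem L44606 : N704 = N364 := eqes L44605 L1879
theorem L44607 : N704 = N364 := eqc rfl L44606 rfl
theorem L44612 : sm gc N364 = N356 := trfs L44607 L3626 rfl
theorem L44613 : N356 = N687 := eqes L44612 L3542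
theorem L44614 : N687 = N356 := (eqc rfl L44613 rfl).symm
theorem L44615 : sm gd N364 = N1410 := trfs L44607 L7236 rfl
theorem L44616 : N1410 = N720 := eqes L44615 L3712
theorem L44617 : N1410 = N708 := eqc rfl L44616 L44351
theorem L44638 : sm gg N708 = N2738 := trfs L44617 L14453 rfl
theorem L44639 : N2738 = N1419 := eqes L44638 L7281
theorem L44640 : N2738 = N1419 := eqc rfl L44639 rfl
theorem L44654 : sm gf N1419 = N4975 := trfs L44640 L27335 rfl
theorem L44655 : N4975 = N709 := eqes L44654 L7287
theorem L44656 : N4975 = N709 := eqc rfl L44655 rfl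
theorem L44664 : sm ge N709 = N4974 := trfs L44656 L27340 rfl
theorem L44665 : N4974 = N1419 := eqes L44664 L7285
theorem L44666 : N4974 = N1419 := eqc rfl L44665 rfl
theorem L44674 : sm gd N1419 = N4203 := trfs L44666 L36336 rfl
theorem L44675 : N4203 = N1391 := eqes L44674 L44389
theorem L44676 : N4203 = N1391 := eqc rfl L44675 rfl
theorem L44689 : sm gg N1391 = N6828 := trfs L44676 L37598 rfl
theorem L44690 : N6828 = N694 := eqes L44689 L7144
theorem L44691 : N6828 = N694 := eqc rfl L44690 rfl
theorem L44702 : sm gf N694 = N3888 := trfs L44691 L37591 rfl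
theorem L44703 : N3888 = N351 := eqes L44702 L3580
theorem L44704 : N3888 = N351 := eqc rfl L44703 rfl
theorem L44716 : sm gg N351 = N6519 := trfs L44704 L35734 rfl
theorem L44717 : N6519 = N698 := eqes L44716 L3596
theorem L44718 : N6519 = N698 := eqc rfl L44717 rfl
theorem L44720 : sm gc N698 = N3650 := trfs L44718 L35727 rfl
theorem L44721 : N3650 = N1397 := eqes L44720 L7172
theorem L44722 : N3650 = N1397 := eqc rfl L44721 rfl
theorem L44733 : sm gf N1397 = N2106 := trfs L44722 L19559 rfl
theorem L44734 : N2106 = N2721 := eqes L44733 L14354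
theorem L44735 : N2721 = N2106 := (eqc rfl L44734 rfl).symm
theorem L44747 : sm gf N2106 = N1397 := trfs L44735 L14355 rfl
theorem L44749 : sm gg N2106 = N985 := trfs L44735 L14361 L44419
theorem L44750 : N985 = N3972 := eqes L44749 L21509
theorem L44751 : N3972 = N985 := (eqc rfl L44750 rfl).symm
theorem L44765 : sm gg N985 = N2106 := trfs L44751 L21510 rfl
theorem L44766 : N2106 = N1797 := eqes L44765 L9680
theorem L44767 : N2106 = N1797 := eqc rfl L44766 rfl
theorem L44779 : sm gf N1797 = N1397 := trfs L44767 L44747 rfl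
theorem L44780 : N1397 = N3495 := eqes L44779 L18538
theorem L44781 : N3495 = N1397 := (eqc rfl L44780 rfl).symm
theorem L44793 : sm gf N1397 = N1797 := trfs L44781 L18539 rfl
theorem L44795 : sm gg N1397 = N3766 := trfs L44781 L20253 rfl
theorem L44796 : N3766 = N696 := eqes L44795 L7169
theorem L44797 : N3766 = N696 := eqc rfl L44796 rfl
theorem L44803 : sm gd N696 = N2158 := trfs L44797 L20255 rfl
theorem L44804 : N2158 = N1395 := eqes L44803 L7160
theorem L44805 : N2158 = N1395 := eqc rfl L44804 rfl
theorem L44821 : sm gg N1395 = N3578 := trfs L44805 L19090 rfl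
theorem L44822 : N3578 = N2717 := eqes L44821 L14332
theorem L44823 : N3578 = N2717 := eqc rfl L44822 rfl
theorem L44837 : sm gf N2717 = N4063 := trfs L44823 L22104 rfl
theorem L44838 : N4063 = N2717 := eqes L44837 L14369
theorem L44839 : N4063 = N2717 := eqc rfl L44838 rfl
theorem L44853 : sm gg N2717 = N2167 := trfs L44839 L22098 rfl
theorem L44854 : N2167 = N1395 := eqes L44853 L14333
theorem L44855 : N2167 = N1395 := eqc rfl L44854 rfl
theorem L44863 : sm gd N1395 = N4062 := trfs L44855 L22094 rfl
theorem L44864 : N4062 = N696 := eqes L44863 L7161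
theorem L44865 : N4062 = N696 := eqc rfl L44864 rfl
theorem L44884 : sm gg N696 = N4135 := trfs L44865 L22512 rfl
theorem L44885 : N4135 = N1397 := eqes L44884 L7168
theorem L44886 : N4135 = N1397 := eqc rfl L44885 rfl
theorem L44894 : sm ge N1397 = N2255 := trfs L44886 L22509 rfl
theorem L44895 : N2255 = N2719 := eqes L44894 L14346
theorem L44896 : N2719 = N2255 := (eqc rfl L44895 rfl).symm
theorem L44897 : sm gf N1397 = N7044 := trfs L44886 L38854 rfl
theorem L44898 : N7044 = N1797 := eqes L44897 L44793
theorem L44899 : N7044 = N1797 := eqc rfl L44898 rfl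
theorem L44907 : sm gg N1797 = N4042 := trfs L44899 L38850 rfl
theorem L44908 : N4042 = N985 := eqes L44907 L9679
theorem L44909 : N4042 = N985 := eqc rfl L44908 rfl
theorem L44917 : sm gd N985 = N2155 := trfs L44909 L21962 rfl
theorem L44918 : N2155 = N538 := eqes L44917 L5036
theorem L44919 : N2155 = N538 := eqc rfl L44918 rfl
theorem L44936 : sm gg N538 = N1806 := trfs L44919 L11255 rfl
theorem L44937 : N1806 = N894 := eqes L44936 L9669
theorem L44938 : N1806 = N894 := eqc rfl L44937 rfl
theorem L44949 : sm ge N894 = N2157 := trfs L44938 L11265 rfl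
theorem L44950 : N2157 = N1805 := eqes L44949 L9263
theorem L44951 : N2157 = N1805 := eqc rfl L44950 rfl
theorem L44960 : sm gd N1805 = N3988 := trfs L44951 L21647 rfl
theorem L44961 : N3988 = N3504 := eqes L44960 L18595
theorem L44962 : N3988 = N3504 := eqc rfl L44961 rfl
theorem L44978 : sm gg N3504 = N3976 := trfs L44962 L21644 rfl
theorem L44979 : N3976 = N1902 := eqes L44978 L18603
theorem L44980 : N3976 = N1902 := eqc rfl L44979 rfl
theorem L44993 : sm gf N1902 = N2110 := trfs L44980 L21540 rfl
theorem L44994 : N2110 = N946 := eqes L44993 L9830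
theorem L44995 : N2110 = N946 := eqc rfl L44994 rfl
theorem L45009 : sm gg N946 = N3977 := trfs L44995 L21548 rfl
theorem L45010 : N3977 = N1903 := eqes L45009 L9834
theorem L45011 : N3977 = N1903 := eqc rfl L45010 rfl
theorem L45016 : sm gc N1903 = N2112 := trfs L45011 L21553 rfl
theorem L45017 : N2112 = N949 := eqes L45016 L9837
theorem L45018 : N2112 = N949 := eqc rfl L45017 rfl
theorem L45019 : sm gd N1903 = N6520 := trfs L45011 L35745 rfl
theorem L45020 : N6520 = N3651 := eqes L45019 L19563
theorem L45021 : N6520 = N3651 := eqc rfl L45020 rfl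
theorem L45036 : sm gg N3651 = N3974 := trfs L45021 L35742 rfl
theorem L45037 : N3974 = N2108 := eqes L45036 L19568
theorem L45038 : N3974 = N2108 := eqc rfl L45037 rfl
theorem L45050 : sm gf N2108 = N3579 := trfs L45038 L21526 rfl
theorem L45051 : N3579 = N3975 := eqes L45050 L21530
theorem L45052 : N3975 = N3579 := (eqc rfl L45051 rfl).symm
theorem L45060 : sm gd N3579 = N2216 := trfs L45052 L21537 rfl
theorem L45061 : N2216 = N1856 := eqes L45060 L19095
theorem L45062 : N2216 = N1856 := eqc rfl L45061 rfl
theorem L45075 : sm gg N1856 = N1122 := trfs L45062 L11601 rfl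
theorem L45076 : N1122 = N2222 := eqes L45075 L11642
theorem L45077 : N2222 = N1122 := (eqc rfl L45076 rfl).symm
theorem L45083 : sm gd N1122 = N1799 := trfs L45077 L11643 rfl
theorem L45084 : N1799 = N2214 := eqes L45083 L11590
theorem L45085 : N2214 = N1799 := (eqc rfl L45084 rfl).symm
theorem L45089 : sm gg N1122 = N1856 := trfs L45077 L11641 rfl
theorem L45090 : sm gg N1856 = N1122 := flp_g L45089
theorem L45096 : sm gd N1799 = N1122 := trfs L45085 L11591 rfl
theorem L45097 : sm gd N1122 = N1799 := flp_d L45096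
theorem L45102 : sm gg N1799 = N3509 := trfs L45085 L18632 rfl
theorem L45103 : N3509 = N1809 := eqes L45102 L9283
theorem L45104 : N3509 = N1809 := eqc rfl L45103 rfl
theorem L45114 : sm gf N1809 = N3912 := trfs L45104 L21168 rfl
theorem L45115 : N3912 = N895 := eqes L45114 L9276
theorem L45116 : N3912 = N895 := eqc rfl L45115 rfl
theorem L45122 : sm gg N895 = N2221 := trfs L45116 L21169 rfl
theorem L45123 : N2221 = N1798 := eqes L45122 L9233
theorem L45124 : N2221 = N1798 := eqc rfl L45123 rfl
theorem L45128 : sm gd N1798 = N1146 := trfs L45124 L11634 rfl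
theorem L45129 : N1146 = N1151 := eqes L45128 L9237
theorem L45130 : N1151 = N1146 := (eqc rfl L45129 rfl).symm
theorem L45143 : sm ge N1146 = N2276 := trfs L45130 L11917 rfl
theorem L45144 : N2276 = N2253 := eqes L45143 L11808
theorem L45145 : N2276 = N2253 := eqc rfl L45144 rfl
theorem L45149 : sm gg N1146 = N2277 := trfs L45130 L11934 rfl
theorem L45150 : N2277 = N2266 := eqes L45149 L11860
theorem L45151 : N2277 = N2266 := eqc rfl L45150 rfl
theorem L45160 : sm ge N2266 = N2260 := trfs L45151 L11937 rfl
theorem L45161 : N2260 = N2268 := eqes L45160 L11874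
theorem L45162 : N2268 = N2260 := (eqc rfl L45161 rfl).symm
theorem L45163 : sm gf N2266 = N2259 := trfs L45151 L11940 rfl
theorem L45164 : N2259 = N2254 := eqes L45163 L11864
theorem L45165 : N2259 = N2254 := eqc rfl L45164 rfl
theorem L45179 : sm gg N2254 = N1150 := trfs L45165 L11831 rfl
theorem L45180 : N1150 = N1139 := eqes L45179 L11810
theorem L45181 : N1150 = N1139 := eqc rfl L45180 rfl
theorem L45189 : sm gd N1139 = N2270 := trfs L45181 L11884 rfl
theorem L45190 : N2270 = N566 := eqes L45189 L5802
theorem L45191 : N2270 = N566 := eqc rfl L45190 rfl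
theorem L45207 : sm gg N566 = N4212 := trfs L45191 L22972 rfl
theorem L45208 : N4212 = N1141 := eqes L45207 L5811
theorem L45209 : N4212 = N1141 := eqc rfl L45208 rfl
theorem L45220 : sm gf N1141 = N3854 := trfs L45209 L22969 rfl
theorem L45221 : N3854 = N1142 := eqes L45220 L5819
theorem L45222 : N3854 = N1142 := eqc rfl L45221 rfl
theorem L45225 : sm gc N1142 = N2383 := trfs L45222 L20795 rfl
theorem L45226 : N2383 = N2249 := eqes L45225 L11782
theorem L45227 : N2383 = N2249 := eqc rfl L45226 rfl
theorem L45233 : sm gg N1142 = N2271 := trfs L45222 L20793 rfl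
theorem L45234 : N2271 = N567 := eqes L45233 L5817
theorem L45235 : N2271 = N567 := eqc rfl L45234 rfl
theorem L45238 : sm gc N567 = N1234 := trfs L45235 L11890 rfl
theorem L45239 : N1234 = N1137 := eqes L45238 L5795
theorem L45240 : N1234 = N1137 := eqc rfl L45239 rfl
theorem L45248 : sm gd N1137 = N613 := trfs L45240 L6302 rfl
theorem L45249 : N613 = N1227 := eqes L45248 L11563
theorem L45250 : N1227 = N613 := (eqc rfl L45249 rfl).symm
theorem L45254 : sm gf N1137 = N2269 := trfs L45240 L11892 rfl
theorem L45255 : N2269 = N565 := eqes L45254 L5792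
theorem L45256 : N2269 = N565 := eqc rfl L45255 rfl
theorem L45267 : sm gg N565 = N2384 := trfs L45256 L12526 rfl
theorem L45268 : N2384 = N1138 := eqes L45267 L5796
theorem L45269 : N2384 = N1138 := eqc rfl L45268 rfl
theorem L45271 : sm gb N1138 = N4392 := trfs L45269 L23894 rfl
theorem L45272 : N4392 = N2245 := eqes L45271 L11760
theorem L45273 : N4392 = N2245 := eqc rfl L45272 rfl
theorem L45279 : sm gf N1138 = N1207 := trfs L45269 L12524 rfl
theorem L45280 : N1207 = N2251 := eqes L45279 L11788
theorem L45281 : N2251 = N1207 := (eqc rfl L45280 rfl).symm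
theorem L45288 : sm gd N1207 = N4194 := trfs L45281 L22830 rfl
theorem L45289 : N4194 = N598 := eqes L45288 L6153
theorem L45290 : N4194 = N598 := eqc rfl L45289 rfl
theorem L45304 : sm gf N598 = N4501 := trfs L45290 L24639 rfl
theorem L45305 : N4501 = N596 := eqes L45304 L3079
theorem L45306 : N4501 = N596 := eqc rfl L45305 rfl
theorem L45307 : sm gg N598 = N2448 := trfs L45290 L22836 rfl
theorem L45308 : N2448 = N300 := eqes L45307 L3074
theorem L45309 : N2448 = N300 := eqc rfl L45308 rfl
theorem L45323 : sm gf N300 = N1252 := trfs L45309 L12904 rfl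
theorem L45324 : N1252 = N150 := eqes L45323 L1548
theorem L45325 : N1252 = N150 := eqc rfl L45324 rfl
theorem L45333 : sm gd N150 = N2428 := trfs L45325 L12811 rfl
theorem L45334 : N2428 = N83 := eqes L45333 L786
theorem L45335 : N2428 = N83 := eqc rfl L45334 rfl
theorem L45339 : sm gg N150 = N2449 := trfs L45325 L12908 rfl
theorem L45340 : N2449 = N301 := eqes L45339 L1552
theorem L45341 : N2449 = N301 := eqc rfl L45340 rfl
theorem L45346 : sm gc N301 = N1255 := trfs L45341 L12911 rfl
theorem L45347 : N1255 = N153 := eqes L45346 L1555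
theorem L45348 : N1255 = N153 := eqc rfl L45347 rfl
theorem L45349 : sm gd N301 = N4503 := trfs L45341 L24647 rfl
theorem L45350 : N4503 = N599 := eqes L45349 L3080
theorem L45351 : N4503 = N599 := eqc rfl L45350 rfl
theorem L45364 : sm gg N599 = N3461 := trfs L45351 L24650 rfl
theorem L45365 : N3461 = N346 := eqes L45364 L3083
theorem L45366 : N3461 = N346 := eqc rfl L45365 rfl
theorem L45374 : sm gd N346 = N4464 := trfs L45366 L24430 rfl
theorem L45375 : N4464 = N170 := eqes L45374 L1772
theorem L45376 : N4464 = N170 := eqc rfl L45375 rfl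
theorem L45387 : sm ge N170 = N3459 := trfs L45376 L24424 rfl
theorem L45388 : N3459 = N343 := eqes L45387 L1760
theorem L45389 : N3459 = N173 := eqc rfl L45388 L44232
theorem L45398 : sm gd N173 = N1776 := trfs L45389 L18319 rfl
theorem L45399 : N1776 = N352 := eqes L45398 L1803
theorem L45400 : N1776 = N352 := eqc rfl L45399 rfl
theorem L45404 : sm gg N173 = N3734 := trfs L45389 L20051 rfl
theorem L45405 : N3734 = N84 := eqes L45404 L898
theorem L45406 : N3734 = N84 := eqc rfl L45405 rfl
theorem L45417 : sm ge N84 = N83 := trfs L45406 L24422 L45335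
theorem L45418 : N83 = N39 := eqes L45417 L445
theorem L45419 : N83 = N39 := eqc rfl L45418 rfl
theorem L45420 : sm gf N84 = N6479 := trfs L45406 L35473 rfl
theorem L45421 : N6479 = N172 := eqes L45420 L892
theorem L45422 : N6479 = N172 := eqc rfl L45421 rfl
theorem L45433 : sm ge N172 = N3620 := trfs L45422 L35466 rfl
theorem L45434 : N3620 = N85 := eqes L45433 L895
theorem L45435 : N3620 = N85 := eqc rfl L45434 rfl
theorem L45443 : sm gd N85 = N6478 := trfs L45435 L35456 rfl
theorem L45444 : N6478 = N174 := eqes L45443 L902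
theorem L45445 : N6478 = N174 := eqc rfl L45444 rfl
theorem L45450 : sm gc N174 = N4919 := trfs L45445 L35461 rfl
theorem L45451 : N4919 = N353 := eqes L45450 L1807
theorem L45452 : N4919 = N353 := eqc rfl L45451 rfl
theorem L45453 : sm ge N174 = N4918 := trfs L45445 L35464 rfl
theorem L45454 : N4918 = N354 := eqes L45453 L1816
theorem L45455 : N4918 = N354 := eqc rfl L45454 rfl
theorem L45459 : sm gg N174 = N6787 := trfs L45445 L37312 rfl
theorem L45460 : N6787 = N355 := eqes L45459 L1825
theorem L45461 : N6787 = N355 := eqc rfl L45460 rfl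
theorem L45472 : sm gf N355 = N4441 := trfs L45461 L37309 rfl
theorem L45473 : N4441 = N180 := eqes L45472 L44501
theorem L45474 : N4441 = N180 := eqc rfl L45473 rfl
theorem L45482 : sm ge N180 = N4189 := trfs L45474 L24242 rfl
theorem L45483 : N4189 = N366 := eqes L45482 L1885
theorem L45484 : N4189 = N183 := eqc rfl L45483 L44466
theorem L45486 : sm gc N183 = N3839 := trfs L45484 L22811 rfl
theorem L45487 : N3839 = N250 := eqes L45486 L1289
theorem L45488 : N3839 = N250 := eqc rfl L45487 rfl
theorem L45507 : sm gg N250 = N6785 := trfs L45488 L37293 rfl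
theorem L45508 : N6785 = N181 := eqes L45507 L1287
theorem L45509 : N6785 = N181 := eqc rfl L45508 rfl
theorem L45515 : sm ge N181 = N4920 := trfs L45509 L37298 rfl
theorem L45516 : N4920 = N370 := eqes L45515 L1901
theorem L45517 : N4920 = N370 := eqc rfl L45516 rfl
theorem L45523 : sm gf N370 = N2684 := trfs L45517 L26962 rfl
theorem L45524 : N2684 = N246 := eqes L45523 L1906
theorem L45525 : N2684 = N237 := eqc rfl L45524 L43477
theorem L45532 : sm gc N237 = N354 := trfs L45525 L26949 L45455
theorem L45533 : N354 = N472 := eqes L45532 L2446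
theorem L45534 : N472 = N354 := (eqc rfl L45533 rfl).symm
theorem L45538 : sm ge N237 = N353 := trfs L45525 L26954 L45452
theorem L45539 : N353 = N473 := eqes L45538 L2451
theorem L45540 : N473 = N353 := (eqc rfl L45539 rfl).symm
theorem L45548 : sm gd N353 = N942 := trfs L45540 L4810 rfl
theorem L45549 : N942 = N702 := eqes L45548 L3615
theorem L45550 : N942 = N702 := eqc rfl L45549 rfl
theorem L45553 : sm gf N353 = N463 := trfs L45540 L2452 rfl
theorem L45554 : N463 = N181 := eqes L45553 L1810
theorem L45555 : N463 = N181 := eqc rfl L45554 rfl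
theorem L45556 : sm gg N353 = N236 := trfs L45540 L2448 rfl
theorem L45557 : N236 = N249 := eqes L45556 L1812
theorem L45558 : N249 = N236 := (eqc rfl L45557 rfl).symm
theorem L45562 : sm gc N236 = N355 := trfs L45558 L1829 rfl
theorem L45563 : N355 = N471 := eqes L45562 L2441
theorem L45564 : N471 = N355 := (eqc rfl L45563 rfl).symm
theorem L45565 : sm gd N236 = N237 := trfs L45558 L1333 L44449
theorem L45566 : N237 = N124 := eqes L45565 L1224
theorem L45567 : N237 = N124 := eqc rfl L45566 rfl
theorem L45574 : sm gb N124 = N397 := trfs L45567 L2089 rfl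
theorem L45575 : N397 = N212 := eqes L45574 L1117
theorem L45576 : N397 = N212 := eqc rfl L45575 rfl
theorem L45577 : sm gc N124 = N354 := trfs L45567 L2446 L45534
theorem L45578 : N354 = N243 := eqes L45577 L1250
theorem L45579 : N354 = N243 := eqc rfl L45578 rfl
theorem L45582 : sm gf N124 = N370 := trfs L45567 L2454 L43495
theorem L45583 : N370 = N224 := eqes L45582 L1171
theorem L45584 : N370 = N224 := eqc rfl L45583 rfl
theorem L45585 : sm gg N124 = N121 := trfs L45567 L1227 rfl
theorem L45586 : N121 = N245 := eqes L45585 L1256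
theorem L45587 : N245 = N121 := (eqc rfl L45586 rfl).symm
theorem L45592 : sm gc N121 = N489 := trfs L45587 L2529 rfl
theorem L45593 : N489 = N235 := eqes L45592 L1218
theorem L45594 : N489 = N235 := eqc rfl L45593 rfl
theorem L45598 : sm ge N121 = N125 := trfs L45587 L1259 rfl
theorem L45599 : N125 = N236 := eqes L45598 L1221
theorem L45600 : N236 = N125 := (eqc rfl L45599 rfl).symm
theorem L45601 : sm gf N121 = N225 := trfs L45587 L1261 rfl
theorem L45602 : N225 = N231 := eqes L45601 L1198
theorem L45603 : N231 = N225 := (eqc rfl L45602 rfl).symm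
theorem L45604 : sm gg N121 = N124 := trfs L45587 L1257 rfl
theorem L45605 : sm gg N124 = N121 := flp_g L45604
theorem L45609 : sm gc N225 = N461 := trfs L45603 L2400 rfl
theorem L45610 : N461 = N448 := eqes L45609 L2346
theorem L45611 : N461 = N448 := eqc rfl L45610 rfl
theorem L45612 : sm gd N225 = N119 := trfs L45603 L1195 rfl
theorem L45613 : N119 = N449 := eqes L45612 L2347
theorem L45614 : N240 = N119 := (eqc rfl L45613 L40510).symm
theorem L45615 : sm ge N225 = N365 := trfs L45603 L2405 L44479
theorem L45616 : N365 = N247 := eqes L45615 L1272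
theorem L45617 : N365 = N247 := eqc rfl L45616 rfl
theorem L45618 : sm gf N225 = N121 := trfs L45603 L1197 rfl
theorem L45619 : sm gf N121 = N225 := flp_f L45618
theorem L45620 : sm gg N225 = N181 := trfs L45603 L2410 L45555
theorem L45621 : N181 = N114 := eqes L45620 L1173
theorem L45622 : N181 = N114 := eqc rfl L45621 rfl
theorem L45625 : sm gc N114 = N89 := trfs L45622 L933 rfl
theorem L45626 : N89 = N223 := eqes L45625 L1162
theorem L45627 : N223 = N89 := (eqc rfl L45626 rfl).symm
theorem L45635 : sm gg N114 = N250 := trfs L45622 L1286 rfl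
theorem L45636 : N250 = N225 := eqes L45635 L1172
theorem L45637 : N250 = N225 := eqc rfl L45636 rfl
theorem L45641 : sm gc N225 = N183 := trfs L45637 L1288 rfl
theorem L45642 : N183 = N448 := eqes L45641 L2346
theorem L45643 : N448 = N183 := (eqc rfl L45642 rfl).symm
theorem L45646 : N449 = N119 := L40510.trans L45614
theorem L45651 : sm gb N183 = N884 := trfs L45643 L4536 rfl
theorem L45652 : N884 = N336 := eqes L45651 L1729
theorem L45653 : N884 = N336 := eqc rfl L45652 rfl
theorem L45654 : sm gc N183 = N225 := trfs L45643 L2345 rfl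
theorem L45655 : sm gc N225 = N183 := flp_c L45654
theorem L45661 : sm gf N183 = N235 := trfs L45643 L2533 L45594
theorem L45662 : N235 = N248 := eqes L45661 L1290
theorem L45663 : N248 = N235 := (eqc rfl L45662 rfl).symm
theorem L45666 : sm gb N235 = N494 := trfs L45663 L2552 rfl
theorem L45667 : N494 = N469 := eqes L45666 L2432
theorem L45668 : N494 = N469 := eqc rfl L45667 rfl
theorem L45670 : sm gd N235 = N495 := trfs L45663 L2556 rfl
theorem L45671 : N495 = N470 := eqes L45670 L2434
theorem L45672 : N495 = N470 := eqc rfl L45671 rfl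
theorem L45677 : N461 = N183 := L45611.trans L45643
theorem L45680 : N472 = N243 := L45534.trans L45579
theorem L45682 : sm gb N470 = N984 := trfs L45672 L5031 rfl
theorem L45683 : N984 = N933 := eqes L45682 L4770
theorem L45684 : N984 = N933 := eqc rfl L45683 rfl
theorem L45688 : sm ge N470 = N694 := trfs L45672 L44423 rfl
theorem L45689 : N694 = N936 := eqes L45688 L4780
theorem L45690 : N936 = N694 := (eqc rfl L45689 rfl).symm
theorem L45691 : sm gf N470 = N697 := trfs L45672 L44441 rfl
theorem L45692 : N697 = N488 := eqes L45691 L2650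
theorem L45693 : N697 = N488 := eqc rfl L45692 rfl
theorem L45694 : sm gg N470 = N988 := trfs L45672 L5045 rfl
theorem L45695 : N988 = N937 := eqes L45694 L4783
theorem L45696 : N988 = N937 := eqc rfl L45695 rfl
theorem L45698 : sm gb N937 = N1972 := trfs L45696 L10238 rfl
theorem L45699 : N1972 = N1874 := eqes L45698 L9705
theorem L45700 : N1972 = N1874 := eqc rfl L45699 rfl
theorem L45705 : sm gd N937 = N1398 := trfs L45696 L7181 rfl
theorem L45706 : N1398 = N1881 := eqes L45705 L9736
theorem L45707 : N1881 = N1398 := (eqc rfl L45706 rfl).symm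
theorem L45708 : sm gf N937 = N698 := trfs L45696 L10274 L44365
theorem L45709 : N698 = N1882 := eqes L45708 L9741
theorem L45710 : N1882 = N698 := (eqc rfl L45709 rfl).symm
theorem L45721 : sm ge N698 = N972 := trfs L45710 L9744 rfl
theorem L45722 : N972 = N1398 := eqes L45721 L7177
theorem L45723 : N1398 = N972 := (eqc rfl L45722 rfl).symm
theorem L45726 : N1399 = N937 := L44392.trans L45696
theorem L45727 : sm gg N698 = N965 := trfs L45710 L9746 rfl
theorem L45728 : N965 = N351 := eqes L45727 L3597
theorem L45729 : N965 = N351 := eqc rfl L45728 rfl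
theorem L45731 : sm gb N351 = N1927 := trfs L45729 L9969 rfl
theorem L45732 : N1927 = N659 := eqes L45731 L3411
theorem L45733 : N1927 = N659 := eqc rfl L45732 rfl
theorem L45737 : sm gd N351 = N485 := trfs L45729 L4931 rfl
theorem L45738 : N485 = N172 := eqes L45737 L1801
theorem L45739 : N485 = N172 := eqc rfl L45738 rfl
theorem L45749 : sm ge N172 = N242 := trfs L45739 L2511 rfl
theorem L45750 : N242 = N85 := eqes L45749 L895
theorem L45751 : N242 = N85 := eqc rfl L45750 rfl
theorem L45755 : sm gg N172 = N967 := trfs L45739 L4943 rfl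
theorem L45756 : N967 = N176 := eqes L45755 L918
theorem L45757 : N967 = N176 := eqc rfl L45756 rfl
theorem L45770 : sm gf N176 = N968 := trfs L45757 L4953 rfl
theorem L45771 : N968 = N86 := eqes L45770 L913
theorem L45772 : N968 = N86 := eqc rfl L45771 rfl
theorem L45777 : sm gc N86 = N86 := trfs L45772 L4952 L45772
theorem L45778 : N86 = N170 := eqes L45777 L886
theorem L45779 : N170 = N86 := (eqc rfl L45778 rfl).symm
theorem L45785 : sm gg N86 = N486 := trfs L45772 L4950 rfl
theorem L45786 : N486 = N39 := eqes L45785 L451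
theorem L45787 : N486 = N39 := eqc rfl L45786 rfl
theorem L45794 : sm gd N39 = N887 := trfs L45787 L4548 rfl
theorem L45795 : N887 = N17 := eqes L45794 L200
theorem L45796 : N887 = N17 := eqc rfl L45795 rfl
theorem L45812 : sm gg N17 = N1791 := trfs L45796 L9191 rfl
theorem L45813 : N1791 = N17 := eqes L45812 L89
theorem L45814 : N1791 = N17 := eqc rfl L45813 rfl
theorem L45827 : sm gf N17 = N1790 := trfs L45814 L9195 rfl
theorem L45828 : N1790 = N41 := eqes L45827 L208
theorem L45829 : N1790 = N41 := eqc rfl L45828 rfl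
theorem L45843 : sm gg N41 = N886 := trfs L45829 L9187 rfl
theorem L45844 : N886 = N88 := eqes L45843 L465
theorem L45845 : N886 = N88 := eqc rfl L45844 rfl
theorem L45853 : sm gd N88 = N919 := trfs L45845 L4698 rfl
theorem L45854 : N919 = N180 := eqes L45853 L929
theorem L45855 : N919 = N180 := eqc rfl L45854 rfl
theorem L45859 : sm gb N180 = N881 := trfs L45855 L4691 rfl
theorem L45860 : N881 = N323 := eqes L45859 L1669
theorem L45861 : N881 = N323 := eqc rfl L45860 rfl
theorem L45868 : sm gg N180 = N941 := trfs L45855 L4809 rfl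
theorem L45869 : N941 = N182 := eqes L45868 L44488
theorem L45870 : N941 = N182 := eqc rfl L45869 rfl
theorem L45881 : sm ge N182 = N920 := trfs L45870 L4806 rfl
theorem L45882 : N920 = N89 := eqes L45881 L936
theorem L45883 : N920 = N89 := eqc rfl L45882 rfl
theorem L45894 : sm gd N89 = N1238 := trfs L45883 L6333 rfl
theorem L45895 : N1238 = N41 := eqes L45894 L467
theorem L45896 : N1238 = N41 := eqc rfl L45895 rfl
theorem L45912 : sm gg N41 = N977 := trfs L45896 L6330 rfl
theorem L45913 : N977 = N88 := eqes L45912 L465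
theorem L45914 : N977 = N88 := eqc rfl L45913 rfl
theorem L45922 : sm gd N88 = N491 := trfs L45914 L4989 rfl
theorem L45923 : N491 = N180 := eqes L45922 L929
theorem L45924 : N491 = N180 := eqc rfl L45923 rfl
theorem L45928 : sm gf N88 = N622 := trfs L45914 L4996 rfl
theorem L45929 : N622 = N40 := eqes L45928 L458
theorem L45930 : N622 = N40 := eqc rfl L45929 rfl
theorem L45944 : sm gg N40 = N1243 := trfs L45930 L6367 rfl
theorem L45945 : N1243 = N40 := eqes L45944 L207
theorem L45946 : N1243 = N40 := eqc rfl L45945 rfl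
theorem L45954 : sm gd N40 = N2431 := trfs L45946 L12821 rfl
theorem L45955 : N2431 = N87 := eqes L45954 L454
theorem L45956 : N2431 = N87 := eqc rfl L45955 rfl
theorem L45970 : sm gg N87 = N3735 := trfs L45956 L20056 rfl
theorem L45971 : N3735 = N179 := eqes L45970 L925
theorem L45972 : N3735 = N179 := eqc rfl L45971 rfl
theorem L45984 : sm gf N179 = N6630 := trfs L45972 L36367 rfl
theorem L45985 : N6630 = N364 := eqes L45984 L1873
theorem L45986 : N6630 = N364 := eqc rfl L45985 rfl
theorem L45997 : sm gg N364 = N6483 := trfs L45986 L36374 rfl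
theorem L45998 : N6483 = N349 := eqes L45997 L1878
theorem L45999 : N6483 = N349 := eqc rfl L45998 rfl
theorem L46003 : sm gd N349 = N3624 := trfs L45999 L35506 rfl
theorem L46004 : N3624 = N694 := eqes L46003 L3577
theorem L46005 : N3624 = N694 := eqc rfl L46004 rfl
theorem L46012 : sm gc N694 = N3664 := trfs L46005 L19639 rfl
theorem L46013 : N3664 = N1389 := eqes L46012 L7131
theorem L46014 : N3664 = N1389 := eqc rfl L46013 rfl
theorem L46017 : sm gf N694 = N1888 := trfs L46005 L19414 rfl
theorem L46018 : N1888 = N351 := eqes L46017 L3580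
theorem L46019 : N1888 = N351 := eqc rfl L46018 rfl
theorem L46020 : sm gg N694 = N3615 := trfs L46005 L19418 rfl
theorem L46021 : N3615 = N1391 := eqes L46020 L7143
theorem L46022 : N3615 = N1391 := eqc rfl L46021 rfl
theorem L46033 : sm ge N1391 = N1913 := trfs L46022 L19364 rfl
theorem L46034 : N1913 = N1399 := eqes L46033 L7186
theorem L46035 : N1913 = N937 := eqc rfl L46034 L45726
theorem L46036 : N1881 = N972 := L45707.trans L45723
theorem L46049 : sm gf N937 = N3614 := trfs L46035 L19358 rfl
theorem L46050 : sm gf N3614 = N937 := flp_f L46049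
theorem L46051 : sm gg N937 = N1889 := trfs L46035 L9887 rfl
theorem L46052 : N1889 = N470 := eqes L46051 L4784
theorem L46053 : N1889 = N470 := eqc rfl L46052 rfl
theorem L46066 : sm gf N470 = N940 := trfs L46053 L9773 rfl
theorem L46067 : N940 = N488 := eqes L46066 L2650
theorem L46068 : N940 = N488 := eqc rfl L46067 rfl
theorem L46073 : sm gc N488 = N1887 := trfs L46068 L9764 rfl
theorem L46074 : N1887 = N971 := eqes L46073 L4968
theorem L46075 : N1887 = N873 := eqc rfl L46074 L43614
theorem L46092 : sm gg N873 = N3613 := trfs L46075 L19345 rfl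
theorem L46093 : N3613 = N440 := eqes L46092 L4477
theorem L46094 : N3613 = N440 := eqc rfl L46093 rfl
theorem L46099 : sm gc N440 = N972 := trfs L46094 L19342 L46036
theorem L46100 : N972 = N871 := eqes L46099 L4468
theorem L46101 : N972 = N871 := eqc rfl L46100 rfl
theorem L46108 : sm gf N440 = N1914 := trfs L46094 L19347 rfl
theorem L46109 : N1914 = N864 := eqes L46108 L4438
theorem L46110 : N1914 = N493 := eqc rfl L46109 L43564
theorem L46120 : sm gg N493 = N1389 := trfs L46110 L19635 L46014
theorem L46121 : N1389 = N982 := eqes L46120 L5015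
theorem L46122 : N1389 = N874 := eqc rfl L46121 L43547
theorem L46129 : N1765 = N694 := L43853.trans L44602
theorem L46135 : sm gf N874 = N696 := trfs L46122 L7134 rfl
theorem L46136 : N696 = N441 := eqes L46135 L4484
theorem L46137 : N696 = N441 := eqc rfl L46136 rfl
theorem L46148 : N872 = N351 := L44044.trans L44203
theorem L46155 : sm gg N441 = N1397 := trfs L46137 L7168 rfl
theorem L46156 : N1397 = N221 := eqes L46155 L2315
theorem L46157 : N1397 = N221 := eqc rfl L46156 rfl
theorem L46162 : sm gc N221 = N698 := trfs L46157 L7171 rfl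
theorem L46163 : N698 = N439 := eqes L46162 L2306
theorem L46164 : N698 = N439 := eqc rfl L46163 rfl
theorem L46168 : sm ge N221 = N2255 := trfs L46157 L14346 L44896
theorem L46169 : N2255 = N440 := eqes L46168 L2309
theorem L46170 : N2255 = N440 := eqc rfl L46169 rfl
theorem L46179 : sm gd N440 = N1140 := trfs L46170 L11815 rfl
theorem L46180 : N1140 = N224 := eqes L46179 L2312
theorem L46181 : N1140 = N224 := eqc rfl L46180 rfl
theorem L46200 : sm gg N224 = N1144 := trfs L46181 L5832 rfl
theorem L46201 : N1144 = N247 := eqes L46200 L1274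
theorem L46202 : N1144 = N247 := eqc rfl L46201 rfl
theorem L46211 : sm gf N247 = N568 := trfs L46202 L5827 rfl
theorem L46212 : N568 = N125 := eqes L46211 L1269
theorem L46213 : N568 = N125 := eqc rfl L46212 rfl
theorem L46223 : N246 = N124 := L43477.trans L45567
theorem L46227 : sm gg N125 = N285 := trfs L46213 L2919 rfl
theorem L46228 : N285 = N63 := eqes L46227 L667
theorem L46229 : N285 = N63 := eqc rfl L46228 rfl
theorem L46237 : sm gd N63 = N144 := trfs L46229 L1460 rfl
theorem L46238 : N144 = N28 := eqes L46237 L334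
theorem L46239 : N144 = N28 := eqc rfl L46238 rfl
theorem L46255 : sm gg N28 = N287 := trfs L46239 L1467 rfl
theorem L46256 : N287 = N64 := eqes L46255 L336
theorem L46257 : N287 = N61 := eqc rfl L46256 L43448
theorem L46271 : sm gf N61 = N572 := trfs L46257 L2936 rfl
theorem L46272 : N572 = N27 := eqes L46271 L320
theorem L46273 : N572 = N27 := eqc rfl L46272 rfl
theorem L46278 : sm gc N27 = N289 := trfs L46273 L2939 rfl
theorem L46279 : N289 = N13 := eqes L46278 L137
theorem L46280 : N289 = N13 := eqc rfl L46279 rfl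
theorem L46287 : sm gg N27 = N560 := trfs L46273 L2943 rfl
theorem L46288 : N560 = N62 := eqes L46287 L326
theorem L46289 : N560 = N27 := eqc rfl L46288 L43435
theorem L46294 : sm gc N27 = N282 := trfs L46289 L2884 rfl
theorem L46295 : N282 = N13 := eqes L46294 L137
theorem L46296 : N282 = N13 := eqc rfl L46295 rfl
theorem L46311 : sm gg N13 = N13 := trfs L46296 L1488 L46280
theorem L46312 : N13 = N31 := eqes L46311 L155
theorem L46313 : N31 = N13 := (eqc rfl L46312 rfl).symm
theorem L46320 : sm ge N13 = N15 := trfs L46313 L159 rfl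
theorem L46321 : N15 = N6 := eqes L46320 L69
theorem L46322 : N15 = N6 := eqc rfl L46321 rfl
theorem L46323 : sm gf N13 = N32 := trfs L46313 L165 rfl
theorem L46324 : N32 = N30 := eqes L46323 L149
theorem L46325 : N32 = N30 := eqc rfl L46324 rfl
theorem L46326 : sm gg N13 = N13 := trfs L46313 L156 rfl
theorem L46333 : sm ge N30 = N34 := trfs L46325 L178 rfl
theorem L46334 : N34 = N14 := eqes L46333 L153
theorem L46335 : N34 = N14 := eqc rfl L46334 rfl
theorem L46340 : sm gc N14 = N66 := trfs L46335 L350 rfl
theorem L46341 : N66 = N28 := eqes L46340 L143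
theorem L46342 : N66 = N28 := eqc rfl L46341 rfl
theorem L46345 : sm gg N14 = N30 := trfs L46335 L179 rfl
theorem L46346 : sm gg N30 = N14 := flp_g L46345
theorem L46349 : sm gd N28 = N130 := trfs L46342 L681 rfl
theorem L46350 : N130 = N63 := eqes L46349 L333
theorem L46351 : N130 = N63 := eqc rfl L46350 rfl
theorem L46353 : sm gf N28 = N29 := trfs L46342 L347 rfl
theorem L46354 : N29 = N12 := eqes L46353 L140
theorem L46355 : N29 = N12 := eqc rfl L46354 rfl
theorem L46363 : sm gg N12 = N12 := trfs L46355 L145 rfl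
theorem L46366 : sm gc N63 = N174 := trfs L46351 L1326 L44452
theorem L46367 : N174 = N123 := eqes L46366 L660
theorem L46368 : N174 = N123 := eqc rfl L46367 rfl
theorem L46371 : sm gf N63 = N256 := trfs L46351 L1318 rfl
theorem L46372 : N256 = N114 := eqes L46371 L625
theorem L46373 : N256 = N114 := eqc rfl L46372 rfl
theorem L46384 : sm gg N114 = N512 := trfs L46373 L2651 rfl
theorem L46385 : N512 = N225 := eqes L46384 L1172
theorem L46386 : N512 = N225 := eqc rfl L46385 rfl
theorem L46394 : sm gf N225 = N517 := trfs L46386 L2678 rfl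
theorem L46395 : N517 = N121 := eqes L46394 L45618
theorem L46396 : N517 = N121 := eqc rfl L46395 rfl
theorem L46403 : sm gd N121 = N1030 := trfs L46396 L5248 rfl
theorem L46404 : N1030 = N61 := eqes L46403 L655
theorem L46405 : N1030 = N61 := eqc rfl L46404 rfl
theorem L46414 : sm ge N61 = N702 := trfs L46405 L5251 L45550
theorem L46415 : N702 = N28 := eqes L46414 L324
theorem L46416 : N702 = N28 := eqc rfl L46415 rfl
theorem L46430 : sm gf N28 = N1405 := trfs L46416 L7212 rfl
theorem L46431 : N1405 = N12 := eqes L46430 L140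
theorem L46432 : N1405 = N12 := eqc rfl L46431 rfl
theorem L46444 : sm gg N12 = N1892 := trfs L46432 L9787 rfl
theorem L46445 : N1892 = N12 := eqes L46444 L46363
theorem L46446 : N1892 = N12 := eqc rfl L46445 rfl
theorem L46452 : sm gd N12 = N1852 := trfs L46446 L9788 rfl
theorem L46453 : N1852 = N26 := eqes L46452 L130
theorem L46454 : N1852 = N26 := eqc rfl L46453 rfl
theorem L46471 : sm gg N26 = N1857 := trfs L46454 L9551 rfl
theorem L46472 : N1857 = N59 := eqes L46471 L312
theorem L46473 : N1857 = N59 := eqc rfl L46472 rfl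
theorem L46487 : sm gf N59 = N923 := trfs L46473 L9547 rfl
theorem L46488 : N923 = N117 := eqes L46487 L637
theorem L46489 : N923 = N117 := eqc rfl L46488 rfl
theorem L46497 : sm gd N117 = N931 := trfs L46489 L4761 rfl
theorem L46498 : N931 = N230 := eqes L46497 L1191
theorem L46499 : N931 = N230 := eqc rfl L46498 rfl
theorem L46503 : sm gg N117 = N1851 := trfs L46489 L9519 rfl
theorem L46504 : N1851 = N112 := eqes L46503 L643
theorem L46505 : N1851 = N112 := eqc rfl L46504 rfl
theorem L46512 : sm gd N112 = N1894 := trfs L46505 L9801 rfl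
theorem L46513 : N1894 = N221 := eqes L46512 L1156
theorem L46514 : N1894 = N221 := eqc rfl L46513 rfl
theorem L46521 : sm ge N221 = N943 := trfs L46514 L9796 rfl
theorem L46522 : N943 = N440 := eqes L46521 L2309
theorem L46523 : N943 = N440 := eqc rfl L46522 rfl
theorem L46527 : sm gg N221 = N2789 := trfs L46514 L14741 rfl
theorem L46528 : N2789 = N441 := eqes L46527 L2314
theorem L46529 : N2789 = N441 := eqc rfl L46528 rfl
theorem L46539 : sm ge N441 = N1766 := trfs L46529 L14738 rfl
theorem L46540 : N1766 = N873 := eqes L46539 L4480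
theorem L46541 : N1766 = N873 := eqc rfl L46540 rfl
theorem L46542 : sm gf N441 = N1443 := trfs L46529 L14736 rfl
theorem L46543 : N1443 = N874 := eqes L46542 L4483
theorem L46544 : N1443 = N874 := eqc rfl L46543 rfl
theorem L46551 : sm gd N874 = N2044 := trfs L46544 L10626 rfl
theorem L46552 : N2044 = N1766 := eqes L46551 L9047
theorem L46553 : N2044 = N873 := eqc rfl L46552 L46541
theorem L46557 : sm gg N874 = N722 := trfs L46544 L7407 rfl
theorem L46558 : N722 = N864 := eqes L46557 L4488
theorem L46559 : N722 = N493 := eqc rfl L46558 L43564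
theorem L46562 : N1441 = N980 := L43835.trans L43946
theorem L46567 : sm gf N493 = N440 := trfs L46559 L4819 L46523
theorem L46568 : N440 = N729 := eqes L46567 L3761
theorem L46569 : N729 = N440 := (eqc rfl L46568 rfl).symm
theorem L46576 : sm ge N440 = N1450 := trfs L46569 L7448 rfl
theorem L46577 : N1450 = N221 := eqes L46576 L2310
theorem L46578 : N1450 = N221 := eqc rfl L46577 rfl
theorem L46592 : sm gg N221 = N1968 := trfs L46578 L10218 rfl
theorem L46593 : N1968 = N441 := eqes L46592 L2314
theorem L46594 : N1968 = N441 := eqc rfl L46593 rfl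
theorem L46600 : sm gd N441 = N1871 := trfs L46594 L10219 rfl
theorem L46601 : N1871 = N460 := eqes L46600 L2399
theorem L46602 : N1871 = N460 := eqc rfl L46601 rfl
theorem L46611 : sm ge N460 = N520 := trfs L46602 L9692 L43279
theorem L46612 : N520 = N916 := eqes L46611 L4668
theorem L46613 : N916 = N520 := (eqc rfl L46612 rfl).symm
theorem L46617 : sm gg N460 = N1865 := trfs L46602 L9694 rfl
theorem L46618 : N1865 = N230 := eqes L46617 L2396
theorem L46619 : N1865 = N230 := eqc rfl L46618 rfl
theorem L46628 : sm ge N230 = N468 := trfs L46619 L9615 L43262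
theorem L46629 : N468 = N459 := eqes L46628 L2390
theorem L46630 : N468 = N459 := eqc rfl L46629 rfl
theorem L46631 : sm gf N230 = N230 := trfs L46619 L9617 L46499
theorem L46632 : N230 = N457 := eqes L46631 L2386
theorem L46633 : N457 = N230 := (eqc rfl L46632 rfl).symm
theorem L46636 : sm gc N230 = N909 := trfs L46633 L4636 rfl
theorem L46637 : N909 = N458 := eqes L46636 L2387
theorem L46638 : N909 = N458 := eqc rfl L46637 rfl
theorem L46639 : sm gd N230 = N229 := trfs L46633 L2383 rfl
theorem L46640 : N229 = N117 := eqes L46639 L1192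
theorem L46641 : N229 = N117 := eqc rfl L46640 rfl
theorem L46642 : N910 = N459 := L43332.trans L46630
theorem L46644 : sm gf N230 = N230 := trfs L46633 L2385 rfl
theorem L46651 : sm gg N117 = N255 := trfs L46641 L1312 rfl
theorem L46652 : N255 = N112 := eqes L46651 L643
theorem L46653 : N255 = N112 := eqc rfl L46652 rfl
theorem L46661 : sm gf N112 = N128 := trfs L46653 L1308 rfl
theorem L46662 : N128 = N57 := eqes L46661 L610
theorem L46663 : N128 = N57 := eqc rfl L46662 rfl
theorem L46669 : sm gg N57 = N228 := trfs L46663 L1187 rfl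
theorem L46670 : N228 = N113 := eqes L46669 L615
theorem L46671 : N228 = N113 := eqc rfl L46670 rfl
theorem L46675 : sm gd N113 = N443 := trfs L46671 L2324 rfl
theorem L46676 : N443 = N222 := eqes L46675 L1159
theorem L46677 : N443 = N222 := eqc rfl L46676 rfl
theorem L46682 : sm gc N222 = N877 := trfs L46677 L4499 rfl
theorem L46683 : N877 = N442 := eqes L46682 L2317
theorem L46684 : N877 = N442 := eqc rfl L46683 rfl
theorem L46685 : sm ge N222 = N222 := trfs L46677 L2321 rfl
theorem L46686 : sm gf N222 = N879 := trfs L46677 L4505 rfl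
theorem L46687 : N879 = N444 := eqes L46686 L2325
theorem L46688 : N879 = N444 := eqc rfl L46687 rfl
theorem L46689 : sm gg N222 = N867 := trfs L46677 L4453 rfl
theorem L46690 : N867 = N438 := eqes L46689 L2305
theorem L46691 : N867 = N438 := eqc rfl L46690 rfl
theorem L46693 : N1542 = N769 := L40557.trans L43228
theorem L46700 : sm ge N438 = N438 := trfs L46691 L4450 rfl
theorem L46701 : sm gf N438 = N880 := trfs L46691 L4517 rfl
theorem L46702 : N880 = N868 := eqes L46701 L4456
theorem L46703 : N880 = N868 := eqc rfl L46702 rfl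
theorem L46708 : sm gc N868 = N1778 := trfs L46703 L9106 rfl
theorem L46709 : N1778 = N1755 := eqes L46708 L8986
theorem L46710 : N1778 = N1755 := eqc rfl L46709 rfl
theorem L46726 : sm gg N1755 = N878 := trfs L46710 L9103 rfl
theorem L46727 : N878 = N1776 := eqes L46726 L9097
theorem L46728 : N878 = N352 := eqc rfl L46727 L45400
theorem L46730 : sm gb N352 = N1770 := trfs L46728 L9073 rfl
theorem L46731 : N1770 = N660 := eqes L46730 L3415
theorem L46732 : N1770 = N660 := eqc rfl L46731 rfl
theorem L46739 : N700 = N442 := L44545.trans L44568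
theorem L46743 : sm gc N660 = N3140 := trfs L46732 L16705 rfl
theorem L46744 : N3140 = N1325 := eqes L46743 L6790
theorem L46745 : N3140 = N1325 := eqc rfl L46744 rfl
theorem L46752 : sm gf N660 = N875 := trfs L46732 L9071 rfl
theorem L46753 : N875 = N1326 := eqes L46752 L6793
theorem L46754 : N1326 = N875 := (eqc rfl L46753 rfl).symm
theorem L46757 : sm ga N875 = N1356 := trfs L46754 L13210 L44270
theorem L46758 : N1356 = N1767 := eqes L46757 L9052
theorem L46759 : N1767 = N1356 := (eqc rfl L46758 rfl).symm
theorem L46766 : sm ge N875 = N875 := trfs L46754 L6797 L46754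
theorem L46767 : N875 = N1769 := eqes L46766 L9062
theorem L46768 : N1769 = N875 := (eqc rfl L46767 rfl).symm
theorem L46769 : sm gf N875 = N660 := trfs L46754 L6794 rfl
theorem L46770 : sm gf N660 = N875 := flp_f L46769
theorem L46771 : sm gg N875 = N1356 := trfs L46754 L13214 L44270
theorem L46772 : N1356 = N1752 := eqes L46771 L8971
theorem L46773 : N1752 = N1356 := (eqc rfl L46772 rfl).symm
theorem L46774 : sm ga N1356 = N875 := trfs L46773 L9065 L46768
theorem L46775 : N875 = N1424 := eqes L46774 L7314
theorem L46776 : N1279 = N875 := (eqc rfl L46775 L44255).symm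
theorem L46780 : sm gc N1356 = N2982 := trfs L46773 L15853 rfl
theorem L46781 : N2982 = N2653 := eqes L46780 L13944
theorem L46782 : N2982 = N2653 := eqc rfl L46781 rfl
theorem L46792 : sm gg N1356 = N875 := trfs L46773 L8970 rfl
theorem L46793 : N875 = N2648 := eqes L46792 L13923
theorem L46794 : N2648 = N875 := (eqc rfl L46793 rfl).symm
theorem L46795 : sm ga N875 = N660 := trfs L46794 L14539 L44241
theorem L46796 : N660 = N1767 := eqes L46795 L9052
theorem L46797 : N1356 = N660 := (eqc rfl L46796 L46759).symm
theorem L46803 : sm gd N875 = N1354 := trfs L46794 L13919 rfl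
theorem L46804 : N1354 = N1768 := eqes L46803 L9058
theorem L46805 : N1354 = N636 := eqc rfl L46804 L44565
theorem L46827 : sm gg N636 = N673 := trfs L46805 L6954 rfl
theorem L46828 : N673 = N320 := eqes L46827 L3279
theorem L46829 : N673 = N320 := eqc rfl L46828 rfl
theorem L46837 : sm gd N320 = N338 := trfs L46829 L3478 rfl
theorem L46838 : N338 = N163 := eqes L46837 L1649
theorem L46839 : N338 = N163 := eqc rfl L46838 rfl
theorem L46843 : sm gf N320 = N1353 := trfs L46829 L6949 rfl
theorem L46844 : N1353 = N635 := eqes L46843 L3270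
theorem L46845 : N1353 = N635 := eqc rfl L46844 rfl
theorem L46854 : sm gd N635 = N1423 := trfs L46845 L13906 L43870
theorem L46855 : N1423 = N1278 := eqes L46854 L6543
theorem L46856 : N1423 = N1278 := eqc rfl L46855 rfl
theorem L46860 : sm gg N635 = N2647 := trfs L46845 L13912 rfl
theorem L46861 : N2647 = N639 := eqes L46860 L3313
theorem L46862 : N2647 = N639 := eqc rfl L46861 rfl
theorem L46872 : sm gd N639 = N2642 := trfs L46862 L26600 L43910
theorem L46873 : N2642 = N1283 := eqes L46872 L6588
theorem L46874 : N2642 = N1283 := eqc rfl L46873 rfl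
theorem L46880 : sm gb N1283 = N1386 := trfs L46874 L13891 rfl
theorem L46881 : N1386 = N720 := eqes L46880 L6592
theorem L46882 : N1386 = N708 := eqc rfl L46881 L44351
theorem L46883 : sm gc N1283 = N1283 := trfs L46874 L13895 L46874
theorem L46884 : N1283 = N2508 := eqes L46883 L13256
theorem L46885 : N2508 = N1283 := (eqc rfl L46884 rfl).symm
theorem L46892 : sm gg N1283 = N1459 := trfs L46874 L43829 rfl
theorem L46893 : N1459 = N2510 := eqes L46892 L13270
theorem L46894 : N2510 = N1459 := (eqc rfl L46893 rfl).symm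
theorem L46895 : sm ga N1459 = N1337 := trfs L46894 L13272 rfl
theorem L46896 : N1337 = N2810 := eqes L46895 L14877
theorem L46897 : N1757 = N1337 := (eqc rfl L46896 L43774).symm
theorem L46901 : sm gd N1459 = N2500 := trfs L46894 L13276 rfl
theorem L46902 : N2500 = N1756 := eqes L46901 L43779
theorem L46903 : N2500 = N1756 := eqc rfl L46902 rfl
theorem L46906 : N2810 = N1337 := L43774.trans L46897
theorem L46909 : N2665 = N1337 := L43785.trans L46897
theorem L46910 : sm gg N1459 = N1283 := trfs L46894 L13271 rfl
theorem L46911 : sm gg N1283 = N1459 := flp_g L46910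
theorem L46915 : sm gb N1756 = N1391 := trfs L46903 L13198 rfl
theorem L46916 : N1391 = N1750 := eqes L46915 L8989
theorem L46917 : N1750 = N980 := L43763.trans L46562
theorem L46918 : N1391 = N980 := eqc rfl L46916 L46917
theorem L46925 : sm gf N1756 = N2590 := trfs L46903 L13645 rfl
theorem L46926 : N2590 = N1758 := eqes L46925 L9004
theorem L46927 : N2590 = N1758 := eqc rfl L46926 rfl
theorem L46936 : sm gd N1758 = N1874 := trfs L46927 L13646 L45700
theorem L46937 : N1874 = N1749 := eqes L46936 L9006
theorem L46938 : N1874 = N1749 := eqc rfl L46937 rfl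
theorem L46940 : sm gg N1758 = N1323 := trfs L46927 L13639 rfl
theorem L46941 : N1323 = N3438 := eqes L46940 L18175
theorem L46942 : N3438 = N1323 := (eqc rfl L46941 rfl).symm
theorem L46943 : sm ga N1323 = N2759 := trfs L46942 L18177 L43862
theorem L46944 : N2759 = N2499 := eqes L46943 L13187
theorem L46945 : N2499 = N933 := L44416.trans L45684
theorem L46946 : N2759 = N933 := eqc rfl L46944 L46945
theorem L46947 : sm gb N1323 = N1763 := trfs L46942 L18179 rfl
theorem L46948 : N1763 = N697 := eqes L46947 L6782
theorem L46949 : N1763 = N488 := eqc rfl L46948 L45693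
theorem L46950 : sm gc N1323 = N1933 := trfs L46942 L31070 L43628
theorem L46951 : N1933 = N2588 := eqes L46950 L13633
theorem L46952 : N2588 = N1933 := (eqc rfl L46951 rfl).symm
theorem L46956 : sm ge N1323 = N1355 := trfs L46942 L18181 L43850
theorem L46957 : N1355 = N659 := eqes L46956 L6781
theorem L46958 : N1355 = N659 := eqc rfl L46957 rfl
theorem L46959 : N3425 = N933 := L43862.trans L46946
theorem L46962 : sm gg N1323 = N1758 := trfs L46942 L18176 rfl
theorem L46970 : sm ge N659 = N2651 := trfs L46958 L13934 rfl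
theorem L46971 : N2651 = N1323 := eqes L46970 L6780
theorem L46972 : N2651 = N1323 := eqc rfl L46971 rfl
theorem L46979 : sm gb N1323 = N1368 := trfs L46972 L13936 rfl
theorem L46980 : N1368 = N697 := eqes L46979 L6782
theorem L46981 : N1368 = N488 := eqc rfl L46980 L45693
theorem L46988 : sm gf N1323 = N4218 := trfs L46972 L23020 rfl
theorem L46989 : N4218 = N2499 := eqes L46988 L13191
theorem L46990 : N4218 = N933 := eqc rfl L46989 L46945
theorem L46991 : sm gg N1323 = N4870 := trfs L46972 L26640 rfl
theorem L46992 : N4870 = N1758 := eqes L46991 L46962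
theorem L46993 : N4870 = N1758 := eqc rfl L46992 rfl
theorem L46995 : sm gb N1758 = N2675 := trfs L46993 L26642 rfl
theorem L46996 : N2675 = N871 := eqes L46995 L9001
theorem L46997 : N2675 = N871 := eqc rfl L46996 rfl
theorem L47008 : sm gf N871 = N2667 := trfs L46997 L14055 rfl
theorem L47009 : N2667 = N1750 := eqes L47008 L8962
theorem L47010 : N2667 = N980 := eqc rfl L47009 L46917
theorem L47025 : sm gg N980 = N1363 := trfs L47010 L14016 rfl
theorem L47026 : N1363 = N1967 := eqes L47025 L10207
theorem L47027 : N1967 = N1363 := (eqc rfl L47026 rfl).symm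
theorem L47039 : sm ge N1363 = N3570 := trfs L47027 L18984 rfl
theorem L47040 : N3570 = N2273 := eqes L47039 L11933
theorem L47041 : N3570 = N2273 := eqc rfl L47040 rfl
theorem L47057 : sm gf N2273 = N2806 := trfs L47041 L18985 rfl
theorem L47058 : N2806 = N1368 := eqes L47057 L11930
theorem L47059 : N2806 = N488 := eqc rfl L47058 L46981
theorem L47068 : sm gd N488 = N4417 := trfs L47059 L24078 rfl
theorem L47069 : N4417 = N243 := eqes L47068 L2523
theorem L47070 : N4417 = N243 := eqc rfl L47069 rfl
theorem L47082 : sm gf N243 = N2391 := trfs L47070 L24073 rfl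
theorem L47083 : N2391 = N447 := eqes L47082 L2341
theorem L47084 : N2391 = N447 := eqc rfl L47083 rfl
theorem L47085 : sm gg N243 = N4066 := trfs L47070 L24076 rfl
theorem L47086 : N4066 = N489 := eqes L47085 L2525
theorem L47087 : N4066 = N235 := eqc rfl L47086 L45594
theorem L47100 : sm gf N235 = N2392 := trfs L47087 L22127 rfl
theorem L47101 : N2392 = N461 := eqes L47100 L2404
theorem L47102 : N2392 = N183 := eqc rfl L47101 L45677
theorem L47116 : sm gg N183 = N1211 := trfs L47102 L12575 rfl
theorem L47117 : N1211 = N89 := eqes L47116 L939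
theorem L47118 : N1211 = N89 := eqc rfl L47117 rfl
theorem L47128 : sm ge N89 = N447 := trfs L47118 L12569 L47084
theorem L47129 : N447 = N182 := eqes L47128 L935
theorem L47130 : N447 = N182 := eqc rfl L47129 rfl
theorem L47134 : sm gb N182 = N883 := trfs L47130 L4530 rfl
theorem L47135 : N883 = N335 := eqes L47134 L1725
theorem L47136 : N883 = N335 := eqc rfl L47135 rfl
theorem L47148 : sm gc N335 = N1623 := trfs L47136 L8383 rfl
theorem L47149 : N1623 = N668 := eqes L47148 L3456
theorem L47150 : N1623 = N668 := eqc rfl L47149 rfl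
theorem L47152 : sm ge N335 = N445 := trfs L47136 L4528 rfl
theorem L47153 : N445 = N166 := eqes L47152 L1723
theorem L47154 : N445 = N166 := eqc rfl L47153 rfl
theorem L47155 : sm gf N335 = N483 := trfs L47136 L4531 rfl
theorem L47156 : N483 = N662 := eqes L47155 L3426
theorem L47157 : N662 = N483 := (eqc rfl L47156 rfl).symm
theorem L47158 : sm gg N335 = N964 := trfs L47136 L4929 rfl
theorem L47159 : N964 = N670 := eqes L47158 L3461
theorem L47160 : N964 = N323 := eqc rfl L47159 L44476
theorem L47163 : sm gc N323 = N1668 := trfs L47160 L8595 rfl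
theorem L47164 : N1668 = N640 := eqes L47163 L3314
theorem L47165 : N1668 = N640 := eqc rfl L47164 rfl
theorem L47167 : sm ge N323 = N336 := trfs L47160 L4926 L45653
theorem L47168 : N336 = N641 := eqes L47167 L3318
theorem L47169 : N641 = N336 := (eqc rfl L47168 rfl).symm
theorem L47170 : sm gf N323 = N484 := trfs L47160 L4923 rfl
theorem L47171 : N484 = N637 := eqes L47170 L3293
theorem L47172 : N637 = N484 := (eqc rfl L47171 rfl).symm
theorem L47173 : sm ga N484 = N331 := trfs L47172 L3288 rfl
theorem L47174 : N331 = N956 := eqes L47173 L4880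
theorem L47175 : N956 = N331 := (eqc rfl L47174 rfl).symm
theorem L47176 : sm gc N484 = N1280 := trfs L47172 L6560 rfl
theorem L47177 : N1280 = N825 := eqes L47176 L4252
theorem L47178 : N1280 = N825 := eqc rfl L47177 rfl
theorem L47185 : sm gf N484 = N323 := trfs L47172 L3292 rfl
theorem L47186 : sm gf N323 = N484 := flp_f L47185
theorem L47187 : sm gg N484 = N514 := trfs L47172 L3295 rfl
theorem L47188 : N514 = N241 := eqes L47187 L2507
theorem L47189 : N514 = N241 := eqc rfl L47188 rfl
theorem L47190 : N663 = N484 := L44493.trans L47172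
theorem L47191 : sm ga N241 = N484 := trfs L47189 L3432 L47190
theorem L47192 : N484 = N481 := eqes L47191 L2490
theorem L47193 : N484 = N481 := eqc rfl L47192 rfl
theorem L47199 : sm gd N241 = N1026 := trfs L47189 L5233 rfl
theorem L47200 : N1026 = N482 := eqes L47199 L2496
theorem L47201 : N1026 = N482 := eqc rfl L47200 rfl
theorem L47204 : sm gf N241 = N1020 := trfs L47189 L5203 rfl
theorem L47205 : N1020 = N445 := eqes L47204 L2331
theorem L47206 : N1020 = N166 := eqc rfl L47205 L47154
theorem L47209 : sm gc N166 = N806 := trfs L47206 L8867 L42303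
theorem L47210 : N806 = N334 := eqes L47209 L1720
theorem L47211 : N806 = N334 := eqc rfl L47210 rfl
theorem L47212 : sm gd N166 = N2045 := trfs L47206 L10627 rfl
theorem L47213 : N2045 = N82 := eqes L47212 L867
theorem L47214 : N2045 = N82 := eqc rfl L47213 rfl
theorem L47227 : sm gf N82 = N3876 := trfs L47214 L20936 rfl
theorem L47228 : N3876 = N38 := eqes L47227 L436
theorem L47229 : N3876 = N38 := eqc rfl L47228 rfl
theorem L47240 : sm gd N38 = N2053 := trfs L47229 L20945 rfl
theorem L47241 : N2053 = N81 := eqes L47240 L431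
theorem L47242 : N2053 = N81 := eqc rfl L47241 rfl
theorem L47253 : sm gf N81 = N482 := trfs L47242 L10686 L47201
theorem L47254 : N482 = N164 := eqes L47253 L857
theorem L47255 : N482 = N164 := eqc rfl L47254 rfl
theorem L47256 : sm gg N81 = N3884 := trfs L47242 L20987 rfl
theorem L47257 : N3884 = N165 := eqes L47256 L861
theorem L47258 : N3884 = N165 := eqc rfl L47257 rfl
theorem L47261 : sm gc N165 = N6826 := trfs L47258 L37577 rfl
theorem L47262 : N6826 = N328 := eqes L47261 L1687
theorem L47263 : N6826 = N328 := eqc rfl L47262 rfl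
theorem L47273 : sm gf N328 = N4582 := trfs L47263 L37581 rfl
theorem L47274 : N4582 = N658 := eqes L47273 L3398
theorem L47275 : N4582 = N658 := eqc rfl L47274 rfl
theorem L47280 : sm gb N658 = N4785 := trfs L47275 L26186 rfl
theorem L47281 : N4785 = N1301 := eqes L47280 L6703
theorem L47282 : N4785 = N1301 := eqc rfl L47281 rfl
theorem L47287 : sm gg N658 = N3881 := trfs L47275 L25122 rfl
theorem L47288 : N3881 = N653 := eqes L47287 L3404
theorem L47289 : N3881 = N653 := eqc rfl L47288 rfl
theorem L47293 : sm gb N653 = N6817 := trfs L47289 L37539 rfl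
theorem L47294 : N6817 = N1296 := eqes L47293 L6669
theorem L47295 : N6817 = N1296 := eqc rfl L47294 rfl
theorem L47303 : sm gf N653 = N6824 := trfs L47289 L37560 rfl
theorem L47304 : N6824 = N326 := eqes L47303 L3377
theorem L47305 : N6824 = N326 := eqc rfl L47304 rfl
theorem L47306 : sm ga N326 = N4795 := trfs L47305 L37562 rfl
theorem L47307 : N4795 = N632 := eqes L47306 L3255
theorem L47308 : N4795 = N632 := eqc rfl L47307 rfl
theorem L47319 : sm gg N632 = N2608 := trfs L47308 L26232 rfl
theorem L47320 : N2608 = N1273 := eqes L47319 L6507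
theorem L47321 : N2608 = N1273 := eqc rfl L47320 rfl
theorem L47331 : sm gf N1273 = N1332 := trfs L47321 L13727 rfl
theorem L47332 : N1332 = N1275 := eqes L47331 L6525
theorem L47333 : N1332 = N1275 := eqc rfl L47332 rfl
theorem L47343 : sm gg N1275 = N2602 := trfs L47333 L13699 rfl
theorem L47344 : N2602 = N633 := eqes L47343 L6520
theorem L47345 : N2602 = N633 := eqc rfl L47344 rfl
theorem L47351 : sm gd N633 = N4782 := trfs L47345 L26163 rfl
theorem L47352 : N4782 = N1274 := eqes L47351 L6515
theorem L47353 : N4782 = N1274 := eqc rfl L47352 rfl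
theorem L47356 : sm ga N1274 = N3880 := trfs L47353 L26165 rfl
theorem L47357 : N3880 = N655 := eqes L47356 L6517
theorem L47358 : N3880 = N655 := eqc rfl L47357 rfl
theorem L47359 : sm gb N655 = N6816 := trfs L47358 L37533 rfl
theorem L47360 : N6816 = N1298 := eqes L47359 L6687
theorem L47361 : N6816 = N1298 := eqc rfl L47360 rfl
theorem L47375 : sm gd N1298 = N3879 := trfs L47361 L37531 rfl
theorem L47376 : N3879 = N646 := eqes L47375 L6685
theorem L47377 : N3879 = N646 := eqc rfl L47376 rfl
theorem L47389 : sm gg N646 = N4580 := trfs L47377 L25107 rfl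
theorem L47390 : N4580 = N1299 := eqes L47389 L6688
theorem L47391 : N4580 = N1299 := eqc rfl L47390 rfl
theorem L47400 : sm gf N1299 = N6278 := trfs L47391 L34149 rfl
theorem L47401 : N6278 = N1297 := eqes L47400 L6695
theorem L47402 : N6278 = N1297 := eqc rfl L47401 rfl
theorem L47407 : sm gc N1297 = N3451 := trfs L47402 L34145 rfl
theorem L47408 : N3451 = N675 := eqes L47407 L6680
theorem L47409 : N3451 = N675 := eqc rfl L47408 rfl
theorem L47410 : sm ga N675 = N636 := trfs L47409 L18271 L44565
theorem L47411 : N636 = N712 := eqes L47410 L3668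
theorem L47412 : N712 = N636 := (eqc rfl L47411 rfl).symm
theorem L47415 : N1767 = N660 := L46759.trans L46797
theorem L47418 : sm ge N675 = N4960 := trfs L47409 L27248 rfl
theorem L47419 : N4960 = N340 := eqes L47418 L3491
theorem L47420 : N4960 = N340 := eqc rfl L47419 rfl
theorem L47422 : sm gg N675 = N6279 := trfs L47409 L34152 rfl
theorem L47423 : N6279 = N338 := eqes L47422 L3488
theorem L47424 : N6279 = N163 := eqc rfl L47423 L46839
theorem L47433 : sm gf N163 = N3886 := trfs L47424 L34161 rfl
theorem L47434 : N3886 = N329 := eqes L47433 L1688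
theorem L47435 : N3886 = N329 := eqc rfl L47434 rfl
theorem L47440 : sm gc N329 = N1296 := trfs L47435 L37541 L47295
theorem L47441 : N1296 = N653 := eqes L47440 L3379
theorem L47442 : N1296 = N653 := eqc rfl L47441 rfl
theorem L47447 : sm gg N329 = N2731 := trfs L47435 L21014 rfl
theorem L47448 : N2731 = N333 := eqes L47447 L1719
theorem L47449 : N2731 = N333 := eqc rfl L47448 rfl
theorem L47452 : sm gc N333 = N1301 := trfs L47449 L26184 L47282
theorem L47453 : N1301 = N658 := eqes L47452 L3401
theorem L47454 : N1301 = N658 := eqc rfl L47453 rfl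
theorem L47461 : sm gf N333 = N340 := trfs L47449 L27241 L47420
theorem L47462 : N340 = N165 := eqes L47461 L1713
theorem L47463 : N340 = N165 := eqc rfl L47462 rfl
theorem L47468 : sm gc N165 = N647 := trfs L47463 L3365 rfl
theorem L47469 : N647 = N328 := eqes L47468 L1687
theorem L47470 : N647 = N328 := eqc rfl L47469 rfl
theorem L47478 : sm gg N165 = N167 := trfs L47463 L1741 rfl
theorem L47479 : N167 = N81 := eqes L47478 L862
theorem L47480 : N167 = N81 := eqc rfl L47479 rfl
theorem L47485 : sm gc N81 = N324 := trfs L47480 L1673 rfl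
theorem L47486 : N324 = N162 := eqes L47485 L851
theorem L47487 : N324 = N162 := eqc rfl L47486 rfl
theorem L47488 : sm gd N81 = N298 := trfs L47480 L1541 rfl
theorem L47489 : N298 = N38 := eqes L47488 L432
theorem L47490 : N298 = N38 := eqc rfl L47489 rfl
theorem L47508 : sm gg N38 = N593 := trfs L47490 L3045 rfl
theorem L47509 : N593 = N38 := eqes L47508 L196
theorem L47510 : N593 = N38 := eqc rfl L47509 rfl
theorem L47526 : sm gf N38 = N1199 := trfs L47510 L6111 rfl
theorem L47527 : N1199 = N82 := eqes L47526 L435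
theorem L47528 : N1199 = N82 := eqc rfl L47527 rfl
theorem L47540 : sm gg N82 = N1194 := trfs L47528 L6117 rfl
theorem L47541 : N1194 = N161 := eqes L47540 L850
theorem L47542 : N1194 = N161 := eqc rfl L47541 rfl
theorem L47552 : sm gd N161 = N2363 := trfs L47542 L12415 rfl
theorem L47553 : N2363 = N323 := eqes L47552 L1664
theorem L47554 : N2363 = N323 := eqc rfl L47553 rfl
theorem L47572 : sm gg N323 = N4381 := trfs L47554 L23825 rfl
theorem L47573 : N4381 = N642 := eqes L47572 L3326
theorem L47574 : N4381 = N335 := eqc rfl L47573 L44460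
theorem L47585 : sm gf N335 = N4200 := trfs L47574 L23831 rfl
theorem L47586 : N4200 = N662 := eqes L47585 L3426
theorem L47587 : N4200 = N483 := eqc rfl L47586 L47157
theorem L47591 : N6277 = N1323 := L43739.trans L46942
theorem L47592 : sm gd N483 = N1323 := trfs L47587 L34141 L47591
theorem L47593 : N1323 = N961 := eqes L47592 L4900
theorem L47594 : N1323 = N961 := eqc rfl L47593 rfl
theorem L47595 : sm gg N483 = N2272 := trfs L47587 L22878 rfl
theorem L47596 : N2272 = N962 := eqes L47595 L4908
theorem L47597 : N2272 = N962 := eqc rfl L47596 rfl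
theorem L47607 : sm gd N962 = N933 := trfs L47597 L23014 L46990
theorem L47608 : N933 = N1935 := eqes L47607 L10018
theorem L47609 : N1935 = N933 := (eqc rfl L47608 rfl).symm
theorem L47618 : sm gc N933 = N3699 := trfs L47609 L19843 rfl
theorem L47619 : N3699 = N1872 := eqes L47618 L9696
theorem L47620 : N3699 = N1872 := eqc rfl L47619 rfl
theorem L47621 : sm gd N933 = N962 := trfs L47609 L10019 rfl
theorem L47622 : N962 = N469 := eqes L47621 L4768
theorem L47623 : N962 = N469 := eqc rfl L47622 rfl
theorem L47624 : sm ge N933 = N3700 := trfs L47609 L19847 rfl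
theorem L47625 : N3700 = N1873 := eqes L47624 L9698
theorem L47626 : N3700 = N1873 := eqc rfl L47625 rfl
theorem L47630 : sm gg N933 = N3698 := trfs L47609 L19842 rfl
theorem L47631 : N3698 = N1874 := eqes L47630 L9702
theorem L47632 : N3698 = N1749 := eqc rfl L47631 L46938
theorem L47639 : sm gc N1749 = N6586 := trfs L47632 L36086 rfl
theorem L47640 : N6586 = N2978 := eqes L47639 L15829
theorem L47641 : N6586 = N2978 := eqc rfl L47640 rfl
theorem L47648 : sm gf N1749 = N3857 := trfs L47632 L20817 rfl
theorem L47649 : N3857 = N869 := eqes L47648 L8954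
theorem L47650 : N3857 = N869 := eqc rfl L47649 rfl
theorem L47665 : sm gg N869 = N6592 := trfs L47650 L36131 rfl
theorem L47666 : N6592 = N1759 := eqes L47665 L9007
theorem L47667 : N1759 = N659 := L43850.trans L46958
theorem L47668 : N6592 = N659 := eqc rfl L47666 L47667
theorem L47678 : sm gf N659 = N1873 := trfs L47668 L36123 L47626
theorem L47679 : N1873 = N1278 := eqes L47678 L6550
theorem L47680 : N1873 = N1278 := eqc rfl L47679 rfl
theorem L47683 : sm gc N1278 = N3597 := trfs L47680 L19221 rfl
theorem L47684 : N3597 = N2498 := eqes L47683 L13178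
theorem L47685 : N3597 = N2498 := eqc rfl L47684 rfl
theorem L47686 : sm gd N1278 = N1919 := trfs L47680 L9927 rfl
theorem L47687 : N1919 = N635 := eqes L47686 L6544
theorem L47688 : N1919 = N635 := eqc rfl L47687 rfl
theorem L47701 : sm ge N635 = N955 := trfs L47688 L9921 rfl
theorem L47702 : N955 = N321 := eqes L47701 L3276
theorem L47703 : N955 = N321 := eqc rfl L47702 rfl
theorem L47707 : sm gg N635 = N3672 := trfs L47688 L19691 rfl
theorem L47708 : N3672 = N639 := eqes L47707 L3313
theorem L47709 : N3672 = N639 := eqc rfl L47708 rfl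
theorem L47717 : sm gd N639 = N6537 := trfs L47709 L35866 rfl
theorem L47718 : N6537 = N1283 := eqes L47717 L6588
theorem L47719 : N6537 = N1283 := eqc rfl L47718 rfl
theorem L47723 : sm gf N639 = N3673 := trfs L47709 L19705 rfl
theorem L47724 : N3673 = N322 := eqes L47723 L3305
theorem L47725 : N3673 = N322 := eqc rfl L47724 rfl
theorem L47739 : sm gg N322 = N1920 := trfs L47725 L19700 rfl
theorem L47740 : N1920 = N160 := eqes L47739 L1658
theorem L47741 : N1920 = N160 := eqc rfl L47740 rfl
theorem L47749 : sm gd N160 = N3465 := trfs L47741 L18356 rfl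
theorem L47750 : N3465 = N80 := eqes L47749 L834
theorem L47751 : N3465 = N80 := eqc rfl L47750 rfl
theorem L47761 : sm gg N80 = N3474 := trfs L47751 L18410 rfl
theorem L47762 : N3474 = N80 := eqes L47761 L426
theorem L47763 : N3474 = N80 := eqc rfl L47762 rfl
theorem L47773 : sm gf N80 = N1783 := trfs L47763 L18402 rfl
theorem L47774 : N1783 = N161 := eqes L47773 L839
theorem L47775 : N1783 = N161 := eqc rfl L47774 rfl
theorem L47785 : sm gg N161 = N882 := trfs L47775 L9156 rfl
theorem L47786 : N882 = N82 := eqes L47785 L849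
theorem L47787 : N882 = N82 := eqc rfl L47786 rfl
theorem L47790 : sm gc N82 = N1781 := trfs L47787 L9147 rfl
theorem L47791 : N1781 = N45 := eqes L47790 L439
theorem L47792 : N1781 = N45 := eqc rfl L47791 rfl
theorem L47806 : sm gf N45 = N3470 := trfs L47792 L18379 rfl
theorem L47807 : N3470 = N20 := eqes L47806 L234
theorem L47808 : N3470 = N20 := eqc rfl L47807 rfl
theorem L47811 : sm gb N20 = N6304 := trfs L47808 L34320 rfl
theorem L47812 : N6304 = N9 := eqes L47811 L104
theorem L47813 : N6304 = N9 := eqc rfl L47812 rfl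
theorem L47833 : sm gc N9 = N3478 := trfs L47813 L34321 rfl
theorem L47834 : N3478 = N5 := eqes L47833 L53
theorem L47835 : N3478 = N5 := eqc rfl L47834 rfl
theorem L47848 : sm gg N5 = N6322 := trfs L47835 L34410 rfl
theorem L47849 : N6322 = N5 := eqes L47848 L33
theorem L47850 : N6322 = N5 := eqc rfl L47849 rfl
theorem L47859 : sm gf N5 = N6320 := trfs L47850 L34416 rfl
theorem L47860 : N6320 = N11 := eqes L47859 L61
theorem L47861 : N6320 = N11 := eqc rfl L47860 rfl
theorem L47870 : sm gg N11 = N3477 := trfs L47861 L34395 rfl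
theorem L47871 : N3477 = N24 := eqes L47870 L126
theorem L47872 : N3477 = N24 := eqc rfl L47871 rfl
theorem L47878 : sm gd N24 = N6318 := trfs L47872 L34378 rfl
theorem L47879 : N6318 = N52 := eqes L47878 L270
theorem L47880 : N6318 = N52 := eqc rfl L47879 rfl
theorem L47884 : sm gb N52 = N3480 := trfs L47880 L34381 rfl
theorem L47885 : N3480 = N90 := eqes L47884 L473
theorem L47886 : N3480 = N90 := eqc rfl L47885 rfl
theorem L47897 : sm gg N90 = N4505 := trfs L47886 L24671 rfl
theorem L47898 : N4505 = N90 := eqes L47897 L476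
theorem L47899 : N4505 = N90 := eqc rfl L47898 rfl
theorem L47904 : sm gd N90 = N2450 := trfs L47899 L24666 rfl
theorem L47905 : N2450 = N42 := eqes L47904 L470
theorem L47906 : N2450 = N42 := eqc rfl L47905 rfl
theorem L47921 : sm gg N42 = N2454 := trfs L47906 L12939 rfl
theorem L47922 : N2454 = N19 := eqes L47921 L220
theorem L47923 : N2454 = N19 := eqc rfl L47922 rfl
theorem L47932 : sm gf N19 = N153 := trfs L47923 L12934 L45348
theorem L47933 : N153 = N8 := eqes L47932 L98
theorem L47934 : N153 = N8 := eqc rfl L47933 rfl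
theorem L47949 : sm gg N8 = N75 := trfs L47934 L794 rfl
theorem L47950 : N75 = N8 := eqes L47949 L51
theorem L47951 : N75 = N8 := eqc rfl L47950 rfl
theorem L47960 : sm ge N8 = N151 := trfs L47951 L787 rfl
theorem L47961 : N151 = N18 := eqes L47960 L90
theorem L47962 : N151 = N18 := eqc rfl L47961 rfl
theorem L47974 : sm gf N18 = N303 := trfs L47962 L1562 rfl
theorem L47975 : N303 = N42 := eqes L47974 L213
theorem L47976 : N303 = N42 := eqc rfl L47975 rfl
theorem L47983 : sm gd N42 = N604 := trfs L47976 L3115 rfl
theorem L47984 : N604 = N90 := eqes L47983 L469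
theorem L47985 : N604 = N90 := eqc rfl L47984 rfl
theorem L47992 : sm gc N90 = N1216 := trfs L47985 L6201 rfl
theorem L47993 : N1216 = N184 := eqes L47992 L941
theorem L47994 : N1216 = N184 := eqc rfl L47993 rfl
theorem L48001 : sm gg N90 = N1218 := trfs L47985 L6209 rfl
theorem L48002 : N1218 = N90 := eqes L48001 L476
theorem L48003 : N1218 = N90 := eqc rfl L48002 rfl
theorem L48017 : sm gf N90 = N609 := trfs L48003 L6222 rfl
theorem L48018 : N609 = N90 := eqes L48017 L475
theorem L48019 : N609 = N90 := eqc rfl L48018 rfl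
theorem L48031 : sm gg N90 = N1224 := trfs L48019 L6246 rfl
theorem L48032 : N1224 = N90 := eqes L48031 L476
theorem L48033 : N1224 = N90 := eqc rfl L48032 rfl
theorem L48041 : sm gd N90 = N608 := trfs L48033 L6239 rfl
theorem L48042 : N608 = N42 := eqes L48041 L470
theorem L48043 : N608 = N42 := eqc rfl L48042 rfl
theorem L48053 : sm gg N42 = N305 := trfs L48043 L3132 rfl
theorem L48054 : N305 = N19 := eqes L48053 L220
theorem L48055 : N305 = N19 := eqc rfl L48054 rfl
theorem L48063 : sm gf N19 = N156 := trfs L48055 L1575 rfl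
theorem L48064 : N156 = N8 := eqes L48063 L98
theorem L48065 : N156 = N8 := eqc rfl L48064 rfl
theorem L48075 : sm gg N8 = N311 := trfs L48065 L1602 rfl
theorem L48076 : N311 = N8 := eqes L48075 L51
theorem L48077 : N311 = N8 := eqc rfl L48076 rfl
theorem L48083 : sm gd N8 = N155 := trfs L48077 L1599 rfl
theorem L48084 : N155 = N4 := eqes L48083 L47
theorem L48085 : N155 = N4 := eqc rfl L48084 rfl
theorem L48099 : sm gg N4 = N142 := trfs L48085 L807 rfl
theorem L48100 : N142 = N1 := eqes L48099 L24
theorem L48101 : N142 = N1 := eqc rfl L48100 rfl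
theorem L48113 : sm gf N1 = N70 := trfs L48101 L741 rfl
theorem L48114 : N70 = N1 := eqes L48113 L9
theorem L48115 : N70 = N1 := eqc rfl L48114 rfl
theorem L48120 : sm gc N1 = N33 := trfs L48115 L372 rfl
theorem L48121 : N33 = N3 := eqes L48120 L17
theorem L48122 : N33 = N3 := eqc rfl L48121 rfl
theorem L48126 : sm ge N1 = N141 := trfs L48115 L733 rfl
theorem L48127 : N141 = N1 := eqes L48126 L8
theorem L48128 : N141 = N1 := eqc rfl L48127 rfl
theorem L48137 : sm gd N1 = N279 := trfs L48128 L1435 rfl
theorem L48138 : N279 = N1 := eqes L48137 L7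
theorem L48139 : N279 = N1 := eqc rfl L48138 rfl
theorem L48153 : sm gg N1 = N556 := trfs L48139 L2859 rfl
theorem L48154 : N556 = N4 := eqes L48153 L23
theorem L48155 : N556 = N4 := eqc rfl L48154 rfl
theorem L48169 : sm gf N4 = N555 := trfs L48155 L2863 rfl
theorem L48170 : N555 = N4 := eqes L48169 L29
theorem L48171 : N555 = N4 := eqc rfl L48170 rfl
theorem L48183 : sm gg N4 = N278 := trfs L48171 L2855 rfl
theorem L48184 : N278 = N1 := eqes L48183 L24
theorem L48185 : N278 = N1 := eqc rfl L48184 rfl
theorem L48190 : sm gc N1 = N551 := trfs L48185 L2836 rfl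
theorem L48191 : N551 = N3 := eqes L48190 L17
theorem L48192 : N551 = N3 := eqc rfl L48191 rfl
theorem L48206 : sm gf N3 = N1111 := trfs L48192 L5649 rfl
theorem L48207 : N1111 = N3 := eqes L48206 L21
theorem L48208 : N1111 = N3 := eqc rfl L48207 rfl
theorem L48219 : sm gg N3 = N1116 := trfs L48208 L5690 rfl
theorem L48220 : N1116 = N7 := eqes L48219 L38
theorem L48221 : N1116 = N7 := eqc rfl L48220 rfl
theorem L48231 : sm gf N7 = N553 := trfs L48221 L5683 rfl
theorem L48232 : N553 = N7 := eqes L48231 L45
theorem L48233 : N553 = N7 := eqc rfl L48232 rfl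
theorem L48239 : sm gd N7 = N1115 := trfs L48233 L5679 rfl
theorem L48240 : N1115 = N16 := eqes L48239 L82
theorem L48241 : N1115 = N16 := eqc rfl L48240 rfl
theorem L48254 : sm gf N16 = N2205 := trfs L48241 L11545 rfl
theorem L48255 : N2205 = N37 := eqes L48254 L189
theorem L48256 : N2205 = N37 := eqc rfl L48255 rfl
theorem L48257 : sm gg N16 = N2013 := trfs L48241 L10466 rfl
theorem L48258 : N2013 = N33 := eqes L48257 L172
theorem L48259 : N2013 = N3 := eqc rfl L48258 L48122
theorem L48273 : sm gf N3 = N3837 := trfs L48259 L20699 rfl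
theorem L48274 : N3837 = N3 := eqes L48273 L21
theorem L48275 : N3837 = N3 := eqc rfl L48274 rfl
theorem L48287 : sm gg N3 = N4118 := trfs L48275 L22406 rfl
theorem L48288 : N4118 = N7 := eqes L48287 L38
theorem L48289 : N4118 = N7 := eqc rfl L48288 rfl
theorem L48297 : sm gd N7 = N37 := trfs L48289 L22407 L48256
theorem L48298 : N37 = N16 := eqes L48297 L82
theorem L48299 : N37 = N16 := eqc rfl L48298 rfl
theorem L48300 : N2205 = N16 := L48256.trans L48299
theorem L48301 : sm ge N7 = N16 := trfs L48289 L22403 L48300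
theorem L48302 : N16 = N7 := eqes L48301 L44
theorem L48303 : N16 = N7 := eqc rfl L48302 rfl
theorem L48309 : sm gd N7 = N7 := trfs L48303 L83 rfl
theorem L48312 : N37 = N7 := L48299.trans L48303
theorem L48320 : sm gg N7 = N79 := trfs L48312 L414 rfl
theorem L48321 : N79 = N3 := eqes L48320 L39
theorem L48322 : N79 = N3 := eqc rfl L48321 rfl
theorem L48326 : sm gd N3 = N159 := trfs L48322 L828 rfl
theorem L48327 : N159 = N6 := eqes L48326 L34
theorem L48328 : N159 = N6 := eqc rfl L48327 rfl
theorem L48337 : sm gf N6 = N318 := trfs L48328 L1633 rfl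
theorem L48338 : N318 = N14 := eqes L48337 L73
theorem L48339 : N318 = N14 := eqc rfl L48338 rfl
theorem L48350 : sm ge N14 = N545 := trfs L48339 L2805 rfl
theorem L48351 : N545 = N30 := eqes L48350 L154
theorem L48352 : N545 = N30 := eqc rfl L48351 rfl
theorem L48359 : sm gd N30 = N273 := trfs L48352 L2801 rfl
theorem L48360 : N273 = N67 := eqes L48359 L355
theorem L48361 : N273 = N67 := eqc rfl L48360 rfl
theorem L48368 : sm ge N67 = N138 := trfs L48361 L1403 rfl
theorem L48369 : N138 = N67 := eqes L48368 L359
theorem L48370 : N138 = N67 := eqc rfl L48369 rfl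
theorem L48374 : sm gg N67 = N67 := trfs L48361 L1405 L48370
theorem L48375 : N67 = N132 := eqes L48374 L689
theorem L48376 : N132 = N67 := (eqc rfl L48375 rfl).symm
theorem L48379 : sm gc N67 = N263 := trfs L48376 L1352 rfl
theorem L48380 : N263 = N131 := eqes L48379 L684
theorem L48381 : N263 = N131 := eqc rfl L48380 rfl
theorem L48385 : sm gg N67 = N67 := trfs L48376 L690 rfl
theorem L48387 : sm gb N131 = N519 := trfs L48381 L2689 rfl
theorem L48388 : N519 = N261 := eqes L48387 L1339
theorem L48389 : N519 = N261 := eqc rfl L48388 rfl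
theorem L48390 : sm gd N131 = N524 := trfs L48381 L2707 rfl
theorem L48391 : N524 = N262 := eqes L48390 L1345
theorem L48392 : N524 = N262 := eqc rfl L48391 rfl
theorem L48395 : sm gg N131 = N131 := trfs L48381 L1349 rfl
theorem L48402 : sm ge N262 = N1046 := trfs L48392 L5327 rfl
theorem L48403 : N1046 = N521 := eqes L48402 L2696
theorem L48404 : N1046 = N521 := eqc rfl L48403 rfl
theorem L48408 : sm gg N262 = N1043 := trfs L48392 L5316 rfl
theorem L48409 : N1043 = N523 := eqes L48408 L2704
theorem L48410 : N1043 = N523 := eqc rfl L48409 rfl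
theorem L48412 : sm gb N523 = N2065 := trfs L48410 L10759 rfl
theorem L48413 : N2065 = N1034 := eqes L48412 L5274
theorem L48414 : N2065 = N1034 := eqc rfl L48413 rfl
theorem L48415 : N2074 = N459 := L43066.trans L46642
theorem L48416 : sm gc N523 = N459 := trfs L48410 L10805 L48415
theorem L48417 : N459 = N1039 := eqes L48416 L5296
theorem L48418 : N1039 = N459 := (eqc rfl L48417 rfl).symm
theorem L48419 : sm gd N523 = N523 := trfs L48410 L5313 rfl
theorem L48420 : sm ge N523 = N2075 := trfs L48410 L10814 rfl
theorem L48421 : N2075 = N1041 := eqes L48420 L5306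
theorem L48422 : N2075 = N1041 := eqc rfl L48421 rfl
theorem L48423 : sm gf N523 = N2076 := trfs L48410 L10823 rfl
theorem L48424 : N2076 = N523 := eqes L48423 L10080
theorem L48425 : N2076 = N523 := eqc rfl L48424 rfl
theorem L48437 : sm gg N523 = N2080 := trfs L48425 L10849 rfl
theorem L48438 : N2080 = N262 := eqes L48437 L2705
theorem L48439 : N2080 = N262 := eqc rfl L48438 rfl
theorem L48444 : sm gc N262 = N3543 := trfs L48439 L18836 rfl
theorem L48445 : N3543 = N520 := eqes L48444 L2693
theorem L48446 : N3543 = N520 := eqc rfl L48445 rfl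
theorem L48477 : sm ge N520 = N460 := trfs L48446 L18837 L43030
theorem L48478 : N460 = N1037 := eqes L48477 L5282
theorem L48479 : N1037 = N460 := (eqc rfl L48478 rfl).symm
theorem L48480 : sm gf N520 = N2079 := trfs L48446 L18840 rfl
theorem L48481 : N2079 = N1037 := eqes L48480 L10060
theorem L48482 : N2079 = N460 := eqc rfl L48481 L48479
theorem L48488 : sm gc N460 = N521 := trfs L48482 L10839 L48404
theorem L48489 : N521 = N915 := eqes L48488 L4663
theorem L48490 : N915 = N521 := (eqc rfl L48489 rfl).symm
theorem L48496 : sm gg N460 = N1827 := trfs L48482 L10841 rfl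
theorem L48497 : N1827 = N230 := eqes L48496 L2396
theorem L48498 : N1827 = N230 := eqc rfl L48497 rfl
theorem L48502 : sm gc N230 = N1041 := trfs L48498 L10818 L48422
theorem L48503 : N1041 = N458 := eqes L48502 L2387
theorem L48504 : N1041 = N458 := eqc rfl L48503 rfl
theorem L48505 : sm gd N230 = N905 := trfs L48498 L9366 rfl
theorem L48506 : N905 = N117 := eqes L48505 L1192
theorem L48507 : N905 = N117 := eqc rfl L48506 rfl
theorem L48519 : sm gg N117 = N1828 := trfs L48507 L9370 rfl
theorem L48520 : N1828 = N112 := eqes L48519 L643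
theorem L48521 : N1828 = N112 := eqc rfl L48520 rfl
theorem L48532 : sm gf N112 = N1826 := trfs L48521 L9374 rfl
theorem L48533 : N1826 = N57 := eqes L48532 L610
theorem L48534 : N1826 = N57 := eqc rfl L48533 rfl
theorem L48546 : sm gg N57 = N904 := trfs L48534 L9361 rfl
theorem L48547 : N904 = N113 := eqes L48546 L615
theorem L48548 : N904 = N113 := eqc rfl L48547 rfl
theorem L48551 : sm gc N113 = N1821 := trfs L48548 L9339 rfl
theorem L48552 : N1821 = N113 := eqes L48551 L618
theorem L48553 : N1821 = N113 := eqc rfl L48552 rfl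
theorem L48554 : sm gd N113 = N907 := trfs L48548 L9350 L44109
theorem L48555 : N907 = N222 := eqes L48554 L1159
theorem L48556 : N907 = N222 := eqc rfl L48555 rfl
theorem L48566 : N1370 = N444 := L43180.trans L46688
theorem L48567 : sm gg N222 = N444 := trfs L48556 L7027 L48566
theorem L48568 : N444 = N438 := eqes L48567 L2305
theorem L48569 : N444 = N438 := eqc rfl L48568 rfl
theorem L48575 : sm gf N438 = N222 := trfs L48569 L2326 rfl
theorem L48576 : N222 = N868 := eqes L48575 L4456
theorem L48577 : N868 = N222 := (eqc rfl L48576 rfl).symm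
theorem L48585 : sm gf N222 = N438 := trfs L48577 L4457 rfl
theorem L48586 : sm gf N438 = N222 := flp_f L48585
theorem L48605 : N699 = N438 := L44244.trans L48569
theorem L48622 : sm gf N113 = N2117 := trfs L48553 L18793 rfl
theorem L48623 : N2117 = N115 := eqes L48622 L630
theorem L48624 : N2117 = N115 := eqc rfl L48623 rfl
theorem L48635 : sm gg N115 = N3537 := trfs L48624 L18787 rfl
theorem L48636 : N3537 = N58 := eqes L48635 L627
theorem L48637 : N3537 = N58 := eqc rfl L48636 rfl
theorem L48647 : sm gf N58 = N1823 := trfs L48637 L18767 rfl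
theorem L48648 : N1823 = N26 := eqes L48647 L309
theorem L48649 : N1823 = N26 := eqc rfl L48648 rfl
theorem L48655 : sm gd N26 = N3536 := trfs L48649 L18762 rfl
theorem L48656 : N3536 = N12 := eqes L48655 L131
theorem L48657 : N3536 = N12 := eqc rfl L48656 rfl
theorem L48670 : sm gf N12 = N4001 := trfs L48657 L21737 rfl
theorem L48671 : N4001 = N28 := eqes L48670 L139
theorem L48672 : N4001 = N28 := eqc rfl L48671 rfl
theorem L48684 : sm ge N28 = N6981 := trfs L48672 L38466 rfl
theorem L48685 : N6981 = N61 := eqes L48684 L325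
theorem L48686 : N6981 = N61 := eqc rfl L48685 rfl
theorem L48690 : sm gd N61 = N3995 := trfs L48686 L38463 rfl
theorem L48691 : N3995 = N121 := eqes L48690 L654
theorem L48692 : N3995 = N121 := eqc rfl L48691 rfl
theorem L48705 : sm gg N121 = N2127 := trfs L48692 L21689 rfl
theorem L48706 : N2127 = N124 := eqes L48705 L45604
theorem L48707 : N2127 = N124 := eqc rfl L48706 rfl
theorem L48721 : sm gf N124 = N3989 := trfs L48707 L21654 rfl
theorem L48722 : N3989 = N224 := eqes L48721 L1171
theorem L48723 : N3989 = N224 := eqc rfl L48722 rfl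
theorem L48736 : sm gg N224 = N3996 := trfs L48723 L21705 rfl
theorem L48737 : N3996 = N247 := eqes L48736 L1274
theorem L48738 : N3996 = N247 := eqc rfl L48737 rfl
theorem L48743 : sm gc N247 = N2406 := trfs L48738 L21700 rfl
theorem L48744 : N2406 = N491 := eqes L48743 L2541
theorem L48745 : N2406 = N180 := eqc rfl L48744 L45924
theorem L48759 : sm gg N180 = N3983 := trfs L48745 L21603 rfl
theorem L48760 : N3983 = N182 := eqes L48759 L44488
theorem L48761 : N3983 = N182 := eqc rfl L48760 rfl
theorem L48768 : sm gd N182 = N2114 := trfs L48761 L21598 rfl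
theorem L48769 : N2114 = N366 := eqes L48768 L1889
theorem L48770 : N2114 = N183 := eqc rfl L48769 L44466
theorem L48786 : sm gg N183 = N1222 := trfs L48770 L11032 rfl
theorem L48787 : N1222 = N89 := eqes L48786 L939
theorem L48788 : N1222 = N89 := eqc rfl L48787 rfl
theorem L48799 : sm gf N89 = N2405 := trfs L48788 L12655 rfl
theorem L48800 : N2405 = N174 := eqes L48799 L906
theorem L48801 : N2405 = N123 := eqc rfl L48800 L46368
theorem L48813 : sm gg N123 = N2131 := trfs L48801 L12662 rfl
theorem L48814 : N2131 = N244 := eqes L48813 L1251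
theorem L48815 : N2131 = N244 := eqc rfl L48814 rfl
theorem L48824 : sm ge N244 = N1069 := trfs L48815 L11120 rfl
theorem L48825 : N1069 = N489 := eqes L48824 L2531
theorem L48826 : N1069 = N235 := eqc rfl L48825 L45594
theorem L48836 : sm gd N235 = N2130 := trfs L48826 L11112 rfl
theorem L48837 : N2130 = N470 := eqes L48836 L2434
theorem L48838 : N2130 = N470 := eqc rfl L48837 rfl
theorem L48856 : sm gg N470 = N1916 := trfs L48838 L11118 rfl
theorem L48857 : N1916 = N937 := eqes L48856 L4783
theorem L48858 : N1916 = N937 := eqc rfl L48857 rfl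
theorem L48873 : sm gf N937 = N1017 := trfs L48858 L9902 rfl
theorem L48874 : N1017 = N3614 := eqes L48873 L46049
theorem L48875 : N3614 = N1017 := (eqc rfl L48874 rfl).symm
theorem L48882 : sm gd N1017 = N6473 := trfs L48875 L35419 rfl
theorem L48883 : N6473 = N2041 := eqes L48882 L10601
theorem L48884 : N6473 = N2041 := eqc rfl L48883 rfl
theorem L48888 : sm gf N1017 = N937 := trfs L48875 L46050 rfl
theorem L48890 : sm gg N1017 = N351 := trfs L48875 L19355 L46019
theorem L48891 : N351 = N2043 := eqes L48890 L10613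
theorem L48892 : N2043 = N351 := (eqc rfl L48891 rfl).symm
theorem L48897 : sm gc N351 = N1019 := trfs L48892 L10616 rfl
theorem L48905 : sm gg N351 = N1017 := trfs L48892 L10614 rfl
theorem L48906 : N1017 = N698 := eqes L48905 L3596
theorem L48907 : N1017 = N439 := eqc rfl L48906 L46164
theorem L48913 : sm gd N439 = N2041 := trfs L48907 L10601 rfl
theorem L48914 : N2041 = N870 := eqes L48913 L4461
theorem L48915 : N2041 = N870 := eqc rfl L48914 rfl
theorem L48917 : sm gf N439 = N937 := trfs L48907 L48888 rfl
theorem L48918 : N937 = N863 := eqes L48917 L4433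
theorem L48919 : N937 = N863 := eqc rfl L48918 rfl
theorem L48927 : sm gg N863 = N470 := trfs L48919 L4784 rfl
theorem L48928 : N470 = N1751 := eqes L48927 L8963
theorem L48929 : N1751 = N470 := (eqc rfl L48928 rfl).symm
theorem L48934 : sm gd N470 = N3426 := trfs L48929 L18092 rfl
theorem L48935 : N3426 = N235 := eqes L48934 L2435
theorem L48936 : N3426 = N235 := eqc rfl L48935 rfl
theorem L48940 : sm gg N470 = N863 := trfs L48929 L8964 rfl
theorem L48941 : sm gg N863 = N470 := flp_g L48940
theorem L48949 : sm ge N235 = N3846 := trfs L48936 L20751 rfl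
theorem L48950 : N3846 = N471 := eqes L48949 L2437
theorem L48951 : N3846 = N355 := eqc rfl L48950 L45564
theorem L48955 : sm gg N235 = N3445 := trfs L48936 L18237 rfl
theorem L48956 : N3445 = N472 := eqes L48955 L2442
theorem L48957 : N3445 = N243 := eqc rfl L48956 L45680
theorem L48965 : sm ge N243 = N2020 := trfs L48957 L18242 rfl
theorem L48966 : N2020 = N123 := eqes L48965 L1247
theorem L48967 : N2020 = N123 := eqc rfl L48966 rfl
theorem L48971 : sm gb N123 = N3845 := trfs L48967 L20741 rfl
theorem L48972 : N3845 = N241 := eqes L48971 L1240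
theorem L48973 : N3845 = N241 := eqc rfl L48972 rfl
theorem L48977 : sm gd N123 = N169 := trfs L48967 L18253 L44047
theorem L48978 : N169 = N242 := eqes L48977 L1242
theorem L48979 : N169 = N85 := eqc rfl L48978 L45751
theorem L48983 : sm gg N123 = N355 := trfs L48967 L20745 L48951
theorem L48984 : N355 = N244 := eqes L48983 L1251
theorem L48985 : N355 = N244 := eqc rfl L48984 rfl
theorem L48990 : sm gd N244 = N178 := trfs L48985 L44512 rfl
theorem L48991 : N178 = N490 := eqes L48990 L2534
theorem L48992 : N490 = N178 := (eqc rfl L48991 rfl).symm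
theorem L49000 : sm gd N178 = N244 := trfs L48992 L2535 rfl
theorem L49001 : sm gd N244 = N178 := flp_d L49000
theorem L49006 : sm gg N178 = N969 := trfs L48992 L4959 rfl
theorem L49007 : N969 = N356 := eqes L49006 L44535
theorem L49008 : N969 = N356 := eqc rfl L49007 rfl
theorem L49019 : sm gf N356 = N1946 := trfs L49008 L10116 rfl
theorem L49020 : N1946 = N350 := eqes L49019 L44550
theorem L49021 : N1946 = N350 := eqc rfl L49020 rfl
theorem L49033 : sm gg N350 = N1958 := trfs L49021 L10169 rfl
theorem L49034 : N1958 = N171 := eqes L49033 L1796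
theorem L49035 : N1958 = N171 := eqc rfl L49034 rfl
theorem L49043 : sm gd N171 = N1247 := trfs L49035 L10172 rfl
theorem L49044 : N1247 = N84 := eqes L49043 L888
theorem L49045 : N1247 = N84 := eqc rfl L49044 rfl
theorem L49060 : sm gg N84 = N2438 := trfs L49045 L12851 rfl
theorem L49061 : N2438 = N173 := eqes L49060 L897
theorem L49062 : N2438 = N173 := eqc rfl L49061 rfl
theorem L49075 : sm gf N173 = N2439 := trfs L49062 L12861 rfl
theorem L49076 : N2439 = N175 := eqes L49075 L910
theorem L49077 : N2439 = N175 := eqc rfl L49076 rfl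
theorem L49082 : sm gc N175 = N175 := trfs L49077 L12860 L49077
theorem L49083 : N175 = N345 := eqes L49082 L1768
theorem L49084 : N345 = N175 := (eqc rfl L49083 rfl).symm
theorem L49088 : sm ge N175 = N2440 := trfs L49077 L12868 rfl
theorem L49089 : N2440 = N176 := eqes L49088 L916
theorem L49090 : N2440 = N176 := eqc rfl L49089 rfl
theorem L49098 : sm gd N176 = N4483 := trfs L49090 L24528 rfl
theorem L49099 : N4483 = N357 := eqes L49098 L1835
theorem L49100 : N4483 = N357 := eqc rfl L49099 rfl
theorem L49107 : sm gg N357 = N3858 := trfs L49100 L24531 rfl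
theorem L49108 : N3858 = N709 := eqes L49107 L3646
theorem L49109 : N3858 = N709 := eqc rfl L49108 rfl
theorem L49117 : sm ge N709 = N3770 := trfs L49109 L20821 rfl
theorem L49118 : N3770 = N1419 := eqes L49117 L7285
theorem L49119 : N3770 = N1419 := eqc rfl L49118 rfl
theorem L49120 : sm gf N709 = N3612 := trfs L49109 L20823 rfl
theorem L49121 : N3612 = N1419 := eqes L49120 L7286
theorem L49122 : N3612 = N1419 := eqc rfl L49121 rfl
theorem L49126 : N2615 = N1459 := L44373.trans L46894
theorem L49133 : N6473 = N870 := L48884.trans L48915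
theorem L49134 : sm ge N1419 = N870 := trfs L49122 L35413 L49133
theorem L49135 : N870 = N709 := eqes L49134 L7284
theorem L49136 : N870 = N709 := eqc rfl L49135 rfl
theorem L49137 : sm gg N1419 = N6472 := trfs L49122 L35412 rfl
theorem L49138 : N6472 = N708 := eqes L49137 L7282
theorem L49139 : N6472 = N708 := eqc rfl L49138 rfl
theorem L49141 : sm gb N708 = N1283 := trfs L49139 L35871 L47719
theorem L49142 : N1283 = N1336 := eqes L49141 L6856
theorem L49143 : N1336 = N1283 := (eqc rfl L49142 rfl).symm
theorem L49150 : sm gc N1283 = N2613 := trfs L49143 L13757 rfl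
theorem L49151 : N2613 = N2508 := eqes L49150 L13256
theorem L49152 : N2613 = N1283 := eqc rfl L49151 L46885
theorem L49183 : sm ge N1283 = N1335 := trfs L49152 L13755 rfl
theorem L49184 : N1335 = N2509 := eqes L49183 L13261
theorem L49185 : N1335 = N665 := eqc rfl L49184 L44345
theorem L49187 : sm gg N1283 = N4804 := trfs L49152 L26276 rfl
theorem L49188 : N4804 = N1459 := eqes L49187 L46911
theorem L49189 : N4804 = N1459 := eqc rfl L49188 rfl
theorem L49191 : sm ge N1459 = N2614 := trfs L49189 L26280 rfl
theorem L49192 : N2614 = N2810 := eqes L49191 L14882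
theorem L49193 : N2614 = N1337 := eqc rfl L49192 L46906
theorem L49199 : sm gb N1337 = N4799 := trfs L49193 L26264 rfl
theorem L49200 : N4799 = N709 := eqes L49199 L6862
theorem L49201 : N4799 = N709 := eqc rfl L49200 rfl
theorem L49202 : sm gc N1337 = N1337 := trfs L49193 L13761 rfl
theorem L49210 : sm gg N709 = N2611 := trfs L49201 L26262 rfl
theorem L49211 : N2611 = N357 := eqes L49210 L3647
theorem L49212 : N2611 = N357 := eqc rfl L49211 rfl
theorem L49217 : sm gc N357 = N1415 := trfs L49212 L13750 rfl
theorem L49218 : N1415 = N707 := eqes L49217 L3636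
theorem L49219 : N1415 = N707 := eqc rfl L49218 rfl
theorem L49252 : sm gb N707 = N707 := trfs L49219 L7265 rfl
theorem L49253 : sm gd N707 = N2742 := trfs L49219 L14469 rfl
theorem L49254 : N2742 = N1416 := eqes L49253 L7267
theorem L49255 : N2742 = N1416 := eqc rfl L49254 rfl
theorem L49256 : sm ge N707 = N2743 := trfs L49219 L14473 rfl
theorem L49257 : N2743 = N1417 := eqes L49256 L7270
theorem L49258 : N2743 = N1417 := eqc rfl L49257 rfl
theorem L49270 : sm gg N1417 = N4426 := trfs L49258 L24147 rfl
theorem L49271 : N4426 = N2397 := eqes L49270 L12610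
theorem L49272 : N4426 = N2397 := eqc rfl L49271 rfl
theorem L49277 : sm gd N2397 = N2396 := trfs L49272 L24140 rfl
theorem L49278 : N2396 = N1216 := eqes L49277 L12601
theorem L49279 : N2396 = N184 := eqc rfl L49278 L47994
theorem L49295 : sm gg N184 = N4428 := trfs L49279 L24157 rfl
theorem L49296 : N4428 = N184 := eqes L49295 L946
theorem L49297 : N4428 = N184 := eqc rfl L49296 rfl
theorem L49302 : sm ge N184 = N4455 := trfs L49297 L24334 rfl
theorem L49303 : N4455 = N184 := eqes L49302 L944
theorem L49304 : N4455 = N184 := eqc rfl L49303 rfl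
theorem L49309 : sm gb N184 = N2425 := trfs L49304 L24332 rfl
theorem L49310 : N2425 = N184 := eqes L49309 L947
theorem L49311 : N2425 = N184 := eqc rfl L49310 rfl
theorem L49320 : sm gf N184 = N2410 := trfs L49311 L12787 rfl
theorem L49321 : N2410 = N184 := eqes L49320 L945
theorem L49322 : N2410 = N184 := eqc rfl L49321 rfl
theorem L49339 : sm gg N184 = N2394 := trfs L49322 L12690 rfl
theorem L49340 : N2394 = N184 := eqes L49339 L946
theorem L49341 : N2394 = N184 := eqc rfl L49340 rfl
theorem L49345 : sm gd N184 = N4423 := trfs L49341 L24118 rfl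
theorem L49346 : N4423 = N372 := eqes L49345 L1915
theorem L49347 : N4423 = N372 := eqc rfl L49346 rfl
theorem L49352 : sm ge N372 = N733 := trfs L49347 L36494 L43960
theorem L49353 : N733 = N732 := eqes L49352 L3768
theorem L49354 : N733 = N732 := eqc rfl L49353 rfl
theorem L49358 : sm gg N372 = N4900 := trfs L49347 L26803 rfl
theorem L49359 : N4900 = N734 := eqes L49358 L3778
theorem L49360 : N4900 = N734 := eqc rfl L49359 rfl
theorem L49365 : N1461 = N708 := L43805.trans L46882
theorem L49369 : sm gf N734 = N6647 := trfs L49360 L36505 rfl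
theorem L49370 : N6647 = N1464 := eqes L49369 L7533
theorem L49371 : N6647 = N1464 := eqc rfl L49370 rfl
theorem L49376 : sm ge N1464 = N4987 := trfs L49371 L36502 rfl
theorem L49377 : N4987 = N1385 := eqes L49376 L7539
theorem L49378 : N4987 = N1385 := eqc rfl L49377 rfl
theorem L49379 : sm gg N1464 = N372 := trfs L49371 L36498 L43943
theorem L49380 : N372 = N1462 := eqes L49379 L7541
theorem L49381 : N1462 = N372 := (eqc rfl L49380 rfl).symm
theorem L49389 : sm gg N372 = N1464 := trfs L49381 L7542 rfl
theorem L49390 : N1464 = N734 := eqes L49389 L3778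
theorem L49391 : N1464 = N734 := eqc rfl L49390 rfl
theorem L49401 : sm gf N734 = N734 := trfs L49391 L7534 rfl
theorem L49425 : sm gd N1385 = N2748 := trfs L49378 L27407 rfl
theorem L49426 : N2748 = N2699 := eqes L49425 L14230
theorem L49427 : N2748 = N2699 := eqc rfl L49426 rfl
theorem L49434 : sm gc N2699 = N3565 := trfs L49427 L19016 rfl
theorem L49435 : N3565 = N3550 := eqes L49434 L18989
theorem L49436 : N3565 = N3550 := eqc rfl L49435 rfl
theorem L49440 : sm gf N2699 = N4988 := trfs L49427 L27413 rfl
theorem L49441 : N4988 = N3548 := eqes L49440 L18992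
theorem L49442 : N4988 = N3548 := eqc rfl L49441 rfl
theorem L49443 : sm gg N2699 = N1416 := trfs L49427 L14493 rfl
theorem L49444 : N1416 = N2699 := eqes L49443 L14234
theorem L49445 : N2699 = N1416 := (eqc rfl L49444 rfl).symm
theorem L49449 : sm gc N1416 = N3550 := trfs L49445 L18989 rfl
theorem L49450 : N3550 = N1843 := eqes L49449 L19008
theorem L49451 : N3550 = N1843 := eqc rfl L49450 rfl
theorem L49452 : sm gd N1416 = N1385 := trfs L49445 L14231 rfl
theorem L49453 : N1385 = N707 := eqes L49452 L7268
theorem L49454 : N1385 = N707 := eqc rfl L49453 rfl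
theorem L49458 : sm gf N1416 = N3548 := trfs L49445 L18992 rfl
theorem L49459 : N3548 = N1841 := eqes L49458 L19005
theorem L49460 : N3548 = N1841 := eqc rfl L49459 rfl
theorem L49461 : sm gg N1416 = N1416 := trfs L49445 L14234 L49445
theorem L49463 : sm gb N1841 = N1841 := trfs L49460 L19009 L49460
theorem L49464 : N1841 = N3558 := eqes L49463 L18925
theorem L49465 : N3558 = N1841 := (eqc rfl L49464 rfl).symm
theorem L49472 : sm ge N1841 = N6398 := trfs L49460 L34909 rfl
theorem L49473 : N6398 = N3559 := eqes L49472 L18928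
theorem L49474 : N6398 = N3559 := eqc rfl L49473 rfl
theorem L49475 : sm gg N1841 = N3559 := trfs L49460 L34918 L49474
theorem L49476 : N3559 = N3561 := eqes L49475 L18938
theorem L49477 : N3561 = N3559 := (eqc rfl L49476 rfl).symm
theorem L49482 : sm gc N3559 = N1844 := trfs L49477 L18941 rfl
theorem L49483 : N1844 = N1842 := eqes L49482 L18931
theorem L49484 : N1844 = N1842 := eqc rfl L49483 rfl
theorem L49485 : sm gd N3559 = N3914 := trfs L49477 L22108 rfl
theorem L49486 : N3914 = N4051 := eqes L49485 L26868
theorem L49487 : N4051 = N3914 := (eqc rfl L49486 rfl).symm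
theorem L49488 : N4988 = N1841 := L49442.trans L49460
theorem L49501 : sm gd N3914 = N3559 := trfs L49487 L26869 rfl
theorem L49502 : sm gd N3559 = N3914 := flp_d L49501
theorem L49509 : sm gg N3914 = N7047 := trfs L49487 L38876 rfl
theorem L49510 : N7047 = N3914 := eqes L49509 L21187
theorem L49511 : N7047 = N3914 := eqc rfl L49510 rfl
theorem L49516 : sm gd N3914 = N6445 := trfs L49511 L38878 rfl
theorem L49517 : N6445 = N3559 := eqes L49516 L49501
theorem L49518 : N6445 = N3559 := eqc rfl L49517 rfl
theorem L49525 : sm gg N3559 = N4053 := trfs L49518 L35247 rfl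
theorem L49526 : N4053 = N4988 := eqes L49525 L27421
theorem L49527 : N4053 = N1841 := eqc rfl L49526 L49488
theorem L49539 : sm gf N1841 = N7053 := trfs L49527 L38909 rfl
theorem L49540 : N7053 = N1416 := eqes L49539 L19004
theorem L49541 : N7053 = N1416 := eqc rfl L49540 rfl
theorem L49546 : sm ge N1416 = N6607 := trfs L49541 L38926 rfl
theorem L49547 : N6607 = N2746 := eqes L49546 L14485
theorem L49548 : N6607 = N2746 := eqc rfl L49547 rfl
theorem L49549 : sm gg N1416 = N5024 := trfs L49541 L38915 rfl
theorem L49550 : N5024 = N1416 := eqes L49549 L49461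
theorem L49551 : N5024 = N1416 := eqc rfl L49550 rfl
theorem L49556 : sm gc N1416 = N6420 := trfs L49551 L35046 rfl
theorem L49557 : N6420 = N1843 := eqes L49556 L19008
theorem L49558 : N6420 = N1843 := eqc rfl L49557 rfl
theorem L49561 : sm gd N1843 = N3563 := trfs L49558 L35028 rfl
theorem L49562 : N3563 = N3550 := eqes L49561 L18894
theorem L49563 : N3563 = N1843 := eqc rfl L49562 L49451
theorem L49567 : sm gf N1843 = N6444 := trfs L49558 L35241 rfl
theorem L49568 : N6444 = N913 := eqes L49567 L9463
theorem L49569 : N6444 = N913 := eqc rfl L49568 rfl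
theorem L49572 : N3565 = N1843 := L49436.trans L49451
theorem L49581 : sm gg N913 = N4054 := trfs L49569 L35242 rfl
theorem L49582 : N4054 = N1844 := eqes L49581 L9465
theorem L49583 : N4054 = N1842 := eqc rfl L49582 L49484
theorem L49593 : sm gf N1842 = N7054 := trfs L49583 L38916 rfl
theorem L49594 : N7054 = N3563 := eqes L49593 L18948
theorem L49595 : N7054 = N1843 := eqc rfl L49594 L49563
theorem L49597 : sm gc N1843 = N2746 := trfs L49595 L38925 L49548
theorem L49598 : N2746 = N1416 := eqes L49597 L19007
theorem L49599 : N2746 = N1416 := eqc rfl L49598 rfl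
theorem L49614 : sm ge N1416 = N1416 := trfs L49599 L14486 rfl
theorem L49615 : sm gf N1416 = N3559 := trfs L49599 L19012 rfl
theorem L49616 : N3559 = N1841 := eqes L49615 L19005
theorem L49617 : N3559 = N1841 := eqc rfl L49616 rfl
theorem L49624 : sm gc N1841 = N1842 := trfs L49617 L18931 rfl
theorem L49625 : N1842 = N913 := eqes L49624 L9456
theorem L49626 : N1842 = N913 := eqc rfl L49625 rfl
theorem L49627 : sm gd N1841 = N3914 := trfs L49617 L49502 rfl
theorem L49628 : N3914 = N1841 := eqes L49627 L9458
theorem L49629 : N3914 = N1841 := eqc rfl L49628 rfl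
theorem L49630 : sm ge N1841 = N1841 := trfs L49617 L18929 rfl
theorem L49631 : sm gg N1841 = N1841 := trfs L49617 L27421 L49488
theorem L49641 : sm gf N1841 = N6875 := trfs L49629 L37848 rfl
theorem L49642 : N6875 = N1416 := eqes L49641 L19004
theorem L49643 : N6875 = N1416 := eqc rfl L49642 rfl
theorem L49646 : sm gc N1416 = N3916 := trfs L49643 L37851 rfl
theorem L49647 : N3916 = N1843 := eqes L49646 L19008
theorem L49648 : N3916 = N1843 := eqc rfl L49647 rfl
theorem L49655 : sm ge N1843 = N6876 := trfs L49648 L37857 rfl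
theorem L49656 : N6876 = N3563 := eqes L49655 L18952
theorem L49657 : N6876 = N1843 := eqc rfl L49656 L49563
theorem L49665 : sm gf N1843 = N3915 := trfs L49657 L37854 rfl
theorem L49666 : N3915 = N913 := eqes L49665 L9463
theorem L49667 : N3915 = N913 := eqc rfl L49666 rfl
theorem L49669 : sm gb N913 = N6854 := trfs L49667 L37718 rfl
theorem L49670 : N6854 = N1838 := eqes L49669 L9446
theorem L49671 : N6854 = N1838 := eqc rfl L49670 rfl
theorem L49679 : N1844 = N913 := L49484.trans L49626
theorem L49680 : sm ga N1838 = N1838 := trfs L49671 L37716 L49671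
theorem L49681 : N1838 = N3551 := eqes L49680 L18898
theorem L49682 : N3551 = N1838 := (eqc rfl L49681 rfl).symm
theorem L49689 : sm gg N1838 = N1838 := trfs L49671 L37719 L49671
theorem L49690 : N1838 = N3555 := eqes L49689 L18909
theorem L49691 : N3555 = N1838 := (eqc rfl L49690 rfl).symm
theorem L49705 : sm gf N1838 = N6412 := trfs L49691 L34987 rfl
theorem L49706 : N6412 = N3554 := eqes L49705 L18905
theorem L49707 : N6412 = N3554 := eqc rfl L49706 rfl
theorem L49708 : sm gg N1838 = N1838 := trfs L49691 L18910 rfl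
theorem L49709 : sm ga N3554 = N7033 := trfs L49707 L38783 rfl
theorem L49710 : N7033 = N6402 := eqes L49709 L34939
theorem L49711 : N7033 = N6402 := eqc rfl L49710 rfl
theorem L49712 : sm gb N3554 = N3566 := trfs L49707 L34989 rfl
theorem L49713 : N3566 = N1843 := eqes L49712 L18907
theorem L49714 : N3566 = N1843 := eqc rfl L49713 rfl
theorem L49715 : sm ge N3554 = N6411 := trfs L49707 L34991 rfl
theorem L49716 : N6411 = N6409 := eqes L49715 L34973
theorem L49717 : N6411 = N6409 := eqc rfl L49716 rfl
theorem L49724 : sm gg N6409 = N3554 := trfs L49717 L34981 rfl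
theorem L49728 : sm gd N1843 = N6422 := trfs L49714 L35036 rfl
theorem L49729 : N6422 = N3550 := eqes L49728 L18894
theorem L49730 : N6422 = N1843 := eqc rfl L49729 L49451
theorem L49741 : sm gg N1843 = N4052 := trfs L49730 L35043 rfl
theorem L49742 : N4052 = N3565 := eqes L49741 L18958
theorem L49743 : N4052 = N1843 := eqc rfl L49742 L49572
theorem L49745 : sm gb N1843 = N7029 := trfs L49743 L38760 rfl
theorem L49746 : N7029 = N3554 := eqes L49745 L18908
theorem L49747 : N7029 = N3554 := eqc rfl L49746 rfl
theorem L49756 : sm gd N3554 = N6402 := trfs L49747 L38787 L49711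
theorem L49757 : N6402 = N6397 := eqes L49756 L34908
theorem L49758 : N6402 = N6397 := eqc rfl L49757 rfl
theorem L49759 : sm ge N3554 = N3554 := trfs L49747 L38761 L49747
theorem L49760 : N3554 = N6409 := eqes L49759 L34973
theorem L49761 : N6409 = N3554 := (eqc rfl L49760 rfl).symm
theorem L49762 : sm gf N3554 = N4028 := trfs L49747 L38758 rfl
theorem L49763 : N4028 = N1838 := eqes L49762 L18906
theorem L49764 : N4028 = N1838 := eqc rfl L49763 rfl
theorem L49775 : sm ge N1838 = N1838 := trfs L49764 L21882 L49764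
theorem L49776 : N1838 = N3553 := eqes L49775 L18901
theorem L49777 : N3553 = N1838 := (eqc rfl L49776 rfl).symm
theorem L49785 : sm gd N1838 = N6408 := trfs L49777 L34962 rfl
theorem L49786 : N6408 = N912 := eqes L49785 L9444
theorem L49787 : N6408 = N912 := eqc rfl L49786 rfl
theorem L49788 : sm ge N1838 = N1838 := trfs L49777 L18902 rfl
theorem L49792 : sm ga N912 = N6440 := trfs L49787 L35204 rfl
theorem L49793 : N6440 = N1837 := eqes L49792 L9441
theorem L49794 : N6440 = N1837 := eqc rfl L49793 rfl
theorem L49798 : sm ge N912 = N3556 := trfs L49787 L34966 rfl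
theorem L49799 : N3556 = N1839 := eqes L49798 L9447
theorem L49800 : N3556 = N1839 := eqc rfl L49799 rfl
theorem L49801 : sm gf N912 = N1837 := trfs L49787 L35208 L49794
theorem L49802 : N1837 = N1833 := eqes L49801 L9404
theorem L49803 : N1837 = N1833 := eqc rfl L49802 rfl
theorem L49804 : sm ga N1833 = N912 := trfs L49803 L9442 rfl
theorem L49805 : N912 = N3544 := eqes L49804 L18843
theorem L49806 : N3544 = N912 := (eqc rfl L49805 rfl).symm
theorem L49810 : sm gc N1833 = N3218 := trfs L49803 L17027 rfl
theorem L49811 : N3218 = N3214 := eqes L49810 L17011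
theorem L49812 : N3218 = N3214 := eqc rfl L49811 rfl
theorem L49813 : sm gd N1833 = N1838 := trfs L49803 L18895 L49682
theorem L49814 : N1838 = N3545 := eqes L49813 L18853
theorem L49815 : N3545 = N1838 := (eqc rfl L49814 rfl).symm
theorem L49816 : sm ge N1833 = N1866 := trfs L49803 L9626 rfl
theorem L49817 : N1866 = N3546 := eqes L49816 L18857
theorem L49818 : N3546 = N1866 := (eqc rfl L49817 rfl).symm
theorem L49820 : sm gg N1833 = N2145 := trfs L49803 L11206 rfl
theorem L49821 : N2145 = N3547 := eqes L49820 L18869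
theorem L49822 : N3547 = N2145 := (eqc rfl L49821 rfl).symm
theorem L49823 : sm ga N2145 = N2149 := trfs L49822 L18871 rfl
theorem L49824 : N2149 = N1840 := eqes L49823 L11200
theorem L49825 : N2149 = N1840 := eqc rfl L49824 rfl
theorem L49829 : sm gc N2145 = N5851 := trfs L49822 L32018 rfl
theorem L49830 : N5851 = N4029 := eqes L49829 L21883
theorem L49831 : N5851 = N4029 := eqc rfl L49830 rfl
theorem L49832 : sm gd N2145 = N1840 := trfs L49822 L18878 L49825
theorem L49833 : N1840 = N1076 := eqes L49832 L11199
theorem L49834 : N1840 = N1076 := eqc rfl L49833 rfl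
theorem L49835 : sm ge N2145 = N2137 := trfs L49822 L18875 rfl
theorem L49836 : N2137 = N3589 := eqes L49835 L19180
theorem L49837 : N3589 = N2137 := (eqc rfl L49836 rfl).symm
theorem L49838 : sm gf N2145 = N3557 := trfs L49822 L18923 rfl
theorem L49839 : N3557 = N1078 := eqes L49838 L11204
theorem L49840 : N3557 = N1078 := eqc rfl L49839 rfl
theorem L49841 : sm gg N2145 = N1833 := trfs L49822 L18870 rfl
theorem L49844 : sm gb N1078 = N1846 := trfs L49840 L18919 rfl
theorem L49845 : N1846 = N544 := eqes L49844 L5476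
theorem L49846 : N1846 = N544 := eqc rfl L49845 rfl
theorem L49847 : sm gc N1078 = N5862 := trfs L49840 L32068 rfl
theorem L49848 : N5862 = N2148 := eqes L49847 L11222
theorem L49849 : N5862 = N2148 := eqc rfl L49848 rfl
theorem L49855 : N2149 = N1076 := L49825.trans L49834
theorem L49856 : sm gg N1078 = N1839 := trfs L49840 L18918 rfl
theorem L49857 : N1839 = N2150 := eqes L49856 L11228
theorem L49858 : N2150 = N1839 := (eqc rfl L49857 rfl).symm
theorem L49866 : sm gd N1839 = N1866 := trfs L49858 L18867 L49818
theorem L49867 : N1866 = N3556 := eqes L49866 L18913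
theorem L49868 : N1866 = N1839 := eqc rfl L49867 L49800
theorem L49872 : N3546 = N1839 := L49818.trans L49868
theorem L49873 : sm gg N1839 = N1078 := trfs L49858 L11229 rfl
theorem L49879 : sm gc N1839 = N3013 := trfs L49868 L16033 rfl
theorem L49880 : N3013 = N3220 := eqes L49879 L17043
theorem L49881 : N3220 = N3013 := (eqc rfl L49880 rfl).symm
theorem L49885 : sm gg N1839 = N2137 := trfs L49868 L19173 L49837
theorem L49886 : N2137 = N1078 := eqes L49885 L49873
theorem L49887 : N2137 = N1078 := eqc rfl L49886 rfl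
theorem L49892 : sm gc N1078 = N4011 := trfs L49887 L21800 rfl
theorem L49893 : N4011 = N2148 := eqes L49892 L11222
theorem L49894 : N4011 = N2148 := eqc rfl L49893 rfl
theorem L49898 : sm gf N1078 = N1076 := trfs L49887 L11166 L49834
theorem L49899 : N1076 = N2145 := eqes L49898 L11205
theorem L49900 : N2145 = N1076 := (eqc rfl L49899 rfl).symm
theorem L49908 : sm gc N1076 = N4029 := trfs L49900 L21883 rfl
theorem L49909 : N4029 = N2141 := eqes L49908 L11181
theorem L49910 : N4029 = N2141 := eqc rfl L49909 rfl
theorem L49919 : sm gg N1076 = N1833 := trfs L49900 L49841 rfl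
theorem L49920 : N1833 = N2146 := eqes L49919 L11208
theorem L49921 : N2146 = N1833 := (eqc rfl L49920 rfl).symm
theorem L49932 : sm ge N1833 = N2147 := trfs L49921 L11219 rfl
theorem L49933 : N2147 = N3546 := eqes L49932 L18857
theorem L49934 : N2147 = N1839 := eqc rfl L49933 L49872
theorem L49950 : sm gf N1839 = N1077 := trfs L49934 L11215 rfl
theorem L49951 : N1077 = N3546 := eqes L49950 L18864
theorem L49952 : N1839 = N1077 := (eqc rfl L49951 L49872).symm
theorem L49960 : sm gc N1077 = N3013 := trfs L49952 L17043 L49881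
theorem L49961 : N3013 = N2142 := eqes L49960 L11185
theorem L49962 : N3013 = N2142 := eqc rfl L49961 rfl
theorem L49970 : N3220 = N2142 := L49881.trans L49962
theorem L49974 : sm gb N2142 = N1557 := trfs L49962 L16031 rfl
theorem L49975 : N1557 = N3498 := eqes L49974 L18564
theorem L49976 : N3498 = N1557 := (eqc rfl L49975 rfl).symm
theorem L49977 : sm gd N2142 = N5423 := trfs L49962 L29876 rfl
theorem L49978 : N5423 = N4025 := eqes L49977 L21864
theorem L49979 : N5423 = N4025 := eqc rfl L49978 rfl
theorem L49980 : sm ge N2142 = N3214 := trfs L49962 L17030 L49812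
theorem L49981 : N3214 = N4022 := eqes L49980 L21855
theorem L49982 : N4022 = N3214 := (eqc rfl L49981 rfl).symm
theorem L49987 : sm gg N2142 = N5424 := trfs L49962 L29880 rfl
theorem L49988 : N5424 = N1074 := eqes L49987 L11183
theorem L49989 : N5424 = N1074 := eqc rfl L49988 rfl
theorem L49990 : sm ga N1074 = N2148 := trfs L49989 L32064 L49849
theorem L49991 : N2148 = N2133 := eqes L49990 L11136
theorem L49992 : N2148 = N2133 := eqc rfl L49991 rfl
theorem L49993 : sm gb N1074 = N3016 := trfs L49989 L29882 rfl
theorem L49994 : N3016 = N2138 := eqes L49993 L11168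
theorem L49995 : N3016 = N2138 := eqc rfl L49994 rfl
theorem L49998 : sm ge N1074 = N2141 := trfs L49989 L29886 L49910
theorem L49999 : N2141 = N2140 := eqes L49998 L11174
theorem L50000 : N2141 = N2140 := eqc rfl L49999 rfl
theorem L50001 : sm gf N1074 = N4033 := trfs L49989 L29949 rfl
theorem L50002 : N4033 = N2141 := eqes L50001 L11178
theorem L50003 : N4033 = N2140 := eqc rfl L50002 L50000
theorem L50004 : N4029 = N2140 := L49910.trans L50000
theorem L50005 : N5851 = N2140 := L49831.trans L50004
theorem L50012 : sm gc N2140 = N1076 := trfs L50003 L29944 L49855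
theorem L50013 : N1076 = N1075 := eqes L50012 L11176
theorem L50014 : N1076 = N1075 := eqc rfl L50013 rfl
theorem L50018 : sm ge N2140 = N2133 := trfs L50003 L29946 L49992
theorem L50019 : N2133 = N1074 := eqes L50018 L11175
theorem L50020 : N2133 = N1074 := eqc rfl L50019 rfl
theorem L50021 : sm gg N2140 = N5848 := trfs L50003 L31993 rfl
theorem L50022 : N5848 = N4022 := eqes L50021 L21850
theorem L50023 : N5848 = N3214 := eqc rfl L50022 L49982
theorem L50028 : sm gc N3214 = N912 := trfs L50023 L31985 L49806
theorem L50029 : N912 = N1833 := eqes L50028 L17010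
theorem L50030 : N1833 = N912 := (eqc rfl L50029 rfl).symm
theorem L50034 : sm gf N3214 = N3214 := trfs L50023 L31987 L49812
theorem L50035 : N3214 = N1653 := eqes L50034 L17008
theorem L50036 : N3214 = N1653 := eqc rfl L50035 rfl
theorem L50039 : N3218 = N1653 := L49812.trans L50036
theorem L50040 : sm gb N1653 = N1650 := trfs L50036 L17007 rfl
theorem L50041 : N1650 = N819 := eqes L50040 L8509
theorem L50042 : N1650 = N819 := eqc rfl L50041 rfl
theorem L50044 : sm gd N1653 = N5849 := trfs L50036 L31995 rfl
theorem L50045 : N5849 = N3219 := eqes L50044 L17032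
theorem L50046 : N5849 = N3219 := eqc rfl L50045 rfl
theorem L50049 : sm gf N1653 = N1653 := trfs L50036 L17008 rfl
theorem L50050 : sm gg N1653 = N2140 := trfs L50036 L32011 L50005
theorem L50051 : N2140 = N3221 := eqes L50050 L17044
theorem L50052 : N3221 = N2140 := (eqc rfl L50051 rfl).symm
theorem L50058 : N1840 = N1075 := L49834.trans L50014
theorem L50064 : N2148 = N1074 := L49992.trans L50020
theorem L50067 : N4011 = N1074 := L49894.trans L50064
theorem L50068 : sm gf N2140 = N1074 := trfs L50052 L21805 L50067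
theorem L50069 : N1074 = N4021 := eqes L50068 L21844
theorem L50070 : N4021 = N1074 := (eqc rfl L50069 rfl).symm
theorem L50073 : N4022 = N1653 := L49982.trans L50036
theorem L50077 : sm gb N1074 = N7009 := trfs L50070 L38644 rfl
theorem L50078 : N7009 = N2138 := eqes L50077 L11168
theorem L50079 : N7009 = N2138 := eqc rfl L50078 rfl
theorem L50081 : sm gd N1074 = N2140 := trfs L50070 L38660 L50000
theorem L50082 : N2140 = N2139 := eqes L50081 L11172
theorem L50083 : N2140 = N2139 := eqc rfl L50082 rfl
theorem L50084 : N2141 = N2139 := L50000.trans L50083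
theorem L50104 : sm gg N2139 = N1653 := trfs L50083 L21850 L50073
theorem L50105 : N1653 = N4019 := eqes L50104 L21840
theorem L50106 : N4019 = N1653 := (eqc rfl L50105 rfl).symm
theorem L50116 : sm gd N1653 = N7018 := trfs L50106 L38722 rfl
theorem L50117 : N7018 = N3219 := eqes L50116 L17032
theorem L50118 : N7018 = N3219 := eqc rfl L50117 rfl
theorem L50125 : sm gg N1653 = N2139 := trfs L50106 L21841 rfl
theorem L50126 : sm gg N2139 = N1653 := flp_g L50125
theorem L50142 : sm gg N3219 = N4025 := trfs L50118 L38724 rfl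
theorem L50143 : N4025 = N5860 := eqes L50142 L32051
theorem L50144 : N5860 = N4025 := (eqc rfl L50143 rfl).symm
theorem L50145 : sm gb N4025 = N3225 := trfs L50144 L32053 rfl
theorem L50146 : N3225 = N6334 := eqes L50145 L34508
theorem L50147 : N6334 = N3225 := (eqc rfl L50146 rfl).symm
theorem L50148 : sm gg N4025 = N3219 := trfs L50144 L32052 rfl
theorem L50152 : sm gd N3225 = N1557 := trfs L50147 L34506 L49976
theorem L50153 : N1557 = N5873 := eqes L50152 L32113
theorem L50154 : N5873 = N1557 := (eqc rfl L50153 rfl).symm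
theorem L50155 : sm gd N1557 = N3225 := trfs L50154 L32114 rfl
theorem L50156 : N3225 = N3014 := eqes L50155 L16034
theorem L50157 : N3225 = N3014 := eqc rfl L50156 rfl
theorem L50158 : sm gg N1557 = N3228 := trfs L50154 L32115 rfl
theorem L50159 : N3228 = N3016 := eqes L50158 L16044
theorem L50160 : N3228 = N2138 := eqc rfl L50159 L49995
theorem L50173 : sm gf N2138 = N5878 := trfs L50160 L32132 rfl
theorem L50174 : N5878 = N4015 := eqes L50173 L21828
theorem L50175 : N5878 = N4015 := eqc rfl L50174 rfl
theorem L50176 : sm gd N4015 = N3227 := trfs L50175 L32130 rfl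
theorem L50177 : N3227 = N7009 := eqes L50176 L38651
theorem L50178 : N3227 = N2138 := eqc rfl L50177 L50079
theorem L50191 : sm gg N2138 = N1655 := trfs L50178 L17061 rfl
theorem L50192 : N1655 = N3498 := eqes L50191 L18562
theorem L50193 : N1655 = N1557 := eqc rfl L50192 L49976
theorem L50194 : sm ga N1557 = N3015 := trfs L50193 L16041 rfl
theorem L50195 : N3015 = N819 := eqes L50194 L8030
theorem L50196 : N3015 = N819 := eqc rfl L50195 rfl
theorem L50201 : sm gd N1557 = N3226 := trfs L50193 L17058 rfl
theorem L50202 : N3226 = N3014 := eqes L50201 L16034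
theorem L50203 : N3226 = N3014 := eqc rfl L50202 rfl
theorem L50208 : sm ga N3014 = N5429 := trfs L50203 L29909 rfl
theorem L50209 : N5429 = N1654 := eqes L50208 L16036
theorem L50210 : N5429 = N1654 := eqc rfl L50209 rfl
theorem L50217 : sm ge N3014 = N5869 := trfs L50203 L32100 rfl
theorem L50218 : N5869 = N5426 := eqes L50217 L29894
theorem L50219 : N5869 = N5426 := eqc rfl L50218 rfl
theorem L50226 : sm gd N5426 = N3223 := trfs L50219 L32098 rfl
theorem L50227 : sm gd N3223 = N5426 := flp_d L50226
theorem L50234 : sm gb N1654 = N5856 := trfs L50210 L32040 rfl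
theorem L50235 : N5856 = N3219 := eqes L50234 L17035
theorem L50236 : N5856 = N3219 := eqc rfl L50235 rfl
theorem L50238 : sm ga N3219 = N3219 := trfs L50236 L32037 rfl
theorem L50242 : sm ge N819 = N1557 := trfs L50196 L16039 rfl
theorem L50243 : sm ge N1557 = N819 := flp_e L50242
theorem L50247 : sm gg N819 = N3217 := trfs L50196 L29910 L43299
theorem L50248 : N3217 = N1656 := eqes L50247 L8518
theorem L50249 : N3217 = N1656 := eqc rfl L50248 rfl
theorem L50250 : sm ga N1656 = N2060 := trfs L50249 L21908 L43282
theorem L50251 : N2060 = N3016 := eqes L50250 L16047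
theorem L50252 : N2138 = N2060 := (eqc rfl L50251 L49995).symm
theorem L50258 : sm gd N1656 = N2060 := trfs L50249 L17079 L43316
theorem L50259 : sm gd N2060 = N1656 := flp_d L50258
theorem L50260 : N1656 = N3892 := eqes L50259 L21059
theorem L50261 : N3892 = N1656 := (eqc rfl L50260 rfl).symm
theorem L50262 : sm ge N1656 = N2060 := trfs L50249 L17075 L43316
theorem L50263 : sm ge N2060 = N1656 := flp_e L50262
theorem L50264 : N1656 = N3891 := eqes L50263 L21055
theorem L50265 : N3891 = N1656 := (eqc rfl L50264 rfl).symm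
theorem L50269 : N3016 = N2060 := L49995.trans L50252
theorem L50272 : N2069 = N821 := L43276.trans L43324
theorem L50276 : sm ge N1656 = N2060 := trfs L50265 L21056 rfl
theorem L50277 : sm ge N2060 = N1656 := flp_e L50276
theorem L50280 : sm gg N1656 = N6830 := trfs L50265 L37607 rfl
theorem L50281 : N6830 = N819 := eqes L50280 L8519
theorem L50282 : N6830 = N819 := eqc rfl L50281 rfl
theorem L50283 : sm ga N819 = N3893 := trfs L50282 L37609 rfl
theorem L50284 : N3893 = N1557 := eqes L50283 L8031
theorem L50285 : N3893 = N1557 := eqc rfl L50284 rfl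
theorem L50289 : sm gc N819 = N3910 := trfs L50282 L37613 rfl
theorem L50290 : N3910 = N416 := eqes L50289 L4214
theorem L50291 : N3910 = N416 := eqc rfl L50290 rfl
theorem L50296 : sm gb N416 = N2071 := trfs L50291 L21155 rfl
theorem L50297 : N2071 = N230 := eqes L50296 L2186
theorem L50298 : N2071 = N230 := eqc rfl L50297 rfl
theorem L50308 : sm gd N230 = N2468 := trfs L50298 L13031 rfl
theorem L50309 : N2468 = N117 := eqes L50308 L1192
theorem L50310 : N2468 = N117 := eqc rfl L50309 rfl
theorem L50324 : sm gg N117 = N2465 := trfs L50310 L13028 rfl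
theorem L50325 : N2465 = N112 := eqes L50324 L643
theorem L50326 : N2465 = N112 := eqc rfl L50325 rfl
theorem L50334 : sm ge N112 = N1261 := trfs L50326 L12994 rfl
theorem L50335 : N1261 = N58 := eqes L50334 L613
theorem L50336 : N1261 = N58 := eqc rfl L50335 rfl
theorem L50342 : sm gc N58 = N1123 := trfs L50336 L6453 rfl
theorem L50343 : N1123 = N58 := eqes L50342 L311
theorem L50344 : N1123 = N58 := eqc rfl L50343 rfl
theorem L50363 : sm gg N58 = N922 := trfs L50344 L11605 L40136
theorem L50364 : N922 = N115 := eqes L50363 L626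
theorem L50365 : N922 = N115 := eqc rfl L50364 rfl
theorem L50376 : sm gf N115 = N1856 := trfs L50365 L9541 rfl
theorem L50377 : N1856 = N113 := eqes L50376 L631
theorem L50378 : N1856 = N113 := eqc rfl L50377 rfl
theorem L50391 : sm gg N113 = N1122 := trfs L50378 L45090 rfl
theorem L50392 : N1122 = N57 := eqes L50391 L616
theorem L50393 : N1122 = N57 := eqc rfl L50392 rfl
theorem L50399 : sm gd N57 = N1799 := trfs L50393 L45097 rfl
theorem L50400 : N1799 = N111 := eqes L50399 L604
theorem L50401 : N1799 = N111 := eqc rfl L50400 rfl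
theorem L50416 : sm gg N111 = N1809 := trfs L50401 L9283 rfl
theorem L50417 : N1809 = N220 := eqes L50416 L1149
theorem L50418 : N1809 = N220 := eqc rfl L50417 rfl
theorem L50432 : sm gf N220 = N895 := trfs L50418 L9276 rfl
theorem L50433 : N895 = N232 := eqes L50432 L1202
theorem L50434 : N895 = N226 := eqc rfl L50433 L43237
theorem L50436 : sm gb N226 = N1802 := trfs L50434 L9254 rfl
theorem L50438 : sm gc N226 = N451 := trfs L50434 L4576 rfl
theorem L50439 : N451 = N450 := eqes L50438 L2352
theorem L50440 : N451 = N450 := eqc rfl L50439 rfl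
theorem L50446 : sm gg N226 = N1798 := trfs L50434 L9233 rfl
theorem L50447 : N1798 = N449 := eqes L50446 L2351
theorem L50448 : N1798 = N119 := eqc rfl L50447 L45646
theorem L50453 : sm gc N119 = N891 := trfs L50448 L9230 rfl
theorem L50454 : N891 = N219 := eqes L50453 L1146
theorem L50455 : N891 = N219 := eqc rfl L50454 rfl
theorem L50466 : sm gg N219 = N450 := trfs L50455 L4563 L50440
theorem L50467 : N450 = N234 := eqes L50466 L1217
theorem L50468 : N450 = N234 := eqc rfl L50467 rfl
theorem L50475 : sm gd N234 = N894 := trfs L50468 L4570 rfl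
theorem L50476 : N894 = N468 := eqes L50475 L2429
theorem L50477 : N894 = N459 := eqc rfl L50476 L46630
theorem L50491 : sm gg N459 = N538 := trfs L50477 L9670 rfl
theorem L50492 : N538 = N916 := eqes L50491 L4664
theorem L50493 : N538 = N520 := eqc rfl L50492 L46613
theorem L50501 : sm ge N520 = N1080 := trfs L50493 L5480 rfl
theorem L50502 : N1080 = N1037 := eqes L50501 L5282
theorem L50503 : N1080 = N460 := eqc rfl L50502 L48479
theorem L50511 : sm gc N460 = N539 := trfs L50503 L5483 rfl
theorem L50512 : N539 = N915 := eqes L50511 L4663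
theorem L50513 : N539 = N521 := eqc rfl L50512 L48490
theorem L50518 : sm gb N521 = N1075 := trfs L50513 L5464 rfl
theorem L50519 : N1075 = N1032 := eqes L50518 L5262
theorem L50520 : N1075 = N1032 := eqc rfl L50519 rfl
theorem L50521 : sm gd N521 = N1083 := trfs L50513 L5495 rfl
theorem L50522 : N1083 = N521 := eqes L50521 L2699
theorem L50523 : N1083 = N521 := eqc rfl L50522 rfl
theorem L50536 : sm gf N521 = N2159 := trfs L50523 L11275 rfl
theorem L50537 : N2159 = N262 := eqes L50536 L10084
theorem L50538 : N2159 = N262 := eqc rfl L50537 rfl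
theorem L50552 : sm gg N262 = N2170 := trfs L50538 L11331 rfl
theorem L50553 : N2170 = N523 := eqes L50552 L2704
theorem L50554 : N2170 = N523 := eqc rfl L50553 rfl
theorem L50563 : sm gd N523 = N4064 := trfs L50554 L22110 rfl
theorem L50564 : N4064 = N523 := eqes L50563 L48419
theorem L50565 : N4064 = N523 := eqc rfl L50564 rfl
theorem L50593 : sm gg N523 = N7058 := trfs L50565 L38950 rfl
theorem L50594 : N7058 = N262 := eqes L50593 L2705
theorem L50595 : N7058 = N262 := eqc rfl L50594 rfl
theorem L50600 : sm gd N262 = N6637 := trfs L50595 L38955 rfl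
theorem L50601 : N6637 = N131 := eqes L50600 L1346
theorem L50602 : N6637 = N131 := eqc rfl L50601 rfl
theorem L50610 : sm gf N131 = N3739 := trfs L50602 L36419 rfl
theorem L50611 : N3739 = N131 := eqes L50610 L688
theorem L50612 : N3739 = N131 := eqc rfl L50611 rfl
theorem L50627 : sm gg N131 = N3594 := trfs L50612 L20078 rfl
theorem L50628 : N3594 = N131 := eqes L50627 L48395
theorem L50629 : N3594 = N131 := eqc rfl L50628 rfl
theorem L50643 : sm gf N131 = N3569 := trfs L50629 L19210 rfl
theorem L50644 : N3569 = N131 := eqes L50643 L688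
theorem L50645 : N3569 = N131 := eqc rfl L50644 rfl
theorem L50650 : sm gc N131 = N6426 := trfs L50645 L35078 rfl
theorem L50651 : N6426 = N67 := eqes L50650 L685
theorem L50652 : N6426 = N67 := eqc rfl L50651 rfl
theorem L50653 : sm gd N131 = N544 := trfs L50645 L18978 L49846
theorem L50654 : N544 = N262 := eqes L50653 L1345
theorem L50655 : N544 = N262 := eqc rfl L50654 rfl
theorem L50663 : sm gd N262 = N272 := trfs L50655 L2798 rfl
theorem L50664 : N272 = N131 := eqes L50663 L1346
theorem L50665 : N272 = N131 := eqc rfl L50664 rfl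
theorem L50699 : sm gf N131 = N136 := trfs L50665 L1395 rfl
theorem L50700 : N136 = N131 := eqes L50699 L688
theorem L50701 : N136 = N131 := eqc rfl L50700 rfl
theorem L50709 : sm ge N131 = N271 := trfs L50701 L1388 rfl
theorem L50710 : N271 = N131 := eqes L50709 L687
theorem L50711 : N271 = N131 := eqc rfl L50710 rfl
theorem L50714 : sm gb N131 = N535 := trfs L50711 L2760 rfl
theorem L50715 : N535 = N261 := eqes L50714 L1339
theorem L50716 : N535 = N261 := eqc rfl L50715 rfl
theorem L50723 : sm gd N261 = N1072 := trfs L50716 L5442 rfl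
theorem L50724 : N1072 = N518 := eqes L50723 L2680
theorem L50725 : N1072 = N518 := eqc rfl L50724 rfl
theorem L50733 : sm gc N518 = N1074 := trfs L50725 L11133 L50020
theorem L50734 : N1074 = N1031 := eqes L50733 L5255
theorem L50735 : N1074 = N1031 := eqc rfl L50734 rfl
theorem L50744 : sm gd N1031 = N2139 := trfs L50735 L11172 rfl
theorem L50745 : N2139 = N2061 := eqes L50744 L10731
theorem L50746 : N2139 = N2061 := eqc rfl L50745 rfl
theorem L50747 : N2141 = N2061 := L50084.trans L50746
theorem L50748 : sm gf N1031 = N2061 := trfs L50735 L11178 L50747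
theorem L50749 : N2061 = N2062 := eqes L50748 L10739
theorem L50750 : N2062 = N2061 := (eqc rfl L50749 rfl).symm
theorem L50751 : sm gg N1031 = N2142 := trfs L50735 L11182 rfl
theorem L50752 : N2142 = N2063 := eqes L50751 L10741
theorem L50753 : N2142 = N2063 := eqc rfl L50752 rfl
theorem L50759 : sm gd N2063 = N4025 := trfs L50753 L21864 rfl
theorem L50760 : N4025 = N3900 := eqes L50759 L21094
theorem L50761 : N4025 = N3900 := eqc rfl L50760 rfl
theorem L50779 : sm gg N3900 = N3219 := trfs L50761 L50148 rfl
theorem L50780 : N3219 = N6845 := eqes L50779 L37683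
theorem L50781 : N6845 = N3219 := (eqc rfl L50780 rfl).symm
theorem L50783 : sm gd N3219 = N3897 := trfs L50781 L37680 rfl
theorem L50784 : N3897 = N1653 := eqes L50783 L17033
theorem L50785 : N3897 = N1653 := eqc rfl L50784 rfl
theorem L50786 : sm gg N3219 = N3900 := trfs L50781 L37682 rfl
theorem L50787 : sm gg N3900 = N3219 := flp_g L50786
theorem L50793 : sm gc N1653 = N6839 := trfs L50785 L37653 rfl
theorem L50794 : N6839 = N912 := eqes L50793 L8510
theorem L50795 : N6839 = N912 := eqc rfl L50794 rfl
theorem L50798 : N3220 = N2063 := L49970.trans L50753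
theorem L50800 : sm gf N1653 = N6846 := trfs L50785 L37684 rfl
theorem L50801 : N6846 = N1653 := eqes L50800 L50049
theorem L50802 : N6846 = N1653 := eqc rfl L50801 rfl
theorem L50810 : sm gg N1653 = N6841 := trfs L50802 L37689 rfl
theorem L50811 : N6841 = N2139 := eqes L50810 L50125
theorem L50812 : N6841 = N2061 := eqc rfl L50811 L50746
theorem L50814 : sm ge N2061 = N3896 := trfs L50812 L37662 rfl
theorem L50815 : N3896 = N3895 := eqes L50814 L21074
theorem L50816 : N3896 = N3895 := eqc rfl L50815 rfl
theorem L50820 : sm gb N3895 = N6833 := trfs L50816 L37627 rfl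
theorem L50821 : N6833 = N6832 := eqes L50820 L37623
theorem L50822 : N6833 = N6832 := eqc rfl L50821 rfl
theorem L50826 : sm gd N3895 = N6843 := trfs L50816 L37669 rfl
theorem L50827 : N6843 = N6840 := eqes L50826 L37654
theorem L50828 : N6843 = N6840 := eqc rfl L50827 rfl
theorem L50834 : sm gf N6840 = N3898 := trfs L50828 L37672 rfl
theorem L50839 : sm gf N6832 = N1656 := trfs L50822 L37625 L50261
theorem L50840 : sm gf N1656 = N6832 := flp_f L50839
theorem L50841 : N6832 = N3229 := eqes L50840 L17070
theorem L50842 : N6832 = N2060 := eqc rfl L50841 L43316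
theorem L50843 : sm gb N2060 = N3895 := trfs L50842 L37622 rfl
theorem L50844 : N3895 = N1031 := eqes L50843 L10728
theorem L50845 : N3895 = N1031 := eqc rfl L50844 rfl
theorem L50848 : sm gc N1031 = N6837 := trfs L50845 L37643 rfl
theorem L50849 : N6837 = N518 := eqes L50848 L5256
theorem L50850 : N6837 = N518 := eqc rfl L50849 rfl
theorem L50851 : sm gd N1031 = N6840 := trfs L50845 L37654 rfl
theorem L50852 : N6840 = N2061 := eqes L50851 L10731
theorem L50853 : N6840 = N2061 := eqc rfl L50852 rfl
theorem L50860 : sm ge N2061 = N3898 := trfs L50853 L37657 rfl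
theorem L50861 : sm ge N3898 = N2061 := flp_e L50860
theorem L50862 : sm gf N2061 = N3898 := trfs L50853 L50834 rfl
theorem L50863 : sm gf N3898 = N2061 := flp_f L50862
theorem L50865 : sm ge N518 = N3894 := trfs L50850 L37640 rfl
theorem L50866 : N3894 = N1032 := eqes L50865 L5258
theorem L50867 : N3894 = N1032 := eqc rfl L50866 rfl
theorem L50876 : sm gg N1032 = N912 := trfs L50867 L37649 L50795
theorem L50877 : N912 = N2064 := eqes L50876 L10747
theorem L50878 : N2064 = N912 := (eqc rfl L50877 rfl).symm
theorem L50879 : sm ga N912 = N912 := trfs L50878 L10749 L50878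
theorem L50884 : sm ge N912 = N1034 := trfs L50878 L10752 rfl
theorem L50885 : sm ge N1034 = N912 := flp_e L50884
theorem L50890 : N1840 = N1032 := L50058.trans L50520
theorem L50899 : N5423 = N3900 := L49979.trans L50761
theorem L50904 : sm gc N2061 = N1032 := trfs L50750 L10737 rfl
theorem L50905 : sm gc N1032 = N2061 := flp_c L50904
theorem L50906 : sm gd N2061 = N3898 := trfs L50750 L21083 rfl
theorem L50907 : N3898 = N1031 := eqes L50906 L10732
theorem L50908 : N3898 = N1031 := eqc rfl L50907 rfl
theorem L50923 : sm ge N1031 = N2061 := trfs L50908 L50861 rfl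
theorem L50924 : sm ge N2061 = N1031 := flp_e L50923
theorem L50925 : sm gf N1031 = N2061 := trfs L50908 L50863 rfl
theorem L50926 : sm gf N2061 = N1031 := flp_f L50925
theorem L50947 : sm gg N2061 = N1653 := trfs L50746 L50126 rfl
theorem L50948 : sm gg N1653 = N2061 := flp_g L50947
theorem L50966 : sm gg N67 = N6638 := trfs L50652 L36435 rfl
theorem L50967 : N6638 = N67 := eqes L50966 L48385
theorem L50968 : N6638 = N67 := eqc rfl L50967 rfl
theorem L50975 : sm gf N67 = N3740 := trfs L50968 L36428 rfl
theorem L50976 : N3740 = N67 := eqes L50975 L360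
theorem L50977 : N3740 = N67 := eqc rfl L50976 rfl
theorem L50987 : sm gg N67 = N4049 := trfs L50977 L22014 rfl
theorem L50988 : N4049 = N67 := eqes L50987 L48385
theorem L50989 : N4049 = N67 := eqc rfl L50988 rfl
theorem L50995 : sm gd N67 = N3831 := trfs L50989 L22017 rfl
theorem L50996 : N3831 = N30 := eqes L50995 L356
theorem L50997 : N3831 = N30 := eqc rfl L50996 rfl
theorem L51013 : sm gg N30 = N2011 := trfs L50997 L20659 rfl
theorem L51014 : N2011 = N14 := eqes L51013 L46346
theorem L51015 : N2011 = N14 := eqc rfl L51014 rfl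
theorem L51027 : sm gf N14 = N1113 := trfs L51015 L10453 rfl
theorem L51028 : N1113 = N6 := eqes L51027 L74
theorem L51029 : N1113 = N6 := eqc rfl L51028 rfl
theorem L51038 : sm ge N6 = N2202 := trfs L51029 L11528 rfl
theorem L51039 : N2202 = N13 := eqes L51038 L68
theorem L51040 : N2202 = N13 := eqc rfl L51039 rfl
theorem L51050 : sm gd N13 = N1910 := trfs L51040 L11535 rfl
theorem L51051 : N1910 = N13 := eqes L51050 L72
theorem L51052 : N1910 = N13 := eqc rfl L51051 rfl
theorem L51066 : sm gg N13 = N3660 := trfs L51052 L19608 rfl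
theorem L51067 : N3660 = N13 := eqes L51066 L46326
theorem L51068 : N3660 = N13 := eqc rfl L51067 rfl
theorem L51079 : sm ge N13 = N4115 := trfs L51068 L22384 rfl
theorem L51080 : N4115 = N6 := eqes L51079 L69
theorem L51081 : N4115 = N6 := eqc rfl L51080 rfl
theorem L51091 : sm gf N6 = N3628 := trfs L51081 L22385 rfl
theorem L51092 : N3628 = N14 := eqes L51091 L73
theorem L51093 : N3628 = N14 := eqc rfl L51092 rfl
theorem L51103 : sm gd N14 = N1891 := trfs L51093 L19437 rfl
theorem L51104 : N1891 = N14 := eqes L51103 L77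
theorem L51105 : N1891 = N14 := eqc rfl L51104 rfl
theorem L51115 : sm gg N14 = N978 := trfs L51105 L9781 rfl
theorem L51116 : N978 = N30 := eqes L51115 L46345
theorem L51117 : N978 = N30 := eqc rfl L51116 rfl
theorem L51125 : sm gf N30 = N1962 := trfs L51117 L10185 rfl
theorem L51126 : N1962 = N13 := eqes L51125 L150
theorem L51127 : N1962 = N13 := eqc rfl L51126 rfl
theorem L51133 : sm gd N13 = N3743 := trfs L51127 L20097 rfl
theorem L51134 : N3743 = N13 := eqes L51133 L72
theorem L51135 : N3743 = N13 := eqc rfl L51134 rfl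
theorem L51139 : sm gb N13 = N6632 := trfs L51135 L36391 rfl
theorem L51140 : N6632 = N13 := eqes L51139 L71
theorem L51141 : N6632 = N13 := eqc rfl L51140 rfl
theorem L51150 : sm gf N13 = N3736 := trfs L51141 L36387 rfl
theorem L51151 : N3736 = N30 := eqes L51150 L149
theorem L51152 : N3736 = N30 := eqc rfl L51151 rfl
theorem L51163 : sm gg N30 = N2726 := trfs L51152 L20061 rfl
theorem L51164 : N2726 = N14 := eqes L51163 L46346
theorem L51165 : N2726 = N14 := eqc rfl L51164 rfl
theorem L51171 : sm gd N14 = N3830 := trfs L51165 L20649 rfl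
theorem L51172 : N3830 = N14 := eqes L51171 L77
theorem L51173 : N3830 = N14 := eqc rfl L51172 rfl
theorem L51197 : sm gg N14 = N3825 := trfs L51173 L20647 rfl
theorem L51198 : N3825 = N30 := eqes L51197 L46345
theorem L51199 : N3825 = N30 := eqc rfl L51198 rfl
theorem L51215 : sm gf N30 = N2005 := trfs L51199 L20612 rfl
theorem L51216 : N2005 = N13 := eqes L51215 L150
theorem L51217 : N2005 = N13 := eqc rfl L51216 rfl
theorem L51231 : sm gg N13 = N3826 := trfs L51217 L20617 rfl
theorem L51232 : N3826 = N13 := eqes L51231 L46326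
theorem L51233 : N3826 = N13 := eqc rfl L51232 rfl
theorem L51236 : sm gc N13 = N6701 := trfs L51233 L36844 rfl
theorem L51237 : N6701 = N27 := eqes L51236 L138
theorem L51238 : N6701 = N27 := eqc rfl L51237 rfl
theorem L51251 : sm gf N27 = N6703 := trfs L51238 L36857 rfl
theorem L51252 : N6703 = N61 := eqes L51251 L319
theorem L51253 : N6703 = N61 := eqc rfl L51252 rfl
theorem L51256 : sm gb N61 = N3797 := trfs L51253 L36853 rfl
theorem L51257 : N3797 = N101 := eqes L51256 L550
theorem L51258 : N3797 = N101 := eqc rfl L51257 rfl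
theorem L51276 : sm gg N101 = N1990 := trfs L51258 L20448 rfl
theorem L51277 : N1990 = N110 := eqes L51276 L603
theorem L51278 : N1990 = N55 := eqc rfl L51277 L43445
theorem L51294 : sm gf N55 = N992 := trfs L51278 L10338 rfl
theorem L51295 : N992 = N25 := eqes L51294 L295
theorem L51296 : N992 = N25 := eqc rfl L51295 rfl
theorem L51312 : sm gg N25 = N1991 := trfs L51296 L10341 rfl
theorem L51313 : N1991 = N56 := eqes L51312 L299
theorem L51314 : N1991 = N25 := eqc rfl L51313 L40663
theorem L51322 : sm gd N25 = N3798 := trfs L51314 L20453 rfl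
theorem L51323 : N3798 = N54 := eqes L51322 L290
theorem L51324 : N3798 = N54 := eqc rfl L51323 rfl
theorem L51342 : sm gg N54 = N6716 := trfs L51324 L36916 rfl
theorem L51343 : N6716 = N106 := eqes L51342 L574
theorem L51344 : N6716 = N106 := eqc rfl L51343 rfl
theorem L51345 : sm gd N106 = N3792 := trfs L51344 L36914 rfl
theorem L51346 : N3792 = N106 := eqes L51345 L40679
theorem L51347 : N3792 = N106 := eqc rfl L51346 rfl
theorem L51360 : sm gf N106 = N6099 := trfs L51347 L39796 rfl
theorem L51361 : N6099 = N210 := eqes L51360 L1104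
theorem L51362 : N6099 = N210 := eqc rfl L51361 rfl
theorem L51370 : sm gg N210 = N3338 := trfs L51362 L33210 rfl
theorem L51371 : N3338 = N205 := eqes L51370 L1110
theorem L51372 : N3338 = N205 := eqc rfl L51371 rfl
theorem L51388 : sm gf N205 = N1705 := trfs L51372 L17628 rfl
theorem L51389 : N1705 = N104 := eqes L51388 L1075
theorem L51390 : N1705 = N104 := eqc rfl L51389 rfl
theorem L51397 : sm gc N104 = N843 := trfs L51390 L8741 rfl
theorem L51398 : N843 = N201 := eqes L51397 L2007
theorem L51399 : N843 = N201 := eqc rfl L51398 rfl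
theorem L51404 : sm gb N201 = N428 := trfs L51399 L4331 rfl
theorem L51405 : N428 = N201 := eqes L51404 L1058
theorem L51406 : N428 = N201 := eqc rfl L51405 rfl
theorem L51422 : sm gg N201 = N849 := trfs L51406 L4353 rfl
theorem L51423 : N849 = N402 := eqes L51422 L2115
theorem L51424 : N849 = N402 := eqc rfl L51423 rfl
theorem L51429 : sm gc N402 = N1716 := trfs L51424 L8799 rfl
theorem L51430 : N1716 = N206 := eqes L51429 L2118
theorem L51431 : N1716 = N206 := eqc rfl L51430 rfl

end Cfsg.Agent.Helper28.HeA
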